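import Groth.Statements.S2345
import Groth.Agent.Lib.ProjSpace.Dim
import Groth.Agent.Lib.Normalization.InFieldVariety
import Groth.Agent.Lib.Normalization.InFieldGeneric
import Mathlib.RingTheory.AlgebraicIndependent.TranscendenceBasis
import Mathlib.FieldTheory.IntermediateField.Adjoin.Algebra
import Mathlib.AlgebraicGeometry.Morphisms.Proper

set_option autoImplicit false
set_option linter.style.haveILetI false
universe u
open CategoryTheory CategoryTheory.Limits AlgebraicGeometry
attribute [local instance] Curv2.stalkAlgebra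
open EGA2

namespace Groth.Agent.S2345

open Groth.Agent.Lib.Normalization

/-- Transported `stalkClosedPointTo`. -/
noncomputable def closedTo {W : Scheme.{u}} {K : Type u} [Field K] (h : Spec (CommRingCat.of K) ⟶ W)
    (y : ↥W) (hy : h (IsLocalRing.closedPoint K) = y) : W.presheaf.stalk y →+* K :=
  (W.presheaf.stalkSpecializes (specializes_of_eq hy) ≫ Scheme.stalkClosedPointTo h).hom

theorem closedTo_rfl {W : Scheme.{u}} {K : Type u} [Field K] (h : Spec (CommRingCat.of K) ⟶ W) :
    closedTo h _ rfl = (Scheme.stalkClosedPointTo h).hom := by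
  simp [closedTo]

theorem closedTo_germ_top {W : Scheme.{u}} {K : Type u} [Field K] (h : Spec (CommRingCat.of K) ⟶ W)
    (y : ↥W) (hy : h (IsLocalRing.closedPoint K) = y) (s : Γ(W, ⊤)) :
    closedTo h y hy (W.presheaf.germ ⊤ y trivial s) =
      (Scheme.ΓSpecIso (CommRingCat.of K)).hom (h.appTop s) := by
  subst hy
  rw [closedTo_rfl]
  refine (congr($(Scheme.germ_stalkClosedPointTo h ⊤ trivial) s)).trans ?_
  simp only [Iso.trans_hom, Functor.mapIso_hom, Iso.op_hom, eqToIso.hom]
  refine congrArg (Scheme.ΓSpecIso (CommRingCat.of K)).hom ?_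
  exact ConcreteCategory.congr_hom ((Spec (CommRingCat.of K)).presheaf.map_id _) _

theorem closedTo_stalkMap {k : Type u} [Field k] {W : Scheme.{u}} [W.Over (Spec (CommRingCat.of k))]
    {K : Type u} [Field K] [Algebra k K] (h : Spec (CommRingCat.of K) ⟶ W)
    (hk : h ≫ W ↘ Spec (CommRingCat.of k) = Spec.map (CommRingCat.ofHom (algebraMap k K)))
    (y : ↥W) (hy : h (IsLocalRing.closedPoint K) = y) (c : k) :
    closedTo h y hy (algebraMap k (W.presheaf.stalk y) c) = algebraMap k K c := by
  show closedTo h y hy (Curv2.stalkMap k W y c) = _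
  refine (closedTo_germ_top h y hy _).trans ?_
  have e : (W ↘ Spec (CommRingCat.of k)).appTop ≫ h.appTop =
      (Spec.map (CommRingCat.ofHom (algebraMap k K))).appTop := by
    rw [← Scheme.Hom.comp_appTop, hk]
  show (Scheme.ΓSpecIso (CommRingCat.of K)).hom (h.appTop ((W ↘ Spec (CommRingCat.of k)).appTop
    ((Scheme.ΓSpecIso (CommRingCat.of k)).inv c))) = _
  rw [← CommRingCat.comp_apply (W ↘ Spec (CommRingCat.of k)).appTop h.appTop, e]
  have e2 : (Scheme.ΓSpecIso (CommRingCat.of k)).inv ≫
      (Spec.map (CommRingCat.ofHom (algebraMap k K))).appTop ≫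
        (Scheme.ΓSpecIso (CommRingCat.of K)).hom = CommRingCat.ofHom (algebraMap k K) := by
    rw [Scheme.ΓSpecIso_naturality, Iso.inv_hom_id_assoc]
  exact congr($e2 c)

theorem specMap_closedTo {W : Scheme.{u}} {K : Type u} [Field K] (h : Spec (CommRingCat.of K) ⟶ W)
    (y : ↥W) (hy : h (IsLocalRing.closedPoint K) = y) :
    h = Spec.map (CommRingCat.ofHom (closedTo h y hy)) ≫ W.fromSpecStalk y := by
  subst hy
  rw [closedTo_rfl, CommRingCat.ofHom_hom, Scheme.Spec_stalkClosedPointTo_fromSpecStalk]

theorem exists_closedTo_eq {W : Scheme.{u}} {K : Type u} [Field K] (h : Spec (CommRingCat.of K) ⟶ W)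
    (y : ↥W) (hy : h (IsLocalRing.closedPoint K) = y)
    (z : W.presheaf.stalk (h (IsLocalRing.closedPoint K))) (x : K)
    (hz : (Scheme.stalkClosedPointTo h).hom z = x) : ∃ w, closedTo h y hy w = x := by
  subst hy
  exact ⟨z, by rw [closedTo_rfl]; exact hz⟩

theorem genericPoint_eq_of_isIntegral_spec {A K : Type u} [CommRing A] [IsDomain A] [Field K]
    (a : A →+* K) (ha : Function.Injective a) :
    Spec.map (CommRingCat.ofHom a) (IsLocalRing.closedPoint K) =
      genericPoint (Spec (CommRingCat.of A)) := by
  rw [genericPoint_eq_bot_of_affine]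
  apply PrimeSpectrum.ext
  show Ideal.comap a (IsLocalRing.maximalIdeal K) = ⊥
  rw [IsLocalRing.maximalIdeal_eq_bot, ← RingHom.ker_eq_comap_bot]
  exact (RingHom.injective_iff_ker_eq_bot a).1 ha

/-- Functions of an open chart give germs at the image point. -/
theorem exists_germ_eq_of_chart {W : Scheme.{u}} {A K : Type u} [CommRing A] [Field K]
    (c : Spec (CommRingCat.of A) ⟶ W) [IsOpenImmersion c] (g : Spec (CommRingCat.of K) ⟶ W)
    (a : A →+* K) (hg : g = Spec.map (CommRingCat.ofHom a) ≫ c) {y : ↥W}
    (hy : g (IsLocalRing.closedPoint K) = y) (r : A) :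
    ∃ σ : W.presheaf.stalk y, closedTo g y hy σ = a r := by
  subst hy
  subst hg
  rw [closedTo_rfl, Scheme.stalkClosedPointTo_comp]
  let τ := (Spec (CommRingCat.of A)).presheaf.germ ⊤
    (Spec.map (CommRingCat.ofHom a) (IsLocalRing.closedPoint K)) trivial
      ((Scheme.ΓSpecIso (CommRingCat.of A)).inv r)
  obtain ⟨σ, hσ⟩ := (ConcreteCategory.bijective_of_isIso
    (c.stalkMap (Spec.map (CommRingCat.ofHom a) (IsLocalRing.closedPoint K)))).2 τ
  refine ⟨σ, ?_⟩
  show (Scheme.stalkClosedPointTo (Spec.map (CommRingCat.ofHom a))).hom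
    (c.stalkMap _ σ) = _
  rw [hσ]
  refine (congr($(Scheme.germ_stalkClosedPointTo_Spec (CommRingCat.ofHom a))
    ((Scheme.ΓSpecIso (CommRingCat.of A)).inv r))).trans ?_
  simp

theorem ringKrullDim_stalk_projLine (k : Type u) [Field k] (x : ↥(CohB1.ProjSpace 1 k))
    (hx : IsClosed ({x} : Set ↥(CohB1.ProjSpace 1 k))) :
    ringKrullDim ((CohB1.ProjSpace 1 k).presheaf.stalk x) = 1 := by
  have hd : Order.krullDim ↥(CohB1.ProjSpace 1 k) = 1 := by
    rw [← Groth.Agent.Lib.SchTopo.Basic.topologicalKrullDim_eq_krullDim_scheme,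
      Groth.Agent.Lib.ProjSpace.Dim.topologicalKrullDim_projSpace_of_field]
    simp
  have h1 : (Order.coheight x : WithBot ℕ∞) ≤ 1 := (Order.coheight_le_krullDim x).trans hd.le
  have h2 : Order.coheight x ≠ 0 := fun h0 => by
    have hm := Order.coheight_eq_zero.1 h0
    have hxη : x = genericPoint ↥(CohB1.ProjSpace 1 k) :=
      ((hm (genericPoint_specializes x : x ≤ genericPoint ↥(CohB1.ProjSpace 1 k)))
        |> fun h => (Specializes.antisymm h (genericPoint_specializes x)).eq)
    have : Subsingleton ↥(CohB1.ProjSpace 1 k) := by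
      refine ⟨fun y z => ?_⟩
      have hall : ∀ y, y ∈ ({x} : Set ↥(CohB1.ProjSpace 1 k)) := fun y => by
        rw [← hx.closure_eq, hxη, (genericPoint_spec _).def]
        trivial
      rw [Set.mem_singleton_iff.1 (hall y), Set.mem_singleton_iff.1 (hall z)]
    have h0' : Order.krullDim ↥(CohB1.ProjSpace 1 k) ≤ 0 := Order.krullDim_nonpos_of_subsingleton
    rw [hd] at h0'
    exact absurd h0' (by decide)
  rw [ringKrullDim_stalk_eq_coheight]
  have : Order.coheight x = 1 := le_antisymm (by exact_mod_cast h1) (Order.one_le_iff_ne_zero.2 h2)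
  rw [this]; rfl

/-- Let K be a finitely generated field extension of k of transcendence degree one. Then there is an
integral normal algebraic curve X, proper over k, whose function field is isomorphic to K compatibly
with the maps from k. -/
theorem result (k : Type u) [Field k] (K : Type u) [Field K] [Algebra k K]
    (hfg : (⊤ : IntermediateField k K).FG) (htr : Algebra.trdeg k K = 1) :
    ∃ (X : Scheme.{u}) (_ : X.Over (Spec (CommRingCat.of k))) (_ : IsIntegral X), IsProper (X ↘ (Spec (CommRingCat.of k))) ∧ Pi1.IsNormalScheme X ∧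
      (∀ x : X, IsClosed ({x} : Set X) → ringKrullDim (X.presheaf.stalk x) = 1) ∧
      ∃ e : X.presheaf.stalk (genericPoint X) ≃+* K, ∀ c : k, e (algebraMap k (X.presheaf.stalk (genericPoint X)) c) = algebraMap k K c := by
  classical
  obtain ⟨s, hs⟩ := exists_isTranscendenceBasis k K
  have hcard : Cardinal.mk s = 1 := by rw [hs.cardinalMk_eq_trdeg, htr]
  obtain ⟨hsub, ⟨⟨t, ht⟩⟩⟩ := Cardinal.eq_one_iff_unique.1 hcard
  let v : Fin 1 → K := fun _ => t
  have hind : AlgebraicIndependent k v :=
    hs.1.comp (fun _ : Fin 1 => (⟨t, ht⟩ : s)) (Function.injective_of_subsingleton _)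
  let P := CohB1.ProjSpace 1 k
  letI : P.Over (Spec (CommRingCat.of k)) := ⟨CohB1.ProjSpace.toSpec 1 k⟩
  have : IsIntegral P := inferInstance
  have : IsProper (P ↘ Spec (CommRingCat.of k)) :=
    Groth.Agent.Lib.ProjSpace.Basic.isProper_toSpec 1 k
  let a : MvPolynomial (Fin 1) k →+* K := (MvPolynomial.aeval v).toRingHom
  have ha : Function.Injective a := hind
  let c := Groth.Agent.Lib.ProjSpace.Basic.chartι k (0 : Fin (1 + 1))
  let g : Spec (CommRingCat.of K) ⟶ P := Spec.map (CommRingCat.ofHom a) ≫ c
  have hgk : g ≫ P ↘ Spec (CommRingCat.of k) = Spec.map (CommRingCat.ofHom (algebraMap k K)) := by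
    show (Spec.map (CommRingCat.ofHom a) ≫ c) ≫ CohB1.ProjSpace.toSpec 1 k = _
    rw [Category.assoc, Groth.Agent.Lib.ProjSpace.Basic.chartι_toSpec, ← Spec.map_comp,
      ← CommRingCat.ofHom_comp]
    congr 2
    exact RingHom.ext fun r => (MvPolynomial.aeval_C v r)
  have hη : g (IsLocalRing.closedPoint K) = genericPoint P := by
    have h0 : Spec.map (CommRingCat.ofHom a) (IsLocalRing.closedPoint K) =
        genericPoint (Spec (CommRingCat.of (MvPolynomial (Fin 1) k))) := by
      refine (genericPoint_eq_of_isIntegral_spec a ha).trans ?_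
      rfl
    show c (Spec.map (CommRingCat.ofHom a) (IsLocalRing.closedPoint K)) = _
    rw [h0]
    exact genericPoint_eq_of_isOpenImmersion c
  let φ : P.functionField →+* K := closedTo g (genericPoint P) hη
  have hg := specMap_closedTo g (genericPoint P) hη
  have : QuasiCompact g := inferInstance
  have : QuasiSeparated g := inferInstance
  have hφk : ∀ r : k, φ (algebraMap k (P.presheaf.stalk (genericPoint P)) r) = algebraMap k K r :=
    closedTo_stalkMap g hgk _ hη
  have hφ : φ.Finite := by
    let : Algebra k P.functionField := Curv2.stalkAlgebra k P (genericPoint P)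
    let φ' : P.functionField →ₐ[k] K := { toRingHom := φ, commutes' := hφk }
    let E := φ'.fieldRange
    have htE : t ∈ E := by
      obtain ⟨σ, hσ⟩ := exists_germ_eq_of_chart c g a rfl hη (MvPolynomial.X 0)
      exact ⟨σ, hσ.trans (MvPolynomial.aeval_X v 0)⟩
    have hle : IntermediateField.adjoin k (Set.range v) ≤ E :=
      IntermediateField.adjoin_le_iff.2 (Set.range_subset_iff.2 fun _ => htE)
    have hsb : IsTranscendenceBasis k v :=
      hind.isTranscendenceBasis_of_lift_trdeg_le_of_finite (by rw [htr]; simp)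
    have : Algebra.IsAlgebraic (IntermediateField.adjoin k (Set.range v)) K := hsb.isAlgebraic_field
    have : Algebra.IsAlgebraic E K := by
      letI : Algebra (IntermediateField.adjoin k (Set.range v)) E :=
        (IntermediateField.inclusion hle).toRingHom.toAlgebra
      have : IsScalarTower (IntermediateField.adjoin k (Set.range v)) E K := .of_algebraMap_eq' rfl
      exact Algebra.IsAlgebraic.tower_top (K := IntermediateField.adjoin k (Set.range v)) E
    have : Algebra.EssFiniteType k K := IntermediateField.fg_top_iff.mp hfg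
    have : Algebra.EssFiniteType E K := Algebra.EssFiniteType.of_comp k E K
    have hEfin : (algebraMap E K).Finite :=
      RingHom.finite_algebraMap.2 Algebra.finite_of_essFiniteType_of_isAlgebraic
    have : φ = (algebraMap E K).comp φ'.rangeRestrict.toRingHom := rfl
    rw [this]
    exact hEfin.comp (RingHom.Finite.of_surjective _ φ'.rangeRestrict_surjective)
  have := InFieldVariety.isFinite_of_locallyOfFiniteType k P K φ hφ g hg
  letI : g.normalization.Over (Spec (CommRingCat.of k)) :=
    ⟨g.fromNormalization ≫ P ↘ Spec (CommRingCat.of k)⟩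
  have hint : IsIntegral g.normalization := InField.isIntegral_normalization g
  refine ⟨g.normalization, inferInstance, hint,
    (inferInstance : IsProper (g.fromNormalization ≫ P ↘ Spec (CommRingCat.of k))),
    InField.isNormalScheme φ g hg, fun x hx => ?_, ?_⟩
  · refine InField.ringKrullDim_stalk_eq_one φ g hg x (ringKrullDim_stalk_projLine k _ ?_)
    have := g.fromNormalization.isClosedMap _ hx
    rwa [Set.image_singleton] at this
  · have hy := InFieldGeneric.toNormalization_eq_genericPoint φ g hg (IsLocalRing.closedPoint K)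
    refine ⟨RingEquiv.ofBijective (closedTo g.toNormalization _ hy) ⟨?_, ?_⟩, fun r => ?_⟩
    · exact (closedTo g.toNormalization _ hy : g.normalization.functionField →+* K).injective
    · intro x
      letI : Algebra P.functionField K := φ.toAlgebra
      have : Module.Finite P.functionField K := hφ
      obtain ⟨q, hq, hqx⟩ := Algebra.IsIntegral.isIntegral (R := P.functionField) x
      obtain ⟨z, hz⟩ := (InFieldGeneric.range_stalkClosedPointTo φ g hg).ge ⟨q, hq, hqx⟩
      exact exists_closedTo_eq g.toNormalization _ hy z x hz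
    · refine closedTo_stalkMap g.toNormalization ?_ _ hy r
      show g.toNormalization ≫ g.fromNormalization ≫ _ = _
      rw [Scheme.Hom.toNormalization_fromNormalization_assoc, hgk]

end Groth.Agent.S2345
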