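import Groth.Statements.S16611
import Groth.Agent.H87.Loci
-- import your own Groth.Agent.* helpers here

set_option autoImplicit false
open CategoryTheory MonoidalCategory CartesianMonoidalCategory MonObj GrpObj AlgebraicGeometry
universe u
open SGA3x

open Groth.Agent.H87 Groth.Agent.Lib.Tori
namespace Groth.Agent.S16611

/-- Over an arbitrary scheme S, a monomorphism f : T ⟶ T' of S-tori with the same rank function (at
every point of S the geometric fibres of T and T' are split tori of the same rank) is an
isomorphism. -/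
theorem result {S : Scheme.{u}} {T T' : Over S} [GrpObj T] [GrpObj T']
    (hT : Red.IsTorus T) (hT' : Red.IsTorus T') (f : T ⟶ T') [IsMonHom f] [Mono f]
    (hrk : ∀ s : ↥S, ∃ r : ℕ, Red.IsSplitTorusWith (Fin r → ℤ) (Red.geomFibre s T) ∧
      Red.IsSplitTorusWith (Fin r → ℤ) (Red.geomFibre s T')) : IsIso f := by
  let P : MorphismProperty Scheme.{u} := MorphismProperty.isomorphisms Scheme
  have toMT : ∀ {S₀ : Scheme.{u}} {X : Over S₀} [GrpObj X], Red.IsTorus X → SGA3x.IsMultTypeFT X := by
    rintro S₀ X _ ⟨S', g, hg, hs, hc, hl⟩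
    refine ⟨S', g, hg, hs, hc, fun s' => ?_⟩
    obtain ⟨U, hU, r, he⟩ := hl s'
    exact ⟨U, hU, Fin r → ℤ, inferInstance, inferInstance, he⟩
  obtain ⟨U, -, hmem, hU⟩ := Charts.exists_clopen_locus P Loci.hP_iso (toMT hT) (toMT hT') f
  have htop : ∀ s : S, s ∈ U := by
    intro s
    obtain ⟨r, ⟨eT⟩, ⟨eT'⟩⟩ := hrk s
    let k := Red.geomPt s
    let v : Red.DS _ (Fin r → ℤ) ⟶ Red.DS _ (Fin r → ℤ) :=
      (BaseChange.overIso eT.symm).hom ≫ (Over.pullback k).map f ≫ (BaseChange.overIso eT').hom
    have : IsMonHom v := inferInstance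
    have : Mono v := inferInstance
    obtain ⟨φ, U', hx, -, hφ⟩ := HomDS.exists_local_form
      (toMT (Basic.isTorus_DS _ (Fin r → ℤ))) v (IsLocalRing.closedPoint _)
    have hU' : ∀ y, y ∈ U' := fun y => by
      have : Subsingleton ↥(Spec (CommRingCat.of (AlgebraicClosure (S.residueField s)))) :=
        inferInstanceAs (Subsingleton (PrimeSpectrum (AlgebraicClosure (S.residueField s))))
      exact Subsingleton.elim (IsLocalRing.closedPoint _) y ▸ hx
    have hv : v = Red.DSmap _ φ := by
      refine (Category.id_comp v).symm.trans ((hφ _ (Over.homMk (IsOpenImmersion.lift U'.ι (Red.DS _ _).hom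
        (by rw [Scheme.Opens.range_ι]; exact fun y _ => hU' y)) (IsOpenImmersion.lift_fac _ _ _)) _).trans
        (Category.id_comp _))
    have : Mono (Red.DSmap _ φ) := hv ▸ ‹Mono v›
    have hs : Function.Surjective φ := Loci.surjective_of_mono this
    have hb : Function.Bijective φ :=
      ⟨OrzechProperty.injective_of_surjective_endomorphism φ.toIntLinearMap hs, hs⟩
    have hiv : IsIso v := hv ▸ Loci.isIso_DSmap _ hb
    have hk : Charts.Fib P k f := by
      have : IsIso ((Over.pullback k).map f) := by
        have he : (Over.pullback k).map f = (BaseChange.overIso eT.symm).inv ≫ v ≫ (BaseChange.overIso eT').inv := by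
          simp [v]
        rw [he]
        infer_instance
      exact inferInstanceAs (IsIso ((Over.forget _).map ((Over.pullback k).map f)))
    rw [hmem]
    have hpt : k (IsLocalRing.closedPoint _) = s := S.fromSpecResidueField_apply s _
    exact hpt ▸ (Charts.fib_point_iff P k f).mp hk
  have : Surjective U.ι := ⟨fun s => ⟨⟨s, htop s⟩, rfl⟩⟩
  have : IsIso U.ι := by
    rw [show U = ⊤ from TopologicalSpace.Opens.ext (Set.eq_univ_of_forall htop)]
    exact inferInstanceAs (IsIso S.topIso.hom)
  have h1 : Charts.Fib P (𝟙 S) f :=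
    Charts.fib_descend P U.ι (Charts.fib_congr P (Category.comp_id _).symm f hU)
  have h2 : IsIso ((Over.forget S).map f) := (Charts.iff_natIso P Over.pullbackId f).mp h1
  exact isIso_of_reflects_iso f (Over.forget S)

end Groth.Agent.S16611
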