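import Groth.Statements.S7179
import Groth.Agent.H56.AbsFlat
import Mathlib.RingTheory.LocalProperties.Reduced

set_option autoImplicit false
universe u
open FlatMor

namespace Groth.Agent.S7179

open AlgebraicGeometry CategoryTheory Limits in
/-- The source of a weakly étale morphism with reduced target is reduced. -/
theorem result {X Y : Scheme.{u}} (f : X ⟶ Y) [WeaklyEtale f] [IsReduced Y] : IsReduced X := by
  have : ∀ x : X, _root_.IsReduced (X.presheaf.stalk x) := by
    intro x
    obtain ⟨_, ⟨V, hV, rfl⟩, hxV, -⟩ := Y.isBasis_affineOpens.exists_subset_of_mem_open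
      (Set.mem_univ (f x)) isOpen_univ
    obtain ⟨_, ⟨U, hU, rfl⟩, hxU, hUV⟩ := X.isBasis_affineOpens.exists_subset_of_mem_open
      hxV (f ⁻¹ᵁ V).2
    let := (f.appLE V U hUV).hom.toAlgebra
    have := (H56.WeaklyEtale.iff_forall_affineOpens f).mp ‹_› U V hU hV hUV
    have : _root_.IsReduced Γ(X, U) := H56.AbsFlat.isReduced_of_weaklyEtale Γ(Y, V) Γ(X, U)
    let := TopCat.Presheaf.algebra_section_stalk X.presheaf ⟨x, hxU⟩
    have := hU.isLocalization_stalk ⟨x, hxU⟩
    exact isReduced_localizationPreserves (R := Γ(X, U))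
      (hU.primeIdealOf ⟨x, hxU⟩).asIdeal.primeCompl (X.presheaf.stalk x) inferInstance
  exact isReduced_of_isReduced_stalk X

end Groth.Agent.S7179
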