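import Groth.Statements.S6333
import Mathlib.FieldTheory.IntermediateField.Adjoin.Algebra
import Mathlib.RingTheory.AlgebraicIndependent.AlgebraicClosure
import Mathlib.RingTheory.AlgebraicIndependent.TranscendenceBasis
import Mathlib.RingTheory.Localization.Module
import Mathlib.FieldTheory.AlgebraicClosure

set_option autoImplicit false
universe u
open Fields

namespace Groth.Agent.S6333

/-- For a finitely generated field extension K/k, the algebraic closure of k inside K is a finite
extension of k. -/
theorem result {k K : Type u} [Field k] [Field K] [Algebra k K]
    (hfg : (⊤ : IntermediateField k K).FG) :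
    FiniteDimensional k (algebraicClosure k K) := by
  classical
  obtain ⟨s, hs⟩ := hfg
  haveI halg : Algebra.IsAlgebraic (Algebra.adjoin k (s : Set K)) K := by
    rw [← IntermediateField.isAlgebraic_adjoin_iff_top]
    refine ⟨fun x => ?_⟩
    have hx : x ∈ IntermediateField.adjoin k (s : Set K) := hs ▸ IntermediateField.mem_top
    exact isAlgebraic_algebraMap (⟨x, hx⟩ : IntermediateField.adjoin k (s : Set K))
  obtain ⟨t, hts, ht⟩ := exists_isTranscendenceBasis_subset (R := k) (s : Set K)
  haveI := ht.isAlgebraic_field
  haveI : FiniteDimensional (IntermediateField.adjoin k (Set.range ((↑) : t → K))) K := by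
    haveI : Algebra.EssFiniteType (IntermediateField.adjoin k (Set.range ((↑) : t → K))) K := by
      haveI : Algebra.EssFiniteType k K := IntermediateField.fg_top_iff.mp ⟨s, hs⟩
      exact Algebra.EssFiniteType.of_comp k _ K
    exact Algebra.finite_of_essFiniteType_of_isAlgebraic
  set F := IntermediateField.adjoin k (Set.range ((↑) : t → K))
  have hindep : AlgebraicIndependent (algebraicClosure k K) ((↑) : t → K) :=
    ht.1.extendScalars _
  let b := Module.Free.chooseBasis k (algebraicClosure k K)
  have hli : LinearIndependent F fun i => (b i : K) := by
    have h0 : LinearIndependent (Algebra.adjoin k (Set.range ((↑) : t → K)))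
        fun i => (b i : K) := by
      rw [linearIndependent_iff']
      intro w g hg i hi
      have hgi : ∀ j, ∃ P : MvPolynomial t k, MvPolynomial.aeval ((↑) : t → K) P = (g j : K) :=
        fun j => by
          have h := Algebra.adjoin_range_eq_range_aeval k ((↑) : t → K)
          exact (SetLike.ext_iff.mp h (g j : K)).mp (g j).2
      choose P hP using hgi
      have hQ : ∑ j ∈ w, MvPolynomial.C (b j) *
          MvPolynomial.map (algebraMap k (algebraicClosure k K)) (P j) = 0 := by
        refine hindep.eq_zero_of_aeval_eq_zero _ ?_
        rw [map_sum]
        refine (Finset.sum_congr rfl fun j _ => ?_).trans hg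
        rw [map_mul, MvPolynomial.aeval_C, MvPolynomial.aeval_map_algebraMap, hP,
          Subalgebra.smul_def, smul_eq_mul, mul_comm]
        rfl
      have hcoef : ∀ m, ∀ j ∈ w, MvPolynomial.coeff m (P j) = 0 := fun m => by
        have h := congrArg (MvPolynomial.coeff m) hQ
        simp only [MvPolynomial.coeff_sum, MvPolynomial.coeff_C_mul, MvPolynomial.coeff_map,
          MvPolynomial.coeff_zero] at h
        refine linearIndependent_iff'.mp b.linearIndependent w _ ?_
        rw [← h]
        refine Finset.sum_congr rfl fun j _ => ?_
        rw [Algebra.smul_def, mul_comm]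
      have : P i = 0 := MvPolynomial.ext _ _ fun m => by simpa using hcoef m i hi
      exact Subtype.ext (by rw [← hP i, this, map_zero]; rfl)
    open scoped IntermediateField.algebraAdjoinAdjoin in
    exact (LinearIndependent.iff_fractionRing (Algebra.adjoin k (Set.range ((↑) : t → K))) F).mp h0
  haveI := hli.finite
  exact Module.Finite.of_basis b

end Groth.Agent.S6333
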