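import Groth.Statements.S1533
import Groth.Agent.Lib.Curves.PointIdeal

set_option autoImplicit false
universe u
open CategoryTheory CategoryTheory.Limits AlgebraicGeometry
open Curves

namespace Groth.Agent.S1533

/-- Let X be a proper integral one-dimensional scheme over k whose global functions are k, of genus g.
Every invertible module of degree at least 2g is globally generated. -/
theorem result (k : Type u) [Field k] (X : Scheme.{u}) [X.Over (Spec (CommRingCat.of k))]
    [IsProper (X ↘ (Spec (CommRingCat.of k)))] [IsIntegral X] (hdim : topologicalKrullDim X = 1)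
    (h0 : Module.finrank k (Coh.HH X (Coh.structureModule X) 0) = 1)
    (L : X.Modules) (hL : PicF.IsInvertible L) (hdeg : 2 * (Curv2.genus k X : ℤ) ≤ Curv2.deg k X L 1) :
    Curv2.IsGloballyGenerated L := by
  have hd : topologicalKrullDim X ≤ 1 := hdim.le
  rw [Groth.Agent.Lib.Curves.PointIdeal.isGloballyGenerated_iff (k := k) hd hL]
  intro x hx
  have hI := Groth.Agent.Lib.Curves.IdealTwist.mono_incl
    (Groth.Agent.Lib.Curves.PointIdeal.ptI hx) hL
  have hs : genericPoint X ∉ ((Groth.Agent.Lib.Curves.PointIdeal.ptI hx).support : Set X) :=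
    Groth.Agent.Lib.Curves.IdealTwist.genericPoint_not_mem hdim (by
      rw [Groth.Agent.Lib.Curves.PointIdeal.support_ptI]
      exact topologicalKrullDim_zero_of_discreteTopology ({x} : Set X))
  have hg := Groth.Agent.Lib.Curves.IdealTwist.isGood_twist (k := k) hd
    (Groth.Agent.Lib.Curves.PointIdeal.ptI hx) hL
  have he := Groth.Agent.Lib.Curves.IdealTwist.euler_twist_ideal (k := k) hd hs hL
  rw [Groth.Agent.Lib.Curves.Euler.euler_eq hg.vanish,
    Groth.Agent.Lib.Curves.Degree.euler_eq_deg_add hd h0] at he
  have hL0 := Groth.Agent.Lib.Curves.Clifford.hdim_zero_eq_of_deg k hd h0 hL (by omega)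
  rcases subsingleton_or_nontrivial
    (Coh.HH X (CohB1.tensorMod (ClSub.idealMod (Groth.Agent.Lib.Curves.PointIdeal.ptI hx)) L) 1)
    with h | h
  · have e1 : Groth.Agent.Lib.Curves.Euler.hdim k X
        (CohB1.tensorMod (ClSub.idealMod (Groth.Agent.Lib.Curves.PointIdeal.ptI hx)) L) 1 = 0 :=
      Module.finrank_zero_of_subsingleton
    have hpos : 0 < Groth.Agent.Lib.Curves.Euler.hdim k X
        (ClSub.quotMod (Groth.Agent.Lib.Curves.PointIdeal.ptI hx)) 0 := by
      have := (Groth.Agent.Lib.Curves.Finiteness.isGood_of_isCoh (k := k) hd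
        (Groth.Agent.Lib.Curves.IdealTwist.isCoh_quot
          (Groth.Agent.Lib.Curves.PointIdeal.ptI hx))).fin₀
      have hne : Nontrivial
          (Coh.HH X (ClSub.quotMod (Groth.Agent.Lib.Curves.PointIdeal.ptI hx)) 0) := by
        by_contra hc
        rw [not_nontrivial_iff_subsingleton] at hc
        have := Groth.Agent.Lib.Curves.GlobalSections.noetherianSpace_of_proper k X
        have := (Groth.Agent.Lib.Curves.Degree.isTorsion_of_generic
          (Groth.Agent.Lib.Curves.Degree.isTorsion_quotMod hs)).flasque hd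
        have hz := Groth.Agent.Lib.Curves.Positivity.isZero_of_flasque hc
        have hx' : x ∈ CohB1.support (ClSub.quotMod (Groth.Agent.Lib.Curves.PointIdeal.ptI hx)) := by
          rw [Groth.Agent.Lib.ClSub.Quot.support_quotMod,
            Groth.Agent.Lib.Curves.PointIdeal.support_ptI]
          rfl
        exact hx' (Groth.Agent.Lib.Modules.Stalk.isZero_iff_stalk_subsingleton.mp hz x)
      exact Module.finrank_pos
    simp only [Groth.Agent.Lib.Curves.Euler.hdim] at he e1 hpos hL0 ⊢
    omega
  · have hle := Groth.Agent.Lib.Curves.Clifford.hdim_zero_le_genus k hd hL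
      (Groth.Agent.Lib.Curves.IdealTwist.incl (Groth.Agent.Lib.Curves.PointIdeal.ptI hx) L) h
    simp only [Groth.Agent.Lib.Curves.Euler.hdim] at hle hL0 ⊢
    omega

end Groth.Agent.S1533
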