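import Groth.Statements.S6544
import Groth.Agent.Lib.CurveFF.DoubleInvol
import Groth.Agent.Lib.CurveFF.MapOfField
import Groth.Agent.Lib.CurveFF.PencilDim
import Groth.Agent.Lib.CurveFF.AutoMap
import Groth.Agent.Lib.CurveFF.Consts
import Groth.Agent.Lib.CurveFF.LineExist
import Groth.Agent.Lib.CurveFF.Hyp
-- import your own Groth.Agent.* helpers here

set_option autoImplicit false
universe u
open CategoryTheory CategoryTheory.Limits AlgebraicGeometry
open Curves

namespace Groth.Agent.S6544
open Groth.Agent.Lib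
attribute [local instance] Curv2.stalkAlgebra

/-- Let X be a proper curve over the field k (proper, integral, of dimension one) which is smooth and
geometrically irreducible over k, of genus 0. If X has an invertible O_X-module of odd degree, then
X is isomorphic to P^1_k over k. -/
theorem result (k : Type u) [Field k] (X : Scheme.{u}) [X.Over (Spec (CommRingCat.of k))]
    [IsIntegral X] [IsProper (X ↘ (Spec (CommRingCat.of k)))] (hdim : topologicalKrullDim X = 1)
    [Smooth (X ↘ (Spec (CommRingCat.of k)))] [GeometricallyIrreducible (X ↘ (Spec (CommRingCat.of k)))] (hg : Curv2.genus k X = 0)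
    (L : X.Modules) (hL : PicF.IsInvertible L) (hodd : Odd (Curv2.deg k X L 1)) :
    ∃ e : X ≅ CohB1.ProjSpace 1 k, e.hom ≫ CohB1.ProjSpace.toSpec 1 k = X ↘ (Spec (CommRingCat.of k)) := by
  haveI : GeometricallyConnected (X ↘ Spec (CommRingCat.of k)) := ⟨fun K _ y P p q hp => by
    have := GeometricallyIrreducible.geometrically_irreducibleSpace (f := X ↘ Spec (CommRingCat.of k)) y p q hp
    infer_instance⟩
  have h := CurveFF.curveHyp_of_smooth k hdim
  have h0 := CurveFF.finrank_h0_eq_one k X
  have hK := CurveFF.isFunctionField (k := k) h h0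
  rw [CurveFF.genus_eq h h0] at hg
  obtain ⟨R⟩ := CurveFF.LineDiv.nonempty_rep hL
  obtain ⟨m, hm⟩ := hodd
  rw [R.deg_eq h hK] at hm
  obtain ⟨W, hW⟩ := FunFld.Weil.exists_isCanonical hK
  let E : _root_.FunFld.Divisor k X.functionField := R.div h hK + m • W
  have hEd : E.deg = 1 := by
    rw [FunFld.Degree.deg_add, FunFld.Degree.deg_smul, FunFld.Weil.deg_canonical hK hW, hg, hm]
    push_cast
    ring
  have hr := FunFld.Riemann.riemann hK E
  rw [hEd, hg] at hr
  obtain ⟨F, a, hF, ha, hEF, hFd⟩ := FunFld.SmallGenus.exists_nonneg hK (E := E) (by omega)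
  have hl : 2 ≤ _root_.FunFld.ell F := by
    rw [← FunFld.Riemann.ell_add_div hK F ha, ← hEF]; omega
  obtain ⟨t, ht, htk⟩ := CurveFF.Pencil.exists_not_mem (V := _root_.FunFld.L F)
    (W := k ∙ (1 : X.functionField)) (by
      rw [finrank_span_singleton (one_ne_zero (α := X.functionField))]
      show 1 < _root_.FunFld.ell F
      omega)
  have htk' : t ∉ Set.range (algebraMap k X.functionField) := by
    rintro ⟨c, rfl⟩
    exact htk (Submodule.mem_span_singleton.2 ⟨c, (Algebra.algebraMap_eq_smul_one c).symm⟩)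
  have htr := FunFld.Bound.transcendental_of_not_mem_range hK htk'
  have hle : FunFld.Degree.poleDiv (k := k) t ≤ F := fun P => by
    rw [FunFld.Degree.poleDiv_apply hK]
    refine max_le ?_ (hF P)
    rcases FunFld.Degree.mem_L_iff_ord.1 ht with h' | h'
    · exact absurd ⟨0, by rw [h', map_zero]⟩ htk'
    · linarith [h' P]
  have h2 := FunFld.Degree.deg_mono hle
  rw [hFd, hEd, FunFld.Degree.deg_poleDiv hK htr] at h2
  haveI := FunFld.Bound.finiteDimensional_adjoin_transcendental hK htr
  have hpos : 0 < Module.finrank (IntermediateField.adjoin k ({t} : Set X.functionField)) X.functionField :=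
    Module.finrank_pos
  have htop := FunFld.Rational.adjoin_eq_top_of_deg_poleDiv hK htr
    (by rw [FunFld.Degree.deg_poleDiv hK htr]; omega)
  -- the isomorphism
  letI : (CohB1.ProjSpace 1 k).Over (Spec (CommRingCat.of k)) := ⟨CohB1.ProjSpace.toSpec 1 k⟩
  haveI : IsProper ((CohB1.ProjSpace 1 k) ↘ Spec (CommRingCat.of k)) :=
    inferInstanceAs (IsProper (CohB1.ProjSpace.toSpec 1 k))
  haveI : Smooth ((CohB1.ProjSpace 1 k) ↘ Spec (CommRingCat.of k)) :=
    inferInstanceAs (Smooth (CohB1.ProjSpace.toSpec 1 k))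
  have hdP : topologicalKrullDim (CohB1.ProjSpace 1 k) = 1 := by
    rw [ProjSpace.Dim.topologicalKrullDim_projSpace 1 k, ringKrullDim_eq_zero_of_field]
    simp
  obtain ⟨f, hf, -, e, hm0, hcoord⟩ := CurveFF.exists_toP1 h htr
  let θ : (CohB1.ProjSpace 1 k).functionField →ₐ[k] X.functionField :=
    { CurveFF.FieldExt.kMap f e with commutes' := CurveFF.AutoMap.kMap_const f hf e }
  have hmU : genericPoint (CohB1.ProjSpace 1 k) ∈ Groth.Agent.H34.SplitP1.U k 0 := by
    have hm' : f (genericPoint X) ∈ Groth.Agent.H34.SplitP1.U k 0 := hm0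
    rwa [e] at hm'
  have hmem : CurveFF.DoubleCover.coord f 0 hm0 ∈ θ.fieldRange :=
    ⟨(CohB1.ProjSpace 1 k).presheaf.germ (Groth.Agent.H34.SplitP1.U k 0) _ hmU
      (Groth.Agent.H34.SplitP1.φ k 0 Polynomial.X), CurveFF.FieldExt.kMap_germ f e _ hmU hm0 _⟩
  have hsurj : Function.Surjective θ := fun z => by
    rw [hcoord] at hmem
    exact IntermediateField.adjoin_simple_le_iff.2 hmem (htop ▸ IntermediateField.mem_top (x := z))
  obtain ⟨i, hi, -⟩ := CurveFF.MapOfField.exists_iso h (CurveFF.curveHyp_of_smooth k hdP)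
    (AlgEquiv.ofBijective θ ⟨θ.injective, hsurj⟩)
  exact ⟨i, hi⟩

end Groth.Agent.S6544
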