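import Groth.Statements.S1544
import Groth.Agent.H2.Rigid.GeomRedAt

set_option autoImplicit false
universe u
open CategoryTheory CategoryTheory.Limits AlgebraicGeometry
attribute [local instance] Curv2.resAlgebra Curv2.stalkAlgebra
open Variety

namespace Groth.Agent.S1544

/-- For an integral scheme over k, geometric reducedness of the scheme is equivalent to geometric
reducedness over k of the function field (the local ring at the generic point), i.e. a separable
extension of k in the sense of commutative algebra. The source states this for varieties;
integrality is what the proof uses. -/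
theorem result (k : Type u) [Field k] (X : Scheme.{u}) [X.Over (Spec (CommRingCat.of k))] [IsIntegral X] :
    GeometricallyReduced (X ↘ (Spec (CommRingCat.of k))) ↔ Algebra.IsGeometricallyReduced k X.functionField := by
  rw [Groth.Agent.H2.Rigid.GeomRedAt.geometricallyReduced_iff k X]
  refine ⟨fun h => (Groth.Agent.H2.Rigid.GeomRedAt.iff_stalk k X _).1 (h (genericPoint X)),
    fun h => Groth.Agent.H2.Rigid.GeomRedAt.of_generic k X fun Z hZ η hη => ?_⟩
  have hZ' : Z = Set.univ := by
    rw [irreducibleComponents_eq_singleton] at hZ
    exact hZ
  subst hZ'
  rw [hη.eq (genericPoint_spec X)]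
  exact (Groth.Agent.H2.Rigid.GeomRedAt.iff_stalk k X _).2 h


end Groth.Agent.S1544
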