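import Groth.Statements.S2102
import Mathlib.AlgebraicGeometry.FunctionField
import Mathlib.RingTheory.IntegralClosure.IntegrallyClosed

set_option autoImplicit false
universe u
open CategoryTheory AlgebraicGeometry
open Mor

namespace Groth.Agent.S2102

open CategoryTheory

/-- The ring of global sections of an integral normal scheme is an integrally closed domain. -/
theorem result (X : Scheme.{u}) [IsIntegral X] (hX : Pi1.IsNormalScheme X) :
    IsIntegrallyClosed (Γ(X, ⊤) : Type u) := by
  rw [isIntegrallyClosed_iff (FractionRing (Γ(X, ⊤) : Type u))]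
  intro z hz
  obtain ⟨a, ⟨b, hb⟩, rfl⟩ := IsLocalization.exists_mk'_eq (nonZeroDivisors (Γ(X, ⊤) : Type u)) z
  have hne : Nonempty (⊤ : X.Opens) := ⟨⟨genericPoint X, trivial⟩⟩
  let ψ : FractionRing (Γ(X, ⊤) : Type u) →+* X.functionField :=
    IsFractionRing.lift (g := (X.germToFunctionField ⊤).hom) (Scheme.germToFunctionField_injective X ⊤)
  have hb0 : b ≠ 0 := nonZeroDivisors.ne_zero hb
  have hbK : (X.germToFunctionField ⊤).hom b ≠ 0 := (map_ne_zero_iff _ (Scheme.germToFunctionField_injective X ⊤)).2 hb0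
  have hψ : ψ (IsLocalization.mk' _ a ⟨b, hb⟩) * (X.germToFunctionField ⊤).hom b = (X.germToFunctionField ⊤).hom a := by
    have := congrArg ψ (IsLocalization.mk'_spec (FractionRing (Γ(X, ⊤) : Type u)) a ⟨b, hb⟩)
    simpa [ψ] using this
  have loc : ∀ x : X, ∃ (U : X.Opens) (_ : x ∈ U) (c : Γ(X, U)),
      (X.presheaf.map (homOfLE (le_top : U ≤ ⊤)).op).hom b * c = (X.presheaf.map (homOfLE (le_top : U ≤ ⊤)).op).hom a := by
    intro x
    obtain ⟨hd, hic⟩ := hX x
    have hint : IsIntegral (X.presheaf.stalk x) (ψ (IsLocalization.mk' _ a ⟨b, hb⟩)) := by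
      refine hz.map_of_comp_eq (X.presheaf.germ ⊤ x trivial).hom ψ ?_
      ext r
      simp [ψ]
      all_goals exact (Scheme.algebraMap_germ_eq_germToFunctionField X (U := ⊤) trivial r)
    obtain ⟨c, hc⟩ := IsIntegrallyClosed.isIntegral_iff.1 hint
    obtain ⟨U, hxU, c, rfl⟩ := X.presheaf.exists_germ_eq c
    refine ⟨U, hxU, c, ?_⟩
    have : Nonempty U := ⟨⟨x, hxU⟩⟩
    refine Scheme.germToFunctionField_injective X U ?_
    change (X.germToFunctionField U).hom (_ * _) = _
    rw [← hc, Scheme.algebraMap_germ_eq_germToFunctionField] at hψ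
    rw [map_mul, mul_comm]
    convert hψ using 1 <;> simp [Scheme.germToFunctionField, TopCat.Presheaf.germ_res_apply]
  choose U hxU c hc using loc
  have hcompat : TopCat.Presheaf.IsCompatible X.presheaf U c := by
    intro x y
    by_cases hne' : Nonempty (U x ⊓ U y : X.Opens)
    · have hmap : ∀ (W : X.Opens), W ≤ ⊤ → Nonempty W → (X.presheaf.map (homOfLE (le_top : W ≤ ⊤)).op).hom b ≠ 0 := fun W hW hn =>
        (map_ne_zero_iff _ (map_injective_of_isIntegral X _)).2 hb0
      refine mul_left_cancel₀ (hmap (U x ⊓ U y) le_top hne') ?_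
      have e1 := congrArg (X.presheaf.map (TopologicalSpace.Opens.infLELeft (U x) (U y)).op).hom (hc x)
      have e2 := congrArg (X.presheaf.map (TopologicalSpace.Opens.infLERight (U x) (U y)).op).hom (hc y)
      simp only [map_mul, ← CommRingCat.comp_apply, ← Functor.map_comp] at e1 e2
      exact e1.trans e2.symm
    · have : (U x ⊓ U y : X.Opens) = ⊥ := by
        ext w; simp only [TopologicalSpace.Opens.coe_bot, Set.mem_empty_iff_false, iff_false]
        exact fun hw => hne' ⟨⟨w, hw⟩⟩
      have hs : Subsingleton Γ(X, U x ⊓ U y) := by rw [this]; infer_instance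
      exact Subsingleton.elim _ _
  have hcov : (⊤ : X.Opens) ≤ iSup U := fun x _ => TopologicalSpace.Opens.mem_iSup.2 ⟨x, hxU x⟩
  obtain ⟨y, hy, -⟩ := TopCat.Sheaf.existsUnique_gluing' X.sheaf U ⊤ (fun x => homOfLE le_top) hcov c hcompat
  refine ⟨y, (IsLocalization.eq_mk'_iff_mul_eq).2 ?_⟩
  refine (map_mul (algebraMap (Γ(X, ⊤) : Type u) (FractionRing (Γ(X, ⊤) : Type u))) y b).symm.trans (congrArg _ ?_)
  refine TopCat.Sheaf.eq_of_locally_eq' X.sheaf U ⊤ (fun x => homOfLE le_top) hcov _ _ fun x => ?_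
  refine Eq.trans ?_ (hc x)
  refine ((X.presheaf.map (homOfLE (le_top : U x ≤ ⊤)).op).hom.map_mul y b).trans ?_
  rw [mul_comm]
  congr 1
  exact hy x

end Groth.Agent.S2102
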