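import Groth.Statements.S9764
import Groth.Agent.H56.GeomDescent

set_option autoImplicit false
universe u
open FlatMor

namespace Groth.Agent.S9764

open AlgebraicGeometry CategoryTheory Limits in
/-- For morphisms of schemes f : X ⟶ Y and g : Y' ⟶ Y, let f' : X' ⟶ Y' be obtained from f by pulling
back along g (a cartesian square with g' : X' ⟶ X). A point y' of Y' has geometrically irreducible
fibre under f' exactly when g y' has geometrically irreducible fibre under f. -/
theorem result {X Y X' Y' : Scheme.{u}} (f : X ⟶ Y) (g : Y' ⟶ Y) (f' : X' ⟶ Y') (g' : X' ⟶ X)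
    (hc : IsPullback g' f' f g) :
    {y' : ↑Y' | GeometricallyIrreducible (f'.fiberToSpecResidueField y')} =
      g ⁻¹' {y : ↑Y | GeometricallyIrreducible (f.fiberToSpecResidueField y)} := by
  ext y'
  have sq := isPullback_fiberToSpecResidueField_of_isPullback hc y'
  simp only [Set.mem_setOf_eq, Set.mem_preimage, GeometricallyIrreducible.eq_geometrically]
  exact ⟨fun h => H56.GeomDescent.geometrically_of_baseChange (IrreducibleSpace ·)
      (fun {A B} q _ hq _ (h : IrreducibleSpace A) => hq.surj.irreducibleSpace q.continuous) _ _ _ _ sq h,
    fun h => MorphismProperty.of_isPullback sq h⟩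

end Groth.Agent.S9764
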