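import Groth.Statements.S0555
import Groth.Agent.Lib.Cyc.DimFormula
import Mathlib.RingTheory.FiniteType
import Mathlib.SetTheory.Cardinal.ENat

set_option autoImplicit false
universe u
open CAlg

namespace Groth.Agent.S0555

/-- In the situation of the dimension formula, if the Noetherian base ring is universally catenary then
equality holds. -/
theorem result (R : Type u) [CommRing R] [IsDomain R]
    (hR : CAlg.IsUniversallyCatenary R) (S : Type u) [CommRing S] [IsDomain S] [Algebra R S]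
    [FaithfulSMul R S] [Algebra.FiniteType R S] (p : Ideal R) [p.IsPrime] (q : Ideal S) [q.IsPrime]
    [q.LiesOver p] :
    (q.height : Cardinal.{u}) + Algebra.trdeg (R ⧸ p) (S ⧸ q) =
      (p.height : Cardinal.{u}) + Algebra.trdeg R S := by
  have := hR.1
  obtain ⟨n, φ, hφ⟩ := Algebra.FiniteType.iff_quotient_mvPolynomial''.mp ‹Algebra.FiniteType R S›
  have : IsNoetherianRing S := Algebra.FiniteType.isNoetherianRing R S
  obtain ⟨tS, htS, htS'⟩ :=
    Groth.Agent.Lib.Cyc.DimFormula.height_ker_add_trdeg_of_injective φ hφ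
  have : FaithfulSMul (R ⧸ p) (S ⧸ q) :=
    (faithfulSMul_iff_algebraMap_injective _ _).mpr
      ((injective_iff_map_eq_zero _).mpr fun x hx => by
        obtain ⟨r, rfl⟩ := Ideal.Quotient.mk_surjective x
        rw [Ideal.Quotient.eq_zero_iff_mem, Ideal.mem_of_liesOver q p]
        exact Ideal.Quotient.eq_zero_iff_mem.mp hx)
  let φq : MvPolynomial (Fin n) R →ₐ[R] S ⧸ q := (Ideal.Quotient.mkₐ R q).comp φ
  obtain ⟨t, ht, ht'⟩ := Groth.Agent.Lib.Cyc.DimFormula.height_ker_add_trdeg p φq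
    (Ideal.Quotient.mk_surjective.comp hφ)
  have hker : RingHom.ker φq = q.comap φ.toRingHom := by
    ext a
    exact Ideal.Quotient.eq_zero_iff_mem
  rw [hker] at ht'
  have hB := Groth.Agent.Lib.Cyc.DimFormula.height_map_add φ.toRingHom hφ q
  have hPn : (RingHom.ker φ).height ≠ ⊤ := Ideal.height_ne_top (RingHom.ker_isPrime φ).ne_top
  have hqn : q.height ≠ ⊤ := Ideal.height_ne_top (Ideal.IsPrime.ne_top ‹_›)
  have hpn : p.height ≠ ⊤ := Ideal.height_ne_top (Ideal.IsPrime.ne_top ‹_›)
  have hQn : (q.comap φ.toRingHom).height ≠ ⊤ :=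
    Ideal.height_ne_top (Ideal.IsPrime.ne_top inferInstance)
  obtain ⟨a, ha⟩ := ENat.ne_top_iff_exists.mp hPn
  obtain ⟨b, hb⟩ := ENat.ne_top_iff_exists.mp hqn
  obtain ⟨c, hc⟩ := ENat.ne_top_iff_exists.mp hpn
  obtain ⟨d, hd⟩ := ENat.ne_top_iff_exists.mp hQn
  rw [← ha] at htS'
  rw [← hd, ← hc] at ht'
  change _ + (RingHom.ker φ).height ≤ _ ∧ (_ → _ → _ + (RingHom.ker φ).height = _) at hB
  rw [← hb, ← ha, ← hd] at hB
  rw [← hb, ← hc, htS, ht]
  have h1 : a + tS = n := by exact_mod_cast htS'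
  have h2 : d + t = c + n := by exact_mod_cast ht'
  have h3 : b + a = d := by
    exact_mod_cast hB.2 inferInstance (hR.2 (MvPolynomial (Fin n) R) inferInstance)
  simp only [Cardinal.ofENat_nat]
  exact_mod_cast (show b + t = c + tS by omega)

end Groth.Agent.S0555
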