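import Groth.Statements.S0385
import Groth.Agent.Lib.Lim.Approx.Rel
import Mathlib.AlgebraicGeometry.ZariskisMainTheorem

set_option autoImplicit false
universe u
open FlatMor

namespace Groth.Agent.S0385

open AlgebraicGeometry CategoryTheory Limits in
set_option backward.isDefEq.respectTransparency false in
set_option maxHeartbeats 1000000 in
/-- Zariski's Main Theorem in its finite-factorization form (Mathlib already has the open immersion into
the integral relative normalization; the content here is replacing integral by finite): a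
quasi-finite separated morphism (locally of finite type, quasi-compact, with finite fibres) to a
quasi-compact quasi-separated scheme is a quasi-compact open immersion followed by a finite
morphism. -/
theorem result {X S : Scheme.{u}} (f : X ⟶ S) [CompactSpace S] [QuasiSeparatedSpace S] [LocallyQuasiFinite f] [LocallyOfFiniteType f] [QuasiCompact f] [IsSeparated f] :
    ∃ (T : Scheme.{u}) (j : X ⟶ T) (π : T ⟶ S), IsOpenImmersion j ∧ QuasiCompact j ∧ IsFinite π ∧ j ≫ π = f := by
  let h := f.fromNormalization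
  let ν := f.toNormalization
  have : CompactSpace X := QuasiCompact.compactSpace_of_compactSpace f
  have : IsAffineHom h := inferInstance
  have : CompactSpace f.normalization := QuasiCompact.compactSpace_of_compactSpace h
  have : QuasiSeparatedSpace f.normalization := quasiSeparatedSpace_of_quasiSeparated h
  obtain ⟨R⟩ := Groth.Agent.Lib.Lim.Approx.Rel.exists_relApprox h
  -- a stage affine over the base
  obtain ⟨i₀⟩ := IsCofiltered.nonempty (C := R.Kᵒᵖ)
  have : IsAffineHom (R.cone.π.app i₀ ≫ R.t.app i₀) := by rw [R.w]; infer_instance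
  obtain ⟨i₁, -, hi₁⟩ := Groth.Agent.Lib.Lim.Eventual.exists_isAffineHom R.t R.isLimit i₀
  -- a stage to which the open subscheme descends
  obtain ⟨i₂, U, hUc, hU⟩ := exists_preimage_eq R.D R.cone R.isLimit ν.opensRange
    (isCompact_range ν.continuous)
  obtain ⟨i, a₁, a₂, -⟩ := IsCofilteredOrEmpty.cone_objs i₁ i₂
  let V : (R.D.obj i).Opens := R.D.map a₂ ⁻¹ᵁ U
  have hV : R.π.app i ⁻¹ᵁ V = ν.opensRange := by
    rw [← hU, ← Scheme.Hom.comp_preimage]
    exact congr($(R.cone.w a₂) ⁻¹ᵁ U)
  have hVc : IsCompact (V : Set (R.D.obj i)) :=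
    QuasiCompact.isCompact_preimage (f := R.D.map a₂) _ U.2 hUc
  let φ : X ≅ (R.π.app i ⁻¹ᵁ V).toScheme := IsOpenImmersion.isoOfRangeEq ν
    (R.π.app i ⁻¹ᵁ V).ι (by rw [Scheme.Opens.range_ι, hV]; rfl)
  have hφ : φ.hom ≫ (R.π.app i ⁻¹ᵁ V).ι = ν := IsOpenImmersion.isoOfRangeEq_hom_fac _ _ _
  let t' : opensDiagram R.D i V ⟶ (Functor.const (Over i)).obj S :=
    { app := fun j => (R.D.map j.hom ⁻¹ᵁ V).ι ≫ R.t.app j.left
      naturality := fun j k b => by
        dsimp [opensDiagram]
        rw [Scheme.Hom.resLE_comp_ι_assoc, Category.comp_id]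
        congr 1
        exact (R.t.naturality b.left).trans (Category.comp_id _) }
  have : ∀ j : Over i, CompactSpace ((opensDiagram R.D i V).obj j) := fun j =>
    isCompact_iff_compactSpace.mp (QuasiCompact.isCompact_preimage (f := R.D.map j.hom) _ V.2 hVc)
  let j₀ : Over i := Over.mk (𝟙 i)
  have hιh : (R.π.app i ⁻¹ᵁ V).ι ≫ h = φ.inv ≫ f := by
    rw [Iso.eq_inv_comp, reassoc_of% hφ]
    exact f.toNormalization_fromNormalization
  have : LocallyOfFiniteType ((𝟙 (opensCone R.D R.cone i V).pt) ≫
      (opensCone R.D R.cone i V).π.app j₀ ≫ t'.app j₀) := by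
    have e : (opensCone R.D R.cone i V).π.app j₀ ≫ t'.app j₀ = φ.inv ≫ f := by
      rw [← hιh]
      dsimp [t', opensCone, opensDiagram, j₀]
      rw [Scheme.Hom.resLE_comp_ι_assoc]
      congr 1
      exact R.w i
    rw [e, Category.id_comp]
    infer_instance
  obtain ⟨j, hj⟩ := Groth.Agent.Lib.Lim.Eventual.exists_isClosedImmersion_comp t'
    (isLimitOpensCone R.D R.cone R.isLimit i V) (𝟙 _) j₀
  rw [Category.id_comp] at hj
  let q : X ⟶ R.D.obj j.left :=
    φ.hom ≫ (opensCone R.D R.cone i V).π.app j ≫ (R.D.map j.hom ⁻¹ᵁ V).ι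
  have hq : q = ν ≫ R.π.app j.left := by
    rw [← hφ, Category.assoc]
    dsimp [q, opensCone]
    congr 1
    exact Scheme.Hom.resLE_comp_ι _ _
  have : IsImmersion q := by
    have : IsClosedImmersion ((opensCone R.D R.cone i V).π.app j) := hj
    infer_instance
  have hqf : q ≫ R.t.app j.left = f := by
    rw [hq, Category.assoc, R.w]
    exact f.toNormalization_fromNormalization
  have : QuasiCompact (q ≫ R.t.app j.left) := by rw [hqf]; infer_instance
  have : IsAffineHom (R.t.app j.left) := hi₁ j.left (j.hom ≫ a₁)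
  have : QuasiCompact q := QuasiCompact.of_comp q (R.t.app j.left)
  let π := q.imageι ≫ R.t.app j.left
  have hπf : q.toImage ≫ π = f := by rw [Scheme.Hom.toImage_imageι_assoc]; exact hqf
  have hint : IsIntegralHom π := by
    refine ⟨fun W hW => ?_⟩
    intro x
    have hD : IsAffineOpen (R.t.app j.left ⁻¹ᵁ W) := hW.preimage _
    obtain ⟨y, rfl⟩ := q.imageι.app_surjective _ hD x
    have hinj := q.toImage_app_injective ⟨_, hD⟩
    -- an integral equation in the normalization
    obtain ⟨P, hP, hP0⟩ := IsIntegralHom.isIntegral_app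
      (R.π.app j.left ≫ R.t.app j.left) (self := by rw [R.w]; infer_instance) W hW
      ((R.π.app j.left).app (R.t.app j.left ⁻¹ᵁ W) y)
    refine ⟨P, hP, hinj ?_⟩
    rw [map_zero]
    rw [Scheme.Hom.comp_app] at hP0
    have key : ∀ {A B : Scheme.{u}} (g : A ⟶ B) (U : B.Opens) (P : Polynomial Γ(S, W))
        (φ : Γ(S, W) ⟶ Γ(B, U)) (z : Γ(B, U)),
        g.app U (P.eval₂ φ.hom z) = P.eval₂ (φ ≫ g.app U).hom (g.app U z) := fun g U P φ z => by
      rw [CommRingCat.hom_comp]
      exact (Polynomial.hom_eval₂ P φ.hom (g.app U).hom z)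
    have h1 : (R.π.app j.left).app _ (P.eval₂ ((R.t.app j.left).app W).hom y) = 0 := by
      rw [key]; exact hP0
    have z₁ : ∀ {A B C : Scheme.{u}} (g : A ⟶ C) (m : A ⟶ B) (p : B ⟶ C) (_ : g = m ≫ p)
        (O : C.Opens) (z : Γ(C, O)), p.app O z = 0 → g.app O z = 0 := by
      intro A B C g m p e O z hz
      subst e
      rw [Scheme.Hom.comp_app, CommRingCat.comp_apply, hz, map_zero]
    have z₂ : ∀ {A B C : Scheme.{u}} (g : A ⟶ C) (m : A ⟶ B) (p : B ⟶ C) (_ : m ≫ p = g)
        (O : C.Opens) (z : Γ(C, O)), g.app O z = 0 → m.app _ (p.app O z) = 0 := by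
      intro A B C g m p e O z hz
      subst e
      rwa [Scheme.Hom.comp_app, CommRingCat.comp_apply] at hz
    have h3 := z₂ q _ _ q.toImage_imageι _ _ (z₁ q ν _ hq _ _ h1)
    rw [key] at h3
    have e : π.app W = (R.t.app j.left).app W ≫ q.imageι.app _ := Scheme.Hom.comp_app _ _ _
    rw [e]
    exact h3
  have : LocallyOfFiniteType π := inferInstance
  refine ⟨_, q.toImage, π, inferInstance, ?_, (IsFinite.iff_isIntegralHom_and_locallyOfFiniteType π).mpr
    ⟨hint, inferInstance⟩, hπf⟩
  have : QuasiCompact (q.toImage ≫ q.imageι) := by rw [q.toImage_imageι]; infer_instance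
  exact QuasiCompact.of_comp q.toImage q.imageι

end Groth.Agent.S0385
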