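import Groth.Statements.S1340
import Mathlib.AlgebraicGeometry.Normalization
import Mathlib.AlgebraicGeometry.Morphisms.Proper
import Mathlib.Topology.Sheaves.SheafCondition.Sites

set_option autoImplicit false
universe u
open FlatMor

namespace Groth.Agent.S1340

open AlgebraicGeometry CategoryTheory Limits TopologicalSpace Opposite

set_option backward.isDefEq.respectTransparency.types false in
theorem isIntegral_app {X S : Scheme.{u}} (f : X ⟶ S) [UniversallyClosed f] {U : S.Opens}
    (hU : IsAffineOpen U) : (f.app U).hom.IsIntegral := by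
  have : IsAffine (U : Scheme.{u}) := hU
  have : UniversallyClosed (f ∣_ U) := IsZariskiLocalAtTarget.restrict ‹_› U
  have h := isIntegral_appTop_of_universallyClosed (f ∣_ U)
  obtain ⟨p, hc⟩ : ∃ p, (f ∣_ U).appTop.hom =
      (X.presheaf.map (eqToHom p).op).hom.comp (f.app (U.ι ''ᵁ ⊤)).hom :=
    ⟨_, congrArg CommRingCat.Hom.hom (morphismRestrict_appTop f U)⟩
  have hb : Function.Bijective (X.presheaf.map (eqToHom p).op).hom :=
    ConcreteCategory.bijective_of_isIso (X.presheaf.map (eqToHom p).op)
  have h' : (f.app (U.ι ''ᵁ ⊤)).hom.IsIntegral := by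
    intro z
    obtain ⟨q, hq, hq'⟩ := h ((X.presheaf.map (eqToHom p).op).hom z)
    refine ⟨q, hq, hb.1 ?_⟩
    rw [map_zero, Polynomial.hom_eval₂]
    rw [hc] at hq'
    exact hq'
  rwa [U.ι_image_top] at h'

theorem bijective_app_basicOpen {X Y : Scheme.{u}} (g : X ⟶ Y) [QuasiCompact g] [QuasiSeparated g]
    {V : Y.Opens} (hV : IsAffineOpen V) (hb : Function.Bijective (g.app V)) (r : Γ(Y, V)) :
    Function.Bijective (g.app (Y.basicOpen r)) := by
  let _ : Algebra Γ(Y, V) Γ(Y, Y.basicOpen r) := (Y.presheaf.map (homOfLE (Y.basicOpen_le r)).op).hom.toAlgebra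
  let _ : Algebra Γ(X, g ⁻¹ᵁ V) Γ(X, g ⁻¹ᵁ Y.basicOpen r) :=
    (X.presheaf.map (homOfLE (g.preimage_mono (Y.basicOpen_le r))).op).hom.toAlgebra
  have h1 : IsLocalization (Submonoid.powers r) Γ(Y, Y.basicOpen r) := hV.isLocalization_basicOpen r
  have h2 : IsLocalization (Submonoid.powers (g.app V r)) Γ(X, g ⁻¹ᵁ Y.basicOpen r) := by
    have key : ∀ (O : X.Opens) (hO : O = X.basicOpen (g.app V r)) (hle : O ≤ g ⁻¹ᵁ V),
        letI := (X.presheaf.map (homOfLE hle).op).hom.toAlgebra
        IsLocalization.Away (g.app V r) Γ(X, O) := by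
      rintro O rfl hle
      exact isLocalization_basicOpen_of_qcqs (g.isCompact_preimage hV.isCompact)
        (g.isQuasiSeparated_preimage hV.isQuasiSeparated) _
    exact key _ (g.preimage_basicOpen r) (g.preimage_mono (Y.basicOpen_le r))
  let e : Γ(Y, V) ≃+* Γ(X, g ⁻¹ᵁ V) := RingEquiv.ofBijective (g.app V).hom hb
  have hM : (Submonoid.powers r).map e.toMonoidHom = Submonoid.powers (g.app V r) :=
    Submonoid.map_powers e.toMonoidHom r
  let E := IsLocalization.ringEquivOfRingEquiv (Γ(Y, Y.basicOpen r)) (Γ(X, g ⁻¹ᵁ Y.basicOpen r)) e hM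
  have : (g.app (Y.basicOpen r)).hom = E.toRingHom := by
    refine IsLocalization.ringHom_ext (Submonoid.powers r) (RingHom.ext fun a => ?_)
    show g.app (Y.basicOpen r) (algebraMap _ _ a) = E (algebraMap _ _ a)
    rw [IsLocalization.ringEquivOfRingEquiv_apply, IsLocalization.map_eq]
    exact congr($(g.naturality (homOfLE (Y.basicOpen_le r)).op) a)
  show Function.Bijective (g.app (Y.basicOpen r)).hom
  rw [this]
  exact E.bijective

open AlgebraicGeometry CategoryTheory Limits in
/-- Stein factorization, universally closed case: let f : X ⟶ S be universally closed and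
quasi-separated, and let X ⟶ X' ⟶ S be its factorization through the normalization X' of S in X.
Then the canonical morphism X ⟶ X' identifies the structure sheaf of X' with the pushforward of the
structure sheaf of X: for every open U of X' the induced map from O_{X'}(U) to the sections of O_X
over the inverse image of U is an isomorphism. (That X ⟶ X' is surjective and universally closed and
that X' ⟶ S is integral are separate facts not restated here.) -/
theorem result {X S : Scheme.{u}} (f : X ⟶ S) [UniversallyClosed f] [QuasiSeparated f]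
    (U : f.normalization.Opens) : IsIso (f.toNormalization.app U) := by
  let g := f.toNormalization
  have hb : ∀ V : S.affineOpens, Function.Bijective (g.app (f.fromNormalization ⁻¹ᵁ V.1)) := by
    intro V
    rw [f.toNormalization_app_preimage V]
    let := (f.app V.1).hom.toAlgebra
    have htop : integralClosure Γ(S, V.1) Γ(X, f ⁻¹ᵁ V.1) = ⊤ := by
      rw [integralClosure_eq_top_iff, ← algebraMap_isIntegral_iff, RingHom.algebraMap_toAlgebra]
      exact isIntegral_app f V.2
    have hv : IsIso (CommRingCat.ofHom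
        (integralClosure Γ(S, V.1) Γ(X, f ⁻¹ᵁ V.1)).val.toRingHom) := by
      rw [ConcreteCategory.isIso_iff_bijective]
      exact ⟨Subtype.val_injective, fun z => ⟨⟨z, htop ▸ Algebra.mem_top⟩, rfl⟩⟩
    exact (ConcreteCategory.isIso_iff_bijective _).mp
      (IsIso.comp_isIso' inferInstance (IsIso.comp_isIso' hv inferInstance))
  let B : (Σ V : S.affineOpens, Γ(f.normalization, f.fromNormalization ⁻¹ᵁ V.1)) →
      f.normalization.Opens := fun p => f.normalization.basicOpen p.2
  have hB : Opens.IsBasis (Set.range B) := by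
    rw [Opens.isBasis_iff_nbhd]
    intro O x hx
    obtain ⟨_, ⟨V, hV, rfl⟩, hxV, -⟩ := S.isBasis_affineOpens.exists_subset_of_mem_open
      (Set.mem_univ (f.fromNormalization x)) isOpen_univ
    obtain ⟨r, hr, hxr⟩ := (hV.preimage f.fromNormalization).exists_basicOpen_le (V := O) ⟨x, hx⟩ hxV
    exact ⟨_, ⟨⟨⟨V, hV⟩, r⟩, rfl⟩, hxr, hr⟩
  let φ : f.normalization.sheaf ⟶ (TopCat.Sheaf.pushforward _ g.base).obj X.sheaf := ⟨g.c⟩
  have hφ : IsIso φ := TopCat.Sheaf.isIso_iff_isIso_basis hB fun p =>
    (ConcreteCategory.isIso_iff_bijective _).mpr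
      (bijective_app_basicOpen g (p.1.2.preimage _) (hb p.1) p.2)
  exact inferInstanceAs (IsIso (((TopCat.Sheaf.forget _ _).map φ).app (op U)))

end Groth.Agent.S1340
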