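import Groth.Statements.S2147
import Groth.Agent.Lib.Lim.Approx.Proper
import Groth.Agent.Lib.Lim.Approx.Image
import Groth.Agent.Lib.Lim.FPDescend
-- import your own Groth.Agent.* helpers here

set_option autoImplicit false
universe u
open CategoryTheory AlgebraicGeometry
open Lim

namespace Groth.Agent.S2147
set_option backward.isDefEq.respectTransparency false
open CategoryTheory.Limits Opposite

/-- Let `f : X → S` be proper with `S` quasi-compact and quasi-separated. Then `f` is a limit of proper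
morphisms `f_i : X_i → S_i` with `S_i` of finite type over `ℤ`: there are cofiltered diagrams of
schemes `X_i`, `S_i` with affine transition morphisms, a natural transformation with proper
components, and limit cones identified with `X` and `S` compatibly with `f`. -/
theorem result {X S : Scheme.{u}} (f : X ⟶ S) [IsProper f] [CompactSpace S]
    [QuasiSeparatedSpace S] :
    ∃ (I : Type u) (_ : SmallCategory I) (_ : IsCofiltered I) (DX DS : I ⥤ Scheme.{u}) (φ : DX ⟶ DS)
      (cX : Limits.Cone DX) (cS : Limits.Cone DS) (_ : Limits.IsLimit cX) (_ : Limits.IsLimit cS)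
      (eX : cX.pt ≅ X) (eS : cS.pt ≅ S),
      (∀ (i j : I) (a : i ⟶ j), IsAffineHom (DX.map a) ∧ IsAffineHom (DS.map a)) ∧
      (∀ i, IsProper (φ.app i) ∧ CompactSpace (DS.obj i) ∧
        LocallyOfFiniteType (Limits.IsTerminal.from specULiftZIsTerminal (DS.obj i))) ∧
      (∀ i, cX.π.app i ≫ φ.app i = eX.hom ≫ f ≫ eS.inv ≫ cS.π.app i) := by
  have : CompactSpace X := QuasiCompact.compactSpace_of_compactSpace f
  obtain ⟨R, -, hπ, hp⟩ := Groth.Agent.Lib.Lim.Approx.Proper.exists_properApprox f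
  obtain ⟨k⟩ := R.ne
  obtain ⟨AS⟩ := Groth.Agent.Lib.Lim.Approx.Main.exists_approx (S := S)
  let t : R.D.obj (op k) ⟶ S := R.t.app (op k)
  have : IsProper t := hp _
  have : LocallyOfFinitePresentation t := R.lfp _
  obtain ⟨a₀, Y₀, f₀, g₀, hY₀, hY₀', hf₀, hsq₀⟩ := Groth.Agent.Lib.Lim.FPDescend.exists_descent
    (c := AS.cone) AS.isLimit t
  have : LocallyOfFiniteType f₀ := inferInstance
  obtain ⟨a₁, φ, hY₁⟩ := Groth.Agent.Lib.Lim.Valuative.isProper_descends AS.D AS.cone AS.isLimit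
    (fun _ _ g => AS.affine g) a₀ inferInstance inferInstance f₀ hY₀ hY₀' inferInstance t g₀ hsq₀
    inferInstance
  let f₁ := pullback.snd f₀ (AS.D.map φ)
  have : IsProper f₁ := hY₁
  have hsq₁ := Groth.Agent.Lib.Lim.FPDescend.move (c := AS.cone) hsq₀ φ
  let DY := Groth.Agent.Lib.Lim.Basic.bcDiagram AS.D f₁
  have : ∀ {i j : Over a₁} (g : i ⟶ j), IsAffineHom (DY.map g) := fun g =>
    Groth.Agent.Lib.Lim.Basic.bcDiagram_map_prop AS.D f₁ @IsAffineHom (fun g => AS.affine g) g
  have : CompactSpace (pullback f₀ (AS.D.map φ) : Scheme.{u}) :=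
    Groth.Agent.Lib.Lim.FPDescend.compactSpace_stage (D := AS.D) f₀ φ
  have : QuasiSeparatedSpace (pullback f₀ (AS.D.map φ) : Scheme.{u}) :=
    Groth.Agent.Lib.Lim.FPDescend.quasiSeparatedSpace_stage (D := AS.D) f₀ φ
  have : ∀ j, QuasiSeparatedSpace (DY.obj j) := fun j =>
    Groth.Agent.Lib.Lim.Basic.quasiSeparatedSpace_bcDiagram AS.D f₁ j
  let cY := Groth.Agent.Lib.Lim.Basic.bcCone hsq₁.w
  let ι : X ⟶ cY.pt := R.π.app (op k)
  have : IsClosedImmersion ι := hπ _
  have hιt : ι ≫ t = f := R.w _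
  obtain ⟨hX⟩ := Groth.Agent.Lib.Lim.Approx.Image.nonempty_isLimit ι
    (Groth.Agent.Lib.Lim.Basic.isLimitBcCone AS.isLimit hsq₁)
  let DS := Over.forget a₁ ⋙ AS.D
  let cS := AS.cone.whisker (Over.forget a₁)
  have hS : IsLimit cS := (Functor.Initial.isLimitWhiskerEquiv (Over.forget a₁) AS.cone).symm AS.isLimit
  let τ : Groth.Agent.Lib.Lim.Approx.Image.diagram ι ⟶ DS :=
    Groth.Agent.Lib.Lim.Approx.Image.incl ι ≫ Groth.Agent.Lib.Lim.Basic.bcSnd AS.D f₁
  refine ⟨Over a₁, inferInstance, inferInstance, Groth.Agent.Lib.Lim.Approx.Image.diagram ι, DS, τ,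
    Groth.Agent.Lib.Lim.Approx.Image.cone ι, cS, hX, hS, Iso.refl _, Iso.refl _,
    fun i j g => ⟨inferInstance, AS.affine _⟩, fun i => ⟨?_, AS.compact _, AS.lft _⟩, fun i => ?_⟩
  · have : IsProper (pullback.snd f₁ (AS.D.map i.hom)) :=
      MorphismProperty.pullback_snd (P := @IsProper) _ _ hY₁
    exact inferInstanceAs (IsProper ((ι ≫ cY.π.app i).imageι ≫ pullback.snd f₁ (AS.D.map i.hom)))
  · show (ι ≫ cY.π.app i).toImage ≫ (ι ≫ cY.π.app i).imageι ≫ pullback.snd f₁ (AS.D.map i.hom) = 𝟙 X ≫ f ≫ 𝟙 S ≫ AS.π.app i.left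
    rw [Category.id_comp, Category.id_comp, ← Category.assoc, Scheme.Hom.toImage_imageι, Category.assoc,
      Groth.Agent.Lib.Lim.Basic.bcCone_π_snd hsq₁.w i]
    exact (Category.assoc _ _ _).symm.trans (congrArg (· ≫ AS.π.app i.left) hιt)

end Groth.Agent.S2147
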