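import Groth.Statements.S14512
import Groth.Agent.Lib.Curves.GenusZero
import Groth.Agent.H2.Rigid.SchDom
import Groth.Agent.H34.Stein.HenselianEtale
-- import your own Groth.Agent.* helpers here

set_option autoImplicit false
universe u
open CategoryTheory CategoryTheory.Limits AlgebraicGeometry
open Curves

namespace Groth.Agent.S14512

/-- Let k be an algebraically closed field and X a complete curve over k (integral, proper over k, of
dimension one) of arithmetic genus dim_k H^1(X, O_X) = 0. Then X is smooth over k. (Over a
non-closed field an integral proper curve with vanishing H^1 need not be smooth, e.g. a projective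
line over an inseparable extension of k viewed over k.) -/
theorem result (k : Type u) [Field k] [IsAlgClosed k] (X : Scheme.{u}) [X.Over (Spec (CommRingCat.of k))]
    [IsIntegral X] [IsProper (X ↘ (Spec (CommRingCat.of k)))] (hdim : topologicalKrullDim X = 1)
    (hg : Curv2.genus k X = 0) :
    Smooth (X ↘ (Spec (CommRingCat.of k))) := by

  haveI : GeometricallyIntegral (X ↘ Spec (CommRingCat.of k)) := by
    let p := X ↘ Spec (CommRingCat.of k)
    let U := p.smoothLocus
    haveI : Nonempty U := ⟨⟨_, p.genericPoint_mem_smoothLocus_of_perfectField⟩⟩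
    haveI : IsLocallyNoetherian X := LocallyOfFiniteType.isLocallyNoetherian p
    haveI : CompactSpace X := QuasiCompact.compactSpace_of_compactSpace p
    haveI : QuasiCompact U.ι := inferInstance
    haveI : Smooth (U.ι ≫ p) := (Scheme.Hom.smoothLocus_eq_top_iff (f := U.ι ≫ p)).mp (by
      rw [← Scheme.Hom.preimage_smoothLocus_eq]
      exact top_le_iff.mp fun z _ => z.2)
    haveI : GeometricallyConnected (U.ι ≫ p) :=
      Groth.Agent.H34.Stein.geometricallyConnected_of_isSepClosed (U.ι ≫ p)
    haveI : GeometricallyIntegral (U.ι ≫ p) :=
      Groth.Agent.H2.Rigid.GeomIrred.geometricallyIntegral_of_smooth _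
    haveI : IsDominant U.ι := ⟨by
      rw [DenseRange, Scheme.Opens.range_ι]
      exact U.2.dense (Set.nonempty_coe_sort.1 ‹Nonempty U›)⟩
    haveI : IsSchemeTheoreticallyDominant U.ι := IsSchemeTheoreticallyDominant.of_isDominant _
    exact Groth.Agent.H2.Rigid.SchDom.geometricallyIntegral p U.ι
  exact Groth.Agent.Lib.Curves.GenusZero.smooth_of_genus_zero hdim hg

end Groth.Agent.S14512
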