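import Groth.Statements.S4991
import Groth.Agent.Lib.JacCrit.SmoothNhd

set_option autoImplicit false
universe u
open CategoryTheory CategoryTheory.Limits AlgebraicGeometry TopologicalSpace
open Unram17

namespace Groth.Agent.S4991

/-- Let Y be locally Noetherian and f : X ⟶ Y locally of finite type, smooth on an open neighbourhood of
a point x with image y. Then the local ring of X at x is regular if and only if the local ring of Y
at y is regular. -/
theorem result {X Y : Scheme.{u}} (f : X ⟶ Y)
    [IsLocallyNoetherian Y] [LocallyOfFiniteType f] (x : ↥X)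
    (hx : ∃ U : X.Opens, x ∈ U ∧ Smooth (U.ι ≫ f)) :
    IsRegularLocalRing ↑(X.presheaf.stalk x) ↔ IsRegularLocalRing ↑(Y.presheaf.stalk (f.base x)) := by
  haveI := Lib.JacCrit.OverField.locallyOfFinitePresentation f
  haveI : IsLocallyNoetherian X := LocallyOfFiniteType.isLocallyNoetherian f
  exact Lib.JacCrit.SmoothLocal.isRegularLocalRing_iff (f.stalkMap x).hom
    (LocallyOfFiniteType.stalkMap f x) (Lib.JacCrit.SmoothNhd.flat_stalkMap f hx)
    (Lib.JacCrit.SmoothNhd.formallySmooth_stalkMap f hx)

end Groth.Agent.S4991
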