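import Groth.Statements.S6337
import Groth.Agent.Lib.Pure.UI
import Groth.Agent.Lib.Pure.ML
import Mathlib.LinearAlgebra.DirectSum.TensorProduct

set_option autoImplicit false
universe u
open CAlg
open Groth.Agent.Lib.Pure

namespace Groth.Agent.S6337

/-- A direct sum of modules is Mittag-Leffler if and only if each summand is Mittag-Leffler. -/
theorem result (R : Type u) [CommRing R] {ι : Type u} (M : ι → Type u)
    [∀ i, AddCommGroup (M i)] [∀ i, Module R (M i)] :
    CAlg.IsMittagLeffler R (DirectSum ι M) ↔ ∀ i, CAlg.IsMittagLeffler R (M i) := by
  classical
  constructor
  · intro h i
    refine ML.of_ui (DirectSum.lof R ι M i) (UI.of_leftInverse (g := DirectSum.component R ι M i) ?_) h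
    ext m
    simp
  · intro h α Q _ _
    rw [injective_iff_map_eq_zero]
    intro x hx
    apply (TensorProduct.directSumLeft R R M (∀ a, Q a)).injective
    rw [map_zero]
    refine DirectSum.ext_component R fun i => ?_
    have key : ∀ y, DirectSum.component R ι _ i (TensorProduct.directSumLeft R R M (∀ a, Q a) y)
        = (DirectSum.component R ι M i).rTensor _ y := by
      intro y
      induction y using TensorProduct.induction_on with
      | zero => simp
      | add a b ha hb => simp only [map_add, ha, hb]
      | tmul m q =>
        induction m using DirectSum.induction_on with
        | zero => simp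
        | add a b ha hb => simp only [TensorProduct.add_tmul, map_add, ha, hb]
        | of j m =>
          rw [← DirectSum.lof_eq_of R, TensorProduct.directSumLeft_tmul_lof]
          by_cases hij : j = i
          · subst hij; simp
          · simp [DirectSum.component.of, hij, Ne.symm hij]
    rw [key, map_zero]
    refine (injective_iff_map_eq_zero _).1 (h i α Q) _ (funext fun a => ?_)
    rw [ML.piRightHom_natural, hx]
    simp

end Groth.Agent.S6337
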