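import Groth.Statements.S0584
import Groth.Agent.Lib.Pure.UI
import Groth.Agent.Lib.Pure.Decomp

set_option autoImplicit false
universe u
open scoped Classical
open CAlg
open Groth.Agent.Lib.Pure

namespace Groth.Agent.S0584

/-- Projectivity of a module is equivalent to the conjunction of three conditions — flatness, the
Mittag-Leffler property, and being an internal direct sum of countably generated submodules. -/
theorem result (R : Type u) [CommRing R] (M : Type u)
    [AddCommGroup M] [Module R M] :
    Module.Projective R M ↔ (Module.Flat R M ∧ CAlg.IsMittagLeffler R M ∧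
      ∃ (ι : Type u) (N : ι → Submodule R M), DirectSum.IsInternal N ∧
        ∀ i, CAlg.IsCountablyGenerated R (N i)) := by
  classical
  constructor
  · intro h
    obtain ⟨ι, N, hN, hc⟩ := Decomp.exists_decomp (R := R) (M := M)
    exact ⟨inferInstance, Decomp.ml_of_projective, ι, N, by convert hN, hc⟩
  · rintro ⟨h1, h2, ι, N, hN, hc⟩
    refine Decomp.projective_of_decomp h2 N ?_ hc
    convert hN

end Groth.Agent.S0584
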