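import Groth.Statements.S1963
import Groth.Agent.H48.EtaleValApp

set_option autoImplicit false
universe u
open EtAlg

namespace Groth.Agent.S1963

/-- Let A be a valuation ring, B an etale A-algebra and m a prime of B lying over the maximal ideal of
A. Then the localization B_m is a valuation ring, the map A -> B_m is injective and local, and the
extension is weakly unramified: every nonzero element of B_m is a unit multiple of the image of an
element of A. -/
theorem result (A B : Type u) [CommRing A] [IsDomain A] [ValuationRing A]
    [CommRing B] [Algebra A B] [Algebra.Etale A B] (m : Ideal B) [m.IsPrime]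
    (hm : m.comap (algebraMap A B) = IsLocalRing.maximalIdeal A) :
    IsDomain (Localization.AtPrime m) ∧ (∀ _ : IsDomain (Localization.AtPrime m), ValuationRing (Localization.AtPrime m)) ∧
    Function.Injective (algebraMap A (Localization.AtPrime m)) ∧ IsLocalHom (algebraMap A (Localization.AtPrime m)) ∧
    ∀ b : Localization.AtPrime m, b ≠ 0 → ∃ (a : A) (u : (Localization.AtPrime m)ˣ),
      b = u * algebraMap A (Localization.AtPrime m) a := by
  have hdom := Groth.Agent.H48.EtaleValApp.isDomain m hm
  have key := Groth.Agent.H48.EtaleValApp.eq_zero_or_eq_mul m hm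
  refine ⟨hdom, fun _ => ?_, ?_, ?_, fun b hb => ?_⟩
  · refine ValuationRing.iff_dvd_total.2 ⟨fun x y => ?_⟩
    rcases key x with rfl | ⟨c, u, -, rfl⟩
    · exact Or.inr (dvd_zero y)
    rcases key y with rfl | ⟨c', u', -, rfl⟩
    · exact Or.inl (dvd_zero _)
    rw [Units.mul_left_dvd, Units.mul_left_dvd, Units.dvd_mul_left, Units.dvd_mul_left]
    exact (ValuationRing.dvd_total c c').imp (map_dvd _) (map_dvd _)
  · have : Module.Flat B (Localization.AtPrime m) := IsLocalization.flat _ m.primeCompl
    have : Module.Flat A (Localization.AtPrime m) := Module.Flat.trans A B _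
    refine (injective_iff_map_eq_zero _).2 fun a ha => by_contra fun ha0 => one_ne_zero (α := Localization.AtPrime m) ?_
    refine (Module.Flat.torsion_eq_bot (R := A) (M := Localization.AtPrime m)).le ?_
    exact ⟨⟨a, mem_nonZeroDivisors_of_ne_zero ha0⟩, by
      show a • (1 : Localization.AtPrime m) = 0
      rw [Algebra.smul_def, mul_one, ha]⟩
  · refine ⟨fun a ha => by_contra fun hu => ?_⟩
    have h1 : algebraMap A B a ∈ m := by rw [← Ideal.mem_comap, hm]; exact hu
    exact (IsLocalization.AtPrime.to_map_mem_maximal_iff (Localization.AtPrime m) m (algebraMap A B a)).2 h1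
      (by rwa [← IsScalarTower.algebraMap_apply])
  · rcases key b with h | ⟨c, u, -, h⟩
    · exact absurd h hb
    · exact ⟨c, u, h⟩

end Groth.Agent.S1963
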