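import Groth.Statements.S0405
import Groth.Agent.Lib.RG.DomainFP
-- import your own Groth.Agent.* helpers here

set_option autoImplicit false
universe u
open FlatMor

namespace Groth.Agent.S0405

/-- Raynaud–Gruson: over a domain R, a finite module over a finite type R-algebra S that is flat over R
is finitely presented as an S-module. -/
theorem result {R S M : Type u} [CommRing R] [IsDomain R] [CommRing S] [Algebra R S] [Algebra.FiniteType R S]
    [AddCommGroup M] [Module S M] [Module R M] [IsScalarTower R S M] [Module.Finite S M] [Module.Flat R M] :
    Module.FinitePresentation S M := by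
  classical
  obtain ⟨n, π, hπ⟩ := Algebra.FiniteType.iff_quotient_mvPolynomial''.1 (inferInstance : Algebra.FiniteType R S)
  let P := MvPolynomial (Fin n) R
  letI : Algebra P S := π.toRingHom.toAlgebra
  haveI : IsScalarTower R P S := IsScalarTower.of_algebraMap_eq' π.comp_algebraMap.symm
  haveI : Module.Finite P S := Module.Finite.of_surjective (Algebra.linearMap P S) hπ
  letI : Module P M := Module.compHom M π.toRingHom
  haveI : IsScalarTower P S M := IsScalarTower.of_algebraMap_smul fun _ _ => rfl
  haveI : IsScalarTower R P M := IsScalarTower.of_algebraMap_smul fun r x => by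
    show π (algebraMap R P r) • x = r • x
    rw [π.commutes, algebraMap_smul]
  haveI : Module.Finite P M := Module.Finite.trans S M
  haveI := Lib.RG.DomainFP.finitePresentation_polynomial (R := R) (n := n) M
  obtain ⟨k, ρ, hρ⟩ := Module.Finite.exists_fin' S M
  haveI : Module.FinitePresentation S (Fin k → S) := Module.finitePresentation_of_projective _ _
  refine Module.finitePresentation_of_surjective ρ hρ ?_
  haveI : Module.Finite P (Fin k → S) := inferInstance
  have h1 : (LinearMap.ker (ρ.restrictScalars P)).FG := Module.FinitePresentation.fg_ker _ hρ
  obtain ⟨T, hT⟩ := h1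
  refine ⟨T, le_antisymm (Submodule.span_le.2 fun t ht => ?_) fun x hx => ?_⟩
  · have h2 : t ∈ LinearMap.ker (ρ.restrictScalars P) := hT ▸ Submodule.subset_span ht
    exact h2
  · have h2 : x ∈ Submodule.span P (T : Set (Fin k → S)) := hT ▸ (show x ∈ LinearMap.ker (ρ.restrictScalars P) from hx)
    exact Submodule.span_subset_span P S _ h2

end Groth.Agent.S0405
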