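import Groth.Statements.S1216
import Groth.Agent.Lib.RG.ValContent
import Groth.Agent.Lib.RG57.HenselML
import Groth.Agent.S0405
-- import your own Groth.Agent.* helpers here

set_option autoImplicit false
universe u
open FlatMor

namespace Groth.Agent.S1216

/-- Let A → B be a local homomorphism of local rings which is essentially of finite type, with A a
valuation ring, and N a finite B-module flat over A. Then every element x of N has a content ideal,
that is a smallest ideal I of A with x ∈ IN, and this ideal is principal. -/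
theorem result {A B : Type u} [CommRing A] [IsDomain A] [ValuationRing A] [CommRing B] [IsLocalRing B] [Algebra A B]
    [IsLocalHom (algebraMap A B)] [Algebra.EssFiniteType A B]
    (N : Type u) [AddCommGroup N] [Module B N] [Module A N] [IsScalarTower A B N] [Module.Finite B N] [Module.Flat A N] (x : N) :
    ∃ I : Ideal A, I.IsPrincipal ∧ x ∈ I • (⊤ : Submodule A N) ∧ ∀ J : Ideal A, x ∈ J • (⊤ : Submodule A N) → I ≤ J := by
  rcases eq_or_ne x 0 with rfl | hx0
  · exact ⟨⊥, inferInstance, zero_mem _, fun J _ => bot_le⟩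
  let S₀ := Algebra.EssFiniteType.subalgebra A B
  obtain ⟨n, π, hπ⟩ := Algebra.FiniteType.iff_quotient_mvPolynomial''.1 (inferInstance : Algebra.FiniteType A S₀)
  let P := MvPolynomial (Fin n) A
  letI : Algebra P B := (S₀.val.comp π).toRingHom.toAlgebra
  haveI : IsScalarTower A P B := IsScalarTower.of_algebraMap_eq fun a => ((S₀.val.comp π).commutes a).symm
  let q : Ideal P := (IsLocalRing.maximalIdeal B).comap (algebraMap P B)
  have hunit : ∀ s, s ∉ q → IsUnit (algebraMap P B s) := fun s hs => by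
    by_contra hu
    exact hs ((IsLocalRing.mem_maximalIdeal _).2 hu)
  haveI : q.LiesOver (IsLocalRing.maximalIdeal A) := ⟨Ideal.ext fun a => by
    show _ ↔ algebraMap P B (algebraMap A P a) ∈ IsLocalRing.maximalIdeal B
    rw [← IsScalarTower.algebraMap_apply, IsLocalRing.mem_maximalIdeal, IsLocalRing.mem_maximalIdeal,
      mem_nonunits_iff, mem_nonunits_iff, isUnit_map_iff]⟩
  have hfracB : ∀ b : B, ∃ s ∉ q, ∃ c, algebraMap P B s * b = algebraMap P B c := fun b => by
    obtain ⟨⟨x, ⟨y, hy⟩⟩, hxy⟩ := IsLocalization.surj (Algebra.EssFiniteType.submonoid A B) b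
    obtain ⟨s, rfl⟩ := hπ y
    obtain ⟨c, rfl⟩ := hπ x
    exact ⟨s, fun hs => (IsLocalRing.mem_maximalIdeal _).1 hs hy, c, (mul_comm _ _).trans hxy⟩
  letI : Module P N := Module.compHom N (algebraMap P B)
  haveI : IsScalarTower P B N := IsScalarTower.of_algebraMap_smul fun _ _ => rfl
  haveI : IsScalarTower A P N := IsScalarTower.of_algebraMap_smul fun a x => by
    rw [← algebraMap_smul B (algebraMap A P a) x, ← IsScalarTower.algebraMap_apply, algebraMap_smul]
  obtain ⟨N₁, hN₁, hloc⟩ := Lib.RG57.HenselML.exists_finite_sub q hunit hfracB N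
  haveI := hN₁
  haveI := hloc
  have htf : ∀ (c : A) (y : N), c ≠ 0 → c • y = 0 → y = 0 := fun c y hc hy =>
    (Module.Flat.torsion_eq_bot (R := A) (M := N)).le ⟨⟨c, mem_nonZeroDivisors_of_ne_zero hc⟩, hy⟩
  haveI : Module.Flat A N₁ := by
    refine Module.Flat.flat_iff_torsion_eq_bot_of_isBezout.2 (le_antisymm (fun y hy => ?_) bot_le)
    obtain ⟨⟨c, hc⟩, hcy⟩ := hy
    exact (Submodule.mem_bot A).2 (Subtype.ext (htf c _ (nonZeroDivisors.ne_zero hc) (congrArg Subtype.val hcy)))
  haveI : Module.FinitePresentation P N₁ := S0405.result (R := A)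
  obtain ⟨⟨n₁, s⟩, hs⟩ := IsLocalizedModule.surj q.primeCompl N₁.subtype x
  change (s : P) • x = N₁.subtype n₁ at hs
  have hsu := hunit s s.2
  have hn₁ : N₁.subtype n₁ ≠ 0 := by
    rw [← hs, ← algebraMap_smul B (s : P) x]
    exact fun h => hx0 (hsu.smul_eq_zero.1 h)
  obtain ⟨a, U, ha, hU, hUm⟩ := Lib.RG.ValContent.exists_div (A := A) (P := P) (N₁ := N₁) (N := N) q N₁.subtype n₁ hn₁
  obtain ⟨b, hb⟩ := hsu
  let y : N := (↑b⁻¹ : B) • U
  have hxy : x = a • y := by
    show x = a • ((↑b⁻¹ : B) • U)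
    rw [smul_comm a (↑b⁻¹ : B) U, ← hU, ← hs, ← algebraMap_smul B (s : P) x, ← hb, smul_smul, Units.inv_mul, one_smul]
  have hym : y ∉ (IsLocalRing.maximalIdeal A) • (⊤ : Submodule A N) := fun hy => hUm (by
    have h : U = (b : B) • y := by rw [smul_smul, Units.mul_inv, one_smul]
    rw [h]
    refine Submodule.smul_induction_on hy (fun c hc z _ => ?_) fun u v hu hv => ?_
    · rw [smul_comm]
      exact Submodule.smul_mem_smul hc trivial
    · rw [smul_add]
      exact add_mem hu hv)
  refine ⟨Ideal.span {a}, ⟨⟨a, rfl⟩⟩, ?_, fun J hJ => ?_⟩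
  · rw [hxy]
    exact Submodule.smul_mem_smul (Ideal.mem_span_singleton_self a) trivial
  rw [Ideal.span_singleton_le_iff_mem]
  obtain ⟨c, hc, x', hx'⟩ : ∃ c ∈ J, ∃ x' : N, x = c • x' := by
    refine Submodule.smul_induction_on (p := fun x => ∃ c ∈ J, ∃ x' : N, x = c • x') hJ
      (fun c hc z _ => ⟨c, hc, z, rfl⟩) fun u v hu hv => ?_
    obtain ⟨c₁, hc₁, u, rfl⟩ := hu
    obtain ⟨c₂, hc₂, v, rfl⟩ := hv
    rcases ValuationRing.dvd_total c₁ c₂ with ⟨d, rfl⟩ | ⟨d, rfl⟩
    · exact ⟨c₁, hc₁, u + d • v, by rw [smul_add, mul_smul]⟩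
    · exact ⟨c₂, hc₂, d • u + v, by rw [smul_add, mul_smul]⟩
  rcases ValuationRing.dvd_total c a with ⟨d, rfl⟩ | ⟨e, rfl⟩
  · exact J.mul_mem_right _ hc
  · have h1 : y = e • x' := sub_eq_zero.1 (htf a _ ha (by rw [smul_sub, ← mul_smul, ← hxy, ← hx', sub_self]))
    have he : IsUnit e := by
      by_contra h
      exact hym (h1 ▸ Submodule.smul_mem_smul ((IsLocalRing.mem_maximalIdeal _).2 h) trivial)
    exact (Ideal.mul_unit_mem_iff_mem J he).1 hc

end Groth.Agent.S1216
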