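import Groth.Statements.S9176
import Groth.Agent.H20.FibreDimSet

set_option autoImplicit false
universe u
open CAlg

namespace Groth.Agent.S9176

/-- For a ring map R → S of finite presentation and n ≥ 0, the set of primes q of S whose fibre
Spec(κ(p) ⊗ S), p = q ∩ R, has local dimension at most n at the point over q is open and
quasi-compact in Spec S. -/
theorem result (R S : Type u) [CommRing R]
    [CommRing S] [Algebra R S] [Algebra.FinitePresentation R S] (n : ℕ) :
    IsOpen {q : PrimeSpectrum S | ∀ Q : PrimeSpectrum ((q.asIdeal.under R).Fiber S),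
        Q.asIdeal.comap (Algebra.TensorProduct.includeRight.toRingHom) = q.asIdeal →
          FlatMor.localDim (PrimeSpectrum ((q.asIdeal.under R).Fiber S)) Q ≤ (n : WithBot ℕ∞)} ∧
      IsCompact {q : PrimeSpectrum S | ∀ Q : PrimeSpectrum ((q.asIdeal.under R).Fiber S),
        Q.asIdeal.comap (Algebra.TensorProduct.includeRight.toRingHom) = q.asIdeal →
          FlatMor.localDim (PrimeSpectrum ((q.asIdeal.under R).Fiber S)) Q ≤ (n : WithBot ℕ∞)} := by
  have hset : {q : PrimeSpectrum S | ∀ Q : PrimeSpectrum ((q.asIdeal.under R).Fiber S),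
        Q.asIdeal.comap (Algebra.TensorProduct.includeRight.toRingHom) = q.asIdeal →
          FlatMor.localDim (PrimeSpectrum ((q.asIdeal.under R).Fiber S)) Q ≤ (n : WithBot ℕ∞)} =
      {q : PrimeSpectrum S | Groth.Agent.H20.FibreDimBC.fdim R S q.asIdeal ≤ n} := by
    ext q
    exact Groth.Agent.H20.FibreDimBC.forall_localDim_le_iff q n
  rw [hset]
  exact ⟨Groth.Agent.H20.FibreDimSet.isOpen_setOf_fdim_le n,
    Groth.Agent.H20.FibreDimSet.isCompact_setOf_fdim_le n⟩

end Groth.Agent.S9176
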