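import Groth.Statements.S5334
import Groth.Agent.Lib.ActSep.FullSet

set_option autoImplicit false
universe u
open CategoryTheory CategoryTheory.Limits MonoidalCategory CartesianMonoidalCategory MonObj GrpObj AlgebraicGeometry
open SGA3

namespace Groth.Agent.S5334

open Groth.Agent.Lib.GrpSch Groth.Agent.Lib.ActSep

/-- Let G be an S-group scheme locally of finite presentation over S such that s ↦ dim G_s is locally
constant on S, acting on an S-scheme X, and let U be an open subscheme of X separated over S. Let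
G⁰·U be the image under the action G ×_S X → X of the set of points whose projection to G lies in
the union G⁰ of the neutral components of the fibres and whose projection to X lies in U. Then G⁰·U
is open in X and the open subscheme it carries is separated over S. -/
theorem result (S : Scheme.{u}) (G X : Over S) [GrpObj G]
    [LocallyOfFinitePresentation G.hom]
    (hdim : IsLocallyConstant (fun s : S => topologicalKrullDim ↥(G.hom.base ⁻¹' {s})))
    (a : AlgGrp.Action G X) (U : X.left.Opens) (hU : IsSeparated (U.ι ≫ X.hom)) :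
    ∃ V : X.left.Opens, (V : Set X.left) =
        a.act.left.base '' {z : ↥(G ⊗ X).left | (fst G X).left.base z ∈ SGA3x.neutralSet G ∧ (snd G X).left.base z ∈ U} ∧
      IsSeparated (V.ι ≫ X.hom) := by
  let A : (G ⊗ X).left.Opens := a.act.left ⁻¹ᵁ U
  let V : X.left.Opens := ⟨{y | genPt G X y ∈ A}, isOpen_setOf_genPt_mem G X (hdim.comp_continuous X.hom.continuous) A⟩
  let Φ := flipPair a
  have hflip : ∀ z, (fst G X).left (Φ.left z) = ι[G].left ((fst G X).left z) := fun z => by
    rw [← Scheme.Hom.comp_apply, ← Scheme.Hom.comp_apply, ← Over.comp_left, ← Over.comp_left,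
      show Φ ≫ fst G X = fst G X ≫ ι[G] by simp [Φ, flipPair, Hom.inv_def]]
  have hflip1 : ∀ z, (snd G X).left (Φ.left z) = a.act.left z := fun z => by
    rw [← Scheme.Hom.comp_apply, ← Over.comp_left, flipPair_snd]
  have hflip2 : ∀ z, a.act.left (Φ.left z) = (snd G X).left z := fun z => by
    rw [← Scheme.Hom.comp_apply, ← Over.comp_left, flipPair_act]
  refine ⟨V, ?_, ?_⟩
  · ext y
    constructor
    · intro hy
      refine ⟨Φ.left (genPt G X y), ⟨?_, ?_⟩, ?_⟩
      · show (fst G X).left (Φ.left (genPt G X y)) ∈ SGA3x.neutralSet G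
        rw [hflip]; exact inv_mem_neutralSet G (fst_genPt_mem G X y)
      · show (snd G X).left (Φ.left (genPt G X y)) ∈ U
        rw [hflip1]; exact hy
      · show a.act.left (Φ.left (genPt G X y)) = y
        rw [hflip2, snd_genPt]
    · rintro ⟨z, ⟨hz1, hz2⟩, rfl⟩
      have h1 : (fst G X).left (Φ.left z) ∈ SGA3x.neutralSet G := by
        rw [hflip]; exact inv_mem_neutralSet G hz1
      have h2 := genPt_specializes G X h1
      rw [hflip1] at h2
      refine h2.mem_open A.2 ?_
      show a.act.left (Φ.left z) ∈ U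
      rw [hflip2]
      exact hz2
  -- separatedness
  have hgl : LocallyOfFiniteType G.hom := inferInstance
  let Δ := pullback.diagonal X.hom
  let Y : Over S := X ⊗ X
  let pr : G ⊗ Y ⟶ Y := snd G Y
  let ψ : G ⊗ Y ⟶ Y :=
    lift (lift (fst _ _) (pr ≫ fst X X) ≫ a.act) (lift (fst _ _) (pr ≫ snd X X) ≫ a.act)
  have hd : (lift (𝟙 X) (𝟙 X)).left = Δ := by
    apply pullback.hom_ext
    · exact (congrArg CommaMorphism.left (lift_fst (𝟙 X) (𝟙 X))).trans
        (pullback.diagonal_fst X.hom).symm
    · exact (congrArg CommaMorphism.left (lift_snd (𝟙 X) (𝟙 X))).trans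
        (pullback.diagonal_snd X.hom).symm
  have hmaps : pr.left ⁻¹' Set.range Δ ⊆ ψ.left ⁻¹' Set.range Δ := by
    intro q hq
    let rq := (G ⊗ Y).left.fromSpecResidueField q
    obtain ⟨z, hz⟩ := Criterion.exists_lift_of_isImmersion (rq ≫ pr.left) Δ (by
      rintro _ ⟨v, rfl⟩
      rw [Scheme.Hom.comp_apply, Scheme.fromSpecResidueField_apply]
      exact hq)
    let Tq : Over S := Over.mk (rq ≫ (G ⊗ Y).hom)
    let rq' : Tq ⟶ G ⊗ Y := Over.homMk rq rfl
    have heq : rq' ≫ pr ≫ fst X X = rq' ≫ pr ≫ snd X X := by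
      apply Over.OverMorphism.ext
      show rq ≫ pr.left ≫ pullback.fst X.hom X.hom = rq ≫ pr.left ≫ pullback.snd X.hom X.hom
      rw [← Category.assoc, ← Category.assoc, ← hz, Category.assoc, Category.assoc]
      simp [Δ]
    let w : Tq ⟶ X := lift (rq' ≫ fst _ _) (rq' ≫ pr ≫ fst X X) ≫ a.act
    have hψ : rq' ≫ ψ = w ≫ lift (𝟙 X) (𝟙 X) := by
      ext1
      · simp [ψ, w, comp_lift_assoc]
      · simp [ψ, w, comp_lift_assoc, heq, Y]
    obtain ⟨v⟩ : Nonempty ↥(Spec ((G ⊗ Y).left.residueField q)) := inferInstance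
    refine ⟨w.left v, ?_⟩
    rw [← hd, ← Scheme.Hom.comp_apply, ← Over.comp_left, ← hψ, Over.comp_left]
    show ψ.left (rq v) = ψ.left q
    rw [Scheme.fromSpecResidueField_apply]
  have key : ∀ y : Y.left, y ∈ closure (Set.range Δ) → (fst X X).left y ∈ V → (snd X X).left y ∈ V →
      y ∈ Set.range Δ := by
    intro y hy h1 h2
    have hfull : genPt G Y y ∈ ψ.left ⁻¹' closure (Set.range Δ) := by
      refine closure_minimal ?_ (isClosed_setOf_genPt_mem G Y (hdim.comp_continuous Y.hom.continuous)
        (isClosed_closure.preimage ψ.left.continuous)) hy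
      intro δ hδ
      refine subset_closure (hmaps ?_)
      show pr.left (genPt G Y δ) ∈ Set.range Δ
      rw [show pr.left (genPt G Y δ) = δ from snd_genPt G Y δ]
      exact hδ
    have hside : ∀ p : Y ⟶ X, p.left y ∈ V → a.act.left ((G ◁ p).left (genPt G Y y)) ∈ U := by
      intro p hp
      obtain ⟨c, hc1, hc2⟩ := Scheme.Pullback.exists_preimage_pullback (f := (snd G X).left) (g := p.left)
        (genPt G X (p.left y)) y (snd_genPt G X _)
      let h := isPullback_whiskerLeft G p
      let c' := h.isoPullback.inv c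
      have e1 : (G ◁ p).left c' = genPt G X (p.left y) := by
        rw [← Scheme.Hom.comp_apply, h.isoPullback_inv_fst, hc1]
      have e2 : (snd G Y).left c' = y := by
        rw [← Scheme.Hom.comp_apply, h.isoPullback_inv_snd, hc2]
      have e3 : (fst G Y).left c' ∈ SGA3x.neutralSet G := by
        have := fst_genPt_mem G X (p.left y)
        rwa [← e1, ← Scheme.Hom.comp_apply, ← Over.comp_left, whiskerLeft_fst] at this
      have hsp := genPt_specializes G Y e3
      rw [e2] at hsp
      refine (hsp.map ((G ◁ p).left ≫ a.act.left).continuous).mem_open U.2 ?_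
      rw [Scheme.Hom.comp_apply, e1]
      exact hp
    have hψ : ψ.left (genPt G Y y) ∈ Set.range Δ := by
      refine Criterion.mem_range_diagonal_of_mem_closure X.hom hU hfull ?_ ?_
      · show (fst X X).left (ψ.left (genPt G Y y)) ∈ U
        rw [← Scheme.Hom.comp_apply, ← Over.comp_left,
          show ψ ≫ fst X X = (G ◁ fst X X) ≫ a.act by
            simp only [ψ, pr, lift_fst]; congr 1,
          Over.comp_left, Scheme.Hom.comp_apply]
        exact hside _ h1
      · show (snd X X).left (ψ.left (genPt G Y y)) ∈ U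
        rw [← Scheme.Hom.comp_apply, ← Over.comp_left,
          show ψ ≫ snd X X = (G ◁ snd X X) ≫ a.act by
            simp only [ψ, pr, lift_snd]; congr 1,
          Over.comp_left, Scheme.Hom.comp_apply]
        exact hside _ h2
    let ρ₀ := (G ⊗ Y).left.fromSpecResidueField (genPt G Y y)
    let L : Over S := Over.mk (ρ₀ ≫ (G ⊗ Y).hom)
    let ρ : L ⟶ G ⊗ Y := Over.homMk ρ₀ rfl
    obtain ⟨v⟩ : Nonempty ↥(Spec ((G ⊗ Y).left.residueField (genPt G Y y))) := inferInstance
    obtain ⟨z, hz⟩ := Criterion.exists_lift_of_isImmersion (ρ₀ ≫ ψ.left) Δ (by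
      rintro _ ⟨v, rfl⟩
      rw [Scheme.Hom.comp_apply, Scheme.fromSpecResidueField_apply]
      exact hψ)
    have heq : ρ ≫ ψ ≫ fst X X = ρ ≫ ψ ≫ snd X X := by
      apply Over.OverMorphism.ext
      show ρ₀ ≫ ψ.left ≫ pullback.fst X.hom X.hom = ρ₀ ≫ ψ.left ≫ pullback.snd X.hom X.hom
      rw [← Category.assoc, ← Category.assoc, ← hz, Category.assoc, Category.assoc]
      simp [Δ]
    simp only [ψ, pr, lift_fst, lift_snd, comp_lift_assoc, Category.assoc] at heq
    have hx := act_injective a _ heq
    refine ⟨(ρ ≫ snd G Y ≫ fst X X).left v, ?_⟩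
    have e : (ρ ≫ snd G Y ≫ fst X X) ≫ lift (𝟙 X) (𝟙 X) = ρ ≫ snd G Y := by
      ext1
      · simp [Y]
      · simp [Y] at hx ⊢
        exact hx
    rw [← hd, ← Scheme.Hom.comp_apply, ← Over.comp_left, e, Over.comp_left, Scheme.Hom.comp_apply]
    show (snd G Y).left (ρ₀ v) = y
    rw [Scheme.fromSpecResidueField_apply, snd_genPt]
  -- the diagonal of `V`
  let f := V.ι ≫ X.hom
  refine ⟨IsClosedImmersion.of_isPreimmersion _ (isClosed_of_closure_subset fun y hy => ?_)⟩
  let j := pullback.map f f X.hom X.hom V.ι V.ι (𝟙 S) (by simp [f]) (by simp [f])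
  have hj : pullback.diagonal f ≫ j = V.ι ≫ Δ := by
    apply pullback.hom_ext
    · rw [Category.assoc, Category.assoc]
      erw [pullback.lift_fst, pullback.diagonal_fst]
      rw [pullback.diagonal_fst_assoc, Category.comp_id]
    · rw [Category.assoc, Category.assoc]
      erw [pullback.lift_snd, pullback.diagonal_snd]
      rw [pullback.diagonal_snd_assoc, Category.comp_id]
  have h1 : (fst X X).left (j y) ∈ V := by
    show pullback.fst X.hom X.hom (j y) ∈ V
    rw [← Scheme.Hom.comp_apply]
    simp only [j, pullback.map, pullback.lift_fst, Scheme.Hom.comp_apply]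
    exact (pullback.fst f f y).2
  have h2 : (snd X X).left (j y) ∈ V := by
    show pullback.snd X.hom X.hom (j y) ∈ V
    rw [← Scheme.Hom.comp_apply]
    simp only [j, pullback.map, pullback.lift_snd, Scheme.Hom.comp_apply]
    exact (pullback.snd f f y).2
  obtain ⟨w, hw⟩ := key (j y) (map_mem_closure j.continuous hy (by
    rintro _ ⟨x, rfl⟩
    exact ⟨V.ι x, by rw [← Scheme.Hom.comp_apply, ← hj, Scheme.Hom.comp_apply]⟩)) h1 h2
  have hwV : w ∈ V := by
    have : (fst X X).left (Δ w) ∈ V := by rw [hw]; exact h1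
    rwa [show (fst X X).left (Δ w) = w by
      show pullback.fst X.hom X.hom (Δ w) = w
      rw [← Scheme.Hom.comp_apply, pullback.diagonal_fst]; rfl] at this
  refine ⟨⟨w, hwV⟩, ?_⟩
  have : IsOpenImmersion j := inferInstance
  apply j.isOpenEmbedding.injective
  refine Eq.trans ?_ hw
  exact (Scheme.Hom.comp_apply _ j _).symm.trans
    (congrArg (fun φ : (V : Scheme.{u}) ⟶ pullback X.hom X.hom => φ ⟨w, hwV⟩) hj)

end Groth.Agent.S5334
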