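import Groth.Statements.S3025
import Groth.Agent.Lib.ActSep.NeutralCons
import Groth.Agent.Lib.ActSep.UnivOpen
import Groth.Agent.Lib.GrpSch.Translate
import Groth.Agent.Lib.LimTop.PC
import Groth.Agent.S5334

set_option backward.isDefEq.respectTransparency false
set_option backward.isDefEq.respectTransparency.types false

set_option autoImplicit false
universe u
open CategoryTheory MonoidalCategory CartesianMonoidalCategory MonObj GrpObj AlgebraicGeometry TensorProduct
open SGA3

namespace Groth.Agent.S3025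

/-- Let S be a scheme and G a group scheme over S which is locally of finite presentation and
universally open over S and whose fibres are connected. Then G is separated and quasi-compact (hence
of finite presentation) over S. -/
theorem result (S : Scheme.{u}) (G : Over S) [GrpObj G]
    [LocallyOfFinitePresentation G.hom] [UniversallyOpen G.hom]
    (hconn : ∀ s : S, _root_.IsConnected (G.hom.base ⁻¹' {s})) :
    IsSeparated G.hom ∧ QuasiCompact G.hom := by
  have hall : ∀ g : G.left, g ∈ SGA3x.neutralSet G := fun g => by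
    rw [Groth.Agent.Lib.ActSep.mem_neutralSet_iff,
      ((hconn (G.hom g)).isPreconnected.connectedComponentIn
        (show G.hom (η[G].left (G.hom g)) = G.hom g from Groth.Agent.Lib.ActSep.hom_η G _))]
    rfl
  have hdim : IsLocallyConstant (fun s : S => topologicalKrullDim ↥(G.hom.base ⁻¹' {s})) := by
    refine (IsLocallyConstant.iff_eventually_eq _).2 fun s => ?_
    obtain ⟨U, hU, hc⟩ := Groth.Agent.Lib.ActSep.exists_dim_nhds G s ⊤ trivial
      fun x _ _ _ Y' g x' _ U hU => (Limits.pullback.snd G.hom g).isOpenMap.image_mem_nhds hU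
    exact Filter.eventually_of_mem hU hc
  refine ⟨?_, quasiCompact_iff_forall_isAffineOpen.2 fun B hB => ?_⟩
  · -- separatedness near every point of the base
    have hloc : ∀ s : S, ∃ A : S.Opens, s ∈ A ∧ IsSeparated (G.hom ∣_ A) := by
      intro s
      obtain ⟨A₁, hA₁, hsA₁, -⟩ := exists_isAffineOpen_mem_and_subset (U := ⊤) (x := s) trivial
      obtain ⟨O, hO, hηO, hOA⟩ := exists_isAffineOpen_mem_and_subset
        (U := G.hom ⁻¹ᵁ A₁) (x := η[G].left s)
        (show G.hom (η[G].left s) ∈ A₁ by rwa [Groth.Agent.Lib.ActSep.hom_η])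
      haveI : IsAffine (O : Scheme.{u}) := hO
      haveI : IsAffine (A₁ : Scheme.{u}) := hA₁
      have hOsep : IsSeparated (O.ι ≫ G.hom) := by
        let f : (O : Scheme.{u}) ⟶ A₁ := IsOpenImmersion.lift A₁.ι (O.ι ≫ G.hom) (by
          rintro _ ⟨z, rfl⟩; rw [Scheme.Opens.range_ι]; exact hOA z.2)
        rw [← (IsOpenImmersion.lift_fac _ _ _ : f ≫ A₁.ι = O.ι ≫ G.hom)]
        infer_instance
      obtain ⟨V, hV, hVsep⟩ := Groth.Agent.S5334.result S G G hdim (Groth.Agent.Lib.GrpSch.regularAction G) O hOsep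
      let A : S.Opens := η[G].left ⁻¹ᵁ O
      refine ⟨A, hηO, ?_⟩
      let O' : G.left.Opens := O ⊓ ι[G].left ⁻¹ᵁ O
      have hsub : G.hom ⁻¹ᵁ A ≤ V := fun g hg => by
        have hη : η[G].left (G.hom g) ∈ O' := ⟨hg, by
          show ι[G].left (η[G].left (G.hom g)) ∈ O
          rw [← Scheme.Hom.comp_apply, ← Over.comp_left, GrpObj.one_inv]
          exact hg⟩
        obtain ⟨z, ⟨-, h1⟩, ⟨h2, -⟩, hz⟩ := Groth.Agent.Lib.ActSep.exists_pair G O' hη (hall g)
        show g ∈ (V : Set G.left)
        rw [hV]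
        refine ⟨(lift (fst G G) (snd G G)⁻¹).left z, ⟨?_, ?_⟩, ?_⟩
        · exact hall _
        · show (snd G G).left ((lift (fst G G) (snd G G)⁻¹).left z) ∈ O
          rw [← Scheme.Hom.comp_apply, ← Over.comp_left, lift_snd, Hom.inv_def, Over.comp_left, Scheme.Hom.comp_apply]
          exact h2.2
        · show μ[G].left ((lift (fst G G) (snd G G)⁻¹).left z) = g
          rw [← Scheme.Hom.comp_apply, ← Over.comp_left, ← Hom.mul_def]
          exact hz
      haveI := hVsep
      have e : (G.hom ∣_ A) ≫ A.ι = G.left.homOfLE hsub ≫ V.ι ≫ G.hom := by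
        rw [morphismRestrict_ι, ← Category.assoc, Scheme.homOfLE_ι]
      haveI : IsSeparated ((G.hom ∣_ A) ≫ A.ι) := by rw [e]; infer_instance
      exact IsSeparated.of_comp (G.hom ∣_ A) A.ι
    choose A hsA hsep using hloc
    exact (IsZariskiLocalAtTarget.iff_of_iSup_eq_top (P := @IsSeparated) A
      (eq_top_iff.2 fun s _ => TopologicalSpace.Opens.mem_iSup.2 ⟨s, hsA s⟩)).2 hsep
  · choose A hA hsA PP hPP ψ hψ hψA P hP himg using Groth.Agent.Lib.ActSep.exists_cover G
    have hcov : ∀ b : B, ∃ c : Γ(S, A b.1), b.1 ∈ S.basicOpen c ∧ S.basicOpen c ≤ B := fun b => by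
      obtain ⟨c, hcB, hbc⟩ := (hA b.1).exists_basicOpen_le (V := B) ⟨b.1, b.2⟩ (hsA b.1)
      exact ⟨c, hbc, hcB⟩
    choose c hbc hcB using hcov
    obtain ⟨σ, hσ⟩ := hB.isCompact.elim_finite_subcover (fun b : B => (S.basicOpen (c b) : Set S))
      (fun b => (S.basicOpen (c b)).2) fun b hb => Set.mem_iUnion.2 ⟨⟨b, hb⟩, hbc _⟩
    have hcpt : ∀ b : B, IsCompact (G.hom ⁻¹ᵁ S.basicOpen (c b) : Set G.left) := fun b => by
      have h1 : IsCompact (G.hom ⁻¹ᵁ A b.1 : Set G.left) := by
        have := (Groth.Agent.Lib.LimTop.PC.IsPC.isCompact (Groth.Agent.Lib.LimTop.PC.IsPC.of_isConstructible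
          (hP b.1))).image (ψ b.1).continuous
        rw [himg b.1] at this
        convert this using 1
        ext g
        exact ⟨fun h => ⟨hall g, h⟩, fun h => h.2⟩
      haveI : IsAffine (A b.1 : Scheme.{u}) := hA b.1
      haveI : CompactSpace ↥(G.hom ⁻¹ᵁ A b.1 : Scheme.{u}) := isCompact_iff_compactSpace.1 h1
      haveI : QuasiCompact (G.hom ∣_ A b.1) :=
        (HasAffineProperty.iff_of_isAffine (P := @QuasiCompact)).2 ‹_›
      have h2 := (G.hom ∣_ A b.1).isCompact_preimage (U := (A b.1).ι ⁻¹ᵁ S.basicOpen (c b))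
        ((A b.1).ι.isOpenEmbedding.isInducing.isCompact_iff.2 (by
          convert ((hA b.1).basicOpen (c b)).isCompact using 1
          ext y
          exact ⟨fun ⟨w, hw, e⟩ => e ▸ hw, fun hy => ⟨⟨y, S.basicOpen_le (c b) hy⟩, hy, rfl⟩⟩))
      have h3 := h2.image (G.hom ⁻¹ᵁ A b.1).ι.continuous
      convert h3 using 1
      ext x
      constructor
      · intro hx
        refine ⟨⟨x, S.basicOpen_le (c b) hx⟩, ?_, rfl⟩
        show ((G.hom ∣_ A b.1) ⟨x, S.basicOpen_le (c b) hx⟩).1 ∈ S.basicOpen (c b)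
        rw [morphismRestrict_base_coe]
        exact hx
      · rintro ⟨w, hw, rfl⟩
        have hw' : ((G.hom ∣_ A b.1) w).1 ∈ S.basicOpen (c b) := hw
        rw [morphismRestrict_base_coe] at hw'
        exact hw'
    convert σ.isCompact_biUnion fun b _ => hcpt b using 1
    ext x
    constructor
    · intro hx
      obtain ⟨b, hb, hxb⟩ := Set.mem_iUnion₂.1 (hσ hx)
      exact Set.mem_iUnion₂.2 ⟨b, hb, hxb⟩
    · intro hx
      obtain ⟨b, hb, hxb⟩ := Set.mem_iUnion₂.1 hx
      exact hcB b hxb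

end Groth.Agent.S3025
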