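import Groth.Statements.S4098
import Groth.Agent.Lib.ActSep.NeutralCons
import Groth.Agent.S15351
import Groth.Agent.S0114
import Groth.Agent.S3025
import Groth.Agent.Lib.SmoothDesc.Scheme
import Groth.Agent.Lib.FreeRes.SubGrp

set_option backward.isDefEq.respectTransparency false
set_option backward.isDefEq.respectTransparency.types false

set_option autoImplicit false
universe u
open CategoryTheory MonoidalCategory CartesianMonoidalCategory MonObj GrpObj AlgebraicGeometry CategoryTheory.Limits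
open SGA3

namespace Groth.Agent.S4098

open Groth.Agent.Lib.ActSep Groth.Agent.Lib.GrpSch

/-- Over a suitable affine open of the base the neutral set is open and smooth. -/
theorem exists_chart {S : Scheme.{u}} (G : Over S) [GrpObj G] (U : G.left.Opens)
    (hU : Smooth (U.ι ≫ G.hom)) (s : S) (hs : η[G].left s ∈ U) :
    ∃ (A : S.Opens) (V : G.left.Opens), s ∈ A ∧
      (V : Set G.left) = SGA3x.neutralSet G ∩ G.hom ⁻¹' (A : Set S) ∧ Smooth (V.ι ≫ G.hom) := by
  obtain ⟨A₁, hA₁, hsA₁, -⟩ := exists_isAffineOpen_mem_and_subset (U := ⊤) (x := s) trivial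
  obtain ⟨U₀, hU₀, hηU₀, hU₀A⟩ := exists_isAffineOpen_mem_and_subset
    (U := U ⊓ G.hom ⁻¹ᵁ A₁) (x := η[G].left s) ⟨hs, show G.hom (η[G].left s) ∈ A₁ by rwa [hom_η]⟩
  obtain ⟨c, hcU, hsc⟩ := hA₁.exists_basicOpen_le (V := η[G].left ⁻¹ᵁ U₀) ⟨s, hηU₀⟩ hsA₁
  let A := S.basicOpen c
  have hA : IsAffineOpen A := hA₁.basicOpen c
  let O := U₀ ⊓ G.hom ⁻¹ᵁ A
  have hU₀A' : U₀ ≤ G.hom ⁻¹ᵁ A₁ := fun x hx => (hU₀A hx).2
  have hO : IsAffineOpen O := by
    have : O = G.left.basicOpen ((G.hom.appLE A₁ U₀ hU₀A').hom c) := by rw [Scheme.basicOpen_appLE]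
    rw [this]; exact hU₀.basicOpen _
  have hηO : ∀ p ∈ A, η[G].left p ∈ O := fun p hp => ⟨hcU hp, show G.hom _ ∈ A by rwa [hom_η]⟩
  haveI : IsAffine (O : Scheme.{u}) := hO
  haveI : IsAffine (A : Scheme.{u}) := hA
  have hOU : O ≤ U := fun x hx => (hU₀A hx.1).1
  haveI := hU
  haveI hOsm : Smooth (O.ι ≫ G.hom) := by
    rw [← Scheme.homOfLE_ι G.left hOU, Category.assoc]; infer_instance
  let f₀ : (O : Scheme.{u}) ⟶ A := IsOpenImmersion.lift A.ι (O.ι ≫ G.hom) (by
    rintro _ ⟨z, rfl⟩; rw [Scheme.Opens.range_ι]; exact z.2.2)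
  have hf₀ : f₀ ≫ A.ι = O.ι ≫ G.hom := IsOpenImmersion.lift_fac _ _ _
  have hf₀a : ∀ v, (f₀ v).1 = G.hom v.1 := fun v => congrArg (fun φ : (O : Scheme.{u}) ⟶ S => φ v) hf₀
  haveI : Smooth f₀ := MorphismProperty.of_postcomp (W := @Smooth) (W' := @IsOpenImmersion) f₀ A.ι
    inferInstance (by rw [hf₀]; exact hOsm)
  let σ : (A : Scheme.{u}) ⟶ O := IsOpenImmersion.lift O.ι (A.ι ≫ η[G].left) (by
    rintro _ ⟨p, rfl⟩; rw [Scheme.Opens.range_ι]; exact hηO _ p.2)
  have hσ : σ ≫ O.ι = A.ι ≫ η[G].left := IsOpenImmersion.lift_fac _ _ _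
  have hσa : ∀ p, (σ p).1 = η[G].left p.1 := fun p => congrArg (fun φ : (A : Scheme.{u}) ⟶ G.left => φ p) hσ
  have hσf : σ ≫ f₀ = 𝟙 _ := by
    rw [← cancel_mono A.ι, Category.assoc, hf₀, reassoc_of% hσ, η_left_comp_hom]
    exact (Category.comp_id _).trans (Category.id_comp _).symm
  have hsec : MoreMor.sectionComponents f₀ σ = O.ι ⁻¹' SGA3x.neutralSet G := by
    ext v
    have hfib : Subtype.val '' (f₀ ⁻¹' {f₀ v}) ⊆ G.hom ⁻¹' {G.hom v.1} := by
      rintro _ ⟨w, hw, rfl⟩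
      show G.hom w.1 = G.hom v.1
      rw [← hf₀a, ← hf₀a]
      exact congrArg Subtype.val hw
    have hσv : (σ (f₀ v)).1 = η[G].left (G.hom v.1) := (hσa _).trans (congrArg η[G].left (hf₀a v))
    have hσm : σ (f₀ v) ∈ f₀ ⁻¹' {f₀ v} := congrArg (fun φ : (A : Scheme.{u}) ⟶ A => φ (f₀ v)) hσf
    show v ∈ connectedComponentIn (f₀ ⁻¹' {f₀ v}) (σ (f₀ v)) ↔ v.1 ∈ SGA3x.neutralSet G
    rw [mem_neutralSet_iff]
    constructor
    · intro hv
      have := (continuous_subtype_val.continuousOn (s := f₀ ⁻¹' {f₀ v})).image_connectedComponentIn_subset hσm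
        ⟨v, hv, rfl⟩
      rw [hσv] at this
      exact connectedComponentIn_mono _ hfib this
    · intro hv
      let T : Set (O : Scheme.{u}) := Subtype.val ⁻¹' (SGA3x.neutralSet G ∩ G.hom ⁻¹' {G.hom v.1})
      have hT : _root_.IsPreconnected T := by
        refine Topology.IsInducing.subtypeVal.isPreconnected_image.1 ?_
        refine (congrArg _root_.IsPreconnected ?_).mpr
          (isPreconnected_inter_neutralSet G O (G.hom v.1))
        exact Subtype.image_preimage_coe (O : Set G.left) _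
      refine hT.subset_connectedComponentIn ?_ ?_ ⟨(mem_neutralSet_iff G v.1).2 hv, rfl⟩
      · show (σ (f₀ v)).1 ∈ SGA3x.neutralSet G ∩ G.hom ⁻¹' {G.hom v.1}
        rw [hσv]
        exact ⟨η_mem_neutralSet G _, hom_η G _⟩
      · intro w hw
        refine Subtype.ext ?_
        rw [hf₀a, hf₀a]
        exact hw.2
  have hopen : IsOpen (O.ι ⁻¹' SGA3x.neutralSet G) := hsec ▸ Groth.Agent.S15351.result f₀ σ hσf
  let W : G.left.Opens := ⟨Subtype.val '' (O.ι ⁻¹' SGA3x.neutralSet G), O.2.isOpenMap_subtype_val _ hopen⟩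
  have hW : ∀ x, x ∈ W ↔ x ∈ O ∧ x ∈ SGA3x.neutralSet G := fun x =>
    ⟨fun ⟨w, hw, e⟩ => e ▸ ⟨w.2, hw⟩, fun h => ⟨⟨x, h.1⟩, h.2, rfl⟩⟩
  have hWO : W ≤ O := fun x hx => ((hW x).1 hx).1
  haveI hWsm : Smooth (W.ι ≫ G.hom) := by
    rw [← Scheme.homOfLE_ι G.left hWO, Category.assoc]; infer_instance
  let WS : Over S := Over.mk (W.ι ≫ G.hom)
  let j : WS ⟶ G := Over.homMk W.ι rfl
  let sh : G ⊗ WS ≅ G ⊗ WS :=
    { hom := lift (fst G WS * (snd G WS ≫ j)) (snd G WS)
      inv := lift (fst G WS * (snd G WS ≫ j)⁻¹) (snd G WS)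
      hom_inv_id := by
        refine CartesianMonoidalCategory.hom_ext _ _ ?_ (by simp)
        simp [MonObj.comp_mul, GrpObj.comp_inv]
      inv_hom_id := by
        refine CartesianMonoidalCategory.hom_ext _ _ ?_ (by simp)
        simp [MonObj.comp_mul] }
  haveI : IsIso sh.hom.left := ((Over.forget _).mapIso sh).isIso_hom
  haveI hfst : Smooth (fst G WS).left := fst_left_of (P := @Smooth) G hWsm
  let W' : (G ⊗ WS).left.Opens := (fst G WS).left ⁻¹ᵁ W
  let V' : (G ⊗ WS).left.Opens := sh.hom.left ⁻¹ᵁ W'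
  let V : G.left.Opens := ⟨(fst G WS).left '' V', (fst G WS).left.isOpenMap _ V'.2⟩
  have hmulfst : ∀ t, (fst G WS).left (sh.hom.left t) = (fst G G * snd G G).left ((G ◁ j).left t) := fun t => by
    rw [← Scheme.Hom.comp_apply, ← Scheme.Hom.comp_apply, ← Over.comp_left, ← Over.comp_left]
    congr 3
    simp [sh, MonObj.comp_mul]
  have hjW : ∀ t, (snd G G).left ((G ◁ j).left t) = ((snd G WS).left t).1 := fun t => by
    rw [← Scheme.Hom.comp_apply, ← Over.comp_left, whiskerLeft_snd]; rfl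
  have hjf : ∀ t, (fst G G).left ((G ◁ j).left t) = (fst G WS).left t := fun t => by
    rw [← Scheme.Hom.comp_apply, ← Over.comp_left, whiskerLeft_fst]
  have hV : (V : Set G.left) = SGA3x.neutralSet G ∩ G.hom ⁻¹' (A : Set S) := by
    ext g
    constructor
    · rintro ⟨t, ht, rfl⟩
      let y := (G ◁ j).left t
      have hb := (hW _).1 ((snd G WS).left t).2
      rw [← hjW t] at hb
      have ha : (fst G G * snd G G).left y ∈ W := by rw [← hmulfst]; exact ht
      let z := (lift (fst G G * snd G G) (snd G G)).left y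
      have hz1 : (fst G G).left z = (fst G G * snd G G).left y := by
        rw [← Scheme.Hom.comp_apply, ← Over.comp_left, lift_fst]
      have hz2 : (snd G G).left z = (snd G G).left y := by
        rw [← Scheme.Hom.comp_apply, ← Over.comp_left, lift_snd]
      have hz : (divMap G).left z = (fst G G).left y := by
        rw [← Scheme.Hom.comp_apply, ← Over.comp_left,
          show lift (fst G G * snd G G) (snd G G) ≫ divMap G = fst G G by
            simp [divMap, MonObj.comp_mul, GrpObj.comp_inv]]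
      refine ⟨?_, ?_⟩
      · rw [← hjf t, ← hz]
        exact divMap_mem G (hz1 ▸ ((hW _).1 ha).2) (hz2 ▸ hb.2)
      · show G.hom _ ∈ A
        rw [← hjf t, ← Scheme.Hom.comp_apply, Over.w, ← Over.w (snd G G), Scheme.Hom.comp_apply]
        exact hb.1.2
    · rintro ⟨hg, hgA⟩
      obtain ⟨z, hz1, hz2, hz⟩ := exists_pair G O (hηO _ hgA) hg
      let y := (lift (divMap G) (snd G G)).left z
      have hy2 : (snd G G).left y = (snd G G).left z := by
        rw [← Scheme.Hom.comp_apply, ← Over.comp_left, lift_snd]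
      obtain ⟨t, ht, -⟩ := Scheme.exists_preimage_of_isPullback (isPullback_whiskerLeft G j) y
        (⟨(snd G G).left z, (hW _).2 hz2⟩ : (W : Scheme.{u})) hy2
      refine ⟨t, ?_, ?_⟩
      · show (fst G WS).left (sh.hom.left t) ∈ W
        rw [hmulfst, show (G ◁ j).left t = y from ht, ← Scheme.Hom.comp_apply, ← Over.comp_left,
          show lift (divMap G) (snd G G) ≫ (fst G G * snd G G) = fst G G by
            simp [divMap, MonObj.comp_mul]]
        exact (hW _).2 hz1
      · rw [← hjf t, show (G ◁ j).left t = y from ht, ← Scheme.Hom.comp_apply, ← Over.comp_left, lift_fst]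
        exact hz
  refine ⟨A, V, hsc, hV, ?_⟩
  let e : (V' : Scheme.{u}) ⟶ V := IsOpenImmersion.lift V.ι (V'.ι ≫ (fst G WS).left) (by
    rintro _ ⟨t, rfl⟩; rw [Scheme.Opens.range_ι]; exact ⟨t.1, t.2, rfl⟩)
  have he : e ≫ V.ι = V'.ι ≫ (fst G WS).left := IsOpenImmersion.lift_fac _ _ _
  haveI : Smooth e := MorphismProperty.of_postcomp (W := @Smooth) (W' := @IsOpenImmersion) e V.ι
    inferInstance (by rw [he]; infer_instance)
  haveI : Surjective e := ⟨fun v => by
    obtain ⟨t, ht, hv⟩ := v.2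
    exact ⟨⟨t, ht⟩, Subtype.ext ((congrArg (fun φ : (V' : Scheme.{u}) ⟶ G.left => φ ⟨t, ht⟩) he).trans hv)⟩⟩
  haveI : Smooth (e ≫ V.ι ≫ G.hom) := by
    have h1 : e ≫ V.ι ≫ G.hom = (sh.hom.left ∣_ W') ≫ ((fst G WS).left ∣_ W) ≫ W.ι ≫ G.hom := by
      rw [reassoc_of% he, morphismRestrict_ι_assoc, morphismRestrict_ι_assoc]
      rw [Over.w (fst G WS), Over.w sh.hom]
    rw [h1]
    infer_instance
  haveI : LocallyOfFinitePresentation (V.ι ≫ G.hom) := Groth.Agent.S0114.result e (V.ι ≫ G.hom)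
  exact Groth.Agent.Lib.SmoothDesc.Scheme.smooth_of_comp e (V.ι ≫ G.hom)

/-- Let G be an S-group scheme which is smooth over S at every point of the unit section (some open of G
containing the unit section is smooth over S). Then the union G⁰ of the connected components of the
unit in the fibres G_s is open in G, and there is an open subgroup scheme of G, smooth and
quasi-compact over S, with underlying set G⁰. -/
theorem result (S : Scheme.{u}) (G : Over S) [GrpObj G]
    (hsm : ∃ U : G.left.Opens, Smooth (U.ι ≫ G.hom) ∧ ∀ p : ↥(𝟙_ (Over S)).left, η[G].left.base p ∈ U) :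
    IsOpen (SGA3x.neutralSet G) ∧
    ∃ (G0 : Over S) (_ : GrpObj G0) (i : G0 ⟶ G), IsMonHom i ∧ IsOpenImmersion i.left ∧
      Set.range i.left.base = SGA3x.neutralSet G ∧ Smooth G0.hom ∧ QuasiCompact G0.hom := by
  obtain ⟨U, hUsm, hUη⟩ := hsm
  choose A V hsA hV hVsm using fun s : S => exists_chart G U hUsm s (hUη s)
  have hopen : IsOpen (SGA3x.neutralSet G) := by
    have : SGA3x.neutralSet G = ⋃ s, (V s : Set G.left) := by
      ext g
      refine ⟨fun hg => Set.mem_iUnion.2 ⟨G.hom g, (hV _).symm ▸ ⟨hg, hsA _⟩⟩, fun hg => ?_⟩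
      obtain ⟨s, hs⟩ := Set.mem_iUnion.1 hg
      rw [hV] at hs
      exact hs.1
    rw [this]
    exact isOpen_iUnion fun s => (V s).2
  let N : G.left.Opens := ⟨_, hopen⟩
  let G0 : Over S := Over.mk (N.ι ≫ G.hom)
  let i : G0 ⟶ G := Over.homMk N.ι rfl
  haveI : Mono i := (Over.forget S).mono_of_mono_map (inferInstanceAs (Mono N.ι))
  have hlift : ∀ {T : Over S} (g : T ⟶ G), (∀ x, g.left x ∈ SGA3x.neutralSet G) → ∃ z : T ⟶ G0, z ≫ i = g := by
    intro T g hg
    have hr : Set.range g.left ⊆ Set.range N.ι := by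
      rintro _ ⟨x, rfl⟩; exact ⟨⟨g.left x, hg x⟩, rfl⟩
    have hfac : IsOpenImmersion.lift N.ι g.left hr ≫ N.ι = g.left := IsOpenImmersion.lift_fac _ _ _
    exact ⟨Over.homMk (IsOpenImmersion.lift N.ι g.left hr)
      (by show _ ≫ N.ι ≫ G.hom = T.hom; rw [← Category.assoc, hfac, Over.w]), Over.OverMorphism.ext hfac⟩
  have hmem : ∀ {T : Over S} (a : T ⟶ G0) (x : T.left), (a ≫ i).left x ∈ SGA3x.neutralSet G :=
    fun a x => (a.left x).2
  obtain ⟨hgrp, hhom⟩ := Groth.Agent.Lib.FreeRes.exists_grpObj_of_mono i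
    (fun T => hlift 1 fun x => by rw [left_one_apply]; exact η_mem_neutralSet G _)
    (fun {T} a b => hlift _ fun x => by
      have : (a ≫ i) * (b ≫ i) = lift (a ≫ i) (b ≫ i)⁻¹ ≫ divMap G := by
        simp [divMap, MonObj.comp_mul, GrpObj.comp_inv]
      rw [this, Over.comp_left, Scheme.Hom.comp_apply]
      refine divMap_mem G ?_ ?_
      · rw [← Scheme.Hom.comp_apply, ← Over.comp_left, lift_fst]; exact hmem a x
      · rw [← Scheme.Hom.comp_apply, ← Over.comp_left, lift_snd, Hom.inv_def, Over.comp_left, Scheme.Hom.comp_apply]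
        exact inv_mem_neutralSet G (hmem b x))
    (fun {T} a => hlift _ fun x => by
      rw [Hom.inv_def, Over.comp_left, Scheme.Hom.comp_apply]
      exact inv_mem_neutralSet G (hmem a x))
  haveI := hgrp
  haveI := hhom
  have hsmG0 : Smooth G0.hom := by
    refine (IsZariskiLocalAtSource.iff_of_iSup_eq_top (P := @Smooth) (fun s : S => N.ι ⁻¹ᵁ V s)
      (eq_top_iff.2 fun x _ => TopologicalSpace.Opens.mem_iSup.2
        ⟨G.hom x.1, show x.1 ∈ (V (G.hom x.1) : Set G.left) from (hV _).symm ▸ ⟨x.2, hsA _⟩⟩)).2 fun s => ?_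
    haveI := hVsm s
    show Smooth ((N.ι ⁻¹ᵁ V s).ι ≫ N.ι ≫ G.hom)
    rw [← morphismRestrict_ι_assoc]
    infer_instance
  refine ⟨hopen, G0, hgrp, i, hhom, inferInstanceAs (IsOpenImmersion N.ι), ?_, hsmG0, ?_⟩
  · exact Scheme.Opens.range_ι N
  · haveI := hsmG0
    refine (Groth.Agent.S3025.result S G0 fun s => ?_).2
    have himg : i.left '' (G0.hom ⁻¹' {s}) = SGA3x.neutralSet G ∩ G.hom ⁻¹' {s} := by
      ext g
      exact ⟨fun ⟨x, hx, e⟩ => e ▸ ⟨x.2, hx⟩, fun h => ⟨⟨g, h.1⟩, h.2, rfl⟩⟩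
    refine ⟨⟨⟨η[G].left s, η_mem_neutralSet G s⟩, hom_η G s⟩, ?_⟩
    refine N.ι.isEmbedding.isInducing.isPreconnected_image.1 ?_
    show _root_.IsPreconnected (i.left '' (G0.hom ⁻¹' {s}))
    rw [himg]
    have := isPreconnected_inter_neutralSet G ⊤ s
    simpa using this

end Groth.Agent.S4098
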