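import Groth.Statements.S2969
import Mathlib
import Groth.Agent.H83.MultType.Isotrivial

set_option autoImplicit false
universe u
open TensorProduct SGA3b
open SGA3b

namespace Groth.Agent.S2969

/-- Let k be a field and H = Spec A a k-group of multiplicative type and of finite type. Then H is
isotrivial: there is a finite separable extension k' of k over which H becomes diagonalisable (of
finite type). (Affine group schemes over an affine base are taken in Hopf-algebra form; base change
is the tensor product.) -/
theorem result (k : Type u) [Field k] (A : Type u) [CommRing A] [HopfAlgebra k A]
    (hft : Algebra.FiniteType k A) (h : IsMultType k A) :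
    ∃ (k' : Type u) (_ : Field k') (_ : Algebra k k'), Module.Finite k k' ∧ Algebra.IsSeparable k k' ∧ IsDiagFT k' (k' ⊗[k] A) := by
  obtain ⟨K, _, _, _, Q, _, hQ, ⟨e⟩⟩ := H83.MultType.exists_finite_splitting hft h
  exact ⟨separableClosure k K, inferInstance, inferInstance, inferInstance, inferInstance,
    H83.MultType.isDiagFT_of_purelyInseparable (separableClosure k K) hQ e⟩

end Groth.Agent.S2969
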