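import Groth.Statements.S9435
import Mathlib.RingTheory.Etale.StandardEtale
import Mathlib.RingTheory.Polynomial.ScaleRoots
import Mathlib.FieldTheory.PrimitiveElement
import Mathlib.RingTheory.LocalRing.ResidueField.Ideal
import Mathlib.Algebra.Polynomial.Lifts
import Mathlib.RingTheory.Localization.Integer
-- import your own Groth.Agent.* helpers here

set_option autoImplicit false
universe u
open CAlg

namespace Groth.Agent.S9435

open Polynomial

/-- Given a prime p of a ring R and a finite separable extension L of κ(p), there is an étale R-algebra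
R' with a prime p' over p whose residue field is κ(p)-isomorphic to L. Stated through an R-algebra
map ψ : R' → L whose image generates the field L: its kernel is such a prime p' and the induced
κ(p') → L is then an isomorphism over κ(p). -/
theorem result (R : Type u) [CommRing R]
    (p : Ideal R) [p.IsPrime] (L : Type u) [Field L] [Algebra p.ResidueField L] [Algebra R L]
    [IsScalarTower R p.ResidueField L] [Module.Finite p.ResidueField L]
    [Algebra.IsSeparable p.ResidueField L] :
    ∃ (R' : Type u) (_ : CommRing R') (_ : Algebra R R') (_ : Algebra.Etale R R') (ψ : R' →ₐ[R] L),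
      Subfield.closure (Set.range ψ) = ⊤ := by
  classical
  let K := p.ResidueField
  obtain ⟨θ, hθ⟩ := Field.exists_primitive_element K L
  have hint : IsIntegral K θ := Algebra.IsIntegral.isIntegral θ
  obtain ⟨b, hb⟩ := IsLocalization.exist_integer_multiples (nonZeroDivisors (R ⧸ p))
    (Finset.range (minpoly K θ).natDegree) (fun i => (minpoly K θ).coeff i)
  obtain ⟨c, hc⟩ := Ideal.Quotient.mk_surjective (b : R ⧸ p)
  have hmk : ∀ r : R, algebraMap (R ⧸ p) K (Ideal.Quotient.mk p r) = algebraMap R K r :=
    fun r => (IsScalarTower.algebraMap_apply R (R ⧸ p) K r).symm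
  have hc0 : algebraMap R K c ≠ 0 := by
    rw [← hmk, hc]
    exact IsFractionRing.to_map_ne_zero_of_mem_nonZeroDivisors b.2
  set s : K := algebraMap R K c with hs
  set m' := (minpoly K θ).scaleRoots s with hm'
  have hm'mon : m'.Monic := (monic_scaleRoots_iff s).2 (minpoly.monic hint)
  have hlift : m' ∈ Polynomial.lifts (algebraMap R K) := by
    rw [Polynomial.lifts_iff_coeff_lifts]
    intro i
    rcases lt_trichotomy i (minpoly K θ).natDegree with h | h | h
    · obtain ⟨z, hz⟩ := hb i (Finset.mem_range.2 h)
      obtain ⟨z, rfl⟩ := Ideal.Quotient.mk_surjective z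
      refine ⟨z * c ^ ((minpoly K θ).natDegree - i - 1), ?_⟩
      rw [hm', Polynomial.coeff_scaleRoots, map_mul, map_pow, ← hmk z, hz, Algebra.smul_def, ← hc, hmk,
        show (minpoly K θ).natDegree - i = ((minpoly K θ).natDegree - i - 1) + 1 by omega, pow_succ]
      simp only [Nat.add_sub_cancel]
      ring
    · refine ⟨1, ?_⟩
      rw [hm', Polynomial.coeff_scaleRoots, h, map_one, Nat.sub_self, pow_zero, mul_one,
        (minpoly.monic hint).coeff_natDegree]
    · refine ⟨0, ?_⟩
      rw [hm', Polynomial.coeff_scaleRoots, map_zero, Polynomial.coeff_eq_zero_of_natDegree_lt h, zero_mul]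
  obtain ⟨F, hF, hFdeg, hFmon⟩ := Polynomial.lifts_and_natDegree_eq_and_monic hlift hm'mon
  let θ' : L := algebraMap K L s * θ
  have hroot : aeval θ' m' = 0 := Polynomial.scaleRoots_aeval_eq_zero (minpoly.aeval K θ)
  have htop : IntermediateField.adjoin K {θ'} = ⊤ := by
    rw [eq_top_iff, ← hθ, IntermediateField.adjoin_simple_le_iff]
    have h1 : θ' ∈ IntermediateField.adjoin K {θ'} := IntermediateField.mem_adjoin_simple_self K θ'
    have : θ = algebraMap K L s⁻¹ * θ' := by
      show θ = algebraMap K L s⁻¹ * (algebraMap K L s * θ)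
      rw [← mul_assoc, ← map_mul, inv_mul_cancel₀ hc0, map_one, one_mul]
    rw [this]
    exact mul_mem ((IntermediateField.adjoin K {θ'}).algebraMap_mem _) h1
  have hint' : IsIntegral K θ' := Algebra.IsIntegral.isIntegral θ'
  have hmin : minpoly K θ' = m' := by
    refine (Polynomial.eq_of_monic_of_dvd_of_natDegree_le (minpoly.monic hint') hm'mon
      (minpoly.dvd K θ' hroot) ?_).symm
    rw [hm', natDegree_scaleRoots, ← IntermediateField.adjoin.finrank hint,
      ← IntermediateField.adjoin.finrank hint', hθ, htop]
  have hev : ∀ G : R[X], aeval θ' G = aeval θ' (G.map (algebraMap R K)) := fun G =>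
    (aeval_map_algebraMap K θ' G).symm
  have hsep : (minpoly K θ').Separable := Algebra.IsSeparable.isSeparable K θ'
  let P : StandardEtalePair R :=
    { f := F
      monic_f := hFmon
      g := derivative F
      cond := ⟨1, 0, 1, by ring⟩ }
  have hmap : P.HasMap θ' := by
    refine ⟨?_, ?_⟩
    · show aeval θ' F = 0
      rw [hev, hF]; exact hroot
    · show IsUnit (aeval θ' (derivative F))
      rw [hev, ← derivative_map, hF, ← hmin, isUnit_iff_ne_zero]
      exact hsep.aeval_derivative_ne_zero (minpoly.aeval K θ')
  refine ⟨P.Ring, inferInstance, inferInstance, inferInstance, P.lift θ' hmap, ?_⟩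
  set ψ := P.lift θ' hmap
  rw [eq_top_iff]
  have hR : ∀ r : R, algebraMap R L r ∈ Subfield.closure (Set.range ψ) := fun r =>
    Subfield.subset_closure ⟨algebraMap R P.Ring r, ψ.commutes r⟩
  have hK : ∀ z : K, algebraMap K L z ∈ Subfield.closure (Set.range ψ) := by
    intro z
    obtain ⟨a, d, -, rfl⟩ := IsFractionRing.div_surjective (R ⧸ p) z
    obtain ⟨a, rfl⟩ := Ideal.Quotient.mk_surjective a
    obtain ⟨d, rfl⟩ := Ideal.Quotient.mk_surjective d
    rw [hmk, hmk, map_div₀, ← IsScalarTower.algebraMap_apply, ← IsScalarTower.algebraMap_apply]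
    exact div_mem (hR a) (hR d)
  intro x _
  let E : IntermediateField K L := (Subfield.closure (Set.range ψ)).toIntermediateField hK
  have : IntermediateField.adjoin K {θ'} ≤ E :=
    IntermediateField.adjoin_simple_le_iff.2
      (Subfield.subset_closure ⟨P.X, P.lift_X θ' hmap⟩)
  exact this (htop ▸ IntermediateField.mem_top)

end Groth.Agent.S9435
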