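import Groth.Statements.S4100
import Groth.Agent.Lib.ActSep.Exists

set_option autoImplicit false
universe u
open CategoryTheory MonoidalCategory CartesianMonoidalCategory MonObj GrpObj AlgebraicGeometry CategoryTheory.Limits
open SGA3

namespace Groth.Agent.S4100

open Groth.Agent.Lib.GrpSch Groth.Agent.Lib.ActSep

/-- Let G be an S-group scheme locally of finite presentation and universally open over S with connected
fibres, acting on an S-scheme X locally of finite presentation over S in such a way that the
morphism G ×_S X → X ×_S X, (g, x) ↦ (g·x, x), is surjective. Then X is separated over S. -/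
theorem result (S : Scheme.{u}) (G X : Over S) [GrpObj G]
    [LocallyOfFinitePresentation G.hom] [UniversallyOpen G.hom]
    (hconn : ∀ s : S, _root_.IsConnected (G.hom.base ⁻¹' {s}))
    [LocallyOfFinitePresentation X.hom] (a : AlgGrp.Action G X)
    (hΦ : Surjective (lift a.act (snd G X)).left) : IsSeparated X.hom := by
  refine Criterion.isSeparated_of_translate a ⊤ inferInstance fun K _ _ t x₁ x₂ => ?_
  let T := Over.mk t
  have := irreducibleSpace_geomFibre (G := G) hconn t
  obtain ⟨z⟩ : Nonempty ↥(Spec (CommRingCat.of K)) := inferInstance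
  obtain ⟨_, hx, ⟨V, hV, rfl⟩⟩ : ∃ U : X.left.Opens, x₁.left z ∈ U ∧ ∃ V, IsAffineOpen V ∧ V = U := by
    obtain ⟨V, hV, hmem, -⟩ := exists_isAffineOpen_mem_and_subset (U := ⊤) (x := x₁.left z) trivial
    exact ⟨V, hmem, V, hV, rfl⟩
  have hUs : IsSeparated (V.ι ≫ X.hom) := by
    have : IsAffine V := hV
    infer_instance
  have hne : ∀ x : T ⟶ X, (((orb a x ≫ fst X T).left) ⁻¹' (V : Set X.left)).Nonempty := by
    intro x
    have := surjective_orb a hΦ x
    obtain ⟨w, hw⟩ := (orb a x).left.surjective ((lift x₁ (𝟙 T)).left z)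
    refine ⟨w, ?_⟩
    show (orb a x ≫ fst X T).left w ∈ V
    rw [Over.comp_left, Scheme.Hom.comp_apply, hw, ← Scheme.Hom.comp_apply, ← Over.comp_left, lift_fst]
    exact hx
  obtain ⟨ξ, h₁, h₂⟩ := nonempty_preirreducible_inter
    (V.2.preimage (orb a x₁ ≫ fst X T).left.continuous)
    (V.2.preimage (orb a x₂ ≫ fst X T).left.continuous) (hne x₁) (hne x₂)
  exact exists_translate_of_point a t ⊤ V hUs x₁ x₂ ξ trivial h₁ h₂

end Groth.Agent.S4100
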