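import Groth.Statements.S1127
import Groth.Agent.Lib.FFDesc.Effective

set_option autoImplicit false
open CategoryTheory CategoryTheory.Limits AlgebraicGeometry Opposite
universe u
open Desc

namespace Groth.Agent.S1127

private theorem qa_pre {X Y Z : Scheme.{u}} (e : X ⟶ Y) [IsIso e] (f : Y ⟶ Z)
    (hf : Mor2.IsQuasiAffine f) : Mor2.IsQuasiAffine (e ≫ f) := by
  have := hf.1
  refine ⟨inferInstanceAs (QuasiCompact (e ≫ f)), fun V hV ↦ ?_⟩
  have := hf.2 V hV
  have : CompactSpace ↥((e ⁻¹ᵁ (f ⁻¹ᵁ V)).toScheme) :=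
    (e ∣_ (f ⁻¹ᵁ V)).homeomorph.symm.compactSpace
  have h : Scheme.IsQuasiAffine (e ⁻¹ᵁ (f ⁻¹ᵁ V) : Scheme.{u}) :=
    have : IsOpenImmersion (e ∣_ (f ⁻¹ᵁ V)) := inferInstance
    Scheme.IsQuasiAffine.of_isImmersion (e ∣_ (f ⁻¹ᵁ V))
  exact h

private theorem qa_post {X Y Z : Scheme.{u}} (f : X ⟶ Y) (e : Y ⟶ Z) [IsIso e]
    (hf : Mor2.IsQuasiAffine f) : Mor2.IsQuasiAffine (f ≫ e) := by
  have := hf.1
  exact ⟨inferInstanceAs (QuasiCompact (f ≫ e)),
    fun V hV ↦ hf.2 _ (hV.preimage_of_isIso e)⟩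

/-- If the base change of a morphism along a quasi-compact, flat, surjective morphism is quasi-affine
(quasi-compact, with quasi-affine preimages of affine opens), then the morphism is quasi-affine.
(The published statement is the fpqc-local form; stated here for a single quasi-compact flat
surjective base change, from which that form follows by Zariski-locality on the target.) -/
theorem result :
    MorphismProperty.DescendsAlong (fun _ _ f => Mor2.IsQuasiAffine f : MorphismProperty Scheme.{u})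
      (@Surjective ⊓ @Flat ⊓ @QuasiCompact : MorphismProperty Scheme.{u}) := by
  have : MorphismProperty.RespectsIso (fun _ _ f => Mor2.IsQuasiAffine f : MorphismProperty Scheme.{u}) :=
    MorphismProperty.RespectsIso.mk _ (fun e f hf ↦ qa_pre e.hom f hf)
      (fun e f hf ↦ qa_post f e.hom hf)
  refine MorphismProperty.DescendsAlong.mk' fun {X Y Z} f g _ hf hfst ↦ ?_
  obtain ⟨⟨_, _⟩, _⟩ := hf
  have hp := Groth.Agent.Lib.FFDesc.fpqcCover_of_quasiCompact f
  obtain ⟨U, q, H, hU, -⟩ :=
    Groth.Agent.Lib.FFDesc.exists_isDescended ((Desc.toDD f).obj (Over.mk g)) hp hfst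
  have H' := Groth.Agent.Lib.FFDesc.exists_isDescended_of_iso _
    (Iso.refl ((Desc.toDD f).obj (Over.mk g)))
  obtain ⟨γ, hγ⟩ := H'.exists_desc hp q H.inv
  have := H'.isIso H hp γ hγ
  have hw : γ ≫ U.hom = g := H'.hom_ext hp (by
    rw [← Category.assoc, hγ]
    exact H.isPullback.w.symm.trans H'.isPullback.w)
  exact hw ▸ qa_pre γ U.hom hU

end Groth.Agent.S1127
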