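import Groth.Statements.S9152
import Groth.Agent.H20.CMLocus

set_option autoImplicit false
universe u
open CAlg

namespace Groth.Agent.S9152

/-- The Cohen–Macaulay locus of a finite type algebra over a field is open. -/
theorem result (k S : Type u) [Field k] [CommRing S] [Algebra k S]
    [Algebra.FiniteType k S] :
    IsOpen {q : PrimeSpectrum S | LocCoh.IsCohenMacaulayLocalRing (Localization.AtPrime q.asIdeal)} := by
  obtain ⟨n, f, hf⟩ := Algebra.FiniteType.iff_quotient_mvPolynomial''.mp
    (inferInstance : Algebra.FiniteType k S)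
  let algPS : Algebra (MvPolynomial (Fin n) k) S := f.toRingHom.toAlgebra
  have : IsScalarTower k (MvPolynomial (Fin n) k) S :=
    IsScalarTower.of_algebraMap_eq fun x => (f.commutes x).symm
  have : Module.Finite (MvPolynomial (Fin n) k) S :=
    Module.Finite.of_surjective (Algebra.linearMap (MvPolynomial (Fin n) k) S) hf
  have hset : {q : PrimeSpectrum S |
      LocCoh.IsCohenMacaulayLocalRing (Localization.AtPrime q.asIdeal)} =
      ⋃ c : ℕ, {q : PrimeSpectrum S | Groth.Agent.Lib.Dim.Local.dimAt k q.asIdeal + c ≤ n} ∩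
        PrimeSpectrum.comap (algebraMap (MvPolynomial (Fin n) k) S) ⁻¹'
          {Q | Groth.Agent.Lib.Regular.PD.PDle (Localization.AtPrime Q.asIdeal)
            (LocalizedModule Q.asIdeal.primeCompl S) c} := by
    ext q
    rw [Set.mem_ofPred_eq, Groth.Agent.H20.CMLocus.isCohenMacaulayLocalRing_iff hf q.asIdeal,
      Set.mem_iUnion]
    rfl
  rw [hset]
  refine isOpen_iUnion fun c => IsOpen.inter ?_
    ((Groth.Agent.H20.PDDepth.isOpen_setOf_pdle c S).preimage (PrimeSpectrum.continuous_comap _))
  rcases Nat.lt_or_ge n c with h | h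
  · convert isOpen_empty
    exact Set.eq_empty_of_forall_notMem fun q (hq : _ + c ≤ n) => by omega
  · convert Groth.Agent.H20.CMLocus.isOpen_setOf_dimAt_le k (S := S) (n - c) using 1
    ext q
    simp only [Set.mem_ofPred_eq]
    omega

end Groth.Agent.S9152
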