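import Groth.Statements.S10618
-- import your own Groth.Agent.* helpers here

set_option autoImplicit false
universe u
open CategoryTheory CategoryTheory.Limits AlgebraicGeometry
open AlgSp

namespace Groth.Agent.S10618

/-- Let a : F ⟶ G and b : G ⟶ H be morphisms of fppf sheaves on (Sch/S) with b formally unramified. If a
≫ b is formally unramified, resp. formally etale, resp. formally smooth, then so is a. (The
published statement is for transformations of arbitrary presheaves of sets on (Sch/S)_fppf; this row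
takes fppf sheaves, the case of algebraic spaces.) -/
theorem result {S : Scheme.{u}} {F G H : AlgSp.Sp S} (a : F ⟶ G) (b : G ⟶ H)
    (hb : AlgSp.IsFormallyUnramifiedMor b) :
    (AlgSp.IsFormallyUnramifiedMor (a ≫ b) → AlgSp.IsFormallyUnramifiedMor a) ∧
    (AlgSp.IsFormallyEtaleMor (a ≫ b) → AlgSp.IsFormallyEtaleMor a) ∧
    (AlgSp.IsFormallySmoothMor (a ≫ b) → AlgSp.IsFormallySmoothMor a) := by
  have wit : ∀ sq : InfSq a, (sq.top ≫ a) ≫ b = (yon S).map sq.j ≫ sq.bot ≫ b := by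
    intro sq
    rw [sq.comm, Category.assoc]
  have wit' : ∀ sq : InfSq a, sq.top ≫ (a ≫ b) = (yon S).map sq.j ≫ sq.bot ≫ b :=
    fun sq => (Category.assoc _ _ _).symm.trans (wit sq)
  have c₁ : ∀ (sq : InfSq a) (l : (yon S).obj sq.ptT' ⟶ F),
      (yon S).map sq.j ≫ l = sq.top → (yon S).map sq.j ≫ (l ≫ a) = sq.top ≫ a := by
    intro sq l h
    rw [← Category.assoc, h]
  have c₂ : ∀ (sq : InfSq a) (l : (yon S).obj sq.ptT' ⟶ F),
      l ≫ a = sq.bot → l ≫ (a ≫ b) = sq.bot ≫ b := by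
    intro sq l h
    rw [← Category.assoc, h]
  have key : ∀ sq : InfSq a, ∀ l : (yon S).obj sq.ptT' ⟶ F,
      (yon S).map sq.j ≫ l = sq.top → l ≫ (a ≫ b) = sq.bot ≫ b → l ≫ a = sq.bot := by
    intro sq l h₁ h₂
    exact hb ⟨sq.A, sq.I, sq.sq_zero, sq.str, sq.top ≫ a, sq.bot ≫ b, wit sq⟩ (l ≫ a) sq.bot
      (c₁ sq l h₁) ((Category.assoc l a b).trans h₂) sq.comm.symm rfl
  refine ⟨fun h sq => ?_, fun h sq => ?_, fun h sq => ?_⟩
  · intro l l' h₁ h₂ h₁' h₂'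
    exact h ⟨sq.A, sq.I, sq.sq_zero, sq.str, sq.top, sq.bot ≫ b, wit' sq⟩
      l l' h₁ (c₂ sq l h₂) h₁' (c₂ sq l' h₂')
  · obtain ⟨l, ⟨h₁, h₂⟩, hu⟩ := h ⟨sq.A, sq.I, sq.sq_zero, sq.str, sq.top, sq.bot ≫ b, wit' sq⟩
    exact ⟨l, ⟨h₁, key sq l h₁ h₂⟩, fun l' hl' => hu l' ⟨hl'.1, c₂ sq l' hl'.2⟩⟩
  · obtain ⟨l, h₁, h₂⟩ := h ⟨sq.A, sq.I, sq.sq_zero, sq.str, sq.top, sq.bot ≫ b, wit' sq⟩
    exact ⟨l, h₁, key sq l h₁ h₂⟩

end Groth.Agent.S10618
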