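import Groth.Statements.S10109
import Groth.Agent.Lib.AlgSpMor.EtaleSheaf
import Groth.Agent.Lib.AlgSpFormal.Charts
-- import your own Groth.Agent.* helpers here

set_option autoImplicit false
universe u
open CategoryTheory CategoryTheory.Limits AlgebraicGeometry
open AlgSp

set_option linter.style.haveILetI false
open CategoryTheory Limits AlgebraicGeometry Groth.Agent.Lib.AlgSpace Groth.Agent.Lib.AlgSpMor

namespace Groth.Agent.S10109

/-- A presheaf of sets on schemes over `S` which is a sheaf for the etale topology and receives a map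
from an algebraic space which is representable by algebraic spaces, surjective and etale, is an
algebraic space (in particular an fppf sheaf). -/
theorem result (S : Scheme.{u}) (F : AlgSp.PSp S)
    (h1 : Presheaf.IsSheaf (QuotSh.J Scheme.etalePrecoverage S) F) (U : AlgSp.Space S) (p : U.obj.obj ⟶ F)
    (h2 : AlgSp.RepBySpWith (AlgSp.IsSurjectiveMor ⊓ AlgSp.IsEtaleMor) p) :
    AlgSp.IsAlgSpaceP F := by
  obtain ⟨V, c, hc, hcs⟩ := U.property.atlas
  let q : (pyon S).obj V ⟶ F := c.hom ≫ p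
  haveI : MorphismProperty.IsStableUnderComposition (@Etale : MorphismProperty Scheme.{u}) :=
    ⟨fun f g (_ : Etale f) (_ : Etale g) ↦ inferInstanceAs (Etale (f ≫ g))⟩
  -- every section lifts etale locally
  have hpiece : ∀ (T : Over S) (ξ : (pyon S).obj T ⟶ F), ∃ (Q : Sp S) (q₁ : Q ⟶ (yon S).obj V)
      (q₂ : Q ⟶ (yon S).obj T), IsAlgSpace Q ∧ IsPullback q₁.hom q₂.hom q ξ ∧
      (∀ (W : Over S) (a : (yon S).obj W ⟶ Q) (w : W ⟶ T), RepWith @Etale a →
        a ≫ q₂ = (yon S).map w → Etale w.left) ∧ IsSurjectiveMor q₂ := by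
    intro T ξ
    have sqP := IsPullback.of_hasPullback p ξ
    obtain ⟨h, hA, hs, he⟩ := h2 ξ _ _ sqP
    let Pe : Sp S := ⟨Limits.pullback p ξ, h⟩
    let fe : Pe ⟶ U.obj := ObjectProperty.homMk (pullback.fst p ξ)
    let se : Pe ⟶ (yon S).obj T := ObjectProperty.homMk (pullback.snd p ξ)
    have sqQ := IsPullback.of_hasPullback c fe
    have hQe : RepWith @Etale (pullback.snd c fe) := repWith_baseChange sqQ hc
    have hQs : RepWith @Surjective (pullback.snd c fe) := repWith_baseChange sqQ hcs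
    refine ⟨Limits.pullback c fe, pullback.fst c fe, pullback.snd c fe ≫ se,
      isAlgSpace_of_representable hQe.rep hA, ?_, fun W a w ha hw ↦ ?_, fun y ↦ ?_⟩
    · exact ((sqQ.map (sheafToPresheaf (AlgSp.J S) (Type (u + 1)))).flip.paste_horiz sqP.flip).flip
    · have h' := he (a ≫ pullback.snd c fe) (repWith_comp ha hQe)
      rw [Category.assoc] at h'
      change RepWith @Etale (a ≫ pullback.snd c fe ≫ se) at h'
      rw [hw] at h'
      exact (repWith_yon_map_iff _ w).1 h'
    · obtain ⟨x, hx⟩ := hs y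
      obtain ⟨z, hz⟩ := surjective_map hQs x
      exact ⟨z, by rw [Points.map_comp, hz]; exact hx⟩
  obtain ⟨Q, q₁, q₂, hQ, sqQ, hQe, -⟩ := hpiece V q
  let l : Q ⟶ (yon S).obj (V ⨯ V) := prod.lift q₁ q₂ ≫ (yonProdIso V V).inv
  have hl₂ : l ≫ (yon S).map prod.snd = q₂ := by
    rw [Category.assoc, ← yonProdIso_hom_snd, Iso.inv_hom_id_assoc, prod.lift_snd]
  have hl₁ : l ≫ (yon S).map prod.fst = q₁ := by
    rw [Category.assoc, ← yonProdIso_hom_fst, Iso.inv_hom_id_assoc, prod.lift_fst]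
  haveI : Mono l := ⟨fun a b e ↦ by
    have e1 := congr($e ≫ (yon S).map prod.fst)
    have e2 := congr($e ≫ (yon S).map prod.snd)
    simp only [Category.assoc, hl₁, hl₂] at e1 e2
    exact InducedCategory.hom_ext (sqQ.hom_ext congr($(e1).hom) congr($(e2).hom))⟩
  have hl : LocP @LocallyOfFiniteType l := by
    refine LocP.locP_of_comp (P := @LocallyOfFiniteType) (R := ⊤)
      Groth.Agent.Lib.SourceDescent.Scheme.locallyOfFiniteType (fun {A B C} f g hfg _ ↦ ?_) hQ
      (IsAlgSpace.yon_obj _) (IsAlgSpace.yon_obj V) (g := (yon S).map prod.snd) ?_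
      (fun _ _ _ _ _ _ _ _ ↦ trivial)
    · haveI : LocallyOfFiniteType (f ≫ g) := hfg
      exact locallyOfFiniteType_of_comp f g
    · rw [hl₂]
      refine (fun A B a b m ha hb w ↦ ?_)
      obtain ⟨b₀, rfl⟩ := (yon S).map_surjective b
      haveI : Etale b₀.left := (repWith_yon_map_iff _ _).1 hb
      haveI : Etale (m.left ≫ b₀.left) := hQe A a (m ≫ b₀) ha (by rw [w, Functor.map_comp])
      haveI : Etale m.left := Etale.of_comp m.left b₀.left
      exact (inferInstance : LocallyOfFiniteType m.left)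
  have hr := RepBySp.repWith_sepLqf_of_mono hQ (IsAlgSpace.yon_obj _) hl
  obtain ⟨R, rr, fr, sqR, -⟩ := repWith_exists hr (𝟙 _)
  haveI : IsIso fr := sqR.isIso_fst_of_isIso
  obtain ⟨t, ht⟩ := (yon S).map_surjective (fr ≫ q₁)
  obtain ⟨s, hs⟩ := (yon S).map_surjective (fr ≫ q₂)
  haveI : MorphismProperty.ContainsIdentities (@Etale : MorphismProperty Scheme.{u}) :=
    ⟨fun X ↦ inferInstanceAs (Etale (𝟙 X))⟩
  haveI : Etale s.left := hQe R fr s (repWith_of_isIso _ fr) hs.symm
  refine EtaleSheaf.isAlgSpaceP_of_chart h1 q t s ?_ fun T ξ ↦ ?_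
  · let e := (sheafToPresheaf (AlgSp.J S) (Type (u + 1))).mapIso (asIso fr)
    exact sqQ.of_iso e.symm (Iso.refl _) (Iso.refl _) (Iso.refl _)
      ((Category.comp_id _).trans ((Iso.eq_inv_comp e).2 congr($(ht).hom).symm))
      ((Category.comp_id _).trans ((Iso.eq_inv_comp e).2 congr($(hs).hom).symm))
      ((Category.comp_id _).trans (Category.id_comp _).symm)
      ((Category.comp_id _).trans (Category.id_comp _).symm)
  · obtain ⟨Q', a₁, a₂, hQ', sqQ', hQe', hQs'⟩ := hpiece T ξ
    obtain ⟨W, a, ha, has⟩ := hQ'.atlas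
    obtain ⟨v, hv⟩ := (yon S).map_surjective (a ≫ a₁)
    obtain ⟨w, hw⟩ := (yon S).map_surjective (a ≫ a₂)
    refine ⟨W, w, v, hQe' W a w ha hw.symm, ⟨fun z ↦ ?_⟩, ?_⟩
    · obtain ⟨x, hx⟩ := hQs' (Points.ofScheme T z)
      obtain ⟨y, rfl⟩ := surjective_ofPt has x
      refine ⟨y, (Points.schemeEquiv T).injective ?_⟩
      rw [Points.map_ofPt, ← hw, Groth.Agent.Lib.AlgSpDecent.Core.ofPt_yon_map] at hx
      exact hx
    · show ((yon S).map v).hom ≫ q = ((yon S).map w).hom ≫ ξ
      rw [hv, hw]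
      show (a.hom ≫ a₁.hom) ≫ q = (a.hom ≫ a₂.hom) ≫ ξ
      exact (Category.assoc _ _ _).trans
        ((congrArg (a.hom ≫ ·) sqQ'.w).trans (Category.assoc _ _ _).symm)

end Groth.Agent.S10109
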