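import Groth.Statements.S10286
-- import your own Groth.Agent.* helpers here

set_option autoImplicit false
universe u
open CategoryTheory CategoryTheory.Limits AlgebraicGeometry
open AlgSp

namespace Groth.Agent.S10286

/-- The existence and uniqueness parts of the valuative criterion are stable under base change. -/
theorem result {S : Scheme.{u}} {X Y Z X' : AlgSp.Space S} (f : X ⟶ Y) (g : Z ⟶ Y)
    (fst : X' ⟶ X) (f' : X' ⟶ Z) (sq : IsPullback fst.hom f'.hom f.hom g.hom) :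
    (AlgSp.ExistVC f.hom → AlgSp.ExistVC f'.hom) ∧ (AlgSp.UniqVC f.hom → AlgSp.UniqVC f'.hom) := by
  have wit : ∀ sq' : ValSq f'.hom, (sq'.top ≫ fst.hom) ≫ f.hom = (yon S).map sq'.j ≫ sq'.bot ≫ g.hom := by
    intro sq'
    rw [Category.assoc, sq.w, reassoc_of% sq'.comm]
  refine ⟨fun h sq' => ?_, fun h sq' => ?_⟩
  · obtain ⟨e, m, h₁, h₂⟩ :=
      h ⟨sq'.A, sq'.K, sq'.str, sq'.top ≫ fst.hom, sq'.bot ≫ g.hom, wit sq'⟩
    let e' : sq'.DomExt := ⟨e.A', e.K', e.φ, e.ψ, e.comm, e.isLocalHom⟩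
    refine ⟨e', sq.lift m _ (h₂.trans (Category.assoc _ _ _).symm), sq.hom_ext ?_ ?_, sq.lift_snd _ _ _⟩
    · rw [Category.assoc, sq.lift_fst, Category.assoc]
      exact h₁
    · rw [Category.assoc, sq.lift_snd, Category.assoc, sq'.comm]
      simp only [← Functor.map_comp_assoc]
      congr 2
      ext : 1
      change Spec.map _ ≫ Spec.map _ = Spec.map _ ≫ Spec.map _
      rw [← Spec.map_comp, ← Spec.map_comp, ← CommRingCat.ofHom_comp, ← CommRingCat.ofHom_comp,
        e.comm]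
  · intro l l' h₁ h₂ h₁' h₂'
    refine sq.hom_ext (h ⟨sq'.A, sq'.K, sq'.str, sq'.top ≫ fst.hom, sq'.bot ≫ g.hom, wit sq'⟩
      _ _ ?_ ?_ ?_ ?_) (h₂.trans h₂'.symm)
    · exact (Category.assoc _ _ _).symm.trans (congrArg (· ≫ fst.hom) h₁)
    · exact (Category.assoc _ _ _).trans ((congrArg (l ≫ ·) sq.w).trans
        ((Category.assoc _ _ _).symm.trans (congrArg (· ≫ g.hom) h₂)))
    · exact (Category.assoc _ _ _).symm.trans (congrArg (· ≫ fst.hom) h₁')
    · exact (Category.assoc _ _ _).trans ((congrArg (l' ≫ ·) sq.w).trans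
        ((Category.assoc _ _ _).symm.trans (congrArg (· ≫ g.hom) h₂')))

end Groth.Agent.S10286
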