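import Groth.Statements.S12788
import Groth.Agent.Lib.AlgStack.Diag

set_option autoImplicit false
open CategoryTheory AlgebraicGeometry
universe u
open AlgSt

namespace Groth.Agent.S12788

/-- (3) ⇔ (7): for `𝒳` fibred in groupoids over `(Sch/S)`, every 1-morphism `(Sch/U) ⟶ 𝒳` from a scheme
is representable by algebraic spaces if and only if every 1-morphism `𝒰 ⟶ 𝒳` from a category fibred
in groupoids representable by an algebraic space is representable by algebraic spaces. (The
categories `𝒰` range over categories over `(Sch/S)` with objects and morphisms in the universes of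
the slice categories `(Sch/U)`.) -/
theorem result {S : Scheme.{u}} {𝒳 : AlgSt.Cat S} (h𝒳 : FibCat.IsFibGrpd 𝒳.p) :
    (∀ (U : Over S) (x : FibCat.overCat U ⥤ᵇ 𝒳), AlgSt.RepByAlgSp1 x) ↔
      ∀ (𝒰 : AlgSt.Cat S), FibCat.IsFibGrpd 𝒰.p → AlgSt.RepByAlgSp 𝒰 → ∀ (x : 𝒰 ⥤ᵇ 𝒳), AlgSt.RepByAlgSp1 x := by
  open Groth.Agent.Lib.AlgStack in
  constructor
  · intro h 𝒰 _ hrep x V y
    obtain ⟨F, e, he⟩ := hrep
    have h1 := Space.repByAlgSp_fp_ofSp (Yoneda.isFibGrpd_overCat V) h𝒳 (h V y) (BasedFunctor.comp e x)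
    have : (BasedFunctor.id 𝒳).toFunctor.Full := inferInstanceAs (𝟭 𝒳.obj).Full
    have : (BasedFunctor.id 𝒳).toFunctor.Faithful := inferInstanceAs (𝟭 𝒳.obj).Faithful
    have h2 := FibProd.isEquivOver_fpMap (F := x) (G := y) (F' := BasedFunctor.comp e x) (G' := y)
      e (BasedFunctor.id _) (BasedFunctor.id 𝒳) (Iso.refl _) (Iso.refl _) he BasedBasic.isEquivOver_id
    exact Rep.repByAlgSp_of_equiv (BasedBasic.IsEquivOver.comp h2 (FibProd.isEquivOver_swap x y)) h1
  · intro h U x
    exact h (FibCat.overCat U) (Yoneda.isFibGrpd_overCat U) (Diag.repByAlgSp_overCat U) x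

end Groth.Agent.S12788
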