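import Groth.Statements.S10127
import Groth.Agent.Lib.AlgSpDecent.DecentSection

set_option autoImplicit false
universe u
open CategoryTheory CategoryTheory.Limits AlgebraicGeometry MonoidalCategory MonObj
open AlgSp

namespace Groth.Agent.S10127

open Groth.Agent.Lib Groth.Agent.Lib.AlgSpace
open MonoidalCategory CartesianMonoidalCategory

/-- A group algebraic space over a field `k` which is a decent algebraic space is separated. (The
published situation allows any base scheme `S` with `k` a field over `S`; this row takes `S = Spec
k`.) -/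
theorem result (k : Type u) [Field k]
    (G : Over ((AlgSp.yon (Spec (CommRingCat.of k))).obj (Over.mk (𝟙 _)))) [GrpObj G]
    (hG : AlgSp.IsAlgSpace G.left) (hd : AlgSp.IsDecent G.left) : AlgSp.IsSeparatedSp G.left := by
  let e := (MonObj.one : 𝟙_ (Over _) ⟶ G).left
  have hes : e ≫ G.hom = 𝟙 _ := Over.w (MonObj.one : 𝟙_ (Over _) ⟶ G)
  have he : RepWith @IsClosedImmersion e :=
    AlgSpDecent.DecentSection.repWith_isClosedImmersion_section hG hd G.hom e hes
  refine AlgSpMor.Perm.repWith_diag_of_mor _ G.hom ?_ (AlgSpDecent.DecentSection.repWith_diag_yon_field _)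
  let one : G ⟶ G := CartesianMonoidalCategory.toUnit G ≫ MonObj.one
  refine AlgSpDecent.DecentSection.repWith_diagonal_of_shear (e := e) (t := G.hom)
    (fst := (CartesianMonoidalCategory.fst G G).left)
    (δ := (CartesianMonoidalCategory.lift one (𝟙 G)).left) ?_
    (AlgSpMor.OverField.isPullback_mul G) hes ?_ ?_ ?_ he
  · exact IsPullback.of_hasPullback G.hom G.hom
  · rw [← Over.comp_left, CartesianMonoidalCategory.lift_fst]
    rfl
  · rw [← Over.comp_left, CartesianMonoidalCategory.lift_snd]
    rfl
  · rw [← Over.comp_left]
    exact congrArg (fun φ : G ⟶ G => φ.left) (one_mul (𝟙 G))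

end Groth.Agent.S10127
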