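import Groth.Statements.S10423
import Groth.Agent.Lib.AlgSpDecent.FiniteFibre
-- import your own Groth.Agent.* helpers here

set_option autoImplicit false
universe u
open CategoryTheory CategoryTheory.Limits AlgebraicGeometry Topology TopologicalSpace
open AlgSp

namespace Groth.Agent.S10423

open Groth.Agent.Lib.AlgSpDecent

/-- Schemes are decent. -/
theorem isDecent_yon_obj {S : Scheme.{u}} (T : Over S) :
    AlgSp.IsDecent ((AlgSp.yon S).obj T) := by
  intro x
  obtain ⟨t, rfl⟩ := (Points.schemeEquiv T).surjective x
  refine ⟨FieldPt.ofPt (𝟙 _) t, rfl, ?_, ?_⟩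
  · rw [FieldPt.toHom_ofPt, Category.comp_id]; exact Decent.mono_fromSpecResidueField t
  · rw [FieldPt.toHom_ofPt, Category.comp_id]; exact Decent.repWith_qc_fromSpecResidueField t

/-- A morphism of algebraic spaces over a scheme S which is representable, or which is quasi-separated,
is decent (all its base changes to schemes are decent algebraic spaces). The implications through
reasonable and very reasonable morphisms are not part of this row. -/
theorem result {S : Scheme.{u}} {X Y : AlgSp.Space S} (f : X ⟶ Y) :
    (AlgSp.Representable f.hom → AlgSp.IsDecentMor f.hom) ∧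
      (AlgSp.IsQuasiSeparatedMor f.hom → AlgSp.IsDecentMor f.hom) := by
  refine ⟨fun hf T F' g fst snd sq => ?_, fun hf =>
    QS.isDecentMor_of_isQuasiSeparatedMor X.property Y.property hf⟩
  exact Decent.isDecent_of_representable
    (Groth.Agent.Lib.AlgSpace.representable_baseChange sq hf)
    ((fun x => isDecent_yon_obj T x))

end Groth.Agent.S10423
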