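import Groth.Statements.S15009
import Groth.Agent.Lib.SemiLocalDimOne.KrullAkizuki
import Mathlib
-- import your own Groth.Agent.* helpers here

set_option autoImplicit false
universe u
open TFCurv
set_option maxHeartbeats 1200000

namespace Groth.Agent.S15009


theorem residue_surj {O C : Type*} [CommRing O] [IsLocalRing O] [IsAlgClosed (IsLocalRing.ResidueField O)]
    [CommRing C] [Algebra O C] [Algebra.IsIntegral O C] (P : Ideal C) [P.IsPrime]
    (hP : P.comap (algebraMap O C) = IsLocalRing.maximalIdeal O) (c : C) : ∃ a : O, c - algebraMap O C a ∈ P := by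
  let ψ : IsLocalRing.ResidueField O →+* C ⧸ P := Ideal.Quotient.lift _ ((Ideal.Quotient.mk P).comp (algebraMap O C))
    (fun a ha => Ideal.Quotient.eq_zero_iff_mem.mpr (hP.ge ha))
  letI := ψ.toAlgebra
  obtain ⟨p, hp, hpc⟩ := Algebra.IsIntegral.isIntegral (R := O) c
  have hint : IsIntegral (IsLocalRing.ResidueField O) (Ideal.Quotient.mk P c) := by
    refine ⟨p.map (IsLocalRing.residue O), hp.map _, ?_⟩
    rw [Polynomial.eval₂_map]
    show Polynomial.eval₂ ((Ideal.Quotient.mk P).comp (algebraMap O C)) _ p = 0
    rw [← Polynomial.hom_eval₂, hpc, map_zero]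
  obtain ⟨r, hr⟩ := minpoly.mem_range_of_degree_eq_one _ _ (IsAlgClosed.degree_eq_one_of_irreducible _ (minpoly.irreducible hint))
  obtain ⟨a, rfl⟩ := IsLocalRing.residue_surjective r
  exact ⟨a, Ideal.Quotient.eq.mp hr.symm⟩

set_option maxHeartbeats 800000 in
theorem exists_det_unit {O C : Type*} [CommRing O] [IsLocalRing O] [IsAlgClosed (IsLocalRing.ResidueField O)]
    [CommRing C] [Algebra O C] [Algebra.IsIntegral O C] [Finite (MaximalSpectrum C)] {N r : ℕ}
    (A : Matrix (Fin N) (Fin r) C) (B : Matrix (Fin r) (Fin N) C) (hBA : B * A = 1) :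
    ∃ c : Matrix (Fin r) (Fin N) O, IsUnit ((c.map (algebraMap O C)) * A).det := by
  classical
  have := Fintype.ofFinite (MaximalSpectrum C)
  have hP : ∀ P : MaximalSpectrum C, P.asIdeal.comap (algebraMap O C) = IsLocalRing.maximalIdeal O := fun P =>
    haveI := P.isMaximal
    IsLocalRing.eq_maximalIdeal (Ideal.isMaximal_comap_of_isIntegral_of_isMaximal _)
  have hs : ∀ (P : MaximalSpectrum C) (z : C), ∃ a : O, z - algebraMap O C a ∈ P.asIdeal := fun P z =>
    haveI := P.isMaximal.isPrime
    residue_surj P.asIdeal (hP P) z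
  choose a ha using hs
  -- reduction mod `P` of a matrix product
  have key : ∀ (P : MaximalSpectrum C) (c : Matrix (Fin r) (Fin N) O),
      ((c.map (algebraMap O C)) * A).det - algebraMap O C (c * A.map (a P)).det ∈ P.asIdeal := by
    intro P c
    rw [← Ideal.Quotient.eq, RingHom.map_det, RingHom.map_det, RingHom.map_det, RingHom.mapMatrix_apply,
      RingHom.mapMatrix_apply, RingHom.mapMatrix_apply, Matrix.map_mul, Matrix.map_mul, Matrix.map_mul]
    congr 2
    ext t s
    exact Ideal.Quotient.eq.mpr (ha P (A t s))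
  have hB : ∀ P : MaximalSpectrum C, ((B.map (a P)) * A.map (a P)).det ∉ IsLocalRing.maximalIdeal O := by
    intro P hmem
    rw [← hP P, Ideal.mem_comap, ← Ideal.Quotient.eq_zero_iff_mem, RingHom.map_det, RingHom.map_det,
      RingHom.mapMatrix_apply, RingHom.mapMatrix_apply, Matrix.map_mul, Matrix.map_mul] at hmem
    rw [show (((B.map (a P)).map (algebraMap O C)).map (Ideal.Quotient.mk P.asIdeal)) = B.map (Ideal.Quotient.mk P.asIdeal) from
        Matrix.ext fun i j => (Ideal.Quotient.eq.mpr (ha P (B i j))).symm,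
      show (((A.map (a P)).map (algebraMap O C)).map (Ideal.Quotient.mk P.asIdeal)) = A.map (Ideal.Quotient.mk P.asIdeal) from
        Matrix.ext fun i j => (Ideal.Quotient.eq.mpr (ha P (A i j))).symm,
      ← Matrix.map_mul, hBA, Matrix.map_one _ (map_zero _) (map_one _), Matrix.det_one] at hmem
    haveI := P.isMaximal
    exact one_ne_zero hmem
  let k := IsLocalRing.ResidueField O
  let Q : MaximalSpectrum C → MvPolynomial (Fin r × Fin N) k := fun P =>
    ((Matrix.of fun s t => MvPolynomial.X (s, t)) * (A.map (a P)).map (fun x => MvPolynomial.C (IsLocalRing.residue O x))).det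
  have hQ : ∀ (P : MaximalSpectrum C) (c : Matrix (Fin r) (Fin N) O),
      MvPolynomial.eval (fun p : Fin r × Fin N => IsLocalRing.residue O (c p.1 p.2)) (Q P) =
        IsLocalRing.residue O (c * A.map (a P)).det := by
    intro P c
    show MvPolynomial.eval _ (Matrix.det _) = _
    refine (RingHom.map_det _ _).trans (Eq.trans ?_ (RingHom.map_det _ _).symm)
    congr 1
    ext s t
    show MvPolynomial.eval _ ((_ * _ : Matrix (Fin r) (Fin r) (MvPolynomial (Fin r × Fin N) k)) s t) = IsLocalRing.residue O ((c * A.map (a P)) s t)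
    erw [Matrix.mul_apply, Matrix.mul_apply]
    rw [map_sum, map_sum]
    refine Finset.sum_congr rfl fun x _ => ?_
    rw [map_mul, map_mul]
    congr 1
    · exact MvPolynomial.eval_X _
    · exact MvPolynomial.eval_C _
  haveI : Infinite k := IsAlgClosed.instInfinite
  have hne : ∏ P, Q P ≠ 0 := by
    refine Finset.prod_ne_zero_iff.mpr fun P _ h0 => hB P ?_
    have := hQ P (B.map (a P))
    rw [h0, map_zero] at this
    exact (IsLocalRing.residue_eq_zero_iff _).mp this.symm
  obtain ⟨x, hx⟩ : ∃ x, MvPolynomial.eval x (∏ P, Q P) ≠ 0 := by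
    by_contra h
    push_neg at h
    exact hne (MvPolynomial.funext fun x => by rw [h x, map_zero])
  choose c hc using fun p : Fin r × Fin N => IsLocalRing.residue_surjective (R := O) (x p)
  refine ⟨Matrix.of fun s t => c (s, t), ?_⟩
  by_contra hu
  obtain ⟨P, hPmax, hmem⟩ := exists_max_ideal_of_mem_nonunits (hu : _ ∈ nonunits C)
  apply hx
  rw [map_prod]
  refine Finset.prod_eq_zero (Finset.mem_univ (⟨P, hPmax⟩ : MaximalSpectrum C)) ?_
  have hxc : x = fun p : Fin r × Fin N => IsLocalRing.residue O ((Matrix.of fun s t => c (s, t)) p.1 p.2) :=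
    funext fun p => (hc p).symm
  rw [hxc, hQ, IsLocalRing.residue_eq_zero_iff, ← hP ⟨P, hPmax⟩, Ideal.mem_comap]
  have := sub_mem hmem (key ⟨P, hPmax⟩ (Matrix.of fun s t => c (s, t)))
  rwa [sub_sub_cancel] at this


/-- Let O be a one-dimensional Noetherian local domain with algebraically closed residue field whose
integral closure O~ in its fraction field K is a finite O-module. A finitely generated torsion-free
O-module M of rank n (that is, K ⊗ M has K-dimension n) is isomorphic to an O-submodule M' of K^n
with O^n ⊆ M' ⊆ O~^n. -/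
theorem result (O : Type u) [CommRing O] [IsDomain O] [IsNoetherianRing O] [IsLocalRing O] (hdim : ringKrullDim O = 1) [IsAlgClosed (IsLocalRing.ResidueField O)] (K : Type u) [Field K] [Algebra O K] [IsFractionRing O K] (hfin : Module.Finite O ↥(integralClosure O K)) (M : Type u) [AddCommGroup M] [Module O M] [Module.Finite O M] [NoZeroSMulDivisors O M] (n : ℕ) (hn : Module.finrank K (TensorProduct O K M) = n) : ∃ M' : Submodule O (Fin n → K), Submodule.pi Set.univ (fun _ : Fin n => (1 : Submodule O K)) ≤ M' ∧ M' ≤ Submodule.pi Set.univ (fun _ : Fin n => (Subalgebra.toSubmodule (integralClosure O K))) ∧ Nonempty (M ≃ₗ[O] ↥M') := by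
  classical
  haveI : Ring.KrullDimLE 1 O := Ring.krullDimLE_iff.mpr (le_of_eq hdim)
  let C := integralClosure O K
  haveI : Module.Finite O C := hfin
  haveI : IsDedekindDomain C := Groth.Agent.Lib.SemiLocalDimOne.KrullAkizuki.isDedekindDomain_integralClosure
  haveI hfinmax : Finite (MaximalSpectrum C) := Groth.Agent.Lib.SemiLocalDimOne.KrullAkizuki.finite_maximalSpectrum_subalgebra C
  haveI : IsPrincipalIdealRing C := IsPrincipalIdealRing.of_finite_maximals
    ((Set.finite_range (fun P : MaximalSpectrum C => P.asIdeal)).subset fun I hI => ⟨⟨I, hI⟩, rfl⟩)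
  set ι : M →ₗ[O] TensorProduct O K M := TensorProduct.mk O K M 1 with hι
  haveI : IsLocalizedModule (nonZeroDivisors O) ι :=
    (isLocalizedModule_iff_isBaseChange (nonZeroDivisors O) K _).mpr (TensorProduct.isBaseChange O M K)
  have hιinj : Function.Injective ι := by
    rw [injective_iff_map_eq_zero]
    intro m hm
    obtain ⟨⟨s, hs⟩, hsm⟩ := (IsLocalizedModule.eq_zero_iff (nonZeroDivisors O) ι).mp hm
    exact (smul_eq_zero.mp hsm).resolve_left (nonZeroDivisors.ne_zero hs)
  obtain ⟨N, g, hg⟩ := Module.Finite.exists_fin (R := O) (M := M)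
  set L : Submodule C (TensorProduct O K M) := Submodule.span C (Set.range (ι ∘ g)) with hL
  haveI : Module.Finite C L := Module.Finite.iff_fg.mpr (Submodule.fg_span (Set.finite_range _))
  haveI : NoZeroSMulDivisors C L := ⟨fun {c v} h => by
    have h' : (c : K) • (v : TensorProduct O K M) = 0 := congrArg Subtype.val h
    rcases smul_eq_zero.mp h' with h1 | h1
    · exact Or.inl (Subtype.ext h1)
    · exact Or.inr (Subtype.ext h1)⟩
  haveI : Module.IsTorsionFree C L := ⟨fun c hc x y h => Subtype.ext (smul_right_injective (TensorProduct O K M)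
    (fun h0 : (c : K) = 0 => hc.ne_zero (Subtype.ext h0)) (congrArg Subtype.val h))⟩
  obtain ⟨r, ⟨b⟩⟩ : ∃ r, Nonempty (Module.Basis (Fin r) C L) :=
    ⟨_, ⟨(Module.basisOfFiniteTypeTorsionFree' (R := C) (M := L)).2⟩⟩
  set gL : Fin N → L := fun t => ⟨ι (g t), Submodule.subset_span ⟨t, rfl⟩⟩ with hgL
  have hgspan : Submodule.span C (Set.range gL) = ⊤ := by
    refine Submodule.map_injective_of_injective L.injective_subtype ?_
    rw [Submodule.map_span, ← Set.range_comp, Submodule.map_top, Submodule.range_subtype]
    rfl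
  let A : Matrix (Fin N) (Fin r) C := Matrix.of fun t s => b.repr (gL t) s
  choose B hB using fun s => (Submodule.mem_span_range_iff_exists_fun C).mp (hgspan ▸ Submodule.mem_top (x := b s))
  have hBA : (Matrix.of fun s t => B s t) * A = 1 := by
    ext s s'
    have h : b.repr (∑ t, B s t • gL t) s' = b.repr (b s) s' := by rw [hB s]
    simp only [map_sum, map_smul, Finsupp.finsetSum_apply, Finsupp.smul_apply, smul_eq_mul, b.repr_self] at h
    rw [Matrix.mul_apply, Matrix.one_apply]
    simp only [A, Matrix.of_apply]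
    rw [h, Finsupp.single_apply]
  haveI : Algebra.IsIntegral O C := Algebra.IsIntegral.of_finite O C
  obtain ⟨c, hc⟩ := exists_det_unit (O := O) A _ hBA
  set E : Matrix (Fin r) (Fin r) C := c.map (algebraMap O C) * A with hE
  set e : Fin r → M := fun s => ∑ t, c s t • g t with he
  set eL : Fin r → L := fun s => ∑ t, c s t • gL t with heL
  have heLι : ∀ s, (eL s : TensorProduct O K M) = ι (e s) := fun s => by
    simp [heL, he, hgL, map_sum]
  have hrepr : ∀ x : Fin r → C, ∀ s', b.repr (∑ s, x s • eL s) s' = Matrix.vecMul x E s' := by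
    intro x s'
    simp only [heL, hE, Matrix.vecMul, dotProduct, Matrix.mul_apply, map_sum, map_smul,
      ← algebraMap_smul C (c _ _) (gL _), Finsupp.finsetSum_apply, Finsupp.smul_apply, smul_eq_mul, Finset.mul_sum]
    simp [A, mul_assoc]
  have hspan : ∀ v : L, ∃ x : Fin r → C, ∑ s, x s • eL s = v := by
    intro v
    refine ⟨Matrix.vecMul (fun s => b.repr v s) E⁻¹, b.repr.injective (Finsupp.ext fun s' => ?_)⟩
    rw [hrepr, Matrix.vecMul_vecMul, Matrix.nonsing_inv_mul _ hc, Matrix.vecMul_one]
  have hliO : LinearIndependent O (fun s => ι (e s)) := by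
    rw [Fintype.linearIndependent_iff]
    intro x hx
    have h1 : ∑ s, (fun s => algebraMap O C (x s)) s • eL s = 0 := by
      apply Subtype.ext
      simp only [algebraMap_smul, Submodule.coe_sum, SetLike.val_smul_of_tower, heLι, Submodule.coe_zero]
      exact hx
    have h2 : Matrix.vecMul (fun s => algebraMap O C (x s)) E = 0 := funext fun s' => by
      rw [← hrepr, h1]; simp
    have h3 := congrArg (fun y => Matrix.vecMul y E⁻¹) h2
    simp only [Matrix.vecMul_vecMul, Matrix.mul_nonsing_inv _ hc, Matrix.vecMul_one, Matrix.zero_vecMul] at h3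
    intro s
    have h4 := congrArg (fun z : C => (z : K)) (congrFun h3 s)
    exact (map_eq_zero_iff _ (IsFractionRing.injective O K)).mp h4
  have hliK : LinearIndependent K (fun s => ι (e s)) := (LinearIndependent.iff_fractionRing O K).mp hliO
  have hιL : ∀ m, ι m ∈ L := by
    intro m
    have hm : m ∈ Submodule.span O (Set.range g) := hg ▸ Submodule.mem_top
    have : Submodule.span O (Set.range g) ≤ Submodule.comap ι (L.restrictScalars O) := by
      rw [Submodule.span_le]
      rintro _ ⟨t, rfl⟩
      exact Submodule.subset_span ⟨t, rfl⟩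
    exact this hm
  have htop : ⊤ ≤ Submodule.span K (Set.range fun s => ι (e s)) := by
    rintro z -
    induction z using TensorProduct.induction_on with
    | zero => exact zero_mem _
    | add u v hu hv => exact add_mem hu hv
    | tmul a m =>
      obtain ⟨x, hx⟩ := hspan ⟨ι m, hιL m⟩
      have : (a ⊗ₜ[O] m : TensorProduct O K M) = a • ι m := by simp [hι, TensorProduct.smul_tmul']
      rw [this, ← show ((∑ s, x s • eL s : L) : TensorProduct O K M) = ι m from congrArg Subtype.val hx]
      refine Submodule.smul_mem _ a ?_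
      simp only [Submodule.coe_sum, Submodule.coe_smul, heLι]
      exact Submodule.sum_mem _ fun s _ => Submodule.smul_mem _ (x s : K) (Submodule.subset_span ⟨s, rfl⟩)
  set eK : Module.Basis (Fin r) K (TensorProduct O K M) := Module.Basis.mk hliK htop with heK
  obtain rfl : r = n := by rw [← hn, Module.finrank_eq_card_basis eK, Fintype.card_fin]
  let T : M →ₗ[O] (Fin r → K) := (eK.equivFun.restrictScalars O).toLinearMap ∘ₗ ι
  have hTinj : Function.Injective T := eK.equivFun.injective.comp hιinj
  refine ⟨LinearMap.range T, ?_, ?_, ⟨LinearEquiv.ofInjective T hTinj⟩⟩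
  · intro v hv
    rw [Submodule.mem_pi] at hv
    choose a ha using fun i => Submodule.mem_one.mp (hv i (Set.mem_univ i))
    refine ⟨∑ s, a s • e s, ?_⟩
    funext i
    have hek : ∀ s, eK.equivFun (ι (e s)) = Pi.single s 1 := fun s => by
      rw [show ι (e s) = eK s from (Module.Basis.mk_apply hliK htop s).symm]
      funext j
      simp [Finsupp.single_apply, Pi.single_apply, eq_comm]
    simp only [T, LinearMap.coe_comp, Function.comp_apply, LinearEquiv.coe_coe, LinearEquiv.restrictScalars_apply, map_sum, map_smul,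
      ← algebraMap_smul K (a _) (ι _), hek]
    rw [← ha i]
    simp [Pi.single_apply, Algebra.smul_def]
  · rintro _ ⟨m, rfl⟩
    rw [Submodule.mem_pi]
    intro i _
    obtain ⟨x, hx⟩ := hspan ⟨ι m, hιL m⟩
    have hx' : ι m = ∑ s, (x s : K) • eK s := by
      rw [← show ((∑ s, x s • eL s : L) : TensorProduct O K M) = ι m from congrArg Subtype.val hx]
      simp only [Submodule.coe_sum, Submodule.coe_smul, heLι, heK, Module.Basis.mk_apply]
      rfl
    show eK.equivFun (ι m) i ∈ _
    rw [hx', Module.Basis.equivFun_apply, eK.repr_sum_self]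
    exact (x i).2

end Groth.Agent.S15009
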