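import Groth.Statements.S15013
import Mathlib

set_option autoImplicit false
set_option backward.isDefEq.respectTransparency false
universe u
open CategoryTheory
open TFCurv

namespace Groth.Agent.S15013

open CategoryTheory

/-- A finitely generated torsion-free module over a domain embeds into a free one. -/
theorem exists_injective_free {O M : Type u} [CommRing O] [IsDomain O] [AddCommGroup M] [Module O M]
    [Module.Finite O M] [NoZeroSMulDivisors O M] :
    ∃ (F : Submodule O M) (f : M →ₗ[O] F), Module.Free O F ∧ Function.Injective f := by
  classical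
  obtain ⟨s, hs⟩ := Module.Finite.fg_top (R := O) (M := M)
  have hne : (s.powerset.filter fun t : Finset M => LinearIndepOn O id (t : Set M)).Nonempty :=
    ⟨∅, by simp⟩
  obtain ⟨t, ht, hmax⟩ := Finset.exists_max_image _ Finset.card hne
  rw [Finset.mem_filter, Finset.mem_powerset] at ht
  set F := Submodule.span O (t : Set M)
  have hc : ∀ g ∈ s, ∃ c : O, c ≠ 0 ∧ c • g ∈ F := by
    intro g hg
    by_cases hgt : g ∈ t
    · exact ⟨1, one_ne_zero, by rw [one_smul]; exact Submodule.subset_span hgt⟩
    by_contra hno
    push Not at hno
    have hli : LinearIndepOn O id ((insert g t : Finset M) : Set M) := by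
      rw [linearIndepOn_finset_iff]
      intro a ha
      rw [Finset.sum_insert hgt] at ha
      simp only [id] at ha
      have hg0 : a g = 0 := by
        by_contra hag
        refine hno (a g) hag ?_
        rw [eq_neg_of_add_eq_zero_left ha]
        exact neg_mem (sum_mem fun i hi => Submodule.smul_mem _ _ (Submodule.subset_span hi))
      rw [hg0, zero_smul, zero_add] at ha
      intro i hi
      rcases Finset.mem_insert.mp hi with rfl | hi
      · exact hg0
      · exact linearIndepOn_finset_iff.mp ht.2 a (by simpa using ha) i hi
    have := hmax (insert g t) (Finset.mem_filter.mpr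
      ⟨Finset.mem_powerset.mpr (Finset.insert_subset hg ht.1), hli⟩)
    rw [Finset.card_insert_of_notMem hgt] at this
    omega
  choose! c hc0 hcF using hc
  let d := ∏ g ∈ s, c g
  have hd : d ≠ 0 := Finset.prod_ne_zero_iff.mpr hc0
  have hmem : ∀ m : M, d • m ∈ F := by
    intro m
    have hm : m ∈ Submodule.span O (s : Set M) := hs ▸ Submodule.mem_top
    induction hm using Submodule.span_induction with
    | mem g hg =>
      obtain ⟨e, he⟩ := Finset.dvd_prod_of_mem c hg
      rw [show d = e * c g from he.trans (mul_comm _ _), mul_smul]
      exact F.smul_mem e (hcF g hg)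
    | zero => rw [smul_zero]; exact zero_mem F
    | add x y _ _ hx hy => rw [smul_add]; exact add_mem hx hy
    | smul r x _ hx => rw [smul_comm]; exact F.smul_mem r hx
  refine ⟨F, LinearMap.codRestrict F (LinearMap.lsmul O M d) hmem, ?_, fun x y h =>
    smul_right_injective M hd (congrArg Subtype.val h)⟩
  have hb := Module.Basis.span (linearIndepOn_id_range_iff Subtype.val_injective |>.mp
    (by rw [Subtype.range_coe_subtype]; exact ht.2) : LinearIndependent O (fun x : (t : Set M) => (x : M)))
  rw [Subtype.range_coe_subtype] at hb
  exact Module.Free.of_basis hb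


/-- Let O be a one-dimensional Noetherian local domain with algebraically closed residue field whose
integral closure O~ in its fraction field K is a finite O-module, and let w be a canonical ideal of
O, taken here as a nonzero finitely generated O-submodule of K whose injective dimension as an
O-module is at most one. Then Ext^i_O(M, w) vanishes for all i ≥ 1 and every finitely generated
torsion-free O-module M. -/
theorem result (O : Type u) [CommRing O] [IsDomain O] [IsNoetherianRing O] [IsLocalRing O] (hdim : ringKrullDim O = 1) [IsAlgClosed (IsLocalRing.ResidueField O)] (K : Type u) [Field K] [Algebra O K] [IsFractionRing O K] (hfin : Module.Finite O ↥(integralClosure O K)) (ω : Submodule O K) (hω0 : ω ≠ ⊥) (hωfg : ω.FG) (hωinj : HasInjectiveDimensionLT (ModuleCat.of O ↥ω) 2) (M : Type u) [AddCommGroup M] [Module O M] [Module.Finite O M] [NoZeroSMulDivisors O M] (i : ℕ) (hi : 1 ≤ i) : Subsingleton (Abelian.Ext (ModuleCat.of O M) (ModuleCat.of O ↥ω) i) := by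
  obtain ⟨F, f, hF, hf⟩ := exists_injective_free (O := O) (M := M)
  let S : ShortComplex (ModuleCat.{u} O) := ShortComplex.mk (ModuleCat.ofHom f)
    (ModuleCat.ofHom f.range.mkQ) (ModuleCat.hom_ext f.range_mkQ_comp)
  have hS : S.ShortExact := {
    exact := (ShortComplex.moduleCat_exact_iff_ker_sub_range _).2 fun x hx => by
      have hx' : f.range.mkQ x = 0 := hx
      rwa [Submodule.mkQ_apply, Submodule.Quotient.mk_eq_zero] at hx'
    mono_f := (ModuleCat.mono_iff_injective _).2 hf
    epi_g := (ModuleCat.epi_iff_surjective _).2 f.range.mkQ_surjective }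
  haveI : Projective (ModuleCat.of O F) := by
    haveI : Module.Projective O F := Module.Projective.of_free
    exact ModuleCat.projective_of_free (Module.Free.chooseBasis O F)
  refine subsingleton_of_forall_eq 0 fun x => ?_
  have h2 : hS.extClass.comp x (show 1 + i = i + 1 by omega) = 0 := by
    haveI := HasInjectiveDimensionLT.subsingleton (ModuleCat.of O ↥ω) 2 (i + 1) (by omega) S.X₃
    exact Subsingleton.elim _ _
  obtain ⟨y, rfl⟩ := Abelian.Ext.contravariant_sequence_exact₁ hS _ x _ h2
  have hy : y = 0 := by
    obtain ⟨j, rfl⟩ : ∃ j, i = j + 1 := ⟨i - 1, by omega⟩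
    exact Abelian.Ext.eq_zero_of_projective (P := ModuleCat.of O F) y
  rw [hy, Abelian.Ext.comp_zero]

end Groth.Agent.S15013
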