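import Groth.Statements.S13598
import Groth.Agent.Lib.Henselian.LocalRing
import Groth.Prelude.Def_Hensel
import Mathlib.RingTheory.LocalRing.RingHom.Basic

set_option autoImplicit false
universe u
open Hensel

namespace Groth.Agent.S13598

/-- For a local ring A, a henselization A ⟶ S of A (S a henselian local ring, the structure map local,
and initial among local homomorphisms from A to henselian local rings) and an ideal I of A inside
the maximal ideal, the quotient S/IS with its induced algebra structure over A/I is a henselization
of A/I. (The local-ring and local-homomorphism instances on the quotients hold automatically; they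
are taken as hypotheses only so that the conclusion can be stated.) -/
theorem result {A S : Type u} [CommRing A] [IsLocalRing A] [CommRing S]
    [IsLocalRing S] [Algebra A S] [IsLocalHom (algebraMap A S)] [Hensel.IsHenselization A S]
    (I : Ideal A) (hI : I ≤ IsLocalRing.maximalIdeal A)
    [IsLocalRing (A ⧸ I)] [IsLocalRing (S ⧸ I.map (algebraMap A S))]
    [IsLocalHom (algebraMap (A ⧸ I) (S ⧸ I.map (algebraMap A S)))] :
    Hensel.IsHenselization (A ⧸ I) (S ⧸ I.map (algebraMap A S)) := by
  have hS := (‹Hensel.IsHenselization A S› : Hensel.IsHenselization A S).henselian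
  refine ⟨Groth.Agent.Lib.Henselian.LocalRing.henselianLocalRing_of_isIntegral S _, fun T _ _ f hf => ?_⟩
  have : IsLocalHom (Ideal.Quotient.mk I) := isLocalHom_of_le_jacobson_bot I
    (hI.trans (IsLocalRing.maximalIdeal_le_jacobson ⊥))
  obtain ⟨g, hg, huniq⟩ := Hensel.IsHenselization.universal (R := A) (S := S) T
    (f.comp (Ideal.Quotient.mk I)) inferInstance
  have hker : I.map (algebraMap A S) ≤ RingHom.ker g := Ideal.map_le_iff_le_comap.mpr fun a ha => by
    show g (algebraMap A S a) = 0
    rw [← RingHom.comp_apply, hg, RingHom.comp_apply, Ideal.Quotient.eq_zero_iff_mem.mpr ha, map_zero]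
  refine ⟨Ideal.Quotient.lift _ g hker, Ideal.Quotient.ringHom_ext (RingHom.ext fun a => ?_), fun g' hg' => ?_⟩
  · exact RingHom.congr_fun hg a
  · refine Ideal.Quotient.ringHom_ext ?_
    rw [huniq (g'.comp (Ideal.Quotient.mk _)) (RingHom.ext fun a => RingHom.congr_fun hg' (Ideal.Quotient.mk I a))]
    rfl

end Groth.Agent.S13598
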