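import Groth.Statements.S4754
import Groth.Agent.Lib.Excellent.QuotientFibre
import Groth.Agent.Lib.Excellent.Transport
import Groth.Agent.Lib.Excellent.Reduced
import Mathlib.RingTheory.AdicCompletion.AsTensorProduct

set_option autoImplicit false
set_option linter.style.haveILetI false
universe u
open EGA4

namespace Groth.Agent.S4754

/-- For the property 'geometrically normal', case of a local ring: if the formal fibres of a Noetherian
local ring A are geometrically normal, then so are the formal fibres of A/I for every proper ideal I
of A. -/
theorem result (A : Type u) [CommRing A] [IsNoetherianRing A] [IsLocalRing A]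
    (hA : EGA4.HasGeomNormalFormalFibres A) (I : Ideal A) [Nontrivial (A ⧸ I)] :
    EGA4.HasGeomNormalFormalFibres (A ⧸ I) := by
  open Groth.Agent.Lib.Excellent in
  exact (FormalFibre.forall_fibre_iff (P := fun R [CommRing R] => EGA4.IsNormalRing R)
    Transport.isoInvariant_isNormalRing (EGA4.Cpl (A ⧸ I))).2 fun K _ _ hK =>
      QuotientFibre.forall_fibre_quotient A I (P := fun R [CommRing R] => EGA4.IsNormalRing R)
        Transport.isoInvariant_isNormalRing
        ((FormalFibre.forall_fibre_iff (P := fun R [CommRing R] => EGA4.IsNormalRing R)
          Transport.isoInvariant_isNormalRing (EGA4.Cpl A)).1 hA) K hK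

end Groth.Agent.S4754
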