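import Groth.Statements.S5754
import Mathlib.RingTheory.Ideal.AssociatedPrime.Localization
import Mathlib.RingTheory.Ideal.AssociatedPrime.Finiteness
import Mathlib.RingTheory.Support


set_option autoImplicit false
universe u
open EGA41 Pointwise

namespace Groth.Agent.S5754

/-- Let A be a Noetherian ring, M a finitely generated A-module and t an element of A which is
M-regular. For every associated prime p of M, every prime ideal minimal among those containing p +
tA is an associated prime of M/tM. -/
theorem result (A : Type u) [CommRing A]
    [IsNoetherianRing A] (M : Type u) [AddCommGroup M] [Module A M] [Module.Finite A M] (t : A)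
    (ht : IsSMulRegular M t) (p : Ideal A) (hp : p ∈ associatedPrimes A M) (q : Ideal A)
    (hq : q ∈ (p ⊔ Ideal.span {t}).minimalPrimes) : q ∈ associatedPrimes A (QuotSMulTop t M) := by
  classical
  let N : Submodule A M := Submodule.torsionBySet A M (p : Set A)
  obtain ⟨hpp, m, hm⟩ := isAssociatedPrime_iff.mp hp
  have hann : Module.annihilator A N = p := by
    apply le_antisymm
    · intro a ha
      have hmN : m ∈ N := by
        rw [Submodule.mem_torsionBySet_iff]
        rintro ⟨b, hb⟩
        have : b ∈ p := hb
        rw [hm, Submodule.mem_colon_singleton] at this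
        simpa using this
      rw [hm, Submodule.mem_colon_singleton, Submodule.mem_bot]
      exact congrArg Subtype.val (Module.mem_annihilator.mp ha ⟨m, hmN⟩)
    · intro a ha
      rw [Module.mem_annihilator]
      rintro ⟨n, hn⟩
      exact Subtype.ext ((Submodule.mem_torsionBySet_iff _ _).mp hn ⟨a, ha⟩)
  let φ : QuotSMulTop t N →ₗ[A] QuotSMulTop t M := QuotSMulTop.map t N.subtype
  have hφ : Function.Injective φ := by
    rw [injective_iff_map_eq_zero]
    intro z hz
    induction z using Submodule.Quotient.induction_on with
    | _ n =>
      obtain ⟨n, hn⟩ := n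
      change Submodule.Quotient.mk n = 0 at hz
      rw [Submodule.Quotient.mk_eq_zero] at hz
      obtain ⟨n', -, rfl⟩ := (Submodule.mem_smul_pointwise_iff_exists _ _ _).mp hz
      rw [Submodule.Quotient.mk_eq_zero]
      have hn' : n' ∈ N := (Submodule.mem_torsionBySet_iff _ _).mpr fun a => ht.right_eq_zero_of_smul
        (by rw [smul_comm]; exact (Submodule.mem_torsionBySet_iff _ _).mp hn a)
      exact (Submodule.mem_smul_pointwise_iff_exists _ _ _).mpr ⟨⟨n', hn'⟩, trivial, rfl⟩
  apply associatedPrimes.subset_of_injective hφ
  have : Module.Finite A N := Module.Finite.of_injective N.subtype N.injective_subtype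
  apply Module.associatedPrimes.minimalPrimes_annihilator_subset_associatedPrimes
  have hqp := hq.1.1
  have key : ∀ P : PrimeSpectrum A, Module.annihilator A (QuotSMulTop t N) ≤ P.asIdeal ↔
      p ⊔ Ideal.span {t} ≤ P.asIdeal := by
    intro P
    rw [← Module.mem_support_iff_of_finite, Module.support_quotSMulTop, Set.mem_inter_iff,
      Module.mem_support_iff_of_finite, hann, sup_le_iff, Ideal.span_singleton_le_iff_mem]
    simp
  exact ⟨⟨hqp, (key ⟨q, hqp⟩).mpr hq.1.2⟩, fun P hP hle => hq.2 ⟨hP.1, (key ⟨P, hP.1⟩).mp hP.2⟩ hle⟩


end Groth.Agent.S5754
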