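import Groth.Statements.S15821
import Groth.Agent.Lib.Koszul.Basic

set_option autoImplicit false
universe u
open CategoryTheory
open Koszul

namespace Groth.Agent.S15821

/-- Let A be a commutative ring and f = (f_1, …, f_r) a sequence in A which is regular in the weak sense
(f_1 is a non-zero-divisor of A and each f_i is a non-zero-divisor of A/(f_1, …, f_{i-1}); no
condition A/(f) ≠ 0). Then the Koszul complex K(f) (iterated mapping-cone model, degrees -r, …, 0)
has vanishing cohomology in all nonzero degrees, i.e. f is Koszul-regular, and its cohomology in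
degree 0 is isomorphic as an A-module to A/(f_1, …, f_r) (existence of an A-linear isomorphism):
K(f) is a free resolution of A/(f). -/
theorem result (A : Type u) [CommRing A] (l : List A)
    (hl : RingTheory.Sequence.IsWeaklyRegular A l) :
    LCI.IsKoszulRegularSeq A l ∧
      Nonempty ((Koszul.koszul A l).homology 0 ≅ ModuleCat.of A (A ⧸ Ideal.ofList l)) := by
  constructor
  · intro i hi
    exact (Groth.Agent.Lib.Koszul.Basic.isZero_of_weaklyRegular (ModuleCat.of A A) l hl i hi).of_iso
      (Groth.Agent.Lib.Koszul.Basic.koszulHomologyIso l i)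
  · obtain ⟨e⟩ := Groth.Agent.Lib.Koszul.Basic.nonempty_homology_zero (ModuleCat.of A A) l
    exact ⟨((Groth.Agent.Lib.Koszul.Basic.koszulHomologyIso l 0).toLinearEquiv.trans
      (e.trans (Submodule.quotEquivOfEq _ _
        (show (Ideal.ofList l • ⊤ : Submodule A A) = Ideal.ofList l from Ideal.mul_top _)))).toModuleIso⟩

end Groth.Agent.S15821
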