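import Groth.Statements.S12212
import Groth.Agent.Lib.HilbertSamuel.Mult
import Mathlib.RingTheory.Ideal.AssociatedPrime.Finiteness
import Mathlib.RingTheory.Localization.Module
import Mathlib.Algebra.Module.LocalizedModule.Exact

set_option autoImplicit false
universe u
open IntMult

namespace Groth.Agent.S12212

set_option linter.style.haveILetI false

open Filter Lib.HilbertSamuel

variable {A : Type u} [CommRing A]

/-- The length of the localisation at `p`. -/
noncomputable abbrev locLen (N : Type u) [AddCommGroup N] [Module A N] (p : PrimeSpectrum A) : ℕ∞ :=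
  Module.length (Localization.AtPrime p.asIdeal) (LocalizedModule p.asIdeal.primeCompl N)

theorem locLen_add {N₁ N₂ N₃ : Type u} [AddCommGroup N₁] [Module A N₁] [AddCommGroup N₂]
    [Module A N₂] [AddCommGroup N₃] [Module A N₃] (f : N₁ →ₗ[A] N₂) (g : N₂ →ₗ[A] N₃)
    (hf : Function.Injective f) (hg : Function.Surjective g) (hfg : Function.Exact f g)
    (p : PrimeSpectrum A) : locLen N₂ p = locLen N₁ p + locLen N₃ p :=
  Module.length_eq_add_of_exact
    (IsLocalizedModule.mapExtendScalars p.asIdeal.primeCompl (LocalizedModule.mkLinearMap _ N₁)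
      (LocalizedModule.mkLinearMap _ N₂) (Localization.AtPrime p.asIdeal) f)
    (IsLocalizedModule.mapExtendScalars p.asIdeal.primeCompl (LocalizedModule.mkLinearMap _ N₂)
      (LocalizedModule.mkLinearMap _ N₃) (Localization.AtPrime p.asIdeal) g)
    (IsLocalizedModule.map_injective _ _ _ f hf) (IsLocalizedModule.map_surjective _ _ _ g hg)
    (IsLocalizedModule.map_exact _ _ _ _ f g hfg)

theorem locLen_congr {N₁ N₂ : Type u} [AddCommGroup N₁] [Module A N₁] [AddCommGroup N₂] [Module A N₂]
    (e : N₁ ≃ₗ[A] N₂) (p : PrimeSpectrum A) : locLen N₁ p = locLen N₂ p :=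
  (IsLocalizedModule.mapEquiv p.asIdeal.primeCompl (LocalizedModule.mkLinearMap _ N₁)
    (LocalizedModule.mkLinearMap _ N₂) (Localization.AtPrime p.asIdeal) e).length_eq

theorem locLen_eq_zero {N : Type u} [AddCommGroup N] [Module A N] {p : PrimeSpectrum A}
    (hp : p ∉ Module.support A N) : locLen N p = 0 := by
  haveI : Subsingleton (LocalizedModule p.asIdeal.primeCompl N) := Module.notMem_support_iff.1 hp
  exact Module.length_eq_zero_iff.2 inferInstance

theorem locLen_quotient_self (q : PrimeSpectrum A) : locLen (A ⧸ q.asIdeal) q = 1 := by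
  rw [Module.length_eq_one_iff, isSimpleModule_iff_toSpanSingleton_surjective]
  refine ⟨?_, fun x hx => ?_⟩
  · by_contra hne
    have : Subsingleton (LocalizedModule q.asIdeal.primeCompl (A ⧸ q.asIdeal)) :=
      not_nontrivial_iff_subsingleton.1 hne
    exact Module.notMem_support_iff.2 this
      (by rw [Module.support_eq_zeroLocus, Ideal.annihilator_quotient]; exact Set.Subset.rfl)
  · intro y
    induction x using LocalizedModule.induction_on with
    | h a s =>
      induction y using LocalizedModule.induction_on with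
      | h b t =>
        obtain ⟨a, rfl⟩ := Ideal.Quotient.mk_surjective a
        obtain ⟨b, rfl⟩ := Ideal.Quotient.mk_surjective b
        have ha : a ∈ q.asIdeal.primeCompl := fun ha => hx (by
          rw [Ideal.Quotient.eq_zero_iff_mem.2 ha, LocalizedModule.zero_mk])
        refine ⟨Localization.mk (b * (s : A)) (⟨a, ha⟩ * t), ?_⟩
        rw [LinearMap.toSpanSingleton_apply, LocalizedModule.mk_smul_mk, LocalizedModule.mk_eq]
        refine ⟨1, ?_⟩
        simp only [one_smul, Submonoid.smul_def, Submonoid.coe_mul]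
        simp only [Algebra.smul_def, Ideal.Quotient.algebraMap_eq, ← map_mul]
        congr 1
        ring

theorem quotient_cons [IsNoetherianRing A] {q p : PrimeSpectrum A} (hlt : q < p) {n : ℕ}
    (hq : Module.supportDim A (A ⧸ q.asIdeal) ≤ n) (hp : ringKrullDim (A ⧸ p.asIdeal) = n) :
    False := by
  rw [← Module.supportDim_quotient_eq_ringKrullDim] at hp
  obtain ⟨l, hl⟩ := (Order.le_krullDim_iff (n := n)).1 (show (n : WithBot ℕ∞) ≤ Order.krullDim _ from hp.ge)
  have hsupp : ∀ (r s : PrimeSpectrum A), s ∈ Module.support A (A ⧸ r.asIdeal) ↔ r ≤ s := by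
    intro r s
    rw [Module.support_eq_zeroLocus, Ideal.annihilator_quotient, PrimeSpectrum.mem_zeroLocus,
      SetLike.coe_subset_coe]
    rfl
  have hl0 : p ≤ (l 0).1 := (hsupp _ _).1 (l 0).2
  let l' : LTSeries (Module.support A (A ⧸ q.asIdeal)) :=
    (l.map (fun r => (⟨r.1, (hsupp _ _).2 (hlt.le.trans ((hsupp _ _).1 r.2))⟩ :
      Module.support A (A ⧸ q.asIdeal))) (fun _ _ h => h)).cons ⟨q, (hsupp _ _).2 le_rfl⟩
        (lt_of_lt_of_le hlt hl0)
  have h2 : l'.length = l.length + 1 := by simp [l', LTSeries.map]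
  have := Dim.length_le_of_supportDim_le hq l'
  lia

/-- Suppose A is a local Noetherian ring with an ideal of definition I, take M to be a finite A-module,
and fix d with dim Supp(M) ≤ d. Then e_I(M, d) equals Σ_p length_{A_p}(M_p) · e_I(A/p, d), where p
ranges over the primes satisfying dim(A/p) = d (all but finitely many summands vanish); here e_I(N,
d) denotes the limit of d! · length_A(N/I^t N)/t^d, and the formal version says: assuming these
limits e_p exist for the A-modules A/p, the limit attached to M is the sum shown. -/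
theorem result (A : Type u) [CommRing A] [IsNoetherianRing A] [IsLocalRing A]
    (I : Ideal A) (hI : I ≤ IsLocalRing.maximalIdeal A ∧ ∃ n : ℕ, IsLocalRing.maximalIdeal A ^ n ≤ I)
    (M : Type u) [AddCommGroup M] [Module A M] [Module.Finite A M]
    (d : ℕ) (hd : Module.supportDim A M ≤ d) (e : PrimeSpectrum A → ℝ)
    (he : ∀ p : PrimeSpectrum A, ringKrullDim (A ⧸ p.asIdeal) = d →
      Filter.Tendsto (fun t : ℕ => (d.factorial : ℝ) *
        ((Module.length A ((A ⧸ p.asIdeal) ⧸ (I ^ t • (⊤ : Submodule A (A ⧸ p.asIdeal))))).toNat : ℝ) / (t : ℝ) ^ d)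
        Filter.atTop (nhds (e p))) :
    Filter.Tendsto (fun t : ℕ => (d.factorial : ℝ) * ((Module.length A (M ⧸ (I ^ t • (⊤ : Submodule A M)))).toNat : ℝ) / (t : ℝ) ^ d) Filter.atTop
      (nhds (∑ᶠ (p : PrimeSpectrum A) (_ : ringKrullDim (A ⧸ p.asIdeal) = d),
        ((Module.length (Localization.AtPrime p.asIdeal) (LocalizedModule p.asIdeal.primeCompl M)).toNat : ℝ) * e p)) := by
  classical
  obtain ⟨hI1, k, hk⟩ := hI
  have hJ := Mult.le_jacobson hI1
  let T : Set (PrimeSpectrum A) := {p | ringKrullDim (A ⧸ p.asIdeal) = d}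
  let term : ∀ (N : Type u) [AddCommGroup N] [Module A N], PrimeSpectrum A → ℝ :=
    fun N _ _ p => ((locLen N p).toNat : ℝ) * e p
  have hd0 : (d.factorial : ℝ) ≠ 0 := by exact_mod_cast d.factorial_ne_zero
  suffices H : ∀ (N : Type u) [AddCommGroup N] [Module A N] [Module.Finite A N],
      Module.supportDim A N ≤ d → (T ∩ Function.support (term N)).Finite ∧ (∀ p ∈ T, locLen N p < ⊤) ∧
        Tendsto (fun t : ℕ => (Basic.chi I N t : ℝ) / (t : ℝ) ^ d) atTop
          (nhds ((∑ᶠ p ∈ T, term N p) / d.factorial)) by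
    have h := (H M hd).2.2.const_mul (d.factorial : ℝ)
    rw [mul_div_cancel₀ _ hd0] at h
    refine h.congr fun t => ?_
    rw [← mul_div_assoc]
    rfl
  intro N _ _ hfinN
  induction hfinN using IsNoetherianRing.induction_on_isQuotientEquivQuotientPrime A with
  | subsingleton N =>
    intro _
    have h0 : ∀ p : PrimeSpectrum A, locLen N p = 0 := fun p => locLen_eq_zero (N := N) (by simp [Module.support_eq_empty])
    have ht : term N = 0 := funext fun p => by simp [term, h0 p]
    refine ⟨by simp [ht], fun p _ => by simp [h0 p], ?_⟩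
    have hc : ∀ t, Basic.chi I N t = 0 := fun t => by simp [Basic.chi, Basic.len]
    simp [hc, ht]
  | quotient N q eq =>
    intro hN
    have hQ : Module.supportDim A (A ⧸ q.asIdeal) ≤ d := by
      rw [← Module.supportDim_eq_of_equiv eq]; exact hN
    have hT : ∀ p ∈ T, p ≠ q → locLen N p = 0 := by
      intro p hp hpq
      rw [locLen_congr eq]
      refine locLen_eq_zero fun hs => ?_
      rw [Module.support_eq_zeroLocus, Ideal.annihilator_quotient, PrimeSpectrum.mem_zeroLocus,
        SetLike.coe_subset_coe] at hs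
      exact quotient_cons (lt_of_le_of_ne hs (Ne.symm hpq)) hQ hp
    have hq1 : locLen N q = 1 := by rw [locLen_congr eq, locLen_quotient_self]
    have hts : ∀ p ∈ T, p ∈ Function.support (term N) → p = q := fun p hp hs =>
      by_contra fun hpq => hs (by simp [term, hT p hp hpq])
    refine ⟨(Set.finite_singleton q).subset fun p hp => hts p hp.1 hp.2, fun p hp => ?_, ?_⟩
    · by_cases hpq : p = q
      · rw [hpq, hq1]; exact ENat.natCast_lt_top 1
      · rw [hT p hp hpq]; exact ENat.natCast_lt_top 0
    have hchi : ∀ t, Basic.chi I N t = Basic.chi I (A ⧸ q.asIdeal) t := fun t => by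
      rw [Basic.chi_quotient (Mult.hyp_of_pow_le hk N) (Mult.hyp_of_pow_le hk _) eq.toLinearMap
        eq.surjective, LinearMap.ker_eq_bot.2 eq.injective, sup_bot_eq]
      rfl
    simp only [hchi]
    by_cases hq : q ∈ T
    · rw [finsum_mem_inter_support_eq (term N) T {q} (Set.ext fun p =>
        ⟨fun hp => ⟨hts p hp.1 hp.2, hp.2⟩, fun hp => ⟨(show p = q from hp.1) ▸ hq, hp.2⟩⟩),
        finsum_mem_singleton]
      simp only [term, hq1, ENat.toNat_one, Nat.cast_one, one_mul]
      refine ((he q hq).div_const (d.factorial : ℝ)).congr fun t => ?_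
      rw [mul_div_assoc, mul_div_cancel_left₀ _ hd0]
      rfl
    · have hz : ∑ᶠ p ∈ T, term N p = 0 := finsum_mem_eq_zero_of_forall_eq_zero fun p hp => by
        by_contra hs
        exact hq (hts p hp hs ▸ hp)
      rw [hz, zero_div]
      haveI : Nontrivial (A ⧸ q.asIdeal) := Ideal.Quotient.nontrivial_iff.2 q.isPrime.ne_top
      obtain ⟨x, hx⟩ := WithBot.ne_bot_iff_exists.1 (Module.supportDim_ne_bot_of_nontrivial A (A ⧸ q.asIdeal))
      rw [← hx] at hQ
      have hQ' : x ≤ (d : ℕ∞) := WithBot.coe_le_coe.1 hQ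
      obtain ⟨n, hn⟩ := ENat.ne_top_iff_exists.1 (ne_top_of_le_ne_top (ENat.natCast_ne_top _) hQ')
      have hnd : n < d := by
        refine lt_of_le_of_ne (by rw [← hn] at hQ'; exact_mod_cast hQ') fun hnd => hq ?_
        show ringKrullDim (A ⧸ q.asIdeal) = d
        rw [← Module.supportDim_quotient_eq_ringKrullDim, ← hx, ← hn, hnd]
        rfl
      exact Limit.tendsto_chi_zero hJ (Mult.hyp_of_pow_le hk _) hnd (by rw [← hx, ← hn]; rfl)
  | exact N₁ N₂ N₃ f g hf hg hfg h₁ h₃ =>
    intro hN
    obtain ⟨hs₁, hl₁, ht₁⟩ := h₁ ((Module.supportDim_le_of_injective f hf).trans hN)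
    obtain ⟨hs₃, hl₃, ht₃⟩ := h₃ ((Module.supportDim_le_of_surjective g hg).trans hN)
    have hl : ∀ p ∈ T, term N₂ p = term N₁ p + term N₃ p := fun p hp => by
      simp only [term, locLen_add f g hf hg hfg p, ENat.toNat_add (hl₁ p hp).ne (hl₃ p hp).ne,
        Nat.cast_add, add_mul]
    refine ⟨(hs₁.union hs₃).subset fun p hp => ?_, fun p hp => ?_, ?_⟩
    · by_contra hn
      simp only [Set.mem_union, Set.mem_inter_iff, hp.1, true_and, Function.mem_support, not_or,
        not_not] at hn
      exact hp.2 (by rw [hl p hp.1, hn.1, hn.2, add_zero])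
    · rw [locLen_add f g hf hg hfg p]
      exact ENat.add_lt_top.2 ⟨hl₁ p hp, hl₃ p hp⟩
    · rw [finsum_mem_congr rfl hl, finsum_mem_add_distrib' hs₁ hs₃, add_div]
      exact Mult.tendsto_add (Mult.hyp_of_pow_le hk N₂) f g hf hg
        (LinearMap.exact_iff.1 hfg).symm ht₁ ht₃

end Groth.Agent.S12212
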