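import Groth.Statements.S6470
import Groth.Agent.H19.IntMult.Additive
import Groth.Agent.H19.IntMult.StalkLen
import Groth.Agent.H19.IntMult.MultOne
import Groth.Agent.Lib.Modules.GenStalk

set_option autoImplicit false
universe u
open CategoryTheory CategoryTheory.Limits AlgebraicGeometry
attribute [local instance] HasDerivedCategory.standard
open IntMult

namespace Groth.Agent.S6470

open Groth.Agent.Lib Groth.Agent.Lib.Cyc Groth.Agent.H19.IntMult

theorem chi_eq_zero {A : Type u} [CommRing A] (M N : Type u) [AddCommGroup M] [Module A M]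
    [AddCommGroup N] [Module A N] [Subsingleton N] : IntMult.chi A M N = 0 := by
  refine finsum_eq_zero_of_forall_eq_zero fun i => ?_
  haveI := ModuleCat.subsingleton_of_isZero
    (Functor.map_isZero ((CategoryTheory.Tor (ModuleCat.{u} A) i).obj (ModuleCat.of A M))
      (ModuleCat.isZero_of_subsingleton (ModuleCat.of A N)))
  rw [Module.length_eq_zero, ENat.toNat_zero, Nat.cast_zero, mul_zero]

theorem chi_ideal_congr {A : Type u} [CommRing A] {P P' Q Q' : Ideal A} (hP : P = P') (hQ : Q = Q') :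
    IntMult.chi A (A ⧸ Q) (A ⧸ P) = IntMult.chi A (A ⧸ Q') (A ⧸ P') := by
  subst hP; subst hQ; rfl

theorem exists_top_finset {A : Type u} [CommRing A] [IsNoetherianRing A] (M : Type u) [AddCommGroup M]
    [Module A M] [Module.Finite A M] {a : ℕ}
    (ha : ∀ q ∈ Module.support A M, ringKrullDim (A ⧸ q.asIdeal) ≤ a) :
    ∃ S : Finset (PrimeSpectrum A), ∀ q, q ∈ S ↔ q ∈ Module.support A M ∧ ringKrullDim (A ⧸ q.asIdeal) = a := by
  have hfin : {q | q ∈ Module.support A M ∧ ringKrullDim (A ⧸ q.asIdeal) = (a : WithBot ℕ∞)}.Finite := by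
    refine ((Module.annihilator A M).finite_minimalPrimes_of_isNoetherianRing A |>.preimage
      (f := PrimeSpectrum.asIdeal) (fun _ _ _ _ h => PrimeSpectrum.ext h)).subset ?_
    rintro q ⟨hq, hdim⟩
    have hmem : ∀ p : PrimeSpectrum A, p ∈ Module.support A M ↔ Module.annihilator A M ≤ p.asIdeal := fun p => by
      rw [Module.support_eq_zeroLocus, PrimeSpectrum.mem_zeroLocus, SetLike.coe_subset_coe]
    refine ⟨⟨q.isPrime, (hmem q).1 hq⟩, fun p ⟨hp, hap⟩ hpq => ?_⟩
    by_contra hne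
    refine S12212.quotient_cons (q := ⟨p, hp⟩) (p := q) (lt_of_le_of_ne (show (⟨p, hp⟩ : PrimeSpectrum A) ≤ q from hpq)
      (fun e => hne (congrArg PrimeSpectrum.asIdeal e).ge)) (n := a) ?_ hdim
    rw [Module.supportDim_quotient_eq_ringKrullDim]
    exact ha ⟨p, hp⟩ ((hmem _).2 hap)
  exact ⟨hfin.toFinset, fun q => hfin.mem_toFinset⟩


/-- Let X be a nonsingular variety of dimension n and F, G coherent O_X-modules. Suppose the support of
F has dimension at most r, the support of G has dimension at most s, and the two supports meet in a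
set whose dimension does not exceed r + s − n. Then [F]_r and [G]_s intersect properly and [F]_r ·
[G]_s = Σ_p (−1)^p [Tor_p^{O_X}(F, G)]_{r+s−n}; the right side is written through stalks: its
coefficient at ζ with δ(ζ) = r + s − n is Σ_p (−1)^p length_{O_{X,ζ}} Tor_p^{O_{X,ζ}}(F_ζ, G_ζ)
(IntMult.chi), the stalk of the Tor sheaf being the Tor of the stalks. Support bounds are phrased
through nontrivial stalks. Here X is a nonsingular variety over the algebraically closed field K
(smooth, separated, quasi-compact, integral) with dimension function δ (transcendence degree over K,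
recorded by Cyc.DeltaCompat to Spec K with value 0, together with Cyc.IsSetup) and n = dim X = δ of
the generic point; cycles are coefficient functions X → ℤ, proper intersection is
IntMult.IntersectProperly and α · β is the Tor-formula intersection product on coefficient functions
(IntMult.interProd). -/
theorem result (K : Type u) [Field K] [IsAlgClosed K] (X : Scheme.{u}) (f : X ⟶ Spec (CommRingCat.of K)) [Smooth f] [IsSeparated f] [QuasiCompact f] [IsIntegral X] (δ : X → ℤ) (hX : Cyc.IsSetup X δ) (hδ : Cyc.DeltaCompat f δ (fun _ => 0)) (n : ℤ) (hn : δ (genericPoint X) = n) (F G : X.Modules) (hF : Coh.IsCoh F) (hG : Coh.IsCoh G) (r s : ℤ) (hr : ∀ x : X, Nontrivial (F.presheaf.stalk x) → δ x ≤ r) (hs : ∀ x : X, Nontrivial (G.presheaf.stalk x) → δ x ≤ s) (hrs : ∀ x : X, Nontrivial (F.presheaf.stalk x) → Nontrivial (G.presheaf.stalk x) → δ x ≤ r + s - n) : IntMult.IntersectProperly δ n (Cyc.sheafFun δ r F) (Cyc.sheafFun δ s G) ∧ ∀ ζ : X, IntMult.interProd δ n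 (Cyc.sheafFun δ r F) (Cyc.sheafFun δ s G) ζ = if δ ζ = r + s - n then IntMult.chi ↑(X.presheaf.stalk ζ) ↑(F.presheaf.stalk ζ) ↑(G.presheaf.stalk ζ) else 0 := by
  haveI := hX.1
  have hdf := hX.2.2
  haveI := hF.1
  haveI := hG.1
  have hpos : ∀ {E : X.Modules} {t : ℤ} {x : X}, Cyc.sheafFun δ t E x ≠ 0 →
      δ x = t ∧ Nontrivial (E.presheaf.stalk x) := fun {E t x} h => by
    by_cases ht : δ x = t
    · refine ⟨ht, ?_⟩
      by_contra hc
      haveI := not_nontrivial_iff_subsingleton.mp hc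
      exact h (by simp [Cyc.sheafFun, ht, Module.length_eq_zero])
    · exact absurd (by simp [Cyc.sheafFun, ht]) h
  refine ⟨fun ξ η ζ hξ hη h1 h2 => ?_, fun ζ => ?_⟩
  · obtain ⟨e1, n1⟩ := hpos hξ
    obtain ⟨e2, n2⟩ := hpos hη
    rw [e1, e2]
    exact hrs ζ (StalkLen.nontrivial_of_specializes F h1 n1) (StalkLen.nontrivial_of_specializes G h2 n2)
  by_cases hne : δ ζ = r + s - n ∧ Nontrivial (F.presheaf.stalk ζ) ∧ Nontrivial (G.presheaf.stalk ζ)
  swap
  · have hR : (if δ ζ = r + s - n then IntMult.chi ↑(X.presheaf.stalk ζ) ↑(F.presheaf.stalk ζ)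
        ↑(G.presheaf.stalk ζ) else 0) = 0 := by
      split_ifs with h
      · rcases subsingleton_or_nontrivial (F.presheaf.stalk ζ) with hs' | hn'
        · rw [RegSeq.chi_comm]
          exact chi_eq_zero _ _
        · rcases subsingleton_or_nontrivial (G.presheaf.stalk ζ) with hs' | hn''
          · exact chi_eq_zero _ _
          · exact absurd ⟨h, hn', hn''⟩ hne
      · rfl
    rw [hR]
    refine finsum_eq_zero_of_forall_eq_zero fun ⟨⟨ξ, η⟩, h1, h2, h3⟩ => ?_
    by_contra h
    dsimp only at h h1 h2 h3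
    obtain ⟨e1, n1⟩ := hpos (left_ne_zero_of_mul (left_ne_zero_of_mul h))
    obtain ⟨e2, n2⟩ := hpos (right_ne_zero_of_mul (left_ne_zero_of_mul h))
    exact hne ⟨by omega, StalkLen.nontrivial_of_specializes F h1 n1,
      StalkLen.nontrivial_of_specializes G h2 n2⟩
  obtain ⟨hζ, hnF, hnG⟩ := hne
  rw [if_pos hζ]
  have hr' := hr ζ hnF
  have hs' := hs ζ hnG
  haveI : IsRegularLocalRing (X.presheaf.stalk ζ) := Cyc.SmoothReg.isRegularLocalRing_stalk f ζ
  haveI := hF.2
  haveI := hG.2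
  haveI : Module.Finite (X.presheaf.stalk ζ) (F.presheaf.stalk ζ) := Modules.GenStalk.finite_stalk F ζ
  haveI : Module.Finite (X.presheaf.stalk ζ) (G.presheaf.stalk ζ) := Modules.GenStalk.finite_stalk G ζ
  obtain ⟨U, hU, V, hV, hxV, e, hstd⟩ := Smooth.exists_isStandardSmooth f ζ
  have hUtop : U = ⊤ := by
    ext y
    simp only [TopologicalSpace.Opens.coe_top, Set.mem_univ, iff_true]
    exact Subsingleton.elim (f ζ) y ▸ e hxV
  subst hUtop
  let ι := (Scheme.ΓSpecIso (CommRingCat.of K)).inv.hom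
  have hb' : Function.Bijective ι :=
    ConcreteCategory.bijective_of_isIso (Scheme.ΓSpecIso (CommRingCat.of K)).inv
  have hψ : ((f.appLE ⊤ V e).hom.comp ι).IsStandardSmooth :=
    RingHom.isStandardSmooth_respectsIso.2 _ (RingEquiv.ofBijective ι hb') hstd
  letI : Algebra K Γ(X, V) := ((f.appLE ⊤ V e).hom.comp ι).toAlgebra
  haveI : Algebra.IsStandardSmooth K Γ(X, V) := hψ
  letI : Algebra Γ(X, V) (X.presheaf.stalk ζ) := X.presheaf.algebra_section_stalk ⟨ζ, hxV⟩
  letI : Algebra K (X.presheaf.stalk ζ) :=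
    ((algebraMap Γ(X, V) (X.presheaf.stalk ζ)).comp (algebraMap K Γ(X, V))).toAlgebra
  haveI : IsScalarTower K Γ(X, V) (X.presheaf.stalk ζ) := IsScalarTower.of_algebraMap_eq fun x => rfl
  haveI := hV.isLocalization_stalk ⟨ζ, hxV⟩
  haveI : Algebra.EssFiniteType Γ(X, V) (X.presheaf.stalk ζ) :=
    Algebra.EssFiniteType.of_isLocalization _ (hV.primeIdealOf ⟨ζ, hxV⟩).asIdeal.primeCompl
  haveI : Algebra.EssFiniteType K (X.presheaf.stalk ζ) := Algebra.EssFiniteType.comp K Γ(X, V) _
  haveI : Algebra.FormallyEtale Γ(X, V) (X.presheaf.stalk ζ) :=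
    Algebra.FormallyEtale.of_isLocalization (hV.primeIdealOf ⟨ζ, hxV⟩).asIdeal.primeCompl
  haveI : Algebra.FormallySmooth K (X.presheaf.stalk ζ) := Algebra.FormallySmooth.comp K Γ(X, V) _
  let pt := fun p : PrimeSpectrum (X.presheaf.stalk ζ) => X.fromSpecStalk ζ p
  have hspec : ∀ p, pt p ⤳ ζ := fun p => DimFun.fromSpecStalk_specializes_self ζ p
  have hle : ∀ p, δ ζ ≤ δ (pt p) := fun p => by
    by_contra hc
    have := DimFun.eq_of_specializes_of_le hdf (hspec p) (not_le.mp hc).le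
    rw [this] at hc
    exact hc le_rfl
  have hdim : ∀ p, ringKrullDim (X.presheaf.stalk ζ ⧸ p.asIdeal) = ((δ (pt p) - δ ζ).toNat : WithBot ℕ∞) :=
    fun p => (ringKrullDim_eq_of_ringEquiv (Ideal.quotEquivOfEq (congrArg PrimeSpectrum.asIdeal
      (DimFun.eq_genPrime ζ p)))).trans (DimFun.ringKrullDim_locQuot hdf ζ _ (hspec p))
  have hd : ringKrullDim (X.presheaf.stalk ζ) = ((n - δ ζ).toNat : WithBot ℕ∞) := by
    rw [DimFun.ringKrullDim_stalk hdf ζ, hn]
  have hbd : ∀ (E : X.Modules) [E.IsQuasicoherent] (t : ℤ),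
      (∀ x : X, Nontrivial (E.presheaf.stalk x) → δ x ≤ t) →
      ∀ q ∈ Module.support (X.presheaf.stalk ζ) (E.presheaf.stalk ζ),
        ringKrullDim (X.presheaf.stalk ζ ⧸ q.asIdeal) ≤ ((t - δ ζ).toNat : WithBot ℕ∞) := fun E _ t ht q hq => by
    have := ht _ ((StalkLen.mem_support_stalk E ζ q).mp hq)
    rw [hdim q]
    exact_mod_cast (show (δ (pt q) - δ ζ).toNat ≤ (t - δ ζ).toNat by simp only [pt]; omega)
  obtain ⟨S, hS⟩ := exists_top_finset (A := X.presheaf.stalk ζ) (F.presheaf.stalk ζ) (hbd F r hr)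
  obtain ⟨T, hT⟩ := exists_top_finset (A := X.presheaf.stalk ζ) (G.presheaf.stalk ζ) (hbd G s hs)
  have hpS : ∀ p ∈ S, δ (pt p) = r := fun p hp => by
    have h := ((hS p).1 hp).2
    rw [hdim p] at h
    have h' : (δ (pt p) - δ ζ).toNat = (r - δ ζ).toNat := by exact_mod_cast h
    have := hle p
    omega
  have hqT : ∀ p ∈ T, δ (pt p) = s := fun p hp => by
    have h := ((hT p).1 hp).2
    rw [hdim p] at h
    have h' : (δ (pt p) - δ ζ).toNat = (s - δ ζ).toNat := by exact_mod_cast h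
    have := hle p
    omega
  rw [Additive.chi_modules (K := K) (F.presheaf.stalk ζ) (G.presheaf.stalk ζ) hd
    (show (r - δ ζ).toNat + (s - δ ζ).toNat ≤ (n - δ ζ).toNat by omega)
    (fun q hqF hqG => by
      have h := hrs _ ((StalkLen.mem_support_stalk F ζ q).mp hqF) ((StalkLen.mem_support_stalk G ζ q).mp hqG)
      have he := DimFun.eq_of_specializes_of_le hdf (hspec q) (by simp only [pt]; omega)
      exact congrArg PrimeSpectrum.asIdeal (DimFun.fromSpecStalk_injective ζ
        (he.trans Scheme.fromSpecStalk_closedPoint.symm : _ = X.fromSpecStalk ζ (IsLocalRing.closedPoint _))))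
    (hbd F r hr) (hbd G s hs) S T hS hT]
  classical
  let g : PrimeSpectrum (X.presheaf.stalk ζ) × PrimeSpectrum (X.presheaf.stalk ζ) → X × X :=
    fun p => (pt p.1, pt p.2)
  let tm : X × X → ℤ := fun p =>
    Cyc.sheafFun δ r F p.1 * Cyc.sheafFun δ s G p.2 * IntMult.mult (ptIdeal p.1) (ptIdeal p.2) ζ
  show (∑ᶠ p : {p : X × X // p.1 ⤳ ζ ∧ p.2 ⤳ ζ ∧ δ p.1 + δ p.2 - n = δ ζ}, tm p.1) = _
  refine (finsum_subtype_eq_finsum_cond (f := tm) _).trans ?_
  refine (finsum_cond_eq_sum_of_cond_iff tm (t := ((S ×ˢ T).image g).filter fun p => tm p ≠ 0) ?_).trans ?_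
  · rintro ⟨ξ, η⟩ hx
    simp only [Finset.mem_filter, Finset.mem_image, Finset.mem_product, g, Prod.mk.injEq]
    constructor
    · rintro ⟨h1, h2, h3⟩
      obtain ⟨e1, n1⟩ := hpos (left_ne_zero_of_mul (left_ne_zero_of_mul hx))
      obtain ⟨e2, n2⟩ := hpos (right_ne_zero_of_mul (left_ne_zero_of_mul hx))
      dsimp only at e1 e2 n1 n2 h1 h2
      refine ⟨⟨(DimFun.genPrime ζ ξ h1, DimFun.genPrime ζ η h2), ⟨(hS _).2 ⟨?_, ?_⟩, (hT _).2 ⟨?_, ?_⟩⟩,
        DimFun.fromSpecStalk_genPrime _ _ _, DimFun.fromSpecStalk_genPrime _ _ _⟩, hx⟩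
      · rw [StalkLen.mem_support_stalk, DimFun.fromSpecStalk_genPrime]; exact n1
      · rw [hdim, show pt (DimFun.genPrime ζ ξ h1) = ξ from DimFun.fromSpecStalk_genPrime _ _ _, e1]
      · rw [StalkLen.mem_support_stalk, DimFun.fromSpecStalk_genPrime]; exact n2
      · rw [hdim, show pt (DimFun.genPrime ζ η h2) = η from DimFun.fromSpecStalk_genPrime _ _ _, e2]
    · rintro ⟨⟨⟨p, q⟩, ⟨hp, hq⟩, rfl, rfl⟩, -⟩
      exact ⟨hspec p, hspec q, by rw [hpS p hp, hqT q hq]; omega⟩
  rw [Finset.sum_filter_ne_zero]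
  refine (Finset.sum_image (fun p _ q _ h => Prod.ext (DimFun.fromSpecStalk_injective ζ (congrArg Prod.fst h))
      (DimFun.fromSpecStalk_injective ζ (congrArg Prod.snd h)))).trans ?_
  refine (Finset.sum_product _ _ _).trans ?_
  refine Finset.sum_congr rfl fun p hp => Finset.sum_congr rfl fun q hq => ?_
  simp only [tm, g, Cyc.sheafFun, hpS p hp, hqT q hq, if_true]
  rw [StalkLen.locLen_stalk F ζ p, StalkLen.locLen_stalk G ζ q]
  congr 1
  exact chi_ideal_congr
    ((MultOne.stalkIdeal_ptIdeal _ ζ (hspec p)).trans (congrArg PrimeSpectrum.asIdeal (DimFun.eq_genPrime ζ p)).symm)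
    ((MultOne.stalkIdeal_ptIdeal _ ζ (hspec q)).trans (congrArg PrimeSpectrum.asIdeal (DimFun.eq_genPrime ζ q)).symm)


end Groth.Agent.S6470
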