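import Groth.Statements.S1910
import Groth.Agent.H19.Spec.Sub

set_option autoImplicit false
universe u
open CategoryTheory AlgebraicGeometry
open CategoryTheory.Limits
open Cyc

namespace Groth.Agent.S1910

open Groth.Agent.Lib


/-- Let W → X be a closed immersion with W flat over R and dim W_η ≤ r. Then dim W_s ≤ r and sp([W_η]_r)
= [W_s]_r. Here R is a discrete valuation ring, a : X → Spec R is locally of finite type, X_η and
X_s are the fibres over the generic and closed points (Mathlib's Scheme.Hom.fiber) with their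
dimension functions δη, δs (transcendence degree of residue fields), r-cycles on X_η are cycles
supported at points with δη = r, and sp is the specialization map Z_r(X_η) → Z_r(X_s) on coefficient
functions (Cyc.spFun). -/
theorem result (R : Type u) [CommRing R] [IsDomain R] [IsDiscreteValuationRing R] (X : Scheme.{u}) (a : X ⟶ Spec (CommRingCat.of R)) [LocallyOfFiniteType a] (δη : ↥(a.fiber (genericPoint ↥(Spec (CommRingCat.of R)))) → ℤ) (δs : ↥(a.fiber (IsLocalRing.closedPoint R)) → ℤ) (hδη : Cyc.DeltaCompat (a.fiberToSpecResidueField (genericPoint ↥(Spec (CommRingCat.of R)))) δη (fun _ => 0)) (hδs : Cyc.DeltaCompat (a.fiberToSpecResidueField (IsLocalRing.closedPoint R)) δs (fun _ => 0)) (r : ℤ) (W : Scheme.{u}) (ι : W ⟶ X) [IsClosedImmersion ι] [Flat (ι ≫ a)] (hdim : ∀ ζ : ↥(a.fiber (genericPoint ↥(Spec (CommRingCat.of R)))), a.fiberι (genericPoint ↥(Spec (CommRingCat.of R))) ζ ∈ Set.range ⇑ι → δη ζ ≤ r) : (∀ x : ↥(a.fiber (IsLocalRing.closedPoint R)), a.fiberι (IsLocalRing.closedPoint R) x ∈ Set.range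 ⇑ι → δs x ≤ r) ∧ Cyc.spFun a (genericPoint ↥(Spec (CommRingCat.of R))) (IsLocalRing.closedPoint R) δη δs r (Cyc.subschemeFun δη r (pullback.snd ι (a.fiberι (genericPoint ↥(Spec (CommRingCat.of R)))))) = Cyc.subschemeFun δs r (pullback.snd ι (a.fiberι (IsLocalRing.closedPoint R))) := by
  haveI : IsLocallyNoetherian X := LocallyOfFiniteType.isLocallyNoetherian a
  haveI : IsLocallyNoetherian W := LocallyOfFiniteType.isLocallyNoetherian ι
  let F := (Coh.push ι).obj (Coh.structureModule W)
  have hF : Coh.IsCoh F :=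
    ProperFin.Projective.isCoh_push_closed ι (PicLoc.isInvertible_structureModule W)
  have hreg : Groth.Agent.H19.Spec.IsRegularOver a F := fun z c hc => by
    by_cases hz : z ∈ Set.range ι
    swap
    · haveI := Cyc.SheafLen.subsingleton_push_stalk ι (Coh.structureModule W) (Set.range ι)
        ι.isClosedEmbedding.isClosed_range (fun w _ => ⟨w, rfl⟩) _ hz
      exact fun m m' _ => Subsingleton.elim m m'
    obtain ⟨w, rfl⟩ := hz
    letI : Algebra R ((Spec (CommRingCat.of R)).presheaf.stalk (a (ι w))) := StructureSheaf.stalkAlgebra R (a (ι w))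
    haveI : IsLocalization.AtPrime ((Spec (CommRingCat.of R)).presheaf.stalk (a (ι w))) (a (ι w)).asIdeal :=
      StructureSheaf.IsLocalization.to_stalk R (a (ι w))
    haveI : IsDomain ((Spec (CommRingCat.of R)).presheaf.stalk (a (ι w))) :=
      IsLocalization.isDomain_of_le_nonZeroDivisors (R := R) (M := (a (ι w)).asIdeal.primeCompl)
        (S := (Spec (CommRingCat.of R)).presheaf.stalk (a (ι w))) (hM := (a (ι w)).asIdeal.primeCompl_le_nonZeroDivisors)
    have hc' : ((ι ≫ a).stalkMap w).hom c = (ι.stalkMap w).hom ((a.stalkMap (ι w)).hom c) := by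
      rw [Scheme.Hom.stalkMap_comp]; rfl
    letI : Algebra ((Spec (CommRingCat.of R)).presheaf.stalk (a (ι w))) (W.presheaf.stalk w) :=
      ((ι ≫ a).stalkMap w).hom.toAlgebra
    haveI : Module.Flat ((Spec (CommRingCat.of R)).presheaf.stalk (a (ι w))) (W.presheaf.stalk w) :=
      Flat.stalkMap (ι ≫ a) w
    have hr : IsSMulRegular (W.presheaf.stalk w) c :=
      Module.Flat.isSMulRegular_of_nonZeroDivisors (mem_nonZeroDivisors_of_ne_zero hc)
    obtain ⟨u⟩ := Cyc.SheafLen.exists_unit_stalk_equiv w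
    intro v v' h
    refine (u.injective.comp (Cyc.SheafLen.pushStalk_bijective ι (Coh.structureModule W) w).1) (hr ?_)
    have h' := congrArg (fun t => u (Cyc.SheafLen.pushStalk ι (Coh.structureModule W) w t)) h
    have e : ∀ t, u (Cyc.SheafLen.pushStalk ι (Coh.structureModule W) w ((a.stalkMap (ι w)).hom c • t)) =
        (ι.stalkMap w).hom ((a.stalkMap (ι w)).hom c) * u (Cyc.SheafLen.pushStalk ι (Coh.structureModule W) w t) :=
      fun t => (congrArg u (Cyc.SheafLen.pushStalk_smul ι (Coh.structureModule W) w _ t)).trans (map_smul u _ _)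
    replace h' := (e v).symm.trans (h'.trans (e v'))
    show ((ι ≫ a).stalkMap w).hom c * _ = ((ι ≫ a).stalkMap w).hom c * _
    rw [hc']
    exact h'
  obtain ⟨h1, h2⟩ := Groth.Agent.H19.Spec.main hδη hδs r F hF hreg fun ζ h => hdim ζ (Groth.Agent.H19.Spec.Sub.nontrivial_imp ι a _ ζ h)
  refine ⟨fun x hx => h1 x (Groth.Agent.H19.Spec.Sub.nontrivial_of_mem ι a _ x hx), ?_⟩
  rw [Groth.Agent.H19.Spec.Sub.subschemeFun_eq, Groth.Agent.H19.Spec.Sub.subschemeFun_eq]
  exact h2

end Groth.Agent.S1910
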