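import Groth.Statements.S19582
import Groth.Agent.H19.Equidim.Main
import Groth.Agent.H46.FibreDimNhd


set_option autoImplicit false
universe u
open Cyc

namespace Groth.Agent.S19582

open CategoryTheory CategoryTheory.Limits AlgebraicGeometry in
/-- Let S be a separated Noetherian scheme, p : X → S separated of finite type, z a point of X lying
over a generic point of an irreducible component of S whose closure in its fibre p⁻¹(p z) has
dimension r, and ι : Z → X a closed immersion from a reduced scheme with image the closure of z. Let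
R be a discrete valuation ring with fraction field K and x : Spec R → S a morphism sending the
generic point of Spec R to a generic point of an irreducible component of S, and let q : φ → Spec R
be the flat closure φ = φ_x(Z) of Z along x, i.e. the scheme-theoretic image of Z ×_S Spec K in Z
×_S Spec R, with its projection to Spec R. Then q is universally equidimensional of dimension r: for
every scheme S' and every S' → Spec R, the base change φ ×_R S' → S' has local fibre dimension r at
every point (the dimension at w of the fibre through w is r) and every irreducible component of φ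
×_R S' dominates an irreducible component of S'. -/
theorem result {X S Z : Scheme.{u}} [IsNoetherian S] [S.IsSeparated] [X.IsSeparated]
    (p : X ⟶ S) [LocallyOfFiniteType p] [QuasiCompact p] (z : X) (hz : closure {p.base z} ∈ irreducibleComponents ↥S)
    (r : ℕ) (hr : topologicalKrullDim ↥(closure ({p.asFiber z} : Set ↥(p.fiber (p.base z)))) = r)
    (ι : Z ⟶ X) [IsClosedImmersion ι] [IsReduced Z] (hZ : Set.range ι.base = closure {z})
    (R : Type u) [CommRing R] [IsDomain R] [IsDiscreteValuationRing R] (x : Spec (CommRingCat.of R) ⟶ S)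
    (hx : closure {x.base ⟨⊥, Ideal.isPrime_bot⟩} ∈ irreducibleComponents ↥S)
    (q : (pullback.map (ι ≫ p) (Spec.map (CommRingCat.ofHom (algebraMap R (FractionRing R))) ≫ x) (ι ≫ p) x (𝟙 Z) (Spec.map (CommRingCat.ofHom (algebraMap R (FractionRing R)))) (𝟙 S) ((Category.comp_id _).trans (Category.id_comp _).symm) (Category.comp_id _)).ker.subscheme ⟶ Spec (CommRingCat.of R))
    (hq : q = (pullback.map (ι ≫ p) (Spec.map (CommRingCat.ofHom (algebraMap R (FractionRing R))) ≫ x) (ι ≫ p) x (𝟙 Z) (Spec.map (CommRingCat.ofHom (algebraMap R (FractionRing R)))) (𝟙 S) ((Category.comp_id _).trans (Category.id_comp _).symm) (Category.comp_id _)).ker.subschemeι ≫ pullback.snd (ι ≫ p) x)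
    (S' : Scheme.{u}) (g : S' ⟶ Spec (CommRingCat.of R)) :
    (∀ w : ↥(pullback q g), FlatMor.fibreDimAt (pullback.snd q g) w = r) ∧
      ∀ C ∈ irreducibleComponents ↥(pullback q g),
        closure ((pullback.snd q g).base '' C) ∈ irreducibleComponents ↥S' := by
  subst hq
  set sp := Spec.map (CommRingCat.ofHom (algebraMap R (FractionRing R))) with hsp
  generalize hh : pullback.map (ι ≫ p) (sp ≫ x) (ι ≫ p) x (𝟙 Z) sp (𝟙 S) ((Category.comp_id _).trans (Category.id_comp _).symm) (Category.comp_id _) = h
  have h1 : h ≫ pullback.fst (ι ≫ p) x = pullback.fst _ _ := by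
    rw [← hh]; exact (pullback.lift_fst _ _ _).trans (Category.comp_id _)
  have h2 : h ≫ pullback.snd (ι ≫ p) x = pullback.snd _ _ ≫ sp := by
    rw [← hh]; exact pullback.lift_snd _ _ _
  have HW : IsPullback h (pullback.snd (ι ≫ p) (sp ≫ x)) (pullback.snd (ι ≫ p) x) sp := by
    refine IsPullback.of_right ?_ h2 (IsPullback.of_hasPullback (ι ≫ p) x)
    rw [h1]
    exact IsPullback.of_hasPullback _ _
  haveI : IsLocallyNoetherian (Spec (CommRingCat.of R)) := inferInstance
  haveI : QuasiCompact h := MorphismProperty.of_isPullback HW.flip (inferInstanceAs (QuasiCompact sp))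
  haveI hflat : Flat (h.ker.subschemeι ≫ pullback.snd (ι ≫ p) x) :=
    Groth.Agent.H19.Equidim.flat_image h _ _ h2
  haveI : LocallyOfFiniteType (h.ker.subschemeι ≫ pullback.snd (ι ≫ p) x) := inferInstance
  haveI : LocallyOfFinitePresentation (h.ker.subschemeι ≫ pullback.snd (ι ≫ p) x) :=
    Groth.Agent.H46.FibreDimNhd.locallyOfFinitePresentation _
  refine Groth.Agent.H19.Equidim.univ_equidim _ r (fun ξ hξ => ?_) g
  have hq0 : pullback.snd (ι ≫ p) x (h.ker.subschemeι ξ) = ⟨⊥, Ideal.isPrime_bot⟩ := by
    have := Groth.Agent.H19.Equidim.isMaxPt_image (h.ker.subschemeι ≫ pullback.snd (ι ≫ p) x) hξ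
    refine (this ⟨⊥, Ideal.isPrime_bot⟩ ?_).symm
    exact (PrimeSpectrum.le_iff_specializes _ _).1 bot_le
  let t : Spec (CommRingCat.of (FractionRing R)) := (Classical.arbitrary (PrimeSpectrum (FractionRing R)) : _)
  obtain ⟨w, hw1, hw2⟩ := Groth.Agent.H19.Equidim.exists_pre HW _ t (hq0.trans (Groth.Agent.H19.Equidim.specMap_fractionRing_apply t).symm)
  have hsmax : Groth.Agent.Lib.Cyc.DimFun.IsMaxPt ((ι ≫ p) (pullback.fst (ι ≫ p) (sp ≫ x) w)) := by
    rw [← Scheme.Hom.comp_apply, pullback.condition, Scheme.Hom.comp_apply, Scheme.Hom.comp_apply,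
      Groth.Agent.H19.Equidim.specMap_fractionRing_apply]
    exact Groth.Agent.H46.Equidim.isMaxPt_of_closure_mem hx
  have hd : FlatMor.fibreDimAt (pullback.snd (ι ≫ p) (sp ≫ x)) w = r :=
    (Groth.Agent.H2.FibreDimPullback.fibreDimAt_of_isPullback (IsPullback.of_hasPullback (ι ≫ p) (sp ≫ x)) w).trans
      (Groth.Agent.H19.Equidim.fibreDimAt_over_maxPt p z hr ι hZ _ hsmax)
  rw [Groth.Agent.H2.FibreDimPullback.fibreDimAt_of_isPullback HW w, hw1] at hd
  have hmf : Groth.Agent.H46.FibreTrdeg.IsMaxFib (pullback.snd (ι ≫ p) x) (h.ker.subschemeι ξ) := by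
    intro y hy hs
    obtain ⟨w', rfl, -⟩ := Groth.Agent.H19.Equidim.exists_pre HW y t (hy.trans (hq0.trans (Groth.Agent.H19.Equidim.specMap_fractionRing_apply t).symm))
    have e : h.imageι (h.toImage w') = h w' := by rw [← Scheme.Hom.comp_apply, h.toImage_imageι]
    rw [← e] at hs ⊢
    exact congrArg h.imageι (hξ _ (h.imageι.isEmbedding.isInducing.specializes_iff.1 hs))
  rw [Groth.Agent.H46.FibreTrdeg.fibreDimAt_of_isMaxFib _ hmf, Nat.cast_inj] at hd
  rw [Groth.Agent.H46.FibreTrdeg.trd_comp, hd]


end Groth.Agent.S19582
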