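import Groth.Statements.S3441
import Mathlib.Algebra.TrivSqZeroExt.Basic
import Mathlib.RingTheory.Kaehler.Basic
import Mathlib.LinearAlgebra.TensorProduct.Tower
import Mathlib.Tactic.LinearCombination

set_option autoImplicit false
universe u
open EGA41

namespace Groth.Agent.S3441

open TensorProduct KaehlerDifferential in
/-- the trivial extension of `C` by `C ⊗ Ω`, with no preferred algebra structure -/
def Sq (A B C : Type u) [CommRing A] [CommRing B] [CommRing C] [Algebra A B] [Algebra B C] : Type u :=
  TrivSqZeroExt C (C ⊗[B] Ω[B⁄A])

open TensorProduct KaehlerDifferential in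
noncomputable instance (A B C : Type u) [CommRing A] [CommRing B] [CommRing C] [Algebra A B]
    [Algebra B C] : CommRing (Sq A B C) :=
  inferInstanceAs (CommRing (TrivSqZeroExt C (C ⊗[B] Ω[B⁄A])))

open TensorProduct KaehlerDifferential

section
variable (A B C : Type u) [CommRing A] [CommRing B] [CommRing C] [Algebra A B] [Algebra B C]

/-- first projection -/
noncomputable def Sq.fst : Sq A B C →+* C :=
  (TrivSqZeroExt.fstHom C C (C ⊗[B] Ω[B⁄A])).toRingHom

/-- second projection -/
noncomputable def Sq.snd : Sq A B C →+ C ⊗[B] Ω[B⁄A] where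
  toFun := TrivSqZeroExt.snd
  map_zero' := rfl
  map_add' _ _ := rfl

variable {A B C}

lemma Sq.snd_mul (x y : Sq A B C) :
    Sq.snd A B C (x * y) = Sq.fst A B C x • Sq.snd A B C y + Sq.fst A B C y • Sq.snd A B C x :=
  (TrivSqZeroExt.snd_mul (R := C) (M := C ⊗[B] Ω[B⁄A]) x y).trans
    (congrArg _ (op_smul_eq_smul _ _))

lemma Sq.mul_eq_zero {x y : Sq A B C} (hx : Sq.fst A B C x = 0) (hy : Sq.fst A B C y = 0) :
    x * y = 0 := by
  apply TrivSqZeroExt.ext (R := C) (M := C ⊗[B] Ω[B⁄A])
  · show Sq.fst A B C (x * y) = Sq.fst A B C 0
    rw [map_mul, hx, zero_mul, map_zero]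
  · show Sq.snd A B C (x * y) = Sq.snd A B C 0
    rw [Sq.snd_mul, hx, hy, zero_smul, zero_smul, add_zero, map_zero]

end

open TensorProduct in
/-- Let A → B → C be ring homomorphisms. The canonical C-linear map Ω_{B/A} ⊗_B C → Ω_{C/A} is left
invertible (has a C-linear left inverse) if and only if C is a formally smooth B-algebra relative to
A for the discrete topologies: every B-algebra homomorphism from C to a quotient C'/J of a B-algebra
C' by an ideal J of square zero that lifts to C' as an A-algebra homomorphism also lifts to C' as a
B-algebra homomorphism. (The published definition of relative formal smoothness tests every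
nilpotent ideal J; its reduction to ideals of square zero does not carry over to the relative
setting, and the square-zero form, which is what the published proof of this statement uses, is the
one taken here.) -/
theorem result (A B C : Type u) [CommRing A] [CommRing B]
    [CommRing C] [Algebra A B] [Algebra B C] [Algebra A C] [IsScalarTower A B C] :
    (∃ l : Ω[C⁄A] →ₗ[C] C ⊗[B] Ω[B⁄A], l ∘ₗ KaehlerDifferential.mapBaseChange A B C = LinearMap.id) ↔
      EGA41.IsFormallySmoothRel A B C := by
  constructor
  · rintro ⟨l, hl⟩
    intro C' _ _ _ _ J hJ u₀ ⟨u, hu⟩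
    have hdiff : ∀ b : B, algebraMap B C' b - u (algebraMap B C b) ∈ J := fun b => by
      rw [← Ideal.Quotient.eq_zero_iff_mem, map_sub, sub_eq_zero]
      exact (u₀.commutes b).symm.trans (AlgHom.congr_fun hu (algebraMap B C b)).symm
    letI : Algebra C C' := u.toRingHom.toAlgebra
    haveI : IsScalarTower A C C' := IsScalarTower.of_algebraMap_eq fun a => (u.commutes a).symm
    let V : Submodule C C' := J.restrictScalars C
    letI : Module B V := Module.compHom V (algebraMap B C)
    haveI : IsScalarTower B C V := IsScalarTower.of_algebraMap_smul fun _ _ => rfl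
    haveI : IsScalarTower A B V := IsScalarTower.of_algebraMap_smul fun a x => by
      show algebraMap B C (algebraMap A B a) • x = _
      rw [← IsScalarTower.algebraMap_apply A B C, algebraMap_smul]
    let d₀ : B →ₗ[A] V :=
      { toFun := fun b => ⟨_, hdiff b⟩
        map_add' := fun b c => Subtype.ext (by
          show algebraMap B C' (b + c) - u (algebraMap B C (b + c)) =
            (algebraMap B C' b - u (algebraMap B C b)) + (algebraMap B C' c - u (algebraMap B C c))
          simp only [map_add]; abel)
        map_smul' := fun a b => Subtype.ext (by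
          show IsScalarTower.toAlgHom A B C' (a • b) - u (IsScalarTower.toAlgHom A B C (a • b)) =
            a • (IsScalarTower.toAlgHom A B C' b - u (IsScalarTower.toAlgHom A B C b))
          simp only [map_smul, smul_sub]) }
    let δ : Derivation A B V := Derivation.mk' d₀ fun b c => Subtype.ext (by
      show algebraMap B C' (b * c) - u (algebraMap B C (b * c)) =
        u (algebraMap B C b) * (algebraMap B C' c - u (algebraMap B C c)) +
          u (algebraMap B C c) * (algebraMap B C' b - u (algebraMap B C b))
      have h0 : (algebraMap B C' b - u (algebraMap B C b)) * (algebraMap B C' c - u (algebraMap B C c)) = 0 := by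
        rw [← Ideal.mem_bot, ← hJ, pow_two]
        exact Ideal.mul_mem_mul (hdiff b) (hdiff c)
      simp only [map_mul]
      linear_combination h0)
    let D : Derivation A C V :=
      ((δ.liftKaehlerDifferential.liftBaseChange C).comp l).compDer (KaehlerDifferential.D A C)
    have hD : ∀ b, (D (algebraMap B C b) : C') = algebraMap B C' b - u (algebraMap B C b) := fun b => by
      have h1 : l (KaehlerDifferential.D A C (algebraMap B C b)) = 1 ⊗ₜ KaehlerDifferential.D A B b := by
        have h2 := LinearMap.congr_fun hl ((1 : C) ⊗ₜ KaehlerDifferential.D A B b)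
        rw [LinearMap.comp_apply, KaehlerDifferential.mapBaseChange_tmul, one_smul,
          KaehlerDifferential.map_D, LinearMap.id_apply] at h2
        exact h2
      show ((δ.liftKaehlerDifferential.liftBaseChange C (l (KaehlerDifferential.D A C (algebraMap B C b))) : V) : C') = _
      rw [h1, LinearMap.liftBaseChange_tmul, one_smul, Derivation.liftKaehlerDifferential_comp_D]
      rfl
    let v₀ : C →ₐ[A] C' := AlgHom.ofLinearMap (u.toLinearMap + (V.subtype.restrictScalars A) ∘ₗ D.toLinearMap)
      (by
        show u 1 + ((D 1 : V) : C') = 1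
        rw [map_one, D.map_one_eq_zero, Submodule.coe_zero, add_zero])
      (fun x y => by
        show u (x * y) + ((D (x * y) : V) : C') = (u x + (D x : C')) * (u y + (D y : C'))
        have h0 : (D x : C') * (D y : C') = 0 := by
          rw [← Ideal.mem_bot, ← hJ, pow_two]
          exact Ideal.mul_mem_mul (D x).2 (D y).2
        rw [D.leibniz, map_mul, Submodule.coe_add, Submodule.coe_smul, Submodule.coe_smul,
          Algebra.smul_def, Algebra.smul_def]
        show u x * u y + (u x * (D y : C') + u y * (D x : C')) = _
        linear_combination -h0)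
    refine ⟨{ v₀.toRingHom with commutes' := fun b => ?_ }, AlgHom.ext fun c => ?_⟩
    · show u (algebraMap B C b) + (D (algebraMap B C b) : C') = algebraMap B C' b
      rw [hD, add_sub_cancel]
    · show Ideal.Quotient.mk J (u c + (D c : C')) = u₀ c
      rw [map_add, Ideal.Quotient.eq_zero_iff_mem.mpr (D c).2, add_zero]
      exact AlgHom.congr_fun hu c
  · intro h
    let d : Derivation A B (C ⊗[B] Ω[B⁄A]) := (TensorProduct.mk B C Ω[B⁄A] 1).compDer (KaehlerDifferential.D A B)
    let str : B →+* TrivSqZeroExt C (C ⊗[B] Ω[B⁄A]) :=
      { toFun := fun b => TrivSqZeroExt.inl (algebraMap B C b) + TrivSqZeroExt.inr (d b)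
        map_one' := by rw [map_one, d.map_one_eq_zero, TrivSqZeroExt.inr_zero, add_zero, TrivSqZeroExt.inl_one]
        map_zero' := by rw [map_zero, map_zero, TrivSqZeroExt.inl_zero, TrivSqZeroExt.inr_zero, add_zero]
        map_add' := fun x y => by
          rw [map_add, map_add, TrivSqZeroExt.inl_add, TrivSqZeroExt.inr_add]; abel
        map_mul' := fun x y => by
          apply TrivSqZeroExt.ext
          · show algebraMap B C (x * y) + 0 = (algebraMap B C x + 0) * (algebraMap B C y + 0)
            rw [map_mul]; simp
          · show 0 + d (x * y) = (algebraMap B C x + 0) • (0 + d y) +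
              MulOpposite.op (algebraMap B C y + 0) • (0 + d x)
            rw [zero_add, zero_add, zero_add, add_zero, add_zero, op_smul_eq_smul, algebraMap_smul,
              algebraMap_smul]
            exact d.leibniz x y }
    let E : Type u := Sq A B C
    letI : Algebra B E := (str : B →+* Sq A B C).toAlgebra
    letI : Algebra A E := ((str : B →+* Sq A B C).comp (algebraMap A B)).toAlgebra
    haveI : IsScalarTower A B E := IsScalarTower.of_algebraMap_eq fun _ => rfl
    let J : Ideal E := RingHom.ker (Sq.fst A B C)
    have hJ : J ^ 2 = ⊥ := by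
      rw [pow_two, eq_bot_iff, Ideal.mul_le]
      intro x hx y hy
      exact Ideal.mem_bot.mpr (Sq.mul_eq_zero hx hy)
    let u : C →ₐ[A] E :=
      { (TrivSqZeroExt.inlHom C (C ⊗[B] Ω[B⁄A]) : C →+* Sq A B C) with
        commutes' := fun a => by
          show (TrivSqZeroExt.inl (algebraMap A C a) : TrivSqZeroExt C (C ⊗[B] Ω[B⁄A])) =
            TrivSqZeroExt.inl (algebraMap B C (algebraMap A B a)) + TrivSqZeroExt.inr (d (algebraMap A B a))
          rw [d.map_algebraMap, TrivSqZeroExt.inr_zero, add_zero, ← IsScalarTower.algebraMap_apply A B C] }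
    have hstr : ∀ b, Sq.fst A B C (algebraMap B E b) = algebraMap B C b := fun b => by
      show algebraMap B C b + 0 = _
      rw [add_zero]
    have hsnd : ∀ b, Sq.snd A B C (algebraMap B E b) = d b := fun b => by
      show 0 + d b = _
      rw [zero_add]
    let u₀ : C →ₐ[B] E ⧸ J :=
      { (Ideal.Quotient.mk J).comp u.toRingHom with
        commutes' := fun b => by
          show Ideal.Quotient.mk J (u (algebraMap B C b)) = Ideal.Quotient.mk J (algebraMap B E b)
          rw [Ideal.Quotient.eq, RingHom.mem_ker, map_sub, hstr, sub_eq_zero]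
          rfl }
    obtain ⟨v, hv⟩ := h E J hJ u₀ ⟨u, AlgHom.ext fun _ => rfl⟩
    have hfv : ∀ c, Sq.fst A B C (v c) = c := fun c => by
      have h1 : Sq.fst A B C (v c - u c) = 0 := Ideal.Quotient.eq.mp (AlgHom.congr_fun hv c)
      rw [map_sub, sub_eq_zero] at h1
      exact h1
    let dC₀ : C →ₗ[A] (C ⊗[B] Ω[B⁄A]) :=
      { toFun := fun c => Sq.snd A B C (v c)
        map_add' := fun x y => by rw [map_add, map_add]
        map_smul' := fun a x => by
          rw [RingHom.id_apply, Algebra.smul_def a x, map_mul, IsScalarTower.algebraMap_apply A B C,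
            v.commutes, Sq.snd_mul, hstr, hsnd, d.map_algebraMap, smul_zero, add_zero,
            ← IsScalarTower.algebraMap_apply A B C, algebraMap_smul] }
    let dC : Derivation A C (C ⊗[B] Ω[B⁄A]) := Derivation.mk' dC₀ fun x y => by
      show Sq.snd A B C (v (x * y)) = x • Sq.snd A B C (v y) + y • Sq.snd A B C (v x)
      rw [map_mul, Sq.snd_mul, hfv, hfv]
    refine ⟨dC.liftKaehlerDifferential, ?_⟩
    apply TensorProduct.AlgebraTensorModule.curry_injective
    apply LinearMap.ext_ring
    apply Derivation.liftKaehlerDifferential_unique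
    ext b
    show dC.liftKaehlerDifferential (KaehlerDifferential.mapBaseChange A B C ((1 : C) ⊗ₜ KaehlerDifferential.D A B b)) =
      (1 : C) ⊗ₜ KaehlerDifferential.D A B b
    rw [KaehlerDifferential.mapBaseChange_tmul, one_smul, KaehlerDifferential.map_D,
      Derivation.liftKaehlerDifferential_comp_D]
    show Sq.snd A B C (v (algebraMap B C b)) = _
    rw [v.commutes, hsnd]
    rfl

end Groth.Agent.S3441
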