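import Groth.Statements.S4520
import Groth.Agent.Lib.PBasis.Deriv
import Mathlib.LinearAlgebra.TensorProduct.Tower
import Mathlib.RingTheory.Kaehler.TensorProduct
-- import your own Groth.Agent.* helpers here

set_option autoImplicit false
universe u
open EGA41

namespace Groth.Agent.S4520

open TensorProduct in
/-- Let p be a prime, B a reduced ring of characteristic p, A a subring with B^p ⊆ A ⊆ B (here A → B
injective with all p-th powers in its image, and R → A → B with image in B the set of p-th powers, R
standing for B^p). Suppose B has a p-basis (x_λ) over A and A has a p-basis over R, and let x'_λ ∈ A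
map to x_λ^p. Then the elements 1 ⊗ d_{A/ℤ}(x'_λ) form a basis of the B-module Υ_{B/A}, the kernel
of B ⊗_A Ω_{A/ℤ} → Ω_{B/ℤ}. (The published statement also identifies Υ_{B/A} with the Frobenius
twist of Ω_{B/A}; this row states only the basis.) -/
theorem result (p : ℕ) [Fact p.Prime] {R A B : Type u} [CommRing R] [CommRing A]
    [CommRing B] [IsReduced B] [Algebra R A] [Algebra A B] [Algebra R B] [IsScalarTower R A B] [CharP B p]
    (hinj : Function.Injective (algebraMap A B)) (hpow : ∀ b : B, b ^ p ∈ Set.range (algebraMap A B))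
    (hR : Set.range (algebraMap R B) = Set.range fun b : B => b ^ p)
    {Λ M : Type u} (x : Λ → B) (hx : EGA41.IsPBasis p A x) (x' : Λ → A) (hx' : ∀ i, algebraMap A B (x' i) = x i ^ p)
    (y : M → A) (hy : EGA41.IsPBasis p R y) :
    ∃ b : Module.Basis Λ B (EGA41.imperfection ℤ A B),
      ∀ i, (b i : B ⊗[A] Ω[A⁄ℤ]) = (1 : B) ⊗ₜ[A] KaehlerDifferential.D ℤ A (x' i) := by
  classical
  haveI : CharP A p := RingHom.charP (algebraMap A B) hinj p
  haveI : ExpChar B p := ExpChar.prime Fact.out
  have hp1 : 1 < p := (Fact.out : p.Prime).one_lt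
  have frob : ∀ b c : B, b ^ p = c ^ p → b = c := fun b c h => frobenius_inj B p h
  have hroot : ∀ r : EGA41.pPowerSubalgebra p R A, ∃ b : B, b ^ p = algebraMap A B r := by
    rintro ⟨a, ha⟩
    change ∃ b : B, b ^ p = algebraMap A B a
    induction ha using Algebra.adjoin_induction with
    | mem a ha =>
      obtain ⟨c, rfl⟩ := ha
      exact ⟨algebraMap A B c, (map_pow _ _ _).symm⟩
    | algebraMap r =>
      obtain ⟨b, hb⟩ := hR.subset ⟨r, rfl⟩
      exact ⟨b, hb.trans (IsScalarTower.algebraMap_apply R A B r)⟩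
    | add a c _ _ ha hc =>
      obtain ⟨b, hb⟩ := ha
      obtain ⟨d, hd⟩ := hc
      exact ⟨b + d, by rw [add_pow_char, hb, hd, map_add]⟩
    | mul a c _ _ ha hc =>
      obtain ⟨b, hb⟩ := ha
      obtain ⟨d, hd⟩ := hc
      exact ⟨b * d, by rw [mul_pow, hb, hd, map_mul]⟩
  choose root hr using hroot
  let dA : A → B ⊗[A] Ω[A⁄ℤ] := fun a => (1 : B) ⊗ₜ[A] KaehlerDifferential.D ℤ A a
  -- generation
  let g : Λ ⊕ M → B ⊗[A] Ω[A⁄ℤ] := Sum.elim (fun i => dA (x' i)) (fun j => dA (y j))
  let N := Submodule.span B (Set.range g)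
  have hdA_add : ∀ a b, dA (a + b) = dA a + dA b := fun a b => by
    simp [dA, TensorProduct.tmul_add]
  have hdA_mul : ∀ a b, dA (a * b) = algebraMap A B a • dA b + algebraMap A B b • dA a := by
    intro a b
    simp only [dA, Derivation.leibniz, TensorProduct.tmul_add, TensorProduct.tmul_smul,
      algebraMap_smul]
  have hroots : ∀ b : B, ∃ a : A, algebraMap A B a = b ^ p ∧ dA a ∈ N := by
    intro b
    have hb : b ∈ Algebra.adjoin (EGA41.pPowerSubalgebra p A B) (Set.range x) := by
      rw [(Groth.Agent.Lib.PBasis.Basic.isPGenerating_iff p hp1 x).1 hx.2]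
      exact Algebra.mem_top
    induction hb using Algebra.adjoin_induction with
    | mem z hz =>
      obtain ⟨i, rfl⟩ := hz
      exact ⟨x' i, hx' i, Submodule.subset_span ⟨Sum.inl i, rfl⟩⟩
    | algebraMap c =>
      have hc : (c : B) ∈ (⊥ : Subalgebra A B) :=
        (Groth.Agent.Lib.PBasis.Basic.pPower_eq_range p hpow) ▸ c.2
      obtain ⟨a, ha⟩ := Algebra.mem_bot.1 hc
      refine ⟨a ^ p, by rw [map_pow, ha]; rfl, ?_⟩
      have h0 : dA (a ^ p) = 0 := by
        simp only [dA, Derivation.leibniz_pow]
        rw [Groth.Agent.Lib.PBasis.Deriv.natCast_smul_eq_zero (B := A), TensorProduct.tmul_zero]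
      exact h0 ▸ N.zero_mem
    | add b d _ _ hb hd =>
      obtain ⟨a, ha, haN⟩ := hb
      obtain ⟨c, hc, hcN⟩ := hd
      exact ⟨a + c, by rw [map_add, ha, hc, add_pow_char], hdA_add a c ▸ N.add_mem haN hcN⟩
    | mul b d _ _ hb hd =>
      obtain ⟨a, ha, haN⟩ := hb
      obtain ⟨c, hc, hcN⟩ := hd
      exact ⟨a * c, by rw [map_mul, ha, hc, mul_pow],
        hdA_mul a c ▸ N.add_mem (N.smul_mem _ hcN) (N.smul_mem _ haN)⟩
  have hdAN : ∀ a : A, dA a ∈ N := by
    intro a
    have ha : a ∈ Algebra.adjoin (EGA41.pPowerSubalgebra p R A) (Set.range y) := by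
      rw [(Groth.Agent.Lib.PBasis.Basic.isPGenerating_iff p hp1 y).1 hy.2]
      exact Algebra.mem_top
    induction ha using Algebra.adjoin_induction with
    | mem z hz =>
      obtain ⟨j, rfl⟩ := hz
      exact Submodule.subset_span ⟨Sum.inr j, rfl⟩
    | algebraMap r =>
      obtain ⟨a', ha', haN⟩ := hroots (root r)
      have he : algebraMap (EGA41.pPowerSubalgebra p R A) A r = a' :=
        (hinj (ha'.trans (hr r))).symm
      rw [he]
      exact haN
    | add a c _ _ ha hc => exact hdA_add a c ▸ N.add_mem ha hc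
    | mul a c _ _ ha hc => exact hdA_mul a c ▸ N.add_mem (N.smul_mem _ hc) (N.smul_mem _ ha)
  have htop : ∀ z : B ⊗[A] Ω[A⁄ℤ], z ∈ N := by
    intro z
    induction z using TensorProduct.induction_on with
    | zero => exact N.zero_mem
    | add a b ha hb => exact N.add_mem ha hb
    | tmul b w =>
      suffices (1 : B) ⊗ₜ[A] w ∈ N by simpa [TensorProduct.smul_tmul'] using N.smul_mem b this
      have hw : w ∈ Submodule.span A (Set.range (KaehlerDifferential.D ℤ A)) := by
        rw [KaehlerDifferential.span_range_derivation]; trivial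
      induction hw using Submodule.span_induction with
      | mem w hw => obtain ⟨a, rfl⟩ := hw; exact hdAN a
      | zero => simp
      | add a b _ _ ha hb => simpa [TensorProduct.tmul_add] using N.add_mem ha hb
      | smul r a _ ha =>
        rw [TensorProduct.tmul_smul, ← algebraMap_smul B r ((1 : B) ⊗ₜ[A] a)]
        exact N.smul_mem _ ha
  -- functionals
  let ev : Derivation ℤ A B → (B ⊗[A] Ω[A⁄ℤ] →ₗ[B] B) := fun D =>
    D.liftKaehlerDifferential.liftBaseChange B
  have hev : ∀ D a, ev D (dA a) = D a := fun D a => by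
    simp [ev, dA, LinearMap.liftBaseChange_tmul]
  have hF : ∀ i, ∃ D : Derivation ℤ A B, ∀ l, D (x' l) = if l = i then 1 else 0 := by
    intro i
    obtain ⟨δ, hδ, -⟩ := Groth.Agent.Lib.PBasis.Deriv.existsUnique_derivation_rel hx
      (L := B) fun l => if l = i then (1 : B) else 0
    obtain ⟨D, ⟨hD, -⟩, -⟩ := Groth.Agent.Lib.PBasis.Deriv.existsUnique_derivation hp1
      (R := EGA41.pPowerSubalgebra p R A) y (Groth.Agent.Lib.PBasis.Basic.cP p y)
      (Groth.Agent.Lib.PBasis.Basic.algebraMap_cP (A := R) p y) hy.1 hy.2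
      (L := B) (fun r => (δ (root r)) ^ p)
      (fun r s => by
        have h : root (r + s) = root r + root s := frob _ _ (by
          rw [add_pow_char, hr, hr, hr]; simp)
        rw [h, map_add, add_pow_char])
      (fun r s => by
        have h : root (r * s) = root r * root s := frob _ _ (by
          rw [mul_pow, hr, hr, hr]; simp)
        rw [h, δ.leibniz, add_pow_char, smul_eq_mul, smul_eq_mul, mul_pow, mul_pow, hr, hr,
          Algebra.smul_def, Algebra.smul_def]
        rfl)
      (fun j => by
        have h : root (Groth.Agent.Lib.PBasis.Basic.cP p y j) = algebraMap A B (y j) :=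
          frob _ _ (by rw [hr, ← map_pow]; rfl)
        rw [h, Derivation.map_algebraMap, zero_pow (Fact.out : p.Prime).ne_zero])
      (fun _ => 0)
    refine ⟨D, fun l => ?_⟩
    have hmem : x' l ∈ EGA41.pPowerSubalgebra p R A := by
      obtain ⟨r, hr'⟩ : x l ^ p ∈ Set.range (algebraMap R B) := hR ▸ ⟨x l, rfl⟩
      have : algebraMap R A r = x' l := hinj (by
        rw [← IsScalarTower.algebraMap_apply, hr', hx'])
      exact this ▸ Subalgebra.algebraMap_mem _ r
    have h : root ⟨x' l, hmem⟩ = x l := frob _ _ ((hr _).trans (hx' l))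
    refine (hD ⟨x' l, hmem⟩).trans ?_
    rw [h, hδ l]
    split <;> simp [(Fact.out : p.Prime).ne_zero]
  choose F hF using hF
  have hG : ∀ j, ∃ D : Derivation ℤ B B, (∀ l, D (algebraMap A B (y l)) = if l = j then 1 else 0) ∧
      ∀ i, D (algebraMap A B (x' i)) = 0 := by
    intro j
    obtain ⟨E, hE, -⟩ := Groth.Agent.Lib.PBasis.Deriv.existsUnique_derivation_rel hy
      (L := B) fun l => if l = j then (1 : B) else 0
    obtain ⟨D, ⟨hD, -⟩, -⟩ := Groth.Agent.Lib.PBasis.Deriv.existsUnique_derivation_A hinj hpow hx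
      (L := B) (E.restrictScalars ℤ) (fun a b hab => by
        obtain ⟨r, hr'⟩ : b ^ p ∈ Set.range (algebraMap R B) := hR ▸ ⟨b, rfl⟩
        have : algebraMap R A r = a := hinj (by
          rw [← IsScalarTower.algebraMap_apply, hr', hab])
        change E a = 0
        rw [← this, Derivation.map_algebraMap]) (fun _ => 0)
    refine ⟨D, fun l => (hD _).trans (hE l), fun i => ?_⟩
    rw [hx', Derivation.leibniz_pow, Groth.Agent.Lib.PBasis.Deriv.natCast_smul_eq_zero (B := B)]
  choose G hGy hGx using hG
  have hmem : ∀ i, dA (x' i) ∈ EGA41.imperfection ℤ A B := fun i => by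
    change KaehlerDifferential.mapBaseChange ℤ A B (dA (x' i)) = 0
    simp only [dA, KaehlerDifferential.mapBaseChange_tmul, one_smul, KaehlerDifferential.map_D, hx',
      Derivation.leibniz_pow, Groth.Agent.Lib.PBasis.Deriv.natCast_smul_eq_zero (B := B)]
  let v : Λ → EGA41.imperfection ℤ A B := fun i => ⟨dA (x' i), hmem i⟩
  have hli : LinearIndependent B v := by
    refine LinearIndependent.of_comp (EGA41.imperfection ℤ A B).subtype
      (linearIndependent_iff'.2 fun s c hc i hi => ?_)
    have := congr_arg (ev (F i)) hc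
    simpa [v, map_sum, hev, hF, hi] using this
  have hspan : ⊤ ≤ Submodule.span B (Set.range v) := by
    rintro ⟨z, hz⟩ -
    obtain ⟨c, hc⟩ := Finsupp.mem_span_range_iff_exists_finsupp.1 (htop z)
    have hcR : ∀ j, c (Sum.inr j) = 0 := by
      intro j
      let L : Ω[B⁄ℤ] →ₗ[B] B := (G j).liftKaehlerDifferential
      have h0 : L (KaehlerDifferential.mapBaseChange ℤ A B z) = 0 := by
        rw [show KaehlerDifferential.mapBaseChange ℤ A B z = 0 from hz, map_zero]
      rw [← hc] at h0
      simp only [Finsupp.sum, map_sum, map_smul] at h0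
      by_contra hne
      rw [Finset.sum_eq_single (Sum.inr j)] at h0
      · simp [g, dA, L, hGy] at h0
        exact hne h0
      · rintro (i | l) - hne'
        · simp [g, dA, L, hGx]
        · have : l ≠ j := fun h => hne' (by rw [h])
          simp [g, dA, L, hGy, this]
      · intro h
        exact absurd (Finsupp.notMem_support_iff.1 h) hne
    have hz' : z ∈ Submodule.span B (Set.range fun i => dA (x' i)) := by
      rw [← hc]
      refine Submodule.sum_mem _ ?_
      rintro (i | j) -
      · exact Submodule.smul_mem _ _ (Submodule.subset_span ⟨i, rfl⟩)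
      · simp [hcR j]
    apply (Submodule.apply_mem_span_image_iff_mem_span
      (f := (EGA41.imperfection ℤ A B).subtype) Subtype.val_injective).1
    rw [← Set.range_comp]
    exact hz'
  exact ⟨Module.Basis.mk hli hspan, fun i => by rw [Module.Basis.mk_apply]⟩

end Groth.Agent.S4520
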