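import Groth.Statements.S4570
import Groth.Agent.Lib.SymGr.Main
import Mathlib.LinearAlgebra.TensorProduct.RightExactness
import Mathlib.LinearAlgebra.TensorProduct.Quotient
import Mathlib.RingTheory.Kaehler.Basic
import Mathlib.Algebra.TrivSqZeroExt.Basic

set_option autoImplicit false
universe u
open TensorProduct KaehlerDifferential
open EGA41

namespace Groth.Agent.S4570

section

variable {Λ A B : Type u} [CommRing Λ] [CommRing A] [CommRing B] [Algebra Λ A] [Algebra A B]
  [Algebra Λ B] [IsScalarTower Λ A B] {J : Ideal B}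

theorem isUnit_of_red {R : Type*} [CommRing R] {N N₁ : Type*} [AddCommGroup N] [Module R N]
    [AddCommGroup N₁] [Module R N₁] (f : Module.End R N) (red : N →ₗ[R] N₁)
    (hred : ∀ x, red (f x) = red x) (J : Ideal R)
    (hker : ∀ t, red t = 0 → t ∈ J • (⊤ : Submodule R N)) (n : ℕ)
    (hkill : ∀ b ∈ J ^ n, ∀ y : N, b • y = 0) : IsUnit f := by
  let ε : Module.End R N := 1 - f
  have hε : ∀ j : ℕ, ∀ x, (ε ^ j) x ∈ J ^ j • (⊤ : Submodule R N) := by
    intro j
    induction j with
    | zero => intro x; rw [pow_zero, pow_zero, Ideal.one_eq_top, Submodule.top_smul]; trivial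
    | succ j ih =>
      intro x
      rw [pow_succ ε]
      change (ε ^ j) (ε x) ∈ _
      have h1 : ε x ∈ J • (⊤ : Submodule R N) := hker _ (by
        change red (x - f x) = 0
        rw [map_sub, hred, sub_self])
      refine Submodule.smul_induction_on h1 (fun b hb y _ => ?_) fun y z hy hz => ?_
      · rw [map_smul, pow_succ' J, Submodule.mul_smul]
        exact Submodule.smul_mem_smul hb (ih y)
      · rw [map_add]
        exact add_mem hy hz
  have hnil : IsNilpotent ε := ⟨n, LinearMap.ext fun x => by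
    refine Submodule.smul_induction_on (hε n x) (fun b hb y _ => hkill b hb y) fun y z hy hz => ?_
    change y + z = 0
    rw [show y = 0 from hy, show z = 0 from hz, add_zero]⟩
  have := hnil.isUnit_one_sub
  rwa [show 1 - ε = f from sub_sub_cancel 1 f] at this

theorem exists_retraction_residue
    (hinj : Function.Injective ((mapBaseChange Λ A B).lTensor (B ⧸ J)))
    (hproj : Module.Projective (B ⧸ J) ((B ⧸ J) ⊗[B] Ω[B⁄A])) :
    ∃ r : (B ⧸ J) ⊗[B] Ω[B⁄Λ] →ₗ[B] (B ⧸ J) ⊗[B] (B ⊗[A] Ω[A⁄Λ]),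
      r ∘ₗ (mapBaseChange Λ A B).lTensor (B ⧸ J) = LinearMap.id := by
  let G₁ := (mapBaseChange Λ A B).lTensor (B ⧸ J)
  let π := (KaehlerDifferential.map Λ A B B).baseChange (B ⧸ J)
  have hπ : Function.Surjective π :=
    LinearMap.lTensor_surjective (B ⧸ J) (map_surjective Λ A B)
  obtain ⟨s, hs⟩ := Module.projective_lifting_property π LinearMap.id hπ
  have hex : Function.Exact G₁ ((KaehlerDifferential.map Λ A B B).lTensor (B ⧸ J)) :=
    lTensor_exact (B ⧸ J) (exact_mapBaseChange_map Λ A B) (map_surjective Λ A B)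
  let e := LinearEquiv.ofInjective G₁ hinj
  let δ : (B ⧸ J) ⊗[B] Ω[B⁄Λ] →ₗ[B] (B ⧸ J) ⊗[B] Ω[B⁄Λ] :=
    LinearMap.id - (s.restrictScalars B) ∘ₗ (π.restrictScalars B)
  have hδ : ∀ y, δ y ∈ LinearMap.range G₁ := fun y => by
    refine (hex _).1 ?_
    change π (y - s (π y)) = 0
    rw [map_sub, show π (s (π y)) = π y from LinearMap.congr_fun hs (π y), sub_self]
  refine ⟨e.symm.toLinearMap ∘ₗ δ.codRestrict _ hδ, LinearMap.ext fun x => hinj ?_⟩
  have h1 : π (G₁ x) = 0 := hex.apply_apply_eq_zero x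
  have h2 : G₁ (e.symm ⟨δ (G₁ x), hδ _⟩) = δ (G₁ x) :=
    congr_arg Subtype.val (e.apply_symm_apply ⟨δ (G₁ x), hδ _⟩)
  change G₁ (e.symm ⟨δ (G₁ x), hδ _⟩) = G₁ x
  rw [h2]
  change G₁ x - s (π (G₁ x)) = G₁ x
  rw [h1, map_zero, sub_zero]

/-- The retraction extends to all infinitesimal neighbourhoods. -/
theorem exists_retraction (hB : CAlgX.IsAdicFormallySmooth Λ B J)
    (hinj : Function.Injective ((mapBaseChange Λ A B).lTensor (B ⧸ J)))
    (hproj : Module.Projective (B ⧸ J) ((B ⧸ J) ⊗[B] Ω[B⁄A])) (k : ℕ) :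
    ∃ L : (B ⧸ J ^ (k + 1)) ⊗[B] Ω[B⁄Λ] →ₗ[B] (B ⧸ J ^ (k + 1)) ⊗[B] (B ⊗[A] Ω[A⁄Λ]),
      L ∘ₗ (mapBaseChange Λ A B).lTensor (B ⧸ J ^ (k + 1)) = LinearMap.id := by
  obtain ⟨r, hr⟩ := exists_retraction_residue hinj hproj
  let M := B ⊗[A] Ω[A⁄Λ]
  let Bk := B ⧸ J ^ (k + 1)
  let fac : Bk →ₗ[B] B ⧸ J :=
    (Ideal.Quotient.factorₐ B (Ideal.pow_le_self k.succ_ne_zero)).toLinearMap
  have hfac : Function.Surjective fac :=
    Ideal.Quotient.factor_surjective (Ideal.pow_le_self k.succ_ne_zero : J ^ (k + 1) ≤ J)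
  haveI : Module.Projective Bk (Bk ⊗[B] Ω[B⁄Λ]) :=
    Lib.FSAdic.Kaehler.projective_kaehler (Lib.FSAdic.Basic.isFormallySmoothAdic_bot_iff.1 hB)
      ⟨1, by simp⟩ (J ^ (k + 1)) ⟨k + 1, le_rfl⟩
  letI : Module Bk ((B ⧸ J) ⊗[B] M) :=
    Module.compHom _ (Ideal.Quotient.factor (Ideal.pow_le_self k.succ_ne_zero : J ^ (k + 1) ≤ J))
  haveI : IsScalarTower B Bk ((B ⧸ J) ⊗[B] M) := IsScalarTower.of_algebraMap_smul fun b t =>
    algebraMap_smul (B ⧸ J) b t
  let redM : Bk ⊗[B] M →ₗ[B] (B ⧸ J) ⊗[B] M := fac.rTensor M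
  let redT : Bk ⊗[B] Ω[B⁄Λ] →ₗ[B] (B ⧸ J) ⊗[B] Ω[B⁄Λ] := fac.rTensor _
  have hsurj : Function.Surjective (algebraMap B Bk) := Ideal.Quotient.mk_surjective
  obtain ⟨L₀, hL₀⟩ := Module.projective_lifting_property (R := Bk)
    (LinearMap.extendScalarsOfSurjective hsurj redM)
    (LinearMap.extendScalarsOfSurjective hsurj (r ∘ₗ redT))
    (LinearMap.rTensor_surjective M hfac)
  let G := (mapBaseChange Λ A B).lTensor Bk
  let f : Module.End B (Bk ⊗[B] M) := L₀.restrictScalars B ∘ₗ G
  have hred : ∀ x, redM (f x) = redM x := fun x => by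
    have h1 : redM (L₀ (G x)) = r (redT (G x)) := LinearMap.congr_fun hL₀ (G x)
    refine h1.trans ?_
    have h2 : redT (G x) = (mapBaseChange Λ A B).lTensor (B ⧸ J) (redM x) := by
      change ((fac.rTensor _) ∘ₗ (mapBaseChange Λ A B).lTensor Bk) x =
        ((mapBaseChange Λ A B).lTensor (B ⧸ J) ∘ₗ fac.rTensor M) x
      rw [LinearMap.rTensor_comp_lTensor, LinearMap.lTensor_comp_rTensor]
    rw [h2]
    exact LinearMap.congr_fun hr (redM x)
  have hker : ∀ t, redM t = 0 → t ∈ J • (⊤ : Submodule B (Bk ⊗[B] M)) := fun t ht => by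
    obtain ⟨m, rfl⟩ := TensorProduct.mk_surjective B M Bk hsurj t
    have h1 : (1 : B ⧸ J) ⊗ₜ[B] m = 0 := by
      rw [← show fac 1 = (1 : B ⧸ J) from
      map_one (Ideal.Quotient.factorₐ B (Ideal.pow_le_self k.succ_ne_zero : J ^ (k + 1) ≤ J))]
      exact ht
    have h2 : TensorProduct.quotTensorEquivQuotSMul M J (Ideal.Quotient.mk J 1 ⊗ₜ[B] m) = 0 := by
      rw [map_one, h1, map_zero]
    rw [TensorProduct.quotTensorEquivQuotSMul_mk_tmul, one_smul, Submodule.Quotient.mk_eq_zero] at h2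
    refine Submodule.smul_induction_on h2 (fun b hb m' _ => ?_) fun x y hx hy => ?_
    · rw [map_smul]
      exact Submodule.smul_mem_smul hb trivial
    · rw [map_add]
      exact add_mem hx hy
  have hf : IsUnit f := isUnit_of_red f redM hred J hker (k + 1) fun b hb y => by
    rw [← algebraMap_smul Bk b y]
    exact (congr_arg (· • y) (Ideal.Quotient.eq_zero_iff_mem.2 hb)).trans (zero_smul Bk y)
  obtain ⟨u, hu⟩ := hf
  refine ⟨(↑u⁻¹ : Module.End B (Bk ⊗[B] M)) ∘ₗ L₀.restrictScalars B, ?_⟩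
  rw [LinearMap.comp_assoc]
  change (↑u⁻¹ : Module.End B (Bk ⊗[B] M)) * f = 1
  rw [← hu, Units.inv_mul]

theorem exists_extend_nilpotent (hB : CAlgX.IsAdicFormallySmooth Λ B J)
    (hinj : Function.Injective ((mapBaseChange Λ A B).lTensor (B ⧸ J)))
    (hproj : Module.Projective (B ⧸ J) ((B ⧸ J) ⊗[B] Ω[B⁄A])) (k : ℕ)
    (N : Type u) [AddCommGroup N] [Module B N] [Module A N] [IsScalarTower A B N]
    [Module Λ N] [IsScalarTower Λ A N] [IsScalarTower Λ B N]
    (hN : ∀ b ∈ J ^ (k + 1), ∀ z : N, b • z = 0) (D₀ : Derivation Λ A N) :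
    ∃ D : Derivation Λ B N, ∀ a, D (algebraMap A B a) = D₀ a := by
  obtain ⟨L, hL⟩ := exists_retraction hB hinj hproj k
  let Φ₀ : B ⊗[A] Ω[A⁄Λ] →ₗ[B] N := D₀.liftKaehlerDifferential.liftBaseChange B
  let act : B →ₗ[B] (B ⊗[A] Ω[A⁄Λ] →ₗ[B] N) := LinearMap.toSpanSingleton B _ Φ₀
  have hact : J ^ (k + 1) ≤ LinearMap.ker act := fun b hb => LinearMap.ext fun m => hN b hb _
  let Φ : (B ⧸ J ^ (k + 1)) ⊗[B] (B ⊗[A] Ω[A⁄Λ]) →ₗ[B] N :=
    TensorProduct.lift (Submodule.liftQ (J ^ (k + 1)) act hact)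
  have hΦ : ∀ m, Φ ((1 : B ⧸ J ^ (k + 1)) ⊗ₜ[B] m) = Φ₀ m := fun m => by
    refine (TensorProduct.lift.tmul _ m).trans ?_
    change ((1 : B) • Φ₀) m = Φ₀ m
    rw [one_smul]
  refine ⟨(Φ ∘ₗ L ∘ₗ TensorProduct.mk B (B ⧸ J ^ (k + 1)) Ω[B⁄Λ] 1).compDer
    (KaehlerDifferential.D Λ B), fun a => ?_⟩
  have h1 : (mapBaseChange Λ A B) ((1 : B) ⊗ₜ[A] KaehlerDifferential.D Λ A a) =
      KaehlerDifferential.D Λ B (algebraMap A B a) := by
    rw [mapBaseChange_tmul, map_D, one_smul]
  have h2 := LinearMap.congr_fun hL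
    ((1 : B ⧸ J ^ (k + 1)) ⊗ₜ[B] ((1 : B) ⊗ₜ[A] KaehlerDifferential.D Λ A a))
  rw [LinearMap.comp_apply, LinearMap.lTensor_tmul, h1, LinearMap.id_apply] at h2
  change Φ (L ((1 : B ⧸ J ^ (k + 1)) ⊗ₜ[B] KaehlerDifferential.D Λ B (algebraMap A B a))) = _
  rw [h2, hΦ]
  simp only [Φ₀, LinearMap.liftBaseChange_tmul, one_smul,
    Derivation.liftKaehlerDifferential_comp_D]

/-- Derivations into nilpotent modules extend, and `B` is formally smooth over `A`. -/
theorem isAdicFormallySmooth_of_injective (hB : CAlgX.IsAdicFormallySmooth Λ B J)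
    (hinj : Function.Injective ((mapBaseChange Λ A B).lTensor (B ⧸ J)))
    (hproj : Module.Projective (B ⧸ J) ((B ⧸ J) ⊗[B] Ω[B⁄A])) :
    CAlgX.IsAdicFormallySmooth A B J := by
  intro E _ _ K hK ψ ⟨k, hk⟩
  letI : Algebra Λ E := ((algebraMap A E).comp (algebraMap Λ A)).toAlgebra
  haveI : IsScalarTower Λ A E := IsScalarTower.of_algebraMap_eq' rfl
  obtain ⟨v, hv⟩ := hB E K hK (ψ.restrictScalars Λ) ⟨k, hk⟩
  have hvK : ∀ b, Ideal.Quotient.mk K (v b) = ψ b := AlgHom.congr_fun hv
  have hKK : ∀ y ∈ K, ∀ z ∈ K, y * z = 0 := fun y hy z hz => by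
    rw [← Ideal.mem_bot, ← hK, pow_two]
    exact Ideal.mul_mem_mul hy hz
  have hDK : ∀ a, v (algebraMap A B a) - algebraMap A E a ∈ K := fun a => by
    rw [← Ideal.Quotient.eq, hvK, ψ.commutes]
    rfl
  have hkill : ∀ b ∈ J ^ (k + 1), ∀ z ∈ K, v b * z = 0 := fun b hb z hz => by
    refine hKK _ ?_ _ hz
    rw [← Ideal.Quotient.eq_zero_iff_mem, hvK]
    exact hk b (Ideal.pow_le_pow_right k.le_succ hb)
  letI : Algebra B E := v.toRingHom.toAlgebra
  letI : Module A (K.restrictScalars B) :=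
    Module.compHom (K.restrictScalars B) (algebraMap A B)
  haveI : IsScalarTower A B (K.restrictScalars B) := IsScalarTower.of_algebraMap_smul fun _ _ => rfl
  haveI : IsScalarTower Λ A (K.restrictScalars B) := IsScalarTower.of_algebraMap_smul fun l z => by
    refine Subtype.ext ?_
    change v (algebraMap A B (algebraMap Λ A l)) * (z : E) = l • (z : E)
    rw [← IsScalarTower.algebraMap_apply, v.commutes, Algebra.smul_def]
  let D₀ : Derivation Λ A (K.restrictScalars B) := Derivation.mk'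
    { toFun := fun a => ⟨v (algebraMap A B a) - algebraMap A E a, hDK a⟩
      map_add' := fun a b => Subtype.ext (by simp only [map_add, Submodule.coe_add]; ring)
      map_smul' := fun l a => Subtype.ext (by
        simp only [RingHom.id_apply, Submodule.coe_smul_of_tower]
        rw [Algebra.smul_def, map_mul, map_mul, map_mul, ← IsScalarTower.algebraMap_apply, v.commutes,
          ← IsScalarTower.algebraMap_apply Λ A E, Algebra.smul_def, mul_sub]) }
    (fun a b => Subtype.ext (by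
      change v (algebraMap A B (a * b)) - algebraMap A E (a * b) =
        v (algebraMap A B a) * (v (algebraMap A B b) - algebraMap A E b) +
          v (algebraMap A B b) * (v (algebraMap A B a) - algebraMap A E a)
      rw [map_mul, map_mul, map_mul]
      linear_combination -(hKK _ (hDK a) _ (hDK b))))
  obtain ⟨Dd, hDd⟩ := exists_extend_nilpotent hB hinj hproj k (K.restrictScalars B)
    (fun b hb z => Subtype.ext (hkill b hb _ z.2)) D₀
  let d : B → E := fun b => (Dd b : E)
  have hdmem : ∀ b, d b ∈ K := fun b => (Dd b).2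
  have hdmul : ∀ a b, d (a * b) = v a * d b + v b * d a := fun a b => by
    simp only [d, Derivation.leibniz]
    rfl
  have hdA : ∀ a, d (algebraMap A B a) = v (algebraMap A B a) - algebraMap A E a := fun a =>
    congr_arg Subtype.val (hDd a)
  refine ⟨{ toFun := fun b => v b - d b
            map_one' := by simp [d]
            map_mul' := fun a b => by
              rw [map_mul, hdmul]
              linear_combination -(hKK _ (hdmem a) _ (hdmem b))
            map_zero' := by simp [d]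
            map_add' := fun a b => by simp only [d, map_add, Submodule.coe_add]; ring
            commutes' := fun a => by rw [hdA, sub_sub_cancel] }, AlgHom.ext fun b => ?_⟩
  change Ideal.Quotient.mk K (v b - d b) = ψ b
  rw [map_sub, Ideal.Quotient.eq_zero_iff_mem.2 (hdmem b), sub_zero, hvK]

theorem exists_extend_residue (h : CAlgX.IsAdicFormallySmooth A B J)
    (N : Type u) [AddCommGroup N] [Module (B ⧸ J) N] [Module B N] [IsScalarTower B (B ⧸ J) N]
    [Module A N] [IsScalarTower A B N] [Module Λ N] [IsScalarTower Λ A N] [IsScalarTower Λ B N]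
    (e : Derivation Λ A N) :
    ∃ D : Derivation Λ B N, ∀ a, D (algebraMap A B a) = e a := by
  let c : A → B ⧸ J := fun a => Ideal.Quotient.mk J (algebraMap A B a)
  have hc : ∀ (a : A) (z : N), c a • z = a • z := fun a z => by
    change algebraMap B (B ⧸ J) (algebraMap A B a) • z = a • z
    rw [algebraMap_smul, algebraMap_smul]
  have he : ∀ a b, e (a * b) = c a • e b + c b • e a := fun a b => by
    rw [hc, hc, Derivation.leibniz]
  letI : Module (B ⧸ J)ᵐᵒᵖ N :=
    Module.compHom N (RingEquiv.toOpposite (B ⧸ J)).symm.toRingHom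
  haveI : IsCentralScalar (B ⧸ J) N := ⟨fun _ _ => rfl⟩
  let j : A →+* (TrivSqZeroExt (B ⧸ J) N) :=
    { toFun := fun a => TrivSqZeroExt.inl (c a) + TrivSqZeroExt.inr (e a)
      map_one' := by ext <;> simp [c]
      map_mul' := fun a b => by
        refine TrivSqZeroExt.ext ?_ ?_
        · simp [c]
        · simp only [TrivSqZeroExt.snd_add, TrivSqZeroExt.snd_inl, TrivSqZeroExt.snd_inr, zero_add,
            TrivSqZeroExt.snd_mul, TrivSqZeroExt.fst_add, TrivSqZeroExt.fst_inl,
            TrivSqZeroExt.fst_inr, add_zero, op_smul_eq_smul, he]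
      map_zero' := by ext <;> simp [c]
      map_add' := fun a b => by ext <;> simp [c] }
  letI : Algebra A (TrivSqZeroExt (B ⧸ J) N) := j.toAlgebra
  let π : (TrivSqZeroExt (B ⧸ J) N) →ₐ[A] B ⧸ J :=
    { (TrivSqZeroExt.fstHom (B ⧸ J) (B ⧸ J) N).toRingHom with
      commutes' := fun a => by
        change (j a).fst = c a
        simp [j] }
  have hπ : Function.Surjective π := fun x => ⟨TrivSqZeroExt.inl x, TrivSqZeroExt.fst_inl N x⟩
  have hker : IsNilpotent (RingHom.ker π.toRingHom) := by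
    refine ⟨2, ?_⟩
    rw [pow_two]
    refine le_bot_iff.1 (Ideal.mul_le.2 fun a ha b hb => ?_)
    have ha' : a.fst = 0 := ha
    have hb' : b.fst = 0 := hb
    exact TrivSqZeroExt.ext (by simp [ha']) (by simp [ha', hb'])
  obtain ⟨v, hv, -⟩ := Lib.FSAdic.Basic.exists_lift
    (Lib.FSAdic.Basic.isFormallySmoothAdic_bot_iff.1 h) π hπ hker ⟨1, by simp⟩
    (Ideal.Quotient.mkₐ A J) ⟨1, fun x hx => Ideal.Quotient.eq_zero_iff_mem.2 (pow_one J ▸ hx)⟩
  have hfst : ∀ b, (v b).fst = Ideal.Quotient.mk J b := AlgHom.congr_fun hv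
  have hvA : ∀ a, v (algebraMap A B a) = j a := v.commutes
  let δ : Derivation Λ B N := Derivation.mk'
    { toFun := fun b => (v b).snd
      map_add' := fun x y => by simp
      map_smul' := fun l x => by
        simp only [RingHom.id_apply]
        rw [Algebra.smul_def, map_mul, IsScalarTower.algebraMap_apply Λ A B, hvA,
          TrivSqZeroExt.snd_mul, op_smul_eq_smul]
        have he0 : e (algebraMap Λ A l) = 0 := e.map_algebraMap l
        simp only [j, RingHom.coe_mk, MonoidHom.coe_mk, OneHom.coe_mk, TrivSqZeroExt.fst_add,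
          TrivSqZeroExt.fst_inl, TrivSqZeroExt.fst_inr, TrivSqZeroExt.snd_add,
          TrivSqZeroExt.snd_inl, TrivSqZeroExt.snd_inr, he0, add_zero, smul_zero, c]
        rw [← IsScalarTower.algebraMap_apply Λ A B, ← Ideal.Quotient.algebraMap_eq,
          algebraMap_smul, algebraMap_smul] }
    (fun x y => by
      change (v (x * y)).snd = x • (v y).snd + y • (v x).snd
      rw [map_mul, TrivSqZeroExt.snd_mul, op_smul_eq_smul, hfst, hfst,
        ← Ideal.Quotient.algebraMap_eq, algebraMap_smul, algebraMap_smul])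
  exact ⟨δ, fun a => by
    change (v (algebraMap A B a)).snd = e a
    rw [hvA]
    simp [j]⟩

theorem injective_lTensor_mapBaseChange (h : CAlgX.IsAdicFormallySmooth A B J) :
    Function.Injective ((mapBaseChange Λ A B).lTensor (B ⧸ J)) := by
  let M := (B ⧸ J) ⊗[B] (B ⊗[A] Ω[A⁄Λ])
  let e : Derivation Λ A M :=
    (((TensorProduct.mk B (B ⧸ J) (B ⊗[A] Ω[A⁄Λ]) 1).restrictScalars A) ∘ₗ
      TensorProduct.mk A B Ω[A⁄Λ] 1).compDer (KaehlerDifferential.D Λ A)
  obtain ⟨δ, hδ⟩ := exists_extend_residue h M e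
  let r : (B ⧸ J) ⊗[B] Ω[B⁄Λ] →ₗ[B] M :=
    (δ.liftKaehlerDifferential.liftBaseChange (B ⧸ J)).restrictScalars B
  let G₁ := (mapBaseChange Λ A B).lTensor (B ⧸ J)
  refine Function.LeftInverse.injective (g := r) fun x => ?_
  suffices r ∘ₗ G₁ = LinearMap.id from LinearMap.congr_fun this x
  refine TensorProduct.ext' fun q m => ?_
  induction m using TensorProduct.induction_on with
  | zero => simp
  | add m m' hm hm' => simp only [TensorProduct.tmul_add, map_add, hm, hm']
  | tmul b ω =>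
    have hω : ω ∈ Submodule.span A (Set.range (KaehlerDifferential.D Λ A)) := by
      rw [span_range_derivation]
      trivial
    induction hω using Submodule.span_induction with
    | mem z hz =>
      obtain ⟨a, rfl⟩ := hz
      obtain ⟨q, rfl⟩ := Ideal.Quotient.mk_surjective q
      simp only [LinearMap.comp_apply, LinearMap.id_apply, G₁, r, LinearMap.lTensor_tmul,
        mapBaseChange_tmul, map_D, LinearMap.coe_restrictScalars, LinearMap.liftBaseChange_tmul,
        map_smul, Derivation.liftKaehlerDifferential_comp_D]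
      rw [hδ]
      simp only [e, Derivation.coe_comp, LinearMap.comp_apply, LinearMap.coe_restrictScalars,
        Derivation.coeFn_coe, TensorProduct.mk_apply]
      rw [← TensorProduct.tmul_smul b, TensorProduct.smul_tmul', TensorProduct.smul_tmul',
        smul_eq_mul, mul_one, smul_eq_mul, mul_one]
    | zero => simp
    | add z z' _ _ hz hz' => simp only [TensorProduct.tmul_add, map_add, hz, hz']
    | smul a z _ hz =>
      rw [TensorProduct.tmul_smul, ← algebraMap_smul B a (b ⊗ₜ[A] z), TensorProduct.tmul_smul,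
        map_smul, hz, map_smul]

theorem isAdicFormallySmooth_trans [Algebra.FormallySmooth Λ A]
    (h : CAlgX.IsAdicFormallySmooth A B J) : CAlgX.IsAdicFormallySmooth Λ B J := by
  intro E _ _ K hK ψ ⟨k, hk⟩
  obtain ⟨χ, hχ⟩ := Algebra.FormallySmooth.exists_lift (R := Λ) K ⟨2, hK⟩
    (ψ.comp (IsScalarTower.toAlgHom Λ A B))
  letI : Algebra A E := χ.toRingHom.toAlgebra
  obtain ⟨v, hv⟩ := h E K hK
    { ψ.toRingHom with commutes' := fun a => (AlgHom.congr_fun hχ a).symm } ⟨k, hk⟩
  refine ⟨{ v.toRingHom with commutes' := fun l => ?_ }, AlgHom.ext fun b => AlgHom.congr_fun hv b⟩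
  change v (algebraMap Λ B l) = algebraMap Λ E l
  rw [IsScalarTower.algebraMap_apply Λ A B, v.commutes]
  exact χ.commutes l

end

/-- Let Λ → A → B be ring homomorphisms, J an ideal of B and C = B/J, with C formally smooth over Λ for
the discrete topologies. Consider the conditions: (α) J/J² is a projective C-module; (β) the
canonical maps Sym^n_C(J/J²) → J^n/J^(n+1) are bijective for n ≥ 1; (γ') Ω_{A/Λ} ⊗_A C → Ω_{B/Λ} ⊗_B
C is injective (equivalent to the injectivity of the characteristic homomorphism used in the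
published (γ)); (δ) Ω_{B/A} ⊗_B C is a projective C-module. (i) If they hold then B, with the J-adic
topology, is formally smooth over the discrete ring A. (ii) Conversely if B is formally smooth over
A for the J-adic topology and A is formally smooth over Λ for the discrete topology, the four
conditions hold. -/
theorem result {Λ A B : Type u} [CommRing Λ]
    [CommRing A] [CommRing B] [Algebra Λ A] [Algebra A B] [Algebra Λ B] [IsScalarTower Λ A B] (J : Ideal B)
    [Algebra.FormallySmooth Λ (B ⧸ J)] :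
    ((Module.Projective (B ⧸ J) J.Cotangent ∧ PP16.SymGrBijective B J ∧
        Function.Injective ((mapBaseChange Λ A B).lTensor (B ⧸ J)) ∧
        Module.Projective (B ⧸ J) ((B ⧸ J) ⊗[B] (Ω[B⁄A]))) →
      CAlgX.IsAdicFormallySmooth A B J) ∧
    (Algebra.FormallySmooth Λ A → CAlgX.IsAdicFormallySmooth A B J →
      (Module.Projective (B ⧸ J) J.Cotangent ∧ PP16.SymGrBijective B J ∧
        Function.Injective ((mapBaseChange Λ A B).lTensor (B ⧸ J)) ∧
        Module.Projective (B ⧸ J) ((B ⧸ J) ⊗[B] (Ω[B⁄A])))) := by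
  refine ⟨fun ⟨hα, hβ, hγ, hδ⟩ => ?_, fun hA hB => ?_⟩
  · haveI := hα
    exact isAdicFormallySmooth_of_injective (Lib.SymGr.Main.isAdicFormallySmooth_of_symGr hβ) hγ hδ
  · haveI := hA
    have hB' : CAlgX.IsAdicFormallySmooth Λ B J := isAdicFormallySmooth_trans hB
    exact ⟨Lib.SymGr.Main.projective_cotangent hB', Lib.SymGr.Main.symGrBijective hB',
      injective_lTensor_mapBaseChange hB,
      Lib.FSAdic.Kaehler.projective_kaehler (Lib.FSAdic.Basic.isFormallySmoothAdic_bot_iff.1 hB)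
        ⟨1, by simp⟩ J ⟨1, (pow_one J).le⟩⟩

end Groth.Agent.S4570
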