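import Groth.Statements.S4512
import Groth.Agent.Lib.SymGr.BaseChange

set_option autoImplicit false
universe u
open EGA41

namespace Groth.Agent.S4512

open IsLocalRing in
/-- Let k be a field and A a Noetherian local k-algebra with residue field K, and suppose A is formally
smooth over k for the adic topology of its maximal ideal (k discrete). Then A is geometrically
regular over k, i.e. A ⊗_k k' is a regular ring for every finite extension k' of k; and the adic
completion of A is isomorphic, as a ring, to a power series ring K[[T_1, …, T_n]] (existence of a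
ring isomorphism; no compatibility with k is asserted, and none holds in general when K is
inseparable over k). -/
theorem result {k A : Type u} [Field k] [CommRing A]
    [IsLocalRing A] [IsNoetherianRing A] [Algebra k A] (h : CAlgX.IsAdicFormallySmooth k A (maximalIdeal A)) :
    CAlg.IsGeometricallyRegular k A ∧
      ∃ n : ℕ, Nonempty (AdicCompletion (maximalIdeal A) A ≃+* MvPowerSeries (Fin n) (ResidueField A)) := by
  refine ⟨fun k' _ _ hfin => by haveI := hfin; exact Lib.SymGr.BaseChange.isRegularRing_baseChange h k', ?_⟩
  haveI : IsRegularLocalRing A := (Lib.SymGr.RegularField.iff_regular_and_injective_int.1 h).1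
  haveI : Algebra.FormallySmooth (⊥ : Subfield k) (ResidueField A) :=
    Lib.SymGr.OverField.formallySmooth_bot _
  obtain ⟨σ, hσ⟩ := Lib.SymGr.Regular.exists_coeff (k := (⊥ : Subfield k)) (A := A)
  obtain ⟨Φ, -, hsurj, -⟩ := Lib.SymGr.Regular.exists_presentation σ hσ
  haveI : IsRegularLocalRing (AdicCompletion (maximalIdeal A) A) :=
    (Lib.Regular.Completion.isRegularLocalRing_iff _ (maximalIdeal.isMaximal A).ne_top).1 inferInstance
  haveI := Groth.Agent.H24.PowerSeries.isRegularLocalRing_fin (ResidueField A) (maximalIdeal A).spanFinrank
  have hinj : Function.Injective Φ :=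
    Groth.Agent.H24.PowerSeries.injective_of_spanFinrank Φ.toRingHom hsurj (by
      rw [Groth.Agent.H24.PowerSeries.spanFinrank_maximalIdeal]
      exact AdicCompletion.spanFinrank_maximalIdeal_eq.symm)
  exact ⟨_, ⟨(RingEquiv.ofBijective Φ.toRingHom ⟨hinj, hsurj⟩).symm⟩⟩

end Groth.Agent.S4512
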