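import Groth.Statements.S2453
import Groth.Agent.Lib.SymGr.RegularField

set_option autoImplicit false
universe u
open EGA41

namespace Groth.Agent.S2453

open IsLocalRing in
/-- Let k be a field and A a Noetherian local k-algebra with maximal ideal 𝔪 and residue field K
separable over k; give A the 𝔪-adic topology (k discrete). The following are equivalent: (a) A is
formally smooth over k; (b) the 𝔪-adic completion of A is isomorphic to some K[[T_1, …, T_n]] by an
isomorphism carrying the image of k in A to the image of k under k → K → K[[T]]; (b') the completion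
is isomorphic as a ring to some K[[T_1, …, T_n]]; (c) A is a regular local ring. -/
theorem result {k A : Type u} [Field k] [CommRing A] [IsLocalRing A] [IsNoetherianRing A] [Algebra k A]
    [Algebra.IsGeometricallyReduced k (ResidueField A)] :
    [CAlgX.IsAdicFormallySmooth k A (maximalIdeal A),
     ∃ (n : ℕ) (e : AdicCompletion (maximalIdeal A) A ≃+* MvPowerSeries (Fin n) (ResidueField A)),
       ∀ x : k, e (algebraMap A (AdicCompletion (maximalIdeal A) A) (algebraMap k A x)) =
         algebraMap (ResidueField A) (MvPowerSeries (Fin n) (ResidueField A)) (algebraMap k (ResidueField A) x),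
     ∃ n : ℕ, Nonempty (AdicCompletion (maximalIdeal A) A ≃+* MvPowerSeries (Fin n) (ResidueField A)),
     IsRegularLocalRing A].TFAE := by
  haveI : Algebra.FormallySmooth k (ResidueField A) :=
    Lib.PBasis.FieldSmooth.formallySmooth_iff_isGeometricallyReduced.2 inferInstance
  tfae_have 1 ↔ 4 := Lib.SymGr.Regular.iff_isRegularLocalRing
  tfae_have 4 → 2 := fun hreg => by
    haveI := hreg
    obtain ⟨σ, hσ⟩ := Lib.SymGr.Regular.exists_coeff (k := k) (A := A)
    obtain ⟨Φ, hΦσ, hsurj, -⟩ := Lib.SymGr.Regular.exists_presentation σ hσ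
    haveI : IsRegularLocalRing (AdicCompletion (maximalIdeal A) A) :=
      (Lib.Regular.Completion.isRegularLocalRing_iff _ (maximalIdeal.isMaximal A).ne_top).1 inferInstance
    haveI := Groth.Agent.H24.PowerSeries.isRegularLocalRing_fin (ResidueField A) (maximalIdeal A).spanFinrank
    have hinj : Function.Injective Φ :=
      Groth.Agent.H24.PowerSeries.injective_of_spanFinrank Φ.toRingHom hsurj (by
        rw [Groth.Agent.H24.PowerSeries.spanFinrank_maximalIdeal]
        exact AdicCompletion.spanFinrank_maximalIdeal_eq.symm)
    refine ⟨_, (RingEquiv.ofBijective Φ.toRingHom ⟨hinj, hsurj⟩).symm, fun x => ?_⟩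
    rw [RingEquiv.symm_apply_eq]
    change algebraMap A _ (algebraMap k A x) = Φ (algebraMap _ _ (algebraMap k (ResidueField A) x))
    rw [hΦσ, σ.commutes]
    exact (IsScalarTower.algebraMap_apply k A (AdicCompletion (maximalIdeal A) A) x).symm
  tfae_have 2 → 3 := fun ⟨n, e, _⟩ => ⟨n, ⟨e⟩⟩
  tfae_have 3 → 4 := fun ⟨n, ⟨e⟩⟩ => by
    haveI := Groth.Agent.H24.PowerSeries.isRegularLocalRing_fin (ResidueField A) n
    exact (Lib.Regular.Completion.isRegularLocalRing_iff _ (maximalIdeal.isMaximal A).ne_top).2
      (IsRegularLocalRing.of_ringEquiv e.symm)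
  tfae_finish

end Groth.Agent.S2453
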