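import Groth.Statements.S2460
import Groth.Agent.Lib.Cohen.CompleteNagata
import Mathlib.Data.Finset.NAry

set_option autoImplicit false
universe u
open EGA41

namespace Groth.Agent.S2460

open IsLocalRing in
/-- If the residue field is finite over `Λ`, every quotient by an ideal containing a power of the
maximal ideal is finite over `Λ`. -/
theorem finite_quotient_of_finite_residue {Λ R : Type u} [CommRing Λ] [CommRing R] [IsLocalRing R]
    [IsNoetherianRing R] [Algebra Λ R] [Module.Finite Λ (ResidueField R)]
    (J : Ideal R) {N : ℕ} (hJ : maximalIdeal R ^ N ≤ J) : Module.Finite Λ (R ⧸ J) := by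
  classical
  obtain ⟨n, e, he⟩ := Module.Finite.exists_fin (R := Λ) (M := ResidueField R)
  choose b hb using fun i : Fin n => residue_surjective (e i)
  choose s hs using fun j : ℕ => IsNoetherian.noetherian (maximalIdeal R ^ j)
  let G : Finset R := (Finset.range N).biUnion fun j => Finset.image₂ (fun i a => b i * a) Finset.univ (s j)
  let S : Submodule Λ R := Submodule.span Λ (G : Set R)
  have step : ∀ j ≤ N, ∀ r : R, ∃ a ∈ S, r - a ∈ maximalIdeal R ^ j := by
    intro j hj
    induction j with
    | zero => exact fun r => ⟨0, zero_mem _, by simp⟩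
    | succ j ih =>
      intro r
      obtain ⟨a, ha, hra⟩ := ih (by omega) r
      suffices h : ∀ y ∈ maximalIdeal R ^ j, ∃ c ∈ S, y - c ∈ maximalIdeal R ^ (j + 1) by
        obtain ⟨c, hc, hd⟩ := h _ hra
        exact ⟨a + c, add_mem ha hc, by rw [← sub_sub]; exact hd⟩
      intro y hy
      rw [← hs j] at hy
      obtain ⟨f, -, rfl⟩ := Submodule.mem_span_finset.1 hy
      have hl : ∀ t : R, ∃ l : Fin n → Λ, t - ∑ i, algebraMap Λ R (l i) * b i ∈ maximalIdeal R := fun t => by
        obtain ⟨l, hl⟩ := (Submodule.mem_span_range_iff_exists_fun Λ).1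
          (he ▸ Submodule.mem_top : residue R t ∈ Submodule.span Λ (Set.range e))
        refine ⟨l, ?_⟩
        rw [← residue_eq_zero_iff, map_sub, map_sum, sub_eq_zero, ← hl]
        refine Finset.sum_congr rfl fun i _ => ?_
        rw [map_mul, hb, Algebra.smul_def]
        rfl
      choose l hl using hl
      refine ⟨∑ a ∈ s j, ∑ i, l (f a) i • (b i * a), sum_mem fun a ha => sum_mem fun i _ =>
        S.smul_mem _ (Submodule.subset_span (Finset.mem_biUnion.2 ⟨j, Finset.mem_range.2 (by omega),
          Finset.mem_image₂_of_mem (Finset.mem_univ i) ha⟩)), ?_⟩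
      rw [← Finset.sum_sub_distrib]
      refine sum_mem fun a ha => ?_
      have h2 : (f a - ∑ i, algebraMap Λ R (l (f a) i) * b i) * a ∈ maximalIdeal R ^ (j + 1) := by
        rw [pow_succ']
        exact Ideal.mul_mem_mul (hl _) (by rw [← hs j]; exact Submodule.subset_span ha)
      convert h2 using 1
      simp only [smul_eq_mul, Algebra.smul_def, sub_mul, Finset.sum_mul, mul_assoc]
  refine ⟨⟨G.image (Ideal.Quotient.mk J), top_le_iff.1 fun z _ => ?_⟩⟩
  obtain ⟨r, rfl⟩ := Ideal.Quotient.mk_surjective z
  obtain ⟨a, ha, hra⟩ := step N le_rfl r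
  rw [show Ideal.Quotient.mk J r = (Ideal.Quotient.mkₐ Λ J).toLinearMap a from
    (Ideal.Quotient.eq.2 (hJ hra)), Finset.coe_image]
  exact (Submodule.span_image (Ideal.Quotient.mkₐ Λ J).toLinearMap).ge (Submodule.mem_map_of_mem ha)


open IsLocalRing in
/-- Let A be a complete Noetherian local domain containing a field k₀ such that the residue field of A
is a finite extension of k₀. Then there are n and an injective local k₀-algebra homomorphism from
the power series ring k₀[[T_1, …, T_n]] into A making A a finite module over it. -/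
theorem result {k₀ A : Type u} [Field k₀] [CommRing A] [IsDomain A] [IsLocalRing A] [IsNoetherianRing A]
    [IsAdicComplete (maximalIdeal A) A] [Algebra k₀ A] [Module.Finite k₀ (ResidueField A)] :
    ∃ (n : ℕ) (w : MvPowerSeries (Fin n) k₀ →ₐ[k₀] A), Function.Injective w ∧ IsLocalHom w.toRingHom ∧ w.toRingHom.Finite := by
  obtain ⟨d, hd⟩ : ∃ d : ℕ, ringKrullDim A = d := by
    have h := IsLocalRing.maximalIdeal_height_eq_ringKrullDim (R := A)
    obtain ⟨d, hd⟩ := ENat.ne_top_iff_exists.1
      (Ideal.height_ne_top (IsLocalRing.maximalIdeal.isMaximal A).ne_top)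
    exact ⟨d, by rw [← h, ← hd]; rfl⟩
  obtain ⟨x, hx, hrad⟩ := Groth.Agent.Lib.Cohen.PSRegular.exists_sop A hd
  obtain ⟨g, hg⟩ := Groth.Agent.H24.PowerSeries.exists_hom (A := k₀) (maximalIdeal A) x hx
  obtain ⟨N, hN⟩ := Ideal.exists_pow_le_of_le_radical_of_fg hrad (IsNoetherian.noetherian _)
  have hIm : Ideal.span (Set.range x) ≤ maximalIdeal A := Ideal.span_le.2 (Set.range_subset_iff.2 hx)
  haveI := finite_quotient_of_finite_residue (Λ := k₀) _ hN
  have hfin : g.toRingHom.Finite := by
    letI : Algebra (MvPowerSeries (Fin d) k₀) A := g.toRingHom.toAlgebra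
    haveI : IsScalarTower k₀ (MvPowerSeries (Fin d) k₀) A :=
      IsScalarTower.of_algebraMap_eq fun l => (g.commutes l).symm
    haveI : IsAdicComplete (maximalIdeal k₀) k₀ := by
      rw [IsLocalRing.maximalIdeal_eq_bot]; infer_instance
    let J : Ideal (MvPowerSeries (Fin d) k₀) := Ideal.span (Set.range MvPowerSeries.X)
    have hJ : J.map g.toRingHom = Ideal.span (Set.range x) := by
      rw [Ideal.map_span, ← Set.range_comp]
      congr 2
      exact funext hg
    haveI : IsHausdorff J A := IsHausdorff.of_map (J := maximalIdeal A) (by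
      rw [RingHom.algebraMap_toAlgebra, hJ]; exact hIm)
    refine Groth.Agent.Lib.Adic.Complete.finite_of_finite_quotient (I := J) ?_
    have e : (J • ⊤ : Submodule (MvPowerSeries (Fin d) k₀) A) =
        Submodule.restrictScalars (MvPowerSeries (Fin d) k₀) (Ideal.span (Set.range x)) := by
      rw [Ideal.smul_top_eq_map, RingHom.algebraMap_toAlgebra, hJ]
    haveI : Module.Finite (MvPowerSeries (Fin d) k₀) (A ⧸ Ideal.span (Set.range x)) :=
      Module.Finite.of_restrictScalars_finite k₀ _ _
    exact Module.Finite.equiv ((Submodule.quotEquivOfEq _ _ e).trans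
      (Submodule.Quotient.restrictScalarsEquiv _ (Ideal.span (Set.range x)))).symm
  haveI := (Groth.Agent.Lib.Cohen.PSRegular.mvPowerSeries k₀ d).1
  refine ⟨d, g, Groth.Agent.Lib.Cohen.PSRegular.injective_of_finite g.toRingHom hfin
    (n := d) ?_ hd, ⟨fun a ha => ?_⟩, hfin⟩
  · rw [(Groth.Agent.Lib.Cohen.PSRegular.mvPowerSeries k₀ d).2, ringKrullDim_eq_zero_of_field, zero_add]
  · by_contra hu
    have hm : a ∈ maximalIdeal (MvPowerSeries (Fin d) k₀) := (mem_maximalIdeal a).2 hu
    rw [Groth.Agent.H24.PowerSeries.maximalIdeal_eq] at hm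
    have h1 := Ideal.mem_map_of_mem g.toRingHom hm
    rw [Ideal.map_span, ← Set.range_comp, show g.toRingHom ∘ MvPowerSeries.X = x from funext hg] at h1
    exact (mem_maximalIdeal _).1 (hIm h1) ha

end Groth.Agent.S2460
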