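import Groth.Statements.S13785
import Mathlib.LinearAlgebra.Matrix.Charpoly.Coeff
import Mathlib.LinearAlgebra.Matrix.MvPolynomial

set_option autoImplicit false
universe u
open CAlg

namespace Groth.Agent.S13785

/-- For any commutative ring A, the determinant of the generic n × n matrix is a nonzerodivisor of the
polynomial ring over A in the n² matrix entries. -/
theorem result (A : Type u) [CommRing A] (n : ℕ) :
    (Matrix.mvPolynomialX (Fin n) (Fin n) A).det ∈ nonZeroDivisors (MvPolynomial (Fin n × Fin n) A) := by
  rw [mem_nonZeroDivisors_iff_right]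
  intro f hf
  let φ : MvPolynomial (Fin n × Fin n) A →ₐ[A] Polynomial (MvPolynomial (Fin n × Fin n) A) :=
    MvPolynomial.aeval fun ij => Polynomial.C (MvPolynomial.X ij) +
      (if ij.1 = ij.2 then Polynomial.X else 0)
  let ψ : Polynomial (MvPolynomial (Fin n × Fin n) A) →ₐ[A] MvPolynomial (Fin n × Fin n) A :=
    (Polynomial.aeval (0 : MvPolynomial (Fin n × Fin n) A)).restrictScalars A
  have hψφ : ∀ g, ψ (φ g) = g := by
    have : ψ.comp φ = AlgHom.id A _ := by
      refine MvPolynomial.algHom_ext fun ij => ?_
      simp only [φ, ψ, AlgHom.comp_apply, MvPolynomial.aeval_X, AlgHom.restrictScalars_apply,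
        map_add, Polynomial.aeval_C, AlgHom.id_apply]
      split_ifs <;> simp
    exact fun g => AlgHom.congr_fun this g
  set M : Matrix (Fin n) (Fin n) (MvPolynomial (Fin n × Fin n) A) :=
    -(Matrix.mvPolynomialX (Fin n) (Fin n) A) with hM
  have hdet : φ (Matrix.mvPolynomialX (Fin n) (Fin n) A).det = M.charpoly := by
    rw [AlgHom.map_det, Matrix.charpoly]
    congr 1
    ext i j
    simp only [AlgHom.mapMatrix_apply, Matrix.map_apply, Matrix.mvPolynomialX_apply, φ,
      MvPolynomial.aeval_X, hM, Matrix.charmatrix_apply, Matrix.neg_apply, map_neg, sub_neg_eq_add,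
      Matrix.diagonal_apply]
    rw [add_comm]
  have h := congrArg φ hf
  rw [map_mul, map_zero, hdet] at h
  have h0 : φ f = 0 := by
    refine (mem_nonZeroDivisors_iff_right.mp ?_) _ h
    exact (Matrix.charpoly_monic M).mem_nonZeroDivisors
  rw [← hψφ f, h0, map_zero]

end Groth.Agent.S13785
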