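import Groth.Statements.S14424
import Groth.Agent.Lib.Depth.Local
-- import your own Groth.Agent.* helpers here

set_option autoImplicit false
universe u
open LocCoh

namespace Groth.Agent.S14424

/-- Let R be a Noetherian ring. Then R is Cohen–Macaulay (every localization at a prime ideal is a
Cohen–Macaulay local ring) if and only if for every proper ideal a of R the a-depth of R equals the
height (codimension) of a. (The published statement defines a Cohen–Macaulay ring by its
localizations at maximal ideals; this row uses all prime ideals, an equivalent definition because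
Cohen–Macaulayness passes to localizations.) -/
theorem result (R : Type u) [CommRing R] [IsNoetherianRing R] :
    LocCoh.IsCohenMacaulayRing R ↔ ∀ a : Ideal R, a ≠ ⊤ → LocCoh.idealDepth a R = a.height := by
  constructor
  · intro hR a _
    rw [Groth.Agent.Lib.Depth.Local.idealDepth_eq_iInf a R]
    have key : ∀ p : PrimeSpectrum R, LocCoh.depth (Localization.AtPrime p.asIdeal)
        (LocalizedModule p.asIdeal.primeCompl R) = p.asIdeal.height := fun p => by
      have := hR.isCohenMacaulayLocalRing_localization p.asIdeal
      have h := Groth.Agent.Lib.Depth.CM.ringKrullDim_eq_depth (R := Localization.AtPrime p.asIdeal)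
      rw [IsLocalization.AtPrime.ringKrullDim_eq_height p.asIdeal] at h
      exact (WithBot.coe_inj.mp h).symm
    simp only [key]
    refine le_antisymm ?_ (le_iInf₂ fun p hp => Ideal.height_mono hp)
    rw [Ideal.height_eq_inf_minimalPrimes]
    exact le_iInf₂ fun J hJ => iInf₂_le (⟨J, hJ.isPrime⟩ : PrimeSpectrum R) hJ.1.2
  · intro h
    refine { isCohenMacaulayLocalRing_localization := fun p hp => ?_ }
    refine Groth.Agent.Lib.Depth.CM.isCohenMacaulayLocalRing_iff.mpr ?_
    rw [IsLocalization.AtPrime.ringKrullDim_eq_height p, ← h p hp.ne_top]
    exact WithBot.coe_le_coe.mpr (Groth.Agent.Lib.Depth.CM.idealDepth_le_depth_localization (M := R) p)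


end Groth.Agent.S14424
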