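import Groth.Statements.S18645
import Groth.Agent.Lib.Graded.RegDeg
import Groth.Agent.Lib.Graded.FieldDeg0

set_option autoImplicit false
universe u
open GrLC

namespace Groth.Agent.S18645

open Groth.Agent.Lib.Graded Groth.Agent.Lib.Graded.StarInj

/-- Let R be a graded ring defined over a field which is Cohen–Macaulay, of dimension n, and let f_1, …,
f_t be an R-regular sequence of homogeneous elements of positive degrees d_1, …, d_t, with S =
R/(f_1, …, f_t). The canonical module of S is (K_R/(f_1, …, f_t)K_R)(d_1 + ⋯ + d_t); consequently —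
this is the form stated here — the a-invariants satisfy a(S) = a(R) + d_1 + ⋯ + d_t, where a(S) is
the largest nonzero degree of H^{n−t}_m(S) and a(R) that of H^n_m(R), both graded local cohomologies
over R with support in m = R_+ computed from *injective resolutions in the graded category, and S is
presented as a graded R-module N with a degree-preserving surjection π : R → N whose kernel is (f_1,
…, f_t). Here 'graded ring defined over a field' means R = ⊕_{n ≥ 0} R_n is Noetherian with R_0 a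
field, and m = R_+ is its unique graded maximal ideal. -/
theorem result (R : Type u) [CommRing R] [LocCoh.IsCohenMacaulayRing R] (𝒜 : ℤ → AddSubgroup R) [GradedRing 𝒜] (hpos : ∀ n : ℤ, n < 0 → 𝒜 n = ⊥) (h0 : IsField (GrLC.deg0 𝒜)) (m : HomogeneousIdeal 𝒜) (hm : GrLC.IsStarLocal 𝒜 m) (hmsp : m.toIdeal = Ideal.span (⋃ n ∈ Set.Ioi (0 : ℤ), (𝒜 n : Set R))) (n : ℕ) (hn : ringKrullDim R = n) (I : GrLC.StarInjRes 𝒜 𝒜) (t : ℕ) (htn : t ≤ n) (f : Fin t → R) (deg : Fin t → ℤ) (hfdeg : ∀ i, f i ∈ 𝒜 (deg i)) (hfm : ∀ i, f i ∈ m.toIdeal) (hreg : RingTheory.Sequence.IsRegular R (List.ofFn f)) (N : Type u) [AddCommGroup N] [Module R N] (𝒩 : ℤ → AddSubgroup N) [DirectSum.Decomposition 𝒩] [SetLike.GradedSMul 𝒜 𝒩] (π : R →ₗ[R] N) (hπ : GrLC.IsGrHom 𝒜 𝒩 π) (hπs : Function.Surjective π) (hπk : LinearMap.ker π = Ideal.span (Set.range f)) (F : GrLC.StarInjRes 𝒜 𝒩) : GrLC.endDeg (F.Hgr m (n - t)) = GrLC.endDeg (I.Hgr m n) + ((((Finset.univ : Finset (Fin t)).sum deg : ℤ)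 : WithTop ℤ) : WithBot (WithTop ℤ)) := by
  classical
  have hmax := FieldDeg0.isMaximal hpos h0 hmsp
  have hnt : ∀ j, f j ≠ 0 := by
    intro j hj
    have h1 := (RingTheory.Sequence.isWeaklyRegular_iff_Fin R (List.ofFn f)).1 hreg.toIsWeaklyRegular
      ⟨j, by simp⟩
    simp only [Fin.getElem_fin, List.getElem_ofFn] at h1
    rw [show f ⟨(j : ℕ), j.2⟩ = f j from rfl, hj] at h1
    have h2 : Ideal.ofList ((List.ofFn f).take j) • (⊤ : Submodule R R) ≠ ⊤ := by
      refine ne_top_of_le_ne_top hmax.ne_top ?_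
      rw [Ideal.smul_eq_mul, Ideal.mul_top]
      refine Ideal.span_le.2 fun r hr => ?_
      obtain ⟨i, rfl⟩ := (List.mem_ofFn' _ _).1 (List.mem_of_mem_take hr)
      exact hfm i
    haveI := Submodule.Quotient.nontrivial_iff.2 h2
    exact not_subsingleton _ (IsSMulRegular.zero_iff_subsingleton.1 h1)
  have hd : ∀ j, 0 ≤ deg j := fun j => le_of_not_gt fun h => hnt j (by
    have := hfdeg j
    rwa [hpos _ h, AddSubgroup.mem_bot] at this)
  have hdepth := FieldDeg0.idealDepth_eq hpos h0 hmsp hn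
  let φ : (toMod 𝒜 𝒜).carrier →ₗ[R] (toMod 𝒜 𝒩).carrier := π
  have hφ : GrLC.IsGrHom (toMod 𝒜 𝒜).gr (toMod 𝒜 𝒩).gr φ := fun g x hx =>
    (mem_toMod 𝒜 𝒩).2 (hπ g x ((mem_toMod 𝒜 𝒜).1 hx))
  have hφk : LinearMap.ker φ = Ideal.span (Set.range f) • (⊤ : Submodule R (toMod 𝒜 𝒜).carrier) :=
    hπk.trans (Ideal.mul_top (Ideal.span (Set.range f))).symm
  obtain ⟨-, h⟩ := RegDeg.endLE_seq_iff (a := m) f deg (toMod 𝒜 𝒜) (toMod 𝒜 𝒩) φ hfdeg hd hfm
    hreg.toIsWeaklyRegular hφ hπs hφk n htn fun i hi g => CMVanish.V_of_lt_idealDepth g (by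
      rw [hdepth]; exact_mod_cast hi)
  refine RegDeg.endDeg_eq_add fun r => ?_
  refine Iff.trans ?_ ((h r).trans ?_)
  · exact forall_congr' fun g => imp_congr Iff.rfl (Van.V_toMod_iff F).symm
  · exact forall_congr' fun g => imp_congr Iff.rfl (Van.V_toMod_iff I)

end Groth.Agent.S18645
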