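import Groth.Statements.S0030
import Groth.Agent.Lib.CohDelta.QCohR
import Groth.Agent.Lib.QCoh.Pushforward
-- import your own Groth.Agent.* helpers here

set_option autoImplicit false
universe u
open Coherent

namespace Groth.Agent.S0030

open AlgebraicGeometry CategoryTheory in
/-- For a quasi-compact quasi-separated morphism f : X → S and a quasi-coherent O_X-module F, every
higher direct image R^p f_* F is a quasi-coherent O_S-module. (R^p f_* as right derived functor of
f_* on O-modules; the instance argument recording that X.Modules has injective resolutions is true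
but not yet in Mathlib.) -/
theorem result {X S : Scheme.{u}} (f : X ⟶ S) [QuasiCompact f]
    [QuasiSeparated f] [HasInjectiveResolutions X.Modules] (M : X.Modules) [Coh.IsQCoh M] (p : ℕ) :
    Coh.IsQCoh ((Coh.Rpush f p).obj M) := by
  cases p with
  | zero =>
    haveI : (Scheme.Modules.pushforward f).IsRightAdjoint :=
      (Scheme.Modules.pullbackPushforwardAdjunction f).isRightAdjoint
    haveI : CategoryTheory.Limits.PreservesLimitsOfSize.{0, 0} (Scheme.Modules.pushforward f) :=
      (Scheme.Modules.pullbackPushforwardAdjunction f).rightAdjoint_preservesLimits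
    haveI : CategoryTheory.Limits.PreservesFiniteLimits (Scheme.Modules.pushforward f) :=
      CategoryTheory.Limits.PreservesLimitsOfSize.preservesFiniteLimits _
    haveI h0 : CategoryTheory.IsIso (Scheme.Modules.pushforward f).toRightDerivedZero := inferInstance
    have h1 : CategoryTheory.IsIso ((Scheme.Modules.pushforward f).toRightDerivedZero.app M) :=
      CategoryTheory.NatIso.isIso_app_of_isIso _ M
    exact CategoryTheory.ObjectProperty.prop_of_iso
      (SheafOfModules.isQuasicoherent (R := S.ringCatSheaf))
      (@CategoryTheory.asIso _ _ _ _ _ h1)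
      (Groth.Agent.Lib.QCoh.Pushforward.isQCoh_pushforward (M := M) f)
  | succ p =>
    obtain ⟨e⟩ := Groth.Agent.Lib.CohDelta.Syzygy.nonempty_rightDerived_iso
      (CategoryTheory.injectiveResolution M) f p
    exact CategoryTheory.ObjectProperty.prop_of_iso
      (SheafOfModules.isQuasicoherent (R := S.ringCatSheaf)) e.symm
      (Groth.Agent.Lib.CohDelta.QCohR.isQCoh_R f _ p inferInstance)

end Groth.Agent.S0030
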