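import Groth.Statements.S9293
import Groth.Agent.H2.Rigid.GeomRegLocal

set_option autoImplicit false
universe u
open CAlg

namespace Groth.Agent.S9293

/-- If R → Λ is a regular ring map and R' is an R-algebra of finite type, then R' → R' ⊗_R Λ is again
regular. -/
theorem result (R Λ R' : Type u) [CommRing R] [CommRing Λ] [CommRing R']
    [Algebra R Λ] [Algebra R R'] [Algebra.FiniteType R R'] (h : CAlg.IsRegularHom R Λ) :
    CAlg.IsRegularHom R' (TensorProduct R R' Λ) := by
  have := h.1
  refine ⟨inferInstance, fun p' _ => ?_⟩
  let p := p'.comap (algebraMap R R')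
  have := (h.2 p).1
  let φ : p.ResidueField →+* p'.ResidueField := Ideal.ResidueField.map p p' (algebraMap R R') rfl
  let _ : Algebra p.ResidueField p'.ResidueField := φ.toAlgebra
  have : IsScalarTower R p.ResidueField p'.ResidueField := IsScalarTower.of_algebraMap_eq fun x => by
    change algebraMap R p'.ResidueField x = φ (algebraMap R p.ResidueField x)
    rw [Ideal.ResidueField.map_algebraMap, IsScalarTower.algebraMap_apply R R' p'.ResidueField]
  have : Algebra.EssFiniteType R p'.ResidueField := Algebra.EssFiniteType.comp R R' _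
  have : Algebra.EssFiniteType p.ResidueField p'.ResidueField := Algebra.EssFiniteType.of_comp R _ _
  have := H2.Rigid.GeomRegAlg.isNoetherianRing_tensor (A := p.Fiber Λ) (k := p.ResidueField) p'.ResidueField
  have hN : IsNoetherianRing (p'.Fiber (TensorProduct R R' Λ)) := isNoetherianRing_of_ringEquiv
    (TensorProduct p.ResidueField p'.ResidueField (p.Fiber Λ))
    ((Algebra.TensorProduct.cancelBaseChange R p.ResidueField p'.ResidueField p'.ResidueField Λ).trans
      (Algebra.TensorProduct.cancelBaseChange R R' p'.ResidueField p'.ResidueField Λ).symm).toRingEquiv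
  exact ⟨hN, (H2.Rigid.GeomRegHom.fiber_iff' p p' rfl (h.2 p).1 hN).2 (h.2 p).2⟩

end Groth.Agent.S9293
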