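import Groth.Statements.S0600
import Groth.Agent.H21.CplCompare
import Groth.Agent.H21.PopescuCompl
import Groth.Agent.S9259
import Groth.Agent.S9295
import Groth.Agent.Lib.Excellent.CompletionNoetherian
import Mathlib.RingTheory.Localization.AtPrime.Basic
import Mathlib.RingTheory.Flat.FaithfullyFlat.Algebra
import Mathlib.RingTheory.AdicCompletion.AsTensorProduct
import Mathlib.RingTheory.AdicCompletion.LocalRing

set_option autoImplicit false
universe u
open CAlg

namespace Groth.Agent.S0600

/-- If `A` is a G-ring and `I` any ideal, then the map from `A` to its `I`-adic completion is regular. -/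
theorem result (A : Type u) [CommRing A] (hA : CAlg.IsGRing A)
    (I : Ideal A) : CAlg.IsRegularHom A (AdicCompletion I A) := by
  classical
  haveI := hA.1
  haveI : IsNoetherianRing (AdicCompletion I A) :=
    Groth.Agent.Lib.Excellent.CompletionNoetherian.isNoetherianRing_adicCompletion I
  have hfg : I.FG := IsNoetherian.noetherian I
  refine (Groth.Agent.S9259.result A (AdicCompletion I A)).2.mpr fun n hn => ?_
  -- `n` lies over a maximal ideal containing `I`
  have hIn : I.map (algebraMap A (AdicCompletion I A)) ≤ n := by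
    haveI : IsAdicComplete I (AdicCompletion I A) := AdicCompletion.isAdicComplete hfg
    haveI : IsAdicComplete (I.map (algebraMap A (AdicCompletion I A))) (AdicCompletion I A) :=
      (IsAdicComplete.map_algebraMap_iff I (AdicCompletion I A)).mpr inferInstance
    exact (IsAdicComplete.le_jacobson_bot _).trans (sInf_le ⟨bot_le, hn⟩)
  have hIm : I ≤ n.comap (algebraMap A (AdicCompletion I A)) := Ideal.map_le_iff_le_comap.mp hIn
  have happr : ∀ (k : ℕ) (x : AdicCompletion I A), ∃ a : A,
      x - algebraMap A (AdicCompletion I A) a ∈ (I ^ k).map (algebraMap A (AdicCompletion I A)) := by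
    intro k x
    obtain ⟨a, ha⟩ := Ideal.Quotient.mk_surjective (AdicCompletion.evalₐ I k x)
    refine ⟨a, Groth.Agent.H21.PopescuCompl.ker_evalₐ_le I k _ ?_⟩
    rw [map_sub, AlgHom.commutes, Ideal.Quotient.algebraMap_eq, ha, sub_self]
  have hdown : ∀ (k : ℕ) (P : Ideal A), I ^ k ≤ P → ∀ a : A,
      algebraMap A (AdicCompletion I A) a ∈ P.map (algebraMap A (AdicCompletion I A)) → a ∈ P := by
    intro k P hP a ha
    let θ : AdicCompletion I A →ₐ[A] A ⧸ P := (Ideal.Quotient.factorₐ A hP).comp (AdicCompletion.evalₐ I k)
    have : P.map (algebraMap A (AdicCompletion I A)) ≤ RingHom.ker θ := Ideal.map_le_iff_le_comap.mpr fun p hp => by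
      show θ (algebraMap A (AdicCompletion I A) p) = 0
      rw [AlgHom.commutes]
      exact Ideal.Quotient.eq_zero_iff_mem.mpr hp
    have h := RingHom.mem_ker.mp (this ha)
    rw [AlgHom.commutes] at h
    exact Ideal.Quotient.eq_zero_iff_mem.mp h
  obtain ⟨m, hmdef⟩ : ∃ m, m = n.comap (algebraMap A (AdicCompletion I A)) := ⟨_, rfl⟩
  have hn_eq : n = m.map (algebraMap A (AdicCompletion I A)) := by
    refine le_antisymm (fun x hx => ?_) (Ideal.map_le_iff_le_comap.mpr hmdef.le)
    obtain ⟨a, ha⟩ := happr 1 x
    rw [pow_one] at ha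
    have ham : a ∈ m := hmdef ▸ (by
      show algebraMap A (AdicCompletion I A) a ∈ n
      have := sub_mem hx (hIn ha)
      rwa [sub_sub_cancel] at this)
    have h := add_mem (Ideal.map_mono (hmdef ▸ hIm : I ≤ m) ha) (Ideal.mem_map_of_mem _ ham)
    rwa [sub_add_cancel] at h
  subst hmdef
  set m := n.comap (algebraMap A (AdicCompletion I A)) with hm'
  haveI hmax : m.IsMaximal := by
    refine Ideal.isMaximal_iff.mpr ⟨fun h => hn.ne_top ((Ideal.eq_top_iff_one _).mpr (by simpa [hm'] using h)), fun P a hPle ha haP => ?_⟩
    have hone : (1 : AdicCompletion I A) ∈ P.map (algebraMap A (AdicCompletion I A)) := by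
      obtain ⟨y, i, hi, hyi⟩ := hn.exists_inv (x := algebraMap A (AdicCompletion I A) a) ha
      rw [← hyi]
      exact add_mem (Ideal.mul_mem_left _ _ (Ideal.mem_map_of_mem _ haP))
        (Ideal.map_mono hPle (hn_eq.le hi))
    exact hdown 1 P (by rw [pow_one]; exact hIm.trans hPle) 1 (by rw [map_one]; exact hone)
  letI := (Localization.localRingHom (Ideal.comap (algebraMap A (AdicCompletion I A)) n) n
    (algebraMap A (AdicCompletion I A)) rfl).toAlgebra
  have hcomm : ∀ a : A, algebraMap (Localization.AtPrime m) (Localization.AtPrime n) (algebraMap A _ a) =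
      algebraMap (AdicCompletion I A) (Localization.AtPrime n) (algebraMap A (AdicCompletion I A) a) := fun a =>
    Localization.localRingHom_to_map _ _ _ _ a
  haveI : IsLocalHom (algebraMap (Localization.AtPrime m) (Localization.AtPrime n)) :=
    Localization.isLocalHom_localRingHom _ _ _ _
  have hpow : ∀ k, (m ^ k).map (algebraMap A (AdicCompletion I A)) = n ^ k := fun k => by
    rw [Ideal.map_pow, ← hn_eq]
  have hmaxmap : (IsLocalRing.maximalIdeal (Localization.AtPrime m)).map
      (algebraMap (Localization.AtPrime m) (Localization.AtPrime n)) = IsLocalRing.maximalIdeal (Localization.AtPrime n) := by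
    rw [← IsLocalization.AtPrime.map_eq_maximalIdeal m (Localization.AtPrime m),
      ← IsLocalization.AtPrime.map_eq_maximalIdeal n (Localization.AtPrime n), Ideal.map_map]
    refine Eq.trans ?_ (congrArg (Ideal.map (algebraMap (AdicCompletion I A) (Localization.AtPrime n))) hn_eq.symm)
    rw [Ideal.map_map]
    congr 1
    exact RingHom.ext hcomm
  have hin : ∀ (k : ℕ) (r : Localization.AtPrime m),
      algebraMap _ (Localization.AtPrime n) r ∈ IsLocalRing.maximalIdeal (Localization.AtPrime n) ^ k →
        r ∈ IsLocalRing.maximalIdeal (Localization.AtPrime m) ^ k := by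
    intro k r hr
    obtain ⟨x, hx⟩ := Ideal.Quotient.mk_surjective
      ((IsLocalization.AtPrime.equivQuotMaximalIdealPow m (Localization.AtPrime m) k).symm (Ideal.Quotient.mk _ r))
    have hx' := congrArg (IsLocalization.AtPrime.equivQuotMaximalIdealPow m (Localization.AtPrime m) k) hx
    rw [AlgEquiv.apply_symm_apply, IsLocalization.AtPrime.equivQuotMaximalIdealPow_apply_mk, Ideal.Quotient.eq] at hx'
    have h2 : algebraMap (AdicCompletion I A) (Localization.AtPrime n) (algebraMap A _ x) ∈
        IsLocalRing.maximalIdeal (Localization.AtPrime n) ^ k := by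
      have h3 : algebraMap (Localization.AtPrime m) (Localization.AtPrime n) (algebraMap A _ x - r) ∈
          IsLocalRing.maximalIdeal (Localization.AtPrime n) ^ k := by
        rw [← hmaxmap, ← Ideal.map_pow]
        exact Ideal.mem_map_of_mem _ hx'
      have h4 := add_mem h3 hr
      rwa [← map_add, sub_add_cancel, hcomm] at h4
    have h5 : algebraMap A (AdicCompletion I A) x ∈ n ^ k := by
      rw [← Ideal.Quotient.eq_zero_iff_mem]
      refine (IsLocalization.AtPrime.equivQuotMaximalIdealPow n (Localization.AtPrime n) k).injective ?_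
      rw [IsLocalization.AtPrime.equivQuotMaximalIdealPow_apply_mk, map_zero]
      exact Ideal.Quotient.eq_zero_iff_mem.mpr h2
    rw [← hpow] at h5
    have h6 : x ∈ m ^ k := hdown k (m ^ k) (Ideal.pow_right_mono hIm k) x h5
    have h7 : algebraMap A (Localization.AtPrime m) x ∈ IsLocalRing.maximalIdeal (Localization.AtPrime m) ^ k := by
      rw [← IsLocalization.AtPrime.map_eq_maximalIdeal m (Localization.AtPrime m), ← Ideal.map_pow]
      exact Ideal.mem_map_of_mem _ h6
    have := sub_mem h7 hx'
    rwa [sub_sub_cancel] at this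
  have hout : ∀ (k : ℕ) (s : Localization.AtPrime n), ∃ r : Localization.AtPrime m,
      s - algebraMap _ (Localization.AtPrime n) r ∈ IsLocalRing.maximalIdeal (Localization.AtPrime n) ^ k := by
    intro k s
    obtain ⟨x, hx⟩ := Ideal.Quotient.mk_surjective
      ((IsLocalization.AtPrime.equivQuotMaximalIdealPow n (Localization.AtPrime n) k).symm (Ideal.Quotient.mk _ s))
    have hx' := congrArg (IsLocalization.AtPrime.equivQuotMaximalIdealPow n (Localization.AtPrime n) k) hx
    rw [AlgEquiv.apply_symm_apply, IsLocalization.AtPrime.equivQuotMaximalIdealPow_apply_mk, Ideal.Quotient.eq] at hx'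
    obtain ⟨a, ha⟩ := happr k x
    refine ⟨algebraMap A _ a, ?_⟩
    have h2 : algebraMap (AdicCompletion I A) (Localization.AtPrime n) (x - algebraMap A _ a) ∈
        IsLocalRing.maximalIdeal (Localization.AtPrime n) ^ k := by
      rw [← IsLocalization.AtPrime.map_eq_maximalIdeal n (Localization.AtPrime n), ← Ideal.map_pow, ← hpow]
      exact Ideal.mem_map_of_mem _ (Ideal.map_mono (Ideal.pow_right_mono hIm k) ha)
    rw [map_sub, ← hcomm] at h2
    have := sub_mem h2 hx'
    rwa [sub_sub_sub_cancel_left] at this
  obtain ⟨e, he⟩ := Groth.Agent.H21.CplCompare.exists_cplEquiv _ _ hmaxmap hin hout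
  haveI : IsNoetherianRing (Localization.AtPrime n) := IsLocalization.isNoetherianRing n.primeCompl _ inferInstance
  haveI : IsNoetherianRing (Localization.AtPrime m) := IsLocalization.isNoetherianRing m.primeCompl _ inferInstance
  let C := AdicCompletion (IsLocalRing.maximalIdeal (Localization.AtPrime n)) (Localization.AtPrime n)
  let D := AdicCompletion (IsLocalRing.maximalIdeal (Localization.AtPrime m)) (Localization.AtPrime m)
  letI : Algebra C D := e.symm.toRingHom.toAlgebra
  letI : Algebra (Localization.AtPrime m) C := Algebra.compHom C (algebraMap (Localization.AtPrime m) (Localization.AtPrime n))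
  haveI : IsScalarTower (Localization.AtPrime m) (Localization.AtPrime n) C := IsScalarTower.of_algebraMap_eq fun _ => rfl
  haveI : IsScalarTower (Localization.AtPrime m) C D := IsScalarTower.of_algebraMap_eq fun r =>
    (e.symm_apply_eq.mpr (he r).symm).symm
  haveI : Module.Flat C D := Module.Flat.of_linearEquiv
    (AlgEquiv.ofRingEquiv (R := C) (f := e.symm) fun c => rfl).toLinearEquiv.symm
  have hC : CAlg.IsRegularHom (Localization.AtPrime m) C := by
    refine Groth.Agent.S9295.result (Localization.AtPrime m) C D (hA.2 m) fun P => ?_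
    refine ⟨PrimeSpectrum.comap (e : _ →+* C) P, PrimeSpectrum.ext ?_⟩
    rw [PrimeSpectrum.comap_asIdeal, PrimeSpectrum.comap_asIdeal, Ideal.comap_comap]
    ext z
    rw [Ideal.mem_comap]
    exact iff_of_eq (congrArg (· ∈ P.asIdeal) (e.apply_symm_apply z))
  refine Groth.Agent.S9295.result (Localization.AtPrime m) (Localization.AtPrime n) C hC ?_
  haveI : IsLocalHom (algebraMap (Localization.AtPrime n) C) := inferInstance
  haveI : Module.Flat (Localization.AtPrime n) C := inferInstance
  haveI : Module.FaithfullyFlat (Localization.AtPrime n) C := Module.FaithfullyFlat.of_flat_of_isLocalHom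
  exact PrimeSpectrum.comap_surjective_of_faithfullyFlat

end Groth.Agent.S0600
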