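import Groth.Statements.S19379
import Groth.Agent.H68.RegularHomFS

set_option autoImplicit false
universe u
open CAlg

namespace Groth.Agent.S19379

/-- Let A and B be Noetherian rings and let B be an A-algebra which is formally smooth for the discrete
topologies. Then A → B is a regular homomorphism, that is, flat with (Noetherian) geometrically
regular fibres. -/
theorem result
    (A B : Type u) [CommRing A] [CommRing B] [Algebra A B]
    [IsNoetherianRing A] [IsNoetherianRing B] [Algebra.FormallySmooth A B] :
    CAlg.IsRegularHom A B := by
  refine H68.RegularHomFS.isRegularHom_iff.mpr fun q _ => ?_
  letI := (Localization.localRingHom (q.comap (algebraMap A B)) q (algebraMap A B) rfl).toAlgebra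
  haveI : IsScalarTower A (Localization.AtPrime (q.comap (algebraMap A B))) (Localization.AtPrime q) :=
    IsScalarTower.of_algebraMap_eq fun a => by
      rw [IsScalarTower.algebraMap_apply A B (Localization.AtPrime q)]
      exact (Localization.localRingHom_to_map _ q (algebraMap A B) rfl a).symm
  exact H68.RegularHomFS.adic_localization_of_formallySmooth q _

end Groth.Agent.S19379
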