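import Groth.Statements.S5172
import Groth.Agent.Lib.LCFin.RelCodim
import Groth.Agent.Lib.Depth.LocalCoh
-- import your own Groth.Agent.* helpers here

set_option autoImplicit false
universe u
open LocCoh

namespace Groth.Agent.S5172

/-- Let A be a Noetherian ring which is a quotient of a regular ring, I an ideal, M a finite A-module
and n ≥ 0; c(p) = codim(V(p) ∩ V(I), V(p)). Then depth M_p > n − c(p) for all primes p ⊉ I if and
only if depth M_p ≥ n for all primes p ⊉ I with c(p) = 1. -/
theorem result (R : Type u) [CommRing R] [IsRegularRing R] (A : Type u) [CommRing A] [IsNoetherianRing A] (π : R →+* A) (hπ : Function.Surjective π) (I : Ideal A) (M : Type u) [AddCommGroup M] [Module A M] [Module.Finite A M] (n : ℕ) : (∀ p : PrimeSpectrum A, ¬ I ≤ p.asIdeal → (n : ℕ∞) < LocCoh.depth (Localization.AtPrime p.asIdeal) (LocalizedModule p.asIdeal.primeCompl M) + SGA2.relCodim I p) ↔ (∀ p : PrimeSpectrum A, ¬ I ≤ p.asIdeal → SGA2.relCodim I p = 1 → (n : ℕ∞) ≤ LocCoh.depth (Localization.AtPrime p.asIdeal) (LocalizedModule p.asIdeal.primeCompl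 M)) := by
  algebraize [π]
  have hdepth : ∀ (p : PrimeSpectrum A) (k : ℕ), (k : ℕ∞) ≤ LocCoh.depth (Localization.AtPrime p.asIdeal)
      (LocalizedModule p.asIdeal.primeCompl M) ↔ ∀ i < k, Subsingleton (LocCoh.H
        (IsLocalRing.maximalIdeal (Localization.AtPrime p.asIdeal)) i (LocalizedModule p.asIdeal.primeCompl M)) := by
    intro p k
    have := Module.Finite.of_isLocalizedModule p.asIdeal.primeCompl (Rₚ := Localization.AtPrime p.asIdeal)
      (LocalizedModule.mkLinearMap p.asIdeal.primeCompl M)
    exact Groth.Agent.Lib.Depth.LocalCoh.le_idealDepth_iff_H _ _ k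
  constructor
  · intro h p hp hc
    have := h p hp
    rw [hc] at this
    exact Order.le_of_lt_add_one this
  · intro h p hp
    by_contra hlt
    rw [not_lt] at hlt
    obtain ⟨c, hc⟩ := ENat.ne_top_iff_exists.1 (ne_top_of_le_ne_top (ENat.natCast_ne_top n)
      (le_add_self.trans hlt))
    obtain ⟨d, hd⟩ := ENat.ne_top_iff_exists.1 (ne_top_of_le_ne_top (ENat.natCast_ne_top n)
      (le_self_add.trans hlt))
    rw [← hc, ← hd] at hlt
    have hdc : d + c ≤ n := by exact_mod_cast hlt
    have hne : ¬ Subsingleton (LocCoh.H (IsLocalRing.maximalIdeal (Localization.AtPrime p.asIdeal)) d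
        (LocalizedModule p.asIdeal.primeCompl M)) := by
      intro hs
      have h1 : ((d + 1 : ℕ) : ℕ∞) ≤ (d : ℕ∞) := by
        rw [hd, hdepth p (d + 1)]
        intro i hi
        rcases Nat.lt_or_ge i d with hi' | hi'
        · exact (hdepth p d).1 hd.le i hi'
        · obtain rfl : i = d := by omega
          exact hs
      have : d + 1 ≤ d := by exact_mod_cast h1
      omega
    obtain ⟨p', hp', hc', j', hj', hH⟩ :=
      Groth.Agent.Lib.LCFin.RelCodim.exists_codim_one (R := R) hπ M I hp hc.symm hne
    exact hH ((hdepth p' n).1 (h p' hp' hc') j' (by omega))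


end Groth.Agent.S5172
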