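import Groth.Statements.S9406
import Mathlib.RingTheory.Flat.Localization
import Mathlib.RingTheory.RegularLocalRing.Defs
import Groth.Agent.Lib.Regular.Descent

set_option autoImplicit false
universe u
open CAlg

namespace Groth.Agent.S9406

/-- Regularity descends along faithfully flat ring maps: whenever S is a faithfully flat R-algebra whose
underlying ring is regular, the base ring R is regular as well. -/
theorem result (R : Type u) [CommRing R] (S : Type u) [CommRing S]
    [Algebra R S] [Module.FaithfullyFlat R S] [IsRegularRing S] : IsRegularRing R := by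
  haveI : IsNoetherianRing R := by
    have h : IsNoetherian S (TensorProduct R S R) :=
      isNoetherian_of_linearEquiv (TensorProduct.AlgebraTensorModule.rid R S S).symm
    exact Submodule.IsNoetherian.of_isNoetherian_tensorProduct_of_faithfullyFlat (A := S) h
  rw [isRegularRing_iff]
  intro p hp
  obtain ⟨⟨q, hq⟩, hqp⟩ := PrimeSpectrum.comap_surjective_of_faithfullyFlat (A := R) (B := S) ⟨p, hp⟩
  have hqp' : q.comap (algebraMap R S) = p := congrArg PrimeSpectrum.asIdeal hqp
  haveI : q.LiesOver p := ⟨hqp'.symm⟩
  let φ := Localization.localRingHom p q (algebraMap R S) hqp'.symm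
  letI : Algebra (Localization.AtPrime p) (Localization.AtPrime q) := φ.toAlgebra
  haveI : Localization.AtPrime.IsLiesOverAlgebra p q := ⟨rfl⟩
  haveI : IsLocalHom (algebraMap (Localization.AtPrime p) (Localization.AtPrime q)) :=
    Localization.isLocalHom_localRingHom _ _ _ hqp'.symm
  exact Groth.Agent.Lib.Regular.Descent.isRegularLocalRing_of_flat (Localization.AtPrime q)

end Groth.Agent.S9406
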