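import Groth.Statements.S10888
import Groth.Agent.H2.Rigid.FibreIso
import Groth.Agent.Lib.Lim.OpenImm

set_option autoImplicit false
universe u
open CategoryTheory AlgebraicGeometry
open FlatMor

namespace Groth.Agent.S10888

/-- Let g : X → S and h : Y → S be proper and of finite presentation with g flat, and f : X → Y a
morphism over S. Then the locus U of points of S over which the fibre morphism X_s → Y_s is an
isomorphism is an open subset of S, and f restricts to an isomorphism over U. -/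
theorem result {X Y S : Scheme.{u}} (g : X ⟶ S) (h : Y ⟶ S)
    [IsProper g] [LocallyOfFinitePresentation g] [Flat g] [IsProper h] [LocallyOfFinitePresentation h]
    (f : X ⟶ Y) (w : f ≫ h = g) :
    ∃ U : S.Opens, (∀ s : S, s ∈ U ↔ ∃ e : g.fiber s ≅ h.fiber s, e.hom ≫ h.fiberι s = g.fiberι s ≫ f) ∧
      IsIso (f ∣_ (h ⁻¹ᵁ U)) := by
  classical
  haveI : IsProper (f ≫ h) := w ▸ inferInstance
  haveI : IsProper f := IsProper.of_comp f h
  haveI : LocallyOfFinitePresentation (f ≫ h) := w ▸ inferInstance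
  haveI : LocallyOfFiniteType h := inferInstance
  haveI : LocallyOfFinitePresentation f := Groth.Agent.Lib.Lim.OpenImm.lfp_of_comp f h
  let G : Set Y := {y | ∃ D : Y.Opens, y ∈ D ∧ IsIso (f ∣_ D)}
  have hG : IsOpen G := by
    rw [isOpen_iff_forall_mem_open]
    rintro y ⟨D, hy, hD⟩
    exact ⟨(D : Set Y), fun z hz => ⟨D, hz, hD⟩, D.2, hy⟩
  let U : S.Opens := ⟨(h '' Gᶜ)ᶜ, (h.isClosedMap _ hG.isClosed_compl).isOpen_compl⟩
  have hUG : ∀ s : S, s ∈ U ↔ ∀ y, h y = s → y ∈ G := fun s =>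
    ⟨fun hs y hy => Classical.not_not.1 fun hn => hs ⟨y, hn, hy⟩, fun hs ⟨y, hn, hy⟩ => hn (hs y hy)⟩
  have hiso : IsIso (f ∣_ (h ⁻¹ᵁ U)) := by
    have hc : ∀ y : h ⁻¹ᵁ U, ∃ D : Y.Opens, y.1 ∈ D ∧ IsIso (f ∣_ D) := fun y =>
      (hUG _).1 y.2 y.1 rfl
    choose D hyD hD using hc
    refine IsZariskiLocalAtTarget.of_iSup_eq_top (P := MorphismProperty.isomorphisms Scheme)
      (fun y : h ⁻¹ᵁ U => (h ⁻¹ᵁ U).ι ⁻¹ᵁ D y) ?_ fun y => ?_
    · exact top_le_iff.1 fun y _ => TopologicalSpace.Opens.mem_iSup.2 ⟨y, hyD y⟩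
    · refine ((MorphismProperty.isomorphisms Scheme).arrow_mk_iso_iff
        (morphismRestrictRestrict f _ _)).2 ?_
      have hle : (h ⁻¹ᵁ U).ι ''ᵁ (h ⁻¹ᵁ U).ι ⁻¹ᵁ D y ≤ D y := by
        rw [Scheme.Hom.image_preimage_eq_opensRange_inf]; exact inf_le_right
      haveI := hD y
      exact MorphismProperty.of_isPullback (P := MorphismProperty.isomorphisms Scheme)
        (Groth.Agent.H2.Rigid.isPullback_restrict_le f hle) (inferInstanceAs (IsIso (f ∣_ D y)))
  refine ⟨U, fun s => ⟨fun hs => ?_, fun ⟨e, he⟩ => ?_⟩, hiso⟩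
  · have hr : Set.range (h.fiberι s) ⊆ Set.range (h ⁻¹ᵁ U).ι := by
      rw [h.range_fiberι, Scheme.Opens.range_ι]
      intro y hy
      show h y ∈ U
      rw [show h y = s from hy]
      exact hs
    let z := IsOpenImmersion.lift (h ⁻¹ᵁ U).ι (h.fiberι s) hr
    have hz : z ≫ (h ⁻¹ᵁ U).ι = h.fiberι s := IsOpenImmersion.lift_fac _ _ _
    let m : g.fiber s ⟶ h.fiber s := CategoryTheory.Limits.pullback.lift (g.fiberι s ≫ f) (g.fiberToSpecResidueField s)
      (by rw [Category.assoc, w]; exact g.fiber_fac s)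
    have hm : m ≫ h.fiberι s = g.fiberι s ≫ f := CategoryTheory.Limits.pullback.lift_fst _ _ _
    have hsq : IsPullback (g.fiberι s) m f (h.fiberι s) := by
      refine IsPullback.of_bot ?_ hm.symm (IsPullback.of_hasPullback h (S.fromSpecResidueField s))
      rw [w]
      exact (congrArg (fun v => IsPullback (g.fiberι s) v g (S.fromSpecResidueField s))
        (CategoryTheory.Limits.pullback.lift_snd _ _ _)).mpr
        (IsPullback.of_hasPullback g (S.fromSpecResidueField s))
    have hW := isPullback_morphismRestrict f (h ⁻¹ᵁ U)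
    let l := hW.flip.lift (g.fiberι s) (m ≫ z) (by rw [Category.assoc, hz, hm])
    have hl : IsPullback l m (f ∣_ (h ⁻¹ᵁ U)) z := by
      refine IsPullback.of_right ?_ (hW.flip.lift_snd _ _ _) hW.flip
      rw [hW.flip.lift_fst, hz]
      exact hsq
    haveI : IsIso m := MorphismProperty.of_isPullback (P := MorphismProperty.isomorphisms Scheme) hl hiso
    exact ⟨asIso m, hm⟩
  · refine (hUG s).2 fun y hy => ?_
    -- fibres of `f` over points over `s` have at most one point
    have hsub : ∀ y' : Y, h y' = s → (f ⁻¹' {y'}).Subsingleton := by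
      intro y' hy' a ha b hb
      have hmem : ∀ c, f c = y' → c ∈ Set.range (g.fiberι s) := fun c hc => by
        rw [g.range_fiberι]
        show g c = s
        rw [← w]
        exact (congrArg h hc).trans hy'
      obtain ⟨a', rfl⟩ := hmem a ha
      obtain ⟨b', rfl⟩ := hmem b hb
      have h1 : (e.hom ≫ h.fiberι s) a' = (e.hom ≫ h.fiberι s) b' := by
        rw [he]; exact (show f _ = y' from ha).trans (show f _ = y' from hb).symm
      have h2 := (h.fiberι s).isEmbedding.injective h1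
      have hbij : Function.Injective e.hom := fun u v huv => by
        have h3 := congrArg e.inv huv
        simpa [← Scheme.Hom.comp_apply] using h3
      rw [hbij h2]
    have hqf : ∀ x : X, h (f x) = s → x ∈ f.quasiFiniteLocus := by
      intro x hx
      rw [Scheme.Hom.mem_quasiFiniteLocus, Scheme.Hom.quasiFiniteAt_iff_isOpen_singleton_asFiber]
      have : Subsingleton (f.fiber (f x)) := ⟨fun a b => by
        refine (f.fiberHomeo (f x)).injective (Subtype.ext ?_)
        exact hsub _ hx (f.fiberHomeo (f x) a).2 (f.fiberHomeo (f x) b).2⟩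
      exact isOpen_discrete _
    let W₀ : Y.Opens := ⟨(f '' (f.quasiFiniteLocus : Set X)ᶜ)ᶜ,
      (f.isClosedMap _ f.quasiFiniteLocus.2.isClosed_compl).isOpen_compl⟩
    have hyW : y ∈ W₀ := fun ⟨x, hx, hxy⟩ => hx (hqf x (by rw [hxy]; exact hy))
    obtain ⟨_, ⟨A, hA, rfl⟩, hsA, -⟩ :=
      S.isBasis_affineOpens.exists_subset_of_mem_open (Set.mem_univ s) isOpen_univ
    obtain ⟨_, ⟨V, hV, rfl⟩, hyV, hVsub⟩ :=
      Y.isBasis_affineOpens.exists_subset_of_mem_open
        (show y ∈ ((W₀ ⊓ h ⁻¹ᵁ A : Y.Opens) : Set Y) from ⟨hyW, by show h y ∈ A; rw [hy]; exact hsA⟩)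
        (W₀ ⊓ h ⁻¹ᵁ A).2
    have hle : f ⁻¹ᵁ V ≤ f.quasiFiniteLocus := fun x hx => Classical.not_not.1 fun hn =>
      (hVsub hx).1 ⟨x, hn, rfl⟩
    let V' : Y.Opens := V
    haveI : LocallyQuasiFinite ((f ∣_ V') ≫ V'.ι) := by
      rw [morphismRestrict_ι, ← X.homOfLE_ι hle, Category.assoc]
      infer_instance
    haveI : LocallyQuasiFinite (f ∣_ V') := LocallyQuasiFinite.of_comp _ V'.ι
    haveI : IsProper (f ∣_ V') := MorphismProperty.of_isPullback (isPullback_morphismRestrict f V').flip inferInstance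
    haveI : IsFinite (f ∣_ V') := IsFinite.of_isProper_of_locallyQuasiFinite _
    exact Groth.Agent.H2.Rigid.exists_isIso_nhd g h f e he w hA hV
      (fun z hz => (hVsub hz).2) y hy hyV

end Groth.Agent.S10888
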