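import Groth.Statements.S1186
import Groth.Agent.H80.MilnorPatch
import Groth.Agent.Lib.Ferrand.Chart
import Groth.Agent.Lib.Ferrand.Cartesian
import Groth.Agent.Lib.Ferrand.BaseChange

set_option autoImplicit false
set_option backward.isDefEq.respectTransparency false
universe u
open Pi1

namespace Groth.Agent.S1186

open AlgebraicGeometry CategoryTheory CategoryTheory.Limits in
/-- Let i : Z ⟶ X be a closed immersion and j : Z ⟶ Y an integral morphism such that every fibre of j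
lies in the preimage under i of some affine open of X, and let a : X ⟶ W, b : Y ⟶ W exhibit W as the
pushout of i and j in the category of schemes. If U is finite étale over X and V is finite étale
over Y with U ×_X Z ≅ V ×_Y Z over Z, then there is a finite étale cover T of W whose restrictions
to X and to Y are isomorphic to U and to V respectively. (This is the essential-surjectivity part of
an equivalence between finite étale covers of W and the 2-fibre product of the categories of finite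
étale covers of X and of Y over that of Z; only the gluing of objects is asserted, and the
compatibility of the two identifications over Z is not asserted.) -/
theorem result {Z X Y W : Scheme.{u}} (i : Z ⟶ X) [IsClosedImmersion i] (j : Z ⟶ Y) [IsIntegralHom j]
    (h3 : ∀ y : Y, ∃ U : X.Opens, IsAffineOpen U ∧ ∀ z : Z, j.base z = y → i.base z ∈ U)
    (a : X ⟶ W) (b : Y ⟶ W) (hpo : IsPushout i j a b)
    (U : FEt.Cat X) (V : FEt.Cat Y) (e : (FEt.restrict i).obj U ≅ (FEt.restrict j).obj V) :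
    ∃ T : FEt.Cat W, Nonempty ((FEt.restrict a).obj T ≅ U) ∧ Nonempty ((FEt.restrict b).obj T ≅ V) := by
  let f : U.left ⟶ X := U.hom
  let g : V.left ⟶ Y := V.hom
  have : IsFinite f := U.prop.1
  have : Etale f := U.prop.2
  have : IsFinite g := V.prop.1
  have : Etale g := V.prop.2
  -- the covers over `Z`
  let Z' : Scheme.{u} := pullback f i
  let i' : Z' ⟶ U.left := pullback.fst f i
  let c : Z' ⟶ Z := pullback.snd f i
  let j' : Z' ⟶ V.left := e.hom.left ≫ pullback.fst g j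
  have hX : IsPullback c i' i f := (IsPullback.of_hasPullback f i).flip
  have hec : e.hom.left ≫ pullback.snd g j = c := Over.w e.hom.hom
  have hel : IsIso e.hom.left := (inferInstance :
    IsIso ((MorphismProperty.Over.forget FEt.prop.{u} ⊤ Z ⋙ Over.forget Z).map e.hom))
  have hY : IsPullback c j' j g :=
    (IsPullback.of_hasPullback g j).flip.of_iso (asIso e.hom.left).symm (Iso.refl _) (Iso.refl _)
      (Iso.refl _) (by simp only [asIso_inv, Iso.symm_hom, Iso.refl_hom, Category.comp_id]; rw [← hec]; exact (IsIso.inv_hom_id_assoc _ _).symm) (by simp only [asIso_inv, Iso.symm_hom, Iso.refl_hom, Category.comp_id, j']; exact (IsIso.inv_hom_id_assoc _ _).symm) (by simp) (by simp)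
  have : IsClosedImmersion i' := MorphismProperty.of_isPullback hX inferInstance
  have : IsIntegralHom j' := MorphismProperty.of_isPullback hY inferInstance
  have hcov := Groth.Agent.Lib.Ferrand.cover_of_integral i j fun y => by
    obtain ⟨O, hO, hy⟩ := h3 y
    exact ⟨O, hO, fun z hz => hy z hz⟩
  have hcov' := Groth.Agent.Lib.Ferrand.cover_of_integral i' j' fun y => by
    obtain ⟨O, hO, hy⟩ := h3 (g y)
    refine ⟨f ⁻¹ᵁ O, hO.preimage f, fun z hz => ?_⟩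
    show f (i' z) ∈ O
    rw [← Scheme.Hom.comp_apply, ← hX.w, Scheme.Hom.comp_apply]
    refine hy _ ?_
    show j (c z) = g y
    rw [← Scheme.Hom.comp_apply, hY.w, Scheme.Hom.comp_apply, (hz : j' z = y)]
  have hg := Groth.Agent.Lib.Ferrand.GluedBy.of_isPushout hcov hpo
  obtain ⟨P', a', b', hg'⟩ := Groth.Agent.Lib.Ferrand.exists_gluedBy hcov'
  have hw : i' ≫ f ≫ a = j' ≫ g ≫ b := by
    rw [← reassoc_of% hX.w, hpo.w, reassoc_of% hY.w]
  let k := hg'.isPushout.desc (f ≫ a) (g ≫ b) hw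
  have ha : a' ≫ k = f ≫ a := hg'.isPushout.inl_desc _ _ _
  have hb : b' ≫ k = g ≫ b := hg'.isPushout.inr_desc _ _ _
  obtain ⟨pa, pb, -⟩ := hg.cartesian hg' hX hY ha hb
  have := hg.isAffineHom_left
  have := hg.isClosedImmersion_right
  have hloc : ∀ p : W, ∃ O : W.Opens, p ∈ O ∧ IsFinite (k ∣_ O) ∧ Etale (k ∣_ O) := fun p => by
    obtain ⟨O, hO, hpO, -⟩ := exists_isAffineOpen_mem_and_subset (x := p) (U := ⊤) trivial
    refine ⟨O, hpO, ?_⟩
    have eA : a' ⁻¹ᵁ (k ⁻¹ᵁ O) = f ⁻¹ᵁ (a ⁻¹ᵁ O) := by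
      rw [← Scheme.Hom.comp_preimage, ← Scheme.Hom.comp_preimage, ha]
    have eB : b' ⁻¹ᵁ (k ⁻¹ᵁ O) = g ⁻¹ᵁ (b ⁻¹ᵁ O) := by
      rw [← Scheme.Hom.comp_preimage, ← Scheme.Hom.comp_preimage, hb]
    let k' : Groth.Agent.Lib.Ferrand.AffPair i' j' := ⟨a' ⁻¹ᵁ (k ⁻¹ᵁ O), b' ⁻¹ᵁ (k ⁻¹ᵁ O),
      eA ▸ (hO.preimage a).preimage f, eB ▸ (hO.preimage b).preimage g, by
        change i' ⁻¹ᵁ (a' ⁻¹ᵁ (k ⁻¹ᵁ O)) = j' ⁻¹ᵁ (b' ⁻¹ᵁ (k ⁻¹ᵁ O))
        rw [← Scheme.Hom.comp_preimage i' a', ← Scheme.Hom.comp_preimage j' b', hg'.isPushout.w]⟩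
    obtain ⟨O', hO', hOa, hOb⟩ :=
      Groth.Agent.Lib.Ferrand.exists_affineOpen_of_pair hcov' hg'.isPushout k'
    have hOk : O' = k ⁻¹ᵁ O := by
      ext q
      rcases hg'.surj q with ⟨x, rfl⟩ | ⟨y, rfl⟩
      · exact SetLike.ext_iff.mp hOa x
      · exact SetLike.ext_iff.mp hOb y
    subst hOk
    have e₁ : i ⁻¹ᵁ (a ⁻¹ᵁ O) ≤ j ⁻¹ᵁ (b ⁻¹ᵁ O) := by
      rw [← Scheme.Hom.comp_preimage, ← Scheme.Hom.comp_preimage, hpo.w]
    have e₂ : i' ⁻¹ᵁ (a' ⁻¹ᵁ (k ⁻¹ᵁ O)) = j' ⁻¹ᵁ (b' ⁻¹ᵁ (k ⁻¹ᵁ O)) := k'.eq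
    have hsq := hg.affSq_restrict O hO e₁
    have hsq' := hg'.affSq_restrict (k ⁻¹ᵁ O) hO' e₂.le
    have eX : i' ⁻¹ᵁ (a' ⁻¹ᵁ (k ⁻¹ᵁ O)) =
        c ⁻¹ᵁ (i ⁻¹ᵁ (a ⁻¹ᵁ O)) ⊓ i' ⁻¹ᵁ (a' ⁻¹ᵁ (k ⁻¹ᵁ O)) := by
      refine (inf_eq_right.mpr fun z hz => ?_).symm
      show i (c z) ∈ a ⁻¹ᵁ O
      rw [← Scheme.Hom.comp_apply, hX.w, Scheme.Hom.comp_apply]
      exact eA.le hz
    have eY : i' ⁻¹ᵁ (a' ⁻¹ᵁ (k ⁻¹ᵁ O)) =
        c ⁻¹ᵁ (i ⁻¹ᵁ (a ⁻¹ᵁ O)) ⊓ j' ⁻¹ᵁ (b' ⁻¹ᵁ (k ⁻¹ᵁ O)) := eX.trans (by rw [e₂])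
    have rX := Scheme.Hom.isPullback_resLE hX (US := a ⁻¹ᵁ O) (UT := a' ⁻¹ᵁ (k ⁻¹ᵁ O))
      (UX := i ⁻¹ᵁ (a ⁻¹ᵁ O)) eA.le le_rfl eX
    have rY := Scheme.Hom.isPullback_resLE hY (US := b ⁻¹ᵁ O) (UT := b' ⁻¹ᵁ (k ⁻¹ᵁ O))
      (UX := i ⁻¹ᵁ (a ⁻¹ᵁ O)) eB.le e₁ eY
    have := hsq.affX; have := hsq.affY; have := hsq.affZ; have := hsq.affP
    have := hsq'.affX; have := hsq'.affY; have := hsq'.affZ; have := hsq'.affP
    let fO := f.resLE (a ⁻¹ᵁ O) (a' ⁻¹ᵁ (k ⁻¹ᵁ O)) eA.le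
    let gO := g.resLE (b ⁻¹ᵁ O) (b' ⁻¹ᵁ (k ⁻¹ᵁ O)) eB.le
    have : IsFinite fO := by
      rw [f.resLE_congr eA.le rfl eA @IsFinite, Scheme.Hom.resLE_eq_morphismRestrict]; infer_instance
    have hfe : Etale fO := by
      rw [f.resLE_congr eA.le rfl eA @Etale, Scheme.Hom.resLE_eq_morphismRestrict]; infer_instance
    have : IsFinite gO := by
      rw [g.resLE_congr eB.le rfl eB @IsFinite, Scheme.Hom.resLE_eq_morphismRestrict]; infer_instance
    have hge : Etale gO := by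
      rw [g.resLE_congr eB.le rfl eB @Etale, Scheme.Hom.resLE_eq_morphismRestrict]; infer_instance
    let kO := k.resLE O (k ⁻¹ᵁ O) le_rfl
    have haO : a'.resLE (k ⁻¹ᵁ O) (a' ⁻¹ᵁ (k ⁻¹ᵁ O)) le_rfl ≫ kO =
        fO ≫ a.resLE O (a ⁻¹ᵁ O) le_rfl := by
      rw [← cancel_mono O.ι]; simp [kO, fO, ha]
    have hbO : b'.resLE (k ⁻¹ᵁ O) (b' ⁻¹ᵁ (k ⁻¹ᵁ O)) le_rfl ≫ kO =
        gO ≫ b.resLE O (b ⁻¹ᵁ O) le_rfl := by
      rw [← cancel_mono O.ι]; simp [kO, gO, hb]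
    obtain ⟨hfin, het⟩ := Groth.Agent.H80.MilnorPatch.finite_etale
      (κ := kO.appTop) (δ := gO.appTop) (γ := fO.appTop)
      ({ sq := hsq.sq
         sq₁ := hsq'.sq
         wr := by rw [← Scheme.Hom.comp_appTop, ← Scheme.Hom.comp_appTop, hbO]
         ws := by rw [← Scheme.Hom.comp_appTop, ← Scheme.Hom.comp_appTop, haO]
         right := isPushout_appTop_of_isPullback rY
         bot := isPushout_appTop_of_isPullback rX } :
        Groth.Agent.Lib.Ferrand.IsCartMap _ _ _ _ _ _ _ _ _ _ _ _)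
      gO.finite_appTop fO.finite_appTop
      ((HasRingHomProperty.iff_of_isAffine (P := @Etale)).mp hge)
      ((HasRingHomProperty.iff_of_isAffine (P := @Etale)).mp hfe)
    rw [← Scheme.Hom.resLE_eq_morphismRestrict]
    refine ⟨?_, (HasRingHomProperty.iff_of_isAffine (P := @Etale)).mpr het⟩
    rw [HasAffineProperty.iff_of_isAffine (P := @IsFinite)]
    exact ⟨inferInstance, hfin⟩
  choose O hpO hfinO hetO using hloc
  have htop : iSup O = ⊤ := eq_top_iff.mpr fun p _ => TopologicalSpace.Opens.mem_iSup.mpr ⟨p, hpO p⟩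
  have : IsFinite k := (IsZariskiLocalAtTarget.iff_of_iSup_eq_top (P := (@IsFinite : MorphismProperty Scheme.{u})) O htop).mpr hfinO
  have : IsZariskiLocalAtTarget (@Etale : MorphismProperty Scheme.{u}) :=
    HasRingHomProperty.instIsZariskiLocalAtTarget @Etale
  have : Etale k := (IsZariskiLocalAtTarget.iff_of_iSup_eq_top (P := @Etale) O htop).mpr hetO
  refine ⟨MorphismProperty.Over.mk ⊤ k ⟨inferInstance, inferInstance⟩, ⟨?_⟩, ⟨?_⟩⟩
  · exact MorphismProperty.Over.isoMk pa.flip.isoPullback.symm pa.flip.isoPullback_inv_snd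
  · exact MorphismProperty.Over.isoMk pb.flip.isoPullback.symm pb.flip.isoPullback_inv_snd

end Groth.Agent.S1186
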