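import Groth.Statements.S2050
import Groth.Agent.H19.FlatLocus.Main
import Mathlib.Algebra.Module.LocalizedModule.Submodule
import Mathlib.RingTheory.Flat.Localization

set_option autoImplicit false
universe u
open CAlg

namespace Groth.Agent.S2050

open scoped TensorProduct

theorem eq_zero_of_flat {R : Type u} [CommRing R] (s : Finset (PrimeSpectrum R))
    (hs : Function.Injective fun r : R => fun p : s => algebraMap R (Localization.AtPrime p.1.asIdeal) r)
    {N : Type u} [AddCommGroup N] [Module R N] [Module.Flat R N] (x : N)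
    (hx : ∀ p ∈ s, ∃ r : R, r ∉ p.asIdeal ∧ r • x = 0) : x = 0 := by
  classical
  let A := ∀ p : s, Localization.AtPrime p.1.asIdeal
  have hι : Function.Injective (Algebra.linearMap R A) := hs
  have hinj := Module.Flat.rTensor_preserves_injective_linearMap (M := N) _ hι
  have h0 : (1 : A) ⊗ₜ[R] x = 0 := by
    rw [← Finset.univ_sum_single (1 : A), TensorProduct.sum_tmul]
    refine Finset.sum_eq_zero fun p _ => ?_
    obtain ⟨r, hr, hrx⟩ := hx p.1 p.2
    obtain ⟨v, hv⟩ := (IsLocalization.map_units (Localization.AtPrime p.1.asIdeal)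
      (⟨r, hr⟩ : p.1.asIdeal.primeCompl)).exists_left_inv
    have : Pi.single p ((1 : A) p) = r • (Pi.single p v : A) := by
      funext i
      rcases eq_or_ne i p with rfl | hne
      · rw [Pi.smul_apply, Pi.single_eq_same, Pi.single_eq_same, Algebra.smul_def, mul_comm, hv, Pi.one_apply]
      · rw [Pi.smul_apply, Pi.single_eq_of_ne hne, Pi.single_eq_of_ne hne, smul_zero]
    rw [this, TensorProduct.smul_tmul, hrx, TensorProduct.tmul_zero]
  apply (TensorProduct.lid R N).symm.injective
  rw [map_zero, TensorProduct.lid_symm_apply]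
  apply hinj
  rw [LinearMap.rTensor_tmul, map_zero, Algebra.linearMap_apply, map_one]
  exact h0

variable {R : Type u} [CommRing R] {n m : ℕ} {M : Type u} [AddCommGroup M]
  [Module (MvPolynomial (Fin n) R) M] [Module R M] [IsScalarTower R (MvPolynomial (Fin n) R) M]
  (π : (Fin m → MvPolynomial (Fin n) R) →ₗ[MvPolynomial (Fin n) R] M)

theorem exists_fg_local (hπ : Function.Surjective π) (p : Ideal R) [p.IsPrime]
    (hfp : Module.FinitePresentation
        (Localization (Algebra.algebraMapSubmonoid (MvPolynomial (Fin n) R) p.primeCompl))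
        (LocalizedModule (Algebra.algebraMapSubmonoid (MvPolynomial (Fin n) R) p.primeCompl) M)) :
    ∃ J : Submodule (MvPolynomial (Fin n) R) (Fin m → MvPolynomial (Fin n) R), J.FG ∧ J ≤ LinearMap.ker π ∧
      ∀ x ∈ LinearMap.ker π, ∃ r : R, r ∉ p ∧ MvPolynomial.C (σ := Fin n) r • x ∈ J := by
  classical
  let P := MvPolynomial (Fin n) R
  let W := Algebra.algebraMapSubmonoid P p.primeCompl
  let mkF := LocalizedModule.mkLinearMap W (Fin m → P)
  let mkM := LocalizedModule.mkLinearMap W M
  let f := LocalizedModule.map W π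
  have hf : Function.Surjective f := LocalizedModule.map_surjective W π hπ
  obtain ⟨T, hT⟩ := Module.FinitePresentation.fg_ker f hf
  have key : ∀ q ∈ T, ∃ x : Fin m → P, x ∈ LinearMap.ker π ∧ ∃ w : W, (w : P) • q = mkF x := by
    intro q hq
    obtain ⟨⟨x, w⟩, hx⟩ := IsLocalizedModule.surj W mkF q
    have hq0 : f q = 0 := by
      have : q ∈ LinearMap.ker f := hT ▸ Submodule.subset_span hq
      exact this
    have h0 : mkM (π x) = 0 := by
      have h1 : f (mkF x) = mkM (π x) := by
        show LocalizedModule.map W π (LocalizedModule.mk x 1) = LocalizedModule.mk (π x) 1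
        rw [LocalizedModule.map_mk]
      rw [← h1, ← hx, Submonoid.smul_def, LinearMap.map_smul_of_tower, hq0, smul_zero]
    obtain ⟨u, hu⟩ := (IsLocalizedModule.eq_zero_iff W mkM).mp h0
    refine ⟨(u : P) • x, by rw [LinearMap.mem_ker, map_smul, ← Submonoid.smul_def, hu], u * w, ?_⟩
    rw [Submonoid.coe_mul, mul_smul, ← Submonoid.smul_def w, hx, map_smul]
  choose! x hx w hw using key
  refine ⟨Submodule.span P (T.image x : Set (Fin m → P)), ⟨_, rfl⟩, ?_, fun y hy => ?_⟩
  · rw [Submodule.span_le]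
    intro z hz
    obtain ⟨q, hq, rfl⟩ := Finset.mem_image.mp hz
    exact hx q hq
  · have hy' : mkF y ∈ LinearMap.ker f := by
      show LocalizedModule.map W π (LocalizedModule.mk y 1) = 0
      rw [LocalizedModule.map_mk, LinearMap.mem_ker.mp hy, LocalizedModule.zero_mk]
    have hle : LinearMap.ker f ≤ (Submodule.span P (T.image x : Set (Fin m → P))).localized' (Localization W) W mkF := by
      rw [← hT, Submodule.span_le]
      intro q hq
      refine (Submodule.mem_localized' ..).mpr ⟨x q, Submodule.subset_span (Finset.mem_image_of_mem x hq), w q, ?_⟩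
      rw [IsLocalizedModule.mk'_eq_iff]
      exact (hw q hq).symm
    obtain ⟨z, hz, t, hzt⟩ := (Submodule.mem_localized' ..).mp (hle hy')
    rw [IsLocalizedModule.mk'_eq_iff, Submonoid.smul_def, ← map_smul] at hzt
    obtain ⟨u, hu⟩ := IsLocalizedModule.exists_of_eq (S := W) hzt
    rw [Submonoid.smul_def, Submonoid.smul_def, smul_smul] at hu
    rcases u with ⟨_, r, hr, rfl⟩
    rcases t with ⟨_, r', hr', rfl⟩
    refine ⟨r * r', fun h => (Ideal.IsPrime.mem_or_mem ‹_› h).elim hr hr', ?_⟩
    rw [map_mul, ← MvPolynomial.algebraMap_eq]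
    exact hu ▸ Submodule.smul_mem _ _ hz

theorem bijective_localized {P : Type u} [CommRing P] {F : Type u} [AddCommGroup F] [Module P F]
    (J I : Submodule P F) (h : J ≤ I) (Q : Ideal P) [Q.IsPrime]
    (hkill : ∀ x ∈ I, ∃ t, t ∉ Q ∧ t • x ∈ J) :
    Function.Bijective (IsLocalizedModule.map Q.primeCompl
      (LocalizedModule.mkLinearMap Q.primeCompl (F ⧸ J)) (LocalizedModule.mkLinearMap Q.primeCompl (F ⧸ I))
      (Submodule.factor h)) := by
  refine ⟨?_, IsLocalizedModule.map_surjective _ _ _ _ (Submodule.factor_surjective h)⟩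
  rw [injective_iff_map_eq_zero]
  intro z hz
  obtain ⟨⟨y, s⟩, rfl⟩ := IsLocalizedModule.mk'_surjective Q.primeCompl
    (LocalizedModule.mkLinearMap Q.primeCompl (F ⧸ J)) z
  obtain ⟨y, rfl⟩ := Submodule.Quotient.mk_surjective J y
  simp only [Function.uncurry_apply_pair, IsLocalizedModule.map_mk', IsLocalizedModule.mk'_eq_zero'] at hz ⊢
  obtain ⟨u, hu⟩ := hz
  have hy : (u : P) • y ∈ I := by
    rw [← Submodule.Quotient.mk_eq_zero (p := I), Submodule.Quotient.mk_smul]
    exact hu
  obtain ⟨t, ht, htJ⟩ := hkill _ hy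
  refine ⟨⟨t, ht⟩ * u, ?_⟩
  show (t * (u : P)) • (Submodule.Quotient.mk y : F ⧸ J) = 0
  rw [← Submodule.Quotient.mk_smul, Submodule.Quotient.mk_eq_zero, mul_smul]
  exact htJ

theorem exists_local_eq [Module.Flat R M] (s : Finset (PrimeSpectrum R))
    (hs : Function.Injective fun r : R => fun p : s => algebraMap R (Localization.AtPrime p.1.asIdeal) r)
    (hπ : Function.Surjective π)
    (hloc : ∀ (p : Ideal R) [p.IsPrime], Module.FinitePresentation
        (Localization (Algebra.algebraMapSubmonoid (MvPolynomial (Fin n) R) p.primeCompl))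
        (LocalizedModule (Algebra.algebraMapSubmonoid (MvPolynomial (Fin n) R) p.primeCompl) M))
    (J0 : Submodule (MvPolynomial (Fin n) R) (Fin m → MvPolynomial (Fin n) R)) (hJ0fg : J0.FG)
    (hJ0 : J0 ≤ LinearMap.ker π)
    (hJ0s : ∀ x ∈ LinearMap.ker π, ∀ p ∈ s, ∃ r : R, r ∉ p.asIdeal ∧ MvPolynomial.C (σ := Fin n) r • x ∈ J0)
    (Q : PrimeSpectrum (MvPolynomial (Fin n) R)) :
    ∃ (g : MvPolynomial (Fin n) R) (J : Submodule (MvPolynomial (Fin n) R) (Fin m → MvPolynomial (Fin n) R)),
      g ∉ Q.asIdeal ∧ J.FG ∧ J ≤ LinearMap.ker π ∧ ∀ x ∈ LinearMap.ker π, ∃ k : ℕ, g ^ k • x ∈ J := by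
  classical
  let P := MvPolynomial (Fin n) R
  let I := LinearMap.ker π
  let p := Q.asIdeal.comap (algebraMap R P)
  obtain ⟨Jp, hJpfg, hJp, hJpk⟩ := exists_fg_local π hπ p (hloc p)
  let J := J0 ⊔ Jp
  have hJI : J ≤ I := sup_le hJ0 hJp
  have hJfg : J.FG := Submodule.FG.sup hJ0fg hJpfg
  haveI : Module.FinitePresentation P ((Fin m → P) ⧸ J) :=
    Module.finitePresentation_of_surjective J.mkQ (Submodule.mkQ_surjective _) (by rwa [Submodule.ker_mkQ])
  let eI : ((Fin m → P) ⧸ I) ≃ₗ[P] M := π.quotKerEquivOfSurjective hπ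
  haveI : Module.Flat R ((Fin m → P) ⧸ I) := Module.Flat.of_linearEquiv (eI.restrictScalars R)
  haveI : Module.Flat R (LocalizedModule Q.asIdeal.primeCompl ((Fin m → P) ⧸ I)) :=
    (Groth.Agent.H19.FlatLocus.flat_iff_killed (R := R) Q.asIdeal.primeCompl
      (LocalizedModule.mkLinearMap Q.asIdeal.primeCompl _)).mpr fun K y hy =>
        ⟨1, one_mem _, by rw [one_smul]; exact Module.Flat.lTensor_preserves_injective_linearMap (M := (Fin m → P) ⧸ I) K.subtype K.subtype_injective (hy.trans (map_zero _).symm)⟩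
  have hflat : Module.Flat R (LocalizedModule Q.asIdeal.primeCompl ((Fin m → P) ⧸ J)) :=
    Module.Flat.of_linearEquiv ((LinearEquiv.ofBijective _ (bijective_localized J I hJI Q.asIdeal fun x hx => by
      obtain ⟨r, hr, hrx⟩ := hJpk x hx
      exact ⟨MvPolynomial.C r, hr, Submodule.mem_sup_right hrx⟩)).restrictScalars R)
  obtain ⟨_, ⟨_, ⟨g, rfl⟩, rfl⟩, hQg, hsub⟩ :=
    PrimeSpectrum.isBasis_basic_opens.exists_subset_of_mem_open
      (show Q ∈ _ from hflat)
      (Groth.Agent.H19.FlatLocus.isOpen_flat_of_finitePresentation (R := R) (S := P) (M := (Fin m → P) ⧸ J))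
  refine ⟨g, J, hQg, hJfg, hJI, fun x hx => ?_⟩
  let A' : Ideal P := LinearMap.ker (LinearMap.toSpanSingleton P _ (Submodule.Quotient.mk x : (Fin m → P) ⧸ J))
  have hA : g ∈ A'.radical := by
    rw [Ideal.radical_eq_sInf, Ideal.mem_sInf]
    rintro Q' ⟨hAQ, hQ'⟩
    by_contra hgQ
    haveI : Q'.IsPrime := hQ'
    have hfl : Module.Flat R (LocalizedModule Q'.primeCompl ((Fin m → P) ⧸ J)) := @hsub ⟨Q', hQ'⟩ hgQ
    have h0 : LocalizedModule.mkLinearMap Q'.primeCompl ((Fin m → P) ⧸ J) (Submodule.Quotient.mk x) = 0 := by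
      refine eq_zero_of_flat (N := LocalizedModule Q'.primeCompl ((Fin m → P) ⧸ J)) s hs _ fun p hp => ?_
      obtain ⟨r, hr, hrx⟩ := hJ0s x hx p hp
      refine ⟨r, hr, ?_⟩
      rw [← LinearMap.map_smul_of_tower, ← Submodule.Quotient.mk_smul, ← algebraMap_smul P r x,
        MvPolynomial.algebraMap_eq, (Submodule.Quotient.mk_eq_zero J).mpr (Submodule.mem_sup_left hrx), map_zero]
    obtain ⟨u, hu⟩ := (IsLocalizedModule.eq_zero_iff Q'.primeCompl _).mp h0
    exact u.2 (hAQ (show (u : P) • (Submodule.Quotient.mk x : (Fin m → P) ⧸ J) = 0 from hu))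
  obtain ⟨k, hk⟩ := hA
  refine ⟨k, ?_⟩
  rw [← Submodule.Quotient.mk_eq_zero, Submodule.Quotient.mk_smul]
  exact hk

/-- Let `S = R[x_1, …, x_n]` and `M` a finite `S`-module, flat over `R`, such that for every prime `𝔭`
of `R` the localization `M_𝔭` is finitely presented over `S_𝔭`. If `R` embeds into the product of
finitely many of its local rings, then `M` is finitely presented over `S`. -/
theorem result {R : Type u} [CommRing R] (n : ℕ)
    {M : Type u} [AddCommGroup M] [Module (MvPolynomial (Fin n) R) M] [Module R M]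
    [IsScalarTower R (MvPolynomial (Fin n) R) M] [Module.Finite (MvPolynomial (Fin n) R) M] [Module.Flat R M]
    (s : Finset (PrimeSpectrum R))
    (hs : Function.Injective fun r : R => fun p : s => algebraMap R (Localization.AtPrime p.1.asIdeal) r)
    (hloc : ∀ (p : Ideal R) [p.IsPrime],
      Module.FinitePresentation
        (Localization (Algebra.algebraMapSubmonoid (MvPolynomial (Fin n) R) p.primeCompl))
        (LocalizedModule (Algebra.algebraMapSubmonoid (MvPolynomial (Fin n) R) p.primeCompl) M)) :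
    Module.FinitePresentation (MvPolynomial (Fin n) R) M := by
  classical
  let P := MvPolynomial (Fin n) R
  obtain ⟨m, π, hπ⟩ := Module.Finite.exists_fin' P M
  choose Jl hJlfg hJl hJlk using fun p : s => exists_fg_local π hπ p.1.asIdeal (hloc p.1.asIdeal)
  let J0 : Submodule P (Fin m → P) := Finset.univ.sup Jl
  have hJ0fg : J0.FG := Submodule.fg_finset_sup _ _ fun p _ => hJlfg p
  have hJ0 : J0 ≤ LinearMap.ker π := Finset.sup_le fun p _ => hJl p
  have hJ0s : ∀ x ∈ LinearMap.ker π, ∀ p ∈ s, ∃ r : R, r ∉ p.asIdeal ∧ MvPolynomial.C (σ := Fin n) r • x ∈ J0 :=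
    fun x hx p hp => (hJlk ⟨p, hp⟩ x hx).imp fun r hr =>
      ⟨hr.1, Finset.le_sup (f := Jl) (Finset.mem_univ ⟨p, hp⟩) hr.2⟩
  choose g J hg hJfg hJ hJk using exists_local_eq π s hs hπ hloc J0 hJ0fg hJ0 hJ0s
  have htop : Ideal.span (Set.range g) = ⊤ := by
    by_contra hne
    obtain ⟨q, hq, hle⟩ := Ideal.exists_le_maximal _ hne
    exact hg ⟨q, hq.isPrime⟩ (hle (Ideal.subset_span ⟨_, rfl⟩))
  obtain ⟨t, ht, h1⟩ := Submodule.mem_span_finite_of_mem_span (htop ▸ Submodule.mem_top : (1 : P) ∈ _)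
  choose q hq using fun z : t => ht z.2
  let J' : Submodule P (Fin m → P) := J0 ⊔ (Finset.univ.sup fun z : t => J (q z))
  have hJ'fg : J'.FG := Submodule.FG.sup hJ0fg (Submodule.fg_finset_sup _ _ fun z _ => hJfg _)
  have hker : LinearMap.ker π = J' := by
    refine le_antisymm (fun x hx => ?_) (sup_le hJ0 (Finset.sup_le fun z _ => hJ _))
    let A' : Ideal P := Submodule.comap (LinearMap.toSpanSingleton P _ x) J'
    have hrad : (1 : P) ∈ A'.radical := by
      refine (?_ : Submodule.span P (t : Set P) ≤ A'.radical) h1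
      refine Submodule.span_le.mpr fun z hz => ?_
      obtain ⟨k, hk⟩ := hJk (q ⟨z, hz⟩) x hx
      refine ⟨k, ?_⟩
      rw [show z = g (q ⟨z, hz⟩) from (hq ⟨z, hz⟩).symm]
      exact Submodule.mem_sup_right (Finset.le_sup (f := fun z : t => J (q z)) (Finset.mem_univ ⟨z, hz⟩) hk)
    obtain ⟨k, hk⟩ := hrad
    rw [one_pow] at hk
    have hk' : (1 : P) • x ∈ J' := hk
    rwa [one_smul] at hk'
  exact Module.finitePresentation_of_surjective π hπ (hker ▸ hJ'fg)

end Groth.Agent.S2050
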