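import Groth.Statements.S4691
import Groth.Agent.H46.DimFormula
import Groth.Agent.Lib.AlgSpDecent.SpecOrder
import Groth.Agent.Lib.Cyc.TorPD

set_option autoImplicit false
universe u
open EGA4

namespace Groth.Agent.S4691

open AlgebraicGeometry CategoryTheory in
/-- Let Y be a locally Noetherian scheme, f : X → Y a morphism locally of finite type and n a natural
number such that every fibre of f has dimension at most n. Then dim X ≤ dim Y + n. -/
theorem result {X Y : Scheme.{u}} (f : X ⟶ Y) [IsLocallyNoetherian Y]
    [LocallyOfFiniteType f] (n : ℕ) (h : ∀ y : Y, topologicalKrullDim (f.fiber y) ≤ n) :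
    topologicalKrullDim X ≤ topologicalKrullDim Y + n := by
  haveI := LocallyOfFiniteType.isLocallyNoetherian f
  rw [Lib.AlgSpDecent.SpecOrder.topologicalKrullDim_eq_iSup]
  refine iSup_le fun x => ?_
  have h0 : ((Lib.AlgSpDecent.SpecOrder.cohtPt x : ℕ∞) : WithBot ℕ∞) =
      ringKrullDim (X.presheaf.stalk x) := (ringKrullDim_stalk_eq_coheight x).symm
  rw [h0]
  refine (H46.DimFormula.le_add_fibre f x).trans (add_le_add ?_ ?_)
  · exact Lib.Cyc.TorPD.ringKrullDim_stalk_le _
  · exact (Lib.Cyc.TorPD.ringKrullDim_stalk_le _).trans (h _)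

end Groth.Agent.S4691
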