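import Groth.Statements.S0036
import Groth.Agent.Lib.H3.RpushCoh
-- import your own Groth.Agent.* helpers here

set_option autoImplicit false
universe u
open Coherent

namespace Groth.Agent.S0036

open AlgebraicGeometry CategoryTheory in
/-- Let S be locally Noetherian, f : X → S proper and F a coherent O_X-module. Then R^i f_* F is a
coherent O_S-module for all i. (Carries the not-yet-in-Mathlib fact that X.Modules has injective
resolutions as an instance argument.) -/
theorem result {X S : Scheme.{u}} (f : X ⟶ S) [IsProper f]
    [IsLocallyNoetherian S] [HasInjectiveResolutions X.Modules] (M : X.Modules) (hM : Coh.IsCoh M)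
    (i : ℕ) : Coh.IsCoh ((Coh.Rpush f i).obj M) := by
  haveI : IsLocallyNoetherian X := LocallyOfFiniteType.isLocallyNoetherian f
  cases i with
  | zero =>
    haveI : (Scheme.Modules.pushforward f).IsRightAdjoint :=
      (Scheme.Modules.pullbackPushforwardAdjunction f).isRightAdjoint
    haveI : Limits.PreservesLimitsOfSize.{0, 0} (Scheme.Modules.pushforward f) :=
      (Scheme.Modules.pullbackPushforwardAdjunction f).rightAdjoint_preservesLimits
    haveI : Limits.PreservesFiniteLimits (Scheme.Modules.pushforward f) :=
      Limits.PreservesLimitsOfSize.preservesFiniteLimits _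
    haveI h0 : IsIso (Scheme.Modules.pushforward f).toRightDerivedZero := inferInstance
    have h1 : IsIso ((Scheme.Modules.pushforward f).toRightDerivedZero.app M) :=
      NatIso.isIso_app_of_isIso _ M
    exact Groth.Agent.Lib.CohBasics.Closure.isCoh_of_iso (@asIso _ _ _ _ _ h1)
      (Groth.Agent.Lib.Cyc.PP.Push.isCoh_push f hM)
  | succ p =>
    obtain ⟨e⟩ := Groth.Agent.Lib.CohDelta.Syzygy.nonempty_rightDerived_iso
      (CategoryTheory.injectiveResolution M) f p
    exact Groth.Agent.Lib.CohBasics.Closure.isCoh_of_iso e.symm
      (Groth.Agent.Lib.H3.RpushCoh.isCoh_R f _ hM p)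

end Groth.Agent.S0036
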