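import Groth.Statements.S0792
import Groth.Agent.Lib.ZarCoh.PushKilled
import Groth.Agent.Lib.ZarCoh.AnnIdeal
import Groth.Agent.Lib.ZarCoh.ProperOver

set_option autoImplicit false
universe u
open Coherent

namespace Groth.Agent.S0792

open CategoryTheory AlgebraicGeometry in
/-- Let f : X → S be locally of finite type and F a quasi-coherent O_X-module of finite type. The
support of F is proper over S if and only if there are a closed subscheme i : Z → X with Z proper
over S and a quasi-coherent O_Z-module G of finite type with i_* G isomorphic to F. (The published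
statement also gives a further equivalent condition, that the scheme-theoretic support of F is
proper over S; it is not used here.) -/
theorem result {X S : Scheme.{u}} (f : X ⟶ S) [LocallyOfFiniteType f]
    (F : X.Modules) (hq : Coh.IsQCoh F) (hft : CohB1.IsFT F) :
    ClSub.IsProperOver f (CohB1.support F) ↔
      ∃ (Z : Scheme.{u}) (i : Z ⟶ X), IsClosedImmersion i ∧ IsProper (i ≫ f) ∧
        ∃ G : Z.Modules, Coh.IsQCoh G ∧ CohB1.IsFT G ∧
          Nonempty ((Scheme.Modules.pushforward i).obj G ≅ F) := by
  have := hq
  have := hft
  constructor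
  · intro hp
    let I := ZarCoh.AnnIdeal.annIdeal F
    have hr : Set.range ⇑I.subschemeι = CohB1.support F :=
      (AlgebraicGeometry.Scheme.IdealSheafData.range_subschemeι I).trans
        (ZarCoh.AnnIdeal.support_annIdeal F)
    have hk : ClSub.KilledByIdeal I.subschemeι.ker F := by
      intro U a ha m
      rw [AlgebraicGeometry.Scheme.IdealSheafData.ker_subschemeι] at ha
      exact Module.mem_annihilator.mp ha m
    obtain ⟨G, hGq, hGft, e⟩ := ZarCoh.PushKilled.exists_pushforward_iso I.subschemeι F hk
    exact ⟨I.subscheme, I.subschemeι, inferInstance,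
      (ZarCoh.ProperOver.isProper_comp_iff f I.subschemeι hr).mpr hp, G, hGq, hGft, e⟩
  · rintro ⟨Z, i, hi, hp, G, -, -, ⟨e⟩⟩
    refine ZarCoh.ProperOver.isProperOver_of_subset f ((ZarCoh.ProperOver.isProper_comp_iff f i rfl).mp hp)
      (Groth.Agent.Lib.Modules.Support.isClosed_support F) ?_
    rw [← Groth.Agent.Lib.Modules.Support.support_congr e]
    intro x hx
    by_contra hxr
    exact hx (Groth.Agent.Lib.PushClosed.Unit.subsingleton_stalk_push i G hxr)

end Groth.Agent.S0792
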