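import Groth.Statements.S12451
import Groth.Agent.H81.ProjSpan
import Groth.Agent.Lib.TensorMod.FPConv

set_option autoImplicit false
universe u
open CategoryTheory CategoryTheory.Limits AlgebraicGeometry
open Props

namespace Groth.Agent.S12451

/-- A basic open of a spectrum, typed as an open of the scheme. -/
abbrev D {R : CommRingCat.{u}} (f : R) : (Spec R).Opens := PrimeSpectrum.basicOpen f

/-- For a commutative ring R and an R-module M, the associated quasi-coherent module M~ on Spec R is a
finite locally free O-module exactly when M is finitely generated and projective over R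
(equivalently, a finite locally free R-module). -/
theorem result {R : CommRingCat.{u}} (M : ModuleCat.{u} R) :
    FlatMod.IsFinLocFree (tilde M) ↔ Module.Finite R M ∧ Module.Projective R M := by
  constructor
  · intro h
    let S : Set R := {f | ∃ n : ℕ, Nonempty ((tilde M).restrict
      (D f).ι ≅
        FlatMod.freeMod (↑(D f)) n)}
    have hS : Ideal.span S = ⊤ := by
      rw [← PrimeSpectrum.iSup_basicOpen_eq_top_iff' (R := R), eq_top_iff]
      intro x _
      obtain ⟨U, n, hxU, ⟨i⟩⟩ := h x
      obtain ⟨_, ⟨_, ⟨f, rfl⟩, rfl⟩, hxf, hfU⟩ :=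
        PrimeSpectrum.isBasis_basic_opens.exists_subset_of_mem_open hxU U.2
      obtain ⟨j⟩ := Groth.Agent.Lib.TensorMod.LocFree.exists_restrict_iso_freeMod
        (show D f ≤ U from hfU) i
      exact TopologicalSpace.Opens.mem_iSup.2 ⟨f, TopologicalSpace.Opens.mem_iSup.2 ⟨⟨n, ⟨j⟩⟩, hxf⟩⟩
    have hbasis : ∀ g : S, Module.Free Γ(Spec R, (D g.1)) Γ(tilde M, (D g.1)) ∧
        Module.Finite Γ(Spec R, (D g.1)) Γ(tilde M, (D g.1)) := fun g => by
      obtain ⟨n, ⟨j⟩⟩ := g.2
      obtain ⟨e, he⟩ := Groth.Agent.Lib.TensorMod.Basis.exists_basis_of_iso j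
      let φ := Fintype.linearCombination Γ(Spec R, (D g.1)) e
      have hφ : Function.Bijective φ := by
        have heq : (φ : _ → _) = Groth.Agent.Lib.TensorMod.Basis.comb e le_rfl := funext fun a => by
          simp [φ, Fintype.linearCombination_apply,
            Groth.Agent.Lib.TensorMod.Basis.comb]
        rw [heq]
        exact he _ le_rfl
      exact ⟨Module.Free.of_equiv (LinearEquiv.ofBijective φ hφ),
        Module.Finite.equiv (LinearEquiv.ofBijective φ hφ)⟩
    have := fun g => (hbasis g).1
    have := fun g => (hbasis g).2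
    let F : ∀ g : S, M →ₗ[R] Γ(tilde M, (D g.1)) := fun g =>
      (tilde.toOpen M ((D g.1))).hom
    have : ∀ g : S, IsLocalizedModule.Away g.1 (F g) := fun g =>
      inferInstanceAs (IsLocalizedModule.Away g.1 (tilde.toOpen M ((D g.1))).hom)
    exact Groth.Agent.H81.ProjSpan.finite_and_projective S hS
      (Rₚ := fun g : S => Γ(Spec R, (D g.1))) F
  · rintro ⟨hfin, hproj⟩
    obtain ⟨n, p, hp⟩ := Module.Finite.exists_fin' R M
    obtain ⟨i, hi⟩ := Module.projective_lifting_property p LinearMap.id hp
    let f : Fin n → ModuleCat.{u} R := fun _ => ModuleCat.of R R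
    let e : (∐ f) ≅ ModuleCat.of R (Fin n → R) :=
      (biproduct.isoCoproduct f).symm ≪≫ ModuleCat.biproductIsoPi f
    have : PreservesColimitsOfSize.{u, u} (tilde.functor R) :=
      (tilde.adjunction (R := R)).leftAdjoint_preservesColimits
    have : PreservesColimitsOfSize.{0, 0} (tilde.functor R) :=
      preservesSmallestColimits_of_preservesColimits _
    let o : Coh.structureModule (Spec R) ≅ (tilde.functor R).obj (ModuleCat.of R R) :=
      (tildeSelf (R := R)).symm
    let j : FlatMod.freeMod (Spec R) n ≅ (tilde.functor R).obj (ModuleCat.of R (Fin n → R)) :=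
      Sigma.mapIso (fun _ => o) ≪≫ (PreservesCoproduct.iso (tilde.functor R) f).symm ≪≫
        (tilde.functor R).mapIso e
    refine Groth.Agent.Lib.Modules.FreeStalk.isFinLocFree_of_retract
      ((tilde.functor R).map (ModuleCat.ofHom (X := M) (Y := Fin n → R) i) ≫ j.inv)
      (j.hom ≫ (tilde.functor R).map (ModuleCat.ofHom (X := Fin n → R) (Y := M) p)) ?_
    have h : ModuleCat.ofHom (X := M) (Y := Fin n → R) i ≫ ModuleCat.ofHom (X := Fin n → R) (Y := M) p =
        𝟙 M := ModuleCat.hom_ext hi
    refine (Category.assoc _ _ _).trans ?_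
    refine (congrArg ((tilde.functor R).map _ ≫ ·) (Iso.inv_hom_id_assoc j _)).trans ?_
    exact (((tilde.functor R).map_comp _ _).symm.trans (congrArg ((tilde.functor R).map ·) h)).trans
      ((tilde.functor R).map_id M)

end Groth.Agent.S12451
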