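import Groth.Statements.S11122
import Groth.Agent.Lib.Perfect.TildeD
import Groth.Agent.Lib.Perfect.QCohD
import Groth.Agent.Lib.Perfect.PseudoCoh
import Groth.Agent.Lib.DerivedOX.RpushQCoh
import Groth.Agent.Lib.DerivedOX.RpushTriangulated

set_option autoImplicit false
set_option linter.style.haveILetI false
universe u
open CategoryTheory CategoryTheory.Limits AlgebraicGeometry
attribute [local instance] HasDerivedCategory.standard
open Perf

namespace Groth.Agent.S11122

open Groth.Agent.Lib CategoryTheory.Pretriangulated DerivedCategory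
open Groth.Agent.Lib.WayOut.Bounded Groth.Agent.Lib.WayOut.Scheme
open Groth.Agent.Lib.Perfect Groth.Agent.Lib.Perfect.Basic Groth.Agent.Lib.Perfect.PseudoCoh

/-- A pseudo-coherent object has quasi-coherent cohomology. -/
theorem isQCohD_of_pc {X : Scheme.{u}} {K : DCoh.D X} (hK : ∀ m, DCoh.IsPseudoCoherentD m K) :
    DCoh.IsQCohD K := fun i =>
  QCohD.isQCoh_of_cover fun x => by
    obtain ⟨U, j, _, y, E, α, hy, ⟨-, hlf⟩, hα⟩ := (iff_forall (i - 1) K).1 (hK _) x
    haveI : ∀ n, (E.X n).IsQuasicoherent := fun n => TensorMod.QCohInv.isQCoh_of_isFinLocFree (hlf n)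
    have h1 : (E.cycles i).IsQuasicoherent := by
      haveI := QCoh.Closure.isQCoh_kernel (E.d i ((ComplexShape.up ℤ).next i))
      exact @CohBasics.Closure.isQCoh_of_iso _ _ _
        ((E.cyclesIsKernel i _ rfl).conePointUniqueUpToIso (kernelIsKernel _)).symm ‹_›
    have h2 : (E.homology i).IsQuasicoherent := by
      haveI := h1
      haveI := QCoh.Closure.isQCoh_cokernel (E.toCycles ((ComplexShape.up ℤ).prev i) i)
      exact @CohBasics.Closure.isQCoh_of_iso _ _ _
        ((E.homologyIsCokernel _ i rfl).coconePointUniqueUpToIso (cokernelIsCokernel _)).symm ‹_›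
    haveI := hα.1 i (by lia)
    exact ⟨U, j, inferInstance, y, hy, @CohBasics.Closure.isQCoh_of_iso _ _ _
      (((DerivedCategory.homologyFunctorFactors U.Modules i).app E).symm ≪≫
        asIso ((DerivedCategory.homologyFunctor U.Modules i).map α) ≪≫ Coherent.homologyIso j K i) h2⟩

/-- A pseudo-coherent object on a quasi-compact scheme is bounded above. -/
theorem exists_isLE {X : Scheme.{u}} [CompactSpace X] {m : ℤ} {K : DCoh.D X}
    (hK : DCoh.IsPseudoCoherentD m K) : ∃ b, K.IsLE b := by
  have h' : ∀ x : X, ∃ (V : X.Opens) (b : ℤ), x ∈ V ∧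
      ∀ i, b < i → IsZero ((DCoh.HD K i).restrict V.ι) := fun x => by
    obtain ⟨U, j, _, y, E, α, hy, ⟨⟨a, b, hv⟩, -⟩, hα⟩ := (iff_forall m K).1 hK x
    refine ⟨j.opensRange, max b m, ⟨y, hy⟩, fun i hi => ?_⟩
    have := hα.1 i (lt_of_le_of_lt (le_max_right _ _) hi)
    have hz : IsZero (DCoh.HD ((RD j).obj K) i) :=
      IsZero.of_iso (((HomologicalComplex.ExactAt.of_isZero
        (hv i (Or.inr (lt_of_le_of_lt (le_max_left _ _) hi)))).isZero_homology).of_iso
        ((DerivedCategory.homologyFunctorFactors U.Modules i).app E))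
        (asIso ((DerivedCategory.homologyFunctor U.Modules i).map α)).symm
    have hz' := (Scheme.Modules.restrictFunctor j.isoOpensRange.inv).map_isZero
      (hz.of_iso (Coherent.homologyIso j K i).symm)
    exact hz'.of_iso
      (((Scheme.Modules.restrictFunctorCongr (Scheme.Hom.isoOpensRange_inv_comp j)).app _).symm ≪≫
        (Scheme.Modules.restrictFunctorComp j.isoOpensRange.inv j).app _)
  choose V b hx hz using h'
  obtain ⟨t, ht⟩ := CompactSpace.isCompact_univ.elim_finite_subcover (fun x => (V x : Set X))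
    (fun x => (V x).2) (fun x _ => Set.mem_iUnion.2 ⟨x, hx x⟩)
  obtain ⟨B, hB⟩ := (t.finite_toSet.image b).bddAbove
  refine ⟨B, (DerivedCategory.isLE_iff K B).2 fun i hi => ?_⟩
  refine Modules.Local.isZero_of_restrict (fun x : t => V x.1) ?_ fun x => hz x.1 i ?_
  · refine eq_top_iff.2 fun z _ => ?_
    obtain ⟨x, hxt, hzx⟩ := Set.mem_iUnion₂.1 (ht (Set.mem_univ z))
    exact TopologicalSpace.Opens.mem_iSup.2 ⟨⟨x, hxt⟩, hzx⟩
  · have := hB ⟨x.1, x.2, rfl⟩
    omega

/-- Let f : X ⟶ Y be a quasi-compact quasi-separated morphism of schemes with Y quasi-compact, and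
assume the unbounded derived direct image Rf_* exists. Suppose there is an integer k such that for
every integer n and every object F of D(O_X) with bounded cohomology that is n-pseudo-coherent, Rf_*
F is (n + k)-pseudo-coherent. Then for every object F of D(O_X) that is n-pseudo-coherent for all n
(no boundedness assumed), Rf_* F is n-pseudo-coherent for all n. (The published statement obtains
the bound for proper pseudo-coherent f from a cited finiteness theorem; this row assumes the bound.) -/
theorem result {X Y : Scheme.{u}} (f : X ⟶ Y) [QuasiCompact f]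
    [QuasiSeparated f] [CompactSpace Y] [DCoh.HasRpush f] (k : ℤ)
    (hK : ∀ (F : DCoh.D X) (n a b : ℤ), F.IsGE a → F.IsLE b → DCoh.IsPseudoCoherentD n F →
      DCoh.IsPseudoCoherentD (n + k) ((DCoh.Rpush f).obj F))
    (F : DCoh.D X) (hF : ∀ m : ℤ, DCoh.IsPseudoCoherentD m F) (m : ℤ) :
    DCoh.IsPseudoCoherentD m ((DCoh.Rpush f).obj F) := by
  haveI : CompactSpace X := QuasiCompact.compactSpace_of_compactSpace f
  obtain ⟨b, hb⟩ := exists_isLE (hF 0)
  obtain ⟨N, hN⟩ := DerivedOX.RpushQCoh.exists_bound f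
  let n : ℤ := m - k
  let a : ℤ := min n (m - N + 1)
  have hT := TStructure.t.triangleLTGE_distinguished a F
  let F' := (TStructure.t.truncLT a).obj F
  let F'' := (TStructure.t.truncGE a).obj F
  have hle : F'.IsLE (a - 1) := (inferInstance : TStructure.t.IsLE F' (a - 1))
  have hge : F''.IsGE a := (inferInstance : TStructure.t.IsGE F'' a)
  have hle'' : F''.IsLE b := by
    haveI : TStructure.t.IsLE F b := hb
    exact (inferInstance : TStructure.t.IsLE F'' b)
  have hq' : DCoh.IsQCohD F' := hasP_truncLT (P := qc X) (isQCohD_of_pc hF) a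
  have hpc'' : DCoh.IsPseudoCoherentD n F'' := (iff_forall n _).2 fun x =>
    pcAt₃ hT (pcAt_of_vanish (fun i hi => F'.isZero_of_isLE (a - 1) i (by omega)) x)
      ((iff_forall n _).1 (hF n) x)
  have h'' := hK F'' n a b hge hle'' hpc''
  rw [show n + k = m by omega] at h''
  refine (iff_forall m _).2 fun y => pcAt₂ ((DCoh.Rpush f).map_distinguished _ hT) ?_
    ((iff_forall m _).1 h'' y)
  refine pcAt_of_vanish (fun i hi => ?_) y
  have hs : IsZero (DCoh.HD ((DCoh.Rpush f).obj (F'⟦a - 1⟧)) (i - (a - 1))) := by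
    refine hN _ ?_ ?_ _ (by omega)
    · intro j
      exact (qc X).prop_of_iso (((DerivedCategory.homologyFunctor X.Modules 0).shiftIso (a - 1) j (a - 1 + j)
        rfl).app F').symm (hq' _)
    · haveI : TStructure.t.IsLE F' (a - 1) := hle
      exact TStructure.t.isLE_shift F' (a - 1) (a - 1) 0 (by omega)
  exact hs.of_iso ((((DerivedCategory.homologyFunctor Y.Modules 0).shiftIso (a - 1) (i - (a - 1)) i
    (by omega)).app _).symm ≪≫ (DerivedCategory.homologyFunctor Y.Modules (i - (a - 1))).mapIso
      (((DCoh.Rpush f).commShiftIso (a - 1)).app F').symm)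

end Groth.Agent.S11122
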