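import Groth.Statements.S11115
import Groth.Agent.Lib.DerivedOX.Exists
import Groth.Agent.Lib.SpecSeq.AcyclicComplex

set_option autoImplicit false
universe u
open CategoryTheory CategoryTheory.Limits AlgebraicGeometry
attribute [local instance] HasDerivedCategory.standard
open Perf

namespace Groth.Agent.S11115

/-- Let f : X ⟶ Y be a quasi-compact quasi-separated morphism of schemes and assume the unbounded
derived direct image Rf_* exists. If F in D(O_X) has cohomology sheaves vanishing below degree n,
then so has Rf_* F. (The published statement restricts F to complexes with quasi-coherent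
cohomology; this row allows any F.) -/
theorem result {X Y : Scheme.{u}} (f : X ⟶ Y) [QuasiCompact f] [QuasiSeparated f] [DCoh.HasRpush f]
    (F : DCoh.D X) (n : ℤ) [F.IsGE n] : ((DCoh.Rpush f).obj F).IsGE n := by
  obtain ⟨K, _, ⟨e⟩⟩ := DerivedCategory.exists_iso_Q_obj_of_isGE F n
  obtain ⟨L, i, _, hL, _⟩ := CochainComplex.Plus.modelCategoryQuillen.exists_quasiIso_injective K n
  haveI : L.IsKInjective := CochainComplex.isKInjective_of_injective L n
  haveI := Groth.Agent.Lib.DerivedOX.RightDerived.isIso_totalRightDerivedUnit_app_of_isKInjective (DCoh.pushKh f) L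
  let P : CochainComplex Y.Modules ℤ := ((AlgebraicGeometry.Scheme.Modules.pushforward f).mapHomologicalComplex (ComplexShape.up ℤ)).obj L
  haveI : P.IsStrictlyGE n := (CochainComplex.isStrictlyGE_iff _ _).2 fun m hm =>
    (AlgebraicGeometry.Scheme.Modules.pushforward f).map_isZero (CochainComplex.isZero_of_isStrictlyGE L n m hm)
  have eP : (DCoh.Rpush f).obj F ≅ DerivedCategory.Q.obj P :=
    (DCoh.Rpush f).mapIso (e ≪≫ asIso (DerivedCategory.Q.map i) ≪≫
      ((DerivedCategory.quotientCompQhIso _).app L).symm) ≪≫
    (asIso (((DCoh.pushKh f).totalRightDerivedUnit DerivedCategory.Qh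
      (HomotopyCategory.quasiIso X.Modules (ComplexShape.up ℤ))).app
        ((HomotopyCategory.quotient X.Modules (ComplexShape.up ℤ)).obj L))).symm ≪≫
    (DerivedCategory.quotientCompQhIso Y.Modules).app P
  exact DerivedCategory.TStructure.t.isGE_of_iso eP.symm n

end Groth.Agent.S11115
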