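import Groth.Statements.S1767
import Groth.Agent.Lib.Gen43.Generator
import Groth.Agent.Lib.DerivedOX.RpushQCoh
import Groth.Agent.Lib.DerivedOX.RpushTriangulated
import Groth.Agent.Lib.DerivedOX.QCohCoprod
import Groth.Agent.Lib.Perfect.QCohD
import Groth.Agent.S1020

set_option autoImplicit false
set_option linter.style.haveILetI false
universe u
open CategoryTheory CategoryTheory.Limits AlgebraicGeometry Groth.Agent.Lib
attribute [local instance] HasDerivedCategory.standard
open Dual

namespace Groth.Agent.S1767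

instance (X : Scheme.{u}) : (DCoh.IsQCohD (X := X)).IsStableUnderShift ℤ where
  isStableUnderShiftBy n := ⟨fun K hK => DerivedOX.CompactUnit.qcD_shift K n hK⟩

/-- A right adjoint of `Rf_*` on `D_QCoh` commutes with shifts. -/
theorem nonempty_shift_iso {X Y : Scheme.{u}} (f : X ⟶ Y) [DCoh.HasRpush f]
    (h : ∀ K : DCoh.D X, DCoh.IsQCohD K → DCoh.IsQCohD ((DCoh.Rpush f).obj K))
    (a : DCoh.DQCoh Y ⥤ DCoh.DQCoh X)
    (adj : (ObjectProperty.lift DCoh.IsQCohD (ObjectProperty.ι DCoh.IsQCohD ⋙ DCoh.Rpush f) (fun K => h K.obj K.property)) ⊣ a)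
    (K : DCoh.DQCoh Y) (n : ℤ) :
    Nonempty ((a.obj (K⟦n⟧)).obj ≅ ((a.obj K).obj)⟦n⟧) := by
  letI := adj.rightAdjointCommShift ℤ
  exact ⟨(ObjectProperty.ι _).mapIso ((a.commShiftIso n).app K) ≪≫
    ((ObjectProperty.ι _).commShiftIso n).app (a.obj K)⟩

/-- Let f : X → Y be a morphism between quasi-compact quasi-separated schemes. Assume the derived direct
image Rf_* exists and preserves quasi-coherence of cohomology sheaves (both known results), so that
it restricts to a functor D_QCoh(O_X) → D_QCoh(O_Y), and let a : D_QCoh(O_Y) → D_QCoh(O_X) be a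
right adjoint of this restricted functor. Then there is an integer N ≥ 0 such that for every K in
D_QCoh(O_Y) and every integer c, if H^i(K) = 0 for all i ≤ c then H^i(a(K)) = 0 for all i ≤ c − N;
in particular a sends bounded-below objects to bounded-below objects. -/
theorem result (X Y : Scheme.{u}) [CompactSpace X] [QuasiSeparatedSpace X] [CompactSpace Y] [QuasiSeparatedSpace Y] (f : X ⟶ Y) [DCoh.HasRpush f] (h : ∀ K : DCoh.D X, DCoh.IsQCohD K → DCoh.IsQCohD ((DCoh.Rpush f).obj K)) (a : DCoh.DQCoh Y ⥤ DCoh.DQCoh X) (adj : (ObjectProperty.lift DCoh.IsQCohD (ObjectProperty.ι DCoh.IsQCohD ⋙ DCoh.Rpush f) (fun K => h K.obj K.property)) ⊣ a) : ∃ N : ℕ, ∀ (K : DCoh.DQCoh Y) (c : ℤ), (∀ i : ℤ, i ≤ c → IsZero (DCoh.HD K.obj i)) → ∀ i : ℤ, i ≤ c - N → IsZero (DCoh.HD (a.obj K).obj i) := by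
  classical
  by_contra hcon
  push Not at hcon
  choose K c hK i hi hne using hcon
  -- the normalised counterexamples and their sum
  let M : ULift.{u} ℕ → DCoh.DQCoh Y := fun k => (K k.down)⟦c k.down⟧
  haveI := DerivedOX.CompactUnit.hasCoproduct (ULift.{u} ℕ) fun k => (M k).obj
  let L : DCoh.DQCoh Y := ⟨∐ fun k => (M k).obj,
    DerivedOX.QCohCoprod.isQCohD_coproduct _ fun k => (M k).property⟩
  have hM : ∀ k, ∀ j : ℤ, j ≤ 0 → IsZero (DCoh.HD (M k).obj j) := fun k j hj =>
    IsZero.of_iso (hK k.down (c k.down + j) (by omega))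
      ((DerivedCategory.homologyFunctor Y.Modules j).mapIso
          (((ObjectProperty.ι (DCoh.IsQCohD (X := Y))).commShiftIso (c k.down)).app (K k.down)) ≪≫
        ((DerivedCategory.homologyFunctor Y.Modules 0).shiftIso (c k.down) j _ rfl).app (K k.down).obj)
  haveI : L.obj.IsGE 1 := (DerivedCategory.isGE_iff _ _).2 fun j hj => by
    haveI := DerivedOX.QCohCoprod.preservesColimit_homology (fun k => (M k).obj) j
    refine (IsZero.iff_id_eq_zero _).2 ?_
    refine (isColimitOfPreserves (DerivedCategory.homologyFunctor Y.Modules j)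
      (colimit.isColimit (Discrete.functor fun k => (M k).obj))).hom_ext fun k => ?_
    exact (hM k.as j (by omega)).eq_of_src _ _
  -- `a L` is bounded below
  obtain ⟨G, hG, -, hgen⟩ := Gen43.Generator.exists_generator (X := X) ⊥ (by simp)
  obtain ⟨-, g, -, hg⟩ := Perfect.Coherent.bounded_of_isPerfect hG
  obtain ⟨B, hB⟩ := DerivedOX.RpushQCoh.exists_bound f
  obtain ⟨m, hm⟩ := (Groth.Agent.S1020.result X G hG
    (fun E hE h0 => hgen E hE (Gen43.Restrict.van_bot E) h0) (a.obj L).obj (a.obj L).property).2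
    ⟨1 - B - g, fun j hj φ => by
      let T : DCoh.DQCoh X := ⟨G⟦-j⟧,
        DerivedOX.CompactUnit.qcD_shift _ _ (Perfect.QCohD.isQCohD_of_isPerfect hG)⟩
      have hle : ((DCoh.Rpush f).obj T.obj).IsLE 0 := (DerivedCategory.isLE_iff _ _).2 fun p hp => by
        haveI := hg
        have hz := hB (G⟦g⟧) (DerivedOX.CompactUnit.qcD_shift _ _ (Perfect.QCohD.isQCohD_of_isPerfect hG))
          ((DerivedCategory.TStructure.t (C := X.Modules)).isLE_shift G g g 0 (by omega)) (p - j - g) (by omega)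
        refine IsZero.of_iso hz ?_
        exact (DerivedCategory.homologyFunctor Y.Modules p).mapIso
            (((DCoh.Rpush f).commShiftIso (-j)).app G) ≪≫
          ((DerivedCategory.homologyFunctor Y.Modules 0).shiftIso (-j) p (p - j) (by omega)).app _ ≪≫
          (((DerivedCategory.homologyFunctor Y.Modules 0).shiftIso g (p - j - g) (p - j) (by omega)).app _).symm ≪≫
          (DerivedCategory.homologyFunctor Y.Modules (p - j - g)).mapIso
            (((DCoh.Rpush f).commShiftIso g).app G).symm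
      have h1 : (adj.homEquiv T L).symm (ObjectProperty.homMk φ : T ⟶ a.obj L) = 0 := by
        apply ObjectProperty.hom_ext
        exact (DerivedCategory.TStructure.t (C := Y.Modules)).zero_of_isLE_of_isGE _ 0 1 (by omega) hle inferInstance
      have h2 : (ObjectProperty.homMk φ : T ⟶ a.obj L) = 0 := by
        haveI := adj.right_adjoint_additive
        rw [← (adj.homEquiv T L).apply_symm_apply (ObjectProperty.homMk φ)]
        refine (congrArg _ h1).trans ?_
        rw [adj.homEquiv_unit, Functor.map_zero, comp_zero]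
      exact congrArg (fun q => q.hom) h2⟩
  -- summands
  haveI := hm
  obtain ⟨k, hk⟩ : ∃ k : ℕ, -m < (k : ℤ) := ⟨(-m).toNat + 1, by omega⟩
  obtain ⟨e⟩ := nonempty_shift_iso f h a adj (K k) (c k)
  let ι' : (M ⟨k⟩) ⟶ L := ⟨Sigma.ι (fun k => (M k).obj) ⟨k⟩⟩
  let π' : L ⟶ M ⟨k⟩ := ⟨Sigma.desc fun l =>
    if hl : l = ⟨k⟩ then eqToHom (by rw [hl]) else 0⟩
  have hr : a.map ι' ≫ a.map π' = 𝟙 _ := by
    rw [← a.map_comp, ← a.map_id]
    congr 1
    apply ObjectProperty.hom_ext
    simp [ι', π']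
  have hz : IsZero (DCoh.HD (a.obj L).obj (i k - c k)) :=
    DerivedCategory.isZero_of_isGE _ m _ (by have := hi k; omega)
  have hz2 : IsZero (DCoh.HD (a.obj (M ⟨k⟩)).obj (i k - c k)) := by
    refine (IsZero.iff_id_eq_zero _).2 ?_
    let Φ := ObjectProperty.ι (DCoh.IsQCohD (X := X)) ⋙ DerivedCategory.homologyFunctor X.Modules (i k - c k)
    show 𝟙 (Φ.obj (a.obj (M ⟨k⟩))) = 0
    rw [← Φ.map_id, ← hr, Φ.map_comp, hz.eq_of_tgt (Φ.map (a.map ι')) 0, zero_comp]
  refine hne k (hz2.of_iso ?_)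
  exact (((DerivedCategory.homologyFunctor X.Modules 0).shiftIso (c k) (i k - c k) (i k) (by omega)).app _).symm ≪≫
    (DerivedCategory.homologyFunctor X.Modules (i k - c k)).mapIso e.symm

end Groth.Agent.S1767
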