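import Groth.Statements.S8899
import Groth.Agent.Lib.DerivedOX.PullbackStalk
import Mathlib.RingTheory.Flat.Basic

set_option autoImplicit false
universe u
open CategoryTheory CategoryTheory.Limits AlgebraicGeometry TopologicalSpace
open SDiv

namespace Groth.Agent.S8899

open TensorProduct in
theorem ann_one_tmul {R T M : Type u} [CommRing R] [CommRing T] [Algebra R T] [AddCommGroup M]
    [Module R M] [Module.Flat R T] (m : M) :
    LinearMap.ker (LinearMap.toSpanSingleton T (T ⊗[R] M) (1 ⊗ₜ m)) =
      Ideal.map (algebraMap R T) (LinearMap.ker (LinearMap.toSpanSingleton R M m)) := by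
  refine le_antisymm (fun t ht => ?_) (Ideal.map_le_iff_le_comap.2 fun a ha => ?_)
  · rw [LinearMap.mem_ker, LinearMap.toSpanSingleton_apply, TensorProduct.smul_tmul',
      smul_eq_mul, mul_one] at ht
    set φ := LinearMap.toSpanSingleton R M m with hφ
    have hex : Function.Exact (φ.ker.subtype.lTensor T) (φ.lTensor T) :=
      Module.Flat.lTensor_exact T (LinearMap.exact_subtype_ker_map φ)
    obtain ⟨w, hw⟩ := (hex (t ⊗ₜ[R] (1 : R))).1 (by simpa [φ] using ht)
    have ht' : t = TensorProduct.rid R T (φ.ker.subtype.lTensor T w) := by simp [hw]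
    rw [ht']
    clear hw ht'
    induction w with
    | zero => simp
    | tmul a b =>
      simp only [LinearMap.lTensor_tmul, TensorProduct.rid_tmul]
      rw [Algebra.smul_def]
      exact Ideal.mul_mem_right _ _ (Ideal.mem_map_of_mem _ b.2)
    | add a b ha hb => rw [map_add, map_add]; exact Ideal.add_mem _ ha hb
  · rw [LinearMap.mem_ker, LinearMap.toSpanSingleton_apply] at ha
    rw [Ideal.mem_comap, LinearMap.mem_ker, LinearMap.toSpanSingleton_apply,
      TensorProduct.smul_tmul', smul_eq_mul, mul_one, Algebra.algebraMap_eq_smul_one,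
      TensorProduct.smul_tmul, ha, TensorProduct.tmul_zero]

/-- Let f : X ⟶ S be a morphism of schemes, G a quasi-coherent O_S-module and x a point of X over s = f
x such that f is flat at x, no point of f⁻¹(s) other than x specialises to x (x is the generic point
of some irreducible component of the fibre X_s), and s is weakly associated to G. Then x is weakly
associated to f^*G. -/
theorem result {X S : Scheme.{u}} (f : X ⟶ S) (G : S.Modules) (hG : Coh.IsQCoh G)
    (x : ↥X) (hfl : (f.stalkMap x).hom.Flat) (hgen : ∀ y : ↥X, f y = f x → y ⤳ x → y = x)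
    (hs : Curv2.IsWeakAssPoint G (f x)) : Curv2.IsWeakAssPoint ((Scheme.Modules.pullback f).obj G) x := by
  obtain ⟨m, hm⟩ := hs
  letI : Algebra (S.presheaf.stalk (f x)) (X.presheaf.stalk x) := (f.stalkMap x).hom.toAlgebra
  haveI : Module.Flat (S.presheaf.stalk (f x)) (X.presheaf.stalk x) := hfl
  let e : TensorProduct (S.presheaf.stalk (f x)) (X.presheaf.stalk x) (G.presheaf.stalk (f x)) ≃ₗ[X.presheaf.stalk x]
      ((Scheme.Modules.pullback f).obj G).presheaf.stalk x := ((Groth.Agent.Lib.DerivedOX.PullbackStalk.pullbackStalkIso f x).app G).toLinearEquiv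
  refine ⟨e ((1 : X.presheaf.stalk x) ⊗ₜ[S.presheaf.stalk (f x)] m), ?_⟩
  have hk : LinearMap.ker (LinearMap.toSpanSingleton (X.presheaf.stalk x)
      (((Scheme.Modules.pullback f).obj G).presheaf.stalk x)
      (e ((1 : X.presheaf.stalk x) ⊗ₜ[S.presheaf.stalk (f x)] m))) =
      Ideal.map (f.stalkMap x).hom (LinearMap.ker (LinearMap.toSpanSingleton (S.presheaf.stalk (f x))
        (G.presheaf.stalk (f x)) m)) := by
    refine Eq.trans ?_ (ann_one_tmul (T := X.presheaf.stalk x) m)
    ext t
    rw [LinearMap.mem_ker, LinearMap.mem_ker, LinearMap.toSpanSingleton_apply,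
      LinearMap.toSpanSingleton_apply]
    exact ⟨fun h => e.injective (by rw [map_zero]; exact (map_smul e t _).trans h),
      fun h => (map_smul e t _).symm.trans (by exact (congrArg e h).trans (map_zero e))⟩
  refine le_antisymm ?_ ?_
  · refine IsLocalRing.le_maximalIdeal fun htop => ?_
    rw [Ideal.radical_eq_top, hk] at htop
    refine (IsLocalRing.maximalIdeal.isMaximal (X.presheaf.stalk x)).ne_top (top_le_iff.1 (htop ▸ ?_))
    refine (Ideal.map_mono ((Ideal.le_radical).trans hm.le)).trans ?_
    exact IsLocalRing.map_maximalIdeal_le (f.stalkMap x).hom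
  · rw [hk, Ideal.radical_eq_sInf]
    refine le_sInf ?_
    rintro q ⟨hq, hqp⟩
    have hqm : q.comap (f.stalkMap x).hom = IsLocalRing.maximalIdeal (S.presheaf.stalk (f x)) := by
      refine le_antisymm (IsLocalRing.le_maximalIdeal (Ideal.IsPrime.ne_top inferInstance)) ?_
      rw [← hm]
      exact (Ideal.radical_mono (Ideal.map_le_iff_le_comap.1 hq)).trans
        (Ideal.IsPrime.radical inferInstance).le
    have hsp : X.fromSpecStalk x ⟨q, hqp⟩ ⤳ x := by
      have : X.fromSpecStalk x ⟨q, hqp⟩ ∈ Set.range (X.fromSpecStalk x) := Set.mem_range_self _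
      rwa [Scheme.range_fromSpecStalk] at this
    have hfy : f (X.fromSpecStalk x ⟨q, hqp⟩) = f x := by
      rw [← Scheme.Hom.comp_apply, ← Scheme.SpecMap_stalkMap_fromSpecStalk, Scheme.Hom.comp_apply]
      have : Spec.map (f.stalkMap x) ⟨q, hqp⟩ = IsLocalRing.closedPoint (S.presheaf.stalk (f x)) :=
        PrimeSpectrum.ext hqm
      rw [this, Scheme.fromSpecStalk_closedPoint]
    have := hgen _ hfy hsp
    have hcl : (⟨q, hqp⟩ : Spec (X.presheaf.stalk x)) = IsLocalRing.closedPoint (X.presheaf.stalk x) :=
      (X.fromSpecStalk x).isEmbedding.injective (this.trans Scheme.fromSpecStalk_closedPoint.symm)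
    exact (congrArg PrimeSpectrum.asIdeal hcl).ge

end Groth.Agent.S8899
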