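import Groth.Statements.S1055
import Groth.Agent.Lib.DerivedOX.PullPushAdj
import Groth.Agent.Lib.DerivedOX.TildeStalk
import Groth.Agent.Lib.DR.KFlat
import Groth.Agent.Lib.DR.KProjRes
import Groth.Agent.Lib.QCoh.Pullback

set_option autoImplicit false
universe u
open CategoryTheory CategoryTheory.Limits AlgebraicGeometry Opposite
attribute [local instance] HasDerivedCategory.standard
open Perf

namespace Groth.Agent.S1055

open Groth.Agent.Lib

set_option linter.style.haveILetI false

section

theorem additive_tilde (R : CommRingCat.{u}) : (tilde.functor R).Additive := inferInstance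

local instance {A : Type u} [CommRing A] : (tilde.functor (CommRingCat.of A)).Additive :=
  additive_tilde _

theorem preservesFiniteColimits_tilde (R : CommRingCat.{u}) :
    PreservesFiniteColimits (tilde.functor R) := inferInstance

local instance {A : Type u} [CommRing A] : PreservesFiniteColimits (tilde.functor (CommRingCat.of A)) :=
  preservesFiniteColimits_tilde _

variable {A B : Type u} [CommRing A] [CommRing B] (φ : A →+* B)

local instance : (HomotopyCategory.quotient (ModuleCat.{u} A) (.up ℤ) ⋙ DerivedCategory.Qh).IsLocalization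
    (HomologicalComplex.quasiIso (ModuleCat.{u} A) (.up ℤ)) :=
  Functor.IsLocalization.of_iso _ (DerivedCategory.quotientCompQhIso _).symm

theorem isAdapted_baseChange :
    DerivedOX.LeftDerived.IsAdapted (HomologicalComplex.quasiIso (ModuleCat.{u} A) (.up ℤ))
      (HomotopyCategory.quotient (ModuleCat.{u} A) (.up ℤ) ⋙ DRing.baseChangeKh φ)
      (DR.KProjRes.res A) (DR.KProjRes.aug A) where
  mem K := DR.KProjRes.quasiIso_aug A K
  inverts K L g hg := by
    haveI : QuasiIso g := hg
    haveI : IsIso ((HomotopyCategory.quotient _ _).map ((DR.KProjRes.res A).map g)) :=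
      HomotopyCategory.quotient_inverts_homotopyEquivalences _ _ _
        (DR.KProjRes.res_map_homotopyEquivalences A g)
    exact (DRing.baseChangeKh φ).map_isIso ((HomotopyCategory.quotient _ _).map ((DR.KProjRes.res A).map g))
  isIso_resolved K := by
    haveI : IsIso ((HomotopyCategory.quotient _ _).map
        ((DR.KProjRes.aug A).app ((DR.KProjRes.res A).obj K))) :=
      HomotopyCategory.quotient_inverts_homotopyEquivalences _ _ _
        (DR.KProjRes.aug_homotopyEquivalences A _)
    exact (DRing.baseChangeKh φ).map_isIso ((HomotopyCategory.quotient _ _).map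
      ((DR.KProjRes.aug A).app ((DR.KProjRes.res A).obj K)))

variable [PreservesFiniteLimits (tilde.functor (CommRingCat.of A))]
  [PreservesFiniteLimits (tilde.functor (CommRingCat.of B))]

/-- `(Spec φ)^* (K~) ≅ (K ⊗ B)~` on homotopy categories. -/
noncomputable def hkIso :
    (tilde.functor (CommRingCat.of A)).mapHomotopyCategory (.up ℤ) ⋙
        (Scheme.Modules.pullback (Spec.map (CommRingCat.ofHom φ))).mapHomotopyCategory (.up ℤ) ≅
      (ModuleCat.extendScalars.{u, u, u} φ).mapHomotopyCategory (.up ℤ) ⋙
        (tilde.functor (CommRingCat.of B)).mapHomotopyCategory (.up ℤ) :=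
  Functor.mapHomotopyCategoryCompIso (QCoh.Pullback.pullbackTildeIso (CommRingCat.ofHom φ)) (.up ℤ) ≪≫
    (Functor.mapHomotopyCategoryCompIso
      (F := ModuleCat.extendScalars.{u, u, u} φ) (G := tilde.functor (CommRingCat.of B))
      (Iso.refl _) (.up ℤ)).symm

variable [DCoh.HasLpull (Spec.map (CommRingCat.ofHom φ))]

/-- The counit exhibiting `tildeD ⋙ Lf^*` as a left derived functor. -/
noncomputable def β : DerivedCategory.Qh ⋙
    (DCoh.tildeD (CommRingCat.of A) ⋙ DCoh.Lpull (Spec.map (CommRingCat.ofHom φ))) ⟶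
      DRing.baseChangeKh φ ⋙ DCoh.tildeD (CommRingCat.of B) :=
  (Functor.associator _ _ _).inv ≫
    Functor.whiskerRight (tilde.functor (CommRingCat.of A)).mapDerivedCategoryFactorsh.hom _ ≫
    (Functor.associator _ _ _).hom ≫
    Functor.whiskerLeft _ ((DerivedOX.PullPushAdj.pullK _).totalLeftDerivedCounit DerivedCategory.Qh
      (HomotopyCategory.quasiIso _ (.up ℤ))) ≫
    (Functor.associator _ _ _).inv ≫
    Functor.whiskerRight (hkIso φ).hom DerivedCategory.Qh ≫
    (Functor.associator _ _ _).hom ≫
    Functor.whiskerLeft _ (tilde.functor (CommRingCat.of B)).mapDerivedCategoryFactorsh.inv ≫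
    (Functor.associator _ _ _).inv

set_option maxHeartbeats 400000 in
theorem isIso_β_app (K : CochainComplex (ModuleCat.{u} A) ℤ) :
    IsIso ((β φ).app ((HomotopyCategory.quotient _ _).obj ((DR.KProjRes.res A).obj K))) := by
  let qK := (HomotopyCategory.quotient _ (.up ℤ)).obj ((DR.KProjRes.res A).obj K)
  have h2 : IsIso (((DerivedOX.PullPushAdj.pullK (Spec.map (CommRingCat.ofHom φ))).totalLeftDerivedCounit
      DerivedCategory.Qh (HomotopyCategory.quasiIso _ (.up ℤ))).app
        (((tilde.functor (CommRingCat.of A)).mapHomotopyCategory (.up ℤ)).obj qK)) :=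
    DerivedOX.PullPushAdj.isIso_counit_app_of_isKFlat _ (DCoh.Lpull _) _
      (DerivedOX.TildeStalk.isKFlat_tilde (R := CommRingCat.of A)
        (DR.KFlat.isKFlat_of_isKProjective ((DR.KProjRes.res A).obj K)))
  haveI := h2
  simp only [β, NatTrans.comp_app, Functor.whiskerRight_app, Functor.whiskerLeft_app,
    Functor.associator_hom_app, Functor.associator_inv_app]
  erw [Category.id_comp, Category.id_comp, Category.id_comp, Category.id_comp, Category.comp_id]
  infer_instance

theorem isLeftDerived_β :
    (DCoh.tildeD (CommRingCat.of A) ⋙ DCoh.Lpull (Spec.map (CommRingCat.ofHom φ))).IsLeftDerivedFunctor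
      (β φ) (HomotopyCategory.quasiIso (ModuleCat.{u} A) (.up ℤ)) := by
  let E := HomotopyCategory.quotient (ModuleCat.{u} A) (ComplexShape.up ℤ)
  let G := DCoh.tildeD (CommRingCat.of A) ⋙ DCoh.Lpull (Spec.map (CommRingCat.ofHom φ))
  let F' := DRing.baseChangeKh φ ⋙ DCoh.tildeD (CommRingCat.of B)
  haveI : G.IsLeftDerivedFunctor (L := E ⋙ DerivedCategory.Qh) (F := E ⋙ F')
      ((Functor.associator E DerivedCategory.Qh G).hom ≫ Functor.whiskerLeft E (β φ))
      (HomologicalComplex.quasiIso (ModuleCat.{u} A) (.up ℤ)) := by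
    refine DerivedOX.LeftDerived.isLeftDerivedFunctor_of_isIso
      (((isAdapted_baseChange φ).postcomp _).of_natIso (Functor.associator E _ _))
      (E ⋙ DerivedCategory.Qh) _ _ fun K => ?_
    haveI := isIso_β_app φ K
    exact inferInstanceAs (IsIso (𝟙 _ ≫ (β φ).app (E.obj ((DR.KProjRes.res A).obj K))))
  exact DerivedOX.LeftDerived.isLeftDerivedFunctor_of_precomp (F := F')
    (W := HomotopyCategory.quasiIso _ _) DerivedCategory.Qh E
    (HomologicalComplex.homotopyEquivalences (ModuleCat.{u} A) (.up ℤ))
    (HomologicalComplex.quasiIso (ModuleCat.{u} A) (.up ℤ)) G (β φ)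

end

/-- Let φ : A → B be a ring map and f : Spec B ⟶ Spec A the corresponding morphism. Assuming the derived
functors involved exist (and tilde is recorded as exact), derived base change - ⊗^L_A B : D(A) ⥤
D(B) followed by M ↦ M~ is isomorphic to M ↦ M~ followed by Lf^*. -/
theorem result {A B : Type u} [CommRing A] [CommRing B] (φ : A →+* B)
    [PreservesFiniteLimits (tilde.functor (CommRingCat.of A))] [PreservesFiniteLimits (tilde.functor (CommRingCat.of B))]
    [DRing.HasLBaseChange φ] [DCoh.HasLpull (Spec.map (CommRingCat.ofHom φ))] :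
    Nonempty (DRing.LBaseChange φ ⋙ DCoh.tildeD (CommRingCat.of B) ≅
      DCoh.tildeD (CommRingCat.of A) ⋙ DCoh.Lpull (Spec.map (CommRingCat.ofHom φ))) := by
  haveI := Groth.Agent.Lib.DerivedOX.LeftDerived.isLeftDerivedFunctor_postcomp (isAdapted_baseChange φ)
    (DRing.LBaseChange φ)
    ((DRing.baseChangeKh φ).totalLeftDerivedCounit DerivedCategory.Qh
      (HomotopyCategory.quasiIso (ModuleCat.{u} A) (.up ℤ))) (DCoh.tildeD (CommRingCat.of B))
  haveI := isLeftDerived_β φ
  exact ⟨Functor.leftDerivedUnique
    (LF := DRing.LBaseChange φ ⋙ DCoh.tildeD (CommRingCat.of B))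
    (LF' := DCoh.tildeD (CommRingCat.of A) ⋙ DCoh.Lpull (Spec.map (CommRingCat.ofHom φ)))
    (α := (Functor.associator _ _ _).inv ≫ Functor.whiskerRight
      ((DRing.baseChangeKh φ).totalLeftDerivedCounit DerivedCategory.Qh
        (HomotopyCategory.quasiIso (ModuleCat.{u} A) (.up ℤ))) _)
    (α'₂ := β φ) (W := HomotopyCategory.quasiIso (ModuleCat.{u} A) (.up ℤ))⟩

end Groth.Agent.S1055
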