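import Groth.Statements.S2155
import Groth.Agent.H75.BaseChange.Nhd

set_option autoImplicit false
universe u
open CategoryTheory AlgebraicGeometry
open Mor

namespace Groth.Agent.S2155

/-- Consider a cartesian square with `f : X → S` locally of finite presentation, base change `g : S' →
S`, and `f' : X' → S'`, `g' : X' → X` the projections. If `f` is flat, or if `g` is flat, then the
open set of points where `f'` is smooth is the preimage under `g'` of the open set of points where
`f` is smooth. -/
theorem result {X S X' S' : Scheme.{u}} (f : X ⟶ S) (g : S' ⟶ S) (f' : X' ⟶ S') (g' : X' ⟶ X)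
    (h : IsPullback g' f' f g) [LocallyOfFinitePresentation f] [LocallyOfFinitePresentation f'] (hflat : Flat f ∨ Flat g) :
    f'.smoothLocus = g' ⁻¹ᵁ f.smoothLocus := by
    let e := h.isoPullback
    have key : f'.smoothLocus = (e.hom ≫ Limits.pullback.snd f g).smoothLocus := by
      simp only [e, h.isoPullback_hom_snd]
    rw [key, ← Scheme.Hom.preimage_smoothLocus_eq,
      show g' ⁻¹ᵁ f.smoothLocus = e.hom ⁻¹ᵁ (Limits.pullback.fst f g ⁻¹ᵁ f.smoothLocus) by
        rw [← Scheme.Hom.comp_preimage, h.isoPullback_hom_fst]]
    congr 1
    ext w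
    refine H75.BaseChange.mem_smoothLocus_snd_iff f g w ?_
    rcases hflat with hh | hh
    · exact Or.inl (Flat.stalkMap f _)
    · exact Or.inr (Flat.stalkMap g _)

end Groth.Agent.S2155
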