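import Groth.Statements.S4875
import Groth.Agent.Lib.SchDom.Scheme
import Groth.Agent.Lib.SchDom.FlatBC
-- import your own Groth.Agent.* helpers here

set_option autoImplicit false
universe u
open CategoryTheory AlgebraicGeometry
open EGA43

namespace Groth.Agent.S4875

open AlgebraicGeometry CategoryTheory CategoryTheory.Limits Lib.SchDom TensorProduct
set_option linter.style.haveILetI false

/-- Let (f_i : Z_i ⟶ X) be a schematically dominant family of morphisms and g : X' ⟶ X a flat morphism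
locally of finite presentation. Then the family of base changes f'_i : Z_i ×_X X' ⟶ X' is
schematically dominant. (No quasi-compactness of the f_i and no finiteness of the family is
assumed.) -/
theorem result {X X' : Scheme.{u}} {ι : Type u} (Z : ι → Scheme.{u})
    (f : ∀ i, Z i ⟶ X) (g : X' ⟶ X) [Flat g] [LocallyOfFinitePresentation g]
    (h : (∀ (V : (X).Opens) (t : Γ(X, V)), (∀ i, (f i).app V t = 0) → t = 0)) :
    (∀ (V : (X').Opens) (t : Γ(X', V)), (∀ i, (Limits.pullback.snd (f i) g).app V t = 0) → t = 0) := by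
  refine sd_of_injHom (fun i => pullback.snd (f i) g) fun y => ?_
  obtain ⟨V, hV, hyV, -⟩ := exists_isAffineOpen_mem_and_subset (x := g y) (U := ⊤) trivial
  obtain ⟨U, hU, hyU, e⟩ := exists_isAffineOpen_mem_and_subset (x := y) (U := g ⁻¹ᵁ V) hyV
  letI := (g.appLE V U e).hom.toAlgebra
  haveI : Module.Flat Γ(X, V) Γ(X', U) := HasRingHomProperty.appLE @Flat g inferInstance ⟨V, hV⟩ ⟨U, hU⟩ e
  haveI : Algebra.FinitePresentation Γ(X, V) Γ(X', U) :=
    HasRingHomProperty.appLE @LocallyOfFinitePresentation g inferInstance ⟨V, hV⟩ ⟨U, hU⟩ e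
  letI : ∀ x : Σ i, Chart f V i, Algebra Γ(X, V) Γ(Z x.1, x.2.1) :=
    fun x => ((f x.1).appLE V x.2.1 x.2.2.2).hom.toAlgebra
  have hcov : ∀ i, ∀ z, f i z ∈ V → ∃ k : Chart f V i, z ∈ k.1 := fun i z hz => by
    obtain ⟨W, hW, hzW, hle⟩ := exists_isAffineOpen_mem_and_subset (x := z) (U := f i ⁻¹ᵁ V) hz
    exact ⟨⟨W, hW, hle⟩, hzW⟩
  have h0 : InjLoc fun x : Σ i, Chart f V i => Algebra.linearMap Γ(X, V) Γ(Z x.1, x.2.1) :=
    injLoc_iff_injHom.2 (injHom_of_sd f h hV (Chart f V) (fun _ k => k.1) (fun _ k => k.2.2) hcov)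
  have h1 : InjHom _ := bcInj_linearMap_iff.1 ((bcInj_of_flat_finitePresentation _ h0 Γ(X', U)).of_algEquiv
    (Algebra.TensorProduct.lid Γ(X, V) Γ(X', U)).symm)
  have hW := fun x : Σ i, Chart f V i =>
    exists_chartEquiv (IsPullback.of_hasPullback (f x.1) g) hV x.2.2.1 hU x.2.2.2 e
  refine ⟨U, hU, hyU, Chart f V, fun i k => pullback.fst (f i) g ⁻¹ᵁ k.1 ⊓ pullback.snd (f i) g ⁻¹ᵁ U,
    fun i k => (hW ⟨i, k⟩).1, fun i k => inf_le_right, ?_⟩
  choose eW heW using fun x => (hW x).2
  refine h1.of_equiv (Algebra.TensorProduct.lid Γ(X, V) Γ(X', U)).toRingEquiv (fun x => (eW x).toRingHom)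
    (fun x => (eW x).injective) fun x t => ?_
  induction t using TensorProduct.induction_on with
  | zero => simp
  | add s t hs ht => simp only [map_add, hs, ht]
  | tmul a b =>
    show eW x (((f x.1).appLE V x.2.1 x.2.2.2 a) ⊗ₜ b) =
      (pullback.snd (f x.1) g).appLE U _ inf_le_right (g.appLE V U e a * b)
    rw [heW, map_mul, appLE_appLE]
    refine congrArg (· * _) (Eq.trans ?_ (appLE_appLE (pullback.snd (f x.1) g) g e inf_le_right a).symm)
    simp only [pullback.condition]

end Groth.Agent.S4875
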