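import Groth.Statements.S3843
import Groth.Agent.S4875

set_option autoImplicit false
universe u
open CategoryTheory CategoryTheory.Limits AlgebraicGeometry TopologicalSpace
open Rat20

namespace Groth.Agent.S3843

set_option linter.style.haveILetI false

theorem ι_app_eq_zero_iff {X : Scheme.{u}} (U : X.Opens) (V : X.Opens) (t : Γ(X, V)) :
    U.ι.app V t = 0 ↔ X.presheaf.map (homOfLE (inf_le_left : V ⊓ U ≤ V)).op t = 0 := by
  have h1 : U.ι ''ᵁ U.ι ⁻¹ᵁ V = V ⊓ U := by
    rw [Scheme.Hom.image_preimage_eq_opensRange_inf, Scheme.Opens.opensRange_ι, inf_comm]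
  have key : ∀ (W : X.Opens) (_ : W = V ⊓ U) (hW : W ≤ V),
      X.presheaf.map (homOfLE hW).op t = 0 ↔
        X.presheaf.map (homOfLE (inf_le_left : V ⊓ U ≤ V)).op t = 0 := by
    intro W hW hWV
    subst hW
    rfl
  rw [Scheme.Opens.ι_app]
  exact key _ h1 _


/-- For the open subset U = X; the general case is the same statement over the open subscheme U: let f :
X' → X be flat and locally of finite presentation. Then for every schematically dense open subset V
of X, the preimage f⁻¹(V) is schematically dense in X'. -/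
theorem result {X X' : Scheme.{u}} (f : X' ⟶ X) [Flat f]
    [LocallyOfFinitePresentation f] (V : X.Opens) (hV : CInt.IsSchematicallyDense V) :
    CInt.IsSchematicallyDense (f ⁻¹ᵁ V) := by
  have h0 : ∀ (W : X.Opens) (t : Γ(X, W)), (∀ _i : PUnit.{u + 1}, V.ι.app W t = 0) → t = 0 :=
    fun W t ht => hV W (((ι_app_eq_zero_iff V W t).1 (ht PUnit.unit)).trans (map_zero _).symm)
  have h := Groth.Agent.S4875.result (fun _ : PUnit.{u + 1} => V.toScheme) (fun _ => V.ι) f h0
  intro W
  rw [injective_iff_map_eq_zero]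
  intro t ht
  refine h W t fun _ => ?_
  have hP := ((isPullback_morphismRestrict f V).flip)
  let e := (IsPullback.of_hasPullback V.ι f).isoIsPullback _ _ hP.flip
  rw [← (IsPullback.of_hasPullback V.ι f).isoIsPullback_hom_snd _ _ hP.flip, Scheme.Hom.comp_app]
  show (Scheme.Hom.app _ _) ((f ⁻¹ᵁ V).ι.app W t) = 0
  rw [(ι_app_eq_zero_iff (f ⁻¹ᵁ V) W t).2 ht, map_zero]

end Groth.Agent.S3843
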