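import Groth.Statements.S19476
import Groth.Agent.Lib.H3.SeesawSch.Glue
import Groth.Agent.Lib.TensorMod.LocFree
-- import your own Groth.Agent.* helpers here

set_option autoImplicit false
universe u
open CategoryTheory CategoryTheory.Limits AlgebraicGeometry
open PicF

namespace Groth.Agent.S19476

/-- Let S be a locally Noetherian scheme, f : X → S flat and proper with integral geometric fibres, and
L a line bundle on X (a locally free module of rank 1). Then there is a closed subscheme Z ⊆ S with
the following universal property among locally Noetherian S-schemes: a morphism u : T → S with T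
locally Noetherian factors through Z if and only if the pullback of L to X ×_S T is isomorphic to
the pullback along the projection X ×_S T → T of some line bundle on T, i.e. is trivial relative to
T. (Only the existence of such a closed subscheme is asserted.) -/
theorem result {X S : Scheme.{u}} (f : X ⟶ S)
    [IsProper f] [Flat f] [GeometricallyIntegral f] [IsLocallyNoetherian S]
    (L : X.Modules) (hL : FlatMod.IsFinLocFreeOfRank 1 L) :
    ∃ (Z : Scheme.{u}) (ι : Z ⟶ S), IsClosedImmersion ι ∧
      ∀ (T : Scheme.{u}) (u : T ⟶ S), IsLocallyNoetherian T →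
        ((∃ u' : T ⟶ Z, u' ≫ ι = u) ↔
          ∃ M : T.Modules, FlatMod.IsFinLocFreeOfRank 1 M ∧
            Nonempty ((Scheme.Modules.pullback (pullback.fst f u)).obj L ≅
              (Scheme.Modules.pullback (pullback.snd f u)).obj M)) := by
  open Groth.Agent.Lib Groth.Agent.Lib.H3 Groth.Agent.Lib.Cube in
  haveI : LocallyOfFinitePresentation f := inferInstance
  open Groth.Agent.Lib Groth.Agent.Lib.H3 Groth.Agent.Lib.Cube in
  have hL' : PicF.IsInvertible L := TensorMod.LocFree.isInvertible_of_rank_one hL
  open Groth.Agent.Lib Groth.Agent.Lib.H3 Groth.Agent.Lib.Cube in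
  obtain ⟨ι, U, -, hUc, e, he, c, hc⟩ := Triv.exists_cocycle hL'
  open Groth.Agent.Lib Groth.Agent.Lib.H3 Groth.Agent.Lib.Cube in
  refine ⟨(SeesawSch.idealSheaf f c hUc).subscheme, (SeesawSch.idealSheaf f c hUc).subschemeι,
    inferInstance, fun T u _ => (HilbD.Basic.exists_lift_iff u _).trans ⟨fun h => ?_, ?_⟩⟩
  · haveI : IsProper (Limits.pullback.snd f u) := inferInstance
    haveI : Surjective (Limits.pullback.snd f u) := inferInstance
    obtain ⟨M, hM, ⟨i⟩⟩ := SeesawGlobal.exists_of_local_gen (Limits.pullback.snd f u)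
      (Groth.Agent.H2.Rigid.push_of_flat _
        (SeesawCons.h0_of_geometricallyIntegral (Limits.pullback.snd f u)).1)
      ((Scheme.Modules.pullback (Limits.pullback.fst f u)).obj L) fun t => by
        obtain ⟨W, htW, hW⟩ := SeesawSch.locally_of_le_ker f c hUc u h t
        let q := Limits.pullback.snd f u
        let l : ((q ⁻¹ᵁ W : Scheme.Opens _) : Scheme.{u}) ⟶ Limits.pullback f (W.ι ≫ u) :=
          Limits.pullback.lift ((q ⁻¹ᵁ W).ι ≫ Limits.pullback.fst f u) (q ∣_ W) (by
            rw [Category.assoc, Limits.pullback.condition, ← Category.assoc, ← Category.assoc,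
              ← morphismRestrict_ι])
        obtain ⟨j⟩ := (Triv.trivAlong_iff e he c hc hUc _).1
          ((Triv.TrivAlong.comp hW l).of_eq (Limits.pullback.lift_fst _ _ _))
        exact ⟨W, htW, TensorMod.Gen.exists_gen_of_iso
          ((Scheme.Modules.restrictFunctorIsoPullback (q ⁻¹ᵁ W).ι).app _ ≪≫
            (Scheme.Modules.pullbackComp _ _).app L ≪≫ j)⟩
    exact ⟨M, TensorMod.LocFree.of_isInvertible hM, ⟨i.symm⟩⟩
  · rintro ⟨M, hM, ⟨i⟩⟩
    refine SeesawSch.le_ker_of_locally f c hUc u fun t => ?_
    obtain ⟨W, htW, ⟨j⟩⟩ := TensorMod.LocFree.isInvertible_of_rank_one hM t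
    refine ⟨W, htW, (Triv.trivAlong_iff e he c hc hUc _).2 ?_⟩
    let l : Limits.pullback f (W.ι ≫ u) ⟶ Limits.pullback f u :=
      Limits.pullback.lift (Limits.pullback.fst _ _) (Limits.pullback.snd _ _ ≫ W.ι)
        (by rw [Category.assoc]; exact Limits.pullback.condition)
    exact ⟨(Scheme.Modules.pullbackCongr (Limits.pullback.lift_fst _ _ _).symm).app L ≪≫
      ((Scheme.Modules.pullbackComp l (Limits.pullback.fst f u)).app L).symm ≪≫
      (Scheme.Modules.pullback l).mapIso i ≪≫
      (Scheme.Modules.pullbackComp l (Limits.pullback.snd f u)).app M ≪≫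
      (Scheme.Modules.pullbackCongr (Limits.pullback.lift_snd _ _ _)).app M ≪≫
      ((Scheme.Modules.pullbackComp (Limits.pullback.snd f (W.ι ≫ u)) W.ι).app M).symm ≪≫
      (Scheme.Modules.pullback _).mapIso
        (((Scheme.Modules.restrictFunctorIsoPullback W.ι).app M).symm ≪≫ j) ≪≫
      PicLoc.pullbackStructureIso _⟩

end Groth.Agent.S19476
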