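import Groth.Statements.S1551
import Groth.Agent.H97.GlueLine
import Groth.Agent.Lib.TensorMod.GenLocal
import Groth.Agent.H97.PoleFn
import Groth.Agent.Lib.Ample.Pullback
-- import your own Groth.Agent.* helpers here

set_option autoImplicit false
universe u
open CategoryTheory CategoryTheory.Limits AlgebraicGeometry
open Variety

namespace Groth.Agent.S1551

open Groth.Agent.Lib.TensorMod Groth.Agent.Lib.TensorMod.Dual Groth.Agent.Lib.TensorMod.Gen
open Groth.Agent.H97.GlueLine TopologicalSpace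

/-- A Noetherian separated scheme of dimension one has an ample invertible module. -/
theorem result (X : Scheme.{u}) [IsNoetherian X] [X.IsSeparated]
    (hdim : topologicalKrullDim X = 1) : ∃ L : X.Modules, CohB1.IsAmple L := by
  classical
  have hd : topologicalKrullDim X ≤ 1 := hdim.le
  have hfc := NoetherianSpace.finite_irreducibleComponents (α := X)
  have hG := Groth.Agent.H97.DimOneSetup.finite_gen (X := X)
  obtain ⟨U₁, hU₁, hgU₁⟩ := Groth.Agent.H97.FiniteAffine.exists_affineOpen hfc hG.toFinset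
    fun x _ => Groth.Agent.H97.DimOneSetup.ringKrullDim_stalk_le_one hd x
  have hSfin : {z : X | z ∉ U₁}.Finite :=
    Groth.Agent.H97.DimOneSetup.finite_of_no_gen hd U₁.2.isClosed_compl
      fun z hz hgz => hz (hgU₁ z (hG.mem_toFinset.2 hgz))
  obtain ⟨U, hU, hgU⟩ := Groth.Agent.H97.FiniteAffine.exists_affineOpen hfc (hG.toFinset ∪ hSfin.toFinset)
    fun x _ => Groth.Agent.H97.DimOneSetup.ringKrullDim_stalk_le_one hd x
  obtain ⟨V, a, h, -, hVU, hSV, ha, hh, hah⟩ := Groth.Agent.H97.PoleFn.exists_pole hd hU₁ hU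
    (fun η hη => hgU₁ η (hG.mem_toFinset.2 hη))
    (fun η hη => hgU η (Finset.mem_union_left _ (hG.mem_toFinset.2 hη)))
    (fun z hz => hgU z (Finset.mem_union_right _ (hSfin.mem_toFinset.2 hz)))
  replace hah : rf (inf_le_left : V ⊓ U₁ ≤ V) a * rf (inf_le_right : V ⊓ U₁ ≤ U₁) h = 1 := hah
  let cov : ULift.{u} Bool → X.Opens := fun i => bif i.down then U₁ else V
  have hsup : iSup cov = ⊤ := top_unique fun x _ => by
    by_cases hx : x ∈ U₁
    · exact Opens.mem_iSup.2 ⟨⟨true⟩, hx⟩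
    · exact Opens.mem_iSup.2 ⟨⟨false⟩, hSV x hx⟩
  have hdisj : ∀ i j, i ≠ j → cov i ⊓ cov j ≤ U₁ := by
    rintro ⟨_ | _⟩ ⟨_ | _⟩ hne
    exacts [absurd rfl hne, inf_le_right, inf_le_left, absurd rfl hne]
  let r : ∀ i, Γ(X, cov i ⊓ U₁) := fun
    | ⟨true⟩ => 1
    | ⟨false⟩ => rf (inf_le_right : V ⊓ U₁ ≤ U₁) h
  have hr : ∀ i, IsUnit (r i) := by
    rintro ⟨_ | _⟩
    exacts [IsUnit.of_mul_eq_one_right _ hah, isUnit_one]
  obtain ⟨c, hc⟩ := exists_cocycle (M := Coh.structureModule X) hdisj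
    (fun i => r i • one X (cov i ⊓ U₁))
    fun i => GenLocal.isGen_smul (Groth.Agent.Lib.Ample.GenLocus.isGen_one _) (hr i)
  have mk : ∀ (q : ∀ i, Γ(X, cov i)) (σ : Γ(X, U₁)),
      (∀ i, rf inf_le_left (q i) * r i = rf (inf_le_right : cov i ⊓ U₁ ≤ U₁) σ) →
      ∃ s : Coh.structureModule X ⟶ glue c, ∀ i, CohB1.genLocus (glue c) s ⊓ cov i = X.basicOpen (q i) := by
    intro q σ hq
    obtain ⟨s, hs⟩ := HomGlue.exists_hom_of_gen (L := Coh.structureModule X) (M := glue c) hsup
      (fun i => one X (cov i)) (fun i => Groth.Agent.Lib.Ample.GenLocus.isGen_one _)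
      (fun i => q i • gen c i) fun i j T hi hj b hb => by
        have hb' : b = 1 := by
          have : (X.presheaf.map (homOfLE hi).op 1 : Γ(X, T)) = b * X.presheaf.map (homOfLE hj).op 1 := hb
          rwa [map_one, map_one, mul_one, eq_comm] at this
        subst hb'
        rw [one_smul]
        by_cases hij : i = j
        · subst hij; rfl
        have hTU : T ≤ U₁ := (le_inf hi hj).trans (hdisj i j hij)
        rw [rs_smul, rs_smul, rs_gen c i j hi hj, smul_smul]
        congr 1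
        have h2 := hc i j T hi hj hTU
        have e1 : ∀ k (hk : T ≤ cov k), rs (Coh.structureModule X) (le_inf hk hTU) (r k • one X (cov k ⊓ U₁)) =
            (rf (le_inf hk hTU) (r k) : Γ(X, T)) := fun k hk => by
          show X.presheaf.map (homOfLE (le_inf hk hTU)).op (r k * 1) = _
          rw [mul_one]
        rw [e1 j hj, e1 i hi] at h2
        replace h2 : rf (le_inf hj hTU) (r j) = c.tr i j hi hj * rf (le_inf hi hTU) (r i) := h2
        have e2 : ∀ k (hk : T ≤ cov k), rf hk (q k) * rf (le_inf hk hTU) (r k) = rf hTU σ := fun k hk => by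
          have := congrArg (rf (le_inf hk hTU)) (hq k)
          rw [rf, map_mul] at this
          rw [rf_rf] at this
          rw [show rf hk (q k) = rf (le_inf hk hTU) (rf inf_le_left (q k)) from (rf_rf _ _ _).symm]
          exact this
        refine ((hr i).map (X.presheaf.map (homOfLE (le_inf hi hTU)).op).hom).mul_left_injective ?_
        show rf hi (q i) * rf (le_inf hi hTU) (r i) =
          rf hj (q j) * c.tr i j hi hj * rf (le_inf hi hTU) (r i)
        rw [e2 i hi, mul_assoc, ← h2, e2 j hj]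
    exact ⟨s, fun i => Groth.Agent.Lib.Ample.GenLocus.genLocus_inf_eq (isGen_gen c i) s (hs i)⟩
  obtain ⟨s₀, hs₀⟩ := mk (fun | ⟨true⟩ => 1 | ⟨false⟩ => a) 1 (by
    rintro ⟨_ | _⟩
    · exact hah.trans (map_one _).symm
    · exact mul_one _)
  obtain ⟨s₁, hs₁⟩ := mk (fun | ⟨true⟩ => h | ⟨false⟩ => 1) h (by
    rintro ⟨_ | _⟩
    · exact (congrArg (· * _) (map_one _)).trans (one_mul _)
    · exact mul_one _)
  have hinv := isInvertible_glue c hsup
  refine ⟨glue c, Groth.Agent.Lib.Ample.Pullback.isAmple_of_qAffAt hinv fun x => ?_⟩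
  have hq : ∀ (W : X.Opens), (W ≤ U₁ ∨ W ≤ U) → Scheme.IsQuasiAffine (W : Scheme.{u}) := fun W hW => by
    have : CompactSpace (W : Scheme.{u}) := isCompact_iff_compactSpace.1 (NoetherianSpace.isCompact _)
    rcases hW with hW | hW
    · have : IsAffine (U₁ : Scheme.{u}) := hU₁
      exact Scheme.IsQuasiAffine.of_isImmersion (X.homOfLE hW)
    · have : IsAffine (U : Scheme.{u}) := hU
      exact Scheme.IsQuasiAffine.of_isImmersion (X.homOfLE hW)
  by_cases hx : x ∈ U₁
  · refine ⟨1, one_pos, s₀ ≫ (Groth.Agent.Lib.Ample.Pow.powOne (glue c)).symm.hom, ?_, ?_⟩ <;>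
      rw [Groth.Agent.Lib.Ample.GenLocus.genLocus_comp_iso]
    · have := hs₀ ⟨true⟩
      rw [show X.basicOpen (1 : Γ(X, U₁)) = U₁ from X.basicOpen_of_isUnit isUnit_one] at this
      exact (this.ge hx).1
    · refine hq _ (.inl fun z hz => by_contra fun hz1 => hz1 (ha ?_))
      exact (hs₀ ⟨false⟩).le ⟨hz, hSV z hz1⟩
  · refine ⟨1, one_pos, s₁ ≫ (Groth.Agent.Lib.Ample.Pow.powOne (glue c)).symm.hom, ?_, ?_⟩ <;>
      rw [Groth.Agent.Lib.Ample.GenLocus.genLocus_comp_iso]
    · have := hs₁ ⟨false⟩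
      rw [show X.basicOpen (1 : Γ(X, V)) = V from X.basicOpen_of_isUnit isUnit_one] at this
      exact (this.ge (hSV x hx)).1
    · refine hq _ (.inr fun z hz => ?_)
      by_cases hz1 : z ∈ U₁
      · exact hh ((hs₁ ⟨true⟩).le ⟨hz, hz1⟩)
      · exact hVU (hSV z hz1)

end Groth.Agent.S1551
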