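import Groth.Statements.S7669
import Groth.Agent.H97.GlueLine
import Groth.Agent.H97.PuncturedNbhd
import Groth.Agent.Lib.Ample.GenLocus
import Groth.Agent.Lib.TensorMod.FinsetTriv
import Groth.Agent.Lib.TensorMod.LocFree
-- import your own Groth.Agent.* helpers here

set_option autoImplicit false
universe u
open CategoryTheory CategoryTheory.Limits AlgebraicGeometry
open Variety

namespace Groth.Agent.S7669

open Groth.Agent.Lib.TensorMod Groth.Agent.Lib.TensorMod.Dual Groth.Agent.Lib.TensorMod.Gen
open Groth.Agent.H97.GlueLine Groth.Agent.H97.PuncturedNbhd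
open TopologicalSpace

theorem bijective_app {Y : Scheme.{u}} (U V : Y.Opens) (hV : V ≤ U) :
    Function.Bijective (U.ι.app V) := by
  refine (ConcreteCategory.isIso_iff_bijective _).1 ?_
  exact Scheme.Hom.isIso_app _ _ (by rwa [Scheme.Opens.opensRange_ι])

theorem isGen_push {Y : Scheme.{u}} (U W : Y.Opens) (N : (↑U : Scheme.{u}).Modules)
    (e : Γ(N, U.ι ⁻¹ᵁ W)) (he : IsGen N (U.ι ⁻¹ᵁ W) e) :
    IsGen ((Scheme.Modules.pushforward U.ι).obj N) (W ⊓ U)
      (rs ((Scheme.Modules.pushforward U.ι).obj N) inf_le_left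
        (show Γ((Scheme.Modules.pushforward U.ι).obj N, W) from e)) := by
  intro V hV
  have hVW : U.ι ⁻¹ᵁ V ≤ U.ι ⁻¹ᵁ W := fun y hy => (hV hy).1
  have h : (fun a : Γ(Y, V) => a • rs ((Scheme.Modules.pushforward U.ι).obj N) hV
      (rs ((Scheme.Modules.pushforward U.ι).obj N) inf_le_left
        (show Γ((Scheme.Modules.pushforward U.ι).obj N, W) from e))) =
      (fun b : Γ((U : Scheme.{u}), U.ι ⁻¹ᵁ V) => (b • rs N hVW e : Γ(N, U.ι ⁻¹ᵁ V))) ∘
        (U.ι.app V) := by
    funext a
    rw [rs_rs]
    rfl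
  rw [h]
  exact (he _ hVW).comp (bijective_app U V (hV.trans inf_le_right))

theorem isGen_of_isBasis {Y : Scheme.{u}} {M : Y.Modules} {U : Y.Opens} {e : Fin 1 → Γ(M, U)}
    (he : Basis.IsBasis e) : IsGen M U (e 0) := fun V hV => by
  have h : (fun a : Γ(Y, V) => a • rs M hV (e 0)) = Basis.comb e hV ∘ fun a _ => a := funext fun a => by
    simp [Basis.comb]
  rw [h]
  exact (he V hV).comp ⟨fun a b h => congrFun h 0, fun g => ⟨g 0, funext fun i => by rw [Fin.fin_one_eq_zero i]⟩⟩

/-- Let X be a scheme and U ⊆ X a retrocompact open such that X ∖ U is discrete and O_{X,x} is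
Noetherian of dimension ≤ 1 for every x ∈ X ∖ U. Then (1) there are an invertible module L and a
global section s with U = X_s, and (2) Pic(X) → Pic(U) is surjective. -/
theorem result (X : Scheme.{u}) (U : X.Opens)
    [QuasiCompact U.ι] (hdisc : DiscreteTopology ↥((U : Set X)ᶜ))
    (hloc : ∀ x : X, x ∉ U → IsNoetherianRing (X.presheaf.stalk x) ∧ ringKrullDim (X.presheaf.stalk x) ≤ 1) :
    (∃ (L : X.Modules) (s : Coh.structureModule X ⟶ L), PicF.IsInvertible L ∧ CohB1.genLocus L s = U) ∧
      ∀ N : (↑U : Scheme.{u}).Modules, PicF.IsInvertible N →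
        ∃ L : X.Modules, PicF.IsInvertible L ∧ Nonempty (L.restrict U.ι ≅ N) := by
  classical
  have hchart := fun (x : X) (hx : x ∉ U) => exists_chart U hdisc x hx (hloc x hx).1 (hloc x hx).2
  choose W f hWaff hxW hxf hfU honly hfin hgen using hchart
  constructor
  · let V : X → X.Opens := fun x => if hx : x ∈ U then U else W x hx
    have hV : ∀ x, x ∈ V x := fun x => by
      by_cases hx : x ∈ U <;> simp only [V, hx, ↓reduceDIte]
      exact hxW x hx
    have honly' : ∀ x y, y ∈ V x → y ∉ U → y = x := fun x y hy hyU => by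
      by_cases hx : x ∈ U <;> simp only [V, hx, ↓reduceDIte] at hy
      exacts [absurd hy hyU, honly x hx y hy hyU]
    have hdisj : ∀ x y, x ≠ y → V x ⊓ V y ≤ U := fun x y hne z hz => by
      by_contra hzU
      exact hne ((honly' x z hz.1 hzU).symm.trans (honly' y z hz.2 hzU))
    have hsec : ∀ x, ∃ q : Γ(X, V x), X.basicOpen q = V x ⊓ U := fun x => by
      by_cases hx : x ∈ U
      · rw [show V x = U from dif_pos hx, inf_idem]
        exact ⟨1, X.basicOpen_of_isUnit isUnit_one⟩
      · rw [show V x = W x hx from dif_neg hx]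
        exact ⟨f x hx, hfU x hx⟩
    choose q hq using hsec
    have hu : ∀ x, IsUnit (rf (inf_le_left : V x ⊓ U ≤ V x) (q x)) := fun x => by
      have h := RingedSpace.isUnit_res_basicOpen _ (q x)
      have h2 := h.map (X.presheaf.map (homOfLE ((hq x).ge)).op).hom
      have h3 : IsUnit (rf (hq x).ge (rf (X.basicOpen_le _) (q x))) := h2
      rwa [rf_rf] at h3
    choose qi hqi using fun x => (hu x).exists_left_inv
    obtain ⟨c, hc⟩ := exists_cocycle (M := Coh.structureModule X) hdisj
      (fun x => qi x • one X (V x ⊓ U)) fun x =>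
        GenLocal.isGen_smul (Groth.Agent.Lib.Ample.GenLocus.isGen_one _)
          (IsUnit.of_mul_eq_one _ (hqi x))
    have hsup : iSup V = ⊤ := top_unique fun x _ => Opens.mem_iSup.2 ⟨x, hV x⟩
    obtain ⟨s, hs⟩ := HomGlue.exists_hom_of_gen (L := Coh.structureModule X) (M := glue c) hsup
      (fun x => one X (V x)) (fun x => Groth.Agent.Lib.Ample.GenLocus.isGen_one _)
      (fun x => q x • gen c x) fun i j T hi hj a ha => by
        have ha' : a = 1 := by
          have : (X.presheaf.map (homOfLE hi).op 1 : Γ(X, T)) = a * X.presheaf.map (homOfLE hj).op 1 := ha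
          rwa [map_one, map_one, mul_one, eq_comm] at this
        subst ha'
        rw [one_smul]
        by_cases hij : i = j
        · subst hij; rfl
        have hTU : T ≤ U := (le_inf hi hj).trans (hdisj i j hij)
        rw [rs_smul, rs_smul, rs_gen c i j hi hj, smul_smul]
        congr 1
        have h2 := hc i j T hi hj hTU
        have e1 : ∀ k (hk : T ≤ V k), rs (Coh.structureModule X) (le_inf hk hTU) (qi k • one X (V k ⊓ U)) =
            (rf (le_inf hk hTU) (qi k) : Γ(X, T)) := fun k hk => by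
          show X.presheaf.map (homOfLE (le_inf hk hTU)).op (qi k * 1) = _
          rw [mul_one]
        rw [e1 j hj, e1 i hi] at h2
        replace h2 : rf (le_inf hj hTU) (qi j) = c.tr i j hi hj * rf (le_inf hi hTU) (qi i) := h2
        have e2 : ∀ k (hk : T ≤ V k), rf (le_inf hk hTU) (qi k) * rf hk (q k) = 1 := fun k hk => by
          have := congrArg (rf (le_inf hk hTU)) (hqi k)
          rw [rf, map_mul] at this
          replace this := this.trans (map_one _)
          rw [show rf hk (q k) = rf (le_inf hk hTU) (rf inf_le_left (q k)) from (rf_rf _ _ _).symm]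
          exact this
        have := congrArg (fun t => t * rf hi (q i) * rf hj (q j)) h2
        linear_combination (-(rf hi (q i))) * e2 j hj + (rf hj (q j) * c.tr i j hi hj) * e2 i hi + this
    refine ⟨glue c, s, isInvertible_glue c hsup, ?_⟩
    have key : ∀ x, CohB1.genLocus (glue c) s ⊓ V x = X.basicOpen (q x) := fun x =>
      Groth.Agent.Lib.Ample.GenLocus.genLocus_inf_eq (isGen_gen c x) s (hs x)
    refine Opens.ext (Set.ext fun x => ?_)
    have := key x
    rw [hq] at this
    exact ⟨fun h => (this.le ⟨h, hV x⟩).2, fun h => (this.ge ⟨hV x, h⟩).1⟩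
  · intro N hN
    let N₀ := (Scheme.Modules.pushforward U.ι).obj N
    have hloc' : ∀ x : X, ∃ (V : X.Opens) (e : Γ(N, U.ι ⁻¹ᵁ V)), x ∈ V ∧
        IsGen N (U.ι ⁻¹ᵁ V) e ∧ ∀ y ∈ V, y ∉ U → y = x := by
      intro x
      by_cases hx : x ∈ U
      · obtain ⟨V, e, hxV, he⟩ := Gen.isInvertible_iff.1 hN ⟨x, hx⟩
        have hle : U.ι ⁻¹ᵁ (U.ι ''ᵁ V) ≤ V := (U.ι.preimage_image_eq V).le
        refine ⟨U.ι ''ᵁ V, rs N hle e, ⟨⟨x, hx⟩, hxV, rfl⟩, he.res hle, fun y hy hyU => ?_⟩
        exact absurd (U.ι_image_le V hy) hyU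
      · have hD : IsAffineOpen (U.ι ⁻¹ᵁ X.basicOpen (f x hx)) :=
          ((hWaff x hx).basicOpen _).preimage_of_isOpenImmersion U.ι
            (by rw [Scheme.Opens.opensRange_ι, hfU]; exact inf_le_right)
        obtain ⟨g, e, hTg, -, he⟩ := FinsetTriv.exists_basis_basicOpen hD
          (LocFree.of_isInvertible hN) (T := U.ι ⁻¹' {y : X | y ⤳ x ∧ y ≠ x})
          ((hfin x hx).preimage U.ι.isOpenEmbedding.injective.injOn)
          (fun y hy => hgen x hx _ hy.1 hy.2) (O := ⊤) (fun _ _ => trivial)
        let O := U.ι ''ᵁ (↑U : Scheme.{u}).basicOpen g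
        have hc : IsCompact ((W x hx ⊓ U : X.Opens) : Set X) := by
          rw [← hfU x hx]; exact ((hWaff x hx).basicOpen _).isCompact
        obtain ⟨t, hxt, htO⟩ := exists_nbhd_inf_le (hWaff x hx) (hxW x hx) U O hc fun y hy hyU => by
          refine ⟨⟨y, hyU⟩, hTg ⟨hy, fun h => hx (h ▸ hyU)⟩, rfl⟩
        have hle : U.ι ⁻¹ᵁ X.basicOpen t ≤ (↑U : Scheme.{u}).basicOpen g := fun y hy => by
          have h1 : U.ι y ∈ O := htO ⟨hy, y.2⟩
          obtain ⟨z, hz, hzy⟩ := h1
          rwa [← U.ι.isOpenEmbedding.injective hzy]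
        exact ⟨X.basicOpen t, rs N hle (e 0), hxt, (isGen_of_isBasis he).res hle,
          fun y hy => honly x hx y (X.basicOpen_le t hy)⟩
    choose V e hV he honly' using hloc'
    have hdisj : ∀ x y, x ≠ y → V x ⊓ V y ≤ U := fun x y hne z hz => by
      by_contra hzU
      exact hne ((honly' x z hz.1 hzU).symm.trans (honly' y z hz.2 hzU))
    obtain ⟨c, hc⟩ := exists_cocycle (M := N₀) hdisj
      (fun x => rs N₀ inf_le_left (show Γ(N₀, V x) from e x)) fun x => isGen_push U (V x) N (e x) (he x)
    have hsup : iSup V = ⊤ := top_unique fun x _ => Opens.mem_iSup.2 ⟨x, hV x⟩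
    obtain ⟨φ, hφ⟩ := HomGlue.exists_hom_of_gen (L := glue c) (M := N₀) hsup (gen c) (isGen_gen c)
      (fun x => (show Γ(N₀, V x) from e x)) fun i j T hi hj a ha => by
        by_cases hij : i = j
        · subst hij
          rw [coeff_eq c i i hi hj a ha, c.tr_self, one_smul]
        have hTU : T ≤ U := (le_inf hi hj).trans (hdisj i j hij)
        have := hc j i T hj hi hTU
        rw [rs_rs, rs_rs] at this
        rw [coeff_eq c i j hi hj a ha]
        exact this
    have hiso : IsIso ((Scheme.Modules.restrictFunctor U.ι).map φ) :=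
      LocIso.isIso_restrict_of_isIso_app fun T hT => (ConcreteCategory.isIso_iff_bijective _).2
        (bijective_app_of_gen (O := U) hsup φ (gen c) (isGen_gen c)
          (fun x => by rw [hφ]; exact isGen_push U (V x) N (e x) (he x)) hT)
    exact ⟨glue c, isInvertible_glue c hsup,
      ⟨asIso ((Scheme.Modules.restrictFunctor U.ι).map φ) ≪≫
        (asIso (Scheme.Modules.restrictAdjunction U.ι).counit).app N⟩⟩

end Groth.Agent.S7669
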