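import Groth.Statements.S7642
import Groth.Agent.H97.CurveAmple
import Groth.Agent.H75.RedSub
import Groth.Agent.Lib.SchTopo.Basic
import Groth.Agent.Lib.Ample.RelAmple
import Groth.Agent.H97.FiniteAffine
import Groth.Agent.H34.DimOne
-- import your own Groth.Agent.* helpers here

set_option autoImplicit false
universe u
open CategoryTheory CategoryTheory.Limits AlgebraicGeometry
open Variety

namespace Groth.Agent.S7642

open TopologicalSpace
open Groth.Agent.H97 Groth.Agent.Lib.Ample

theorem isIntegral_red {X : Scheme.{u}} (T : Closeds X) (hT : IsIrreducible (T : Set X)) :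
    IsIntegral (Scheme.IdealSheafData.vanishingIdeal T).subscheme := by
  let i := (Scheme.IdealSheafData.vanishingIdeal T).subschemeι
  have hr : Set.range i = (T : Set X) := by
    rw [Scheme.IdealSheafData.range_subschemeι]; exact rfl
  haveI := H75.RedSub.isReduced_vanishingIdeal T
  haveI : IrreducibleSpace (Scheme.IdealSheafData.vanishingIdeal T).subscheme := by
    have : IrreducibleSpace (T : Set X) := Subtype.irreducibleSpace hT
    exact ((i.isClosedEmbedding.isEmbedding.toHomeomorph.trans
      (Homeomorph.setCongr hr)).symm.surjective).irreducibleSpace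
      ((i.isClosedEmbedding.isEmbedding.toHomeomorph.trans (Homeomorph.setCongr hr)).symm.continuous)
  exact isIntegral_of_irreducibleSpace_of_isReduced _

theorem dim_red {X : Scheme.{u}} (T : Closeds X) :
    topologicalKrullDim (Scheme.IdealSheafData.vanishingIdeal T).subscheme = topologicalKrullDim (T : Set X) := by
  let i := (Scheme.IdealSheafData.vanishingIdeal T).subschemeι
  have hr : Set.range i = (T : Set X) := by
    rw [Scheme.IdealSheafData.range_subschemeι]; exact rfl
  exact IsHomeomorph.topologicalKrullDim_eq _
    (i.isClosedEmbedding.isEmbedding.toHomeomorph.trans (Homeomorph.setCongr hr)).isHomeomorph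

theorem exists_isAmple {X : Scheme.{u}} [IsNoetherian X] [X.IsSeparated] (hdim : topologicalKrullDim X ≤ 1)
    (L : X.Modules) (hL : PicF.IsInvertible L) : ∃ P : X.Modules, CohB1.IsAmple P := by
  rcases eq_or_lt_of_le hdim with h | h
  · exact Groth.Agent.S1551.result X h
  · have hfin := DimOneSetup.finite_gen (X := X)
    obtain ⟨U, hU, hgU⟩ := FiniteAffine.exists_affineOpen (NoetherianSpace.finite_irreducibleComponents (α := X))
      hfin.toFinset fun x _ => DimOneSetup.ringKrullDim_stalk_le_one hdim x
    have h0 : Order.krullDim X ≤ 0 := by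
      rw [← Lib.SchTopo.Basic.topologicalKrullDim_eq_krullDim_scheme]
      exact Order.le_of_lt_succ h
    have htop : U = ⊤ := top_unique fun z _ => by
      obtain ⟨η, hη, hηz⟩ := AffineImages.exists_gen_specializes z
      have : η = z := (hηz.antisymm ((Order.krullDim_nonpos_iff_forall_isMin.1 h0 η) hηz)).eq
      exact hgU z (hfin.mem_toFinset.2 (this ▸ hη))
    have : IsAffine X := by
      rw [htop] at hU
      haveI : IsAffine ((⊤ : X.Opens) : Scheme.{u}) := hU
      exact IsAffine.of_isIso X.topIso.inv
    exact ⟨L, RelAmple.isAmple_of_isAffine hL⟩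

/-- Let X be proper of dimension at most one over a field k and let L be an invertible module on X. Then
L is ample if and only if deg(L|_C) > 0 for every irreducible component C of X of dimension one, C
carrying its reduced induced structure. -/
theorem result (k : Type u) [Field k] (X : Scheme.{u}) [X.Over (Spec (CommRingCat.of k))] [IsProper (X ↘ (Spec (CommRingCat.of k)))] [IsNoetherian X]
    (hdim : topologicalKrullDim X ≤ 1) (L : X.Modules) (hL : PicF.IsInvertible L) :
    CohB1.IsAmple L ↔ ∀ (C : Set X) (hC : C ∈ irreducibleComponents (X : Type u)),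
      topologicalKrullDim C = 1 → 0 < @Curv2.deg k _ (X.irreducibleComponentIdeal C hC).radical.subscheme ⟨(X.irreducibleComponentIdeal C hC).radical.subschemeι ≫ (X ↘ (Spec (CommRingCat.of k)))⟩ ((Scheme.Modules.pullback (X.irreducibleComponentIdeal C hC).radical.subschemeι).obj L) 1 := by
  haveI : X.IsSeparated := ⟨by
    rw [← terminal.comp_from (X ↘ Spec (CommRingCat.of k))]; infer_instance⟩
  let f : X.IdealSheafData → Prop := fun J =>
    0 < @Curv2.deg k _ J.subscheme ⟨J.subschemeι ≫ (X ↘ (Spec (CommRingCat.of k)))⟩
      ((Scheme.Modules.pullback J.subschemeι).obj L) 1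
  have hrad : ∀ (C : Set X) (hC : C ∈ irreducibleComponents (X : Type u)) (hcl : IsClosed C),
      (X.irreducibleComponentIdeal C hC).radical = Scheme.IdealSheafData.vanishingIdeal ⟨C, hcl⟩ := by
    intro C hC hcl
    rw [← Scheme.IdealSheafData.vanishingIdeal_support]
    rfl
  constructor
  · intro hA C hC hC1
    show f _
    have hcl := isClosed_of_mem_irreducibleComponents C hC
    rw [hrad C hC hcl]
    let J := Scheme.IdealSheafData.vanishingIdeal (X := X) ⟨C, hcl⟩
    letI : J.subscheme.Over (Spec (CommRingCat.of k)) := ⟨J.subschemeι ≫ (X ↘ Spec (CommRingCat.of k))⟩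
    haveI : IsProper (J.subscheme ↘ Spec (CommRingCat.of k)) :=
      inferInstanceAs (IsProper (J.subschemeι ≫ (X ↘ Spec (CommRingCat.of k))))
    haveI : IsIntegral J.subscheme := isIntegral_red _ hC.1
    exact CurvePositivity.deg_pos_of_isAmple k ((dim_red _).trans hC1)
      (Pullback.isAmple_pullback J.subschemeι (Pullback.isQuasiAffine_of_isAffineHom _) hA)
  · intro h
    obtain ⟨P, hP⟩ := exists_isAmple hdim L hL
    refine CurveAmple.isAmple_of_points k hdim hL hP fun y N hN => ?_
    let J := IntMult.ptIdeal y
    letI : J.subscheme.Over (Spec (CommRingCat.of k)) := ⟨J.subschemeι ≫ (X ↘ Spec (CommRingCat.of k))⟩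
    haveI : IsProper (J.subscheme ↘ Spec (CommRingCat.of k)) :=
      inferInstanceAs (IsProper (J.subschemeι ≫ (X ↘ Spec (CommRingCat.of k))))
    haveI : IsIntegral J.subscheme := isIntegral_red _ isIrreducible_singleton.closure
    haveI := Lib.Curves.GlobalSections.noetherianSpace_of_proper k J.subscheme
    have hd := dim_red (X := X) ⟨closure {y}, isClosed_closure⟩
    have hd1 : topologicalKrullDim J.subscheme ≤ 1 :=
      (Topology.IsInducing.topologicalKrullDim_le J.subschemeι.isClosedEmbedding.isInducing).trans hdim
    rcases eq_or_lt_of_le hd1 with h1 | h1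
    · have hC : closure {y} ∈ irreducibleComponents (X : Type u) :=
        (H34.DimOne.isClosed_or_component hdim y).resolve_left fun hy => by
          haveI : Subsingleton (closure {y} : Set X) := by
            rw [hy.closure_eq]; exact Set.subsingleton_coe _ |>.2 Set.subsingleton_singleton
          have := topologicalKrullDim_zero_of_discreteTopology (closure {y} : Set X)
          replace this := hd.trans_le this
          exact not_le.2 zero_lt_one (h1.ge.trans this)
      have hdeg : f (X.irreducibleComponentIdeal _ hC).radical := h _ hC (hd.symm.trans h1)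
      rw [hrad _ hC isClosed_closure] at hdeg
      exact CurveAmple.van_of_isAmple k hd1
        (CurvePositivity.isAmple_of_deg_pos k h1 (PicLoc.isInvertible_pullback _ hL) hdeg) hN
    · exact CurveAmple.van_of_dim_le_zero (Order.le_of_lt_succ h1) _ _

end Groth.Agent.S7642
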