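import Groth.Statements.S2928
import Groth.Agent.Lib.ProjCoh.StalkLC
import Groth.Agent.Lib.Depth.LocalCoh

set_option autoImplicit false
universe u
open CategoryTheory AlgebraicGeometry
open ProjDual

namespace Groth.Agent.S2928

/-- (i)⇔(ii): Let k be a field, X = P^r_k, F a coherent O_X-module and n ≥ 0. Then H^i(X, F(−m)) = 0 for
all i ≤ n and all sufficiently large m if and only if at every closed point x of X the stalk F_x has
depth greater than n over O_{X,x}. -/
theorem result (k : Type u) [Field k] (r : ℕ) (F : (CohB1.ProjSpace r k).Modules) (hF : Coh.IsCoh F) (n : ℕ) : (∃ m₀ : ℤ, ∀ m : ℤ, m₀ ≤ m → ∀ i : ℕ, i ≤ n → Subsingleton (Coh.HH (CohB1.ProjSpace r k) (Twist.twistBy _ F (-m)) i)) ↔ ∀ x : (CohB1.ProjSpace r k), IsClosed ({x} : Set (CohB1.ProjSpace r k)) → (n : ℕ∞) < LocCoh.depth ((CohB1.ProjSpace r k).presheaf.stalk x) (F.presheaf.stalk x) := by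
  have key := fun i => Agent.Lib.ProjCoh.StalkLC.iff_localCohomology F hF i
  have hfin := fun x => Agent.Lib.RefHull.Reflexive.finite_stalk hF x
  constructor
  · rintro ⟨m₀, h⟩ x hx
    haveI := hfin x
    refine lt_of_lt_of_le (show (n : ℕ∞) < ((n + 1 : ℕ) : ℕ∞) from by exact_mod_cast n.lt_succ_self) ?_
    refine (Agent.Lib.Depth.LocalCoh.le_idealDepth_iff_H _ _ _).2 fun i hi => ?_
    exact (key i).1 ⟨m₀, fun m hm => h m hm i (Nat.lt_succ_iff.1 hi)⟩ x hx
  · intro h
    have hi : ∀ i, i ≤ n → ∃ m₀ : ℤ, ∀ m : ℤ, m₀ ≤ m →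
        Subsingleton (Coh.HH (CohB1.ProjSpace r k) (Twist.twistBy _ F (-m)) i) := fun i hi =>
      (key i).2 fun x hx => by
        haveI := hfin x
        refine (Agent.Lib.Depth.LocalCoh.le_idealDepth_iff_H _ _ (n + 1)).1 ?_ i (by omega)
        have := h x hx
        exact ENat.natCast_add_one_le_iff.2 this
    choose f hf using hi
    refine ⟨(Finset.range (n + 1)).sup' ⟨0, by simp⟩ (fun i => if hi : i ≤ n then f i hi else 0),
      fun m hm i hi => hf i hi m (le_trans ?_ hm)⟩
    refine le_trans ?_ (Finset.le_sup' (fun i => if hi : i ≤ n then f i hi else 0)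
      (Finset.mem_range.2 (Nat.lt_succ_iff.2 hi)))
    simp only [dif_pos hi, le_refl]

end Groth.Agent.S2928
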