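import Groth.Statements.S1279
import Groth.Agent.H22.BlowUpAmple
import Groth.Agent.Lib.Flat55.GenericStrataScheme
import Groth.Agent.Lib.Spectral.Basic

set_option autoImplicit false
universe u
open FlatMor

namespace Groth.Agent.S1279

open AlgebraicGeometry CategoryTheory Limits Topology in
/-- Let X be a quasi-compact and quasi-separated scheme, U ⊆ X a quasi-compact open, and T₁, T₂ ⊆ U
disjoint subsets which are closed and constructible in U. Then there is a U-admissible blow-up b :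
X' → X such that the closures in X' of the preimages of T₁ and T₂ are disjoint. (Part (1), about
strict transforms of closed subschemes, is not stated.) -/
theorem result {X : Scheme.{u}} [CompactSpace X] [QuasiSeparatedSpace X]
    (U : X.Opens) (hU : IsCompact (U : Set X)) (T₁ T₂ : Set U)
    (h₁ : IsClosed T₁) (h₂ : IsClosed T₂) (c₁ : IsConstructible T₁) (c₂ : IsConstructible T₂) (hd : Disjoint T₁ T₂) :
    ∃ (𝓘 : X.IdealSheafData) (X' : Scheme.{u}) (b : X' ⟶ X), BlowUp.IsBlowUp b 𝓘 ∧ BlowUp.IsAdmissibleFor U 𝓘 ∧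
      Disjoint (closure (b.base ⁻¹' (Subtype.val '' T₁))) (closure (b.base ⁻¹' (Subtype.val '' T₂))) := by
  open Groth.Agent.Lib in
  open Groth.Agent.Lib.BlowUpExists in
  haveI : CompactSpace U := isCompact_iff_compactSpace.1 hU
  haveI : QuasiSeparatedSpace U := .of_isOpenEmbedding U.2.isOpenEmbedding_subtypeVal
  haveI : SpectralSpace U := {}
  have hZ : ∀ T : Set U, IsClosed T → IsConstructible T →
      ∃ J : X.IdealSheafData, Lim.IdealExt.IsFG J ∧
        ∀ x : X, x ∈ J.support ↔ (x ∉ U ∨ x ∈ Subtype.val '' T) := by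
    intro T hT cT
    have hc : IsCompact (Tᶜ) := Spectral.Basic.isCompact_of_isConstructible cT.compl
    let O : X.Opens := ⟨Subtype.val '' Tᶜ, U.2.isOpenEmbedding_subtypeVal.isOpenMap _ hT.isOpen_compl⟩
    obtain ⟨J, hJ, hJs⟩ := Flat55.GenericStrataScheme.exists_isFG_support O
      (hc.image continuous_subtype_val)
    refine ⟨J, hJ, fun x => ?_⟩
    rw [← SetLike.mem_coe, hJs]
    constructor
    · intro hx
      by_cases hxU : x ∈ U
      · exact Or.inr ⟨⟨x, hxU⟩, by_contra fun h => hx ⟨⟨x, hxU⟩, h, rfl⟩, rfl⟩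
      · exact Or.inl hxU
    · rintro (h | ⟨y, hy, rfl⟩) ⟨z, hz, hzx⟩
      · exact h (hzx ▸ z.2)
      · exact hz (Subtype.ext hzx ▸ hy)
  obtain ⟨J₁, hJ₁, hs₁⟩ := hZ T₁ h₁ c₁
  obtain ⟨J₂, hJ₂, hs₂⟩ := hZ T₂ h₂ c₂
  let I := J₁ ⊔ J₂
  have hIs : ∀ x : X, x ∈ I.support → x ∉ U := by
    intro x hx hxU
    rw [← SetLike.mem_coe, Flat55.GenericStrataScheme.support_sup] at hx
    obtain ⟨y, hy, rfl⟩ := ((hs₁ x).1 hx.1).resolve_left fun h => h hxU
    obtain ⟨y', hy', he⟩ := ((hs₂ y.1).1 hx.2).resolve_left fun h => h y.2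
    exact Set.disjoint_left.1 hd hy (Subtype.ext he ▸ hy')
  have hfg : ∀ V, (I.ideal V).FG := fun V => by
    rw [Scheme.IdealSheafData.ideal_sup]; exact Submodule.FG.sup (hJ₁ V) (hJ₂ V)
  refine ⟨I, bl I, blProj I, H22.BlowUpAmple.isBlowUp_blProj I,
    ⟨hfg, Set.disjoint_left.2 hIs⟩, Set.disjoint_left.2 fun y hy₁ hy₂ => ?_⟩
  obtain ⟨W, hyW, f, hf, hW⟩ := (localData I).Q_proj y
  have hsup : (I.comap (blProj I)).ideal W =
      (J₁.comap (blProj I)).ideal W ⊔ (J₂.comap (blProj I)).ideal W := by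
    rw [show I.comap (blProj I) = J₁.comap (blProj I) ⊔ J₂.comap (blProj I) from
      (Scheme.IdealSheafData.map_gc (blProj I)).l_sup, Scheme.IdealSheafData.ideal_sup]
    rfl
  obtain ⟨x₁, hx₁, x₂, hx₂, hsum⟩ := Submodule.mem_sup.1
    ((hW.symm.trans hsup).le (Ideal.mem_span_singleton_self f))
  have hle : ∀ {z : Γ(bl I, W.1)}, z ∈ (J₁.comap (blProj I)).ideal W ∨ z ∈ (J₂.comap (blProj I)).ideal W →
      ∃ c, c * f = z := fun {z} hz => Ideal.mem_span_singleton'.1 (hW.le (hsup.ge (hz.elim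
        (fun h => Submodule.mem_sup_left h) fun h => Submodule.mem_sup_right h)))
  obtain ⟨c₁', e₁⟩ := hle (Or.inl hx₁)
  obtain ⟨c₂', e₂⟩ := hle (Or.inr hx₂)
  have hone : c₁' + c₂' = 1 := (mul_cancel_right_mem_nonZeroDivisors hf).1 (by
    rw [add_mul, e₁, e₂, one_mul]; exact hsum)
  -- where `c` is a unit, the corresponding closure is avoided
  have key : ∀ (J : X.IdealSheafData) (T : Set U) (c : Γ(bl I, W.1)),
      (∀ x : X, x ∈ J.support ↔ (x ∉ U ∨ x ∈ Subtype.val '' T)) →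
      c * f ∈ (J.comap (blProj I)).ideal W →
      y ∈ (bl I).basicOpen c → y ∉ closure ((blProj I).base ⁻¹' (Subtype.val '' T)) := by
    intro J T c hJs hc hyc hycl
    obtain ⟨z, hzc, hzT⟩ := mem_closure_iff.1 hycl _ ((bl I).basicOpen c).2 hyc
    have hzW : z ∈ W.1 := (bl I).basicOpen_le c hzc
    obtain ⟨t, ht, htz⟩ := hzT
    have hzI : z ∉ (I.comap (blProj I)).support := by
      rw [Scheme.IdealSheafData.support_comap]
      exact fun h => hIs _ h (htz ▸ t.2)
    have hzJ : z ∈ (J.comap (blProj I)).support := by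
      rw [Scheme.IdealSheafData.support_comap]
      exact (hJs _).2 (Or.inr ⟨t, ht, htz⟩)
    rw [Ideal.Prime.mem_support_iff_le_prime _ W hzW] at hzI hzJ
    rw [hW, _root_.Ideal.span_singleton_le_iff_mem] at hzI
    exact ((W.2.primeIdealOf ⟨z, hzW⟩).2.mem_or_mem (hzJ hc)).elim
      ((Ideal.EffCartier.mem_basicOpen_iff_notMem_prime W.2 hzW c).1 hzc) hzI
  have hor : y ∈ (bl I).basicOpen c₁' ∨ y ∈ (bl I).basicOpen c₂' := by
    rw [Ideal.EffCartier.mem_basicOpen_iff_notMem_prime W.2 hyW,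
      Ideal.EffCartier.mem_basicOpen_iff_notMem_prime W.2 hyW]
    by_contra! h
    exact (W.2.primeIdealOf ⟨y, hyW⟩).2.ne_top
      ((_root_.Ideal.eq_top_iff_one _).2 (hone ▸ add_mem h.1 h.2))
  rcases hor with h | h
  · exact key J₁ T₁ c₁' hs₁ (e₁ ▸ hx₁) h hy₁
  · exact key J₂ T₂ c₂' hs₂ (e₂ ▸ hx₂) h hy₂

end Groth.Agent.S1279
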