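import Groth.Statements.S1500
import Groth.Agent.H4.CartierSection
import Groth.Agent.Lib.Ample.Restrict
open AlgebraicGeometry CategoryTheory Limits Groth.Agent.Lib

set_option autoImplicit false
universe u
open FlatMor

namespace Groth.Agent.S1500

open AlgebraicGeometry CategoryTheory Limits in
/-- Let D_1, …, D_m be effective Cartier divisors on X (ideal sheaves locally generated by a
nonzerodivisor) with empty common support, and L_1, …, L_m invertible O_X-modules with L_i ample on
the open complement of D_i. Then X has an ample family of invertible modules. -/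
theorem result {X : Scheme.{u}} {m : ℕ} (D : Fin m → X.IdealSheafData)
    (hD : ∀ i, BlowUp.IsEffCartierIdeal (D i)) (hcap : ⋂ i, ((D i).support : Set ↑X) = ∅)
    (L : Fin m → X.Modules) (hL : ∀ i, PicF.IsInvertible (L i)) (hamp : ∀ i, CohB1.IsAmple ((L i).restrict (Scheme.Opens.ι (D i).support.compl))) :
    MoreMor.HasAmpleFamily X := by
  classical
  have hN : ∀ i, ∃ (N : X.Modules) (h : Coh.structureModule X ⟶ N), PicF.IsInvertible N ∧
      ∀ x : X, x ∈ CohB1.genLocus N h ↔ x ∉ (D i).support := fun i =>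
    Groth.Agent.H4.CartierSection.exists_section (D i) (hD i)
  choose N h hN hloc using hN
  have hcov : ∀ x : X, ∃ i, x ∈ CohB1.genLocus (N i) (h i) := by
    intro x
    have hx : x ∉ ⋂ i, ((D i).support : Set X) := by rw [hcap]; exact fun h => h
    rw [Set.mem_iInter] at hx
    push Not at hx
    obtain ⟨i, hi⟩ := hx
    exact ⟨i, (hloc i x).2 hi⟩
  have hG : ∀ i, CohB1.IsAmple ((TensorMod.Pullback.pb (CohB1.genLocus (N i) (h i)).ι).obj (L i)) := by
    intro i
    refine Ample.Restrict.isAmple_pb_of_range_eq (Scheme.Opens.ι (D i).support.compl) _ ?_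
      ((Ample.Restrict.isAmple_restrict_iff_pb _).1 (hamp i))
    rw [Scheme.Opens.range_ι, Scheme.Opens.range_ι]
    ext x
    exact hloc i x
  have : CompactSpace X := ⟨by
    have hU : (Set.univ : Set X) = ⋃ i, Set.range (CohB1.genLocus (N i) (h i)).ι := by
      refine (Set.eq_univ_of_forall fun x => ?_).symm
      obtain ⟨i, hi⟩ := hcov x
      exact Set.mem_iUnion.2 ⟨i, ⟨x, hi⟩, rfl⟩
    rw [hU]
    exact isCompact_iUnion fun i => by
      have := (hG i).2.1
      exact isCompact_range (CohB1.genLocus (N i) (h i)).ι.continuous⟩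
  have : QuasiSeparatedSpace X := by
    refine QuasiSeparatedSpace.of_isOpenCover (U := fun i => CohB1.genLocus (N i) (h i)) ?_
      (fun i => ?_) fun i => ?_
    · exact top_unique fun x _ => TopologicalSpace.Opens.mem_iSup.2 (hcov x)
    · have := Ample.GenLocus.isAffineHom_genLocus (hN i) (h i)
      exact IsRetrocompact_iff_isSpectralMap_subtypeVal.mpr (CohB1.genLocus (N i) (h i)).ι.isSpectralMap
    · refine (isQuasiSeparated_iff_quasiSeparatedSpace _ (CohB1.genLocus (N i) (h i)).isOpen).2 ?_
      exact Ample.Pullback.quasiSeparatedSpace_of_isAmple (hG i)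
  refine ⟨inferInstance, fun x => ?_⟩
  obtain ⟨i, hi⟩ := hcov x
  obtain ⟨m, hm, s, hxs, hs⟩ := (Ample.Pow.isAmple_iff.1 (hG i)).2.2 ⟨x, hi⟩
  let e₀ := (Ample.Pow.pullbackPow (CohB1.genLocus (N i) (h i)).ι (L i) m).symm ≪≫
    ((Scheme.Modules.restrictFunctorIsoPullback (CohB1.genLocus (N i) (h i)).ι).app
      (CohB1.tensorPow (L i) m)).symm
  obtain ⟨n, -, t, ht⟩ := Ample.Restrict.exists_sec_extend
    (TensorMod.Invertible.isInvertible_tensorPow (hL i) m) (hN i) (h i) (s ≫ e₀.hom)
  rw [Ample.GenLocus.genLocus_comp_iso] at ht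
  let L' := CohB1.tensorMod (CohB1.tensorMod (CohB1.tensorPow (L i) m) (CohB1.tensorPow (N i) n)) (N i)
  have hL' : PicF.IsInvertible L' := TensorMod.Invertible.isInvertible_tensorMod
    (TensorMod.Invertible.isInvertible_tensorMod (TensorMod.Invertible.isInvertible_tensorPow (hL i) m)
      (TensorMod.Invertible.isInvertible_tensorPow (hN i) n)) (hN i)
  let e : L' ≅ CohB1.tensorPow L' 1 := (TensorMod.Basic.leftUnit L').symm
  refine ⟨L', 1, t ≫ e.hom, hL', le_rfl, ?_, ?_⟩
  · rw [Ample.GenLocus.genLocus_comp_iso, ht]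
    exact ⟨⟨x, hi⟩, hxs, rfl⟩
  · rw [Ample.GenLocus.genLocus_comp_iso, ht]
    exact hs.image_of_isOpenImmersion _

end Groth.Agent.S1500
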