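import Groth.Statements.S2214
import Groth.Agent.Lib.FPHom.QcCover
import Groth.Agent.Lib.CohDelta.FPApprox.Colim
import Groth.Agent.S7417

set_option autoImplicit false
universe u
open CategoryTheory AlgebraicGeometry
open QCohCat

namespace Groth.Agent.S2214

open CategoryTheory.Limits Opposite TopologicalSpace

variable (X : Scheme.{u})

/-- Finite coverings by quasi-compact opens with quasi-compact intersections. -/
theorem exists_fine_cover [CompactSpace X] [QuasiSeparatedSpace X] (ι : Type u) (V : ι → X.Opens)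
    (hV : iSup V = ⊤) :
    ∃ (J : Type u) (_ : Finite J) (U : J → X.Opens), iSup U = ⊤ ∧ (∀ j, ∃ i, U j ≤ V i) ∧
      ∀ j j', IsCompact ((U j ⊓ U j' : X.Opens) : Set X) := by
  have h : ∀ x : X, ∃ U : X.Opens, IsAffineOpen U ∧ x ∈ U ∧ ∃ i, U ≤ V i := fun x => by
    obtain ⟨i, hi⟩ := Opens.mem_iSup.1 (show x ∈ iSup V by rw [hV]; trivial)
    obtain ⟨U, hU, hx, hle⟩ := exists_isAffineOpen_mem_and_subset hi
    exact ⟨U, hU, hx, i, hle⟩
  choose U hU hx hle using h
  obtain ⟨t, ht⟩ := isCompact_univ.elim_finite_subcover (fun x => (U x : Set X))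
    (fun x => (U x).2) (fun x _ => Set.mem_iUnion.2 ⟨x, hx x⟩)
  refine ⟨{x // x ∈ t}, inferInstance, fun j => U j.1, top_unique fun x _ => ?_,
    fun j => hle j.1, fun j j' => ?_⟩
  · obtain ⟨y, hy⟩ := Set.mem_iUnion.1 (ht (Set.mem_univ x))
    obtain ⟨hyt, hxy⟩ := Set.mem_iUnion.1 hy
    exact Opens.mem_iSup.2 ⟨⟨y, hyt⟩, hxy⟩
  · exact QuasiSeparatedSpace.inter_isCompact _ _ (U j.1).2 (hU j.1).isCompact (U j'.1).2
      (hU j'.1).isCompact

theorem preservesColimit_hom [CompactSpace X] [QuasiSeparatedSpace X] (F : X.Modules)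
    (hF : CohB1.IsFP F) {Λ : Type u} [SmallCategory Λ] [IsFiltered Λ] (D : Λ ⥤ X.Modules) :
    PreservesColimit D (coyoneda.obj (op F)) := by
  haveI : SheafOfModules.IsFinitePresentation (R := ModSite.ringSh X.sheaf) F := hF
  exact Lib.FPHom.Global.preservesColimit_coyoneda (O := X.sheaf)
    (Lib.FPHom.QcCover.exists_qc_cover (exists_fine_cover X)) F D

/-- For a qcqs scheme X and a quasi-coherent O_X-module F: Hom(F, -) on QCoh(O_X) commutes with filtered
colimits (F is categorically compact) if and only if F is an O_X-module of finite presentation. -/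
theorem result (X : Scheme.{u}) [CompactSpace X]
    [QuasiSeparatedSpace X] (F : QCohCat.QCoh X) :
    IsFinitelyPresentable.{u} F ↔ SheafOfModules.IsFinitePresentation F.obj := by
  haveI : (QCohCat.isQCoh X).ι.IsLeftAdjoint := S7417.result X
  constructor
  · intro hF
    haveI : F.obj.IsQuasicoherent := F.property
    obtain ⟨I, hI, hI', D, c, hc, hD, hpt⟩ :=
      Lib.CohDelta.FPApprox.Colim.exists_colimit (X := X) F.obj
    letI := hI
    haveI := hI'
    have hDq : ∀ i, QCohCat.isQCoh X (D.obj i) := fun i => by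
      obtain ⟨q, -⟩ := (hD i).exists_quasicoherentData
      change SheafOfModules.IsQuasicoherent.{u} (R := X.ringCatSheaf) (D.obj i)
      exact q.isQuasicoherent
    obtain ⟨pt, cι⟩ := c
    cases hpt
    let D' : I ⥤ QCohCat.QCoh X := (QCohCat.isQCoh X).lift D hDq
    let c' : Cocone D' :=
      { pt := F
        ι := { app := fun i => ObjectProperty.homMk (cι.app i)
               naturality := fun i j f => ObjectProperty.hom_ext _ (cι.naturality f) } }
    have hc' : IsColimit c' :=
      isColimitOfReflects (QCohCat.isQCoh X).ι (hc.ofIsoColimit (Cocone.ext (Iso.refl _) (by intro i; simp [c'])))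
    haveI := Cardinal.fact_isRegular_aleph0.{u}
    haveI : IsCardinalFiltered I Cardinal.aleph0.{u} := (isCardinalFiltered_aleph0_iff I).2 inferInstance
    haveI : LocallySmall.{u} I := inferInstance
    obtain ⟨i, s, hs⟩ :=
      IsCardinalPresentable.exists_hom_of_isColimit Cardinal.aleph0.{u} hc' (𝟙 F)
    let r : D.obj i ⟶ F.obj := cι.app i
    have hsr : s.hom ≫ r = 𝟙 F.obj := congrArg (fun φ => φ.hom) hs
    haveI : (D.obj i).IsQuasicoherent := hDq i
    let e : D.obj i ⟶ D.obj i := 𝟙 _ - r ≫ s.hom
    haveI := _root_.Groth.Agent.Lib.QCoh.Closure.isQCoh_cokernel e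
    have iso : F.obj ≅ cokernel e :=
      { hom := s.hom ≫ cokernel.π e
        inv := cokernel.desc e r (by simp [e, hsr])
        hom_inv_id := by simp [hsr]
        inv_hom_id := by
          rw [← cancel_epi (cokernel.π e)]
          have h := cokernel.condition e
          simp only [e, Preadditive.sub_comp, Category.id_comp, sub_eq_zero, Category.assoc] at h
          rw [cokernel.π_desc_assoc, Category.comp_id]
          exact h.symm }
    have hfp : CohB1.IsFP (cokernel e) := by
      refine Lib.CohDelta.FPApprox.Sections.isFP_of_fpAt fun x => ?_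
      obtain ⟨W, hW, hx, -⟩ := exists_isAffineOpen_mem_and_subset (TopologicalSpace.Opens.mem_top x)
      exact ⟨W, hW, hx, Lib.CohDelta.FPApprox.Sections.fpAt_cokernel e hW
        (Lib.CohDelta.FPApprox.Sections.finite_of_fpAt
          (Lib.CohDelta.FPApprox.Sections.fpAt_of_isFP (hD i) hW))
        (Lib.CohDelta.FPApprox.Sections.fpAt_of_isFP (hD i) hW)⟩
    refine Lib.CohDelta.FPApprox.Sections.isFP_of_fpAt (M := F.obj) fun x => ?_
    obtain ⟨W, hW, hx, -⟩ := exists_isAffineOpen_mem_and_subset (TopologicalSpace.Opens.mem_top x)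
    refine ⟨W, hW, hx, ?_⟩
    haveI : IsIso iso.hom := inferInstance
    refine (Lib.CohDelta.FPApprox.Sections.fpAt_of_bijective iso.hom (W := W) ?_).2
      (Lib.CohDelta.FPApprox.Sections.fpAt_of_isFP hfp hW)
    exact ConcreteCategory.bijective_of_isIso (iso.hom.app W)
  · intro hF
    rw [isFinitelyPresentable_iff_preservesFilteredColimitsOfSize]
    refine ⟨fun J _ _ => ⟨fun {K} => ?_⟩⟩
    haveI := preservesColimit_hom X F.obj hF (K ⋙ (QCohCat.isQCoh X).ι)
    have hcomp : PreservesColimit K ((QCohCat.isQCoh X).ι ⋙ coyoneda.obj (op F.obj)) := inferInstance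
    exact preservesColimit_of_natIso K
      (NatIso.ofComponents (fun G => Equiv.toIso
        { toFun := fun f => ObjectProperty.homMk f
          invFun := fun f => f.hom
          left_inv := fun f => rfl
          right_inv := fun f => rfl }) : (QCohCat.isQCoh X).ι ⋙ coyoneda.obj (op F.obj) ≅
            coyoneda.obj (op F))

end Groth.Agent.S2214
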