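import Groth.Statements.S7409
import Groth.Agent.Lib.Lim.Approx.Rel
import Groth.Agent.Lib.Lim.FPDescend
import Groth.Agent.S0025

set_option autoImplicit false
universe u
open CategoryTheory AlgebraicGeometry
open Lim

namespace Groth.Agent.S7409
set_option backward.isDefEq.respectTransparency false
open CategoryTheory.Limits Opposite

theorem result {X S : Scheme.{u}} (f : X ⟶ S) [CompactSpace S] [QuasiSeparatedSpace S]
    [IsSeparated f] [LocallyOfFiniteType f] [QuasiCompact f] :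
    ∃ (n : ℕ) (X' : Scheme.{u}) (π : X' ⟶ X) (j : X' ⟶ CohB1.ProjSpaceOver n S),
      IsImmersion j ∧ j ≫ CohB1.ProjSpaceOver.toBase n S = π ≫ f ∧ IsProper π ∧ Surjective π := by
  have : CompactSpace X := QuasiCompact.compactSpace_of_compactSpace f
  have : QuasiSeparatedSpace X := quasiSeparatedSpace_of_quasiSeparated f
  obtain ⟨R, -, hπ⟩ := Groth.Agent.Lib.Lim.Approx.Rel.exists_closedApprox f
  obtain ⟨k⟩ := R.ne
  have : IsSeparated (R.cone.π.app (op k) ≫ R.t.app (op k)) := by rw [R.w]; infer_instance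
  obtain ⟨i, hi⟩ := Groth.Agent.Lib.Lim.Valuative.exists_isSeparated R.isLimit R.t (op k)
  let t : R.D.obj i ⟶ S := R.t.app i
  have : LocallyOfFinitePresentation t := R.lfp i
  have : IsSeparated t := hi
  obtain ⟨AS⟩ := Groth.Agent.Lib.Lim.Approx.Main.exists_approx (S := S)
  obtain ⟨a₀, Y₀, f₀, g₀, hY₀, hY₀', hf₀, hsq₀⟩ := Groth.Agent.Lib.Lim.FPDescend.exists_descent
    (c := AS.cone) AS.isLimit t
  have : LocallyOfFiniteType f₀ := inferInstance
  obtain ⟨a₁, φ, hY₁⟩ := Groth.Agent.Lib.Lim.Props.isSeparated_descends AS.D AS.cone AS.isLimit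
    (fun _ _ g => AS.affine g) a₀ inferInstance inferInstance f₀ hY₀ hY₀' trivial t g₀ hsq₀
    inferInstance
  let f₁ := pullback.snd f₀ (AS.D.map φ)
  have : IsSeparated f₁ := hY₁
  have : CompactSpace (pullback f₀ (AS.D.map φ) : Scheme.{u}) :=
    Groth.Agent.Lib.Lim.FPDescend.compactSpace_stage (D := AS.D) f₀ φ
  have hsq := Groth.Agent.Lib.Lim.FPDescend.move (c := AS.cone) hsq₀ φ
  let g₁ := pullback.lift (f := f₀) (g := AS.D.map φ) g₀ (t ≫ AS.cone.π.app a₁)
    (by rw [Category.assoc, AS.cone.w, hsq₀.w])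
  have hsq' : IsPullback g₁ t f₁ (AS.cone.π.app a₁) := hsq
  have : IsNoetherian (AS.D.obj a₁) := { }
  have : QuasiCompact f₁ := inferInstance
  obtain ⟨n, X₀', π₀, j₀, hj₀, hjt, hπ₀, hsurj, -⟩ := Groth.Agent.S0025.result f₁
  let ρ : CohB1.ProjSpaceOver n S ⟶ CohB1.ProjSpaceOver n (AS.D.obj a₁) :=
    pullback.lift (pullback.fst _ _) (pullback.snd _ _ ≫ AS.cone.π.app a₁) (by
      rw [pullback.condition, Category.assoc]
      exact congrArg (_ ≫ ·) (specULiftZIsTerminal.hom_ext _ _))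
  have hρ : IsPullback ρ (CohB1.ProjSpaceOver.toBase n S) (CohB1.ProjSpaceOver.toBase n (AS.D.obj a₁))
      (AS.cone.π.app a₁) := by
    refine IsPullback.of_right ?_ (pullback.lift_snd _ _ _) (IsPullback.of_hasPullback _ _)
    rw [pullback.lift_fst,
      specULiftZIsTerminal.hom_ext (AS.cone.π.app a₁ ≫ specULiftZIsTerminal.from (AS.D.obj a₁))
        (specULiftZIsTerminal.from S)]
    exact IsPullback.of_hasPullback _ _
  let ι : X ⟶ R.D.obj i := R.π.app i
  have : IsClosedImmersion ι := hπ i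
  let π₁ : pullback π₀ g₁ ⟶ R.D.obj i := pullback.snd _ _
  let X' := pullback π₁ ι
  let π : X' ⟶ X := pullback.snd _ _
  have hz : pullback.fst π₀ g₁ ≫ j₀ ≫ CohB1.ProjSpaceOver.toBase n (AS.D.obj a₁) =
      (π₁ ≫ t) ≫ AS.cone.π.app a₁ := by
    rw [hjt, Category.assoc, pullback.condition_assoc]
    exact congrArg (pullback.snd π₀ g₁ ≫ ·) hsq'.w
  let j₁ : pullback π₀ g₁ ⟶ CohB1.ProjSpaceOver n S :=
    hρ.lift (pullback.fst π₀ g₁ ≫ j₀) (π₁ ≫ t) (by rw [Category.assoc]; exact hz)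
  have hj₁ : IsPullback (pullback.fst π₀ g₁) j₁ j₀ ρ := by
    refine IsPullback.of_bot ?_ (hρ.lift_fst _ _ _).symm hρ
    rw [hρ.lift_snd, hjt]
    exact (IsPullback.of_hasPullback π₀ g₁).paste_vert hsq'
  have : IsImmersion j₁ := MorphismProperty.of_isPullback (P := @IsImmersion) hj₁ hj₀
  refine ⟨n, X', π, pullback.fst π₁ ι ≫ j₁, inferInstance, ?_, ?_, ?_⟩
  · rw [Category.assoc, hρ.lift_snd, ← Category.assoc, pullback.condition, Category.assoc]
    exact congrArg (π ≫ ·) (R.w i)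
  · have : IsProper π₁ := MorphismProperty.pullback_snd (P := @IsProper) _ _ hπ₀
    exact MorphismProperty.pullback_snd (P := @IsProper) _ _ this
  · have : Surjective π₁ := MorphismProperty.pullback_snd (P := @Surjective) _ _ hsurj
    exact MorphismProperty.pullback_snd (P := @Surjective) _ _ this

end Groth.Agent.S7409
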