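import Groth.Statements.S0384
import Groth.Agent.H22.Nagata.Compactifiable
import Groth.Agent.S7409

set_option autoImplicit false
universe u
open FlatMor

namespace Groth.Agent.S0384

open AlgebraicGeometry CategoryTheory Limits in
/-- Nagata compactification: a separated morphism of finite type to a quasi-compact quasi-separated
scheme factors as a quasi-compact open immersion followed by a proper morphism. -/
theorem result {X S : Scheme.{u}} (f : X ⟶ S) [CompactSpace S] [QuasiSeparatedSpace S] [IsSeparated f] [QuasiCompact f] [LocallyOfFiniteType f] :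
    ∃ (Xc : Scheme.{u}) (j : X ⟶ Xc) (g : Xc ⟶ S), IsOpenImmersion j ∧ QuasiCompact j ∧ IsProper g ∧ j ≫ g = f := by
  have : CompactSpace X := QuasiCompact.compactSpace_of_compactSpace f
  have : QuasiSeparatedSpace X := quasiSeparatedSpace_of_quasiSeparated f
  obtain ⟨R, -, hπ⟩ := Groth.Agent.Lib.Lim.Approx.Rel.exists_closedApprox f
  obtain ⟨k⟩ := R.ne
  have : IsSeparated (R.cone.π.app (Opposite.op k) ≫ R.t.app (Opposite.op k)) := by rw [R.w]; infer_instance
  obtain ⟨i, hi⟩ := Groth.Agent.Lib.Lim.Valuative.exists_isSeparated R.isLimit R.t (Opposite.op k)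
  let t : R.D.obj i ⟶ S := R.t.app i
  have : LocallyOfFinitePresentation t := R.lfp i
  have : IsSeparated t := hi
  obtain ⟨AS⟩ := Groth.Agent.Lib.Lim.Approx.Main.exists_approx (S := S)
  obtain ⟨a₀, Y₀, f₀, g₀, hY₀, hY₀', hf₀, hsq₀⟩ := Groth.Agent.Lib.Lim.FPDescend.exists_descent
    (c := AS.cone) AS.isLimit t
  obtain ⟨a₁, φ, hY₁⟩ := Groth.Agent.Lib.Lim.Props.isSeparated_descends AS.D AS.cone AS.isLimit
    (fun _ _ g => AS.affine g) a₀ inferInstance inferInstance f₀ hY₀ hY₀' trivial t g₀ hsq₀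
    inferInstance
  let f₁ := pullback.snd f₀ (AS.D.map φ)
  have : IsSeparated f₁ := hY₁
  have : CompactSpace (pullback f₀ (AS.D.map φ) : Scheme.{u}) :=
    Groth.Agent.Lib.Lim.FPDescend.compactSpace_stage (D := AS.D) f₀ φ
  let g₁ := pullback.lift (f := f₀) (g := AS.D.map φ) g₀ (t ≫ AS.cone.π.app a₁)
    (by rw [Category.assoc, AS.cone.w, hsq₀.w])
  have hsq' : IsPullback g₁ t f₁ (AS.cone.π.app a₁) :=
    Groth.Agent.Lib.Lim.FPDescend.move (c := AS.cone) hsq₀ φ
  have : IsNoetherian (AS.D.obj a₁) := { }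
  have : QuasiCompact f₁ := inferInstance
  obtain ⟨Y, j, p, hj, hjq, hp, hjp⟩ :=
    Groth.Agent.H22.Nagata.compactifiable_noetherian f₁
  let Y' := pullback p (AS.cone.π.app a₁)
  let i' : R.D.obj i ⟶ Y' := pullback.lift (g₁ ≫ j) t (by rw [Category.assoc, hjp]; exact hsq'.w)
  have hpb : IsPullback g₁ i' j (pullback.fst p (AS.cone.π.app a₁)) := by
    refine IsPullback.of_bot ?_ (pullback.lift_fst _ _ _).symm (IsPullback.of_hasPullback p (AS.cone.π.app a₁))
    rw [pullback.lift_snd, hjp]
    exact hsq'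
  have : IsOpenImmersion i' := MorphismProperty.of_isPullback (P := @IsOpenImmersion) hpb hj
  have : QuasiCompact i' := MorphismProperty.of_isPullback (P := @QuasiCompact) hpb hjq
  let ι : X ⟶ R.D.obj i := R.π.app i
  have : IsClosedImmersion ι := hπ i
  let m : X ⟶ Y' := ι ≫ i'
  have hm : m ≫ pullback.snd p (AS.cone.π.app a₁) = f := by
    simp only [m, i', Category.assoc, pullback.lift_snd]
    exact R.w _
  obtain ⟨Xc, j', p', h1, h2, h3, h4⟩ :=
    Groth.Agent.H22.Nagata.compactifiable_of_immersion m (pullback.snd p (AS.cone.π.app a₁))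
  exact ⟨Xc, j', p', h1, h2, h3, h4.trans hm⟩

end Groth.Agent.S0384
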