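import Groth.Statements.S0422
import Groth.Agent.Lib.Flat55.Localized
import Groth.Agent.H19.FlatLocus.Basic
import Mathlib.RingTheory.Ideal.Over

set_option autoImplicit false
universe u
open FlatMor

namespace Groth.Agent.S0422

open TensorProduct

/-- A localisation of a flat module is flat. -/
theorem flat_localized {R S M M' : Type*} [CommRing R] [CommRing S] [Algebra R S] [AddCommGroup M]
    [Module R M] [Module S M] [IsScalarTower R S M] [AddCommGroup M'] [Module R M'] [Module S M']
    [IsScalarTower R S M'] (W : Submonoid S) (l : M →ₗ[S] M') [IsLocalizedModule W l]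
    [Module.Flat R M] : Module.Flat R M' :=
  (Groth.Agent.H19.FlatLocus.flat_iff_killed W l).2 fun J y hy ↦ ⟨1, one_mem W, by
    rw [one_smul]
    exact Module.Flat.lTensor_preserves_injective_linearMap _ J.injective_subtype
      (hy.trans (map_zero _).symm)⟩

/-- Flatness modulo an ideal passes to a larger ideal. -/
theorem flat_quotient_of_le {S M : Type*} [CommRing S] [AddCommGroup M] [Module S M] {I J : Ideal S}
    (hIJ : I ≤ J) [Module.Flat (S ⧸ I) ((S ⧸ I) ⊗[S] M)] :
    Module.Flat (S ⧸ J) ((S ⧸ J) ⊗[S] M) := by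
  let : Algebra (S ⧸ I) (S ⧸ J) := (Ideal.Quotient.factor hIJ).toAlgebra
  have : IsScalarTower S (S ⧸ I) (S ⧸ J) := .of_algebraMap_eq fun _ ↦ rfl
  exact Module.Flat.of_linearEquiv
    (TensorProduct.AlgebraTensorModule.cancelBaseChange S (S ⧸ I) (S ⧸ J) (S ⧸ J) M).symm

open scoped Pointwise in
theorem flat_localized_at {R S S' M : Type u} [CommRing R] [CommRing S] [CommRing S'] [Algebra R S] [Algebra S S'] [Algebra R S'] [IsScalarTower R S S']
    [Algebra.FiniteType R S] [Algebra.FinitePresentation R S'] (I : Ideal R) (hI : ∀ a ∈ I, IsNilpotent a)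
    [AddCommGroup M] [Module S' M] [Module S M] [Module R M] [IsScalarTower S S' M] [IsScalarTower R S M]
    [Module.FinitePresentation S' M] [Module.Flat R M]
    [Module.Flat (S ⧸ I.map (algebraMap R S)) ((S ⧸ I.map (algebraMap R S)) ⊗[S] M)]
    (P : Ideal S') [P.IsPrime] : Module.Flat S (LocalizedModule P.primeCompl M) := by
  have : IsScalarTower R S' M := IsScalarTower.of_algebraMap_smul fun r m ↦ by
    rw [IsScalarTower.algebraMap_apply R S S', algebraMap_smul, algebraMap_smul]
  let Q := P.under S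
  let p := Q.under R
  let C' := Localization.AtPrime P
  let B' := Localization.AtPrime Q
  let R' := Localization.AtPrime p
  let X := LocalizedModule P.primeCompl M
  let : Algebra B' C' := Localization.AtPrime.algebraOfLiesOver Q P
  let : Algebra R' B' := Localization.AtPrime.algebraOfLiesOver p Q
  let : Algebra R' C' := ((algebraMap B' C').comp (algebraMap R' B')).toAlgebra
  have : IsScalarTower R' B' C' := .of_algebraMap_eq fun _ ↦ rfl
  have hBC : ∀ x, algebraMap B' C' (algebraMap S B' x) = algebraMap S' C' (algebraMap S S' x) := fun x ↦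
    Localization.localRingHom_to_map Q P (algebraMap S S') rfl x
  have hRB : ∀ r, algebraMap S B' (algebraMap R S r) = algebraMap R' B' (algebraMap R R' r) := fun r ↦
    (Localization.localRingHom_to_map p Q (algebraMap R S) rfl r).symm
  have : IsLocalHom (algebraMap B' C') := Localization.isLocalHom_localRingHom Q P (algebraMap S S') rfl
  have : IsLocalHom (algebraMap R' B') := Localization.isLocalHom_localRingHom p Q (algebraMap R S) rfl
  have : IsLocalHom (algebraMap R' C') :=
    ⟨fun a ha ↦ isUnit_of_map_unit (algebraMap R' B') a (isUnit_of_map_unit (algebraMap B' C') _ ha)⟩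
  let : Module B' X := Module.compHom X (algebraMap B' C')
  let : Module R' X := Module.compHom X (algebraMap R' C')
  have : IsScalarTower B' C' X := IsScalarTower.of_algebraMap_smul fun _ _ ↦ rfl
  have : IsScalarTower R' C' X := IsScalarTower.of_algebraMap_smul fun _ _ ↦ rfl
  have : IsScalarTower S B' X := IsScalarTower.of_algebraMap_smul fun x m ↦ by
    change algebraMap B' C' (algebraMap S B' x) • m = x • m
    rw [hBC, algebraMap_smul, algebraMap_smul]
  have : IsScalarTower R R' X := IsScalarTower.of_algebraMap_smul fun r m ↦ by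
    change algebraMap B' C' (algebraMap R' B' (algebraMap R R' r)) • m = r • m
    rw [← hRB, hBC, ← IsScalarTower.algebraMap_apply R S S', algebraMap_smul, algebraMap_smul]
  have : Module.Flat R X := flat_localized P.primeCompl (LocalizedModule.mkLinearMap P.primeCompl M)
  have : Module.Flat R' X := (Module.flat_iff_of_isLocalization R' p.primeCompl X).2 ‹_›
  set J := p.map (algebraMap R S) with hJ
  have hIJ : I.map (algebraMap R S) ≤ J :=
    Ideal.map_mono fun a ha ↦ (inferInstance : p.IsPrime).mem_of_pow_mem _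
      (Classical.choose_spec (hI a ha) ▸ p.zero_mem)
  have h1 : Module.Flat (S ⧸ J) ((S ⧸ J) ⊗[S] M) := flat_quotient_of_le hIJ
  -- the localisation of `M / J M`
  set J' := J.map (algebraMap S B') with hJ'
  have hJ'' : J' = (IsLocalRing.maximalIdeal R').map (algebraMap R' B') := by
    rw [hJ', hJ, Ideal.map_map, ← Localization.AtPrime.map_eq_maximalIdeal, Ideal.map_map]
    exact congrArg (Ideal.map · p) (RingHom.ext hRB)
  have hfib : Module.Flat (B' ⧸ J') (X ⧸ J' • (⊤ : Submodule B' X)) := by
    let K : Ideal S' := J.map (algebraMap S S')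
    let lM := LocalizedModule.mkLinearMap P.primeCompl M
    let XJ : Submodule S' X := K • ⊤
    let : Algebra (S ⧸ J) (S' ⧸ K) :=
      RingHom.toAlgebra (R := S ⧸ J) (S := S' ⧸ K) (Ideal.quotientMap K (algebraMap S S') Ideal.le_comap_map)
    let : Module (S ⧸ J) (M ⧸ K • (⊤ : Submodule S' M)) := Module.compHom _ (algebraMap (S ⧸ J) (S' ⧸ K))
    let : Module (S ⧸ J) (X ⧸ XJ) := Module.compHom _ (algebraMap (S ⧸ J) (S' ⧸ K))
    have : IsScalarTower (S ⧸ J) (S' ⧸ K) (M ⧸ K • (⊤ : Submodule S' M)) :=
      IsScalarTower.of_algebraMap_smul fun _ _ ↦ rfl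
    have : IsScalarTower (S ⧸ J) (S' ⧸ K) (X ⧸ XJ) := IsScalarTower.of_algebraMap_smul fun _ _ ↦ rfl
    have : IsScalarTower S (S ⧸ J) (M ⧸ K • (⊤ : Submodule S' M)) :=
      IsScalarTower.of_algebraMap_smul fun x y ↦ by
        obtain ⟨y, rfl⟩ := Submodule.Quotient.mk_surjective _ y
        change (Submodule.Quotient.mk (algebraMap S S' x • y) : M ⧸ K • (⊤ : Submodule S' M)) = _
        rw [algebraMap_smul]; rfl
    have : IsScalarTower S (S ⧸ J) (X ⧸ XJ) :=
      IsScalarTower.of_algebraMap_smul fun x y ↦ by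
        obtain ⟨y, rfl⟩ := Submodule.Quotient.mk_surjective _ y
        change (Submodule.Quotient.mk (algebraMap S S' x • y) : X ⧸ XJ) = _
        rw [algebraMap_smul]; rfl
    let e₁ : (M ⧸ K • (⊤ : Submodule S' M)) ≃ₗ[S] (S ⧸ J) ⊗[S] M :=
      (Submodule.Quotient.restrictScalarsEquiv S (K • (⊤ : Submodule S' M))).symm ≪≫ₗ
        Submodule.quotEquivOfEq _ _ (Ideal.smul_restrictScalars J (⊤ : Submodule S' M)) ≪≫ₗ
        (quotTensorEquivQuotSMul M J).symm
    have : Module.Flat (S ⧸ J) (M ⧸ K • (⊤ : Submodule S' M)) :=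
      Module.Flat.of_linearEquiv (e₁.extendScalarsOfSurjective (S := S ⧸ J) Ideal.Quotient.mk_surjective)
    have hstab : ∀ (c : C') (x : X), x ∈ XJ → c • x ∈ XJ := fun c x hx ↦ by
      refine Submodule.smul_induction_on (p := fun y ↦ c • y ∈ XJ) hx (fun a ha y _ ↦ ?_)
        fun y z hy hz ↦ by rw [smul_add]; exact add_mem hy hz
      rw [smul_comm]
      exact Submodule.smul_mem_smul ha Submodule.mem_top
    have hclear : ∀ x ∈ XJ, ∃ t : P.primeCompl, ∃ n ∈ K • (⊤ : Submodule S' M), t • x = lM n := by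
      intro x hx
      refine Submodule.smul_induction_on hx (fun a ha y _ ↦ ?_) ?_
      · obtain ⟨⟨n, t⟩, ht⟩ := IsLocalizedModule.surj P.primeCompl lM y
        exact ⟨t, a • n, Submodule.smul_mem_smul ha Submodule.mem_top, by rw [map_smul, smul_comm, ht]⟩
      · rintro y z ⟨t₁, n₁, hn₁, h₁⟩ ⟨t₂, n₂, hn₂, h₂⟩
        refine ⟨t₁ * t₂, t₂ • n₁ + t₁ • n₂, add_mem (Submodule.smul_mem _ _ hn₁) (Submodule.smul_mem _ _ hn₂), ?_⟩
        rw [map_add, LinearMap.map_smul_of_tower, LinearMap.map_smul_of_tower, ← h₁, ← h₂, smul_add,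
          mul_smul, mul_smul, smul_comm t₁ t₂ y]
    let l : (M ⧸ K • (⊤ : Submodule S' M)) →ₗ[S' ⧸ K] X ⧸ XJ :=
      { toFun := (K • (⊤ : Submodule S' M)).mapQ XJ lM (by
          rw [← Submodule.map_le_iff_le_comap, Submodule.map_smul'']
          exact Submodule.smul_mono le_rfl le_top)
        map_add' := map_add _
        map_smul' := fun c y ↦ by
          obtain ⟨c, rfl⟩ := Ideal.Quotient.mk_surjective c
          exact LinearMap.map_smul ((K • (⊤ : Submodule S' M)).mapQ XJ lM _) c y }
    have : IsLocalizedModule (P.primeCompl.map (Ideal.Quotient.mk K)) l := by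
      refine ⟨fun w ↦ ?_, fun z ↦ ?_, fun {z₁ z₂} h ↦ ?_⟩
      · obtain ⟨t, ht, htw⟩ := Submonoid.mem_map.1 w.2
        obtain ⟨c, hc⟩ := (IsLocalization.map_units C' (⟨t, ht⟩ : P.primeCompl)).exists_left_inv
        rw [Module.End.isUnit_iff]
        refine ⟨fun z₁ z₂ h ↦ ?_, fun z ↦ ?_⟩
        · obtain ⟨z₁, rfl⟩ := Submodule.Quotient.mk_surjective _ z₁
          obtain ⟨z₂, rfl⟩ := Submodule.Quotient.mk_surjective _ z₂
          change (w : S' ⧸ K) • (Submodule.Quotient.mk z₁ : X ⧸ XJ) = (w : S' ⧸ K) • Submodule.Quotient.mk z₂ at h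
          rw [← htw] at h
          have h2 : t • (z₁ - z₂) ∈ XJ := by
            rw [smul_sub]; exact (Submodule.Quotient.eq XJ).1 h
          have h3 := hstab c _ h2
          rw [← algebraMap_smul C' t (z₁ - z₂), ← mul_smul, hc, one_smul] at h3
          exact (Submodule.Quotient.eq XJ).2 h3
        · obtain ⟨z, rfl⟩ := Submodule.Quotient.mk_surjective _ z
          refine ⟨Submodule.Quotient.mk (c • z), ?_⟩
          change (w : S' ⧸ K) • (Submodule.Quotient.mk (c • z) : X ⧸ XJ) = Submodule.Quotient.mk z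
          rw [← htw]
          change (Submodule.Quotient.mk (t • c • z) : X ⧸ XJ) = _
          rw [← algebraMap_smul C' t (c • z), ← mul_smul, mul_comm, hc, one_smul]
      · obtain ⟨x, rfl⟩ := Submodule.Quotient.mk_surjective _ z
        obtain ⟨⟨n, t⟩, ht⟩ := IsLocalizedModule.surj P.primeCompl lM x
        refine ⟨⟨Submodule.Quotient.mk n, ⟨_, Submonoid.mem_map_of_mem _ t.2⟩⟩, ?_⟩
        exact congrArg Submodule.Quotient.mk ht
      · obtain ⟨n₁, rfl⟩ := Submodule.Quotient.mk_surjective _ z₁
        obtain ⟨n₂, rfl⟩ := Submodule.Quotient.mk_surjective _ z₂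
        have h2 : lM (n₁ - n₂) ∈ XJ := by rw [map_sub]; exact (Submodule.Quotient.eq XJ).1 h
        obtain ⟨t, n, hn, htn⟩ := hclear _ h2
        rw [← LinearMap.map_smul_of_tower] at htn
        obtain ⟨t', ht'⟩ := IsLocalizedModule.exists_of_eq (S := P.primeCompl) htn
        refine ⟨⟨_, Submonoid.mem_map_of_mem _ (t' * t).2⟩, ?_⟩
        change (Submodule.Quotient.mk (((t' * t : P.primeCompl) : S') • n₁) : M ⧸ K • (⊤ : Submodule S' M)) =
          Submodule.Quotient.mk (((t' * t : P.primeCompl) : S') • n₂)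
        rw [Submodule.Quotient.eq, ← smul_sub, Submonoid.coe_mul, mul_smul, ← Submonoid.smul_def,
          ← Submonoid.smul_def, ht', Submonoid.smul_def]
        exact Submodule.smul_mem _ _ hn
    have : Module.Flat (S ⧸ J) (X ⧸ XJ) := flat_localized (P.primeCompl.map (Ideal.Quotient.mk K)) l
    let : Algebra (S ⧸ J) (B' ⧸ J') :=
      RingHom.toAlgebra (R := S ⧸ J) (S := B' ⧸ J') (Ideal.quotientMap J' (algebraMap S B') Ideal.le_comap_map)
    let : Module (S ⧸ J) (X ⧸ J' • (⊤ : Submodule B' X)) :=
      Module.compHom _ (algebraMap (S ⧸ J) (B' ⧸ J'))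
    have : IsScalarTower (S ⧸ J) (B' ⧸ J') (X ⧸ J' • (⊤ : Submodule B' X)) :=
      IsScalarTower.of_algebraMap_smul fun _ _ ↦ rfl
    have : IsScalarTower S (S ⧸ J) (X ⧸ J' • (⊤ : Submodule B' X)) :=
      IsScalarTower.of_algebraMap_smul fun x y ↦ by
        obtain ⟨y, rfl⟩ := Submodule.Quotient.mk_surjective _ y
        change (Submodule.Quotient.mk (algebraMap S B' x • y) : X ⧸ J' • (⊤ : Submodule B' X)) = _
        rw [algebraMap_smul]; rfl
    let e₂ : (X ⧸ J' • (⊤ : Submodule B' X)) ≃ₗ[S] X ⧸ XJ :=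
      (Submodule.Quotient.restrictScalarsEquiv S (J' • (⊤ : Submodule B' X))).symm ≪≫ₗ
        Submodule.quotEquivOfEq _ _ ((Ideal.smul_restrictScalars J (⊤ : Submodule B' X)).trans
          (Ideal.smul_restrictScalars J (⊤ : Submodule S' X)).symm) ≪≫ₗ
        Submodule.Quotient.restrictScalarsEquiv S XJ
    have : Module.Flat (S ⧸ J) (X ⧸ J' • (⊤ : Submodule B' X)) :=
      Module.Flat.of_linearEquiv (e₂.extendScalarsOfSurjective (S := S ⧸ J) Ideal.Quotient.mk_surjective)
    refine Groth.Agent.Lib.Flat55.Localized.flat_of_fractions (A := S ⧸ J) fun n F ↦ ?_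
    choose F₀ hF₀ using fun i ↦ Ideal.Quotient.mk_surjective (F i)
    obtain ⟨d, hd⟩ := IsLocalization.exist_integer_multiples_of_finite Q.primeCompl F₀
    refine ⟨Ideal.Quotient.mk J d, (IsLocalization.map_units B' d).map (Ideal.Quotient.mk J'), fun i ↦ ?_⟩
    obtain ⟨G, hG⟩ := hd i
    refine ⟨Ideal.Quotient.mk J G, ?_⟩
    change Ideal.Quotient.mk J' (algebraMap S B' G) = Ideal.Quotient.mk J' (algebraMap S B' d) * F i
    rw [← hF₀, ← map_mul, hG, Algebra.smul_def]
  rw [hJ''] at hfib
  have : Module.Flat B' X := Groth.Agent.Lib.Flat55.Localized.flat_of_flat_fibre (R := R) (B := S)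
    (C := S') p.primeCompl Q.primeCompl P hRB hBC (LocalizedModule.mkLinearMap P.primeCompl M) hfib
  exact (Module.flat_iff_of_isLocalization B' Q.primeCompl X).1 this

open TensorProduct in
/-- Fibrewise criterion of flatness modulo a locally nilpotent ideal: let R → S be of finite type, S' an
S-algebra which is of finite presentation over R, I an ideal of R all of whose elements are
nilpotent, and M a finitely presented S'-module which is flat over R and such that M/IM is flat over
S/IS. Then M is flat over S. (The published statement also asserts flatness over R of suitable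
localizations of S; that part is not stated here.) -/
theorem result {R S S' M : Type u} [CommRing R] [CommRing S] [CommRing S'] [Algebra R S] [Algebra S S'] [Algebra R S'] [IsScalarTower R S S']
    [Algebra.FiniteType R S] [Algebra.FinitePresentation R S'] (I : Ideal R) (hI : ∀ a ∈ I, IsNilpotent a)
    [AddCommGroup M] [Module S' M] [Module S M] [Module R M] [IsScalarTower S S' M] [IsScalarTower R S M]
    [Module.FinitePresentation S' M] [Module.Flat R M]
    (h : Module.Flat (S ⧸ I.map (algebraMap R S)) ((S ⧸ I.map (algebraMap R S)) ⊗[S] M)) : Module.Flat S M := by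
  refine Module.flat_of_isLocalized_maximal (R := S) S' M
    (fun P _ ↦ LocalizedModule P.primeCompl M) (fun P _ ↦ LocalizedModule.mkLinearMap P.primeCompl M)
    fun P _ ↦ ?_
  exact flat_localized_at I hI P

end Groth.Agent.S0422
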