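import Groth.Statements.S12449
import Groth.Agent.Lib.RMorLocal.FlatMor
import Groth.Agent.Lib.ModTensor.FlatMono
-- import your own Groth.Agent.* helpers here

set_option autoImplicit false
universe u
open CategoryTheory CategoryTheory.Limits
open ModSite

namespace Groth.Agent.S12449

/-- Let f : (C, O_C) → (D, O_D) be a morphism of ringed sites between small sites which is flat, meaning
that the structure sheaf O_C is flat as a module over the pulled-back ring f⁻¹O_D (tensoring with
O_C is exact on f⁻¹O_D-modules). Then the inverse image of modules f^* : Mod(O_D) → Mod(O_C) is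
exact (it preserves finite limits; as a left adjoint it is right exact). -/
theorem result {C D : Type u} [SmallCategory C] [SmallCategory D] {J : GrothendieckTopology C}
    {K : GrothendieckTopology D} {O_C : Sheaf J CommRingCat.{u}} {O_D : Sheaf K CommRingCat.{u}}
    (f : ModSite.RMor O_C O_D) (hf : ModSite.IsFlat f.baseMod) : f.IsFlat := by
  haveI : Limits.PreservesColimitsOfSize.{u, u} f.pull := f.adj.leftAdjoint_preservesColimits
  haveI : Limits.PreservesFiniteColimits f.pull := Limits.PreservesColimitsOfSize.preservesFiniteColimits _
  haveI := Limits.preservesBinaryBiproducts_of_preservesBinaryCoproducts f.pull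
  haveI : f.pull.Additive := Functor.additive_of_preservesBinaryBiproducts _
  exact Groth.Agent.Lib.ModTensor.FlatMono.preservesFiniteLimits_of_mono f.pull fun M N φ hφ =>
    Groth.Agent.Lib.RMorLocal.FlatMor.mono_pull_map hf φ

end Groth.Agent.S12449
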