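import Groth.Statements.S18204
import Groth.Agent.H48.LocImm.Immersion
import Mathlib.AlgebraicGeometry.Morphisms.UniversallyOpen
import Mathlib.AlgebraicGeometry.Morphisms.FinitePresentation

set_option autoImplicit false
universe u
open LocImm

namespace Groth.Agent.S18204

open CategoryTheory AlgebraicGeometry in
/-- A localizing immersion (localizing and injective on points) of Noetherian schemes which is locally
of finite type is an open immersion. -/
theorem result {X Y : Scheme.{u}} [IsNoetherian X] [IsNoetherian Y]
    (f : X ⟶ Y) (hf : LocImm.IsLocImmersion f) [LocallyOfFiniteType f] : IsOpenImmersion f := by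
  have := Groth.Agent.H48.LocImm.flat_of_isLocalizing hf.1
  have hlfp : LocallyOfFinitePresentation f := inferInstance
  refine IsOpenImmersion.iff_isIso_stalkMap.2 ⟨?_, fun x => Groth.Agent.H48.LocImm.isIso_stalkMap_of_isLocalizing hf.1 x⟩
  exact ⟨Groth.Agent.H48.LocImm.isEmbedding_of_isLocImmersion hf, f.isOpenMap.isOpen_range⟩

end Groth.Agent.S18204
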