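import Groth.Statements.S14864
import Groth.Agent.Lib.Disp.Witt
-- import your own Groth.Agent.* helpers here

set_option autoImplicit false
universe u
open CAlg

namespace Groth.Agent.S14864

/-- Let p be a prime and R a commutative ring in which p is nilpotent; write W = W(R) for the p-typical
Witt vectors, I ⊆ W for the kernel of the projection onto the zeroth component, and I_n ⊆ W for the
kernel of the truncation W → W_n(R). The p-adic topology on W equals its I-adic topology — every
power of the ideal pW contains some power of I and every power of I contains some power of pW — and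
this common topology is finer than the V-adic one: every I_n contains some power of pW. -/
theorem result (p : ℕ) [Fact p.Prime] (R : Type u) [CommRing R]
    (hp : IsNilpotent (p : R)) :
    (∀ n : ℕ, ∃ m : ℕ, (RingHom.ker (WittVector.constantCoeff : WittVector p R →+* R)) ^ m ≤ Ideal.span {(p : WittVector p R)} ^ n) ∧
      (∀ n : ℕ, ∃ m : ℕ, Ideal.span {(p : WittVector p R)} ^ m ≤ (RingHom.ker (WittVector.constantCoeff : WittVector p R →+* R)) ^ n) ∧
        ∀ n : ℕ, ∃ m : ℕ, Ideal.span {(p : WittVector p R)} ^ m ≤ RingHom.ker (WittVector.truncate (p := p) (R := R) n) := by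
  have hmul : ∀ n, (RingHom.ker (WittVector.constantCoeff : WittVector p R →+* R)) ^ (n + 1) ≤
      Ideal.span {(p : WittVector p R) ^ n} * RingHom.ker (WittVector.constantCoeff : WittVector p R →+* R) := by
    intro n
    induction n with
    | zero => simp [Ideal.span_singleton_one]
    | succ n ih =>
      rw [pow_succ]
      refine (mul_le_mul' ih le_rfl).trans ?_
      rw [mul_assoc, pow_succ (p : WittVector p R), ← Ideal.span_singleton_mul_span_singleton, mul_assoc]
      refine mul_le_mul' le_rfl (Ideal.mul_le.2 fun x hx y hy => ?_)
      rw [← Groth.Agent.Lib.Disp.Witt.IV_eq_ker] at hx hy ⊢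
      obtain ⟨a, rfl⟩ := Groth.Agent.Lib.Disp.Witt.exists_eq_verschiebung hx
      obtain ⟨b, rfl⟩ := Groth.Agent.Lib.Disp.Witt.exists_eq_verschiebung hy
      have : WittVector.verschiebung a * WittVector.verschiebung b =
          (p : WittVector p R) * WittVector.verschiebung (a * b) := by
        rw [mul_comm (WittVector.verschiebung a), Groth.Agent.Lib.Disp.Witt.mul_verschiebung,
          WittVector.frobenius_verschiebung, Groth.Agent.Lib.Disp.Witt.mul_verschiebung (p : WittVector p R),
          map_natCast]
        congr 1
        ring
      rw [this]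
      exact Ideal.mul_mem_mul (Ideal.mem_span_singleton_self _) (W4c1extbt610.verschiebung_mem_IV p R _)
  refine ⟨fun n => ⟨n + 1, (hmul n).trans (Ideal.mul_le_left.trans ?_)⟩, fun n => ?_, fun n => ?_⟩
  · rw [Ideal.span_singleton_pow]
  · obtain ⟨e, he⟩ := hp
    refine ⟨e * n, ?_⟩
    rw [pow_mul, Ideal.span_singleton_pow]
    refine Ideal.pow_right_mono ?_ n
    rw [Ideal.span_singleton_le_iff_mem, RingHom.mem_ker, map_pow, map_natCast, he]
  · obtain ⟨m, hm⟩ := Groth.Agent.Lib.Disp.Witt.exists_pow_p_mem_ker_truncate hp n
    refine ⟨m, ?_⟩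
    rw [Ideal.span_singleton_pow, Ideal.span_singleton_le_iff_mem]
    exact hm

end Groth.Agent.S14864
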