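import Groth.Statements.S0222
import Groth.Agent.H23.Lichtenbaum.Final
import Groth.Agent.Lib.Exchange.Proper
import Groth.Agent.Lib.ZarCoh.Linear
import Groth.Agent.Lib.ProperFin.Finite

set_option autoImplicit false
universe u
open CategoryTheory CategoryTheory.Limits AlgebraicGeometry
open Curves

namespace Groth.Agent.S0222

/-- For a separated scheme of finite type and dimension d over a field k and a coherent module F, the
top cohomology H^d(X, F) is finite-dimensional over k (no properness needed). -/
theorem result (k : Type u) [Field k] (X : Scheme.{u}) [X.Over (Spec (CommRingCat.of k))]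
    [IsSeparated (X ↘ Spec (CommRingCat.of k))] [LocallyOfFiniteType (X ↘ Spec (CommRingCat.of k))]
    [QuasiCompact (X ↘ Spec (CommRingCat.of k))]
    (F : X.Modules) (hF : Coh.IsCoh F) (d : ℕ) (hd : topologicalKrullDim X = d) :
    Module.Finite k (Coh.HH X F d) := by
  open Groth.Agent.Lib Groth.Agent.H23.Lichtenbaum in
  haveI : IsLocallyNoetherian X := LocallyOfFiniteType.isLocallyNoetherian (X ↘ Spec (CommRingCat.of k))
  haveI : CompactSpace X := QuasiCompact.compactSpace_of_compactSpace (X ↘ Spec (CommRingCat.of k))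
  haveI : AlgebraicGeometry.IsNoetherian X := {}
  open Groth.Agent.Lib Groth.Agent.H23.Lichtenbaum in
  refine CohDelta.Filtration.devissage (fun M => Module.Finite k (Coh.HH X M d)) ⊤ ?_ ?_ ?_ ?_ F
    ⟨hF, fun _ _ => trivial⟩
  · intro M hM
    haveI : Subsingleton (Coh.HH X M d) := by
      refine subsingleton_of_forall_eq 0 fun z => ?_
      have h1 : Groth.Agent.Lib.Curves.LES.mapK k (𝟙 M) d z = Groth.Agent.Lib.Curves.LES.mapK k (0 : M ⟶ M) d z := by
        rw [hM.eq_of_src (𝟙 M) 0]
      rw [Groth.Agent.Lib.Curves.LES.mapK_id, LinearMap.id_apply] at h1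
      refine h1.trans ?_
      show Sheaf.H.map ((Groth.Agent.Lib.Curves.LES.F X).map (0 : M ⟶ M)) d z = 0
      rw [Functor.map_zero]
      simp [Sheaf.H.map_apply]
    exact inferInstance
  · rintro M N ⟨e⟩ hQ
    haveI := hQ
    exact Module.Finite.equiv (Groth.Agent.Lib.Curves.LES.isoK k e d)
  · intro S hS _ _ _ h1 h3
    haveI := h1
    haveI := h3
    exact Groth.Agent.Lib.ProperFin.Finite.finite_of_exact (Groth.Agent.Lib.Curves.LES.exactK₂ k hS d)
  · intro Z i hi hZ _ I ι hι hI _
    haveI := hi
    haveI := hZ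
    haveI := hι
    haveI : I.IsQuasicoherent := hI
    haveI : IsLocallyNoetherian Z := LocallyOfFiniteType.isLocallyNoetherian i
    haveI : CompactSpace Z := QuasiCompact.compactSpace_of_compactSpace i
    haveI : AlgebraicGeometry.IsNoetherian Z := {}
    letI : Z.Over (Spec (CommRingCat.of k)) := ⟨i ≫ (X ↘ Spec (CommRingCat.of k))⟩
    have hIc : Coh.IsCoh I := Groth.Agent.Lib.CohBasics.Closure.isCoh_of_mono ι
      (Groth.Agent.Lib.Snapper.Twist.isCoh_structureModule Z)
    suffices Module.Finite k (Coh.HH Z I d) from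
      Module.Finite.equiv (Groth.Agent.Lib.ZarCoh.Linear.affineLinearEquiv i rfl I d).symm
    have hdZ : topologicalKrullDim Z ≤ (d : WithBot ℕ∞) :=
      i.isClosedEmbedding.isInducing.topologicalKrullDim_le.trans hd.le
    by_cases hp : IsProper (i ≫ (X ↘ Spec (CommRingCat.of k)))
    · haveI : IsProper (Z ↘ Spec (CommRingCat.of k)) := hp
      exact ZarCoh.Exchange.Proper.finite_HH k I hIc d
    · haveI := Groth.Agent.H23.Lichtenbaum.Final.subsingleton_HH_of_not_proper
        (i ≫ (X ↘ Spec (CommRingCat.of k))) hp hdZ I hIc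
      exact inferInstance

end Groth.Agent.S0222
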