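import Groth.Statements.S6894
import Groth.Agent.H25.FittingLoc
import Mathlib.RingTheory.LocalRing.ResidueField.Ideal
-- import your own Groth.Agent.* helpers here

set_option autoImplicit false
universe u
open TensorProduct
open Fitt

namespace Groth.Agent.S6894

/-- Let `M` be a finite `R`-module, `k ≥ 0` and `𝔭 ⊆ R` a prime. Then each of the following conditions
implies all the others: the Fitting ideal `Fit_k(M)` is not contained in `𝔭`; the fiber `M ⊗_R κ(𝔭)`
has dimension at most `k` over `κ(𝔭)`; some `k` elements span the localization `M_𝔭` over `R_𝔭`; and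
for some `f ∉ 𝔭`, the module `M_f` is spanned over `R_f` by `k` elements. -/
theorem result {R : Type u} [CommRing R] (M : Type u) [AddCommGroup M] [Module R M]
    [Module.Finite R M] (k : ℕ) (p : Ideal R) [p.IsPrime] :
    (¬ Fitt.ideal R M k ≤ p ↔ Module.finrank p.ResidueField (p.ResidueField ⊗[R] M) ≤ k) ∧
    (¬ Fitt.ideal R M k ≤ p ↔
      ∃ g : Fin k → LocalizedModule p.primeCompl M, Submodule.span (Localization.AtPrime p) (Set.range g) = ⊤) ∧
    (¬ Fitt.ideal R M k ≤ p ↔ ∃ f : R, f ∉ p ∧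
      ∃ g : Fin k → LocalizedModule (Submonoid.powers f) M,
        Submodule.span (Localization.Away f) (Set.range g) = ⊤) := by
  open Groth.Agent.H25.Fitting in
  have h1 : ¬ Fitt.ideal R M k ≤ p ↔ Module.finrank p.ResidueField (p.ResidueField ⊗[R] M) ≤ k := by
    have hb : Fitt.ideal p.ResidueField (p.ResidueField ⊗[R] M) k = ⊥ ↔ Fitt.ideal R M k ≤ p := by
      rw [ideal_baseChange, Ideal.map_eq_bot_iff_le_ker, Ideal.ker_algebraMap_residueField]
    rw [← hb]
    constructor
    · intro h; by_contra hlt; exact h (ideal_eq_bot_of_free (by omega))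
    · intro h
      rw [ideal_eq_top _ (Module.finBasis p.ResidueField (p.ResidueField ⊗[R] M)).span_eq h]
      exact top_ne_bot
  refine ⟨h1, ⟨fun h => ?_, ?_⟩, ⟨fun h => ?_, ?_⟩⟩
  · obtain ⟨c, hc, g, hg⟩ := exists_span_of_not_le h
    exact ⟨_, span_localized p.primeCompl g fun y => ⟨c, hc, hg y⟩⟩
  · rintro ⟨g, hg⟩ hle
    obtain ⟨s, hs, hs'⟩ := exists_mem_ideal_of_span_localized p.primeCompl g hg
    exact hs (hle hs')
  · obtain ⟨c, hc, g, hg⟩ := exists_span_of_not_le h
    exact ⟨c, hc, _, span_localized (Submonoid.powers c) g fun y => ⟨c, Submonoid.mem_powers c, hg y⟩⟩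
  · rintro ⟨f, hf, g, hg⟩ hle
    obtain ⟨_, ⟨j, rfl⟩, hj⟩ := exists_mem_ideal_of_span_localized (Submonoid.powers f) g hg
    exact hf (‹p.IsPrime›.mem_of_pow_mem j (hle hj))

end Groth.Agent.S6894
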