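import Groth.Statements.S6895
import Groth.Agent.H25.FittingLoc
-- import your own Groth.Agent.* helpers here

set_option autoImplicit false
universe u
open Fitt

namespace Groth.Agent.S6895

/-- (1) ⇔ (3): let `M` be a finite `R`-module and `r ≥ 0`. Then `M` is finite locally free of rank `r`
(every prime has a basic open neighbourhood `D(f)` with `M_f` free of rank `r` over `R_f`) if and
only if `Fit_k(M) = 0` for `k < r` and `Fit_k(M) = R` for `k ≥ r`. -/
theorem result {R : Type u} [CommRing R] (M : Type u) [AddCommGroup M] [Module R M]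
    [Module.Finite R M] (r : ℕ) :
    (∀ (p : Ideal R) [p.IsPrime], ∃ f : R, f ∉ p ∧
      Module.Free (Localization.Away f) (LocalizedModule (Submonoid.powers f) M) ∧
        Module.finrank (Localization.Away f) (LocalizedModule (Submonoid.powers f) M) = r) ↔
    ((∀ k, k < r → Fitt.ideal R M k = ⊥) ∧ (∀ k, r ≤ k → Fitt.ideal R M k = ⊤)) := by
  open Groth.Agent.H25.Fitting in
  constructor
  · intro h
    have hnt : ∀ (p : Ideal R) [p.IsPrime] (f : R), f ∉ p → Nontrivial (Localization.Away f) := by
      intro p _ f hf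
      rw [nontrivial_iff]
      refine ⟨1, 0, fun h1 => ?_⟩
      obtain ⟨⟨_, j, rfl⟩, hj⟩ := (IsLocalization.map_eq_zero_iff (Submonoid.powers f)
        (Localization.Away f) (1 : R)).mp (by rw [map_one, h1])
      rw [mul_one] at hj
      exact hf (‹p.IsPrime›.mem_of_pow_mem j (by rw [show f ^ j = 0 from hj]; exact zero_mem p))
    refine ⟨fun k hk => ?_, fun k hk => ?_⟩
    · rw [eq_bot_iff]
      intro d hd
      let J : Ideal R := LinearMap.ker (LinearMap.toSpanSingleton R R d)
      rw [Ideal.mem_bot]
      suffices J = ⊤ by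
        have h1 : (1 : R) ∈ J := this ▸ Submodule.mem_top
        simpa [J] using h1
      by_contra hne
      obtain ⟨m, hm, hle⟩ := Ideal.exists_le_maximal _ hne
      obtain ⟨f, hf, hfree, hrank⟩ := h m
      have := hnt m f hf
      obtain ⟨_, ⟨j, rfl⟩, hj⟩ := exists_mul_eq_zero_of_free (M := M) (Submonoid.powers f)
        (k := k) (hrank.symm ▸ hk) hd
      have hj' : f ^ j * d = 0 := hj
      exact hf (hm.isPrime.mem_of_pow_mem j (hle (show f ^ j ∈ J by simpa [J] using hj')))
    · by_contra hne
      obtain ⟨m, hm, hle⟩ := Ideal.exists_le_maximal _ hne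
      obtain ⟨f, hf, hfree, hrank⟩ := h m
      have := hnt m f hf
      have : Module.Finite (Localization.Away f) (LocalizedModule (Submonoid.powers f) M) :=
        Module.Finite.of_isLocalizedModule (Submonoid.powers f)
          (LocalizedModule.mkLinearMap (Submonoid.powers f) M)
      obtain ⟨_, ⟨j, rfl⟩, hj⟩ := exists_mem_of_map_ideal_eq_top (Submonoid.powers f) _
        ((ideal_localization (M := M) (Submonoid.powers f) k).symm.trans
          (ideal_eq_top _ (Module.finBasis _ _).span_eq (hrank.trans_le hk)))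
      exact hf (hm.isPrime.mem_of_pow_mem j (hle hj))
  · rintro ⟨h0, h1⟩ p _
    have hP : Principal M r (1 : R) :=
      ⟨one_mem _, by rw [Ideal.span_singleton_one]; exact h1 r le_rfl, fun j hj => h0 j (by omega)⟩
    obtain ⟨c, hc, g, hg1, hg2⟩ := hP.approx p
    have hker : LinearMap.ker ((1 : R) • (LinearMap.id : M →ₗ[R] M)) = ⊥ := by
      rw [one_smul, LinearMap.ker_id]
    rw [hker] at hg1 hg2
    simp only [sup_bot_eq, Submodule.mem_bot] at hg1 hg2
    exact ⟨c, hc, free_away p c hc g hg1 hg2⟩

end Groth.Agent.S6895
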