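import Groth.Statements.S0010
import Groth.Agent.Lib.ZarCoh.Affine
import Groth.Agent.Lib.Cech.MV

set_option autoImplicit false
universe u
open Coherent

namespace Groth.Agent.S0010

open AlgebraicGeometry in
lemma inter_affine {X : Scheme.{u}}
    (hd : ∀ V W : X.Opens, IsAffineOpen V → IsAffineOpen W → IsAffineOpen (V ⊓ W)) :
    ∀ (q : ℕ) (U : Fin (q + 1) → X.Opens), (∀ i, IsAffineOpen (U i)) → IsAffineOpen (⨅ a, U a) := by
  intro q
  induction q with
  | zero => intro U hU; rw [show (⨅ a, U a) = U 0 from le_antisymm (iInf_le _ 0)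
      (le_iInf fun a => by rw [Subsingleton.elim (α := Fin 1) a 0])]; exact hU 0
  | succ q ih =>
    intro U hU
    rw [show (⨅ a, U a) = U 0 ⊓ ⨅ b : Fin (q + 1), U b.succ from le_antisymm
      (le_inf (iInf_le _ 0) (le_iInf fun b => iInf_le _ b.succ))
      (le_iInf fun a => by
        induction a using Fin.cases with
        | zero => exact inf_le_left
        | succ b => exact inf_le_right.trans (iInf_le _ b))]
    exact hd _ _ (hU 0) (ih _ fun b => hU _)

open AlgebraicGeometry in
lemma empty_sections {X : Scheme.{u}} [IsEmpty X] (M : X.Modules) :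
    Subsingleton ((Coh.toAb M).obj.obj (Opposite.op (⊤ : TopologicalSpace.Opens X))) := by
  refine ⟨fun s t => ?_⟩
  exact TopCat.Sheaf.eq_of_locally_eq' (Coh.toAb M) (fun i : Empty => i.elim) ⊤ (fun i => i.elim)
    (fun x _ => isEmptyElim x) s t (fun i => i.elim)


open AlgebraicGeometry in
/-- Let X be a scheme in which the intersection of any two affine opens is affine (equivalently, X has
affine diagonal; e.g. X separated), covered by t affine opens. Then H^n(X, F) = 0 for every
quasi-coherent F and every n ≥ t. -/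
theorem result (X : Scheme.{u}) (t : ℕ) (U : Fin t → X.Opens)
    (hU : ∀ i, IsAffineOpen (U i)) (hcov : ⨆ i, U i = ⊤)
    (hd : ∀ V W : X.Opens, IsAffineOpen V → IsAffineOpen W → IsAffineOpen (V ⊓ W))
    (M : X.Modules) [Coh.IsQCoh M] (n : ℕ) (hn : t ≤ n) :
    Subsingleton (Coh.HH X M n) := by
  haveI : M.IsQuasicoherent := ‹Coh.IsQCoh M›
  cases t with
  | zero =>
    have htop : (⊤ : X.Opens) = ⊥ := by
      rw [← hcov]; exact le_antisymm (iSup_le fun i => i.elim0) bot_le
    haveI : IsEmpty X := ⟨fun x => by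
      have := TopologicalSpace.Opens.mem_top x
      rw [htop] at this
      exact this⟩
    have e := Groth.Agent.Lib.ZarCoh.Compare.hTop (Coh.toAb M) n
    cases n with
    | zero =>
      haveI := Groth.Agent.S0010.empty_sections M
      exact (CategoryTheory.Sheaf.H.equiv₀ (Coh.toAb M) CategoryTheory.Limits.isTerminalTop).toEquiv.subsingleton
    | succ m =>
      exact Groth.Agent.Lib.ZarCoh.Affine.HH_subsingleton X M m
  | succ k =>
    have h := Groth.Agent.Lib.Cech.MV.subsingleton_HU_iSup_fin (F := Coh.toAb M) k U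
      (fun q i m => Groth.Agent.Lib.ZarCoh.Affine.HU_subsingleton M
        (Groth.Agent.S0010.inter_affine hd q (fun a => U (i a)) (fun a => hU _)) m) n hn
    rw [hcov] at h
    haveI : Subsingleton (CategoryTheory.Abelian.Ext.{u}
      (Groth.Agent.Lib.ZarCoh.Basic.Zs.obj (⊤ : TopologicalSpace.Opens X)) (Coh.toAb M) n) := h
    exact (Groth.Agent.Lib.ZarCoh.Compare.hTop (Coh.toAb M) n).toEquiv.subsingleton

end Groth.Agent.S0010
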