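import Groth.Statements.S9622
import Mathlib

set_option autoImplicit false
universe u
open CAlg

namespace Groth.Agent.S9622

/-- Let R → S be a ring map whose target S is a local Artinian ring, and write m for the maximal ideal
of S. Then S is a finite R-module exactly when S/m is, and S is an R-algebra of finite type exactly
when S/m is. -/
theorem result {R S : Type u} [CommRing R] [CommRing S] [Algebra R S] [IsArtinianRing S] [IsLocalRing S] :
    (Module.Finite R S ↔ Module.Finite R (S ⧸ IsLocalRing.maximalIdeal S)) ∧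
      (Algebra.FiniteType R S ↔ Algebra.FiniteType R (S ⧸ IsLocalRing.maximalIdeal S)) := by
  classical
  haveI : IsNoetherianRing S := inferInstance
  obtain ⟨N, hN⟩ : IsNilpotent (IsLocalRing.maximalIdeal S) := by
    rw [← IsLocalRing.jacobson_eq_maximalIdeal ⊥ bot_ne_top]
    exact IsArtinianRing.isNilpotent_jacobson_bot
  obtain ⟨g, hg⟩ := IsNoetherian.noetherian (IsLocalRing.maximalIdeal S)
  let f := Ideal.Quotient.mkₐ R (IsLocalRing.maximalIdeal S)
  refine ⟨⟨fun _ => Module.Finite.of_surjective f.toLinearMap Ideal.Quotient.mk_surjective, fun h => ?_⟩,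
    ⟨fun _ => Algebra.FiniteType.of_surjective f Ideal.Quotient.mk_surjective, fun h => ?_⟩⟩
  · obtain ⟨t, ht⟩ := h.fg_top
    choose l hl using fun q : S ⧸ IsLocalRing.maximalIdeal S => Ideal.Quotient.mk_surjective q
    let M₁ : Submodule R S := Submodule.span R ((t.image l : Finset S) : Set S)
    have hM₁ : ∀ x : S, ∃ u ∈ M₁, x - u ∈ IsLocalRing.maximalIdeal S := by
      intro x
      have hx : f x ∈ Submodule.map f.toLinearMap M₁ := by
        rw [Submodule.map_span]
        refine Submodule.span_mono ?_ (ht.symm ▸ Submodule.mem_top : f x ∈ Submodule.span R (t : Set _))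
        intro q hq
        exact ⟨l q, Finset.mem_image_of_mem l hq, hl q⟩
      obtain ⟨u, hu, hux⟩ := hx
      exact ⟨u, hu, Ideal.Quotient.eq.mp hux.symm⟩
    have key : ∀ j : ℕ, ∃ M : Submodule R S, M.FG ∧ ∀ x : S, ∃ u ∈ M, x - u ∈ (IsLocalRing.maximalIdeal S) ^ j := by
      intro j
      induction j with
      | zero => exact ⟨⊥, Submodule.fg_bot, fun x => ⟨0, zero_mem _, by simp⟩⟩
      | succ j ih =>
        obtain ⟨M, hM, hMx⟩ := ih
        refine ⟨M₁ ⊔ g.sup (fun a => M.map (LinearMap.mulRight R a)),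
          (Submodule.fg_span (Finset.finite_toSet _)).sup (Submodule.fg_finset_sup g _ fun a _ => hM.map _),
          fun x => ?_⟩
        obtain ⟨u, hu, hxu⟩ := hM₁ x
        rw [← hg] at hxu
        obtain ⟨b, -, hb⟩ := Submodule.mem_span_finset.mp hxu
        choose v hv hv' using fun a => hMx (b a)
        refine ⟨u + ∑ a ∈ g, v a * a, Submodule.add_mem_sup hu (sum_mem fun a ha => ?_), ?_⟩
        · exact (Finset.le_sup (f := fun a => M.map (LinearMap.mulRight R a)) ha) ⟨v a, hv a, rfl⟩
        · rw [show x - (u + ∑ a ∈ g, v a * a) = ∑ a ∈ g, (b a - v a) * a by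
            rw [← sub_sub, ← hb]; simp [sub_mul, Finset.sum_sub_distrib]]
          refine sum_mem fun a ha => ?_
          rw [pow_succ]
          exact Ideal.mul_mem_mul (hv' a) (hg ▸ Submodule.subset_span ha)
    obtain ⟨M, hM, hMx⟩ := key N
    refine ⟨?_⟩
    have : M = ⊤ := by
      rw [eq_top_iff]
      intro x _
      obtain ⟨u, hu, hxu⟩ := hMx x
      rw [hN, Submodule.zero_eq_bot, Ideal.mem_bot, sub_eq_zero] at hxu
      exact hxu ▸ hu
    exact this ▸ hM
  · obtain ⟨t, ht⟩ := h.out
    choose l hl using fun q : S ⧸ IsLocalRing.maximalIdeal S => Ideal.Quotient.mk_surjective q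
    let T := Algebra.adjoin R ((t.image l ∪ g : Finset S) : Set S)
    have hT₁ : ∀ x : S, ∃ u ∈ T, x - u ∈ IsLocalRing.maximalIdeal S := by
      intro x
      have hx : f x ∈ T.map f := by
        rw [AlgHom.map_adjoin]
        refine Algebra.adjoin_mono ?_ (ht.symm ▸ Algebra.mem_top : f x ∈ Algebra.adjoin R (t : Set _))
        intro q hq
        exact ⟨l q, Finset.mem_union_left _ (Finset.mem_image_of_mem l hq), hl q⟩
      obtain ⟨u, hu, hux⟩ := hx
      exact ⟨u, hu, Ideal.Quotient.eq.mp hux.symm⟩
    have key : ∀ j : ℕ, ∀ x : S, ∃ u ∈ T, x - u ∈ (IsLocalRing.maximalIdeal S) ^ j := by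
      intro j
      induction j with
      | zero => exact fun x => ⟨0, zero_mem _, by simp⟩
      | succ j ih =>
        intro x
        obtain ⟨u, hu, hxu⟩ := hT₁ x
        rw [← hg] at hxu
        obtain ⟨b, -, hb⟩ := Submodule.mem_span_finset.mp hxu
        choose v hv hv' using fun a => ih (b a)
        refine ⟨u + ∑ a ∈ g, v a * a, add_mem hu (sum_mem fun a ha =>
          mul_mem (hv a) (Algebra.subset_adjoin (Finset.mem_union_right _ ha))), ?_⟩
        rw [show x - (u + ∑ a ∈ g, v a * a) = ∑ a ∈ g, (b a - v a) * a by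
            rw [← sub_sub, ← hb]; simp [sub_mul, Finset.sum_sub_distrib]]
        refine sum_mem fun a ha => ?_
        rw [pow_succ]
        exact Ideal.mul_mem_mul (hv' a) (hg ▸ Submodule.subset_span ha)
    refine ⟨⟨t.image l ∪ g, ?_⟩⟩
    rw [eq_top_iff]
    intro x _
    obtain ⟨u, hu, hxu⟩ := key N x
    rw [hN, Submodule.zero_eq_bot, Ideal.mem_bot, sub_eq_zero] at hxu
    exact hxu ▸ hu

end Groth.Agent.S9622
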