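import Groth.Statements.S7109
import Mathlib

set_option autoImplicit false
universe u
open CAlg

namespace Groth.Agent.S7109

/-- Let P be a projective module over a ring R and s an element of P. Then there are a finite free
module R^n and a direct summand K of R^n ⊕ P which is finite free and contains (0, s). -/
theorem result (R : Type u) [CommRing R] (P : Type u) [AddCommGroup P]
    [Module R P] [Module.Projective R P] (s : P) :
    ∃ (n : ℕ) (K K' : Submodule R ((Fin n → R) × P)), IsCompl K K' ∧ Module.Free R K ∧ Module.Finite R K ∧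
      ((0, s) : (Fin n → R) × P) ∈ K := by
  classical
  haveI := ‹Module.Projective R P›
  obtain ⟨i, hi⟩ := Module.projective_def'.1 ‹Module.Projective R P›
  let p : (P →₀ R) →ₗ[R] P := Finsupp.linearCombination R id
  let S : Finset P := (i s).support
  let ε : Fin S.card → P := fun k => (S.equivFin.symm k : P)
  let j : (Fin S.card → R) →ₗ[R] P := Fintype.linearCombination R ε
  let q : P →ₗ[R] (Fin S.card → R) := LinearMap.pi fun k => Finsupp.lapply (ε k) ∘ₗ i
  let u : (Fin S.card → R) →ₗ[R] (Fin S.card → R) × P := LinearMap.prod (LinearMap.id - q ∘ₗ j) j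
  let v : (Fin S.card → R) × P →ₗ[R] (Fin S.card → R) := LinearMap.fst R _ _ + q ∘ₗ LinearMap.snd R _ _
  have hvu : ∀ x, v (u x) = x := fun x => by simp [u, v]
  have hs : j (q s) = s := by
    have h1 : p (i s) = s := LinearMap.congr_fun hi s
    conv_rhs => rw [← h1]
    simp only [p, Finsupp.linearCombination_apply, Finsupp.sum, id]
    rw [Fintype.linearCombination_apply, ← Finset.sum_coe_sort S]
    refine Fintype.sum_equiv S.equivFin.symm _ _ fun k => ?_
    simp [q, ε]
  refine ⟨S.card, LinearMap.range u, LinearMap.ker v, ⟨?_, ?_⟩, ?_, ?_, ⟨q s, ?_⟩⟩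
  · rw [Submodule.disjoint_def]
    rintro _ ⟨x, rfl⟩ hx
    rw [LinearMap.mem_ker, hvu] at hx
    rw [hx, map_zero]
  · rw [codisjoint_iff, eq_top_iff]
    intro z _
    exact Submodule.mem_sup.2 ⟨u (v z), ⟨v z, rfl⟩, z - u (v z), by simp [hvu], by abel⟩
  · exact Module.Free.of_equiv (LinearEquiv.ofInjective u (Function.LeftInverse.injective hvu))
  · exact Module.Finite.range u
  · simp [u, hs]

end Groth.Agent.S7109
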