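import Groth.Statements.S8859
import Groth.Agent.Lib.BlowUpExists.Exists

set_option autoImplicit false
universe u
open CategoryTheory CategoryTheory.Limits AlgebraicGeometry TopologicalSpace
open SDiv

namespace Groth.Agent.S8859

/-- Let X be a scheme and 𝓘 a quasi-coherent ideal sheaf on X. Then a blowing up of X in 𝓘 exists: there
are a scheme X' and a morphism b : X' ⟶ X such that the inverse image ideal of 𝓘 on X' is the ideal
of an effective Cartier divisor and every morphism Y ⟶ X with this property factors uniquely through
b. -/
theorem result (X : Scheme.{u}) (𝓘 : X.IdealSheafData) :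
    ∃ (X' : Scheme.{u}) (b : X' ⟶ X), BlowUp.IsBlowUp b 𝓘 := by
  exact Lib.BlowUpExists.exists_isBlowUp X 𝓘

end Groth.Agent.S8859
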