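import Groth.Statements.S0447
import Groth.Agent.Lib.RG57.ContentProj

set_option autoImplicit false
set_option linter.style.haveILetI false
universe u
open FlatMor

namespace Groth.Agent.S0447

open AlgebraicGeometry CategoryTheory Limits in
/-- For a flat morphism of finite presentation between affine schemes whose fibres are geometrically
integral, the coordinate ring of the source is a projective module over that of the target. -/
theorem result {X S : Scheme.{u}} (f : X ⟶ S) [IsAffine X] [IsAffine S] [Flat f] [LocallyOfFinitePresentation f] [GeometricallyIntegral f] :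
    @Module.Projective Γ(S, ⊤) _ Γ(X, ⊤) _ (f.appTop).hom.toAlgebra.toModule := by
  algebraize [f.appTop.hom]
  let φ : CommRingCat.of Γ(S, ⊤) ⟶ CommRingCat.of Γ(X, ⊤) := CommRingCat.ofHom (algebraMap Γ(S, ⊤) Γ(X, ⊤))
  haveI : MorphismProperty.RespectsIso (@GeometricallyIntegral : MorphismProperty Scheme.{u}) :=
    MorphismProperty.IsStableUnderBaseChange.respectsIso
  haveI : MorphismProperty.RespectsIso (@Flat : MorphismProperty Scheme.{u}) :=
    MorphismProperty.IsStableUnderBaseChange.respectsIso
  haveI : MorphismProperty.RespectsIso (@LocallyOfFinitePresentation : MorphismProperty Scheme.{u}) :=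
    MorphismProperty.IsStableUnderBaseChange.respectsIso
  have e : Arrow.mk f ≅ Arrow.mk (Spec.map φ) :=
    Arrow.isoMk X.isoSpec S.isoSpec (Scheme.isoSpec_hom_naturality f)
  have hg : GeometricallyIntegral (Spec.map φ) :=
    (MorphismProperty.arrow_mk_iso_iff (@GeometricallyIntegral : MorphismProperty Scheme.{u}) e).1 ‹_›
  haveI : Flat (Spec.map φ) := (MorphismProperty.arrow_mk_iso_iff (@Flat : MorphismProperty Scheme.{u}) e).1 ‹_›
  haveI : LocallyOfFinitePresentation (Spec.map φ) := (MorphismProperty.arrow_mk_iso_iff (@LocallyOfFinitePresentation : MorphismProperty Scheme.{u}) e).1 ‹_›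
  haveI : Module.Flat Γ(S, ⊤) Γ(X, ⊤) := RingHom.flat_algebraMap_iff.1 ((HasRingHomProperty.Spec_iff (P := @Flat) (φ := φ)).1 inferInstance)
  haveI : Algebra.FinitePresentation Γ(S, ⊤) Γ(X, ⊤) := RingHom.finitePresentation_algebraMap.1
    ((HasRingHomProperty.Spec_iff (P := @LocallyOfFinitePresentation) (φ := φ)).1 inferInstance)
  exact Lib.RG57.ContentProj.projective fun K _ _ => Lib.RG.Fibres.isDomain_of_geomIntegral hg K

end Groth.Agent.S0447
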