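import Groth.Statements.S9147
import Groth.Agent.Lib.Synt92.GCIBasic
import Groth.Agent.Lib.Synt92.IsLCIOverBasic

set_option autoImplicit false
universe u
open Synt

namespace Groth.Agent.S9147

/-- A relative global complete intersection over a ring R is syntomic over R, in particular flat. -/
theorem result (R : Type u) [CommRing R] (n c : ℕ) (F : Fin c → MvPolynomial (Fin n) R)
    (h : Synt.IsRelGCI R n c F) : Synt.IsSyntomic R (Synt.RelGCIRing R n c F) := by
  refine ⟨Lib.Synt92.GCIBasic.flat R F h, Algebra.FinitePresentation.quotient ⟨(Set.finite_range F).toFinset, by simp⟩, fun p => ?_⟩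
  exact Lib.Synt92.IsLCIOverBasic.of_isGlobalCI _ _ inferInstance fun hne => by
    obtain ⟨hc, hd⟩ := h p hne
    let e := Lib.Synt92.GCIBasic.fiberEquiv R (Ideal.span (Set.range F)) p.asIdeal
    refine Or.inr ⟨n, c, hc, e.symm.toAlgHom.comp (Ideal.Quotient.mkₐ p.asIdeal.ResidueField _),
      fun i => MvPolynomial.map (algebraMap R p.asIdeal.ResidueField) (F i),
      e.symm.surjective.comp Ideal.Quotient.mk_surjective, ?_, hd⟩
    rw [show RingHom.ker (e.symm.toAlgHom.comp (Ideal.Quotient.mkₐ p.asIdeal.ResidueField
        ((Ideal.span (Set.range F)).map (MvPolynomial.map (algebraMap R p.asIdeal.ResidueField))))).toRingHom =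
        (Ideal.span (Set.range F)).map (MvPolynomial.map (algebraMap R p.asIdeal.ResidueField)) from ?_,
      Ideal.map_span, ← Set.range_comp]
    · rfl
    · ext x
      simp [RingHom.mem_ker, e, Ideal.Quotient.eq_zero_iff_mem]

end Groth.Agent.S9147
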