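import Groth.Statements.S9169
import Groth.Agent.Lib.Synt92.PointCrit

set_option autoImplicit false
universe u
open Synt

namespace Groth.Agent.S9169

open TensorProduct in
/-- Let R → S be a ring map and q a prime of S lying over p; write Q for the prime of the fibre ring
κ(p) ⊗ S that pulls back to q. Equivalent: (1) some basic open neighbourhood S_g of q is syntomic
over R; (2) some S_g is isomorphic over R to a relative global complete intersection; (3) some S_g
is of finite presentation over R, the local ring S_q is flat over R (equivalently over R_p), and the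
fibre local ring (κ(p) ⊗ S)_Q is a complete intersection over κ(p). Stated as (1) ↔ (2) and (1) ↔
(3). -/
theorem result (R S : Type u) [CommRing R] [CommRing S] [Algebra R S]
    (p : Ideal R) [p.IsPrime] (q : Ideal S) [q.IsPrime] [q.LiesOver p]
    (Q : Ideal (p.Fiber S)) [Q.IsPrime]
    (hQ : Q.comap (Algebra.TensorProduct.includeRight.toRingHom) = q) :
    ((∃ g : S, g ∉ q ∧ Synt.IsSyntomic R (Localization.Away g)) ↔
        ∃ g : S, g ∉ q ∧ ∃ (n c : ℕ) (F : Fin c → MvPolynomial (Fin n) R), Synt.IsRelGCI R n c F ∧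
          Nonempty (Localization.Away g ≃ₐ[R] Synt.RelGCIRing R n c F)) ∧
      ((∃ g : S, g ∉ q ∧ Synt.IsSyntomic R (Localization.Away g)) ↔
        ∃ g : S, g ∉ q ∧ Algebra.FinitePresentation R (Localization.Away g) ∧
          Module.Flat R (Localization.AtPrime q) ∧
          Synt.IsCIOver p.ResidueField (Localization.AtPrime Q)) := by
  have hp : q.under R = p := (Ideal.LiesOver.over).symm
  have h23 : (∃ g : S, g ∉ q ∧ Algebra.FinitePresentation R (Localization.Away g) ∧
      Module.Flat R (Localization.AtPrime q) ∧ Synt.IsCIOver p.ResidueField (Localization.AtPrime Q)) →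
      ∃ g : S, g ∉ q ∧ ∃ (n c : ℕ) (F : Fin c → MvPolynomial (Fin n) R), Synt.IsRelGCI R n c F ∧
          Nonempty (Localization.Away g ≃ₐ[R] Synt.RelGCIRing R n c F) := by
    rintro ⟨g, hgq, hfp, hflat, hCI⟩
    obtain ⟨b, hb, hbq, ⟨e⟩⟩ := Lib.Synt92.Congr.exists_equiv_away (k := R) g q hgq
    haveI := hb
    haveI : Module.Flat R (Localization.AtPrime b) := Module.Flat.of_linearEquiv e.toLinearEquiv
    obtain ⟨a, ha, hac, hCIa⟩ := Lib.Synt92.PointCrit.exists_fibre_prime g q hgq p Q hQ hCI
    haveI := ha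
    have hab : a.comap Algebra.TensorProduct.includeRight.toRingHom = b := by
      set b' : Ideal (Localization.Away g) := a.comap Algebra.TensorProduct.includeRight.toRingHom
      haveI : b'.IsPrime := Ideal.IsPrime.comap _
      exact congrArg PrimeSpectrum.asIdeal (PrimeSpectrum.localization_comap_injective
        (Localization.Away g) (Submonoid.powers g) (a₁ := ⟨b', inferInstance⟩) (a₂ := ⟨b, hb⟩)
        (PrimeSpectrum.ext (hac.trans hbq.symm)))
    have hbp : b.under R = p := by
      rw [← hp, ← hbq]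
      ext r
      change algebraMap R (Localization.Away g) r ∈ b ↔ algebraMap S (Localization.Away g) (algebraMap R S r) ∈ b
      rw [← IsScalarTower.algebraMap_apply]
    obtain ⟨n, ψ, hψ, hker⟩ := hfp.out
    obtain ⟨z, hz, n', c, F, hF, ⟨e'⟩⟩ :=
      Lib.Synt92.CritLocal.exists_relGCI ψ hψ hker b p hbp a hab hCIa
    obtain ⟨y, hy, ⟨e''⟩⟩ := Lib.Synt92.Congr.exists_away_away (k := R) g z b hz
    exact ⟨g * y, hbq ▸ hy, n', c, F, hF, ⟨e''.trans e'⟩⟩
  have h12 : (∃ g : S, g ∉ q ∧ Synt.IsSyntomic R (Localization.Away g)) →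
      ∃ g : S, g ∉ q ∧ Algebra.FinitePresentation R (Localization.Away g) ∧
      Module.Flat R (Localization.AtPrime q) ∧ Synt.IsCIOver p.ResidueField (Localization.AtPrime Q) := by
    rintro ⟨g, hgq, hsyn⟩
    exact ⟨g, hgq, hsyn.2.1, Lib.Synt92.PointCrit.flat_and_isCIOver g hsyn q hgq ⟨p, inferInstance⟩ Q hQ⟩
  have h21 : (∃ g : S, g ∉ q ∧ ∃ (n c : ℕ) (F : Fin c → MvPolynomial (Fin n) R), Synt.IsRelGCI R n c F ∧
          Nonempty (Localization.Away g ≃ₐ[R] Synt.RelGCIRing R n c F)) →
      ∃ g : S, g ∉ q ∧ Synt.IsSyntomic R (Localization.Away g) := by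
    rintro ⟨g, hgq, n, c, F, hF, ⟨e⟩⟩
    exact ⟨g, hgq, Lib.Synt92.PointCrit.isSyntomic_of_relGCI hF e⟩
  exact ⟨⟨fun h => h23 (h12 h), h21⟩, ⟨h12, fun h => h21 (h23 h)⟩⟩

end Groth.Agent.S9169
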