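import Groth.Statements.S9364
import Groth.Agent.Lib.Synt92.MorStd
import Groth.Agent.S9169

set_option autoImplicit false
universe u
open Synt

namespace Groth.Agent.S9364

open AlgebraicGeometry CategoryTheory in
theorem appLE_ι_comp {X S : Scheme.{u}} (f : X ⟶ S) (U₀ : X.Opens) {V : S.Opens}
    (W : (U₀ : Scheme.{u}).Opens) (e : W ≤ (U₀.ι ≫ f) ⁻¹ᵁ V) (e' : U₀.ι ''ᵁ W ≤ f ⁻¹ᵁ V) :
    (U₀.ι ≫ f).appLE V W e = f.appLE V (U₀.ι ''ᵁ W) e' := by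
  rw [Scheme.Hom.comp_appLE, Scheme.Opens.ι_appLE]
  rfl

open AlgebraicGeometry CategoryTheory in
theorem exists_chart {X S : Scheme.{u}} (f : X ⟶ S) (x : X) (V : S.affineOpens)
    (hV : f.base x ∈ V.1) (h : Synt.IsSyntomicAt f x) :
    ∃ (W : X.affineOpens) (e : W.1 ≤ f ⁻¹ᵁ V.1), x ∈ W.1 ∧
      letI := (f.appLE V.1 W.1 e).hom.toAlgebra
      Synt.IsSyntomic Γ(S, V.1) Γ(X, W.1) := by
  obtain ⟨⟨U₀, hU₀⟩, ⟨V₀, hV₀⟩, e₀, hx₀, hs⟩ := h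
  have hg : Synt.IsSyntomicMor (U₀.ι ≫ f) := by
    haveI : IsAffine (U₀ : Scheme.{u}) := hU₀
    intro y
    have hle : (⊤ : (U₀ : Scheme.{u}).Opens) ≤ (U₀.ι ≫ f) ⁻¹ᵁ V₀ := fun z _ => e₀ z.2
    refine ⟨⟨⊤, isAffineOpen_top _⟩, ⟨V₀, hV₀⟩, hle, trivial, ?_⟩
    have e' : U₀.ι ''ᵁ ⊤ ≤ f ⁻¹ᵁ V₀ := by rw [U₀.ι_image_top]; exact e₀
    change @Synt.IsSyntomic Γ(S, V₀) _ Γ(X, U₀.ι ''ᵁ ⊤) _ ((U₀.ι ≫ f).appLE V₀ ⊤ hle).hom.toAlgebra
    rw [appLE_ι_comp f U₀ ⊤ hle e']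
    have hh : ∀ (W : X.Opens) (hW : W = U₀) (eW : W ≤ f ⁻¹ᵁ V₀),
        @Synt.IsSyntomic Γ(S, V₀) _ Γ(X, W) _ (f.appLE V₀ W eW).hom.toAlgebra := by
      intro W hW eW
      subst hW
      exact hs
    exact hh _ U₀.ι_image_top e'
  obtain ⟨W, hxW, hW⟩ := Lib.Synt92.MorCrit.exists_chart (U₀.ι ≫ f) ⟨x, hx₀⟩ hV
  have e' : U₀.ι ''ᵁ W.1 ≤ f ⁻¹ᵁ V.1 := by
    rintro z ⟨w, hw, rfl⟩
    exact hW hw
  refine ⟨⟨U₀.ι ''ᵁ W.1, W.2.image_of_isOpenImmersion U₀.ι⟩, e', ⟨⟨x, hx₀⟩, hxW, rfl⟩, ?_⟩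
  have h1 := Lib.Synt92.MorCrit.isSyntomic_appLE _ (Lib.Synt92.MorCrit.isCIMorphism_of_isSyntomicMor _ hg)
    W V hW
  rw [appLE_ι_comp f U₀ W.1 hW e'] at h1
  exact h1


open AlgebraicGeometry CategoryTheory in
/-- Let f : X → S, x ∈ X and V ⊆ S an affine open neighbourhood of f x. Then f is syntomic at x if and
only if some affine open U ∋ x with f(U) ⊆ V has f|_U : U → V standard syntomic. -/
theorem result {X S : Scheme.{u}} (f : X ⟶ S) (x : X) (V : S.affineOpens)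
    (hV : f.base x ∈ V.1) :
    Synt.IsSyntomicAt f x ↔
      ∃ (U : X.affineOpens) (e : U.1 ≤ f ⁻¹ᵁ V.1), x ∈ U.1 ∧ Synt.IsStandardSyntomic (f.resLE V.1 U.1 e) := by
  constructor
  · intro h
    obtain ⟨⟨W, hWa⟩, e, hxW, hs⟩ := exists_chart f x V hV h
    letI := (f.appLE V.1 W e).hom.toAlgebra
    obtain ⟨p, Q, hQ⟩ := Lib.Synt92.MorStalk.exists_fiber_point f hWa e hxW
    let q := (hWa.primeIdealOf ⟨x, hxW⟩).asIdeal
    haveI : q.LiesOver p.asIdeal := ⟨by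
      rw [show q = _ from hQ.symm]
      have h1 : p.asIdeal = Q.asIdeal.comap (algebraMap Γ(S, V.1) (p.asIdeal.Fiber Γ(X, W))) :=
        (inferInstance : Q.asIdeal.LiesOver p.asIdeal).over
      conv_lhs => rw [h1]
      ext r
      simp only [Ideal.mem_comap, Ideal.under]
      rw [AlgHom.commutes]⟩
    have hs1 : Synt.IsSyntomic Γ(S, V.1) (Localization.Away (1 : Γ(X, W))) :=
      Lib.Synt92.Congr.isSyntomic_congr ((IsLocalization.atOne Γ(X, W)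
        (Localization.Away (1 : Γ(X, W)))).restrictScalars Γ(S, V.1)) hs
    obtain ⟨g, hg, n, c, F, hF, ⟨ψ⟩⟩ :=
      (S9169.result Γ(S, V.1) Γ(X, W) p.asIdeal q Q.asIdeal hQ).1.1
        ⟨1, fun h => Ideal.IsPrime.ne_top inferInstance ((Ideal.eq_top_iff_one q).2 h), hs1⟩
    have hD : X.basicOpen g ≤ f ⁻¹ᵁ V.1 := (X.basicOpen_le g).trans e
    refine ⟨⟨X.basicOpen g, hWa.basicOpen g⟩, hD, ?_, ?_⟩
    · have h1 : hWa.primeIdealOf ⟨x, hxW⟩ ∈ hWa.fromSpec ⁻¹ᵁ X.basicOpen g := by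
        rw [hWa.fromSpec_preimage_basicOpen]
        exact hg
      change hWa.fromSpec (hWa.primeIdealOf ⟨x, hxW⟩) ∈ X.basicOpen g at h1
      rwa [hWa.fromSpec_primeIdealOf] at h1
    · letI := (f.appLE V.1 (X.basicOpen g) hD).hom.toAlgebra
      letI : Algebra Γ(X, W) Γ(X, X.basicOpen g) :=
        (X.presheaf.map (homOfLE (X.basicOpen_le g)).op).hom.toAlgebra
      haveI : IsLocalization.Away g Γ(X, X.basicOpen g) := hWa.isLocalization_basicOpen g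
      haveI : IsScalarTower Γ(S, V.1) Γ(X, W) Γ(X, X.basicOpen g) :=
        IsScalarTower.of_algebraMap_eq fun r => congrArg
          (fun φ : Γ(S, V.1) ⟶ Γ(X, X.basicOpen g) => φ.hom r)
          (Scheme.Hom.appLE_map f e (homOfLE (X.basicOpen_le g)).op).symm
      exact Lib.Synt92.MorStd.isStandardSyntomic_resLE f V.2 (hWa.basicOpen g) hD F hF
        (((IsLocalization.algEquiv (Submonoid.powers g) Γ(X, X.basicOpen g)
          (Localization.Away g)).restrictScalars Γ(S, V.1)).trans ψ)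
  · rintro ⟨U, e, hxU, h⟩
    exact ⟨U, V, e, hxU, Lib.Synt92.MorStd.isSyntomic_of_isStandardSyntomic f V.2 U.2 e h⟩

end Groth.Agent.S9364
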