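import Groth.Statements.S8660
import Groth.Agent.Lib.Synt92.KoszulScheme
import Groth.Agent.Lib.Synt92.GCIBasic
import Groth.Agent.S9364

set_option autoImplicit false
universe u
open CategoryTheory CategoryTheory.Limits AlgebraicGeometry
open Synt

namespace Groth.Agent.S8660

/-- The closed subscheme cut out by a relative global complete intersection is a Koszul-regular
immersion. -/
theorem isRegularImmersion_specMap {R : Type u} [CommRing R] {n c : ℕ}
    (F : Fin c → MvPolynomial (Fin n) R) (hF : Synt.IsRelGCI R n c F) :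
    RegImm.IsRegularImmersion .koszul
      (Spec.map (CommRingCat.ofHom (Ideal.Quotient.mk (Ideal.span (Set.range F))))) := by
  set φ : CommRingCat.of (MvPolynomial (Fin n) R) ⟶ CommRingCat.of (Synt.RelGCIRing R n c F) :=
    CommRingCat.ofHom (Ideal.Quotient.mk (Ideal.span (Set.range F)))
  haveI hcl : IsClosedImmersion (Spec.map φ) :=
    IsClosedImmersion.spec_of_surjective φ Ideal.Quotient.mk_surjective
  refine ⟨inferInstance, fun z => ⟨⟨⊤, isAffineOpen_top _⟩, trivial,
    IsZariskiLocalAtTarget.restrict hcl _, ?_⟩⟩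
  let e : MvPolynomial (Fin n) R ≃+* Γ(Spec (CommRingCat.of (MvPolynomial (Fin n) R)), ⊤) :=
    (Scheme.ΓSpecIso (CommRingCat.of (MvPolynomial (Fin n) R))).commRingCatIsoToRingEquiv.symm
  refine ⟨(List.ofFn F).map e, Lib.Synt92.KoszulScheme.isKoszulRegularSeq_map e _ (fun q hq hl => ?_), ?_⟩
  · refine (Lib.Synt92.GCIBasic.regular R F hF q ?_ (Localization.AtPrime q)).1.toIsWeaklyRegular
    rw [Ideal.span_le]
    rintro _ ⟨i, rfl⟩
    exact hl _ (List.mem_ofFn.2 ⟨i, rfl⟩)
  · have h1 : (Spec.map φ).appTop = (Scheme.ΓSpecIso (CommRingCat.of (MvPolynomial (Fin n) R))).hom ≫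
        φ ≫ (Scheme.ΓSpecIso (CommRingCat.of (Synt.RelGCIRing R n c F))).inv := by
      rw [← Scheme.ΓSpecIso_naturality_assoc, Iso.hom_inv_id, Category.comp_id]
    change RingHom.ker (Spec.map φ).appTop.hom = _
    rw [h1, CommRingCat.hom_comp, CommRingCat.hom_comp, RingHom.comp_assoc,
      RingHom.ker_comp_of_injective]
    swap
    · exact (Scheme.ΓSpecIso (CommRingCat.of (Synt.RelGCIRing R n c F))).commRingCatIsoToRingEquiv.symm.injective
    have h3 : Ideal.ofList (List.ofFn F) = Ideal.span (Set.range F) :=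
      congrArg Ideal.span (Set.ext fun a => List.mem_ofFn)
    refine Eq.trans ?_ (Ideal.map_ofList e.toRingHom (List.ofFn F))
    rw [h3]
    ext a
    obtain ⟨b, rfl⟩ := e.surjective a
    rw [show Ideal.map e.toRingHom (Ideal.span (Set.range F)) = Ideal.map e (Ideal.span (Set.range F)) from rfl,
      Ideal.apply_mem_of_equiv_iff (f := e), RingHom.mem_ker,
      RingHom.comp_apply,
      show (Scheme.ΓSpecIso (CommRingCat.of (MvPolynomial (Fin n) R))).hom.hom (e b) = b from e.symm_apply_apply b]
    exact Ideal.Quotient.eq_zero_iff_mem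

/-- A morphism is Koszul at points with a standard syntomic neighbourhood. -/
theorem isKoszulAt_of_standard {X Y : Scheme.{u}} (f : X ⟶ Y) [LocallyOfFiniteType f] (x : X)
    {U : X.Opens} {V : Y.Opens} (e : U ≤ f ⁻¹ᵁ V) (hx : x ∈ U)
    (h : Synt.IsStandardSyntomic (f.resLE V U e)) : Synt.IsKoszulAt f x := by
  obtain ⟨R, _, n, c, F, hF, e₁, e₂, he⟩ := h
  let φ : CommRingCat.of (MvPolynomial (Fin n) R) ⟶ CommRingCat.of (Synt.RelGCIRing R n c F) :=
    CommRingCat.ofHom (Ideal.Quotient.mk (Ideal.span (Set.range F)))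
  let C : CommRingCat.of R ⟶ CommRingCat.of (MvPolynomial (Fin n) R) :=
    CommRingCat.ofHom (algebraMap R (MvPolynomial (Fin n) R))
  haveI : Smooth (Spec.map C) := by
    rw [HasRingHomProperty.Spec_iff (P := @Smooth)]
    exact RingHom.smooth_algebraMap.2 (⟨inferInstance, inferInstance⟩ : Algebra.Smooth R (MvPolynomial (Fin n) R))
  obtain ⟨hi1, hi2⟩ := isRegularImmersion_specMap F hF
  refine ⟨U, _, e₁.hom ≫ Spec.map φ, Spec.map C ≫ e₂.inv ≫ V.ι, hx, inferInstance,
    ⟨inferInstance, fun z => ?_⟩, inferInstance, ?_⟩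
  · obtain ⟨W, hzW, hcl, rs, hrs, hker⟩ := hi2 (e₁.hom z)
    refine ⟨W, hzW, ?_, rs, hrs, ?_⟩
    · rw [morphismRestrict_comp]
      have h1 : IsClosedImmersion (e₁.hom ∣_ Spec.map φ ⁻¹ᵁ W.1) :=
        IsZariskiLocalAtTarget.restrict (inferInstance : IsClosedImmersion e₁.hom) _
      exact MorphismProperty.comp_mem _ _ _ h1 hcl
    · rw [Scheme.Hom.comp_app]
      refine (RingHom.ker_comp_of_injective (f := (e₁.hom.app (Spec.map φ ⁻¹ᵁ W.1)).hom)
        ((Spec.map φ).app W.1).hom ?_).trans hker
      exact (ConcreteCategory.bijective_of_isIso (e₁.hom.app (Spec.map φ ⁻¹ᵁ W.1))).1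
  · rw [Category.assoc, ← Spec.map_comp_assoc,
      show C ≫ φ = CommRingCat.ofHom (algebraMap R (Synt.RelGCIRing R n c F)) from rfl,
      reassoc_of% he, Iso.hom_inv_id_assoc, Scheme.Hom.resLE_comp_ι]


/-- Let f : X ⟶ Y be flat and locally of finite presentation. Then f is a local complete intersection
morphism in the factorisation sense (around each point of X, f is locally of finite type and factors
as a Koszul-regular immersion followed by a smooth morphism) if and only if f is a
complete-intersection morphism in the fibrewise sense: flat, locally of finite presentation, and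
every local ring of every fibre is a complete intersection (its completion is a regular local ring
modulo a regular sequence). -/
theorem result {X Y : Scheme.{u}} (f : X ⟶ Y) [Flat f] [LocallyOfFinitePresentation f] :
    (∀ x : X, Synt.IsKoszulAt f x) ↔ CInt.IsCIMorphism f := by
  refine ⟨fun h => ⟨inferInstance, inferInstance, fun x =>
    Lib.Synt92.KoszulScheme.isCompleteIntersection_of_koszulAt f x (h x)⟩, fun h x => ?_⟩
  obtain ⟨V, hV, hxV, -⟩ := exists_isAffineOpen_mem_and_subset (X := Y) (x := f x) (U := ⊤) trivial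
  obtain ⟨U, e, hxU, hstd⟩ :=
    (S9364.result f x ⟨V, hV⟩ hxV).1 ((Lib.Synt92.MorCrit.isSyntomicMor_iff f).2 h x)
  exact isKoszulAt_of_standard f x e hxU hstd

end Groth.Agent.S8660
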