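import Groth.Statements.S9758
import Groth.Agent.Lib.Synt92.KoszulLfp
import Groth.Agent.S8660

set_option autoImplicit false
universe u
open FlatMor

namespace Groth.Agent.S9758

open AlgebraicGeometry CategoryTheory Limits in
/-- A morphism of schemes f : X ⟶ S is flat and a local complete intersection morphism (Koszul at every
point) if and only if it is syntomic. -/
theorem result {X S : Scheme.{u}} (f : X ⟶ S) :
    (Flat f ∧ ∀ x : X, Synt.IsKoszulAt f x) ↔ Synt.IsSyntomicMor f := by
  constructor
  · rintro ⟨hflat, hk⟩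
    haveI := hflat
    haveI := Lib.Synt92.KoszulLfp.locallyOfFinitePresentation f hk
    exact (Lib.Synt92.MorCrit.isSyntomicMor_iff f).2 ((S8660.result f).1 hk)
  · intro h
    obtain ⟨h1, h2, h3⟩ := Lib.Synt92.MorCrit.isCIMorphism_of_isSyntomicMor f h
    haveI := h1
    haveI := h2
    exact ⟨h1, (S8660.result f).2 ⟨h1, h2, h3⟩⟩

end Groth.Agent.S9758
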