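import Groth.Statements.S9223
import Groth.Agent.H69.SectionStage
import Groth.Agent.Lib.Ample.Pullback
-- import your own Groth.Agent.* helpers here

set_option autoImplicit false
universe u
open CategoryTheory AlgebraicGeometry
open Lim

namespace Groth.Agent.S9223
set_option backward.isDefEq.respectTransparency false

/-- Let S = lim S_i be a cofiltered limit of quasi-compact quasi-separated schemes with affine
transition morphisms and let L₀ be an invertible O-module on a stage S_{i₀}. If the pullback L of L₀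
to S is ample, then for some index i over i₀ the pullback L_i of L₀ to S_i is ample. -/
theorem result {I : Type u} [SmallCategory I] [IsCofiltered I]
    (D : I ⥤ Scheme.{u}) (c : Limits.Cone D) (hc : Limits.IsLimit c)
    [∀ (i j : I) (f : i ⟶ j), IsAffineHom (D.map f)] [∀ i, CompactSpace (D.obj i)]
    [∀ i, QuasiSeparatedSpace (D.obj i)] (i₀ : I) (L₀ : (D.obj i₀).Modules) (hL₀ : PicF.IsInvertible L₀)
    (h : CohB1.IsAmple ((Scheme.Modules.pullback (c.π.app i₀)).obj L₀)) :
    ∃ (i : I) (φ : i ⟶ i₀), CohB1.IsAmple ((Scheme.Modules.pullback (D.map φ)).obj L₀) := by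
  classical
  obtain ⟨-, hcpt, haff⟩ := Groth.Agent.Lib.Ample.Pow.isAmple_iff.1 h
  choose n hn s hz hsaff using haff
  obtain ⟨A, hA⟩ := isCompact_univ.elim_finite_subcover
    (fun z => SetLike.coe (CohB1.genLocus _ (s z))) (fun z => (CohB1.genLocus _ (s z)).2)
    (fun z _ => Set.mem_iUnion.2 ⟨z, hz z⟩)
  -- companions at stages, with affine loci
  have key : ∀ z, ∃ (j : I) (φ : j ⟶ i₀)
      (sj : Coh.structureModule (D.obj j) ⟶
        (Scheme.Modules.pullback (D.map φ)).obj (CohB1.tensorPow L₀ (n z))),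
      IsAffineOpen (CohB1.genLocus _ sj) ∧
        c.π.app j ⁻¹ᵁ CohB1.genLocus _ sj = CohB1.genLocus _ (s z) := by
    intro z
    have hpow := Groth.Agent.Lib.TensorMod.Invertible.isInvertible_tensorPow hL₀ (n z)
    obtain ⟨j, φ, sj, hsj⟩ := Groth.Agent.H69.SectionStage.exists_section_stage D c hc i₀ _ hpow
      (s z ≫ (Groth.Agent.Lib.Ample.Pow.pullbackPow (c.π.app i₀) L₀ (n z)).inv)
    have hgl : CohB1.genLocus _
        (s z ≫ (Groth.Agent.Lib.Ample.Pow.pullbackPow (c.π.app i₀) L₀ (n z)).inv) =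
          CohB1.genLocus _ (s z) :=
      Groth.Agent.Lib.Ample.GenLocus.genLocus_comp_iso (s z)
        (Groth.Agent.Lib.Ample.Pow.pullbackPow (c.π.app i₀) L₀ (n z)).symm
    rw [hgl] at hsj
    have hinv := PicLoc.isInvertible_pullback (D.map φ) hpow
    have := Groth.Agent.Lib.Ample.GenLocus.isAffineHom_genLocus hinv sj
    set G := CohB1.genLocus _ sj
    have hG : IsCompact (G : Set (D.obj j)) := by
      have : CompactSpace (G : Scheme.{u}) := QuasiCompact.compactSpace_of_compactSpace G.ι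
      exact isCompact_iff_compactSpace.mpr this
    have (k : Over j) : CompactSpace ((opensDiagram D j G).obj k) :=
      isCompact_iff_compactSpace.mp (QuasiCompact.isCompact_preimage (f := D.map k.hom) _ G.2 hG)
    have (k : Over j) : QuasiSeparatedSpace ((opensDiagram D j G).obj k) :=
      (isQuasiSeparated_iff_quasiSeparatedSpace _ (D.map _ ⁻¹ᵁ _).2).mp (.of_quasiSeparatedSpace _)
    have : IsAffine (opensCone D c j G).pt := by
      show IsAffineOpen (c.π.app j ⁻¹ᵁ G)
      rw [hsj]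
      exact hsaff z
    obtain ⟨k, hk⟩ := Scheme.exists_isAffine_of_isLimit _ _ (isLimitOpensCone D c hc j G)
    refine ⟨k.left, k.hom ≫ φ,
      ((PicLoc.pullbackStructureIso (D.map k.hom)).inv ≫
        (Scheme.Modules.pullback (D.map k.hom)).map sj) ≫
      ((Scheme.Modules.pullbackComp (D.map k.hom) (D.map φ) ≪≫
        Scheme.Modules.pullbackCongr (D.map_comp k.hom φ).symm).app _).hom, ?_, ?_⟩
    · rw [Groth.Agent.Lib.Ample.GenLocus.genLocus_comp_iso,
        show (PicLoc.pullbackStructureIso (D.map k.hom)).inv =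
          (PicLoc.pullbackStructureIso (D.map k.hom)).symm.hom from rfl,
        Groth.Agent.Lib.Ample.GenLocus.genLocus_pullback _ hinv]
      exact hk
    · rw [Groth.Agent.Lib.Ample.GenLocus.genLocus_comp_iso,
        show (PicLoc.pullbackStructureIso (D.map k.hom)).inv =
          (PicLoc.pullbackStructureIso (D.map k.hom)).symm.hom from rfl,
        Groth.Agent.Lib.Ample.GenLocus.genLocus_pullback _ hinv, ← Scheme.Hom.comp_preimage, c.w]
      exact hsj
  choose j φ sj hsjA hsj using key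
  obtain ⟨k, hk⟩ := IsCofiltered.inf_objs_exists
    (insert (Over.mk (𝟙 i₀)) (A.image fun z => (Over.mk (φ z) : Over i₀)))
  have hmor : ∀ z : A, ∃ g : k.left ⟶ j z, g ≫ φ z = k.hom := fun ⟨z, hz⟩ => by
    obtain ⟨w⟩ := hk (Finset.mem_insert_of_mem
      (Finset.mem_image_of_mem (fun z => (Over.mk (φ z) : Over i₀)) hz))
    exact ⟨w.left, Over.w w⟩
  choose g hg using hmor
  obtain ⟨l, ψ, hψ⟩ := exists_map_eq_top D c hc (i := k.left)
    (⨆ z : A, D.map (g z) ⁻¹ᵁ CohB1.genLocus _ (sj z.1)) (by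
      refine top_le_iff.mp fun p _ => ?_
      obtain ⟨z, hz, hp⟩ := Set.mem_iUnion₂.1 (hA (Set.mem_univ p))
      rw [Scheme.Hom.preimage_iSup]
      refine TopologicalSpace.Opens.mem_iSup.2 ⟨⟨z, hz⟩, ?_⟩
      rw [← Scheme.Hom.comp_preimage, c.w, hsj z]
      exact hp)
  refine ⟨l, ψ ≫ k.hom, Groth.Agent.Lib.Ample.Pow.isAmple_iff.2
    ⟨PicLoc.isInvertible_pullback _ hL₀, inferInstance, fun p => ?_⟩⟩
  obtain ⟨z, hp⟩ : ∃ z : A, p ∈ D.map ψ ⁻¹ᵁ (D.map (g z) ⁻¹ᵁ CohB1.genLocus _ (sj z.1)) := by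
    have h1 : p ∈ D.map ψ ⁻¹ᵁ ⨆ z : A, D.map (g z) ⁻¹ᵁ CohB1.genLocus _ (sj z.1) :=
      hψ.ge (Set.mem_univ p)
    rw [Scheme.Hom.preimage_iSup] at h1
    exact TopologicalSpace.Opens.mem_iSup.1 h1
  let f := D.map (ψ ≫ g z)
  have hinv := PicLoc.isInvertible_pullback (D.map (φ z.1))
    (Groth.Agent.Lib.TensorMod.Invertible.isInvertible_tensorPow hL₀ (n z.1))
  have heq : f ≫ D.map (φ z.1) = D.map (ψ ≫ k.hom) := by
    simp only [f, ← Functor.map_comp, Category.assoc, hg z]
  let e := (Scheme.Modules.pullbackComp f (D.map (φ z.1)) ≪≫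
    Scheme.Modules.pullbackCongr heq).app (CohB1.tensorPow L₀ (n z.1))
  refine Groth.Agent.Lib.Ample.Pow.AffineAt.mk (hn z.1)
    (e ≪≫ Groth.Agent.Lib.Ample.Pow.pullbackPow _ L₀ (n z.1))
    ((PicLoc.pullbackStructureIso f).symm.hom ≫ (Scheme.Modules.pullback f).map (sj z.1)) ?_ ?_
  · erw [Groth.Agent.Lib.Ample.GenLocus.genLocus_pullback f hinv]
    simpa [f, Functor.map_comp] using hp
  · erw [Groth.Agent.Lib.Ample.GenLocus.genLocus_pullback f hinv]
    exact (hsjA z.1).preimage f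


end Groth.Agent.S9223
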