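import Groth.Statements.S5369
import Groth.Agent.Lib.ActSep.GraphSep
import Groth.Agent.Lib.GrpSch.Basic

set_option autoImplicit false
universe u
open CategoryTheory CategoryTheory.Limits MonoidalCategory CartesianMonoidalCategory MonObj GrpObj AlgebraicGeometry
open SGA3

namespace Groth.Agent.S5369

open Groth.Agent.Lib.ActSep Groth.Agent.Lib

/-- Let u : G' → G be a monomorphism of S-group schemes and p : G → G'' a morphism of S-schemes which is
covering for the fpqc topology (some Z → G'' which is flat, surjective, with every affine open of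
G'' the image of a quasi-compact open of Z, factors through p) and such that the square (g, h) ↦
g·u(h), first projection G ×_S G' → G, p, p is cartesian, so that G'' represents the fpqc quotient
sheaf G/G'. Let ε'' be the composite of the unit section of G with p. Then the square formed by u,
the structure morphism G' → S, p and ε'' is cartesian; u is an immersion; and G'' is separated over
S if and only if u is a closed immersion, if and only if ε'' is a closed immersion. -/
theorem result (S : Scheme.{u}) (G G' G'' : Over S) [GrpObj G] [GrpObj G']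
    (u : G' ⟶ G) [IsMonHom u] [Mono u] (p : G ⟶ G'')
    (hcov : (∃ (Z : Scheme.{u}) (q : Z ⟶ G''.left) (r : Z ⟶ G.left), r ≫ p.left = q ∧ Surjective q ∧ Flat q ∧
        ∀ V : G''.left.Opens, IsAffineOpen V → ∃ W : Z.Opens, IsCompact (W : Set Z) ∧ q.base '' (W : Set Z) = (V : Set G''.left)))
    (hsq : IsPullback ((G ◁ u) ≫ μ[G]) (fst G G') p p) :
    IsPullback u (toUnit G') p (η[G] ≫ p) ∧ IsImmersion u.left ∧
    (IsSeparated G''.hom ↔ IsClosedImmersion u.left) ∧ (IsClosedImmersion u.left ↔ IsClosedImmersion (η[G] ≫ p).left) := by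
  obtain ⟨Z, q, r, hr, _, _, hq⟩ := hcov
  let s : G' ⟶ G ⊗ G' := lift (toUnit G' ≫ η[G]) (𝟙 G')
  have hs : IsPullback s (toUnit G') (fst G G') η[G] := by
    refine ⟨⟨by simp [s]⟩, ⟨PullbackCone.IsLimit.mk _ (fun c => c.fst ≫ snd G G') ?_ ?_ ?_⟩⟩
    · intro c
      refine CartesianMonoidalCategory.hom_ext _ _ ?_ (by simp [s])
      simp only [s, Category.assoc, lift_fst]
      rw [← Category.assoc, ← Category.assoc, toUnit_unique ((c.fst ≫ snd G G') ≫ toUnit G') c.snd]
      exact c.condition.symm
    · intro c; exact toUnit_unique _ _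
    · intro c m h1 _
      rw [← h1]
      simp [s]
  have hu : s ≫ (G ◁ u) ≫ μ[G] = u := by
    rw [show s ≫ (G ◁ u) ≫ μ[G] = (toUnit G' ≫ η[G]) * u by
      simp [s, Hom.mul_def]]
    exact one_mul _
  have hsquare : IsPullback u (toUnit G') p (η[G] ≫ p) := by
    have h' : IsPullback (s ≫ (G ◁ u) ≫ μ[G]) (toUnit G') p (η[G] ≫ p) := hs.paste_horiz hsq
    rwa [hu] at h'
  have hsqL : IsPullback u.left G'.hom p.left (η[G] ≫ p).left := hsquare.map (Over.forget S)
  have hε : (η[G] ≫ p).left ≫ G''.hom = 𝟙 S := Over.w (η[G] ≫ p)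
  have himm : IsImmersion u.left := by
    have : IsImmersion ((η[G] ≫ p).left ≫ G''.hom) := by
      rw [hε]; exact (inferInstance : IsImmersion (𝟙 S))
    have : IsImmersion (η[G] ≫ p).left := IsImmersion.of_comp _ G''.hom
    exact MorphismProperty.of_isPullback hsqL.flip this
  have hεu : IsClosedImmersion (η[G] ≫ p).left → IsClosedImmersion u.left :=
    fun h => MorphismProperty.of_isPullback hsqL.flip h
  have huε : IsClosedImmersion u.left → IsClosedImmersion (η[G] ≫ p).left := fun h => by
    have := quasiCompactCover_singleton q hq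
    refine DescAlg.FpqcCover.of_fpqcCover @IsClosedImmersion DescAlg.Descends.descends_isClosedImmersion.{u} _
      (PreZeroHypercover.singleton.{u} q) (fun _ => inferInstanceAs (Flat q)) fun _ => ?_
    show IsClosedImmersion (pullback.snd (η[G] ≫ p).left q)
    rw [← hr, ← DescAlg.FpqcCover.snd_iff @IsClosedImmersion]
    refine MorphismProperty.pullback_snd _ _ ?_
    rw [← hsqL.flip.isoPullback_inv_snd]
    exact (MorphismProperty.cancel_left_of_respectsIso @IsClosedImmersion _ _).2 h
  have hsep : IsSeparated G''.hom → IsClosedImmersion u.left := fun _ => hεu <| by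
    have : IsClosedImmersion ((η[G] ≫ p).left ≫ G''.hom) := by
      rw [hε]; exact (inferInstance : IsClosedImmersion (𝟙 S))
    exact IsClosedImmersion.of_comp _ G''.hom
  refine ⟨hsquare, himm, ⟨hsep, fun h => ?_⟩, ⟨huε, hεu⟩⟩
  refine isSeparated_of_graph p hsq q r hr hq ?_
  let sh : G ⊗ G ⟶ G ⊗ G := lift μ[G] (fst G G)
  have hμ : μ[G] = fst G G * snd G G := by simp [Hom.mul_def]
  have : IsIso sh := by
    refine ⟨⟨lift (snd G G) ((snd G G)⁻¹ * fst G G), ?_, ?_⟩⟩
    · refine CartesianMonoidalCategory.hom_ext _ _ ?_ ?_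
      · simp [sh]
      · simp [sh, hμ, MonObj.comp_mul, GrpObj.comp_inv]
    · refine CartesianMonoidalCategory.hom_ext _ _ ?_ ?_
      · simp [sh, hμ, MonObj.comp_mul, GrpObj.comp_inv]
      · simp [sh]
  have : IsIso sh.left := (Over.forget S).map_isIso sh
  have hfac : lift ((G ◁ u) ≫ μ[G]) (fst G G') = (G ◁ u) ≫ sh := by
    refine CartesianMonoidalCategory.hom_ext _ _ ?_ ?_ <;> simp [sh]
  rw [hfac, Over.comp_left]
  exact (MorphismProperty.cancel_right_of_respectsIso @IsClosedImmersion _ sh.left).2
    (GrpSch.whiskerLeft_left_of (P := @IsClosedImmersion) G u h)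

end Groth.Agent.S5369
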