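import Groth.Statements.S5372
import Groth.Agent.Lib.GrpQ.QCC

set_option autoImplicit false
universe u
open CategoryTheory CategoryTheory.Limits MonoidalCategory CartesianMonoidalCategory MonObj GrpObj AlgebraicGeometry
open SGA3

namespace Groth.Agent.S5372

/-- Let u : G' → G be a monomorphism of S-group schemes which is normal, and p : G → G'' a morphism of
S-schemes which is covering for the fpqc topology (some Z → G'' which is flat, surjective, with
every affine open of G'' the image of a quasi-compact open of Z, factors through p) and such that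
the square (g, h) ↦ g·u(h), first projection G ×_S G' → G, p, p is cartesian, so that G'' represents
the fpqc quotient sheaf G/G'. Then there is a structure of S-group scheme on G'' for which p is a
homomorphism, and it is unique: any morphism m : G'' ×_S G'' → G'' with (p × p) followed by m equal
to the multiplication of G followed by p is its multiplication. -/
theorem result (S : Scheme.{u}) (G G' G'' : Over S) [GrpObj G] [GrpObj G']
    (u : G' ⟶ G) [IsMonHom u] [Mono u] (p : G ⟶ G'')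
    (hcov : (∃ (Z : Scheme.{u}) (q : Z ⟶ G''.left) (r : Z ⟶ G.left), r ≫ p.left = q ∧ Surjective q ∧ Flat q ∧
        ∀ V : G''.left.Opens, IsAffineOpen V → ∃ W : Z.Opens, IsCompact (W : Set Z) ∧ q.base '' (W : Set Z) = (V : Set G''.left)))
    (hsq : IsPullback ((G ◁ u) ≫ μ[G]) (fst G G') p p) (hN : AlgGrp.IsNormalHom u) :
    ∃ _ : GrpObj G'', IsMonHom p ∧ ∀ m : G'' ⊗ G'' ⟶ G'', (p ⊗ₘ p) ≫ m = μ[G] ≫ p → m = μ[G''] := by
  have hp : Lib.GrpQ.IsCovering p := Lib.GrpQ.isCovering_of_hcov p hcov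
  have hmu : (G ◁ u) ≫ μ[G] = fst G G' * (snd G G' ≫ u) := by
    rw [Hom.mul_def]
    congr 1
  have hker : ∀ {T : Over S} (x y : T ⟶ G), x ≫ p = y ≫ p → ∃ h : T ⟶ G', y = x * (h ≫ u) := fun {T} x y hxy => by
    obtain ⟨l, h1, h2⟩ : ∃ l : T ⟶ G ⊗ G', l ≫ (G ◁ u) ≫ μ[G] = y ∧ l ≫ fst G G' = x :=
      ⟨_, hsq.lift_fst y x hxy.symm, hsq.lift_snd y x hxy.symm⟩
    refine ⟨l ≫ snd G G', ?_⟩
    rw [← h1, hmu, MonObj.comp_mul, h2, Category.assoc]
  have hconst : ∀ {T : Over S} (x : T ⟶ G) (h : T ⟶ G'), (x * (h ≫ u)) ≫ p = x ≫ p := fun {T} x h => by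
    have := congrArg (lift x h ≫ ·) hsq.w
    simp only [hmu] at this
    rwa [← Category.assoc, ← Category.assoc, MonObj.comp_mul, lift_fst, lift_snd_assoc] at this
  have hmulc : ∀ {T : Over S} (a b c d : T ⟶ G), a ≫ p = b ≫ p → c ≫ p = d ≫ p → (a * c) ≫ p = (b * d) ≫ p := by
    intro T a b c d hab hcd
    obtain ⟨h, rfl⟩ := hker a b hab
    obtain ⟨k, rfl⟩ := hker c d hcd
    obtain ⟨n, hn⟩ := hN T c⁻¹ h
    have e : a * (h ≫ u) * (c * (k ≫ u)) = (a * c) * (c⁻¹ * (h ≫ u) * c⁻¹⁻¹ * (k ≫ u)) := by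
      simp [_root_.mul_assoc]
    rw [e, hn, ← MonObj.mul_comp n k u, hconst]
  have hinvc : ∀ {T : Over S} (a b : T ⟶ G), a ≫ p = b ≫ p → a⁻¹ ≫ p = b⁻¹ ≫ p := by
    intro T a b hab
    obtain ⟨h, rfl⟩ := hker a b hab
    obtain ⟨n, hn⟩ := hN T a h⁻¹
    have e : (a * (h ≫ u))⁻¹ = a⁻¹ * (a * (h⁻¹ ≫ u) * a⁻¹) := by
      simp [GrpObj.inv_comp, _root_.mul_assoc]
    rw [e, hn, hconst]
  -- descend the multiplication in two steps
  obtain ⟨m₁, hm₁⟩ := (hp.whiskerRight G).exists_desc (μ[G] ≫ p) fun T x y hxy => by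
    have h1 : (x ≫ fst G G) ≫ p = (y ≫ fst G G) ≫ p := by simpa using congrArg (· ≫ fst G'' G) hxy
    have h2 : x ≫ snd G G = y ≫ snd G G := by simpa using congrArg (· ≫ snd G'' G) hxy
    have := hmulc _ _ (x ≫ snd G G) (y ≫ snd G G) h1 (by rw [h2])
    have e : ∀ z : T ⟶ G ⊗ G, z ≫ μ[G] = (z ≫ fst G G) * (z ≫ snd G G) := fun z => by
      rw [Hom.mul_def, ← comp_lift, lift_fst_snd, Category.comp_id]
    rw [← Category.assoc, ← Category.assoc, e, e]
    exact this
  have hm₁' : ∀ {T : Over S} (a b : T ⟶ G), lift (a ≫ p) b ≫ m₁ = (a * b) ≫ p := fun {T} a b => by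
    rw [← lift_whiskerRight_assoc, hm₁, ← Category.assoc]; rfl
  obtain ⟨m, hm⟩ := (hp.whiskerLeft G'').exists_desc m₁ fun T x y hxy => by
    have h1 : x ≫ fst G'' G = y ≫ fst G'' G := by simpa using congrArg (· ≫ fst G'' G'') hxy
    have h2 : (x ≫ snd G'' G) ≫ p = (y ≫ snd G'' G) ≫ p := by simpa using congrArg (· ≫ snd G'' G'') hxy
    have hT' : Lib.GrpQ.IsCovering (pullback.fst (x ≫ fst G'' G) p) :=
      hp.of_isPullback (a := pullback.snd (x ≫ fst G'' G) p) (b := x ≫ fst G'' G)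
        ((IsPullback.of_hasPullback (x ≫ fst G'' G) p).map (Over.forget S)).flip
    refine hT'.cancel ?_
    have key : ∀ z : T ⟶ G'' ⊗ G, z ≫ fst G'' G = x ≫ fst G'' G →
        pullback.fst (x ≫ fst G'' G) p ≫ z ≫ m₁ =
          (pullback.snd (x ≫ fst G'' G) p * (pullback.fst (x ≫ fst G'' G) p ≫ z ≫ snd G'' G)) ≫ p := fun z hz => by
      rw [← hm₁', ← Category.assoc]
      congr 1
      refine CartesianMonoidalCategory.hom_ext _ _ ?_ ?_
      · rw [lift_fst, Category.assoc, hz]; exact pullback.condition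
      · rw [lift_snd, Category.assoc]
    rw [key x rfl, key y h1.symm]
    exact hmulc _ _ _ _ rfl (by simp only [Category.assoc] at h2 ⊢; rw [h2])
  obtain ⟨iv, hiv⟩ := hp.exists_desc ((𝟙 G)⁻¹ ≫ p) fun T x y hxy => by
    have := hinvc _ _ hxy
    rwa [show x⁻¹ = x ≫ (𝟙 G)⁻¹ by rw [GrpObj.comp_inv, Category.comp_id],
      show y⁻¹ = y ≫ (𝟙 G)⁻¹ by rw [GrpObj.comp_inv, Category.comp_id], Category.assoc, Category.assoc] at this
  have hmm : ∀ {T : Over S} (a b : T ⟶ G), lift (a ≫ p) (b ≫ p) ≫ m = (a * b) ≫ p := fun {T} a b => by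
    rw [← lift_whiskerLeft_assoc, hm, hm₁']
  have hiv' : ∀ {T : Over S} (a : T ⟶ G), (a ≫ p) ≫ iv = a⁻¹ ≫ p := fun {T} a => by
    rw [Category.assoc, hiv, ← Category.assoc, GrpObj.comp_inv, Category.comp_id]
  have hone : ∀ {T : Over S} (c : T ⟶ 𝟙_ (Over S)), c ≫ η[G] = 1 := fun c => by
    rw [Hom.one_def, toUnit_unique c (toUnit _)]
  let inst : GrpObj G'' :=
    { one := η[G] ≫ p
      mul := m
      one_mul := by
        refine (hp.whiskerLeft (𝟙_ (Over S))).cancel ?_
        rw [← Category.assoc,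
          show (𝟙_ (Over S)) ◁ p ≫ ((η[G] ≫ p) ▷ G'') = lift ((fst _ G ≫ η[G]) ≫ p) (snd _ G ≫ p) from
            CartesianMonoidalCategory.hom_ext _ _ (by simp [toUnit_unique (fst (𝟙_ (Over S)) G) (toUnit _)]) (by simp [leftUnitor_hom]),
          hmm, hone, _root_.one_mul]
        simp [leftUnitor_hom]
      mul_one := by
        refine (hp.whiskerRight (𝟙_ (Over S))).cancel ?_
        rw [← Category.assoc,
          show p ▷ (𝟙_ (Over S)) ≫ (G'' ◁ (η[G] ≫ p)) = lift (fst G _ ≫ p) ((snd G _ ≫ η[G]) ≫ p) from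
            CartesianMonoidalCategory.hom_ext _ _ (by simp [rightUnitor_hom]) (by simp [toUnit_unique (snd G (𝟙_ (Over S))) (toUnit _)]),
          hmm, hone, _root_.mul_one]
        simp [rightUnitor_hom]
      mul_assoc := by
        refine ((hp.whiskerRight G'').whiskerRight G'').cancel ?_
        refine ((hp.whiskerLeft G).whiskerRight G'').cancel ?_
        refine (hp.whiskerLeft (G ⊗ G)).cancel ?_
        let A := fst (G ⊗ G) G ≫ fst G G
        let B := fst (G ⊗ G) G ≫ snd G G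
        let C := snd (G ⊗ G) G
        let e := ((G ⊗ G) ◁ p) ≫ ((G ◁ p) ▷ G'') ≫ ((p ▷ G'') ▷ G'')
        have he : e = lift (lift (A ≫ p) (B ≫ p)) (C ≫ p) := by
          refine CartesianMonoidalCategory.hom_ext _ _
            (CartesianMonoidalCategory.hom_ext _ _ ?_ ?_) ?_ <;> simp [e, A, B, C]
        have h1 : e ≫ (m ▷ G'') ≫ m = ((A * B) * C) ≫ p := by
          rw [he, lift_whiskerRight_assoc, hmm, hmm]
        have h2 : e ≫ (α_ G'' G'' G'').hom ≫ (G'' ◁ m) ≫ m = (A * (B * C)) ≫ p := by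
          rw [he, lift_lift_associator_hom_assoc, lift_whiskerLeft_assoc, hmm, hmm]
        rw [_root_.mul_assoc] at h1
        simpa [e] using h1.trans h2.symm
      inv := iv
      left_inv := by
        refine hp.cancel ?_
        rw [comp_lift_assoc, Category.comp_id,
          show p ≫ iv = (𝟙 G)⁻¹ ≫ p from hiv,
          show lift ((𝟙 G)⁻¹ ≫ p) p = lift ((𝟙 G)⁻¹ ≫ p) (𝟙 G ≫ p) by rw [Category.id_comp],
          hmm, inv_mul_cancel, ← Category.assoc, toUnit_unique (p ≫ toUnit G'') (toUnit G), Hom.one_def,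
          Category.assoc]
      right_inv := by
        refine hp.cancel ?_
        rw [comp_lift_assoc, Category.comp_id,
          show p ≫ iv = (𝟙 G)⁻¹ ≫ p from hiv,
          show lift p ((𝟙 G)⁻¹ ≫ p) = lift (𝟙 G ≫ p) ((𝟙 G)⁻¹ ≫ p) by rw [Category.id_comp],
          hmm, mul_inv_cancel, ← Category.assoc, toUnit_unique (p ≫ toUnit G'') (toUnit G), Hom.one_def,
          Category.assoc] }
  have hμ : μ[G] = fst G G * snd G G := by simp [Hom.mul_def]
  have hpm : (p ⊗ₘ p) ≫ m = μ[G] ≫ p := by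
    rw [← lift_fst_comp_snd_comp, hmm, hμ]
  refine ⟨inst, ⟨rfl, hpm.symm⟩, fun m' hm' => ?_⟩
  refine (hp.whiskerLeft G'').cancel ((hp.whiskerRight G).cancel ?_)
  rw [← Category.assoc, ← Category.assoc, ← tensorHom_def, hm', ← hpm]
  rfl

end Groth.Agent.S5372
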