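import Groth.Statements.S3030
import Groth.Agent.Lib.SpHomog.ArtQuot
import Groth.Agent.Lib.SpHomog.Normal
import Groth.Agent.S5369
import Groth.Agent.S5372

set_option autoImplicit false
universe u
open CategoryTheory MonoidalCategory CartesianMonoidalCategory MonObj GrpObj AlgebraicGeometry TensorProduct
open SGA3

namespace Groth.Agent.S3030

/-- Let A be a local artinian ring, F and G group schemes flat and locally of finite type over A, and u
: F → G a homomorphism which is a quasi-compact monomorphism with F normal in G. Then there are a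
group scheme Q over A and a homomorphism p : G → Q which is faithfully flat and locally of finite
presentation, with kernel F (the square u, p, unit is cartesian); Q is separated and flat over A,
and smooth over A when G is. -/
theorem result (A : Type u) [CommRing A] [IsArtinianRing A] [IsLocalRing A]
    (F G : Over (Spec (CommRingCat.of A))) [GrpObj F] [GrpObj G] [Flat F.hom] [LocallyOfFiniteType F.hom]
    [Flat G.hom] [LocallyOfFiniteType G.hom] (u : F ⟶ G) [IsMonHom u] [Mono u] [QuasiCompact u.left]
    (hN : AlgGrp.IsNormalHom u) :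
    ∃ (Q : Over (Spec (CommRingCat.of A))) (_ : GrpObj Q) (p : G ⟶ Q), IsMonHom p ∧
      Flat p.left ∧ Surjective p.left ∧ LocallyOfFinitePresentation p.left ∧ AlgGrp.IsKernel u p ∧
      IsSeparated Q.hom ∧ Flat Q.hom ∧ (Smooth G.hom → Smooth Q.hom) := by
  obtain ⟨X, p, h1, h2, h3, h4, h5, -, h6, h7, -⟩ := Groth.Agent.Lib.SpHomog.exists_quotient u
  haveI := h1; haveI := h2; haveI := h3
  have hsq := Groth.Agent.Lib.SpHomog.isPullback_mulRight u hN h4
  have hcov : ∃ (Z : Scheme.{u}) (q : Z ⟶ X.left) (r : Z ⟶ G.left), r ≫ p.left = q ∧ Surjective q ∧ Flat q ∧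
      ∀ V : X.left.Opens, IsAffineOpen V → ∃ W : Z.Opens, IsCompact (W : Set Z) ∧ q.base '' (W : Set Z) = (V : Set X.left) :=
    ⟨G.left, p.left, 𝟙 _, Category.id_comp _, h2, h1, Groth.Agent.Lib.SpHomog.exists_isCompact_image_eq p.left⟩
  obtain ⟨gX, hp, -⟩ := Groth.Agent.S5372.result _ G F X u p hcov hsq hN
  refine ⟨X, gX, p, hp, h1, h2, h3, ?_, h5, h6 ‹_›, h7⟩
  have h8 := (Groth.Agent.S5369.result _ G F X u p hcov hsq).1
  have h9 : η[G] ≫ p = η[X] := IsMonHom.one_hom p
  show IsPullback u (toUnit F) p η[X]
  rw [← h9]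
  exact h8

end Groth.Agent.S3030
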