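import Groth.Statements.S5654
import Groth.Agent.S3020
import Groth.Agent.H4.KernelSquare
import Groth.Agent.Lib.GrpQ.FfMonoGrp
import Groth.Agent.Lib.GrpQ.MonoClosed
import Groth.Agent.Lib.GrpQ.Transfer
import Groth.Agent.Lib.ActSep.GrpArt
import Groth.Agent.Lib.SpHomog.Criterion

set_option autoImplicit false
universe u
open CategoryTheory MonoidalCategory CartesianMonoidalCategory MonObj GrpObj AlgebraicGeometry
open GrpSch

namespace Groth.Agent.S5654

/-- Let k be a field, P and Q group schemes locally of finite type over k and f : P ⟶ Q a homomorphism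
of k-group schemes whose underlying morphism of schemes is quasi-affine. Then f is affine. -/
theorem result (k : Type u) [Field k] (P Q : Over (Spec (CommRingCat.of k))) [GrpObj P] [GrpObj Q]
    [LocallyOfFiniteType P.hom] [LocallyOfFiniteType Q.hom] (f : P ⟶ Q) [IsMonHom f] (hf : Mor2.IsQuasiAffine f.left) :
    IsAffineHom f.left := by
  haveI : QuasiCompact f.left := hf.1
  haveI : IsSeparated Q.hom := Groth.Agent.Lib.ActSep.isSeparated_of_artinian (A := k) (G := Q)
  haveI : IsClosedImmersion η[Q].left := Groth.Agent.Lib.GrpSch.isClosedImmersion_η Q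
  haveI : LocallyOfFinitePresentation P.hom := LocallyOfFinitePresentation.iff_locallyOfFiniteType.2 ‹_›
  let K := Limits.pullback f η[Q]
  let j : K ⟶ P := Limits.pullback.fst f η[Q]
  have hK : AlgGrp.IsKernel j f := by
    have h := IsPullback.of_hasPullback f η[Q]
    rwa [toUnit_unique (Limits.pullback.snd f η[Q]) (toUnit _)] at h
  haveI := Groth.Agent.Lib.GrpQ.kernel_mono hK
  have hj : ∀ {T : Over (Spec (CommRingCat.of k))} (n : T ⟶ K), (n ≫ j) ≫ f = 1 := fun n => by
    rw [Category.assoc, Groth.Agent.Lib.GrpQ.kernel_comp hK, MonObj.comp_one]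
  obtain ⟨gK, him⟩ := Groth.Agent.Lib.GrpQ.InfSub.exists_grpObj_of_mono j
    ((Groth.Agent.Lib.GrpQ.mem_kernel hK _).2 (by rw [IsMonHom.one_hom, Hom.one_def, toUnit_unique (toUnit _) (𝟙 _), Category.id_comp]))
    ((Groth.Agent.Lib.GrpQ.mem_kernel hK _).2 (by rw [MonObj.mul_comp, hj, hj, _root_.one_mul]))
    ((Groth.Agent.Lib.GrpQ.mem_kernel hK _).2 (by rw [GrpObj.inv_comp, Groth.Agent.Lib.GrpQ.kernel_comp hK, inv_one]))
  haveI : IsClosedImmersion j.left :=
    MorphismProperty.of_isPullback (P := @IsClosedImmersion) (hK.map (Over.forget _)).flip ‹_›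
  haveI : LocallyOfFiniteType K.hom := by rw [← Over.w j]; infer_instance
  let e : Q.left := η[Q].left.base (IsLocalRing.closedPoint k)
  obtain ⟨V, hV, heV, -⟩ := exists_isAffineOpen_mem_and_subset (U := ⊤) (x := e) trivial
  haveI : (f.left ⁻¹ᵁ V : Scheme.{u}).IsQuasiAffine := hf.2 V hV
  have hr : Set.range j.left.base ⊆ Set.range (f.left ⁻¹ᵁ V).ι.base := by
    rintro _ ⟨z, rfl⟩
    rw [Scheme.Opens.range_ι]
    show f.left.base (j.left.base z) ∈ V
    rw [← Scheme.Hom.comp_apply, ← Over.comp_left, Groth.Agent.Lib.GrpQ.kernel_comp hK, Hom.one_def, Over.comp_left,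
      Scheme.Hom.comp_apply]
    convert heV using 2
    exact Subsingleton.elim (α := PrimeSpectrum k) _ _
  let l : K.left ⟶ (f.left ⁻¹ᵁ V : Scheme.{u}) := IsOpenImmersion.lift (f.left ⁻¹ᵁ V).ι j.left hr
  haveI : IsClosedImmersion l := by
    haveI : IsClosedImmersion (l ≫ (f.left ⁻¹ᵁ V).ι) := by
      rw [IsOpenImmersion.lift_fac]; infer_instance
    exact IsClosedImmersion.of_comp l (f.left ⁻¹ᵁ V).ι
  haveI : K.left.IsQuasiAffine := Scheme.IsQuasiAffine.of_isAffineHom l
  haveI : QuasiCompact K.hom := by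
    rw [quasiCompact_iff_compactSpace]
    infer_instance
  haveI : IsAffine K.left := Groth.Agent.S3020.result k K
  obtain ⟨C, gC, p, i, hp, hi, hpi, hs, hfl, hl, hm, hC, -, hker⟩ :=
    Groth.Agent.Lib.GrpQ.FfMono.exists_quot_kernel f j hK (Groth.Agent.Lib.SpHomog.flat_to_field _) (Or.inl ‹_›)
  haveI := hs; haveI := hfl; haveI := hl; haveI := hi; haveI := hm; haveI := hC; haveI := hp
  haveI : QuasiCompact (p.left ≫ i.left) := by rw [← Over.comp_left, hpi]; infer_instance
  haveI : QuasiCompact i.left := Groth.Agent.Lib.GrpQ.Transfer.quasiCompact_of_comp_surjective p.left i.left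
  haveI : IsClosedImmersion i.left := Groth.Agent.Lib.GrpQ.MonoClosed.isClosedImmersion_of_mono i
  haveI : QuasiCompact p.left := QuasiCompact.of_comp p.left i.left
  haveI : IsAffineHom p.left :=
    Groth.Agent.H4.KernelSquare.left_of_hom p j hker (P := @IsAffineHom) (inferInstanceAs (IsAffineHom K.hom))
  rw [← hpi, Over.comp_left]
  infer_instance

end Groth.Agent.S5654
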