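import Groth.Statements.S6552
import Groth.Agent.H25.Node.Change

set_option linter.style.haveILetI false
attribute [local instance] Curv2.stalkAlgebra

-- import your own Groth.Agent.* helpers here

set_option autoImplicit false
universe u
open CategoryTheory CategoryTheory.Limits AlgebraicGeometry
open Curves

namespace Groth.Agent.S6552

/-- Let k be a field, X a scheme locally of finite type over k of dimension 1, π : Y → X an étale
morphism, and y ∈ Y a point with image x. Then x is a closed point of X which is a node if and only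
if y is a closed point of Y which is a node (Y being a k-scheme through π). -/
theorem result (k : Type u) [Field k] (X : Scheme.{u}) [X.Over (Spec (CommRingCat.of k))] [LocallyOfFiniteType (X ↘ (Spec (CommRingCat.of k)))] (hdim : topologicalKrullDim X = 1)
    {Y : Scheme.{u}} (π : Y ⟶ X) [Etale π] (y : Y) :
    Curv2.IsNode k X (π y) ↔ @Curv2.IsNode k _ Y ⟨π ≫ (X ↘ (Spec (CommRingCat.of k)))⟩ y := by
  letI oY : Y.Over (Spec (CommRingCat.of k)) := ⟨π ≫ (X ↘ Spec (CommRingCat.of k))⟩
  haveI : LocallyOfFiniteType (Y ↘ Spec (CommRingCat.of k)) :=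
    inferInstanceAs (LocallyOfFiniteType (π ≫ (X ↘ Spec (CommRingCat.of k))))
  haveI : IsLocallyNoetherian X :=
    LocallyOfFiniteType.isLocallyNoetherian (X ↘ Spec (CommRingCat.of k))
  haveI : IsLocallyNoetherian Y :=
    LocallyOfFiniteType.isLocallyNoetherian (Y ↘ Spec (CommRingCat.of k))
  letI : Algebra (X.presheaf.stalk (π y)) (Y.presheaf.stalk y) := (π.stalkMap y).hom.toAlgebra
  haveI : IsLocalHom (algebraMap (X.presheaf.stalk (π y)) (Y.presheaf.stalk y)) :=
    inferInstanceAs (IsLocalHom (π.stalkMap y).hom)
  haveI : IsScalarTower k (X.presheaf.stalk (π y)) (Y.presheaf.stalk y) :=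
    IsScalarTower.of_algebraMap_eq' (H25.Node.Change.stalkMap_hom k π y)
  haveI : Module.Flat (X.presheaf.stalk (π y)) (Y.presheaf.stalk y) := Flat.stalkMap π y
  obtain ⟨hm, hfin, hsep⟩ := (Groth.Agent.Lib.Unram.StalkTower.formallyUnramified_stalkMap_iff π y).1
    (AlgebraicGeometry.FormallyUnramified.stalkMap π y)
  have e : (inferInstance : Algebra (IsLocalRing.ResidueField (X.presheaf.stalk (π y)))
        (IsLocalRing.ResidueField (Y.presheaf.stalk y))) = (π.residueFieldMap y).hom.toAlgebra := by
    refine Algebra.algebra_ext _ _ fun z => ?_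
    obtain ⟨z, rfl⟩ := IsLocalRing.residue_surjective z
    rfl
  haveI : Module.Finite (IsLocalRing.ResidueField (X.presheaf.stalk (π y)))
      (IsLocalRing.ResidueField (Y.presheaf.stalk y)) := by
    convert! hfin using 1
    refine Module.ext' _ _ fun r m => ?_
    obtain ⟨a, rfl⟩ := IsLocalRing.residue_surjective r
    obtain ⟨b, rfl⟩ := IsLocalRing.residue_surjective m
    rfl
  haveI : Algebra.IsSeparable (IsLocalRing.ResidueField (X.presheaf.stalk (π y)))
      (IsLocalRing.ResidueField (Y.presheaf.stalk y)) := by convert! hsep using 1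
  have hclosed : IsClosed ({π y} : Set X) ↔ IsClosed ({y} : Set Y) := by
    rw [H25.Node.Sch.isClosed_iff k X, H25.Node.Sch.isClosed_iff k Y]
    exact RingHom.finite_algebraMap.trans ((H25.Node.Change.finite_iff k (X.presheaf.stalk (π y))
      (Y.presheaf.stalk y)).trans RingHom.finite_algebraMap.symm)
  rw [H25.Node.Sch.isNode_iff, H25.Node.Sch.isNode_iff, hclosed,
    H25.Node.Change.separable_iff k (X.presheaf.stalk (π y)) (Y.presheaf.stalk y),
    H25.Node.isNodal_iff (X.presheaf.stalk (π y)) (Y.presheaf.stalk y) hm]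

end Groth.Agent.S6552
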