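import Groth.Statements.S6553
import Groth.Agent.H25.Node.Change

set_option linter.style.haveILetI false
attribute [local instance] Curv2.stalkAlgebra

-- import your own Groth.Agent.* helpers here

set_option autoImplicit false
universe u
open CategoryTheory CategoryTheory.Limits AlgebraicGeometry
open Curves

namespace Groth.Agent.S6553

/-- Let k'/k be a finite separable extension of fields, X a scheme locally of finite type over k' of
dimension 1, and x ∈ X a closed point. Then x is a node of the k'-scheme X if and only if x is a
node of X viewed as a k-scheme via Spec k' → Spec k. -/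
theorem result (k : Type u) [Field k] (k' : Type u) [Field k'] [Algebra k k']
    [FiniteDimensional k k'] [Algebra.IsSeparable k k']
    (X : Scheme.{u}) [X.Over (Spec (CommRingCat.of k'))] [LocallyOfFiniteType (X ↘ (Spec (CommRingCat.of k')))] (hdim : topologicalKrullDim X = 1)
    (x : X) (hx : IsClosed ({x} : Set X)) :
    Curv2.IsNode k' X x ↔
      @Curv2.IsNode k _ X ⟨(X ↘ (Spec (CommRingCat.of k'))) ≫ Spec.map (CommRingCat.ofHom (algebraMap k k'))⟩ x := by
  letI o : X.Over (Spec (CommRingCat.of k)) :=
    ⟨(X ↘ Spec (CommRingCat.of k')) ≫ Spec.map (CommRingCat.ofHom (algebraMap k k'))⟩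
  haveI : IsFinite (Spec.map (CommRingCat.ofHom (algebraMap k k'))) :=
    (IsFinite.SpecMap_iff _).2 (RingHom.finite_algebraMap.2 inferInstance)
  haveI : LocallyOfFiniteType (X ↘ Spec (CommRingCat.of k)) :=
    inferInstanceAs (LocallyOfFiniteType
      ((X ↘ Spec (CommRingCat.of k')) ≫ Spec.map (CommRingCat.ofHom (algebraMap k k'))))
  haveI : IsScalarTower k k' (IsLocalRing.ResidueField (X.presheaf.stalk x)) :=
    IsScalarTower.of_algebraMap_eq fun c => congrArg (IsLocalRing.residue (X.presheaf.stalk x))
      (RingHom.congr_fun (H25.Node.Change.stalkMap_restrict k k' x) c)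
  rw [H25.Node.Sch.isNode_iff, H25.Node.Sch.isNode_iff]
  refine and_congr Iff.rfl (and_congr ?_ Iff.rfl)
  exact ⟨fun _ => Algebra.IsSeparable.trans k k' _,
    fun _ => Algebra.isSeparable_tower_top_of_isSeparable k k' _⟩

end Groth.Agent.S6553
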