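import Groth.Statements.S1592
import Groth.Agent.H25.Node.Invariance

set_option autoImplicit false
set_option linter.style.haveILetI false
universe u
open CategoryTheory CategoryTheory.Limits AlgebraicGeometry
open Curves

namespace Groth.Agent.S1592

/-- If f : X → S is at-worst-nodal of relative dimension one and g : Y → X is étale, then g ≫ f is
at-worst-nodal of relative dimension one. -/
theorem result {X Y S : Scheme.{u}} (f : X ⟶ S) (hf : Curv2.IsNodalFamily f) (g : Y ⟶ X) [Etale g] :
    Curv2.IsNodalFamily (g ≫ f) := by
  obtain ⟨hflat, hfp, hfib⟩ := hf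
  refine ⟨inferInstance, inferInstance, fun s => ?_⟩
  letI : (f.fiber s).Over (Spec (CommRingCat.of (S.residueField s))) :=
    ⟨f.fiberToSpecResidueField s⟩
  haveI : LocallyOfFiniteType ((f.fiber s) ↘ Spec (CommRingCat.of (S.residueField s))) :=
    inferInstanceAs (LocallyOfFiniteType (Limits.pullback.snd f (S.fromSpecResidueField s)))
  letI : ((g ≫ f).fiber s).Over (Spec (CommRingCat.of (S.residueField s))) :=
    ⟨(g ≫ f).fiberToSpecResidueField s⟩
  obtain ⟨hd, hn⟩ := hfib s
  let p : Limits.pullback (g ≫ f) (S.fromSpecResidueField s) ⟶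
      Limits.pullback f (S.fromSpecResidueField s) :=
    Limits.pullback.map _ _ _ _ g (𝟙 _) (𝟙 _) (by simp) (by simp)
  have hp1 : p ≫ Limits.pullback.fst f (S.fromSpecResidueField s) =
      Limits.pullback.fst (g ≫ f) (S.fromSpecResidueField s) ≫ g := Limits.pullback.lift_fst _ _ _
  have hp2 : p ≫ Limits.pullback.snd f (S.fromSpecResidueField s) =
      Limits.pullback.snd (g ≫ f) (S.fromSpecResidueField s) :=
    (Limits.pullback.lift_snd _ _ _).trans (Category.comp_id _)
  haveI : Etale p := by
    have hp : IsPullback (Limits.pullback.fst (g ≫ f) (S.fromSpecResidueField s)) p g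
        (Limits.pullback.fst f (S.fromSpecResidueField s)) := by
      refine IsPullback.of_bot ?_ hp1.symm (IsPullback.of_hasPullback f (S.fromSpecResidueField s)).flip.flip
      rw [hp2]
      exact IsPullback.of_hasPullback (g ≫ f) (S.fromSpecResidueField s)
    exact MorphismProperty.of_isPullback hp (inferInstance : Etale g)
  let p' : (g ≫ f).fiber s ⟶ f.fiber s := p
  haveI : Etale p' := ‹Etale p›
  exact Groth.Agent.H25.Node.Invariance.etale (S.residueField s) (f.fiber s) hd hn p' hp2

end Groth.Agent.S1592
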