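import Groth.Statements.S1593
import Groth.Agent.H25.Node.Local

set_option autoImplicit false
set_option linter.style.haveILetI false
universe u
open CategoryTheory CategoryTheory.Limits AlgebraicGeometry
open Curves

namespace Groth.Agent.S1593

/-- Being an at-worst-nodal family of curves is étale local on the source: let f : X → S be a morphism
and g_i : U_i → X a jointly surjective family of étale morphisms. If every composite g_i ≫ f is
at-worst-nodal of relative dimension one, then so is f. -/
theorem result {X S : Scheme.{u}} (f : X ⟶ S) (ι : Type u) (U : ι → Scheme.{u})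
    (g : ∀ i, U i ⟶ X) [∀ i, Etale (g i)] (hsurj : ∀ x : X, ∃ i, x ∈ Set.range (g i).base)
    (h : ∀ i, Curv2.IsNodalFamily (g i ≫ f)) : Curv2.IsNodalFamily f := by
  let e : (∐ U) ⟶ X := Limits.Sigma.desc g
  haveI : Etale e := IsZariskiLocalAtSource.sigmaDesc (P := @Etale) fun i => inferInstance
  haveI : Surjective e := ⟨fun x => by
    obtain ⟨i, u, hu⟩ := hsurj x
    exact ⟨Limits.Sigma.ι U i u, (congrArg (fun m : U i ⟶ X => m u) (Limits.Sigma.ι_desc g i)).trans hu⟩⟩
  have hdesc : e ≫ f = Limits.Sigma.desc fun i => g i ≫ f := by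
    refine Limits.Sigma.hom_ext _ _ fun i => ?_
    simp [e]
  have hflat : Flat f := Lib.SourceDescent.Scheme.flat.descends e f inferInstance inferInstance
    (hdesc ▸ IsZariskiLocalAtSource.sigmaDesc (P := @Flat) fun i => (h i).1)
  have hlfp : LocallyOfFinitePresentation f :=
    Lib.SourceDescent.Scheme.locallyOfFinitePresentation.descends e f inferInstance inferInstance
      (hdesc ▸ IsZariskiLocalAtSource.sigmaDesc (P := @LocallyOfFinitePresentation) fun i => (h i).2.1)
  refine ⟨hflat, hlfp, fun s => ?_⟩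
  letI : (f.fiber s).Over (Spec (CommRingCat.of (S.residueField s))) :=
    ⟨f.fiberToSpecResidueField s⟩
  haveI : LocallyOfFiniteType ((f.fiber s) ↘ Spec (CommRingCat.of (S.residueField s))) :=
    inferInstanceAs (LocallyOfFiniteType (Limits.pullback.snd f (S.fromSpecResidueField s)))
  refine Groth.Agent.H25.Node.Local.of_etale_cover _ _ fun y => ?_
  obtain ⟨i, u, hu⟩ := hsurj (f.fiberι s y)
  obtain ⟨p, hp, hp1, hp2⟩ := Groth.Agent.H25.Node.Local.exists_fibreMap f (g i) s
  obtain ⟨w, hw⟩ : u ∈ Set.range ((g i ≫ f).fiberι s) := by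
    rw [Scheme.Hom.range_fiberι]
    show (g i ≫ f) u = s
    rw [Scheme.Hom.comp_apply, hu]
    have : f.fiberι s y ∈ Set.range (f.fiberι s) := ⟨y, rfl⟩
    rwa [Scheme.Hom.range_fiberι] at this
  obtain ⟨hd, hn⟩ := (h i).2.2 s
  refine ⟨(g i ≫ f).fiber s, ⟨(g i ≫ f).fiberToSpecResidueField s⟩, p, hp, hp2,
    ⟨w, (f.fiberι s).isEmbedding.injective ?_⟩, hd, hn⟩
  rw [← Scheme.Hom.comp_apply, hp1, Scheme.Hom.comp_apply, hw, hu]

end Groth.Agent.S1593
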