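import Groth.Statements.S1595
import Groth.Agent.H25.Node.Glue

set_option autoImplicit false
set_option linter.style.haveILetI false
universe u
open CategoryTheory CategoryTheory.Limits AlgebraicGeometry
open Curves

namespace Groth.Agent.S1595

/-- If S' → S is étale and f : X → S' is at-worst-nodal of relative dimension one, then the composite X
→ S is at-worst-nodal of relative dimension one. -/
theorem result {X S S' : Scheme.{u}} (e : S' ⟶ S) [Etale e] (f : X ⟶ S') (hf : Curv2.IsNodalFamily f) :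
    Curv2.IsNodalFamily (f ≫ e) := by
  obtain ⟨hflat, hfp, hfib⟩ := hf
  refine ⟨inferInstance, inferInstance, fun s => ?_⟩
  letI : ((f ≫ e).fiber s).Over (Spec (CommRingCat.of (S.residueField s))) :=
    ⟨(f ≫ e).fiberToSpecResidueField s⟩
  haveI : LocallyOfFiniteType (((f ≫ e).fiber s) ↘ Spec (CommRingCat.of (S.residueField s))) :=
    inferInstanceAs (LocallyOfFiniteType (Limits.pullback.snd (f ≫ e) (S.fromSpecResidueField s)))
  refine Groth.Agent.H25.Node.Glue.of_cover _ _ fun y => ?_
  have hy : (f ≫ e) ((f ≫ e).fiberι s y) = s := by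
    have : (f ≫ e).fiberι s y ∈ Set.range ((f ≫ e).fiberι s) := ⟨y, rfl⟩
    rwa [Scheme.Hom.range_fiberι] at this
  rw [Scheme.Hom.comp_apply] at hy
  obtain ⟨s', hs', rfl⟩ : ∃ s' : S', f ((f ≫ e).fiberι s y) = s' ∧ e s' = s := ⟨_, rfl, hy⟩
  obtain ⟨j, hj, hj1, hj2⟩ := Groth.Agent.H25.Node.Glue.exists_piece e f s'
  letI : (f.fiber s').Over (Spec (CommRingCat.of (S'.residueField s'))) :=
    ⟨f.fiberToSpecResidueField s'⟩
  haveI : LocallyOfFiniteType ((f.fiber s') ↘ Spec (CommRingCat.of (S'.residueField s'))) :=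
    inferInstanceAs (LocallyOfFiniteType (Limits.pullback.snd f (S'.fromSpecResidueField s')))
  letI : Algebra (S.residueField (e s')) (S'.residueField s') := (e.residueFieldMap s').hom.toAlgebra
  obtain ⟨-, hfin, hsep⟩ := (Groth.Agent.Lib.Unram.StalkTower.formallyUnramified_stalkMap_iff e s').1
    (AlgebraicGeometry.FormallyUnramified.stalkMap e s')
  haveI := hfin
  haveI := hsep
  obtain ⟨hd, hn⟩ := hfib s'
  refine ⟨f.fiber s', ⟨f.fiberToSpecResidueField s' ≫ Spec.map (e.residueFieldMap s')⟩, j, hj, hj2, ?_,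
    hd, Groth.Agent.H25.Node.Glue.restrict (S.residueField (e s')) (S'.residueField s') (f.fiber s') hd hn⟩
  obtain ⟨w, hw⟩ : (f ≫ e).fiberι (e s') y ∈ Set.range (f.fiberι s') := by
    rw [Scheme.Hom.range_fiberι]; exact hs'
  refine ⟨w, ((f ≫ e).fiberι (e s')).isEmbedding.injective ?_⟩
  rw [← hw, ← Scheme.Hom.comp_apply, hj1]

end Groth.Agent.S1595
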