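import Groth.Statements.S12463
import Groth.Agent.H25.NormRed
import Groth.Agent.H25.DeltaFlat
import Groth.Agent.H97.Branches
import Mathlib.FieldTheory.PurelyInseparable.Basic

set_option autoImplicit false
set_option linter.style.haveILetI false
universe u
open Variety

namespace Groth.Agent.S12463

open IsLocalRing
open scoped nonZeroDivisors

/-- Over a separably closed residue field a point of the normalisation carries at most one
geometric branch. -/
theorem subsingleton_emb (A : Type u) [CommRing A] [IsLocalRing A] [IsSepClosed (ResidueField A)]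
    (hfin : Module.Finite A (CAlg2.normRed A)) (q : MaximalSpectrum (CAlg2.normRed A)) :
    Subsingleton (Brnch.Emb A q) := by
  haveI := hfin
  haveI := q.isMaximal
  let L := CAlg2.normRed A ⧸ q.asIdeal
  letI : Field L := Ideal.Quotient.field q.asIdeal
  have hq : q.asIdeal.comap (algebraMap A (CAlg2.normRed A)) = maximalIdeal A :=
    IsLocalRing.eq_maximalIdeal (Ideal.isMaximal_comap_of_isIntegral_of_isMaximal q.asIdeal)
  have h0 : ∀ a ∈ maximalIdeal A, algebraMap A L a = 0 := fun a ha =>
    Ideal.Quotient.eq_zero_iff_mem.2 (Ideal.mem_comap.1 (hq.symm ▸ ha))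
  letI : Algebra (ResidueField A) L :=
    (Ideal.Quotient.lift (maximalIdeal A) (algebraMap A L) h0).toAlgebra
  haveI : IsScalarTower A (ResidueField A) L := .of_algebraMap_eq fun a => rfl
  haveI : FiniteDimensional (ResidueField A) L := Module.Finite.of_restrictScalars_finite A _ _
  haveI : IsPurelyInseparable (ResidueField A) L := inferInstance
  refine ⟨fun σ τ => Subtype.ext ?_⟩
  let mk : Brnch.Emb A q → (L →ₐ[ResidueField A] AlgebraicClosure (ResidueField A)) := fun σ =>
    { σ.1 with
      commutes' := fun c => by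
        obtain ⟨a, rfl⟩ := IsLocalRing.residue_surjective c
        exact RingHom.congr_fun σ.2 a }
  have h : mk σ = mk τ := Subsingleton.elim _ _
  exact RingHom.ext fun x => AlgHom.congr_fun h x

theorem dimLEOne (A : Type u) [CommRing A] [IsNoetherianRing A] [IsReduced A] [Ring.KrullDimLE 1 A]
    (P : Ideal (integralClosure A (FractionRing A))) [P.IsPrime]
    [IsDomain (Localization.AtPrime P)] : Ring.DimensionLEOne (Localization.AtPrime P) := by
  haveI : Ring.KrullDimLE 1 (integralClosure A (FractionRing A)) := (Ring.krullDimLE_iff).2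
    ((Lib.Dim.Integral.ringKrullDim_le_of_isIntegral (R := A)).trans
      ((Ring.krullDimLE_iff).1 inferInstance))
  haveI : Ring.KrullDimLE 1 (Localization.AtPrime P) := (Ring.krullDimLE_iff).2
    ((IsLocalization.AtPrime.ringKrullDim_eq_height P (Localization.AtPrime P)).trans_le
      (Ideal.height_le_ringKrullDim_of_isPrime.trans ((Ring.krullDimLE_iff).1 inferInstance)))
  exact ⟨fun h0 hp => Ideal.IsPrime.isMaximal_of_ne_bot hp h0⟩

/-- If the maximal ideals upstairs are `δ + 1` in number, every residue extension is trivial and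
the elements congruent to a scalar everywhere are scalars. -/
theorem of_length_eq (A R : Type u) [CommRing A] [IsLocalRing A] [CommRing R] [Algebra A R]
    [Finite (MaximalSpectrum R)]
    (hm : ∀ q : MaximalSpectrum R, (maximalIdeal A).map (algebraMap A R) ≤ q.asIdeal)
    (h : Module.length A (R ⧸ LinearMap.range (Algebra.linearMap A R)) + 1 ≤
      ENat.card (MaximalSpectrum R)) :
    (∀ q : MaximalSpectrum R, Function.Surjective
      (Ideal.Quotient.mk q.asIdeal ∘ algebraMap A R)) ∧
      ∀ x : R, (∀ q : MaximalSpectrum R, x ∈ q.asIdeal) →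
        x ∈ LinearMap.range (Algebra.linearMap A R) := by
  classical
  cases nonempty_fintype (MaximalSpectrum R)
  set M := R ⧸ LinearMap.range (Algebra.linearMap A R) with hM
  let π : R →ₗ[A] Π q : MaximalSpectrum R, R ⧸ q.asIdeal :=
    LinearMap.pi fun q => (Ideal.Quotient.mkₐ A q.asIdeal).toLinearMap
  have hπ : Function.Surjective π := fun y => by
    obtain ⟨x, hx⟩ := Ideal.pi_quotient_surjective (I := fun q : MaximalSpectrum R => q.asIdeal)
      (fun q q' hne => Ideal.isCoprime_of_isMaximal fun h => hne (MaximalSpectrum.ext h)) y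
    exact ⟨x, funext fun q => hx q⟩
  let N := (LinearMap.range (Algebra.linearMap A R)).map π
  have hN : Module.length A N ≤ 1 := by
    let g : A →ₗ[A] N := LinearMap.codRestrict N (π ∘ₗ Algebra.linearMap A R)
      fun a => ⟨_, ⟨a, rfl⟩, rfl⟩
    have hmg : maximalIdeal A ≤ LinearMap.ker g := fun a ha => by
      apply Subtype.ext
      funext q
      exact Ideal.Quotient.eq_zero_iff_mem.2 (hm q (Ideal.mem_map_of_mem _ ha))
    let g' := Submodule.liftQ (maximalIdeal A) g hmg
    have hg' : Function.Surjective g' := by
      rintro ⟨_, _, ⟨a, rfl⟩, rfl⟩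
      exact ⟨Submodule.Quotient.mk a, rfl⟩
    haveI : IsSimpleModule A (A ⧸ maximalIdeal A) :=
      isSimpleModule_iff_isCoatom.2 (maximalIdeal.isMaximal A).1
    exact (Module.length_le_of_surjective g' hg').trans (Module.length_eq_one _ _).le
  let Φ := Submodule.mapQ (LinearMap.range (Algebra.linearMap A R)) N π
    (Submodule.le_comap_map π _)
  have hΦ : Function.Surjective Φ := fun y => by
    obtain ⟨y, rfl⟩ := Submodule.Quotient.mk_surjective _ y
    obtain ⟨x, rfl⟩ := hπ y
    exact ⟨Submodule.Quotient.mk x, rfl⟩
  have hM' : Module.length A M = Module.length A (LinearMap.ker Φ) +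
      Module.length A ((Π q : MaximalSpectrum R, R ⧸ q.asIdeal) ⧸ N) :=
    Module.length_eq_add_of_exact (LinearMap.ker Φ).subtype Φ Subtype.val_injective hΦ
      (LinearMap.exact_subtype_ker_map Φ)
  have hP := Module.length_eq_add_of_exact N.subtype N.mkQ Subtype.val_injective
    (Submodule.Quotient.mk_surjective N) (LinearMap.exact_subtype_mkQ N)
  rw [Module.length_pi_of_fintype] at hP
  have hone : ∀ q : MaximalSpectrum R, 1 ≤ Module.length A (R ⧸ q.asIdeal) := fun q => by
    haveI := q.isMaximal
    exact Order.one_le_iff_pos.2 (Module.length_pos_iff.2 (Ideal.Quotient.nontrivial_iff.2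
      q.isMaximal.ne_top))
  have hcard : (ENat.card (MaximalSpectrum R)) = ∑ _q : MaximalSpectrum R, (1 : ℕ∞) := by simp
  have hsum : ∑ _q : MaximalSpectrum R, (1 : ℕ∞) ≤ ∑ q : MaximalSpectrum R, Module.length A (R ⧸ q.asIdeal) :=
    Finset.sum_le_sum fun q _ => hone q
  have hcfin : ENat.card (MaximalSpectrum R) ≠ ⊤ := by
    rw [ENat.card_eq_coe_fintype_card]; exact ENat.natCast_ne_top _
  have hMfin : Module.length A M + 1 ≠ ⊤ := ne_top_of_le_ne_top hcfin h
  have hupper : Module.length A (LinearMap.ker Φ) + ∑ q : MaximalSpectrum R, Module.length A (R ⧸ q.asIdeal) ≤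
      ∑ _q : MaximalSpectrum R, (1 : ℕ∞) := by
    rw [← hcard]
    refine le_trans ?_ h
    rw [hP, hM', add_comm (Module.length A N), ← add_assoc]
    exact add_le_add le_rfl hN
  have hsumfin : ∑ q : MaximalSpectrum R, Module.length A (R ⧸ q.asIdeal) ≠ ⊤ :=
    ne_top_of_le_ne_top (hcard ▸ hcfin) (le_add_self.trans hupper)
  have hK : Module.length A (LinearMap.ker Φ) = 0 := by
    refine le_antisymm ((WithTop.add_le_add_iff_right hsumfin).1 ?_) zero_le
    exact (hupper.trans hsum).trans (zero_add (∑ q : MaximalSpectrum R, Module.length A (R ⧸ q.asIdeal))).ge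
  have hq1 : ∀ q : MaximalSpectrum R, Module.length A (R ⧸ q.asIdeal) = 1 := by
    intro q
    refine le_antisymm ?_ (hone q)
    rw [hK, zero_add] at hupper
    have hr : ∑ q' ∈ Finset.univ.erase q, (1 : ℕ∞) ≤
        ∑ q' ∈ Finset.univ.erase q, Module.length A (R ⧸ q'.asIdeal) :=
      Finset.sum_le_sum fun q' _ => hone q'
    rw [← Finset.add_sum_erase _ _ (Finset.mem_univ q),
      ← Finset.add_sum_erase _ _ (Finset.mem_univ q)] at hupper
    have hfin : ∑ _q' ∈ Finset.univ.erase q, (1 : ℕ∞) ≠ ⊤ := by simp
    exact (WithTop.add_le_add_iff_right hfin).1 ((add_le_add le_rfl hr).trans hupper)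
  refine ⟨fun q => ?_, fun x hx => ?_⟩
  · haveI := Module.length_eq_one_iff.1 (hq1 q)
    have hrange : LinearMap.range ((Ideal.Quotient.mkₐ A q.asIdeal).toLinearMap ∘ₗ
        Algebra.linearMap A R) = ⊤ := by
      refine (eq_bot_or_eq_top _).resolve_left fun h0 => ?_
      have h1 : (Ideal.Quotient.mk q.asIdeal) (algebraMap A R 1) = 0 :=
        (Submodule.eq_bot_iff _).1 h0 _ ⟨1, rfl⟩
      rw [map_one, Ideal.Quotient.eq_zero_iff_mem] at h1
      exact q.isMaximal.ne_top ((Ideal.eq_top_iff_one _).2 h1)
    exact LinearMap.range_eq_top.1 hrange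
  · haveI := Module.length_eq_zero_iff.1 hK
    have hx0 : π x = 0 := funext fun q => Ideal.Quotient.eq_zero_iff_mem.2 (hx q)
    have hker : Submodule.Quotient.mk x ∈ LinearMap.ker Φ := by
      rw [LinearMap.mem_ker, Submodule.mapQ_apply, hx0, Submodule.Quotient.mk_zero]
    exact (Submodule.Quotient.mk_eq_zero _).1
      (congrArg Subtype.val (Subsingleton.elim (⟨_, hker⟩ : LinearMap.ker Φ) 0))

/-- Let (A, m) be a strictly henselian reduced Nagata local ring of dimension one with δ-invariant equal
to the number of geometric branches minus one, and A' the integral closure of A in its total ring of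
fractions. Then A is a wedge of discrete valuation rings: for every maximal ideal m' of A' the
localization A'_{m'} is a discrete valuation ring whose residue field is the image of A, and A
consists exactly of the elements of A' congruent to an element of A modulo every maximal ideal of A'
(the displayed inclusion; the reverse inclusion is trivial). (The inequality δ ≥ branches − 1 of the
published statement holds for every reduced Nagata local ring of dimension one and is not restated.) -/
theorem result (A : Type u) [CommRing A] [HenselianLocalRing A]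
    [IsSepClosed (IsLocalRing.ResidueField A)] [IsReduced A] (hN : CAlg.IsNagata A) (hdim : ringKrullDim A = 1)
    (heq : Curv2.deltaInv A + 1 = Brnch.numGeomBranches A) :
    (∀ m' : MaximalSpectrum ↥(integralClosure A (FractionRing A)),
        (∃ _ : IsDomain (Localization.AtPrime m'.asIdeal), IsDiscreteValuationRing (Localization.AtPrime m'.asIdeal)) ∧
        Function.Surjective (⇑(IsLocalRing.residue (Localization.AtPrime m'.asIdeal)) ∘
          ⇑(algebraMap ↥(integralClosure A (FractionRing A)) (Localization.AtPrime m'.asIdeal)) ∘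
          ⇑(algebraMap A ↥(integralClosure A (FractionRing A))))) ∧
    ∀ a' : ↥(integralClosure A (FractionRing A)),
      (∃ a : A, ∀ m' : MaximalSpectrum ↥(integralClosure A (FractionRing A)),
          a' - algebraMap A _ a ∈ m'.asIdeal) →
      a' ∈ (algebraMap A ↥(integralClosure A (FractionRing A))).range := by
  haveI := hN.1
  let R := integralClosure A (FractionRing A)
  haveI : Module.Finite A R := H97.TotalNorm.finite_integralClosure hN
  haveI : Ring.KrullDimLE 1 A := (Ring.krullDimLE_iff).2 hdim.le
  haveI : IsNoetherianRing R := IsNoetherianRing.of_finite A R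
  obtain ⟨ε, hε⟩ := H25.NormRed.exists_normRed_equiv A A (RingEquiv.refl A)
  have hfin : Module.Finite A (CAlg2.normRed A) := by
    let ε' : R ≃ₐ[A] CAlg2.normRed A := AlgEquiv.ofRingEquiv (f := ε) fun a => by
      rw [hε]; rfl
    exact Module.Finite.equiv ε'.toLinearEquiv
  have hcomap : ∀ q : MaximalSpectrum R, q.asIdeal.comap (algebraMap A R) = maximalIdeal A :=
    fun q => by
      haveI := q.isMaximal
      exact IsLocalRing.eq_maximalIdeal (Ideal.isMaximal_comap_of_isIntegral_of_isMaximal q.asIdeal)
  haveI : Finite (MaximalSpectrum R) := by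
    haveI := (Algebra.QuasiFinite.finite_primesOver (S := R) (maximalIdeal A)).to_subtype
    exact Finite.of_injective (fun q : MaximalSpectrum R =>
      (⟨q.asIdeal, q.isMaximal.isPrime, ⟨(hcomap q).symm⟩⟩ : (maximalIdeal A).primesOver R))
      fun q q' h => MaximalSpectrum.ext (congrArg Subtype.val h)
  have hcard : Brnch.numGeomBranches A ≤ ENat.card (MaximalSpectrum R) := by
    haveI := fun q => subsingleton_emb A hfin q
    rw [Brnch.numGeomBranches, if_pos (minimalPrimes.finite_of_isNoetherianRing (R := A))]
    refine ENat.card_le_card_of_injective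
      (f := fun z : Σ q : MaximalSpectrum (CAlg2.normRed A), Brnch.Emb A q =>
        (⟨z.1.asIdeal.comap (ε : R →+* CAlg2.normRed A),
          haveI := z.1.isMaximal
          Ideal.comap_isMaximal_of_surjective _ ε.surjective⟩ : MaximalSpectrum R)) ?_
    rintro ⟨q, σ⟩ ⟨q', τ⟩ h
    have hqq : q = q' := MaximalSpectrum.ext (Ideal.comap_injective_of_surjective
      (ε : R →+* CAlg2.normRed A) ε.surjective (congrArg MaximalSpectrum.asIdeal h))
    subst hqq
    exact congrArg _ (Subsingleton.elim _ _)
  obtain ⟨hsurj, hrad⟩ := of_length_eq A R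
    (fun q => Ideal.map_le_iff_le_comap.2 (hcomap q).ge) (heq.le.trans hcard)
  refine ⟨fun m' => ⟨?_, ?_⟩, fun a' ⟨a, ha⟩ => ?_⟩
  · haveI := m'.isMaximal
    have hreg : IsRegularLocalRing (Localization.AtPrime m'.asIdeal) :=
      H25.DeltaFlat.regular_atPrime_normalisation A m'.asIdeal
    obtain ⟨hd, hc⟩ := H97.TotalNorm.isDomain_intClosed_atPrime m'.asIdeal
    refine ⟨hd, ?_⟩
    have hnf : ¬ IsField (Localization.AtPrime m'.asIdeal) := by
      intro hF
      have hne : (maximalIdeal A).height ≠ 0 := fun h0 => by
        have h1 := IsLocalRing.maximalIdeal_height_eq_ringKrullDim (R := A)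
        rw [h0, hdim] at h1
        exact zero_ne_one h1
      obtain ⟨x, hxm, hx0⟩ : ∃ x ∈ maximalIdeal A, x ∈ A⁰ := by
        by_contra! hall
        apply hne
        have hsub : (maximalIdeal A : Set A) ⊆
            ⋃ p ∈ (minimalPrimes.finite_of_isNoetherianRing (R := A)).toFinset, (id p : Set A) := by
          intro x hx
          have := hall x hx
          rw [← SetLike.mem_coe] at this
          by_contra hnot
          apply this
          rw [SetLike.mem_coe, mem_nonZeroDivisors_iff_right]
          intro y hy
          have : y ∈ nilradical A := by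
            rw [nilradical, ← Ideal.sInf_minimalPrimes, Ideal.mem_sInf]
            intro p hp
            refine (hp.1.1.mem_or_mem (hy.symm ▸ p.zero_mem)).resolve_right fun hxp => hnot ?_
            exact Set.mem_biUnion ((Set.Finite.mem_toFinset _).2 hp) hxp
          exact (mem_nilradical.1 this).eq_zero
        obtain ⟨p, hp, hle⟩ := (Ideal.subset_union_prime ⊥ ⊥
          (fun p hp _ _ => ((Set.Finite.mem_toFinset _).1 hp).1.1)).1 hsub
        have hp' := (Set.Finite.mem_toFinset _).1 hp
        have := hp'.1.1
        rw [(maximalIdeal.isMaximal A).eq_of_le hp'.1.1.ne_top hle]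
        exact Ideal.height_eq_zero_iff.2 hp'
      have h0 : algebraMap R (Localization.AtPrime m'.asIdeal) (algebraMap A R x) = 0 := by
        rw [IsLocalRing.isField_iff_maximalIdeal_eq] at hF
        rw [← Ideal.mem_bot, ← hF, IsLocalization.AtPrime.to_map_mem_maximal_iff _ m'.asIdeal,
          ← Ideal.mem_comap, hcomap]
        exact hxm
      obtain ⟨v, hv⟩ := (IsLocalization.map_eq_zero_iff m'.asIdeal.primeCompl _ _).1 h0
      have hv0 : (v : R) = 0 := by
        refine Subtype.ext ((IsLocalization.map_units (FractionRing A) ⟨x, hx0⟩).mul_left_eq_zero.1 ?_)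
        exact congrArg Subtype.val hv
      exact v.2 (hv0 ▸ m'.asIdeal.zero_mem)
    haveI := dimLEOne A m'.asIdeal
    refine ((IsDiscreteValuationRing.TFAE _ hnf).out 0 3 rfl rfl).2
      ⟨hc, maximalIdeal _, ⟨fun h => hnf (IsLocalRing.isField_iff_maximalIdeal_eq.2 h),
        inferInstance⟩, fun P hP => ?_⟩
    exact IsLocalRing.eq_maximalIdeal (hP.2.isMaximal hP.1)
  · haveI := m'.isMaximal
    intro z
    obtain ⟨w, hw⟩ := (IsLocalization.AtPrime.equivQuotMaximalIdeal m'.asIdeal
      (Localization.AtPrime m'.asIdeal)).surjective z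
    obtain ⟨a, ha⟩ := hsurj m' w
    refine ⟨a, ?_⟩
    rw [← hw, ← ha]
    exact (IsLocalization.AtPrime.equivQuotMaximalIdeal_apply_mk m'.asIdeal
      (Localization.AtPrime m'.asIdeal) _).symm
  · obtain ⟨b, hb⟩ := hrad _ ha
    exact ⟨b + a, by rw [map_add]; exact sub_eq_iff_eq_add.1 hb.symm |>.symm⟩

end Groth.Agent.S12463
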