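import Groth.Statements.S14347
import Groth.Agent.H25.FittingProd
import Mathlib.LinearAlgebra.Dual.Basis
-- import your own Groth.Agent.* helpers here

set_option autoImplicit false
universe u
open QuotLF

namespace Groth.Agent.S14347

lemma rel_mk {R : Type u} [CommRing R] {n : ℕ} {F : Type u} [AddCommGroup F] [Module R F]
    (b : Module.Basis (Fin n) R F) {κ : Type} [Fintype κ] (g : κ → F) :
    Submodule.span R (Set.range ((Submodule.span R (Set.range g)).mkQ ∘ b)) = ⊤ ∧
      Groth.Agent.H25.Fitting.rel (R := R) ((Submodule.span R (Set.range g)).mkQ ∘ b) =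
        Submodule.span R (Set.range fun k i => b.repr (g k) i) := by
  refine ⟨Groth.Agent.H25.Fitting.span_range_comp _ (Submodule.mkQ_surjective _) b b.span_eq, ?_⟩
  ext v
  rw [Groth.Agent.H25.Fitting.mem_rel]
  simp only [Function.comp_apply, ← map_smul, ← map_sum, ← LinearMap.mem_ker, Submodule.ker_mkQ]
  rw [show (Set.range fun k i => b.repr (g k) i) = b.equivFun '' Set.range g from by
    rw [← Set.range_comp]; rfl, ← LinearEquiv.coe_coe, Submodule.span_image,
    Submodule.mem_map_equiv, Module.Basis.equivFun_symm_apply]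

/-- Let R be a commutative ring and σ : R^m → R^n an injective linear map with cokernel M, so that M has
a length-one resolution by finite free modules and rank δ = n − m; let K be the cokernel of the dual
map (R^n)^∨ → (R^m)^∨, which is the module Ext¹_R(M, R). Then the Fitting ideals satisfy Fit_{δ +
j}(M) = Fit_j(K) for all j ≥ 0, and Fit_i(M) = 0 for i < δ (the degeneracy loci of M and of K agree
after the shift by δ). -/
theorem result (R : Type u) [CommRing R] (m n : ℕ)
    (σ : (Fin m → R) →ₗ[R] (Fin n → R)) (hσ : Function.Injective σ) :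
    (∀ j : ℕ, Fitt.ideal R ((Fin n → R) ⧸ LinearMap.range σ) (n - m + j) =
        Fitt.ideal R (Module.Dual R (Fin m → R) ⧸ LinearMap.range σ.dualMap) j) ∧
      ∀ i : ℕ, i < n - m → Fitt.ideal R ((Fin n → R) ⧸ LinearMap.range σ) i = ⊥ := by
  open Groth.Agent.H25.Fitting in
  classical
  rcases subsingleton_or_nontrivial R with hR | hR
  · exact ⟨fun j => Subsingleton.elim _ _, fun i _ => Subsingleton.elim _ _⟩
  have hmn : m ≤ n := by
    simpa using LinearMap.finrank_le_finrank_of_injective hσ
  let g : Fin m → (Fin n → R) := fun a => σ (Pi.single a 1)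
  have hr : LinearMap.range σ = Submodule.span R (Set.range g) := by
    rw [show g = σ ∘ (Pi.basisFun R (Fin m)) from funext fun a => by simp [g], Set.range_comp,
      Submodule.span_image, Module.Basis.span_eq, Submodule.map_top]
  let bd : Module.Basis (Fin m) R (Module.Dual R (Fin m → R)) := (Pi.basisFun R (Fin m)).dualBasis
  let g' : Fin n → Module.Dual R (Fin m → R) := fun i => σ.dualMap ((Pi.basisFun R (Fin n)).dualBasis i)
  have hr' : LinearMap.range σ.dualMap = Submodule.span R (Set.range g') := by
    rw [show g' = σ.dualMap ∘ (Pi.basisFun R (Fin n)).dualBasis from rfl, Set.range_comp,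
      Submodule.span_image, Module.Basis.span_eq, Submodule.map_top]
  rw [hr, hr']
  obtain ⟨h1, h2⟩ := rel_mk (Pi.basisFun R (Fin n)) g
  obtain ⟨h3, h4⟩ := rel_mk bd g'
  refine ⟨fun j => ?_, fun i hi => ?_⟩
  · rw [ideal_eq_of_rel _ h1 _ h2, ideal_eq_of_rel _ h3 _ h4, Mn_range_transpose,
      show n - (n - m + j) = m - j by omega]
    congr 1
    congr 1
    funext i a
    simp [g, g', bd, Module.Basis.dualBasis_repr]
  · rw [ideal_eq_of_rel _ h1 _ h2]
    exact Mn_eq_bot_of_card_lt _ (by simp; omega)

end Groth.Agent.S14347
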