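import Groth.Statements.S0568
import Groth.Agent.Lib.Cohen.CompleteNagata
import Groth.Agent.Lib.Adic.Complete

set_option autoImplicit false
set_option linter.style.haveILetI false
universe u
open CAlg

namespace Groth.Agent.S0568

/-- A Noetherian local ring which is complete with respect to its maximal ideal is a Nagata ring. -/
theorem result (R : Type u) [CommRing R] [IsLocalRing R]
    [IsNoetherianRing R] [IsAdicComplete (IsLocalRing.maximalIdeal R) R] : CAlg.IsNagata R := by
  refine ⟨inferInstance, fun p _ => ?_⟩
  haveI : IsDomain (R ⧸ p) := Ideal.Quotient.isDomain p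
  haveI : IsLocalRing (R ⧸ p) := IsLocalRing.of_surjective' _ Ideal.Quotient.mk_surjective
  haveI : IsAdicComplete (IsLocalRing.maximalIdeal (R ⧸ p)) (R ⧸ p) := by
    have h : IsAdicComplete ((IsLocalRing.maximalIdeal R).map (algebraMap R (R ⧸ p))) (R ⧸ p) := by
      rw [IsAdicComplete.map_algebraMap_iff]
      exact Groth.Agent.Lib.Adic.Complete.isAdicComplete_of_finite
    have e : (IsLocalRing.maximalIdeal R).map (algebraMap R (R ⧸ p)) =
        IsLocalRing.maximalIdeal (R ⧸ p) :=
      IsLocalRing.map_maximalIdeal_of_surjective _ Ideal.Quotient.mk_surjective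
    rwa [e] at h
  exact Groth.Agent.Lib.Cohen.CompleteNagata.isN2 (R ⧸ p)

end Groth.Agent.S0568
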