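import Groth.Statements.S14359
import Mathlib.RingTheory.Ideal.KrullsHeightTheorem
import Mathlib.RingTheory.IntegralClosure.IntegrallyClosed
import Mathlib.RingTheory.Localization.FractionRing
-- import your own Groth.Agent.* helpers here

set_option autoImplicit false
universe u
open CAlg

namespace Groth.Agent.S14359

/-- Let A be a Noetherian integrally closed integral domain and b a nonzero element of A. Then every
associated prime of the A-module A/(b) has height one, so that A/(b) has no embedded associated
primes. -/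
theorem result
    (A : Type u) [CommRing A] [IsDomain A] [IsNoetherianRing A] [IsIntegrallyClosed A]
    (b : A) (hb : b ≠ 0) (p : Ideal A) (hp : p ∈ associatedPrimes A (A ⧸ Ideal.span {b})) :
    p.height = 1 := by
  obtain ⟨hp', z, hz⟩ := (Submodule.isAssociatedPrime_iff (N := (⊥ : Submodule A (A ⧸ Ideal.span {b}))) (I := p)).mp hp
  obtain ⟨a, rfl⟩ := Ideal.Quotient.mk_surjective z
  have hmem : ∀ t : A, t ∈ p ↔ b ∣ t * a := by
    intro t
    rw [hz, Submodule.mem_colon_singleton, Submodule.mem_bot, ← Ideal.mem_span_singleton,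
      ← Ideal.Quotient.eq_zero_iff_mem]
    rfl
  have hne : ¬ b ∣ a := fun h => hp'.ne_top ((Ideal.eq_top_iff_one p).mpr ((hmem 1).mpr (by simpa using h)))
  set K := FractionRing A
  have hbK : algebraMap A K b ≠ 0 := fun h => hb (IsFractionRing.injective A K (by rw [h, map_zero]))
  set u : K := algebraMap A K a / algebraMap A K b
  have hbp : b ∈ p := (hmem b).mpr ⟨a, rfl⟩
  have hu : ∀ t c : A, t * a = b * c → u * algebraMap A K t = algebraMap A K c := by
    intro t c h
    rw [div_mul_eq_mul_div, div_eq_iff hbK, ← map_mul, ← map_mul, mul_comm a t, h, mul_comm]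
  obtain ⟨t, ht, s, hts, hs⟩ : ∃ t ∈ p, ∃ s, t * a = b * s ∧ s ∉ p := by
    by_contra hno
    push Not at hno
    have hint : IsIntegral A u := by
      refine isIntegral_of_smul_mem_submodule (M := K) (Submodule.map (Algebra.linearMap A K) p)
        (fun h => hbK ((Submodule.mem_bot A).mp (h ▸ Submodule.mem_map_of_mem hbp)))
        (Submodule.FG.map _ (IsNoetherian.noetherian p)) u ?_
      rintro _ ⟨t, ht, rfl⟩
      obtain ⟨c, hc⟩ := (hmem t).mp ht
      exact ⟨c, hno t ht c hc, (hu t c hc).symm⟩
    obtain ⟨c, hc⟩ := IsIntegrallyClosed.isIntegral_iff.mp hint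
    rw [eq_div_iff hbK, ← map_mul] at hc
    exact hne ⟨c, by rw [← IsFractionRing.injective A K hc, mul_comm]⟩
  have hmin : p ∈ (Ideal.span {t}).minimalPrimes := by
    refine ⟨⟨hp', (Ideal.span_singleton_le_iff_mem p).mpr ht⟩, fun Q hQ hQp y hy => ?_⟩
    obtain ⟨c, hc⟩ := (hmem y).mp hy
    have : y * s = t * c := mul_left_cancel₀ hb (by linear_combination (-y) * hts + t * hc)
    refine (hQ.1.mem_or_mem (?_ : y * s ∈ Q)).resolve_right (fun h => hs (hQp h))
    rw [this]
    exact Q.mul_mem_right c (hQ.2 (Ideal.mem_span_singleton_self t))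
  refine le_antisymm (Ideal.height_le_one_of_isPrincipal_of_mem_minimalPrimes _ p hmin) ?_
  rw [Order.one_le_iff_ne_zero, Ne, Ideal.height_eq_zero_iff_eq_bot]
  exact fun h => hb (by rwa [h, Ideal.mem_bot] at hbp)

end Groth.Agent.S14359
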