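import Groth.Statements.S2111
import Groth.Agent.S14359
import Mathlib.RingTheory.Ideal.AssociatedPrime.Basic
import Mathlib.RingTheory.Localization.FractionRing
-- import your own Groth.Agent.* helpers here

set_option autoImplicit false
universe u
open CAlg

namespace Groth.Agent.S2111

/-- Let `R` be a Noetherian normal domain with fraction field `K`. An element of `K` which lies in `R_𝔭`
for every prime `𝔭` of height one lies in `R`. -/
theorem result {R : Type u} [CommRing R] [IsDomain R] [IsNoetherianRing R]
    [IsIntegrallyClosed R] (x : FractionRing R)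
    (hx : ∀ (p : Ideal R) [p.IsPrime], p.height = 1 →
      x ∈ Set.range (algebraMap (Localization.AtPrime p) (FractionRing R))) :
    x ∈ Set.range (algebraMap R (FractionRing R)) := by
  obtain ⟨a, b, hb, rfl⟩ := IsFractionRing.div_surjective R x
  have hb0 : b ≠ 0 := nonZeroDivisors.ne_zero hb
  by_cases hdvd : b ∣ a
  · obtain ⟨c, rfl⟩ := hdvd
    refine ⟨c, ?_⟩
    rw [map_mul, mul_div_cancel_left₀]
    exact fun h => hb0 (IsFractionRing.injective R (FractionRing R) (by rw [h, map_zero]))
  exfalso
  have hne : Ideal.Quotient.mk (Ideal.span {b}) a ≠ 0 := by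
    rw [Ne, Ideal.Quotient.eq_zero_iff_mem, Ideal.mem_span_singleton]
    exact hdvd
  obtain ⟨p, hp, hle⟩ := exists_le_isAssociatedPrime_of_isNoetherianRing R _ hne
  have := hp.isPrime
  have hht := Groth.Agent.S14359.result R b hb0 p hp
  obtain ⟨y, hy⟩ := hx p hht
  obtain ⟨r, s, rfl⟩ := IsLocalization.exists_mk'_eq p.primeCompl y
  refine s.2 (hle ?_)
  rw [Submodule.mem_colon_singleton, Submodule.mem_bot]
  show Ideal.Quotient.mk (Ideal.span {b}) ((s : R) * a) = 0
  rw [Ideal.Quotient.eq_zero_iff_mem, Ideal.mem_span_singleton]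
  refine ⟨r, IsFractionRing.injective R (FractionRing R) ?_⟩
  have h1 := congrArg (algebraMap (Localization.AtPrime p) (FractionRing R)) (IsLocalization.mk'_spec (Localization.AtPrime p) r s)
  rw [map_mul, ← IsScalarTower.algebraMap_apply, ← IsScalarTower.algebraMap_apply, hy,
    div_mul_eq_mul_div, div_eq_iff (fun h => hb0 (IsFractionRing.injective R (FractionRing R) (by rw [h, map_zero])))] at h1
  rw [map_mul, map_mul, mul_comm, h1, mul_comm]

end Groth.Agent.S2111
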