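import Groth.Statements.S16428
import Groth.Agent.H26.FibreRegStalk
import Groth.Agent.H26.SchDense
import Groth.Agent.H26.Purity
import Groth.Agent.Lib.Regular.Quotient


set_option autoImplicit false
universe u
open CategoryTheory CategoryTheory.Limits AlgebraicGeometry TopologicalSpace
open RhoSh

namespace Groth.Agent.S16428

theorem aux {X S : Scheme.{u}} (f : X ⟶ S) [Smooth f] (U : X.Opens)
    (hU : ∀ x : X, x ∉ U → (2 : WithBot ℕ∞) ≤ ringKrullDim (CInt.fiberStalk f x)) :
    CInt.IsSchematicallyDense U := by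
  refine Groth.Agent.H26.SchDense.of_forall_eq_zero fun V s hs => ?_
  apply TopCat.Presheaf.section_ext X.sheaf V
  intro x hxV
  show X.presheaf.germ V x hxV s = X.presheaf.germ V x hxV 0
  rw [map_zero]
  by_cases hxU : x ∈ U
  · have := X.presheaf.germ_res_apply (homOfLE (inf_le_left : V ⊓ U ≤ V)) x ⟨hxV, hxU⟩ s
    rw [hs, map_zero] at this
    exact this.symm
  -- the generic point of the fibre through `x`
  let F := f.fiber (f x)
  let ι := f.fiberι (f x)
  let a := f.asFiber x
  have := Groth.Agent.H26.FibreRegStalk.isRegularLocalRing_fiberStalk f x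
  have hdom : IsDomain (F.presheaf.stalk a) := Groth.Agent.Lib.Regular.Quotient.isDomain _
  let z := F.fromSpecStalk a ⟨⊥, Ideal.isPrime_bot⟩
  have hza : z ⤳ a := (Scheme.range_fromSpecStalk (X := F) (x := a)).le ⟨_, rfl⟩
  have hz : ringKrullDim (CInt.fiberStalk f (ι z)) = 0 := by
    rw [← Groth.Agent.H26.FibreDim.dim_stalk_fiber_eq f z rfl,
      Groth.Agent.H26.Purity.ringKrullDim_stalk_fromSpecStalk, Ideal.height_bot]
    rfl
  have hzx : ι z ⤳ x := by
    have := hza.map ι.continuous
    rwa [show ι a = x from f.fiberι_asFiber x] at this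
  have hzU : ι z ∈ U := by
    by_contra h
    have := hU _ h
    rw [hz] at this
    exact absurd (WithBot.coe_le_coe.mp this : (2 : ℕ∞) ≤ 0) (by simp)
  obtain ⟨W, hW, hxW, hWV⟩ := exists_isAffineOpen_mem_and_subset (X := X) (x := x) (U := V) hxV
  have hWV' : W ≤ V := fun w hw => hWV hw
  obtain ⟨h, hhU, hhz⟩ := hW.exists_basicOpen_le (⟨ι z, hzU⟩ : U) (hzx.mem_open W.2 hxW)
  let g := X.presheaf.germ W x hxW h
  have hgm : g ∈ IsLocalRing.maximalIdeal (X.presheaf.stalk x) := fun hu =>
    hxU (hhU ((X.mem_basicOpen h x hxW).mpr hu))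
  obtain ⟨φ, hφs, hφk⟩ := Groth.Agent.H46.FiberStalk.exists_surjective_stalk f (f x) a x
    (f.fiberι_asFiber x)
  have hga : g ∉ (IsLocalRing.maximalIdeal (S.presheaf.stalk (f x))).map (f.stalkMap x).hom := by
    intro hmem
    have hunit : IsUnit ((ι.stalkMap z) (X.presheaf.germ W (ι z) (hzx.mem_open W.2 hxW) h)) :=
      ((X.mem_basicOpen h (ι z) _).mp hhz).map _
    have hιa : ι a = x := f.fiberι_asFiber x
    have h0 : ι.stalkMap a (X.presheaf.germ W (ι a) (by rw [hιa]; exact hxW) h) = 0 := by
      refine RingHom.mem_ker.mp ((Groth.Agent.H46.FiberStalk.ker_stalkMap_fiberι f (f x) a).ge ?_)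
      have : ∀ (y : X) (hy : y = x) (hyW : y ∈ W), X.presheaf.germ W y hyW h ∈
          (IsLocalRing.maximalIdeal (S.presheaf.stalk (f y))).map (f.stalkMap y).hom := by
        rintro y rfl hyW; exact hmem
      exact this _ hιa _
    rw [Scheme.Hom.germ_stalkMap_apply] at hunit h0
    rw [← F.presheaf.germ_stalkSpecializes_apply (show a ∈ ι ⁻¹ᵁ W by
      show ι a ∈ W; rw [hιa]; exact hxW) hza, h0, map_zero] at hunit
    exact not_isUnit_zero hunit
  have hreg : RingTheory.Sequence.IsWeaklyRegular (X.presheaf.stalk x) [g] := by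
    refine Groth.Agent.H26.FibreRegStalk.weaklyRegular_stalk f x (Flat.stalkMap f x) [g]
      (by simpa using hgm) ((RingTheory.Sequence.isWeaklyRegular_singleton_iff _ g).mpr
        (IsSMulRegular.of_right_eq_zero_of_smul fun w hw => ?_))
    obtain ⟨w, rfl⟩ := Ideal.Quotient.mk_surjective w
    change Ideal.Quotient.mk _ (g * w) = 0 at hw
    rw [Ideal.Quotient.eq_zero_iff_mem, ← hφk, RingHom.mem_ker, map_mul] at hw
    rw [Ideal.Quotient.eq_zero_iff_mem, ← hφk, RingHom.mem_ker]
    refine (mul_eq_zero.mp hw).resolve_left ?_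
    rwa [← RingHom.mem_ker, hφk]
  -- kill the germ
  let t := X.presheaf.map (homOfLE hWV').op s
  have hres : X.presheaf.map (homOfLE (X.basicOpen_le h)).op t = 0 := by
    have hle : X.basicOpen h ≤ V ⊓ U := le_inf ((X.basicOpen_le h).trans hWV') hhU
    have e : X.presheaf.map (homOfLE (X.basicOpen_le h)).op t =
        X.presheaf.map (homOfLE hle).op
          (X.presheaf.map (homOfLE (inf_le_left : V ⊓ U ≤ V)).op s) := by
      simp only [t]
      rw [← CommRingCat.comp_apply, ← CommRingCat.comp_apply, ← X.presheaf.map_comp,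
        ← X.presheaf.map_comp]
      rfl
    rw [e, hs, map_zero]
  have := hW.isLocalization_basicOpen h
  obtain ⟨⟨_, N, rfl⟩, hN⟩ := (IsLocalization.map_eq_zero_iff (Submonoid.powers h) Γ(X, X.basicOpen h)
    t).mp hres
  have h1 : g ^ N * X.presheaf.germ V x hxV s = 0 := by
    rw [← X.presheaf.germ_res_apply (homOfLE hWV') x hxW s, ← map_pow, ← map_mul]
    exact (congrArg _ hN).trans (map_zero _)
  exact (((RingTheory.Sequence.isWeaklyRegular_singleton_iff _ g).mp hreg).pow N).right_eq_zero_of_smul
    h1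

/-- Let X be a smooth, proper, geometrically irreducible scheme over a field k admitting an ample
invertible sheaf, S a k-scheme, and U a big open subset of X ×_k S, i.e. at every point outside U
the local ring of the fibre over S has Krull dimension at least 2. Then U is schematically dense in
X ×_k S: restriction of functions from any open V to V ∩ U is injective. -/
theorem result
    (k : Type u) [Field k] (X S : Scheme.{u})
    (a : X ⟶ Spec (CommRingCat.of k)) (b : S ⟶ Spec (CommRingCat.of k))
    [Smooth a] [IsProper a] [GeometricallyIrreducible a]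
    (hproj : ∃ H : X.Modules, CohB1.IsAmple H)
    (U : (pullback a b).Opens)
    (hU : ∀ x : ↥(pullback a b), x ∉ U →
      (2 : WithBot ℕ∞) ≤ ringKrullDim ↑(CInt.fiberStalk (pullback.snd a b) x)) :
    CInt.IsSchematicallyDense U := by
  have : Smooth (pullback.snd a b) := MorphismProperty.pullback_snd (P := @Smooth) a b inferInstance
  exact aux (pullback.snd a b) U hU

end Groth.Agent.S16428
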