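import Groth.Statements.S8898
import Groth.Agent.Lib.Ideal.BlowUp

set_option autoImplicit false
universe u
open CategoryTheory CategoryTheory.Limits AlgebraicGeometry TopologicalSpace
open SDiv

namespace Groth.Agent.S8898

/-- Let X be a scheme, 𝓘 a quasi-coherent ideal sheaf and b : X' ⟶ X a blowing up of X in 𝓘. Then the
pullback b⁻¹D is defined for every effective Cartier divisor D ⊆ X (the inverse image ideal of the
ideal of D is again the ideal of an effective Cartier divisor), and pullbacks of meromorphic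
functions are defined for b (b carries regular sections of O_X, i.e. sections whose germs are
nonzerodivisors, to regular sections of O_{X'}). -/
theorem result {X X' : Scheme.{u}} (𝓘 : X.IdealSheafData) (b : X' ⟶ X) (hb : BlowUp.IsBlowUp b 𝓘) :
    (∀ 𝓓 : X.IdealSheafData, BlowUp.IsEffCartierIdeal 𝓓 → BlowUp.IsEffCartierIdeal (𝓓.comap b)) ∧
      ∀ (U : X.Opens) (s : Γ(X, U)), s ∈ Mero.regSub X U → b.app U s ∈ Mero.regSub X' (b ⁻¹ᵁ U) := by
  exact ⟨fun 𝓓 hD => Groth.Agent.Lib.Ideal.BlowUp.isEffCartier_comap_blowUp hb hD, fun U s hs x =>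
    Groth.Agent.Lib.Ideal.BlowUp.germ_app_mem_nonZeroDivisors hb s (fun y hy => hs ⟨y, hy⟩) x.1 x.2⟩

end Groth.Agent.S8898
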