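import Groth.Statements.S9197
import Groth.Agent.Lib.Lim.Props
import Groth.Agent.H2.FlatDescend.Model
-- import your own Groth.Agent.* helpers here

set_option autoImplicit false
universe u
open CategoryTheory AlgebraicGeometry
open Lim

namespace Groth.Agent.S9197

set_option backward.isDefEq.respectTransparency false

open Groth.Agent.Lib.Lim.Descend in
/-- Finite, flat and locally of finite presentation descends together. -/
theorem descends_aux :
    Descends.{u} ((@IsFinite : MorphismProperty Scheme.{u}) ⊓ H2.FlatDescend.flatFp)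
      @LocallyOfFinitePresentation := by
  intro I _ _ D c hc hD i₀ hcD hqD X₀ f₀ hcX hqX hQ X f qX hX hP
  have : MorphismProperty.IsStableUnderBaseChange (H2.FlatDescend.flatFp : MorphismProperty Scheme.{u}) :=
    MorphismProperty.IsStableUnderBaseChange.inf
  have : LocallyOfFinitePresentation f₀ := hQ
  obtain ⟨i₁, φ₁, h₁⟩ := Lib.Lim.Props.isFinite_descends D c hc hD i₀ hcD hqD f₀ hcX hqX
    inferInstance f qX hX hP.1
  obtain ⟨i₂, φ₂, h₂⟩ := H2.FlatDescend.flatFp_descends D c hc hD i₀ hcD hqD f₀ hcX hqX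
    hQ f qX hX hP.2
  obtain ⟨k, a, b, hab⟩ := IsCofiltered.cospan φ₁ φ₂
  refine ⟨k, a ≫ φ₁, ?_, ?_⟩
  · exact prop_of_factor h₁ (D.map a) (D.map_comp _ _).symm (IsPullback.of_hasPullback _ _)
  · exact prop_of_factor h₂ (D.map b) ((D.map_comp _ _).symm.trans (congrArg D.map hab.symm))
      (IsPullback.of_hasPullback _ _)

/-- Let S = lim S_i be a cofiltered limit of schemes with affine transition morphisms, S_{i₀} a
quasi-compact quasi-separated stage, f₀ : X₀ → Y₀ a morphism of quasi-compact quasi-separated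
schemes over S_{i₀}, and f : X → Y its base change along S → S_{i₀} (base changes expressed by
pullback squares). Let d be a natural number. If f₀ is locally of finite presentation and f is
finite locally free of degree d (finite, flat, locally of finite presentation, with rank function
constant equal to d), then for some index i over i₀ the base change f_i : X_i → Y_i of f₀ along S_i
→ S_{i₀} is finite locally free of degree d. -/
theorem result {I : Type u} [SmallCategory I] [IsCofiltered I]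
    (D : I ⥤ Scheme.{u}) (c : Limits.Cone D) (hc : Limits.IsLimit c)
    [∀ (i j : I) (f : i ⟶ j), IsAffineHom (D.map f)] (i₀ : I) [CompactSpace (D.obj i₀)]
    [QuasiSeparatedSpace (D.obj i₀)] {X₀ Y₀ : Scheme.{u}} (f₀ : X₀ ⟶ Y₀) (g₀ : Y₀ ⟶ D.obj i₀)
    [CompactSpace X₀] [QuasiSeparatedSpace X₀] [CompactSpace Y₀] [QuasiSeparatedSpace Y₀]
    [LocallyOfFinitePresentation f₀] (d : ℕ)
    {X Y : Scheme.{u}} (f : X ⟶ Y) (g : Y ⟶ c.pt) (qY : Y ⟶ Y₀) (qX : X ⟶ X₀)
    (hY : IsPullback qY g g₀ (c.π.app i₀)) (hX : IsPullback qX f f₀ qY) (hf : Mor2.IsFinLocFreeOfDeg d f) :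
    ∃ (i : I) (φ : i ⟶ i₀) (Xi Yi : Scheme.{u}) (fi : Xi ⟶ Yi) (gi : Yi ⟶ D.obj i) (pY : Yi ⟶ Y₀)
      (pX : Xi ⟶ X₀), IsPullback pY gi g₀ (D.map φ) ∧ IsPullback pX fi f₀ pY ∧ Mor2.IsFinLocFreeOfDeg d fi := by
  obtain ⟨⟨hfin, hflat, hlfp⟩, hrank⟩ := hf
  have : MorphismProperty.IsStableUnderBaseChange (H2.FlatDescend.flatFp : MorphismProperty Scheme.{u}) :=
    MorphismProperty.IsStableUnderBaseChange.inf
  have : MorphismProperty.IsStableUnderBaseChange
      ((@IsFinite : MorphismProperty Scheme.{u}) ⊓ H2.FlatDescend.flatFp) :=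
    MorphismProperty.IsStableUnderBaseChange.inf
  have : MorphismProperty.RespectsIso (C := Scheme.{u}) @LocallyOfFinitePresentation :=
    MorphismProperty.IsStableUnderBaseChange.respectsIso
  -- descend "finite, flat, locally of finite presentation"
  obtain ⟨i, φ, Xi, Yi, fi, gi, pY, pX, h1, h2, h3⟩ :=
    Lib.Lim.Descend.descend_over descends_aux D c hc i₀ f₀ g₀ f g qY qX hY hX inferInstance
      ⟨hfin, hflat, hlfp⟩
  obtain ⟨hfin', hflat', hlfp'⟩ := h3
  -- move to the standard model of `Y_i`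
  have hA : ∀ {i j : I} (g : i ⟶ j), IsAffineHom (D.map g) := fun g => inferInstance
  let j : Over i₀ := Over.mk φ
  let f' : Xi ⟶ Limits.pullback g₀ (D.map φ) := fi ≫ h1.isoPullback.hom
  have h2' : IsPullback pX f' f₀ (Limits.pullback.fst g₀ (D.map φ)) :=
    h2.of_iso (Iso.refl _) (Iso.refl _) h1.isoPullback (Iso.refl _) (by simp) (by simp [f'])
      (by simp) (by simp)
  have : IsFinite f' := inferInstanceAs (IsFinite (fi ≫ _))
  have : Flat f' := inferInstanceAs (Flat (fi ≫ _))
  have : LocallyOfFinitePresentation f' :=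
    inferInstanceAs (LocallyOfFinitePresentation (fi ≫ _))
  -- the rank on the limit
  have hπ : (Lib.Lim.Basic.bcCone hY.w).π.app j ≫ Limits.pullback.fst g₀ (D.map φ) = qY :=
    Lib.Lim.Basic.bcCone_π_fst hY.w j
  have hw : qX ≫ f₀ = (f ≫ (Lib.Lim.Basic.bcCone hY.w).π.app j) ≫ Limits.pullback.fst g₀ (D.map φ) := by
    rw [Category.assoc]
    exact hX.w.trans (congrArg (f ≫ ·) hπ.symm)
  let l : X ⟶ Xi := h2'.lift qX (f ≫ (Lib.Lim.Basic.bcCone hY.w).π.app j) hw
  have hl : IsPullback l f f' ((Lib.Lim.Basic.bcCone hY.w).π.app j) := by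
    refine IsPullback.of_right ?_ (h2'.lift_snd _ _ _) h2'
    rw [h2'.lift_fst]
    exact hπ.symm ▸ hX
  let U : (Limits.pullback g₀ (D.map φ)).Opens :=
    ⟨{y | f'.finrank y = d}, (Scheme.Hom.isLocallyConstant_finrank f').isOpen_fiber d⟩
  have : ∀ k, CompactSpace ((Lib.Lim.Basic.bcDiagram D g₀).obj k) :=
    fun k => Lib.Lim.Basic.compactSpace_bcDiagram D g₀ k
  obtain ⟨k, ψ, hψ⟩ := exists_map_eq_top (Lib.Lim.Basic.bcDiagram D g₀) (Lib.Lim.Basic.bcCone hY.w)
    (Lib.Lim.Basic.isLimitBcCone hc hY) (i := j) U (by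
      refine eq_top_iff.mpr fun y _ => ?_
      exact (Scheme.Hom.finrank_of_isPullback l f f' _ hl y).symm.trans (hrank y))
  let m : Limits.pullback g₀ (D.map k.hom) ⟶ Limits.pullback g₀ (D.map φ) :=
    (Lib.Lim.Basic.bcDiagram D g₀).map ψ
  have hm : m ≫ Limits.pullback.fst g₀ (D.map φ) = Limits.pullback.fst g₀ (D.map k.hom) :=
    Lib.Lim.Basic.bcDiagram_map_fst D g₀ ψ
  refine ⟨k.left, k.hom, Limits.pullback f' m, _, Limits.pullback.snd f' m,
    Limits.pullback.snd g₀ (D.map k.hom), Limits.pullback.fst g₀ (D.map k.hom),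
    Limits.pullback.fst f' m ≫ pX, IsPullback.of_hasPullback _ _, ?_, ⟨⟨?_, ?_, ?_⟩, ?_⟩⟩
  · exact hm ▸ (IsPullback.of_hasPullback f' m).paste_horiz h2'
  · exact MorphismProperty.pullback_snd (P := @IsFinite) _ _ inferInstance
  · exact MorphismProperty.pullback_snd (P := @Flat) _ _ inferInstance
  · exact MorphismProperty.pullback_snd (P := @LocallyOfFinitePresentation) _ _ inferInstance
  · intro y
    rw [Scheme.Hom.finrank_pullback_snd]
    exact (hψ.ge (Set.mem_univ y) :)

end Groth.Agent.S9197
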