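import Groth.Statements.S9220
import Groth.Agent.Lib.Lim.IdealDescend
-- import your own Groth.Agent.* helpers here

set_option autoImplicit false
universe u
open CategoryTheory AlgebraicGeometry
open Lim

namespace Groth.Agent.S9220

/-- Let S = lim S_i be a cofiltered limit of quasi-compact quasi-separated schemes with affine
transition morphisms, and let I be a quasi-coherent sheaf of ideals of finite type on S (its ideal
of sections on every affine open is finitely generated). Then for some index i there is a
quasi-coherent sheaf of ideals of finite type I_i on S_i such that I = I_i · O_S, the pullback ideal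
sheaf along S → S_i. -/
theorem result {I : Type u} [SmallCategory I] [IsCofiltered I]
    (D : I ⥤ Scheme.{u}) (c : Limits.Cone D) (hc : Limits.IsLimit c)
    [∀ (i j : I) (f : i ⟶ j), IsAffineHom (D.map f)] [∀ i, CompactSpace (D.obj i)]
    [∀ i, QuasiSeparatedSpace (D.obj i)] (J : c.pt.IdealSheafData)
    (hJ : ∀ U : c.pt.affineOpens, (J.ideal U).FG) :
    ∃ (i : I) (Ji : (D.obj i).IdealSheafData), (∀ U : (D.obj i).affineOpens, (Ji.ideal U).FG) ∧
      Ji.comap (c.π.app i) = J := by
  have : ∀ {i j : I} (f : i ⟶ j), IsAffineHom (D.map f) := fun f => inferInstance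
  exact Groth.Agent.Lib.Lim.IdealDescend.exists_comap_eq D c hc J hJ

end Groth.Agent.S9220
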