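import Groth.Statements.S13342
import Groth.Agent.H30.SysLemmas

set_option autoImplicit false
open CategoryTheory CategoryTheory.Limits
universe u
open FCompl

namespace Groth.Agent.S13342

open AlgebraicGeometry in
/-- The formal prescheme induced on an open subset of a formal prescheme (resp. of a locally Noetherian
formal prescheme, resp. of a Noetherian formal prescheme) is a formal prescheme (resp. a locally
Noetherian formal prescheme, resp. a Noetherian formal prescheme). In the presentation by systems of
thickenings with common underlying space: for an open U, the induced system (the open subschemes of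
the levels over U with the restricted transition maps) is again a system of thickenings; it is adic
with locally Noetherian levels when the given system is; and if moreover the common underlying space
is quasi-compact (a Noetherian formal prescheme), so is that of the induced system. -/
theorem result (𝔛 : FSch.Sys.{u}) (h : 𝔛.IsFormal) (U : (𝔛.X 0).Opens) :
    (𝔛.restrictOpen h U).IsFormal ∧ (𝔛.IsLocNoethFormal → (𝔛.restrictOpen h U).IsLocNoethFormal) ∧
      (𝔛.IsLocNoethFormal → CompactSpace (𝔛.X 0) → CompactSpace ((𝔛.restrictOpen h U).X 0)) := by
  have hA : FSch.IsAdicHom (𝔛.restrictOpenι h U) := by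
    intro n
    refine IsOpenImmersion.isPullback _ ((𝔛.lvU h n U).ι) ((𝔛.lvU h (n + 1) U).ι) _
      (Scheme.Hom.resLE_comp_ι _ (𝔛.lvU_le h n U)).symm ?_
    rw [Scheme.Opens.opensRange_ι, Scheme.Opens.opensRange_ι]
    exact 𝔛.lvU_succ h n U
  refine ⟨Groth.Agent.H30.SysLemmas.isFormal_of_isAdicHom hA h, fun hN => ?_, fun hN _ => ?_⟩
  all_goals have : IsLocallyNoetherian (𝔛.X 0) := hN.2.2 0
  all_goals have : IsLocallyNoetherian ((𝔛.restrictOpen h U).X 0) :=
    inferInstanceAs (IsLocallyNoetherian (𝔛.lvU h 0 U : Scheme.{u}))
  · exact Groth.Agent.H30.SysLemmas.isLocNoethFormal_of_isAdicHom hA hN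
  · have : IsNoetherian (𝔛.X 0) := { }
    exact isCompact_iff_compactSpace.mp (TopologicalSpace.NoetherianSpace.isCompact _)

end Groth.Agent.S13342
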