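import Groth.Statements.S13337
import Groth.Agent.H30.FSch.CohRed

set_option autoImplicit false
open CategoryTheory CategoryTheory.Limits
universe u
open FCompl

namespace Groth.Agent.S13337

open AlgebraicGeometry in
/-- On a locally Noetherian formal scheme presented as an adic system of locally Noetherian thickenings
with common underlying space, for two systems of coherent modules on the levels with compatible
transition isomorphisms, the map sending a morphism of systems to the induced morphism between the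
attached O_𝔛-modules (limits of direct images) is bijective: Hom_{O_𝔛}(𝔉, 𝔊) is the limit of the
Hom_{O_{X_n}}(F_n, G_n). -/
theorem result (𝔛 : FSch.Sys.{u}) (h𝔛 : 𝔛.IsLocNoethFormal) (𝔐 𝔑 : FSch.ModSys 𝔛)
    (h𝔐 : 𝔐.IsCoh) (h𝔑 : 𝔑.IsCoh) :
    Function.Bijective (fun φ : 𝔐 ⟶ 𝔑 => FSch.ModSys.realModMap h𝔛.1 φ) := by
  have hR := fun k => Groth.Agent.H30.CohRed.isRed h𝔛 𝔐 h𝔐 k
  have hproj : ∀ (φ : 𝔐 ⟶ 𝔑) k, FSch.ModSys.realModMap h𝔛.1 φ ≫ FSch.realProj 𝔛 h𝔛.1 𝔑.F 𝔑.toPush k =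
      FSch.realProj 𝔛 h𝔛.1 𝔐.F 𝔐.toPush k ≫ (FSch.levelMor 𝔛 h𝔛.1 k).push.map (φ.app k) :=
    fun φ k => FSch.realLimMap_realProj 𝔛 h𝔛.1 φ.app (FSch.ModSys.Hom.toPush_comm φ) k
  refine ⟨fun φ ψ hφψ => ?_, fun Φ => ?_⟩
  · refine FSch.ModSys.Hom.ext (funext fun k => ((Groth.Agent.H30.LevelAdj.bijective (hR k) _).1 ?_))
    exact (hproj φ k).symm.trans ((congrArg (· ≫ _) hφψ).trans (hproj ψ k))
  · choose a ha using fun k => (Groth.Agent.H30.LevelAdj.bijective (hR k) (𝔑.F k)).2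
      (Φ ≫ FSch.realProj 𝔛 h𝔛.1 𝔑.F 𝔑.toPush k)
    have ha' : ∀ k, FSch.realProj 𝔛 h𝔛.1 𝔐.F 𝔐.toPush k ≫ (FSch.levelMor 𝔛 h𝔛.1 k).push.map (a k) =
        Φ ≫ FSch.realProj 𝔛 h𝔛.1 𝔑.F 𝔑.toPush k := ha
    have hcomm : ∀ k, 𝔐.toPush k ≫ (Scheme.Modules.pushforward (𝔛.ι k)).map (a k) =
        a (k + 1) ≫ 𝔑.toPush k := by
      intro k
      refine (Groth.Agent.H30.LevelAdj.bijective (hR (k + 1)) _).1 ?_
      haveI : Mono ((FSch.pushCompare 𝔛 h𝔛.1 k).app (𝔑.F k)) :=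
        haveI := IsIso.mk ⟨_, FSch.pushCompare_pushCompareInv 𝔛 h𝔛.1 k (𝔑.F k),
          FSch.pushCompareInv_pushCompare 𝔛 h𝔛.1 k (𝔑.F k)⟩
        inferInstance
      refine (cancel_mono ((FSch.pushCompare 𝔛 h𝔛.1 k).app (𝔑.F k))).1 ?_
      set P := (FSch.levelMor 𝔛 h𝔛.1 (k + 1)).push
      set Q := (FSch.levelMor 𝔛 h𝔛.1 k).push
      let C := fun (G : (𝔛.X k).Modules) => (FSch.pushCompare 𝔛 h𝔛.1 k).app G
      have nat : P.map ((Scheme.Modules.pushforward (𝔛.ι k)).map (a k)) ≫ C (𝔑.F k) =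
          C (𝔐.F k) ≫ Q.map (a k) :=
        (FSch.pushCompare 𝔛 h𝔛.1 k).naturality (a k)
      have eM : FSch.realProj 𝔛 h𝔛.1 𝔐.F 𝔐.toPush (k + 1) ≫ P.map (𝔐.toPush k) ≫ C (𝔐.F k) =
          FSch.realProj 𝔛 h𝔛.1 𝔐.F 𝔐.toPush k := FSch.realProj_map 𝔛 h𝔛.1 𝔐.F 𝔐.toPush k
      have eN : FSch.realProj 𝔛 h𝔛.1 𝔑.F 𝔑.toPush (k + 1) ≫ P.map (𝔑.toPush k) ≫ C (𝔑.F k) =
          FSch.realProj 𝔛 h𝔛.1 𝔑.F 𝔑.toPush k := FSch.realProj_map 𝔛 h𝔛.1 𝔑.F 𝔑.toPush k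
      have m1 : P.map (𝔐.toPush k ≫ (Scheme.Modules.pushforward (𝔛.ι k)).map (a k)) =
          P.map (𝔐.toPush k) ≫ P.map ((Scheme.Modules.pushforward (𝔛.ι k)).map (a k)) := P.map_comp _ _
      have m2 : P.map (a (k + 1) ≫ 𝔑.toPush k) = P.map (a (k + 1)) ≫ P.map (𝔑.toPush k) := P.map_comp _ _
      show (FSch.realProj 𝔛 h𝔛.1 𝔐.F 𝔐.toPush (k + 1) ≫ _) ≫ C (𝔑.F k) = (_ ≫ _) ≫ C (𝔑.F k)
      refine (congrArg (fun z => (_ ≫ z) ≫ C (𝔑.F k)) m1).trans (Eq.trans ?_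
        (congrArg (fun z => (_ ≫ z) ≫ C (𝔑.F k)) m2).symm)
      refine (Category.assoc _ _ _).trans ?_
      refine Eq.trans (congrArg (_ ≫ ·) (Category.assoc _ _ _)) ?_
      refine Eq.trans (congrArg (fun z => _ ≫ _ ≫ z) nat) ?_
      refine Eq.trans (congrArg (_ ≫ ·) (Category.assoc _ _ _).symm) ?_
      refine Eq.trans (Category.assoc _ _ _).symm ?_
      refine Eq.trans (congrArg (· ≫ _) eM) ?_
      refine Eq.trans (ha' k) ?_
      refine Eq.trans (congrArg (Φ ≫ ·) eN.symm) ?_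
      refine Eq.trans (Category.assoc _ _ _).symm ?_
      refine Eq.trans (congrArg (· ≫ _) (ha' (k + 1)).symm) ?_
      refine Eq.trans (Category.assoc _ _ _) ?_
      refine Eq.trans (congrArg (_ ≫ ·) (Category.assoc _ _ _).symm) ?_
      exact (Category.assoc _ _ _).symm
    let φ : 𝔐 ⟶ 𝔑 := ⟨a, fun k => ((Scheme.Modules.pullbackPushforwardAdjunction (𝔛.ι k)).homEquiv _ _).injective
      (by rw [Adjunction.homEquiv_naturality_left, Adjunction.homEquiv_naturality_right]; exact (hcomm k).symm)⟩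
    refine ⟨φ, limit.hom_ext fun k => ?_⟩
    exact (hproj φ k.unop).trans (ha' k.unop)

end Groth.Agent.S13337
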