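import Groth.Statements.S1534
import Groth.Agent.Lib.Curves.GlobalSections
import Groth.Agent.Lib.FEt.AppBijective
import Groth.Agent.Lib.Depth.CM
import Groth.Agent.Lib.Cyc.TorPD
import Groth.Agent.Lib.Cyc.DimFun

set_option autoImplicit false
universe u
open CategoryTheory CategoryTheory.Limits AlgebraicGeometry
open Curves

namespace Groth.Agent.S1534

section Aux
open IsLocalRing TopologicalSpace

variable {k : Type u} [Field k] {X : Scheme.{u}} [X.Over (Spec (CommRingCat.of k))]

/-- The constants as global functions. -/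
noncomputable abbrev tg : k →+* Γ(X, ⊤) := Coh.toGlobal (X ↘ Spec (CommRingCat.of k))

lemma lt_of_specializes {a b : X} (h : a ⤳ b) (hne : a ≠ b) :
    (⟨closure {b}, isIrreducible_singleton.closure, isClosed_closure⟩ : IrreducibleCloseds X) <
      ⟨closure {a}, isIrreducible_singleton.closure, isClosed_closure⟩ := by
  refine lt_of_le_of_ne ?_ fun e => hne ?_
  · exact closure_minimal (Set.singleton_subset_iff.mpr h.mem_closure) isClosed_closure
  · exact (inseparable_iff_closure_eq.mpr (congrArg (fun Z : IrreducibleCloseds X => (Z : Set X)) e)).eq.symm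

lemma false_of_chain {x y z : X} (h : topologicalKrullDim X ≤ 1) (hzx : z ⤳ x) (hxy : x ⤳ y)
    (h1 : z ≠ x) (h2 : x ≠ y) : False := by
  let cl : X → IrreducibleCloseds X := fun a => ⟨closure {a}, isIrreducible_singleton.closure, isClosed_closure⟩
  let s : LTSeries (IrreducibleCloseds X) := LTSeries.mk 2 ![cl y, cl x, cl z] (Fin.strictMono_iff_lt_succ.mpr fun i => by
    fin_cases i
    · exact lt_of_specializes hxy h2
    · exact lt_of_specializes hzx h1)
  have := (Order.LTSeries.length_le_krullDim s).trans h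
  simp [s] at this


lemma exists_eq_toGlobal
    (h0 : Module.finrank k (Coh.HH X (Coh.structureModule X) 0) = 1) [Nonempty X] (t : Γ(X, ⊤)) :
    ∃ c : k, tg (X := X) c = t := by
  letI : Algebra k Γ(X, ⊤) := (tg (k := k) (X := X)).toAlgebra
  letI := Groth.Agent.Lib.Curves.GlobalSections.secModule k (Coh.structureModule X)
  have h : Module.finrank k Γ(X, ⊤) = 1 :=
    (Groth.Agent.Lib.Curves.GlobalSections.h0Linear k (Coh.structureModule X)).finrank_eq.symm.trans h0
  haveI : Nonempty (⊤ : X.Opens) := ⟨⟨Classical.arbitrary X, trivial⟩⟩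
  haveI : Nontrivial Γ(X, ⊤) := inferInstance
  obtain ⟨c, hc⟩ := (finrank_eq_one_iff_of_nonzero' (1 : Γ(X, ⊤)) one_ne_zero).mp h t
  exact ⟨c, by rw [Algebra.smul_def, mul_one] at hc; exact hc⟩

lemma connectedSpace_of_h0 (h0 : Module.finrank k (Coh.HH X (Coh.structureModule X) 0) = 1)
    [Nonempty X] : ConnectedSpace X := by
  refine connectedSpace_iff_clopen.mpr ⟨‹_›, fun C hC => ?_⟩
  obtain ⟨e, he, heC⟩ := Groth.Agent.Lib.FEt.AppBijective.exists_idempotent_of_isClopen hC
  obtain ⟨c, rfl⟩ := exists_eq_toGlobal h0 e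
  rcases eq_or_ne c 0 with rfl | hc
  · left
    rw [← heC, map_zero, Scheme.basicOpen_zero]
    rfl
  · right
    rw [← heC, Scheme.basicOpen_of_isUnit _ ((isUnit_iff_ne_zero.mpr hc).map _)]
    rfl

lemma eq_zero_of_annihilated (h0 : Module.finrank k (Coh.HH X (Coh.structureModule X) 0) = 1)
    [IsLocallyNoetherian X] (hne : ∀ x : X, ∃ y, y ≠ x) {x : X} (hx : IsClosed ({x} : Set X))
    (a : X.presheaf.stalk x) (ha : ∀ r ∈ maximalIdeal (X.presheaf.stalk x), r * a = 0) : a = 0 := by
  haveI : Nonempty X := ⟨x⟩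
  obtain ⟨U, hU, hxU, -⟩ := exists_isAffineOpen_mem_and_subset (Opens.mem_top x)
  haveI : IsNoetherianRing Γ(X, U) := IsLocallyNoetherian.component_noetherian ⟨U, hU⟩
  letI := TopCat.Presheaf.algebra_section_stalk X.presheaf (⟨x, hxU⟩ : U)
  haveI := hU.isLocalization_stalk ⟨x, hxU⟩
  let p := (hU.primeIdealOf ⟨x, hxU⟩).asIdeal
  obtain ⟨⟨r, u⟩, hru⟩ := IsLocalization.surj p.primeCompl a
  obtain ⟨G, hG⟩ := (IsNoetherian.noetherian p : p.FG)
  have hk : ∀ g ∈ G, ∃ t : p.primeCompl, (t : Γ(X, U)) * (g * r) = 0 := fun g hg => by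
    refine (IsLocalization.map_eq_zero_iff p.primeCompl (X.presheaf.stalk x) _).mp ?_
    rw [map_mul, ← hru, ← mul_assoc, ha _ ?_, zero_mul]
    exact (IsLocalization.AtPrime.to_map_mem_maximal_iff _ p g).mpr (hG ▸ Ideal.subset_span hg)
  choose t ht using hk
  let T : p.primeCompl := ∏ g ∈ G.attach, t g.1 g.2
  let s : Γ(X, U) := (T : Γ(X, U)) * r
  have hs : ∀ g ∈ p, g * s = 0 := fun g hg => by
    rw [← hG] at hg
    induction hg using Submodule.span_induction with
    | mem g hg =>
      obtain ⟨c, hc⟩ : (t g hg : p.primeCompl) ∣ T := Finset.dvd_prod_of_mem _ (Finset.mem_attach G ⟨g, hg⟩)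
      have : (T : Γ(X, U)) = (t g hg : Γ(X, U)) * (c : Γ(X, U)) := by rw [hc]; rfl
      calc g * s = ((t g hg : Γ(X, U)) * (g * r)) * c := by simp only [s, this]; ring
        _ = 0 := by rw [ht g hg, zero_mul]
    | zero => simp
    | add a b _ _ ha hb => rw [add_mul, ha, hb, add_zero]
    | smul a b _ hb => rw [smul_eq_mul, mul_assoc, hb, mul_zero]
  have hsy : ∀ (y : X) (hy : y ∈ U), y ≠ x → X.presheaf.germ U y hy s = 0 := fun y hy hne => by
    let q := (hU.primeIdealOf ⟨y, hy⟩).asIdeal
    have hpq : ¬ p ≤ q := fun hle => hne (by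
      have h1 : hU.primeIdealOf ⟨x, hxU⟩ ⤳ hU.primeIdealOf ⟨y, hy⟩ :=
        (PrimeSpectrum.le_iff_specializes _ _).mp hle
      have h2 := h1.map hU.fromSpec.continuous
      rw [hU.fromSpec_primeIdealOf, hU.fromSpec_primeIdealOf] at h2
      exact h2.mem_closed hx rfl)
    obtain ⟨g, hg, hgq⟩ := SetLike.not_le_iff_exists.mp hpq
    letI := TopCat.Presheaf.algebra_section_stalk X.presheaf (⟨y, hy⟩ : U)
    haveI := hU.isLocalization_stalk ⟨y, hy⟩
    exact (IsLocalization.map_eq_zero_iff q.primeCompl (X.presheaf.stalk y) s).mpr ⟨⟨g, hgq⟩, hs g hg⟩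
  let V : X.Opens := ⟨{x}ᶜ, hx.isOpen_compl⟩
  let Us : Bool → X.Opens := fun i => if i then U else V
  let sec : ∀ i, Γ(X, Us i) := fun i => match i with | true => s | false => 0
  have hUV : ∀ (W : X.Opens) (hW : W ≤ U) (_ : W ≤ V), X.presheaf.map (homOfLE hW).op s = 0 :=
    fun W hW hW' => by
      refine TopCat.Presheaf.section_ext X.sheaf _ _ _ fun y hy => ?_
      refine Eq.trans ?_ (map_zero (X.presheaf.germ W y hy).hom).symm
      exact (TopCat.Presheaf.germ_res_apply _ _ _ hy s).trans (hsy y (hW hy) (hW' hy))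
  obtain ⟨τ, hτ, -⟩ := X.sheaf.existsUnique_gluing' Us ⊤ (fun _ => homOfLE le_top)
    (fun y _ => by
      by_cases hy : y = x
      · exact Opens.mem_iSup.mpr ⟨true, hy ▸ hxU⟩
      · exact Opens.mem_iSup.mpr ⟨false, hy⟩)
    sec (fun i j => by
      rcases i <;> rcases j
      · rfl
      · exact (map_zero _).trans (hUV _ inf_le_right inf_le_left).symm
      · exact (hUV _ inf_le_left inf_le_right).trans (map_zero _).symm
      · rfl)
  obtain ⟨c, rfl⟩ := exists_eq_toGlobal h0 τ
  have hc : c = 0 := by
    by_contra hc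
    obtain ⟨y, hy⟩ := hne x
    have h1 := congrArg (X.presheaf.germ V y hy) (hτ false)
    have h2 := ((isUnit_iff_ne_zero.mpr hc).map (tg (k := k) (X := X))).map
      (X.presheaf.germ ⊤ y trivial).hom
    refine not_isUnit_zero (?_ : IsUnit (0 : X.presheaf.stalk y))
    convert h2 using 1
    exact ((TopCat.Presheaf.germ_res_apply _ _ _ hy _).symm.trans (h1.trans (map_zero _))).symm
  have h3 := congrArg (X.presheaf.germ U x hxU) (hτ true)
  have h4 : algebraMap Γ(X, U) (X.presheaf.stalk x) s = 0 := by
    refine h3.symm.trans ?_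
    refine (TopCat.Presheaf.germ_res_apply _ _ _ hxU _).trans ?_
    rw [hc, map_zero, map_zero]
  rw [map_mul, ← hru, ← mul_assoc, mul_comm] at h4
  have hT : IsUnit (algebraMap Γ(X, U) (X.presheaf.stalk x) T) := IsLocalization.map_units _ T
  have hu : IsUnit (algebraMap Γ(X, U) (X.presheaf.stalk x) u) := IsLocalization.map_units _ u
  rw [mul_comm (algebraMap _ _ (T : Γ(X, U))) a, ← mul_assoc] at h4
  exact (hu.mul_right_eq_zero).mp ((hT.mul_left_eq_zero).mp h4)

end Aux

/-- A proper scheme of dimension one over a field k whose global functions are k is connected, all of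
its local rings are Cohen–Macaulay, and every irreducible component has dimension one. -/
theorem result (k : Type u) [Field k] (X : Scheme.{u}) [X.Over (Spec (CommRingCat.of k))]
    [IsProper (X ↘ (Spec (CommRingCat.of k)))] (hdim : topologicalKrullDim X = 1) (h0 : Module.finrank k (Coh.HH X (Coh.structureModule X) 0) = 1) :
    ConnectedSpace X ∧ (∀ x : X, LocCoh.IsCohenMacaulayLocalRing (X.presheaf.stalk x)) ∧
      ∀ Z ∈ irreducibleComponents (X : Type u), topologicalKrullDim Z = 1 :=  by
  haveI := Groth.Agent.Lib.Curves.GlobalSections.isNoetherian_of_proper k X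
  haveI : Nonempty X := by
    by_contra h
    haveI := not_nonempty_iff.mp h
    haveI : IsEmpty (TopologicalSpace.IrreducibleCloseds X) :=
      ⟨fun Z => IsEmpty.false (Z.isIrreducible.nonempty.some)⟩
    rw [topologicalKrullDim, Order.krullDim_eq_bot] at hdim
    exact WithBot.bot_ne_one hdim
  haveI := connectedSpace_of_h0 h0
  have hne : ∀ x : X, ∃ y, y ≠ x := fun x => by
    by_contra! h
    haveI : Subsingleton X := ⟨fun a b => (h a).trans (h b).symm⟩
    have h1 := topologicalKrullDim_zero_of_discreteTopology X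
    rw [hdim] at h1
    exact absurd h1 (by decide)
  refine ⟨inferInstance, fun x => ?_, ?_⟩
  · rw [Groth.Agent.Lib.Depth.CM.isCohenMacaulayLocalRing_iff]
    refine ((Groth.Agent.Lib.Cyc.TorPD.ringKrullDim_stalk_le x).trans hdim.le).trans' le_rfl |> fun h1 => ?_
    rcases eq_or_ne (ringKrullDim (X.presheaf.stalk x)) 0 with h | h
    · rw [h]; exact WithBot.coe_le_coe.mpr zero_le
    · have hd : LocCoh.depth (X.presheaf.stalk x) (X.presheaf.stalk x) ≠ 0 := fun hd => by
        have hx : IsClosed ({x} : Set X) := by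
          by_contra hx
          rw [Ne, Groth.Agent.Lib.Cyc.DimFun.ringKrullDim_stalk_eq_zero_iff] at h
          unfold Groth.Agent.Lib.Cyc.DimFun.IsMaxPt at h
          push Not at h
          obtain ⟨z, hz, hzx⟩ := h
          obtain ⟨y, hy, hyx⟩ : ∃ y, x ⤳ y ∧ x ≠ y := by
            by_contra! hh
            refine hx (closure_subset_iff_isClosed.mp fun y hy => ?_)
            exact (hh y (specializes_iff_mem_closure.mpr hy)).symm
          exact false_of_chain hdim.le hz hy hzx hyx
        obtain ⟨-, a, ha⟩ := isAssociatedPrime_iff.mp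
          ((Groth.Agent.Lib.Depth.Assoc.depth_eq_zero_iff _).mp hd)
        have ha0 : a = 0 := eq_zero_of_annihilated h0 hne hx a fun r hr => by
          rw [ha, Submodule.mem_colon_singleton] at hr
          simpa using hr
        exact (IsLocalRing.maximalIdeal.isMaximal (X.presheaf.stalk x)).ne_top (by
          rw [ha, ha0]; ext; simp [Submodule.mem_colon_singleton])
      refine h1.trans ?_
      exact_mod_cast (Order.one_le_iff_ne_zero.mpr hd)
  · intro Z hZ
    haveI : IrreducibleSpace Z := (Subtype.irreducibleSpace hZ.1)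
    refine le_antisymm ((topologicalKrullDim_subspace_le X Z).trans hdim.le) ?_
    by_contra hlt
    have hsub : ∀ a ∈ Z, ∀ b ∈ Z, a ⤳ b → a = b := fun a ha b hb hab => by
      by_contra hne'
      refine hlt ?_
      let a' : Z := ⟨a, ha⟩
      let b' : Z := ⟨b, hb⟩
      have h' : (⟨closure {b'}, isIrreducible_singleton.closure, isClosed_closure⟩ : TopologicalSpace.IrreducibleCloseds Z) <
          ⟨closure {a'}, isIrreducible_singleton.closure, isClosed_closure⟩ := by
        refine lt_of_le_of_ne ?_ fun e => hne' ?_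
        · exact closure_minimal (Set.singleton_subset_iff.mpr
            ((Topology.IsInducing.subtypeVal.specializes_iff).mp hab).mem_closure) isClosed_closure
        · exact congrArg Subtype.val (inseparable_iff_closure_eq.mpr
            (congrArg (fun W : TopologicalSpace.IrreducibleCloseds Z => (W : Set Z)) e)).eq.symm
      have := Order.LTSeries.length_le_krullDim (LTSeries.mk 1 ![_, _] (Fin.strictMono_iff_lt_succ.mpr fun i => by
        fin_cases i; exact h'))
      simpa [topologicalKrullDim] using this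
    have hcl := isClosed_of_mem_irreducibleComponents Z hZ
    obtain ⟨g, hg⟩ := QuasiSober.sober hZ.1 hcl
    have hZg : Z = {g} := by
      ext b
      exact ⟨fun hb => (hsub g (hg.mem) b hb (hg.specializes hb)).symm, fun hb => hb ▸ hg.mem⟩
    have hopen : IsOpen Z := by
      have hfin := TopologicalSpace.NoetherianSpace.finite_irreducibleComponents (α := X)
      have : Zᶜ = ⋃ W ∈ irreducibleComponents X \ {Z}, W := by
        ext b
        constructor
        · intro hb
          obtain ⟨W, hW, hbW⟩ : ∃ W ∈ irreducibleComponents X, b ∈ W :=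
            ⟨_, irreducibleComponent_mem_irreducibleComponents b, mem_irreducibleComponent⟩
          exact Set.mem_biUnion ⟨hW, fun e => hb (e ▸ hbW)⟩ hbW
        · intro hb hbZ
          obtain ⟨W, ⟨hW, hWZ⟩, hbW⟩ := Set.mem_iUnion₂.mp hb
          rw [hZg, Set.mem_singleton_iff] at hbZ
          have hle : Z ⊆ W := by rw [hZg, Set.singleton_subset_iff]; exact hbZ ▸ hbW
          exact hWZ (Set.Subset.antisymm (hZ.2 hW.1 hle) hle)
      rw [← isClosed_compl_iff, this]
      exact (hfin.subset Set.sdiff_subset).isClosed_biUnion fun W hW =>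
        isClosed_of_mem_irreducibleComponents W hW.1
    have huniv : Z = Set.univ := IsClopen.eq_univ ⟨hcl, hopen⟩ ⟨g, hg.mem⟩
    obtain ⟨y, hy⟩ := hne g
    exact hy (by simpa [hZg] using huniv.symm.subset (Set.mem_univ y))

end Groth.Agent.S1534
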