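import Groth.Statements.S16248
import Groth.Agent.S7789
import Groth.Agent.Lib.GrpSch.SmoothReduced
import Mathlib.AlgebraicGeometry.Morphisms.FlatMono

set_option autoImplicit false
universe u
open CategoryTheory CategoryTheory.Limits AlgebraicGeometry MonObj MonoidalCategory CartesianMonoidalCategory
open AgPol

namespace Groth.Agent.S16248

open Groth.Agent

section
variable {S : Scheme.{u}} (E : Over S) [GrpObj E]

/-- The `d`-torsion. -/
noncomputable abbrev tor (d : ℕ) : Scheme.{u} := pullback ((𝟙 E : E ⟶ E) ^ d).left (η[E].left)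

/-- The inclusion of the `d`-torsion. -/
noncomputable abbrev torι (d : ℕ) : tor E d ⟶ E.left := pullback.fst _ _

theorem one_left (W : Over S) : (1 : W ⟶ E).left = W.hom ≫ η[E].left := by
  rw [Hom.one_def, Over.comp_left, Over.toUnit_left]

theorem powId_comp (d : ℕ) {T : Over S} (Q : T ⟶ E) : Q ≫ (𝟙 E) ^ d = Q ^ d := by
  rw [MonObj.comp_pow, Category.comp_id]

theorem mono_torι (d : ℕ) : Mono (torι E d) := by
  haveI : Mono (η[E].left) := SplitMono.mono (f := η[E].left) ⟨E.hom, Over.w η[E]⟩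
  infer_instance

theorem torι_hom (d : ℕ) : torι E d ≫ E.hom = pullback.snd _ _ := by
  have h1 := (pullback.condition : torι E d ≫ ((𝟙 E : E ⟶ E) ^ d).left = _) =≫ E.hom
  rw [Category.assoc, Category.assoc, Over.w, Over.w η[E]] at h1
  exact h1.trans (Category.comp_id _)

theorem factor_iff (d : ℕ) {T : Over S} (Q : T ⟶ E) :
    (∃ w, w ≫ torι E d = Q.left) ↔ Q ^ d = 1 := by
  constructor
  · rintro ⟨w, hw⟩
    apply Over.OverMorphism.ext
    rw [← powId_comp E d Q, Over.comp_left, one_left, ← hw, Category.assoc, pullback.condition]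
    have h2 : w ≫ pullback.snd _ _ = T.hom := by
      rw [← torι_hom E d, reassoc_of% hw]
      exact Over.w Q
    rw [← Category.assoc, h2]
  · intro h
    refine ⟨pullback.lift Q.left T.hom ?_, pullback.lift_fst _ _ _⟩
    rw [← Over.comp_left, powId_comp E d Q, h, one_left]

theorem tor_finite_etale [IsProper E.hom] [Smooth E.hom] [GeometricallyConnected E.hom] (d : ℕ)
    (hd : IsUnit (d : Γ(S, ⊤))) : IsFinite (torι E d ≫ E.hom) ∧ Etale (torι E d ≫ E.hom) := by
  haveI : GeometricallyReduced E.hom := ⟨fun K _ y Y p q h => by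
    haveI : Smooth q := MorphismProperty.of_isPullback h ‹Smooth E.hom›
    exact Lib.GrpSch.isReduced_of_smooth_field q⟩
  have h := S7789.result E (d : ℤ) (by simpa using hd)
  simp only [zpow_natCast] at h
  haveI := h.1
  haveI := h.2
  rw [torι_hom]
  exact ⟨inferInstance, inferInstance⟩

theorem range_clopen [IsProper E.hom] [Smooth E.hom] [GeometricallyConnected E.hom] (d N : ℕ)
    (hd : IsUnit (d : Γ(S, ⊤))) (hN : IsUnit (N : Γ(S, ⊤))) (c : tor E d ⟶ tor E N) (hc : c ≫ torι E N = torι E d) :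
    IsClosed (Set.range c.base) ∧ IsOpenImmersion c := by
  haveI := mono_torι E d
  haveI : Mono c := mono_of_mono_fac hc
  haveI := (tor_finite_etale E d hd).1
  haveI := (tor_finite_etale E d hd).2
  haveI := (tor_finite_etale E N hN).1
  haveI := (tor_finite_etale E N hN).2
  haveI : IsFinite (c ≫ torι E N ≫ E.hom) := by rw [reassoc_of% hc]; infer_instance
  haveI : Etale (c ≫ torι E N ≫ E.hom) := by rw [reassoc_of% hc]; infer_instance
  haveI : IsFinite c := IsFinite.of_comp c (torι E N ≫ E.hom)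
  haveI : Etale c := Etale.of_comp c (torι E N ≫ E.hom)
  exact ⟨c.isClosedMap.isClosed_range, IsOpenImmersion.of_flat_of_mono c⟩

end

/-- Let E be an S-group scheme which is smooth and proper over S with geometrically connected fibres of
dimension one (a family of elliptic curves over S with its group law), and let N ≥ 1 be an integer
invertible on S. Consider, for an S-scheme T, the T-valued points Q of E with N·Q = 0 whose value at
every geometric point of T has order exactly N (for N invertible these are exactly the level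
structures of type ℤ/N sending 1 to Q). This functor is represented by an S-scheme Z which is finite
and étale over S: there are such a Z and a point P of E with values in Z having this property, such
that every Q with the property over any T is the pull-back of P along a unique S-morphism T → Z. -/
theorem result
    {S : Scheme.{u}} (E : Over S) [GrpObj E] (hE : AgPol.IsAbSch E 1)
    (N : ℕ) (hN : 1 ≤ N) (hNu : IsUnit (N : Γ(S, ⊤))) :
    ∃ (Z : Over S) (P : Z ⟶ E), IsFinite Z.hom ∧ Etale Z.hom ∧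
      (P ^ N = 1 ∧ ∀ (Ω : Type u) [Field Ω] [IsAlgClosed Ω] (t : Spec (CommRingCat.of Ω) ⟶ Z.left),
        orderOf ((Over.homMk t rfl : Over.mk (t ≫ Z.hom) ⟶ Z) ≫ P) = N) ∧
      ∀ (T : Over S) (Q : T ⟶ E), Q ^ N = 1 →
        (∀ (Ω : Type u) [Field Ω] [IsAlgClosed Ω] (t : Spec (CommRingCat.of Ω) ⟶ T.left),
          orderOf ((Over.homMk t rfl : Over.mk (t ≫ T.hom) ⟶ T) ≫ Q) = N) →
        ∃! v : T ⟶ Z, v ≫ P = Q := by
  classical
  haveI := hE.smooth
  haveI := hE.proper
  haveI := hE.geomConnected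
  have hunit : ∀ d : ℕ, d ∣ N → IsUnit (d : Γ(S, ⊤)) := fun d hd =>
    isUnit_of_dvd_unit (Nat.cast_dvd_cast hd) hNu
  -- the inclusions of smaller torsion
  have hc : ∀ d : ℕ, d ∣ N → ∃ c : tor E d ⟶ tor E N, c ≫ torι E N = torι E d := fun d hd => by
    let Q : Over.mk (torι E d ≫ E.hom) ⟶ E := Over.homMk (torι E d) rfl
    refine (factor_iff E N Q).2 ?_
    obtain ⟨m, rfl⟩ := hd
    rw [pow_mul, (factor_iff E d Q).1 ⟨𝟙 _, Category.id_comp _⟩, one_pow]
  choose c hc' using hc
  have hcl := fun d hd => range_clopen E d N (hunit d hd) hNu (c d hd) (hc' d hd)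
  let A : Set (tor E N) := ⋃ d : {d : N.properDivisors // True},
    Set.range (c d.1.1 (Nat.mem_properDivisors.1 d.1.2).1).base
  have hA1 : IsClosed A := isClosed_iUnion_of_finite fun d => (hcl _ _).1
  have hA2 : IsOpen A := isOpen_iUnion fun d => by
    haveI := (hcl d.1.1 (Nat.mem_properDivisors.1 d.1.2).1).2
    exact (c _ _).isOpenEmbedding.isOpen_range
  let U : (tor E N).Opens := ⟨Aᶜ, hA1.isOpen_compl⟩
  let Z : Over S := Over.mk (U.ι ≫ torι E N ≫ E.hom)
  let P : Z ⟶ E := Over.homMk (U.ι ≫ torι E N) (Category.assoc _ _ _)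
  haveI := (tor_finite_etale E N hNu).1
  haveI := (tor_finite_etale E N hNu).2
  haveI : IsClosedImmersion U.ι := IsClosedImmersion.of_isPreimmersion _ (by
    rw [Scheme.Opens.range_ι]; exact hA2.isClosed_compl)
  have hP : P ^ N = 1 := (factor_iff E N P).1 ⟨U.ι, rfl⟩
  have hord : ∀ (Ω : Type u) [Field Ω] (W : Over S) (hW : W.left = Spec (CommRingCat.of Ω))
      (Q : W ⟶ E), Q ^ N = 1 → (∀ (d : ℕ) (hd : d ∈ N.properDivisors), Q ^ d ≠ 1) → orderOf Q = N := by
    intro Ω _ W hW Q hQ h
    by_contra hne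
    have hdvd : orderOf Q ∣ N := orderOf_dvd_of_pow_eq_one hQ
    exact h _ (Nat.mem_properDivisors.2 ⟨hdvd, lt_of_le_of_ne (Nat.le_of_dvd hN hdvd) hne⟩) (pow_orderOf_eq_one Q)
  refine ⟨Z, P, inferInstanceAs (IsFinite (U.ι ≫ torι E N ≫ E.hom)),
    inferInstanceAs (Etale (U.ι ≫ torι E N ≫ E.hom)), ⟨hP, fun Ω _ _ t => ?_⟩, fun T Q hQ hQo => ?_⟩
  · refine hord Ω _ rfl _ (by rw [← MonObj.comp_pow, hP, MonObj.comp_one]) fun d hd hd1 => ?_
    obtain ⟨w, hw⟩ := (factor_iff E d _).2 hd1
    have hdN := (Nat.mem_properDivisors.1 hd).1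
    haveI := mono_torι E N
    have h1 : w ≫ c d hdN = t ≫ U.ι := by
      rw [← cancel_mono (torι E N), Category.assoc, hc' d hdN, hw, Category.assoc]
      rfl
    have hmem : (t ≫ U.ι).base (IsLocalRing.closedPoint Ω) ∈ A :=
      Set.mem_iUnion.2 ⟨⟨⟨d, hd⟩, trivial⟩, w.base (IsLocalRing.closedPoint Ω), by rw [← h1]; rfl⟩
    exact (t.base (IsLocalRing.closedPoint Ω)).2 hmem
  · obtain ⟨v₀, hv₀⟩ := (factor_iff E N Q).2 hQ
    have hr : Set.range v₀.base ⊆ Set.range U.ι.base := by
      rintro _ ⟨x, rfl⟩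
      rw [Scheme.Opens.range_ι]
      intro hx
      obtain ⟨i, hi⟩ := Set.mem_iUnion.1 hx
      obtain ⟨⟨d, hd⟩, hT⟩ := i
      have hdN := (Nat.mem_properDivisors.1 hd).1
      haveI := (hcl d hdN).2
      let Ω := AlgebraicClosure (T.left.residueField x)
      let t : Spec (CommRingCat.of Ω) ⟶ T.left :=
        Spec.map (CommRingCat.ofHom (algebraMap (T.left.residueField x) Ω)) ≫ T.left.fromSpecResidueField x
      have htr : Set.range (t ≫ v₀).base ⊆ Set.range (c d hdN).base := by
        rintro _ ⟨p, rfl⟩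
        rw [Scheme.Hom.comp_apply, Scheme.Hom.comp_apply, T.left.fromSpecResidueField_apply x]
        exact hi
      let w := IsOpenImmersion.lift (c d hdN) (t ≫ v₀) htr
      have h1 : ((Over.homMk t rfl : Over.mk (t ≫ T.hom) ⟶ T) ≫ Q) ^ d = 1 := by
        refine (factor_iff E d _).1 ⟨w, ?_⟩
        refine Eq.trans ?_ (show t ≫ Q.left = _ from rfl)
        refine (congrArg (w ≫ ·) (hc' d hdN).symm).trans ?_
        refine (IsOpenImmersion.lift_fac_assoc _ _ _ _).trans ?_
        exact (Category.assoc _ _ _).trans (congrArg (t ≫ ·) hv₀)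
      have h2 := Nat.le_of_dvd (Nat.pos_of_dvd_of_pos hdN hN) (orderOf_dvd_of_pow_eq_one h1)
      have h3 := (Nat.mem_properDivisors.1 hd).2
      have h4 := hQo Ω t
      omega
    let v := IsOpenImmersion.lift U.ι v₀ hr
    have hv : v ≫ U.ι ≫ torι E N = Q.left := by
      rw [IsOpenImmersion.lift_fac_assoc, hv₀]
    refine ⟨Over.homMk v (by
      show v ≫ U.ι ≫ torι E N ≫ E.hom = T.hom
      rw [reassoc_of% hv]
      exact Over.w Q), Over.OverMorphism.ext hv, fun v' hv' => Over.OverMorphism.ext ?_⟩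
    haveI := mono_torι E N
    show v'.left = v
    rw [← cancel_mono U.ι, ← cancel_mono (torι E N), Category.assoc, Category.assoc, hv]
    exact congrArg CommaMorphism.left hv'

end Groth.Agent.S16248
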