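import Groth.Statements.S1636
import Groth.Agent.Lib.Curves.GGEmbed
import Groth.Agent.Lib.Curves.EqualityCase
import Groth.Agent.Lib.Curves.Clifford
import Groth.Agent.H97.CurvePositivity

set_option autoImplicit false
universe u
open CategoryTheory CategoryTheory.Limits AlgebraicGeometry
open Curves

namespace Groth.Agent.S1636

/-- Let X be a proper curve over k with global functions k and genus 0, and L an invertible module of
degree d > 0. Then there is a closed immersion i : X → P^d_k over k with i^* O(1) ≅ L. -/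
theorem result (k : Type u) [Field k] (X : Scheme.{u}) [X.Over (Spec (CommRingCat.of k))]
    [IsIntegral X] [IsProper (X ↘ (Spec (CommRingCat.of k)))] (hdim : topologicalKrullDim X = 1)
    (h0 : Module.finrank k (Coh.HH X (Coh.structureModule X) 0) = 1) (hg : Curv2.genus k X = 0)
    (L : X.Modules) (hL : PicF.IsInvertible L) (d : ℕ) (hd : 0 < d) (hdeg : Curv2.deg k X L 1 = d) :
    ∃ i : X ⟶ CohB1.ProjSpace d k, IsClosedImmersion i ∧ i ≫ CohB1.ProjSpace.toSpec d k = X ↘ (Spec (CommRingCat.of k)) ∧
      Nonempty ((Scheme.Modules.pullback i).obj (Twist.twistProjSpace d k 1) ≅ L) :=  by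
  set q := X ↘ Spec (CommRingCat.of k)
  have hd1 : topologicalKrullDim X ≤ 1 := hdim.le
  have hh1 := Groth.Agent.Lib.Curves.Clifford.hdim_zero_eq_of_deg k hd1 h0 hL (by omega)
  have heq : (Groth.Agent.Lib.Curves.Euler.hdim k X L 0 : ℤ) = Curv2.deg k X L 1 + 1 := by omega
  have hgg := Groth.Agent.Lib.Curves.EqualityCase.isGloballyGenerated k hdim h0 hL heq (by omega)
  have hA := Groth.Agent.H97.CurvePositivity.isAmple_of_deg_pos (k := k) hdim hL (by omega)
  have h1 : Subsingleton (Coh.HH X (Coh.structureModule X) 1) := by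
    haveI := (Groth.Agent.Lib.Curves.Degree.isGood_structureModule (k := k) (X := X) hd1).fin₁
    exact Module.finrank_zero_iff.mp hg
  letI := Groth.Agent.Lib.Curves.GlobalSections.secModule k L
  haveI := (Groth.Agent.Lib.Curves.Degree.isGood (k := k) hd1 hL).fin₀
  let e := Groth.Agent.Lib.Curves.GlobalSections.h0Linear k L
  haveI : Module.Finite k (L.val.obj (Opposite.op ⊤) : Type u) := Module.Finite.equiv e
  have hr : Module.finrank k (L.val.obj (Opposite.op ⊤) : Type u) = d + 1 := by
    rw [← e.finrank_eq]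
    change Groth.Agent.Lib.Curves.Euler.hdim k X L 0 = d + 1
    omega
  let b := Module.finBasisOfFinrankEq k (L.val.obj (Opposite.op ⊤) : Type u) hr
  let t : Fin (d + 1) → Γ(L, ⊤) := fun j => b j
  have hcov := Groth.Agent.Lib.ProjMor.Sec.exists_mem_locus hL
    (Groth.Agent.Lib.Curves.VeryAmple.generatedBy_of_span hgg t b.span_eq)
  refine Groth.Agent.Lib.Curves.NormalGen.exists_closedImmersion q hA t hcov
    (fun s => ⟨fun j => b.repr s j, (b.sum_repr s).symm⟩) fun n hn => ?_
  obtain ⟨m, rfl⟩ : ∃ m, n = m + 1 := ⟨n - 1, by omega⟩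
  exact Groth.Agent.Lib.Curves.GGEmbed.closure_eq_top (k := k) hd1 hcov m
    (Groth.Agent.Lib.Curves.GGEmbed.subsingleton_pow (k := k) hd1 hcov (m := 0) h1 m m.zero_le)

end Groth.Agent.S1636
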