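import Groth.Statements.S9353
import Groth.Agent.H19.FlatLocus.Scheme

set_option autoImplicit false
universe u
open FlatMod

namespace Groth.Agent.S9353

open AlgebraicGeometry CategoryTheory Opposite in
/-- Let f : X → S be a morphism of schemes and let F be an O_X-module that is quasi-coherent. Flatness
of F over S is equivalent to the following: for all affine opens U ⊆ X and V ⊆ S with U ⊆ f⁻¹V the
module F(U) is flat over O_S(V). -/
theorem result {X S : Scheme.{u}} (f : X ⟶ S) (F : X.Modules) (hF : Coh.IsQCoh F) :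
    FlatMod.IsFlatOver f F ↔
      ∀ (U : X.Opens) (V : S.Opens) (hUV : U ≤ f ⁻¹ᵁ V), IsAffineOpen U → IsAffineOpen V →
        @Module.Flat Γ(S, V) (F.val.obj (op U)) _ _ (Module.compHom (F.val.obj (op U)) (f.appLE V U hUV).hom) := by
  haveI : F.IsQuasicoherent := hF
  refine ⟨fun h U V hUV hU hV => ?_, fun h x => ?_⟩
  · letI : Algebra Γ(S, V) Γ(X, U) := (f.appLE V U hUV).hom.toAlgebra
    letI : Module Γ(S, V) Γ(F, U) := Module.compHom Γ(F, U) (f.appLE V U hUV).hom
    haveI : IsScalarTower Γ(S, V) Γ(X, U) Γ(F, U) := IsScalarTower.of_algebraMap_smul fun _ _ ↦ rfl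
    refine Module.flat_of_isLocalized_maximal (R := Γ(S, V)) Γ(X, U) Γ(F, U)
      (fun P _ => LocalizedModule P.primeCompl Γ(F, U)) (fun P _ => LocalizedModule.mkLinearMap _ _) fun P hP => ?_
    let p : PrimeSpectrum Γ(X, U) := ⟨P, hP.isPrime⟩
    have hx : hU.fromSpec p ∈ U := hU.range_fromSpec.subset ⟨p, rfl⟩
    have := (Groth.Agent.H19.FlatLocus.Scheme.isFlatOverAt_iff f F hV hU hUV hx).1 (h _)
    have hp : hU.primeIdealOf ⟨hU.fromSpec p, hx⟩ = p :=
      hU.fromSpec.isOpenEmbedding.injective (hU.fromSpec_primeIdealOf ⟨_, hx⟩)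
    rw [hp] at this
    exact this
  · obtain ⟨V, hV, hxV, -⟩ :=
      exists_isAffineOpen_mem_and_subset (X := S) (x := f x) (U := ⊤) (Set.mem_univ _)
    obtain ⟨U, hU, hxU, hUV⟩ :=
      exists_isAffineOpen_mem_and_subset (X := X) (x := x) (U := f ⁻¹ᵁ V) hxV
    refine (Groth.Agent.H19.FlatLocus.Scheme.isFlatOverAt_iff f F hV hU hUV hxU).2 ?_
    letI : Algebra Γ(S, V) Γ(X, U) := (f.appLE V U hUV).hom.toAlgebra
    letI : Module Γ(S, V) Γ(F, U) := Module.compHom Γ(F, U) (f.appLE V U hUV).hom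
    haveI : IsScalarTower Γ(S, V) Γ(X, U) Γ(F, U) := IsScalarTower.of_algebraMap_smul fun _ _ ↦ rfl
    haveI : Module.Flat Γ(S, V) Γ(F, U) := h U V hUV hU hV
    rw [Groth.Agent.H19.FlatLocus.flat_iff_killed (R := Γ(S, V)) (hU.primeIdealOf ⟨x, hxU⟩).asIdeal.primeCompl
      (LocalizedModule.mkLinearMap (hU.primeIdealOf ⟨x, hxU⟩).asIdeal.primeCompl Γ(F, U))]
    refine fun J y hy => ⟨1, one_mem _, ?_⟩
    rw [one_smul]
    exact Module.Flat.iff_lTensor_injective'.1 inferInstance J (hy.trans (map_zero _).symm)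

end Groth.Agent.S9353
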