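import Groth.Statements.S9349
import Groth.Agent.S9353
import Groth.Agent.H19.FlatLocus.Scheme
import Groth.Agent.Lib.QCoh.Pushforward

set_option autoImplicit false
universe u
open FlatMod

namespace Groth.Agent.S9349

open AlgebraicGeometry CategoryTheory in
/-- Let f : X → Y be an affine morphism of S-schemes, with q : Y → S, and F a quasi-coherent O_X-module.
Flatness of F over S (along f ≫ q) is equivalent to flatness of f_*F over S (along q). -/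
theorem result {X Y S : Scheme.{u}} (f : X ⟶ Y) [IsAffineHom f] (q : Y ⟶ S)
    (F : X.Modules) (hF : Coh.IsQCoh F) :
    FlatMod.IsFlatOver (f ≫ q) F ↔ FlatMod.IsFlatOver q ((Coh.push f).obj F) := by
  haveI : F.IsQuasicoherent := hF
  have hP : Coh.IsQCoh ((Coh.push f).obj F) := Groth.Agent.Lib.QCoh.Pushforward.isQCoh_pushforward f
  have e : ∀ (U : Y.Opens) (V : S.Opens) (hUV : U ≤ q ⁻¹ᵁ V) (h' : f ⁻¹ᵁ U ≤ (f ≫ q) ⁻¹ᵁ V),
      (f ≫ q).appLE V (f ⁻¹ᵁ U) h' = q.appLE V U hUV ≫ f.app U := fun U V hUV h' => by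
    rw [← Scheme.Hom.appLE_eq_app, Scheme.Hom.appLE_comp_appLE]
  rw [Groth.Agent.S9353.result q _ hP]
  constructor
  · intro h U V hUV hU hV
    have hle : f ⁻¹ᵁ U ≤ (f ≫ q) ⁻¹ᵁ V := fun z hz => hUV hz
    have := (Groth.Agent.S9353.result (f ≫ q) F hF).1 h (f ⁻¹ᵁ U) V hle (hU.preimage f) hV
    rw [e U V hUV hle] at this
    exact this
  · intro h x
    obtain ⟨V, hV, hxV, -⟩ :=
      exists_isAffineOpen_mem_and_subset (X := S) (x := q (f x)) (U := ⊤) (Set.mem_univ _)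
    obtain ⟨U, hU, hxU, hUV⟩ :=
      exists_isAffineOpen_mem_and_subset (X := Y) (x := f x) (U := q ⁻¹ᵁ V) hxV
    have hle : f ⁻¹ᵁ U ≤ (f ≫ q) ⁻¹ᵁ V := fun z hz => hUV hz
    refine (Groth.Agent.H19.FlatLocus.Scheme.isFlatOverAt_iff (f ≫ q) F hV (hU.preimage f) hle hxU).2 ?_
    letI : Algebra Γ(S, V) Γ(X, f ⁻¹ᵁ U) := ((f ≫ q).appLE V (f ⁻¹ᵁ U) hle).hom.toAlgebra
    letI : Module Γ(S, V) Γ(F, f ⁻¹ᵁ U) := Module.compHom Γ(F, f ⁻¹ᵁ U) ((f ≫ q).appLE V (f ⁻¹ᵁ U) hle).hom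
    haveI : IsScalarTower Γ(S, V) Γ(X, f ⁻¹ᵁ U) Γ(F, f ⁻¹ᵁ U) := IsScalarTower.of_algebraMap_smul fun _ _ ↦ rfl
    haveI : Module.Flat Γ(S, V) Γ(F, f ⁻¹ᵁ U) :=
      (show ∀ φ : Γ(S, V) ⟶ Γ(X, f ⁻¹ᵁ U), φ = q.appLE V U hUV ≫ f.app U →
          @Module.Flat Γ(S, V) Γ(F, f ⁻¹ᵁ U) _ _ (Module.compHom Γ(F, f ⁻¹ᵁ U) φ.hom) from by
        rintro _ rfl
        exact h U V hUV hU hV) _ (e U V hUV hle)
    rw [Groth.Agent.H19.FlatLocus.flat_iff_killed (R := Γ(S, V))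
      ((hU.preimage f).primeIdealOf ⟨x, hxU⟩).asIdeal.primeCompl
      (LocalizedModule.mkLinearMap ((hU.preimage f).primeIdealOf ⟨x, hxU⟩).asIdeal.primeCompl Γ(F, f ⁻¹ᵁ U))]
    refine fun J y hy => ⟨1, one_mem _, ?_⟩
    rw [one_smul]
    exact Module.Flat.iff_lTensor_injective'.1 inferInstance J (hy.trans (map_zero _).symm)

end Groth.Agent.S9349
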