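import Groth.Statements.S0843
import Groth.Agent.Lib.ProjCoh.Homog

set_option autoImplicit false
universe u
open Coherent

namespace Groth.Agent.S0843

open CategoryTheory AlgebraicGeometry in
/-- The case q = 0 and d ≥ 0: for a ring R and n, d ≥ 0, the R-module H^0(P^n_R, O(d)) is isomorphic to
the module of homogeneous polynomials of degree d in T_0, …, T_n over R. (The existing degree-zero
row is the case d = 0.) -/
theorem result (R : Type u) [CommRing R] (n d : ℕ) :
    Nonempty (Coh.HH (CohB1.ProjSpace n R) (Twist.twistProjSpace n R (d : ℤ)) 0 ≃ₗ[R]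
      ↥(MvPolynomial.homogeneousSubmodule (Fin (n + 1)) R d)) := by
  obtain ⟨e⟩ := Groth.Agent.Lib.ProjCoh.Homog.nonempty_HH_zero_equiv n d R
  exact ⟨(Groth.Agent.Lib.Curves.LES.isoK R
    (Groth.Agent.Lib.ProjCoh.Coherent.twIso (d : ℤ)) 0).trans e⟩

end Groth.Agent.S0843
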