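import Groth.Statements.S4466
import Groth.Agent.S0843
import Groth.Agent.S0844
import Groth.Agent.S0845
import Groth.Agent.H66.Cot.Graded

set_option autoImplicit false
universe u
open Coherent

namespace Groth.Agent.S4466

open MvPolynomial in
theorem finrank_homog (k : Type u) [Field k] (r m : ℕ) :
    Module.finrank k ↥(homogeneousSubmodule (Fin (r + 1)) k m) = (r + m).choose r := by
  rw [(H66.Cot.finrank_homogeneous (r + 1) m).2, show r + 1 + m - 1 = r + m by omega,
    Nat.choose_symm_add]

open AlgebraicGeometry CategoryTheory in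
/-- Let k be a field, r > 0 and n any integer. Then the Euler characteristic of the twisting sheaf O(n)
on projective r-space over k, namely the alternating sum of the dimensions of H^j(P^r_k, O(n)) for 0
≤ j ≤ r, equals the binomial coefficient C(n+r, r), understood as the binomial polynomial evaluated
at the integer n+r (so that it makes sense and is correct for negative n too). -/
theorem result (k : Type u) [Field k] (r : ℕ) (hr : 0 < r)
    (n : ℤ) :
    ((Finset.range (r + 1)).sum fun j => (-1 : ℤ) ^ j *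
        (Module.finrank k (Coh.HH (CohB1.ProjSpace r k) (Twist.twistProjSpace r k n) j) : ℤ)) =
      Ring.choose (n + r) r := by
  have hz : ∀ j : ℕ, ¬ (j = 0 ∧ 0 ≤ n) → ¬ (j = r ∧ n ≤ -((r : ℤ) + 1)) →
      (-1 : ℤ) ^ j *
        (Module.finrank k (Coh.HH (CohB1.ProjSpace r k) (Twist.twistProjSpace r k n) j) : ℤ) = 0 := by
    intro j h₁ h₂
    haveI := S0844.result k r n j h₁ h₂
    rw [Module.finrank_zero_of_subsingleton, Nat.cast_zero, mul_zero]
  by_cases h0 : 0 ≤ n
  · obtain ⟨d, rfl⟩ := Int.eq_ofNat_of_zero_le h0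
    rw [Finset.sum_eq_single 0 (fun j _ hj => hz j (fun h => hj h.1) (by omega)) (by simp)]
    obtain ⟨e⟩ := S0843.result k r d
    rw [pow_zero, one_mul, e.finrank_eq, finrank_homog, ← Nat.cast_add, Ring.choose_natCast,
      Nat.add_comm r d]
  · by_cases h1 : n ≤ -((r : ℤ) + 1)
    · obtain ⟨m, rfl⟩ : ∃ m : ℕ, n = -((r : ℤ) + 1 + m) := ⟨(-n - r - 1).toNat, by omega⟩
      rw [Finset.sum_eq_single r (fun j _ hj => hz j (by omega) (fun h => hj h.1))
        (fun h => absurd (Finset.mem_range.2 (Nat.lt_succ_self r)) h)]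
      obtain ⟨e⟩ := S0845.result k r m
      rw [e.finrank_eq, finrank_homog, show (-((r : ℤ) + 1 + m) + r) = -((m + 1 : ℕ) : ℤ) by push_cast; ring,
        Ring.choose_neg, show ((m + 1 : ℕ) : ℤ) + r - 1 = ((r + m : ℕ) : ℤ) by push_cast; ring,
        Ring.choose_natCast, Units.smul_def, smul_eq_mul, Int.coe_negOnePow_natCast]
    · rw [Finset.sum_eq_zero (fun j _ => hz j (by omega) (by omega))]
      obtain ⟨l, hl⟩ : ∃ l : ℕ, n + r = l := ⟨(n + r).toNat, by omega⟩
      rw [hl, Ring.choose_natCast, Nat.choose_eq_zero_of_lt (by omega), Nat.cast_zero]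

end Groth.Agent.S4466
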