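import Groth.Statements.S6540
import Groth.Agent.Lib.Curves.Degree

set_option autoImplicit false
universe u
open CategoryTheory CategoryTheory.Limits AlgebraicGeometry
open Curves

namespace Groth.Agent.S6540

/-- Let X be a proper curve over the field k (proper, integral, of dimension one) with H^0(X, O_X) = k
and genus 0. Then every invertible O_X-module of degree 0 is trivial, i.e. isomorphic to O_X. -/
theorem result (k : Type u) [Field k] (X : Scheme.{u}) [X.Over (Spec (CommRingCat.of k))]
    [IsIntegral X] [IsProper (X ↘ (Spec (CommRingCat.of k)))] (hdim : topologicalKrullDim X = 1)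
    (h0 : Module.finrank k (Coh.HH X (Coh.structureModule X) 0) = 1) (hg : Curv2.genus k X = 0)
    (L : X.Modules) (hL : PicF.IsInvertible L) (hdeg : Curv2.deg k X L 1 = 0) :
    Nonempty (L ≅ Coh.structureModule X) := by
  haveI := Lib.Curves.GlobalSections.noetherianSpace_of_proper k X
  have gL := Lib.Curves.Degree.isGood (k := k) hdim.le hL
  have hrr := Lib.Curves.Degree.riemann_roch hdim.le h0 hL
  rw [hdeg, hg] at hrr
  have hnt : Nontrivial (Coh.HH X L 0) := by
    haveI := gL.fin₀
    refine Module.nontrivial_of_finrank_pos (R := k) ?_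
    simp only [Lib.Curves.Euler.hdim, Nat.cast_zero] at hrr
    omega
  exact Lib.Curves.Positivity.nonempty_iso_of_deg_eq_zero hdim.le hL
    (Lib.Curves.Degree.isGood_structureModule hdim.le) gL hnt hdeg

end Groth.Agent.S6540
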