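import Groth.Statements.S9819
import Groth.Agent.Lib.Modules.ExtendFT
import Groth.Agent.Lib.Perfect.Top
import Groth.Agent.Lib.TensorMod.LocFree
import Groth.Agent.Lib.QCoh.Closure

set_option autoImplicit false
universe u
open CategoryTheory CategoryTheory.Limits AlgebraicGeometry TopologicalSpace Opposite
open Props

namespace Groth.Agent.S9819

/-- On a quasi-compact quasi-separated scheme, every local section of a quasi-coherent module over an
affine open lies in some quasi-coherent submodule of finite type; hence the module is the directed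
union of its quasi-coherent submodules of finite type. -/
theorem result {X : Scheme.{u}} [CompactSpace X]
    [QuasiSeparatedSpace X] (F : X.Modules) [Coh.IsQCoh F] (U : X.affineOpens)
    (s : F.val.obj (op (U : X.Opens))) :
    ∃ (G : X.Modules) (i : G ⟶ F), Mono i ∧ Coh.IsQCoh G ∧ CohB1.IsFT G ∧
      ∃ g : G.val.obj (op (U : X.Opens)), (i.val.app (op (U : X.Opens))).hom g = s := by
  haveI : F.IsQuasicoherent := ‹Coh.IsQCoh F›
  let V : Scheme.{u} := (U : X.Opens)
  let FU : V.Modules := F.restrict (U : X.Opens).ι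
  haveI : FU.IsQuasicoherent := inferInstance
  haveI := Lib.TensorMod.QCohInv.isQCoh_structureModule V
  have hle : (U : X.Opens).ι ''ᵁ ⊤ = (U : X.Opens) := by simp
  let m : Γ(FU, ⊤) := F.presheaf.map (eqToHom hle).op s
  let σ : Coh.structureModule V ⟶ FU := Lib.Modules.Free.unitHom FU m
  haveI := Lib.QCoh.Closure.isQCoh_cokernel σ
  haveI : (Abelian.image σ).IsQuasicoherent := Lib.QCoh.Closure.isQCoh_kernel (cokernel.π σ)
  have hFT : CohB1.IsFT (Abelian.image σ) := by
    refine Lib.Perfect.Top.isFT_of_locEpi fun x => ⟨⊤, 1,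
      (Lib.TensorMod.LocFree.freeModOneIso _).hom ≫ (Scheme.Modules.restrictUnitIso (⊤ : V.Opens).ι).inv ≫
        (Scheme.Modules.restrictFunctor (⊤ : V.Opens).ι).map (Abelian.factorThruImage σ), trivial, ?_⟩
    infer_instance
  obtain ⟨G, i, e, hi, hq, hft, hcomp⟩ := Lib.Modules.ExtendFT.exists_extension_of_qcqs
    (U : X.Opens) U.2.isCompact (Abelian.image σ) (Abelian.image.ι σ) hFT
  refine ⟨G, i, hi, hq, hft, ?_⟩
  let g₁ : Γ(G.restrict (U : X.Opens).ι, ⊤) :=
    e.inv.app ⊤ ((Abelian.factorThruImage σ).app ⊤ (1 : Γ(V, ⊤)))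
  refine ⟨G.presheaf.map (eqToHom hle.symm).op g₁, ?_⟩
  have h1 : ((Scheme.Modules.restrictFunctor (U : X.Opens).ι).map i).app ⊤ g₁ = m := by
    rw [← hcomp]
    have : (e.hom ≫ Abelian.image.ι σ).app ⊤ g₁ =
        (Abelian.factorThruImage σ ≫ e.inv ≫ e.hom ≫ Abelian.image.ι σ).app ⊤ (1 : Γ(V, ⊤)) := rfl
    rw [this, Iso.inv_hom_id_assoc, Abelian.image.fac]
    exact Lib.Modules.Free.unitHom_app_one FU m
  have h2 := congr($(i.mapPresheaf.naturality (eqToHom hle.symm).op) g₁)
  refine h2.trans ((congrArg (F.presheaf.map (eqToHom hle.symm).op) h1).trans ?_)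
  show F.presheaf.map _ (F.presheaf.map _ s) = s
  rw [← ConcreteCategory.comp_apply, ← CategoryTheory.Functor.map_comp, ← op_comp, eqToHom_trans, eqToHom_refl, op_id,
    CategoryTheory.Functor.map_id]
  rfl

end Groth.Agent.S9819
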