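import Groth.Statements.S9827
import Groth.Agent.Lib.Modules.AffineSections
import Groth.Agent.Lib.DescAlg.FPPush

set_option autoImplicit false
universe u
open CategoryTheory CategoryTheory.Limits AlgebraicGeometry TopologicalSpace Opposite
open Props

namespace Groth.Agent.S9827

theorem fp_iff {R S N : Type u} [CommRing R] [CommRing S] [Algebra R S]
    (hb : Function.Bijective (algebraMap R S)) [AddCommGroup N] [Module R N] [Module S N]
    [IsScalarTower R S N] : Module.FinitePresentation R N ↔ Module.FinitePresentation S N := by
  constructor
  · intro h
    let e := RingEquiv.ofBijective (algebraMap R S) hb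
    letI : Algebra S R := e.symm.toRingHom.toAlgebra
    haveI : IsScalarTower S R N := IsScalarTower.of_algebraMap_smul fun s n => by
      rw [← IsScalarTower.algebraMap_smul S (algebraMap S R s) n]
      exact congrArg (fun z : S => z • n) (e.apply_symm_apply s)
    haveI : Module.FinitePresentation S R :=
      Module.FinitePresentation.of_equiv (LinearEquiv.ofBijective (Algebra.linearMap S R) e.symm.bijective)
    exact Module.FinitePresentation.trans S N R
  · intro h
    haveI : Module.FinitePresentation R S :=
      Module.FinitePresentation.of_equiv (LinearEquiv.ofBijective (Algebra.linearMap R S) hb)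
    exact Module.FinitePresentation.trans R N S

/-- The sheaf associated to a module over a ring is of finite presentation on the spectrum if and only
if the module is finitely presented. -/
theorem result (R : CommRingCat.{u}) (M : ModuleCat.{u} R) :
    CohB1.IsFP (tilde M) ↔ Module.FinitePresentation R M := by
  letI : Algebra R Γ(Spec R, ⊤) := (Scheme.ΓSpecIso R).inv.hom.toAlgebra
  have hb : Function.Bijective (algebraMap R Γ(Spec R, ⊤)) :=
    ConcreteCategory.bijective_of_isIso (Scheme.ΓSpecIso R).inv
  letI : Module R Γ(tilde M, ⊤) := Module.compHom _ (Scheme.ΓSpecIso R).inv.hom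
  haveI : IsScalarTower R Γ(Spec R, ⊤) Γ(tilde M, ⊤) := IsScalarTower.of_algebraMap_smul fun _ _ => rfl
  let e₀ := (asIso (tilde.toOpen M ⊤)).toLinearEquiv
  let e : M ≃ₗ[R] Γ(tilde M, ⊤) :=
    { toFun := fun m => e₀ m
      invFun := fun n => e₀.symm n
      left_inv := fun m => e₀.symm_apply_apply m
      right_inv := fun n => e₀.apply_symm_apply n
      map_add' := fun a b => e₀.map_add a b
      map_smul' := fun r m => e₀.map_smul r m }
  rw [e.finitePresentation_iff, fp_iff hb]
  constructor
  · intro h
    exact Groth.Agent.Lib.Modules.AffineSections.finitePresentation_sections h (isAffineOpen_top _)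
  · intro h
    exact Groth.Agent.Lib.DescAlg.FPPush.isFP_of_sections _ fun x => ⟨⊤, isAffineOpen_top _, trivial, h⟩

end Groth.Agent.S9827
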