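import Groth.Statements.S4619
import Groth.Agent.H52.FBase.PrimaryGeom

set_option autoImplicit false
open CategoryTheory AlgebraicGeometry
universe u
open Groth.Agent.H52.FBase
open FBase

namespace Groth.Agent.S4619

/-- For a connected scheme: let X be a connected scheme over a field k and x a point of X whose residue
field κ(x) is a primary extension of k, i.e. the separable algebraic closure of k in κ(x) is k
itself (this holds in particular when x is a k-rational point). Then X is geometrically connected
over k. (The published statement concerns the connected component of x in an arbitrary scheme over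
k; this row takes X connected.) -/
theorem result {k : Type u} [Field k] {X : Scheme.{u}}
    [ConnectedSpace X] (f : X ⟶ Spec (CommRingCat.of k)) (x : X)
    (hx : FBase.ResidueFieldProp f x (fun K _ _ => separableClosure k K = ⊥)) :
    GeometricallyConnected f := by
  obtain ⟨φ, hφ, hsep⟩ := hx
  letI := φ.toAlgebra
  refine ⟨geometrically_iff_of_commRing_of_isClosedUnderIsomorphisms.mpr fun K _ _ => ?_⟩
  have := PrimaryGeom.irreducibleSpace_bc_spec (k := k) (X.residueField x) hsep K
  rw [RingHom.algebraMap_toAlgebra, hφ] at this
  obtain ⟨S, hS, hfib⟩ := Connected.exists_preconnected_of_hom f K (X.fromSpecResidueField x) default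
  refine Connected.connectedSpace_bc f K x hS ?_
  rwa [Scheme.fromSpecResidueField_apply] at hfib

end Groth.Agent.S4619
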