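import Groth.Statements.S2150
import Groth.Agent.H20.GeomIrred
import Mathlib.FieldTheory.SeparableClosure
import Mathlib.FieldTheory.PrimitiveElement
import Mathlib.RingTheory.Artinian.Module
import Mathlib.Algebra.Polynomial.Lifts

set_option autoImplicit false
universe u
open CAlg

namespace Groth.Agent.S2150

set_option backward.isDefEq.respectTransparency false

open TensorProduct in
theorem subsingleton_algHom {k E Ω : Type u} [Field k] [CommRing E] [Field Ω] [Algebra k E]
    [Algebra k Ω] (hmax : (nilradical (Ω ⊗[k] E)).IsMaximal) : Subsingleton (E →ₐ[k] Ω) := by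
  refine ⟨fun σ τ => AlgHom.ext fun x => ?_⟩
  let Φ : ∀ f : E →ₐ[k] Ω, Ω ⊗[k] E →ₐ[k] Ω :=
    fun f => Algebra.TensorProduct.productMap (AlgHom.id k _) f
  have hker : ∀ f, nilradical (Ω ⊗[k] E) = RingHom.ker (Φ f) := fun f =>
    hmax.eq_of_le (RingHom.ker_ne_top _) fun z hz =>
      (RingHom.mem_ker).mpr ((mem_nilradical.mp hz).map (Φ f)).eq_zero
  have : σ x ⊗ₜ[k] (1 : E) - (1 : Ω) ⊗ₜ[k] x ∈ RingHom.ker (Φ σ) := by
    simp [Φ, RingHom.mem_ker]
  rw [← hker σ, hker τ] at this
  simpa [Φ, RingHom.mem_ker, sub_eq_zero] using this

open TensorProduct Polynomial in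
theorem minpoly_deg (k K : Type u) [Field k] [Field K] [Algebra k K]
    (h : ∀ α : K, IsSeparable k α → α ∈ Set.range (algebraMap k K)) {E : Type u} [Field E]
    [Algebra k E] [Algebra.IsSeparable k E] (pb : PowerBasis k E)
    (i : E →ₐ[k] AlgebraicClosure K) : (minpoly K (i pb.gen)).natDegree = pb.dim := by
  let Ω := AlgebraicClosure K
  set β := i pb.gen with hβ
  have hsep : IsSeparable k β := by
    rw [hβ, IsSeparable, minpoly.algHom_eq i i.toRingHom.injective]
    exact Algebra.IsSeparable.isSeparable k pb.gen
  have hintk : IsIntegral k β := hsep.isIntegral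
  have hint : IsIntegral K β := hintk.tower_top
  let g := minpoly K β
  let S := separableClosure k Ω
  have hroots : ∀ r ∈ (g.map (algebraMap K Ω)).roots, r ∈ S := by
    intro r hr
    rw [mem_roots', IsRoot, eval_map] at hr
    rw [mem_separableClosure_iff]
    have hdvd : g ∣ (minpoly k β).map (algebraMap k K) :=
      minpoly.dvd_map_of_isScalarTower k K β
    have hev : aeval r (minpoly k β) = 0 := by
      rw [← aeval_map_algebraMap K r (minpoly k β)]
      obtain ⟨c, hc⟩ := hdvd
      rw [hc, map_mul, aeval_def, hr.2, zero_mul]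
    exact Polynomial.Separable.of_dvd hsep (minpoly.dvd k r hev)
  have hlift : g.map (algebraMap K Ω) ∈ Polynomial.lifts S.val.toRingHom := by
    rw [(IsAlgClosed.splits (g.map (algebraMap K Ω))).eq_prod_roots_of_monic
      ((minpoly.monic hint).map _)]
    refine Subsemiring.multiset_prod_mem _ _ fun p hp => ?_
    obtain ⟨r, hr, rfl⟩ := Multiset.mem_map.mp hp
    exact (Polynomial.mem_lifts _).mpr ⟨X - C ⟨r, hroots r hr⟩, by simp⟩
  have hcoeff : ∀ n, g.coeff n ∈ Set.range (algebraMap k K) := by
    intro n
    obtain ⟨c, hc⟩ := (Polynomial.lifts_iff_coeff_lifts _).mp hlift n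
    have h1 : IsSeparable k (algebraMap K Ω (g.coeff n)) := by
      rw [← coeff_map, ← hc]
      exact mem_separableClosure_iff.mp c.2
    exact h _ (h1.tower_bot)
  obtain ⟨g0, hg0, hd, hm⟩ := Polynomial.lifts_and_natDegree_eq_and_monic
    ((Polynomial.lifts_iff_coeff_lifts (f := algebraMap k K) g).mpr hcoeff) (minpoly.monic hint)
  have hev : aeval β g0 = 0 := by
    rw [← aeval_map_algebraMap K β g0, hg0]
    exact minpoly.aeval K β
  have h1 : pb.dim ≤ g.natDegree := by
    rw [← pb.natDegree_minpoly, ← minpoly.algHom_eq i i.toRingHom.injective pb.gen, ← hd]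
    exact natDegree_le_of_dvd (minpoly.dvd k β hev) hm.ne_zero
  refine le_antisymm ?_ h1
  rw [← pb.natDegree_minpoly, ← minpoly.algHom_eq i i.toRingHom.injective pb.gen,
    ← natDegree_map (algebraMap k K) (p := minpoly k (i pb.gen))]
  exact natDegree_le_of_dvd (minpoly.dvd_map_of_isScalarTower k K β)
    ((minpoly.monic hintk).map _).ne_zero

open TensorProduct in
theorem irreducible_tensor (k K : Type u) [Field k] [Field K] [Algebra k K] {E : Type u}
    [Field E] [Algebra k E] (pb : PowerBasis k E) (i : E →ₐ[k] AlgebraicClosure K)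
    (hdeg : (minpoly K (i pb.gen)).natDegree = pb.dim) :
    IrreducibleSpace (PrimeSpectrum (E ⊗[k] K)) := by
  let Φ : K ⊗[k] E →ₐ[K] AlgebraicClosure K :=
    Algebra.TensorProduct.lift (Algebra.ofId K _) i fun _ _ => .all _ _
  let b := Algebra.TensorProduct.basis K pb.basis
  have hinj : Function.Injective Φ.toLinearMap := by
    apply LinearMap.ker_eq_bot.mp
    rw [LinearMap.ker_eq_bot']
    intro z hz
    have hli : LinearIndependent K fun j : Fin pb.dim => (i pb.gen) ^ (j : ℕ) := by
      have := linearIndependent_pow (K := K) (i pb.gen)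
      exact this.comp (Fin.cast hdeg.symm) (Fin.cast_injective _)
    rw [← b.sum_repr z, map_sum] at hz
    have h0 := Fintype.linearIndependent_iff.mp hli (fun j => b.repr z j) (by
      simpa [b, Φ, Algebra.TensorProduct.basis_apply, PowerBasis.coe_basis, Algebra.ofId_apply]
        using hz)
    rw [← b.sum_repr z]
    exact Finset.sum_eq_zero fun j _ => by rw [h0 j, zero_smul]
  haveI : IrreducibleSpace (PrimeSpectrum (K ⊗[k] E)) :=
    Groth.Agent.H20.GeomIrred.irreducible_of_injective Φ.toRingHom hinj
  exact Groth.Agent.H20.GeomIrred.irreducible_of_ringEquiv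
    (Algebra.TensorProduct.comm k K E).toRingEquiv

open TensorProduct in
/-- For a field extension `K/k`, the spectrum of `k' ⊗_k K` is irreducible for every field extension
`k'/k` (geometric irreducibility, extensions in the same universe) if and only if every element of
`K` which is separable algebraic over `k` lies in `k`. -/
theorem result {k K : Type u} [Field k] [Field K] [Algebra k K] :
    (∀ (k' : Type u) [Field k'] [Algebra k k'], IrreducibleSpace (PrimeSpectrum (k' ⊗[k] K))) ↔
      ∀ α : K, IsSeparable k α → α ∈ Set.range (algebraMap k K) := by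
  classical
  constructor
  · intro h α hα
    haveI := h (AlgebraicClosure k)
    haveI hfin : FiniteDimensional k (IntermediateField.adjoin k {α}) :=
      IntermediateField.adjoin.finiteDimensional hα.isIntegral
    haveI : Algebra.IsSeparable k (IntermediateField.adjoin k {α}) :=
      IntermediateField.isSeparable_adjoin_simple_iff_isSeparable _ _ |>.mpr hα
    let E := IntermediateField.adjoin k {α}
    haveI : IrreducibleSpace (PrimeSpectrum (AlgebraicClosure k ⊗[k] E)) :=
      Groth.Agent.H20.GeomIrred.irreducible_of_injective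
        (Algebra.TensorProduct.map (AlgHom.id k (AlgebraicClosure k)) E.val).toRingHom
        (Groth.Agent.H20.GeomIrred.tensor_map_injective _ Function.injective_id _
          E.val.toRingHom.injective)
    have hN := PrimeSpectrum.irreducibleSpace_iff_isPrime_nilradical.mp
      (inferInstance : IrreducibleSpace (PrimeSpectrum (AlgebraicClosure k ⊗[k] E)))
    haveI : IsArtinianRing (AlgebraicClosure k ⊗[k] E) :=
      isArtinian_of_tower (AlgebraicClosure k) inferInstance
    haveI := hN
    have hmax : (nilradical (AlgebraicClosure k ⊗[k] E)).IsMaximal :=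
      IsArtinianRing.isMaximal_of_isPrime (R := AlgebraicClosure k ⊗[k] E) _
    have hsub : Subsingleton (E →ₐ[k] AlgebraicClosure k) := subsingleton_algHom hmax
    have hcard := AlgHom.card k E (AlgebraicClosure k)
    have h1 : Module.finrank k E ≤ 1 := by
      rw [← hcard]
      exact Fintype.card_le_one_iff_subsingleton.mpr hsub
    have h2 : Module.finrank k E = 1 := le_antisymm h1 Module.finrank_pos
    have h3 : E = ⊥ := IntermediateField.finrank_eq_one_iff.mp h2
    have := IntermediateField.mem_adjoin_simple_self k α
    rw [show IntermediateField.adjoin k {α} = ⊥ from h3, IntermediateField.mem_bot] at this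
    exact this
  · intro h
    refine fun k' _ _ => ?_
    haveI : IrreducibleSpace (PrimeSpectrum (SeparableClosure k ⊗[k] K)) := by
      refine Groth.Agent.H20.GeomIrred.irreducible_of_algebraic fun E hE => ?_
      haveI : Algebra.IsSeparable k E :=
        Algebra.isSeparable_tower_bot_of_isSeparable k E (SeparableClosure k)
      let pb := Field.powerBasisOfFiniteOfSeparable k E
      let i : E →ₐ[k] AlgebraicClosure K := IsAlgClosed.lift
      have hdeg : (minpoly K (i pb.gen)).natDegree = pb.dim := minpoly_deg k K h pb i
      exact irreducible_tensor k K pb i hdeg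
    haveI : IrreducibleSpace (PrimeSpectrum (AlgebraicClosure k' ⊗[k] K)) := by
      let j : SeparableClosure k →ₐ[k] AlgebraicClosure k' := IsAlgClosed.lift
      letI := j.toRingHom.toAlgebra
      haveI : IsScalarTower k (SeparableClosure k) (AlgebraicClosure k') :=
        .of_algebraMap_eq fun c => (j.commutes c).symm
      exact Groth.Agent.H20.GeomIrred.irreducible_bc k (SeparableClosure k) (AlgebraicClosure k') K
    exact Groth.Agent.H20.GeomIrred.irreducible_of_injective
      (Algebra.TensorProduct.map (IsScalarTower.toAlgHom k k' (AlgebraicClosure k'))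
        (AlgHom.id k K)).toRingHom
      (Groth.Agent.H20.GeomIrred.tensor_map_injective _
        (algebraMap k' (AlgebraicClosure k')).injective _ Function.injective_id)

end Groth.Agent.S2150
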