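import Groth.Statements.S19923
import Groth.Agent.Lib.H3.PhiInj
import Groth.Agent.Lib.FibreDeg.Basic
import Groth.Agent.Lib.TensorMod.TensorInv
-- import your own Groth.Agent.* helpers here

set_option autoImplicit false
universe u
open CategoryTheory CategoryTheory.Limits MonoidalCategory CartesianMonoidalCategory MonObj GrpObj AlgebraicGeometry
open AbVar

namespace Groth.Agent.S19923

/-- Let A be an abelian variety over a field k (a proper, geometrically integral commutative k-group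
scheme; k arbitrary), given with a dual (Â, φ_A) and a dual (Â̂, φ_Â) of Â — each represents the
fppf-sheafified functor of invertible classes algebraically equivalent to zero on geometric fibres,
with φ multiplicative — and with a Poincaré class ξ on A ×_k Â whose transpose ξ' on Â ×_k A lies in
Pic⁰ on the fibres over A; put ι_A = φ_Â(ξ') : A → Â̂ (the double-duality morphism). Let L be an
invertible O_A-module with an inverse L⁻¹, and let Λ be a module on A ×_k A isomorphic to m^*L ⊗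
p₁^*L⁻¹ ⊗ p₂^*L⁻¹ (m the group law, p₁, p₂ the projections) whose class lies in Pic⁰ on the fibres
over the second factor, so that φ_L := φ_A(Λ) : A → Â is the homomorphism a ↦ t_a^*L ⊗ L⁻¹. If φ̂_L
: Â̂ → Â is a transpose of φ_L (φ_A of the pull-back of a Pic⁰ class c along (φ_L)_T equals φ_Â(c)
followed by φ̂_L), then φ_L = ι_A followed by φ̂_L: the homomorphism φ_L is symmetric. -/
theorem result (K : Type u) [Field K]
    (A At Att : Over (Spec (CommRingCat.of K)))
    [GrpObj A] [IsCommMonObj A] [IsProper A.hom] [GeometricallyIntegral A.hom]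
    [GrpObj At] [IsCommMonObj At] [IsProper At.hom] [GeometricallyIntegral At.hom]
    [GrpObj Att] [IsCommMonObj Att] [IsProper Att.hom] [GeometricallyIntegral Att.hom]
    (φA : ∀ T : Over (Spec (CommRingCat.of K)), PicF.Cl (PicF.XT A.hom T) → (T ⟶ At))
    (hAt : AbDual.IsDualAV Scheme.fppfPrecoverage A At φA)
    (φAt : ∀ T : Over (Spec (CommRingCat.of K)), PicF.Cl (PicF.XT At.hom T) → (T ⟶ Att))
    (hAtt : AbDual.IsDualAV Scheme.fppfPrecoverage At Att φAt)
    (ξ : PicF.Cl (PicF.XT A.hom At)) (hξ : AbDual.IsPoincareCl A At φA ξ)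
    (hξ' : AbDual.IsPicZeroCl At.hom A (PicF.pullCl (pullbackSymmetry At.hom A.hom).hom ξ))
    (L Linv : A.left.Modules) (hL : PicF.IsInvertible L)
    (hLinv : Nonempty (CohB1.tensorMod L Linv ≅ Coh.structureModule A.left))
    (Λ : (PicF.XT A.hom A).Modules)
    (hΛ : Nonempty (Λ ≅ CohB1.tensorMod (CohB1.tensorMod ((Scheme.Modules.pullback (μ[A]).left).obj L)
      ((Scheme.Modules.pullback (fst A A).left).obj Linv)) ((Scheme.Modules.pullback (snd A A).left).obj Linv)))
    (hΛ0 : AbDual.IsPicZeroCl A.hom A (PicF.cl Λ))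
    (tl : Att ⟶ At) [IsMonHom tl]
    (htl : AbDual.IsTranspose (φA A (PicF.cl Λ)) φA φAt tl) :
    φA A (PicF.cl Λ) = φAt A (PicF.pullCl (pullbackSymmetry At.hom A.hom).hom ξ) ≫ tl := by
  letI : ∀ Y : Scheme.{u}, PicGrp.Law Y := Groth.Agent.Lib.TensorMod.Invertible.law
  haveI : Flat A.hom := Groth.Agent.Lib.FibreDeg.Basic.flat_of_field A.hom
  haveI : IsLocallyNoetherian A.left := LocallyOfFiniteType.isLocallyNoetherian A.hom
  open Groth.Agent.H3 Groth.Agent.H4.PicZero Groth.Agent.Lib.H3 in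
  obtain ⟨x, hx, hx0, hxr, hxφ⟩ := PhiInj.exists_poincare hAt hξ
  open Groth.Agent.H3 Groth.Agent.H4.PicZero Groth.Agent.Lib.H3 in
  let l := PicGrp.cls L hL
  open Groth.Agent.H3 Groth.Agent.H4.PicZero Groth.Agent.Lib.H3 in
  have hLi : PicF.IsInvertible Linv :=
    Groth.Agent.Lib.TensorMod.TensorInv.isInvertible_of_tensor_iso
      (Groth.Agent.Lib.TensorMod.Basic.comm Linv L ≪≫ hLinv.some)
  open Groth.Agent.H3 Groth.Agent.H4.PicZero Groth.Agent.Lib.H3 in
  let m : PicLoc.PicSet (A ⊗ A).left :=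
    PicCalc.ph μ[A] l * PicCalc.ph (fst A A) l⁻¹ * PicCalc.ph (snd A A) l⁻¹
  open Groth.Agent.H3 Groth.Agent.H4.PicZero Groth.Agent.Lib.H3 in
  have hinv : PicF.cl Linv = (l⁻¹).1 := by
    have h := (PicCalc.iso_iff (PicCalc.cl_tensor (a := l) (b := PicGrp.cls Linv hLi) rfl rfl)
      (b := (1 : PicLoc.PicSet A.left)) PicGrp.one_val.symm).1 hLinv
    rw [← eq_inv_of_mul_eq_one_right h]
    rfl
  open Groth.Agent.H3 Groth.Agent.H4.PicZero Groth.Agent.Lib.H3 in
  have hm : PicF.cl Λ = m.1 := by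
    refine (Quot.sound hΛ).trans ?_
    exact PicCalc.cl_tensor (PicCalc.cl_tensor (PicCalc.cl_pullback μ[A] (a := l) rfl)
      (PicCalc.cl_pullback (fst A A) hinv)) (PicCalc.cl_pullback (snd A A) hinv)
  open Groth.Agent.H3 Groth.Agent.H4.PicZero Groth.Agent.Lib.H3 in
  have hm0 : AbDual.IsPicZeroCl A.hom A m.1 := hm ▸ hΛ0
  open Groth.Agent.H3 Groth.Agent.H4.PicZero Groth.Agent.Lib.H3 in
  have hrm : PhiInj.rig m = 1 := by
    haveI : Subsingleton (𝟙_ (Over (Spec (CommRingCat.of K)))).left :=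
      inferInstanceAs (Subsingleton (PrimeSpectrum K))
    haveI : Nonempty (𝟙_ (Over (Spec (CommRingCat.of K)))).left :=
      inferInstanceAs (Nonempty (PrimeSpectrum K))
    simp only [PhiInj.rig, m, map_mul, map_inv, ← PicCalc.ph_comp, lift_fst, lift_snd]
    rw [show lift (1 : A ⟶ A) (𝟙 A) ≫ μ[A] = 𝟙 A from _root_.one_mul (𝟙 A), PicCalc.ph_id,
      show (1 : A ⟶ A) = toUnit A ≫ η[A] from Hom.one_def, PicCalc.ph_comp,
      PicCalc.eq_one_of_subsingleton (PicCalc.ph η[A] l), map_one, inv_one, _root_.mul_one,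
      mul_inv_cancel]
  open Groth.Agent.H3 Groth.Agent.H4.PicZero Groth.Agent.Lib.H3 in
  have hsymm : PicCalc.ph (β_ A A).hom m = m := by
    simp only [m, map_mul, map_inv, ← PicCalc.ph_comp, braiding_hom_fst, braiding_hom_snd,
      IsCommMonObj.mul_comm A]
    exact mul_right_comm _ _ _
  open Groth.Agent.H3 Groth.Agent.H4.PicZero Groth.Agent.Lib.H3 in
  have hkey : PicCalc.ph (A ◁ φA A (PicF.cl Λ)) x = m := by
    refine PhiInj.eq_of_phi_eq hAt (isPicZeroCl_ph _ _ (whiskerLeft_snd _ _) hx0) hm0 ?_ hrm ?_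
    · rw [PhiInj.rig_ph, hxr, map_one]
    · rw [hxφ, hm]
  open Groth.Agent.H3 Groth.Agent.H4.PicZero Groth.Agent.Lib.H3 in
  have h := htl A _ hξ'
  open Groth.Agent.H3 Groth.Agent.H4.PicZero Groth.Agent.Lib.H3 in
  have e : PicF.pullCl (AbDual.bcMap (φA A (PicF.cl Λ)) A)
      (PicF.pullCl (pullbackSymmetry At.hom A.hom).hom ξ) = m.1 := by
    rw [bcMap_eq, PhiInj.symm_eq, ← hx, ← PicCalc.ph_val, ← PicCalc.ph_val, ← PicCalc.ph_comp,
      BraidedCategory.braiding_naturality_left, PicCalc.ph_comp, hkey, hsymm]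
  rw [e, ← hm] at h
  exact h

end Groth.Agent.S19923
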