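import Groth.Statements.S4997
import Groth.Agent.Lib.JacCrit.QFSmooth

set_option autoImplicit false
universe u
open CategoryTheory CategoryTheory.Limits AlgebraicGeometry TopologicalSpace
open Unram17

namespace Groth.Agent.S4997

/-- A morphism of schemes is etale if and only if it is smooth and locally quasi-finite. -/
theorem result {X Y : Scheme.{u}} (f : X ⟶ Y) :
    Etale f ↔ Smooth f ∧ LocallyQuasiFinite f := by
  constructor
  · intro h
    refine ⟨inferInstance, HasRingHomProperty.iff_appLE.mpr fun V U e => ?_⟩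
    letI := (f.appLE V.1 U.1 e).hom.toAlgebra
    haveI : Algebra.Etale Γ(Y, V.1) Γ(X, U.1) := HasRingHomProperty.appLE @Etale f inferInstance V U e
    exact (inferInstance : Algebra.QuasiFinite Γ(Y, V.1) Γ(X, U.1))
  · rintro ⟨hs, hq⟩
    refine HasRingHomProperty.iff_appLE.mpr fun V U e => ?_
    letI := (f.appLE V.1 U.1 e).hom.toAlgebra
    haveI : Algebra.Smooth Γ(Y, V.1) Γ(X, U.1) := HasRingHomProperty.appLE @Smooth f inferInstance V U e
    haveI : Algebra.QuasiFinite Γ(Y, V.1) Γ(X, U.1) :=
      HasRingHomProperty.appLE @LocallyQuasiFinite f inferInstance V U e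
    exact Algebra.etaleLocus_eq_univ_iff_etale.mp (Set.eq_univ_iff_forall.mpr fun q =>
      Lib.JacCrit.QFSmooth.isEtaleAt _ _ q.asIdeal ((Algebra.smoothLocus_eq_univ (R := Γ(Y, V.1)) (A := Γ(X, U.1))).ge (Set.mem_univ q)))

end Groth.Agent.S4997
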