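import Groth.Statements.S19948
import Groth.Agent.Lib.H3.ThetaIso

set_option autoImplicit false
universe u
open CategoryTheory MonoidalCategory CartesianMonoidalCategory MonObj GrpObj AlgebraicGeometry
open ThetaGrp

namespace Groth.Agent.S19948

open Groth.Agent.H3 Groth.Agent.Lib.H3

/-- Let k be an algebraically closed field, f : X → Y an isogeny of abelian varieties over k (X, Y
proper, geometrically integral, commutative k-group schemes; f a finite surjective homomorphism), i
: N → X the kernel of f (a homomorphism forming a cartesian square with the unit section of Y), L an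
invertible O_X-module and i_K : K → X a closed immersion exhibiting K as K(L), the maximal closed
subscheme of X over which the Mumford bundle m^*L ⊗ p_1^*L⁻¹ ⊗ p_2^*L⁻¹, restricted to X ×_k K, is
the inverse image of an invertible module on K, with its universal property. Then L is the inverse
image of an invertible O_Y-module (there is an invertible M on Y with f^*M ≅ L) if and only if the
kernel of f lies inside K(L) as a subgroup scheme and the commutator pairing e_L is trivial on it: i
factors through i_K, and for every k-scheme T any two points (x₁, φ₁), (x₂, φ₂) of G(L)(T) whose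
translations are by points of N commute. (Algebraic closedness is used for the converse; over other
fields an isotropic kernel descends in general only after a finite extension of k.) -/
theorem result (k : Type u) [Field k] [IsAlgClosed k]
    (A : Over (Spec (CommRingCat.of k))) [GrpObj A] [IsCommMonObj A] [IsProper A.hom] [GeometricallyIntegral A.hom]
    (B : Over (Spec (CommRingCat.of k))) [GrpObj B] [IsCommMonObj B] [IsProper B.hom] [GeometricallyIntegral B.hom]
    (f : A ⟶ B) [IsMonHom f] [IsFinite f.left] (hf : Surjective f.left)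
    (N : Over (Spec (CommRingCat.of k))) [GrpObj N] (i : N ⟶ A) [IsMonHom i] (hN : AlgGrp.IsKernel i f)
    (L : A.left.Modules) (hL : PicF.IsInvertible L)
    (K : Over (Spec (CommRingCat.of k))) (iK : K ⟶ A) (hK : ThetaGrp.IsKL A L iK) :
    (∃ M : B.left.Modules, PicF.IsInvertible M ∧ Nonempty ((Scheme.Modules.pullback f.left).obj M ≅ L)) ↔
      ((∃ y : N ⟶ K, y ≫ iK = i) ∧ ThetaGrp.IsIsotropic L i) := by
  letI : ∀ Y : Scheme.{u}, PicGrp.Law Y := Groth.Agent.Lib.TensorMod.Invertible.law
  haveI := hf
  have hmono : ∀ {T : Over (Spec (CommRingCat.of k))} (n m : T ⟶ N), n ≫ i = m ≫ i → n = m :=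
    fun n m h => hN.hom_ext h (toUnit_unique _ _)
  constructor
  · rintro ⟨M, hM, ⟨e⟩⟩
    have hif : i ≫ f = 1 := by rw [hN.w, MonObj.one_eq_one, MonObj.comp_one]
    have hker : ∀ {T : Over (Spec (CommRingCat.of k))} (n : T ⟶ N), (n ≫ i) ≫ f = 1 := fun n => by
      rw [Category.assoc, hif, MonObj.comp_one]
    refine ⟨?_, fun T x y β₁ β₂ h₁ h₂ => ?_⟩
    · obtain ⟨v, ⟨hv, -⟩, -⟩ := Cartesian.existsUnique_kernelPt f M e.symm i hif
      exact (KLBasics.factors_iff hL hK i).mpr ⟨1, (ThetaPts.exists_thetaPt_iff hL i).mp ⟨v, hv⟩⟩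
    · obtain ⟨b₁, ⟨o₁, p₁⟩, -⟩ := Cartesian.existsUnique_kernelPt f M e.symm (x ≫ i) (hker x)
      obtain ⟨b₂, ⟨o₂, p₂⟩, -⟩ := Cartesian.existsUnique_kernelPt f M e.symm (y ≫ i) (hker y)
      obtain ⟨r₁, hr₁⟩ := ThetaMaps.exists_act hL h₁ o₁
      obtain ⟨r₂, hr₂⟩ := ThetaMaps.exists_act hL h₂ o₂
      refine ThetaMaps.commute_act hr₁ hr₂ ?_
      have hz : ((x ≫ i) * (y ≫ i)) ≫ f = 1 := by
        rw [MonObj.mul_comp, hker x, hker y, _root_.one_mul]
      refine (Cartesian.existsUnique_kernelPt f M e.symm _ hz).unique ⟨?_, ?_⟩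
        ⟨Cartesian.overPt_mul o₂ o₁, ?_⟩
      · rw [_root_.mul_comm]
        exact Cartesian.overPt_mul o₁ o₂
      · show (b₂.1.hom ≫ b₁.1.hom) ≫ _ = _
        rw [Category.assoc, p₁, p₂]
      · show (b₁.1.hom ≫ b₂.1.hom) ≫ _ = _
        rw [Category.assoc, p₂, p₁]
  · rintro ⟨hfac, hiso⟩
    haveI : IsFinite N.hom :=
      MorphismProperty.of_isPullback (P := @IsFinite) (hN.map (Over.forget _)) ‹IsFinite f.left›
    haveI : DiscreteTopology N.left := Groth.Agent.Lib.RedSplit98.Basic.discreteTopology N
    obtain ⟨n₀, hn₀⟩ := (KLBasics.factors_iff hL hK i).mp hfac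
    have hn₁ : n₀ = 1 := by
      obtain ⟨M₀, hM₀, rfl⟩ := PicGrp.exists_eq_cls n₀
      exact (PicGrp.cls_eq_one_iff hM₀).mpr (DiscretePic.nonempty_iso hM₀)
    subst hn₁
    obtain ⟨v, hv⟩ := (ThetaPts.exists_thetaPt_iff hL i).mpr hn₀
    obtain ⟨s⟩ := ThetaIso.exists_splitting i hmono hL hiso hv
    exact ThetaEff.exists_descent f hN s hL

end Groth.Agent.S19948
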