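import Groth.Statements.S3701
import Groth.Agent.H34.Stein.FiniteEtale
-- import your own Groth.Agent.* helpers here

set_option autoImplicit false
universe u
open Pi1

namespace Groth.Agent.S3701

open AlgebraicGeometry CategoryTheory CategoryTheory.Limits in
/-- Let f : X -> S be proper, flat and of finite presentation with geometrically reduced fibres. Then in
the Stein factorization X -> S' -> S, where S' is the normalization of S in X, the morphism S' -> S
is finite etale. -/
theorem result {X S : Scheme.{u}} (f : X ⟶ S) [IsProper f] [Flat f]
    [LocallyOfFinitePresentation f]
    (hred : ∀ (Ω : Type u) [Field Ω] [IsAlgClosed Ω] (σ : Spec (CommRingCat.of Ω) ⟶ S), IsReduced (pullback f σ)) :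
    IsFinite f.fromNormalization ∧ Etale f.fromNormalization := by
  haveI := Groth.Agent.H34.Stein.geometricallyReduced_of_isAlgClosed f hred
  exact Groth.Agent.H34.Stein.finite_etale_fromNormalization f

end Groth.Agent.S3701
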