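import Groth.Statements.S6942
import Groth.Agent.Lib.DR.Coherent

set_option autoImplicit false
universe u
open CategoryTheory CategoryTheory.Limits
attribute [local instance] HasDerivedCategory.standard
open DRing

open Groth.Agent.Lib.DR.Basic Groth.Agent.Lib.DR.FiniteComplex Groth.Agent.Lib.DR.PseudoCoherent Groth.Agent.Lib.DR.TopCohomology
open CategoryTheory CategoryTheory.Limits CategoryTheory.Pretriangulated Groth.Agent.Lib.DR.Representative Groth.Agent.Lib.DR.Coherent

namespace Groth.Agent.S6942

/-- Let R be a Noetherian commutative ring and m an integer. An object K of D(R) is m-pseudo-coherent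
exactly when H^i(K) = 0 for all large i and H^i(K) is a finitely generated R-module for each i ≥ m.
Every finitely generated R-module M is pseudo-coherent, and conversely. -/
theorem result (R : Type u) [CommRing R]
    [IsNoetherianRing R] (m : ℤ) (K : Dual.D R) (M : Type u) [AddCommGroup M] [Module R M] :
    (DRing.IsPseudoCoherent R m K ↔
      (∃ b : ℤ, ∀ i : ℤ, b < i → Subsingleton (Dual.HD R K i)) ∧ ∀ i : ℤ, m ≤ i → Module.Finite R (Dual.HD R K i)) ∧
      (DRing.IsPseudoCoherentModule' R M ↔ Module.Finite R M) := by
  have hc : IsCoh R := isCoh_of_isNoetherianRing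
  refine ⟨?_, ?_⟩
  · rw [isPseudoCoherent_iff]
    refine ⟨fun h => ?_, fun ⟨⟨b, hb⟩, hfin⟩ => ?_⟩
    · obtain ⟨b, hb⟩ := h.exists_isLE
      refine ⟨⟨b, (isLE_iff_subsingleton K b).1 hb⟩, fun i hi => ?_⟩
      exact (fp_homology_of_pcn hc (h.mono hi) i).2 rfl
    · exact pcn_of_finitePresentation_homology hc ((isLE_iff_subsingleton K b).2 hb) (hfin m le_rfl)
        fun i hi => have := hfin i hi.le; Module.finitePresentation_of_finite _ _
  · rw [DRing.IsPseudoCoherentModule', isPseudoCoherent'_iff_forall]
    refine ⟨fun h => ?_, fun h n => ?_⟩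
    · have := (finite_top ((pcn_ff_iff_fproj _ _).1 (h 0)) le_rfl
        (inferInstance : DerivedCategory.IsLE (Dual.inD R M) 0)).1
      exact Module.Finite.equiv (homologySingle (ModuleCat.of R M) 0).toLinearEquiv
    · have := Module.finitePresentation_of_finite R M
      exact pcn_single_of_fp' hc (ModuleCat.of R M) 0 n

end Groth.Agent.S6942
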