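import Groth.Statements.S6935
import Groth.Agent.Lib.DR.TopCohomology

set_option autoImplicit false
universe u
open CategoryTheory CategoryTheory.Limits
attribute [local instance] HasDerivedCategory.standard
open DRing
open CategoryTheory.Pretriangulated
open Groth.Agent.Lib.DR.Basic Groth.Agent.Lib.DR.FiniteComplex Groth.Agent.Lib.DR.PseudoCoherent Groth.Agent.Lib.DR.TopCohomology

namespace Groth.Agent.S6935

/-- Let R be a commutative ring and M an R-module, viewed as the complex M[0] in D(R). Then M[0] is
0-pseudo-coherent exactly when M is finitely generated over R, and M[0] is (-1)-pseudo-coherent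
exactly when M admits a finite presentation over R. -/
theorem result (R : Type u) [CommRing R]
    (M : Type u) [AddCommGroup M] [Module R M] :
    (DRing.IsPseudoCoherentModule R 0 M ↔ Module.Finite R M) ∧
      (DRing.IsPseudoCoherentModule R (-1) M ↔ Module.FinitePresentation R M) := by
  have hle : (Dual.inD R M : DerivedCategory _).IsLE 0 := inferInstance
  let e := (homologySingle (ModuleCat.of R M) 0).toLinearEquiv
  unfold DRing.IsPseudoCoherentModule
  rw [isPseudoCoherent_iff, isPseudoCoherent_iff]
  refine ⟨⟨fun h => ?_, fun h => pcn_single_of_finite (ModuleCat.of R M) 0⟩,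
    ⟨fun h => ?_, fun h => by simpa using pcn_single_of_finitePresentation (ModuleCat.of R M) 0⟩⟩
  · have := (finite_top ((pcn_ff_iff_fproj _ _).1 h) le_rfl hle).1
    exact Module.Finite.equiv e
  · have := (finite_top ((pcn_ff_iff_fproj _ _).1 h) (n := 0) (by lia) hle).2 (by lia)
    exact Module.FinitePresentation.of_equiv e

end Groth.Agent.S6935
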