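import Groth.Statements.S6938
import Groth.Agent.Lib.DR.Coherent

set_option autoImplicit false
universe u
open CategoryTheory CategoryTheory.Limits
attribute [local instance] HasDerivedCategory.standard
open DRing

open Groth.Agent.Lib.DR.Basic Groth.Agent.Lib.DR.FiniteComplex Groth.Agent.Lib.DR.PseudoCoherent Groth.Agent.Lib.DR.TopCohomology
open CategoryTheory CategoryTheory.Limits CategoryTheory.Pretriangulated Groth.Agent.Lib.DR.Representative Groth.Agent.Lib.DR.Coherent

namespace Groth.Agent.S6938

/-- Let R be a commutative ring, m an integer and K a bounded above cochain complex of R-modules. If the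
module K^i is (m - i)-pseudo-coherent for every i, then K is m-pseudo-coherent in D(R). If every K^i
is a pseudo-coherent module, then K is pseudo-coherent. -/
theorem result (R : Type u) [CommRing R] (m : ℤ)
    (K : DRing.Cx R) (b : ℤ) (hb : DRing.VanishesAbove K b) :
    ((∀ i : ℤ, DRing.IsPseudoCoherentModule R (m - i) (K.X i)) → DRing.IsPseudoCoherent R m (DRing.toD K)) ∧
      ((∀ i : ℤ, DRing.IsPseudoCoherentModule' R (K.X i)) → DRing.IsPseudoCoherent' R (DRing.toD K)) := by
  have hK : ∀ i, b < i → IsZero (K.X i) := hb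
  have key : ∀ n : ℤ, (∀ i, PCn (ff R) (n - i)
      ((DerivedCategory.singleFunctor (ModuleCat.{u} R) 0).obj (K.X i))) →
      PCn (ff R) n (DerivedCategory.Q.obj K) := by
    intro n h
    have hall : Good (fun _ : ModuleCat.{u} R => True) :=
      ⟨fun _ => trivial, fun _ _ => trivial, fun _ _ => trivial⟩
    obtain ⟨S, φ, hz, -, hSz, hiso, hφ⟩ := exists_stupidTrunc hall K n fun _ => trivial
    refine PCn.trans (bdd_induction hall (PCn (ff R) n)
      (fun hX => (bdd_zero good_ff hX 0 0).pcn n)
      (fun T hT h₁ h₃ => PCn.ext good_ff projective_of_ff T hT h₁ h₃)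
      S n (max b n) (fun i hi => hi.elim (hz i) fun hi => hSz i (hK i (by lia)))
      (fun _ => trivial) fun M i hi _ ⟨e⟩ => ?_) hφ
    have := hiso i hi
    exact ((pcn_single_shift_iff good_ff _ n i).2 (h i)).of_iso
      ((DerivedCategory.singleFunctor _ i).mapIso (e ≪≫ asIso (φ.f i)).symm)
  refine ⟨fun h => (isPseudoCoherent_iff _ _).2 (key m fun i => (isPseudoCoherent_iff _ _).1 (h i)),
    fun h => (isPseudoCoherent'_iff_forall _).2 fun n => key n fun i => ?_⟩
  exact (isPseudoCoherent'_iff_forall _).1 (h i) _

end Groth.Agent.S6938
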