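import Groth.Statements.S6939
import Groth.Agent.Lib.DR.Coherent

set_option autoImplicit false
universe u
open CategoryTheory CategoryTheory.Limits
attribute [local instance] HasDerivedCategory.standard
open DRing

open Groth.Agent.Lib.DR.Basic Groth.Agent.Lib.DR.FiniteComplex Groth.Agent.Lib.DR.PseudoCoherent Groth.Agent.Lib.DR.TopCohomology
open CategoryTheory CategoryTheory.Limits CategoryTheory.Pretriangulated Groth.Agent.Lib.DR.Representative Groth.Agent.Lib.DR.Coherent

namespace Groth.Agent.S6939

/-- Let R be a commutative ring, m an integer and K an object of D(R) whose cohomology vanishes in large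
degrees. If the module H^i(K) is (m - i)-pseudo-coherent for every i, then K is m-pseudo-coherent;
if every H^i(K) is a pseudo-coherent module, then K is pseudo-coherent. -/
theorem result (R : Type u) [CommRing R] (m : ℤ)
    (K : Dual.D R) (hb : ∃ b : ℤ, ∀ i : ℤ, b < i → Subsingleton (Dual.HD R K i)) :
    ((∀ i : ℤ, DRing.IsPseudoCoherentModule R (m - i) (Dual.HD R K i)) → DRing.IsPseudoCoherent R m K) ∧
      ((∀ i : ℤ, DRing.IsPseudoCoherentModule' R (Dual.HD R K i)) → DRing.IsPseudoCoherent' R K) := by
  obtain ⟨b, hb⟩ := hb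
  have key : ∀ n : ℤ, (∀ i, PCn (ff R) (n - i)
      ((DerivedCategory.singleFunctor (ModuleCat.{u} R) 0).obj
        ((DerivedCategory.homologyFunctor (ModuleCat.{u} R) i).obj K))) → PCn (ff R) n K :=
    fun n h => pcn_of_homology good_ff projective_of_ff ((isLE_iff_subsingleton K b).2 hb)
      fun i _ _ => (pcn_single_shift_iff good_ff _ n i).2 (h i)
  refine ⟨fun h => (isPseudoCoherent_iff _ _).2 (key m fun i => (isPseudoCoherent_iff _ _).1 (h i)),
    fun h => (isPseudoCoherent'_iff_forall _).2 fun n => key n fun i => ?_⟩
  exact (isPseudoCoherent'_iff_forall _).1 (h i) _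

end Groth.Agent.S6939
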