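import Groth.Statements.S7000
import Groth.Agent.Lib.DR.FlatBC
import Groth.Agent.Lib.DR.Representative

set_option autoImplicit false
universe u
open CategoryTheory CategoryTheory.Limits
attribute [local instance] HasDerivedCategory.standard
open DRing

open Groth.Agent.Lib.DR.Basic Groth.Agent.Lib.DR.FiniteComplex Groth.Agent.Lib.DR.PseudoCoherent Groth.Agent.Lib.DR.TopCohomology
open Groth.Agent.Lib.DR
open scoped TensorProduct

namespace Groth.Agent.S7000

/-- Let A → B be a flat homomorphism of commutative rings, m an integer and M an A-module. If M is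
m-pseudo-coherent then the B-module B ⊗_A M is m-pseudo-coherent; if M is pseudo-coherent then B ⊗_A
M is pseudo-coherent. -/
theorem result {A B : Type u} [CommRing A] [CommRing B] [Algebra A B]
    [Module.Flat A B] (m : ℤ) (M : Type u) [AddCommGroup M] [Module A M] :
    (DRing.IsPseudoCoherentModule A m M → DRing.IsPseudoCoherentModule B m (TensorProduct A B M)) ∧
      (DRing.IsPseudoCoherentModule' A M → DRing.IsPseudoCoherentModule' B (TensorProduct A B M)) := by
  refine ⟨fun h => (isPseudoCoherent_iff _ _).2 (FlatBC.pcn_inD (BaseChange.ext_ff _) ((isPseudoCoherent_iff _ _).1 h)),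
    fun h => (Representative.isPseudoCoherent'_iff_forall _).2 fun k =>
      FlatBC.pcn_inD (BaseChange.ext_ff _) ((Representative.isPseudoCoherent'_iff_forall _).1 h k)⟩

end Groth.Agent.S7000
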