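import Groth.Statements.S4790
import Groth.Agent.H69.HomStage.Cor

set_option autoImplicit false
universe u
open CategoryTheory AlgebraicGeometry
open Lim8

namespace Groth.Agent.S4790
open CategoryTheory CategoryTheory.Limits
set_option backward.isDefEq.respectTransparency false

/-- Let S = lim S_i be a cofiltered limit of schemes with affine transition maps and S_{i₀} a
quasi-compact quasi-separated stage; let F₀ and G₀ be quasi-coherent O-modules of finite
presentation on S_{i₀}. Then the pullbacks of F₀ and G₀ along S ⟶ S_{i₀} are isomorphic if and only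
if, for some index j over i₀, their pullbacks along S_j ⟶ S_{i₀} are isomorphic. -/
theorem result {I : Type u} [SmallCategory I] [IsCofiltered I]
    (D : I ⥤ Scheme.{u}) (c : Limits.Cone D) (hc : Limits.IsLimit c)
    [∀ (i j : I) (f : i ⟶ j), IsAffineHom (D.map f)] (i₀ : I) [CompactSpace (D.obj i₀)]
    [QuasiSeparatedSpace (D.obj i₀)] (F₀ G₀ : (D.obj i₀).Modules)
    [Coh.IsQCoh F₀] (hF₀fp : CohB1.IsFP F₀)
    [Coh.IsQCoh G₀] (hG₀fp : CohB1.IsFP G₀) :
    Nonempty ((Scheme.Modules.pullback (c.π.app i₀)).obj F₀ ≅ (Scheme.Modules.pullback (c.π.app i₀)).obj G₀) ↔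
      ∃ (j : I) (φ : j ⟶ i₀),
        Nonempty ((Scheme.Modules.pullback (D.map φ)).obj F₀ ≅ (Scheme.Modules.pullback (D.map φ)).obj G₀) := by
  haveI : ∀ {i j : I} (f : i ⟶ j), IsAffineHom (D.map f) := fun f => inferInstance
  haveI : F₀.IsQuasicoherent := inferInstanceAs (Coh.IsQCoh F₀)
  haveI : G₀.IsQuasicoherent := inferInstanceAs (Coh.IsQCoh G₀)
  refine ⟨fun ⟨e⟩ => ?_, fun ⟨j, φ, ⟨e⟩⟩ =>
    ⟨((Groth.Agent.H69.HomStage.Cor.trπ i₀ φ).app F₀).symm ≪≫
      (Scheme.Modules.pullback (c.π.app j)).mapIso e ≪≫ (Groth.Agent.H69.HomStage.Cor.trπ i₀ φ).app G₀⟩⟩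
  obtain ⟨j, hj, he⟩ := Groth.Agent.H69.HomStage.Main.exists_conj_eq D c i₀ G₀ hc hF₀fp e.hom
  haveI : CompactSpace (D.obj j.left) := QuasiCompact.compactSpace_of_compactSpace (D.map j.hom)
  haveI := Groth.Agent.Lib.QCoh.Pullback.isQCoh_pullback (D.map j.hom) F₀
  haveI := Groth.Agent.Lib.QCoh.Pullback.isQCoh_pullback (D.map j.hom) G₀
  have h1 : IsIso ((Scheme.Modules.pullback (c.π.app j.left)).map hj) := by
    have : IsIso (Groth.Agent.Lib.DescAlg.PbSec.conj F₀ G₀ (c.π.app j.left) (c.w j.hom) hj) := by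
      rw [he]; infer_instance
    have e1 : (Scheme.Modules.pullback (c.π.app j.left)).map hj =
        (Groth.Agent.Lib.DescAlg.PbSec.tr (c.π.app j.left) (c.w j.hom) F₀).hom ≫
          Groth.Agent.Lib.DescAlg.PbSec.conj F₀ G₀ (c.π.app j.left) (c.w j.hom) hj ≫
          (Groth.Agent.Lib.DescAlg.PbSec.tr (c.π.app j.left) (c.w j.hom) G₀).inv := by
      simp [Groth.Agent.Lib.DescAlg.PbSec.conj]
    rw [e1]
    infer_instance
  obtain ⟨k, χ, hk⟩ := (Groth.Agent.H47.ModStage.isIso_iff j.left hj hc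
    (Groth.Agent.H69.HomStage.Cor.isFT_of_isFP (Groth.Agent.H47.FlatLimit.isFP_pullback _ F₀ hF₀fp))
    (Groth.Agent.H47.FlatLimit.isFP_pullback _ G₀ hG₀fp)).1 h1
  haveI := hk
  exact ⟨k, χ ≫ j.hom, ⟨((Groth.Agent.H69.HomStage.Cor.trD i₀ j.hom χ).app F₀).symm ≪≫
    asIso ((Scheme.Modules.pullback (D.map χ)).map hj) ≪≫
      (Groth.Agent.H69.HomStage.Cor.trD i₀ j.hom χ).app G₀⟩⟩

end Groth.Agent.S4790
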