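import Groth.Statements.S3599
import Groth.Agent.Lib.NormAmple.Model
import Groth.Agent.Lib.NormAmple.ModelNorm
import Groth.Agent.Lib.Ample.RelAmple

set_option autoImplicit false
universe u
open CategoryTheory CategoryTheory.Limits AlgebraicGeometry
open EGA2
open Groth.Agent.Lib Groth.Agent.Lib.NormAmple

namespace Groth.Agent.S3599

/-- Let Y be an affine scheme, X a Noetherian reduced scheme, f : X → Y a quasi-compact morphism, g : X'
→ X a finite surjective morphism, and W an open subset of X such that at every point x of W either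
the local ring of X is an integrally closed domain or the direct image of the structure sheaf of X'
is locally free on some open neighbourhood of x inside W. Then there are a reduced scheme Z and a
finite birational morphism h : Z → X (birational in the sense that h is an isomorphism over some
dense open of X whose inverse image is dense in Z) which is an isomorphism over W, such that for
every invertible O_X-module L whose inverse image on X' is ample relative to f ∘ g, the inverse
image of L on Z is ample relative to f ∘ h. -/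
theorem result {X X' Y : Scheme.{u}} [IsAffine Y]
    [IsNoetherian X] [IsReduced X] (f : X ⟶ Y) [QuasiCompact f] (g : X' ⟶ X) [IsFinite g] [Surjective g]
    (W : X.Opens)
    (hW : ∀ x ∈ W, (IsDomain (X.presheaf.stalk x) ∧ IsIntegrallyClosed (X.presheaf.stalk x)) ∨
      ∃ T : X.Opens, x ∈ T ∧ T ≤ W ∧ FlatMod.IsFinLocFree (((Coh.push g).obj (Coh.structureModule X')).restrict T.ι)) :
    ∃ (Z : Scheme.{u}) (_ : IsReduced Z) (h : Z ⟶ X) (_ : IsFinite h),
      IsIso (h ∣_ W) ∧
        (∃ V : X.Opens, Dense (V : Set X) ∧ Dense ((h ⁻¹ᵁ V : Z.Opens) : Set Z) ∧ IsIso (h ∣_ V)) ∧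
        ∀ L : X.Modules, PicF.IsInvertible L →
          RelAmple.IsRelAmple (g ≫ f) ((Scheme.Modules.pullback g).obj L) →
            RelAmple.IsRelAmple (h ≫ f) ((Scheme.Modules.pullback h).obj L) := by
  have hW' : ∀ x ∈ W, Generic.Good g x := fun x hx => by
    rcases hW x hx with h | ⟨T, hxT, -, hT⟩
    · exact Or.inl h
    · exact Generic.good_of_restrict hxT hT
  obtain ⟨d, D⟩ := Model.exists_deg g GenStalk.finite_isMax g.surjective
  have H := Model.isQC D
  let h := AlgGlue.Basic.proj H
  have hfin : IsFinite h := AlgGlue.Basic.isFinite_proj H fun U => Model.finite_α D.fin U.2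
  have hred : IsReduced (AlgGlue.Basic.spec H) := AlgGlue.Basic.isReduced_spec H fun U => by
    haveI : ∀ η : Model.MaxIn (Y := X) U.1, _root_.IsReduced (X.presheaf.stalk η.1) := fun η => inferInstance
    exact isReduced_of_injective (Model.Bsub g d U.1).subtype Subtype.val_injective
  -- opens where the algebra is trivial
  let T : Set X.affineOpens := {U | Function.Bijective ((Model.α g d).app (Opposite.op U.1))}
  have hiso : ∀ (O : X.Opens), (∀ x ∈ O, Generic.Good g x) → IsIso (h ∣_ O) := fun O hO => by
    choose U hxU hUO hU using fun x : O => Model.exists_trivial_nhd D (hO x.1 x.2) x.2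
    exact AlgGlue.Basic.isIso_morphismRestrict H O U (le_antisymm (iSup_le hUO) fun x hx =>
      TopologicalSpace.Opens.mem_iSup.2 ⟨⟨x, hx⟩, hxU ⟨x, hx⟩⟩) hU
  have hmax : ∀ η : X, GenStalk.IsMaxPt η → η ∈ ⨆ U : T, U.1.1 := fun η hη => by
    obtain ⟨U, hηU, -, hU⟩ := Model.exists_trivial_nhd D (O := ⊤) (Model.good_of_isMax hη)
      (TopologicalSpace.Opens.mem_top η)
    exact TopologicalSpace.Opens.mem_iSup.2 ⟨⟨U, hU⟩, hηU⟩
  refine ⟨AlgGlue.Basic.spec H, hred, h, hfin, hiso W hW', ⟨⨆ U : T, U.1.1, ?_,
    Support.dense_preimage D H _ hmax, AlgGlue.Basic.isIso_morphismRestrict H _ (fun U : T => U.1) rfl fun U => U.2⟩,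
    ?_⟩
  · intro x
    obtain ⟨η, hη, hηx⟩ := GenStalk.exists_isMax_specializes x
    refine closure_mono ?_ hηx.mem_closure
    rintro _ rfl
    exact hmax _ hη
  · intro L hL hA
    rw [Ample.RelAmple.isRelAmple_iff_isAmple] at hA ⊢
    exact Descend.isAmple_of_pullback (Support.relNorm D H) g.surjective D.pos hL hA

end Groth.Agent.S3599
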