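import Groth.Statements.S9813
import Groth.Agent.Lib.Ample.Pullback
import Mathlib.AlgebraicGeometry.ValuativeCriterion

set_option autoImplicit false
universe u
open CategoryTheory CategoryTheory.Limits AlgebraicGeometry TopologicalSpace
open Props

namespace Groth.Agent.S9813

open Groth.Agent.Lib.TensorMod Groth.Agent.Lib.TensorMod.Basic Groth.Agent.Lib.TensorMod.Free Groth.Agent.Lib.TensorMod.Dual Groth.Agent.Lib.TensorMod.Gen Groth.Agent.Lib.TensorMod.LocIso Groth.Agent.Lib.TensorMod.HomGlue Groth.Agent.Lib.Ample.GenLocus Groth.Agent.Lib.Ample.Basis Groth.Agent.Lib.Ample.Pow in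
theorem uniq {X : Scheme.{u}} (L : X.Modules) (hL : PicF.IsInvertible L)
    (h : ∀ x : X, ∃ (n : ℕ) (s : Coh.structureModule X ⟶ CohB1.tensorPow L (n + 1)),
      x ∈ CohB1.genLocus _ s ∧ IsAffineOpen (CohB1.genLocus _ s))
    (R K : Type u) [CommRing R] [IsDomain R] [ValuationRing R] [Field K] [Algebra R K] [IsFractionRing R K]
    (l₁ l₂ : Spec (.of R) ⟶ X)
    (hl : Spec.map (CommRingCat.ofHom (algebraMap R K)) ≫ l₁ = Spec.map (CommRingCat.ofHom (algebraMap R K)) ≫ l₂) :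
    l₁ = l₂ := by
  let j := Spec.map (CommRingCat.ofHom (algebraMap R K))
  let c : Spec (.of R) := IsLocalRing.closedPoint R
  have hge : ∀ (l : Spec (.of R) ⟶ X) (U : X.Opens), l c ∈ U → l ⁻¹ᵁ U = ⊤ := fun l U hU =>
    top_le_iff.1 fun y _ => (IsLocalRing.specializes_closedPoint (y : PrimeSpectrum R)).mem_open
      (l ⁻¹ᵁ U).isOpen hU
  have hj : Function.Injective j.appTop := by
    have h1 : j.appTop = (Scheme.ΓSpecIso (.of R)).hom ≫ CommRingCat.ofHom (algebraMap R K) ≫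
        (Scheme.ΓSpecIso (.of K)).inv := by
      rw [← Scheme.ΓSpecIso_naturality_assoc, Iso.hom_inv_id, Category.comp_id]
    rw [h1]
    exact ((Scheme.ΓSpecIso (.of K)).symm.commRingCatIsoToRingEquiv.injective.comp
      (IsFractionRing.injective R K)).comp (Scheme.ΓSpecIso (.of R)).commRingCatIsoToRingEquiv.injective
  obtain ⟨n₁, s₁, hx₁, hs₁⟩ := h (l₁ c)
  obtain ⟨n₂, s₂, hx₂, hs₂⟩ := h (l₂ c)
  let M := CohB1.tensorPow L ((n₁ + 1) * (n₂ + 1))
  let s : Coh.structureModule X ⟶ M := SecTwist.powHom s₁ (n₂ + 1) ≫ (powMul L (n₁ + 1) (n₂ + 1)).hom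
  let t : Coh.structureModule X ⟶ M := SecTwist.powHom s₂ (n₁ + 1) ≫
    (powMul L (n₂ + 1) (n₁ + 1) ≪≫ powCongr L (Nat.mul_comm _ _)).hom
  let U := CohB1.genLocus M s
  let V := CohB1.genLocus M t
  have hU : U = CohB1.genLocus _ s₁ := by
    refine (genLocus_comp_iso _ _).trans ?_
    exact genLocus_powHom (Lib.TensorMod.Invertible.isInvertible_tensorPow hL _) _ _ (Nat.succ_pos _)
  have hV : V = CohB1.genLocus _ s₂ := by
    refine (genLocus_comp_iso _ _).trans ?_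
    exact genLocus_powHom (Lib.TensorMod.Invertible.isInvertible_tensorPow hL _) _ _ (Nat.succ_pos _)
  have h₁ : l₁ ⁻¹ᵁ U = ⊤ := hge _ _ (hU ▸ hx₁)
  have h₂ : l₂ ⁻¹ᵁ V = ⊤ := hge _ _ (hV ▸ hx₂)
  obtain ⟨g, hg⟩ := exists_coord (isGen_genLocus s) (sv t U)
  obtain ⟨g', hg'⟩ := exists_coord (isGen_genLocus t) (sv s V)
  have hb : V ⊓ U = X.basicOpen g := genLocus_inf_eq (isGen_genLocus s) t hg
  have hinv : X.presheaf.map (homOfLE (inf_le_right : V ⊓ U ≤ U)).op g *
      X.presheaf.map (homOfLE (inf_le_left : V ⊓ U ≤ V)).op g' = 1 := by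
    refine ((isGen_genLocus s) (V ⊓ U) inf_le_right).1 ?_
    simp only [rs_sv, one_smul]
    have e1 := congrArg (rs M (inf_le_right : V ⊓ U ≤ U)) hg
    have e2 := congrArg (rs M (inf_le_left : V ⊓ U ≤ V)) hg'
    rw [rs_sv, rs_smul, rs_sv] at e1 e2
    rw [mul_comm, mul_smul, ← e1, ← e2]
  have hjl : (j ≫ l₁) ⁻¹ᵁ (V ⊓ U) = ⊤ := by
    refine top_le_iff.1 fun y _ => ⟨?_, ?_⟩
    · show (j ≫ l₁) y ∈ V
      rw [hl]
      exact (h₂.ge trivial : j y ∈ l₂ ⁻¹ᵁ V)
    · exact (h₁.ge trivial : j y ∈ l₁ ⁻¹ᵁ U)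
  let a := l₁.appLE U ⊤ h₁.ge g
  let b := l₂.appLE V ⊤ h₂.ge g'
  have hab : a * b = 1 := by
    apply hj
    rw [map_mul, map_one]
    have e1 : j.appTop a = (j ≫ l₁).appLE (V ⊓ U) ⊤ hjl.ge (X.presheaf.map (homOfLE inf_le_right).op g) := by
      simp only [a, ← CommRingCat.comp_apply, Scheme.Hom.appTop, Scheme.Hom.app_eq_appLE,
        Scheme.Hom.map_appLE, Scheme.Hom.appLE_comp_appLE]
      rfl
    have e2 : j.appTop b = (j ≫ l₂).appLE (V ⊓ U) ⊤ (hl ▸ hjl).ge (X.presheaf.map (homOfLE inf_le_left).op g') := by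
      simp only [b, ← CommRingCat.comp_apply, Scheme.Hom.appTop, Scheme.Hom.app_eq_appLE,
        Scheme.Hom.map_appLE, Scheme.Hom.appLE_comp_appLE]
      rfl
    rw [e1, e2, show ((j ≫ l₂).appLE (V ⊓ U) ⊤ (hl ▸ hjl).ge) = (j ≫ l₁).appLE (V ⊓ U) ⊤ hjl.ge from by
      simp only [j, hl], ← map_mul, hinv, map_one]
  have h₁' : l₁ c ∈ V := by
    have hm : c ∈ (Spec (.of R)).basicOpen a := by
      rw [Scheme.basicOpen_of_isUnit _ (IsUnit.of_mul_eq_one b hab)]
      trivial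
    simp only [a, Scheme.Hom.appLE, CommRingCat.comp_apply, Scheme.basicOpen_res] at hm
    rw [← Scheme.preimage_basicOpen, ← hb] at hm
    exact hm.2.1
  have : IsAffine (V : Scheme.{u}) := hV ▸ hs₂
  have hr : ∀ l : Spec (.of R) ⟶ X, l c ∈ V → Set.range l ⊆ Set.range V.ι := fun l hl' => by
    rintro _ ⟨y, rfl⟩
    rw [Scheme.Opens.range_ι]
    exact ((hge l V hl').ge trivial : y ∈ l ⁻¹ᵁ V)
  let k₁ := IsOpenImmersion.lift V.ι l₁ (hr _ h₁')
  let k₂ := IsOpenImmersion.lift V.ι l₂ (hr _ (hV ▸ hx₂))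
  have hk : k₁ = k₂ := by
    refine ext_of_isAffine ?_
    have hjk : j ≫ k₁ = j ≫ k₂ := by
      rw [← cancel_mono V.ι, Category.assoc, Category.assoc, IsOpenImmersion.lift_fac,
        IsOpenImmersion.lift_fac]
      exact hl
    ext z
    apply hj
    have := congr($(congrArg Scheme.Hom.appTop hjk) z)
    simpa using this
  rw [← IsOpenImmersion.lift_fac V.ι l₁ (hr _ h₁'), ← IsOpenImmersion.lift_fac V.ι l₂ (hr _ (hV ▸ hx₂))]
  exact congrArg (· ≫ V.ι) hk


/-- Let L be an invertible module on a scheme X such that every point lies in an affine open of the form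
X_s for some global section s of a positive tensor power of L. Then X is separated. In particular a
scheme carrying an ample invertible module is separated. -/
theorem result (X : Scheme.{u}) (L : X.Modules) (hL : PicF.IsInvertible L)
    (h : ∀ x : X, ∃ (n : ℕ) (s : Coh.structureModule X ⟶ CohB1.tensorPow L (n + 1)),
      x ∈ CohB1.genLocus _ s ∧ IsAffineOpen (CohB1.genLocus _ s)) :
    X.IsSeparated := by
  haveI : QuasiSeparatedSpace X := Lib.Ample.Pullback.quasiSeparatedSpace_of_qAffAt hL fun x => by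
    obtain ⟨n, s, hx, hs⟩ := h x
    exact Lib.Ample.Pullback.QAffAt.of_affineAt ⟨n + 1, Nat.succ_pos n, s, hx, hs⟩
  haveI : QuasiSeparated (terminal.from X) := (quasiSeparatedSpace_iff_quasiSeparated X).1 inferInstance
  refine ⟨IsSeparated.of_valuativeCriterion _ fun S => ⟨fun l₁ l₂ => ?_⟩⟩
  exact CommSq.LiftStruct.ext (uniq L hL h S.R S.K _ _ (l₁.fac_left.trans l₂.fac_left.symm))

end Groth.Agent.S9813
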