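import Groth.Statements.S0542
import Mathlib
import Groth.Agent.Lib.Adic.Complete

set_option autoImplicit false
universe u
open CAlg

namespace Groth.Agent.S0542

/-- If `I` is a finitely generated ideal of a ring `R` and `R/I` is Noetherian, then the `I`-adic
completion of `R` is a Noetherian ring. (The source also states completeness of the completion along
the extended ideal, which Mathlib already has; only Noetherianity is stated here.) -/
theorem result (R : Type u) [CommRing R] (I : Ideal R)
    (hI : I.FG) [IsNoetherianRing (R ⧸ I)] : IsNoetherianRing (AdicCompletion I R) := by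
  haveI : IsAdicComplete (I.map (algebraMap R (AdicCompletion I R))) (AdicCompletion I R) :=
    (IsAdicComplete.map_algebraMap_iff I _).mpr (AdicCompletion.isAdicComplete hI)
  have hk := AdicCompletion.ker_evalOneₐ_eq_map I hI
  let e : (AdicCompletion I R ⧸ I.map (algebraMap R (AdicCompletion I R))) ≃+* R ⧸ I :=
    (Ideal.quotEquivOfEq hk.symm).trans (RingHom.quotientKerEquivOfSurjective
      (f := (AdicCompletion.evalOneₐ I).toRingHom) (AdicCompletion.evalOneₐ_surjective I))
  haveI : IsNoetherianRing (AdicCompletion I R ⧸ I.map (algebraMap R (AdicCompletion I R))) :=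
    isNoetherianRing_of_ringEquiv _ e.symm
  exact Groth.Agent.Lib.Adic.Complete.isNoetherianRing_of_fg (J := I.map (algebraMap R (AdicCompletion I R))) (hI.map _)

end Groth.Agent.S0542
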