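import Groth.Statements.S4944
import Groth.Agent.H46.SubStalk
import Groth.Agent.H75.RedSub

set_option autoImplicit false
open CategoryTheory AlgebraicGeometry
universe u v w
open EGA43

namespace Groth.Agent.S4944

/-- Suppose Y is an irreducible, locally Noetherian scheme and f : X ⟶ Y is locally of finite type. Take
a point x of X at which f is equidimensional and which is closed in its fibre f⁻¹(f x). Then one can
find an irreducible reduced scheme T together with an immersion i : T ⟶ X whose image contains x,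
such that the composite T ⟶ Y is dominant and quasi-finite (meaning locally quasi-finite and of
finite type). -/
theorem result {X Y : Scheme.{u}} [IrreducibleSpace Y]
    [IsLocallyNoetherian Y] (f : X ⟶ Y) [LocallyOfFiniteType f] (x : X) (hf : EGA43.IsEquidimAt f x)
    (hcl : ∀ x' : X, f.base x' = f.base x → x ⤳ x' → x' = x) :
    ∃ (T : Scheme.{u}) (i : T ⟶ X), IsImmersion i ∧ IrreducibleSpace ↥T ∧ IsReduced T ∧ x ∈ Set.range i.base ∧
        LocallyOfFiniteType (i ≫ f) ∧ LocallyQuasiFinite (i ≫ f) ∧ QuasiCompact (i ≫ f) ∧ IsDominant (i ≫ f) := by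
  haveI := LocallyOfFiniteType.isLocallyNoetherian f
  have hx := Groth.Agent.H46.SubStalk.trd_eq_zero_of_closed f x hcl
  obtain ⟨ξ, hξx, hξ⟩ := Groth.Agent.Lib.Cyc.DimFun.exists_isMaxPt_specializes x
  obtain ⟨hη, htrd⟩ := Groth.Agent.H46.DimData.components_of_isEquidimAt f hf ξ hξ hξx
  obtain ⟨ξ', hξ'x, hfξ', hb⟩ := Groth.Agent.H46.SubStalk.exists_quasiSection f x hx
    (Groth.Agent.H46.FibreTrdeg.trd f ξ) ξ hξx hη rfl
    fun a _ _ hax => (Groth.Agent.H46.DimData.trd_le_fe f hax).trans htrd.ge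
  let X₁ : TopologicalSpace.Closeds X := ⟨closure {ξ'}, isClosed_closure⟩
  let i := (Scheme.IdealSheafData.vanishingIdeal X₁).subschemeι
  have hr : Set.range i = closure {ξ'} := by
    rw [Scheme.IdealSheafData.range_subschemeι, Scheme.IdealSheafData.coe_support_vanishingIdeal]
    rfl
  obtain ⟨w, rfl⟩ : x ∈ Set.range i := by rw [hr]; exact hξ'x.mem_closure
  obtain ⟨w₀, hw₀⟩ : ξ' ∈ Set.range i := by rw [hr]; exact subset_closure rfl
  have hgen : ∀ a, w₀ ⤳ a := fun a => by
    rw [← i.isEmbedding.isInducing.specializes_iff, hw₀, specializes_iff_mem_closure, ← hr]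
    exact ⟨a, rfl⟩
  let O : (Scheme.IdealSheafData.vanishingIdeal X₁).subscheme.Opens := ⟨_,
    Groth.Agent.Lib.FibreDim.Semicont.isOpen_setOf_fibreDimAt_le (i ≫ f)
      ((0 : ℕ) : WithBot ℕ∞)⟩
  have hwO : w ∈ O := by
    obtain ⟨z, hz, hzw, -, he⟩ := Groth.Agent.H46.DimData.exists_fe_eq (i ≫ f) w
    show FlatMor.fibreDimAt (i ≫ f) w ≤ _
    rw [Groth.Agent.H46.DimData.fibreDimAt_eq, Nat.cast_le, ← he,
      Groth.Agent.H46.FibreTrdeg.trd_comp]
    exact hb _ (hw₀ ▸ (hgen z).map i.continuous) hz (hzw.map i.continuous)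
  obtain ⟨V, hV, hwV, hVO⟩ :=
    AlgebraicGeometry.exists_isAffineOpen_mem_and_subset (x := w) (U := O) hwO
  haveI : IsAffine (V : Scheme.{u}) := hV
  haveI : IrreducibleSpace ↥(Scheme.IdealSheafData.vanishingIdeal X₁).subscheme :=
    (irreducibleSpace_def _).2 (by
      show IsIrreducible (Set.univ : Set ↥(Scheme.IdealSheafData.vanishingIdeal X₁).subscheme)
      rw [show (Set.univ : Set ↥(Scheme.IdealSheafData.vanishingIdeal X₁).subscheme) =
        closure {w₀} from (Set.eq_univ_of_forall fun a => (hgen a).mem_closure).symm]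
      exact isIrreducible_singleton.closure)
  have hVne : Nonempty ↥(V : Scheme.{u}) := ⟨⟨w, hwV⟩⟩
  have hlft : LocallyOfFiniteType (V.ι ≫ i ≫ f) := inferInstance
  refine ⟨V, V.ι ≫ i, inferInstance, ?_, ?_, ⟨⟨w, hwV⟩, rfl⟩, ?_, ?_, ?_, ?_⟩
  · exact (irreducibleSpace_def _).2
      ⟨Set.univ_nonempty, (IrreducibleSpace.isIrreducible_univ
        ↥(Scheme.IdealSheafData.vanishingIdeal X₁).subscheme).2.preimage V.ι.isOpenEmbedding⟩
  · infer_instance
  · simpa [Category.assoc] using hlft
  · rw [Category.assoc]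
    haveI : LocallyOfFiniteType (V.ι ≫ i ≫ f) := hlft
    refine (Scheme.Hom.quasiFiniteLocus_eq_top_iff _).1 (top_le_iff.1 fun a _ => ?_)
    refine Groth.Agent.Lib.FibreDim.Semicont.quasiFiniteAt_of_incomparable _ a fun z hz hza => ?_
    have hb' : ∀ c : ↥(V : Scheme.{u}), Groth.Agent.H46.FibreTrdeg.trd (V.ι ≫ i ≫ f) c = 0 := by
      intro c
      rw [Groth.Agent.H46.FibreTrdeg.trd_comp]
      have := (Groth.Agent.H46.FibreTrdeg.trd_le_fibreDimAt (i ≫ f) _).trans (hVO c.2)
      exact Nat.le_zero.1 (by exact_mod_cast this)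
    rcases hza with h | h
    · exact Groth.Agent.H46.FibreTrdeg.eq_of_trd_le _ h hz (by rw [hb', hb'])
    · exact (Groth.Agent.H46.FibreTrdeg.eq_of_trd_le _ h hz.symm (by rw [hb', hb'])).symm
  · infer_instance
  · rw [Category.assoc, isDominant_iff, DenseRange, dense_iff_closure_eq, Set.eq_univ_iff_forall]
    intro y
    have hη' : f ξ' = genericPoint Y := by
      rw [hfξ']; exact (hη _ (genericPoint_specializes _)).symm
    refine closure_mono (s := {f ξ'}) ?_ ?_
    · rintro _ rfl
      refine ⟨⟨w₀, (hgen w).mem_open V.2 hwV⟩, ?_⟩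
      show f (i w₀) = f ξ'
      rw [hw₀]
    · rw [hη', genericPoint_closure]; trivial

end Groth.Agent.S4944
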