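import Groth.Statements.S4974
import Groth.Agent.S4944
import Groth.Agent.Lib.Henselian.LocalRing
import Groth.Agent.Lib.Henselian.QuasiFinite
import Groth.Agent.Lib.Henselian.Finite

set_option autoImplicit false
open CategoryTheory AlgebraicGeometry
universe u v w
open EGA43

namespace Groth.Agent.S4974

/-- Consider a complete Noetherian local domain A and put Y = Spec A. Suppose f : X ⟶ Y is locally of
finite type, and take a point x ∈ X mapping to the closed point of Y, where f is equidimensional at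
x and x is closed in the fibre containing it. Then one can find a local domain A' that contains A
and is finite as an A-algebra, together with a Y-morphism h : Spec A' ⟶ X that is an immersion and
has x in its image. -/
theorem result {A : Type u} [CommRing A] [IsDomain A]
    [IsNoetherianRing A] [IsLocalRing A] [IsAdicComplete (IsLocalRing.maximalIdeal A) A] {X : Scheme.{u}}
    (f : X ⟶ Spec (CommRingCat.of A)) [LocallyOfFiniteType f] (x : X) (hx : f.base x = IsLocalRing.closedPoint A)
    (hf : EGA43.IsEquidimAt f x) (hcl : ∀ x' : X, f.base x' = f.base x → x ⤳ x' → x' = x) :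
    ∃ (A' : Type u) (_ : CommRing A') (_ : IsDomain A') (_ : IsLocalRing A') (_ : Algebra A A') (_ : Module.Finite A A'),
      Function.Injective (algebraMap A A') ∧
      ∃ h : Spec (CommRingCat.of A') ⟶ X, h ≫ f = Spec.map (CommRingCat.ofHom (algebraMap A A')) ∧
        IsImmersion h ∧ x ∈ Set.range h.base := by
  obtain ⟨T, i, _, _, _, ⟨t, ht⟩, hlft, hqf, -, hdom⟩ := Groth.Agent.S4944.result f x hf hcl
  haveI := LocallyOfFiniteType.isLocallyNoetherian f
  obtain ⟨V, hV, htV, -⟩ := exists_isAffineOpen_mem_and_subset (x := t) (U := ⊤) trivial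
  haveI : Nonempty ↥(V : Scheme.{u}) := ⟨⟨t, htV⟩⟩
  haveI : AlgebraicGeometry.IsIntegral T := isIntegral_of_irreducibleSpace_of_isReduced T
  haveI : Nonempty ↥V := ⟨⟨t, htV⟩⟩
  haveI : IsDomain Γ(T, V) := inferInstance
  haveI : IsOpenImmersion hV.fromSpec := hV.isOpenImmersion_fromSpec
  let φ := Spec.preimage (hV.fromSpec ≫ i ≫ f)
  have hφ : Spec.map φ = hV.fromSpec ≫ i ≫ f := Spec.map_preimage _
  haveI : LocallyOfFiniteType (Spec.map φ) := hφ ▸ inferInstance
  haveI : LocallyQuasiFinite (Spec.map φ) := hφ ▸ inferInstance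
  haveI : IsDominant (hV.fromSpec) := ⟨by
    rw [DenseRange, hV.range_fromSpec]
    exact V.2.dense ⟨t, htV⟩⟩
  haveI : IsDominant (Spec.map φ) := hφ ▸ inferInstance
  letI : Algebra A Γ(T, V) := φ.hom.toAlgebra
  haveI : Algebra.FiniteType A Γ(T, V) := RingHom.finiteType_algebraMap.1 <|
    (HasRingHomProperty.Spec_iff (P := @LocallyOfFiniteType)).1 ‹_›
  haveI : Algebra.QuasiFinite A Γ(T, V) := RingHom.quasiFinite_algebraMap.1 <|
    (HasRingHomProperty.Spec_iff (P := @LocallyQuasiFinite)).1 ‹_›
  haveI : HenselianLocalRing A :=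
    Groth.Agent.Lib.Henselian.LocalRing.henselianLocalRing_iff_henselianRing.mpr inferInstance
  obtain ⟨q, hq⟩ : t ∈ Set.range hV.fromSpec := hV.range_fromSpec.ge htV
  let Q : PrimeSpectrum Γ(T, V) := q
  haveI : Q.asIdeal.LiesOver (IsLocalRing.maximalIdeal A) := ⟨by
    have h : Spec.map φ q = IsLocalRing.closedPoint A := by
      rw [hφ, Scheme.Hom.comp_apply, hq, Scheme.Hom.comp_apply]
      exact (congrArg _ ht).trans hx
    exact (congrArg PrimeSpectrum.asIdeal h).symm⟩
  haveI : Algebra.QuasiFiniteAt A Q.asIdeal := inferInstance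
  obtain ⟨e, he, heQ, hfin⟩ :=
    Groth.Agent.Lib.Henselian.QuasiFinite.exists_idempotent_of_quasiFiniteAt (R := A) Q.asIdeal
  rcases IsIdempotentElem.iff_eq_zero_or_one.1 he with rfl | rfl
  · exact absurd Q.asIdeal.zero_mem heQ
  haveI : Module.Finite A Γ(T, V) :=
    Module.Finite.of_surjective
      (Ideal.quotientEquivAlgOfEq A (show Ideal.span ({1 - 1} : Set Γ(T, V)) = ⊥ by simp) |>.trans
        (AlgEquiv.quotientBot A Γ(T, V))).toLinearMap (AlgEquiv.surjective _)
  haveI : IsLocalRing Γ(T, V) := by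
    classical
    have hb := Groth.Agent.Lib.Henselian.Finite.toPiLocalization_bijective (A := A) (B := Γ(T, V))
    refine IsLocalRing.of_unique_max_ideal ?_
    obtain ⟨M, hM⟩ := Ideal.exists_maximal Γ(T, V)
    refine ⟨M, hM, fun N hN => ?_⟩
    by_contra hne
    obtain ⟨a, ha⟩ := hb.2 (Pi.single ⟨N, hN⟩ 1)
    obtain ⟨b, hb'⟩ := hb.2 (Pi.single ⟨M, hM⟩ 1)
    have hne' : (⟨N, hN⟩ : MaximalSpectrum Γ(T, V)) ≠ ⟨M, hM⟩ :=
      fun h => hne (congrArg MaximalSpectrum.asIdeal h)
    have h0 : a * b = 0 := hb.1 (by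
      rw [map_mul, ha, hb', map_zero]
      funext j
      rcases eq_or_ne j ⟨N, hN⟩ with rfl | hj
      · simp [Pi.single_eq_of_ne hne']
      · simp [Pi.single_eq_of_ne hj])
    rcases mul_eq_zero.1 h0 with rfl | rfl
    · rw [map_zero] at ha
      exact one_ne_zero (α := Localization.AtPrime N) (by
        simpa using (congrFun ha ⟨N, hN⟩).symm)
    · rw [map_zero] at hb'
      exact one_ne_zero (α := Localization.AtPrime M) (by
        simpa using (congrFun hb' ⟨M, hM⟩).symm)
  refine ⟨Γ(T, V), inferInstance, inferInstance, inferInstance, inferInstance, inferInstance, ?_,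
    hV.fromSpec ≫ i, ?_, inferInstance, ⟨q, ?_⟩⟩
  · rw [RingHom.injective_iff_ker_eq_bot]
    have := (PrimeSpectrum.denseRange_comap_iff_ker_le_nilRadical (algebraMap A Γ(T, V))).1
      (Spec.map φ).denseRange
    rwa [nilradical_eq_zero, Ideal.zero_eq_bot, le_bot_iff] at this
  · rw [Category.assoc, ← hφ]
    rfl
  · rw [Scheme.Hom.comp_apply, hq, ht]

end Groth.Agent.S4974
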