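import Groth.Statements.S14383
import Groth.Agent.H2.Rigid.EtaleUnram
import Groth.Agent.H82.Contract.Dim
import Groth.Agent.Lib.ModelFibre.SmoothGeneric

set_option autoImplicit false
open scoped TensorProduct
open AlgebraicGeometry
universe u
open CAlg
open CategoryTheory

namespace Groth.Agent.S14383

open scoped Pointwise

theorem natCast_eq (V : Type u) [CommRing V] [IsDomain V] [IsDiscreteValuationRing V] [CharZero V]
    (ϖ : V) (hϖ : Irreducible ϖ) (p : ℕ) [Fact p.Prime] [CharP (IsLocalRing.ResidueField V) p] :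
    ∃ (u : Vˣ) (e : ℕ), 0 < e ∧ (p : V) = (u : V) * ϖ ^ e := by
  have hp : (p : V) ≠ 0 := Nat.cast_ne_zero.mpr (Fact.out : p.Prime).ne_zero
  obtain ⟨e, u, he⟩ := IsDiscreteValuationRing.eq_unit_mul_pow_irreducible hp hϖ
  refine ⟨u, e, Nat.pos_of_ne_zero fun h0 => ?_, he⟩
  have hu : IsUnit (IsLocalRing.residue V (p : V)) := by
    rw [he, h0, pow_zero, mul_one]; exact u.isUnit.map _
  rw [map_natCast, CharP.cast_eq_zero] at hu
  exact hu.ne_zero rfl

theorem forward {R A : Type u} [CommRing A] [CommRing R] [Algebra A R] [Algebra.FiniteType A R]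
    (x a c : R) (hcop : Ideal.span {a} ⊔ Ideal.span {x} = ⊤)
    (hsub : Subsingleton (Ω[Localization.Away (a * x)⁄A])) (hc : x ∣ c) :
    ∃ n : ℕ, Ideal.span {c ^ n} • (⊤ : Submodule R (Ω[R⁄A])) ≤ Ideal.span {x * c ^ n} • ⊤ := by
  classical
  have hk : ∀ w : Ω[R⁄A], ∃ m, (a * x) ^ m • w = 0 := by
    intro w
    obtain ⟨_, ⟨m, rfl⟩, hm⟩ := (IsLocalizedModule.subsingleton_iff (Submonoid.powers (a * x))
      (KaehlerDifferential.map A A R (Localization.Away (a * x)))).mp hsub w
    exact ⟨m, hm⟩
  choose m hm using hk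
  obtain ⟨T, hT⟩ := (Module.finite_def (R := R) (M := Ω[R⁄A])).mp inferInstance
  let M := T.sup m
  have hM : ∀ w : Ω[R⁄A], (a * x) ^ M • w = 0 := by
    intro w
    have hw : w ∈ Submodule.span R (T : Set (Ω[R⁄A])) := hT.ge trivial
    induction hw using Submodule.span_induction with
    | mem y hy =>
      obtain ⟨j, hj⟩ : ∃ j, M = m y + j := Nat.exists_eq_add_of_le (Finset.le_sup (f := m) hy)
      rw [hj, pow_add, mul_comm, mul_smul, hm, smul_zero]
    | zero => rw [smul_zero]
    | add y z _ _ h1 h2 => rw [smul_add, h1, h2, add_zero]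
    | smul r y _ h1 => rw [smul_comm, h1, smul_zero]
  obtain ⟨d, rfl⟩ := hc
  refine ⟨M, ?_⟩
  rw [Submodule.ideal_span_singleton_smul, Submodule.ideal_span_singleton_smul]
  intro y hy
  obtain ⟨w, -, rfl⟩ := (Submodule.mem_smul_pointwise_iff_exists _ _ _).mp hy
  rw [← Ideal.isCoprime_iff_sup_eq, Ideal.isCoprime_span_singleton_iff] at hcop
  obtain ⟨α, β, hαβ⟩ := (hcop.pow_left (m := M))
  refine (Submodule.mem_smul_pointwise_iff_exists _ _ _).mpr ⟨β • w, trivial, ?_⟩
  have h0 : (α * a ^ M * (x * d) ^ M) • w = 0 := by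
    rw [show α * a ^ M * (x * d) ^ M = (α * d ^ M) * (a * x) ^ M by rw [mul_pow, mul_pow]; ring, mul_smul, hM, smul_zero]
  rw [smul_smul]
  calc (x * (x * d) ^ M * β) • w = (α * a ^ M * (x * d) ^ M) • w + (x * (x * d) ^ M * β) • w := by rw [h0, zero_add]
    _ = (x * d) ^ M • w := by
      rw [← add_smul]; congr 1
      linear_combination (x * d) ^ M * hαβ

theorem backward {R A : Type u} [CommRing A] [CommRing R] [Algebra A R] [Algebra.FiniteType A R]
    (x c : R) (n : ℕ) (hn : Ideal.span {c ^ n} • (⊤ : Submodule R (Ω[R⁄A])) ≤ Ideal.span {x * c ^ n} • ⊤) :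
    ∃ a, Ideal.span {a} ⊔ Ideal.span {x} = ⊤ ∧ (IsUnit (algebraMap R (Localization.Away (a * x)) c) →
      Algebra.FormallyUnramified A (Localization.Away (a * x))) := by
  classical
  let N : Submodule R (Ω[R⁄A]) := Ideal.span {c ^ n} • ⊤
  have hfg : N.FG := Submodule.FG.smul (Submodule.fg_span_singleton _) Module.Finite.fg_top
  have hle : N ≤ Ideal.span {x} • N := by
    show Ideal.span {c ^ n} • ⊤ ≤ Ideal.span {x} • (Ideal.span {c ^ n} • (⊤ : Submodule R (Ω[R⁄A])))
    rwa [← Submodule.mul_smul, Ideal.span_singleton_mul_span_singleton]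
  obtain ⟨a, ha1, ha0⟩ := Submodule.exists_sub_one_mem_and_smul_eq_zero_of_fg_of_le_smul (Ideal.span {x}) N hfg hle
  refine ⟨a, ?_, fun hu => ⟨?_⟩⟩
  · rw [Ideal.eq_top_iff_one, Submodule.mem_sup]
    exact ⟨a, Ideal.subset_span rfl, -(a - 1), neg_mem ha1, by ring⟩
  · let Rg := Localization.Away (a * x)
    have hua : IsUnit (algebraMap R Rg (a * c ^ n)) := by
      rw [map_mul, map_pow]
      refine IsUnit.mul ?_ (hu.pow n)
      exact isUnit_of_mul_isUnit_left (map_mul (algebraMap R Rg) a x ▸ IsLocalization.Away.algebraMap_isUnit (a * x))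
    refine subsingleton_of_forall_eq 0 fun z => ?_
    obtain ⟨⟨w, s⟩, hw⟩ := IsLocalizedModule.surj (Submonoid.powers (a * x)) (KaehlerDifferential.map A A R Rg) z
    have h0 : (a * c ^ n) • w = 0 := by
      rw [mul_smul]; exact ha0 _ (Submodule.smul_mem_smul (Ideal.subset_span rfl) trivial)
    have h1 : KaehlerDifferential.map A A R Rg w = 0 := by
      have h2 := congrArg (KaehlerDifferential.map A A R Rg) h0
      rw [map_smul, map_zero, ← algebraMap_smul Rg] at h2
      exact hua.smul_eq_zero.mp h2
    have hs : IsUnit (algebraMap R Rg (s : R)) := IsLocalization.map_units Rg s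
    refine hs.smul_eq_zero.mp ?_
    rw [algebraMap_smul]
    exact hw.trans h1


/-- Let V be a discrete valuation ring of characteristic zero with uniformizer ϖ, whose residue field k
is perfect of characteristic p > 0, and let A → R be a homomorphism of V-algebras of finite type,
viewed as a morphism f : Spec R → Spec A of schemes of finite type over Spec V. Say f is η-étale
when there is an open neighbourhood of the closed fibre of Spec R on whose generic fibre f is étale;
for affine Spec R this means: some a ∈ R with (a) + (ϖ) = R has R[1/(aϖ)] étale over A. First: if f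
is η-étale then for some n ≥ 0 the submodule p^n Ω_{R/A} of the module of differentials is contained
in ϖ p^n Ω_{R/A} (that is, p^n Ω_{R/A} vanishes along the closed fibre). Conversely: if the generic
fibres Spec(K ⊗_V A) and Spec(K ⊗_V R) are both smooth over K of the same relative dimension d, K
the fraction field of V, then such an n forces f to be η-étale. (The published statement is for
arbitrary schemes X → Y of finite type over V and also lists an intermediate equivalent condition,
that the restriction of p^n Ω_{X/Y} to the closed fibre as an abelian sheaf vanishes for some n;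
this row is the case of affine schemes and states the other two conditions.) -/
theorem result (V : Type u) [CommRing V] [IsDomain V] [IsDiscreteValuationRing V] [CharZero V]
    (ϖ : V) (hϖ : Irreducible ϖ) (p : ℕ) [Fact p.Prime] [CharP (IsLocalRing.ResidueField V) p]
    [PerfectField (IsLocalRing.ResidueField V)]
    (A : Type u) [CommRing A] [Algebra V A] [Algebra.FiniteType V A]
    (R : Type u) [CommRing R] [Algebra V R] [Algebra.FiniteType V R] [Algebra A R] [IsScalarTower V A R] :
    ((∃ a : R, Ideal.span {a} ⊔ Ideal.span {algebraMap V R ϖ} = ⊤ ∧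
        ((algebraMap R (Localization.Away (a * algebraMap V R ϖ))).comp (algebraMap A R)).Etale) →
      ∃ n : ℕ, Ideal.span {((p : R)) ^ n} • (⊤ : Submodule R (Ω[R⁄A])) ≤
        Ideal.span {algebraMap V R ϖ * (p : R) ^ n} • (⊤ : Submodule R (Ω[R⁄A]))) ∧
    (∀ d : ℕ, SmoothOfRelativeDimension d
        (Spec.map (CommRingCat.ofHom (algebraMap (FractionRing V) (FractionRing V ⊗[V] A)))) →
      SmoothOfRelativeDimension d
        (Spec.map (CommRingCat.ofHom (algebraMap (FractionRing V) (FractionRing V ⊗[V] R)))) →
      (∃ n : ℕ, Ideal.span {((p : R)) ^ n} • (⊤ : Submodule R (Ω[R⁄A])) ≤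
        Ideal.span {algebraMap V R ϖ * (p : R) ^ n} • (⊤ : Submodule R (Ω[R⁄A]))) →
      ∃ a : R, Ideal.span {a} ⊔ Ideal.span {algebraMap V R ϖ} = ⊤ ∧
        ((algebraMap R (Localization.Away (a * algebraMap V R ϖ))).comp (algebraMap A R)).Etale) := by
  classical
  haveI : Algebra.FiniteType A R := Algebra.FiniteType.of_restrictScalars_finiteType V A R
  obtain ⟨u, e, he, hp⟩ := natCast_eq V ϖ hϖ p
  have hpR : (p : R) = algebraMap V R u * algebraMap V R ϖ ^ e := by
    rw [← map_natCast (algebraMap V R), hp, map_mul, map_pow]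
  refine ⟨fun ⟨a, ha, het⟩ => ?_, fun d hA hR ⟨n, hn⟩ => ?_⟩
  · refine forward (algebraMap V R ϖ) a (p : R) ha ?_ (hpR ▸ Dvd.dvd.mul_left (dvd_pow_self _ he.ne') _)
    haveI : Algebra.Etale A (Localization.Away (a * algebraMap V R ϖ)) := by
      rw [← IsScalarTower.algebraMap_eq, RingHom.etale_algebraMap] at het
      exact het
    exact Algebra.FormallyUnramified.subsingleton_kaehlerDifferential
  · obtain ⟨a, ha, hunr⟩ := backward (algebraMap V R ϖ) (p : R) n hn
    refine ⟨a, ha, ?_⟩
    let x := algebraMap V R ϖ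
    let Rg := Localization.Away (a * x)
    letI : Algebra R (FractionRing V ⊗[V] R) := Algebra.TensorProduct.rightAlgebra
    letI : Algebra A (FractionRing V ⊗[V] A) := Algebra.TensorProduct.rightAlgebra
    haveI := Groth.Agent.Lib.ModelFibre.SmoothGeneric.isLocalization_away hϖ
    haveI : IsLocalization.Away (algebraMap V R ϖ) (FractionRing V ⊗[V] R) := inferInstance
    haveI : IsLocalization.Away (algebraMap V A ϖ) (FractionRing V ⊗[V] A) := inferInstance
    have hxu : IsUnit (algebraMap R Rg x) :=
      isUnit_of_mul_isUnit_right (map_mul (algebraMap R Rg) a x ▸ IsLocalization.Away.algebraMap_isUnit (a * x))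
    haveI hunr' : Algebra.FormallyUnramified A Rg := hunr (by
      rw [hpR, map_mul, map_pow]
      exact (u.isUnit.map ((algebraMap R Rg).comp (algebraMap V R))).mul (hxu.pow e))
    let ρ : FractionRing V ⊗[V] R →+* Rg := IsLocalization.Away.lift (algebraMap V R ϖ) hxu
    have hxA : IsUnit (algebraMap A Rg (algebraMap V A ϖ)) := by
      rw [IsScalarTower.algebraMap_apply A R Rg, ← IsScalarTower.algebraMap_apply V A R]; exact hxu
    let β : FractionRing V ⊗[V] A →+* Rg := IsLocalization.Away.lift (algebraMap V A ϖ) hxA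
    have hρ : ∀ r, ρ (algebraMap R _ r) = algebraMap R Rg r := IsLocalization.Away.lift_eq _ hxu
    have hβ : ∀ r, β (algebraMap A _ r) = algebraMap A Rg r := IsLocalization.Away.lift_eq _ hxA
    have hcomm : β.comp (algebraMap (FractionRing V) (FractionRing V ⊗[V] A)) =
        ρ.comp (algebraMap (FractionRing V) (FractionRing V ⊗[V] R)) := by
      refine IsLocalization.ringHom_ext (Submonoid.powers ϖ) (RingHom.ext fun v => ?_)
      show β (algebraMap V (FractionRing V) v ⊗ₜ[V] 1) = ρ (algebraMap V (FractionRing V) v ⊗ₜ[V] 1)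
      rw [Algebra.algebraMap_eq_smul_one, TensorProduct.smul_tmul, TensorProduct.smul_tmul,
        ← Algebra.algebraMap_eq_smul_one, ← Algebra.algebraMap_eq_smul_one]
      show β (algebraMap A _ (algebraMap V A v)) = ρ (algebraMap R _ (algebraMap V R v))
      rw [hβ, hρ, IsScalarTower.algebraMap_apply A R Rg, ← IsScalarTower.algebraMap_apply V A R]
    haveI hopen : IsOpenImmersion (Spec.map (CommRingCat.ofHom ρ)) := by
      haveI : IsOpenImmersion (Spec.map (CommRingCat.ofHom (algebraMap R (FractionRing V ⊗[V] R)))) :=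
        IsOpenImmersion.of_isLocalization (algebraMap V R ϖ)
      haveI : IsOpenImmersion (Spec.map (CommRingCat.ofHom ρ) ≫
          Spec.map (CommRingCat.ofHom (algebraMap R (FractionRing V ⊗[V] R)))) := by
        rw [← Spec.map_comp, ← CommRingCat.ofHom_comp, show ρ.comp (algebraMap R _) = algebraMap R Rg from RingHom.ext hρ]
        exact IsOpenImmersion.of_isLocalization (a * x)
      exact IsOpenImmersion.of_comp (Spec.map (CommRingCat.ofHom ρ))
        (Spec.map (CommRingCat.ofHom (algebraMap R (FractionRing V ⊗[V] R))))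
    let hY := Spec.map (CommRingCat.ofHom (algebraMap (FractionRing V) (FractionRing V ⊗[V] A)))
    let g := Spec.map (CommRingCat.ofHom ρ) ≫ Spec.map (CommRingCat.ofHom (algebraMap (FractionRing V) (FractionRing V ⊗[V] R)))
    haveI : SmoothOfRelativeDimension d hY := hA
    haveI : SmoothOfRelativeDimension d g := by
      have := smoothOfRelativeDimension_comp (n := 0) (m := d) (Spec.map (CommRingCat.ofHom ρ))
        (Spec.map (CommRingCat.ofHom (algebraMap (FractionRing V) (FractionRing V ⊗[V] R))))
      rwa [zero_add] at this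
    haveI : Smooth g := SmoothOfRelativeDimension.smooth d g
    haveI : Smooth hY := SmoothOfRelativeDimension.smooth d hY
    haveI : FormallyUnramified (Spec.map (CommRingCat.ofHom β)) := by
      rw [HasRingHomProperty.Spec_iff (P := @FormallyUnramified)]
      letI := β.toAlgebra
      haveI : IsScalarTower A (FractionRing V ⊗[V] A) Rg := IsScalarTower.of_algebraMap_eq fun r => (hβ r).symm
      exact Algebra.FormallyUnramified.of_restrictScalars A (FractionRing V ⊗[V] A) Rg
    haveI hE : Etale (Spec.map (CommRingCat.ofHom β)) :=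
      Groth.Agent.H2.Rigid.etale_of_unramified g hY (Spec.map (CommRingCat.ofHom β))
        (by simp only [g, hY, ← Spec.map_comp, ← CommRingCat.ofHom_comp, hcomm])
        (fun z => by rw [Groth.Agent.H82.Contract.fibreDimAt_of_smoothOfRelativeDimension g (n := d) z,
          Groth.Agent.H82.Contract.fibreDimAt_of_smoothOfRelativeDimension hY (n := d)])
    rw [HasRingHomProperty.Spec_iff (P := @Etale)] at hE
    have hloc : (algebraMap A (FractionRing V ⊗[V] A)).Etale :=
      RingHom.etale_algebraMap.mpr (Algebra.Etale.of_isLocalizationAway (algebraMap V A ϖ))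
    have hcomp := RingHom.Etale.stableUnderComposition _ _ hloc hE
    rw [show ((algebraMap R (Localization.Away (a * algebraMap V R ϖ))).comp (algebraMap A R)) =
      β.comp (algebraMap A (FractionRing V ⊗[V] A)) from RingHom.ext fun r =>
        ((IsScalarTower.algebraMap_apply A R Rg r).symm.trans (hβ r).symm)]
    exact hcomp

end Groth.Agent.S14383
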