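import Groth.Statements.S2156
import Groth.Agent.H75.BaseChange.Nhd

set_option autoImplicit false
universe u
open CategoryTheory AlgebraicGeometry
open Mor

namespace Groth.Agent.S2156

/-- Let `f : X → S` be locally of finite presentation and `x ∈ X` with image `s`. Then `f` is smooth at
`x` if and only if `O_{S,s} → O_{X,x}` is flat and the fibre `X_s → Spec κ(s)` is smooth at the
point corresponding to `x`. -/
theorem result {X S : Scheme.{u}} (f : X ⟶ S) [LocallyOfFinitePresentation f] (x : X)
    [LocallyOfFinitePresentation (f.fiberToSpecResidueField (f.base x))] :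
    x ∈ f.smoothLocus ↔
      (f.stalkMap x).hom.Flat ∧ f.asFiber x ∈ (f.fiberToSpecResidueField (f.base x)).smoothLocus := by
    let s := f.base x
    have hx : (Limits.pullback.fst f (S.fromSpecResidueField s)) (f.asFiber x) = x := f.fiberι_asFiber x
    refine ⟨fun h => ?_, fun ⟨hfl, h⟩ => ?_⟩
    · have hn := (Lib.JacCrit.SmoothNhd.exists_smooth_nhd_iff f x).mpr h
      refine ⟨Lib.JacCrit.SmoothNhd.flat_stalkMap f hn, ?_⟩
      exact (Lib.JacCrit.SmoothNhd.exists_smooth_nhd_iff _ _).mp
        (H75.BaseChange.nhd_baseChange @Smooth f (S.fromSpecResidueField s) (f.asFiber x) (hx.symm ▸ hn))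
    · rw [← hx]
      refine (H75.BaseChange.mem_smoothLocus_snd_iff f (S.fromSpecResidueField s) (f.asFiber x)
        (Or.inl ?_)).mp h
      rw [hx]; exact hfl

end Groth.Agent.S2156
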