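import Groth.Statements.S9559
import Groth.Agent.Lib.Unram.FiniteSplit

set_option autoImplicit false
open CategoryTheory CategoryTheory.Limits AlgebraicGeometry Opposite
universe u
open EtLocal

namespace Groth.Agent.S9559

open TensorProduct

/-- A finite étale morphism f : X ⟶ S becomes, after base change to a suitable étale neighbourhood (U,
u) of any point s of S, a finite disjoint union of copies of U: X_U is isomorphic over U to a finite
coproduct of schemes V_j each of which maps isomorphically onto U. -/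
theorem result {X S : Scheme.{u}} (f : X ⟶ S) [IsFinite f] [Etale f] (s : S) :
    ∃ (U : Scheme.{u}) (g : U ⟶ S) (_ : AlgebraicGeometry.Etale g) (u : U) (_ : g.base u = s)
      (n : ℕ) (V : Fin n → Scheme.{u}) (c : ∀ j, V j ⟶ U) (_ : ∀ j, IsIso (c j))
      (e : (∐ V) ≅ pullback f g), ∀ j, Sigma.ι V j ≫ e.hom ≫ pullback.snd f g = c j := by
  obtain ⟨W, hW, hsW, -⟩ := exists_isAffineOpen_mem_and_subset
    (x := s) (U := (⊤ : S.Opens)) trivial
  have hV : IsAffineOpen (f ⁻¹ᵁ W) := hW.preimage f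
  let φ : Γ(S, W) ⟶ Γ(X, f ⁻¹ᵁ W) := f.appLE W (f ⁻¹ᵁ W) le_rfl
  have hφ : φ = f.app W := Scheme.Hom.appLE_eq_app ..
  let _ : Algebra Γ(S, W) Γ(X, f ⁻¹ᵁ W) := φ.hom.toAlgebra
  have : Algebra.Etale Γ(S, W) Γ(X, f ⁻¹ᵁ W) := f.etale_appLE hW hV le_rfl
  have : Module.Finite Γ(S, W) Γ(X, f ⁻¹ᵁ W) := by
    have h : φ.hom.Finite := hφ ▸ f.finite_app W hW
    exact h
  obtain ⟨R', _, _, hE, p', hp', hl, n, ⟨eA⟩⟩ :=
    Groth.Agent.Lib.Unram.FiniteSplit.exists_split_finite_etale Γ(S, W) Γ(X, f ⁻¹ᵁ W)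
      (hW.primeIdealOf ⟨s, hsW⟩).asIdeal
  let ψ : Γ(S, W) ⟶ CommRingCat.of R' := CommRingCat.ofHom (algebraMap Γ(S, W) R')
  let U := Spec (CommRingCat.of R')
  let g : U ⟶ S := Spec.map ψ ≫ hW.fromSpec
  have : Etale (Spec.map ψ) :=
    HasRingHomProperty.Spec_iff.mpr ((RingHom.etale_algebraMap).mpr hE)
  have : Etale g := MorphismProperty.comp_mem @Etale _ _ inferInstance inferInstance
  have h1 : IsPullback (Spec.map φ) hV.fromSpec hW.fromSpec f :=
    IsOpenImmersion.isPullback _ _ _ _ (hW.SpecMap_appLE_fromSpec f hV le_rfl).symm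
      (by rw [hW.opensRange_fromSpec, hV.opensRange_fromSpec])
  have h2 : IsPullback
      (Spec.map (CommRingCat.ofHom (Algebra.TensorProduct.includeRight :
        Γ(X, f ⁻¹ᵁ W) →ₐ[Γ(S, W)] R' ⊗[Γ(S, W)] Γ(X, f ⁻¹ᵁ W)).toRingHom))
      (Spec.map (CommRingCat.ofHom (Algebra.TensorProduct.includeLeftRingHom :
        R' →+* R' ⊗[Γ(S, W)] Γ(X, f ⁻¹ᵁ W))))
      (Spec.map φ) (Spec.map ψ) := by
    refine (IsPullback.of_iso_pullback ⟨?_⟩ (pullbackSpecIso Γ(S, W) R' Γ(X, f ⁻¹ᵁ W)).symm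
      (pullbackSpecIso_inv_fst Γ(S, W) R' Γ(X, f ⁻¹ᵁ W))
      (pullbackSpecIso_inv_snd Γ(S, W) R' Γ(X, f ⁻¹ᵁ W))).flip
    rw [← Spec.map_comp, ← Spec.map_comp]
    congr 1
    ext a
    change (algebraMap Γ(S, W) R' a) ⊗ₜ[Γ(S, W)] (1 : Γ(X, f ⁻¹ᵁ W)) =
      1 ⊗ₜ[Γ(S, W)] (algebraMap Γ(S, W) Γ(X, f ⁻¹ᵁ W) a)
    exact Algebra.TensorProduct.tmul_one_eq_one_tmul a
  have h := h2.paste_horiz h1.flip
  let eU : (Fin n → R') ≃+* (ULift.{u} (Fin n) → R') :=
    { toFun := fun a i => a i.down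
      invFun := fun a i => a ⟨i⟩
      left_inv := fun _ => rfl
      right_inv := fun _ => rfl
      map_mul' := fun _ _ => rfl
      map_add' := fun _ _ => rfl }
  have hEA : IsIso (CommRingCat.ofHom (eA.toRingEquiv.trans eU).toRingHom) :=
    ((eA.toRingEquiv.trans eU).toCommRingCatIso).isIso_hom
  refine ⟨U, g, inferInstance, ⟨p', hp'⟩, ?_, n, fun _ => U, fun _ => 𝟙 U, fun _ => inferInstance,
    Sigma.reindex Equiv.ulift.symm (fun _ : ULift.{u} (Fin n) => U) ≪≫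
    asIso (sigmaSpec fun _ : ULift.{u} (Fin n) => CommRingCat.of R') ≪≫
      asIso (Spec.map (CommRingCat.ofHom (eA.toRingEquiv.trans eU).toRingHom)) ≪≫ h.isoPullback,
    fun j => ?_⟩
  · have hq : (Spec.map ψ) ⟨p', hp'⟩ = hW.primeIdealOf ⟨s, hsW⟩ :=
      PrimeSpectrum.ext hl.over.symm
    change hW.fromSpec ((Spec.map ψ) ⟨p', hp'⟩) = s
    rw [hq, hW.fromSpec_primeIdealOf]
  · simp only [Iso.trans_hom, asIso_hom, Category.assoc, IsPullback.isoPullback_hom_snd]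
    have key : Sigma.ι (fun _ : Fin n => U) j ≫
        (Sigma.reindex Equiv.ulift.symm (fun _ : ULift.{u} (Fin n) => U)).hom =
        Sigma.ι (fun _ : ULift.{u} (Fin n) => U) ⟨j⟩ :=
      Sigma.ι_reindex_hom Equiv.ulift.symm (fun _ : ULift.{u} (Fin n) => U) j
    rw [reassoc_of% key]
    erw [ι_sigmaSpec_assoc, h.isoPullback_hom_snd]
    rw [← Spec.map_comp, ← Spec.map_comp, ← Spec.map_id]
    congr 1
    ext a
    exact congr_fun (eA.commutes a) j

end Groth.Agent.S9559
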