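import Groth.Statements.S0107
import Groth.Agent.Lib.EtSite.RepCharts
import Groth.Agent.Lib.EtSite.SmallSubcanonical

set_option autoImplicit false
open CategoryTheory CategoryTheory.Limits AlgebraicGeometry Opposite
universe u
open EtBase

namespace Groth.Agent.S0107

open Groth.Agent.Lib.EtSite

/-- The underlying sheaf of sets of a finite locally constant abelian sheaf F on the small étale site of
a scheme X is representable by a scheme finite étale over X: there are an étale X-scheme U with U →
X finite and an isomorphism between the sheaf of sets underlying F and the functor of points of U. -/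
theorem result {X : Scheme.{u}} (F : EtCoh.Ab X) (h : EtCoh.IsFiniteLocallyConstant F) :
    ∃ (U : X.Etale) (_ : IsFinite U.hom),
      Nonempty (F.obj ⋙ forget AddCommGrpCat.{u + 1} ≅ yoneda.obj U ⋙ uliftFunctor.{u + 1}) := by
  let F' : EtDesc.Sh X := (sheafCompose X.smallEtaleTopology (forget AddCommGrpCat.{u + 1})).obj F
  have key : ∀ x : X, ∃ (U : X.Etale) (_ : ∃ v : U.left, U.hom.base v = x) (n : ℕ)
      (φ : ULift.{u + 1} (Fin n) → EtDesc.sect F' U), RepCharts.IsChart F' U φ := fun x => by
    obtain ⟨ι, U, hU, hc⟩ := h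
    obtain ⟨i, v, hv⟩ := hU x
    obtain ⟨M, _, _, ⟨e⟩⟩ := hc i
    let J := X.smallEtaleTopology.over (U i)
    let N : AddCommGrpCat.{u + 1} := AddCommGrpCat.of (ULift.{u + 1} M)
    let η : (Functor.const (Over (U i))ᵒᵖ).obj N ⟶ ((constantSheaf J AddCommGrpCat.{u + 1}).obj N).obj := toSheafify J ((Functor.const _).obj N)
    have : IsIso e.inv.hom := inferInstanceAs (IsIso ((sheafToPresheaf _ _).map e.inv))
    have : Sheaf.IsLocallySurjective e.inv := inferInstance
    have h₇ : Sheaf.IsLocallyInjective e.inv := inferInstance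
    have h₈ : Sheaf.IsLocallySurjective e.inv := inferInstance
    have h₉ : Presheaf.IsLocallyInjective J e.inv.hom := h₇
    have h₁₀ : Presheaf.IsLocallySurjective J e.inv.hom := h₈
    have h₁ : Presheaf.IsLocallyInjective J η := inferInstanceAs (Presheaf.IsLocallyInjective J (toSheafify J _))
    have h₂ : Presheaf.IsLocallySurjective J η := inferInstanceAs (Presheaf.IsLocallySurjective J (toSheafify J _))
    have h₃ : Presheaf.IsLocallyInjective J (η ≫ e.inv.hom) := Presheaf.isLocallyInjective_comp J η e.inv.hom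
    have h₄ : Presheaf.IsLocallySurjective J (η ≫ e.inv.hom) := Presheaf.isLocallySurjective_comp J η e.inv.hom
    let τ : (Functor.const (Over (U i))ᵒᵖ).obj (ULift.{u + 1} M) ⟶ (Over.forget (U i)).op ⋙ F'.obj :=
      { app := fun W => ↾fun m => (η ≫ e.inv.hom).app W m
        naturality := fun W W' g => by
          ext m
          exact ConcreteCategory.congr_hom ((η ≫ e.inv.hom).naturality g) m }
    have h₅ : Presheaf.IsLocallyInjective J τ := ⟨fun {W} a b hab => h₃.equalizerSieve_mem a b hab⟩
    have h₆ : Presheaf.IsLocallySurjective J τ := ⟨fun {W} s => h₄.imageSieve_mem s⟩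
    obtain ⟨φ, hφ⟩ := @RepCharts.exists_isChart _ F' (U i) _ τ h₅ h₆
    obtain ⟨n, ψ, hψ⟩ := hφ.exists_fin
    exact ⟨U i, ⟨v, hv⟩, n, ψ, hψ⟩
  obtain ⟨U, hf, ⟨ε⟩⟩ := RepCharts.exists_repSh_iso_of_charts F' key
  have hsh : Presheaf.IsSheaf X.smallEtaleTopology (yoneda.obj U ⋙ uliftFunctor.{u + 1, u}) :=
    Groth.Agent.Lib.EtSite.SmallSubcanonical.isSheaf U
  exact ⟨U, hf, ⟨(sheafToPresheaf _ _).mapIso ε ≪≫ (@asIso _ _ _ _ (toSheafify X.smallEtaleTopology (yoneda.obj U ⋙ uliftFunctor.{u + 1, u})) (isIso_toSheafify _ hsh)).symm⟩⟩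

end Groth.Agent.S0107
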