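import Groth.Statements.S0657
import Groth.Agent.Lib.EtFiltr50.Step
import Groth.Agent.Lib.FEt.FiberUnique
import Groth.Agent.S6642
import Mathlib.GroupTheory.Sylow
import Mathlib.CategoryTheory.Limits.Shapes.SingleObj
-- import your own Groth.Agent.* helpers here

set_option autoImplicit false
open CategoryTheory CategoryTheory.Limits AlgebraicGeometry Opposite
universe u
open EtCore

namespace Groth.Agent.S0657

open Groth.Agent.Lib Groth.Agent.Lib.EtFiltr50

/-- The underlying space of a connected cover is connected. -/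
theorem preconnectedSpace_left {X : Scheme.{u}} (A : FEt.Cat X) [PreGaloisCategory.IsConnected A] :
    PreconnectedSpace A.left := by
  refine preconnectedSpace_iff_clopen.2 fun V hV => ?_
  rcases Set.eq_empty_or_nonempty V with h | ⟨v, hv⟩
  · exact Or.inl h
  · right
    let O : A.left.Opens := ⟨V, hV.2⟩
    let i := FEt.Summand.clopenIncl A O hV.1
    have hi : i.left = Scheme.Opens.ι O := rfl
    have : Mono i := ⟨fun a b h => MorphismProperty.Over.Hom.ext
      ((cancel_mono (Scheme.Opens.ι O)).1 (congrArg (fun m => m.left) h))⟩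
    have hiso := PreGaloisCategory.IsConnected.noTrivialComponent (X := A) _ i fun hI => by
      exact isEmptyElim (α := (⊥_ Scheme.{u}))
        ((hI.to (FEt.Coproduct.empty X)).left.base ⟨v, hv⟩)
    refine Set.eq_univ_of_forall fun a => ?_
    have hl : i.left.base ((inv i).left.base a) = a :=
      congrArg (fun m => m.left.base a) (IsIso.inv_hom_id i)
    exact hl ▸ ((inv i).left.base a).2


/-- A morphism of covers as an etale scheme over its target. -/
noncomputable def coverOver {X : Scheme.{u}} {A C : FEt.Cat X} (π : A ⟶ C) : C.left.Etale :=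
  MorphismProperty.Over.mk ⊤ π.left (FEt.Basic.etale_left π)

/-- The quotient functor of a cover by a group of automorphisms. -/
noncomputable abbrev quotDiagram {X : Scheme.{u}} {A : FEt.Cat X} (H : Subgroup (Aut A)) :
    SingleObj H ⥤ FEt.Cat X :=
  SingleObj.functor ((Aut.toEnd A).comp H.subtype)

set_option maxHeartbeats 800000 in
-- orbit spaces of fibres unfold through several functor compositions
theorem card_quotient {S : Scheme.{u}} [ConnectedSpace S] [GaloisCategory (FEt.Cat S)]
    {Ω : Type u} [Field Ω] [IsAlgClosed Ω] (ξ : Spec (CommRingCat.of Ω) ⟶ S)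
    [PreGaloisCategory.FiberFunctor (FEt.FiberFunctor.fintypeFiber ξ)]
    (A : FEt.Cat S) [PreGaloisCategory.IsGalois A] (a : FEt.fiberObj ξ A) (H : Subgroup (Aut A)) :
    Nat.card (FEt.fiberObj ξ (colimit (quotDiagram H))) = H.index := by
  let J := quotDiagram H
  let C := colimit J
  let FF := FEt.FiberFunctor.fintypeFiber ξ ⋙ FintypeCat.incl
  let e₁ : FEt.fiberObj ξ C ≃ MulAction.orbitRel.Quotient H
      ((J ⋙ FF).obj (SingleObj.star _)) :=
    (preservesColimitIso FF J).toEquiv.trans (SingleObj.Types.colimitEquivQuotient (J ⋙ FF))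
  rw [Nat.card_congr e₁]
  let ε : Aut A ≃ ((J ⋙ FF).obj (SingleObj.star _)) :=
    PreGaloisCategory.evaluationEquivOfIsGalois (FEt.FiberFunctor.fintypeFiber ξ) A a
  refine (Nat.card_congr (Quotient.congr ε fun g g' => ?_).symm).trans
    (Nat.card_congr (QuotientGroup.quotientRightRelEquivQuotientLeftRel _))
  rw [QuotientGroup.rightRel_apply, MulAction.orbitRel_apply, MulAction.mem_orbit_iff]
  constructor
  · intro hm
    refine ⟨⟨g * g'⁻¹, by simpa [mul_inv_rev] using inv_mem hm⟩, ?_⟩
    have : g = g * g'⁻¹ * g' := by group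
    conv_rhs => rw [this]
    exact (ConcreteCategory.congr_hom ((FEt.FiberFunctor.fintypeFiber ξ).map_comp g'.hom
      (g * g'⁻¹).hom) a).symm
  · rintro ⟨h, hh⟩
    have he : ((h : Aut A) * g') = g := by
      refine ε.injective ?_
      refine Eq.trans ?_ hh
      exact ConcreteCategory.congr_hom ((FEt.FiberFunctor.fintypeFiber ξ).map_comp g'.hom
        (h : Aut A).hom) a
    rw [← he, mul_inv_rev, ← mul_assoc, mul_inv_cancel, one_mul]
    exact inv_mem h.2

theorem descent {S : Scheme.{u}} {A : FEt.Cat S} (H : Subgroup (Aut A)) [Finite H]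
    [HasColimit (quotDiagram H)]
    (ρ : H →* Aut (coverOver (colimit.ι (quotDiagram H) (SingleObj.star _))))
    (hρ : ∀ h : H, (ρ h).hom.left = (h : Aut A).hom.left)
    (V : (colimit (quotDiagram H)).left.Etale) (hV : IsFinite V.hom)
    (g : coverOver (colimit.ι (quotDiagram H) (SingleObj.star _)) ⟶ V) (hg : ∀ h, (ρ h).hom ≫ g = g) :
    ∃ σ : EtCoh.top (colimit (quotDiagram H)).left ⟶ V, Step.toTop _ ≫ σ = g := by
  let J := quotDiagram H
  let C := colimit J
  let π : A ⟶ C := colimit.ι J (SingleObj.star _)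
  have hf1 : IsFinite C.hom := C.prop.1
  have hf2 : AlgebraicGeometry.Etale C.hom := C.prop.2
  have : AlgebraicGeometry.Etale V.hom := V.prop
  let V' : FEt.Cat S := MorphismProperty.Over.mk ⊤ (V.hom ≫ C.hom)
    ⟨(inferInstance : IsFinite (V.hom ≫ C.hom)), (inferInstance : AlgebraicGeometry.Etale (V.hom ≫ C.hom))⟩
  let g' : A ⟶ V' := MorphismProperty.Over.homMk g.left (by
    change g.left ≫ V.hom ≫ C.hom = A.hom
    rw [← Category.assoc, MorphismProperty.Over.w g]
    exact MorphismProperty.Over.w π)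
  let l : C ⟶ V' := colimit.desc J
    { pt := V'
      ι :=
        { app := fun _ => g'
          naturality := fun _ _ h => MorphismProperty.Over.Hom.ext
            (((congrArg (· ≫ g.left) (hρ h).symm).trans (congrArg (fun m => m.left) (hg h))).trans (Category.comp_id _).symm) } }
  have hl : π ≫ l = g' := colimit.ι_desc _ _
  have hlV : l.left ≫ V.hom = 𝟙 C.left := by
    have : l ≫ (MorphismProperty.Over.homMk V.hom rfl : V' ⟶ C) = 𝟙 C := by
      refine colimit.hom_ext fun _ => ?_
      change π ≫ l ≫ _ = π ≫ 𝟙 C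
      rw [← Category.assoc, hl, Category.comp_id]
      exact MorphismProperty.Over.Hom.ext (MorphismProperty.Over.w g)
    exact congrArg (fun m => m.left) this
  exact ⟨MorphismProperty.Over.homMk l.left hlV,
    MorphismProperty.Over.Hom.ext (congrArg (fun m => m.left) hl)⟩

theorem split_restr {S : Scheme.{u}} {F : EtCoh.Ab S} {U : S.Etale} [IsFinite U.hom]
    (e : F.obj ⋙ forget AddCommGrpCat.{u + 1} ≅ yoneda.obj U ⋙ uliftFunctor.{u + 1})
    {Ω : Type u} [Field Ω] {ξ : Spec (CommRingCat.of Ω) ⟶ S} {A : FEt.Cat S} {a : FEt.fiberObj ξ A}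
    (hbij : Function.Bijective fun f : A ⟶ Step.toFEt U => (FEt.fiber ξ).map f a) {C : FEt.Cat S}
    (π : A ⟶ C) :
    Rep.Split ((EtShriek.restrAlong C.hom).obj F)
      (coverOver π) a.1 := by
  let P : C.left.Etale := coverOver π
  have hf2 : AlgebraicGeometry.Etale C.hom := C.prop.2
  intro W w hw s
  let WS : S.Etale := (EtShriek.compEtale C.hom).obj W
  let PS : S.Etale := (EtShriek.compEtale C.hom).obj P
  let q : Spec (CommRingCat.of _) ⟶ U.left := w ≫ (Rep.ev e WS s).left
  have hA' : π.left ≫ C.hom = A.hom := MorphismProperty.Over.w π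
  have hq : q ≫ U.hom = ξ := by
    refine (Category.assoc _ _ _).trans ((congrArg (w ≫ ·) (MorphismProperty.Over.w (Rep.ev e WS s))).trans ?_)
    change w ≫ W.hom ≫ C.hom = ξ
    rw [← Category.assoc, hw]
    exact (Category.assoc _ _ _).trans ((congrArg (a.1 ≫ ·) hA').trans a.2)
  obtain ⟨g, hg⟩ := hbij.2 ⟨q, hq⟩
  have hg' : a.1 ≫ g.left = q := congrArg Subtype.val hg
  obtain ⟨t, ht⟩ := Rep.ev_surjective e PS (MorphismProperty.Over.homMk g.left
    ((MorphismProperty.Over.w g).trans hA'.symm))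
  let Z : C.left.Etale := MorphismProperty.Over.mk ⊤ (pullback.fst W.hom P.hom ≫ W.hom)
    (by
      have : AlgebraicGeometry.Etale W.hom := W.prop
      have : AlgebraicGeometry.Etale P.hom := P.prop
      exact (inferInstance : AlgebraicGeometry.Etale (pullback.fst W.hom P.hom ≫ W.hom)))
  let φ₁ : pullback W.hom P.hom ⟶ U.left := pullback.fst W.hom P.hom ≫ (Rep.ev e WS s).left
  let φ₂ : pullback W.hom P.hom ⟶ U.left := pullback.snd W.hom P.hom ≫ (Rep.ev e PS t).left
  have hφ : φ₁ ≫ U.hom = φ₂ ≫ U.hom := by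
    refine (Category.assoc _ _ _).trans ?_
    refine Eq.trans ?_ (Category.assoc _ _ _).symm
    exact (congrArg (pullback.fst W.hom P.hom ≫ ·) (MorphismProperty.Over.w (Rep.ev e WS s))).trans
      ((pullback.condition_assoc C.hom).trans
        (congrArg (pullback.snd W.hom P.hom ≫ ·) (MorphismProperty.Over.w (Rep.ev e PS t))).symm)
  have : AlgebraicGeometry.Etale U.hom := U.prop
  let ι := FEt.Basic.eqι U.hom φ₁ φ₂ hφ
  let N : C.left.Etale := MorphismProperty.Over.mk ⊤ (ι ≫ Z.hom) (by
    have : AlgebraicGeometry.Etale Z.hom := Z.prop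
    have : IsOpenImmersion ι := FEt.Basic.isOpenImmersion_eqι U.hom φ₁ φ₂ hφ
    exact EtCoh.etaleMP.comp_mem ι Z.hom (show AlgebraicGeometry.Etale ι from inferInstance) Z.prop)
  let an : N ⟶ W := MorphismProperty.Over.homMk (ι ≫ pullback.fst W.hom P.hom) (Category.assoc _ _ _)
  let bn : N ⟶ P := MorphismProperty.Over.homMk (ι ≫ pullback.snd W.hom P.hom)
    ((Category.assoc _ _ _).trans (congrArg (ι ≫ ·) pullback.condition.symm))
  let z : Spec (CommRingCat.of _) ⟶ pullback W.hom P.hom := pullback.lift w a.1 hw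
  have hz : z ≫ φ₁ = z ≫ φ₂ := by
    refine (pullback.lift_fst_assoc _ _ _ _).trans ?_
    refine Eq.trans ?_ (pullback.lift_snd_assoc _ _ _ _).symm
    rw [ht]
    exact hg'.symm
  obtain ⟨n, hn⟩ := FEt.Basic.exists_lift_eqι U.hom φ₁ φ₂ hφ z hz
  refine ⟨N, an, bn, n, t, ?_, ?_, ?_⟩
  · exact (Category.assoc _ _ _).symm.trans ((congrArg (· ≫ _) hn).trans (pullback.lift_fst _ _ _))
  · exact (Category.assoc _ _ _).symm.trans ((congrArg (· ≫ _) hn).trans (pullback.lift_snd _ _ _))
  · refine Rep.ev_injective e ((EtShriek.compEtale C.hom).obj N) ?_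
    refine (Rep.ev_map e ((EtShriek.compEtale C.hom).map an) s).trans
      (Eq.trans ?_ (Rep.ev_map e ((EtShriek.compEtale C.hom).map bn) t).symm)
    apply MorphismProperty.Over.Hom.ext
    exact (Category.assoc _ _ _).trans ((FEt.Basic.eqι_comp U.hom φ₁ φ₂ hφ).trans
      (Category.assoc _ _ _).symm)

/-- Let S be a connected scheme, ℓ a prime and F a finite locally constant abelian sheaf on the small
etale site of S killed by ℓ. Then there are a finite etale morphism f : T -> S whose geometric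
fibres all have the same cardinality d prime to ℓ, and a finite filtration of f^{-1} F by subsheaves
whose successive quotients are isomorphic to the constant sheaf Z/ℓ. The filtration is given as a
chain G_0 -> G_1 -> ... -> G_n of monomorphisms with G_0 = 0, G_n isomorphic to f^{-1} F and
cokernels constant. -/
theorem result (S : Scheme.{u}) [ConnectedSpace S] (ℓ : ℕ) [Fact ℓ.Prime]
    (F : EtCoh.Ab S) (hF : EtCoh.IsFiniteLocallyConstant F) (hℓ : EtCoh.KilledBy ℓ F) :
    ∃ (T : Scheme.{u}) (f : T ⟶ S) (_ : IsFinite f) (_ : AlgebraicGeometry.Etale f) (d : ℕ), ℓ.Coprime d ∧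
      (∀ (Ω : Type u) [Field Ω] [IsAlgClosed Ω] (η : Spec (CommRingCat.of Ω) ⟶ S),
        Nat.card {t : Spec (CommRingCat.of Ω) ⟶ T // t ≫ f = η} = d) ∧
      ∃ (n : ℕ) (G : ℕ → EtCoh.Ab T) (φ : ∀ i, G i ⟶ G (i + 1)),
        IsZero (G 0) ∧ Nonempty (G n ≅ (EtCoh.pull f).obj F) ∧
        ∀ i, i < n → Mono (φ i) ∧ Nonempty (cokernel (φ i) ≅ EtCoh.const T (ZMod ℓ)) := by
  obtain ⟨x⟩ := (inferInstance : Nonempty S)
  let ξ := FEt.FullyFaithful.geomPt x
  have := FEt.FiberUnique.galoisCategory (X := S)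
  have := FEt.GaloisCat.fiberFunctor ξ
  obtain ⟨U, hU, ⟨e⟩⟩ := Groth.Agent.S0107.result F hF
  obtain ⟨A, a, hA, hbij⟩ := PreGaloisCategory.exists_galois_representative
    (FEt.FiberFunctor.fintypeFiber ξ) (Step.toFEt U)
  have := preconnectedSpace_left A
  obtain ⟨H⟩ := (inferInstance : Nonempty (Sylow ℓ (Aut A)))
  let J : SingleObj (H : Subgroup (Aut A)) ⥤ FEt.Cat S :=
    SingleObj.functor ((Aut.toEnd A).comp (H : Subgroup (Aut A)).subtype)
  let C := colimit J
  let π : A ⟶ C := colimit.ι J (SingleObj.star _)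
  have hπ : ∀ h : (H : Subgroup (Aut A)), (h : Aut A).hom ≫ π = π := fun h => colimit.w J h
  have hsurj : ∀ {K : Type u} [Field K] [IsAlgClosed K] (η : Spec (CommRingCat.of K) ⟶ S)
      (t : FEt.fiberObj η C), ∃ y : FEt.fiberObj η A, (FEt.fiber η).map π y = t := fun η t => by
    have := FEt.GaloisCat.fiberFunctor η
    obtain ⟨_, y, hy⟩ := Types.jointly_surjective _
      (isColimitOfPreserves (FEt.FiberFunctor.fintypeFiber η ⋙ FintypeCat.incl) (colimit.isColimit J)) t
    exact ⟨y, hy⟩
  have hπsurj : Function.Surjective π.left.base := fun c => by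
    let pc := FEt.FullyFaithful.geomPt c
    obtain ⟨y, hy⟩ := hsurj (pc ≫ C.hom) ⟨pc, rfl⟩
    refine ⟨y.1.base (IsLocalRing.closedPoint _), ?_⟩
    exact (congrArg (fun m => m.base (IsLocalRing.closedPoint _)) (congrArg Subtype.val hy)).trans
      (FEt.FullyFaithful.point_geomPt c)
  have hTc : ConnectedSpace C.left :=
    { toPreconnectedSpace := Function.Surjective.denseRange hπsurj |>.preconnectedSpace π.left.continuous
      toNonempty := ⟨π.left.base (a.1.base (IsLocalRing.closedPoint _))⟩ }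
  have hf1 : IsFinite C.hom := C.prop.1
  have hf2 : AlgebraicGeometry.Etale C.hom := C.prop.2
  -- the degree
  let d := (H : Subgroup (Aut A)).index
  have hd : ℓ.Coprime d := (Fact.out : ℓ.Prime).coprime_iff_not_dvd.2 (Sylow.not_dvd_index H)
  have hcard : Nat.card (FEt.fiberObj ξ C) = d := by
    exact card_quotient ξ A a H
  -- the cover over the quotient
  let P : C.left.Etale := coverOver π
  have : PreconnectedSpace P.left := ‹PreconnectedSpace A.left›
  let ρ : (H : Subgroup (Aut A)) →* Aut P :=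
    { toFun := fun h =>
        { hom := MorphismProperty.Over.homMk (h : Aut A).hom.left (congrArg (fun m => m.left) (hπ h))
          inv := MorphismProperty.Over.homMk (h : Aut A).inv.left
            (congrArg (fun m => m.left) (hπ h⁻¹))
          hom_inv_id := MorphismProperty.Over.Hom.ext (congrArg (fun m => m.left) (h : Aut A).hom_inv_id)
          inv_hom_id := MorphismProperty.Over.Hom.ext (congrArg (fun m => m.left) (h : Aut A).inv_hom_id) }
      map_one' := Iso.ext (MorphismProperty.Over.Hom.ext rfl)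
      map_mul' := fun h k => Iso.ext (MorphismProperty.Over.Hom.ext rfl) }
  have hdesc : ∀ V : C.left.Etale, IsFinite V.hom → ∀ g : P ⟶ V, (∀ h, (ρ h).hom ≫ g = g) →
      ∃ σ : EtCoh.top C.left ⟶ V, Step.toTop P ≫ σ = g := by
    exact fun V hV g hg => descent (H : Subgroup (Aut A)) ρ (fun h => by rfl) V hV g hg
  let Q : EtCoh.Ab C.left := (EtShriek.restrAlong C.hom).obj F
  have hQ : EtCoh.IsFiniteLocallyConstant Q :=
    Step.flc_of_iso ((EtJ.Basic.pullIsoRestr C.hom).app F) ((Groth.Agent.S6642.result C.hom).2.1 F hF)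
  have hk : EtCoh.KilledBy ℓ Q := fun W s => hℓ _ s
  have hS : Rep.Split Q P a.1 := by
    exact split_restr e hbij π
  obtain ⟨n, R, r, hr, ⟨e₀⟩, hn, hker⟩ := Step.exists_tower P a.1 ρ H.isPGroup' hdesc
    (Nat.card (EtCoh.sect Q P)) Q hQ hk hS le_rfl
  obtain ⟨G, φ, h0, ⟨eG⟩, hstep⟩ := Quot.exists_filtration _ n R r hr e₀ hn hker
  refine ⟨C.left, C.hom, hf1, hf2, d, hd, fun Ω _ _ η => ?_, n, G, φ, h0,
    ⟨eG ≪≫ ((EtJ.Basic.pullIsoRestr C.hom).app F).symm⟩, hstep⟩
  obtain ⟨i⟩ := Groth.Agent.S0296.result η ξ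
  exact (Nat.card_congr (i.app C).toEquiv).trans hcard

end Groth.Agent.S0657
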