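import Groth.Statements.S14389
import Groth.Agent.H61.HpullFunct

set_option autoImplicit false
open CategoryTheory CategoryTheory.Limits AlgebraicGeometry Opposite
universe u
open EtLim Groth.Agent.H61.HpullFunct

namespace Groth.Agent.S14389

private theorem congr_symm {X Y : Scheme.{u}} {a b : X ⟶ Y} (w : a = b) (N : EtCoh.Ab X) :
    (EtCoh.pushCongr w).hom.app N ≫ (EtCoh.pushCongr w.symm).hom.app N = 𝟙 _ := by
  subst w
  rw [pushCongr_rfl, Category.comp_id]

private theorem homEquiv_map_counit {A B : Type*} [Category A] [Category B] {L : A ⥤ B} {R : B ⥤ A}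
    (adj : L ⊣ R) {a : A} {b : B} (x : a ⟶ R.obj b) :
    adj.homEquiv a b (L.map x ≫ adj.counit.app b) = x := by
  simp [Adjunction.homEquiv_unit]

private theorem homEquiv_map {A B : Type*} [Category A] [Category B] {L : A ⥤ B} {R : B ⥤ A}
    (adj : L ⊣ R) {a a' : A} (x : a ⟶ a') :
    adj.homEquiv a (L.obj a') (L.map x) = x ≫ adj.unit.app a' := by
  simp [Adjunction.homEquiv_unit]

private theorem homEquiv_counit_comp {A B : Type*} [Category A] [Category B] {L : A ⥤ B} {R : B ⥤ A}
    (adj : L ⊣ R) {b b' : B} (x : b ⟶ b') :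
    adj.homEquiv (R.obj b) b' (adj.counit.app b ≫ x) = R.map x := by
  simp [Adjunction.homEquiv_unit]

/-- two composites of the same maps on cohomology -/
private theorem map_map {X : Scheme.{u}} (q : ℕ) {A B C : EtCoh.Ab X} (a : A ⟶ B) (b : B ⟶ C)
    (x : EtCoh.H X A q) :
    ((EtCoh.HF X q).map b).hom (((EtCoh.HF X q).map a).hom x) = ((EtCoh.HF X q).map (a ≫ b)).hom x := by
  rw [Functor.map_comp]; rfl


/-- the identity of maps of sheaves behind the compatibility -/
private theorem key_eq {X Y X' Y' : Scheme.{u}} (f : X ⟶ Y) (g : Y' ⟶ Y) (f' : X' ⟶ Y') (g' : X' ⟶ X)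
    (w : g' ≫ f = f' ≫ g) (F : EtCoh.Ab X) :
    (((EtCore.pullComp g' f).symm ≪≫ EtCore.pullCongr (rfl : g' ≫ f = g' ≫ f)).app
      ((EtCoh.push f).obj F)).inv ≫ (EtCoh.pull g').map ((EtCoh.pullPushAdj f).counit.app F) =
    (((EtCore.pullComp f' g).symm ≪≫ EtCore.pullCongr w.symm).app ((EtCoh.push f).obj F)).inv ≫
      (EtCoh.pull f').map (EtCoh.baseChange0 f g f' g' w F) ≫
      (EtCoh.pullPushAdj f').counit.app ((EtCoh.pull g').obj F) := by
  set c1 := ((EtCore.pullComp g' f).symm ≪≫ EtCore.pullCongr (rfl : g' ≫ f = g' ≫ f)).app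
    ((EtCoh.push f).obj F) with hc1
  set c2 := ((EtCore.pullComp f' g).symm ≪≫ EtCore.pullCongr w.symm).app ((EtCoh.push f).obj F) with hc2
  apply ((EtCoh.pullPushAdj (g' ≫ f)).homEquiv _ _).injective
  rw [← homEquiv_pullVia (rfl : g' ≫ f = g' ≫ f), ← homEquiv_pullVia w.symm]
  simp only [show ((EtCore.pullComp g' f).symm ≪≫ EtCore.pullCongr (rfl : g' ≫ f = g' ≫ f)).hom.app
      ((EtCoh.push f).obj F) = c1.hom from rfl,
    show ((EtCore.pullComp f' g).symm ≪≫ EtCore.pullCongr w.symm).hom.app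
      ((EtCoh.push f).obj F) = c2.hom from rfl, Iso.hom_inv_id_assoc]
  have t1 : (EtCoh.pullPushAdj f).homEquiv _ _ ((EtCoh.pullPushAdj g').homEquiv _ _
      ((EtCoh.pull g').map ((EtCoh.pullPushAdj f).counit.app F))) =
      (EtCoh.push f).map ((EtCoh.pullPushAdj g').unit.app F) := by
    exact (congrArg _ (homEquiv_map (EtCoh.pullPushAdj g') _)).trans
      (homEquiv_counit_comp (EtCoh.pullPushAdj f) _)
  have t2 : (EtCoh.pullPushAdj g).homEquiv _ _ ((EtCoh.pullPushAdj f').homEquiv _ _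
      ((EtCoh.pull f').map (EtCoh.baseChange0 f g f' g' w F) ≫
        (EtCoh.pullPushAdj f').counit.app ((EtCoh.pull g').obj F))) =
      (EtCoh.push f).map ((EtCoh.pullPushAdj g').unit.app F) ≫ (EtCoh.pushComp f g').hom.app _ ≫
        (EtCoh.pushCongr w).hom.app _ ≫ (EtCoh.pushComp g f').inv.app _ := by
    refine (congrArg _ (homEquiv_map_counit (EtCoh.pullPushAdj f') _)).trans ?_
    exact Equiv.apply_symm_apply _ _
  rw [t1, pushCongr_rfl, Category.comp_id]
  refine Eq.trans ?_ (congrArg (fun t => t ≫ (EtCoh.pushComp g f').hom.app _ ≫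
    (EtCoh.pushCongr w.symm).hom.app _) t2).symm
  dsimp only [Functor.id_obj]
  simp only [Category.assoc, Iso.inv_hom_id_app_assoc, congr_symm w, Category.comp_id]

/-- pulling back twice and pushing forward along `φ` -/
private theorem via_split {A B C : Scheme.{u}} (p : A ⟶ B) (r : B ⟶ C) (h : A ⟶ C) (w : p ≫ r = h)
    [PreservesFiniteLimits (EtCoh.pull p)] [PreservesFiniteLimits (EtCoh.pull r)]
    [PreservesFiniteLimits (EtCoh.pull h)] (G : EtCoh.Ab C) (n : ℕ) (e : EtCoh.H C G n) :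
    ((EtCoh.HF A n).map (((EtCore.pullComp p r).symm ≪≫ EtCore.pullCongr w).app G).hom).hom
      (EtCore.Hpull p ((EtCoh.pull r).obj G) n (EtCore.Hpull r G n e)) = EtCore.Hpull h G n e := by
  have hh := HpullVia_Hpull p r h w G n e
  rw [EtCore.HpullVia] at hh
  exact hh

/-- pulling back twice and pushing forward along `φ` -/
private theorem via_map {A B C : Scheme.{u}} (p : A ⟶ B) (r : B ⟶ C) (h : A ⟶ C) (w : p ≫ r = h)
    [PreservesFiniteLimits (EtCoh.pull p)] [PreservesFiniteLimits (EtCoh.pull r)]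
    [PreservesFiniteLimits (EtCoh.pull h)] (G : EtCoh.Ab C) {M : EtCoh.Ab A}
    (φ : (EtCoh.pull p).obj ((EtCoh.pull r).obj G) ⟶ M) (n : ℕ) (e : EtCoh.H C G n) :
    ((EtCoh.HF A n).map φ).hom (EtCore.Hpull p ((EtCoh.pull r).obj G) n (EtCore.Hpull r G n e)) =
      ((EtCoh.HF A n).map ((((EtCore.pullComp p r).symm ≪≫ EtCore.pullCongr w).app G).inv ≫ φ)).hom
        (EtCore.Hpull h G n e) := by
  rw [← via_split p r h w G n e, map_map, Iso.hom_inv_id_assoc]

/-- `HofPush` in stages -/
private theorem hofPush_eq {A B : Scheme.{u}} (v : A ⟶ B) [PreservesFiniteLimits (EtCoh.pull v)]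
    (F : EtCoh.Ab A) (n : ℕ) (e : EtCoh.H B ((EtCoh.push v).obj F) n) :
    EtLim.HofPush v F n e = ((EtCoh.HF A n).map ((EtCoh.pullPushAdj v).counit.app F)).hom
      (EtCore.Hpull v ((EtCoh.push v).obj F) n e) := by
  rw [EtLim.HofPush]
  rfl

/-- For small étale sites of schemes: let g' ≫ f = f' ≫ g be a commutative square of schemes with f : X
→ Y, g : Y' → Y, f' : X' → Y', g' : X' → X, and let F be an abelian sheaf on the small étale site of
X. For every q and every class ζ in H^q(Y_ét, f_*F), the pullback along g' of the image of ζ under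
the canonical map H^q(Y, f_*F) → H^q(X, F) (pull back along f, then apply the counit f⁻¹f_*F → F)
equals the image of g^*ζ ∈ H^q(Y', g⁻¹f_*F) under the map induced by the base-change morphism
g⁻¹f_*F → f'_*g'⁻¹F followed by the canonical map H^q(Y', f'_*g'⁻¹F) → H^q(X', g'⁻¹F). (The
published statement is for a commutative square of topoi with a chosen isomorphism f_*g'_* ≅
g_*f'_*; this row is the square of étale topoi of schemes. Exactness of pullback of abelian sheaves,
which always holds, is carried as instance hypotheses.) -/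
theorem result {X Y X' Y' : Scheme.{u}} (f : X ⟶ Y)
    (g : Y' ⟶ Y) (f' : X' ⟶ Y') (g' : X' ⟶ X) (w : g' ≫ f = f' ≫ g) (F : EtCoh.Ab X) (q : ℕ)
    [PreservesFiniteLimits (EtCoh.pull f)] [PreservesFiniteLimits (EtCoh.pull g)]
    [PreservesFiniteLimits (EtCoh.pull f')] [PreservesFiniteLimits (EtCoh.pull g')]
    (ζ : EtCoh.H Y ((EtCoh.push f).obj F) q) :
    EtCore.Hpull g' F q (EtLim.HofPush f F q ζ) =
      EtLim.HofPush f' ((EtCoh.pull g').obj F) q
        (((EtCoh.HF Y' q).map (EtCoh.baseChange0 f g f' g' w F)).hom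
          (EtCore.Hpull g ((EtCoh.push f).obj F) q ζ)) := by
  refine (congrArg (EtCore.Hpull g' F q) (hofPush_eq f F q ζ)).trans ?_
  refine Eq.trans ?_ (hofPush_eq f' ((EtCoh.pull g').obj F) q _).symm
  refine (Hpull_map ((EtCoh.pullPushAdj f).counit.app F) q _).trans ?_
  refine Eq.trans ?_ (congrArg ((EtCoh.HF X' q).map ((EtCoh.pullPushAdj f').counit.app
    ((EtCoh.pull g').obj F))).hom (Hpull_map (EtCoh.baseChange0 f g f' g' w F) q _)).symm
  refine Eq.trans ?_ (map_map q _ _ _).symm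
  refine (via_map g' f (g' ≫ f) rfl _ _ q ζ).trans ?_
  refine Eq.trans ?_ (via_map f' g (g' ≫ f) w.symm _ _ q ζ).symm
  exact congrArg (fun t => ((EtCoh.HF X' q).map t).hom
    (EtCore.Hpull (g' ≫ f) ((EtCoh.push f).obj F) q ζ)) (key_eq f g f' g' w F)

end Groth.Agent.S14389
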