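import Groth.Statements.S14451
import Groth.Agent.Lib.EtJ.RightAcyclic
import Groth.Agent.Lib.EtJ.PullExact
import Groth.Agent.Lib.EtJ.ExtNat

set_option autoImplicit false
universe u
open CategoryTheory CategoryTheory.Limits AlgebraicGeometry
open EtCore

namespace Groth.Agent.S14451

open CategoryTheory.Abelian

section

set_option linter.unusedSectionVars false

universe v v' u₁ u₂ w w'

variable {C : Type u₁} [Category.{v} C] [Abelian C] [HasExt.{w} C] [HasInjectiveResolutions C]
  [EnoughInjectives C]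
  {D : Type u₂} [Category.{v'} D] [Abelian D] [HasExt.{w'} D]
  {L : D ⥤ C} [L.Additive] [PreservesFiniteLimits L] [PreservesFiniteColimits L]
  {R : C ⥤ D} [R.Additive] [PreservesFiniteLimits R] [R.PreservesInjectiveObjects]
  (adj : L ⊣ R) {A : D} {B : C} (c : B ≅ L.obj A)

/-- The comparison map. -/
noncomputable def theta (G : C) (n : ℕ) (e : Ext.{w'} A (R.obj G) n) : Ext.{w} B G n :=
  ((Ext.mk₀ c.hom).comp (e.mapExactFunctor L) (zero_add n)).comp
    (Ext.mk₀ (adj.counit.app G)) (add_zero n)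

theorem theta_zero_bijective (G : C) : Function.Bijective (theta adj c G 0) := by
  refine (Function.Bijective.of_comp_iff _ (Ext.mk₀_bijective _ _)).1 ?_
  let e := (adj.homEquiv A G).symm.trans (c.symm.homCongr (Iso.refl G))
  have h : theta adj c G 0 ∘ Ext.mk₀ = Ext.mk₀ ∘ e := by
    funext φ
    simp [theta, e, Ext.mapExactFunctor_mk₀, Adjunction.homEquiv_counit, Iso.homCongr]
  rw [h]
  exact (Ext.mk₀_bijective _ _).comp e.bijective

theorem theta_comp_mk₀ {G G' : C} (a : G ⟶ G') (n : ℕ) (e : Ext.{w'} A (R.obj G) n) :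
    theta adj c G' n (e.comp (Ext.mk₀ (R.map a)) (add_zero n)) =
      (theta adj c G n e).comp (Ext.mk₀ a) (add_zero n) := by
  simp only [theta, Ext.mapExactFunctor_comp, Ext.mapExactFunctor_mk₀,
    Ext.comp_assoc_of_third_deg_zero, Ext.mk₀_comp_mk₀]
  exact congrArg (fun m => (Ext.mk₀ c.hom).comp
    ((e.mapExactFunctor L).comp (Ext.mk₀ m) (add_zero n)) (zero_add n)) (adj.counit.naturality a)

theorem theta_zero (G : C) (n : ℕ) : theta adj c G n 0 = 0 := by
  simp [theta, Ext.mapExactFunctor_zero]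

theorem theta_extClass {T : ShortComplex C} (hT : T.ShortExact) (hT' : (T.map R).ShortExact)
    (n : ℕ) (e : Ext.{w'} A (R.obj T.X₃) n) :
    theta adj c T.X₁ (n + 1) (e.comp hT'.extClass rfl) =
      (theta adj c T.X₃ n e).comp hT.extClass rfl := by
  let k : (T.map R).map L ⟶ T :=
    { τ₁ := adj.counit.app T.X₁
      τ₂ := adj.counit.app T.X₂
      τ₃ := adj.counit.app T.X₃
      comm₁₂ := (adj.counit.naturality T.f).symm
      comm₂₃ := (adj.counit.naturality T.g).symm }
  have hk : (hT'.extClass.mapExactFunctor L).comp (Ext.mk₀ (adj.counit.app T.X₁)) (add_zero 1) =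
      (Ext.mk₀ (adj.counit.app T.X₃)).comp hT.extClass (zero_add 1) := by
    rw [Ext.mapExactFunctor_extClass]
    exact (hT'.map_of_exact L).extClass_naturality hT k
  have aux : ∀ {P Q₁ Q₃ R₁ R₃ : C} (a : Ext.{w} B P 0) (b : Ext.{w} P Q₃ n)
      (d : Ext.{w} Q₃ Q₁ 1) (ε₁ : Ext.{w} Q₁ R₁ 0) (ε₃ : Ext.{w} Q₃ R₃ 0) (d' : Ext.{w} R₃ R₁ 1),
      d.comp ε₁ (add_zero 1) = ε₃.comp d' (zero_add 1) →
      (a.comp (b.comp d (rfl : n + 1 = n + 1)) (zero_add (n + 1))).comp ε₁ (add_zero (n + 1)) =
        ((a.comp b (zero_add n)).comp ε₃ (add_zero n)).comp d' rfl := by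
    intro P Q₁ Q₃ R₁ R₃ a b d ε₁ ε₃ d' h
    rw [Ext.comp_assoc_of_third_deg_zero, Ext.comp_assoc_of_third_deg_zero, h,
      ← Ext.comp_assoc_of_second_deg_zero, Ext.comp_assoc_of_third_deg_zero a b ε₃]
    exact (Ext.comp_assoc a _ d' (zero_add n) rfl (by omega)).symm
  refine (congrArg (fun m => ((Ext.mk₀ c.hom).comp m (zero_add (n + 1))).comp
    (Ext.mk₀ (adj.counit.app T.X₁)) (add_zero (n + 1)))
    (Ext.mapExactFunctor_comp L e hT'.extClass rfl)).trans ?_
  exact aux (Ext.mk₀ c.hom) (e.mapExactFunctor L) (hT'.extClass.mapExactFunctor L) _ _ _ hk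

theorem theta_add (G : C) (n : ℕ) (a b : Ext.{w'} A (R.obj G) n) :
    theta adj c G n (a + b) = theta adj c G n a + theta adj c G n b := by
  simp only [theta, Ext.mapExactFunctor_add, Ext.comp_add, Ext.add_comp]

theorem theta_step (T : ShortComplex C) (hT : T.ShortExact) (hT' : (T.map R).ShortExact)
    [Injective T.X₂] [Injective (T.map R).X₂] (n : ℕ)
    (ih : Function.Bijective (theta adj c T.X₃ n)) :
    Function.Bijective (theta adj c T.X₁ (n + 1)) := by
  let θ : ∀ (G : C) (m : ℕ), Ext.{w'} A (R.obj G) m →+ Ext.{w} B G m := fun G m =>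
    AddMonoidHom.mk' (theta adj c G m) (theta_add adj c G m)
  refine ⟨(injective_iff_map_eq_zero (θ T.X₁ (n + 1))).2 fun e he => ?_, fun x => ?_⟩
  · obtain ⟨y, hy⟩ := Ext.covariant_sequence_exact₁ A hT' e (Ext.eq_zero_of_injective _) rfl
    have hd : (theta adj c T.X₃ n y).comp hT.extClass rfl = 0 := by
      rw [← theta_extClass adj c hT hT' n y]
      exact (congrArg (theta adj c T.X₁ (n + 1)) hy).trans he
    obtain ⟨i, hi⟩ := Ext.covariant_sequence_exact₃ B hT _ rfl hd
    obtain ⟨i', rfl⟩ : ∃ i', theta adj c T.X₂ n i' = i := by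
      rcases Nat.eq_zero_or_pos n with rfl | hn
      · exact (theta_zero_bijective adj c _).2 i
      · obtain ⟨m, rfl⟩ := Nat.exists_eq_succ_of_ne_zero hn.ne'
        exact ⟨0, (theta_zero adj c _ _).trans (Ext.eq_zero_of_injective i).symm⟩
    have hy' : i'.comp (Ext.mk₀ (R.map T.g)) (add_zero n) = y :=
      ih.1 ((theta_comp_mk₀ adj c T.g n i').trans hi)
    rw [← hy, ← hy']
    refine (Ext.comp_assoc _ _ _ (add_zero n) (zero_add 1) (by omega)).trans ?_
    exact (congrArg (fun m => Ext.comp i' m (rfl : n + 1 = n + 1)) hT'.comp_extClass).trans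
      (Ext.comp_zero i' _ 1 _ _)
  · obtain ⟨y, rfl⟩ := Ext.covariant_sequence_exact₁ B hT x (Ext.eq_zero_of_injective _) rfl
    obtain ⟨z, rfl⟩ := ih.2 y
    exact ⟨z.comp hT'.extClass rfl, theta_extClass adj c hT hT' n z⟩

theorem theta_bijective {G : C} (hR : ∀ q : ℕ, 0 < q → IsZero ((R.rightDerived q).obj G))
    (p : ℕ) : Function.Bijective (theta adj c G p) := by
  let P : InjectiveResolution G := InjectiveResolution.of G
  have key : ∀ (n k : ℕ),
      Function.Bijective (theta adj c (Groth.Agent.Lib.EtJ.RightAcyclic.cyc P k) n) := by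
    intro n
    induction n with
    | zero => exact fun k => theta_zero_bijective adj c _
    | succ n ih =>
      intro k
      have : Injective (Groth.Agent.Lib.EtJ.RightAcyclic.seq P k).X₂ := P.injective k
      have : Injective ((Groth.Agent.Lib.EtJ.RightAcyclic.seq P k).map R).X₂ :=
        R.injective_obj (P.cocomplex.X k)
      exact theta_step adj c _ (Groth.Agent.Lib.EtJ.RightAcyclic.seq_shortExact P k)
        (Groth.Agent.Lib.EtJ.RightAcyclic.seq_map_shortExact P R hR k) n (ih (k + 1))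
  let i := Groth.Agent.Lib.EtJ.RightAcyclic.isoCyc₀ P
  refine ⟨fun e e' h => ?_, fun x => ?_⟩
  · have := (key p 0).1 (a₁ := e.comp (Ext.mk₀ (R.map i.hom)) (add_zero p))
      (a₂ := e'.comp (Ext.mk₀ (R.map i.hom)) (add_zero p)) (by
        simp only [theta_comp_mk₀, h])
    have := congrArg (fun e => Ext.comp e (Ext.mk₀ (R.map i.inv)) (add_zero p)) this
    simpa [Ext.comp_assoc_of_third_deg_zero, ← Functor.map_comp] using this
  · obtain ⟨z, hz⟩ := (key p 0).2 (x.comp (Ext.mk₀ i.hom) (add_zero p))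
    refine ⟨z.comp (Ext.mk₀ (R.map i.inv)) (add_zero p), ?_⟩
    rw [theta_comp_mk₀, hz, Ext.comp_assoc_of_third_deg_zero, Ext.mk₀_comp_mk₀, i.hom_inv_id,
      Ext.comp_mk₀_id]

end

/-- Let f : X ⟶ Y be a morphism of schemes and F an abelian sheaf on the small étale site of X whose
higher direct images R^q f_* F vanish for all q > 0. Then for every p the canonical map H^p(Y, f_*
F) → H^p(X, F) (pull back along f, then apply the counit f⁻¹ f_* F ⟶ F) is bijective. (Exactness of
f⁻¹, which always holds, is carried as an instance hypothesis.) -/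
theorem result {X Y : Scheme.{u}} (f : X ⟶ Y)
    [PreservesFiniteLimits (EtCoh.pull f)] (F : EtCoh.Ab X)
    (hR : ∀ q : ℕ, 0 < q → IsZero ((EtCoh.Rpush f q).obj F)) (p : ℕ) :
    Function.Bijective (EtLim.HofPush f F p) := by
  haveI : PreservesLimitsOfSize.{0, 0} (EtCoh.push f) :=
    (EtCoh.pullPushAdj f).rightAdjoint_preservesLimits
  haveI : PreservesFiniteLimits (EtCoh.push f) := PreservesLimitsOfSize.preservesFiniteLimits _
  exact theta_bijective (EtCoh.pullPushAdj f) (EtCore.pullConst f ℤ).symm hR p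

end Groth.Agent.S14451
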