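import Groth.Statements.S14382
import Groth.Statements.S14382
import Groth.Agent.S14389
import Groth.Agent.S14451
import Groth.Agent.S0071
import Groth.Agent.S0106
import Groth.Agent.H61.HmapFunct
import Groth.Agent.H88.EtMod.LCAb
import Groth.Agent.H88.EtMod.PBCPresent
import Groth.Agent.Lib.EtJ.PullExact

set_option autoImplicit false
open CategoryTheory CategoryTheory.Limits AlgebraicGeometry Opposite
universe u
open EtCoh

set_option linter.style.haveILetI false

namespace Groth.Agent.S14382

/-- A scheme finite étale over one with finitely many components has finitely many components. -/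
theorem finite_components {X Y : Scheme.{u}} (f : X ⟶ Y) [IsFinite f] [Etale f]
    (hconn : Finite (_root_.ConnectedComponents ↥Y)) : Finite (_root_.ConnectedComponents ↥X) := by
  classical
  choose rep hrep using ConnectedComponents.surjective_coe (α := Y)
  let F₀ : Set X := ⋃ c, f.base ⁻¹' {rep c}
  haveI : Finite F₀ := (Set.finite_iUnion fun c => f.finite_preimage_singleton (rep c)).to_subtype
  have meet : ∀ U : Set X, IsClopen U → U.Nonempty → (U ∩ F₀).Nonempty := by
    intro U hU ⟨x, hx⟩
    have hc : IsClopen (f.base '' U) := ⟨f.isClosedMap _ hU.isClosed, f.isOpenMap _ hU.isOpen⟩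
    have h1 := hc.connectedComponent_subset (Set.mem_image_of_mem _ hx)
    obtain ⟨x', hx', he⟩ := h1 (ConnectedComponents.coe_eq_coe'.1 (hrep (ConnectedComponents.mk (f.base x))))
    exact ⟨x', hx', Set.mem_iUnion.2 ⟨_, he⟩⟩
  haveI : Finite {U : Set X // IsClopen U} := Finite.of_injective
    (fun U => {z : F₀ | (z : X) ∈ U.1}) fun U V h => by
      by_contra hne
      have hne' : ((U.1 \ V.1) ∪ (V.1 \ U.1)).Nonempty := by
        rw [Set.nonempty_iff_ne_empty]
        intro he
        obtain ⟨h1, h2⟩ := Set.union_empty_iff.1 he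
        exact hne (Subtype.ext ((Set.diff_eq_empty.1 h1).antisymm (Set.diff_eq_empty.1 h2)))
      obtain ⟨z, hz, hzF⟩ := meet _ ((U.2.diff V.2).union (V.2.diff U.2)) hne'
      have hiff : z ∈ U.1 ↔ z ∈ V.1 := Set.ext_iff.1 h ⟨z, hzF⟩
      rcases hz with ⟨a, b⟩ | ⟨a, b⟩
      · exact b (hiff.1 a)
      · exact b (hiff.2 a)
  let S : X → Set {U : Set X // IsClopen U} := fun x => {U | x ∈ U.1}
  have hcomp : ∀ x : X, connectedComponent x = ⋂ U ∈ S x, U.1 := by
    intro x
    refine subset_antisymm (Set.subset_iInter₂ fun U hU => U.2.connectedComponent_subset hU) ?_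
    have hA : IsClopen (⋂ U ∈ S x, U.1) :=
      Set.Finite.isClopen_biInter (Set.toFinite _) fun U _ => U.2
    refine IsPreconnected.subset_connectedComponent ?_ (Set.mem_iInter₂.2 fun U hU => hU)
    rw [isPreconnected_iff_subset_of_disjoint]
    intro u v hu hv huv hdis
    have key : ∀ u v : Set X, IsOpen u → IsOpen v → (⋂ U ∈ S x, U.1) ⊆ u ∪ v →
        (⋂ U ∈ S x, U.1) ∩ (u ∩ v) = ∅ → x ∈ u → (⋂ U ∈ S x, U.1) ⊆ u := by
      intro u v hu hv huv hdis hxu y hy
      have hcl : IsClopen ((⋂ U ∈ S x, U.1) ∩ u) := by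
        refine ⟨?_, hA.isOpen.inter hu⟩
        have : (⋂ U ∈ S x, U.1) ∩ u = (⋂ U ∈ S x, U.1) ∩ vᶜ := by
          ext z
          refine ⟨fun hz => ⟨hz.1, fun hzv => ?_⟩, fun hz => ⟨hz.1, (huv hz.1).resolve_right hz.2⟩⟩
          exact (Set.eq_empty_iff_forall_notMem.1 hdis z) ⟨hz.1, hz.2, hzv⟩
        rw [this]
        exact hA.isClosed.inter hv.isClosed_compl
      exact (Set.mem_iInter₂.1 hy ⟨_, hcl⟩ ⟨Set.mem_iInter₂.2 fun U hU => hU, hxu⟩).2
    rcases huv (Set.mem_iInter₂.2 fun U hU => hU) with hxu | hxv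
    · exact Or.inl (key u v hu hv huv hdis hxu)
    · exact Or.inr (key v u hv hu (Set.union_comm u v ▸ huv) (Set.inter_comm u v ▸ hdis) hxv)
  refine Finite.of_injective (fun c => S (Function.surjInv ConnectedComponents.surjective_coe c)) fun c d h => ?_
  rw [← Function.surjInv_eq ConnectedComponents.surjective_coe c,
    ← Function.surjInv_eq ConnectedComponents.surjective_coe d, ConnectedComponents.coe_eq_coe, hcomp, hcomp]
  exact congrArg (fun T : Set {U : Set X // IsClopen U} => ⋂ U ∈ T, U.1) h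

/-- Let P be a set of prime numbers and f : X → Y a finite étale surjective morphism of schemes, where Y
is quasi-compact and quasi-separated with finitely many connected components. Then X is
quasi-compact and quasi-separated with finitely many connected components, and Y is a K(π,1) for
P-torsion coefficients if and only if X is; here a scheme Z is called a K(π,1) for P-torsion
coefficients when for every finite locally constant abelian sheaf F on the small étale site of Z
killed by some n ≥ 1 all of whose prime factors lie in P, every q > 0 and every class ζ in H^q(Z_ét,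
F) there is a finite étale surjective g : Z' → Z with g^*ζ = 0. (Exactness of pullback of abelian
sheaves, which always holds, is carried as an instance hypothesis.) -/
theorem result (P : Set ℕ) {X Y : Scheme.{u}} (f : X ⟶ Y)
    [IsFinite f] [Etale f] [Surjective f] [CompactSpace ↥Y] [QuasiSeparatedSpace ↥Y]
    (hconn : Finite (_root_.ConnectedComponents ↥Y)) :
    (CompactSpace ↥X ∧ QuasiSeparatedSpace ↥X ∧ Finite (_root_.ConnectedComponents ↥X)) ∧
    ((∀ (F : EtCoh.Ab Y), EtCoh.IsFiniteLocallyConstant F →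
        (∃ n : ℕ, 0 < n ∧ (∀ p : ℕ, p.Prime → p ∣ n → p ∈ P) ∧ EtCoh.KilledBy n F) →
        ∀ q : ℕ, 0 < q → ∀ ζ : EtCoh.H Y F q,
          ∃ (Y' : Scheme.{u}) (g : Y' ⟶ Y), IsFinite g ∧ Etale g ∧ Surjective g ∧
            ∀ [PreservesFiniteLimits (EtCoh.pull g)], EtCore.Hpull g F q ζ = 0) ↔
     (∀ (F : EtCoh.Ab X), EtCoh.IsFiniteLocallyConstant F →
        (∃ n : ℕ, 0 < n ∧ (∀ p : ℕ, p.Prime → p ∣ n → p ∈ P) ∧ EtCoh.KilledBy n F) →
        ∀ q : ℕ, 0 < q → ∀ ζ : EtCoh.H X F q,
          ∃ (X' : Scheme.{u}) (g : X' ⟶ X), IsFinite g ∧ Etale g ∧ Surjective g ∧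
            ∀ [PreservesFiniteLimits (EtCoh.pull g)], EtCore.Hpull g F q ζ = 0)) := by
  haveI : CompactSpace ↥X := QuasiCompact.compactSpace_of_compactSpace f
  haveI : QuasiSeparatedSpace ↥X := quasiSeparatedSpace_of_quasiSeparated f
  haveI : PreservesFiniteLimits (EtCoh.pull f) := Lib.EtJ.PullExact.pull_preservesFiniteLimits f
  refine ⟨⟨inferInstance, inferInstance, finite_components f hconn⟩, fun hY F hF htor q hq ζ => ?_,
    fun hX F hF htor q hq ζ => ?_⟩
  · obtain ⟨ξ, rfl⟩ := (Groth.Agent.S14451.result f F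
      (fun k hk => Groth.Agent.S0071.result f F k hk) q).2 ζ
    obtain ⟨n, hn, hP, hk⟩ := htor
    obtain ⟨Y', g, hg₁, hg₂, hg₃, hg₄⟩ := hY ((EtCoh.push f).obj F) (Groth.Agent.S0106.result f F hF)
      ⟨n, hn, hP, fun V s => hk _ s⟩ q hq ξ
    refine ⟨pullback f g, pullback.fst f g, inferInstance, inferInstance, inferInstance, fun {_} => ?_⟩
    haveI : PreservesFiniteLimits (EtCoh.pull g) := Lib.EtJ.PullExact.pull_preservesFiniteLimits g
    haveI : PreservesFiniteLimits (EtCoh.pull (pullback.snd f g)) :=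
      Lib.EtJ.PullExact.pull_preservesFiniteLimits _
    rw [Groth.Agent.S14389.result f g (pullback.snd f g) (pullback.fst f g) pullback.condition F q ξ, hg₄]
    exact (congrArg _ (map_zero _)).trans (map_zero _)
  · obtain ⟨n, hn, hP, hk⟩ := htor
    have hk' : EtCoh.KilledBy n ((EtCoh.pull f).obj F) := by
      rw [H88.EtMod.PBCPresent.killedBy_iff] at hk ⊢
      rw [← (EtCoh.pull f).map_id, ← Functor.map_nsmul, hk, Functor.map_zero]
    obtain ⟨X', g, hg₁, hg₂, hg₃, hg₄⟩ := hX ((EtCoh.pull f).obj F) (H88.EtMod.LCAb.isFiniteLC_pull f hF)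
      ⟨n, hn, hP, hk'⟩ q hq (EtCore.Hpull f F q ζ)
    refine ⟨X', g ≫ f, inferInstance, inferInstance, inferInstance, fun {_} => ?_⟩
    haveI : PreservesFiniteLimits (EtCoh.pull g) := Lib.EtJ.PullExact.pull_preservesFiniteLimits g
    rw [← H61.HmapFunct.via_split g f (g ≫ f) rfl q F ζ, hg₄]
    exact map_zero _

end Groth.Agent.S14382
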