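import Groth.Statements.S4942
import Groth.Agent.H46.OpenAt

set_option autoImplicit false
open CategoryTheory AlgebraicGeometry
universe u v w
open EGA43

namespace Groth.Agent.S4942

open CategoryTheory.Limits in
/-- Let v : Y₁ ⟶ Y be a universally closed surjective morphism of schemes, f : X ⟶ Y a morphism and x a
point of X. If the base change f₁ : X ×_Y Y₁ ⟶ Y₁ is universally open at every point of X ×_Y Y₁
lying over x, then f is universally open at x. -/
theorem result {X Y Y₁ : Scheme.{u}} (v : Y₁ ⟶ Y)
    [UniversallyClosed v] [Surjective v] (f : X ⟶ Y) (x : X)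
    (h : ∀ x₁ : ↥(pullback f v), (pullback.fst f v).base x₁ = x → EGA43.IsUnivOpenAt (pullback.snd f v) x₁) :
    EGA43.IsUnivOpenAt f x := by
  intro Y' g p hp
  refine Groth.Agent.H46.OpenAt.isOpenAt_of_isClosedMap_surjective
    (
      IsPullback.of_hasPullback (pullback.snd f g) (pullback.snd v g))
    (pullback.snd v g).isClosedMap (pullback.snd v g).surjective p ?_
  intro r hr
  have sq := (IsPullback.of_hasPullback (pullback.snd f g) (pullback.snd v g)).flip.paste_vert
    (IsPullback.of_hasPullback f g).flip
  let φ := pullback.lift (f := f) (g := v)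
    (pullback.fst (pullback.snd f g) (pullback.snd v g) ≫ pullback.fst f g)
    (pullback.snd (pullback.snd f g) (pullback.snd v g) ≫ pullback.fst v g)
    (by rw [Category.assoc, Category.assoc, pullback.condition, pullback.condition,
      pullback.condition_assoc])
  have sq' : IsPullback φ (pullback.snd (pullback.snd f g) (pullback.snd v g)) (pullback.snd f v)
      (pullback.fst v g) := by
    refine IsPullback.of_right ?_ (pullback.lift_snd _ _ _) (IsPullback.of_hasPullback f v)
    rw [pullback.lift_fst, pullback.condition]
    exact sq.flip
  refine Groth.Agent.H46.OpenAt.isOpenAt_of_isPullback (h (φ r) ?_) sq' r rfl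
  rw [← Scheme.Hom.comp_apply, pullback.lift_fst, Scheme.Hom.comp_apply, hr, hp]

end Groth.Agent.S4942
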