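import Groth.Statements.S3409
import Groth.Agent.H46.NilRed
import Groth.Agent.H46.DimData
import Groth.Agent.H46.UnibranchEquidim

set_option autoImplicit false
open CategoryTheory AlgebraicGeometry
universe u
open EGA43
open Groth.Agent.H46.FibreTrdeg Groth.Agent.H46.DimData Groth.Agent.Lib.Cyc

namespace Groth.Agent.S3409

/-- Let Y be locally Noetherian, f : X ⟶ Y locally of finite type, x a point of X and y = f x. Suppose f
is universally open at the generic point of every irreducible component of X_y through x, X_y is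
geometrically reduced at x, and all irreducible components of X_y passing through x have the same
dimension. Then f is equidimensional at x. -/
theorem result {X Y : Scheme.{u}} [IsLocallyNoetherian Y] (f : X ⟶ Y)
    [LocallyOfFiniteType f] (x : X)
    (hopen : ∀ z : ↥(f.fiber (f.base x)), f.asFiber x ∈ closure {z} →
      (∀ z' : ↥(f.fiber (f.base x)), z ∈ closure {z'} → z' = z) →
      EGA43.IsUnivOpenAt f ((f.fiberι (f.base x)).base z))
    (hred : FBase.IsGeomReducedAt (f.fiberToSpecResidueField (f.base x)) (f.asFiber x))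
    (heq : ∃ e : ℕ, ∀ Z ∈ irreducibleComponents (↥(f.fiber (f.base x)) : Type u), f.asFiber x ∈ Z →
      topologicalKrullDim (↥Z : Type u) = e) :
    EGA43.IsEquidimAt f x := by
  haveI : IsLocallyNoetherian X := LocallyOfFiniteType.isLocallyNoetherian f
  have hopen' := (Groth.Agent.H46.UnibranchEquidim.maxFib_iff f x
    fun a => EGA43.IsUnivOpenAt f a).1 hopen
  have hgr := (Groth.Agent.H46.GRAt.grAt_iff f x).2 hred
  obtain ⟨e, he⟩ := heq
  have hmaxtrd : ∀ ζ, f ζ = f x → ζ ⤳ x → IsMaxFib f ζ → trd f ζ = e := by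
    intro ζ hζ hs hmax
    obtain ⟨z, hz⟩ := FieldDim.exists_fiberι_eq f ζ (f x) hζ
    have hzmax : DimFun.IsMaxPt z := (FieldDim.isMaxFib_iff f (f x) z).1 (hz.symm ▸ hmax)
    have hzx : z ⤳ f.asFiber x := by
      rw [FieldDim.fiber_specializes_iff, f.fiberι_asFiber, hz]; exact hs
    have h1 := he _ (FieldDim.closure_mem_irreducibleComponents z hzmax)
      (specializes_iff_mem_closure.1 hzx)
    rw [FieldDim.topologicalKrullDim_closure (K := Y.residueField (f x))
      (f.fiberToSpecResidueField (f x)) z, fdelta_fiber, Int.toNat_natCast, hz] at h1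
    exact_mod_cast h1
  have hfe : fe f x = e := by
    obtain ⟨ζ, h1, h2, h3, h4⟩ := exists_fe_eq f x
    rw [← h4, hmaxtrd ζ h1 h2 h3]
  refine isEquidimAt_of_components f x fun ξ hξ hs => ⟨?_, le_antisymm (trd_le_fe f hs) ?_⟩
  · obtain ⟨U, hxU, hU, -⟩ := Groth.Agent.H46.NilRed.exists_nhd f x hopen' hgr
    intro y' hy
    obtain ⟨x', hx', rfl⟩ := Groth.Agent.H46.Lift.exists_generization f ξ y' hy fun O hO => by
      have hop := (U.ι ≫ f).isOpenMap (U.ι ⁻¹' (O : Set X)) (O.2.preimage U.ι.continuous)
      obtain ⟨u, hu, h⟩ := hy.mem_open hop ⟨(⟨ξ, hs.mem_open U.2 hxU⟩ : (U : Scheme.{u})), hO, rfl⟩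
      exact ⟨U.ι u, hu, h⟩
    rw [hξ x' hx']
  · obtain ⟨T, g, hgc, hgs, hT⟩ := Groth.Agent.H46.NilRed.exists_red Y
    let a := Limits.pullback.fst f g
    let f' := Limits.pullback.snd f g
    have sq : IsPullback a f' f g := IsPullback.of_hasPullback f g
    haveI : IsClosedImmersion a := inferInstanceAs (IsClosedImmersion (Limits.pullback.fst f g))
    haveI : Surjective a := inferInstanceAs (Surjective (Limits.pullback.fst f g))
    haveI : IsLocallyNoetherian T := LocallyOfFiniteType.isLocallyNoetherian g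
    haveI : LocallyOfFiniteType f' := inferInstanceAs (LocallyOfFiniteType (Limits.pullback.snd f g))
    have hf : ∀ w, g (f' w) = f (a w) := fun w => by
      rw [← Scheme.Hom.comp_apply, ← sq.w, Scheme.Hom.comp_apply]
    have htrd : ∀ w, trd f' w = trd f (a w) := fun w => by
      rw [← trd_comp f a w, trd, trd, FieldDim.trdegAt_congr sq.w w, Residue.trdegAt_comp,
        FieldDim.trdegAt_eq_zero_of_surjective (f := g) _
          (FieldDim.residueFieldMap_surjective (f := g) _), zero_add]
    obtain ⟨x', rfl⟩ := a.surjective x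
    obtain ⟨ξ', rfl⟩ := a.surjective ξ
    obtain ⟨ζ, hζ, hζx, hζmax, hξζ, hle⟩ :=
      Groth.Agent.H46.FlatUnivOpen.exists_maxFib_between f' x'
        (fun ζ hζ hs' hmax => Groth.Agent.H46.OpenAt.isUnivOpenAt_baseChange (hopen' (a ζ)
          (by rw [← hf, ← hf, hζ]) (hs'.map a.continuous)
          ((Groth.Agent.H46.NilRed.isMaxFib_of_isPullback sq a.surjective ζ).1 hmax)) sq ζ rfl)
        ((Groth.Agent.H46.GRAt.grAt_iff f' x').1 (Groth.Agent.H46.GRAt.baseChange sq x' hgr))
        inferInstance ξ' (fun v hv => a.isEmbedding.injective (hξ _ (hv.map a.continuous)))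
        (a.isEmbedding.isInducing.specializes_iff.1 hs)
    rw [htrd, htrd] at hle
    rw [hfe, ← hmaxtrd (a ζ) (by rw [← hf, ← hf, hζ]) (hζx.map a.continuous)
      ((Groth.Agent.H46.NilRed.isMaxFib_of_isPullback sq a.surjective ζ).1 hζmax)]
    exact hle

end Groth.Agent.S3409
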