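import Groth.Statements.S1735
import Mathlib.RingTheory.Filtration
import Mathlib.RingTheory.KrullDimension.Basic
import Mathlib.RingTheory.AdicCompletion.Basic
import Groth.Agent.Lib.LCFin.Finite

set_option autoImplicit false
universe u
open LocCoh

namespace Groth.Agent.S1735

theorem chevalley {A : Type u} [CommRing A] [IsLocalRing A] [IsNoetherianRing A]
    [IsAdicComplete (IsLocalRing.maximalIdeal A) A] (J : ℕ → Ideal A) (hJ : Antitone J) (h0 : ⨅ n, J n = ⊥) (c : ℕ) :
    ∃ N, J N ≤ IsLocalRing.maximalIdeal A ^ c := by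
  classical
  set m := IsLocalRing.maximalIdeal A
  have stab : ∀ c, ∃ N, ∀ n, N ≤ n → J N ⊔ m ^ c = J n ⊔ m ^ c := by
    intro c
    haveI : IsArtinian A (A ⧸ m ^ c) :=
      (isFiniteLength_iff_isNoetherian_isArtinian.1 (Groth.Agent.Lib.InjHull.Complete.isFiniteLength_quotient_pow (R := A) m c)).2
    let f : ℕ →o (Submodule A (A ⧸ m ^ c))ᵒᵈ :=
      ⟨fun n => OrderDual.toDual (Submodule.map (m ^ c).mkQ (J n)), fun a b hab => Submodule.map_mono (hJ hab)⟩
    obtain ⟨N, hN⟩ := IsArtinian.monotone_stabilizes f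
    refine ⟨N, fun n hn => ?_⟩
    have h : Submodule.map (m ^ c).mkQ (J N) = Submodule.map (m ^ c).mkQ (J n) := hN n hn
    replace h := congrArg (Submodule.comap (m ^ c).mkQ) h
    rw [Submodule.comap_map_mkQ, Submodule.comap_map_mkQ] at h
    rw [sup_comm, h, sup_comm]
  choose N hN using stab
  refine ⟨N c, fun x hx => ?_⟩
  have step : ∀ k, ∀ x ∈ J (N k) ⊔ m ^ k, ∃ y ∈ J (N (k + 1)) ⊔ m ^ (k + 1), x - y ∈ m ^ k := by
    intro k x hx
    rw [hN k (max (N k) (N (k + 1))) (le_max_left _ _)] at hx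
    obtain ⟨y, hy, z, hz, rfl⟩ := Submodule.mem_sup.1 hx
    exact ⟨y, Submodule.mem_sup_left (hJ (le_max_right _ _) hy), by simpa using hz⟩
  choose g hg hg' using step
  let s : ∀ k, ↥(J (N (c + k)) ⊔ m ^ (c + k)) := fun k => Nat.rec (motive := fun k => ↥(J (N (c + k)) ⊔ m ^ (c + k)))
    ⟨x, Submodule.mem_sup_left hx⟩ (fun k y => ⟨g (c + k) y y.2, hg (c + k) y y.2⟩) k
  have hs : ∀ k, (s k : A) - s (k + 1) ∈ m ^ (c + k) := fun k => hg' (c + k) _ (s k).2
  have hs' : ∀ {a b}, a ≤ b → (s a : A) - s b ∈ m ^ (c + a) := by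
    intro a b hab
    induction b, hab using Nat.le_induction with
    | base => rw [sub_self]; exact zero_mem _
    | succ b hab ih =>
      have := add_mem ih (Ideal.pow_le_pow_right (by omega : c + a ≤ c + b) (hs b))
      simpa using this
  obtain ⟨L, hL⟩ := IsPrecomplete.prec' (I := m) (M := A) (fun k => (s k : A)) (fun {a b} hab => by
    rw [SModEq.sub_mem, smul_eq_mul, Ideal.mul_top]
    exact Ideal.pow_le_pow_right (by omega) (hs' hab))
  have hL' : ∀ k, (s k : A) - L ∈ m ^ (c + k) := fun k => by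
    have h1 := hL (c + k)
    rw [SModEq.sub_mem, smul_eq_mul, Ideal.mul_top] at h1
    have := add_mem (hs' (Nat.le_add_left k c)) h1
    simpa using this
  have hLJ : ∀ n, L ∈ J n := by
    intro n
    have hmem : ∀ k, Ideal.Quotient.mk (J n) L ∈ (m.map (Ideal.Quotient.mk (J n))) ^ k := by
      intro k
      have h1 : L ∈ J n ⊔ m ^ (c + k) := by
        have h2 : (s k : A) ∈ J n ⊔ m ^ (c + k) := by
          have h3 := (hN (c + k) (max (N (c + k)) n) (le_max_left _ _)).le (s k).2
          exact sup_le_sup_right (hJ (le_max_right _ _)) _ h3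
        simpa using sub_mem h2 (Submodule.mem_sup_right (hL' k))
      obtain ⟨a, ha, b, hb, hab⟩ := Submodule.mem_sup.1 h1
      rw [← Ideal.map_pow, ← hab, map_add, Ideal.Quotient.eq_zero_iff_mem.2 ha, zero_add]
      exact Ideal.mem_map_of_mem _ (Ideal.pow_le_pow_right (by omega) hb)
    by_cases htop : J n = ⊤
    · rw [htop]; trivial
    haveI : Nontrivial (A ⧸ J n) := Ideal.Quotient.nontrivial_iff.2 htop
    haveI := IsLocalRing.of_surjective' _ (Ideal.Quotient.mk_surjective (I := J n))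
    have hne : m.map (Ideal.Quotient.mk (J n)) ≠ ⊤ :=
      (Ideal.IsMaximal.map_of_surjective_of_ker_le (f := Ideal.Quotient.mk (J n)) (m := m)
        Ideal.Quotient.mk_surjective (by rw [Ideal.mk_ker]; exact IsLocalRing.le_maximalIdeal htop)).ne_top
    have h2 := Ideal.iInf_pow_eq_bot_of_isLocalRing _ hne
    have h3 : Ideal.Quotient.mk (J n) L ∈ (⊥ : Ideal (A ⧸ J n)) := h2 ▸ Submodule.mem_iInf _ |>.2 hmem
    exact Ideal.Quotient.eq_zero_iff_mem.1 h3
  have hL0 : L = 0 := by rw [← Ideal.mem_bot, ← h0]; exact Submodule.mem_iInf _ |>.2 hLJ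
  have h1 := hL' 0
  rw [hL0, sub_zero] at h1
  simpa [s] using h1

/-- Let A be a complete Noetherian local domain and p a prime ideal with dim(A/p) = 1. For every n ≥ 1
there is m ≥ n such that the m-th symbolic power of p (the contraction of p^m A_p to A) is contained
in p^n. -/
theorem result (A : Type u) [CommRing A] [IsDomain A] [IsLocalRing A] [IsNoetherianRing A] [IsAdicComplete (IsLocalRing.maximalIdeal A) A] (p : Ideal A) [p.IsPrime] (hp : ringKrullDim (A ⧸ p) = 1) (n : ℕ) (hn : 1 ≤ n) : ∃ m : ℕ, n ≤ m ∧ ((Ideal.map (algebraMap A (Localization.AtPrime p)) p) ^ m).comap (algebraMap A (Localization.AtPrime p)) ≤ p ^ n := by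
  classical
  set Ap := Localization.AtPrime p
  set m := IsLocalRing.maximalIdeal A
  let S : ℕ → Ideal A := fun k => ((p.map (algebraMap A Ap)) ^ k).comap (algebraMap A Ap)
  have hS : Antitone S := fun a b hab => Ideal.comap_mono (Ideal.pow_le_pow_right hab)
  haveI : IsNoetherianRing Ap := IsLocalization.isNoetherianRing p.primeCompl _ inferInstance
  have hS0 : ⨅ k, S k = ⊥ := by
    rw [← Ideal.comap_iInf, Localization.AtPrime.map_eq_maximalIdeal,
      Ideal.iInf_pow_eq_bot_of_isLocalRing _ (IsLocalRing.maximalIdeal.isMaximal Ap).ne_top,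
      Ideal.comap_bot_of_injective _ (IsLocalization.injective Ap p.primeCompl_le_nonZeroDivisors)]
  -- a power of the maximal ideal multiplies the symbolic power into the power
  obtain ⟨e, he⟩ : ∃ e, m ^ e * S n ≤ p ^ n := by
    let K : Ideal A := (p ^ n).colon (S n : Set A)
    have hK : ∀ a, a ∈ K ↔ ∀ x ∈ S n, a * x ∈ p ^ n := fun a => Submodule.mem_colon
    have hpn : p ^ n ≤ K := fun a ha => (hK a).2 fun x _ => Ideal.mul_mem_right _ _ ha
    obtain ⟨s, hs, hsK⟩ : ∃ s, s ∉ p ∧ s ∈ K := by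
      obtain ⟨T, hT⟩ := IsNoetherian.noetherian (S n)
      have hx : ∀ x ∈ T, ∃ s ∈ p.primeCompl, s * x ∈ p ^ n := by
        intro x hx
        have : x ∈ S n := hT ▸ Submodule.subset_span hx
        replace this : algebraMap A Ap x ∈ (p.map (algebraMap A Ap)) ^ n := this
        rw [← Ideal.map_pow, IsLocalization.algebraMap_mem_map_algebraMap_iff p.primeCompl Ap] at this
        exact this
      choose s hs hsx using hx
      refine ⟨∏ x ∈ T.attach, s x.1 x.2, fun h => ?_, (hK _).2 fun x hx => ?_⟩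
      · obtain ⟨x, -, hx⟩ := Ideal.IsPrime.prod_mem_iff.1 h
        exact hs x.1 x.2 hx
      · rw [← hT] at hx
        induction hx using Submodule.span_induction with
        | mem x hx =>
          obtain ⟨r, hr⟩ : s x hx ∣ ∏ y ∈ T.attach, s y.1 y.2 := Finset.dvd_prod_of_mem (fun y : T => s y.1 y.2) (Finset.mem_attach T ⟨x, hx⟩)
          rw [hr, mul_comm (s x hx), mul_assoc]
          exact Ideal.mul_mem_left _ _ (hsx x hx)
        | zero => simp
        | add a b _ _ ha hb => rw [mul_add]; exact add_mem ha hb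
        | smul a b _ hb => rw [smul_eq_mul, mul_left_comm]; exact Ideal.mul_mem_left _ _ hb
    haveI : Ring.KrullDimLE 1 (A ⧸ p) := Ring.krullDimLE_iff.2 (by simp [hp])
    have hrad : m ≤ K.radical := by
      rw [Ideal.radical_eq_sInf]
      refine le_sInf fun Q ⟨hKQ, hQ⟩ => ?_
      have hpQ : p ≤ Q := hQ.le_of_pow_le (n := n) (hpn.trans hKQ)
      haveI := hQ
      haveI hQb : (Q.map (Ideal.Quotient.mk p)).IsPrime :=
        Ideal.map_isPrime_of_surjective Ideal.Quotient.mk_surjective (by rw [Ideal.mk_ker]; exact hpQ)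
      have hne : Q.map (Ideal.Quotient.mk p) ≠ ⊥ := fun h => hs (by
        have := Ideal.mem_map_of_mem (Ideal.Quotient.mk p) (hKQ hsK)
        rw [h, Ideal.mem_bot] at this
        exact Ideal.Quotient.eq_zero_iff_mem.1 this)
      have hmax : (Q.map (Ideal.Quotient.mk p)).IsMaximal :=
        Ring.krullDimLE_one_iff_of_noZeroDivisors.1 inferInstance _ hne hQb
      have : Q.IsMaximal := by
        rw [show Q = (Q.map (Ideal.Quotient.mk p)).comap (Ideal.Quotient.mk p) by
          rw [Ideal.comap_map_of_surjective _ Ideal.Quotient.mk_surjective, ← RingHom.ker_eq_comap_bot, Ideal.mk_ker,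
            sup_eq_left.2 hpQ]]
        exact Ideal.comap_isMaximal_of_surjective _ Ideal.Quotient.mk_surjective
      exact (IsLocalRing.eq_maximalIdeal this).ge
    obtain ⟨e, he⟩ := Ideal.exists_pow_le_of_le_radical_of_fg hrad (IsNoetherian.noetherian _)
    exact ⟨e, Ideal.mul_le.2 fun a ha x hx => (hK a).1 (he ha) x hx⟩
  -- Artin–Rees
  obtain ⟨k, hk⟩ := m.exists_pow_inf_eq_pow_smul (M := A) (S n)
  obtain ⟨N, hN⟩ := chevalley S hS hS0 (k + e)
  refine ⟨max n N, le_max_left _ _, fun x hx => ?_⟩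
  have h1 : x ∈ m ^ (k + e) • (⊤ : Submodule A A) ⊓ S n :=
    ⟨by rw [smul_eq_mul, Ideal.mul_top]; exact hN (hS (le_max_right _ _) hx), hS (le_max_left _ _) hx⟩
  rw [hk (k + e) (Nat.le_add_right _ _), Nat.add_sub_cancel_left] at h1
  exact he (Submodule.smul_mono le_rfl inf_le_right h1)

end Groth.Agent.S1735
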