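import Groth.Statements.S4696
import Groth.Agent.Lib.Excellent.NormalFibres

set_option autoImplicit false
set_option linter.style.haveILetI false
universe u
open EGA4
open scoped TensorProduct nonZeroDivisors

namespace Groth.Agent.S4696

open Groth.Agent.Lib.Excellent in
theorem isNormalRing_aux (A B C : Type u) [CommRing A] [CommRing B] [CommRing C] [IsNoetherianRing B]
    [IsNoetherianRing C] [Algebra A B] [Algebra B C] [Algebra A C] [IsScalarTower A B C] [Module.Flat B C]
    (hBC : ∀ (L : Type u) [Field L] [Algebra B L], FormalFibre.IsFinPoint B L → EGA4.IsNormalRing (L ⊗[B] C))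
    (R0 : Type u) [CommRing R0] [IsDomain R0] [Algebra A R0] [Module.Finite A R0]
    (K : Type u) [Field K] [Algebra A K] [Algebra R0 K] [IsScalarTower A R0 K] [IsFractionRing R0 K]
    (h : EGA4.IsNormalRing (K ⊗[A] B)) : EGA4.IsNormalRing (K ⊗[A] C) := by
  let B1 := B ⊗[A] R0
  haveI : IsNoetherianRing B1 := IsNoetherianRing.of_finite B B1
  let C1 := B1 ⊗[B] C
  haveI : IsNoetherianRing (C ⊗[B] B1) := IsNoetherianRing.of_finite C (C ⊗[B] B1)
  haveI : IsNoetherianRing C1 :=
    isNoetherianRing_of_ringEquiv (C ⊗[B] B1) (Algebra.TensorProduct.comm B C B1).toRingEquiv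
  -- fibres of `C1` over `B1`
  have hfib : ∀ (P : Ideal B1) [P.IsPrime], EGA4.IsNormalRing (P.Fiber C1) := fun P _ => by
    haveI : Module.Finite B (B1 ⧸ P) :=
      Module.Finite.of_surjective (Ideal.Quotient.mkₐ B P).toLinearMap Ideal.Quotient.mk_surjective
    haveI : IsDomain (B1 ⧸ P) := Ideal.Quotient.isDomain P
    exact NormalFibres.isoInvariant_isNormalRing _ _
      (Algebra.TensorProduct.cancelBaseChange B B1 P.ResidueField P.ResidueField C).symm.toRingEquiv
      (hBC _ (FormalFibre.isFinPoint_of_domain (B1 ⧸ P) _))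
  -- `K ⊗ B` and `K ⊗ C` as localizations
  let M := Algebra.algebraMapSubmonoid (R0 ⊗[A] B) R0⁰
  letI : Algebra (R0 ⊗[A] B) (K ⊗[A] B) :=
    (Algebra.TensorProduct.map (IsScalarTower.toAlgHom A R0 K) (AlgHom.id A B)).toRingHom.toAlgebra
  haveI : IsScalarTower R0 (R0 ⊗[A] B) (K ⊗[A] B) := .of_algebraMap_eq fun x => by
    simp [RingHom.algebraMap_toAlgebra]
  haveI := IsLocalization.tensorProduct_tensorProduct A B R0⁰ K
    (by ext; simp [RingHom.algebraMap_toAlgebra])
  letI : Algebra (R0 ⊗[A] C) (K ⊗[A] C) :=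
    (Algebra.TensorProduct.map (IsScalarTower.toAlgHom A R0 K) (AlgHom.id A C)).toRingHom.toAlgebra
  haveI : IsScalarTower R0 (R0 ⊗[A] C) (K ⊗[A] C) := .of_algebraMap_eq fun x => by
    simp [RingHom.algebraMap_toAlgebra]
  haveI := IsLocalization.tensorProduct_tensorProduct A C R0⁰ K
    (by ext; simp [RingHom.algebraMap_toAlgebra])
  let eB : B1 ≃ₐ[A] R0 ⊗[A] B := (Algebra.TensorProduct.comm A B R0)
  let eC : C1 ≃+* R0 ⊗[A] C :=
    (Algebra.TensorProduct.comm B B1 C).toRingEquiv.trans
      ((Algebra.TensorProduct.cancelBaseChange A B C C R0).toRingEquiv.trans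
        (Algebra.TensorProduct.comm A C R0).toRingEquiv)
  intro Q _
  refine (FormalFibre.forall_localization_iff (Algebra.algebraMapSubmonoid (R0 ⊗[A] C) R0⁰)
    NormalRing.isoInvariant_domainIntClosed).2 (fun q _ hd => ?_) Q
  let q1 := q.comap eC.toRingHom
  haveI : q1.IsPrime := Ideal.IsPrime.comap _
  refine NormalRing.isoInvariant_domainIntClosed (Localization.AtPrime q1) (Localization.AtPrime q)
    (Localization.localRingEquiv q1 q eC rfl) ?_
  refine NormalFibres.normal_atPrime B1 C1 q1 _ rfl ?_ fun p' _ _ => hfib p'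
  -- the localization of `B1` below is one of `K ⊗ B`
  let p1 := q1.comap (algebraMap B1 C1)
  let p2 := p1.comap eB.symm.toRingEquiv.toRingHom
  haveI : p2.IsPrime := Ideal.IsPrime.comap _
  refine NormalRing.isoInvariant_domainIntClosed (Localization.AtPrime p2) (Localization.AtPrime p1)
    (Localization.localRingEquiv p2 p1 eB.symm.toRingEquiv rfl) ?_
  refine (FormalFibre.forall_localization_iff (Algebra.algebraMapSubmonoid (R0 ⊗[A] B) R0⁰)
    NormalRing.isoInvariant_domainIntClosed).1 h p2 ?_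
  rw [Set.disjoint_left]
  rintro _ ⟨x, hx, rfl⟩ hxp
  refine Set.disjoint_left.1 hd ⟨x, hx, rfl⟩ ?_
  have key : eC (algebraMap B1 C1 (eB.symm (algebraMap R0 (R0 ⊗[A] B) x))) =
      algebraMap R0 (R0 ⊗[A] C) x := by
    simp [eB, eC, C1, B1, Algebra.TensorProduct.algebraMap_apply, Algebra.TensorProduct.one_def]
  rw [← key]
  exact hxp

open Groth.Agent.Lib.Excellent in
theorem isNormalRing_finPoint (A B C : Type u) [CommRing A] [CommRing B] [CommRing C] [IsNoetherianRing B]
    [IsNoetherianRing C] [Algebra A B] [Algebra B C] [Algebra A C] [IsScalarTower A B C] [Module.Flat B C]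
    (hBC : ∀ (L : Type u) [Field L] [Algebra B L], FormalFibre.IsFinPoint B L → EGA4.IsNormalRing (L ⊗[B] C))
    (K : Type u) [Field K] [Algebra A K] (hK : FormalFibre.IsFinPoint A K)
    (h : EGA4.IsNormalRing (K ⊗[A] B)) : EGA4.IsNormalRing (K ⊗[A] C) := by
  obtain ⟨B0, hB0, hfr⟩ := hK
  exact isNormalRing_aux A B C hBC B0 K h

/-- Case of normal morphisms, affine form: let A → B → C be homomorphisms of Noetherian rings. If A → B
and B → C are normal (flat, with geometrically normal fibres) then the composite A → C is normal. -/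
theorem result (A B C : Type u) [CommRing A] [CommRing B] [CommRing C] [IsNoetherianRing A]
    [IsNoetherianRing B] [IsNoetherianRing C] [Algebra A B] [Algebra B C] [Algebra A C] [IsScalarTower A B C]
    (hAB : EGA4.IsNormalHom A B) (hBC : EGA4.IsNormalHom B C) : EGA4.IsNormalHom A C := by
  obtain ⟨hfAB, hgAB⟩ := hAB
  obtain ⟨hfBC, hgBC⟩ := hBC
  haveI := hfAB
  haveI := hfBC
  have hAB' := (Groth.Agent.Lib.Excellent.FormalFibre.forall_fibre_iff
    (P := fun R [CommRing R] => EGA4.IsNormalRing R)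
    Groth.Agent.Lib.Excellent.NormalFibres.isoInvariant_isNormalRing B).1 hgAB
  have hBC' := (Groth.Agent.Lib.Excellent.FormalFibre.forall_fibre_iff
    (P := fun R [CommRing R] => EGA4.IsNormalRing R)
    Groth.Agent.Lib.Excellent.NormalFibres.isoInvariant_isNormalRing C).1 hgBC
  refine ⟨Module.Flat.trans A B C, (Groth.Agent.Lib.Excellent.FormalFibre.forall_fibre_iff
    (P := fun R [CommRing R] => EGA4.IsNormalRing R)
    Groth.Agent.Lib.Excellent.NormalFibres.isoInvariant_isNormalRing C).2 fun K _ _ hK => ?_⟩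
  exact isNormalRing_finPoint A B C hBC' K hK (hAB' K hK)

end Groth.Agent.S4696
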