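import Groth.Statements.S4706
import Groth.Agent.Lib.EGA75.Reduction
import Groth.Agent.S4696
import Groth.Agent.H2.Rigid.FieldBC

set_option autoImplicit false
set_option linter.style.haveILetI false
universe u
open EGA4

namespace Groth.Agent.S4706

/-- Let A → A' be a local homomorphism of Noetherian local rings which is normal (flat, with
geometrically normal fibres). If the completion map of A' is regular (the formal fibres of A' are
geometrically regular), then the formal fibres of A are geometrically normal. -/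
theorem result (A A' : Type u) [CommRing A] [CommRing A']
    [IsNoetherianRing A] [IsNoetherianRing A'] [IsLocalRing A] [IsLocalRing A'] [Algebra A A']
    [IsLocalHom (algebraMap A A')] (hf : EGA4.IsNormalHom A A') (hA' : CAlg.IsRegularHom A' (EGA4.Cpl A')) :
    EGA4.HasGeomNormalFormalFibres A := by
  haveI := hf.1
  haveI : Module.Flat A' (EGA4.Cpl A') := inferInstance
  obtain ⟨ψ, hψ⟩ := Groth.Agent.Lib.Unram.SmoothCompletion.exists_map (A := A) (B := A')
  letI := ψ.toAlgebra
  haveI hst : IsScalarTower A (EGA4.Cpl A) (EGA4.Cpl A') :=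
    IsScalarTower.of_algebraMap_eq' (by
      rw [IsScalarTower.algebraMap_eq A A' (EGA4.Cpl A')]
      exact hψ.symm)
  haveI : IsLocalHom (algebraMap (EGA4.Cpl A) (EGA4.Cpl A')) :=
    ((IsLocalRing.local_hom_TFAE _).out 0 2 rfl rfl).mpr (by
      rw [AdicCompletion.maximalIdeal_eq_map, AdicCompletion.maximalIdeal_eq_map, Ideal.map_map,
        ← IsScalarTower.algebraMap_eq A (EGA4.Cpl A), IsScalarTower.algebraMap_eq A A' (EGA4.Cpl A'),
        ← Ideal.map_map]
      exact Ideal.map_mono (IsLocalRing.map_maximalIdeal_le _))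
  haveI : Module.Flat (EGA4.Cpl A) (EGA4.Cpl A') := Groth.Agent.H24.CompletionFlat.flat_completion A A'
  haveI : Module.FaithfullyFlat (EGA4.Cpl A) (EGA4.Cpl A') := Module.FaithfullyFlat.of_flat_of_isLocalHom
  refine (Groth.Agent.Lib.Excellent.FormalFibre.forall_fibre_iff
    (P := fun R [CommRing R] => EGA4.IsNormalRing R)
    Groth.Agent.Lib.Excellent.Transport.isoInvariant_isNormalRing (EGA4.Cpl A)).2 fun K _ _ hK => ?_
  refine Groth.Agent.Lib.EGA75.Reduction.descend (Q := fun R [CommRing R] => EGA4.IsNormalRing R)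
    Groth.Agent.Lib.Excellent.Transport.isoInvariant_isNormalRing
    (fun R S _ _ _ _ _ _ hS => Groth.Agent.Lib.EGA75.Reduction.isNormalRing_descent R S hS)
    A (EGA4.Cpl A) (EGA4.Cpl A') K hK ?_
  refine Groth.Agent.S4696.isNormalRing_finPoint A A' (EGA4.Cpl A') (fun L _ _ hL => ?_) K hK
    ((Groth.Agent.Lib.Excellent.FormalFibre.forall_fibre_iff
      (P := fun R [CommRing R] => EGA4.IsNormalRing R)
      Groth.Agent.Lib.Excellent.Transport.isoInvariant_isNormalRing A').1 hf.2 K hK)
  haveI := (Groth.Agent.Lib.Excellent.FormalFibre.forall_fibre_iff (P := fun R [CommRing R] => IsRegularRing R)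
    Groth.Agent.Lib.Excellent.Transport.isoInvariant_isRegularRing (EGA4.Cpl A')).1
    (fun q _ => (hA'.2 q).2) L hL
  exact Groth.Agent.H2.Rigid.FieldBC.isNormalRing_of_isRegularRing _

end Groth.Agent.S4706
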