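import Groth.Statements.S1217
import Groth.Agent.Lib.FlatCA.FibreAss

set_option autoImplicit false
universe u
open FlatMor

namespace Groth.Agent.S1217

open TensorProduct

attribute [local instance] Algebra.TensorProduct.rightAlgebra

/-- Over a point `t` and a point `p'` in the same point there is a point of the fibre product. -/
theorem exists_prime_tensor {A A1 A' : Type u} [CommRing A] [CommRing A1] [CommRing A'] [Algebra A A1] [Algebra A A']
    (p : Ideal A) [p.IsPrime] (t : Ideal A1) [t.IsPrime] [t.LiesOver p] (p' : Ideal A') [p'.IsPrime] [p'.LiesOver p] :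
    ∃ (T : Ideal (A1 ⊗[A] A')) (_ : T.IsPrime), T.LiesOver t ∧ T.LiesOver p' := by
  let φ : p.ResidueField →ₐ[A] t.ResidueField :=
    Ideal.ResidueField.mapₐ p t (Algebra.ofId A A1) (Ideal.LiesOver.over (p := p) (P := t))
  let ψ : p.ResidueField →ₐ[A] p'.ResidueField :=
    Ideal.ResidueField.mapₐ p p' (Algebra.ofId A A') (Ideal.LiesOver.over (p := p) (P := p'))
  letI := φ.toRingHom.toAlgebra
  letI := ψ.toRingHom.toAlgebra
  haveI : IsScalarTower A p.ResidueField t.ResidueField :=
    IsScalarTower.of_algebraMap_eq fun a => (φ.commutes a).symm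
  haveI : IsScalarTower A p.ResidueField p'.ResidueField :=
    IsScalarTower.of_algebraMap_eq fun a => (ψ.commutes a).symm
  let K := t.ResidueField ⊗[p.ResidueField] p'.ResidueField
  obtain ⟨m, hm⟩ := Ideal.exists_maximal K
  let ι₁ : t.ResidueField →+* K := Algebra.TensorProduct.includeLeftRingHom
  let ι₂ : p'.ResidueField →+* K :=
    (Algebra.TensorProduct.includeRight (R := p.ResidueField) (A := t.ResidueField) (B := p'.ResidueField)).toRingHom
  let f₁ : A1 →ₐ[A] K :=
    { toRingHom := ι₁.comp (algebraMap A1 t.ResidueField)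
      commutes' := fun a => by
        show ι₁ (algebraMap A1 t.ResidueField (algebraMap A A1 a)) = ι₁ (algebraMap A t.ResidueField a)
        rw [← IsScalarTower.algebraMap_apply] }
  let f₂ : A' →ₐ[A] K :=
    { toRingHom := ι₂.comp (algebraMap A' p'.ResidueField)
      commutes' := fun a => by
        show ι₂ (algebraMap A' p'.ResidueField (algebraMap A A' a)) = ι₁ (algebraMap A t.ResidueField a)
        rw [← IsScalarTower.algebraMap_apply, IsScalarTower.algebraMap_apply A p.ResidueField p'.ResidueField,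
          IsScalarTower.algebraMap_apply A p.ResidueField t.ResidueField]
        exact AlgHom.commutes (Algebra.TensorProduct.includeRight (R := p.ResidueField) (A := t.ResidueField)
          (B := p'.ResidueField)) _ }
  let χ : A1 ⊗[A] A' →ₐ[A] K := Algebra.TensorProduct.lift f₁ f₂ fun _ _ => Commute.all _ _
  refine ⟨m.comap χ.toRingHom, inferInstance, ⟨?_⟩, ⟨?_⟩⟩
  · ext a
    rw [Ideal.mem_comap, Ideal.mem_comap]
    have h : χ.toRingHom (algebraMap A1 (A1 ⊗[A] A') a) = ι₁ (algebraMap A1 t.ResidueField a) := by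
      show χ (a ⊗ₜ[A] (1 : A')) = _
      rw [Algebra.TensorProduct.lift_tmul, map_one, mul_one]
      rfl
    rw [h, ← Ideal.algebraMap_residueField_eq_zero (I := t)]
    refine ⟨fun h0 => by rw [h0, map_zero]; exact zero_mem _, fun hmem => ?_⟩
    by_contra hne
    exact hm.ne_top (Ideal.eq_top_of_isUnit_mem _ hmem ((isUnit_iff_ne_zero.2 hne).map ι₁))
  · ext a
    rw [Ideal.mem_comap, Ideal.mem_comap]
    have h : χ.toRingHom (algebraMap A' (A1 ⊗[A] A') a) = ι₂ (algebraMap A' p'.ResidueField a) := by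
      show χ ((1 : A1) ⊗ₜ[A] a) = _
      rw [Algebra.TensorProduct.lift_tmul, map_one, one_mul]
      rfl
    rw [h, ← Ideal.algebraMap_residueField_eq_zero (I := p')]
    refine ⟨fun h0 => by rw [h0, map_zero]; exact zero_mem _, fun hmem => ?_⟩
    by_contra hne
    exact hm.ne_top (Ideal.eq_top_of_isUnit_mem _ hmem ((isUnit_iff_ne_zero.2 hne).map ι₂))

/-- A point of the fibre product at which the second factor is flat over the base is flat over the first factor. -/
theorem flat_localization_tensor {A A1 A' : Type u} [CommRing A] [CommRing A1] [CommRing A'] [Algebra A A1] [Algebra A A']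
    (T : Ideal (A1 ⊗[A] A')) [T.IsPrime] (p' : Ideal A') [p'.IsPrime] [T.LiesOver p']
    [Module.Flat A (Localization.AtPrime p')] : Module.Flat A1 (Localization.AtPrime T) := by
  let Lp := Localization.AtPrime p'
  let L := Localization.AtPrime T
  let D := A1 ⊗[A] Lp
  let ι : A1 ⊗[A] A' →ₐ[A1] D := Algebra.TensorProduct.map (AlgHom.id A1 A1) (IsScalarTower.toAlgHom A A' Lp)
  let M : Submonoid D := T.primeCompl.map ι.toRingHom
  let D' := Localization M
  let l : Lp →ₐ[A] L := IsLocalization.liftAlgHom (M := p'.primeCompl)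
    (f := (IsScalarTower.toAlgHom A (A1 ⊗[A] A') L).comp Algebra.TensorProduct.includeRight) fun s => by
      show IsUnit (algebraMap (A1 ⊗[A] A') L ((1 : A1) ⊗ₜ[A] (s : A')))
      refine IsLocalization.map_units (M := T.primeCompl) L ⟨_, fun hc => s.2 ?_⟩
      exact (Ideal.ext_iff.1 (Ideal.LiesOver.over (p := p') (P := T)) (s : A')).2 hc
  let ψ : D →ₐ[A1] L := Algebra.TensorProduct.lift (Algebra.ofId A1 L) l fun _ _ => Commute.all _ _
  have hψ : ∀ x, ψ (ι x) = algebraMap (A1 ⊗[A] A') L x := fun x => by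
    induction x using TensorProduct.induction_on with
    | zero => rw [map_zero, map_zero, map_zero]
    | add a b ha hb => rw [map_add, map_add, map_add, ha, hb]
    | tmul a b =>
      show ψ (a ⊗ₜ[A] algebraMap A' Lp b) = _
      rw [Algebra.TensorProduct.lift_tmul,
        show l (algebraMap A' Lp b) = algebraMap (A1 ⊗[A] A') L ((1 : A1) ⊗ₜ[A] b) from IsLocalization.lift_eq _ b]
      show algebraMap A1 L a * algebraMap (A1 ⊗[A] A') L ((1 : A1) ⊗ₜ[A] b) = _
      rw [IsScalarTower.algebraMap_apply A1 (A1 ⊗[A] A') L, ← map_mul]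
      congr 1
      simp
  let r : D' →ₐ[A1] L := IsLocalization.liftAlgHom (A := A1) (R := D) (S := D') (P := L) (M := M) (f := ψ) fun y => by
    obtain ⟨_, z, hz, rfl⟩ := y
    show IsUnit (ψ (ι z))
    rw [hψ]
    exact IsLocalization.map_units (M := T.primeCompl) L ⟨z, hz⟩
  let s : L →ₐ[A1] D' := IsLocalization.liftAlgHom (A := A1) (R := A1 ⊗[A] A') (S := L) (P := D') (M := T.primeCompl)
    (f := (IsScalarTower.toAlgHom A1 D D').comp ι) fun z =>
      IsLocalization.map_units (M := M) D' ⟨ι z, z, z.2, rfl⟩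
  have hrs : r.comp s = AlgHom.id A1 L := IsLocalization.algHom_ext T.primeCompl (AlgHom.ext fun z => by
    show r (s (algebraMap (A1 ⊗[A] A') L z)) = algebraMap (A1 ⊗[A] A') L z
    rw [show s (algebraMap (A1 ⊗[A] A') L z) = algebraMap D D' (ι z) from IsLocalization.lift_eq _ z,
      show r (algebraMap D D' (ι z)) = ψ (ι z) from IsLocalization.lift_eq _ (ι z)]
    exact hψ z)
  haveI : Module.Flat A1 D' := Module.Flat.trans A1 D D'
  exact Module.Flat.of_retract (R := A1) (M := D') s.toLinearMap r.toLinearMap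
    (LinearMap.ext fun x => AlgHom.congr_fun hrs x)

/-- Trivial residue extension is stable under base change. -/
theorem surjective_residue {A A1 A' : Type u} [CommRing A] [CommRing A1] [CommRing A'] [Algebra A A1] [Algebra A A']
    (p : Ideal A) [p.IsPrime] (t : Ideal A1) [t.IsPrime] [t.LiesOver p] (p' : Ideal A') [p'.IsPrime] [p'.LiesOver p]
    (T : Ideal (A1 ⊗[A] A')) [T.IsPrime] [T.LiesOver t] [T.LiesOver p']
    (h : Function.Bijective (Ideal.ResidueField.mapₐ p t (Algebra.ofId A A1) (Ideal.LiesOver.over (p := p) (P := t)))) :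
    Function.Bijective (Ideal.ResidueField.mapₐ p' T (Algebra.ofId A' (A1 ⊗[A] A')) (Ideal.LiesOver.over (p := p') (P := T))) := by
  let μ := Ideal.ResidueField.mapₐ p' T (Algebra.ofId A' (A1 ⊗[A] A')) (Ideal.LiesOver.over (p := p') (P := T))
  let ν := Ideal.ResidueField.mapₐ t T (Algebra.ofId A1 (A1 ⊗[A] A')) (Ideal.LiesOver.over (p := t) (P := T))
  let φ := Ideal.ResidueField.mapₐ p t (Algebra.ofId A A1) (Ideal.LiesOver.over (p := p) (P := t))
  let ψ := Ideal.ResidueField.mapₐ p p' (Algebra.ofId A A') (Ideal.LiesOver.over (p := p) (P := p'))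
  have hcomm : ν.toRingHom.comp φ.toRingHom = μ.toRingHom.comp ψ.toRingHom := Ideal.ResidueField.ringHom_ext <|
    RingHom.ext fun a => by
      show ν (φ (algebraMap A p.ResidueField a)) = μ (ψ (algebraMap A p.ResidueField a))
      rw [φ.commutes, ψ.commutes, IsScalarTower.algebraMap_apply A A1 t.ResidueField,
        IsScalarTower.algebraMap_apply A A' p'.ResidueField, ν.commutes, μ.commutes,
        ← IsScalarTower.algebraMap_apply, ← IsScalarTower.algebraMap_apply]
  refine ⟨μ.toRingHom.injective, ?_⟩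
  have hmem : ∀ x : A1 ⊗[A] A', algebraMap (A1 ⊗[A] A') T.ResidueField x ∈ Set.range μ := fun x => by
    induction x using TensorProduct.induction_on with
    | zero => exact ⟨0, by rw [map_zero, map_zero]⟩
    | add a b ha hb =>
      obtain ⟨a', ha⟩ := ha
      obtain ⟨b', hb⟩ := hb
      exact ⟨a' + b', by rw [map_add, map_add, ha, hb]⟩
    | tmul a b =>
      obtain ⟨k, hk⟩ := h.2 (algebraMap A1 t.ResidueField a)
      refine ⟨ψ k * algebraMap A' p'.ResidueField b, ?_⟩
      have h1 : μ (ψ k) = algebraMap A1 T.ResidueField a := by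
        have h2 : ν (φ k) = μ (ψ k) := RingHom.congr_fun hcomm k
        rw [← h2, show φ k = algebraMap A1 t.ResidueField a from hk, ν.commutes]
      rw [map_mul, h1, μ.commutes, IsScalarTower.algebraMap_apply A1 (A1 ⊗[A] A') T.ResidueField,
        IsScalarTower.algebraMap_apply A' (A1 ⊗[A] A') T.ResidueField, ← map_mul]
      congr 1
      simp [Algebra.TensorProduct.right_algebraMap_apply]
  intro z
  obtain ⟨x, y, hy, rfl⟩ := IsFractionRing.div_surjective (A := (A1 ⊗[A] A') ⧸ T) z
  obtain ⟨x, rfl⟩ := Ideal.Quotient.mk_surjective x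
  obtain ⟨y, rfl⟩ := Ideal.Quotient.mk_surjective y
  obtain ⟨x', hx⟩ := hmem x
  obtain ⟨y', hy'⟩ := hmem y
  refine ⟨x' / y', ?_⟩
  rw [map_div₀, hx, hy', IsScalarTower.algebraMap_apply (A1 ⊗[A] A') ((A1 ⊗[A] A') ⧸ T) T.ResidueField x,
    IsScalarTower.algebraMap_apply (A1 ⊗[A] A') ((A1 ⊗[A] A') ⧸ T) T.ResidueField y, Ideal.Quotient.algebraMap_eq]

/-- A point of the relative assassin missing a fibre lifts to a flat base change. -/
theorem exists_missing_point {A1 B1 N1 A2 B2 N2 : Type u} [CommRing A1] [CommRing B1] [CommRing A2] [CommRing B2]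
    [Algebra A1 B1] [Algebra A1 A2] [Algebra B1 B2] [Algebra A2 B2] [Algebra A1 B2] [IsScalarTower A1 B1 B2]
    [IsScalarTower A1 A2 B2] [Algebra.FiniteType A2 B2]
    [AddCommGroup N1] [Module B1 N1] [AddCommGroup N2] [Module B2 N2] [Module B1 N2] [IsScalarTower B1 B2 N2]
    (hpo : Algebra.IsPushout A1 B1 A2 B2) (g : N1 →ₗ[B1] N2) (hg : IsBaseChange B2 g)
    (t' t : Ideal A1) [t'.IsPrime] (T' T : Ideal A2) [T'.IsPrime] [T'.LiesOver t'] [T.LiesOver t]
    (P : Ideal B1) [P.IsPrime] [P.LiesOver t']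
    (hass : _root_.FlatCA.fiberIdeal t' P ∈ associatedPrimes (t'.Fiber B1) (_root_.FlatCA.fiberMod t' B1 N1))
    (hno : ∀ (P' : Ideal B1) [P'.IsPrime], P ≤ P' → ¬P'.LiesOver t) :
    ∃ (P2 : Ideal B2) (_ : P2.IsPrime), P2.LiesOver T' ∧
      _root_.FlatCA.fiberIdeal T' P2 ∈ associatedPrimes (T'.Fiber B2) (_root_.FlatCA.fiberMod T' B2 N2) ∧
      ∀ (Q : Ideal B2) [Q.IsPrime], P2 ≤ Q → ¬ Q.LiesOver T := by
  obtain ⟨P2, hP2, hP2P, hP2t, hass2⟩ :=
    Lib.FlatCA.FibreAss.exists_assoc_over hpo g hg t' T' P hass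
  refine ⟨P2, hP2, hP2t, hass2, fun Q _ hQ hQT => ?_⟩
  refine hno (Q.comap (algebraMap B1 B2)) (hP2P.over.le.trans (Ideal.comap_mono hQ)) ⟨?_⟩
  show t = (Q.comap (algebraMap B1 B2)).comap (algebraMap A1 B1)
  rw [Ideal.comap_comap, ← IsScalarTower.algebraMap_eq, IsScalarTower.algebraMap_eq A1 A2 B2, ← Ideal.comap_comap]
  exact (Ideal.LiesOver.over (p := t) (P := T)).trans (congrArg (Ideal.comap (algebraMap A1 A2)) hQT.over)

/-- An impurity over `A1` gives one over a compatible base change. -/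
theorem hasImpurity_of_base_change {A' B' N' A1 B1 N1 A2 B2 N2 : Type u} [CommRing A'] [CommRing B'] [Algebra A' B']
    [AddCommGroup N'] [Module B' N'] [CommRing A1] [CommRing B1] [Algebra A1 B1] [AddCommGroup N1] [Module B1 N1]
    [CommRing A2] [CommRing B2] [Algebra A' A2] [Algebra A1 A2] [Algebra A2 B2] [Algebra B' B2] [Algebra B1 B2]
    [Algebra A' B2] [Algebra A1 B2] [IsScalarTower A' B' B2] [IsScalarTower A' A2 B2] [IsScalarTower A1 B1 B2]
    [IsScalarTower A1 A2 B2] [Algebra.FiniteType A2 B2]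
    [AddCommGroup N2] [Module B2 N2] [Module B' N2] [Module B1 N2] [IsScalarTower B' B2 N2] [IsScalarTower B1 B2 N2]
    (hpo2 : Algebra.IsPushout A' B' A2 B2) (g : N' →ₗ[B'] N2) (hg : IsBaseChange B2 g)
    (hpo12 : Algebra.IsPushout A1 B1 A2 B2) (g1 : N1 →ₗ[B1] N2) (hg1 : IsBaseChange B2 g1)
    (t' t : Ideal A1) [t'.IsPrime] (p' : Ideal A') [p'.IsPrime] (T' T : Ideal A2) [T'.IsPrime] [T.IsPrime] [T'.LiesOver t']
    [T.LiesOver t] (hTp' : T.LiesOver p') (hT'T : T' ≤ T)
    (P : Ideal B1) [P.IsPrime] [P.LiesOver t']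
    (hass : _root_.FlatCA.fiberIdeal t' P ∈ associatedPrimes (t'.Fiber B1) (_root_.FlatCA.fiberMod t' B1 N1))
    (hno : ∀ (P' : Ideal B1) [P'.IsPrime], P ≤ P' → ¬P'.LiesOver t)
    (Q : ∀ (A'' : Type u) [CommRing A''] [Algebra A' A''], Ideal A'' → Prop) (hQ : Q A2 T) :
    _root_.FlatCA.HasImpurity A' B' N' p' Q := by
  obtain ⟨P2, hP2, hP2t, hass2, hno2⟩ := exists_missing_point hpo12 g1 hg1 t' t T' T P hass hno
  letI : Module A2 N2 := Module.compHom N2 (algebraMap A2 B2)
  haveI : IsScalarTower A2 B2 N2 := IsScalarTower.of_algebraMap_smul fun _ _ => rfl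
  exact ⟨A2, B2, N2, inferInstance, inferInstance, inferInstance, inferInstance, inferInstance, inferInstance,
    inferInstance, inferInstance, inferInstance, inferInstance, inferInstance, inferInstance, inferInstance, inferInstance, g, T', T, inferInstance, inferInstance, P2, hP2,
    ⟨hpo2, hg, hT'T, hTp', hP2t, hass2, hno2⟩, hQ⟩

/-- An impurity over `A1` gives one over any `A'`-algebra under `A1` with lifted points. -/
theorem hasImpurity_of_point {A B : Type u} [CommRing A] [CommRing B] [Algebra A B] [Algebra.FiniteType A B]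
    {N : Type u} [AddCommGroup N] [Module B N]
    {A' B' N' : Type u} [CommRing A'] [CommRing B'] [Algebra A A'] [Algebra B B'] [Algebra A' B'] [Algebra A B']
    [IsScalarTower A B B'] [IsScalarTower A A' B'] [Algebra.IsPushout A B A' B']
    [AddCommGroup N'] [Module B' N'] [Module B N'] [IsScalarTower B B' N'] (f : N →ₗ[B] N') (hf : IsBaseChange B' f)
    {A1 B1 N1 : Type u} [CommRing A1] [CommRing B1] [Algebra A A1] [Algebra B B1] [Algebra A1 B1] [Algebra A B1]
    [IsScalarTower A B B1] [IsScalarTower A A1 B1] [AddCommGroup N1] [Module B1 N1] [Module B N1] [IsScalarTower B B1 N1]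
    (f1 : N →ₗ[B] N1) (hpo1 : Algebra.IsPushout A B A1 B1) (hf1 : IsBaseChange B1 f1)
    {A2 : Type u} [CommRing A2] [Algebra A A2] [Algebra A1 A2] [Algebra A' A2] [IsScalarTower A A1 A2] [IsScalarTower A A' A2]
    (t' t : Ideal A1) [t'.IsPrime] (p' : Ideal A') [p'.IsPrime] (T' T : Ideal A2) [T'.IsPrime] [T.IsPrime] [T'.LiesOver t']
    [T.LiesOver t] (hTp' : T.LiesOver p') (hT'T : T' ≤ T)
    (P : Ideal B1) [P.IsPrime] [P.LiesOver t']
    (hass : _root_.FlatCA.fiberIdeal t' P ∈ associatedPrimes (t'.Fiber B1) (_root_.FlatCA.fiberMod t' B1 N1))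
    (hno : ∀ (P' : Ideal B1) [P'.IsPrime], P ≤ P' → ¬P'.LiesOver t)
    (Q : ∀ (A'' : Type u) [CommRing A''] [Algebra A' A''], Ideal A'' → Prop) (hQ : Q A2 T) :
    _root_.FlatCA.HasImpurity A' B' N' p' Q := by
  let B2 := A2 ⊗[A'] B'
  let N2 := B2 ⊗[B'] N'
  letI : Algebra B B2 := ((algebraMap B' B2).comp (algebraMap B B')).toAlgebra
  haveI : IsScalarTower B B' B2 := IsScalarTower.of_algebraMap_eq fun _ => rfl
  haveI : IsScalarTower A A' B2 := IsScalarTower.of_algebraMap_eq fun a =>
    (IsScalarTower.algebraMap_apply A A2 B2 a).trans ((congrArg _ (IsScalarTower.algebraMap_apply A A' A2 a)).trans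
      (IsScalarTower.algebraMap_apply A' A2 B2 _).symm)
  haveI : IsScalarTower A B' B2 := IsScalarTower.of_algebraMap_eq fun a => by
    rw [IsScalarTower.algebraMap_apply A A' B2, IsScalarTower.algebraMap_apply A A' B',
      ← IsScalarTower.algebraMap_apply A' B' B2]
  haveI : IsScalarTower A B B2 := IsScalarTower.of_algebraMap_eq fun a => by
    rw [IsScalarTower.algebraMap_apply A B' B2, IsScalarTower.algebraMap_apply A B B',
      IsScalarTower.algebraMap_apply B B' B2]
  haveI : Algebra.IsPushout A A' B B' := Algebra.IsPushout.symm inferInstance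
  haveI hpo2 : Algebra.IsPushout A' B' A2 B2 := inferInstance
  haveI hpo02 : Algebra.IsPushout A A2 B B2 :=
    (Algebra.IsPushout.comp_iff A A' B B' (T := A2) (T' := B2)).2 hpo2.symm
  let fB : B →ₐ[A] B2 := IsScalarTower.toAlgHom A B B2
  let gA : A1 →ₐ[A] B2 := (IsScalarTower.toAlgHom A A2 B2).comp (IsScalarTower.toAlgHom A A1 A2)
  haveI : Algebra.IsPushout A B A1 B1 := hpo1
  letI : Algebra B1 B2 := (Algebra.pushoutDesc B1 fB gA fun _ _ => mul_comm _ _).toRingHom.toAlgebra
  haveI : IsScalarTower B B1 B2 := IsScalarTower.of_algebraMap_eq fun b =>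
    (Algebra.pushoutDesc_left B1 fB gA _ b).symm
  haveI : IsScalarTower A1 B1 B2 := IsScalarTower.of_algebraMap_eq fun a =>
    (IsScalarTower.algebraMap_apply A1 A2 B2 a).trans (Algebra.pushoutDesc_right B1 fB gA _ a).symm
  haveI : IsScalarTower A B1 B2 := IsScalarTower.of_algebraMap_eq fun a => by
    rw [IsScalarTower.algebraMap_apply A B B2, IsScalarTower.algebraMap_apply A B B1,
      ← IsScalarTower.algebraMap_apply B B1 B2]
  haveI : Algebra.IsPushout A A1 B B1 := Algebra.IsPushout.symm inferInstance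
  have hpo12 : Algebra.IsPushout A1 A2 B1 B2 :=
    (Algebra.IsPushout.comp_iff A A1 B B1 (T := A2) (T' := B2)).1 hpo02
  let g : N' →ₗ[B'] N2 := TensorProduct.mk B' B2 N' 1
  have hg : IsBaseChange B2 g := TensorProduct.isBaseChange B' N' B2
  let f2 : N →ₗ[B] N2 := (g.restrictScalars B).comp f
  have hf2 : IsBaseChange B2 f2 := IsBaseChange.comp hf hg
  let g1 : N1 →ₗ[B1] N2 := hf1.lift f2
  have hg1 : IsBaseChange B2 g1 := (IsBaseChange.comp_iff hf1).1 (by
    have : (g1.restrictScalars B).comp f1 = f2 := IsBaseChange.lift_comp hf1 f2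
    rwa [this])
  haveI : Algebra.FiniteType A2 B2 := by
    haveI : Algebra.FiniteType A' B' := Algebra.FiniteType.equiv inferInstance
      (Algebra.IsPushout.equiv A A' B B')
    infer_instance
  exact hasImpurity_of_base_change hpo2 g hg hpo12.symm g1 hg1 t' t p' T' T hTp' hT'T P hass hno Q hQ

/-- An impurity descends along a flat base change. -/
theorem impurity_baseChange {A B : Type u} [CommRing A] [CommRing B] [Algebra A B] [Algebra.FiniteType A B]
    (N : Type u) [AddCommGroup N] [Module B N] (p : Ideal A) [p.IsPrime]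
    (A' B' N' : Type u) [CommRing A'] [CommRing B'] [Algebra A A'] [Algebra B B'] [Algebra A' B'] [Algebra A B']
    [IsScalarTower A B B'] [IsScalarTower A A' B'] [Algebra.IsPushout A B A' B']
    [AddCommGroup N'] [Module B' N'] [Module B N'] [IsScalarTower B B' N'] (f : N →ₗ[B] N') (hf : IsBaseChange B' f)
    (p' : Ideal A') [p'.IsPrime] [p'.LiesOver p] [Module.Flat A (Localization.AtPrime p')]
    (A1 B1 N1 : Type u) [CommRing A1] [CommRing B1] [Algebra A A1] [Algebra B B1] [Algebra A1 B1] [Algebra A B1]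
    [IsScalarTower A B B1] [IsScalarTower A A1 B1] [AddCommGroup N1] [Module B1 N1] [Module B N1] [IsScalarTower B B1 N1]
    [Module A1 N1] [IsScalarTower A1 B1 N1] (f1 : N →ₗ[B] N1) (t' t : Ideal A1) [t'.IsPrime] [t.IsPrime]
    (P : Ideal B1) [P.IsPrime] (himp : _root_.FlatCA.IsImpurity A B N p A1 B1 N1 f1 t' t P) :
    (_root_.FlatCA.IsUnivPureAlong A' B' N' p' → False) ∧
      (_root_.FlatCA.IsEtaleNhd A A1 p t → _root_.FlatCA.IsPureAlong A' B' N' p' → False) := by
  obtain ⟨hpo1, hf1, hle, htp, hPt, hass, hno⟩ := himp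
  haveI := htp
  haveI := hPt
  obtain ⟨T, hTp, hTt, hTp'⟩ := exists_prime_tensor p t p'
  haveI := hTt
  haveI := hTp'
  haveI := flat_localization_tensor T p'
  let L := Localization.AtPrime T
  haveI : (IsLocalRing.maximalIdeal L).LiesOver t := by
    constructor
    show t = (IsLocalRing.maximalIdeal L).comap (algebraMap A1 L)
    rw [IsScalarTower.algebraMap_eq A1 (A1 ⊗[A] A') L, ← Ideal.comap_comap]
    exact hTt.over.trans (congrArg (Ideal.comap _) Localization.AtPrime.comap_maximalIdeal.symm)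
  obtain ⟨Q', -, hQ'p, hQ'⟩ := Ideal.exists_ideal_le_liesOver_of_le (IsLocalRing.maximalIdeal L) hle
  let T' : Ideal (A1 ⊗[A] A') := Q'.comap (algebraMap (A1 ⊗[A] A') L)
  have hT'T : T' ≤ T := by
    exact (Ideal.comap_mono (IsLocalRing.le_maximalIdeal hQ'p.ne_top)).trans
      Localization.AtPrime.comap_maximalIdeal.le
  haveI : T'.LiesOver t' := by
    constructor
    show t' = T'.comap (algebraMap A1 (A1 ⊗[A] A'))
    rw [Ideal.comap_comap, ← IsScalarTower.algebraMap_eq]
    exact hQ'.over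
  -- combine
  have key := hasImpurity_of_point f hf f1 hpo1 hf1 (A2 := A1 ⊗[A] A') t' t p' T' T hTp' hT'T P hass hno
  refine ⟨fun h => ?_, fun het h => ?_⟩
  · obtain ⟨A2, B2, N2, _, _, _, _, _, _, _, _, _, _, _, _, _, _, g, T2', T2, _, _, P2, _, himp, -⟩ :=
      key (fun _ _ _ _ => True) trivial
    exact h A2 B2 N2 g T2' T2 P2 himp
  · obtain ⟨het, htp1, hbij⟩ := het
    haveI := het
    haveI : Algebra.Etale A' (A1 ⊗[A] A') := Algebra.Etale.of_equiv
      ({ Algebra.TensorProduct.comm A A' A1 with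
         commutes' := fun a => by simp [Algebra.TensorProduct.right_algebraMap_apply] } : A' ⊗[A] A1 ≃ₐ[A'] A1 ⊗[A] A')
    obtain ⟨A2, B2, N2, _, _, _, _, _, _, _, _, _, _, _, _, _, _, g, T2', T2, _, _, P2, _, himp, _, hnhd⟩ :=
      key (fun A'' _ _ T => ∃ _ : T.IsPrime, _root_.FlatCA.IsEtaleNhd A' A'' p' T)
        ⟨inferInstance, inferInstance, hTp', surjective_residue p t p' T hbij⟩
    exact h A2 B2 N2 g T2' T2 P2 hnhd himp

/-- Ring form, X = Spec B affine: let B be a finite type A-algebra, N a finite B-module, p a prime of A,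
and A' an A-algebra with a prime p' over p such that the local ring of A' at p' is flat over A. Let
B', N' be the base changes of B, N to A'. If N' is pure along the fibre over p' then N is pure along
the fibre over p, and likewise for universal purity. -/
theorem result {A B : Type u} [CommRing A] [CommRing B] [Algebra A B] [Algebra.FiniteType A B]
    (N : Type u) [AddCommGroup N] [Module B N] [Module.Finite B N] (p : Ideal A) [p.IsPrime]
    (A' B' N' : Type u) [CommRing A'] [CommRing B'] [Algebra A A'] [Algebra B B'] [Algebra A' B'] [Algebra A B']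
    [IsScalarTower A B B'] [IsScalarTower A A' B'] [Algebra.IsPushout A B A' B']
    [AddCommGroup N'] [Module B' N'] [Module B N'] [IsScalarTower B B' N'] (f : N →ₗ[B] N') (hf : IsBaseChange B' f)
    (p' : Ideal A') [p'.IsPrime] [p'.LiesOver p] [Module.Flat A (Localization.AtPrime p')] :
    (FlatCA.IsPureAlong A' B' N' p' → FlatCA.IsPureAlong A B N p) ∧
    (FlatCA.IsUnivPureAlong A' B' N' p' → FlatCA.IsUnivPureAlong A B N p) := by
  constructor
  · intro h A1 B1 N1 _ _ _ _ _ _ _ _ _ _ _ _ _ _ f1 t' t _ _ P _ het himp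
    exact (impurity_baseChange N p A' B' N' f hf p' A1 B1 N1 f1 t' t P himp).2 het h
  · intro h A1 B1 N1 _ _ _ _ _ _ _ _ _ _ _ _ _ _ f1 t' t _ _ P _ himp
    exact (impurity_baseChange N p A' B' N' f hf p' A1 B1 N1 f1 t' t P himp).1 h

end Groth.Agent.S1217
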