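import Groth.Statements.S15656
import Groth.Agent.H4.MulIso
-- import your own Groth.Agent.* helpers here

set_option autoImplicit false
universe u
open CategoryTheory MonoidalCategory CartesianMonoidalCategory MonObj GrpObj AlgebraicGeometry
open AbVar

namespace Groth.Agent.S15656

/-- Remark preceding it: let A and B be abelian varieties over a field k (proper, geometrically integral
commutative group schemes over k). Then the additive group Hom_k(A, B) of homomorphisms A → B
defined over k (sum = pointwise product in the group law of B) is torsion-free: if n·f = 0 for an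
integer n ≠ 0 then f = 0. -/
theorem result (k : Type u) [Field k]
    (A B : Over (Spec (CommRingCat.of k)))
    [GrpObj A] [IsCommMonObj A] [IsProper A.hom] [GeometricallyIntegral A.hom]
    [GrpObj B] [IsCommMonObj B] [IsProper B.hom] [GeometricallyIntegral B.hom] :
    NoZeroSMulDivisors ℤ (EndAV.Hom A B) := by
  refine ⟨fun {n φ} h => or_iff_not_imp_left.2 fun hn => ?_⟩
  obtain ⟨_, hflat, hsurj⟩ := Groth.Agent.H4.MulIso.int A hn
  haveI := hflat
  haveI := hsurj
  haveI : QuasiCompact (𝟙 A ^ n).left := by
    haveI : IsFinite (𝟙 A ^ n).left := (Groth.Agent.H4.MulIso.int A hn).1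
    infer_instance
  haveI : Epi (𝟙 A ^ n).left := Flat.epi_of_flat_of_surjective (𝟙 A ^ n).left
  haveI : Epi (𝟙 A ^ n) := Over.epi_of_epi_left _
  apply EndAV.Hom.ext
  rw [EndAV.Hom.toHom_zero, ← cancel_epi (𝟙 A ^ n)]
  have h1 : φ.toHom ^ n = 1 := by
    rw [← EndAV.Hom.toHom_zsmul, h, EndAV.Hom.toHom_zero]
  have hz : (𝟙 A ^ n) ≫ φ.toHom = φ.toHom ^ n := by
    cases n with
    | ofNat m =>
      rw [Int.ofNat_eq_natCast, zpow_natCast, zpow_natCast, MonObj.pow_comp, Category.id_comp]
    | negSucc m =>
      rw [zpow_negSucc, zpow_negSucc, GrpObj.inv_comp, MonObj.pow_comp, Category.id_comp]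
  rw [hz, h1, MonObj.comp_one]

end Groth.Agent.S15656
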