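import Groth.Statements.S17508
import Groth.Agent.H52.BaseToClosure

set_option autoImplicit false
universe u
open CategoryTheory CategoryTheory.Limits MonoidalCategory CartesianMonoidalCategory MonObj GrpObj AlgebraicGeometry
open AbVar

namespace Groth.Agent.S17508

/-- Let X be an abelian variety over a field k (a proper, geometrically integral k-group scheme) whose
underlying space has Krull dimension g, let L be an invertible O_X-module with an inverse L' (an
O_X-module with L ⊗ L' ≅ O_X), and let i be a natural number such that H^j(X, L) = 0 for j ≠ i and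
H^i(X, L) ≠ 0. Then i ≤ g, H^j(X, L') = 0 for j ≠ g − i and H^{g−i}(X, L') ≠ 0: the index of the
inverse bundle is g − i(L). (Non-degeneracy with index i is expressed by the equivalent condition
that the cohomology is concentrated in degree i and non-zero there.) -/
theorem result
    (k : Type u) [Field k] (X : Over (Spec (CommRingCat.of k))) [GrpObj X] [IsProper X.hom] [GeometricallyIntegral X.hom]
    (g : ℕ) (hg : topologicalKrullDim ↥X.left = g)
    (L L' : X.left.Modules) (hL : PicF.IsInvertible L)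
    (hL' : Nonempty (CohB1.tensorMod L L' ≅ Coh.structureModule X.left)) (i : ℕ)
    (hvan : ∀ j : ℕ, j ≠ i → Subsingleton (Coh.HH X.left L j)) (hne : Nontrivial (Coh.HH X.left L i)) :
    i ≤ g ∧ (∀ j : ℕ, j ≠ g - i → Subsingleton (Coh.HH X.left L' j)) ∧
      Nontrivial (Coh.HH X.left L' (g - i)) := by
  letI : ∀ Y : Scheme.{u}, PicGrp.Law Y := Groth.Agent.Lib.TensorMod.Invertible.law
  haveI := Groth.Agent.H63.AVBaseChange.isProper_bc (AlgebraicClosure k) X
  haveI := Groth.Agent.H63.AVBaseChange.geometricallyIntegral_bc (AlgebraicClosure k) X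
  haveI := Groth.Agent.H52.BaseToClosure.smooth_bc X
  obtain ⟨e⟩ := hL'
  have hL'i : PicF.IsInvertible L' := Groth.Agent.Lib.TensorMod.TensorInv.isInvertible_of_tensor_iso
    (Groth.Agent.Lib.TensorMod.Basic.comm L' L ≪≫ e)
  let π := Groth.Agent.H52.BaseToClosure.proj X
  have hc := (Groth.Agent.H52.BaseToClosure.conc_iff X hL i).1 ⟨hvan, hne⟩
  have hLΩ := PicLoc.isInvertible_pullback π hL
  have hL'Ω := PicLoc.isInvertible_pullback π hL'i
  obtain ⟨M, hM, hMc, i₀, j, hij, -, hi₀, hvj, hj⟩ := Groth.Agent.H52.IndexThm.exists_index_pair g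
    (Groth.Agent.H63.AVBaseChange.topologicalKrullDim_bc (AlgebraicClosure k) X hg) _ hLΩ
    (Groth.Agent.H52.BaseToClosure.nondeg_of_conc _ hLΩ i hc)
  obtain rfl : i₀ = i := by
    by_contra h
    haveI := hc.1 i₀ h
    haveI := hi₀
    exact false_of_nontrivial_of_subsingleton (Coh.HH _ ((Scheme.Modules.pullback π).obj L) i₀)
  have hinv := PicGrp.cls_inv_eq_cls hLΩ hL'Ω
    ⟨(Groth.Agent.Lib.TensorMod.Pullback.pullbackTensorIso π L L').symm ≪≫
      (Scheme.Modules.pullback π).mapIso e ≪≫ PicLoc.pullbackStructureIso π⟩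
  obtain ⟨s⟩ := (PicGrp.cls_eq_cls_iff hM hL'Ω).1 (hMc.trans hinv)
  have hr := (Groth.Agent.H52.BaseToClosure.conc_iff X hL'i j).2
    (Groth.Agent.H52.BaseToClosure.conc_of_iso s ⟨hvj, hj⟩)
  obtain rfl : j = g - i₀ := by omega
  exact ⟨by omega, hr.1, hr.2⟩

end Groth.Agent.S17508
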