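import Groth.Statements.S7489

import Groth.Agent.H63.GrpIdentity
import Groth.Agent.Lib.GrpSch.Basic
import Mathlib.AlgebraicGeometry.Morphisms.Integral
import Mathlib.AlgebraicGeometry.Limits

set_option autoImplicit false
universe u
open CategoryTheory MonoidalCategory CartesianMonoidalCategory MonObj GrpObj AlgebraicGeometry
open GrpSch

open Groth.Agent.H63.GrpIrred Groth.Agent.H63.GrpComponent Groth.Agent.H63.GrpConnected Groth.Agent.H63.GrpIdentity

namespace Groth.Agent.S7489


theorem genPt_congr {K : Type u} [Field K] {G H : Over (Spec (CommRingCat.of K))} [GrpObj G] [GrpObj H]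
    (f : G ⟶ H) {a b : G.left} (h : genPt G a = genPt G b) :
    genPt H (f.left a) = genPt H (f.left b) := by
  have ha := genPt_eq_of_specializes H ((genPt_specializes G a).map f.left.continuous)
  have hb := genPt_eq_of_specializes H ((genPt_specializes G b).map f.left.continuous)
  rw [← ha, h, hb]

theorem exists_affine_meeting {K : Type u} [Field K] (G : Over (Spec (CommRingCat.of K))) [GrpObj G]
    (s : Finset {U : G.left.Opens // IsAffineOpen U}) :
    ∃ W : G.left.Opens, IsAffineOpen W ∧ ∀ x : G.left, (∃ U ∈ s, x ∈ U.1) → genPt G x ∈ W := by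
  classical
  induction s using Finset.induction with
  | empty => exact ⟨⊥, isAffineOpen_bot _, by simp⟩
  | @insert U s _ ih =>
    obtain ⟨W, hW, hWm⟩ := ih
    have hcl : IsClopen (sat G (W : Set G.left))ᶜ :=
      (show IsClopen _ from ⟨isClosed_sat G W.2 hW.isCompact, isOpen_sat G W.2⟩).compl
    obtain ⟨e, -, he⟩ := exists_idem hcl
    let V : G.left.Opens := U.1 ⊓ G.left.basicOpen e
    have hV : IsAffineOpen V := by
      have h := U.2.basicOpen (G.left.presheaf.map (homOfLE (le_top : U.1 ≤ ⊤)).op e)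
      rwa [Scheme.basicOpen_res] at h
    have hd : Disjoint W V := by
      rw [disjoint_iff]
      ext x
      refine ⟨fun hx => ?_, fun hx => hx.elim⟩
      have h2 : x ∈ (G.left.basicOpen e : Set G.left) := hx.2.2
      rw [he] at h2
      exact (h2 (subset_sat G W.2 hx.1)).elim
    refine ⟨W ⊔ V, IsAffineOpen.sup_of_disjoint hW hV hd, fun x hx => ?_⟩
    obtain ⟨U', hU', hxU⟩ := hx
    by_cases hxW : genPt G x ∈ W
    · exact Or.inl hxW
    rcases Finset.mem_insert.1 hU' with rfl | hU'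
    · refine Or.inr ⟨(genPt_specializes G x).mem_open U'.1.2 hxU, ?_⟩
      show genPt G x ∈ (G.left.basicOpen e : Set G.left)
      rw [he]
      intro h
      refine hxW ?_
      have h' : genPt G (genPt G x) ∈ W := h
      rwa [genPt_eq_of_specializes G (genPt_specializes G x)] at h'
    · exact absurd (hWm x ⟨U', hU', hxU⟩) hxW

section
variable {k : Type u} [Field k] {G : Over (Spec (CommRingCat.of k))} [GrpObj G]

/-- left multiplication by a rational point -/
noncomputable def mulL (p : 𝟙_ (Over (Spec (CommRingCat.of k))) ⟶ G) : G ⟶ G := (toUnit G ≫ p) * 𝟙 G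

/-- right multiplication by a rational point -/
noncomputable def mulR (p : 𝟙_ (Over (Spec (CommRingCat.of k))) ⟶ G) : G ⟶ G := 𝟙 G * (toUnit G ≫ p)

theorem comp_mulL {T : Over (Spec (CommRingCat.of k))} (p : 𝟙_ (Over (Spec (CommRingCat.of k))) ⟶ G)
    (x : T ⟶ G) : x ≫ mulL p = (toUnit T ≫ p) * x := by
  rw [mulL, MonObj.comp_mul, Category.comp_id, ← Category.assoc, toUnit_unique (x ≫ toUnit G) (toUnit T)]

theorem comp_mulR {T : Over (Spec (CommRingCat.of k))} (p : 𝟙_ (Over (Spec (CommRingCat.of k))) ⟶ G)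
    (x : T ⟶ G) : x ≫ mulR p = x * (toUnit T ≫ p) := by
  rw [mulR, MonObj.comp_mul, Category.comp_id, ← Category.assoc, toUnit_unique (x ≫ toUnit G) (toUnit T)]

theorem isIso_mulR (p : 𝟙_ (Over (Spec (CommRingCat.of k))) ⟶ G) : IsIso (mulR p).left := by
  have h : ∀ q, mulR q ≫ mulR q⁻¹ = 𝟙 G := fun q => by
    rw [comp_mulR, mulR, _root_.mul_assoc, GrpObj.comp_inv, mul_inv_cancel, _root_.mul_one]
  have h2 := h p⁻¹
  rw [_root_.inv_inv] at h2
  exact ⟨(mulR p⁻¹).left, by rw [← Over.comp_left, h]; rfl, by rw [← Over.comp_left, h2]; rfl⟩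

theorem genPt_mulL (p : 𝟙_ (Over (Spec (CommRingCat.of k))) ⟶ G) :
    (mulL p).left (genPt G (unitPt G)) = genPt G (p.left (IsLocalRing.closedPoint k)) := by
  have hu : ∀ q, (mulL q).left (unitPt G) = q.left (IsLocalRing.closedPoint k) := fun q => by
    show (η[G].left ≫ (mulL q).left) _ = _
    rw [← Over.comp_left, comp_mulL, show η[G] = (1 : 𝟙_ _ ⟶ G) from by
      rw [Hom.one_def, toUnit_unique (toUnit _) (𝟙 _), Category.id_comp], _root_.mul_one,
      toUnit_unique (toUnit _) (𝟙 _), Category.id_comp]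
  have hinv : ∀ q x, (mulL q).left ((mulL q⁻¹).left x) = x := fun q x => by
    rw [← Scheme.Hom.comp_apply, ← Over.comp_left]
    have : mulL q⁻¹ ≫ mulL q = 𝟙 G := by
      rw [comp_mulL, mulL, ← _root_.mul_assoc, GrpObj.comp_inv, mul_inv_cancel, _root_.one_mul]
    rw [this]; rfl
  have hinv' : ∀ x, (mulL p⁻¹).left ((mulL p).left x) = x := fun x => by
    have := hinv p⁻¹ x
    rwa [_root_.inv_inv] at this
  have h1 := (genPt_specializes G (unitPt G)).map (mulL p).left.continuous
  rw [hu] at h1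
  set c := p.left (IsLocalRing.closedPoint k) with hc
  have h2 : genPt G c ⤳ (mulL p).left (genPt G (unitPt G)) := genPt_of_specializes G h1
  have h3 : (mulL p⁻¹).left (genPt G c) ⤳ genPt G (unitPt G) := by
    have := h2.map (mulL p⁻¹).left.continuous
    rwa [hinv'] at this
  have h4 := genPt_max G h3
  rw [← h4, hinv]

end

theorem exists_point_of_split {k : Type u} [Field k] {A : Type u} [CommRing A] [Algebra k A]
    (hA : ∀ s : Finset A, ∃ (B : Subalgebra k A) (n : ℕ), (↑s : Set A) ⊆ (B : Set A) ∧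
      Nonempty (B ≃ₐ[k] (Fin n → k))) (a : PrimeSpectrum A) :
    ∃ φ : A →ₐ[k] k, a = PrimeSpectrum.comap φ.toRingHom (IsLocalRing.closedPoint k) := by
  have key : ∀ x : A, ∃ c : k, x - algebraMap k A c ∈ a.asIdeal := by
    intro x
    obtain ⟨B, n, hs, ⟨e⟩⟩ := hA {x}
    have hx : x ∈ B := hs (by simp)
    have h0 : ∏ i, (e ⟨x, hx⟩ - algebraMap k (Fin n → k) (e ⟨x, hx⟩ i)) = 0 := by
      funext j
      rw [Finset.prod_apply, Pi.zero_apply]
      exact Finset.prod_eq_zero (Finset.mem_univ j) (by simp)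
    have h1 : ∏ i, (⟨x, hx⟩ - algebraMap k B (e ⟨x, hx⟩ i)) = (0 : B) := by
      apply e.injective
      simp only [map_prod, map_sub, AlgEquiv.commutes, map_zero]
      exact h0
    have h2 := congrArg B.val h1
    simp only [map_prod, map_sub, AlgHom.commutes, map_zero, Subalgebra.coe_val] at h2
    have h3 : ∏ i, (x - algebraMap k A (e ⟨x, hx⟩ i)) ∈ a.asIdeal := h2 ▸ Ideal.zero_mem _
    obtain ⟨i, -, hi⟩ := (a.2.prod_mem_iff).1 h3
    exact ⟨_, hi⟩
  have hb : Function.Bijective (algebraMap k (A ⧸ a.asIdeal)) := by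
    refine ⟨(algebraMap k (A ⧸ a.asIdeal)).injective, fun y => ?_⟩
    obtain ⟨x, rfl⟩ := Ideal.Quotient.mk_surjective y
    obtain ⟨c, hc⟩ := key x
    exact ⟨c, ((Ideal.Quotient.mk_eq_mk_iff_sub_mem _ _).2 hc).symm⟩
  let ψ := AlgEquiv.ofBijective (Algebra.ofId k (A ⧸ a.asIdeal)) hb
  refine ⟨ψ.symm.toAlgHom.comp (Ideal.Quotient.mkₐ k a.asIdeal), ?_⟩
  ext x
  rw [PrimeSpectrum.comap_asIdeal, Ideal.mem_comap]
  show x ∈ a.asIdeal ↔ ψ.symm (Ideal.Quotient.mk a.asIdeal x) ∈ IsLocalRing.maximalIdeal k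
  rw [IsLocalRing.maximalIdeal_eq_bot, Ideal.mem_bot, map_eq_zero_iff _ ψ.symm.injective,
    Ideal.Quotient.eq_zero_iff_mem]

/-- Let k be an algebraically closed field and G a group scheme over k such that the underlying space of
G is Jacobson and every closed point of G is k-rational (the image of a section of G -> Spec k). Let
A be a k-algebra such that every finite subset of A is contained in a k-subalgebra isomorphic to a
finite product of copies of k (A is a directed colimit of such algebras), and f : Spec A -> G a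
morphism over k. Then there is an affine open U of G containing the image of f. -/
theorem result (k : Type u) [Field k] [IsAlgClosed k] (G : Over (Spec (CommRingCat.of k))) [GrpObj G] [JacobsonSpace G.left] (hrat : ∀ g : G.left, IsClosed ({g} : Set G.left) → ∃ x : Spec (CommRingCat.of k) ⟶ G.left, x ≫ G.hom = 𝟙 _ ∧ x (IsLocalRing.closedPoint k) = g) (A : Type u) [CommRing A] [Algebra k A] (hA : ∀ s : Finset A, ∃ (B : Subalgebra k A) (n : ℕ), (↑s : Set A) ⊆ (B : Set A) ∧ Nonempty (B ≃ₐ[k] (Fin n → k))) (f : Spec (CommRingCat.of A) ⟶ G.left) (hf : f ≫ G.hom = Spec.map (CommRingCat.ofHom (algebraMap k A))) : ∃ U : G.left.Opens, IsAffineOpen U ∧ Set.range ⇑f ⊆ (U : Set G.left) := by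
  classical
  let X : Over (Spec (CommRingCat.of k)) :=
    Over.mk (Spec.map (CommRingCat.ofHom (algebraMap k A)))
  let f' : X ⟶ G := Over.homMk f hf
  -- rational points
  have hpt : ∀ a : PrimeSpectrum A, ∃ p : 𝟙_ (Over (Spec (CommRingCat.of k))) ⟶ X,
      p.left (IsLocalRing.closedPoint k) = a := by
    intro a
    obtain ⟨φ, hφ⟩ := exists_point_of_split hA a
    refine ⟨Over.homMk (Spec.map (CommRingCat.ofHom φ.toRingHom)) ?_, hφ.symm⟩
    show Spec.map (CommRingCat.ofHom φ.toRingHom) ≫ Spec.map (CommRingCat.ofHom (algebraMap k A)) = 𝟙 _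
    rw [← Spec.map_comp, ← Spec.map_id]
    congr 1
    ext x
    exact φ.commutes x
  -- finitely many affine opens cover the image
  have : CompactSpace ↑(Spec (CommRingCat.of A)) := inferInstance
  obtain ⟨s, hs⟩ := (isCompact_range f.continuous).elim_finite_subcover
    (fun U : {U : G.left.Opens // IsAffineOpen U} => (U.1 : Set G.left)) (fun U => U.1.2)
    (fun x _ => by
      obtain ⟨U, hU, hxU, -⟩ := exists_isAffineOpen_mem_and_subset (X := G.left) (x := x) (U := ⊤) trivial
      exact Set.mem_iUnion.2 ⟨⟨U, hU⟩, hxU⟩)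
  obtain ⟨W, hW, hWm⟩ := exists_affine_meeting G s
  have hgen : ∀ a : PrimeSpectrum A, genPt G (f a) ∈ W := fun a => by
    obtain ⟨U, hUs, hUa⟩ := Set.mem_iUnion₂.1 (hs ⟨a, rfl⟩)
    exact hWm _ ⟨U, hUs, hUa⟩
  -- the bad locus
  let M : X ⊗ G ⟶ G := (fst X G ≫ f') * snd X G
  have hclosed : UniversallyClosed (snd X G).left := by
    refine Groth.Agent.Lib.GrpSch.snd_left_of (P := @UniversallyClosed) G ?_
    have : IsIntegralHom X.hom := by
      refine IsIntegralHom.SpecMap_iff.2 ?_
      intro x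
      obtain ⟨B, n, hs', ⟨e⟩⟩ := hA {x}
      have : Module.Finite k B := Module.Finite.equiv e.symm.toLinearEquiv
      exact (Algebra.IsIntegral.isIntegral (R := k) (⟨x, hs' (by simp)⟩ : B)).map B.val
    exact (IsIntegralHom.iff_universallyClosed_and_isAffineHom.1 this).1
  let Z : Set G.left := (snd X G).left '' (M.left ⁻¹' (W : Set G.left)ᶜ)
  have hZ : IsClosed Z :=
    (snd X G).left.isClosedMap _ (W.2.isClosed_compl.preimage M.left.continuous)
  have hη : genPt G (unitPt G) ∉ Z := by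
    rintro ⟨w, hw, hw2⟩
    obtain ⟨p, hp⟩ := hpt ((fst X G).left w)
    have hwr : w ∈ Set.range (p ▷ G).left := by
      have h := Groth.Agent.Lib.GrpSch.isPullback_whiskerRight p G
      have hsub : (fst X G).left w = p.left (IsLocalRing.closedPoint k) := hp.symm
      obtain ⟨t, ht1, ht2⟩ := Scheme.exists_preimage_of_isPullback h _ _ hsub
      exact ⟨t, ht1⟩
    obtain ⟨t, rfl⟩ := hwr
    have h2 : (p ▷ G).left ≫ (snd X G).left = (snd _ G).left := by
      rw [← Over.comp_left, whiskerRight_snd]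
    have h3 : (p ▷ G) ≫ M = snd _ G ≫ mulL (p ≫ f') := by
      rw [comp_mulL, MonObj.comp_mul, whiskerRight_snd, ← Category.assoc, whiskerRight_fst,
        Category.assoc, toUnit_unique (toUnit _) (fst (𝟙_ (Over (Spec (CommRingCat.of k)))) G)]
    refine hw ?_
    rw [← Scheme.Hom.comp_apply, h2] at hw2
    show M.left ((p ▷ G).left t) ∈ W
    rw [← Scheme.Hom.comp_apply, ← Over.comp_left, h3, Over.comp_left, Scheme.Hom.comp_apply, hw2,
      genPt_mulL]
    show genPt G (f (p.left (IsLocalRing.closedPoint k))) ∈ W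
    exact hgen _
  obtain ⟨z, hzZ, hzc⟩ := nonempty_inter_closedPoints (Z := Zᶜ) ⟨_, hη⟩ hZ.isOpen_compl.isLocallyClosed
  obtain ⟨q₀, hq₀, hqz⟩ := hrat z hzc
  let q : 𝟙_ (Over (Spec (CommRingCat.of k))) ⟶ G := Over.homMk q₀ hq₀
  have := isIso_mulR q
  refine ⟨(mulR q).left ⁻¹ᵁ W, hW.preimage_of_isIso _, ?_⟩
  rintro _ ⟨a, rfl⟩
  by_contra hcon
  refine hzZ ⟨(lift (𝟙 X) (toUnit X ≫ q)).left a, ?_, ?_⟩
  · show M.left ((lift (𝟙 X) (toUnit X ≫ q)).left a) ∉ W
    have h4 : lift (𝟙 X) (toUnit X ≫ q) ≫ M = f' ≫ mulR q := by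
      rw [comp_mulR, MonObj.comp_mul, lift_snd, ← Category.assoc, lift_fst, Category.id_comp]
    rw [← Scheme.Hom.comp_apply, ← Over.comp_left, h4]
    exact hcon
  · rw [← Scheme.Hom.comp_apply, ← Over.comp_left, lift_snd, Over.comp_left, Scheme.Hom.comp_apply, ← hqz]
    exact congrArg q₀ (Subsingleton.elim (α := PrimeSpectrum k) _ _)


end Groth.Agent.S7489
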