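import Groth.Statements.S1864

import Groth.Agent.S7489
import Mathlib.AlgebraicGeometry.AlgClosed.Basic
import Mathlib.AlgebraicGeometry.Limits

set_option autoImplicit false
universe u v
open CategoryTheory MonoidalCategory CartesianMonoidalCategory MonObj GrpObj AlgebraicGeometry
open GrpSch

open CategoryTheory CategoryTheory.Limits AlgebraicGeometry

namespace Groth.Agent.S1864

/-- Let G be a group scheme locally of finite type over an algebraically closed field and g₁, …, g_n
finitely many closed points of G. Then some affine open of G contains all the g_i. -/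
theorem result (K : Type u) [Field K] [IsAlgClosed K] (G : Over (Spec (CommRingCat.of K))) [GrpObj G] [LocallyOfFiniteType G.hom] (n : ℕ) (g : Fin n → G.left) (hg : ∀ i, IsClosed ({g i} : Set G.left)) : ∃ U : G.left.Opens, IsAffineOpen U ∧ ∀ i, g i ∈ U := by
  let I := ULift.{u} (Fin n)
  let R : I → CommRingCat.{u} := fun _ => CommRingCat.of K
  let pts : (∐ fun i => Spec (R i)) ⟶ G.left := Sigma.desc fun i => pointOfClosedPoint G.hom (g i.down) (hg i.down)
  let f : Spec (CommRingCat.of (I → K)) ⟶ G.left := inv (sigmaSpec R) ≫ pts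
  have hf : f ≫ G.hom = Spec.map (CommRingCat.ofHom (algebraMap K (I → K))) := by
    show (inv (sigmaSpec R) ≫ pts) ≫ G.hom = _
    rw [Category.assoc, IsIso.inv_comp_eq]
    refine Sigma.hom_ext _ _ fun i => ?_
    rw [← Category.assoc (Sigma.ι _ i) pts, Sigma.ι_desc, pointOfClosedPoint_comp, ← Category.assoc, ι_sigmaSpec,
      ← Spec.map_id, ← Spec.map_comp]
    rfl
  have : JacobsonSpace G.left := LocallyOfFiniteType.jacobsonSpace G.hom
  obtain ⟨U, hU, hUr⟩ := Groth.Agent.S7489.result K G
    (fun x hx => ⟨pointOfClosedPoint G.hom x hx, pointOfClosedPoint_comp _ _ _, pointOfClosedPoint_apply _ _ _ _⟩)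
    (I → K) (fun s => ⟨⊤, n, by simp, ⟨Subalgebra.topEquiv.trans (AlgEquiv.piCongrLeft' K (fun _ => K) Equiv.ulift)⟩⟩) f hf
  refine ⟨U, hU, fun i => hUr ?_⟩
  refine ⟨(Sigma.ι (fun i => Spec (R i)) ⟨i⟩ ≫ sigmaSpec R) (IsLocalRing.closedPoint K), ?_⟩
  show ((Sigma.ι (fun i => Spec (R i)) ⟨i⟩ ≫ sigmaSpec R) ≫ f) (IsLocalRing.closedPoint K) = g i
  simp only [f, Category.assoc, IsIso.hom_inv_id_assoc, pts, Sigma.ι_desc]
  exact pointOfClosedPoint_apply _ _ _ _

end Groth.Agent.S1864
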