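import Groth.Statements.S19696
import Groth.Agent.H81.SplitKernel
import Mathlib.RingTheory.Trace.Basic

set_option autoImplicit false
universe u
open CategoryTheory CategoryTheory.Limits AlgebraicGeometry Opposite
open FinCov

namespace Groth.Agent.S19696

open Groth.Agent.Lib.TensorMod Groth.Agent.Lib.TensorMod.Dual in
/-- Let X be a scheme, A a quasi-coherent O_X-algebra which is locally free of rank d as an O_X-module,
and τ : A → O_X its trace (the O_X-linear map which over every affine open where A is finite free is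
the trace of the regular representation). If d is invertible in O_X(X), then τ is a split
epimorphism of O_X-modules — so 0 → ker τ → A → O_X → 0 is split exact — and its kernel ker τ is
locally free of rank d − 1 as an O_X-module. -/
theorem result {X : Scheme.{u}}
    (A : RelSpec.QCAlg X) (d : ℕ) (hA : FlatMod.IsFinLocFreeOfRank d A.toModule)
    (τ : A.toModule ⟶ Coh.structureModule X) (hτ : FinCov.IsTrace A τ)
    (hd : IsUnit ((d : Γ(X, ⊤)))) :
    IsSplitEpi τ ∧ FlatMod.IsFinLocFreeOfRank (d - 1) (kernel τ) := by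
  suffices h : ∃ ψ : Coh.structureModule X ⟶ A.toModule, ψ ≫ τ = 𝟙 _ by
    obtain ⟨ψ, hψ⟩ := h
    exact ⟨IsSplitEpi.mk' ⟨ψ, hψ⟩, Groth.Agent.H81.SplitKernel.isFinLocFreeOfRank_kernel τ ψ hA hψ⟩
  let c : Γ(X, ⊤) := ↑hd.unit⁻¹
  obtain ⟨ψ, hψ⟩ := Gen.exists_hom_of_family (M := A.toModule)
    (fun W => (FinCov.strMod A).app W (rf (le_top : W ≤ ⊤) c)) fun V W h => by
      refine (PresheafOfModules.naturality_apply (FinCov.strMod A).val (homOfLE h).op _).symm.trans ?_
      exact congrArg _ (rf_rf le_top h c)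
  refine ⟨ψ, ?_⟩
  ext W r
  obtain ⟨r, rfl⟩ : ∃ a : Γ(X, W), (show Γ(Coh.structureModule X, W) from a) = r := ⟨r, rfl⟩
  change τ.app W (ψ.app W r) = r
  rw [Gen.app_eq_smul ψ, Scheme.Modules.Hom.app_smul, hψ]
  suffices hone : (show Γ(X, W) from τ.app W ((FinCov.strMod A).app W (rf (le_top : W ≤ ⊤) c))) = 1 from
    (congrArg (r * ·) hone).trans (mul_one r)
  refine TopCat.Sheaf.eq_of_locally_eq' X.sheaf
    (fun V : {V : X.affineOpens // (V : X.Opens) ≤ W ∧ ∃ (U : X.Opens), (V : X.Opens) ≤ U ∧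
      Nonempty (A.toModule.restrict U.ι ≅ FlatMod.freeMod (↑U) d)} => (V.1 : X.Opens)) W
    (fun V => homOfLE V.2.1) (fun x hx => ?_) _ _ fun V => ?_
  · obtain ⟨U, hxU, i⟩ := hA x
    obtain ⟨V, hV, hxV, hVU⟩ := exists_isAffineOpen_mem_and_subset
      (show x ∈ W ⊓ U from ⟨hx, hxU⟩)
    exact TopologicalSpace.Opens.mem_iSup.2 ⟨⟨⟨V, hV⟩, fun y hy => (hVU hy).1, U, fun y hy => (hVU hy).2, i⟩, hxV⟩
  obtain ⟨⟨V, hV⟩, hVW, U, hVU, ⟨i⟩⟩ := V
  obtain ⟨b⟩ := Groth.Agent.H81.SplitKernel.nonempty_basis hVU i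
  letI : Algebra Γ(X, V) (A.presheaf.obj (op V)) := (A.str.app (op V)).hom.toAlgebra
  let e : Γ(A.toModule, V) ≃ₗ[Γ(X, V)] A.presheaf.obj (op V) :=
    { toFun := fun a => a
      invFun := fun a => a
      map_add' := fun _ _ => rfl
      map_smul' := fun _ _ => rfl }
  let b' := b.map e
  rcases subsingleton_or_nontrivial Γ(X, V) with hs | hn
  · exact Subsingleton.elim (α := Γ(X, V)) _ _
  have := Module.Free.of_basis b'
  have := Module.Finite.of_basis b'
  have htr := hτ V hV (Module.Free.of_basis b') (Module.Finite.of_basis b')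
    (algebraMap Γ(X, V) (A.presheaf.obj (op V)) (rf (le_top : V ≤ ⊤) c))
  rw [Algebra.trace_algebraMap] at htr
  have hdd : (Module.finrank Γ(X, V) (A.presheaf.obj (op V))) • rf (le_top : V ≤ ⊤) c = (1 : Γ(X, V)) := by
    rw [Module.finrank_eq_card_basis b', Fintype.card_fin, nsmul_eq_mul,
      ← map_natCast (X.presheaf.map (homOfLE (le_top : V ≤ ⊤)).op).hom d]
    refine (map_mul (X.presheaf.map (homOfLE (le_top : V ≤ ⊤)).op).hom _ c).symm.trans ?_
    rw [IsUnit.mul_val_inv, map_one]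
  rw [hdd] at htr
  refine Eq.trans ?_ (htr.trans (map_one (X.presheaf.map (homOfLE hVW).op).hom).symm)
  refine Eq.trans (PresheafOfModules.naturality_apply τ.val (homOfLE hVW).op _).symm (congrArg (τ.app V) ?_)
  refine (PresheafOfModules.naturality_apply (FinCov.strMod A).val (homOfLE hVW).op _).symm.trans ?_
  exact congrArg ((FinCov.strMod A).app V) (rf_rf le_top hVW c)

end Groth.Agent.S19696
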