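import Groth.Statements.S0234
import Groth.Agent.H34.UFDExt.Main
import Groth.Agent.Lib.ParaF.ResBij

set_option autoImplicit false
universe u
open CategoryTheory CategoryTheory.Limits AlgebraicGeometry Opposite TopologicalSpace
open Curves
open Groth.Agent.H34.UFDExt

namespace Groth.Agent.S0234

variable {X : Scheme.{u}}

lemma map_bijective_of_eq (M : X.Modules) {A B : X.Opens} (h : A ≤ B) (e : A = B) :
    Function.Bijective (M.presheaf.map (homOfLE h).op) := by
  subst e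
  rw [show homOfLE h = 𝟙 A from rfl, op_id, M.presheaf.map_id]
  exact Function.bijective_id

lemma eq_of_forall_notMem (M : X.Modules) {A : X.Opens} (h : ∀ x, x ∉ A) (s t : Γ(M, A)) : s = t :=
  TopCat.Presheaf.section_ext (⟨M.presheaf, M.isSheaf⟩ : TopCat.Sheaf Ab X) A s t
    fun x hx => (h x hx).elim

lemma res_pushforward_bijective {Y : Scheme.{u}} (f : Y ⟶ X) (N : Y.Modules) (U₁ : X.Opens)
    (hf : ∀ y, f y ∈ U₁) (W : X.Opens) :
    Function.Bijective
      (Gen.res ((Scheme.Modules.pushforward f).obj N) (inf_le_left : W ⊓ U₁ ≤ W)) :=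
  map_bijective_of_eq N (f.preimage_mono inf_le_left)
    (le_antisymm (f.preimage_mono inf_le_left) fun y hy => ⟨hy, hf y⟩)

variable {P Q : X.Modules}

lemma decomp (V : X.Opens) (z : Γ(P ⊞ Q, V)) :
    (biprod.inl : P ⟶ P ⊞ Q).app V ((biprod.fst : P ⊞ Q ⟶ P).app V z) +
      (biprod.inr : Q ⟶ P ⊞ Q).app V ((biprod.snd : P ⊞ Q ⟶ Q).app V z) = z :=
  congr(Scheme.Modules.Hom.app $(biprod.total (X := P) (Y := Q)) V z)

lemma res_app {M N : X.Modules} (φ : M ⟶ N) {A B : X.Opens} (h : A ≤ B) (s : Γ(M, B)) :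
    Gen.res N h (φ.app B s) = φ.app A (Gen.res M h s) :=
  (congr($(φ.mapPresheaf.naturality (homOfLE h).op) s)).symm

lemma res_biprod_bijective {A B : X.Opens} (h : A ≤ B) (hP : Function.Bijective (Gen.res P h))
    (hQ : Function.Bijective (Gen.res Q h)) : Function.Bijective (Gen.res (P ⊞ Q) h) := by
  constructor
  · intro s t hst
    rw [← decomp B s, ← decomp B t]
    congr 2
    · apply hP.1; rw [res_app, res_app, hst]
    · apply hQ.1; rw [res_app, res_app, hst]
  · intro m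
    obtain ⟨p, hp⟩ := hP.2 ((biprod.fst : P ⊞ Q ⟶ P).app A m)
    obtain ⟨q, hq⟩ := hQ.2 ((biprod.snd : P ⊞ Q ⟶ Q).app A m)
    refine ⟨(biprod.inl : P ⟶ P ⊞ Q).app B p + (biprod.inr : Q ⟶ P ⊞ Q).app B q, ?_⟩
    rw [← decomp A m, ← hp, ← hq, ← res_app, ← res_app]
    exact map_add ((P ⊞ Q).presheaf.map (homOfLE h).op).hom _ _

lemma fst_bijective {V : X.Opens} (hQ : ∀ s t : Γ(Q, V), s = t) :
    Function.Bijective ((biprod.fst : P ⊞ Q ⟶ P).app V) := by
  constructor
  · intro s t hst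
    rw [← decomp V s, ← decomp V t, hst,
      hQ ((biprod.snd : P ⊞ Q ⟶ Q).app V s) ((biprod.snd : P ⊞ Q ⟶ Q).app V t)]
  · exact fun p => ⟨(biprod.inl : P ⟶ P ⊞ Q).app V p,
      congr(Scheme.Modules.Hom.app $(biprod.inl_fst (X := P) (Y := Q)) V p)⟩

lemma snd_bijective {V : X.Opens} (hP : ∀ s t : Γ(P, V), s = t) :
    Function.Bijective ((biprod.snd : P ⊞ Q ⟶ Q).app V) := by
  constructor
  · intro s t hst
    rw [← decomp V s, ← decomp V t, hst,
      hP ((biprod.fst : P ⊞ Q ⟶ P).app V s) ((biprod.fst : P ⊞ Q ⟶ P).app V t)]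
  · exact fun q => ⟨(biprod.inr : Q ⟶ P ⊞ Q).app V q,
      congr(Scheme.Modules.Hom.app $(biprod.inr_snd (X := P) (Y := Q)) V q)⟩

lemma isGen_of_hom {M N : X.Modules} (φ : M ⟶ N) {V : X.Opens}
    (hφ : ∀ A, A ≤ V → Function.Bijective (φ.app A)) {t : Γ(N, V)} (ht : Gen.IsGen N V t) :
    ∃ t' : Γ(M, V), Gen.IsGen M V t' := by
  obtain ⟨t', rfl⟩ := (hφ V le_rfl).2 t
  refine ⟨t', fun A hA => ?_⟩
  have : (φ.app A) ∘ (fun a : Γ(X, A) => a • Gen.res M hA t') =
      fun a => a • Gen.res N hA (φ.app V t') := funext fun a => by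
    simp only [Function.comp, Scheme.Modules.Hom.app_smul, res_app]
  exact (hφ A hA).of_comp_iff' _ |>.1 (this ▸ ht A hA)

/-- A generator of a module on an open subscheme gives a generator of its pushforward. -/
lemma exists_isGen_pushforward (U : X.Opens) (N : (U : Scheme.{u}).Modules)
    (hN : PicF.IsInvertible N) (y : X) (hy : y ∈ U) :
    ∃ (V : X.Opens) (t : Γ((Scheme.Modules.pushforward U.ι).obj N, V)),
      y ∈ V ∧ V ≤ U ∧ Gen.IsGen ((Scheme.Modules.pushforward U.ι).obj N) V t := by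
  obtain ⟨V, t, hV, ht⟩ := Gen.exists_isGen_of_isInvertible hN ⟨y, hy⟩
  refine ⟨U.ι ''ᵁ V, Gen.res N (U.ι.preimage_image_eq V).le t, ⟨_, hV, rfl⟩, U.ι_image_le V,
    fun A hA => ?_⟩
  have hle : U.ι ⁻¹ᵁ A ≤ V := (U.ι.preimage_mono hA).trans (U.ι.preimage_image_eq V).le
  have hAU : A ≤ U := hA.trans (U.ι_image_le V)
  have : IsIso (U.ι.app A) := Scheme.Hom.isIso_app _ _ (by rwa [Scheme.Opens.opensRange_ι])
  have happ : Function.Bijective (U.ι.app A) := (ConcreteCategory.isIso_iff_bijective _).1 inferInstance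
  refine (?_ : (fun a : Γ(X, A) =>
      (show Γ(N, U.ι ⁻¹ᵁ A) from a • Gen.res ((Scheme.Modules.pushforward U.ι).obj N) hA
        (Gen.res N (U.ι.preimage_image_eq V).le t))) =
      (fun a => a • Gen.res N hle t) ∘ U.ι.app A) ▸ (ht (U.ι ⁻¹ᵁ A) hle).comp happ
  funext a
  show (SMul.smul (U.ι.app A a) _ : Γ(N, U.ι ⁻¹ᵁ A)) = _
  congr 1
  exact Gen.res_res N (U.ι.preimage_mono hA) _ t

/-- On a locally Noetherian scheme, an invertible module on an open U extends to an invertible module on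
X provided the local rings at the points outside U are unique factorisation domains. -/
theorem result (X : Scheme.{u}) [IsLocallyNoetherian X] (U : X.Opens)
    (L : (U : Scheme.{u}).Modules) (hL : PicF.IsInvertible L)
    (hufd : ∀ x : X, x ∉ U → UniqueFactorizationMonoid (X.presheaf.stalk x)) :
    ∃ L' : X.Modules, PicF.IsInvertible L' ∧ Nonempty (L'.restrict U.ι ≅ L) := by
  let W : X.Opens := ⟨(closure (U : Set X))ᶜ, isClosed_closure.isOpen_compl⟩
  have hUW : ∀ z, z ∈ U → z ∉ W := fun z hz h => h (subset_closure hz)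
  let U₁ : X.Opens := U ⊔ W
  let P := (Scheme.Modules.pushforward U.ι).obj L
  let Q := (Scheme.Modules.pushforward W.ι).obj (Coh.structureModule (W : Scheme.{u}))
  let M := P ⊞ Q
  have hdense : Dense (U₁ : Set X) := fun z => by
    by_cases hz : z ∈ closure (U : Set X)
    · exact closure_mono (show (U : Set X) ⊆ (U₁ : Set X) from (le_sup_left : U ≤ U₁)) hz
    · exact subset_closure ((le_sup_right : W ≤ U₁) hz)
  have hres : ∀ A : X.Opens, Function.Bijective (Gen.res M (inf_le_left : A ⊓ U₁ ≤ A)) := fun A =>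
    res_biprod_bijective _
      (res_pushforward_bijective U.ι L U₁ (fun y => (le_sup_left : U ≤ U₁) y.2) A)
      (res_pushforward_bijective W.ι _ U₁ (fun y => (le_sup_right : W ≤ U₁) y.2) A)
  have hQ0 : ∀ A : X.Opens, A ≤ U → ∀ s t : Γ(Q, A), s = t := fun A hA =>
    eq_of_forall_notMem (Coh.structureModule (W : Scheme.{u})) fun z hz => hUW z.1 (hA hz) z.2
  have hP0 : ∀ A : X.Opens, A ≤ W → ∀ s t : Γ(P, A), s = t := fun A hA =>
    eq_of_forall_notMem L fun z hz => hUW z.1 z.2 (hA hz)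
  have hgen : ∀ y ∈ U₁, ∃ (V : X.Opens) (t : Γ(M, V)), y ∈ V ∧ V ≤ U₁ ∧ Gen.IsGen M V t := by
    intro y hy
    rcases hy with hy | hy
    · obtain ⟨V, t, hyV, hVU, ht⟩ := exists_isGen_pushforward U L hL y hy
      obtain ⟨t', ht'⟩ := isGen_of_hom (biprod.fst : M ⟶ P)
        (fun A hA => fst_bijective (hQ0 A (hA.trans hVU))) ht
      exact ⟨V, t', hyV, hVU.trans le_sup_left, ht'⟩
    · obtain ⟨V, t, hyV, hVW, ht⟩ := exists_isGen_pushforward W _
        (fun _ => ⟨⊤, trivial, ⟨Scheme.Modules.restrictUnitIso _⟩⟩) y hy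
      obtain ⟨t', ht'⟩ := isGen_of_hom (biprod.snd : M ⟶ Q)
        (fun A hA => snd_bijective (hP0 A (hA.trans hVW))) ht
      exact ⟨V, t', hyV, hVW.trans le_sup_right, ht'⟩
  refine ⟨Sub.lattice M U₁, fun x => ?_, ?_⟩
  · suffices ∃ (V : X.Opens) (t : Γ(Sub.lattice M U₁, V)), x ∈ V ∧
        Gen.IsGen (Sub.lattice M U₁) V t by
      obtain ⟨V, t, hx, ht⟩ := this
      exact ⟨V, hx, ht.nonempty_iso⟩
    by_cases hx : x ∈ U₁
    · obtain ⟨V, t, hxV, hVU, ht⟩ := hgen x hx
      obtain ⟨t', ht'⟩ := Sub.isGen_lattice_of_le M U₁ hVU ht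
      exact ⟨V, t', hxV, ht'⟩
    · have := Main.isDomain_of_ufm x (hufd x fun h => hx ((le_sup_left : U ≤ U₁) h))
      obtain ⟨V, hxV, hV, hinj⟩ := X.exists_germ_injective x
      have : IsDomain Γ(X, V) := hinj.isDomain _
      exact Main.exists_isGen_lattice_aux hV hres
        (fun y hy => let ⟨V, t, h1, _, h3⟩ := hgen y hy; ⟨V, t, h1, h3⟩)
        (fun y hy => hufd y fun h => hy ((le_sup_left : U ≤ U₁) h)) hdense hxV hx
  · let ψ : Sub.lattice M U₁ ⟶ P := Sub.ι M U₁ ≫ biprod.fst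
    suffices IsIso ((Scheme.Modules.restrictFunctor U.ι).map ψ) from
      ⟨asIso ((Scheme.Modules.restrictFunctor U.ι).map ψ) ≪≫
        (Scheme.Modules.restrictFunctorAdjCounitIso U.ι).app L⟩
    rw [Scheme.Modules.Hom.isIso_iff_isIso_app]
    intro A
    rw [ConcreteCategory.isIso_iff_bijective]
    show Function.Bijective (ψ.app (U.ι ''ᵁ A))
    exact (fst_bijective (hQ0 _ (U.ι_image_le A))).comp
      (Sub.ι_app_bijective M U₁ ((U.ι_image_le A).trans le_sup_left))

end Groth.Agent.S0234
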