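import Groth.Statements.S0032
import Groth.Agent.Lib.CohDelta.AbR

set_option autoImplicit false
universe u
open Coherent

namespace Groth.Agent.S0032

open AlgebraicGeometry CategoryTheory Opposite in
/-- Let f : X → S be quasi-compact and quasi-separated with S affine, and F quasi-coherent on X. Then
H^q(X, F) is isomorphic to the global sections of R^q f_* F (higher direct image of the underlying
abelian sheaf), for every q. -/
theorem result {X S : Scheme.{u}} (f : X ⟶ S)
    [QuasiCompact f] [QuasiSeparated f] [IsAffine S] (M : X.Modules) [Coh.IsQCoh M] (q : ℕ) :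
    Nonempty (Coh.HH X M q ≃+ ↑(((Coh.RpushAb f q).obj (Coh.toAb M)).obj.obj (op ⊤))) := by
  cases q with
  | zero =>
    haveI : Limits.PreservesLimitsOfSize.{0, 0} (Coh.pushAb f) :=
      (TopCat.Sheaf.pullbackPushforwardAdjunction AddCommGrpCat.{u} f.base).rightAdjoint_preservesLimits
    haveI : Limits.PreservesFiniteLimits (Coh.pushAb f) :=
      Limits.PreservesLimitsOfSize.preservesFiniteLimits _
    haveI : (Coh.pushAb f).Additive := Functor.additive_of_preserves_binary_products _
    exact ⟨(Sheaf.H.equiv₀ (Coh.toAb M) (Limits.isTerminalTop : Limits.IsTerminal (⊤ : X.Opens))).trans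
      (((CategoryTheory.sheafToPresheaf _ _).mapIso
        ((Coh.pushAb f).rightDerivedZeroIsoSelf.app (Coh.toAb M)).symm).app
          (op ⊤)).addCommGroupIsoToAddEquiv⟩
  | succ p =>
    haveI : EnoughInjectives X.Modules :=
      Groth.Agent.Lib.CohDelta.Sect.enoughInjectives
    let I := injectiveResolution M
    exact Groth.Agent.Lib.CohDelta.AbR.nonempty_sections_equiv f I p ‹Coh.IsQCoh M›

end Groth.Agent.S0032
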