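import Groth.Statements.S9354
import Groth.Agent.Lib.AlgSpDecent.RelDimComp

set_option autoImplicit false
universe u
open FibDim

namespace Groth.Agent.S9354

open AlgebraicGeometry CategoryTheory in
/-- Let f : X → Y and g : Y → S be locally of finite type, x ∈ X, y = f x, s = g y. Then dim_x(X_s) ≤
dim_x(X_y) + dim_y(Y_s), with equality when O_{X,x} is flat over O_{Y,y}. (The published statement
also gives equality when O_{X_s,x} is flat over O_{Y_s,y}; this row asserts equality only when
O_{X,x} is flat over O_{Y,y}.) -/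
theorem result {X Y S : Scheme.{u}} (f : X ⟶ Y) (g : Y ⟶ S) [LocallyOfFiniteType f] [LocallyOfFiniteType g] (x : X) :
    FlatMor.fibreDimAt (f ≫ g) x ≤ FlatMor.fibreDimAt f x + FlatMor.fibreDimAt g (f.base x) ∧
      ((f.stalkMap x).hom.Flat →
        FlatMor.fibreDimAt (f ≫ g) x = FlatMor.fibreDimAt f x + FlatMor.fibreDimAt g (f.base x)) := by
  exact Groth.Agent.Lib.AlgSpDecent.RelDimComp.fibreDimAt_comp f g x

end Groth.Agent.S9354
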