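import Groth.Statements.S0051
import Groth.Agent.H78.Existence.AmpleVanish
import Groth.Agent.S0050

set_option autoImplicit false
universe u
open Coherent

namespace Groth.Agent.S0051

open AlgebraicGeometry CategoryTheory in
/-- Let R be Noetherian, X → Spec R proper and L invertible on X. Then L is ample if and only if for
every coherent F there is n₀ with H^p(X, F ⊗ L^{⊗n}) = 0 for all n ≥ n₀ and p > 0. -/
theorem result (R : Type u) [CommRing R] [IsNoetherianRing R]
    (X : Scheme.{u}) (f : X ⟶ Spec (CommRingCat.of R)) [IsProper f] (L : X.Modules)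
    (hL : PicF.IsInvertible L) :
    CohB1.IsAmple L ↔ ∀ (M : X.Modules), Coh.IsCoh M → ∃ n₀ : ℕ, ∀ n : ℕ, n₀ ≤ n → ∀ p : ℕ, 0 < p →
      Subsingleton (Coh.HH X (CohB1.tensorMod M (CohB1.tensorPow L n)) p) := by
  letI : X.Over (Spec (CommRingCat.of R)) := ⟨f⟩
  haveI : IsProper (X ↘ Spec (CommRingCat.of R)) := inferInstanceAs (IsProper f)
  haveI := Groth.Agent.H78.Existence.AmpleVanish.isNoetherian_of_proper R (X := X)
  refine ⟨fun hA M hM => ?_, fun h => Groth.Agent.S0050.result X L hL fun J i hi hJ => ?_⟩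
  · obtain ⟨n₀, hn⟩ := Groth.Agent.H78.Existence.AmpleVanish.exists_subsingleton R hA hM
    refine ⟨n₀, fun n h p hp => ?_⟩
    obtain ⟨q, rfl⟩ : ∃ q, p = q + 1 := ⟨p - 1, by omega⟩
    exact hn n h q
  · haveI := hi
    haveI : J.IsQuasicoherent := hJ
    obtain ⟨n₀, hn⟩ := h J (Groth.Agent.Lib.CohBasics.Closure.isCoh_of_mono i
      (Groth.Agent.Lib.Snapper.Twist.isCoh_structureModule X))
    exact ⟨n₀, hn (n₀ + 1) (Nat.le_succ n₀) 1 one_pos⟩

end Groth.Agent.S0051
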