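import Groth.Statements.S0978
import Groth.Agent.Lib.DerCat.Hocolim
import Groth.Agent.Lib.DerCat.FiniteFac

set_option autoImplicit false
universe v u
open CategoryTheory
open CohDer

namespace Groth.Agent.S0978

open CategoryTheory.Limits CategoryTheory.Pretriangulated in
lemma hom_eq_zero {D : Type u} [Category.{v} D] [Preadditive D] [Limits.HasZeroObject D]
    [HasShift D ℤ] [∀ n : ℤ, (shiftFunctor D n).Additive] [Pretriangulated D]
    (E K : D) (hK : ∀ (n : ℤ) (f : E ⟶ (shiftFunctor D n).obj K), f = 0) :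
    ∀ Z : D, ObjectProperty.triangEnvelope (fun Y : D => Y = E) Z →
      ∀ (n : ℤ) (f : Z ⟶ (shiftFunctor D n).obj K), f = 0 := by
  let P : ObjectProperty D := fun Z => ∀ (n : ℤ) (f : Z ⟶ (shiftFunctor D n).obj K), f = 0
  have h0 : P.ContainsZero := ⟨⟨_, isZero_zero D, fun n f => (isZero_zero D).eq_of_src _ _⟩⟩
  have h1 : P.IsStableUnderShift ℤ := ⟨fun a => ⟨fun Z hZ => by
    intro n
    exact (Groth.Agent.Lib.DerCat.Tri.hom_shift_left_eq_zero_iff Z _ a).2 fun f => by
      let e := (shiftFunctorAdd D n (-a)).app K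
      exact (cancel_mono e.inv).1 ((hZ _ (f ≫ e.inv)).trans zero_comp.symm)⟩⟩
  have h2 : P.IsTriangulatedClosed₂ := ⟨fun T hT h₁ h₃ => ObjectProperty.le_isoClosure _ _
    fun n f => by
      obtain ⟨g, hg⟩ := Triangle.yoneda_exact₂ T hT f (h₁ n _)
      rw [hg, h₃ n g, comp_zero]⟩
  have h3 : P.IsStableUnderRetracts := ⟨fun r h n f => by
    calc f = r.i ≫ r.r ≫ f := by rw [← Category.assoc, r.retract, Category.id_comp]
      _ = 0 := by rw [h n (r.r ≫ f), comp_zero]⟩
  have : P.IsTriangulated := { }
  exact (ObjectProperty.triangEnvelope_le_iff _).2 (fun Z (hZ : Z = E) => hZ ▸ hK)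

open CategoryTheory.Limits in
/-- Let D be a triangulated category with all small direct sums and E a compact object. Then E generates
D (an object admitting only zero maps from all shifts of E is zero) if and only if D is compactly
generated and every compact object lies in the triangulated envelope of E (objects reachable from E
by shifts, finite sums, direct summands and extensions). -/
theorem result {D : Type u} [Category.{v} D] [Preadditive D] [Limits.HasZeroObject D] [HasShift D ℤ]
    [∀ n : ℤ, (shiftFunctor D n).Additive] [Pretriangulated D] [IsTriangulated D] [HasCoproducts.{v} D]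
    [HasColimitsOfShape (Discrete ℕ) D]
    (E : D) (hE : CohDer.IsCompactObject E) :
    CohDer.Generates (fun _ : Unit => E) ↔
      (CohDer.IsCompactlyGenerated D ∧ ∀ X : D, CohDer.IsCompactObject X → ObjectProperty.triangEnvelope (fun Y : D => Y = E) X) := by
  constructor
  · intro hg
    have hg' : CohDer.Generates (fun _ : ULift.{v} Unit => E) := fun K hK =>
      hg K fun _ n f => hK ⟨()⟩ n f
    refine ⟨⟨ULift.{v} Unit, fun _ => E, fun _ => hE, hg'⟩, fun X hX => ?_⟩
    obtain ⟨S, p, hp⟩ := Groth.Agent.Lib.DerCat.Hocolim.exists_hocolim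
      (Groth.Agent.Lib.DerCat.BrownGen.perfGen_of_compact (fun _ : ULift.{v} Unit => E)
        (fun _ => hE) hg') X
    obtain ⟨N, g, hg₁⟩ :=
      Groth.Agent.Lib.DerCat.Hocolim.exists_factor_stage hX S.X S.t p hp (𝟙 X)
    obtain ⟨s, -, E', a, b, hE', hab⟩ := Groth.Agent.Lib.DerCat.FiniteFac.fac_sequence
      (E := fun _ : ULift.{v} Unit => E) (fun _ => hE) S.t
      ⟨S.κ₀, fun k => (S.a₀ k).1, fun k => (S.a₀ k).2.down, ⟨S.e₀⟩⟩
      (fun n => ⟨S.κ n, fun k => (S.a n k).1, fun k => (S.a n k).2.down, S.q n, S.c n, S.dist n⟩)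
      N X hX g
    have hle : ObjectProperty.triangEnvelope (fun Y : D => Y = E) E' :=
      ObjectProperty.monotone_triangEnvelope (fun Y ⟨_, _, e⟩ => e) _ hE'
    exact ObjectProperty.IsStableUnderRetracts.of_retract
      (⟨a, b ≫ p N, by rw [← Category.assoc, hab, hg₁]⟩ : Retract X E') hle
  · rintro ⟨⟨ι, F, hF, hFg⟩, hall⟩ K hK
    exact hFg K fun i n f => hom_eq_zero E K (fun n f => hK () n f) _ (hall _ (hF i)) n f

end Groth.Agent.S0978
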