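import Groth.Statements.S0913
import Groth.Agent.Lib.Perfect.FlatPerfect

set_option autoImplicit false
universe u
open CategoryTheory
attribute [local instance] HasDerivedCategory.standard
open DCoh

namespace Groth.Agent.S0913

open AlgebraicGeometry in
/-- Let a ≤ b and let E in D(O_X) be represented by a complex of flat modules vanishing outside [a, b]
(tor-amplitude in [a, b]) and be (a-1)-pseudo-coherent. Then E is perfect. -/
theorem result {X : Scheme.{u}} (E : DCoh.D X) (a b : ℤ) (hab : a ≤ b)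
    (h1 : DCoh.HasFlatAmplitudeIn a b E) (h2 : DCoh.IsPseudoCoherentD (a - 1) E) : DCoh.IsPerfect E := by
  open Groth.Agent.Lib.Perfect in
  refine (Triangle.isPerfect_iff E).2 fun x => ?_
  refine Groth.Agent.Lib.Perfect.FlatPerfect.perfAt_of_stalk (a := a)
    ((Groth.Agent.Lib.Perfect.PseudoCoh.iff_forall (a - 1) E).1 h2 x) ?_ fun U j _ y _ =>
      ⟨b, Groth.Agent.Lib.Perfect.FlatPerfect.bdd_stalk
        (Groth.Agent.Lib.Perfect.FlatPerfect.flatAmp_restrict j h1) y⟩
  obtain ⟨F, hv, -, ⟨i⟩⟩ := h1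
  exact Groth.Agent.Lib.DR.Basic.isGE_of_iso' i
    (Groth.Agent.Lib.DR.Basic.isGE_Q_of_isZero F a fun k hk => hv k (Or.inl hk))

end Groth.Agent.S0913
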