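import Groth.Statements.S11109
import Groth.Agent.Lib.DerivedOX.BCLoc
import Groth.Agent.Lib.DerivedOX.BCTorInd
import Groth.Agent.Lib.TensorMod.QCohInv

set_option autoImplicit false
universe u
open CategoryTheory CategoryTheory.Limits AlgebraicGeometry
attribute [local instance] HasDerivedCategory.standard
open Perf

namespace Groth.Agent.S11109

attribute [local instance] Groth.Agent.Lib.DerivedOX.LeftExists.hasLpull
  Groth.Agent.Lib.DerivedOX.Exists.hasRpush

open Groth.Agent.Lib Groth.Agent.Lib.DerivedOX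

/-- `- ⊗ 𝒪` is the identity. -/
noncomputable def tensUnit (X : Scheme.{u}) (P : CochainComplex X.Modules ℤ) :
    (Amplitude.tens (Coh.structureModule X)).obj P ≅ P :=
  HomologicalComplex.Hom.isoOfComponents (fun i => TensorMod.Basic.rightUnit (P.X i))
    (fun i j _ => by
      refine ((TensorMod.Basic.rightUnit_natural (P.d i j)).symm.trans (congrArg (· ≫ _) ?_))
      exact congrArg DCoh.shP.map (MonoidalCategory.tensorHom_id _ _))

/-- The sheaf of functions is tor independent of the base change. -/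
theorem torLoc_structureModule {X Y Y' : Scheme.{u}} (f : X ⟶ Y) (g : Y' ⟶ Y)
    (htor : ∀ (U : Y.Opens), IsAffineOpen U → ∀ (U' : Y'.Opens), IsAffineOpen U' → ∀ (hU' : U' ≤ g ⁻¹ᵁ U)
      (V : X.Opens), IsAffineOpen V → ∀ (hV : V ≤ f ⁻¹ᵁ U) (i : ℕ), 0 < i →
      Subsingleton (@DRing.Tor Γ(Y, U) _ i Γ(Y', U') Γ(X, V) _ (g.appLE U U' hU').hom.toModule _ (f.appLE U V hV).hom.toModule)) :
    BCLoc.TorLoc f g (Coh.structureModule X) := fun U hU U' hU' eU V hV eV =>
  ⟨ModuleCat.of Γ(X, V) Γ(X, V), ⟨tildeSelf ≪≫ (PicLoc.pullbackStructureIso hV.fromSpec).symm⟩,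
    BCAlg.torInd_of_tor _ _ fun p hp => htor U hU U' hU' eU V hV eV p hp⟩

/-- Let f : X ⟶ Y be a quasi-compact quasi-separated morphism of schemes, g : Y' ⟶ Y any morphism of
schemes and X' = X ×_Y Y' with projections g' : X' ⟶ X and f' : X' ⟶ Y'. Suppose the square is
tor-independent in the sense that for every affine open U of Y, every affine open U' of Y' mapped
into U and every affine open V of X mapped into U, the modules Tor_i over Γ(U, O_Y) of Γ(U', O_Y')
and Γ(V, O_X) (computed with a projective resolution of the second argument) vanish for all i > 0.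
Assume the unbounded derived direct images and derived pullbacks exist, with adjunctions Lg^* ⊣ Rg_*
and Lg'^* ⊣ Rg'_* given as data. Then for a suitable identification e of the composite Rf_* ∘ Rg'_*
with Rg_* ∘ Rf'_*, the base-change morphism Lg^* Rf_* E ⟶ Rf'_* Lg'^* E built from these data is an
isomorphism for every E in D(O_X) with quasi-coherent cohomology sheaves. (The published statement
assumes in addition that Y and Y' are quasi-separated and that g is quasi-compact and
quasi-separated, and also gives the converse: if the base-change morphism is an isomorphism for all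
such E then the square is tor-independent. This row omits those hypotheses on Y, Y' and g, the
isomorphism assertion being local on Y and on Y', and states only the forward direction.) -/
theorem result {X Y X' Y' : Scheme.{u}} (f : X ⟶ Y) [QuasiCompact f]
    [QuasiSeparated f] (g : Y' ⟶ Y) (f' : X' ⟶ Y') (g' : X' ⟶ X) (hsq : IsPullback g' f' f g)
    (htor : ∀ (U : Y.Opens), IsAffineOpen U → ∀ (U' : Y'.Opens), IsAffineOpen U' → ∀ (hU' : U' ≤ g ⁻¹ᵁ U)
      (V : X.Opens), IsAffineOpen V → ∀ (hV : V ≤ f ⁻¹ᵁ U) (i : ℕ), 0 < i →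
      Subsingleton (@DRing.Tor Γ(Y, U) _ i Γ(Y', U') Γ(X, V) _ (g.appLE U U' hU').hom.toModule _ (f.appLE U V hV).hom.toModule))
    [DCoh.HasRpush f] [DCoh.HasRpush g] [DCoh.HasLpull g] [DCoh.HasRpush f'] [DCoh.HasRpush g']
    [DCoh.HasLpull g'] (adjg : DCoh.Lpull g ⊣ DCoh.Rpush g) (adjg' : DCoh.Lpull g' ⊣ DCoh.Rpush g') :
    ∃ e : DCoh.Rpush g' ⋙ DCoh.Rpush f ≅ DCoh.Rpush f' ⋙ DCoh.Rpush g,
      ∀ E : DCoh.D X, DCoh.IsQCohD E → IsIso (DCoh.baseChangeApp adjg adjg' e E) := by
  refine ⟨BCSquare.sqRight f g f' g' hsq.w, fun E hE => ?_⟩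
  refine (BCSquare.isIso_baseChangeApp_iff f g f' g' hsq.w adjg adjg' E).2 ?_
  obtain ⟨P, hP, ⟨eP⟩⟩ := QCohLocal.exists_kflat E
  have hPq : DCoh.IsQCohD (DerivedCategory.Q.obj P) := fun i =>
    (Groth.Agent.Lib.WayOut.Scheme.qc _).prop_of_iso
      ((DerivedCategory.homologyFunctor _ i).mapIso eP.symm) (hE i)
  haveI : IsIso ((BCCube.ψ f g f' g' hsq.w).app ((Amplitude.tens (Coh.structureModule X)).obj P)) :=
    BCLoc.isIso_ψ_tens hsq _ (TensorMod.QCohInv.isQCoh_structureModule X)
      (torLoc_structureModule f g htor) P hP hPq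
  haveI h1 : IsIso ((BCCube.ψ f g f' g' hsq.w).app P) :=
    (NatTrans.isIso_app_iff_of_iso (BCCube.ψ f g f' g' hsq.w) (tensUnit X P)).1 inferInstance
  haveI := PullTranspose.isIso_counitCx g' hP
  haveI : IsIso ((BCSquare.bcD f g f' g' hsq.w).app (DerivedCategory.Q.obj P)) := by
    dsimp only [BCCube.ψ] at h1
    exact @IsIso.of_isIso_comp_right _ _ _ _ _ _
      ((DCoh.Rpush f').map ((PullTranspose.counitCx g').app P)) inferInstance h1
  exact (NatTrans.isIso_app_iff_of_iso (BCSquare.bcD f g f' g' hsq.w) eP).1 inferInstance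

end Groth.Agent.S11109
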