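import Groth.Statements.S1085
import Groth.Agent.Lib.Fil.Obj


set_option autoImplicit false
universe v u
open CategoryTheory CategoryTheory.Limits Opposite
open FilD

namespace Groth.Agent.S1085

/-- Let A be an abelian category and S = (X ⟶ Y ⟶ Z) a short complex (composite zero) of finite filtered
objects such that grᵖ X ⟶ grᵖ Y ⟶ grᵖ Z is exact for every p. Then for every p the sequence of p-th
filtration steps Fᵖ X ⟶ Fᵖ Y ⟶ Fᵖ Z is exact, and both morphisms of S are strict. -/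
theorem result {A : Type u} [Category.{v} A] [Abelian A] (S : ShortComplex (FilD.FilF A))
    (hS : ∀ p : ℤ, (S.map (FilD.grF A p)).Exact) :
    (∀ p : ℤ, (S.map ((FilD.IsFinFil A).ι ⋙ (evaluation ℤᵒᵖ A).obj (op p))).Exact) ∧
      FilD.IsStrict S.f ∧ FilD.IsStrict S.g := by
  have w : S.f.hom ≫ S.g.hom = 0 := by
    rw [← ObjectProperty.FullSubcategory.comp_hom, S.zero]; rfl
  obtain ⟨b, hb⟩ := Groth.Agent.Lib.Fil.Obj.exists_top S.X₂
  have hgr : ∀ (p : ℤ) ⦃T : A⦄ (x : T ⟶ (FilD.gr A p).obj S.X₂.obj),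
      x ≫ (FilD.gr A p).map S.g.hom = 0 →
        ∃ (T' : A) (e : T' ⟶ T) (_ : Epi e) (y : T' ⟶ (FilD.gr A p).obj S.X₁.obj),
          e ≫ x = y ≫ (FilD.gr A p).map S.f.hom :=
    fun p T x hx => (hS p).exact_up_to_refinements x hx
  have hex := Groth.Agent.Lib.Fil.Obj.level_exact_of_gr S.f.hom S.g.hom w (Groth.Agent.Lib.Fil.Obj.mono_st S.X₃) b hb hgr
  refine ⟨fun p => ?_,
    (Groth.Agent.Lib.Fil.Raw.isStrict_iff S.f).2 (Groth.Agent.Lib.Fil.Obj.strict_left_of_level S.f.hom S.g.hom w (Groth.Agent.Lib.Fil.Obj.mono_st S.X₃) hex),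
    (Groth.Agent.Lib.Fil.Raw.isStrict_iff S.g).2 (Groth.Agent.Lib.Fil.Obj.strict_right_of_gr S.f.hom S.g.hom w hgr (Groth.Agent.Lib.Fil.Obj.mono_st S.X₃))⟩
  rw [ShortComplex.exact_iff_exact_up_to_refinements]
  exact fun T x hx => hex p x hx

end Groth.Agent.S1085
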