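import Groth.Statements.S1009
import Groth.Agent.Lib.Modules.Free
import Groth.Agent.Lib.Modules.AffineSections
import Groth.Agent.Lib.ClSub.Sections
import Groth.Agent.Lib.QCoh.Closure
import Groth.Agent.Lib.AffStrat36.Main
import Groth.Agent.Lib.Ample.QAffCrit

set_option autoImplicit false
universe u
open CategoryTheory CategoryTheory.Limits AlgebraicGeometry
attribute [local instance] HasDerivedCategory.standard
open Perf

namespace Groth.Agent.S1009

open Groth.Agent.Lib Opposite TopologicalSpace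

/-- Kronecker delta in sections of the structure module. -/
noncomputable def delta (Z : Scheme.{u}) {n : ℕ} (k i : Fin n) : Γ(Coh.structureModule Z, ⊤) :=
  if i = k then (1 : Γ(Z, ⊤)) else (0 : Γ(Z, ⊤))

lemma unitHom_delta_self {Z : Scheme.{u}} {n : ℕ} (c : Γ(Coh.structureModule Z, ⊤)) (i : Fin n) :
    (Modules.Free.unitHom (Coh.structureModule Z) c).app ⊤ (delta Z i i) = c := by
  have h : delta Z i i = (1 : Γ(Z, ⊤)) := if_pos rfl
  rw [h]
  exact Modules.Free.unitHom_app_one _ c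

lemma unitHom_delta_ne {Z : Scheme.{u}} {n : ℕ} (c : Γ(Coh.structureModule Z, ⊤)) {k i : Fin n}
    (hik : i ≠ k) : (Modules.Free.unitHom (Coh.structureModule Z) c).app ⊤ (delta Z k i) = 0 := by
  have h : delta Z k i = 0 := if_neg hik
  rw [h, map_zero]

/-- A functional on a free module in coordinates. -/
theorem functional_eq {Z : Scheme.{u}} {n : ℕ} (χ : FlatMod.freeMod Z n ⟶ Coh.structureModule Z) :
    χ = ∑ k, Modules.Free.freeHom (fun i => delta Z k i) ≫
      Modules.Free.unitHom (Coh.structureModule Z) (χ.app ⊤ (Modules.Free.gen Z k)) := by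
  refine Modules.Free.freeHom_ext fun i => ?_
  let ev : (FlatMod.freeMod Z n ⟶ Coh.structureModule Z) →+ Γ(Coh.structureModule Z, ⊤) :=
    AddMonoidHom.mk' (fun g => g.app ⊤ (Modules.Free.gen Z i)) fun g g' => by
      rw [Scheme.Modules.Hom.add_app]; rfl
  refine Eq.trans ?_ (map_sum ev _ Finset.univ).symm
  rw [Finset.sum_eq_single i (fun k _ hk => ?_) (fun hk => absurd (Finset.mem_univ i) hk)]
  · refine Eq.trans ?_ (congrArg
      ((Modules.Free.unitHom (Coh.structureModule Z) (χ.app ⊤ (Modules.Free.gen Z i))).app ⊤)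
      (Modules.Free.freeHom_app_gen (fun l => delta Z i l) i)).symm
    exact (unitHom_delta_self _ i).symm
  · exact (congrArg
      ((Modules.Free.unitHom (Coh.structureModule Z) (χ.app ⊤ (Modules.Free.gen Z k))).app ⊤)
      (Modules.Free.freeHom_app_gen (fun l => delta Z k l) i)).trans (unitHom_delta_ne _ hk.symm)

/-- If a functional on a free module takes the value one somewhere on `O`, its values on the
standard generators span the unit ideal of the sections over `O`. -/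
theorem span_eq_top_of_functional {Z : Scheme.{u}} {n : ℕ} {M : Z.Modules}
    (φ : FlatMod.freeMod Z n ≅ M) (ψ : M ⟶ Coh.structureModule Z) (O : Z.Opens)
    (τ : Γ(M, O)) (hτ : ψ.app O τ = (1 : Γ(Z, O))) :
    Ideal.span (Set.range fun i => Z.presheaf.map (homOfLE (le_top (a := O))).op
      (ψ.app ⊤ (φ.hom.app ⊤ (Modules.Free.gen Z i)) : Γ(Z, ⊤))) = ⊤ := by
  let t := φ.inv.app O τ
  let ev : (FlatMod.freeMod Z n ⟶ Coh.structureModule Z) →+ Γ(Coh.structureModule Z, O) :=
    AddMonoidHom.mk' (fun g => g.app O t) fun g g' => by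
      rw [Scheme.Modules.Hom.add_app]; rfl
  have h4 : (1 : Γ(Z, O)) = ∑ k, (show Γ(Z, O) from
      (Modules.Free.freeHom fun i => delta Z k i).app O t) *
      Z.presheaf.map (homOfLE (le_top (a := O))).op
        (ψ.app ⊤ (φ.hom.app ⊤ (Modules.Free.gen Z k)) : Γ(Z, ⊤)) := by
    have h3 : φ.hom.app O t = τ := congrArg (fun g : M ⟶ M => g.app O τ) φ.inv_hom_id
    have h5 : ev (φ.hom ≫ ψ) = (1 : Γ(Z, O)) := (congrArg (ψ.app O) h3).trans hτ
    refine (h5.symm.trans (congrArg ev (functional_eq (φ.hom ≫ ψ)))).trans ?_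
    exact map_sum ev _ Finset.univ
  refine (Ideal.eq_top_iff_one _).2 ?_
  rw [h4]
  exact Ideal.sum_mem _ fun k _ => Ideal.mul_mem_left _ _ (Ideal.subset_span ⟨k, rfl⟩)

/-- Let the scheme X be quasi-compact and quasi-separated with the resolution property (every
finite-type quasi-coherent O_X-module is a quotient of a finite locally free one). Then X has affine
diagonal: the intersection of any two affine opens of X is affine. -/
theorem result (X : Scheme.{u}) [CompactSpace ↥X] [QuasiSeparatedSpace ↥X] (hX : PerfAux.HasResolutionProperty X)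
    (U V : X.Opens) (hU : IsAffineOpen U) (hV : IsAffineOpen V) : IsAffineOpen (U ⊓ V) := by
  classical
  obtain ⟨I, hI, hIs⟩ := AffStrat36.Main.exists_fg_support (V := X)
    (⟨(U : Set X)ᶜ, U.2.isClosed_compl⟩ : Closeds X) (by
      change IsCompact (U : Set X)ᶜᶜ
      rw [compl_compl]; exact hU.isCompact)
  haveI : (_root_.ClSub.idealMod I).IsQuasicoherent := Ample.QAffCrit.isQCoh_idealMod I
  obtain ⟨E, p, hE, hp⟩ := hX (_root_.ClSub.idealMod I) (Ample.QAffCrit.isQCoh_idealMod I)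
    (Ample.QAffCrit.isFT_idealMod I hI)
  haveI := hp
  haveI : E.IsQuasicoherent := Modules.AffineSections.isQCoh_of_isFinLocFree hE
  let s : E ⟶ Coh.structureModule X := p ≫ _root_.ClSub.idealModι I
  have hIU : I.ideal ⟨U, hU⟩ = ⊤ := by
    refine PrimeSpectrum.zeroLocus_empty_iff_eq_top.1 ((hU.fromSpec_preimage_zeroLocus _).symm.trans
      (Set.eq_empty_iff_forall_notMem.2 fun q hq => ?_))
    have hqU : hU.fromSpec q ∈ U := hU.opensRange_fromSpec.le ⟨q, rfl⟩
    have hz : hU.fromSpec q ∈ (I.support : Set X) :=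
      ((I.coe_support_inter ⟨U, hU⟩).ge ⟨hq, hqU⟩).1
    rw [hIs] at hz
    exact hz hqU
  obtain ⟨m, hm⟩ := (ClSub.Sections.mem_range_idealModι_app_affine_iff I ⟨U, hU⟩ 1).2 (hIU ▸ trivial)
  obtain ⟨τ, hτ⟩ := QCoh.Closure.sections_surjective_of_epi p hU m
  have hτ' : s.app U τ = (1 : Γ(X, U)) := (congrArg ((_root_.ClSub.idealModι I).app U) hτ).trans hm
  let S : Set Γ(X, V) := {f | IsAffineOpen (U ⊓ X.basicOpen f)}
  suffices h : ∀ x ∈ V, ∃ f : Γ(X, V), x ∈ X.basicOpen f ∧ IsAffineOpen (U ⊓ X.basicOpen f) by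
    have hS : Ideal.span S = ⊤ := by
      refine (hV.iSup_basicOpen_eq_self_iff (s := S)).mp (le_antisymm
        (iSup_le fun f => X.basicOpen_le _) fun x hx => ?_)
      obtain ⟨f, hxf, hf⟩ := h x hx
      exact Opens.mem_iSup.2 ⟨⟨f, hf⟩, hxf⟩
    have hS' := congrArg (Ideal.map (X.presheaf.map (homOfLE (inf_le_right : U ⊓ V ≤ V)).op).hom) hS
    rw [Ideal.map_top, Ideal.map_span] at hS'
    refine isAffineOpen_of_isAffineOpen_basicOpen _ _ hS' ?_
    rintro _ ⟨f, hf, rfl⟩
    rw [Scheme.basicOpen_res, inf_assoc, inf_eq_right.2 (X.basicOpen_le f)]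
    exact hf
  intro x hx
  obtain ⟨W0, n, hxW0, hW0V, ⟨e0⟩⟩ := Modules.Free.exists_free_le hE hx
  obtain ⟨f, hfW0, hxf⟩ := hV.exists_basicOpen_le (⟨x, hxW0⟩ : W0) hx
  let W : X.Opens := X.basicOpen f
  have hW : IsAffineOpen W := hV.basicOpen f
  refine ⟨f, hxf, ?_⟩
  let e := Modules.Free.freeOfLE (hfW0 : W ≤ W0) e0
  let ψ : E.restrict W.ι ⟶ Coh.structureModule W :=
    (Scheme.Modules.restrictFunctor W.ι).map s ≫ (Scheme.Modules.restrictUnitIso W.ι).hom
  let O : W.toScheme.Opens := W.ι ⁻¹ᵁ U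
  have hOU : W.ι ''ᵁ O ≤ U := W.ι.image_preimage_le U
  have hO : W.ι ''ᵁ O = U ⊓ W := by
    rw [W.ι.image_preimage_eq_opensRange_inf, Scheme.Opens.opensRange_ι, inf_comm]
  have hψ : ψ.app O (E.presheaf.map (homOfLE hOU).op τ) = (1 : Γ(W.toScheme, O)) := by
    change (W.ι.appIso O).hom (s.app (W.ι ''ᵁ O) (E.presheaf.map (homOfLE hOU).op τ)) = 1
    rw [← QCoh.Localizing.res_app, hτ']
    exact (congrArg (W.ι.appIso O).hom (map_one (X.presheaf.map (homOfLE hOU).op).hom)).trans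
      (map_one (W.ι.appIso O).hom.hom)
  have hspan := span_eq_top_of_functional e.symm ψ O _ hψ
  change IsAffineOpen (U ⊓ W)
  rw [← hO]
  have hspan' := congrArg (Ideal.map (W.ι.appIso O).inv.hom) hspan
  rw [Ideal.map_top, Ideal.map_span] at hspan'
  refine isAffineOpen_of_isAffineOpen_basicOpen _ _ hspan' ?_
  rintro _ ⟨_, ⟨i, rfl⟩, rfl⟩
  rw [← Scheme.image_basicOpen]
  let a : Γ(W.toScheme, ⊤) := ψ.app ⊤ (e.inv.app ⊤ (Modules.Free.gen W.toScheme i))
  change IsAffineOpen (W.ι ''ᵁ W.toScheme.basicOpen (W.toScheme.presheaf.map (homOfLE (le_top (a := O))).op a))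
  rw [Scheme.basicOpen_res]
  let b : Γ(X, W.ι ''ᵁ ⊤) := s.app (W.ι ''ᵁ ⊤) (e.inv.app ⊤ (Modules.Free.gen W.toScheme i))
  have hb : W.ι ''ᵁ W.toScheme.basicOpen a = X.basicOpen b := by
    rw [Scheme.image_basicOpen]
    exact congrArg X.basicOpen (ConcreteCategory.congr_hom (W.ι.appIso ⊤).hom_inv_id b)
  have hW' : IsAffineOpen (W.ι ''ᵁ ⊤) := by rw [Scheme.Opens.ι_image_top]; exact hW
  have hbI : b ∈ I.ideal ⟨W.ι ''ᵁ ⊤, hW'⟩ :=
    (ClSub.Sections.mem_range_idealModι_app_affine_iff I ⟨_, hW'⟩ b).1 ⟨_, rfl⟩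
  have hbU : X.basicOpen b ≤ U := fun z hz => by
    by_contra hzU
    have hzW : z ∈ W.ι ''ᵁ ⊤ := X.basicOpen_le b hz
    have hzs : z ∈ (I.support : Set X) := by rw [hIs]; exact hzU
    have hzz := ((I.coe_support_inter ⟨_, hW'⟩).le ⟨hzs, hzW⟩).1
    exact (Scheme.mem_zeroLocus_iff X _ _).1 hzz b hbI hz
  have hle : W.toScheme.basicOpen a ≤ O := fun z hz => hbU (hb.le ⟨z, hz, rfl⟩)
  rw [inf_eq_right.2 hle, hb]
  exact hW'.basicOpen b

end Groth.Agent.S1009
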