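import Groth.Statements.S4406
import Groth.Agent.Lib.H70.GrBaseChange
import Groth.Agent.H81.RelProj.GrTilde.Basic
import Mathlib.RingTheory.IsTensorProduct

set_option linter.style.haveILetI false
set_option autoImplicit false
universe u
open CategoryTheory CategoryTheory.Limits AlgebraicGeometry
open EGA2

namespace Groth.Agent.S4406

/-- The twisting sheaves under base change: let A' → A be a ring homomorphism, S' a graded A'-algebra
and S = S' ⊗_{A'} A with the induced grading (here: any graded A-algebra S with a graded
homomorphism φ : S' → S exhibiting S as the base change of S'), and Φ : Proj S → Proj S' the induced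
morphism. Then for every integer n the O-module Φ^*(O(n)) is isomorphic to O(n) on Proj S.
(Existence of an isomorphism only; the published identification is canonical. The published
statement also covers a general graded S'-module M'; this row states the twisting sheaves only.) -/
theorem result {R R' A B : Type u} [CommRing R'] [CommRing R] [Algebra R' R]
    [CommRing B] [Algebra R' B] (ℬ : ℕ → Submodule R' B) [GradedAlgebra ℬ]
    [CommRing A] [Algebra R A] [Algebra R' A] [IsScalarTower R' R A] (𝒜 : ℕ → Submodule R A) [GradedAlgebra 𝒜]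
    [Algebra B A] [IsScalarTower R' B A] [Algebra.IsPushout R' R B A]
    (φ : ℬ →+*ᵍ 𝒜) (hφA : ∀ b : B, φ b = algebraMap B A b)
    (hφ : HomogeneousIdeal.irrelevant 𝒜 ≤ (HomogeneousIdeal.irrelevant ℬ).map φ) (n : ℤ) :
    Nonempty ((Scheme.Modules.pullback (Proj.map φ hφ)).obj (Twist.twist ℬ n) ≅ Twist.twist 𝒜 n) := by
  classical
  let v : B →ₛₗ[φ.toRingHom] A :=
    { toFun := fun b => φ b
      map_add' := fun a b => map_add φ a b
      map_smul' := fun a b => map_mul φ a b }
  have hv : ∀ (i : ℕ) (b : B), b ∈ ℬ i → v b ∈ 𝒜 i := fun i b hb => φ.map_mem hb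
  have hι' : ∀ r, algebraMap R' B r ∈ ℬ 0 := fun r => SetLike.algebraMap_mem_graded ℬ r
  have hι : ∀ r, algebraMap R A r ∈ 𝒜 0 := fun r => SetLike.algebraMap_mem_graded 𝒜 r
  have hbc : IsBaseChange R (IsScalarTower.toAlgHom R' B A).toLinearMap := Algebra.IsPushout.out
  have hspan : ∀ x : A, x ∈ AddSubmonoid.closure {y | ∃ (r : R) (b : B), y = algebraMap R A r * φ b} := by
    intro x
    induction x using hbc.inductionOn with
    | zero => exact zero_mem _
    | tmul b => exact AddSubmonoid.subset_closure ⟨1, b, by rw [map_one, one_mul, hφA]; rfl⟩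
    | smul r a ha =>
      induction ha using AddSubmonoid.closure_induction with
      | mem y hy =>
        obtain ⟨s, b, rfl⟩ := hy
        exact AddSubmonoid.subset_closure ⟨r * s, b, by rw [Algebra.smul_def, map_mul, mul_assoc]⟩
      | zero => rw [smul_zero]; exact zero_mem _
      | add a b _ _ ha hb => rw [smul_add]; exact add_mem ha hb
    | add a b ha hb => exact add_mem ha hb
  have hM : Groth.Agent.Lib.H70.GrBaseChange.IsBaseChangeMap φ v (algebraMap R' B) (algebraMap R A)
      (algebraMap R' R) := by
    refine ⟨fun x => hspan x, ?_⟩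
    intro Q _ _ w hw
    letI : Module R' Q := Module.compHom Q (algebraMap R' R)
    haveI : IsScalarTower R' R Q := IsScalarTower.of_algebraMap_smul fun _ _ => rfl
    let w' : B →ₗ[R'] Q :=
      { toFun := w
        map_add' := w.map_add
        map_smul' := fun r b => by rw [Algebra.smul_def]; exact hw r b }
    refine ⟨(hbc.lift w').toAddMonoidHom, fun r b => ?_⟩
    show hbc.lift w' (algebraMap R A r * φ b) = r • w b
    rw [← Algebra.smul_def, map_smul, hφA]
    exact congrArg (r • ·) (hbc.lift_eq w' b)
  have hcompat : ∀ r, φ (algebraMap R' B r) = algebraMap R A (algebraMap R' R r) := fun r => by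
    rw [hφA, ← IsScalarTower.algebraMap_apply, ← IsScalarTower.algebraMap_apply]
  haveI := Groth.Agent.Lib.H70.GrBaseChange.isIso_transpose_comap hφ hv hι' hι hcompat hspan hM n
  exact ⟨(Scheme.Modules.pullback (Proj.map φ hφ)).mapIso
      (Groth.Agent.H81.RelProj.GrTilde.Basic.twistIsoTilde (𝒜 := ℬ) n) ≪≫
    asIso (((Scheme.Modules.pullbackPushforwardAdjunction (Proj.map φ hφ)).homEquiv _ _).symm
      (GrMod.comap φ hφ v hv n)) ≪≫
    (Groth.Agent.H81.RelProj.GrTilde.Basic.twistIsoTilde (𝒜 := 𝒜) n).symm⟩

end Groth.Agent.S4406
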