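import Groth.Statements.S1071
import Groth.Agent.Lib.ProjKoszul.Surj

set_option autoImplicit false
universe u
open CategoryTheory CategoryTheory.Limits AlgebraicGeometry
open Perf

namespace Groth.Agent.S1071

/-- Let A be a ring, X = P^n_A and a ∈ ℤ. There is a cochain complex of O_X-modules, exact in every
degree, whose term in degree i is isomorphic to the direct sum of (n+1 choose i) copies of O_X(a +
i) for 0 ≤ i ≤ n + 1 and is zero in all other degrees. -/
theorem result (n : ℕ) (A : Type u) [CommRing A] (a : ℤ) :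
    ∃ C : CochainComplex (CohB1.ProjSpace n A).Modules ℤ, (∀ i : ℤ, C.ExactAt i) ∧
      (∀ i : ℕ, i ≤ n + 1 → Nonempty (C.X (i : ℤ) ≅ ∐ fun _ : Fin (Nat.choose (n + 1) i) => Twist.twistProjSpace n A (a + i))) ∧
      (∀ i : ℤ, i < 0 ∨ (n : ℤ) + 1 < i → IsZero (C.X i)) := by
  let C₀ := Lib.ProjKoszul.Regularity.koszul (Lib.ProjCoh.Coherent.tw n A a)
  let e : ℤ := -((n : ℤ) + 1)
  refine ⟨C₀⟦e⟧, fun i => ?_, fun i hi => ?_, fun i hi => ?_⟩
  · rw [HomologicalComplex.exactAt_iff_isZero_homology]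
    refine IsZero.of_iso ?_ (((HomologicalComplex.homologyFunctor _ (ComplexShape.up ℤ) 0).shiftIso e i (e + i) rfl).app C₀)
    exact (HomologicalComplex.exactAt_iff_isZero_homology _ _).1
      (Lib.ProjKoszul.Regularity.exactAt_koszul _ _)
  · obtain ⟨E⟩ := Lib.ProjKoszul.Iterate.nonempty_kos_X_iso
      (Lib.ProjKoszul.Regularity.T n A) (Lib.ProjKoszul.Regularity.μ n A)
      (Lib.ProjCoh.Coherent.tw n A a) (n + 1) 0 i ((i : ℤ) + e) (by simp only [e]; push_cast; ring)
    refine ⟨E ≪≫ Sigma.mapIso fun _ => ?_⟩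
    exact eqToIso (by rw [Nat.zero_add]) ≪≫ Lib.ProjKoszul.Regularity.powIso i _ ≪≫
      Lib.ProjCoh.Coherent.twTensor (n := n) (R := A) a (i : ℤ)
  · exact Lib.ProjKoszul.Regularity.isZero_koszul _ (i + e) (by simp only [e]; push_cast; omega)

end Groth.Agent.S1071
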