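import Groth.Statements.S0611
import Mathlib.RingTheory.Regular.RegularSequence
import Mathlib.RingTheory.LocalRing.Quotient

set_option autoImplicit false
universe u
open RRAlg

namespace Groth.Agent.S0611

open RingTheory.Sequence IsLocalRing
open scoped Pointwise

lemma cons_quot_iff {A : Type u} [CommRing A] (r : A) (rs : List A) :
    IsWeaklyRegular A (r :: rs) ↔ IsSMulRegular A r ∧
      IsWeaklyRegular (A ⧸ Ideal.span {r}) (rs.map (Ideal.Quotient.mk (Ideal.span {r}))) := by
  rw [isWeaklyRegular_cons_iff]
  refine and_congr_right fun _ => ?_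
  have e : (r • ⊤ : Submodule A A) = Ideal.span {r} := by
    rw [← Submodule.ideal_span_singleton_smul, smul_eq_mul, Ideal.mul_top]
  rw [(Submodule.quotEquivOfEq _ _ e).isWeaklyRegular_congr rs]
  exact (isWeaklyRegular_map_algebraMap_iff (A ⧸ Ideal.span {r}) (A ⧸ Ideal.span {r}) rs).symm

lemma ofList_eq_span_erase {A : Type u} [CommRing A] [DecidableEq A] {l : List A} {x : A}
    (hx : x ∈ l) : Ideal.ofList l = Ideal.span {x} ⊔ Ideal.ofList (l.erase x) := by
  rw [← Ideal.ofList_cons]
  exact congrArg Ideal.span (Set.ext fun y => (List.perm_cons_erase hx).mem_iff)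

lemma nodup_of_weak {A : Type u} [CommRing A] [IsLocalRing A] :
    ∀ (as : List A), (∀ x ∈ as, x ∈ maximalIdeal A) → IsWeaklyRegular A as → as.Nodup := by
  intro as hm h
  rw [List.nodup_iff_injective_get]
  intro i j hij
  by_contra hne
  wlog hlt : (i : ℕ) < j generalizing i j
  · exact this hij.symm (Ne.symm hne) (lt_of_le_of_ne (not_lt.mp hlt) (fun e => hne (Fin.ext e.symm)))
  have hr := (isWeaklyRegular_iff_Fin A as).mp h j
  set J := Ideal.ofList (as.take j) with hJ
  have hJtop : (J • ⊤ : Submodule A A) = J := by rw [smul_eq_mul, Ideal.mul_top]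
  rw [hJtop, isSMulRegular_quotient_iff_mem_of_smul_mem] at hr
  have hmem : as.get j ∈ J := by
    rw [← hij]
    exact Ideal.subset_span (List.mem_take_iff_getElem.mpr ⟨i, by omega, rfl⟩)
  have h1 : (1 : A) ∈ J := hr 1 (by simpa using hmem)
  have hle : J ≤ maximalIdeal A := Ideal.span_le.mpr fun x hx => hm x (List.take_subset _ _ hx)
  exact (maximalIdeal.isMaximal A).ne_top ((Ideal.eq_top_iff_one _).mpr (hle h1))

theorem weak_aux (n : ℕ) : ∀ {A : Type u} [CommRing A] [IsLocalRing A] [IsNoetherianRing A]
    (as bs : List A), as.length = n → bs.length = n → (∀ x ∈ as, x ∈ maximalIdeal A) →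
    IsWeaklyRegular A as → Ideal.ofList as = Ideal.ofList bs → IsWeaklyRegular A bs := by
  induction n with
  | zero =>
    intro A _ _ _ as bs _ hb _ _ _
    rw [List.length_eq_zero_iff.mp hb]
    exact IsWeaklyRegular.nil A A
  | succ n ih =>
    intro A _ _ _ as bs ha hb hm hreg heq
    classical
    have hbI : ∀ b ∈ bs, b ∈ Ideal.ofList as := fun b hb' => heq ▸ Ideal.subset_span hb'
    have hle : Ideal.ofList as ≤ maximalIdeal A := Ideal.span_le.mpr hm
    have hbm : ∀ b ∈ bs, b ∈ maximalIdeal A := fun b hb' => hle (hbI b hb')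
    obtain ⟨a, ha', b, hb', c, hc, hdiff⟩ : ∃ a ∈ as, ∃ b ∈ bs, ∃ c, IsUnit c ∧
        b - c * a ∈ Ideal.ofList (as.erase a) := by
      by_contra h
      push Not at h
      -- otherwise the ideal would be equal to its product with the maximal ideal
      have hsub : Ideal.ofList as ≤ maximalIdeal A * Ideal.ofList as := by
        conv_lhs => rw [heq]
        refine Ideal.span_le.mpr fun b hb' => ?_
        obtain ⟨l, hl⟩ := Ideal.mem_span_range_iff_exists_fun.mp
          (show b ∈ Ideal.span (Set.range as.get) by
            rw [Set.range_list_get]; exact hbI b hb')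
        rw [SetLike.mem_coe, ← hl]
        refine Ideal.sum_mem _ fun i _ => Ideal.mul_mem_mul ?_ (Ideal.subset_span (as.get_mem i))
        rw [mem_maximalIdeal]
        intro hu
        refine h (as.get i) (as.get_mem i) b hb' (l i) (by simpa using hu) ?_
        · rw [← hl, ← Finset.add_sum_erase _ _ (Finset.mem_univ i), add_sub_cancel_left]
          refine Ideal.sum_mem _ fun j hj => Ideal.mul_mem_left _ _ (Ideal.subset_span ?_)
          refine (List.mem_erase_of_ne ?_).mpr (as.get_mem j)
          intro hje
          exact (Finset.mem_erase.mp hj).1 (List.nodup_iff_injective_get.mp (nodup_of_weak as hm hreg) hje)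
      have hzero : Ideal.ofList as = ⊥ :=
        Submodule.eq_bot_of_le_smul_of_le_jacobson_bot _ _ (IsNoetherian.noetherian _)
          (by rw [smul_eq_mul]; exact hsub) (maximalIdeal_le_jacobson _)
      obtain ⟨a, t, rfl⟩ : ∃ a t, as = a :: t := by
        cases as with
        | nil => simp at ha
        | cons a t => exact ⟨a, t, rfl⟩
      have hr := ((cons_quot_iff a t).mp hreg).1
      have h0 : a = 0 := by
        have h1 : a ∈ Ideal.ofList (a :: t) := Ideal.subset_span (List.mem_cons_self)
        rw [hzero] at h1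
        exact h1
      subst h0
      exact one_ne_zero (hr (by simp : (0 : A) • (1 : A) = (0 : A) • (0 : A)))
    set as' := as.erase a with has'
    have h1 : IsWeaklyRegular A (as' ++ [a]) :=
      IsLocalRing.isWeaklyRegular_of_perm_of_subset_maximalIdeal hreg
        ((List.perm_cons_erase ha').trans (List.perm_append_singleton a as').symm) hm
    rw [isWeaklyRegular_append_iff, isWeaklyRegular_singleton_iff] at h1
    have hJ : (Ideal.ofList as' • ⊤ : Submodule A A) = Ideal.ofList as' := by
      rw [smul_eq_mul, Ideal.mul_top]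
    have h2 : IsWeaklyRegular A (as' ++ [b]) := by
      rw [isWeaklyRegular_append_iff, isWeaklyRegular_singleton_iff]
      refine ⟨h1.1, ?_⟩
      have h1' := h1.2
      rw [hJ, isSMulRegular_quotient_iff_mem_of_smul_mem] at h1' ⊢
      intro z hz
      obtain ⟨u, rfl⟩ := hc
      refine h1' _ ?_
      rw [smul_eq_mul] at hz ⊢
      have h3 : (u : A) * (a * z) ∈ Ideal.ofList as' := by
        have h4 := sub_mem hz (Ideal.mul_mem_right z _ hdiff)
        convert h4 using 1
        ring
      simpa using Ideal.mul_mem_left _ (↑u⁻¹ : A) h3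
    have hmas' : ∀ x ∈ as' ++ [b], x ∈ maximalIdeal A := by
      intro x hx
      rcases List.mem_append.mp hx with h | h
      · exact hm x (List.mem_of_mem_erase h)
      · rw [List.mem_singleton.mp h]; exact hbm b hb'
    have h5 : IsWeaklyRegular A (b :: as') :=
      IsLocalRing.isWeaklyRegular_of_perm_of_subset_maximalIdeal h2
        (List.perm_append_singleton b as') hmas'
    obtain ⟨hbreg, hq⟩ := (cons_quot_iff b as').mp h5
    set J := Ideal.span {b} with hJ'
    have hJne : J ≠ ⊤ := fun h => (maximalIdeal.isMaximal A).ne_top (top_le_iff.mp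
      (h ▸ (Ideal.span_singleton_le_iff_mem _).mpr (hbm b hb')))
    haveI : Nontrivial (A ⧸ J) := Ideal.Quotient.nontrivial_iff.mpr hJne
    haveI : IsLocalRing (A ⧸ J) :=
      IsLocalRing.of_surjective' (Ideal.Quotient.mk J) Ideal.Quotient.mk_surjective
    haveI : IsNoetherianRing (A ⧸ J) :=
      isNoetherianRing_of_surjective A _ (Ideal.Quotient.mk J) Ideal.Quotient.mk_surjective
    have key := ih (as'.map (Ideal.Quotient.mk J)) ((bs.erase b).map (Ideal.Quotient.mk J))
      (by rw [List.length_map, has', List.length_erase_of_mem ha', ha]; rfl)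
      (by rw [List.length_map, List.length_erase_of_mem hb', hb]; rfl) ?_ hq ?_
    · have h6 : IsWeaklyRegular A (b :: bs.erase b) := (cons_quot_iff b _).mpr ⟨hbreg, key⟩
      refine IsLocalRing.isWeaklyRegular_of_perm_of_subset_maximalIdeal h6
        (List.perm_cons_erase hb').symm ?_
      intro x hx
      exact hbm x ((List.perm_cons_erase hb').mem_iff.mpr hx)
    · intro x hx
      obtain ⟨y, hy, rfl⟩ := List.mem_map.mp hx
      rw [mem_maximalIdeal]
      intro hu
      obtain ⟨z, hz⟩ := hu.exists_right_inv
      obtain ⟨z, rfl⟩ := Ideal.Quotient.mk_surjective z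
      rw [← map_mul, ← map_one (Ideal.Quotient.mk J), Ideal.Quotient.eq] at hz
      have h7 : y * z - 1 ∈ maximalIdeal A :=
        (Ideal.span_singleton_le_iff_mem _).mpr (hbm b hb') hz
      have h8 : y * z ∈ maximalIdeal A := Ideal.mul_mem_right _ _ (hm y (List.mem_of_mem_erase hy))
      exact (maximalIdeal.isMaximal A).ne_top
        ((Ideal.eq_top_iff_one _).mpr (by simpa using sub_mem h8 h7))
    · rw [← Ideal.map_ofList, ← Ideal.map_ofList]
      have hkill : Ideal.map (Ideal.Quotient.mk J) J = ⊥ := Ideal.map_quotient_self J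
      have e1 : J ⊔ Ideal.ofList as' = Ideal.ofList as := by
        rw [ofList_eq_span_erase ha', ← has', hJ']
        apply le_antisymm <;> refine sup_le ?_ le_sup_right <;>
          rw [Ideal.span_singleton_le_iff_mem]
        · have h9 : b = (b - c * a) + c * a := by ring
          rw [h9]
          exact add_mem (Ideal.mem_sup_right hdiff)
            (Ideal.mem_sup_left (Ideal.mul_mem_left _ _ (Ideal.mem_span_singleton_self a)))
        · obtain ⟨u, rfl⟩ := hc
          have h9 : a = ↑u⁻¹ * b - ↑u⁻¹ * (b - u * a) := by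
            rw [← mul_sub, sub_sub_cancel, Units.inv_mul_cancel_left]
          rw [h9]
          exact sub_mem (Ideal.mem_sup_left (Ideal.mul_mem_left _ _ (Ideal.mem_span_singleton_self b)))
            (Ideal.mem_sup_right (Ideal.mul_mem_left _ _ hdiff))
      have e2 : J ⊔ Ideal.ofList (bs.erase b) = Ideal.ofList bs := (ofList_eq_span_erase hb').symm
      have e3 := congrArg (Ideal.map (Ideal.Quotient.mk J)) ((e1.trans heq).trans e2.symm)
      rwa [Ideal.map_sup, Ideal.map_sup, hkill, bot_sup_eq, bot_sup_eq] at e3


/-- In a Noetherian local ring, any minimal generating set of an ideal generated by a regular sequence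
is again a regular sequence: if a₁, …, aₙ is a regular sequence and b₁, …, bₙ are n elements
generating the same ideal, then b₁, …, bₙ is a regular sequence. (A regular sequence of length n
generating an ideal I is a minimal generating set of I, so "minimal" amounts to "of length n".) -/
theorem result {A : Type u} [CommRing A] [IsLocalRing A] [IsNoetherianRing A]
    {n : ℕ} (a b : Fin n → A) (ha : RingTheory.Sequence.IsRegular A (List.ofFn a))
    (hab : Ideal.span (Set.range a) = Ideal.span (Set.range b)) :
    RingTheory.Sequence.IsRegular A (List.ofFn b) := by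
  have hm : ∀ x ∈ List.ofFn a, x ∈ IsLocalRing.maximalIdeal A := by
    intro x hx
    have hx' : x ∈ Ideal.ofList (List.ofFn a) := Ideal.subset_span hx
    refine IsLocalRing.le_maximalIdeal (fun h => ha.top_ne_smul ?_) hx'
    rw [h]; simp
  have e : Ideal.ofList (List.ofFn a) = Ideal.ofList (List.ofFn b) := by
    have h1 : ∀ f : Fin n → A, Ideal.ofList (List.ofFn f) = Ideal.span (Set.range f) := fun f =>
      congrArg Ideal.span (Set.ext fun x => by simp [List.mem_ofFn])
    rw [h1, h1, hab]
  have hbm : ∀ x ∈ List.ofFn b, x ∈ IsLocalRing.maximalIdeal A := fun x hx =>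
    (Ideal.span_le.mpr hm : Ideal.ofList (List.ofFn a) ≤ _)
      (show x ∈ Ideal.ofList (List.ofFn a) by rw [e]; exact Ideal.subset_span hx)
  exact RingTheory.Sequence.IsRegular.of_isWeaklyRegular_of_mem_maximalIdeal A hbm
    (weak_aux n _ _ (by simp) (by simp) hm ha.toIsWeaklyRegular e)

end Groth.Agent.S0611
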