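import Groth.Statements.S7131
import Groth.Agent.Lib.DR.TorDim
import Groth.Agent.Lib.Tor.Module
import Groth.Agent.H56.AbsFlat

set_option autoImplicit false
universe u
open EtAlg

namespace Groth.Agent.S7131

open CategoryTheory CategoryTheory.Limits Groth.Agent.Lib.Tor

attribute [local instance] HasDerivedCategory.standard

theorem tor_shift {R : Type u} [CommRing R] {K F M : Type u} [AddCommGroup K] [Module R K] [AddCommGroup F]
    [Module R F] [AddCommGroup M] [Module R M] [Module.Flat R F] (ι : K →ₗ[R] F) (π : F →ₗ[R] M)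
    (hι : Function.Injective ι) (hπ : Function.Surjective π) (hex : Function.Exact ι π)
    (X : ModuleCat.{u} R) (p : ℕ) :
    IsZero (((CategoryTheory.Tor (ModuleCat.{u} R) (p + 2)).obj X).obj (ModuleCat.of R M)) ↔
      IsZero (((CategoryTheory.Tor (ModuleCat.{u} R) (p + 1)).obj X).obj (ModuleCat.of R K)) := by
  let P := projectiveResolution X
  let S : ShortComplex (ModuleCat.{u} R) := ShortComplex.mk (ModuleCat.ofHom ι) (ModuleCat.ofHom π)
    (ModuleCat.hom_ext hex.linearMap_comp_eq_zero)
  have hS : S.ShortExact :=
    { exact := (ShortComplex.moduleCat_exact_iff_ker_sub_range _).2 fun x hx => (hex x).1 hx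
      mono_f := (ModuleCat.mono_iff_injective _).2 hι
      epi_g := (ModuleCat.epi_iff_surjective _).2 hπ }
  have hT := Balance.shortExact_tensorCxFun P.complex (fun i => Balance.flat_of_projective _) S hS
  have hmid : ∀ q : ℕ, IsZero (((Balance.tensorCxFun P.complex).obj (ModuleCat.of R F)).homology (q + 1)) := fun q =>
    have : Module.Flat R (ModuleCat.of R F) := ‹Module.Flat R F›
    Balance.isZero_homology_succ_of_exactAt P.complex P.complex_exactAt_succ
      (MonoidalCategory.tensorRight (ModuleCat.of R F)) q
  have hij : (ComplexShape.down ℕ).Rel (p + 2) (p + 1) := by simp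
  have := hT.isIso_δ (p + 2) (p + 1) hij (hmid (p + 1)) (hmid p)
  let e := asIso (hT.δ (p + 2) (p + 1) hij)
  let e1 := Balance.torObjIso P (ModuleCat.of R M) (p + 2)
  let e2 := Balance.torObjIso P (ModuleCat.of R K) (p + 1)
  exact ⟨fun h => ((h.of_iso e1.symm).of_iso e.symm).of_iso e2,
    fun h => ((h.of_iso e2.symm).of_iso e).of_iso e1⟩

theorem hasTorDimLE_succ_iff {R : Type u} [CommRing R] {K F M : Type u} [AddCommGroup K] [Module R K] [AddCommGroup F]
    [Module R F] [AddCommGroup M] [Module R M] [Module.Flat R F] (ι : K →ₗ[R] F) (π : F →ₗ[R] M)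
    (hι : Function.Injective ι) (hπ : Function.Surjective π) (hex : Function.Exact ι π) (d : ℕ) :
    DRing.HasTorDimLE R (d + 1) M ↔ DRing.HasTorDimLE R d K := by
  constructor
  · intro h N _ _ p hp
    obtain ⟨q, rfl⟩ : ∃ q, p = q + 1 := ⟨p - 1, by omega⟩
    have := h N (q + 2) (by omega)
    exact ModuleCat.subsingleton_of_isZero ((((tor_shift ι π hι hπ hex _ q).1
      ((ModuleCat.isZero_of_subsingleton _).of_iso (Balance.torFlipIso _ _ _))).of_iso (Balance.torFlipIso _ _ _)))
  · intro h N _ _ p hp
    obtain ⟨q, rfl⟩ : ∃ q, p = q + 2 := ⟨p - 2, by omega⟩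
    have := h N (q + 1) (by omega)
    exact ModuleCat.subsingleton_of_isZero ((((tor_shift ι π hι hπ hex _ q).2
      ((ModuleCat.isZero_of_subsingleton _).of_iso (Balance.torFlipIso _ _ _))).of_iso (Balance.torFlipIso _ _ _)))

theorem descend {A B : Type u} [CommRing A] [CommRing B] [Algebra A B] [Algebra.WeaklyEtale A B] :
    ∀ (d : ℕ) (N : Type u) [AddCommGroup N] [Module B N] [Module A N] [IsScalarTower A B N],
      DRing.HasTorDimLE A d N → DRing.HasTorDimLE B d N := by
  intro d
  induction d with
  | zero =>
    intro N _ _ _ _ h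
    have := (Groth.Agent.Lib.DR.TorDim.hasTorDimLE_iff N 0).1 h
    have : Module.Flat A N := Groth.Agent.Lib.DR.TorDim.flat_of_bdd_zero N (by simpa using this)
    have : Module.Flat B N := Groth.Agent.H56.AbsFlat.flat_of_weaklyEtale A B N
    exact fun X _ _ p hp => Module.subsingleton_tor_of_flat_left B N X p hp
  | succ d ih =>
    intro N _ _ _ _ h
    let π : (N →₀ B) →ₗ[B] N := Finsupp.linearCombination B id
    have hπ : Function.Surjective π := Finsupp.linearCombination_id_surjective B N
    have : Module.Flat A (N →₀ B) := Module.Flat.trans A B (N →₀ B)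
    have hker : Function.Exact (LinearMap.ker π).subtype π := fun x => ⟨fun h => ⟨⟨x, h⟩, rfl⟩, fun ⟨y, hy⟩ => hy ▸ y.2⟩
    refine (hasTorDimLE_succ_iff (R := B) (K := LinearMap.ker π) (F := N →₀ B) (M := N) ((LinearMap.ker π).subtype)
      π Subtype.val_injective hπ hker d).2 (ih _ ?_)
    exact (hasTorDimLE_succ_iff ((LinearMap.ker π).subtype.restrictScalars A) (π.restrictScalars A)
      Subtype.val_injective hπ hker d).1 h


/-- Suppose A → B is weakly étale and every A-module has tor dimension at most d. Then every B-module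
has tor dimension at most d over B (weak dimension at most d ascends along weakly étale maps). -/
theorem result (A B : Type u) [CommRing A] [CommRing B] [Algebra A B]
    [Algebra.WeaklyEtale A B] (d : ℕ)
    (hA : ∀ (M : Type u) [AddCommGroup M] [Module A M], DRing.HasTorDimLE A d M)
    (N : Type u) [AddCommGroup N] [Module B N] : DRing.HasTorDimLE B d N := by
  let : Module A N := Module.compHom N (algebraMap A B)
  have : IsScalarTower A B N := IsScalarTower.of_algebraMap_smul fun _ _ => rfl
  exact descend d N (hA N)

end Groth.Agent.S7131
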