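import Groth.Statements.S8661
import Groth.Agent.Lib.Synt92.KRMor
import Groth.Agent.Lib.Synt92.KRBase
import Groth.Agent.Lib.ProjMor.QAff
import Groth.Agent.Lib.WittU.Geom

set_option autoImplicit false
universe u
open CategoryTheory CategoryTheory.Limits AlgebraicGeometry
open Synt

namespace Groth.Agent.S8661

/-- Let f : X ⟶ Y and g : Y ⟶ Z be local complete intersection morphisms in the factorisation sense
(around each point, locally of finite type and factoring as a Koszul-regular immersion followed by a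
smooth morphism). Then f ≫ g is a local complete intersection morphism in the same sense. -/
theorem result {X Y Z : Scheme.{u}} (f : X ⟶ Y) (g : Y ⟶ Z)
    (hf : ∀ x : X, Synt.IsKoszulAt f x) (hg : ∀ y : Y, Synt.IsKoszulAt g y) : ∀ x : X, Synt.IsKoszulAt (f ≫ g) x := by
  intro x
  obtain ⟨V, Q, j₀, ρ, hxV, hgV, ⟨hj₀, hjreg⟩, hρ, hgfac⟩ := hg (f x)
  haveI := hj₀
  haveI := hρ
  obtain ⟨U₀, P₀, i₀, π₀, hxU₀, hft₀, -, -, -⟩ := hf x
  haveI := hft₀
  obtain ⟨U, hU, hxU, hUle⟩ := exists_isAffineOpen_mem_and_subset (x := x) (U := U₀ ⊓ f ⁻¹ᵁ V) ⟨hxU₀, hxV⟩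
  have hUV : U ≤ f ⁻¹ᵁ V := fun y hy => (hUle hy).2
  have hUU₀ : U ≤ U₀ := fun y hy => (hUle hy).1
  let f' := f.resLE V U hUV
  have hf' : f' ≫ V.ι = U.ι ≫ f := Scheme.Hom.resLE_comp_ι _ _
  haveI hUf : LocallyOfFiniteType (U.ι ≫ f) := by
    rw [← X.homOfLE_ι hUU₀, Category.assoc]
    infer_instance
  haveI : LocallyOfFiniteType (f' ≫ V.ι) := hf' ▸ hUf
  haveI : LocallyOfFiniteType f' := locallyOfFiniteType_of_comp f' V.ι
  haveI : IsAffine (U : Scheme.{u}) := hU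
  obtain ⟨n, k, hk, hkf⟩ := Groth.Agent.Lib.ProjMor.QAff.exists_immersion f'
  haveI := hk
  let N := ULift.{u} (Fin n)
  have hsmZ : ∀ S : Scheme.{u}, Smooth (𝔸(N; S) ↘ S) := fun S =>
    Groth.Agent.Lib.WittU.Geom.smooth_affineSpace N S
  haveI := hsmZ V
  haveI := hsmZ Q
  have hsq := AffineSpace.isPullback_map (n := N) j₀
  haveI : IsImmersion (AffineSpace.map N j₀) := MorphismProperty.of_isPullback (P := @IsImmersion) hsq.flip hj₀
  haveI : LocallyOfFiniteType (V.ι ≫ g) := hgV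
  refine ⟨U, 𝔸(N; Q), k ≫ AffineSpace.map N j₀, (𝔸(N; Q) ↘ Q) ≫ ρ, hxU, ?_, ?_, inferInstance, ?_⟩
  · rw [← Category.assoc, ← hf', Category.assoc]
    infer_instance
  · refine (Groth.Agent.Lib.Synt92.KRImm.isRegularImmersion_iff _).2 ⟨inferInstance, fun w => ?_⟩
    obtain ⟨m, hm⟩ := Groth.Agent.Lib.Synt92.KRMor.exists_atN_of_koszulAt' f U.ι ((𝔸(N; V) ↘ _) ≫ V.ι) k
      (by rw [← Category.assoc, hkf, hf']) w (hf _)
    obtain ⟨e, he⟩ := (Groth.Agent.Lib.Synt92.KRImm.isRegularImmersionAt_iff _ _).1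
      (hjreg ((𝔸(N; V) ↘ _) (k w)))
    exact ⟨e + m, Groth.Agent.Lib.Synt92.KRImm.atN_comp _ _ w
      (Groth.Agent.Lib.Synt92.KRBase.atN_baseChange j₀ (𝔸(N; Q) ↘ Q) _ _ hsq.flip (k w) he) hm⟩
  · rw [Category.assoc, ← Category.assoc (AffineSpace.map N j₀), AffineSpace.map_over, Category.assoc,
      hgfac, ← Category.assoc, hkf, ← Category.assoc, hf', Category.assoc]

end Groth.Agent.S8661
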