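import Groth.Statements.S9729
import Groth.Agent.Lib.Synt92.KRImm

set_option autoImplicit false
universe u
open FlatMor

namespace Groth.Agent.S9729

open AlgebraicGeometry CategoryTheory Limits in
/-- Let f : X ⟶ Y and g : Y ⟶ S be morphisms with g smooth. If f ≫ g is a local complete intersection
morphism (Koszul at every point of X) then f is a local complete intersection morphism. -/
theorem result {X Y S : Scheme.{u}} (f : X ⟶ Y) (g : Y ⟶ S) [Smooth g]
    (h : ∀ x : X, Synt.IsKoszulAt (f ≫ g) x) (x : X) : Synt.IsKoszulAt f x := by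
  obtain ⟨U, P, i₀, π, hxU, hft, ⟨hi₀, hreg⟩, hπ, hfac⟩ := h x
  haveI := hi₀
  haveI := hπ
  haveI := hft
  have hc : i₀ ≫ π = (U.ι ≫ f) ≫ g := by rw [hfac, Category.assoc]
  let k := pullback.lift i₀ (U.ι ≫ f) hc
  haveI : IsImmersion (k ≫ pullback.fst π g) := by rw [pullback.lift_fst]; infer_instance
  haveI : IsImmersion k := IsImmersion.of_comp k (pullback.fst π g)
  haveI : LocallyOfFiniteType ((U.ι ≫ f) ≫ g) := by rw [Category.assoc]; infer_instance
  refine ⟨U, pullback π g, k, pullback.snd π g, hxU, locallyOfFiniteType_of_comp (U.ι ≫ f) g, ?_,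
    inferInstance, pullback.lift_snd _ _ _⟩
  refine (Groth.Agent.Lib.Synt92.KRImm.isRegularImmersion_iff k).2 ⟨inferInstance, fun z => ?_⟩
  exact Groth.Agent.Lib.Synt92.KRImm.exists_atN_of_below i₀ k (pullback.fst π g) (pullback.lift_fst _ _ _) z
    ((Groth.Agent.Lib.Synt92.KRImm.isRegularImmersionAt_iff _ _).1 (hreg z))

end Groth.Agent.S9729
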