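import Groth.Statements.S1354
import Groth.Agent.H56.EtaleNbhd

set_option autoImplicit false
universe u
open FlatMor

namespace Groth.Agent.S1354

open AlgebraicGeometry CategoryTheory Limits in
/-- Let f be locally of finite type, s a point of the target, and x_1, ..., x_n points over s at each of
which f is quasi-finite. Then there are an elementary étale neighbourhood (U, u) of (S, s) and, for
each i, an open V_i of the base change of X to U which is finite over U, has exactly one point v_i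
over u, and v_i maps to x_i inducing a bijection of residue fields. -/
theorem result {X S : Scheme.{u}} (f : X ⟶ S) [LocallyOfFiniteType f] (s : S) {ι : Type} [Finite ι]
    (x : ι → ↑X) (hs : ∀ i, f (x i) = s) (hx : ∀ i, f.QuasiFiniteAt (x i)) :
    ∃ (U : Scheme.{u}) (g : U ⟶ S) (u : U), Hens2.IsEtaleNbhd g u s ∧
      ∃ (V : ι → (pullback f g).Opens) (v : ι → ↑(pullback f g)), ∀ i, v i ∈ V i ∧ IsFinite ((V i).ι ≫ pullback.snd f g) ∧
        pullback.snd f g (v i) = u ∧ (∀ w : ↑(pullback f g), w ∈ V i → pullback.snd f g w = u → w = v i) ∧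
        pullback.fst f g (v i) = x i ∧ Function.Bijective ((pullback.fst f g).residueFieldMap (v i)) := by
  classical
  suffices h : ∀ F : Finset ι, ∃ (U : Scheme.{u}) (g : U ⟶ S) (u : U), Hens2.IsEtaleNbhd g u s ∧
      ∀ i ∈ F, ∃ (V : (pullback f g).Opens) (v : ↑(pullback f g)), v ∈ V ∧
        IsFinite (V.ι ≫ pullback.snd f g) ∧ pullback.snd f g v = u ∧
        (∀ w : ↑(pullback f g), w ∈ V → pullback.snd f g w = u → w = v) ∧
        pullback.fst f g v = x i ∧ Function.Bijective ((pullback.fst f g).residueFieldMap v) by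
    have := Fintype.ofFinite ι
    obtain ⟨U, g, u, hu, h⟩ := h Finset.univ
    choose V v hV using fun i => h i (Finset.mem_univ i)
    exact ⟨U, g, u, hu, V, v, hV⟩
  intro F
  induction F using Finset.induction_on with
  | empty =>
    refine ⟨S, 𝟙 S, s, ⟨inferInstance, rfl, ?_⟩, by simp⟩
    simp only [Scheme.residueFieldMap_id]
    exact Function.bijective_id
  | insert i F hi ih =>
    obtain ⟨U₁, g₁, u₁, hu₁, h₁⟩ := ih
    obtain ⟨U₂, g₂, u₂, hu₂, -, V₂, v₂, hv₂⟩ :=
      H56.EtaleNbhd.exists_isEtaleNbhd_finite_part f (x i) (hx i)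
    rw [hs i] at hu₂
    obtain ⟨U, g, u, a, b, hu, ha, hb, hau, hbu⟩ :=
      H56.EtaleNbhd.exists_common_refinement g₁ g₂ u₁ u₂ hu₁ hu₂
    refine ⟨U, g, u, hu, fun k hk => ?_⟩
    rcases Finset.mem_insert.mp hk with rfl | hk
    · subst hb
      obtain ⟨hvV, hfin, hv, huniq, hvx, -⟩ := hv₂
      obtain ⟨V', v', p₁, p₂, p₃, p₄, p₅, p₆⟩ :=
        H56.EtaleNbhd.finite_part_refine f g₂ u₂ b u hbu hu.residue_bijective V₂ v₂ hvV hfin hv
          huniq
      exact ⟨V', v', p₁, p₂, p₃, p₄, p₅.trans hvx, p₆⟩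
    · subst ha
      obtain ⟨V, v, hvV, hfin, hv, huniq, hvx, -⟩ := h₁ k hk
      obtain ⟨V', v', p₁, p₂, p₃, p₄, p₅, p₆⟩ :=
        H56.EtaleNbhd.finite_part_refine f g₁ u₁ a u hau hu.residue_bijective V v hvV hfin hv huniq
      exact ⟨V', v', p₁, p₂, p₃, p₄, p₅.trans hvx, p₆⟩

end Groth.Agent.S1354
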