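import Groth.Statements.S6971
import Groth.Agent.Lib.DR.Nilp

set_option autoImplicit false
universe u
open CategoryTheory CategoryTheory.Limits
attribute [local instance] HasDerivedCategory.standard
open DRing

open Groth.Agent.Lib.DR.Basic Groth.Agent.Lib.DR.FiniteComplex Groth.Agent.Lib.DR.PseudoCoherent Groth.Agent.Lib.DR.TopCohomology
open CategoryTheory CategoryTheory.Limits CategoryTheory.Pretriangulated
open Groth.Agent.Lib.DR Groth.Agent.Lib.DR.Representative Groth.Agent.Lib.DR.BaseChange Groth.Agent.Lib.DR.Perfect

namespace Groth.Agent.S6971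

/-- Let R' → R be a surjective homomorphism of commutative rings whose kernel is a nilpotent ideal, such
that the derived base change D(R') → D(R) exists, and let K' be an object of D(R'). Then K' ⊗^L R is
pseudo-coherent over R (isomorphic in D(R) to a bounded above complex of finite free modules) if and
only if K' is pseudo-coherent over R'. -/
theorem result {R' R : Type u} [CommRing R'] [CommRing R]
    (φ : R' →+* R) (hφ : Function.Surjective φ) (hnil : IsNilpotent (RingHom.ker φ))
    [DRing.HasLBaseChange φ] (K' : Dual.D R') :
    DRing.IsPseudoCoherent' R ((DRing.LBaseChange φ).obj K') ↔ DRing.IsPseudoCoherent' R' K' := by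
  rw [isPseudoCoherent'_iff_forall, isPseudoCoherent'_iff_forall]
  constructor
  · intro h m
    refine Nilp.pcn_of_LBC (fun _ : Fin 1 => φ) (fun _ => hφ) (Nilp.devisses_nilpotent _ hnil)
      (fun M _ _ hM => ?_) m K' (fun _ => h m)
    obtain ⟨n, hn⟩ := hnil
    have hk : ∀ k, RingHom.ker φ ^ k • (⊤ : Submodule R' M) = ⊤ := fun k => by
      induction k with
      | zero => rw [pow_zero, Ideal.one_eq_top, Submodule.top_smul]
      | succ k ih => rw [pow_succ, Submodule.mul_smul, hM 0, ih]
    have h0 := hk n
    rw [hn, Submodule.zero_eq_bot, Submodule.bot_smul] at h0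
    exact (Submodule.subsingleton_iff R').1 (subsingleton_of_bot_eq_top h0)
  · intro h m
    obtain ⟨c, hc⟩ := (h 0).exists_isLE
    exact (ba_LBaseChange φ (fun M hM => flat_of_fproj M (fproj_of_ff M hM)) (ext_ff φ)
      (ba_ff_of_forall h hc)).pcn good_ff m

end Groth.Agent.S6971
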