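import Groth.Statements.S0966
import Groth.Agent.Lib.DerivedOX.ProjClosed
import Groth.Agent.Lib.DerivedOX.PushExact
import Groth.Agent.Lib.DerivedOX.TensorCoprod
import Groth.Agent.Lib.DerivedOX.BifunctorMap
import Groth.Agent.Lib.DerivedOX.PullTensor

set_option autoImplicit false
universe u
open CategoryTheory
attribute [local instance] HasDerivedCategory.standard
open DCoh

namespace Groth.Agent.S0966

open AlgebraicGeometry CategoryTheory.Limits Groth.Agent.Lib Groth.Agent.Lib.DerivedOX

section

variable {X Y : Scheme.{u}} (f : X ⟶ Y)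

local instance (M : X.Modules) :
    (((DCoh.tensorBi (X := X)) ⋙ (Functor.whiskeringLeft _ _ _).obj (Scheme.Modules.pullback f)).obj M).Additive :=
  inferInstanceAs (Scheme.Modules.pullback f ⋙ (DCoh.tensorBi (X := X)).obj M).Additive

/-- `f_* M ⊗ N ≅ f_* (M ⊗ f^* N)`. -/
noncomputable def cmp [IsClosedImmersion f] :
    BifunctorMap.Comparison
      ((DCoh.tensorBi (X := X)) ⋙ (Functor.whiskeringLeft _ _ _).obj (Scheme.Modules.pullback f))
      (DCoh.tensorBi (X := Y)) (Scheme.Modules.pushforward f) (𝟭 _) (Scheme.Modules.pushforward f) where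
  iso a b :=
    TensorMod.Basic.comm ((Scheme.Modules.pushforward f).obj a) b ≪≫
      @asIso _ _ _ _ (Modules.ProjFormula.theta f b a) (ProjClosed.isIso_theta f b a) ≪≫
      (Scheme.Modules.pushforward f).mapIso
        (TensorMod.Basic.comm a ((Scheme.Modules.pullback f).obj b)).symm
  natural₁ {a a'} g b := by
    have h1 := TensorMod.Basic.comm_natural ((Scheme.Modules.pushforward f).map g) (𝟙 b)
    have h2 := Modules.ProjFormula.theta_natural f (E := b) g
    have h3 : (Scheme.Modules.pushforward f).map ((Modules.DualAdj.tensorL ((Scheme.Modules.pullback f).obj b)).map g) ≫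
        (Scheme.Modules.pushforward f).map (TensorMod.Basic.comm a' ((Scheme.Modules.pullback f).obj b)).inv =
        (Scheme.Modules.pushforward f).map (TensorMod.Basic.comm a ((Scheme.Modules.pullback f).obj b)).inv ≫
        (Scheme.Modules.pushforward f).map (TensorMod.Basic.tmap g (𝟙 _)) := by
      rw [← Functor.map_comp, ← Functor.map_comp]
      refine congrArg _ ((Iso.comp_inv_eq _).2 ?_)
      refine Eq.trans ?_ (((congrArg (_ ≫ ·) (TensorMod.Basic.comm_natural g
        (𝟙 ((Scheme.Modules.pullback f).obj b)))).trans (Iso.inv_hom_id_assoc _ _)).symm.trans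
          (Category.assoc _ _ _).symm)
      rfl
    simp only [Iso.trans_hom, asIso_hom, Functor.mapIso_hom, Iso.symm_hom, Functor.id_obj,
      Functor.comp_map, Functor.whiskeringLeft_obj_map, Functor.whiskerLeft_app, Category.assoc]
    rw [PullTensor.tensorBi_map_app, PullTensor.tensorBi_map_app]
    refine ((Category.assoc _ _ _).symm.trans ((congrArg (· ≫ _) h1).trans (Category.assoc _ _ _))).trans
      (congrArg ((TensorMod.Basic.comm _ _).hom ≫ ·) ?_)
    exact (Category.assoc _ _ _).symm.trans ((congrArg (· ≫ _) h2).trans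
      ((Category.assoc _ _ _).trans (congrArg (Modules.ProjFormula.theta f b a ≫ ·) h3)))
  natural₂ a {b b'} g := by
    have h1 := TensorMod.Basic.comm_natural (𝟙 ((Scheme.Modules.pushforward f).obj a)) g
    have h2 : TensorMod.Basic.tmap g (𝟙 _) ≫ Modules.ProjFormula.theta f b' a =
        Modules.ProjFormula.theta f b a ≫ (Scheme.Modules.pushforward f).map
          (TensorMod.Basic.tmap ((Scheme.Modules.pullback f).map g) (𝟙 a)) := by
      refine TensorMod.Free.hom_ext_pairM fun V x m => ?_
      rw [← Modules.TensorSec.app_tens, ← Modules.TensorSec.app_tens]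
      simp only [Scheme.Modules.Hom.comp_app, ConcreteCategory.comp_apply]
      rw [Modules.ProjFormula.theta_tens]
      refine (congrArg ((Modules.ProjFormula.theta f b' a).app V)
        (Modules.TensorSec.tmap_tens g (𝟙 _) x m)).trans ?_
      refine (Modules.ProjFormula.theta_tens f a _ _).trans ?_
      refine Eq.trans ?_ (Modules.TensorSec.tmap_tens (U := f ⁻¹ᵁ V) ((Scheme.Modules.pullback f).map g)
        (𝟙 a) _ _).symm
      exact congrArg (fun t => Modules.TensorSec.tens t _) (TensorMod.Pullback.unitSec_natural f g x)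
    have h3 : (Scheme.Modules.pushforward f).map (TensorMod.Basic.tmap ((Scheme.Modules.pullback f).map g) (𝟙 a)) ≫
        (Scheme.Modules.pushforward f).map (TensorMod.Basic.comm a ((Scheme.Modules.pullback f).obj b')).inv =
        (Scheme.Modules.pushforward f).map (TensorMod.Basic.comm a ((Scheme.Modules.pullback f).obj b)).inv ≫
        (Scheme.Modules.pushforward f).map (TensorMod.Basic.tmap (𝟙 a) ((Scheme.Modules.pullback f).map g)) := by
      rw [← Functor.map_comp, ← Functor.map_comp]
      refine congrArg _ ((Iso.comp_inv_eq _).2 ?_)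
      rw [Category.assoc, TensorMod.Basic.comm_natural, Iso.inv_hom_id_assoc]
    simp only [Iso.trans_hom, asIso_hom, Functor.mapIso_hom, Iso.symm_hom, Functor.id_map,
      Functor.comp_obj, Functor.whiskeringLeft_obj_obj, Functor.comp_map, Category.assoc]
    rw [PullTensor.tensorBi_obj_map, PullTensor.tensorBi_obj_map]
    refine ((Category.assoc _ _ _).symm.trans ((congrArg (· ≫ _) h1).trans (Category.assoc _ _ _))).trans
      (congrArg ((TensorMod.Basic.comm _ _).hom ≫ ·) ?_)
    exact (Category.assoc _ _ _).symm.trans ((congrArg (· ≫ _) h2).trans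
      ((Category.assoc _ _ _).trans (congrArg (Modules.ProjFormula.theta f b a ≫ ·) h3)))

/-- `a ⊗ f^* b`, compared with itself. -/
noncomputable def cmp' :
    BifunctorMap.Comparison
      ((DCoh.tensorBi (X := X)) ⋙ (Functor.whiskeringLeft _ _ _).obj (Scheme.Modules.pullback f))
      (DCoh.tensorBi (X := X)) (𝟭 _) (Scheme.Modules.pullback f) (𝟭 _) where
  iso a b := Iso.refl _
  natural₁ _ _ := (Category.comp_id _).trans (Category.id_comp _).symm
  natural₂ _ _ _ _ := (Category.comp_id _).trans (Category.id_comp _).symm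

theorem nonempty_cxIso [IsClosedImmersion f] (R : CochainComplex X.Modules ℤ)
    (P : CochainComplex Y.Modules ℤ) :
    Nonempty ((DCoh.tensorCx.obj
        (((Scheme.Modules.pushforward f).mapHomologicalComplex (ComplexShape.up ℤ)).obj R)).obj P ≅
      ((Scheme.Modules.pushforward f).mapHomologicalComplex (ComplexShape.up ℤ)).obj
        ((DCoh.tensorCx.obj R).obj
          (((Scheme.Modules.pullback f).mapHomologicalComplex (ComplexShape.up ℤ)).obj P))) := by
  haveI : PreservesColimitsOfSize.{0, 0} (Scheme.Modules.pushforward f) :=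
    preservesSmallestColimits_of_preservesColimits _
  let pc := (Scheme.Modules.pushforward f).mapHomologicalComplex (ComplexShape.up ℤ)
  exact ⟨((DCoh.tensorCx.obj (pc.obj R)).mapIso
      ((Functor.mapHomologicalComplexIdIso Y.Modules (ComplexShape.up ℤ)).app P).symm) ≪≫
    BifunctorMap.totalIso (cmp f) R P ≪≫
    pc.mapIso (((Functor.mapHomologicalComplexIdIso X.Modules (ComplexShape.up ℤ)).app _).symm ≪≫
      (BifunctorMap.totalIso (cmp' f) R P).symm ≪≫
      ((DCoh.tensorCx (X := X)).mapIso
        ((Functor.mapHomologicalComplexIdIso X.Modules (ComplexShape.up ℤ)).app R)).app _)⟩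

end

open AlgebraicGeometry in
/-- Schemes, f a closed immersion; K given by a K-flat complex P so that Lf^*K is f^*P: for E in D(O_X)
there is an isomorphism Rf_* E ⊗^L P ≅ Rf_*(E ⊗^L f^* P), with no perfectness assumption on P. The
derived functors are taken under their existence binders. -/
theorem result {X Y : Scheme.{u}} (f : X ⟶ Y) [IsClosedImmersion f] [DCoh.HasRpush f]
    (P : CochainComplex Y.Modules ℤ) (hP : DCoh.IsKFlat P)
    [DCoh.HasLTensorCx P] [DCoh.HasLTensorCx (((Scheme.Modules.pullback f).mapHomologicalComplex (ComplexShape.up ℤ)).obj P)] (E : DCoh.D X) :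
    Nonempty ((DCoh.LTensorCx P).obj ((DCoh.Rpush f).obj E) ≅
      (DCoh.Rpush f).obj ((DCoh.LTensorCx (((Scheme.Modules.pullback f).mapHomologicalComplex (ComplexShape.up ℤ)).obj P)).obj E)) := by
  haveI := DerivedOX.PushExact.preservesFiniteColimits_pushforward f
  let P' := ((Scheme.Modules.pullback f).mapHomologicalComplex (ComplexShape.up ℤ)).obj P
  let K' := DerivedCategory.Q.objPreimage E
  let R := (KFlat.res X).obj K'
  haveI : QuasiIso ((KFlat.aug X).app K') := KFlat.quasiIso_aug K'
  let eE : DerivedCategory.Q.obj R ≅ E :=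
    asIso (DerivedCategory.Q.map ((KFlat.aug X).app K')) ≪≫ DerivedCategory.Q.objObjPreimageIso E
  let fR := ((Scheme.Modules.pushforward f).mapHomologicalComplex (ComplexShape.up ℤ)).obj R
  obtain ⟨eR⟩ := PushExact.nonempty_iso f R
  obtain ⟨eT⟩ := PushExact.nonempty_iso f ((DCoh.tensorCx.obj R).obj P')
  obtain ⟨ec⟩ := nonempty_cxIso f R P
  haveI := TensorCoprod.isIso_counit_app_of_isKFlat P' (DCoh.LTensorCx P')
    ((DCoh.tensorCxQ P').totalLeftDerivedCounit DerivedCategory.Q
      (HomologicalComplex.quasiIso X.Modules (.up ℤ))) (KFlat.isKFlat_res K')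
  haveI : QuasiIso ((KFlat.aug Y).app fR) := KFlat.quasiIso_aug fR
  haveI : IsIso ((DCoh.tensorCxQ P).map ((KFlat.aug Y).app fR)) :=
    Localization.inverts DerivedCategory.Q (HomologicalComplex.quasiIso Y.Modules (.up ℤ)) _
      (LeftExists.quasiIso_tensor_right hP _)
  haveI := LeftDerived.isIso_counit_app (LeftExists.isAdapted_tensorCxQ P) DerivedCategory.Q
    (DCoh.LTensorCx P) ((DCoh.tensorCxQ P).totalLeftDerivedCounit DerivedCategory.Q
      (HomologicalComplex.quasiIso Y.Modules (.up ℤ))) fR
  exact ⟨(DCoh.LTensorCx P).mapIso ((DCoh.Rpush f).mapIso eE.symm ≪≫ eR) ≪≫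
    asIso (((DCoh.tensorCxQ P).totalLeftDerivedCounit DerivedCategory.Q
      (HomologicalComplex.quasiIso Y.Modules (.up ℤ))).app fR) ≪≫
    DerivedCategory.Q.mapIso ec ≪≫ eT.symm ≪≫
    (DCoh.Rpush f).mapIso ((asIso (((DCoh.tensorCxQ P').totalLeftDerivedCounit DerivedCategory.Q
      (HomologicalComplex.quasiIso X.Modules (.up ℤ))).app R)).symm ≪≫
        (DCoh.LTensorCx P').mapIso eE)⟩

end Groth.Agent.S0966
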