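import Groth.Statements.S5186
import Groth.Agent.Lib.SchColim29.CohPush

set_option autoImplicit false
set_option linter.style.haveILetI false
set_option linter.unusedSectionVars false
universe u
open CategoryTheory AlgebraicGeometry
open Coherent

namespace Groth.Agent.S5186

open CategoryTheory CategoryTheory.Limits AlgebraicGeometry Pretriangulated DerivedCategory
open Groth.Agent.Lib Groth.Agent.Lib.DerivedOX
open Groth.Agent.Lib.SpecSeq.RightHom Groth.Agent.Lib.SpecSeq.AcyclicComplex
open Groth.Agent.Lib.WayOut.Bounded Groth.Agent.Lib.WayOut.Scheme Groth.Agent.Lib.SchColim29.CohPush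

attribute [local instance] HasDerivedCategory.standard

theorem isProperOver_support {X S : Scheme.{u}} (f : X ⟶ S) [IsProper f] (M : X.Modules)
    (h : IsClosed (CohB1.support M)) : ClSub.IsProperOver f (CohB1.support M) :=
  ⟨h, inferInstance⟩

/-- Coherent cohomology sheaves through degree `n` push forward to coherent ones. -/
theorem key {X S : Scheme.{u}} (f : X ⟶ S) [IsProper f] [IsLocallyNoetherian S] (E : DCoh.D X) [E.IsGE 0]
    (n : ℤ) (hE : ∀ i, i ≤ n → Coh.IsCoh (DCoh.HD E i)) (i : ℤ) (hi : i ≤ n) :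
    Coh.IsCoh ((RH (RpushQCoh.P f) i).obj E) := by
  haveI : IsLocallyNoetherian X := LocallyOfFiniteType.isLocallyNoetherian f
  let b := n + 1
  let Y' := (TStructure.t.truncLT b).obj E
  let Y'' := (TStructure.t.truncGE b).obj E
  haveI : Y'.IsGE 0 := isGE_truncLT E b 0
  haveI : Y''.IsGE b := (inferInstance : TStructure.t.IsGE Y'' b)
  have hY' : HasP (PS f) Y' := fun j => by
    have hc : Coh.IsCoh ((homologyFunctor X.Modules j).obj Y') := by
      by_cases hj : j < b
      · haveI := isIso_homologyMap_truncLTι E b j hj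
        exact CohBasics.Closure.isCoh_of_iso
          (asIso ((homologyFunctor X.Modules j).map ((TStructure.t.truncLTι b).app E))).symm
          (hE j (by omega))
      · exact isCoh_of_isZero (@isZero_of_isLE _ _ _ _ _ (b - 1) j (by omega)
          (inferInstance : TStructure.t.IsLE Y' (b - 1)))
    haveI := hc.1
    haveI := hc.2
    exact ⟨hc, isProperOver_support f _ (Modules.Support.isClosed_support _)⟩
  have h1 := isCoh_RH_isGE f Y' hY' 0
  let P := RpushQCoh.P f
  have hT := TStructure.t.triangleLTGE_distinguished b E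
  have z0 : IsZero ((RH P i).obj Y'') := isZero_RH_of_isGE P Y'' b i (by omega)
  have z1 : IsZero ((RH P (i - 1)).obj Y'') := isZero_RH_of_isGE P Y'' b (i - 1) (by omega)
  let m : (RH P i).obj Y' ⟶ (RH P i).obj E := (RH P i).map ((TStructure.t.triangleLTGE b).obj E).mor₁
  haveI : Mono m :=
    ((RH0 P).homologySequence_exact₁ _ hT (i - 1) i (by omega)).mono_g (z1.eq_of_src _ _)
  haveI : Epi m := ((RH0 P).homologySequence_exact₂ _ hT i).epi_f (z0.eq_of_tgt _ _)
  haveI := isIso_of_mono_of_epi m
  exact CohBasics.Closure.isCoh_of_iso (asIso m) (h1 i)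

/-- Let f : X → S be a proper morphism of schemes with S locally Noetherian, U an open subset of X with
inclusion g : U → X, h = f ∘ g : U → S, F an O_U-module and n ≥ 0. If the higher direct images R^i
g_*(F) are coherent O_X-modules for all i ≤ n, then the higher direct images R^i h_*(F) are coherent
O_S-modules for all i ≤ n. (The existence of injective resolutions in the module categories is
carried as instance arguments.) -/
theorem result {X S : Scheme.{u}} (f : X ⟶ S) [IsProper f] [IsLocallyNoetherian S] (U : X.Opens) [HasInjectiveResolutions (U : Scheme.{u}).Modules] [HasInjectiveResolutions X.Modules] (F : (U : Scheme.{u}).Modules) (n : ℕ) (hg : ∀ i : ℕ, i ≤ n → Coh.IsCoh ((Coh.Rpush U.ι i).obj F)) (i : ℕ) (hi : i ≤ n) : Coh.IsCoh ((Coh.Rpush (U.ι ≫ f) i).obj F) := by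
  haveI := Exists.hasRpush U.ι
  haveI := Exists.hasRpush f
  haveI := Exists.hasRpush (U.ι ≫ f)
  let K := (singleFunctor (U : Scheme.{u}).Modules 0).obj F
  let E := (DCoh.Rpush U.ι).obj K
  haveI : IsLocallyNoetherian X := LocallyOfFiniteType.isLocallyNoetherian f
  haveI : E.IsGE 0 := Rpush_isGE U.ι K 0
  obtain ⟨a⟩ := RpushQCoh.nonempty_HD_Rpush f E i
  obtain ⟨b⟩ := RpushQCoh.nonempty_HD_Rpush (U.ι ≫ f) K i
  obtain ⟨c⟩ := RpushQCoh.nonempty_RS_iso (U.ι ≫ f) F i
  let r := (homologyFunctor S.Modules (i : ℤ)).mapIso ((PullComp.rpushCompIso U.ι f).app K)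
  refine CohBasics.Closure.isCoh_of_iso (a.symm ≪≫ r ≪≫ b ≪≫ c) ?_
  refine key f E n (fun j hj => ?_) i (by exact_mod_cast hi)
  haveI : IsLocallyNoetherian X := LocallyOfFiniteType.isLocallyNoetherian f
  by_cases hj0 : 0 ≤ j
  · obtain ⟨k, rfl⟩ := Int.eq_ofNat_of_zero_le hj0
    obtain ⟨d⟩ := RpushQCoh.nonempty_HD_Rpush U.ι K k
    obtain ⟨e⟩ := RpushQCoh.nonempty_RS_iso U.ι F k
    exact CohBasics.Closure.isCoh_of_iso (d ≪≫ e).symm (hg k (by exact_mod_cast hj))
  · exact isCoh_of_isZero (isZero_of_isGE E 0 j (by omega))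

end Groth.Agent.S5186
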