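import Groth.Statements.S2079
import Groth.Agent.Lib.Lim.Approx.Proper
-- import your own Groth.Agent.* helpers here

set_option autoImplicit false
universe u
open CategoryTheory AlgebraicGeometry
open Lim

namespace Groth.Agent.S2079
set_option backward.isDefEq.respectTransparency false
open CategoryTheory.Limits

/-- Let `f : X → S` be proper with `S` quasi-compact and quasi-separated. Then `X` is the limit of a
cofiltered diagram of `S`-schemes which are proper and of finite presentation over `S`, with all
transition morphisms and all projections `X → X_i` closed immersions. -/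
theorem result {X S : Scheme.{u}} (f : X ⟶ S) [IsProper f] [CompactSpace S]
    [QuasiSeparatedSpace S] :
    ∃ (I : Type u) (_ : SmallCategory I) (_ : IsCofiltered I) (D : I ⥤ Over S) (c : Limits.Cone D)
      (_ : Limits.IsLimit c) (e : c.pt ≅ Over.mk f),
      (∀ (i j : I) (a : i ⟶ j), IsClosedImmersion (D.map a).left) ∧
      (∀ i, IsClosedImmersion (c.π.app i).left ∧ IsProper (D.obj i).hom ∧
        LocallyOfFinitePresentation (D.obj i).hom) := by
  obtain ⟨R, hcl, hπ, hp⟩ := Groth.Agent.Lib.Lim.Approx.Proper.exists_properApprox f
  exact ⟨R.Kᵒᵖ, inferInstance, inferInstance, R.overD, R.overCone, R.isLimitOverCone, Iso.refl _,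
    fun i j a => hcl a, fun i => ⟨hπ i, hp i, R.lfp i⟩⟩

end Groth.Agent.S2079
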