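import Groth.Statements.S14352
import Groth.Agent.H75.BaseChange.Nhd
import Groth.Agent.H75.BaseChange.OverField

set_option autoImplicit false
universe u
open Mor

namespace Groth.Agent.S14352

open CategoryTheory CategoryTheory.Limits AlgebraicGeometry in
/-- A morphism of schemes f : X → S which is locally of finite presentation is unramified (formally
unramified) if and only if all its geometric fibres are reduced with discrete underlying space: for
every algebraically closed field K and every S-point Spec K → S, the fibre product X ×_S Spec K is a
reduced scheme whose topological space is discrete. -/
theorem result {X S : Scheme.{u}} (f : X ⟶ S)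
    [LocallyOfFinitePresentation f] :
    FormallyUnramified f ↔
      ∀ (K : Type u) [Field K] [IsAlgClosed K] (s : Spec (CommRingCat.of K) ⟶ S),
        IsReduced (pullback f s) ∧ DiscreteTopology ↥(pullback f s) := by
    constructor
    · intro h K _ _ s
      haveI : FormallyUnramified (pullback.snd f s) := MorphismProperty.pullback_snd _ _ h
      have := H75.BaseChange.etale_of_formallyUnramified (pullback.snd f s)
      exact ⟨H75.BaseChange.isReduced_of_etale (pullback.snd f s),
        S0658.discreteTopology K (pullback.snd f s)⟩
    · intro h
      refine H75.BaseChange.formallyUnramified_of_field_points f fun x => ?_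
      let K := AlgebraicClosure (S.residueField (f.base x))
      let g : Spec (CommRingCat.of K) ⟶ S :=
        Spec.map (CommRingCat.ofHom (algebraMap (S.residueField (f.base x)) K)) ≫
          S.fromSpecResidueField (f.base x)
      obtain ⟨z, hz, -⟩ := Scheme.exists_preimage_of_isPullback (IsPullback.of_hasPullback f g) x
        (IsLocalRing.closedPoint K)
        (by rw [Scheme.Hom.comp_apply, Scheme.fromSpecResidueField_apply])
      obtain ⟨h1, h2⟩ := h K g
      have := H75.BaseChange.etale_of_isReduced_of_discrete (pullback.snd f g)
      exact ⟨_, g, z, hz, inferInstance⟩

end Groth.Agent.S14352
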