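import Groth.Statements.S18905
import Mathlib.AlgebraicGeometry.Morphisms.FormallyUnramified
import Mathlib.AlgebraicGeometry.Morphisms.FiniteType
import Mathlib.RingTheory.Kaehler.Basic
import Mathlib.RingTheory.Jacobson.Ring
import Mathlib.FieldTheory.IsAlgClosed.Basic
import Mathlib.RingTheory.SimpleModule.Basic

set_option autoImplicit false
universe u
open CategoryTheory CategoryTheory.Limits AlgebraicGeometry
open Mor

namespace Groth.Agent.S18905

open CategoryTheory CategoryTheory.Limits AlgebraicGeometry

open scoped Classical in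
theorem formallyUnramified_of_dualNumber (k A : Type u) [Field k] [IsAlgClosed k] [CommRing A] [Algebra k A]
    [Algebra.FiniteType k A]
    (h : ∀ f g : A →ₐ[k] DualNumber k,
      (TrivSqZeroExt.fstHom k k k).comp f = (TrivSqZeroExt.fstHom k k k).comp g → f = g) :
    Algebra.FormallyUnramified k A := by
  rw [Algebra.formallyUnramified_iff]
  by_contra hne
  rw [not_subsingleton_iff_nontrivial] at hne
  haveI : Module.Finite A Ω[A⁄k] := KaehlerDifferential.finite k A
  obtain ⟨N, hN, -⟩ := (eq_top_or_exists_le_coatom (⊥ : Submodule A Ω[A⁄k])).resolve_left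
    (fun e => bot_ne_top e)
  haveI : IsSimpleModule A (Ω[A⁄k] ⧸ N) := isSimpleModule_iff_isCoatom.mpr hN
  obtain ⟨M, hM, ⟨e⟩⟩ := (isSimpleModule_iff_quot_maximal (R := A) (M := Ω[A⁄k] ⧸ N)).mp inferInstance
  haveI := hM
  letI := Ideal.Quotient.field M
  haveI : Module.Finite k (A ⧸ M) := finite_of_finite_type_of_isJacobsonRing k (A ⧸ M)
  have hb := IsAlgClosed.algebraMap_bijective_of_isIntegral (k := k) (K := A ⧸ M)
  let ev : A →ₐ[k] k := (AlgEquiv.ofBijective (Algebra.ofId k (A ⧸ M)) hb).symm.toAlgHom.comp
    (Ideal.Quotient.mkₐ k M)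
  letI := ev.toRingHom.toAlgebra
  haveI : IsScalarTower k A k := .of_algebraMap_eq fun c => (ev.commutes c).symm
  let e2 : (A ⧸ M) ≃ₗ[A] k :=
    { (AlgEquiv.ofBijective (Algebra.ofId k (A ⧸ M)) hb).symm.toAddEquiv with
      map_smul' := fun a x => by
        change (AlgEquiv.ofBijective _ hb).symm (Ideal.Quotient.mk M a * x) = ev a * _
        rw [map_mul]
        rfl }
  let l : Ω[A⁄k] →ₗ[A] k := e2.toLinearMap.comp (e.toLinearMap.comp N.mkQ)
  have hl : Function.Surjective l :=
    e2.surjective.comp (e.surjective.comp N.mkQ_surjective)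
  let d : Derivation k A k := l.compDer (KaehlerDifferential.D k A)
  have hd : ∀ a b : A, d (a * b) = ev a * d b + ev b * d a := fun a b => d.leibniz a b
  let χ : A →ₐ[k] DualNumber k := AlgHom.ofLinearMap
    { toFun := fun a => (TrivSqZeroExt.inl (ev a) + TrivSqZeroExt.inr (d a) : DualNumber k)
      map_add' := fun a b => by ext <;> simp
      map_smul' := fun c a => by ext <;> simp }
    (by ext <;> simp)
    (fun a b => by ext <;> simp [hd]; ring)
  let χ₀ : A →ₐ[k] DualNumber k := (Algebra.ofId k (DualNumber k)).comp ev
  have heq : χ = χ₀ := h χ χ₀ (AlgHom.ext fun a => by simp [χ, χ₀])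
  have hd0 : ∀ a, d a = 0 := fun a => by
    simpa [χ, χ₀, TrivSqZeroExt.algebraMap_eq_inl] using congrArg TrivSqZeroExt.snd (DFunLike.congr_fun heq a)
  obtain ⟨w, hw⟩ := hl 1
  have hw' : w ∈ LinearMap.ker l := by
    have : (⊤ : Submodule A Ω[A⁄k]) ≤ LinearMap.ker l := by
      rw [← KaehlerDifferential.span_range_derivation, Submodule.span_le]
      rintro _ ⟨a, rfl⟩
      exact hd0 a
    exact this trivial
  rw [LinearMap.mem_ker, hw] at hw'
  exact one_ne_zero hw'

/-- Let k be an algebraically closed field and X a scheme locally of finite type over k. Then X → Spec k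
is formally unramified if and only if the map Hom_k(Spec k[ε], X) → Hom_k(Spec k, X) given by
restricting along the closed immersion of Spec k into Spec k[ε] (k[ε] the ring of dual numbers, ε ↦
0), is bijective; since that map is always surjective, the condition is stated as injectivity: two
k-morphisms from Spec k[ε] to X which agree on Spec k are equal. -/
theorem result (k : Type u) [Field k] [IsAlgClosed k]
    {X : Scheme.{u}} (p : X ⟶ Spec (CommRingCat.of k)) [LocallyOfFiniteType p] :
    FormallyUnramified p ↔
      ∀ v₁ v₂ : Spec (CommRingCat.of (DualNumber k)) ⟶ X,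
        v₁ ≫ p = Spec.map (CommRingCat.ofHom (algebraMap k (DualNumber k))) →
        v₂ ≫ p = Spec.map (CommRingCat.ofHom (algebraMap k (DualNumber k))) →
        Spec.map (CommRingCat.ofHom (TrivSqZeroExt.fstHom k k k).toRingHom) ≫ v₁ =
          Spec.map (CommRingCat.ofHom (TrivSqZeroExt.fstHom k k k).toRingHom) ≫ v₂ →
        v₁ = v₂ := by
    let red : CommRingCat.of (DualNumber k) ⟶ CommRingCat.of k :=
      CommRingCat.ofHom (TrivSqZeroExt.fstHom k k k).toRingHom
    have hred : Function.Surjective red.hom := fun c => ⟨TrivSqZeroExt.inl c, by simp [red]⟩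
    constructor
    · intro hp v₁ v₂ h₁ h₂ he
      have : IsClosedImmersion (Spec.map red) := IsClosedImmersion.spec_of_surjective red hred
      refine FormallyUnramified.hom_ext (Spec.map red) ?_ p he (h₁.trans h₂.symm)
      refine ⟨2, Scheme.IdealSheafData.ext_of_isAffine ?_⟩
      rw [Scheme.IdealSheafData.ideal_pow, Scheme.IdealSheafData.zero_eq_bot,
        Scheme.IdealSheafData.ideal_bot, Pi.bot_apply, Pi.pow_apply, Scheme.ker_of_isAffine,
        Scheme.IdealSheafData.ofIdealTop_ideal, eq_bot_iff, pow_two]
      refine Ideal.mul_le.mpr fun a ha b hb => ?_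
      simp only [homOfLE_leOfHom, homOfLE_refl, op_id, CategoryTheory.Functor.map_id, CommRingCat.hom_id,
        Ideal.map_id, RingHom.mem_ker] at ha hb
      have hk : ∀ x, (Spec.map red).appTop.hom x = 0 →
          TrivSqZeroExt.fst ((Scheme.ΓSpecIso _).hom.hom x) = 0 := fun x hx => by
        have := congrArg (fun r => r.hom x) (Scheme.ΓSpecIso_naturality red)
        simp only [CommRingCat.hom_comp, RingHom.comp_apply, hx, map_zero] at this
        exact this.symm
      rw [Ideal.mem_bot]
      refine (Scheme.ΓSpecIso (CommRingCat.of (DualNumber k))).commRingCatIsoToRingEquiv.injective ?_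
      rw [map_mul, map_zero]
      have e0 : ∀ u v : DualNumber k, TrivSqZeroExt.fst u = 0 → TrivSqZeroExt.fst v = 0 → u * v = 0 :=
        fun u v hu hv => TrivSqZeroExt.ext (by simp [hu]) (by simp [hu, hv])
      exact e0 _ _ (hk a ha) (hk b hb)
    · intro h
      have key : ∀ U : X.affineOpens, FormallyUnramified (U.1.ι ≫ p) := by
        intro U
        let φ : CommRingCat.of k ⟶ Γ(X, U.1) := Spec.preimage (U.2.fromSpec ≫ p)
        have hφ : Spec.map φ = U.2.fromSpec ≫ p := Spec.map_preimage _
        have hft : LocallyOfFiniteType (Spec.map φ) := by rw [hφ]; infer_instance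
        rw [HasRingHomProperty.Spec_iff (P := @LocallyOfFiniteType)] at hft
        algebraize [φ.hom]
        have hA : Algebra.FormallyUnramified k Γ(X, U.1) := by
          refine formallyUnramified_of_dualNumber k Γ(X, U.1) fun f g hfg => ?_
          have hc : ∀ f : Γ(X, U.1) →ₐ[k] DualNumber k,
              (Spec.map (CommRingCat.ofHom f.toRingHom) ≫ U.2.fromSpec) ≫ p =
                Spec.map (CommRingCat.ofHom (algebraMap k (DualNumber k))) := fun f => by
            rw [Category.assoc, ← hφ, ← Spec.map_comp]
            exact congrArg Spec.map (CommRingCat.hom_ext f.comp_algebraMap)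
          have he := h _ _ (hc f) (hc g) (by
            rw [← Spec.map_comp_assoc, ← Spec.map_comp_assoc, ← CommRingCat.ofHom_comp,
              ← CommRingCat.ofHom_comp]
            rw [show (TrivSqZeroExt.fstHom k k k).toRingHom.comp f.toRingHom =
              (TrivSqZeroExt.fstHom k k k).toRingHom.comp g.toRingHom from
                congrArg AlgHom.toRingHom hfg])
          rw [cancel_mono, Spec.map_inj] at he
          exact AlgHom.coe_ringHom_injective (congrArg CommRingCat.Hom.hom he)
        have hFU : FormallyUnramified (Spec.map φ) := by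
          rw [HasRingHomProperty.Spec_iff (P := @FormallyUnramified)]
          exact hA
        rw [hφ] at hFU
        rw [← U.2.isoSpec_hom_fromSpec, Category.assoc]
        exact MorphismProperty.comp_mem @FormallyUnramified _ _ inferInstance hFU
      exact (IsZariskiLocalAtSource.iff_of_openCover (P := @FormallyUnramified)
        (X.openCoverOfIsOpenCover (fun U : X.affineOpens => U.1) (.mk (iSup_affineOpens_eq_top X)))).mpr key

end Groth.Agent.S18905
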