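import Groth.Statements.S17518
import Groth.Statements.S17518
import Groth.Agent.H58LFT.Diagram
import Groth.Agent.S14779
import Groth.Agent.H14.FppfDesc.Scheme
import Groth.Agent.H54.ThickFG
import Groth.Agent.Lib.Subtrusive.Noetherian
import Groth.Agent.Lib.DvrCrit.Curve
-- import your own Groth.Agent.* helpers here


set_option autoImplicit false
set_option backward.isDefEq.respectTransparency false
set_option linter.style.haveILetI false
open CategoryTheory.Limits
universe u
open CategoryTheory AlgebraicGeometry
open HTop


namespace Groth.Agent.S17518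

/-- The reduced affine case. -/
theorem finiteType_reduced (A B : Type u) [CommRing A] [IsNoetherianRing A] [CommRing B] [IsNoetherianRing B]
    [_root_.IsReduced B] [Algebra A B] {X' : Scheme.{u}} [IsNoetherian X'] (f : X' ⟶ Spec (CommRingCat.of B))
    (hf : SGA1.UnivSubmersive f)
    [LocallyOfFiniteType (f ≫ Spec.map (CommRingCat.ofHom (algebraMap A B)))] : Algebra.FiniteType A B := by
  let a := Spec.map (CommRingCat.ofHom (algebraMap A B))
  haveI : LocallyOfFiniteType f := AlgebraicGeometry.locallyOfFiniteType_of_comp f a
  haveI : LocallyOfFinitePresentation f := Groth.Agent.Lib.DvrCrit.lfp_of_lft f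
  haveI : QuasiSeparated f := inferInstance
  obtain ⟨X'', Y', h, p, q, hw, hpf, hps, hpl, hpc, hpq, hqp, hqs, hql⟩ :=
    Groth.Agent.S14779.result f (Or.inl inferInstance)
      (Groth.Agent.Lib.Subtrusive.Noetherian.univSSubtrusive_of_univSubmersive f hf)
  haveI := hpf; haveI := hps; haveI := hpl; haveI := hqp; haveI := hqs; haveI := hql
  haveI : LocallyOfFiniteType (h ≫ f) := by rw [hw]; infer_instance
  haveI : LocallyOfFiniteType h := AlgebraicGeometry.locallyOfFiniteType_of_comp h f
  haveI : LocallyOfFiniteType (q ≫ a) :=
    Groth.Agent.H14.FppfDesc.Scheme.locallyOfFiniteType_of_comp p (q ≫ a) (by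
      rw [← Category.assoc, ← hw, Category.assoc]; infer_instance)
  exact Groth.Agent.H58LFT.finiteType_of_proper_surjective A B q

/-- The affine case. -/
theorem finiteType_affine (A B : Type u) [CommRing A] [IsNoetherianRing A] [CommRing B] [IsNoetherianRing B]
    [Algebra A B] {X' : Scheme.{u}} [IsNoetherian X'] (f : X' ⟶ Spec (CommRingCat.of B))
    (hf : SGA1.UnivSubmersive f)
    [LocallyOfFiniteType (f ≫ Spec.map (CommRingCat.ofHom (algebraMap A B)))] : Algebra.FiniteType A B := by
  let i := Spec.map (CommRingCat.ofHom (Ideal.Quotient.mk (nilradical B)))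
  haveI : IsClosedImmersion i := IsClosedImmersion.spec_of_surjective _ Ideal.Quotient.mk_surjective
  haveI : _root_.IsReduced (B ⧸ nilradical B) :=
    (Ideal.isRadical_iff_quotient_reduced _).1 (nilradical B).radical_isRadical |> fun h => by
      first | exact h | exact (Ideal.isRadical_iff_quotient_reduced _).1 (Ideal.radical_isRadical _)
  let P := pullback f i
  haveI : IsClosedImmersion (pullback.fst f i) := MorphismProperty.pullback_fst (P := @IsClosedImmersion) f i inferInstance
  haveI : IsLocallyNoetherian P := LocallyOfFiniteType.isLocallyNoetherian (pullback.fst f i)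
  haveI : CompactSpace P := QuasiCompact.compactSpace_of_compactSpace (pullback.fst f i)
  haveI : IsNoetherian P := ⟨⟩
  have e : Spec.map (CommRingCat.ofHom (algebraMap A (B ⧸ nilradical B))) =
      i ≫ Spec.map (CommRingCat.ofHom (algebraMap A B)) := by
    rw [← Spec.map_comp]; rfl
  haveI : LocallyOfFiniteType (pullback.snd f i ≫ Spec.map (CommRingCat.ofHom (algebraMap A (B ⧸ nilradical B)))) := by
    rw [e, ← pullback.condition_assoc]; infer_instance
  haveI : Algebra.FiniteType A (B ⧸ nilradical B) := finiteType_reduced A (B ⧸ nilradical B) (pullback.snd f i)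
    (Groth.Agent.Lib.Subtrusive.Submersive.univSubmersive_of_isPullback (IsPullback.of_hasPullback f i) hf)
  exact Groth.Agent.H54.ThickFG.finiteType_of_nilpotent_fg (nilradical B) (IsNoetherian.noetherian _)
    (IsNoetherianRing.isNilpotent_nilradical B)

end Groth.Agent.S17518

namespace Groth.Agent.S17518

/-- Let `f : X' ⟶ X` be a universally submersive morphism of Noetherian schemes (every base change of
`f` is a quotient map of topological spaces) and `g : X ⟶ Y` a morphism to a Noetherian scheme. If
`f ≫ g` is locally of finite type, then `g` is locally of finite type. (Both morphisms are then of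
finite type, their sources being Noetherian.) -/
theorem result
    {X' X Y : Scheme.{u}} [IsNoetherian X'] [IsNoetherian X] [IsNoetherian Y]
    (f : X' ⟶ X) (hf : SGA1.UnivSubmersive f) (g : X ⟶ Y)
    [LocallyOfFiniteType (f ≫ g)] : LocallyOfFiniteType g := by
  refine ⟨fun {V} hV {U} hU e => ?_⟩
  haveI : IsNoetherianRing Γ(Y, V) := IsLocallyNoetherian.component_noetherian ⟨V, hV⟩
  haveI : IsNoetherianRing Γ(X, U) := IsLocallyNoetherian.component_noetherian ⟨U, hU⟩
  let φ := g.appLE V U e
  letI : Algebra Γ(Y, V) Γ(X, U) := φ.hom.toAlgebra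
  let P := pullback f hU.fromSpec
  haveI : QuasiCompact f := inferInstance
  haveI : IsLocallyNoetherian P := LocallyOfFiniteType.isLocallyNoetherian (pullback.fst f hU.fromSpec)
  haveI : CompactSpace P := QuasiCompact.compactSpace_of_compactSpace (pullback.snd f hU.fromSpec)
  haveI : IsNoetherian P := ⟨⟩
  haveI : LocallyOfFiniteType ((pullback.snd f hU.fromSpec ≫ Spec.map φ) ≫ hV.fromSpec) := by
    rw [Category.assoc, IsAffineOpen.SpecMap_appLE_fromSpec g hV hU e, ← pullback.condition_assoc]
    infer_instance
  haveI : LocallyOfFiniteType (pullback.snd f hU.fromSpec ≫ Spec.map φ) :=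
    AlgebraicGeometry.locallyOfFiniteType_of_comp _ hV.fromSpec
  haveI : LocallyOfFiniteType (pullback.snd f hU.fromSpec ≫
      Spec.map (CommRingCat.ofHom (algebraMap Γ(Y, V) Γ(X, U)))) :=
    inferInstanceAs (LocallyOfFiniteType (pullback.snd f hU.fromSpec ≫ Spec.map φ))
  exact finiteType_affine Γ(Y, V) Γ(X, U) (pullback.snd f hU.fromSpec)
    (Groth.Agent.Lib.Subtrusive.Submersive.univSubmersive_of_isPullback (IsPullback.of_hasPullback f _) hf)

end Groth.Agent.S17518
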