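import Groth.Statements.S1152
import Groth.Agent.H52.FDesc.AmpleDescent

set_option autoImplicit false
open CategoryTheory CategoryTheory.Limits AlgebraicGeometry Opposite
universe u
open Groth.Agent.Lib Groth.Agent.Lib.TensorMod.Pullback Groth.Agent.Lib.Ample.Pullback Groth.Agent.Lib.Ample.RelAmple
open Desc

namespace Groth.Agent.S1152

set_option linter.style.haveILetI false

theorem isAmple_iso_of {X : Scheme.{u}} {L L' : X.Modules} (e : L ≅ L') (h : CohB1.IsAmple L) :
    CohB1.IsAmple L' := Groth.Agent.Lib.Ample.Pow.isAmple_of_iso e h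


/-- Single quasi-compact flat surjective cover; the converse direction is base change: Let f : X ⟶ S be
a morphism, L an invertible O_X-module, g : S' ⟶ S quasi-compact, flat and surjective, X' = X ×_S S'
with projections to X and S', and L' the pullback of L to X'. If L' is ample on X' relative to S',
then L is ample on X relative to S. -/
theorem result {X S S' : Scheme.{u}} (f : X ⟶ S) (L : X.Modules) (hL : PicF.IsInvertible L)
    (g : S' ⟶ S) [QuasiCompact g] [Flat g] [Surjective g]
    (h : RelAmple.IsRelAmple (pullback.snd f g) ((Scheme.Modules.pullback (pullback.fst f g)).obj L)) :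
    RelAmple.IsRelAmple f L := by
  let π := pullback.fst f g
  let p := pullback.snd f g
  haveI : QuasiCompact p := h.1
  haveI : Surjective π := MorphismProperty.of_isPullback (P := @Surjective) (IsPullback.of_hasPullback f g).flip inferInstance
  haveI : QuasiCompact f := by
    refine quasiCompact_iff_forall_isAffineOpen.2 fun V hV => ?_
    have h1 : IsCompact (p ⁻¹ᵁ (g ⁻¹ᵁ V) : Set ↥(pullback f g)) :=
      p.isCompact_preimage (g.isCompact_preimage hV.isCompact)
    have h2 : p ⁻¹ᵁ (g ⁻¹ᵁ V) = π ⁻¹ᵁ (f ⁻¹ᵁ V) := by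
      rw [← Scheme.Hom.comp_preimage, ← Scheme.Hom.comp_preimage, pullback.condition]
    rw [h2] at h1
    have h3 := h1.image π.continuous
    rw [Scheme.Hom.coe_preimage] at h3
    rwa [Set.image_preimage_eq _ π.surjective] at h3
  refine (isRelAmple_iff f).2 ⟨inferInstance, fun V hV => ?_⟩
  haveI : IsAffine (V : Scheme.{u}) := hV
  haveI : CompactSpace ↥((g ⁻¹ᵁ V : S'.Opens) : Scheme.{u}) :=
    isCompact_iff_compactSpace.1 (g.isCompact_preimage hV.isCompact)
  let 𝒰 := ((g ⁻¹ᵁ V : S'.Opens) : Scheme.{u}).affineCover.finiteSubcover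
  haveI : Finite 𝒰.I₀ := inferInstance
  haveI : ∀ i, IsAffine (𝒰.X i) := fun i => inferInstanceAs (IsAffine (((g ⁻¹ᵁ V : S'.Opens) : Scheme.{u}).affineCover.X _))
  let σ : (∐ 𝒰.X) ⟶ ((g ⁻¹ᵁ V : S'.Opens) : Scheme.{u}) := Sigma.desc 𝒰.f
  haveI : Flat σ := IsZariskiLocalAtSource.sigmaDesc fun i => inferInstance
  haveI : Surjective σ := ⟨fun y => by
    obtain ⟨i, x, hx⟩ := 𝒰.exists_eq y
    exact ⟨Sigma.ι 𝒰.X i x, by rw [← Scheme.Hom.comp_apply, Sigma.ι_desc]; exact hx⟩⟩
  haveI : Surjective (g ∣_ V) :=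
    MorphismProperty.of_isPullback (P := @Surjective) (isPullback_morphismRestrict g V).flip inferInstance
  haveI : Flat (g ∣_ V) :=
    MorphismProperty.of_isPullback (P := @Flat) (isPullback_morphismRestrict g V).flip inferInstance
  let τ : (∐ 𝒰.X) ⟶ S' := σ ≫ (g ⁻¹ᵁ V).ι
  let gV : (∐ 𝒰.X) ⟶ (V : Scheme.{u}) := σ ≫ g ∣_ V
  have hgV : gV ≫ V.ι = τ ≫ g := by simp [gV, τ]
  haveI : QuasiCompact (f ∣_ V) :=
    MorphismProperty.of_isPullback (P := @QuasiCompact) (isPullback_morphismRestrict f V).flip inferInstance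
  refine Groth.Agent.H52.FDesc.AmpleDescent.isAmple_descent (f ∣_ V) gV _
    (PicLoc.isInvertible_pullback _ hL) ?_
  have hT := (isRelAmple_iff_isAmple _).1 (isRelAmple_baseChange p τ h)
  let q := pullback.fst (f ∣_ V) gV
  have big : IsPullback (pullback.fst p τ ≫ π) (pullback.snd p τ) f (τ ≫ g) :=
    (IsPullback.of_hasPullback p τ).paste_horiz (IsPullback.of_hasPullback f g)
  have big' : IsPullback (q ≫ (f ⁻¹ᵁ V).ι) (pullback.snd (f ∣_ V) gV) f (gV ≫ V.ι) :=
    (IsPullback.of_hasPullback (f ∣_ V) gV).paste_horiz (isPullback_morphismRestrict f V).flip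
  rw [hgV] at big'
  let e := big'.isoIsPullback _ _ big
  refine isAmple_iso_of ?_ (isAmple_pullback e.hom (isQuasiAffine_of_isAffineHom e.hom) hT)
  exact (pb e.hom).mapIso ((Scheme.Modules.pullbackComp (pullback.fst p τ) π).app L) ≪≫
    (Scheme.Modules.pullbackComp e.hom _).app L ≪≫
    (Scheme.Modules.pullbackCongr (big'.isoIsPullback_hom_fst _ _ big)).app L ≪≫
    ((Scheme.Modules.pullbackComp q (f ⁻¹ᵁ V).ι).app L).symm

end Groth.Agent.S1152
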