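import Groth.Statements.S1390
import Groth.Agent.H21.SplitCover

set_option autoImplicit false
set_option linter.style.haveILetI false
universe u
open FlatMor

namespace Groth.Agent.S1390

open AlgebraicGeometry CategoryTheory Limits in
/-- Let (U, u) be an étale neighbourhood of (S, s), i.e. U → S étale with u over s. Then there are an
affine open neighbourhood V of s and a surjective, finite, flat morphism of finite presentation π :
T → V such that every point t of T over s has an open neighbourhood W_t with an S-morphism W_t → U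
sending t to u. -/
theorem result {U S : Scheme.{u}} (e : U ⟶ S) [Etale e] (u : U) (s : S) (hu : e u = s) :
    ∃ (V : S.Opens) (T : Scheme.{u}) (π : T ⟶ (V : Scheme.{u})), s ∈ V ∧ IsAffineOpen V ∧ Surjective π ∧ IsFinite π ∧ Flat π ∧ LocallyOfFinitePresentation π ∧
      ∀ t : T, V.ι (π t) = s → ∃ (W : T.Opens) (h : (W : Scheme.{u}) ⟶ U), t ∈ W ∧ h ≫ e = W.ι ≫ π ≫ V.ι ∧ ∀ ht : t ∈ W, h ⟨t, ht⟩ = u := by
  obtain ⟨V, hV, hsV, -⟩ := exists_isAffineOpen_mem_and_subset (X := S) (x := s) (U := ⊤) trivial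
  obtain ⟨U₀, hU₀, hu₀, hle⟩ := exists_isAffineOpen_mem_and_subset (X := U) (x := u) (U := e ⁻¹ᵁ V)
    (show e u ∈ V from hu.symm ▸ hsV)
  have het : (e.appLE V U₀ hle).hom.Etale :=
    HasRingHomProperty.appLE (P := @Etale) e inferInstance ⟨V, hV⟩ ⟨U₀, hU₀⟩ hle
  letI : Algebra Γ(S, V) Γ(U, U₀) := (e.appLE V U₀ hle).hom.toAlgebra
  haveI : Algebra.Etale Γ(S, V) Γ(U, U₀) := het
  have hle' : Spec.map (CommRingCat.ofHom (algebraMap Γ(S, V) Γ(U, U₀))) ≫ hV.fromSpec =
      hU₀.fromSpec ≫ e := IsAffineOpen.SpecMap_appLE_fromSpec e hV hU₀ hle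
  let Q := hU₀.primeIdealOf ⟨u, hu₀⟩
  obtain ⟨f, hf, hstd⟩ := Algebra.IsEtaleAt.exists_isStandardEtale (R := Γ(S, V)) Q.asIdeal
  let P := hstd.nonempty_standardEtalePresentation.some
  obtain ⟨S', _, _, hfin, hfp, hff, hsplit⟩ :=
    Groth.Agent.H21.SplitCover.exists_split Γ(S, V) P.monic_f
  let π₀ : Spec (CommRingCat.of S') ⟶ Spec Γ(S, V) :=
    Spec.map (CommRingCat.ofHom (algebraMap Γ(S, V) S'))
  have hπ₀ : Surjective π₀ := ⟨PrimeSpectrum.comap_surjective_of_faithfullyFlat⟩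
  refine ⟨V, Spec (CommRingCat.of S'), π₀ ≫ hV.isoSpec.inv, hsV, hV, inferInstance, ?_, ?_, ?_, ?_⟩
  · haveI : IsFinite π₀ := (IsFinite.SpecMap_iff _).2 (RingHom.finite_algebraMap.2 hfin)
    infer_instance
  · haveI : Flat π₀ := (HasRingHomProperty.Spec_iff (P := @Flat)).2
      (RingHom.flat_algebraMap_iff.2 inferInstance)
    infer_instance
  · haveI : LocallyOfFinitePresentation π₀ :=
      (HasRingHomProperty.Spec_iff (P := @LocallyOfFinitePresentation)).2
        (RingHom.finitePresentation_algebraMap.2 hfp)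
    infer_instance
  intro t ht
  rw [← Scheme.Hom.comp_apply, Category.assoc, hV.isoSpec_inv_ι] at ht
  -- the point of the chart
  let L := Localization.Away f
  let lf : Spec (CommRingCat.of L) ⟶ Spec Γ(U, U₀) :=
    Spec.map (CommRingCat.ofHom (algebraMap Γ(U, U₀) L))
  have hdisj : Disjoint (Submonoid.powers f : Set Γ(U, U₀)) Q.asIdeal :=
    (Ideal.disjoint_powers_iff_notMem f Q.isPrime.isRadical).mpr hf
  let q₁ := Q.asIdeal.map (algebraMap Γ(U, U₀) L)
  haveI : q₁.IsPrime := IsLocalization.isPrime_of_isPrime_disjoint _ _ _ Q.isPrime hdisj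
  have hq₁Q : q₁.comap (algebraMap Γ(U, U₀) L) = Q.asIdeal :=
    IsLocalization.comap_map_of_isPrime_disjoint _ _ Q.isPrime hdisj
  have hlfQ : lf (⟨q₁, inferInstance⟩ : PrimeSpectrum L) = Q := PrimeSpectrum.ext hq₁Q
  let t' : PrimeSpectrum S' := t
  have hpR : t'.asIdeal.under Γ(S, V) = q₁.under Γ(S, V) := by
    have h1 : π₀ t = Spec.map (CommRingCat.ofHom (algebraMap Γ(S, V) Γ(U, U₀))) Q := by
      refine hV.fromSpec.isOpenEmbedding.injective ?_
      rw [← Scheme.Hom.comp_apply, ht]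
      refine Eq.trans ?_ (Scheme.Hom.comp_apply (Spec.map _) hV.fromSpec Q)
      rw [hle']
      exact ((congrArg e (hU₀.fromSpec_primeIdealOf ⟨u, hu₀⟩)).trans hu).symm
    refine (congrArg PrimeSpectrum.asIdeal h1).trans ?_
    show Q.asIdeal.comap (algebraMap Γ(S, V) Γ(U, U₀)) = _
    rw [← hq₁Q, Ideal.comap_comap, ← IsScalarTower.algebraMap_eq]
  obtain ⟨g', hg', φ, hφ⟩ := Groth.Agent.H21.SplitCover.exists_hom Γ(S, V) L S' P hsplit q₁
    t'.asIdeal hpR
  let j : Spec (CommRingCat.of (Localization.Away g')) ⟶ Spec (CommRingCat.of S') :=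
    Spec.map (CommRingCat.ofHom (algebraMap S' (Localization.Away g')))
  haveI : IsOpenImmersion j := IsOpenImmersion.of_isLocalization g'
  have hdisj' : Disjoint (Submonoid.powers g' : Set S') t'.asIdeal :=
    (Ideal.disjoint_powers_iff_notMem g' t'.isPrime.isRadical).mpr hg'
  haveI : (t'.asIdeal.map (algebraMap S' (Localization.Away g'))).IsPrime :=
    IsLocalization.isPrime_of_isPrime_disjoint _ _ _ t'.isPrime hdisj'
  let t₁ : PrimeSpectrum (Localization.Away g') :=
    ⟨t'.asIdeal.map (algebraMap S' (Localization.Away g')), inferInstance⟩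
  have hjt : j t₁ = t := PrimeSpectrum.ext
    (IsLocalization.comap_map_of_isPrime_disjoint _ _ t'.isPrime hdisj')
  refine ⟨j.opensRange, j.isoOpensRange.inv ≫ Spec.map (CommRingCat.ofHom φ.toRingHom) ≫ lf ≫
    hU₀.fromSpec, ⟨t₁, hjt⟩, ?_, fun ht' => ?_⟩
  · simp only [Category.assoc]
    rw [hV.isoSpec_inv_ι, ← Scheme.Hom.isoOpensRange_inv_comp j, Category.assoc, ← hle']
    congr 1
    simp only [j, lf, π₀, ← Category.assoc, ← Spec.map_comp, ← CommRingCat.ofHom_comp]
    congr 3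
    refine RingHom.ext fun r => ?_
    simp only [RingHom.comp_apply, AlgHom.toRingHom_eq_coe, AlgHom.coe_toRingHom,
      ← IsScalarTower.algebraMap_apply, AlgHom.commutes]
  · have hinv : j.isoOpensRange.inv ⟨t, ht'⟩ = t₁ := by
      refine j.isOpenEmbedding.injective ?_
      refine (congrArg (fun m : (j.opensRange : Scheme.{u}) ⟶ Spec (CommRingCat.of S') => m ⟨t, ht'⟩)
        (Scheme.Hom.isoOpensRange_inv_comp j)).trans ?_
      exact hjt.symm
    refine Eq.trans (congrArg (fun x => hU₀.fromSpec (lf (Spec.map (CommRingCat.ofHom φ.toRingHom) x)))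
      hinv) ?_
    have hq : Spec.map (CommRingCat.ofHom φ.toRingHom) t₁ = (⟨q₁, inferInstance⟩ : PrimeSpectrum L) :=
      PrimeSpectrum.ext hφ
    exact (congrArg (fun x => hU₀.fromSpec (lf x)) hq).trans
      ((congrArg hU₀.fromSpec hlfQ).trans (hU₀.fromSpec_primeIdealOf ⟨u, hu₀⟩))

end Groth.Agent.S1390
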