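import Groth.Statements.S7198
import Groth.Agent.S2735
import Groth.Agent.S1390
import Mathlib.AlgebraicGeometry.ZariskisMainTheorem

set_option autoImplicit false
set_option linter.style.haveILetI false
universe w u
open FlatMor

namespace Groth.Agent.S7198

set_option backward.isDefEq.respectTransparency false in
open AlgebraicGeometry CategoryTheory Limits in
/-- An étale neighbourhood carrying a surjective finite locally free scheme mapping to a cover. -/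
theorem exists_etale_piece {X S : Scheme.{u}} (g : X ⟶ S) [Flat g] [LocallyOfFinitePresentation g]
    (s : S) (hs : s ∈ Set.range g) :
    ∃ (C : Scheme.{u}) (e : C ⟶ S) (u : C) (P : Scheme.{u}) (q : P ⟶ C) (r : P ⟶ X), Etale e ∧
      e u = s ∧ Mor2.IsFinLocFree q ∧ Surjective q ∧ r ≫ g = q ≫ e := by
  let U0 : S.Opens := ⟨Set.range g, g.isOpenMap.isOpen_range⟩
  haveI : Surjective (g ∣_ U0) := ⟨fun ⟨t, a, ha⟩ => ⟨⟨a, show g a ∈ U0 from ⟨a, rfl⟩⟩,
    Subtype.ext ((morphismRestrict_base_coe g U0 _).trans ha)⟩⟩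
  obtain ⟨S', g', h, hh, hfl, hfp, hqf, hsu, -⟩ := Groth.Agent.S2735.result (g ∣_ U0)
  obtain ⟨z, hz⟩ := g'.surjective ⟨s, hs⟩
  obtain ⟨A, hA, hsA, -⟩ := exists_isAffineOpen_mem_and_subset (X := (U0 : Scheme.{u}))
    (x := g' z) (U := ⊤) trivial
  obtain ⟨Z₀, hZ₀, hzZ, hle⟩ := exists_isAffineOpen_mem_and_subset (X := S') (x := z)
    (U := g' ⁻¹ᵁ A) hsA
  replace hle : Z₀ ≤ g' ⁻¹ᵁ A := hle
  haveI : IsAffine (Z₀ : Scheme.{u}) := hZ₀
  haveI : IsAffine (A : Scheme.{u}) := hA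
  let gz : (Z₀ : Scheme.{u}) ⟶ A := g'.resLE A Z₀ hle
  haveI : Flat gz := by
    show Flat (g'.resLE A Z₀ hle); unfold Scheme.Hom.resLE
    exact MorphismProperty.comp_mem @Flat _ _ inferInstance (IsZariskiLocalAtTarget.restrict hfl A)
  haveI : LocallyQuasiFinite gz := by
    show LocallyQuasiFinite (g'.resLE A Z₀ hle); unfold Scheme.Hom.resLE
    exact MorphismProperty.comp_mem @LocallyQuasiFinite _ _ inferInstance (IsZariskiLocalAtTarget.restrict hqf A)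
  haveI : LocallyOfFinitePresentation gz := by
    show LocallyOfFinitePresentation (g'.resLE A Z₀ hle); unfold Scheme.Hom.resLE
    exact MorphismProperty.comp_mem @LocallyOfFinitePresentation _ _ inferInstance (IsZariskiLocalAtTarget.restrict hfp A)
  haveI : IsSeparated gz := inferInstance
  obtain ⟨T, gT, hgT, -, V, W, v, hVW, hfin, hv⟩ := exists_etale_isCompl_of_quasiFiniteAt gz
    (x := ⟨z, hzZ⟩) rfl (gz.quasiFiniteAt _)
  let p : (V : Scheme.{u}) ⟶ T := V.ι ≫ pullback.snd gz gT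
  haveI : IsFinite p := hfin
  haveI : Flat p := inferInstanceAs (Flat (V.ι ≫ pullback.snd gz gT))
  haveI : LocallyOfFinitePresentation p :=
    inferInstanceAs (LocallyOfFinitePresentation (V.ι ≫ pullback.snd gz gT))
  let C : T.Opens := ⟨Set.range p, p.isOpenMap.isOpen_range⟩
  let e : (C : Scheme.{u}) ⟶ S := C.ι ≫ gT ≫ A.ι ≫ U0.ι
  haveI : Etale (gT ≫ A.ι ≫ U0.ι) := inferInstance
  refine ⟨C, e, ⟨p v, ⟨v, rfl⟩⟩, _, p ∣_ C,
    (p ⁻¹ᵁ C).ι ≫ V.ι ≫ pullback.fst gz gT ≫ Z₀.ι ≫ h ≫ (g ⁻¹ᵁ U0).ι, inferInstance, ?_,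
    ⟨inferInstance, inferInstance, inferInstance⟩, ⟨fun ⟨t, a, ha⟩ => ⟨⟨a, show p a ∈ C from ⟨a, rfl⟩⟩,
      Subtype.ext ((morphismRestrict_base_coe p C _).trans ha)⟩⟩, ?_⟩
  · show (gT ≫ A.ι ≫ U0.ι) (p v) = s
    have h1 : gT (p v) = gz ⟨z, hzZ⟩ := by
      rw [← hv]
      exact (congrArg (fun m : pullback gz gT ⟶ (A : Scheme.{u}) => m (V.ι v))
        pullback.condition).symm
    refine (congrArg (fun a => U0.ι (A.ι a)) h1).trans ?_
    have h2 : A.ι (gz ⟨z, hzZ⟩) = g' z :=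
      congrArg (fun m : (Z₀ : Scheme.{u}) ⟶ (U0 : Scheme.{u}) => m ⟨z, hzZ⟩)
        (Scheme.Hom.resLE_comp_ι g' hle)
    exact (congrArg U0.ι (h2.trans hz)).trans rfl
  · simp only [e, Category.assoc]
    rw [← morphismRestrict_ι g U0, reassoc_of% hh, morphismRestrict_ι_assoc]
    simp only [p, Category.assoc]
    rw [← pullback.condition_assoc, ← Scheme.Hom.resLE_comp_ι_assoc g' hle]

open AlgebraicGeometry CategoryTheory Limits in
/-- Any fppf covering {S_i → S} is refined by a family built in four steps — cover S by Zariski opens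
U_j; over each U_j take a surjective finite locally free W_j → U_j; cover each W_j by Zariski opens
W_{j,k}; over each of those take a surjective finite locally free T_{j,k} → W_{j,k} — where every
composite T_{j,k} → S factors through some S_i. Stated pointwise: around every point of S, and then
around every point of the finite locally free cover, such data exist. -/
theorem result {S : Scheme.{u}} (E : PreZeroHypercover.{w} S)
    (hflat : ∀ i, Flat (E.f i)) (hfp : ∀ i, LocallyOfFinitePresentation (E.f i))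
    (hsurj : ∀ s : S, ∃ (i : E.I₀) (x : E.X i), E.f i x = s) (s : S) :
    ∃ (U : S.Opens) (W : Scheme.{u}) (π : W ⟶ U.toScheme), s ∈ U ∧ Mor2.IsFinLocFree π ∧ Surjective π ∧
      ∀ w : W, ∃ (W' : W.Opens) (T : Scheme.{u}) (ρ : T ⟶ W'.toScheme) (i : E.I₀) (r : T ⟶ E.X i),
        w ∈ W' ∧ Mor2.IsFinLocFree ρ ∧ Surjective ρ ∧ r ≫ E.f i = ρ ≫ W'.ι ≫ π ≫ U.ι := by
  obtain ⟨i, x, hx⟩ := hsurj s
  haveI := hflat i
  haveI := hfp i
  obtain ⟨C, e, u, P, q, r, het, hu, hq, hqs, hr⟩ := exists_etale_piece (E.f i) s ⟨x, hx⟩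
  obtain ⟨V, T, π, hsV, hV, hπs, hπf, hπfl, hπfp, hW⟩ := Groth.Agent.S1390.result e u s hu
  choose Wt ht hmem hcomm _ using hW
  let O : T.Opens := ⨆ (t : T) (h : V.ι (π t) = s), Wt t h
  have hclosed : IsClosed (π '' (O : Set T)ᶜ) := π.isClosedMap _ O.2.isClosed_compl
  let U₁ : (V : Scheme.{u}).Opens := ⟨(π '' (O : Set T)ᶜ)ᶜ, hclosed.isOpen_compl⟩
  have hsU₁ : (⟨s, hsV⟩ : (V : Scheme.{u})) ∈ U₁ := by
    rintro ⟨t, htO, hts⟩
    refine htO ?_
    have hs' : V.ι (π t) = s := (congrArg V.ι hts).trans rfl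
    exact TopologicalSpace.Opens.mem_iSup.2 ⟨t, TopologicalSpace.Opens.mem_iSup.2 ⟨hs', hmem t hs'⟩⟩
  haveI : Surjective (π ∣_ U₁) := ⟨fun u => by
    obtain ⟨a, ha⟩ := π.surjective u.1
    exact ⟨⟨a, show π a ∈ U₁ from ha.symm ▸ u.2⟩,
      Subtype.ext ((morphismRestrict_base_coe π U₁ _).trans ha)⟩⟩
  refine ⟨V.ι ''ᵁ U₁, (π ⁻¹ᵁ U₁ : T.Opens), (π ∣_ U₁) ≫ (V.ι.isoImage U₁).hom,
    ⟨⟨s, hsV⟩, hsU₁, rfl⟩, ⟨inferInstance, inferInstance, inferInstance⟩, inferInstance, fun w => ?_⟩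
  have hwO : (π ⁻¹ᵁ U₁).ι w ∈ O := by
    by_contra hn
    exact w.2 ⟨_, hn, rfl⟩
  obtain ⟨t, htm⟩ := TopologicalSpace.Opens.mem_iSup.1 hwO
  obtain ⟨hts, htw⟩ := TopologicalSpace.Opens.mem_iSup.1 htm
  let W' : (↑(π ⁻¹ᵁ U₁) : Scheme.{u}).Opens := (π ⁻¹ᵁ U₁).ι ⁻¹ᵁ Wt t hts
  let k : (W' : Scheme.{u}) ⟶ C := ((π ⁻¹ᵁ U₁).ι ∣_ Wt t hts) ≫ ht t hts
  obtain ⟨hq1, hq2, hq3⟩ := hq
  refine ⟨W', pullback k q, pullback.fst k q, i, pullback.snd k q ≫ r, htw,
    ⟨inferInstance, inferInstance, inferInstance⟩, inferInstance, ?_⟩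
  rw [Category.assoc, hr, ← pullback.condition_assoc]
  congr 1
  simp only [k, Category.assoc]
  rw [hcomm t hts, Scheme.Hom.isoImage_hom_ι, morphismRestrict_ι_assoc, morphismRestrict_ι_assoc]

end Groth.Agent.S7198
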