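import Groth.Statements.S7521
import Groth.Agent.Lib.DescAlg.Effective.FiniteCover
import Groth.Agent.Lib.Ample.Pullback
import Groth.Agent.Lib.Ample.Basis

set_option autoImplicit false
set_option backward.isDefEq.respectTransparency false
set_option backward.isDefEq.respectTransparency.types false
open CategoryTheory CategoryTheory.Limits AlgebraicGeometry
universe u
open Desc

namespace Groth.Agent.S7521

/-- Let p : X -> Y be a surjective finite locally free morphism and V a scheme over X which has an
invertible module ample relative to V -> X. Then every descent datum on V relative to p is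
effective. (A quasi-projective morphism V -> X, in particular a projective one, carries such a
module.) (Descent data are taken in functor-of-points form.) -/
theorem result {X Y : Scheme.{u}} (p : X ⟶ Y) [Surjective p] [IsFinite p] [Flat p] [LocallyOfFinitePresentation p] (D : Desc.SchDD p) (L : D.obj.left.Modules) (hL : RelAmple.IsRelAmple D.obj.hom L) : ∃ W : Over Y, Nonempty ((Desc.toDD p).obj W ≅ D) := by
  refine Groth.Agent.Lib.DescAlg.Effective.FiniteCover.exists_iso D fun y s hs ↦ ?_
  classical
  obtain ⟨W, hW, hyW, -⟩ := exists_isAffineOpen_mem_and_subset (x := y) (U := (⊤ : Y.Opens)) trivial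
  let M : X.affineOpens := ⟨p ⁻¹ᵁ W, hW.preimage p⟩
  let V := D.obj.hom ⁻¹ᵁ M.1
  have hV := hL.2 M
  have := Groth.Agent.Lib.Ample.Pullback.quasiSeparatedSpace_of_isAmple hV
  have hsV : ∀ v ∈ s, v ∈ V := fun v hv ↦ by
    show p (D.obj.hom v) ∈ W
    rw [hs v hv]; exact hyW
  obtain ⟨n, -, t, ht, -, haff⟩ := Groth.Agent.Lib.Ample.Basis.exists_locus_of_finite hV
    (V.ι ⁻¹' (s : Set D.obj.left)) (s.finite_toSet.preimage V.ι.isOpenEmbedding.injective.injOn) ⊤
    (fun _ _ ↦ trivial)
  exact ⟨_, haff.image_of_isOpenImmersion V.ι, fun v hv ↦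
    ⟨⟨v, hsV v hv⟩, ht (show V.ι ⟨v, hsV v hv⟩ ∈ (s : Set D.obj.left) from hv), rfl⟩⟩

end Groth.Agent.S7521
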