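import Groth.Statements.S12481
import Groth.Agent.Lib.SymAlg.PE.Pn

set_option autoImplicit false
universe u
open CategoryTheory CategoryTheory.Limits AlgebraicGeometry TopologicalSpace Opposite
open scoped HomogeneousIdeal
open Mor

namespace Groth.Agent.S12481

/-- (2) ⇒ (1): let f : X ⟶ S be of finite type, L an invertible O_X-module and (V_j) an open covering of
S such that for each j the restriction of L to f⁻¹(V_j) is isomorphic to the inverse image of O(1)
along some immersion of f⁻¹(V_j) into a projective space P^{n_j}_{V_j} over V_j. Then L is very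
ample relative to f: there are a quasi-coherent O_S-module E and an S-immersion i of X into the
projective bundle P(E) with L isomorphic to i^*O_{P(E)}(1). (The converse implication of the
published statement is stated separately.) -/
theorem result {X S : Scheme.{u}} (f : X ⟶ S)
    [LocallyOfFiniteType f] [QuasiCompact f] (L : X.Modules) (hLinv : PicF.IsInvertible L)
    {ι : Type u} (V : ι → S.Opens) (hV : (⨆ j, V j) = ⊤)
    (h : ∀ j, RelAmple.IsRelVeryAmplePn (f ∣_ V j) (L.restrict (f ⁻¹ᵁ V j).ι)) :
    RelProj.IsRelVeryAmple f L := by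
  refine Groth.Agent.Lib.SymAlg.PE.isRelVeryAmple_of_local hLinv fun x => ?_
  obtain ⟨j, hj⟩ := TopologicalSpace.Opens.mem_iSup.1 (hV.ge (show x ∈ (⊤ : S.Opens) from trivial))
  refine ⟨V j, hj, ?_⟩
  haveI : IsSeparated (f ∣_ V j) := by
    obtain ⟨n, i, hi, hif, -⟩ := h j
    rw [← hif]
    haveI := Groth.Agent.Lib.ProjSpace.Basic.isProper_toSpec n (ULift.{u} ℤ)
    haveI : IsSeparated (pullback.snd (CohB1.ProjSpace.toSpec n (ULift.{u} ℤ)) (specULiftZIsTerminal.from (V j : Scheme.{u}))) :=
      MorphismProperty.pullback_snd (P := @IsSeparated) _ _ inferInstance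
    haveI := hi
    haveI : IsSeparated i := inferInstance
    exact MorphismProperty.comp_mem @IsSeparated i _ ‹_› ‹_›
  have hinv : PicF.IsInvertible (L.restrict (f ⁻¹ᵁ V j).ι) :=
    Groth.Agent.Lib.TensorMod.Invertible.isInvertible_of_iso ((Scheme.Modules.restrictFunctorIsoPullback _).app L).symm
      (PicLoc.isInvertible_pullback _ hLinv)
  exact Groth.Agent.Lib.SymAlg.PE.isRelVeryAmple_of_crit (Groth.Agent.Lib.SymAlg.PE.isQCoh_push hinv) (𝟙 _) (Groth.Agent.Lib.SymAlg.PE.crit_push_of_pn (h j))

end Groth.Agent.S12481
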