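import Groth.Statements.S18542
import Groth.Agent.H63.SubgroupClosure

set_option autoImplicit false
universe u
open CategoryTheory MonoidalCategory CartesianMonoidalCategory MonObj GrpObj AlgebraicGeometry
open AbVar

namespace Groth.Agent.S18542

/-- Let k be an algebraically closed field, ℓ a prime number invertible in k and A an abelian variety
over k (a commutative group scheme over k which is smooth and proper with geometrically connected
fibres). Then the set A[ℓ^∞](k) of ℓ-power torsion k-points is Zariski dense in A: the union over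
all n of the images, in the underlying topological space of A, of the k-valued points a of A with
a^(ℓ^n) = 1 in the group of k-points is dense. -/
theorem result (k : Type u) [Field k] [IsAlgClosed k]
    (A : Over (Spec (CommRingCat.of k)))
    [GrpObj A] [IsCommMonObj A] [Smooth A.hom] [IsProper A.hom] [GeometricallyConnected A.hom]
    (l : ℕ) [Fact l.Prime] (hl : (l : k) ≠ 0) :
    Dense (⋃ (n : ℕ) (a : (Over.mk (𝟙 (Spec (CommRingCat.of k)))) ⟶ A)
      (_ : a ∈ AbDual.torsPts A (l ^ n) (Over.mk (𝟙 (Spec (CommRingCat.of k))))), Set.range a.left.base) := by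
  haveI : GeometricallyIntegral A.hom := H4.GeomInt.geometricallyIntegral A
  haveI : IsIntegral A.left := GeometricallyIntegral.isIntegral_of_subsingleton A.hom
  have hl1 : 1 < l := (Fact.out : l.Prime).one_lt
  let H : Subgroup (𝟙_ (Over (Spec (CommRingCat.of k))) ⟶ A) :=
    { carrier := {a | ∃ n : ℕ, a ^ (l ^ n) = 1}
      one_mem' := ⟨0, one_pow _⟩
      mul_mem' := by
        rintro a b ⟨n, ha⟩ ⟨m, hb⟩
        refine ⟨n + m, ?_⟩
        rw [mul_pow, pow_add, pow_mul, ha, one_pow, _root_.one_mul, mul_comm, pow_mul, hb, one_pow]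
      inv_mem' := by
        rintro a ⟨n, ha⟩
        exact ⟨n, by rw [inv_pow, ha, inv_one]⟩ }
  obtain ⟨M, _, i, hi, c, hic, hMp, hMg, hc, hr, hmem⟩ := H63.SubgroupClosure.exists_closureAV H
  haveI : IsCommMonObj M := isCommMonObj_of_isProper_of_geometricallyIntegral M
  haveI : IsIntegral M.left := GeometricallyIntegral.isIntegral_of_subsingleton M.hom
  obtain ⟨g, hg⟩ := H63.AVIsogeny.exists_dim (A := A)
  obtain ⟨s, hs⟩ := H63.AVIsogeny.exists_dim (A := M)
  let T₁ := Over.mk (𝟙 (Spec (CommRingCat.of k)))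
  have hgs : g ≤ s := by
    by_contra hlt
    have key : ∀ n : ℕ, l ^ n ≤ Nat.card (AbDual.torsPts A c T₁) := fun n => by
      have h1 := H63.AVIsogeny.natCard_torsion_killed_le i hc hg hs (n := l ^ n)
        (by rw [Nat.cast_pow]; exact pow_ne_zero _ hl) fun a ha => hmem a ⟨n, ha⟩
      rw [← pow_mul, ← pow_mul] at h1
      have h2 : l ^ n * l ^ (n * (2 * s)) ≤ l ^ (n * (2 * g)) := by
        rw [← pow_add]
        refine Nat.pow_le_pow_right (by omega) ?_
        rw [show n + n * (2 * s) = n * (2 * s + 1) by ring]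
        exact Nat.mul_le_mul_left n (by omega)
      exact Nat.le_of_mul_le_mul_right (h2.trans h1) (pow_pos (by omega) _)
    have h3 := key (Nat.card (AbDual.torsPts A c T₁))
    have h4 := Nat.lt_pow_self (n := Nat.card (AbDual.torsPts A c T₁)) hl1
    omega
  haveI : Surjective i.left := H4.IsogenyDim.surjective_of_finite i (by rw [hg, hs]; exact_mod_cast hgs)
  intro x
  refine closure_mono ?_ (hr (i.left.surjective x))
  rintro _ ⟨a, ⟨n, ha⟩, rfl⟩
  exact Set.mem_iUnion.2 ⟨n, Set.mem_iUnion.2 ⟨a, Set.mem_iUnion.2 ⟨ha, ⟨_, rfl⟩⟩⟩⟩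

end Groth.Agent.S18542
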