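import Groth.Statements.S0116
import Mathlib.RingTheory.Finiteness.Descent
import Mathlib.AlgebraicGeometry.Morphisms.Etale
import Mathlib.AlgebraicGeometry.Morphisms.Flat
import Mathlib.AlgebraicGeometry.Noetherian
import Mathlib.AlgebraicGeometry.Morphisms.UniversallyOpen

set_option autoImplicit false
open CategoryTheory CategoryTheory.Limits AlgebraicGeometry Opposite
universe u
open EtBase

namespace Groth.Agent.S0116

/-- If f : X → Y is surjective, flat and locally of finite presentation and X is locally Noetherian,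
then Y is locally Noetherian. (This is the descent half of the statement that, for such f, X is
locally Noetherian if and only if Y is; the ascent half is the fact that a scheme locally of finite
type over a locally Noetherian scheme is locally Noetherian, and is not stated here.) -/
theorem result {X Y : Scheme.{u}} (f : X ⟶ Y) [Surjective f] [Flat f] [LocallyOfFinitePresentation f]
    [IsLocallyNoetherian X] : IsLocallyNoetherian Y := by
  refine isLocallyNoetherian_of_affine_cover (S := id (α := Y.affineOpens)) (iSup_affineOpens_eq_top Y)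
    fun V => ?_
  let W := (f ⁻¹ᵁ (V : Y.Opens) : Scheme.{u})
  let e := f ∣_ (V : Y.Opens)
  have : Surjective e := IsZariskiLocalAtTarget.restrict ‹Surjective f› _
  have : Flat e := IsZariskiLocalAtTarget.restrict ‹Flat f› _
  have : LocallyOfFinitePresentation e :=
    IsZariskiLocalAtTarget.restrict ‹LocallyOfFinitePresentation f› _
  have hopen : IsOpenMap e := e.isOpenMap
  have : IsAffine (V : Y.Opens) := V.2
  obtain ⟨s, hs⟩ := (isCompact_univ (X := ↥((V : Y.Opens) : Scheme.{u}))).elim_finite_subcover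
    (fun w : W.affineOpens ↦ e '' (w : W.Opens)) (fun w ↦ hopen _ w.1.2) (by
      intro v _
      obtain ⟨x, rfl⟩ := e.surjective v
      obtain ⟨_, ⟨w, hw, rfl⟩, hx, -⟩ :=
        W.isBasis_affineOpens.exists_subset_of_mem_open (Set.mem_univ x) isOpen_univ
      exact Set.mem_iUnion.mpr ⟨⟨w, hw⟩, x, hx, rfl⟩)
  let Z := fun w : s ↦ ((w.1 : W.Opens) : Scheme.{u})
  let t : ∐ Z ⟶ W := Sigma.desc fun w ↦ (w.1 : W.Opens).ι
  have hw : ∀ w : s, IsAffine (Z w) := fun w ↦ w.1.2
  have hsm : Etale t := IsZariskiLocalAtSource.sigmaDesc (P := @Etale) fun w ↦ inferInstance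
  have : IsLocallyNoetherian (∐ Z) := LocallyOfFiniteType.isLocallyNoetherian t
  have hn : IsNoetherianRing Γ(∐ Z, ⊤) :=
    IsLocallyNoetherian.component_noetherian ⟨⊤, isAffineOpen_top _⟩
  have hsurj : Surjective (t ≫ e) := ⟨fun v ↦ by
    obtain ⟨w, hws, x, hx, rfl⟩ := Set.mem_iUnion₂.mp (hs (Set.mem_univ v))
    refine ⟨Sigma.ι Z ⟨w, hws⟩ ⟨x, hx⟩, ?_⟩
    have key : Sigma.ι Z ⟨w, hws⟩ ≫ t ≫ e = (w : W.Opens).ι ≫ e := by simp [t, Z]
    exact congr($key ⟨x, hx⟩)⟩
  have hff := (Flat.flat_and_surjective_iff_faithfullyFlat_of_isAffine (f := t ≫ e)).mp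
    ⟨inferInstance, hsurj⟩
  let : Algebra Γ((V : Y.Opens), ⊤) Γ(∐ Z, ⊤) := (t ≫ e).appTop.hom.toAlgebra
  have : Module.FaithfullyFlat Γ((V : Y.Opens), ⊤) Γ(∐ Z, ⊤) := hff
  have hV : IsNoetherianRing Γ((V : Y.Opens), ⊤) := (isNoetherianRing_iff_ideal_fg _).2 fun I =>
    Ideal.FG.of_FG_map_of_faithfullyFlat (S := Γ(∐ Z, ⊤)) (((isNoetherianRing_iff_ideal_fg _).1 hn) _)
  exact isNoetherianRing_of_ringEquiv _ (V : Y.Opens).topIso.commRingCatIsoToRingEquiv

end Groth.Agent.S0116
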