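import Groth.Statements.S9841
import Groth.Agent.H21.SmoothRed

set_option autoImplicit false
set_option backward.isDefEq.respectTransparency false
set_option backward.isDefEq.respectTransparency.types false
open CategoryTheory CategoryTheory.Limits AlgebraicGeometry Opposite
universe u
open Desc

namespace Groth.Agent.S9841

/-- Being reduced is local in the smooth topology: for a jointly surjective family of smooth morphisms f
i : X i ⟶ S, the scheme S is reduced if and only if every X i is reduced. -/
theorem result {ι : Type u} {S : Scheme.{u}} {X : ι → Scheme.{u}} (f : ∀ i, X i ⟶ S)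
    (hf : Presieve.ofArrows X f ∈ Scheme.precoverage @Smooth S) :
    IsReduced S ↔ ∀ i, IsReduced (X i) := by
  let E : PreZeroHypercover S := ⟨ι, X, f⟩
  have hE : E.presieve₀ = Presieve.ofArrows X f := rfl
  obtain ⟨hsurj, hsm⟩ := (Scheme.presieve₀_mem_precoverage_iff E).1 (hE ▸ hf)
  constructor
  · intro hS i
    have : Smooth (f i) := hsm i
    have hV : ∀ x : X i, ∃ V : (X i).Opens, x ∈ V ∧ IsReduced (V : Scheme.{u}) := by
      intro x
      obtain ⟨U, hU, hxU, -⟩ := TopologicalSpace.Opens.isBasis_iff_nbhd.mp S.isBasis_affineOpens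
        (TopologicalSpace.Opens.mem_top (f i x))
      obtain ⟨V, hV, hxV, hle⟩ := TopologicalSpace.Opens.isBasis_iff_nbhd.mp (X i).isBasis_affineOpens
        (show x ∈ f i ⁻¹ᵁ U from hxU)
      refine ⟨V, hxV, ?_⟩
      have h := HasRingHomProperty.appLE (P := @Smooth) (f i) inferInstance ⟨U, hU⟩ ⟨V, hV⟩ hle
      algebraize [((f i).appLE U V hle).hom]
      have : _root_.IsReduced Γ(X i, V) := Groth.Agent.H21.SmoothRed.isReduced Γ(S, U) Γ(X i, V)
      have : IsReduced (Spec Γ(X i, V)) := (affine_isReduced_iff _).2 this
      exact isReduced_of_isOpenImmersion hV.isoSpec.hom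
    choose V hxV hred using hV
    refine @IsReduced.of_openCover (X i) ((X i).openCoverOfIsOpenCover V ?_) fun x ↦ hred x
    exact TopologicalSpace.IsOpenCover.mk (TopologicalSpace.Opens.ext
      (Set.eq_univ_of_forall fun x ↦ by simpa using ⟨x, hxV x⟩))
  · intro h
    have : ∀ s : S, _root_.IsReduced (S.presheaf.stalk s) := fun s ↦ by
      obtain ⟨i, x, rfl⟩ := hsurj s
      have : Smooth (f i) := hsm i
      have h0 := Flat.stalkMap (f i) x
      algebraize [((f i).stalkMap x).hom]
      have : Module.FaithfullyFlat (S.presheaf.stalk (f i x)) ((X i).presheaf.stalk x) :=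
        @Module.FaithfullyFlat.of_flat_of_isLocalHom _ _ _ _ _ _ _ h0 ((f i).toLRSHom.prop x)
      have := h i
      exact isReduced_of_injective ((f i).stalkMap x).hom
        (‹RingHom.FaithfullyFlat _›.injective)
    exact isReduced_of_isReduced_stalk S

end Groth.Agent.S9841
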