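import Groth.Statements.S20008
import Groth.Agent.H60.SpecialExt
import Groth.Agent.H60.RedLR.Reductive
import Groth.Agent.Lib.GrpQ.FlatHom
import Groth.Agent.H1.Hopf
import Groth.Agent.H60.TorsorGeom
-- import your own Groth.Agent.* helpers here

set_option autoImplicit false
universe u
open CategoryTheory MonoidalCategory CartesianMonoidalCategory MonObj AlgebraicGeometry
open GIT

namespace Groth.Agent.S20008

/-- An extension of special groups is special. Over an algebraically closed field k of characteristic
zero, let G be an affine group scheme of finite type over k with a closed normal subgroup scheme N,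
the kernel of a surjective homomorphism q : G → Q onto an affine group scheme Q of finite type over
k (the factor group G/N). Call an affine group scheme H of finite type over k special when for every
action of H on a k-scheme X and every morphism ψ : X → Y of k-schemes which is an H-torsor over Y —
the square formed by the action, the second projection H ×_k X → X and ψ twice is cartesian, and ψ
acquires sections on the members of some fpqc covering family of Y — the morphism ψ acquires
sections on the members of some Zariski open covering of Y. If N and Q are special, then G is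
special. -/
theorem result
    (k : Type u) [Field k] [IsAlgClosed k] [CharZero k]
    (G N Q : Over (Spec (CommRingCat.of k))) [GrpObj G] [GrpObj N] [GrpObj Q]
    [IsAffine G.left] [LocallyOfFiniteType G.hom]
    (iN : N ⟶ G) [IsMonHom iN] [IsClosedImmersion iN.left] (hnorm : AlgGrp.IsNormalHom iN)
    (q : G ⟶ Q) [IsMonHom q] [Surjective q.left] [IsAffine Q.left] [LocallyOfFiniteType Q.hom]
    (hker : AlgGrp.IsKernel iN q)
    (hN : ∀ (X Y : Over (Spec (CommRingCat.of k))) (b : AlgGrp.Action N X) (ψ : X ⟶ Y),
      IsPullback b.act (snd N X) ψ ψ →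
      NonAbH1.IsLocallyTrivialFor Scheme.fpqcPrecoverage (Over.mk ψ.left : Over Y.left) →
      NonAbH1.IsLocallyTrivialFor Scheme.zariskiPrecoverage (Over.mk ψ.left : Over Y.left))
    (hQ : ∀ (X Y : Over (Spec (CommRingCat.of k))) (b : AlgGrp.Action Q X) (ψ : X ⟶ Y),
      IsPullback b.act (snd Q X) ψ ψ →
      NonAbH1.IsLocallyTrivialFor Scheme.fpqcPrecoverage (Over.mk ψ.left : Over Y.left) →
      NonAbH1.IsLocallyTrivialFor Scheme.zariskiPrecoverage (Over.mk ψ.left : Over Y.left))
    (X Y : Over (Spec (CommRingCat.of k))) (a : AlgGrp.Action G X) (φ : X ⟶ Y)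
    (hcart : IsPullback a.act (snd G X) φ φ)
    (hloc : NonAbH1.IsLocallyTrivialFor Scheme.fpqcPrecoverage (Over.mk φ.left : Over Y.left)) :
    NonAbH1.IsLocallyTrivialFor Scheme.zariskiPrecoverage (Over.mk φ.left : Over Y.left) := by
  obtain ⟨A, _, _, e, _⟩ := Groth.Agent.H1.Hopf.exists_iso Q
  haveI : IsIso e.inv.left := ((Over.forget _).mapIso e).isIso_inv
  haveI : IsIso e.hom.left := ((Over.forget _).mapIso e).isIso_hom
  haveI : Algebra.FiniteType k A := Groth.Agent.H1.Hopf.finiteType_of_locallyOfFiniteType
    (by rw [← Over.w e.inv]; infer_instance)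
  haveI : Smooth Q.hom := by
    rw [← Over.w e.hom]
    haveI : Smooth ((Spec (CommRingCat.of A)).asOver (Spec (CommRingCat.of k))).hom :=
      Groth.Agent.H60.RedLR.smooth_of_charZero (k := k) (A := A)
    infer_instance
  haveI : IsAffineHom G.hom := isAffineHom_of_isAffine _
  haveI : IsAffineHom Q.hom := isAffineHom_of_isAffine _
  haveI : Flat q.left := Groth.Agent.Lib.GrpQ.flat_of_surjective_of_smooth q
  haveI : QuasiCompact q.left := Groth.Agent.Lib.GrpQ.quasiCompact_left q
  have hql : NonAbH1.IsLocallyTrivialFor Scheme.fpqcPrecoverage (Over.mk q.left : Over Q.left) :=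
    ⟨_, q.left.singleton_mem_fpqcPrecoverage, by rintro _ _ ⟨⟩; exact ⟨𝟙 _, Category.id_comp _⟩⟩
  haveI : IsAffineHom φ.left := Groth.Agent.H60.TorsorGeom.isAffineHom a φ hcart hloc
  haveI : Flat φ.left := Groth.Agent.H60.AssocBundle.of_group a φ hcart @Flat hloc inferInstance
  haveI : Surjective φ.left := ⟨(Groth.Agent.H60.TorsorGeom.isGeomQuot a φ hcart hloc).surj⟩
  obtain ⟨E, φ₁, r, aE, hfac, ⟨h1, h1l⟩, ⟨h2, h2l⟩⟩ :=
    Groth.Agent.H60.SpecialExt.exists_factor iN q hker hql a φ hcart
  have := Groth.Agent.H60.TorsorComp.isLocallyTrivialFor_comp φ₁.left r.left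
    (hN X E _ φ₁ h1 h1l) (hQ E Y aE r h2 h2l)
  rw [← Over.comp_left, hfac] at this
  exact this

end Groth.Agent.S20008
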