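import Groth.Statements.S9821
import Groth.Agent.S2102
import Mathlib.RingTheory.LocalProperties.IntegrallyClosed
-- import your own Groth.Agent.* helpers here

set_option autoImplicit false
universe u
open CategoryTheory CategoryTheory.Limits AlgebraicGeometry TopologicalSpace Opposite
open Props

namespace Groth.Agent.S9821

/-- An integral scheme is normal if and only if the coordinate ring of every nonempty affine open is an
integrally closed domain. -/
theorem result (X : Scheme.{u}) [IsIntegral X] :
    Pi1.IsNormalScheme X ↔ ∀ (U : X.Opens) [Nonempty U], IsAffineOpen U → IsIntegrallyClosed Γ(X, U) := by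
  constructor
  · intro hX U hU _
    have : IsIntegral (U : Scheme.{u}) := isIntegral_of_isOpenImmersion U.ι
    have hn : Pi1.IsNormalScheme (U : Scheme.{u}) := fun x => by
      obtain ⟨h1, h2⟩ := hX (U.ι x)
      let e := (asIso (U.ι.stalkMap x)).commRingCatIsoToRingEquiv
      exact ⟨e.symm.toMulEquiv.isDomain _, IsIntegrallyClosed.of_equiv e⟩
    have := Groth.Agent.S2102.result _ hn
    exact IsIntegrallyClosed.of_equiv U.topIso.commRingCatIsoToRingEquiv
  · intro h x
    refine ⟨inferInstance, ?_⟩
    obtain ⟨U, hU, hxU, -⟩ := exists_isAffineOpen_mem_and_subset (x := x) (U := ⊤) trivial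
    have : Nonempty U := ⟨⟨x, hxU⟩⟩
    have := h U hU
    let := TopCat.Presheaf.algebra_section_stalk X.presheaf (⟨x, hxU⟩ : U)
    have := hU.isLocalization_stalk ⟨x, hxU⟩
    exact isIntegrallyClosed_of_isLocalization _ (hU.primeIdealOf ⟨x, hxU⟩).asIdeal.primeCompl
      (Ideal.primeCompl_le_nonZeroDivisors _)

end Groth.Agent.S9821
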