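import Groth.Statements.S4128
import Groth.Agent.H66.Section.Split

set_option autoImplicit false
universe u
open TensorProduct
open SGA3

namespace Groth.Agent.S4128

/-- In Hopf-algebra form: let k be an algebraically closed field, A a finitely generated commutative
Hopf algebra over k (an algebraic group E) and ψ : B → A an injective bialgebra map from a
diagonalizable Hopf algebra B (a quotient H = Spec B of E of multiplicative type). Let J be the Hopf
ideal of A generated by the image of the augmentation ideal of B (the kernel U of E → H) and suppose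
U = Spec (A/J) is unipotent (every nonzero finite-dimensional representation has a nonzero fixed
vector, the representation-theoretic form of unipotence). Then the extension 1 → U → E → H → 1 is
trivial: there is a bialgebra map r : A → B with r ∘ ψ = id (a group section H → E). -/
theorem result (k : Type u) [Field k] [IsAlgClosed k]
    (A B : Type u) [CommRing A] [HopfAlgebra k A] [Algebra.FiniteType k A] [CommRing B] [HopfAlgebra k B]
    (hB : SGA3b.IsDiag k B) (ψ : B →ₐc[k] A) (hψ : Function.Injective ψ)
    (J : Ideal A) [J.IsHopfIdeal k] (hJ : J = Ideal.map (ψ : B →+* A) (RingHom.ker (Bialgebra.counitAlgHom k B)))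
    (hU : HopfRep.IsUnipotent k (A ⧸ J)) :
    ∃ r : A →ₐc[k] B, r.comp ψ = BialgHom.id k B := by
  obtain ⟨M, hM, ⟨e⟩⟩ := hB
  let j : MonoidAlgebra k M →ₐc[k] A := ψ.comp (e.symm : MonoidAlgebra k M →ₐc[k] B)
  have hj : Function.Injective j := hψ.comp e.symm.injective
  have hJ' : J = Groth.Agent.H66.Section.augIdeal j := by
    rw [hJ]
    refine le_antisymm (Ideal.map_le_iff_le_comap.2 fun b hb => Ideal.mem_comap.2 ?_)
      (Ideal.map_le_iff_le_comap.2 fun b hb => Ideal.mem_comap.2 ?_)
    · have h1 : (ψ : B →+* A) b = (j : MonoidAlgebra k M →+* A) (e b) := by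
        show ψ b = ψ (e.symm (e b))
        rw [e.symm_apply_apply]
      rw [h1]
      refine Ideal.mem_map_of_mem _ ?_
      show CoalgebraStruct.counit (R := k) (e b) = 0
      exact (CoalgHomClass.counit_comp_apply e b).trans hb
    · show (ψ : B →+* A) (e.symm b) ∈ _
      refine Ideal.mem_map_of_mem _ ?_
      show CoalgebraStruct.counit (R := k) (e.symm b) = 0
      exact (CoalgHomClass.counit_comp_apply e.symm b).trans hb
  obtain ⟨r, hr⟩ := Groth.Agent.H66.Section.exists_retraction j hj J hJ' hU
  refine ⟨(e.symm : MonoidAlgebra k M →ₐc[k] B).comp r, BialgHom.ext fun b => ?_⟩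
  show e.symm (r (ψ b)) = b
  have h : r (ψ b) = e b := by
    have := congrArg (fun f : MonoidAlgebra k M →ₐc[k] MonoidAlgebra k M => f (e b)) hr
    simpa [j] using this
  rw [h, e.symm_apply_apply]

end Groth.Agent.S4128
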