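import Groth.Statements.S5423
import Groth.Agent.H66.UnipPoints
import Groth.Agent.H66.Kolchin
import Groth.Agent.Lib.Hopf.Points
-- import your own Groth.Agent.* helpers here

set_option autoImplicit false
universe u
open TensorProduct
open SGA3t2b

namespace Groth.Agent.S5423

/-- Let k be an algebraically closed field and A a reduced finitely generated commutative Hopf algebra
over k (a smooth affine algebraic k-group G). Then G is unipotent (every non-zero finite-dimensional
representation has a non-zero fixed vector) if and only if every element of G(k) is unipotent, i.e.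
every k-point g : A → k acts on every finite-dimensional comodule V by an endomorphism g_V with g_V
− 1 nilpotent. -/
theorem result (k : Type u) [Field k] [IsAlgClosed k] (A : Type u) [CommRing A] [HopfAlgebra k A] [Algebra.FiniteType k A]
    [IsReduced A] :
    HopfRep.IsUnipotent k A ↔
      ∀ (g : A →ₐ[k] k) (V : Type u) [AddCommGroup V] [Module k V] [HopfRep.Comod k A V],
        Module.Finite k V → IsNilpotent (HopfRep.Comod.act k A V g - LinearMap.id) := by
  have hact : ∀ (g : A →ₐ[k] k) (V : Type u) [AddCommGroup V] [Module k V] [HopfRep.Comod k A V],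
      HopfRep.Comod.act k A V g = Groth.Agent.Lib.Comod.Basic.dact V g.toLinearMap := fun g V _ _ _ => rfl
  constructor
  · intro hU g V _ _ _ hV
    rw [hact]
    exact H66.UnipPoints.isNilpotent_dact_sub hU g.toLinearMap (map_one g)
  · intro h V _ _ _ hV hnt
    let ρ : WithConv (A →ₐ[k] k) →* Module.End k V :=
      { toFun := fun g => Groth.Agent.Lib.Comod.Basic.dact V g.ofConv.toLinearMap
        map_one' := by
          rw [show ((1 : WithConv (A →ₐ[k] k)).ofConv.toLinearMap) = CoalgebraStruct.counit (R := k) (A := A) from
            LinearMap.ext fun x => by simp, Groth.Agent.Lib.Comod.Basic.dact_counit]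
          rfl
        map_mul' := fun g g' => LinearMap.ext fun v => by
          rw [Module.End.mul_apply, Groth.Agent.Lib.Comod.Basic.dact_dact]
          exact congrArg (fun φ => Groth.Agent.Lib.Comod.Basic.dact V φ v)
            (congrArg WithConv.ofConv (H66.UnipPoints.toDual.map_mul g g')) }
    obtain ⟨v, hv0, hv⟩ := H66.Kolchin.exists_fixed ρ fun g => by
      have := h g.ofConv V hV
      rw [hact] at this
      exact this
    refine (Submodule.ne_bot_iff _).2 ⟨v, ?_, hv0⟩
    rw [Groth.Agent.Lib.Comod.Reynolds.mem_fixedPts_iff]
    intro φ
    rw [← sub_eq_zero]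
    refine (Module.forall_dual_apply_eq_zero_iff k _).1 fun l => ?_
    have hc : H66.Coeff.coeff (C := A) l v = l v • (1 : A) := by
      rw [← sub_eq_zero]
      refine Groth.Agent.Lib.Hopf.Points.eq_zero_of_forall_point_eq_zero (k := k) fun g => ?_
      rw [map_sub, map_smul, map_one, smul_eq_mul, mul_one, sub_eq_zero]
      have h1 := congrArg l (hv (WithConv.toConv g))
      rw [← h1]
      change g (H66.Coeff.coeff (C := A) l v) = l (Groth.Agent.Lib.Comod.Basic.dact V g.toLinearMap v)
      rw [Groth.Agent.Lib.Comod.Basic.dact_apply, H66.Coeff.coeff_apply]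
      induction HopfRep.Comod.coact (k := k) (A := A) v using TensorProduct.induction_on with
      | zero => simp
      | add a b ha hb => simp only [map_add, ha, hb]
      | tmul a b => simp [mul_comm]
    have h2 := congrArg φ hc
    rw [map_smul, smul_eq_mul] at h2
    rw [map_sub, map_smul, smul_eq_mul, sub_eq_zero, mul_comm, ← h2]
    rw [Groth.Agent.Lib.Comod.Basic.dact_apply, H66.Coeff.coeff_apply]
    induction HopfRep.Comod.coact (k := k) (A := A) v using TensorProduct.induction_on with
    | zero => simp
    | add a b ha hb => simp only [map_add, ha, hb]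
    | tmul a b => simp [mul_comm]

end Groth.Agent.S5423
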