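import Groth.Statements.S5426
import Groth.Agent.H66.PUnip.MuPrime
import Groth.Agent.S5423

set_option autoImplicit false
universe u
open TensorProduct
open SGA3t2b

namespace Groth.Agent.S5426

/-- Let k be an algebraically closed field and A a finitely generated commutative Hopf algebra over k.
Then G = Spec A is unipotent (fixed-vector form) if and only if for every prime n there is no closed
subgroup of G isomorphic to μ_n (no surjective bialgebra map from A onto the group algebra k[ℤ/n]).
(The published statement is for an arbitrary algebraic group; this row treats affine groups only,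
and a unipotent group is affine.) -/
theorem result (k : Type u) [Field k] [IsAlgClosed k] (A : Type u) [CommRing A] [HopfAlgebra k A] [Algebra.FiniteType k A] :
    HopfRep.IsUnipotent k A ↔
      ∀ n : ℕ, n.Prime → (¬ ∃ φ : A →ₐc[k] MonoidAlgebra k (Multiplicative (ZMod n)), Function.Surjective φ) := by
  constructor
  · rintro hU n hn ⟨φ, hφ⟩
    haveI := Fact.mk hn
    have hμ := Groth.Agent.H66.ExactSeq.isUnipotent_of_surjective φ hφ hU
    have h1 := Groth.Agent.H66.UnipBC.eq_one_of_isGroupLike hμ
      (MonoidAlgebra.isGroupLikeElem_single_one (R := k) (Multiplicative.ofAdd (1 : ZMod n)))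
    rw [MonoidAlgebra.one_def] at h1
    have h2 := MonoidAlgebra.single_left_injective (one_ne_zero (α := k)) h1
    exact one_ne_zero (α := ZMod n) (Multiplicative.ofAdd.injective h2)
  · intro h
    obtain ⟨p, hp⟩ := CharP.exists k
    rcases CharP.char_is_prime_or_zero k p with hpp | rfl
    · haveI := Fact.mk hpp
      exact Groth.Agent.H66.PUnip.isUnipotent_of_no_mu_charP p h
    · haveI : CharZero k := CharP.charP_to_charZero k
      haveI : IsReduced A := Groth.Agent.Lib.Comod.Cartier.isReduced (k := k)
      exact (Groth.Agent.S5423.result k A).2 fun g V _ _ _ hV =>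
        Groth.Agent.H66.PUnip.isNilpotent_act_of_no_mu h g V

end Groth.Agent.S5426
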