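import Groth.Statements.S5949
import Groth.Agent.S2351
import Groth.Agent.Lib.NormalBirational
import Groth.Agent.Lib.MaxFibre.Field
import Mathlib

set_option autoImplicit false
universe u
open CategoryTheory AlgebraicGeometry
open Unram17

namespace Groth.Agent.S5949
theorem stalkMap_bijective_of_residue {X Y : Scheme.{u}} (f : X ⟶ Y) (x : X)
    (hX : IsField (X.presheaf.stalk x)) (hY : IsField (Y.presheaf.stalk (f x)))
    (h : Function.Bijective (f.residueFieldMap x).hom) : Function.Bijective (f.stalkMap x).hom := by
  have key : ∀ (Z : Scheme.{u}) (z : Z), IsField (Z.presheaf.stalk z) → Function.Bijective (Z.residue z).hom := by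
    intro Z z hz
    refine ⟨?_, Scheme.residue_surjective Z z⟩
    refine (RingHom.injective_iff_ker_eq_bot _).mpr ?_
    show RingHom.ker (IsLocalRing.residue (Z.presheaf.stalk z)) = ⊥
    rw [IsLocalRing.ker_residue]
    exact IsLocalRing.isField_iff_maximalIdeal_eq.mp hz
  have hc : (X.residue x).hom.comp (f.stalkMap x).hom = (f.residueFieldMap x).hom.comp (Y.residue (f x)).hom := by
    rw [← CommRingCat.hom_comp, ← CommRingCat.hom_comp, Scheme.residue_residueFieldMap]
  have hb : Function.Bijective ((X.residue x).hom.comp (f.stalkMap x).hom) := by
    rw [hc]; exact h.comp (key Y _ hY)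
  exact (Function.Bijective.of_comp_iff' (key X x hX) _).mp hb


/-- Let X be an integral scheme, X' ⟶ X its normalization (the normalization of X in its function
field), and f : Y ⟶ X a morphism of schemes. Then there is an isomorphism Y ≅ X' over X if and only
if: every local ring of Y is an integrally closed domain, f is an integral morphism, and f is
birational, i.e. Y is irreducible, the fibre of f over the generic point of X consists of the
generic point of Y alone, and the induced map of local rings at the generic points is an
isomorphism. (The published statement allows X reduced with locally finitely many irreducible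
components, the normalization then being taken componentwise; this row states the case of an
integral X. The quasi-compactness and quasi-separatedness binders on the generic point always hold
and only serve to form the normalization.) -/
theorem result (X : Scheme.{u}) [IsIntegral X]
    [QuasiCompact (X.fromSpecStalk (genericPoint X))] [QuasiSeparated (X.fromSpecStalk (genericPoint X))]
    {Y : Scheme.{u}} (f : Y ⟶ X) :
    (∃ e : Y ≅ Curv2.normalization X, e.hom ≫ Curv2.normalizationι X = f) ↔
      Pi1.IsNormalScheme Y ∧ IsIntegralHom f ∧
        ∃ _ : IrreducibleSpace ↥Y, f.base ⁻¹' {genericPoint X} = {genericPoint Y} ∧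
          IsIso (f.stalkMap (genericPoint Y)) := by
  have hι : IsIntegralHom (Curv2.normalizationι X) :=
    inferInstanceAs (IsIntegralHom (X.fromSpecStalk (genericPoint X)).fromNormalization)
  obtain ⟨hNint, hNn, hNs, hgen, hres⟩ := Groth.Agent.S2351.result X
  have hsm : Function.Bijective ((Curv2.normalizationι X).stalkMap (genericPoint (Curv2.normalization X))).hom := by
    refine stalkMap_bijective_of_residue _ _ (Field.toIsField (Curv2.normalization X).functionField) ?_ hres
    show IsField (X.presheaf.stalk ((Curv2.normalizationι X).base _))
    rw [hgen]; exact Field.toIsField X.functionField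
  constructor
  · rintro ⟨e, rfl⟩
    haveI hYint : IsIntegral Y := by
      haveI : Nonempty ↥Y := ⟨e.inv (genericPoint (Curv2.normalization X))⟩
      exact isIntegral_of_isOpenImmersion e.hom
    have heg : e.hom (genericPoint ↥Y) = genericPoint (Curv2.normalization X) :=
      genericPoint_eq_of_isOpenImmersion e.hom
    refine ⟨fun y => ?_, inferInstance, inferInstance, ?_, ?_⟩
    · obtain ⟨h1, h2⟩ := hNn (e.hom y)
      haveI := h1
      haveI := h2
      let r := (asIso (e.hom.stalkMap y)).commRingCatIsoToRingEquiv
      exact ⟨r.symm.toMulEquiv.isDomain _, IsIntegrallyClosed.of_equiv r⟩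
    · ext y
      simp only [Set.mem_preimage, Set.mem_singleton_iff]
      constructor
      · intro hy
        have hy' : Curv2.normalizationι X (e.hom y) = genericPoint X := hy
        have := Groth.Agent.Lib.MaxFibre.eq_of_specializes (Curv2.normalizationι X)
          (genericPoint_specializes (e.hom y)) (hgen.trans hy'.symm)
        exact e.hom.homeomorph.injective (this.symm.trans heg.symm)
      · rintro rfl
        show Curv2.normalizationι X (e.hom (genericPoint ↥Y)) = _
        rw [heg]; exact hgen
    · rw [Scheme.Hom.stalkMap_comp]
      have : IsIso ((Curv2.normalizationι X).stalkMap (e.hom (genericPoint ↥Y))) := by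
        rw [heg]; exact (ConcreteCategory.isIso_iff_bijective _).mpr hsm
      exact @IsIso.comp_isIso _ _ _ _ _ _ _ this inferInstance
  · rintro ⟨hN, hf, hirr, hfib, hiso⟩
    haveI : IsReduced Y := by
      haveI : ∀ y : Y, _root_.IsReduced (Y.presheaf.stalk y) := fun y => by
        haveI := (hN y).1; infer_instance
      exact isReduced_of_isReduced_stalk Y
    haveI : IsIntegral Y := isIntegral_of_irreducibleSpace_of_isReduced Y
    have hη : f (genericPoint ↥Y) = genericPoint ↥X := (hfib.ge rfl : genericPoint ↥Y ∈ f.base ⁻¹' {genericPoint ↥X})
    let e1 := X.presheaf.stalkCongr (Inseparable.of_eq hη)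
    let a : Spec (X.presheaf.stalk (genericPoint ↥X)) ⟶ Y :=
      Spec.map (inv (f.stalkMap (genericPoint ↥Y)) ≫ e1.hom) ≫ Y.fromSpecStalk (genericPoint ↥Y)
    have H : X.fromSpecStalk (genericPoint ↥X) = a ≫ f := by
      simp only [a, Category.assoc]
      rw [← Scheme.SpecMap_stalkMap_fromSpecStalk, ← Spec.map_comp_assoc, IsIso.hom_inv_id_assoc]
      exact (Scheme.SpecMap_stalkSpecializes_fromSpecStalk (Inseparable.of_eq hη).ge).symm
    let h : Curv2.normalization X ⟶ Y := (X.fromSpecStalk (genericPoint ↥X)).normalizationDesc a f H
    haveI : IsIntegralHom h := by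
      show IsIntegralHom (Scheme.Hom.normalizationDesc _ a f H)
      infer_instance
    have hcomp : h ≫ f = Curv2.normalizationι X := Scheme.Hom.normalizationDesc_comp _ a f H
    have hgen' : f (h (genericPoint (Curv2.normalization X))) = genericPoint ↥X := by
      rw [← Scheme.Hom.comp_apply, hcomp]; exact hgen
    have hg2 : h (genericPoint (Curv2.normalization X)) = genericPoint ↥Y :=
      (hfib.le hgen' : h (genericPoint (Curv2.normalization X)) ∈ ({genericPoint ↥Y} : Set Y))
    haveI : Surjective h := ⟨fun y => by
      have hcl : IsClosed (Set.range h) := h.isClosedMap.isClosed_range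
      exact (genericPoint_specializes y).mem_closed hcl ⟨_, hg2⟩⟩
    have hsm' : Function.Bijective (h.stalkMap (genericPoint (Curv2.normalization X))).hom := by
      haveI : IsIso (f.stalkMap (h (genericPoint (Curv2.normalization X)))) := by rw [hg2]; exact hiso
      haveI : IsIso ((h ≫ f).stalkMap (genericPoint (Curv2.normalization X))) := by
        rw [Scheme.Hom.stalkMap_congr_hom _ _ hcomp]
        haveI := (ConcreteCategory.isIso_iff_bijective _).mpr hsm
        infer_instance
      rw [Scheme.Hom.stalkMap_comp] at this
      haveI := @IsIso.of_isIso_comp_left _ _ _ _ _ (f.stalkMap (h (genericPoint (Curv2.normalization X)))) (h.stalkMap (genericPoint (Curv2.normalization X))) inferInstance this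
      exact (ConcreteCategory.isIso_iff_bijective _).mp inferInstance
    haveI := Groth.Agent.Lib.NormalBirational.isIso_of_stalkMap_bijective hN h hg2 hsm'
    refine ⟨(asIso h).symm, ?_⟩
    rw [← hcomp]
    simp

end Groth.Agent.S5949
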