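import Groth.Statements.S3388
import Groth.Agent.Lib.FibreDim.Global

set_option autoImplicit false
open CategoryTheory AlgebraicGeometry
universe u
open EGA43

namespace Groth.Agent.S3388

/-- Let X and Y be irreducible schemes and f : X ⟶ Y a dominant morphism locally of finite type; let e
be the dimension of the fibre over the generic point of Y. Then for every point x of X the local
dimension at x of the fibre through x is at least e. -/
theorem result {X Y : Scheme.{u}} [IrreducibleSpace X] [IrreducibleSpace Y]
    (f : X ⟶ Y) [LocallyOfFiniteType f] [IsDominant f] (x : X) :
    topologicalKrullDim ↥(f.fiber (genericPoint Y)) ≤ FlatMor.fibreDimAt f x := by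
  have hη : f.base (genericPoint X) = genericPoint Y := by
    refine (IsGenericPoint.eq ?_ (genericPoint_spec Y))
    show closure _ = _
    rw [← Set.image_singleton]
    refine Set.eq_univ_of_univ_subset ?_
    rw [← f.denseRange.closure_range, ← Set.image_univ, ← genericPoint_closure (α := X)]
    exact closure_minimal (image_closure_subset_closure_image f.continuous) isClosed_closure
  rw [← hη]
  exact Groth.Agent.Lib.FibreDim.Global.fibre_dim_le_fibreDimAt_of_specializes f
    (fun z _ => genericPoint_specializes z) (genericPoint_specializes x)

end Groth.Agent.S3388
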