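import Groth.Statements.S9777
import Groth.Agent.H56.DimBaseChange

set_option autoImplicit false
universe u
open FlatMor

namespace Groth.Agent.S9777

open AlgebraicGeometry CategoryTheory Limits in
set_option backward.isDefEq.respectTransparency.types false in
/-- For a finite-type morphism f : X ⟶ Y and its pullback f' : X' ⟶ Y' along any g : Y' ⟶ Y, the Krull
dimension of the fibre of f' over a point y' equals that of the fibre of f over g y'; fibre
dimension commutes with base change. -/
theorem result {X Y X' Y' : Scheme.{u}} (f : X ⟶ Y) [QuasiCompact f] [LocallyOfFiniteType f]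
    (g : Y' ⟶ Y) (f' : X' ⟶ Y') (g' : X' ⟶ X) (hc : IsPullback g' f' f g) (y' : Y') :
    topologicalKrullDim ↑(f'.fiber y') = topologicalKrullDim ↑(f.fiber (g y')) := by
  have := MorphismProperty.of_isPullback (P := @LocallyOfFiniteType)
    (IsPullback.of_hasPullback f (Y.fromSpecResidueField (g y'))) ‹_›
  have : LocallyOfFiniteType (f.fiberToSpecResidueField (g y')) := this
  exact @H56.DimBaseChange.topologicalKrullDim_baseChange _ _ _ _ _ _ _ _ _ _
    (isPullback_fiberToSpecResidueField_of_isPullback hc y') this

end Groth.Agent.S9777
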