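import Groth.Statements.S5329
import Groth.Agent.Lib.ActSep.DimFun

set_option autoImplicit false
universe u
open CategoryTheory CategoryTheory.Limits MonoidalCategory CartesianMonoidalCategory MonObj GrpObj AlgebraicGeometry
open SGA3

namespace Groth.Agent.S5329

/-- Let G be an S-group scheme locally of finite type over S. Then (i) s ↦ dim G_s is upper
semicontinuous on S; (ii) if G is locally of finite presentation over S, this function is locally
constructible: every point of S has an open neighbourhood V on which it takes finitely many values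
and on which each of its level sets is constructible. (The published statement is for an S-scheme
locally of finite type with a section ε such that dim G_s = dim_{ε(s)} G_s for all s; this row takes
the case of a group scheme, where that condition holds.) -/
theorem result (S : Scheme.{u}) (G : Over S) [GrpObj G] [LocallyOfFiniteType G.hom] :
    UpperSemicontinuous (fun s : S => topologicalKrullDim ↥(G.hom.base ⁻¹' {s})) ∧
    (LocallyOfFinitePresentation G.hom → ∀ s : S, ∃ V : S.Opens, s ∈ V ∧
      ((fun t : S => topologicalKrullDim ↥(G.hom.base ⁻¹' {t})) '' (V : Set S)).Finite ∧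
      ∀ d : WithBot ℕ∞, Topology.IsConstructible {t : V | topologicalKrullDim ↥(G.hom.base ⁻¹' {(t : S)}) = d}) := by
  have hval : ∀ t : S, ∃ n : ℕ, topologicalKrullDim ↥(G.hom ⁻¹' {t}) = n := fun t => by
    obtain ⟨n, hn⟩ := Groth.Agent.Lib.FibreDim.Chart.exists_fibreDimAt_eq G.hom (η[G].left t)
    exact ⟨n, by rw [← Groth.Agent.Lib.ActSep.fibreDimAt_unit]; exact hn⟩
  have hopen : ∀ m : ℕ, IsOpen {t : S | topologicalKrullDim ↥(G.hom ⁻¹' {t}) ≤ (m : WithBot ℕ∞)} :=
    fun m => Groth.Agent.Lib.ActSep.isOpen_setOf_dim_le G _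
  refine ⟨upperSemicontinuous_iff_isOpen_preimage.2 fun y => ?_, fun hfp s => ?_⟩
  · rw [isOpen_iff_forall_mem_open]
    intro t ht
    obtain ⟨n, hn⟩ := hval t
    exact ⟨_, fun u hu => lt_of_le_of_lt (show _ ≤ (n : WithBot ℕ∞) from hu) (hn ▸ ht), hopen n, hn.le⟩
  obtain ⟨D, hD, hsD, hDc⟩ := Groth.Agent.Lib.ActSep.exists_affine_isCompact_setOf_dim_le G s
  have : QuasiSeparatedSpace ↥(D : Set S) := (isQuasiSeparated_iff_quasiSeparatedSpace (D : Set S) D.2).1 hD.isQuasiSeparated
  let f : ↥(D : Set S) → WithBot ℕ∞ := fun t => topologicalKrullDim ↥(G.hom ⁻¹' {(t : S)})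
  have hcl : ∀ m : ℕ, Topology.IsConstructible {t | f t ≤ (m : WithBot ℕ∞)} := by
    intro m
    have h1 : IsCompact {t | f t ≤ (m : WithBot ℕ∞)} := by
      rw [Subtype.isCompact_iff]
      convert hDc m using 1
      ext t
      exact ⟨fun ⟨u, hu, he⟩ => he ▸ ⟨u.2, hu⟩, fun ht => ⟨⟨t, ht.1⟩, ht.2, rfl⟩⟩
    exact h1.isConstructible ((hopen m).preimage continuous_subtype_val)
  refine ⟨D, hsD, ?_, ?_⟩
  · obtain ⟨F, hF⟩ := hD.isCompact.elim_finite_subcover (fun m : ℕ => {t : S | topologicalKrullDim ↥(G.hom ⁻¹' {t}) ≤ (m : WithBot ℕ∞)}) hopen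
      fun t _ => Set.mem_iUnion.2 ⟨_, (hval t).choose_spec.le⟩
    refine ((Set.finite_Iic (F.sup id)).image (fun k : ℕ => (k : WithBot ℕ∞))).subset ?_
    rintro _ ⟨t, ht, rfl⟩
    obtain ⟨m, hm, htm⟩ := Set.mem_iUnion₂.1 (hF ht)
    obtain ⟨n, hn⟩ := hval t
    refine ⟨n, ?_, hn.symm⟩
    have h2 : (n : WithBot ℕ∞) ≤ (m : WithBot ℕ∞) := hn ▸ htm
    norm_cast at h2
    exact h2.trans (Finset.le_sup (f := id) hm)
  · intro d
    by_cases hd : ∃ n : ℕ, d = n
    · obtain ⟨_ | k, rfl⟩ := hd
      · refine (congrArg Topology.IsConstructible ?_).mpr (hcl 0)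
        ext t
        refine ⟨fun h => le_of_eq h, fun h => le_antisymm h ?_⟩
        obtain ⟨n, hn⟩ := hval t
        show _ ≤ topologicalKrullDim ↥(G.hom ⁻¹' {(t : S)})
        rw [hn]; exact_mod_cast Nat.zero_le n
      · refine (congrArg Topology.IsConstructible ?_).mpr ((hcl (k + 1)).sdiff (hcl k))
        ext t
        obtain ⟨n, hn⟩ := hval t
        show topologicalKrullDim ↥(G.hom ⁻¹' {(t : S)}) = _ ↔ f t ≤ _ ∧ ¬ f t ≤ _
        rw [show f t = _ from hn, hn]
        norm_cast
        omega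
    · refine (congrArg Topology.IsConstructible ?_).mpr Topology.IsConstructible.empty
      ext t
      exact ⟨fun h => hd ⟨_, h.symm.trans (hval t).choose_spec⟩, False.elim⟩


end Groth.Agent.S5329
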