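import Groth.Statements.S7291
import Groth.Agent.Lib.HTopSheaf.LimitLifts
import Groth.Agent.Lib.Subtrusive.VCover

set_option autoImplicit false
open CategoryTheory CategoryTheory.Limits AlgebraicGeometry Opposite
universe w u
open HTop

namespace Groth.Agent.S7291

/-- Let Y be an affine scheme and let X be the limit (as a scheme) of a cofiltered system of affine
schemes X_i over Y. Then the one-member family X over Y is a standard V covering exactly when, for
every i, the one-member family X_i over Y is a standard V covering. -/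
theorem result {Y : Scheme.{u}} [IsAffine Y]
    {I : Type u} [SmallCategory I] [IsCofiltered I] (D : I ⥤ Over Y) [∀ i, IsAffine (D.obj i).left]
    (c : Cone D) (hc : IsLimit ((Over.forget Y).mapCone c)) :
    HTop.IsStandardV (PreZeroHypercover.singleton.{w} c.pt.hom) ↔
      ∀ i, HTop.IsStandardV (PreZeroHypercover.singleton.{w} (D.obj i).hom) := by
  have hlifts : ∀ (Z : Over Y) [IsAffine Z.left],
      HTop.IsStandardV (PreZeroHypercover.singleton.{w} Z.hom) ↔
        Groth.Agent.Lib.Subtrusive.Criterion.HasLifts Z.hom := fun Z _ => by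
    rw [← Groth.Agent.Lib.Subtrusive.VCover.liftsFam_singleton_iff.{w},
      ← Groth.Agent.Lib.Subtrusive.VCover.hasValLift_iff]
    exact ⟨fun h => h.lift,
      fun h => ⟨inferInstance, inferInstanceAs (Finite PUnit), fun _ => inferInstanceAs (IsAffine Z.left), h⟩⟩
  have : ∀ i, IsAffine ((D ⋙ Over.forget Y).obj i) := fun i => inferInstanceAs (IsAffine (D.obj i).left)
  have : IsAffine c.pt.left := Scheme.isAffine_of_isLimit _ hc
  rw [hlifts]
  simp only [hlifts]
  refine ⟨fun h i => ?_, Groth.Agent.Lib.HTopSheaf.LimitLifts.hasLifts_of_isLimit D c hc⟩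
  intro V _ _ _ g
  obtain ⟨W, iC, iD, iV, a, b, hb, hab⟩ := h V g
  exact ⟨W, iC, iD, iV, a ≫ (c.π.app i).left, b, hb, (Category.assoc _ _ _).trans
    ((congrArg (a ≫ ·) (Over.w (c.π.app i))).trans hab)⟩

end Groth.Agent.S7291
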