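import Groth.Statements.S2568
import Groth.Agent.H46.UnibranchCrit

set_option autoImplicit false
open CategoryTheory AlgebraicGeometry
universe u
open EGA43

namespace Groth.Agent.S2568

/-- Chevalley's criterion in the case of irreducible source and base: let X and Y be irreducible
schemes, all local rings of Y geometrically unibranch, and f : X ⟶ Y a dominant morphism locally of
finite type such that for every point x the local dimension at x of the fibre through x equals the
dimension of the generic fibre (the fibre over the image of the generic point of X). Then f is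
universally open. -/
theorem result {X Y : Scheme.{u}} [IrreducibleSpace X] [IrreducibleSpace Y]
    (hY : ∀ y : Y, CAlg2.IsGeomUnibranch (Y.presheaf.stalk y)) (f : X ⟶ Y) [LocallyOfFiniteType f] [IsDominant f]
    (h : ∀ x : X, FlatMor.fibreDimAt f x = topologicalKrullDim ↥(f.fiber (f.base (genericPoint X)))) :
    UniversallyOpen f := by
  refine Groth.Agent.H46.UnivOpen.universallyOpen_of_forall f fun x => ?_
  have hfξ : f (genericPoint X) = genericPoint Y := by
    refine ((genericPoint_spec Y).eq (isGenericPoint_def.2 (Set.eq_univ_of_univ_subset ?_))).symm
    intro y _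
    refine (closure_minimal (fun z hz => ?_) isClosed_closure)
      (f.denseRange.closure_range.ge (Set.mem_univ y))
    obtain ⟨a, rfl⟩ := hz
    exact ((genericPoint_specializes a).map f.continuous).mem_closure
  refine Groth.Agent.H46.UnibranchCrit.isUnivOpenAt_of_le f (genericPoint_specializes x)
    (Groth.Agent.H46.UnibranchCrit.nhd_of_irreducible
      (hfξ ▸ Groth.Agent.H46.UnibranchCrit.isMaxPt_genericPoint) _) (hY _) ?_
  rw [h x]
  refine (Groth.Agent.H46.FibreTrdeg.dim_fiber_le_iff f _ _).2 fun ξ hξ => ?_
  exact Groth.Agent.H46.FibreTrdeg.trd_le f (genericPoint_specializes ξ) hξ.symm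

end Groth.Agent.S2568
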