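import Groth.Statements.S4105
import Groth.Agent.Lib.GrpQ.Coinv
import Groth.Agent.Lib.Hopf.FaithfullyFlat

set_option autoImplicit false
universe u
open CategoryTheory MonoidalCategory CartesianMonoidalCategory MonObj GrpObj AlgebraicGeometry CategoryTheory.Limits
open scoped TensorProduct
open SGA3

namespace Groth.Agent.S4105

open WithConv in
theorem mem_of_comul_sub_mem {k A : Type u} [Field k] [CommRing A] [HopfAlgebra k A] {B : Subalgebra k A}
    [Module.FaithfullyFlat B A] (hB : SGA3.IsHopfSubalgebra k A B) {x : A}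
    (hx : CoalgebraStruct.comul (R := k) (A := A) x - x ⊗ₜ[k] (1 : A) ∈
      LinearMap.range (LinearMap.lTensor A ((SGA3.augIdealSpan k A B).restrictScalars k).subtype)) :
    x ∈ B := by
  let L : A →ₐ[k] A ⊗[↥B] A := Algebra.TensorProduct.includeLeft
  let R : A →ₐ[k] A ⊗[↥B] A := (Algebra.TensorProduct.includeRight : A →ₐ[↥B] A ⊗[↥B] A).restrictScalars k
  let S : A →ₐ[k] A := HopfAlgebra.antipodeAlgHom k A
  have hLR : ∀ b ∈ B, R b = L b := fun b hb => by
    show (1 : A) ⊗ₜ[↥B] b = b ⊗ₜ[↥B] (1 : A)
    simpa [Subalgebra.smul_def] using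
      (TensorProduct.smul_tmul (⟨b, hb⟩ : ↥B) (1 : A) (1 : A)).symm
  let Q : A →ₐ[k] A ⊗[↥B] A := (toConv (L.comp S) * toConv R).ofConv
  have hone : toConv L * toConv (L.comp S) = 1 := by
    apply WithConv.ofConv_injective
    apply AlgHom.toLinearMap_injective
    have h := LinearMap.algHom_comp_convMul_distrib L
      (toConv (LinearMap.id : A →ₗ[k] A)) (toConv (HopfAlgebra.antipode k (A := A)))
    rw [LinearMap.id_mul_antipode] at h
    refine Eq.trans ?_ ((h.symm).trans ?_)
    · rfl
    · ext a; simp [LinearMap.convOne_apply]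
  have hQ : (toConv L * toConv Q) = toConv R := by
    exact (_root_.mul_assoc (toConv L) (toConv (L.comp S)) (toConv R)).symm.trans
      ((congrArg (· * toConv R) hone).trans (_root_.one_mul (toConv R)))
  let Ψ : A ⊗[k] A →ₐ[k] A ⊗[↥B] A := Algebra.TensorProduct.lift L Q fun _ _ => Commute.all _ _
  have hΨ : ∀ a, Ψ (CoalgebraStruct.comul (R := k) (A := A) a) = R a := fun a => by
    conv_rhs => rw [show R a = (toConv L * toConv Q) a by rw [hQ], AlgHom.convMul_apply]
  have hQB : ∀ b ∈ B, Q b = algebraMap k _ (CoalgebraStruct.counit (R := k) b) := fun b hb => by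
    obtain ⟨z, hz⟩ := hB.1 b hb
    have hS : L (LinearMap.mul' k A (TensorProduct.map (HopfAlgebra.antipode k (A := A)) LinearMap.id
        (CoalgebraStruct.comul (R := k) b))) = algebraMap k _ (CoalgebraStruct.counit (R := k) b) := by
      rw [← LinearMap.rTensor_def, HopfAlgebra.mul_antipode_rTensor_comul_apply, AlgHom.commutes]
    rw [← hS, show Q b = (toConv (L.comp S) * toConv R) b from rfl, AlgHom.convMul_apply, ← hz]
    clear hz hS
    induction z using TensorProduct.induction_on with
    | zero => simp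
    | add r s hr hs => simp only [map_add, hr, hs]
    | tmul r s =>
      simp only [TensorProduct.map_tmul, Algebra.TensorProduct.map_tmul, AlgHom.toLinearMap_apply, Subalgebra.coe_val,
        Algebra.TensorProduct.lmul'_apply_tmul, LinearMap.mul'_apply, map_mul, LinearMap.id_apply]
      erw [Algebra.TensorProduct.lift_tmul]
      rw [hLR _ s.2]
      rfl
  have hJ : SGA3.augIdealSpan k A B ≤ RingHom.ker Q.toRingHom := Ideal.span_le.2 fun b hb => by
    change Q b = 0
    rw [hQB b hb.1, hb.2, map_zero]
  obtain ⟨w, hw⟩ := hx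
  have h0 : Ψ (CoalgebraStruct.comul (R := k) (A := A) x - x ⊗ₜ[k] (1 : A)) = 0 := by
    rw [← hw]
    clear hw
    induction w using TensorProduct.induction_on with
    | zero => simp
    | add r s hr hs => simp only [map_add, hr, hs, add_zero]
    | tmul r s =>
      have : Q (s : A) = 0 := hJ s.2
      simp [Ψ, this]
  rw [map_sub, hΨ, sub_eq_zero] at h0
  have hx' : (1 : A) ⊗ₜ[↥B] x = x ⊗ₜ[↥B] (1 : A) := by simpa [Ψ, L, R] using h0
  let M := LinearMap.range (Algebra.linearMap (↥B) A)
  have hinj := Module.FaithfullyFlat.tensorProduct_mk_injective (A := ↥B) (B := A) (A ⧸ M)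
  have hzero : M.mkQ x = 0 := hinj (by
    have h1 : M.mkQ (1 : A) = 0 := (Submodule.Quotient.mk_eq_zero M).2 ⟨1, map_one (algebraMap (↥B) A)⟩
    have := congrArg (LinearMap.lTensor A M.mkQ) hx'
    simp only [LinearMap.lTensor_tmul, h1, TensorProduct.tmul_zero] at this
    simpa using this)
  obtain ⟨b, hb⟩ := (Submodule.Quotient.mk_eq_zero M).1 hzero
  rw [← hb]
  exact b.2

/-- Let A be a commutative Hopf algebra over a field k, B a sub-Hopf-algebra of A and J a normal Hopf
ideal of A (a normal closed subgroup N of G = Spec A). Then J is the ideal generated by the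
augmentation ideal of B (N is the kernel of G → Spec B) if and only if B consists exactly of the
elements x with Δ(x) - x ⊗ 1 in the image of A ⊗ J (B is the ring of functions on G/N). This
expresses that N ↦ O(G/N) and B ↦ Spec (A/AB₊) are inverse bijections. -/
theorem result (k : Type u) [Field k] (A : Type u) [CommRing A] [HopfAlgebra k A]
    (B : Subalgebra k A) (hB : SGA3.IsHopfSubalgebra k A B) (J : Ideal A) [J.IsHopfIdeal k]
    (hJ : SGA3.IsNormalHopfIdeal k A J) :
    J = SGA3.augIdealSpan k A B ↔
      (B : Set A) = {x : A | CoalgebraStruct.comul (R := k) (A := A) x - x ⊗ₜ[k] (1 : A) ∈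
        LinearMap.range (LinearMap.lTensor A (J.restrictScalars k).subtype)} := by
  have hmem : ∀ x : A, x ∈ Lib.GrpQ.SemiInv.coinv k J ↔ CoalgebraStruct.comul (R := k) (A := A) x - x ⊗ₜ[k] (1 : A) ∈
      LinearMap.range (LinearMap.lTensor A (J.restrictScalars k).subtype) := fun x => by
    have hex := lTensor_exact A (LinearMap.exact_subtype_ker_map (Ideal.Quotient.mkₐ k J).toLinearMap)
      Ideal.Quotient.mk_surjective
    have hker : LinearMap.ker (Ideal.Quotient.mkₐ k J).toLinearMap = J.restrictScalars k := by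
      ext a; exact Ideal.Quotient.eq_zero_iff_mem
    rw [hker] at hex
    rw [← hex.linearMap_ker_eq, LinearMap.mem_ker, map_sub, LinearMap.lTensor_tmul, sub_eq_zero,
      Lib.GrpQ.SemiInv.mem_coinv_iff]
    simp only [AlgHom.toLinearMap_apply, map_one]
  have hcoinv : {x : A | CoalgebraStruct.comul (R := k) (A := A) x - x ⊗ₜ[k] (1 : A) ∈
      LinearMap.range (LinearMap.lTensor A (J.restrictScalars k).subtype)} = (Lib.GrpQ.SemiInv.coinv k J : Set A) :=
    Set.ext fun x => (hmem x).symm
  constructor
  · intro h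
    subst h
    have := Lib.Hopf.FaithfullyFlat.faithfullyFlat hB
    refine Set.Subset.antisymm (fun b hb => (hmem b).1 ?_) fun x hx => mem_of_comul_sub_mem hB hx
    rw [Lib.GrpQ.SemiInv.mem_coinv_iff]
    obtain ⟨z, hz⟩ := hB.1 b hb
    let π : A →ₐ[k] A ⧸ SGA3.augIdealSpan k A B := Ideal.Quotient.mkₐ k _
    have hπ : ∀ c ∈ B, π c = algebraMap k _ (CoalgebraStruct.counit (R := k) c) := fun c hc => by
      rw [← π.commutes]
      refine Ideal.Quotient.eq.2 (Ideal.subset_span ⟨sub_mem hc (B.algebraMap_mem _), ?_⟩)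
      change Bialgebra.counitAlgHom k A (c - algebraMap k A _) = 0
      rw [map_sub, AlgHom.commutes, Algebra.algebraMap_self, RingHom.id_apply, Bialgebra.counitAlgHom_apply]
      exact sub_self _
    have h2 : b ⊗ₜ[k] (1 : A ⧸ SGA3.augIdealSpan k A B) =
        (Algebra.linearMap k (A ⧸ SGA3.augIdealSpan k A B)).lTensor A
          ((CoalgebraStruct.counit (R := k) (A := A)).lTensor A (CoalgebraStruct.comul (R := k) b)) := by
      rw [Coalgebra.lTensor_counit_comul]; simp
    change π.toLinearMap.lTensor A (CoalgebraStruct.comul (R := k) b) = _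
    rw [h2, ← hz]
    clear hz h2
    induction z using TensorProduct.induction_on with
    | zero => simp
    | add r s hr hs => simp only [map_add, hr, hs]
    | tmul r s => simp [hπ _ s.2]
  · intro h
    rw [hcoinv] at h
    obtain rfl : B = Lib.GrpQ.SemiInv.coinv k J := SetLike.coe_injective h
    exact le_antisymm (Lib.GrpQ.SemiInv.le_augIdealSpan_coinv hJ) Lib.GrpQ.SemiInv.augIdealSpan_coinv_le

end Groth.Agent.S4105
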