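import Groth.Statements.S19407
import Groth.Agent.H60.LunaEtale
import Groth.Agent.H60.CartLoc
-- import your own Groth.Agent.* helpers here

set_option autoImplicit false
universe u
open TensorProduct
open GLin Groth.Agent.H60.LunaCart Groth.Agent.H60.CartLoc

namespace Groth.Agent.S19407

/-- With explicit neighbourhoods: let k be an algebraically closed field of characteristic zero, A a
finitely generated commutative Hopf algebra over k which is an integral domain and all of whose
finite-dimensional comodules are semisimple (a connected reductive group G), S and R reduced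
finitely generated commutative k-algebras with multiplicative A-coactions (G acting on the affine
varieties Y = Spec S and X = Spec R), S → R an algebra map compatible with the coactions (a
G-morphism θ : X → Y), S₀ → S and R₀ → R injective k-algebra maps whose images are exactly the
subrings of invariants, and S₀ → R₀ an algebra map with S₀ → R₀ → R equal to S₀ → S → R (the
morphism θ/G : X//G → Y//G). Let x be a k-point of X with kernel m such that the local ring of R at
m is an integrally closed domain (X normal at x), R is étale over S at m (θ étale at x), the orbit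
of the image point θ(x) is closed, and every k-point of G fixing θ(x) fixes x (θ injective on the
orbit of x). Then there are f ∈ R₀ and g ∈ S₀ with f and g non-vanishing at x such that, writing h
for the image of f·g in R (so that U = X_h is a saturated affine open neighbourhood of x and V = Y_g
a saturated affine open of Y): every prime of S not containing g is the contraction of a prime of R
not containing h (θ maps U onto V); R is étale over S at every prime not containing h; every k-point
of U with closed orbit maps to a point with closed orbit; R₀ is étale over S₀ at every prime not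
containing f·g (θ/G étale on U//G); and the canonical map S ⊗_{S₀} R₀ → R has every element of its
kernel killed by a power of f·g and every element of R multiplied into its image by a power of h (it
becomes an isomorphism over U//G, i.e. U ≅ V ×_{V//G} U//G): the restriction of θ to U is a strongly
étale G-morphism onto V. (The published statement allows any reductive G; the argument in the source
is complete for connected G, assumed here.) -/
theorem result (k : Type u) [Field k] [IsAlgClosed k] [CharZero k]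
    (A : Type u) [CommRing A] [IsDomain A] [HopfAlgebra k A] [Algebra.FiniteType k A] (hG : HopfRep.IsLinearlyReductive k A)
    (S : Type u) [CommRing S] [IsReduced S] [Algebra k S] [Algebra.FiniteType k S] [HopfRep.Comod k A S] [GLin.IsCoactAlg k A S]
    (R : Type u) [CommRing R] [IsReduced R] [Algebra k R] [Algebra.FiniteType k R] [HopfRep.Comod k A R] [GLin.IsCoactAlg k A R]
    [Algebra S R] [IsScalarTower k S R]
    (hequiv : (∀ s : S, HopfRep.Comod.coact (k := k) (A := A) (algebraMap S R s) =
      Algebra.TensorProduct.map (IsScalarTower.toAlgHom k S R) (AlgHom.id k A) (HopfRep.Comod.coact (k := k) (A := A) s)))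
    (S₀ : Type u) [CommRing S₀] [Algebra k S₀] [Algebra S₀ S] [IsScalarTower k S₀ S]
    (hS₀i : Function.Injective (algebraMap S₀ S)) (hS₀ : (IsScalarTower.toAlgHom k S₀ S).range = GLin.invariants k A S)
    (R₀ : Type u) [CommRing R₀] [Algebra k R₀] [Algebra R₀ R] [IsScalarTower k R₀ R]
    (hR₀i : Function.Injective (algebraMap R₀ R)) (hR₀ : (IsScalarTower.toAlgHom k R₀ R).range = GLin.invariants k A R)
    [Algebra S₀ R₀] [Algebra S₀ R] [IsScalarTower S₀ S R] [IsScalarTower S₀ R₀ R]
    (x : R →ₐ[k] k) (m : Ideal R) [m.IsMaximal] (hm : m = RingHom.ker x.toRingHom)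
    [IsDomain (Localization.AtPrime m)] [IsIntegrallyClosed (Localization.AtPrime m)]
    (het : Algebra.IsEtaleAt S m)
    (hy : GLin.IsClosedOrbit k A (x.comp (IsScalarTower.toAlgHom k S R)))
    (hinj : ∀ g : A →ₐ[k] k, GLin.actPt k g (x.comp (IsScalarTower.toAlgHom k S R)) = x.comp (IsScalarTower.toAlgHom k S R) →
      GLin.actPt k g x = x) :
    ∃ (f : R₀) (g : S₀), x (algebraMap R₀ R (f * algebraMap S₀ R₀ g)) ≠ 0 ∧
      (∀ P : Ideal S, P.IsPrime → algebraMap S₀ S g ∉ P →
        ∃ Q : Ideal R, Q.IsPrime ∧ algebraMap R₀ R (f * algebraMap S₀ R₀ g) ∉ Q ∧ Q.comap (algebraMap S R) = P) ∧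
      (∀ (Q : Ideal R) [Q.IsPrime], algebraMap R₀ R (f * algebraMap S₀ R₀ g) ∉ Q → Algebra.IsEtaleAt S Q) ∧
      (∀ x' : R →ₐ[k] k, x' (algebraMap R₀ R (f * algebraMap S₀ R₀ g)) ≠ 0 → GLin.IsClosedOrbit k A x' →
        GLin.IsClosedOrbit k A (x'.comp (IsScalarTower.toAlgHom k S R))) ∧
      (∀ (q : Ideal R₀) [q.IsPrime], f * algebraMap S₀ R₀ g ∉ q → Algebra.IsEtaleAt S₀ q) ∧
      (∀ z : S ⊗[S₀] R₀, Algebra.TensorProduct.productMap (IsScalarTower.toAlgHom S₀ S R) (IsScalarTower.toAlgHom S₀ R₀ R) z = 0 →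
        ∃ n : ℕ, ((1 : S) ⊗ₜ[S₀] (f * algebraMap S₀ R₀ g)) ^ n * z = 0) ∧
      (∀ r : R, ∃ (n : ℕ) (z : S ⊗[S₀] R₀),
        Algebra.TensorProduct.productMap (IsScalarTower.toAlgHom S₀ S R) (IsScalarTower.toAlgHom S₀ R₀ R) z =
          algebraMap R₀ R (f * algebraMap S₀ R₀ g) ^ n * r) := by
  classical
  subst hm
  haveI : IsNoetherianRing S := Algebra.FiniteType.isNoetherianRing k S
  haveI : Algebra.FinitePresentation S R := Algebra.FinitePresentation.of_finiteType (R := S) (A := R) |>.1
    (Algebra.FiniteType.of_restrictScalars_finiteType k S R)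
  obtain ⟨hflat, hun⟩ := (Groth.Agent.Lib.Unram.AtPrime.isEtaleAt_iff S R (RingHom.ker x.toRingHom)).1 het
  haveI := hflat
  have hhom : Hoch.IsComodHom A (IsScalarTower.toAlgHom k S R).toLinearMap := LinearMap.ext fun s => by
    simp only [LinearMap.comp_apply, AlgHom.toLinearMap_apply, IsScalarTower.toAlgHom_apply, hequiv]
    induction HopfRep.Comod.coact (k := k) (A := A) s using TensorProduct.induction_on with
    | zero => simp
    | tmul a b => simp
    | add a b ha hb => simp only [map_add, ha, hb]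
  have D : Groth.Agent.H60.Luna.Data (A := A) (S := S) x :=
    { hom := hhom
      closed := hy
      inj := hinj
      unram := Groth.Agent.H60.LunaEtale.unram_of_isUnramifiedAt x hun }
  haveI hkS : IsScalarTower k S₀ R₀ := .of_algebraMap_eq fun c => hR₀i <| by
    rw [← IsScalarTower.algebraMap_apply k R₀ R, ← IsScalarTower.algebraMap_apply S₀ R₀ R,
      IsScalarTower.algebraMap_apply S₀ S R, ← IsScalarTower.algebraMap_apply k S₀ S,
      ← IsScalarTower.algebraMap_apply k S R]
  haveI := Groth.Agent.H60.Luna.finiteType_invariants (A := A) (R := S) hG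
  haveI := Groth.Agent.H60.Luna.finiteType_invariants (A := A) (R := R) hG
  haveI : Algebra.FiniteType k S₀ := Algebra.FiniteType.equiv inferInstance
    ((AlgEquiv.ofInjective (IsScalarTower.toAlgHom k S₀ S) hS₀i).trans (Subalgebra.equivOfEq _ _ hS₀)).symm
  haveI : Algebra.FiniteType k R₀ := Algebra.FiniteType.equiv inferInstance
    ((AlgEquiv.ofInjective (IsScalarTower.toAlgHom k R₀ R) hR₀i).trans (Subalgebra.equivOfEq _ _ hR₀)).symm
  haveI : IsNoetherianRing S₀ := Algebra.FiniteType.isNoetherianRing k S₀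
  haveI : Algebra.FiniteType S₀ R₀ := Algebra.FiniteType.of_restrictScalars_finiteType k S₀ R₀
  haveI : Algebra.FinitePresentation S₀ R₀ := Algebra.FinitePresentation.of_finiteType.1 inferInstance
  obtain ⟨c₁, hc₁, hsurj⟩ := exists_surj (A := A) hS₀ hR₀ hG D
  obtain ⟨c₂, hc₂, hinj'⟩ := exists_inj (A := A) hS₀ hR₀ hG hR₀i D
  haveI := Groth.Agent.H60.LunaEtale.isEtaleAt hG D hS₀i hS₀ hR₀i hR₀
    ((RingHom.ker x.toRingHom).comap (algebraMap R₀ R)) rfl
  obtain ⟨f₁, hf₁, hef₁⟩ := Algebra.exists_etale_of_isEtaleAt (R := S₀)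
    ((RingHom.ker x.toRingHom).comap (algebraMap R₀ R))
  haveI := hef₁
  set f := c₁ * c₂ * f₁ with hf
  have hxf : x (algebraMap R₀ R f) ≠ 0 := by
    simp only [hf, map_mul, hc₁, hc₂, one_mul]
    exact hf₁
  have hbasic : (PrimeSpectrum.basicOpen f₁ : Set (PrimeSpectrum R₀)) ⊆ Algebra.etaleLocus S₀ R₀ :=
    Algebra.basicOpen_subset_etaleLocus_iff_etale.2 hef₁
  have hle : ∀ (d : R₀) (q : Ideal R₀) [q.IsPrime], f * d ∉ q → Algebra.IsEtaleAt S₀ q := fun d q hq h =>
    hbasic (a := ⟨q, hq⟩) fun h' => h (q.mul_mem_right _ (q.mul_mem_left _ h'))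
  have hetd : ∀ d : R₀, Algebra.Etale S₀ (Localization.Away (f * d)) := fun d =>
    Algebra.basicOpen_subset_etaleLocus_iff_etale.1 fun q hq => @hle d q.asIdeal q.isPrime hq
  haveI : Algebra.Etale S₀ (Localization.Away f) := mul_one f ▸ hetd 1
  have hopen : IsOpen (Set.range (PrimeSpectrum.comap (algebraMap S₀ (Localization.Away f)))) :=
    (PrimeSpectrum.isOpenMap_comap_of_hasGoingDown_of_finitePresentation).isOpen_range
  let p₀ : PrimeSpectrum S₀ :=
    PrimeSpectrum.comap (algebraMap S₀ R) ⟨RingHom.ker x.toRingHom, RingHom.ker_isPrime _⟩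
  have hp₀ : p₀ ∈ Set.range (PrimeSpectrum.comap (algebraMap S₀ (Localization.Away f))) := by
    let l : Localization.Away f →+* k :=
      IsLocalization.Away.lift f (g := x.toRingHom.comp (algebraMap R₀ R)) (Ne.isUnit hxf)
    refine ⟨⟨RingHom.ker l, RingHom.ker_isPrime l⟩, PrimeSpectrum.ext (Ideal.ext fun s => ?_)⟩
    change l (algebraMap S₀ (Localization.Away f) s) = 0 ↔ x (algebraMap S₀ R s) = 0
    rw [IsScalarTower.algebraMap_apply S₀ R₀ (Localization.Away f), IsLocalization.Away.lift_eq,
      IsScalarTower.algebraMap_apply S₀ R₀ R]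
    rfl
  obtain ⟨_, ⟨_, ⟨g, rfl⟩, rfl⟩, hgp, hgsub⟩ :=
    PrimeSpectrum.isBasis_basic_opens.exists_subset_of_mem_open hp₀ hopen
  have hxg : x (algebraMap R₀ R (algebraMap S₀ R₀ g)) ≠ 0 := by
    rw [← IsScalarTower.algebraMap_apply]; exact hgp
  set h := f * algebraMap S₀ R₀ g with hh
  have hxh : x (algebraMap R₀ R h) ≠ 0 := by
    rw [hh, map_mul, map_mul]; exact mul_ne_zero hxf hxg
  have hK : ∀ z : S ⊗[S₀] R₀, mu k S R S₀ R₀ z = 0 → ∃ n : ℕ, ((1 : S) ⊗ₜ[S₀] h) ^ n * z = 0 := fun z hz =>
    ⟨1, by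
      rw [pow_one, show h = c₁ * f₁ * algebraMap S₀ R₀ g * c₂ by rw [hh, hf]; ring,
        ← mul_one (1 : S), ← Algebra.TensorProduct.tmul_mul_tmul, mul_assoc, hinj' z hz, mul_zero]⟩
  have hC : ∀ r : R, ∃ (n : ℕ) (z : S ⊗[S₀] R₀), mu k S R S₀ R₀ z = algebraMap R₀ R h ^ n * r := fun r => by
    obtain ⟨n, z, hz⟩ := hsurj r
    refine ⟨n, ((1 : S) ⊗ₜ[S₀] (c₂ * f₁ * algebraMap S₀ R₀ g)) ^ n * z, ?_⟩
    rw [map_mul, map_pow, hz, mu_tmul, map_one, one_mul, ← mul_assoc, ← mul_pow, ← map_mul,
      show c₂ * f₁ * algebraMap S₀ R₀ g * c₁ = h by rw [hh, hf]; ring]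
  refine ⟨f, g, hxh, ?_, ?_, ?_, fun q hq hfq => @hle _ q hq hfq, fun z hz => hK z hz,
    fun r => hC r⟩
  · intro P hP hgP
    have hgp' : (⟨P.comap (algebraMap S₀ S), Ideal.comap_isPrime _ _⟩ : PrimeSpectrum S₀) ∈
        PrimeSpectrum.basicOpen g := hgP
    obtain ⟨Q₁, hQ₁⟩ := hgsub hgp'
    let q : Ideal R₀ := Q₁.asIdeal.comap (algebraMap R₀ (Localization.Away f))
    have hfq : f ∉ q := fun h' => Q₁.isPrime.ne_top
      (Ideal.eq_top_of_isUnit_mem _ h' (IsLocalization.Away.algebraMap_isUnit f))
    have hqP : P.comap (algebraMap S₀ S) = q.comap (algebraMap S₀ R₀) := by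
      have := congrArg PrimeSpectrum.asIdeal hQ₁
      rw [PrimeSpectrum.comap_asIdeal, IsScalarTower.algebraMap_eq S₀ R₀ (Localization.Away f),
        ← Ideal.comap_comap] at this
      exact this.symm
    obtain ⟨Q, hQp, hQP, hQq⟩ := exists_prime_tensor P q hqP
    have hhQ : ((1 : S) ⊗ₜ[S₀] h) ∉ Q := fun h' => by
      have : h ∈ q := hQq ▸ h'
      rcases (inferInstance : q.IsPrime).mem_or_mem this with h1 | h1
      · exact hfq h1
      · exact hgP (show g ∈ P.comap (algebraMap S₀ S) from hqP ▸ h1)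
    obtain ⟨Q', hQ'p, hQ'h, hQ'Q⟩ := exists_prime h hK hC Q hhQ
    refine ⟨Q', hQ'p, hQ'h, ?_⟩
    rw [← hQP, ← hQ'Q]
    ext s
    simp
  · intro Q hQ hhQ
    haveI := etale (k := k) (S := S) (R := R) h hK hC (hetd _)
    exact (Algebra.basicOpen_subset_etaleLocus_iff_etale.2 ‹_› :
      (PrimeSpectrum.basicOpen (algebraMap R₀ R h) : Set (PrimeSpectrum R)) ⊆ Algebra.etaleLocus S R)
      (show (⟨Q, hQ⟩ : PrimeSpectrum R) ∈ PrimeSpectrum.basicOpen (algebraMap R₀ R h) from hhQ)
  · intro x' hx' hcl
    exact (isClosedOrbit_iff_of_cart hS₀ hR₀ hhom h hC (exists_pt h hK hC) x' hx').1 hcl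

end Groth.Agent.S19407
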