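import Groth.Statements.S0654
import Groth.Agent.Lib.EtJ.OpenZero
import Groth.Agent.Lib.EtRad.Push
import Groth.Agent.Lib.EtSite.ClosedComplement
import Mathlib.Algebra.Homology.ShortComplex.ExactFunctor
-- import your own Groth.Agent.* helpers here

set_option autoImplicit false
open CategoryTheory CategoryTheory.Limits AlgebraicGeometry Opposite
universe u
open EtCore

namespace Groth.Agent.S0654

open Groth.Agent.Lib
open scoped ZeroObject

theorem restr_push_subsingleton {Z X : Scheme.{u}} (i : Z ⟶ X) (U : X.Opens)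
    (hU : (U : Set X) = (Set.range i.base)ᶜ) [EtShriek.JCont U.ι] (A : EtCoh.Ab U)
    (G : EtCoh.Ab Z) :
    Subsingleton (A ⟶ (EtShriek.restrAlong U.ι).obj ((EtCoh.push i).obj G)) := by
  refine ⟨fun a b => ?_⟩
  ext : 1
  apply NatTrans.ext
  funext V
  obtain ⟨V⟩ := V
  apply ConcreteCategory.hom_ext
  intro s
  have : IsEmpty ↥((EtCoh.bc i).obj ((EtShriek.compEtale U.ι).obj V)).left := by
    refine EtSite.ClosedComplement.isEmpty_bc i _ (Set.disjoint_left.2 ?_)
    rintro _ ⟨v, rfl⟩ h
    have hv : (V.hom.base v).1 ∈ (U : Set X) := (V.hom.base v).2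
    rw [hU] at hv
    exact hv h
  exact @Subsingleton.elim _ (EtSite.ClosedComplement.unique_sections_of_isEmpty G
    ((EtCoh.bc i).obj ((EtShriek.compEtale U.ι).obj V))).1 _ _

theorem isZero_of_stalks {X : Scheme.{u}} (F : EtCoh.Ab X)
    (h : ∀ x : X, IsZero ((EtCoh.stalk (EtSite.Basic.geomPoint X x)).obj F)) : IsZero F := by
  have : IsIso (0 : F ⟶ 0) := EtSite.Stalk.isIso_of_stalks _ (EtSite.Stalk.enoughPts_pt fun x => by
    have hz : IsZero ((EtCoh.stalk (EtSite.Basic.geomPoint X x)).obj (0 : EtCoh.Ab X)) :=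
      Functor.map_isZero _ (isZero_zero _)
    have : IsIso ((EtCoh.stalk (EtSite.Basic.geomPoint X x)).map (0 : F ⟶ 0)) :=
      ⟨⟨hz.to_ _, (h x).eq_of_src _ _, hz.eq_of_src _ _⟩⟩
    exact (ConcreteCategory.isIso_iff_bijective _).1 this)
  exact IsZero.of_iso (isZero_zero _) (asIso (0 : F ⟶ 0))

/-- Let i : Z -> X be a closed immersion and j : U -> X the open immersion of the complement of its
image. For every abelian sheaf F on the small etale site of X, the counit j_! (F|_U) -> F followed
by the unit F -> i_* i^{-1} F composes to zero and the resulting three-term sequence is short exact.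
(Continuity of the composition functor of etale sites, which always holds, is carried as an instance
hypothesis.) -/
theorem result {Z X : Scheme.{u}} (i : Z ⟶ X) [IsClosedImmersion i]
    (U : X.Opens) (hU : (U : Set X) = (Set.range i.base)ᶜ) [AlgebraicGeometry.Etale U.ι] [EtShriek.JCont U.ι]
    (F : EtCoh.Ab X) :
    ∃ w : (EtShriek.extZeroAdj U.ι).counit.app F ≫ (EtCoh.pullPushAdj i).unit.app F = 0,
      (ShortComplex.mk _ _ w).ShortExact := by
  have w : (EtShriek.extZeroAdj U.ι).counit.app F ≫ (EtCoh.pullPushAdj i).unit.app F = 0 :=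
    ((EtShriek.extZeroAdj U.ι).homEquiv _ _).injective
      ((restr_push_subsingleton i U hU _ _).elim _ _)
  refine ⟨w, ?_⟩
  let S := ShortComplex.mk _ _ w
  have hmem : ∀ x : X, x ∈ Set.range U.ι.base ↔ x ∉ Set.range i.base := fun x => by
    rw [Scheme.Opens.range_ι, hU]
    rfl
  have key : ∀ x : X,
      (x ∈ Set.range U.ι.base → IsIso ((EtCoh.stalk (EtSite.Basic.geomPoint X x)).map S.f) ∧
        IsZero ((EtCoh.stalk (EtSite.Basic.geomPoint X x)).obj S.X₃)) ∧
      (x ∈ Set.range i.base → IsZero ((EtCoh.stalk (EtSite.Basic.geomPoint X x)).obj S.X₁) ∧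
        IsIso ((EtCoh.stalk (EtSite.Basic.geomPoint X x)).map S.g)) := by
    intro x
    constructor
    · intro hx
      refine ⟨EtJ.OpenZero.isIso_stalk_counit U.ι _ (by rwa [EtSite.Basic.geomPoint_apply]) F, ?_⟩
      exact EtRad.Push.isZero_stalk_push i _ _ (by
        rw [EtSite.Basic.geomPoint_apply]
        exact (hmem x).1 hx)
    · rintro ⟨z, rfl⟩
      refine ⟨EtJ.OpenZero.isZero_stalk U.ι _ (by
        rw [EtSite.Basic.geomPoint_apply]
        exact fun h => (hmem _).1 h ⟨z, rfl⟩) _, ?_⟩
      let x := i.base z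
      let η := EtSite.Basic.geomPoint X x
      obtain ⟨a, -, -⟩ := Scheme.Pullback.exists_preimage_pullback (f := i) (g := η) z default
        (EtSite.Basic.geomPoint_apply _ _).symm
      have : IsClosedImmersion (pullback.snd i η) :=
        inferInstance
      have : Surjective (pullback.snd i η) := ⟨fun b => ⟨a, Subsingleton.elim _ _⟩⟩
      have := isIso_of_isClosedImmersion_of_surjective (pullback.snd i η)
      obtain ⟨ζ, hζ⟩ : ∃ ζ, ζ ≫ i = η :=
        ⟨inv (pullback.snd i η) ≫ pullback.fst i η, by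
          rw [Category.assoc, pullback.condition, IsIso.inv_hom_id_assoc]⟩
      change IsIso ((EtCoh.stalk η).map S.g)
      rw [← hζ]
      have h₁ : IsIso (EtSite.UnitStalk.unitStalk i ζ AddCommGrpCat.{u + 1} F) :=
        EtSite.UnitStalk.isIso_unitStalk i ζ AddCommGrpCat.{u + 1} F
      have h₂ : IsIso ((EtSite.PushStalk.germTo i AddCommGrpCat.{u + 1} (rfl : ζ ≫ i = ζ ≫ i)).app
          ((EtCoh.pull i).obj F)) :=
        (ConcreteCategory.isIso_iff_bijective _).2
          (EtSite.Immersion.germTo_bijective_of_isClosedImmersion i rfl _)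
      have : IsIso ((Scheme.pointSmallEtale (ζ ≫ i)).sheafFiber.map
        ((EtCoh.pullPushAdj i).unit.app F) ≫ _) := h₁
      exact IsIso.of_isIso_comp_right _ ((EtSite.PushStalk.germTo i AddCommGrpCat.{u + 1}
        (rfl : ζ ≫ i = ζ ≫ i)).app _)
  have hor : ∀ x : X, x ∈ Set.range U.ι.base ∨ x ∈ Set.range i.base := fun x =>
    (em (x ∈ Set.range i.base)).symm.imp_left (hmem x).2
  refine { exact := ?_, mono_f := ?_, epi_g := ?_ }
  · rw [S.exact_iff_isZero_homology]
    refine isZero_of_stalks _ fun x => ?_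
    let P := EtCoh.stalk (EtSite.Basic.geomPoint X x)
    haveI : PreservesFiniteLimits P := inferInstance
    haveI : PreservesFiniteColimits P := inferInstance
    haveI : P.Additive := Functor.additive_of_preserves_binary_products P
    refine IsZero.of_iso ?_ (S.mapHomologyIso P).symm
    rw [← ShortComplex.exact_iff_isZero_homology]
    rcases hor x with hx | hx
    · have h₁ := ((key x).1 hx).1
      have h₃ := ((key x).1 hx).2
      exact ((S.map P).exact_iff_epi (h₃.eq_of_tgt _ _)).2 (IsIso.epi_of_iso (P.map S.f))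
    · have h₁ := ((key x).2 hx).1
      have h₃ := ((key x).2 hx).2
      exact ((S.map P).exact_iff_mono (h₁.eq_of_src _ _)).2 (IsIso.mono_of_iso (P.map S.g))
  · refine EtSite.Stalk.mono_of_stalks S.f (EtSite.Stalk.enoughPts_pt fun x => ?_)
    rcases hor x with hx | hx
    · haveI := ((key x).1 hx).1
      exact ((ConcreteCategory.isIso_iff_bijective _).1 this).1
    · intro a b _
      exact @Subsingleton.elim _ (AddCommGrpCat.subsingleton_of_isZero ((key x).2 hx).1) a b
  · refine EtSite.Stalk.epi_of_stalks S.g (EtSite.Stalk.enoughPts_pt fun x => ?_)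
    rcases hor x with hx | hx
    · intro b
      exact ⟨0, @Subsingleton.elim _ (AddCommGrpCat.subsingleton_of_isZero ((key x).1 hx).2) _ _⟩
    · haveI := ((key x).2 hx).2
      exact ((ConcreteCategory.isIso_iff_bijective _).1 this).2

end Groth.Agent.S0654
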