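import Groth.Statements.S9171
import Groth.Agent.Lib.Synt92.CIPoint

set_option autoImplicit false
universe u
open Synt

namespace Groth.Agent.S9171

/-- Let S = k[x_1, …, x_n]/I over a field k, q a prime of S, q' the corresponding prime of the
polynomial ring and c the integer with c + ht(q) = ht(q'). Equivalent: (1) S_g is a global complete
intersection over k for some g ∉ q; (2) the extension of I to the local ring k[x]_{q'} is generated
by c elements; (5) that extension is generated by a regular sequence. Stated as (1) ↔ (2) and (1) ↔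
(5). -/
theorem result (k : Type u) [Field k] (n : ℕ)
    (I : Ideal (MvPolynomial (Fin n) k)) (q : Ideal (MvPolynomial (Fin n) k ⧸ I)) [q.IsPrime] (c : ℕ)
    (hc : (c : ℕ∞) + q.height = (q.comap (Ideal.Quotient.mk I)).height) :
    ((∃ g : MvPolynomial (Fin n) k ⧸ I, g ∉ q ∧ Synt.IsGlobalCI k (Localization.Away g)) ↔
        ∃ s : Finset (Localization.AtPrime (q.comap (Ideal.Quotient.mk I))), s.card = c ∧
          Ideal.span (s : Set _) =
            I.map (algebraMap _ (Localization.AtPrime (q.comap (Ideal.Quotient.mk I))))) ∧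
      ((∃ g : MvPolynomial (Fin n) k ⧸ I, g ∉ q ∧ Synt.IsGlobalCI k (Localization.Away g)) ↔
        ∃ rs : List (Localization.AtPrime (q.comap (Ideal.Quotient.mk I))),
          RingTheory.Sequence.IsRegular (Localization.AtPrime (q.comap (Ideal.Quotient.mk I))) rs ∧
          Ideal.ofList rs =
            I.map (algebraMap _ (Localization.AtPrime (q.comap (Ideal.Quotient.mk I))))) := by
  classical
  set Q := q.comap (Ideal.Quotient.mk I)
  set J := I.map (algebraMap _ (Localization.AtPrime Q))
  obtain ⟨π, hπ, hker, -⟩ := Lib.Synt92.LocalQuot.exists_hom (Ideal.Quotient.mkₐ k I)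
    (Ideal.Quotient.mkₐ_surjective k I) q (Localization.AtPrime q)
  rw [show RingHom.ker (Ideal.Quotient.mkₐ k I).toRingHom = I from Ideal.Quotient.mkₐ_ker k I] at hker
  haveI : Algebra.EssFiniteType (MvPolynomial (Fin n) k) (Localization.AtPrime Q) :=
    Algebra.EssFiniteType.of_isLocalization _ Q.primeCompl
  haveI : Algebra.EssFiniteType k (Localization.AtPrime Q) :=
    Algebra.EssFiniteType.comp k (MvPolynomial (Fin n) k) _
  have hIQ : I ≤ Q := fun x hx => by
    change Ideal.Quotient.mk I x ∈ q
    rw [Ideal.Quotient.eq_zero_iff_mem.2 hx]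
    exact zero_mem _
  have hJ : J ≠ ⊤ := by
    intro h
    exact IsLocalRing.maximalIdeal.isMaximal (Localization.AtPrime Q) |>.ne_top (top_le_iff.1 (h ▸
      (Ideal.map_mono hIQ).trans (Localization.AtPrime.map_eq_maximalIdeal).le))
  have hquot : ringKrullDim (Localization.AtPrime Q ⧸ J) = ringKrullDim (Localization.AtPrime q) :=
    ringKrullDim_eq_of_ringEquiv ((Ideal.quotEquivOfEq hker.symm).trans
      (RingHom.quotientKerEquivOfSurjective hπ))
  have hfinQ := Lib.Dim.Local.coe_height_toNat k Q
  have hfinq := Lib.Dim.Local.coe_height_toNat k q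
  have hdQ : ringKrullDim (Localization.AtPrime Q) = (Q.height.toNat : WithBot ℕ∞) := by
    rw [IsLocalization.AtPrime.ringKrullDim_eq_height Q (Localization.AtPrime Q), ← hfinQ]
    rfl
  have hdq : ringKrullDim (Localization.AtPrime q) = (q.height.toNat : WithBot ℕ∞) := by
    rw [IsLocalization.AtPrime.ringKrullDim_eq_height q (Localization.AtPrime q), ← hfinq]
    rfl
  rw [← hfinQ, ← hfinq] at hc
  norm_cast at hc
  have hcn : c ≤ n := by
    have h1 := Lib.Dim.Basic.height_add_dimQ k Q
    have h2 : Lib.Dim.Basic.trdegNat k (MvPolynomial (Fin n) k) = n := by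
      have := (Lib.Dim.Basic.ringKrullDim_eq_trdegNat k (MvPolynomial (Fin n) k)).symm.trans
        (Lib.Dim.Basic.ringKrullDim_mvPolynomial k (Fin n))
      simpa using this
    rw [h2, ← hfinQ] at h1
    norm_cast at h1
    omega
  have hμ : c ≤ J.spanFinrank := by
    have h := Lib.Synt92.CIInv.ringKrullDim_le_add J hJ
    rw [hquot, hdQ, hdq] at h
    norm_cast at h
    omega
  -- (5) → (2)
  have h52 : (∃ rs : List (Localization.AtPrime Q), RingTheory.Sequence.IsRegular (Localization.AtPrime Q) rs ∧
      Ideal.ofList rs = J) → ∃ s : Finset (Localization.AtPrime Q), s.card = c ∧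
        Ideal.span (s : Set _) = J := by
    rintro ⟨rs, hrs, hspan⟩
    refine ⟨rs.toFinset, le_antisymm ?_ ?_, ?_⟩
    · have h := ringKrullDim_add_length_eq_ringKrullDim_of_isRegular rs hrs
      rw [hspan, hquot, hdQ, hdq] at h
      norm_cast at h
      have := rs.toFinset_card_le
      omega
    · refine hμ.trans ?_
      rw [← hspan, show Ideal.ofList rs = Ideal.span (rs.toFinset : Set (Localization.AtPrime Q)) by
        simp [Ideal.ofList]]
      exact (Submodule.spanFinrank_span_le_ncard_of_finite (Finset.finite_toSet _)).trans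
        (by rw [Set.ncard_coe_finset])
    · rw [← hspan]
      simp [Ideal.ofList]
  -- (2) → (1)
  have h21 : (∃ s : Finset (Localization.AtPrime Q), s.card = c ∧ Ideal.span (s : Set _) = J) →
      ∃ g, g ∉ q ∧ Synt.IsGlobalCI k (Localization.Away g) := by
    rintro ⟨s, rfl, hspan⟩
    refine Lib.Synt92.CIPoint.exists_isGlobalCI_of_dim I q hcn (fun i => (s.equivFin.symm i : _)) ?_ ?_
    · refine Eq.trans ?_ hspan
      congr 1
      ext x
      exact ⟨fun ⟨i, hi⟩ => hi ▸ (s.equivFin.symm i).2, fun hx => ⟨s.equivFin ⟨x, hx⟩, by simp⟩⟩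
    · rw [hdQ, hdq]
      norm_cast
      omega
  -- (1) → (5)
  have h15 : (∃ g, g ∉ q ∧ Synt.IsGlobalCI k (Localization.Away g)) →
      ∃ rs : List (Localization.AtPrime Q), RingTheory.Sequence.IsRegular (Localization.AtPrime Q) rs ∧
        Ideal.ofList rs = J := by
    rintro ⟨g, hg, hCI⟩
    obtain ⟨rs, h1, h2⟩ := (Lib.Synt92.CIPres.isCIOver_iff _ _ π hπ).1
      (Lib.Synt92.CIPoint.isCIOver_of_away g q hg hCI)
    exact ⟨rs, h1, h2.symm.trans hker⟩
  exact ⟨⟨fun h => h52 (h15 h), h21⟩, ⟨h15, fun h => h21 (h52 h)⟩⟩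

end Groth.Agent.S9171
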