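import Groth.Statements.S3023
import Groth.Agent.H63.GrpIdentity
import Groth.Agent.H63.GrpConnected
import Groth.Agent.H63.GrpIrred
-- import your own Groth.Agent.* helpers here

set_option autoImplicit false
universe u
open CategoryTheory MonoidalCategory CartesianMonoidalCategory MonObj GrpObj AlgebraicGeometry TensorProduct
open SGA3

namespace Groth.Agent.S3023
open Groth.Agent.H63.GrpIrred
open Groth.Agent.H63.GrpConnected
open Groth.Agent.H63.GrpIdentity

/-- Let G be a group scheme over a field k (not necessarily locally of finite type). There is a group
scheme G⁰ over k with a homomorphism G⁰ ⟶ G that is a flat closed immersion (so the local rings of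
G⁰ are those of G) and whose image is the connected component of the identity point of G. The
published statement describes this underlying space as the irreducible component of the identity
point, which coincides with its connected component; the connected component is the form used here. -/
theorem result (k : Type u) [Field k] (G : Over (Spec (CommRingCat.of k))) [GrpObj G] :
    ∃ (G0 : Over (Spec (CommRingCat.of k))) (_ : GrpObj G0) (i : G0 ⟶ G), IsMonHom i ∧ IsClosedImmersion i.left ∧ Flat i.left ∧
      (∀ pt : ↥(𝟙_ (Over (Spec (CommRingCat.of k)))).left, Set.range i.left.base = connectedComponent (η[G].left.base pt)) := by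
  refine ⟨idObj G, idGrp G, idHom G, isMonHom_idHom G, isClosedImmersion_idIncl G, flat_idIncl G, fun pt => ?_⟩
  rw [show η[G].left.base pt = unitPt G from congrArg η[G].left (Subsingleton.elim (α := PrimeSpectrum k) _ _),
    connectedComponent_unit]
  exact range_idIncl G

end Groth.Agent.S3023
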