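import Groth.Statements.S14943
import Groth.Agent.H63.FrobSemisimple
import Mathlib.LinearAlgebra.Semisimple
import Mathlib.RingTheory.TensorProduct.Finite

set_option autoImplicit false
universe u
open CategoryTheory MonoidalCategory CartesianMonoidalCategory MonObj GrpObj AlgebraicGeometry
open AbVar

namespace Groth.Agent.S14943

/-- Let A be an abelian variety over a finite field k with q elements (a proper, geometrically integral
commutative group scheme over k), π_A its q-Frobenius endomorphism (the identity on points and the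
q-th power map on sections; a homomorphism), Ω an algebraic closure of k and l a prime invertible in
k. Then the Frobenius endomorphism acts semisimply on V_l(A) = ℚ_l ⊗_{ℤ_l} T_l(A), T_l(A) the l-adic
Tate module of Ω-points: the ℚ_l-linear endomorphism ℚ_l ⊗ T_l(π_A) is semisimple. (The published
statement is that ℚ[π_A] ⊆ ℚ ⊗ End_k(A) is a semisimple algebra, hence acts semisimply in every
representation over a field of characteristic zero; this row states that action on V_l(A).) -/
theorem result (k Ω : Type u) [Field k] [Finite k] [Field Ω] [Algebra k Ω] [IsAlgClosure k Ω]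
    (l : ℕ) [Fact l.Prime] (hl : (l : k) ≠ 0) (A : Over (Spec (CommRingCat.of k)))
    [GrpObj A] [IsCommMonObj A] [IsProper A.hom] [GeometricallyIntegral A.hom]
    (πA : A ⟶ A) [IsMonHom πA] (hπAb : πA.left.base = 𝟙 _)
    (hπAle : ∀ U : A.left.Opens, U ≤ πA.left ⁻¹ᵁ U)
    (hπAapp : ∀ (U : A.left.Opens) (s : Γ(A.left, U)), (πA.left.appLE U U (hπAle U)).hom s = s ^ Nat.card k) :
    Module.End.IsSemisimple ((AbDual.tateMapₗ (l := l) (T := SGA7.pt Ω) πA).baseChange ℚ_[l]) := by
  haveI : IsAlgClosed Ω := IsAlgClosure.isAlgClosed k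
  haveI : IsIntegral A.left := GeometricallyIntegral.isIntegral_of_subsingleton A.hom
  obtain ⟨g, hg⟩ := H63.AVIsogeny.exists_dim (A := A)
  obtain ⟨h1, h2, -⟩ := H63.HomLattice.tate_free_finite Ω A l hl hg
  haveI := h1; haveI := h2
  set mu := minpoly ℚ (EndAV.toEnd0 (EndAV.End.of πA))
  have hsq : Squarefree mu := H63.FrobSemisimple.squarefree_minpoly πA (Nat.card_pos : 0 < Nat.card k)
    (fun c => H63.FrobPic.ph_eq_pow πA _ hπAb hπAle hπAapp c)
  refine Module.End.isSemisimple_of_squarefree_aeval_eq_zero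
    (p := mu.map (algebraMap ℚ ℚ_[l])) ?_ ?_
  · exact ((PerfectField.separable_iff_squarefree.2 hsq).map).squarefree
  obtain ⟨N, hN, hG⟩ := IsLocalization.integerNormalization_spec (M := nonZeroDivisors ℤ) mu
  set G := IsLocalization.integerNormalization (nonZeroDivisors ℤ) mu
  have hG0 : Polynomial.aeval (EndAV.End.of πA) G = 0 := by
    apply H63.End0Basic.toEnd0_injective
    rw [map_zero, ← Polynomial.aeval_algHom_apply, ← Polynomial.aeval_map_algebraMap ℚ, hG, map_zsmul,
      minpoly.aeval, smul_zero]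
  set L := AbDual.tateMapₗ (l := l) (T := SGA7.pt Ω) πA
  have hL : Polynomial.aeval L (G.map (Int.castRingHom ℤ_[l])) = 0 := by
    rw [← algebraMap_int_eq, Polynomial.aeval_map_algebraMap]
    have h := congrArg (EndAV.End.tateRep l (SGA7.pt (K := k) Ω)) hG0
    rw [Polynomial.aeval_def, Polynomial.hom_eval₂, map_zero] at h
    rw [Polynomial.aeval_def, ← h]
    exact congrArg (fun φ => Polynomial.eval₂ φ _ G) (RingHom.ext_int _ _)
  have hLQ : Polynomial.aeval (L.baseChange ℚ_[l]) ((G.map (Int.castRingHom ℤ_[l])).map (algebraMap ℤ_[l] ℚ_[l])) = 0 := by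
    rw [Polynomial.aeval_map_algebraMap]
    show Polynomial.aeval (Module.End.baseChangeHom ℤ_[l] ℚ_[l] _ L) _ = 0
    rw [Polynomial.aeval_algHom_apply, hL, map_zero]
  rw [Polynomial.map_map, RingHom.ext_int ((algebraMap ℤ_[l] ℚ_[l]).comp (Int.castRingHom ℤ_[l]))
    ((algebraMap ℚ ℚ_[l]).comp (algebraMap ℤ ℚ)), ← Polynomial.map_map, hG] at hLQ
  rw [← Int.cast_smul_eq_zsmul ℚ, Polynomial.smul_eq_C_mul, Polynomial.map_mul, Polynomial.map_C, map_mul,
    Polynomial.aeval_C] at hLQ
  exact (((isUnit_iff_ne_zero.2 ((map_ne_zero_iff _ (algebraMap ℚ ℚ_[l]).injective).2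
    (Int.cast_ne_zero.2 (nonZeroDivisors.ne_zero hN)))).map _).mul_right_eq_zero).1 hLQ

end Groth.Agent.S14943
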