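import Groth.Statements.S14944
import Groth.Agent.H63.Intertwine
import Groth.Agent.S14939
import Groth.Agent.S14943
import Groth.Agent.S16836

set_option autoImplicit false
universe u
open CategoryTheory MonoidalCategory CartesianMonoidalCategory MonObj GrpObj AlgebraicGeometry
open scoped TensorProduct
open AbVar

namespace Groth.Agent.S14944

open scoped Classical in
/-- The self-pairing of a polynomial. -/
noncomputable def pairing {K : Type} [Field K] (f : Polynomial K) : ℕ :=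
  ∑ Q ∈ (UniqueFactorizationMonoid.normalizedFactors f).toFinset,
    (UniqueFactorizationMonoid.normalizedFactors f).count Q * (UniqueFactorizationMonoid.normalizedFactors f).count Q *
      Q.natDegree

open scoped Classical in
theorem finrank_commutant {K L : Type} [Field K] [PerfectField K] [Field L] [Algebra K L] {W : Type u}
    [AddCommGroup W] [Module L W] [FiniteDimensional L W] (π : Module.End L W) (hs : π.IsSemisimple)
    (f : Polynomial K) (hf : f ≠ 0) (hc : π.charpoly = f.map (algebraMap K L)) :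
    Module.finrank L (H63.Intertwine.C π π) = pairing f := by
  rw [H63.Intertwine.finrank_eq_sum π π hs hs, hc]
  exact S16836.result K L f f hf hf

/-- Let A be an abelian variety over a finite field k with q elements (a proper, geometrically integral
commutative group scheme over k), π_A its q-Frobenius endomorphism (the identity on points and the
q-th power map on sections; a homomorphism), Ω an algebraic closure of k, and l₁, l₂ primes
invertible in k; assume (as is the case) that the l_i-adic Tate modules of Ω-points are free of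
finite rank. Then the dimension over ℚ_l of the space of ℚ_l-linear endomorphisms of V_l(A) = ℚ_l
⊗_{ℤ_l} T_l(A) commuting with V_l(π_A) — the endomorphisms commuting with the Galois action — does
not depend on l: it is the same number for l₁ and l₂. -/
theorem result (k Ω : Type u) [Field k] [Finite k] [Field Ω] [Algebra k Ω] [IsAlgClosure k Ω]
    (A : Over (Spec (CommRingCat.of k)))
    [GrpObj A] [IsCommMonObj A] [IsProper A.hom] [GeometricallyIntegral A.hom]
    (πA : A ⟶ A) [IsMonHom πA] (hπAb : πA.left.base = 𝟙 _)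
    (hπAle : ∀ U : A.left.Opens, U ≤ πA.left ⁻¹ᵁ U)
    (hπAapp : ∀ (U : A.left.Opens) (s : Γ(A.left, U)), (πA.left.appLE U U (hπAle U)).hom s = s ^ Nat.card k)
    (l₁ l₂ : ℕ) [Fact l₁.Prime] [Fact l₂.Prime] (h₁ : (l₁ : k) ≠ 0) (h₂ : (l₂ : k) ≠ 0)
    [Module.Free ℤ_[l₁] (AbDual.TateMod A l₁ (SGA7.pt Ω))] [Module.Finite ℤ_[l₁] (AbDual.TateMod A l₁ (SGA7.pt Ω))]
    [Module.Free ℤ_[l₂] (AbDual.TateMod A l₂ (SGA7.pt Ω))] [Module.Finite ℤ_[l₂] (AbDual.TateMod A l₂ (SGA7.pt Ω))] :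
    Module.finrank ℚ_[l₁] (LinearMap.ker (LinearMap.lcomp ℚ_[l₁] _ ((AbDual.tateMapₗ (l := l₁) (T := SGA7.pt Ω) πA).baseChange ℚ_[l₁]) -
          LinearMap.llcomp ℚ_[l₁] _ _ _ ((AbDual.tateMapₗ (l := l₁) (T := SGA7.pt Ω) πA).baseChange ℚ_[l₁]) :
        Module.End ℚ_[l₁] (ℚ_[l₁] ⊗[ℤ_[l₁]] AbDual.TateMod A l₁ (SGA7.pt Ω)) →ₗ[ℚ_[l₁]]
          Module.End ℚ_[l₁] (ℚ_[l₁] ⊗[ℤ_[l₁]] AbDual.TateMod A l₁ (SGA7.pt Ω)))) =
      Module.finrank ℚ_[l₂] (LinearMap.ker (LinearMap.lcomp ℚ_[l₂] _ ((AbDual.tateMapₗ (l := l₂) (T := SGA7.pt Ω) πA).baseChange ℚ_[l₂]) -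
          LinearMap.llcomp ℚ_[l₂] _ _ _ ((AbDual.tateMapₗ (l := l₂) (T := SGA7.pt Ω) πA).baseChange ℚ_[l₂]) :
        Module.End ℚ_[l₂] (ℚ_[l₂] ⊗[ℤ_[l₂]] AbDual.TateMod A l₂ (SGA7.pt Ω)) →ₗ[ℚ_[l₂]]
          Module.End ℚ_[l₂] (ℚ_[l₂] ⊗[ℤ_[l₂]] AbDual.TateMod A l₂ (SGA7.pt Ω)))) := by
  classical
  obtain ⟨P, hP₁, hP₂⟩ := S14939.result k Ω A πA l₁ l₂ h₁ h₂
  have s₁ := S14943.result k Ω l₁ h₁ A πA hπAb hπAle hπAapp
  have s₂ := S14943.result k Ω l₂ h₂ A πA hπAb hπAle hπAapp
  have key : ∀ (l : ℕ) [Fact l.Prime] [Module.Free ℤ_[l] (AbDual.TateMod A l (SGA7.pt Ω))]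
      [Module.Finite ℤ_[l] (AbDual.TateMod A l (SGA7.pt Ω))],
      Module.End.IsSemisimple ((AbDual.tateMapₗ (l := l) (T := SGA7.pt Ω) πA).baseChange ℚ_[l]) →
      (AbDual.tateMapₗ (l := l) (T := SGA7.pt Ω) πA).charpoly = P.map (Int.castRingHom ℤ_[l]) →
      Module.finrank ℚ_[l] (H63.Intertwine.C ((AbDual.tateMapₗ (l := l) (T := SGA7.pt Ω) πA).baseChange ℚ_[l])
        ((AbDual.tateMapₗ (l := l) (T := SGA7.pt Ω) πA).baseChange ℚ_[l])) =
      pairing (P.map (Int.castRingHom ℚ)) := by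
    intro l _ _ _ hs hc
    have hm : P.Monic := Polynomial.monic_of_injective (f := Int.castRingHom ℤ_[l]) Int.cast_injective
      (hc ▸ LinearMap.charpoly_monic _)
    have hne := (hm.map (Int.castRingHom ℚ)).ne_zero
    refine finrank_commutant (L := ℚ_[l]) _ hs _ hne ?_
    rw [LinearMap.charpoly_baseChange, hc, Polynomial.map_map, Polynomial.map_map,
      RingHom.ext_int ((algebraMap ℤ_[l] ℚ_[l]).comp (Int.castRingHom ℤ_[l]))
        ((algebraMap ℚ ℚ_[l]).comp (Int.castRingHom ℚ))]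
  exact (key l₁ s₁ hP₁).trans (key l₂ s₂ hP₂).symm

end Groth.Agent.S14944
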