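import Groth.Statements.S13056
import Groth.Agent.Lib.Zeta.ExpSeries

set_option autoImplicit false
universe u v
open Zeta

namespace Groth.Agent.S13056

/-- Jacobi's formula for a derivation. -/
theorem derivation_det {R S : Type*} [CommRing R] [CommRing S] [Algebra R S]
    {n : Type*} [Fintype n] [DecidableEq n] (D : Derivation R S S) (A : Matrix n n S) :
    D A.det = Matrix.trace (A.adjugate * A.map D) := by
  classical
  have hprod : ∀ (s : Finset n) (f : n → S),
      D (∏ i ∈ s, f i) = ∑ i ∈ s, (∏ j ∈ s.erase i, f j) * D (f i) := by
    intro s f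
    induction s using Finset.cons_induction with
    | empty => simp
    | cons a s ha ih =>
      rw [Finset.prod_cons, Derivation.leibniz, ih, Finset.sum_cons, smul_eq_mul, smul_eq_mul,
        Finset.erase_cons, Finset.mul_sum, add_comm]
      congr 1
      refine Finset.sum_congr rfl fun i hi => ?_
      rw [Finset.erase_cons_of_ne _ (by rintro rfl; exact ha hi), Finset.prod_cons]
      ring
  have key : ∀ i, (A.adjugate * A.map D) i i = ∑ σ : Equiv.Perm n,
      ((Equiv.Perm.sign σ : ℤ) : S) *
        ((∏ j ∈ Finset.univ.erase i, A (σ j) j) * D (A (σ i) i)) := by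
    intro i
    have h1 : (A.adjugate * A.map D) i i = A.cramer (fun j => D (A j i)) i := by
      rw [Matrix.cramer_eq_adjugate_mulVec]
      simp [Matrix.mul_apply, Matrix.mulVec, dotProduct]
    rw [h1, Matrix.cramer_apply, Matrix.det_apply']
    refine Finset.sum_congr rfl fun σ _ => ?_
    congr 1
    rw [← Finset.prod_erase_mul _ _ (Finset.mem_univ i)]
    congr 1
    · exact Finset.prod_congr rfl fun j hj => Matrix.updateCol_ne (Finset.ne_of_mem_erase hj)
    · exact Matrix.updateCol_self
  rw [Matrix.trace, Matrix.det_apply', map_sum]
  simp only [Matrix.diag_apply, key]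
  rw [Finset.sum_comm]
  refine Finset.sum_congr rfl fun σ _ => ?_
  rw [Derivation.leibniz, Derivation.map_intCast, smul_zero, add_zero, hprod, smul_eq_mul,
    Finset.mul_sum]

/-- For an endomorphism φ of a finite-dimensional vector space over a field K, det(Id − tφ) = exp(−∑_{m
≥ 1} tr(φ^m) t^m / m) as power series in t. Stated for a square matrix M, with det(1 − tM) Mathlib's
reversed characteristic polynomial, and over a field of characteristic zero (the exponential series
needs ℚ ⊆ K; this is the case in which the identity is used). -/
theorem result {K : Type u} [Field K] [CharZero K]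
    {n : Type v} [Fintype n] [DecidableEq n] (M : Matrix n n K) :
    ((M.charpolyRev : Polynomial K) : PowerSeries K) =
      PowerSeries.subst (PowerSeries.mk fun m : ℕ => -(Matrix.trace (M ^ m)) / (m : K))
        (PowerSeries.exp K) := by
  have hgc : PowerSeries.constantCoeff
      (PowerSeries.mk fun m : ℕ => -(Matrix.trace (M ^ m)) / (m : K)) = 0 := by
    simp [← PowerSeries.coeff_zero_eq_constantCoeff_apply]
  refine Groth.Agent.Lib.Zeta.ExpSeries.eq_expS_of_derivative hgc ?_ ?_
  · set A : Matrix n n (PowerSeries K) :=
      1 - (PowerSeries.X : PowerSeries K) • M.map PowerSeries.C with hA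
    let G : Matrix n n (PowerSeries K) :=
      Matrix.of fun i j => PowerSeries.mk fun m => (M ^ m) i j
    have hdet : ((M.charpolyRev : Polynomial K) : PowerSeries K) = A.det := by
      rw [Matrix.charpolyRev, ← Polynomial.coeToPowerSeries.ringHom_apply, RingHom.map_det]
      congr 1
      ext i j
      simp [hA, Matrix.one_apply, apply_ite, (PowerSeries.commute_X _).eq]
    have hAG : A * G = 1 := by
      refine Matrix.ext fun i j => PowerSeries.ext fun m => ?_
      rw [hA, Matrix.sub_mul, Matrix.one_mul, Matrix.smul_mul, Matrix.sub_apply, Matrix.smul_apply,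
        Matrix.mul_apply, smul_eq_mul, map_sub]
      cases m with
      | zero => simp [G, Matrix.one_apply, apply_ite]
      | succ m =>
        simp [G, Matrix.one_apply, apply_ite, PowerSeries.coeff_succ_X_mul, pow_succ' M m,
          Matrix.mul_apply]
    have hadj : A.adjugate = A.det • G := by
      have := congrArg (fun B => A.adjugate * B) hAG
      simp only [← Matrix.mul_assoc, Matrix.adjugate_mul, Matrix.smul_mul, Matrix.one_mul,
        Matrix.mul_one] at this
      exact this.symm
    rw [hdet, derivation_det (PowerSeries.derivative K) A, hadj]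
    have hDA : A.map (PowerSeries.derivative K) = -M.map PowerSeries.C := by
      ext i j
      simp [hA, Matrix.one_apply, apply_ite (PowerSeries.derivative K)]
    rw [hDA, Matrix.smul_mul, Matrix.trace_smul, smul_eq_mul, mul_comm]
    congr 1
    ext m
    rw [PowerSeries.coeff_derivative, PowerSeries.coeff_mk, Nat.cast_succ,
      div_mul_cancel₀ _ (Nat.cast_add_one_ne_zero m), Matrix.mul_neg, Matrix.trace_neg, map_neg]
    congr 1
    rw [pow_succ M m, Matrix.trace, Matrix.trace, map_sum]
    refine Finset.sum_congr rfl fun i _ => ?_
    simp [G, Matrix.mul_apply]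
  · rw [← PowerSeries.coeff_zero_eq_constantCoeff_apply, Polynomial.coeff_coe,
      Polynomial.coeff_zero_eq_eval_zero]
    simp

end Groth.Agent.S13056
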