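import Groth.Statements.S5240
import Mathlib
import Groth.Agent.H83.MultType.Primitive

set_option autoImplicit false
universe u
open TensorProduct SGA3b
open SGA3b

namespace Groth.Agent.S5240

/-- Case of an affine target group: Let R be a ring, I a nilpotent ideal of R, H = Spec A an R-group of
multiplicative type, G = Spec C an affine R-group and u : H ⟶ G a homomorphism, given by the
bialgebra map φ : C → A. If the reduction of u modulo I is the unit homomorphism (φ c and ε(c)·1
have the same image in (R/I) ⊗ A for every c), then u is the unit homomorphism: φ c = ε(c)·1 for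
every c. (The published statement allows any S-group G; this row takes G affine.) (Affine group
schemes over an affine base are taken in Hopf-algebra form; base change is the tensor product; a
homomorphism of groups Spec A ⟶ Spec C is a bialgebra map C → A.) -/
theorem result (R : Type u) [CommRing R] (I : Ideal R) (hI : IsNilpotent I)
    (A : Type u) [CommRing A] [HopfAlgebra R A] (hH : IsMultType R A)
    (C : Type u) [CommRing C] [HopfAlgebra R C] (φ : C →ₐc[R] A)
    (h0 : ∀ c : C, (1 : R ⧸ I) ⊗ₜ[R] (φ c) = (1 : R ⧸ I) ⊗ₜ[R] (algebraMap R A (Coalgebra.counit c))) :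
    ∀ c : C, φ c = algebraMap R A (Coalgebra.counit c) := by
  classical
  intro c
  obtain ⟨N, hN⟩ := hI
  let η : C →ₗ[R] A := Algebra.linearMap R A ∘ₗ CoalgebraStruct.counit (R := R) (A := C)
  let δ : C →ₗ[R] A := (φ : C →ₗ[R] A) - η
  suffices key : ∀ n : ℕ, ∀ c, δ c ∈ I ^ n • (⊤ : Submodule R A) by
    have h := key N c
    rw [hN, show (0 : Ideal R) = ⊥ from rfl, Submodule.bot_smul, Submodule.mem_bot] at h
    exact sub_eq_zero.mp h
  have h1 : ∀ c, δ c ∈ I • (⊤ : Submodule R A) := fun c => by
    have h2 := congrArg (TensorProduct.quotTensorEquivQuotSMul A I) (h0 c)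
    rw [← map_one (Ideal.Quotient.mk I), TensorProduct.quotTensorEquivQuotSMul_mk_tmul,
      TensorProduct.quotTensorEquivQuotSMul_mk_tmul, one_smul, one_smul] at h2
    exact (Submodule.Quotient.eq _).1 h2
  intro n
  induction n with
  | zero => intro c; rw [pow_zero, Ideal.one_eq_top, Submodule.top_smul]; trivial
  | succ n ih =>
    intro c
    refine H83.MultType.mem_of_defect_mem hH _ ?_
    have hφ : (φ : C →ₗ[R] A) = η + δ := by simp [δ]
    have hd : H83.MultType.defect (R := R) A (δ c) = TensorProduct.map δ δ (CoalgebraStruct.comul (R := R) c) := by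
      have e1 : CoalgebraStruct.comul (R := R) ((φ : C →ₗ[R] A) c) =
          TensorProduct.map (φ : C →ₗ[R] A) (φ : C →ₗ[R] A) (CoalgebraStruct.comul (R := R) c) :=
        (CoalgHomClass.map_comp_comul_apply φ c).symm
      have e2 : TensorProduct.map η δ (CoalgebraStruct.comul (R := R) c) = (1 : A) ⊗ₜ[R] δ c := by
        rw [show η = Algebra.linearMap R A ∘ₗ CoalgebraStruct.counit from rfl,
          show δ = δ ∘ₗ LinearMap.id from rfl, TensorProduct.map_comp, LinearMap.comp_apply,
          ← LinearMap.rTensor_def, Coalgebra.rTensor_counit_comul]
        simp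
      have e3 : TensorProduct.map δ η (CoalgebraStruct.comul (R := R) c) = δ c ⊗ₜ[R] (1 : A) := by
        rw [show η = Algebra.linearMap R A ∘ₗ CoalgebraStruct.counit from rfl,
          show δ = δ ∘ₗ LinearMap.id from rfl, TensorProduct.map_comp, LinearMap.comp_apply,
          ← LinearMap.lTensor_def, Coalgebra.lTensor_counit_comul]
        simp
      have e4 : TensorProduct.map η η (CoalgebraStruct.comul (R := R) c) = η c ⊗ₜ[R] (1 : A) := by
        rw [show η = Algebra.linearMap R A ∘ₗ CoalgebraStruct.counit from rfl]
        conv_lhs => rw [show TensorProduct.map (Algebra.linearMap R A ∘ₗ CoalgebraStruct.counit (R := R) (A := C))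
            (Algebra.linearMap R A ∘ₗ CoalgebraStruct.counit (R := R) (A := C)) =
          TensorProduct.map (Algebra.linearMap R A ∘ₗ CoalgebraStruct.counit (R := R) (A := C)) (Algebra.linearMap R A) ∘ₗ
            TensorProduct.map LinearMap.id (CoalgebraStruct.counit (R := R) (A := C)) by
            rw [← TensorProduct.map_comp, LinearMap.comp_id]]
        rw [LinearMap.comp_apply, ← LinearMap.lTensor_def, Coalgebra.lTensor_counit_comul]
        simp
      have e5 : CoalgebraStruct.comul (R := R) (η c) = η c ⊗ₜ[R] (1 : A) := by
        show CoalgebraStruct.comul (R := R) (algebraMap R A _) = algebraMap R A _ ⊗ₜ[R] 1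
        rw [Bialgebra.comul_algebraMap, Algebra.TensorProduct.algebraMap_apply]
      rw [H83.MultType.defect_apply]
      rw [hφ, LinearMap.add_apply, map_add, e5, TensorProduct.map_add_left, TensorProduct.map_add_right,
        TensorProduct.map_add_right] at e1
      simp only [LinearMap.add_apply, e2, e3, e4] at e1
      linear_combination (norm := module) (1 : R) • e1
    rw [hd]
    clear hd
    generalize CoalgebraStruct.comul (R := R) c = z
    induction z using TensorProduct.induction_on with
    | zero => rw [map_zero]; exact zero_mem _
    | add a b ha hb => rw [map_add]; exact add_mem ha hb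
    | tmul a b =>
      rw [TensorProduct.map_tmul]
      have hb := h1 b
      have ha := ih a
      generalize δ a = u at ha
      generalize δ b = v at hb
      induction ha using Submodule.smul_induction_on' with
      | add p _ q _ hp hq => rw [TensorProduct.add_tmul]; exact add_mem hp hq
      | smul r hr u _ =>
        induction hb using Submodule.smul_induction_on' with
        | add p _ q _ hp hq => rw [TensorProduct.tmul_add]; exact add_mem hp hq
        | smul s hs v _ =>
          rw [TensorProduct.tmul_smul, ← TensorProduct.smul_tmul', smul_smul, mul_comm]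
          refine Submodule.smul_mem_smul ?_ trivial
          rw [pow_succ]; exact Ideal.mul_mem_mul hr hs

end Groth.Agent.S5240
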