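import Groth.Statements.S5241
import Groth.Agent.S5240
import Groth.Agent.H66.Passage
import Mathlib.RingTheory.HopfAlgebra.Convolution

set_option autoImplicit false
universe u
open TensorProduct SGA3b
open SGA3b

namespace Groth.Agent.S5241

/-- Let R be a ring, I a nilpotent ideal of R, H = Spec A an R-group of multiplicative type, G = Spec C
a commutative affine R-group (C cocommutative) and u, v : H ⟶ G homomorphisms given by bialgebra
maps φ, ψ : C → A. If u and v have the same reduction modulo I (φ c and ψ c have the same image in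
(R/I) ⊗ A for every c), then u = v. (The published statement assumes only that u is central and
allows any S-group G; this row takes G commutative and affine, i.e. C cocommutative.) (Affine group
schemes over an affine base are taken in Hopf-algebra form; base change is the tensor product; a
homomorphism of groups Spec A ⟶ Spec C is a bialgebra map C → A.) -/
theorem result (R : Type u) [CommRing R] (I : Ideal R) (hI : IsNilpotent I)
    (A : Type u) [CommRing A] [HopfAlgebra R A] (hH : IsMultType R A)
    (C : Type u) [CommRing C] [HopfAlgebra R C] [Coalgebra.IsCocomm R C] (φ ψ : C →ₐc[R] A)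
    (h0 : ∀ c : C, (1 : R ⧸ I) ⊗ₜ[R] (φ c) = (1 : R ⧸ I) ⊗ₜ[R] (ψ c)) :
    φ = ψ := by
  let S : C →ₐc[R] C := BialgHom.ofAlgHom (HopfAlgebra.antipodeAlgHom R C)
    (AlgHom.counitAlgHom_comp_antipodeAlgHom) (AlgHom.ext fun c => by
      have h := Groth.Agent.H66.Passage.comul_antipode (k := R) c
      rw [Coalgebra.comm_comul] at h
      show TensorProduct.map _ _ (CoalgebraStruct.comul (R := R) c) = CoalgebraStruct.comul (R := R) _
      exact h.symm)
  let χ : WithConv (C →ₐc[R] A) := WithConv.toConv φ * WithConv.toConv (ψ.comp S)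
  let a : WithConv (C →ₐ[R] A) := WithConv.toConv (φ : C →ₐ[R] A)
  let b : WithConv (C →ₐ[R] A) := WithConv.toConv (ψ : C →ₐ[R] A)
  have hχ : WithConv.toConv (χ.ofConv : C →ₐ[R] A) = a * b⁻¹ := rfl
  let π : A →ₐ[R] (R ⧸ I) ⊗[R] A := Algebra.TensorProduct.includeRight
  have hab : π.comp (φ : C →ₐ[R] A) = π.comp (ψ : C →ₐ[R] A) := AlgHom.ext h0
  have hcb : π.comp χ.ofConv.toAlgHom = π.comp (1 : WithConv (C →ₐ[R] A)).ofConv := by
    rw [show χ.ofConv.toAlgHom = (a * b⁻¹).ofConv from congrArg WithConv.ofConv hχ]
    apply WithConv.toConv_injective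
    rw [AlgHom.comp_convMul_distrib, show π.comp a.ofConv = π.comp b.ofConv from hab,
      ← AlgHom.comp_convMul_distrib, mul_inv_cancel]
  have h1 : a * b⁻¹ = 1 := by
    rw [← hχ]
    refine WithConv.ext (AlgHom.ext fun c => ?_)
    exact Groth.Agent.S5240.result R I hI A hH C χ.ofConv (fun c => AlgHom.congr_fun hcb c) c
  have h2 : a = b := mul_inv_eq_one.mp h1
  exact DFunLike.ext _ _ fun c => congr(($h2).ofConv c)

end Groth.Agent.S5241
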