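import Groth.Statements.S2987
import Mathlib
import Groth.Agent.H83.MultType.Deform
import Groth.Agent.H83.MultType.EtaleLift

set_option autoImplicit false
universe u
open TensorProduct SGA3b
open SGA3b

namespace Groth.Agent.S2987

/-- Let R be a ring, I a nilpotent ideal, and H = Spec A an affine R-group with A flat over R. If the
base change of H to R/I is a quasi-isotrivial group of multiplicative type, then so is H. (Affine
group schemes over an affine base are taken in Hopf-algebra form; base change is the tensor
product.) -/
theorem result (R : Type u) [CommRing R] (A : Type u) [CommRing A] [HopfAlgebra R A] [Module.Flat R A] (I : Ideal R) (hI : IsNilpotent I)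
    (h0 : IsQuasiIsotrivial (R ⧸ I) ((R ⧸ I) ⊗[R] A)) : IsQuasiIsotrivial R A := by
  obtain ⟨s, hs, hsf⟩ := h0
  have hnil := H83.MultType.nil_of_isNilpotent hI
  refine ⟨Ideal.Quotient.mk I ⁻¹' s, H83.MultType.span_preimage_eq_top hnil hs, fun f hf => ?_⟩
  exact H83.MultType.exists_quasi_lift hnil f (hsf _ hf) fun L _ _ _ hd =>
    H83.MultType.isDiag_of_flat_mod_nilpotent (H83.MultType.isNilpotent_map hI L) hd

end Groth.Agent.S2987
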