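import Groth.Statements.S5270
import Mathlib

set_option autoImplicit false
universe u
open TensorProduct SGA3b
open SGA3b

namespace Groth.Agent.S5270

/-- Injectivity of the map to formal homomorphisms. Let A be a Noetherian ring, separated and complete
for the I-adic topology, H = Spec B an isotrivial A-group of multiplicative type and G = Spec C an
affine A-group. If two homomorphisms H ⟶ G, given by bialgebra maps φ, ψ : C → B, have the same
reduction modulo I^(n+1) for every n ≥ 0, then φ = ψ. (Affine group schemes over an affine base are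
taken in Hopf-algebra form; base change is the tensor product; a homomorphism of groups Spec A ⟶
Spec C is a bialgebra map C → A.) -/
theorem result (A : Type u) [CommRing A] [IsNoetherianRing A] (I : Ideal A) [IsAdicComplete I A]
    (B : Type u) [CommRing B] [HopfAlgebra A B] (hH : IsIsotrivial A B)
    (C : Type u) [CommRing C] [HopfAlgebra A C] (φ ψ : C →ₐc[A] B)
    (h : ∀ (n : ℕ) (c : C), (1 : A ⧸ I ^ (n + 1)) ⊗ₜ[A] (φ c) = (1 : A ⧸ I ^ (n + 1)) ⊗ₜ[A] (ψ c)) :
    φ = ψ := by
  classical
  obtain ⟨A', _, _, _, hfin, hff, M, _, ⟨e⟩⟩ := hH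
  refine DFunLike.ext φ ψ fun c => sub_eq_zero.1 ?_
  have hIjac : I ≤ Ideal.jacobson ⊥ := IsAdicComplete.le_jacobson_bot I
  haveI : IsHausdorff I A' := IsHausdorff.of_le_jacobson I A' hIjac
  have hx : ∀ n : ℕ, φ c - ψ c ∈ (I ^ n • ⊤ : Submodule A B) := fun n => by
    refine Submodule.smul_mono_left (Ideal.pow_le_pow_right (Nat.le_succ n)) ?_
    have h1 := congrArg (TensorProduct.quotTensorEquivQuotSMul B (I ^ (n + 1))) (h n c)
    rw [← map_one (Ideal.Quotient.mk (I ^ (n + 1))), TensorProduct.quotTensorEquivQuotSMul_mk_tmul,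
      TensorProduct.quotTensorEquivQuotSMul_mk_tmul, one_smul, one_smul] at h1
    exact (Submodule.Quotient.eq _).1 h1
  refine (Module.FaithfullyFlat.one_tmul_eq_zero_iff (R := A) (M := B) (A := A') _).1 ?_
  apply e.injective
  rw [map_zero]
  refine MonoidAlgebra.ext (Finsupp.ext fun m => ?_)
  let L : B →ₗ[A] A' :=
    ((Finsupp.lapply m ∘ₗ (MonoidAlgebra.coeffLinearEquiv A').toLinearMap) ∘ₗ
      (e : TensorProduct A A' B →ₐc[A'] MonoidAlgebra A' M).toLinearMap).restrictScalars A ∘ₗ
        TensorProduct.mk A A' B 1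
  show L (φ c - ψ c) = 0
  refine IsHausdorff.haus (inferInstance : IsHausdorff I A') _ fun n => ?_
  rw [SModEq.zero]
  have h2 := Submodule.mem_map_of_mem (f := L) (hx n)
  rw [Submodule.map_smul''] at h2
  exact Submodule.smul_mono le_rfl le_top h2

end Groth.Agent.S5270
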