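import Groth.Statements.S2966
import Groth.Agent.H66.UnipBC
-- import your own Groth.Agent.* helpers here

set_option autoImplicit false
universe u
open scoped TensorProduct
open SGA3t2b

namespace Groth.Agent.S2966

/-- In Hopf-algebra form (with unipotent taken in the representation-theoretic sense: affine and every
non-zero finite-dimensional representation has a non-zero fixed vector): let k be a field, A_M the
coordinate Hopf algebra of an affine k-group M of finite type which is of multiplicative type in the
sense that it becomes diagonalisable over an algebraic closure of k, and A_U that of a unipotent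
affine k-group U of finite type. Then (i) every homomorphism M -> U and (ii) every homomorphism U ->
M is trivial: every bialgebra map A_U -> A_M, resp. A_M -> A_U, factors through the counit. -/
theorem result {k : Type u} [Field k] {AM AU : Type u} [CommRing AM] [CommRing AU]
    [HopfAlgebra k AM] [HopfAlgebra k AU] [Algebra.FiniteType k AM] [Algebra.FiniteType k AU]
    (hM : HopfRep.IsDiagonalizable (AlgebraicClosure k) (AlgebraicClosure k ⊗[k] AM)) (hU : HopfRep.IsUnipotent k AU) :
    (∀ φ : AU →ₐc[k] AM, SGA3t2b.IsTrivialBialgHom φ) ∧ (∀ ψ : AM →ₐc[k] AU, SGA3t2b.IsTrivialBialgHom ψ) := by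
  have hnp : H66.UnipBC.NoPrim k AM :=
    H66.UnipBC.noPrim_descend (H66.UnipBC.noPrim_of_isDiagonalizable hM)
  refine ⟨fun φ a => ?_, fun ψ a => ?_⟩
  · have h := H66.UnipBC.eq_counit_of_noPrim (R := k) (H66.Unip.iSup_fil_eq_top hU) hnp
      (φ.comp (Bialgebra.TensorProduct.lid k AU).toBialgHom) ((1 : k) ⊗ₜ[k] a)
    simpa using h
  · let K := AlgebraicClosure k
    let ψK : K ⊗[k] AM →ₐc[K] K ⊗[k] AU := Bialgebra.TensorProduct.map (BialgHom.id K K) ψ
    have hK : HopfRep.IsUnipotent K (K ⊗[k] AU) := H66.UnipBC.isUnipotent_baseChange hU
    have key : ∀ x, ψK x = algebraMap K _ (CoalgebraStruct.counit (R := K) x) := by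
      intro x
      have hx : x ∈ Submodule.span K {a : K ⊗[k] AM | IsGroupLikeElem K a} := hM.symm ▸ Submodule.mem_top
      induction hx using Submodule.span_induction with
      | mem g hg => rw [hg.counit_eq_one, map_one]; exact H66.UnipBC.eq_one_of_isGroupLike hK (hg.map ψK)
      | zero => simp
      | add p q _ _ hp hq => rw [map_add, map_add, map_add, hp, hq]
      | smul c p _ hp => rw [map_smul, map_smul, hp, Algebra.algebraMap_eq_smul_one, Algebra.algebraMap_eq_smul_one, smul_smul, smul_eq_mul]
    apply Algebra.TensorProduct.includeRight_injective (R := k) (A := K) (B := AU) (algebraMap k K).injective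
    have h := key ((1 : K) ⊗ₜ[k] a)
    simp only [ψK, Bialgebra.TensorProduct.map_tmul, BialgHom.id_apply, TensorProduct.counit_tmul, CommSemiring.counit_apply] at h
    simp only [Algebra.TensorProduct.includeRight_apply, h]
    simp [Algebra.TensorProduct.algebraMap_apply, Algebra.algebraMap_eq_smul_one (A := AU), TensorProduct.tmul_smul, TensorProduct.smul_tmul']

end Groth.Agent.S2966
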