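import Groth.Statements.S8392
import Groth.Agent.H87.HomDS
import Mathlib.LinearAlgebra.SymmetricAlgebra.Basis
import Groth.Agent.Lib.RedPts.Ga
-- import your own Groth.Agent.* helpers here

set_option autoImplicit false
universe u
open CategoryTheory MonoidalCategory CartesianMonoidalCategory MonObj GrpObj AlgebraicGeometry
open SGA3x

open Groth.Agent.H87 Groth.Agent.Lib.Tori Groth.Agent.Lib.RedPts
namespace Groth.Agent.S8392

/-- Let H be an S-group scheme of multiplicative type. Then every homomorphism of S-groups H → 𝔾_a is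
trivial. (Stated for H of multiplicative type and of finite type, the class of multiplicative groups
available here; the published statement allows any group of multiplicative type.) -/
theorem result (S : Scheme.{u}) (H : Over S) [GrpObj H] (hH : SGA3x.IsMultTypeFT H)
    (u : H ⟶ Red.Ga S) [IsMonHom u] : u = 1 := by
  have : IsAffineHom (Red.Ga S).hom :=
    MorphismProperty.of_isPullback (IsPullback.of_hasPullback _ _)
      (inferInstanceAs (IsAffineHom (Spec.map (CommRingCat.ofHom
        (algebraMap (ULift.{u} ℤ) (SymmetricAlgebra (ULift.{u} ℤ) (ULift.{u} ℤ)))))))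
  have : LocallyOfFinitePresentation (Red.Ga S).hom := by
    refine MorphismProperty.of_isPullback (IsPullback.of_hasPullback _ _) ?_
    change LocallyOfFinitePresentation (Spec.map (CommRingCat.ofHom
        (algebraMap (ULift.{u} ℤ) (SymmetricAlgebra (ULift.{u} ℤ) (ULift.{u} ℤ)))))
    rw [HasRingHomProperty.Spec_iff (P := @LocallyOfFinitePresentation), CommRingCat.hom_ofHom,
      RingHom.finitePresentation_algebraMap]
    exact Algebra.FinitePresentation.equiv
      (SymmetricAlgebra.equivMvPolynomial (Module.Basis.singleton Unit (ULift.{u} ℤ))).symm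
  obtain ⟨U, -, hUe, hk⟩ := Locus.exists_trivial_locus u hH (Or.inr this)
  obtain ⟨S', f, hf, hs, hc, hloc⟩ := hH
  have key : ∀ s' : S', f s' ∈ (U : Set S) := by
    intro s'
    obtain ⟨O, hO, M, iM, hM, ⟨e⟩⟩ := hloc s'
    let g : (O : Scheme.{u}) ⟶ S := O.ι ≫ f
    let x₀ : (Over.map g).obj (Red.DS (O : Scheme.{u}) M) ⟶ H := BC.down g (BaseChange.overIso e).inv
    let c : Γ((Red.DS (O : Scheme.{u}) M).left, ⊤) := Red.gaFn (S := S) (x₀ ≫ u)
    let v : Red.DS (O : Scheme.{u}) M ⟶ Red.Ga (O : Scheme.{u}) := Ga.gaPt c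
    have hfn : ∀ {X : Over (O : Scheme.{u})} (a : X ⟶ Red.DS (O : Scheme.{u}) M),
        Red.gaFn (a ≫ v) = Red.gaFn (BC.down g (a ≫ (BaseChange.overIso e).inv) ≫ u) := by
      intro X a
      rw [Ga.gaFn_comp, Ga.gaFn_gaPt, BC.down_comp, Category.assoc, Ga.gaFn_comp ((Over.map g).map a)]
      rfl
    have : IsMonHom (BaseChange.overIso e).inv := inferInstanceAs (IsMonHom (BaseChange.overIso e.symm).hom)
    have : IsMonHom v := HomDS.isMonHom_of_points v fun X a b => Ga.gaFn_injective (by
      rw [Ga.gaFn_mul, hfn, hfn, hfn, MonObj.mul_comp a b (BaseChange.overIso e).inv, BC.down_mul,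
        MonObj.mul_comp _ _ u, Ga.gaFn_mul])
    let z : (O : Scheme.{u}) := ⟨s', hO⟩
    let t := (O : Scheme.{u}).fromSpecResidueField z
    have : IsDomain ((O : Scheme.{u}).residueField z) := inferInstance
    have hv : Locus.Kills v t := HomDS.kills_of_univ t M v (HomDS.ga_eq_one t v)
    have hu : Locus.Kills u (t ≫ g) := by
      intro Y p γ
      let Y' : Over (O : Scheme.{u}) := Over.mk (p.left ≫ t)
      let i : (Over.map g).obj Y' ≅ Y := Over.isoMk (Iso.refl _) (by
        show 𝟙 _ ≫ Y.hom = (p.left ≫ t) ≫ g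
        rw [Category.id_comp, Category.assoc]
        exact (Over.w p).symm)
      let a : Y' ⟶ Red.DS (O : Scheme.{u}) M := BC.up g (i.hom ≫ γ) ≫ (BaseChange.overIso e).hom
      have h1 := congrArg Red.gaFn (hv Y' (Over.homMk p.left rfl) a)
      rw [hfn, Category.assoc, Iso.hom_inv_id, Category.comp_id, BC.down_up, Ga.gaFn_one] at h1
      rw [← cancel_epi i.hom, MonObj.comp_one, ← Category.assoc]
      refine Ga.gaFn_injective (h1.trans ?_)
      exact (Ga.gaFn_one (X := (Over.map g).obj Y')).symm
    rw [hUe]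
    have h2 := (Locus.kills_point_iff u (K := (O : Scheme.{u}).residueField z) (t ≫ g)).mp hu
    have hpt : (t ≫ g) (IsLocalRing.closedPoint _) = f s' :=
      congrArg g ((O : Scheme.{u}).fromSpecResidueField_apply z _)
    exact hpt ▸ h2
  rw [← Category.id_comp u]
  refine hk H (Over.homMk (IsOpenImmersion.lift U.ι H.hom (by
    rw [Scheme.Opens.range_ι]
    intro x _
    obtain ⟨s', hs'⟩ := f.surjective x
    exact hs' ▸ key s')) (IsOpenImmersion.lift_fac _ _ _)) (𝟙 H)

end Groth.Agent.S8392
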