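import Groth.Statements.S2462
import Groth.Agent.Lib.FSAdic.Basic
import Mathlib.RingTheory.AdicCompletion.Noetherian

set_option autoImplicit false
universe u
open EGA41

namespace Groth.Agent.S2462

open IsLocalRing in
/-- Let A carry the 𝔞-adic and B the 𝔟-adic topology with B formally smooth over A; let C be a complete
Noetherian local A-algebra with 𝔞C inside the maximal ideal (continuity of A → C) and J ≠ C an
ideal. Then every A-algebra homomorphism u : B → C/J sending 𝔟 into the maximal ideal of C/J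
(continuity) is induced by an A-algebra homomorphism v : B → C sending 𝔟 into the maximal ideal of
C. -/
theorem result {A B C : Type u} [CommRing A] (𝔞 : Ideal A) [CommRing B] [Algebra A B] (𝔟 : Ideal B)
    (hB : EGA41.IsFormallySmoothAdic A 𝔞 B 𝔟)
    [CommRing C] [IsLocalRing C] [IsNoetherianRing C] [IsAdicComplete (maximalIdeal C) C] [Algebra A C]
    (hA : 𝔞.map (algebraMap A C) ≤ maximalIdeal C) (J : Ideal C) (hJ : J ≠ ⊤)
    (u : B →ₐ[A] C ⧸ J) (hu : 𝔟.map u.toRingHom ≤ (maximalIdeal C).map (Ideal.Quotient.mk J)) :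
    ∃ v : B →ₐ[A] C, 𝔟.map v.toRingHom ≤ maximalIdeal C ∧ (Ideal.Quotient.mkₐ A J).comp v = u := by
  have hJm : J ≤ maximalIdeal C := le_maximalIdeal hJ
  haveI : Nontrivial (C ⧸ J) := Ideal.Quotient.nontrivial_iff.2 hJ
  haveI : IsLocalRing (C ⧸ J) := IsLocalRing.of_surjective' _ Ideal.Quotient.mk_surjective
  haveI : IsHausdorff ((maximalIdeal C).map (Ideal.Quotient.mk J)) (C ⧸ J) := by
    refine IsHausdorff.of_isLocalRing _ _ ?_
    intro h
    have h1 : (1 : C ⧸ J) ∈ (maximalIdeal C).map (Ideal.Quotient.mk J) := h ▸ Submodule.mem_top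
    obtain ⟨x, hx, hx'⟩ := (Ideal.mem_map_iff_of_surjective _ Ideal.Quotient.mk_surjective).1 h1
    have h2 : x - 1 ∈ J := (Ideal.Quotient.mk_eq_mk_iff_sub_mem _ _).1 (by rw [hx', map_one])
    refine (maximalIdeal.isMaximal C).ne_top ((Ideal.eq_top_iff_one _).2 ?_)
    simpa using sub_mem hx (hJm h2)
  obtain ⟨v, -, hv⟩ := Groth.Agent.Lib.FSAdic.Basic.exists_lift_complete hB (maximalIdeal C)
    ⟨1, by simpa using hA⟩ J ⟨1, by simpa using hJm⟩ u ⟨1, by simpa using hu⟩
  refine ⟨v, Ideal.map_le_iff_le_comap.2 fun x hx => ?_, hv⟩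
  obtain ⟨c, hc, hc'⟩ := (Ideal.mem_map_iff_of_surjective _ Ideal.Quotient.mk_surjective).1
    (hu (Ideal.mem_map_of_mem _ hx))
  have h1 : Ideal.Quotient.mk J (v x) = u x := AlgHom.congr_fun hv x
  have h2 : v x - c ∈ J := (Ideal.Quotient.mk_eq_mk_iff_sub_mem _ _).1 (h1.trans hc'.symm)
  simpa using add_mem (hJm h2) hc

end Groth.Agent.S2462
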