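import Groth.Statements.S9366
import Groth.Agent.Lib.Synt92.GCIBasic
import Groth.Agent.Lib.Synt92.FieldDim
import Groth.Agent.H20.FibreDimBC
import Groth.Agent.Lib.FibreDim.Chart

set_option autoImplicit false
universe u
open Synt

namespace Groth.Agent.S9366

open AlgebraicGeometry CategoryTheory in
/-- For a relative global complete intersection R → A = R[x_1, …, x_n]/(F_1, …, F_c) and f : Spec A →
Spec R, the function x ↦ dim_x(X_{f x}) is constant with value n − c. -/
theorem result (R : Type u) [CommRing R] (n c : ℕ) (F : Fin c → MvPolynomial (Fin n) R)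
    (hF : Synt.IsRelGCI R n c F) (x : ↑(Spec (CommRingCat.of (Synt.RelGCIRing R n c F)))) :
    FlatMor.fibreDimAt (Spec.map (CommRingCat.ofHom (algebraMap R (Synt.RelGCIRing R n c F)))) x =
      ((n - c : ℕ) : WithBot ℕ∞) := by
  haveI : Algebra.FiniteType R (Synt.RelGCIRing R n c F) := inferInstance
  rw [show x = (𝟙 (Spec (CommRingCat.of (Synt.RelGCIRing R n c F))) : _ ⟶ _).base x from rfl,
    Lib.FibreDim.Chart.fibreDimAt_eq_dimAt _ (𝟙 _) (𝟙 _) (by rw [Category.comp_id, Category.id_comp]) x]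
  norm_cast
  generalize PrimeSpectrum.preimageHomeomorphFiber R (Synt.RelGCIRing R n c F) _ ⟨x, rfl⟩ = Q
  generalize PrimeSpectrum.comap (algebraMap R (Synt.RelGCIRing R n c F)) x = p at Q ⊢
  haveI : Nontrivial (p.asIdeal.Fiber (Synt.RelGCIRing R n c F)) :=
    PrimeSpectrum.nonempty_iff_nontrivial.1 ⟨Q⟩
  obtain ⟨hc, hd⟩ := hF p inferInstance
  obtain ⟨φ, hφ, hker⟩ := Lib.Synt92.GCIBasic.exists_presentation R F p.asIdeal
  have h4 := @Lib.Synt92.FieldDim.dimAt_eq' p.asIdeal.ResidueField _ n c hc (p.asIdeal.Fiber (Synt.RelGCIRing R n c F)) _ _ φ hφ (fun i => MvPolynomial.map (algebraMap R p.asIdeal.ResidueField) (F i)) hker hd.le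
  exact h4 Q.asIdeal

end Groth.Agent.S9366
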