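import Groth.Statements.S9367
import Groth.Agent.S9364
import Groth.Agent.S9366
import Groth.Agent.Lib.Synt92.MorCrit

set_option autoImplicit false
universe u
open Synt

namespace Groth.Agent.S9367

open AlgebraicGeometry CategoryTheory in
/-- If f : X → S is syntomic, then x ↦ dim_x(X_{f x}) is locally constant on X. -/
theorem result {X S : Scheme.{u}} (f : X ⟶ S) (hf : Synt.IsSyntomicMor f) :
    IsLocallyConstant (fun x : ↑X => FlatMor.fibreDimAt f x) := by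
  haveI := Lib.Synt92.MorCrit.lfp_of_isSyntomicMor f hf
  refine (IsLocallyConstant.iff_exists_open _).2 fun x => ?_
  obtain ⟨V, hV, hxV, -⟩ := exists_isAffineOpen_mem_and_subset (X := S) (x := f x) (U := ⊤) trivial
  obtain ⟨⟨U, hU⟩, e, hxU, R, _, n, c, F, hF, e₁, e₂, he⟩ :=
    (S9364.result f x ⟨V, hV⟩ hxV).1 (hf x)
  refine ⟨U, U.isOpen, hxU, fun y hy => ?_⟩
  suffices h : ∀ z : X, z ∈ U → FlatMor.fibreDimAt f z = ((n - c : ℕ) : WithBot ℕ∞) by
    exact (h y hy).trans (h x hxU).symm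
  intro z hz
  haveI : Algebra.FiniteType R (Synt.RelGCIRing R n c F) := inferInstance
  let A : Type u := Synt.RelGCIRing R n c F
  let w : Spec (CommRingCat.of (Synt.RelGCIRing R n c F)) ⟶ X := e₁.inv ≫ U.ι
  let v : Spec (CommRingCat.of R) ⟶ S := e₂.inv ≫ V.ι
  have hw : Spec.map (CommRingCat.ofHom (algebraMap R (Synt.RelGCIRing R n c F))) ≫ v = w ≫ f := by
    simp only [v, w, Category.assoc]
    rw [← cancel_epi e₁.hom, reassoc_of% he, Iso.hom_inv_id_assoc, Iso.hom_inv_id_assoc,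
      Scheme.Hom.resLE_comp_ι]
  have hQ : w.base (e₁.hom.base ⟨z, hz⟩) = z := by
    change (e₁.hom ≫ e₁.inv ≫ U.ι) ⟨z, hz⟩ = z
    rw [Iso.hom_inv_id_assoc]
    rfl
  rw [← hQ, Lib.FibreDim.Chart.fibreDimAt_eq_dimAt f v w hw]
  have h6 := S9366.result R n c F hF (e₁.hom.base ⟨z, hz⟩)
  rw [show e₁.hom.base ⟨z, hz⟩ = (𝟙 (Spec (CommRingCat.of (Synt.RelGCIRing R n c F))) : _ ⟶ _).base
      (e₁.hom.base ⟨z, hz⟩) from rfl,
    Lib.FibreDim.Chart.fibreDimAt_eq_dimAt _ (𝟙 _) (𝟙 _) (by rw [Category.comp_id, Category.id_comp])] at h6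
  exact h6

end Groth.Agent.S9367
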