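import Groth.Statements.S10908
import Mathlib
-- import your own Groth.Agent.* helpers here

set_option autoImplicit false
universe u
open ProjDeg

namespace Groth.Agent.S10908

theorem mem_of_mul_mem {R A : Type u} [CommRing R] [CommRing A] [IsDomain A] [Algebra R A] (𝒜 : ℕ → Submodule R A)
    [GradedAlgebra 𝒜] {j e : ℕ} {s b : A} (hs : s ∈ 𝒜 j) (hs0 : s ≠ 0) (hsb : s * b ∈ 𝒜 (j + e)) : b ∈ 𝒜 e := by
  classical
  rw [← DirectSum.sum_support_decompose 𝒜 b]
  refine Submodule.sum_mem _ fun l _ => ?_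
  by_cases hl : l = e
  · exact hl ▸ (DirectSum.decompose 𝒜 b l).2
  · have h1 : (DirectSum.decompose 𝒜 (s * b) (j + l) : A) = 0 :=
      DirectSum.decompose_of_mem_ne 𝒜 hsb (by omega)
    rw [DirectSum.coe_decompose_mul_add_of_left_mem 𝒜 hs] at h1
    rw [(mul_eq_zero.mp h1).resolve_left hs0]
    exact zero_mem _

set_option maxHeartbeats 3200000 in

/-- Let S be a Noetherian graded integral domain, graded by the natural numbers as an algebra over a
ring R, generated by its degree-one part over S_0 (S_1 S_i = S_{i+1}) with S_1 ≠ 0, and integrally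
closed in its field of fractions (so that X = Proj S is projectively normal). Then for every d ≥ 0
the canonical map from S_d to the global sections of the twisting sheaf O_X(d), sending a to the
section a/1, is bijective. (The underlying lemma: every global section of O_X(d) is an element of
the homogeneous fraction ring integral over S.) (The published corollary takes the degree-zero part
to be a finitely generated algebra over a field; this row assumes only that the ring is Noetherian,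
which is all the argument uses.) -/
theorem result {R A : Type u} [CommRing R] [CommRing A] [IsDomain A]
    [IsNoetherianRing A] [Algebra R A] (𝒜 : ℕ → Submodule R A) [GradedAlgebra 𝒜]
    (hgen : ∀ i : ℕ, 𝒜 1 * 𝒜 i = 𝒜 (i + 1)) (h1 : 𝒜 1 ≠ ⊥) (hint : IsIntegrallyClosed A) (d : ℕ) :
    Function.Bijective (fun a : ↥(𝒜 d) => Twist.globalOf 𝒜 a) := by
  classical
  obtain ⟨x0, hx0, hx00⟩ := (Submodule.ne_bot_iff _).mp h1
  have hirr : x0 ∈ (HomogeneousIdeal.irrelevant 𝒜).toIdeal := HomogeneousIdeal.mem_irrelevant_of_mem 𝒜 one_pos hx0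
  let η : ProjectiveSpectrum 𝒜 := ⟨⊥, by simpa using Ideal.bot_prime, fun hle => hx00 ((Submodule.mem_bot A).mp (show x0 ∈ (⊥ : Ideal A) from hle hirr))⟩
  have hη : ∀ V : TopologicalSpace.Opens (ProjectiveSpectrum.top 𝒜), ∀ p ∈ V, η ∈ V := fun V p hp => by
    refine Specializes.mem_open (x := η) (y := p) ?_ V.2 hp
    exact specializes_iff_mem_closure.mpr ((ProjectiveSpectrum.le_iff_mem_closure 𝒜 η p).mp (bot_le (a := p.asHomogeneousIdeal)))
  have hnz : ∀ c : A, c ∉ η.asHomogeneousIdeal → c ≠ 0 := fun c hc h0 => hc (h0 ▸ zero_mem _)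
  set K := FractionRing A
  set ι := algebraMap A K with hι
  have hιi : Function.Injective ι := IsFractionRing.injective A K
  constructor
  · intro a b hab
    apply Subtype.ext
    have h2 := congrArg Subtype.val (congrFun (congrArg Subtype.val hab) ⟨η, trivial⟩)
    change Localization.mk (a : A) _ = Localization.mk (b : A) _ at h2
    rw [Localization.mk_eq_mk_iff, Localization.r_iff_exists] at h2
    obtain ⟨c, hc⟩ := h2
    simpa using mul_left_cancel₀ (hnz _ c.2) hc
  intro σ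
  choose V mV iV iN jN a s nin cond w using fun p : ProjectiveSpectrum 𝒜 => σ.2 (⟨p, trivial⟩ : ↥(⊤ : TopologicalSpace.Opens (ProjectiveSpectrum.top 𝒜)))
  have hsne : ∀ p, (s p : A) ≠ 0 := fun p => hnz _ (nin p ⟨η, hη _ p (mV p)⟩)
  set a0 : A := ((a η : 𝒜 (iN η)) : A) with ha0
  set s0 : A := ((s η : 𝒜 (jN η)) : A) with hs0
  have hcross : ∀ p, s0 * (a p : A) = (s p : A) * a0 := by
    intro p
    have h2 := (w p ⟨η, hη _ p (mV p)⟩).symm.trans (w η ⟨η, hη _ η (mV η)⟩)
    rw [Localization.mk_eq_mk_iff, Localization.r_iff_exists] at h2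
    obtain ⟨c, hc⟩ := h2
    exact mul_left_cancel₀ (hnz _ c.2) hc
  set q : K := ι a0 / ι s0 with hq
  have hs0' : ι s0 ≠ 0 := fun h => hsne η (hιi (h.trans (map_zero ι).symm))
  have hqs : ∀ p, q * ι (s p) = ι (a p) := by
    intro p
    rw [hq, div_mul_eq_mul_div, div_eq_iff hs0', ← map_mul, ← map_mul, mul_comm a0, ← hcross p, mul_comm]
  -- it is enough that `q` comes from `𝒜 d`
  suffices hb : ∃ b ∈ 𝒜 d, ι b = q by
    obtain ⟨b, hbd, hbq⟩ := hb
    refine ⟨⟨b, hbd⟩, Subtype.ext (funext fun x => Subtype.ext ?_)⟩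
    obtain ⟨p, ⟨⟩⟩ := x
    refine Eq.trans ?_ (w p ⟨p, mV p⟩).symm
    show Localization.mk b _ = Localization.mk (a p : A) _
    rw [Localization.mk_eq_mk_iff, Localization.r_iff_exists]
    refine ⟨1, hιi ?_⟩
    simp only [OneMemClass.coe_one, one_mul, map_mul, map_one]
    rw [hbq, mul_comm, hqs p]
  rcases cond η with hdeg | h0
  swap
  · exact ⟨0, zero_mem _, by rw [hq, ha0, h0, map_zero, zero_div]⟩
  have hdeg' : iN η = jN η + d := by omega
  -- homogeneity
  have hhom : ∀ (m : ℕ) (x b : A), x ∈ 𝒜 m → ι b = q * ι x → b ∈ 𝒜 (m + d) := by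
    intro m x b hx hbx
    refine mem_of_mul_mem 𝒜 (s η).2 (hsne η) ?_
    have h2 : (s η : A) * b = a0 * x := hιi (by
      rw [map_mul, map_mul, hbx, ← mul_assoc, mul_comm (ι _) q, hqs η])
    rw [h2, show jN η + (m + d) = iN η + m by omega]
    exact SetLike.mul_mem_graded (a η).2 hx
  let I : Ideal A :=
    { carrier := {x | ∃ b, ι b = q * ι x}
      zero_mem' := ⟨0, by simp⟩
      add_mem' := fun {x y} ⟨b, hb⟩ ⟨c, hc⟩ => ⟨b + c, by rw [map_add, map_add, hb, hc, mul_add]⟩
      smul_mem' := fun r {x} ⟨b, hb⟩ => ⟨r * b, by rw [smul_eq_mul, map_mul, map_mul, hb]; ring⟩ }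
  set H : Ideal A := Ideal.span {x | x ∈ I ∧ SetLike.IsHomogeneousElem 𝒜 x} with hH
  have hHI : H ≤ I := Ideal.span_le.mpr fun x hx => hx.1
  have hHh : H.IsHomogeneous 𝒜 := Ideal.homogeneous_span 𝒜 _ fun x hx => hx.2
  have hrad : (HomogeneousIdeal.irrelevant 𝒜).toIdeal ≤ H.radical := by
    intro x hx
    rw [Ideal.radical_eq_sInf, Submodule.mem_sInf]
    rintro P ⟨hHP, hP⟩
    by_contra hxP
    have hne : ¬ HomogeneousIdeal.irrelevant 𝒜 ≤ Ideal.homogeneousCore 𝒜 P := fun hle =>
      hxP (Ideal.toIdeal_homogeneousCore_le 𝒜 P (hle hx))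
    let p : ProjectiveSpectrum 𝒜 := ⟨Ideal.homogeneousCore 𝒜 P, Ideal.IsPrime.homogeneousCore hP, hne⟩
    apply nin p ⟨p, mV p⟩
    show (s p : A) ∈ Ideal.homogeneousCore 𝒜 P
    exact Ideal.mem_homogeneousCore_of_homogeneous_of_mem ⟨jN p, (s p).2⟩
      (hHP (Ideal.subset_span ⟨⟨a p, (hqs p).symm⟩, jN p, (s p).2⟩))
  obtain ⟨N, hN⟩ := Ideal.exists_radical_pow_le_of_fg H (IsNoetherian.noetherian _)
  have hpow : ∀ n, ∀ x ∈ 𝒜 n, x ∈ (HomogeneousIdeal.irrelevant 𝒜).toIdeal ^ n := by
    intro n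
    induction n with
    | zero => intro x _; simp
    | succ n ih =>
      intro x hx
      rw [← hgen n] at hx
      refine Submodule.mul_induction_on hx (fun y hy z hz => ?_) (fun y z hy hz => add_mem hy hz)
      rw [pow_succ']
      exact Ideal.mul_mem_mul (HomogeneousIdeal.mem_irrelevant_of_mem 𝒜 one_pos hy) (ih z hz)
  have hiter : ∀ k : ℕ, ∃ b ∈ 𝒜 (N + k * d), ι b = q ^ k * ι (x0 ^ N) := by
    intro k
    induction k with
    | zero => exact ⟨x0 ^ N, by simpa using SetLike.pow_mem_graded N hx0, by simp⟩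
    | succ k ih =>
      obtain ⟨b, hb, hbq⟩ := ih
      obtain ⟨c, hc⟩ : b ∈ I := hHI (hN (Ideal.pow_right_mono hrad N (Ideal.pow_le_pow_right (Nat.le_add_right N (k * d)) (hpow _ b hb))))
      refine ⟨c, ?_, by rw [hc, hbq, pow_succ]; ring⟩
      have := hhom _ b c hb hc
      rwa [show N + (k + 1) * d = N + k * d + d by ring]
  have halm : IsAlmostIntegral A q := ⟨x0 ^ N, mem_nonZeroDivisors_of_ne_zero (pow_ne_zero N hx00), fun k => by
    obtain ⟨b, -, hb⟩ := hiter k
    exact ⟨b, by rw [Algebra.smul_def]; exact hb.trans (mul_comm _ _)⟩⟩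
  obtain ⟨b, hb⟩ := IsIntegrallyClosed.isIntegral_iff.mp halm.isIntegral
  refine ⟨b, mem_of_mul_mem 𝒜 (s η).2 (hsne η) ?_, hb⟩
  have h2 : (s η : A) * b = a0 := hιi (by rw [map_mul, hb, mul_comm, hqs η])
  rw [h2, ← hdeg']
  exact (a η).2

end Groth.Agent.S10908
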