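import Groth.Statements.S9232
import Groth.Agent.H24.CompletionFlat
import Mathlib.RingTheory.AdicCompletion.Functoriality

set_option autoImplicit false
universe u
open CAlg

namespace Groth.Agent.S9232

/-- Suppose A → B is a flat local ring map between Noetherian local rings, the maximal ideal of A
generates that of B, and the residue field map is bijective. Then the induced map between the
completions of A and B (a ring map of the completions compatible with A → B; it is unique since A is
Noetherian) is an isomorphism. -/
theorem result (A B : Type u) [CommRing A]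
    [CommRing B] [IsLocalRing A] [IsLocalRing B] [IsNoetherianRing A] [IsNoetherianRing B]
    [Algebra A B] [IsLocalHom (algebraMap A B)] [Module.Flat A B]
    (hm : Ideal.map (algebraMap A B) (IsLocalRing.maximalIdeal A) = IsLocalRing.maximalIdeal B)
    (hk : Function.Bijective (IsLocalRing.ResidueField.map (algebraMap A B)))
    (ψ : AdicCompletion (IsLocalRing.maximalIdeal A) A →+* AdicCompletion (IsLocalRing.maximalIdeal B) B)
    (hψ : ψ.comp (algebraMap A (AdicCompletion (IsLocalRing.maximalIdeal A) A)) =
      (algebraMap B (AdicCompletion (IsLocalRing.maximalIdeal B) B)).comp (algebraMap A B)) :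
    Function.Bijective ψ := by
  let := ψ.toAlgebra
  have hst : IsScalarTower A (AdicCompletion (IsLocalRing.maximalIdeal A) A)
      (AdicCompletion (IsLocalRing.maximalIdeal B) B) :=
    IsScalarTower.of_algebraMap_eq' (by
      rw [IsScalarTower.algebraMap_eq A B (AdicCompletion (IsLocalRing.maximalIdeal B) B)]
      exact hψ.symm)
  have hmap : (IsLocalRing.maximalIdeal (AdicCompletion (IsLocalRing.maximalIdeal A) A)).map ψ =
      IsLocalRing.maximalIdeal (AdicCompletion (IsLocalRing.maximalIdeal B) B) := by
    rw [AdicCompletion.maximalIdeal_eq_map, AdicCompletion.maximalIdeal_eq_map, Ideal.map_map, hψ,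
      ← Ideal.map_map, hm]
  have hloc : IsLocalHom ψ := ((IsLocalRing.local_hom_TFAE ψ).out 0 2 (rfl) (rfl)).mpr hmap.le
  constructor
  · have : Module.Flat (AdicCompletion (IsLocalRing.maximalIdeal A) A)
        (AdicCompletion (IsLocalRing.maximalIdeal B) B) := H24.CompletionFlat.flat_completion A B
    have : IsLocalHom (algebraMap (AdicCompletion (IsLocalRing.maximalIdeal A) A)
        (AdicCompletion (IsLocalRing.maximalIdeal B) B)) := hloc
    have : Module.FaithfullyFlat (AdicCompletion (IsLocalRing.maximalIdeal A) A)
        (AdicCompletion (IsLocalRing.maximalIdeal B) B) := Module.FaithfullyFlat.of_flat_of_isLocalHom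
    exact FaithfulSMul.algebraMap_injective _ _
  · have : IsHausdorff ((IsLocalRing.maximalIdeal (AdicCompletion (IsLocalRing.maximalIdeal A) A)).map ψ)
        (AdicCompletion (IsLocalRing.maximalIdeal B) B) := by rw [hmap]; infer_instance
    refine surjective_of_mk_map_comp_surjective (I := IsLocalRing.maximalIdeal _) ψ fun y => ?_
    obtain ⟨y, rfl⟩ := Ideal.Quotient.mk_surjective y
    obtain ⟨b, hb⟩ := (AdicCompletion.residueField_map_bijective B).2 (IsLocalRing.residue _ y)
    obtain ⟨b, rfl⟩ := IsLocalRing.residue_surjective b
    rw [IsLocalRing.ResidueField.map_residue] at hb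
    obtain ⟨a, ha⟩ := hk.2 (IsLocalRing.residue B b)
    obtain ⟨a, rfl⟩ := IsLocalRing.residue_surjective a
    rw [IsLocalRing.ResidueField.map_residue] at ha
    refine ⟨algebraMap A _ a, (Ideal.Quotient.mk_eq_mk_iff_sub_mem _ _).mpr ?_⟩
    rw [hmap, ← IsLocalRing.residue_eq_zero_iff, map_sub, sub_eq_zero]
    rw [← RingHom.comp_apply ψ, hψ, RingHom.comp_apply, ← hb,
      ← IsLocalRing.ResidueField.map_residue, ha, IsLocalRing.ResidueField.map_residue]

end Groth.Agent.S9232
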