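import Groth.Statements.S1493
import Groth.Agent.H68.LCIRegular

set_option autoImplicit false
universe u
attribute [local instance] HasDerivedCategory.standard
open FlatMor

namespace Groth.Agent.S1493

open AlgebraicGeometry in
theorem regular_sections {X : Scheme.{u}} (hX : ∀ x : X, IsRegularLocalRing ↑(X.presheaf.stalk x))
    {U : X.Opens} (hU : IsAffineOpen U) [IsNoetherianRing Γ(X, U)] : IsRegularRing Γ(X, U) := by
  refine isRegularRing_iff.2 fun p _ => ?_
  let x : U := ⟨hU.fromSpec ⟨p, inferInstance⟩, by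
    have h : hU.fromSpec ⟨p, inferInstance⟩ ∈ Set.range hU.fromSpec := ⟨_, rfl⟩
    rwa [IsAffineOpen.range_fromSpec] at h⟩
  letI : Algebra Γ(X, U) (X.presheaf.stalk (x : X)) := X.presheaf.algebra_section_stalk x
  haveI : IsLocalization.AtPrime (X.presheaf.stalk (x : X)) p := hU.isLocalization_stalk' ⟨p, inferInstance⟩ x.2
  haveI := hX x
  exact IsRegularLocalRing.of_ringEquiv
    (IsLocalization.algEquiv p.primeCompl (X.presheaf.stalk (x : X)) (Localization.AtPrime p)).toRingEquiv

open AlgebraicGeometry CategoryTheory Limits in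
/-- Let f : X → Y be locally of finite type with X and Y regular (locally Noetherian with regular local
rings). Then f is a local complete intersection morphism (affine-locally: local complete
intersection ring maps). -/
theorem result {X Y : Scheme.{u}} (f : X ⟶ Y) [LocallyOfFiniteType f] [IsLocallyNoetherian X] [IsLocallyNoetherian Y]
    (hX : ∀ x : X, IsRegularLocalRing ↑(X.presheaf.stalk x)) (hY : ∀ y : Y, IsRegularLocalRing ↑(Y.presheaf.stalk y)) :
    (∀ (U : X.Opens) (V : Y.Opens) (hU : IsAffineOpen U) (hV : IsAffineOpen V) (hUV : U ≤ f ⁻¹ᵁ V),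
        letI := (f.appLE V U hUV).hom.toAlgebra
        LCI.IsLCI Γ(Y, V) Γ(X, U)) := by
  intro U V hU hV hUV
  letI := (f.appLE V U hUV).hom.toAlgebra
  haveI : IsNoetherianRing Γ(Y, V) := IsLocallyNoetherian.component_noetherian (X := Y) ⟨V, hV⟩
  haveI : IsNoetherianRing Γ(X, U) := IsLocallyNoetherian.component_noetherian (X := X) ⟨U, hU⟩
  haveI := regular_sections hY hV
  haveI := regular_sections hX hU
  haveI : Algebra.FiniteType Γ(Y, V) Γ(X, U) :=
    RingHom.finiteType_algebraMap.1 (HasRingHomProperty.appLE @LocallyOfFiniteType f inferInstance ⟨V, hV⟩ ⟨U, hU⟩ hUV)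
  obtain ⟨n, φ, hφ⟩ := Algebra.FiniteType.iff_quotient_mvPolynomial''.1 (inferInstance : Algebra.FiniteType Γ(Y, V) Γ(X, U))
  exact ⟨inferInstance, n, φ, hφ, Groth.Agent.H68.LCIRegular.isKoszulRegularIdeal_ker φ.toRingHom hφ⟩

end Groth.Agent.S1493
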