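import Groth.Statements.S1717
import Groth.Agent.H18.CatDim

set_option autoImplicit false
universe u
open LocCoh

namespace Groth.Agent.S1717

/-- Let A be a catenary Noetherian local ring satisfying Serre's condition (S_2). Then Spec A is
equidimensional: for every minimal prime p of A the dimension of A/p equals the dimension of A. -/
theorem result (A : Type u) [CommRing A] [IsLocalRing A] [IsNoetherianRing A] (hc : CAlg.IsCatenary A) (hS : LocCoh.HasSk 2 A A) (p : Ideal A) (hp : p ∈ minimalPrimes A) : ringKrullDim (A ⧸ p) = ringKrullDim A := by
  refine Groth.Agent.H18.CatDim.equidim hc (fun q hq => ?_) p hp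
  have := (Groth.Agent.H18.SerreCrit.hasSk_iff 2 A).mp hS q.asIdeal inferInstance 2 le_rfl (by
    rw [IsLocalization.AtPrime.ringKrullDim_eq_height q.asIdeal]
    exact WithBot.coe_le_coe.mpr (by simpa using hq))
  exact_mod_cast this

end Groth.Agent.S1717
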