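import Groth.Statements.S9769
import Groth.Agent.Lib.Flat55.FlatOverFibre
import Groth.Agent.Lib.StalkLoc.Basic

set_option autoImplicit false
universe u
open FlatMor

namespace Groth.Agent.S9769

open AlgebraicGeometry CategoryTheory Limits in
/-- Let f : X ⟶ S be locally of finite presentation and F a finitely presented O_X-module which is flat
over S. Then the formation of the locus of points of X near which F is free (equivalently, for
finitely presented F, where the stalk of F is a free module) commutes with arbitrary base change: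
for a cartesian square with g' : X' ⟶ X over S' ⟶ S, the free locus of (g')^*F is the preimage of
that of F. The published statement also asserts that this locus is open; this row states only that
its formation commutes with base change. -/
theorem result {X S X' S' : Scheme.{u}} (f : X ⟶ S) [LocallyOfFinitePresentation f]
    (F : X.Modules) (hF : CohB1.IsFP F) (hfl : FlatMod.IsFlatOver f F)
    (g : S' ⟶ S) (f' : X' ⟶ S') (g' : X' ⟶ X) (hc : IsPullback g' f' f g) :
    {x' : ↑X' | Module.Free ↑(X'.presheaf.stalk x') ↑(((Scheme.Modules.pullback g').obj F).presheaf.stalk x')} =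
      g' ⁻¹' {x : ↑X | Module.Free ↑(X.presheaf.stalk x) ↑(F.presheaf.stalk x)} := by
  haveI : SheafOfModules.IsFinitePresentation (R := X.ringCatSheaf) F := hF
  haveI : F.IsQuasicoherent := inferInstance
  haveI : LocallyOfFinitePresentation (𝟙 X ≫ f) := by rw [Category.id_comp]; infer_instance
  have hfl' : FlatMod.IsFlatOver (𝟙 X ≫ f) F := by rw [Category.id_comp]; exact hfl
  -- flatness over the scheme itself is flatness of the stalk
  have hid : ∀ {Z : Scheme.{u}} (M : Z.Modules) (z : Z),
      FlatMod.IsFlatOverAt (𝟙 Z) M z ↔ Module.Flat (Z.presheaf.stalk z) (M.presheaf.stalk z) := by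
    intro Z M z
    have h : ∀ (a : Z.presheaf.stalk z) (m : M.presheaf.stalk z),
        ((𝟙 Z : Z ⟶ Z).stalkMap z).hom a • m = a • m := fun a m => by
      rw [Scheme.Hom.stalkMap_id]; rfl
    exact ⟨@Groth.Agent.Lib.Flat55.FibrewiseScheme.flat_congr (Z.presheaf.stalk z) (M.presheaf.stalk z) _ _
        (FlatMod.moduleStalk M z) (FlatMod.moduleStalkOver (𝟙 Z) M z) (fun a m => (h a m).symm),
      @Groth.Agent.Lib.Flat55.FibrewiseScheme.flat_congr (Z.presheaf.stalk z) (M.presheaf.stalk z) _ _
        (FlatMod.moduleStalkOver (𝟙 Z) M z) (FlatMod.moduleStalk M z) h⟩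
  ext x'
  simp only [Set.mem_preimage, Set.mem_ofPred_eq]
  have key := Groth.Agent.Lib.Flat55.FlatOverFibre.isFlatOverAt_iff_baseChange (𝟙 X) f F hfl' g g' f' hc g'
    (𝟙 X') (IsPullback.of_vert_isIso ⟨by rw [Category.id_comp, Category.comp_id]⟩) x'
  rw [hid, hid] at key
  -- the stalk of `F` is finite, hence so is that of the pullback
  obtain ⟨U, hU, hxU, -, hfpU⟩ := Groth.Agent.Lib.Flat55.QCohFP.exists_affine_le F (g' x') ⊤ trivial
  let _ := TopCat.Presheaf.algebra_section_stalk X.presheaf (⟨g' x', hxU⟩ : U)
  have := hU.isLocalization_stalk ⟨g' x', hxU⟩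
  let _ := Groth.Agent.Lib.StalkLoc.Basic.moduleSections F hxU
  have : IsScalarTower Γ(X, U) (X.presheaf.stalk (g' x')) (F.presheaf.stalk (g' x')) :=
    Groth.Agent.Lib.StalkLoc.Basic.isScalarTower_sections F hxU
  have := Groth.Agent.Lib.StalkLoc.Basic.isLocalizedModule_germ (M := F) hU hxU
  have : Module.Finite (X.presheaf.stalk (g' x')) (F.presheaf.stalk (g' x')) :=
    Module.Finite.of_isLocalizedModule (hU.primeIdealOf ⟨g' x', hxU⟩).asIdeal.primeCompl
      (Rₚ := X.presheaf.stalk (g' x')) (Groth.Agent.Lib.StalkLoc.Basic.germₗ F hxU)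
  let _ : Algebra (X.presheaf.stalk (g' x')) (X'.presheaf.stalk x') := (g'.stalkMap x').hom.toAlgebra
  let e : TensorProduct (X.presheaf.stalk (g' x')) (X'.presheaf.stalk x') (F.presheaf.stalk (g' x')) ≃ₗ[X'.presheaf.stalk x']
      ((Scheme.Modules.pullback g').obj F).presheaf.stalk x' :=
    ((Groth.Agent.Lib.DerivedOX.PullbackStalk.pullbackStalkIso g' x').app F).toLinearEquiv
  constructor
  · intro h
    have := key.1 (Module.Flat.of_free (R := X'.presheaf.stalk x'))
    exact Module.free_of_flat_of_isLocalRing
  · intro h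
    exact Module.Free.of_equiv e

end Groth.Agent.S9769
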