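import Groth.Statements.S15978
import Groth.Agent.S2568
import Groth.Agent.S9812
import Groth.Agent.H46.FibreTrdeg
import Groth.Agent.Lib.ProjSpace.BaseChange
import Mathlib.AlgebraicGeometry.AlgClosed.Basic

set_option autoImplicit false
universe u
open IntSh

namespace Groth.Agent.S15978

section helpers

open CategoryTheory CategoryTheory.Limits AlgebraicGeometry Topology
open Groth.Agent.H46

/-- On an irreducible closed family with constant fibre dimension `d` over a normal base, every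
point has a generization of degree `d` in its fibre, and the projection is open. -/
theorem family {W Y : Scheme.{u}} (q : W ⟶ Y) [LocallyOfFiniteType q] [IsIntegral Y]
    (hN : Pi1.IsNormalScheme Y) {Z : Set W} (hc : IsClosed Z) (hi : IsIrreducible Z)
    (hs : q '' Z = Set.univ) (d : ℕ)
    (hd : ∀ y, topologicalKrullDim ↥(Z ∩ q ⁻¹' {y}) = d) :
    (∀ U : Set W, IsOpen U → IsOpen (q '' (Z ∩ U))) ∧
      ∀ w ∈ Z, ∃ ξ ∈ Z, q ξ = q w ∧ ξ ⤳ w ∧ FibreTrdeg.trd q ξ = d := by
  set i := (Scheme.IdealSheafData.vanishingIdeal ⟨Z, hc⟩).subschemeι with hidef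
  have hr : Set.range i = Z := by
    rw [Scheme.IdealSheafData.range_subschemeι, Scheme.IdealSheafData.coe_support_vanishingIdeal]
    rfl
  have hex : ∀ w ∈ Z, ∃ v, i v = w := fun w hw => hr.ge hw
  have hmem : ∀ v, i v ∈ Z := fun v => hr.le ⟨v, rfl⟩
  set g := i ≫ q with hg
  haveI : IrreducibleSpace (Scheme.IdealSheafData.vanishingIdeal ⟨Z, hc⟩).subscheme := by
    obtain ⟨a, ha⟩ := hi.nonempty
    obtain ⟨a', rfl⟩ := hex _ ha
    refine @IrreducibleSpace.mk _ _ ⟨fun u v hu hv hu' hv' => ?_⟩ ⟨a'⟩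
    obtain ⟨U, hU, rfl⟩ := i.isEmbedding.isInducing.isOpen_iff.1 hu
    obtain ⟨V, hV, rfl⟩ := i.isEmbedding.isInducing.isOpen_iff.1 hv
    obtain ⟨b, -, hb⟩ := hu'
    obtain ⟨c, -, hc'⟩ := hv'
    obtain ⟨z, hz, hz'⟩ := hi.isPreirreducible U V hU hV ⟨i b, hmem b, hb⟩
      ⟨i c, hmem c, hc'⟩
    obtain ⟨z', rfl⟩ := hex _ hz
    exact ⟨z', trivial, hz'⟩
  haveI : Surjective g := ⟨fun y => by
    obtain ⟨w, hw, rfl⟩ := hs.ge (Set.mem_univ y)
    obtain ⟨w', rfl⟩ := hex _ hw
    exact ⟨w', rfl⟩⟩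
  have hdim : ∀ y, topologicalKrullDim ↥(g.fiber y) = d := fun y => by
    rw [(FibreTrdeg.fiberRangeHomeo q i y).isHomeomorph.topologicalKrullDim_eq _, hr]
    exact hd y
  have hη : FibreTrdeg.trd g (genericPoint _) = d := by
    refine le_antisymm ((FibreTrdeg.dim_fiber_le_iff g _ d).1 (hdim _).le _ rfl) ?_
    have := (FibreTrdeg.dim_fiber_le_iff g (g (genericPoint _)) _).2
      fun ξ hξ => FibreTrdeg.trd_le g (genericPoint_specializes ξ) hξ.symm
    rw [hdim] at this
    exact_mod_cast this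
  have hmax : ∀ w, ∃ ξ, g ξ = g w ∧ ξ ⤳ w ∧ FibreTrdeg.trd g ξ = d ∧
      FlatMor.fibreDimAt g w = d := by
    intro w
    obtain ⟨ξ, h1, h2, h3, h4⟩ := FibreTrdeg.exists_isMaxFib_trd_eq g w
    have : FibreTrdeg.trd g ξ = d := le_antisymm
      ((FibreTrdeg.dim_fiber_le_iff g _ d).1 (hdim _).le ξ rfl)
      (hη ▸ FibreTrdeg.trd_le_of_specializes g (genericPoint_specializes ξ) h3)
    exact ⟨ξ, h1, h2, this, h4.trans (by rw [this])⟩
  haveI : UniversallyOpen g := Groth.Agent.S2568.result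
    (fun y => by
      haveI := (hN y).1
      haveI := (hN y).2
      exact Groth.Agent.S9812.result _)
    g fun w => by
      obtain ⟨-, -, -, -, h⟩ := hmax w
      rw [h]
      exact (hdim _).symm
  refine ⟨fun U hU => ?_, fun w hw => ?_⟩
  · have : q '' (Z ∩ U) = g '' (i ⁻¹' U) := by
      ext y
      constructor
      · rintro ⟨w, ⟨hw, hwU⟩, rfl⟩
        obtain ⟨w', rfl⟩ := hex _ hw
        exact ⟨w', hwU, rfl⟩
      · rintro ⟨w, hwU, rfl⟩
        exact ⟨i w, ⟨hmem w, hwU⟩, rfl⟩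
    rw [this]
    exact g.isOpenMap _ (hU.preimage i.continuous)
  · obtain ⟨w', rfl⟩ := hex _ hw
    obtain ⟨ξ, h1, h2, h3, -⟩ := hmax w'
    exact ⟨i ξ, hmem ξ, h1, h2.map i.continuous,
      by rw [← h3, hg, FibreTrdeg.trd_comp]⟩

variable {k : Type u} [Field k] [IsAlgClosed k] {X Y : Scheme.{u}}
  (sX : X ⟶ Spec (CommRingCat.of k)) (sY : Y ⟶ Spec (CommRingCat.of k))
  [LocallyOfFiniteType sX] [LocallyOfFiniteType sY]

/-- The slice over a closed point of the second factor. -/
noncomputable def tau (b : Y) (hb : IsClosed ({b} : Set Y)) : X ⟶ pullback sX sY :=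
  pullback.lift (𝟙 X) (sX ≫ pointOfClosedPoint sY b hb) (by simp [pointOfClosedPoint_comp])

/-- The slice over a closed point of the first factor. -/
noncomputable def sigma (a : X) (ha : IsClosed ({a} : Set X)) : Y ⟶ pullback sX sY :=
  pullback.lift (sY ≫ pointOfClosedPoint sX a ha) (𝟙 Y) (by simp [pointOfClosedPoint_comp])

theorem isPullback_tau (b : Y) (hb : IsClosed ({b} : Set Y)) :
    IsPullback (tau sX sY b hb) sX (pullback.snd sX sY) (pointOfClosedPoint sY b hb) := by
  refine IsPullback.of_right ?_ (pullback.lift_snd _ _ _) (IsPullback.of_hasPullback sX sY)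
  rw [tau, pullback.lift_fst, pointOfClosedPoint_comp]
  exact IsPullback.of_horiz_isIso ⟨by simp⟩

theorem isPullback_sigma (a : X) (ha : IsClosed ({a} : Set X)) :
    IsPullback (sigma sX sY a ha) sY (pullback.fst sX sY) (pointOfClosedPoint sX a ha) := by
  refine IsPullback.of_right ?_ (pullback.lift_fst _ _ _) (IsPullback.of_hasPullback sX sY).flip
  rw [sigma, pullback.lift_snd, pointOfClosedPoint_comp]
  exact IsPullback.of_horiz_isIso ⟨by simp⟩

theorem fst_tau (b : Y) (hb : IsClosed ({b} : Set Y)) (x : X) :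
    pullback.fst sX sY (tau sX sY b hb x) = x := by
  rw [← Scheme.Hom.comp_apply, tau, pullback.lift_fst]; rfl

theorem snd_tau (b : Y) (hb : IsClosed ({b} : Set Y)) (x : X) :
    pullback.snd sX sY (tau sX sY b hb x) = b := by
  rw [← Scheme.Hom.comp_apply, tau, pullback.lift_snd, Scheme.Hom.comp_apply,
    pointOfClosedPoint_apply]

theorem fst_sigma (a : X) (ha : IsClosed ({a} : Set X)) (y : Y) :
    pullback.fst sX sY (sigma sX sY a ha y) = a := by
  rw [← Scheme.Hom.comp_apply, sigma, pullback.lift_fst, Scheme.Hom.comp_apply,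
    pointOfClosedPoint_apply]

theorem snd_sigma (a : X) (ha : IsClosed ({a} : Set X)) (y : Y) :
    pullback.snd sX sY (sigma sX sY a ha y) = y := by
  rw [← Scheme.Hom.comp_apply, sigma, pullback.lift_snd]; rfl

theorem eq_tau (b : Y) (hb : IsClosed ({b} : Set Y)) (w : ↥(pullback sX sY))
    (hw : pullback.snd sX sY w = b) :
    w = tau sX sY b hb (pullback.fst sX sY w) := by
  obtain ⟨s⟩ : Nonempty ↥(Spec (CommRingCat.of k)) := inferInstance
  obtain ⟨z, hz, -⟩ := Scheme.Pullback.exists_preimage_pullback w s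
    (f := pullback.snd sX sY) (g := pointOfClosedPoint sY b hb)
    (hw.trans (pointOfClosedPoint_apply _ _ _ _).symm)
  obtain ⟨x, rfl⟩ : ∃ x, tau sX sY b hb x = w := by
    refine ⟨(isPullback_tau sX sY b hb).isoPullback.inv z, ?_⟩
    rw [← Scheme.Hom.comp_apply, IsPullback.isoPullback_inv_fst]
    exact hz
  rw [fst_tau]

theorem eq_sigma (a : X) (ha : IsClosed ({a} : Set X)) (w : ↥(pullback sX sY))
    (hw : pullback.fst sX sY w = a) :
    w = sigma sX sY a ha (pullback.snd sX sY w) := by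
  obtain ⟨s⟩ : Nonempty ↥(Spec (CommRingCat.of k)) := inferInstance
  obtain ⟨z, hz, -⟩ := Scheme.Pullback.exists_preimage_pullback w s
    (f := pullback.fst sX sY) (g := pointOfClosedPoint sX a ha)
    (hw.trans (pointOfClosedPoint_apply _ _ _ _).symm)
  obtain ⟨y, rfl⟩ : ∃ y, sigma sX sY a ha y = w := by
    refine ⟨(isPullback_sigma sX sY a ha).isoPullback.inv z, ?_⟩
    rw [← Scheme.Hom.comp_apply, IsPullback.isoPullback_inv_fst]
    exact hz
  rw [snd_sigma]

theorem trd_id {S : Scheme.{u}} (s : S) : FibreTrdeg.trd (𝟙 S) s = 0 := by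
  rw [FibreTrdeg.trd, Groth.Agent.Lib.Cyc.FieldDim.trdegAt_eq_zero_of_surjective (𝟙 S) s
    (Groth.Agent.Lib.Cyc.FieldDim.residueFieldMap_surjective _ _)]
  exact Cardinal.zero_toNat

theorem trd_tau (b : Y) (hb : IsClosed ({b} : Set Y)) (x : X) :
    FibreTrdeg.trd sX x = FibreTrdeg.trd (pullback.snd sX sY) (tau sX sY b hb x) := by
  haveI hp : IsPreimmersion (pointOfClosedPoint sY b hb) := by
    delta pointOfClosedPoint; infer_instance
  haveI : IsPreimmersion (tau sX sY b hb) :=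
    MorphismProperty.of_isPullback (P := @IsPreimmersion.{u}) (isPullback_tau sX sY b hb).flip hp
  have hb0 : FibreTrdeg.trd sY b = 0 := by
    obtain ⟨s⟩ : Nonempty ↥(Spec (CommRingCat.of k)) := inferInstance
    have h := FibreTrdeg.trd_comp sY (pointOfClosedPoint sY b hb) s
    rw [pointOfClosedPoint_apply, pointOfClosedPoint_comp, trd_id] at h
    exact h.symm
  have e : tau sX sY b hb ≫ (pullback.snd sX sY ≫ sY) = sX := by
    rw [tau, pullback.lift_snd_assoc, Category.assoc, pointOfClosedPoint_comp, Category.comp_id]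
  have h := FibreTrdeg.trd_comp (pullback.snd sX sY ≫ sY) (tau sX sY b hb) x
  rw [e] at h
  rw [h, FibreTrdeg.trd, Groth.Agent.Lib.Cyc.Residue.trdegAt_comp, FibreTrdeg.trdegAt_eq sY,
    snd_tau, hb0, Nat.cast_zero, zero_add]
  rfl

theorem main [IsIntegral Y] [IsProper sX] [IsProper sY] (hN : Pi1.IsNormalScheme Y)
    (d : ℕ) {n : ℕ} (Z : Fin n → Set ↥(pullback sX sY))
    (hZc : ∀ i, IsClosed (Z i)) (hZi : ∀ i, IsIrreducible (Z i))
    (hZs : ∀ i, pullback.snd sX sY '' Z i = Set.univ)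
    (hZd : ∀ i (y : Y), topologicalKrullDim ↥(Z i ∩ pullback.snd sX sY ⁻¹' {y}) = d)
    (B : Set Y) (hB : IsClosed B) (hBc : _root_.IsPreconnected B)
    (hFd : topologicalKrullDim
        ↥(pullback.fst sX sY '' ((⋃ i, Z i) ∩ pullback.snd sX sY ⁻¹' B)) = d) :
    pullback.fst sX sY ⁻¹' (pullback.fst sX sY '' ((⋃ i, Z i) ∩ pullback.snd sX sY ⁻¹' B)) ∩
        pullback.snd sX sY ⁻¹' B ⊆ ⋃ i, Z i := by
  set p := pullback.fst sX sY with hp
  set q := pullback.snd sX sY with hq
  set S := ⋃ i, Z i with hS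
  have hSc : IsClosed S := isClosed_iUnion_of_finite hZc
  set F := p '' (S ∩ q ⁻¹' B) with hF
  have hqB : IsClosed (q ⁻¹' B) := hB.preimage q.continuous
  have hFc : IsClosed F := p.isClosedMap _ (hSc.inter hqB)
  haveI : JacobsonSpace ↥(Spec (CommRingCat.of k)) := inferInstance
  haveI : JacobsonSpace X := LocallyOfFiniteType.jacobsonSpace sX
  haveI : JacobsonSpace Y := LocallyOfFiniteType.jacobsonSpace sY
  haveI : JacobsonSpace ↥(pullback sX sY) := LocallyOfFiniteType.jacobsonSpace q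
  have hle : ∀ γ ∈ F, FibreTrdeg.trd sX γ ≤ d := by
    intro γ hγ
    refine (FibreTrdeg.dim_closed_inter_le_iff sX hFc (sX γ) d).1 ?_ γ hγ rfl
    have : F ∩ sX ⁻¹' {sX γ} = F :=
      Set.inter_eq_left.2 fun a _ => Subsingleton.elim _ _
    rw [this, hFd]
  have htop : ∀ γ' ∈ F, ∀ γ ∈ F, γ' ⤳ γ → FibreTrdeg.trd sX γ = d → γ' = γ := by
    intro γ' h' γ _ hs hd'
    exact FibreTrdeg.eq_of_trd_le sX hs (Subsingleton.elim _ _) (hd' ▸ hle γ' h')
  have hfam := fun i => family q hN (hZc i) (hZi i) (hZs i) d (hZd i)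
  have hgen : ∀ w ∈ S, ∀ (hb : IsClosed ({q w} : Set Y)), ∃ γ, tau sX sY (q w) hb γ ∈ S ∧
      γ ⤳ p w ∧ FibreTrdeg.trd sX γ = d := by
    intro w hw hb
    obtain ⟨i, hi⟩ := Set.mem_iUnion.1 hw
    obtain ⟨ξ, h1, h2, h3, h4⟩ := (hfam i).2 w hi
    have e := eq_tau sX sY (q w) hb ξ h2
    refine ⟨p ξ, ?_, h3.map p.continuous, ?_⟩
    · rw [← e]; exact Set.mem_iUnion.2 ⟨i, h1⟩
    · rw [trd_tau sX sY (q w) hb, ← e]; exact h4
  have hclosed : ∀ x ∈ F, ∀ hx : IsClosed ({x} : Set X), ∀ b ∈ B, sigma sX sY x hx b ∈ S := by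
    intro x hxF hx
    obtain ⟨ξ, ⟨hξ, hξx⟩, hξc⟩ := nonempty_inter_closedPoints
      (Z := S ∩ q ⁻¹' B ∩ p ⁻¹' {x}) (by obtain ⟨w, hw, e⟩ := hxF; exact ⟨w, hw, e⟩)
      ((hSc.inter hqB).inter (hx.preimage p.continuous)).isLocallyClosed
    have hb0 : IsClosed ({q ξ} : Set Y) := by
      simpa using q.isClosedMap _ (show IsClosed ({ξ} : Set _) from hξc)
    obtain ⟨γ, hγS, hγx, hγd⟩ := hgen ξ hξ.1 hb0
    have hγx' : γ ⤳ x := by
      have : p ξ = x := hξx
      rwa [this] at hγx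
    have hγF : γ ∈ F := ⟨_, ⟨hγS, by show q _ ∈ B; rw [snd_tau]; exact hξ.2⟩, fst_tau _ _ _ _ _⟩
    haveI : CompactSpace X := HasAffineProperty.iff_of_isAffine (P := @QuasiCompact.{u})
      (f := sX) |>.1 inferInstance
    haveI : IsLocallyNoetherian X := LocallyOfFiniteType.isLocallyNoetherian sX
    haveI : IsNoetherian X := {}
    obtain ⟨U, hU, hγU, hUF⟩ : ∃ U : Set X, IsOpen U ∧ γ ∈ U ∧
        ∀ a ∈ F, a ∈ U → γ ⤳ a := by
      obtain ⟨C, hC, hCfin, hCi, hCe⟩ := TopologicalSpace.NoetherianSpace.exists_finite_set_isClosed_irreducible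
        (α := X) hFc
      refine ⟨(⋃ t ∈ {t ∈ C | γ ∉ t}, t)ᶜ, ?_, ?_, ?_⟩
      · exact ((hC.subset (Set.sep_subset _ _)).isClosed_biUnion
          fun t ht => (hCfin t ht.1)).isOpen_compl
      · simp only [Set.mem_compl_iff, Set.mem_iUnion]
        rintro ⟨t, ⟨-, ht⟩, ht'⟩
        exact ht ht'
      · intro a haF haU
        rw [hCe, Set.mem_sUnion] at haF
        obtain ⟨t, htC, hat⟩ := haF
        have hγt : γ ∈ t := by
          by_contra hc
          exact haU (Set.mem_biUnion ⟨htC, hc⟩ hat)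
        obtain ⟨η, hη⟩ := QuasiSober.sober (hCi t htC) (hCfin t htC)
        have hηF : η ∈ F := hCe.ge ⟨t, htC, hη.mem⟩
        obtain rfl := htop η hηF γ hγF (hη.specializes hγt) hγd
        exact hη.specializes hat
    set V := q '' (S ∩ p ⁻¹' U) with hV
    have hVo : IsOpen V := by
      rw [hV, hS, Set.iUnion_inter, Set.image_iUnion]
      exact isOpen_iUnion fun i => (hfam i).1 _ (hU.preimage p.continuous)
    set A : Set Y := B ∩ ⋂ (a : X) (ha : IsClosed ({a} : Set X)) (_ : γ ⤳ a),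
      sigma sX sY a ha ⁻¹' S with hA
    have hAc : IsClosed A := hB.inter <| isClosed_iInter fun a => isClosed_iInter fun ha =>
      isClosed_iInter fun _ => hSc.preimage (sigma sX sY a ha).continuous
    have hsig : ∀ (b : Y) (hb : IsClosed ({b} : Set Y)) (a : X) (ha : IsClosed ({a} : Set X)),
        sigma sX sY a ha b = tau sX sY b hb a := fun b hb a ha => by
      conv_lhs => rw [eq_tau sX sY b hb _ (snd_sigma sX sY a ha b), fst_sigma]
    have hpt : ∀ b ∈ B, IsClosed ({b} : Set Y) → (b ∈ V ↔ b ∈ A) := by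
      intro b hbB hb
      have hiff : b ∈ V ↔ tau sX sY b hb γ ∈ S := by
        constructor
        · rintro ⟨v, ⟨hvS, hvU⟩, rfl⟩
          obtain ⟨γ', hγ'S, hγ'v, hγ'd⟩ := hgen v hvS hb
          have hγ'F : γ' ∈ F :=
            ⟨_, ⟨hγ'S, by show q _ ∈ B; rw [snd_tau]; exact hbB⟩, fst_tau _ _ _ _ _⟩
          have := htop γ hγF γ' hγ'F (hUF γ' hγ'F (hγ'v.mem_open hU hvU)) hγ'd
          rw [this]; exact hγ'S
        · intro h
          exact ⟨_, ⟨h, by show p _ ∈ U; rw [fst_tau]; exact hγU⟩, snd_tau _ _ _ _ _⟩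
      rw [hiff]
      constructor
      · intro h
        refine ⟨hbB, Set.mem_iInter.2 fun a => Set.mem_iInter.2 fun ha =>
          Set.mem_iInter.2 fun hγa => ?_⟩
        show sigma sX sY a ha b ∈ S
        rw [hsig b hb a ha]
        exact (hγa.map (tau sX sY b hb).continuous).mem_closed hSc h
      · intro h
        have hcl : closure (closure ({γ} : Set X) ∩ closedPoints X) ⊆
            tau sX sY b hb ⁻¹' S := by
          refine closure_minimal ?_ (hSc.preimage (tau sX sY b hb).continuous)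
          rintro a ⟨ha, ha'⟩
          have := Set.mem_iInter.1 (Set.mem_iInter.1 (Set.mem_iInter.1 h.2 a) ha')
            (specializes_iff_mem_closure.2 ha)
          show tau sX sY b hb a ∈ S
          rw [← hsig b hb a ha']
          exact this
        rw [closure_inter_closedPoints isClosed_closure] at hcl
        exact hcl (subset_closure rfl)
    have hVA : ∀ b ∈ B, b ∈ V → b ∈ A := by
      intro b hbB hbV
      by_contra hbA
      obtain ⟨c, ⟨⟨hcB, hcA⟩, hcV⟩, hcc⟩ := nonempty_inter_closedPoints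
        (Z := B ∩ Aᶜ ∩ V) ⟨b, ⟨hbB, hbA⟩, hbV⟩
        ((hB.isLocallyClosed.inter hAc.isOpen_compl.isLocallyClosed).inter hVo.isLocallyClosed)
      exact hcA ((hpt c hcB hcc).1 hcV)
    have hAV : ∀ b ∈ A, b ∈ V := by
      intro b hbA
      by_contra hbV
      obtain ⟨c, ⟨hcA, hcV⟩, hcc⟩ := nonempty_inter_closedPoints
        (Z := A ∩ Vᶜ) ⟨b, hbA, hbV⟩ (hAc.inter hVo.isClosed_compl).isLocallyClosed
      exact hcV ((hpt c hcA.1 hcc).2 hcA)
    have hξB : q ξ ∈ B := hξ.2
    have hξV : q ξ ∈ V :=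
      ⟨_, ⟨hγS, by show p _ ∈ U; rw [fst_tau]; exact hγU⟩, snd_tau _ _ _ _ _⟩
    intro b hbB
    by_contra hne
    have hbA : b ∉ A := fun h =>
      hne (Set.mem_iInter.1 (Set.mem_iInter.1 (Set.mem_iInter.1 h.2 x) hx) hγx')
    obtain ⟨c, hcB, hcV, hcA⟩ := hBc V Aᶜ hVo hAc.isOpen_compl
      (fun c hc => by
        by_cases h : c ∈ A
        · exact Or.inl (hAV c h)
        · exact Or.inr h)
      ⟨q ξ, hξB, hξV⟩ ⟨b, hbB, hbA⟩
    exact hcA (hVA c hcB hcV)
  intro w hw
  have : closure ((p ⁻¹' F ∩ q ⁻¹' B) ∩ closedPoints ↥(pullback sX sY)) ⊆ S := by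
    refine closure_minimal ?_ hSc
    rintro v ⟨⟨hv1, hv2⟩, hv3⟩
    have hpv : IsClosed ({p v} : Set X) := by
      simpa using p.isClosedMap _ (show IsClosed ({v} : Set _) from hv3)
    rw [eq_sigma sX sY (p v) hpv v rfl]
    exact hclosed _ hv1 hpv _ hv2
  rw [closure_inter_closedPoints ((hFc.preimage p.continuous).inter hqB)] at this
  exact this hw

end helpers

open CategoryTheory CategoryTheory.Limits AlgebraicGeometry in
/-- Let k be an algebraically closed field, X an integral scheme admitting a closed immersion into a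
projective space over k, Y an integral normal scheme proper over k, and Z_1, …, Z_n closed
irreducible subsets of X ×_k Y each mapping onto Y under the second projection with all fibres of
the same Krull dimension d (a family of effective d-cycles of X parametrised by Y). Let B ⊆ Y be a
connected closed subset and F ⊆ X the image under the first projection of S ∩ p_2⁻¹(B), where S = ⋃
Z_i. If F has Krull dimension d, then S ∩ p_2⁻¹(B) = p_1⁻¹(F) ∩ p_2⁻¹(B). (The published statement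
is over an arbitrary field with Y a normal variety; for k = ℝ and X = Y = Spec ℂ one point of X ×_k
Y is such a family with d = 0 and B = Y, while p_1⁻¹(F) ∩ p_2⁻¹(B) has two points, and the published
proof uses irreducibility of products of irreducible closed subsets and a proper birational
flattening of Y; so k is taken algebraically closed and Y proper over k here.) -/
theorem result
    {k : Type u} [Field k] [IsAlgClosed k] {X Y : Scheme.{u}}
    (sX : X ⟶ Spec (CommRingCat.of k)) (sY : Y ⟶ Spec (CommRingCat.of k))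
    [IsIntegral X] (hX : RelProj.IsHProjective sX)
    [IsIntegral Y] [IsProper sY] (hN : Pi1.IsNormalScheme Y)
    (d : ℕ) {n : ℕ} (Z : Fin n → Set ↥(pullback sX sY))
    (hZc : ∀ i, IsClosed (Z i)) (hZi : ∀ i, IsIrreducible (Z i))
    (hZs : ∀ i, (pullback.snd sX sY).base '' Z i = Set.univ)
    (hZd : ∀ i (y : Y), topologicalKrullDim ↥(Z i ∩ (pullback.snd sX sY).base ⁻¹' {y}) = d)
    (B : Set Y) (hB : IsClosed B) (hBc : _root_.IsPreconnected B)
    (hFd : topologicalKrullDim
        ↥((pullback.fst sX sY).base '' ((⋃ i, Z i) ∩ (pullback.snd sX sY).base ⁻¹' B)) = d) :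
    (⋃ i, Z i) ∩ (pullback.snd sX sY).base ⁻¹' B =
      (pullback.fst sX sY).base ⁻¹'
          ((pullback.fst sX sY).base '' ((⋃ i, Z i) ∩ (pullback.snd sX sY).base ⁻¹' B)) ∩
        (pullback.snd sX sY).base ⁻¹' B := by
  obtain ⟨m, e, he, rfl⟩ := hX
  haveI := he
  haveI : IsProper (e ≫ CohB1.ProjSpaceOver.toBase m (Spec (CommRingCat.of k))) := inferInstance
  refine Set.Subset.antisymm ?_ ?_
  · exact fun w hw => ⟨Set.mem_image_of_mem _ hw, hw.2⟩
  · exact fun w hw => ⟨main _ sY hN d Z hZc hZi hZs hZd B hB hBc hFd hw, hw.2⟩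

end Groth.Agent.S15978
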