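import Groth.Statements.S2339
import Groth.Agent.Lib.Ample.RelAmple
-- import your own Groth.Agent.* helpers here

set_option autoImplicit false
universe u
open CategoryTheory CategoryTheory.Limits AlgebraicGeometry
open EGA2

namespace Groth.Agent.S2339

/-- If f : X → Y is quasi-affine then so is its base change along any morphism Y' → Y. -/
theorem result {X Y Y' : Scheme.{u}} (f : X ⟶ Y) (hf : Mor2.IsQuasiAffine f) (g : Y' ⟶ Y) :
    Mor2.IsQuasiAffine (pullback.snd f g) := by
  have := hf.1
  have hA := ((Lib.Ample.RelAmple.isRelAmple_iff _).1 (Lib.Ample.RelAmple.isRelAmple_baseChange f g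
    ((Lib.Ample.RelAmple.isQuasiAffine_iff_isRelAmple f).1 hf)))
  refine (Lib.Ample.RelAmple.isQuasiAffine_iff_isRelAmple (pullback.snd f g)).2
    ((Lib.Ample.RelAmple.isRelAmple_iff _).2 ⟨hA.1, fun V hV => ?_⟩)
  exact Lib.Ample.Pow.isAmple_of_iso ((Scheme.Modules.pullback _).mapIso (PicLoc.pullbackStructureIso (pullback.fst f g)))
    (hA.2 V hV)

end Groth.Agent.S2339
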