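import Groth.Statements.S17417
import Groth.Agent.H52.FDesc.BaseChangeFlat
import Groth.Agent.H46.FibreProf.PullFP
-- import your own Groth.Agent.* helpers here

set_option autoImplicit false
open CategoryTheory CategoryTheory.Limits AlgebraicGeometry
universe u
open ModSt

namespace Groth.Agent.S17417
open Groth.Agent

set_option backward.isDefEq.respectTransparency.types false

variable {X S : Scheme.{u}} {f : X ⟶ S}

theorem sec_ext {A B C : ModSt.Obj f} {t : A.XT ⟶ B.XT} {M : A.XT.Modules} {φ : B ⟶ C} {c c' : B.E ⟶ (Scheme.Modules.pushforward t).obj M}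
    (h : ∀ (U : C.XT.Opens) (x : Γ(C.E, U)), c.app (φ.top ⁻¹ᵁ U) (φ.c.app U x) = c'.app (φ.top ⁻¹ᵁ U) (φ.c.app U x)) :
    c = c' := by
  refine (φ.cart _).1 (Scheme.Modules.hom_ext _ _ fun U => ?_)
  ext x
  exact h U x

theorem fill {A B C : ModSt.Obj f} (φ : B ⟶ C) (ψ : A ⟶ C) (g : A.base ⟶ B.base)
    (hg : g ≫ φ.base = ψ.base) : ∃! χ : A ⟶ B, χ.base = g ∧ χ ≫ φ = ψ := by
  obtain ⟨ψb, ψt, ψp, ψq, ψc, ψcart⟩ := ψ
  dsimp only at hg
  subst hg
  have e : ψt ≫ C.q = (A.q ≫ g.left) ≫ φ.base.left := by rw [ψq, Over.comp_left, Category.assoc]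
  obtain ⟨t, ht1, ht2⟩ : ∃ t : A.XT ⟶ B.XT, t ≫ φ.top = ψt ∧ t ≫ B.q = A.q ≫ g.left :=
    ⟨φ.isPullback_top.lift ψt (A.q ≫ g.left) e, φ.isPullback_top.lift_fst _ _ _,
      φ.isPullback_top.lift_snd _ _ _⟩
  subst ht1
  obtain ⟨c, hc⟩ := (φ.cart _).2 (ψc ≫ (Scheme.Modules.pushforwardComp t φ.top).inv.app A.E)
  dsimp only at hc
  have hsec : ∀ (U : C.XT.Opens) (x : Γ(C.E, U)), c.app (φ.top ⁻¹ᵁ U) (φ.c.app U x) = ψc.app U x :=
    fun U x => congrArg (fun k => Scheme.Modules.Hom.app k U x) hc
  have hcart : IsCart t c := fun M' => by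
    constructor
    · intro v v' hv
      refine (ψcart M').1 (Scheme.Modules.hom_ext _ _ fun U => ?_)
      ext x
      have := congrArg (fun k => Scheme.Modules.Hom.app k (φ.top ⁻¹ᵁ U) (φ.c.app U x)) hv
      show v.app ((t ≫ φ.top) ⁻¹ᵁ U) (ψc.app U x) = v'.app ((t ≫ φ.top) ⁻¹ᵁ U) (ψc.app U x)
      rw [← hsec]
      exact this
    · intro w
      obtain ⟨v, hv⟩ := (ψcart M').2 (φ.c ≫ (Scheme.Modules.pushforward φ.top).map w ≫
        (Scheme.Modules.pushforwardComp t φ.top).hom.app M')
      refine ⟨v, sec_ext (φ := φ) fun U x => ?_⟩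
      have := congrArg (fun k => Scheme.Modules.Hom.app k U x) hv
      show v.app (t ⁻¹ᵁ (φ.top ⁻¹ᵁ U)) (c.app (φ.top ⁻¹ᵁ U) (φ.c.app U x)) = w.app (φ.top ⁻¹ᵁ U) (φ.c.app U x)
      rw [hsec]
      exact this
  have hp : t ≫ B.p = A.p := by rw [← φ.w_p, ← Category.assoc]; exact ψp
  refine ⟨⟨g, t, hp, ht2, c, hcart⟩, ⟨rfl, ModSt.Obj.Hom.ext' rfl rfl fun U x => heq_of_eq (hsec U x)⟩, ?_⟩
  rintro ⟨b', t', wp', wq', c', cart'⟩ ⟨hb', hcomp⟩
  dsimp only at hb'
  subst hb'
  have htop : t' = t := φ.isPullback_top.hom_ext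
    (congrArg ModSt.Obj.Hom.top hcomp) (wq'.trans ht2.symm)
  subst htop
  have hc' : c' = c := by
    refine sec_ext (φ := φ) fun U x => ?_
    rw [hsec]
    exact eq_of_heq (congr_arg_heq (fun k : A ⟶ C => k.c.app U x) hcomp)
  subst hc'
  rfl

theorem exists_lift_coh (x : (ModSt.Coh f).obj) {V : Over S} (g : V ⟶ x.obj.base) :
    ∃ (y : (ModSt.Coh f).obj) (φ : y ⟶ x), (ModSt.Coh f).p.IsHomLift g φ := by
  let q := x.obj.q
  let A : ModSt.Obj f :=
    { base := V
      XT := pullback q g.left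
      p := pullback.fst q g.left ≫ x.obj.p
      q := pullback.snd q g.left
      isPullback := by
        rw [← Over.w g]
        exact (IsPullback.of_hasPullback q g.left).paste_horiz x.obj.isPullback
      E := (Scheme.Modules.pullback (pullback.fst q g.left)).obj x.obj.E }
  have hA : ModSt.IsCohObj A := by
    refine ⟨H52.FDesc.BaseChangeFlat.isFlatOver_baseChange q g.left _ x.property.1, ?_⟩
    haveI : x.obj.E.IsFinitePresentation := x.property.2
    exact H46.FibreProf.PullFP.isFP_pullback _ _ x.property.2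
  let m : A ⟶ x.obj :=
    { base := g
      top := pullback.fst q g.left
      w_p := rfl
      w_q := pullback.condition
      c := (Scheme.Modules.pullbackPushforwardAdjunction (pullback.fst q g.left)).unit.app x.obj.E
      cart := fun M' => by
        have hb := ((Scheme.Modules.pullbackPushforwardAdjunction (pullback.fst q g.left)).homEquiv
          x.obj.E M').bijective
        convert hb using 1
        funext v
        exact (Adjunction.homEquiv_unit _ _ _ _).symm }
  refine ⟨⟨A, hA⟩, ObjectProperty.homMk m, ?_⟩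
  exact @Functor.IsHomLift.map _ _ _ _ (ModSt.Coh f).p ⟨A, hA⟩ x (ObjectProperty.homMk m)


/-- Let `f : X ⟶ S` be a morphism of schemes. The category over `(Sch/S)` of finitely presented modules
flat over the base (objects over `T`: a cartesian square `X_T` over `T` and a finitely presented
`T`-flat module on `X_T`; morphisms: cartesian comparison maps over morphisms of bases) is fibred in
groupoids. (The source states this for a morphism of finite presentation of algebraic spaces `X → B`
over a base scheme and for modules whose support is moreover proper over the base; this row is the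
case of schemes with base `S = B`, for the category without the support condition, and for any
morphism `f`.) -/
theorem result {X S : Scheme.{u}} (f : X ⟶ S) :
    FibCat.IsFibGrpd (ModSt.Coh f).p := by
  refine ⟨fun {x V} g => exists_lift_coh x g, fun {y x} φ => ?_⟩
  have : (ModSt.Coh f).p.IsHomLift ((ModSt.Coh f).p.map φ) φ := Functor.IsHomLift.map _
  constructor
  intro z g ψ hψ
  have hb : g ≫ φ.hom.base = ψ.hom.base := by
    exact (IsHomLift.fac (ModSt.Coh f).p (g ≫ (ModSt.Coh f).p.map φ) ψ).trans (by simp; rfl)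
  obtain ⟨χ, ⟨hχb, hχ⟩, huniq⟩ := fill φ.hom ψ.hom g hb
  refine ⟨ObjectProperty.homMk χ, ⟨?_, InducedCategory.hom_ext hχ⟩, fun χ' hχ' => ?_⟩
  · subst hχb
    exact @Functor.IsHomLift.map _ _ _ _ (ModSt.Coh f).p z y (ObjectProperty.homMk χ)
  · refine InducedCategory.hom_ext (huniq χ'.hom ⟨?_, congrArg InducedCategory.Hom.hom hχ'.2⟩)
    haveI := hχ'.1
    exact Eq.symm ((IsHomLift.fac (ModSt.Coh f).p g χ').trans (by simp; rfl))

end Groth.Agent.S17417
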