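import Groth.Statements.S14584
import Groth.Agent.H4.AxesConst
import Groth.Agent.H4.HomImage
import Groth.Agent.S2500
import Groth.Agent.H52.FBase.GeomRedSch
import Groth.Agent.Lib.GrpQ.MonoClosed
import Groth.Agent.Lib.GrpSch.BaseChange
import Groth.Agent.Lib.GrpSch.SmoothReduced
import Groth.Agent.Lib.GrpQ.Desc
import Mathlib.AlgebraicGeometry.Group.Abelian

set_option autoImplicit false
set_option linter.style.haveILetI false
universe u
open CategoryTheory MonoidalCategory CartesianMonoidalCategory MonObj GrpObj AlgebraicGeometry CategoryTheory.Limits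
open AlgGrp

namespace Groth.Agent.S14584

noncomputable section

variable {K : Type u} [Field K] [IsAlgClosed K]

/-- A dense smooth open subvariety with a rational point. -/
theorem exists_smooth_open (X : Over (Spec (CommRingCat.of K)))
    [LocallyOfFiniteType X.hom] [QuasiCompact X.hom] [IsSeparated X.hom] [GeometricallyIntegral X.hom] :
    ∃ (U : Over (Spec (CommRingCat.of K))) (j : U ⟶ X) (_ : 𝟙_ (Over (Spec (CommRingCat.of K))) ⟶ U),
      Smooth U.hom ∧ IsSeparated U.hom ∧ QuasiCompact U.hom ∧ GeometricallyIntegral U.hom ∧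
      IsOpenImmersion j.left := by
  haveI : IsIntegral X.left := GeometricallyIntegral.isIntegral_of_subsingleton X.hom
  haveI : IsLocallyNoetherian X.left := LocallyOfFiniteType.isLocallyNoetherian X.hom
  haveI : LocallyOfFinitePresentation X.hom := inferInstance
  let U : X.left.Opens := X.hom.smoothLocus
  have hne : (U : Set X.left).Nonempty := ⟨_, X.hom.genericPoint_mem_smoothLocus_of_perfectField⟩
  haveI : Nonempty (U : Scheme.{u}) := hne.to_subtype
  haveI : IsIntegral (U : Scheme.{u}) := isIntegral_of_isOpenImmersion U.ι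
  haveI : GeometricallyReduced (U.ι ≫ X.hom) :=
    Groth.Agent.H52.FBase.GeomRedSch.geometricallyReduced_of_perfectField _
  haveI := Groth.Agent.S2500.result (U.ι ≫ X.hom)
  have hsm : Smooth (U.ι ≫ X.hom) := by
    rw [← Scheme.Hom.smoothLocus_eq_top_iff, ← Scheme.Hom.preimage_smoothLocus_eq]
    exact U.ι_preimage_self
  haveI : LocallyOfFiniteType (Over.mk (U.ι ≫ X.hom)).hom :=
    inferInstanceAs (LocallyOfFiniteType (U.ι ≫ X.hom))
  haveI : Nonempty (Over.mk (U.ι ≫ X.hom)).left := inferInstanceAs (Nonempty (U : Scheme.{u}))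
  obtain ⟨u, -⟩ := Groth.Agent.Lib.GrpQ.MonoClosed.exists_ptOf (X := Over.mk (U.ι ≫ X.hom))
    isOpen_univ.isLocallyClosed Set.univ_nonempty
  exact ⟨Over.mk (U.ι ≫ X.hom), Over.homMk U.ι rfl, u, hsm,
    inferInstanceAs (IsSeparated (U.ι ≫ X.hom)), inferInstanceAs (QuasiCompact (U.ι ≫ X.hom)),
    GeometricallyIntegral.of_geometricallyReduced_of_geometricallyIrreducible (f := U.ι ≫ X.hom),
    inferInstanceAs (IsOpenImmersion U.ι)⟩

/-- Over an algebraically closed field a map from a product of varieties is `f (u, y) + f (x, v) - f (u, v)`. -/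
theorem decomp_algClosed (X Y A : Over (Spec (CommRingCat.of K)))
    [LocallyOfFiniteType X.hom] [QuasiCompact X.hom] [IsSeparated X.hom] [GeometricallyIntegral X.hom]
    [LocallyOfFiniteType Y.hom] [QuasiCompact Y.hom] [IsSeparated Y.hom] [GeometricallyIntegral Y.hom]
    [GrpObj A] [IsProper A.hom] [GeometricallyIntegral A.hom] (f : X ⊗ Y ⟶ A) :
    ∃ (u : 𝟙_ (Over (Spec (CommRingCat.of K))) ⟶ X) (v : 𝟙_ (Over (Spec (CommRingCat.of K))) ⟶ Y),
      f = (lift (toUnit _ ≫ u) (snd X Y) ≫ f) * (lift (fst X Y) (toUnit _ ≫ v) ≫ f) *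
        (toUnit _ ≫ lift u v ≫ f)⁻¹ := by
  haveI : IsCommMonObj A := isCommMonObj_of_isProper_of_geometricallyIntegral A
  obtain ⟨U, i, u, hU1, hU2, hU3, hU4, hi⟩ := exists_smooth_open X
  obtain ⟨V, j, v, hV1, hV2, hV3, hV4, hj⟩ := exists_smooth_open Y
  refine ⟨u ≫ i, v ≫ j, ?_⟩
  let P : X ⊗ Y ⟶ A := (lift (toUnit _ ≫ u ≫ i) (snd X Y) ≫ f) *
    (lift (fst X Y) (toUnit _ ≫ v ≫ j) ≫ f) * (toUnit _ ≫ lift (u ≫ i) (v ≫ j) ≫ f)⁻¹
  let φ : U ⊗ V ⟶ A := (i ⊗ₘ j) ≫ (f * P⁻¹)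
  have hφ : φ = 1 := by
    refine (Groth.Agent.H4.AxesConst.eq_const_of_axes_algClosed U V A u v η[A] φ ?_ ?_).trans
      (Hom.one_def (M := A)).symm
    · have e1 : lift (𝟙 U) (toUnit U ≫ v) ≫ (i ⊗ₘ j) = lift i (toUnit U ≫ v ≫ j) := by
        rw [lift_map, Category.id_comp, Category.assoc]
      simp only [φ, P, MonObj.comp_mul, GrpObj.comp_inv, reassoc_of% e1, comp_lift_assoc, lift_fst,
        lift_snd, comp_toUnit_assoc]
      rw [← Hom.one_def]
      simp [mul_comm, mul_assoc]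
    · have e1 : lift (toUnit V ≫ u) (𝟙 V) ≫ (i ⊗ₘ j) = lift (toUnit V ≫ u ≫ i) j := by
        rw [lift_map, Category.id_comp, Category.assoc]
      simp only [φ, P, MonObj.comp_mul, GrpObj.comp_inv, reassoc_of% e1, comp_lift_assoc, lift_fst,
        lift_snd, comp_toUnit_assoc]
      rw [← Hom.one_def]
      simp [mul_comm, mul_assoc]
  haveI : IsIntegral Y.left := GeometricallyIntegral.isIntegral_of_subsingleton Y.hom
  haveI : IsLocallyNoetherian Y.left := LocallyOfFiniteType.isLocallyNoetherian Y.hom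
  haveI : UniversallyOpen X.hom := UniversallyOpen.of_flat X.hom
  haveI : IsIntegral (X ⊗ Y).left := inferInstanceAs (IsIntegral (pullback X.hom Y.hom))
  haveI : IsOpenImmersion (i ⊗ₘ j).left := by
    rw [Over.tensorHom_left]
    exact inferInstanceAs (IsOpenImmersion (pullback.map _ _ _ _ i.left j.left (𝟙 _) _ _))
  haveI : Nonempty (U ⊗ V).left := ⟨Groth.Agent.H4.AxesConst.pt (lift u v)⟩
  haveI : IsDominant (i ⊗ₘ j).left := ⟨(i ⊗ₘ j).left.isOpenEmbedding.isOpen_range.dense (Set.range_nonempty _)⟩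
  have h2 : (i ⊗ₘ j) ≫ f = (i ⊗ₘ j) ≫ P := by
    rw [← mul_inv_eq_one, ← GrpObj.comp_inv, ← MonObj.comp_mul]
    exact hφ
  apply Over.OverMorphism.ext
  exact ext_of_isDominant_of_isSeparated A.hom (by rw [Over.w, Over.w]) (i ⊗ₘ j).left
    (congrArg CommaMorphism.left h2)

/-- The exchange identity over an algebraically closed field. -/
theorem exchange_algClosed (X Y A : Over (Spec (CommRingCat.of K)))
    [LocallyOfFiniteType X.hom] [QuasiCompact X.hom] [IsSeparated X.hom] [GeometricallyIntegral X.hom]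
    [LocallyOfFiniteType Y.hom] [QuasiCompact Y.hom] [IsSeparated Y.hom] [GeometricallyIntegral Y.hom]
    [GrpObj A] [IsProper A.hom] [GeometricallyIntegral A.hom] (f : X ⊗ Y ⟶ A)
    {T : Over (Spec (CommRingCat.of K))} (a a' : T ⟶ X) (b b' : T ⟶ Y) :
    (lift a b ≫ f) * (lift a' b' ≫ f) = (lift a b' ≫ f) * (lift a' b ≫ f) := by
  haveI : IsCommMonObj A := isCommMonObj_of_isProper_of_geometricallyIntegral A
  obtain ⟨u, v, h⟩ := decomp_algClosed X Y A f
  have q : ∀ (x : T ⟶ X) (y : T ⟶ Y), lift x y ≫ f = (lift (toUnit T ≫ u) y ≫ f) *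
      (lift x (toUnit T ≫ v) ≫ f) * (toUnit T ≫ lift u v ≫ f)⁻¹ := fun x y => by
    conv_lhs => rw [h]
    simp only [MonObj.comp_mul, GrpObj.comp_inv, comp_lift_assoc, lift_fst, lift_snd,
      comp_toUnit_assoc]
  rw [q a b, q a' b', q a b', q a' b]
  simp only [← _root_.mul_assoc]
  ac_rfl

end


/-- Let k be a field, X and Y varieties over k (separated, geometrically integral k-schemes of finite
type) with rational points x₀ and y₀, A an abelian variety (a proper, smooth, connected k-group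
scheme) and f : X × Y → A a k-morphism. Then, in the group of morphisms X × Y → A, f(x, y) = f(x₀,
y₀)⁻¹ · f(x₀, y) · f(x, y₀) identically; additively, f(x, y) − f(x₀, y) − f(x, y₀) + f(x₀, y₀) = 0.
Neither smoothness nor properness of X, Y is assumed. -/
theorem result (k : Type u) [Field k]
    (X Y A : Over (Spec (CommRingCat.of k)))
    [LocallyOfFiniteType X.hom] [QuasiCompact X.hom] [IsSeparated X.hom] [GeometricallyIntegral X.hom]
    [LocallyOfFiniteType Y.hom] [QuasiCompact Y.hom] [IsSeparated Y.hom] [GeometricallyIntegral Y.hom]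
    [GrpObj A] [IsProper A.hom] [Smooth A.hom] [ConnectedSpace ↥A.left]
    (x₀ : 𝟙_ (Over (Spec (CommRingCat.of k))) ⟶ X) (y₀ : 𝟙_ (Over (Spec (CommRingCat.of k))) ⟶ Y) (f : X ⊗ Y ⟶ A) :
    f = (toUnit (X ⊗ Y) ≫ lift x₀ y₀ ≫ f)⁻¹ * (snd X Y ≫ lift (toUnit Y ≫ x₀) (𝟙 Y) ≫ f) *
      (fst X Y ≫ lift (𝟙 X) (toUnit X ≫ y₀) ≫ f) := by
  haveI : GeometricallyIntegral A.hom :=
    haveI := Groth.Agent.Lib.GrpSch.geometricallyReduced_of_smooth_field A.hom
    Groth.Agent.H4.HomImage.geometricallyIntegral_of_connected A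
  haveI : IsCommMonObj A := isCommMonObj_of_isProper_of_geometricallyIntegral A
  let K := AlgebraicClosure k
  let b := Groth.Agent.Lib.GrpSch.extBase k K
  let F := Over.pullback b
  haveI : LocallyOfFiniteType (F.obj X).hom := Groth.Agent.Lib.GrpSch.bc_hom_of b X ‹_›
  haveI : IsSeparated (F.obj X).hom := Groth.Agent.Lib.GrpSch.bc_hom_of b X ‹_›
  haveI : QuasiCompact (F.obj X).hom := Groth.Agent.Lib.GrpSch.bc_hom_of b X ‹_›
  haveI : GeometricallyIntegral (F.obj X).hom := Groth.Agent.Lib.GrpSch.bc_hom_of b X ‹_›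
  haveI : LocallyOfFiniteType (F.obj Y).hom := Groth.Agent.Lib.GrpSch.bc_hom_of b Y ‹_›
  haveI : IsSeparated (F.obj Y).hom := Groth.Agent.Lib.GrpSch.bc_hom_of b Y ‹_›
  haveI : QuasiCompact (F.obj Y).hom := Groth.Agent.Lib.GrpSch.bc_hom_of b Y ‹_›
  haveI : GeometricallyIntegral (F.obj Y).hom := Groth.Agent.Lib.GrpSch.bc_hom_of b Y ‹_›
  haveI : IsProper (F.obj A).hom := Groth.Agent.Lib.GrpSch.bc_hom_of b A ‹_›
  haveI : GeometricallyIntegral (F.obj A).hom := Groth.Agent.Lib.GrpSch.bc_hom_of b A ‹_›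
  letI : GrpObj (F.obj A) := Functor.grpObjObj
  suffices h : (lift (fst X Y) (snd X Y) ≫ f) * (lift (toUnit _ ≫ x₀) (toUnit _ ≫ y₀) ≫ f) =
      (lift (fst X Y) (toUnit _ ≫ y₀) ≫ f) * (lift (toUnit _ ≫ x₀) (snd X Y) ≫ f) by
    rw [lift_fst_snd, Category.id_comp] at h
    simp only [comp_lift_assoc, Category.comp_id, comp_toUnit_assoc]
    rw [_root_.mul_assoc, eq_inv_mul_iff_mul_eq, _root_.mul_comm, h, _root_.mul_comm]
  have e : F.map ((lift (fst X Y) (snd X Y) ≫ f) * (lift (toUnit _ ≫ x₀) (toUnit _ ≫ y₀) ≫ f)) =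
      F.map ((lift (fst X Y) (toUnit _ ≫ y₀) ≫ f) * (lift (toUnit _ ≫ x₀) (snd X Y) ≫ f)) := by
    simp only [Functor.map_mul, F.map_comp, ← Functor.Monoidal.lift_μ, Category.assoc]
    exact exchange_algClosed (F.obj X) (F.obj Y) (F.obj A) (Functor.LaxMonoidal.μ F X Y ≫ F.map f) _ _ _ _
  apply Over.OverMorphism.ext
  obtain ⟨⟨h1, h2⟩, h3⟩ :=
    Groth.Agent.Lib.GrpSch.bcProj_surjective_flat_qc k K (X ⊗ Y)
  haveI := h1; haveI := h2; haveI := h3
  haveI := Flat.epi_of_flat_of_surjective (Groth.Agent.Lib.GrpSch.bcProj b (X ⊗ Y))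
  rw [← cancel_epi (Groth.Agent.Lib.GrpSch.bcProj b (X ⊗ Y)),
    ← Groth.Agent.Lib.GrpSch.bc_map_proj b, ← Groth.Agent.Lib.GrpSch.bc_map_proj b, e]

end Groth.Agent.S14584
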