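import Groth.Statements.S6810
import Mathlib.CategoryTheory.Functor.KanExtension.Pointwise
import Mathlib.CategoryTheory.FinCategory.Basic
import Mathlib.Data.Finite.Sigma
import Mathlib.CategoryTheory.Limits.Shapes.FiniteLimits
import Mathlib.AlgebraicTopology.SimplexCategory.Basic
import Mathlib.CategoryTheory.Comma.StructuredArrow.Basic


set_option autoImplicit false
open CategoryTheory CategoryTheory.Limits
universe v u
open CategoryTheory CategoryTheory.SimplicialObject CategoryTheory.SimplicialObject.Truncated

namespace Groth.Agent.S6810

/-- In a category with finite colimits every truncated simplicial object has a pointwise left Kan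
extension along the inclusion of the truncated simplex category, i.e. the left adjoints `i_{m!}` of
truncation exist and are given by the colimit formula. -/
theorem result {C : Type u} [Category.{v} C] [HasFiniteColimits C] (m : ℕ) (U : (SimplexCategory.Truncated m)ᵒᵖ ⥤ C) : (SimplexCategory.Truncated.inclusion m).op.HasPointwiseLeftKanExtension U := by
  classical
  have : Fintype (SimplexCategory.Truncated m) := Fintype.ofEquiv (Fin (m + 1))
    { toFun := fun i => ⟨SimplexCategory.mk i.1, by simp; omega⟩
      invFun := fun d => ⟨d.obj.len, Nat.lt_succ_of_le d.property⟩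
      left_inv := fun i => by simp
      right_inv := fun d => ObjectProperty.FullSubcategory.ext (SimplexCategory.mk_len d.obj) }
  have : ∀ a b : SimplexCategory, Finite (a ⟶ b) := fun a b => Finite.of_injective
    (fun f => (f.toOrderHom : Fin (a.len + 1) → Fin (b.len + 1))) fun f g h => SimplexCategory.Hom.ext _ _ (OrderHom.ext _ _ h)
  have hA : ∀ (Y : SimplexCategoryᵒᵖ), Finite (CostructuredArrow (SimplexCategory.Truncated.inclusion m).op Y) := fun Y =>
    Finite.of_surjective (fun p : Σ d : SimplexCategory.Truncated m, (Y.unop ⟶ d.obj) => CostructuredArrow.mk (Y := Opposite.op p.1) p.2.op)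
      (fun X => ⟨⟨X.left.unop, X.hom.unop⟩, rfl⟩)
  intro Y
  have := hA Y
  have : ∀ x y : CostructuredArrow (SimplexCategory.Truncated.inclusion m).op Y, Finite (x ⟶ y) := fun x y =>
    Finite.of_injective (fun f => f.left.unop.hom) fun f g h => CostructuredArrow.hom_ext _ _
      (Quiver.Hom.unop_inj (ObjectProperty.hom_ext _ h))
  have : FinCategory (CostructuredArrow (SimplexCategory.Truncated.inclusion m).op Y) :=
    { fintypeObj := Fintype.ofFinite _, fintypeHom := fun x y => Fintype.ofFinite _ }
  exact inferInstanceAs (HasColimit _)

end Groth.Agent.S6810
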