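import Groth.Statements.S1779
import Groth.Agent.Lib.DMod.LBC
import Groth.Agent.Lib.Excellent.CompletionNoetherian
import Mathlib.RingTheory.AdicCompletion.AsTensorProduct
import Groth.Agent.Lib.Regular.Completion

set_option autoImplicit false
universe u
open CategoryTheory
attribute [local instance] HasDerivedCategory.standard
open Dual

namespace Groth.Agent.S1779
open Groth.Agent.Lib.DMod

/-- Let A be a Noetherian ring, I an ideal and ω a dualizing complex for A. Assuming the derived base
change functor to the I-adic completion exists, the base change of ω is a dualizing complex for the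
I-adic completion of A. -/
theorem result (A : Type u) [CommRing A] [IsNoetherianRing A] (I : Ideal A) [DRing.HasLBaseChange (algebraMap A (AdicCompletion I A))] (ω : Dual.D A) (hω : Dual.IsDualizing A ω) : Dual.IsDualizing (AdicCompletion I A) ((DRing.LBaseChange (algebraMap A (AdicCompletion I A))).obj ω) := by
  have := AdicCompletion.flat_of_isNoetherian (R := A) I
  have := Groth.Agent.Lib.Excellent.CompletionNoetherian.isNoetherianRing_adicCompletion I
  have := AdicCompletion.isAdicComplete_self I (Ideal.fg_of_isNoetherianRing I)
  refine LBC.isDualizing_of_maximal hω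
    (LBC.extended_of_surjective_mod I ?_ (IsAdicComplete.le_jacobson_bot _))
  intro y
  obtain ⟨x, rfl⟩ := Ideal.Quotient.mk_surjective y
  obtain ⟨a, ha⟩ := Ideal.Quotient.mk_surjective (AdicCompletion.evalOneₐ I x)
  refine ⟨a, Ideal.Quotient.eq.2 ?_⟩
  rw [← AdicCompletion.ker_evalOneₐ_eq_map I (Ideal.fg_of_isNoetherianRing I)]
  have h1 : (AdicCompletion.evalOneₐ I).toRingHom (algebraMap A (AdicCompletion I A) a) =
      Ideal.Quotient.mk I a :=
    RingHom.congr_fun (AdicCompletion.evalOneₐ_comp_algebraMap_eq_mk I) a
  rw [RingHom.mem_ker, map_sub, sub_eq_zero]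
  exact h1.trans ha

end Groth.Agent.S1779
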