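import Groth.Statements.S0392
import Groth.Agent.Lib.LocalFlat.Fibre

set_option autoImplicit false
universe u
open FlatMor

namespace Groth.Agent.S0392

open TensorProduct in
/-- Fibrewise criterion of flatness, Noetherian local form: for local homomorphisms R → S → S' of
Noetherian local rings and a nonzero finite S'-module M that is flat over R and whose reduction
modulo the maximal ideal of R is flat over the corresponding fibre ring of S, the ring S is flat
over R and M is flat over S. -/
theorem result {R S S' M : Type u} [CommRing R] [CommRing S] [CommRing S'] [IsLocalRing R] [IsLocalRing S] [IsLocalRing S']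
    [IsNoetherianRing R] [IsNoetherianRing S] [IsNoetherianRing S'] [Algebra R S] [Algebra S S'] [Algebra R S'] [IsScalarTower R S S']
    [IsLocalHom (algebraMap R S)] [IsLocalHom (algebraMap S S')]
    [AddCommGroup M] [Module S' M] [Module S M] [Module R M] [IsScalarTower S S' M] [IsScalarTower R S M]
    [Module.Finite S' M] [Nontrivial M] [Module.Flat R M]
    (h : Module.Flat (S ⧸ ((IsLocalRing.maximalIdeal R).map (algebraMap R S))) ((S ⧸ ((IsLocalRing.maximalIdeal R).map (algebraMap R S))) ⊗[S] M)) :
    Module.Flat R S ∧ Module.Flat S M := by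
  open Groth.Agent.Lib.LocalFlat in
  have hI : (IsLocalRing.maximalIdeal R).map (algebraMap R S) ≠ ⊤ := fun e =>
    (IsLocalRing.maximalIdeal.isMaximal S).ne_top
      (top_le_iff.1 (e ▸ IsLocalRing.map_maximalIdeal_le (algebraMap R S)))
  have h2 : Module.Flat S M :=
    Groth.Agent.Lib.LocalFlat.Criterion.flat_of_injective_of_flat_quotient S'
      ((IsLocalRing.maximalIdeal R).map (algebraMap R S))
      (Groth.Agent.Lib.LocalFlat.Criterion.map_le_jacobson_bot_of_isLocalHom hI)
      (Groth.Agent.Lib.LocalFlat.Fibre.lTensor_map_subtype_injective S _)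
  have : Module.FaithfullyFlat S M :=
    Groth.Agent.Lib.LocalFlat.Fibre.faithfullyFlat_of_finite (S' := S')
  exact ⟨Groth.Agent.Lib.LocalFlat.Fibre.flat_of_flat_of_faithfullyFlat (S := S) (M := M), h2⟩


end Groth.Agent.S0392
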