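import Groth.Statements.S9988
import Groth.Agent.Lib.AlgSpMor.SchImage.Family
-- import your own Groth.Agent.* helpers here

set_option autoImplicit false
universe u
open CategoryTheory CategoryTheory.Limits AlgebraicGeometry Opposite
open AlgSp

open AlgSp (yon RepWith)
open Groth.Agent.Lib.AlgSpace Groth.Agent.Lib.AlgSpMor Groth.Agent.Lib.AlgSpMor.SchImage

namespace Groth.Agent.S9988

/-- Every quasi-coherent sheaf of ideals on the small etale site of an algebraic space X is the ideal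
sheaf of a closed subspace: there is a closed immersion i : Z ⟶ X whose kernel ideal on every affine
etale chart U of X equals I(U). -/
theorem result {S : Scheme.{u}} (X : AlgSp.Space S) (I : AlgSp.IdealEt X.obj) (hI : I.IsQCoh) :
    ∃ (Z : AlgSp.Space S) (i : Z ⟶ X), AlgSp.IsCutOutBy I i.hom := by
  classical
  let K : ∀ T : Over S, ((AlgSp.yon S).obj T ⟶ X.obj) → T.left.IdealSheafData := fun T ξ ↦
    if h : IsAffine T.left ∧ RepWith @Etale ξ then
      haveI := h.1
      Scheme.IdealSheafData.ofIdealTop (I.ideal (AlgSp.EtOver.mk ξ h.2) h.1) else ⊥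
  have hK : ∀ (E : AlgSp.EtOver X.obj) (hE : IsAffine E.obj.left.left),
      K E.obj.left E.obj.hom = Scheme.IdealSheafData.ofIdealTop (I.ideal E hE) := fun E hE ↦
    dif_pos (c := IsAffine E.obj.left.left ∧ RepWith @Etale E.obj.hom) ⟨hE, E.property⟩
  obtain ⟨Z, i, hZ, hi, hcut⟩ := exists_cut_of_family X.property K fun T T' ξ q hT hT' hξ hq ↦ by
    haveI := hT; haveI := hT'; haveI := hq
    have hξ' : RepWith @Etale ((AlgSp.yon S).map q ≫ ξ) := LocP.repWith_etale_comp q hξ
    rw [show K T ξ = Scheme.IdealSheafData.ofIdealTop (I.ideal (AlgSp.EtOver.mk ξ hξ) hT) from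
        hK (AlgSp.EtOver.mk ξ hξ) hT,
      show K T' ((AlgSp.yon S).map q ≫ ξ) = Scheme.IdealSheafData.ofIdealTop (I.ideal (AlgSp.EtOver.mk _ hξ') hT') from
        hK (AlgSp.EtOver.mk _ hξ') hT', comap_ofIdealTop]
    exact congrArg _ (le_antisymm
      (I.map_le (AlgSp.EtOver.homMk (E := AlgSp.EtOver.mk _ hξ') (E' := AlgSp.EtOver.mk ξ hξ) q rfl) hT hT')
      (hI (AlgSp.EtOver.homMk (E := AlgSp.EtOver.mk _ hξ') (E' := AlgSp.EtOver.mk ξ hξ) q rfl) hT hT'))
  refine ⟨⟨Z, hZ⟩, ObjectProperty.homMk i, hi, AlgSp.IdealEt.ext ?_⟩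
  funext E hE
  haveI := hE
  refine (Scheme.IdealSheafData.equivOfIsAffine (X := E.obj.left.left)).symm.injective ?_
  show Scheme.IdealSheafData.ofIdealTop _ = Scheme.IdealSheafData.ofIdealTop _
  rw [ofIdealTop_idealOfRep, ← hK E hE]
  exact (cut_kerAt_self hi E.obj.hom).unique (hcut _ hE _ E.property)

end Groth.Agent.S9988
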