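import Groth.Statements.S10670
import Groth.Agent.Lib.AlgSpDecent.FieldChangeFibre

set_option autoImplicit false
universe u
open CategoryTheory CategoryTheory.Limits AlgebraicGeometry
open AlgSp

namespace Groth.Agent.S10670

open Groth.Agent.Lib.AlgSpace Groth.Agent.Lib.AlgSpDecent

/-- For morphisms f : X ⟶ Y and g : Y' ⟶ Y between algebraic spaces over S, f' : X' ⟶ Y' the base change
of f along g, an algebraically closed field point k' of Y' and an algebraically closed field point k
of Y whose class in |Y| is the image of the class of k', the fibres X'_{k'} and X_k (pullbacks in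
fppf sheaves) have the same number of connected components of their spaces of points, counted in ℕ∞.
With g the identity this says the number of geometric connected components of the fibre over a point
of |Y| is well defined. -/
theorem result {S : Scheme.{u}} {X Y X' Y' : AlgSp.Space S} (f : X ⟶ Y) (g : Y' ⟶ Y) (gX : X' ⟶ X) (f' : X' ⟶ Y')
    (hsq : IsPullback gX.hom f'.hom f.hom g.hom)
    (k' : AlgSp.FieldPt Y'.obj) (hk' : k'.IsGeometric) (k : AlgSp.FieldPt Y.obj) (hk : k.IsGeometric)
    (hkk : AlgSp.Points.mk k = AlgSp.Points.map g.hom (AlgSp.Points.mk k'))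
    (Xk' : AlgSp.Sp S) (a' : Xk' ⟶ X'.obj) (b' : Xk' ⟶ (AlgSp.yon S).obj k'.pt) (h' : IsPullback a' b' f'.hom k'.toHom)
    (Xk : AlgSp.Sp S) (a : Xk ⟶ X.obj) (b : Xk ⟶ (AlgSp.yon S).obj k.pt) (h : IsPullback a b f.hom k.toHom) :
    ENat.card (_root_.ConnectedComponents (AlgSp.Points Xk')) = ENat.card (_root_.ConnectedComponents (AlgSp.Points Xk)) := by
  have hX := X.property
  have hY := Y.property
  have hm : Points.mk k = Points.mk (Core.ofHom (k'.toHom ≫ g.hom)) := by
    rw [hkk, ← Points.ofPt_toHom k' (IsLocalRing.closedPoint k'.K),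
      ← Points.ofPt_toHom (Core.ofHom (k'.toHom ≫ g.hom)) (IsLocalRing.closedPoint k'.K), Core.toHom_ofHom]
    rfl
  obtain ⟨Ω, _, w, α, β, hαβ⟩ := Core.rel_iff.1 (Points.mk_eq_mk_iff.1 hm)
  rw [Core.toHom_ofHom] at hαβ
  have : IsSepClosed k.K := have : IsAlgClosed k.K := hk; inferInstance
  have : IsSepClosed k'.K := have : IsAlgClosed k'.K := hk'; inferInstance
  have sqk : IsPullback (a' ≫ gX.hom) b' f.hom (k'.toHom ≫ g.hom) := h'.paste_horiz hsq
  have sqΩ := IsPullback.of_hasPullback f.hom ((AlgSp.yon S).map α ≫ k.toHom)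
  have h1 := FieldChangeFibre.card_connectedComponents_eq hX hY h sqΩ
  have sqΩ' : IsPullback (pullback.fst f.hom ((AlgSp.yon S).map α ≫ k.toHom)) (pullback.snd f.hom ((AlgSp.yon S).map α ≫ k.toHom)) f.hom ((AlgSp.yon S).map β ≫ k'.toHom ≫ g.hom) := by
    convert sqΩ using 1
    exact hαβ.symm
  have h2 := FieldChangeFibre.card_connectedComponents_eq hX hY sqk sqΩ'
  exact h2.symm.trans h1

end Groth.Agent.S10670
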