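import Groth.Statements.S10684
import Groth.Agent.Lib.AlgSpGeomCount.GeomPt
import Groth.Agent.Lib.AlgSpFpqc.Fppf

set_option autoImplicit false
universe u
open CategoryTheory CategoryTheory.Limits AlgebraicGeometry
open AlgSp

namespace Groth.Agent.S10684

open Topology Groth.Agent.Lib Groth.Agent.Lib.AlgSpace Groth.Agent.Lib.AlgSpDecent Groth.Agent.Lib.AlgSpMor
  Groth.Agent.Lib.AlgSpGeomCount

/-- For a proper flat morphism f : X ⟶ Y between algebraic spaces over S which is of finite
presentation, the function on |Y| counting the connected components of geometric fibres (for y, the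
number in ℕ∞ of connected components of the space of points of X_k for an algebraically closed field
point k in the class of y) is lower semi-continuous: for each d the set of y all of whose geometric
fibres have more than d connected components is open. -/
theorem result {S : Scheme.{u}} {X Y : AlgSp.Space S} (f : X ⟶ Y)
    (hf1 : AlgSp.IsProperMor f.hom) (hf2 : AlgSp.LocP @Flat f.hom) (hf3 : AlgSp.IsFinitePresentationMor f.hom) (d : ℕ∞) :
    IsOpen {y : AlgSp.Points Y.obj | ∀ (k : AlgSp.FieldPt Y.obj), AlgSp.Points.mk k = y → k.IsGeometric →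
        ∀ (Xk : AlgSp.Sp S) (a : Xk ⟶ X.obj) (b : Xk ⟶ (AlgSp.yon S).obj k.pt), IsPullback a b f.hom k.toHom →
          d < ENat.card (_root_.ConnectedComponents (AlgSp.Points Xk))} := by
  obtain ⟨n, rfl⟩ | rfl : (∃ n : ℕ, d = n) ∨ d = ⊤ := by
    rcases eq_or_ne d ⊤ with h | h
    · exact Or.inr h
    · exact Or.inl ⟨_, (ENat.coe_toNat h).symm⟩
  rotate_left
  · convert isOpen_empty
    refine Set.eq_empty_iff_forall_notMem.2 fun y hy => ?_
    obtain ⟨U, p, hp, hps⟩ := Y.property.atlas
    obtain ⟨u, rfl⟩ := Core.surjective_ofPt hps y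
    let τ := GeomConn.resHom u (AlgebraicClosure (U.left.residueField u))
    exact not_top_lt (hy (Core.ofHom ((yon S).map τ ≫ p)) (mk_ofHom_resHom p u _)
      (show IsAlgClosed (AlgebraicClosure (U.left.residueField u)) from inferInstance) _ _ _
      (IsPullback.of_hasPullback f.hom _))
  have hX := X.property
  have hY := Y.property
  rw [isOpen_iff_forall_mem_open]
  intro y hy
  obtain ⟨U, p, hp, hps⟩ := hY.atlas
  obtain ⟨u, rfl⟩ := Core.surjective_ofPt hps y
  obtain ⟨O, hO, huO, -⟩ := exists_isAffineOpen_mem_and_subset (show u ∈ (⊤ : U.left.Opens) from trivial)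
  let V : Over S := Over.mk (O.ι ≫ U.hom)
  have : IsAffine V.left := hO
  let jV : V ⟶ U := Over.homMk O.ι rfl
  let bV : (yon S).obj V ⟶ Y.obj := (yon S).map jV ≫ p
  have hbV : RepWith @Etale bV :=
    repWith_comp (repWith_etale_yon_map (inferInstanceAs (Etale O.ι))) hp
  let v : ↥V.left := ⟨u, huO⟩
  have hv : Points.ofPt bV v = Points.ofPt p u := Core.ofPt_map_comp _ _ _
  let σ := GeomConn.resHom v (AlgebraicClosure (V.left.residueField v))
  have sqV := IsPullback.of_hasPullback f.hom bV
  have hXV := isAlgSpace_of_isPullback sqV hY.diag hX (IsAlgSpace.yon_obj V)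
  have hprop := Proper.isProperMor_baseChange hX hY (IsAlgSpace.yon_obj V) sqV hf1
  have hflat := LocP.locP_of_isPullback SourceDescent.Scheme.flat hX hY (IsAlgSpace.yon_obj V) sqV hf2
  have hlfp := LocP.locP_of_isPullback SourceDescent.Scheme.locallyOfFinitePresentation hX hY
    (IsAlgSpace.yon_obj V) sqV hf3.1
  let g := pullback.snd f.hom bV
  have sqσ := IsPullback.of_hasPullback g ((yon S).map σ)
  have hcard := hy (Core.ofHom ((yon S).map σ ≫ bV)) ((mk_ofHom_resHom bV v _).trans hv)
    (show IsAlgClosed (AlgebraicClosure (V.left.residueField v)) from inferInstance) _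
    (pullback.fst g ((yon S).map σ) ≫ pullback.fst f.hom bV) (pullback.snd g ((yon S).map σ))
    (by rw [Core.toHom_ofHom]; exact sqσ.paste_horiz sqV)
  obtain ⟨C, hC, hne, hdis⟩ := exists_family_of_lt_card hcard
  obtain ⟨W, e, he, τ, hτ, D, hD⟩ := exists_etale_clopen_family hXV hprop σ sqσ C hC
  have sqW := IsPullback.of_hasPullback g ((yon S).map e)
  have hXW := isAlgSpace_of_isPullback sqW (IsAlgSpace.yon_obj V).diag hXV (IsAlgSpace.yon_obj W)
  let bW := pullback.snd g ((yon S).map e)
  have hopen : IsOpenMap (Points.map bW) := AlgSpFpqc.Fppf.isOpenMap hXW (IsAlgSpace.yon_obj W)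
    (LocP.locP_of_isPullback SourceDescent.Scheme.flat hXV (IsAlgSpace.yon_obj V) (IsAlgSpace.yon_obj W)
      sqW hflat)
    (LocP.locP_of_isPullback SourceDescent.Scheme.locallyOfFinitePresentation hXV
      (IsAlgSpace.yon_obj V) (IsAlgSpace.yon_obj W) sqW hlfp)
  have hclosed : IsClosedMap (Points.map bW) := Proper.isClosedMap_of_isUnivClosedMor
    (IsAlgSpace.yon_obj W) (Proper.univSp_baseChange sqW hprop.2.2)
  let l := pullback.lift (pullback.fst g ((yon S).map σ)) (pullback.snd g ((yon S).map σ) ≫ (yon S).map τ)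
    (by rw [Category.assoc, ← Functor.map_comp]; erw [hτ]; exact sqσ.w) (f := g) (g := (yon S).map e)
  let G : Set (Points ((yon S).obj W)) :=
    (⋂ i, Points.map bW '' D i) \ ⋃ q : {q : Fin (n + 1) × Fin (n + 1) // q.1 ≠ q.2},
      Points.map bW '' (D q.1.1 ∩ D q.1.2)
  have hG : IsOpen G := by
    refine (isOpen_iInter_of_finite fun i => hopen _ (hD i).1.2).sdiff (isClosed_iUnion_of_finite
      fun q => hclosed _ ((hD q.1.1).1.1.inter (hD q.1.2).1.1))
  let w₀ : ↥W.left := τ.left (IsLocalRing.closedPoint _)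
  have hw₀ : Points.schemeHomeo W w₀ ∈ G := by
    have key : ∀ z, Points.map bW (Points.map l z) = Points.schemeHomeo W w₀ := by
      intro z
      rw [← Points.map_comp, pullback.lift_snd, Points.map_comp]
      obtain ⟨t, ht⟩ := (Points.schemeHomeo _).surjective (Points.map (pullback.snd g ((yon S).map σ)) z)
      rw [← ht, Points.map_yon_map_apply]
      congr 2
      exact Subsingleton.elim (α := PrimeSpectrum _) _ _
    refine ⟨Set.mem_iInter.2 fun i => ?_, ?_⟩
    · obtain ⟨z, hz⟩ := hne i
      exact ⟨_, (Set.ext_iff.1 (hD i).2 z).2 hz, key z⟩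
    · rintro ⟨_, ⟨⟨⟨i, j⟩, hij⟩, rfl⟩, x, ⟨hxi, hxj⟩, hx⟩
      have sql : IsPullback l (pullback.snd g ((yon S).map σ)) bW ((yon S).map τ) := by
        refine IsPullback.of_right ?_ (pullback.lift_snd _ _ _) sqW
        rw [pullback.lift_fst, ← Functor.map_comp]
        erw [hτ]
        exact sqσ
      obtain ⟨z, hz, -⟩ := Core.exists_point_of_isPullback sql x
        (Points.schemeHomeo _ (IsLocalRing.closedPoint _)) (by rw [hx, Points.map_yon_map_apply]; rfl)
      exact (hdis i j hij).le_bot ⟨(Set.ext_iff.1 (hD i).2 z).1 (show Points.map l z ∈ D i from hz ▸ hxi),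
        (Set.ext_iff.1 (hD j).2 z).1 (show Points.map l z ∈ D j from hz ▸ hxj)⟩
  let p' : (yon S).obj W ⟶ Y.obj := (yon S).map e ≫ bV
  have hp' : RepWith @Etale p' := repWith_comp (repWith_etale_yon_map he) hbV
  refine ⟨Points.ofPt p' '' (Points.schemeHomeo W ⁻¹' G), ?_,
    Core.isOpenMap_ofPt hp' _ (hG.preimage (Points.schemeHomeo W).continuous), w₀, hw₀, ?_⟩
  rotate_left
  · rw [Core.ofPt_map_comp, ← hv]
    congr 1
    show (τ ≫ e).left (IsLocalRing.closedPoint _) = v
    rw [hτ]
    exact (Scheme.Hom.comp_apply _ _ _).trans (Scheme.fromSpecResidueField_apply _ _)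
  rintro _ ⟨w, hw, rfl⟩ k hkw hk Xk a b sq
  let τ' := GeomConn.resHom w (AlgebraicClosure (W.left.residueField w))
  have sqτ := IsPullback.of_hasPullback bW ((yon S).map τ')
  rw [card_eq_of_mk_eq hX hY hk
    (show (Core.ofHom ((yon S).map τ' ≫ p')).IsGeometric from
      (inferInstanceAs (IsAlgClosed (AlgebraicClosure (W.left.residueField w)))))
    (hkw.trans (mk_ofHom_resHom p' w _).symm) sq
    (P' := pullback bW ((yon S).map τ'))
    (a' := pullback.fst _ _ ≫ pullback.fst g _ ≫ pullback.fst f.hom bV)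
    (b' := pullback.snd bW ((yon S).map τ'))
    (by rw [Core.toHom_ofHom]; exact sqτ.paste_horiz (sqW.paste_horiz sqV))]
  refine lt_card_of_family (fun i => Points.map (pullback.fst bW ((yon S).map τ')) ⁻¹' D i)
    (fun i => (hD i).1.preimage (Points.continuous_map _)) (fun i => ?_) (fun i j hij => ?_)
  · obtain ⟨x, hx, hxw⟩ := Set.mem_iInter.1 hw.1 i
    obtain ⟨z, hz, -⟩ := Core.exists_point_of_isPullback sqτ x
      (Points.schemeHomeo _ (IsLocalRing.closedPoint _)) (by
        rw [hxw, Points.map_yon_map_apply]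
        congr 1
        exact ((Scheme.Hom.comp_apply _ _ _).trans (Scheme.fromSpecResidueField_apply _ _)).symm)
    exact ⟨z, show _ ∈ D i from hz.symm ▸ hx⟩
  · rw [Set.disjoint_left]
    intro z hzi hzj
    refine hw.2 (Set.mem_iUnion.2 ⟨⟨(i, j), hij⟩, _, ⟨hzi, hzj⟩, ?_⟩)
    rw [← Points.map_comp, sqτ.w, Points.map_comp]
    obtain ⟨t, ht⟩ := (Points.schemeHomeo _).surjective (Points.map (pullback.snd bW ((yon S).map τ')) z)
    rw [← ht, Points.map_yon_map_apply]
    congr 1
    exact ((Scheme.Hom.comp_apply _ _ _).trans (Scheme.fromSpecResidueField_apply _ _))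

end Groth.Agent.S10684
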