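import Groth.Statements.S1589
import Groth.Agent.H25.Node.AtWorst
import Groth.Agent.Lib.Goren.Flat
import Groth.Agent.Lib.ArtinFun.Estimates
import Groth.Agent.S0342
import Groth.Agent.S0343

set_option autoImplicit false
set_option linter.style.haveILetI false
universe u
open CategoryTheory CategoryTheory.Limits AlgebraicGeometry
open Curves

namespace Groth.Agent.S1589

attribute [local instance] Curv2.stalkAlgebra

open IsLocalRing in
/-- Nodes are Gorenstein. -/
theorem gorenstein_node (k A : Type u) [Field k] [CommRing A] [IsLocalRing A] [IsNoetherianRing A]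
    [Algebra k A] [Algebra.FormallySmooth k (ResidueField A)] (h : H25.Node.IsNodal A) :
    LocCoh.IsGorensteinLocalRing A := by
  obtain ⟨C, _, _, _, _, _, _, _, K, _, _, _, hK, hm⟩ := H25.Node.Algebraic.exists_completion k A
  have hC := (H25.Node.isNodal_iff A C hm).1 h
  obtain ⟨s, t, hst, hq⟩ := H25.Node.Properties.exists_pair K hK hC
  obtain ⟨e⟩ := H25.Node.Complete.exists_equiv K hK hC.length ![0, 1, 0]
    (by simp [H25.Node.disc]) hst (by simpa [H25.Node.quad] using hq)
  haveI : IsRegularLocalRing (MvPowerSeries (Fin 2) K) :=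
    Lib.ArtinFun.isRegularLocalRing_ps 2
  haveI : LocCoh.IsGorensteinLocalRing (MvPowerSeries (Fin 2) K) := S0342.result _
  have hne : H25.Node.Model.form K ![0, 1, 0] ≠ 0 := by
    rw [H25.Node.Quadratic.form_xy]
    have hX : ∀ i : Fin 2, (MvPowerSeries.X i : MvPowerSeries (Fin 2) K) ≠ 0 := fun i h => by
      simpa [MvPowerSeries.coeff_X] using congrArg (MvPowerSeries.coeff (Finsupp.single i 1)) h
    exact mul_ne_zero (hX _) (hX _)
  have hG : LocCoh.IsGorensteinLocalRing (H25.Node.Model.Model K ![0, 1, 0]) :=
    (S0343.result _ _ (H25.Node.Model.form_mem K _)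
      (IsSMulRegular.of_ne_zero hne)).1 inferInstance
  have hG' : LocCoh.IsGorensteinLocalRing C :=
    (Lib.Goren.Flat.isGorensteinLocalRing_ringEquiv_iff e.toRingEquiv).1 hG
  exact ((Lib.Goren.Flat.isGorensteinLocalRing_flat_iff A C).1 hG').1

/-- Let X be locally of finite type over k with all irreducible components of dimension one and
at-worst-nodal singularities. Then every local ring of X is Gorenstein and X is geometrically
reduced over k. -/
theorem result (k : Type u) [Field k] (X : Scheme.{u}) [X.Over (Spec (CommRingCat.of k))] [LocallyOfFiniteType (X ↘ (Spec (CommRingCat.of k)))]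
    (hequi : ∀ Z ∈ irreducibleComponents (X : Type u), topologicalKrullDim Z = 1) (hX : Curv2.AtWorstNodal k X) :
    (∀ x : X, LocCoh.IsGorensteinLocalRing (X.presheaf.stalk x)) ∧ GeometricallyReduced (X ↘ (Spec (CommRingCat.of k))) := by
  refine ⟨fun x => ?_, H25.Node.AtWorst.geometricallyReduced k X hX⟩
  haveI : IsLocallyNoetherian X :=
    LocallyOfFiniteType.isLocallyNoetherian (X ↘ Spec (CommRingCat.of k))
  rcases H25.Node.AtWorst.smooth_or_node k X (H25.Node.AtWorst.dim_le_one X hequi) hX x with h | h
  · haveI := H25.Node.AtWorst.regular_of_smooth k X h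
    exact S0342.result _
  · obtain ⟨-, hsep, hn⟩ := (H25.Node.Sch.isNode_iff k X x).1 h
    haveI := hsep
    haveI : Algebra.FormallyEtale k (IsLocalRing.ResidueField (X.presheaf.stalk x)) :=
      Algebra.FormallyEtale.of_isSeparable k _
    exact gorenstein_node k (X.presheaf.stalk x) hn

end Groth.Agent.S1589
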