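import Groth.Statements.S9710
import Groth.Agent.Lib.ProjMor.Conv

set_option autoImplicit false
universe u
open CategoryTheory CategoryTheory.Limits AlgebraicGeometry
open Mor

namespace Groth.Agent.S9710

/-- Let f : X ⟶ S be locally of finite type and L an ample invertible O_X-module. Then there is d₀ ≥ 1
such that for every d ≥ d₀ the tensor power L^{⊗d} is isomorphic to the inverse image of O(1) along
an S-immersion of X into some projective space P^n_S. -/
theorem result {X S : Scheme.{u}} (f : X ⟶ S) [LocallyOfFiniteType f]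
    (L : X.Modules) (hL : CohB1.IsAmple L) :
    ∃ d₀ : ℕ, 0 < d₀ ∧ ∀ d : ℕ, d₀ ≤ d → RelAmple.IsRelVeryAmplePn f (CohB1.tensorPow L d) := by
  obtain ⟨n₀, h⟩ := Groth.Agent.Lib.ProjMor.Conv.eventually_veryAmple_pow f hL
  exact ⟨n₀ + 1, n₀.succ_pos, fun d hd => h d (by omega)⟩

end Groth.Agent.S9710
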