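import Groth.Statements.S4366
import Mathlib.AlgebraicGeometry.Morphisms.Flat
import Mathlib.AlgebraicGeometry.Morphisms.Preimmersion
import Groth.Agent.H48.LocImm.PropLocus
import Groth.Agent.H19.FlatLocus.Scheme

set_option autoImplicit false
universe u
open SchMor

namespace Groth.Agent.S4366

open AlgebraicGeometry in
open CategoryTheory in
open CategoryTheory.Limits in
/-- Let f : X -> Y be a morphism, y a point of Y and Z = Spec O_{Y,y} the local scheme of Y at y with
its canonical morphism to Y. Then the projection p : X x_Y Z -> X induces isomorphisms on all local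
rings: for every point t of X x_Y Z the homomorphism O_{X, p t} -> O_{X x_Y Z, t} is bijective. (The
published statement also asserts that p is a homeomorphism onto the preimage of Z; that part is not
stated here.) -/
theorem result
    {X Y : Scheme.{u}} (f : X ⟶ Y) (y : Y) (t : ↑(pullback f (Y.fromSpecStalk y))) :
    IsIso ((pullback.fst f (Y.fromSpecStalk y)).stalkMap t) := by
  haveI : Flat (Y.fromSpecStalk y) := by
    obtain ⟨U, hU, hy, -⟩ := exists_isAffineOpen_mem_and_subset (X := Y) (x := y) (U := ⊤) trivial
    rw [← hU.fromSpecStalk_eq_fromSpecStalk hy, IsAffineOpen.fromSpecStalk]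
    haveI : Flat (Spec.map (Y.presheaf.germ U y hy)) := by
      rw [HasRingHomProperty.Spec_iff (P := @Flat)]
      letI := (Y.presheaf.germ U y hy).hom.toAlgebra
      haveI := hU.isLocalization_stalk ⟨y, hy⟩
      exact IsLocalization.flat _ (hU.primeIdealOf ⟨y, hy⟩).asIdeal.primeCompl
    infer_instance
  let p := pullback.fst f (Y.fromSpecStalk y)
  haveI : Flat p := inferInstance
  haveI : IsPreimmersion p := inferInstance
  have hs : Function.Surjective (p.stalkMap t) := SurjectiveOnStalks.stalkMap_surjective (f := p) t
  have hi : Function.Injective (p.stalkMap t) := by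
    algebraize [(p.stalkMap t).hom]
    have : Module.FaithfullyFlat (X.presheaf.stalk (p t)) ((Limits.pullback f (Y.fromSpecStalk y)).presheaf.stalk t) :=
      @Module.FaithfullyFlat.of_flat_of_isLocalHom _ _ _ _ _ _ _ (Flat.stalkMap p t) (p.toLRSHom.prop t)
    exact ‹RingHom.FaithfullyFlat _›.injective
  exact (ConcreteCategory.isIso_iff_bijective _).mpr ⟨hi, hs⟩

end Groth.Agent.S4366
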