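import Groth.Statements.S10265
import Groth.Agent.Lib.AlgSpMor.Proper
-- import your own Groth.Agent.* helpers here

set_option autoImplicit false
universe u
open CategoryTheory CategoryTheory.Limits AlgebraicGeometry
open AlgSp

open Groth.Agent.Lib.AlgSpace Groth.Agent.Lib.AlgSpMor Groth.Agent.Lib.SourceDescent.Scheme Topology

namespace Groth.Agent.S10265

/-- Whenever a morphism of algebraic spaces is etale, it is, etale locally on both source and target,
smooth, flat, unramified, locally quasi-finite, locally of finite type and locally of finite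
presentation. -/
theorem result {S : Scheme.{u}} {X Y : AlgSp.Space S} (f : X ⟶ Y) (hf : AlgSp.IsEtaleMor f.hom) :
    AlgSp.LocP (@LocallyQuasiFinite ⊓ @LocallyOfFiniteType) f.hom ∧ AlgSp.LocP @Smooth f.hom ∧
    AlgSp.LocP @Flat f.hom ∧ AlgSp.LocP @LocallyOfFinitePresentation f.hom ∧
    AlgSp.LocP @LocallyOfFiniteType f.hom ∧ AlgSp.LocP (@LocallyOfFiniteType ⊓ @FormallyUnramified) f.hom := by
  have key : AlgSp.LocP @Etale f.hom := fun U V a b k ha hb w ↦
    LocP.etale_of_comm (hf a ha) hb k w.symm
  refine ⟨fun U V a b k ha hb w ↦ ?_, fun U V a b k ha hb w ↦ ?_, fun U V a b k ha hb w ↦ ?_,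
    fun U V a b k ha hb w ↦ ?_, fun U V a b k ha hb w ↦ ?_, fun U V a b k ha hb w ↦ ?_⟩
  all_goals haveI : Etale k.left := key a b k ha hb w
  · exact ⟨Groth.Agent.Lib.AlgSpace.locallyQuasiFinite_of_etale k.left, inferInstance⟩
  · exact (inferInstance : Smooth k.left)
  · exact (inferInstance : Flat k.left)
  · exact (inferInstance : LocallyOfFinitePresentation k.left)
  · exact (inferInstance : LocallyOfFiniteType k.left)
  · exact ⟨inferInstance, inferInstance⟩

end Groth.Agent.S10265
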