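import Groth.Statements.S10210
import Groth.Agent.Lib.AlgSpMor.LocP
import Groth.Agent.Lib.AlgSpFormal.Charts
import Groth.Agent.Lib.AlgSpDecent.Core
-- import your own Groth.Agent.* helpers here

set_option autoImplicit false
universe u
open CategoryTheory CategoryTheory.Limits AlgebraicGeometry Topology TopologicalSpace
open AlgSp

open Groth.Agent.Lib Groth.Agent.Lib.AlgSpMor Groth.Agent.Lib.AlgSpace

namespace Groth.Agent.S10210

/-- Let X, Y, Z be algebraic spaces over a scheme S, g : X ⟶ Z and h : Y ⟶ Z etale morphisms and f : X ⟶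
Y a morphism with f ≫ h = g. Then f is etale. -/
theorem result {S : Scheme.{u}} {X Y Z : AlgSp.Space S} (f : X ⟶ Y) (h : Y ⟶ Z) (g : X ⟶ Z)
    (w : f ≫ h = g) (hg : AlgSp.IsEtaleMor g.hom) (hh : AlgSp.IsEtaleMor h.hom) :
    AlgSp.IsEtaleMor f.hom := by
  have hE := Groth.Agent.Lib.SourceDescent.Scheme.etale.{u}
  rw [AlgSpFormal.Charts.isEtaleMor_iff_locP X.property Y.property]
  rw [AlgSpFormal.Charts.isEtaleMor_iff_locP X.property Z.property, ← w] at hg
  rw [AlgSpFormal.Charts.isEtaleMor_iff_locP Y.property Z.property] at hh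
  refine LocP.locP_of_comp (P := @Etale) (R := @Etale) hE (fun {A B C} p q hpq hq => ?_)
    X.property Y.property Z.property hg hh
  have : Etale q := hq
  have : Etale (p ≫ q) := hpq
  exact Etale.of_comp p q

end Groth.Agent.S10210
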