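import Groth.Statements.S10261
import Groth.Agent.Lib.AlgSpMor.EtaleMono
import Groth.Agent.Lib.AlgSpMor.UnivInj
import Groth.Agent.S10265
-- import your own Groth.Agent.* helpers here

set_option autoImplicit false
universe u
open CategoryTheory CategoryTheory.Limits AlgebraicGeometry
open AlgSp

open Groth.Agent.Lib.AlgSpace Groth.Agent.Lib.AlgSpMor

namespace Groth.Agent.S10261

/-- An etale and universally injective morphism of algebraic spaces is an open immersion. -/
theorem result {S : Scheme.{u}} {X Y : AlgSp.Space S}
    (f : X ⟶ Y) (het : AlgSp.IsEtaleMor f.hom) (hinj : AlgSp.IsUnivInjectiveMor f.hom) :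
    AlgSp.RepWith @IsOpenImmersion f.hom := by
  obtain ⟨-, -, -, -, -, hun⟩ := Groth.Agent.S10265.result f het
  have hd := EtaleMono.repWith_openImmersion_diagonal X.property Y.property hun
  have hs := UnivInj.surjective_diagonal_of_isUnivInjectiveMor hinj
  haveI : Mono f.hom := by
    refine mono_of_yon f.hom fun T a b (w : a ≫ f.hom = b ≫ f.hom) ↦ ?_
    let ρ := pullback.lift a b w
    obtain ⟨V, v, c, sq, hv⟩ := repWith_exists hd ρ
    haveI : IsOpenImmersion v.left := hv
    haveI : Surjective v.left := ⟨fun t ↦ by
      have ht : t ∈ AlgSp.Points.ofPt ρ ⁻¹'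
          (AlgSp.Points.map (pullback.diagonal f.hom) '' Set.univ) := by
        rw [Set.image_univ]; exact hs _
      rw [preimage_image_map sq] at ht
      obtain ⟨x, -, hx⟩ := ht
      exact ⟨x, hx⟩⟩
    haveI : IsIso v.left := (isIso_iff_isOpenImmersion_and_surjective _).2 ⟨inferInstance, inferInstance⟩
    haveI : IsIso ((Over.forget S).map v) := ‹IsIso v.left›
    haveI : IsIso v := isIso_of_reflects_iso v (Over.forget S)
    have e : ((yon S).map (inv v) ≫ c) ≫ pullback.diagonal f.hom = ρ := by
      rw [Category.assoc, sq.w, ← Category.assoc, ← Functor.map_comp, IsIso.inv_hom_id,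
        CategoryTheory.Functor.map_id, Category.id_comp]
    have e1 := congr($e ≫ pullback.fst f.hom f.hom)
    have e2 := congr($e ≫ pullback.snd f.hom f.hom)
    simp only [Category.assoc, pullback.diagonal_fst, pullback.diagonal_snd, Category.comp_id, ρ,
      pullback.lift_fst, pullback.lift_snd] at e1 e2
    exact e1.symm.trans e2
  obtain ⟨U, a, ha, has⟩ := X.property.atlas
  exact EtaleMono.repWith_openImmersion_of_mono Y.property.diag ha has (het a ha)

end Groth.Agent.S10261
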