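import Groth.Statements.S10419
import Groth.Agent.Lib.AlgSpDecent.Strata
import Groth.Agent.Lib.AlgSpDecent.Restrict
import Mathlib.Topology.Spectral.ConstructibleTopology

set_option autoImplicit false
universe u
open CategoryTheory CategoryTheory.Limits AlgebraicGeometry Topology TopologicalSpace
open AlgSp

namespace Groth.Agent.S10419

open Groth.Agent.Lib Groth.Agent.Lib.AlgSpDecent

theorem exists_lvl_eq_empty {S : Scheme.{u}} {X : AlgSp.Sp S} {U : Over S} [IsAffine U.left]
    {a : (AlgSp.yon S).obj U ⟶ X} (hX : AlgSp.IsAlgSpace X) (ha : AlgSp.RepWith @Etale a)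
    (haq : AlgSp.RepWith @QuasiCompact a)
    (hqc : ∀ x : AlgSp.Points X, ∃ q : AlgSp.FieldPt X, AlgSp.Points.mk q = x ∧
      AlgSp.RepWith @QuasiCompact q.toHom) :
    ∃ N, Strata.lvl a N = ∅ := by
  have hK : ∀ n, IsCompact (AlgSp.Points.ofPt a ⁻¹' Strata.lvl a n) := by
    intro n
    obtain ⟨W, π, hW⟩ := Tuples.exists_tuples ha n
    have := Strata.compactSpace_tuples ha haq hW
    let b := (AlgSp.yon S).map (π 0) ≫ a
    have hr := hX.representable_from_yon b
    have hq : QuasiCompact (hr.fst' a).left := haq.property b _ _ (hr.isPullback' a).flip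
    have : CompactSpace ↥(hr.pullback a).left :=
      QuasiCompact.compactSpace_of_compactSpace (hr.fst' a).left
    have e : Set.range (hr.snd a).left = AlgSp.Points.ofPt a ⁻¹' Strata.lvl a n := by
      rw [← Strata.range_eq_lvl hW]
      ext u
      constructor
      · rintro ⟨e, rfl⟩
        exact ⟨(hr.fst' a).left e,
          Core.ofPt_eq_of_scheme_isPullback (hr.isPullback' a).w _ rfl e⟩
      · rintro ⟨w, hw⟩
        obtain ⟨e, -, he⟩ := Core.exists_point_of_scheme_isPullback (hr.isPullback' a) w u hw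
        exact ⟨e, he⟩
    rw [← e]
    exact isCompact_range (hr.snd a).left.continuous
  have hopen : ∀ n, IsOpen (AlgSp.Points.ofPt a ⁻¹' Strata.lvl a n) := fun n =>
    (Strata.isOpen_lvl ha n).preimage (AlgSp.Points.continuous_ofPt a)
  let C : ℕ → Set (WithConstructibleTopology ↥U.left) := fun n =>
    WithTopology.ofTopology ⁻¹' (AlgSp.Points.ofPt a ⁻¹' Strata.lvl a n)
  have hC : ∀ n, IsClosed (C n) := fun n => by
    rw [WithConstructibleTopology.isClosed_iff]
    refine @IsClosed.mk _ (constructibleTopology ↥U.left) _ ?_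
    refine IsCompact.isOpen_constructibleTopology_of_isClosed ?_ (hopen n).isClosed_compl
    rw [compl_compl]
    exact hK n
  have hanti : Antitone fun n => Strata.lvl a n := antitone_nat_of_succ_le Strata.lvl_antitone
  obtain ⟨N, hN⟩ : ∃ N, C N = ∅ := by
    by_contra h
    push Not at h
    obtain ⟨u, hu⟩ := IsCompact.nonempty_iInter_of_sequence_nonempty_isCompact_isClosed C
      (fun i => fun u hu => hanti (Nat.le_succ i) hu) h (hC 0).isCompact hC
    obtain ⟨n, hn⟩ := Strata.exists_notMem_lvl hX ha (hqc (AlgSp.Points.ofPt a (WithTopology.ofTopology u)))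
    exact hn (Set.mem_iInter.1 hu n)
  refine ⟨N, Set.eq_empty_iff_forall_notMem.2 fun x hx => ?_⟩
  obtain ⟨T, z, s, -, -, rfl⟩ := id hx
  rw [Core.ofPt_map_comp] at hx
  have : WithTopology.toTopology _ ((s 0).left z) ∈ C N := hx
  rw [hN] at this
  exact this

/-- Let S be a scheme with quasi-separated underlying space and X an algebraic space over S that is
quasi-compact and quasi-separated (X quasi-separated over S). There are an integer n and open
subspaces X = U_1 ⊇ U_2 ⊇ ⋯ ⊇ U_{n+1} = ∅ such that, with T_p = U_p ∖ U_{p+1} (reduced induced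
structure), there is a quasi-compact separated scheme V_p with a surjective etale f_p : V_p ⟶ U_p
for which f_p⁻¹(T_p) ⟶ T_p is an isomorphism. -/
theorem result {S : Scheme.{u}} [QuasiSeparatedSpace ↥S] (X : AlgSp.Space S)
    (hqc : AlgSp.IsQuasiCompactSp X.obj) (hqs : AlgSp.IsQuasiSeparatedSp X.obj) :
    ∃ (n : ℕ) (Uo : ℕ → AlgSp.Space S) (j : ∀ p, Uo p ⟶ X) (k : ∀ p, Uo (p + 1) ⟶ Uo p)
      (T : ℕ → AlgSp.Space S) (i : ∀ p, T p ⟶ Uo p),
      (∀ p, AlgSp.RepWith @IsOpenImmersion (j p).hom) ∧ (∀ p, k p ≫ j p = j (p + 1)) ∧ IsIso (j 1) ∧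
      IsEmpty (AlgSp.Points (Uo (n + 1)).obj) ∧
      (∀ p, AlgSp.IsRedInduced (Set.range (AlgSp.Points.map (k p).hom))ᶜ (i p).hom) ∧
      (∀ p, 1 ≤ p → ∃ (V : Over S) (f : (AlgSp.yon S).obj V ⟶ (Uo p).obj), V.left.IsSeparated ∧ CompactSpace ↥V.left ∧
        AlgSp.RepWith @Etale f ∧ AlgSp.RepWith @Surjective f ∧
        ∀ (P : AlgSp.Sp S) (fst : P ⟶ (T p).obj) (snd : P ⟶ (AlgSp.yon S).obj V),
          IsPullback fst snd (i p).hom f → IsIso fst) := by
  have := AlgSpMor.QC.compactSpace_points hqc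
  obtain ⟨U, a, hU, ha, hs⟩ := AlgSpMor.QC.exists_affine_atlas X.property
  have haq := Strata.repWith_qc_of_affine X.property hqs a
  obtain ⟨N, hN⟩ := exists_lvl_eq_empty X.property ha haq (fun x => by
    obtain ⟨q, h1, -, h2⟩ := QS.isDecent_of_isQuasiSeparatedSp X.property hqs x
    exact ⟨q, h1, h2⟩)
  obtain ⟨Uo, j, k, T, i, hj, hk, hj1, hr, hT, hV, -⟩ := Strata.exists_strata X.property ha hs
  refine ⟨N, Uo, fun p => ObjectProperty.homMk (j p), k, T, i, hj,
    fun p => ObjectProperty.hom_ext _ (hk p), ?_, ⟨fun y => ?_⟩, hT, fun p hp => ?_⟩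
  · exact (isIso_iff_of_reflects_iso _ (ObjectProperty.ι _)).1 (show IsIso ((ObjectProperty.ι (AlgSp.IsAlgSpace (S := S))).map (ObjectProperty.homMk (j 1))) from hj1)
  · have hy := (hr N).subset ⟨y, rfl⟩
    rw [hN] at hy
    exact hy
  · obtain ⟨V, f, h1, h2, h3, h4, h5⟩ := hV p hp
    obtain ⟨W, π, hW⟩ := Tuples.exists_tuples ha (p - 1)
    exact ⟨V, f, h1, h4 W π hW (Strata.compactSpace_tuples ha haq hW), h2, h3, h5⟩

end Groth.Agent.S10419
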