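import Groth.Statements.S10766
import Groth.Agent.H8.EDSMain

set_option autoImplicit false
universe u
open CategoryTheory CategoryTheory.Limits AlgebraicGeometry
open AlgSp

namespace Groth.Agent.S10766

/-- Let X be a quasi-compact and quasi-separated algebraic space over S and P a property of the objects
of the site of algebraic spaces etale over X. Assume (1) P holds for every object whose underlying
space is isomorphic to an affine scheme, and (2) for every elementary distinguished square (U ⊂ W, V
⟶ W) of objects, with W quasi-compact and quasi-separated, U quasi-compact, V affine and any fibre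
product U ×_W V, whenever P is true of U, V and U ×_W V it is true of W. The conclusion is that
every quasi-compact and quasi-separated object, X itself included, has property P.
Quasi-separatedness is taken relative to S with S quasi-separated, so that it agrees with the
absolute notion. -/
theorem result {S : Scheme.{u}} [QuasiSeparatedSpace ↥S] (X : AlgSp.Space S)
    (hXc : AlgSp.IsQuasiCompactSp X.obj) (hXs : AlgSp.IsQuasiSeparatedSp X.obj)
    (P : AlgSp.EtSpOver X → Prop)
    (h1 : ∀ (W : AlgSp.EtSpOver X) (T : Over S), IsAffine T.left →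
      Nonempty ((AlgSp.yon S).obj T ≅ W.obj.left.obj) → P W)
    (h2 : ∀ (W U V UV : AlgSp.EtSpOver X) (j : U ⟶ W) (f : V ⟶ W) (p : UV ⟶ U) (q : UV ⟶ V),
      AlgSp.IsQuasiCompactSp W.obj.left.obj → AlgSp.IsQuasiSeparatedSp W.obj.left.obj →
      AlgSp.IsQuasiCompactSp U.obj.left.obj →
      (∃ T : Over S, IsAffine T.left ∧ Nonempty ((AlgSp.yon S).obj T ≅ V.obj.left.obj)) →
      AlgSp.IsElemDistSq j.hom.left.hom f.hom.left.hom →
      IsPullback p.hom.left.hom q.hom.left.hom j.hom.left.hom f.hom.left.hom →
      P U → P V → P UV → P W) :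
    ∀ W : AlgSp.EtSpOver X, AlgSp.IsQuasiCompactSp W.obj.left.obj → AlgSp.IsQuasiSeparatedSp W.obj.left.obj → P W := by
  intro W hWc hWs
  refine Groth.Agent.H8.EDSMain.main (B := fun W => AlgSp.IsQuasiCompactSp W.obj.left.obj ∧
    AlgSp.IsQuasiSeparatedSp W.obj.left.obj) ⟨fun W h => h, fun W U j h hj hc => ⟨hc, ?_⟩,
      fun V T hT e => ⟨?_, h1 V T hT e⟩, fun W U V UV j f p q h hUc hV hsq hP => h2 W U V UV j f p q h.1 h.2 hUc hV hsq hP⟩
    W ⟨hWc, hWs⟩
  · haveI := Groth.Agent.H8.EDSInduction.mono_openImm hj
    refine Groth.Agent.Lib.AlgSpMor.DiagCharts.isQuasiSeparatedSp_of_affine U.obj.left.property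
      fun A A' Q a b fst snd _ _ sq => ?_
    exact Groth.Agent.Lib.AlgSpMor.DiagCharts.compactSpace_of_isQuasiSeparatedSp h.2
      (U := A) (V := A') (P := Q) (a := a ≫ j.hom.left.hom) (b := b ≫ j.hom.left.hom) (p := fst) (q := snd)
      (IsPullback.of_isLimit' ⟨by rw [← Category.assoc, sq.w, Category.assoc]⟩ (PullbackCone.IsLimit.mk _
        (fun s => sq.lift s.fst s.snd ((cancel_mono j.hom.left.hom).1 (by simpa only [Category.assoc] using s.condition)))
        (fun s => sq.lift_fst _ _ _) (fun s => sq.lift_snd _ _ _)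
        (fun s m h1 h2 => sq.hom_ext (by rw [sq.lift_fst]; exact h1) (by rw [sq.lift_snd]; exact h2))))
  · obtain ⟨e⟩ := e
    haveI := hT
    refine ⟨(Groth.Agent.Lib.AlgSpMor.QC.isQuasiCompactSp_iff V.obj.left.property).2
        (haveI : CompactSpace (AlgSp.Points ((AlgSp.yon S).obj T)) := Groth.Agent.Lib.AlgSpMor.QC.compactSpace_yon
         Groth.Agent.Lib.AlgSpMor.QC.compactSpace_of_surjective (q := e.hom) fun x => ⟨AlgSp.Points.map e.inv x, by
          rw [← AlgSp.Points.map_comp, e.inv_hom_id, AlgSp.Points.map_id]⟩), ?_⟩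
    refine Groth.Agent.Lib.AlgSpMor.DiagCharts.isQuasiSeparatedSp_of_affine V.obj.left.property
      fun A A' Q a b fst snd hA hA' sq => ?_
    obtain ⟨a', ha⟩ := (AlgSp.yon S).map_surjective (a ≫ e.inv)
    obtain ⟨b', hb⟩ := (AlgSp.yon S).map_surjective (b ≫ e.inv)
    have sq' : IsPullback ((AlgSp.yon S).map fst) ((AlgSp.yon S).map snd) ((AlgSp.yon S).map a') ((AlgSp.yon S).map b') := by
      rw [ha, hb]
      exact sq.of_iso (Iso.refl _) (Iso.refl _) (Iso.refl _) e.symm (by simp) (by simp) (by simp) (by simp)
    have sqO : IsPullback fst snd a' b' := IsPullback.of_map (AlgSp.yon S)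
      ((AlgSp.yon S).map_injective (by rw [Functor.map_comp, Functor.map_comp]; exact sq'.w)) sq'
    have sqS := sqO.map (Over.forget S)
    haveI := hA
    haveI := hA'
    haveI : IsAffine (pullback a'.left b'.left) := inferInstance
    haveI : CompactSpace ↥(pullback ((Over.forget S).map a') ((Over.forget S).map b')) :=
      inferInstanceAs (CompactSpace ↥(pullback a'.left b'.left))
    exact (Scheme.homeoOfIso sqS.isoPullback).symm.compactSpace

end Groth.Agent.S10766
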