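import Groth.Statements.S12909
import Mathlib.RingTheory.LocalRing.Module
import Mathlib.RingTheory.Ideal.AssociatedPrime.Finiteness

set_option autoImplicit false
set_option backward.isDefEq.respectTransparency false
universe u
open CAlgX

namespace Groth.Agent.S12909


section FFR
open TensorProduct

variable {B : Type u} [CommRing B] [IsLocalRing B]

lemma split_of_injective (s : B) (hs : s ≠ 0) (hm : ∀ y ∈ IsLocalRing.maximalIdeal B, s * y = 0)
    {F G : Type u} [AddCommGroup F] [Module B F] [AddCommGroup G] [Module B G]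
    [Module.Free B F] [Module.Finite B F] [Module.Free B G] [Module.Finite B G]
    (l : F →ₗ[B] G) (hl : Function.Injective l) : ∃ r, r ∘ₗ l = LinearMap.id := by
  rw [IsLocalRing.split_injective_iff_lTensor_residueField_injective]
  refine (injective_iff_map_eq_zero _).mpr fun x hx => ?_
  obtain ⟨v, rfl⟩ := TensorProduct.mk_surjective B F (IsLocalRing.ResidueField B)
    Ideal.Quotient.mk_surjective x
  have hsm : ∀ {N : Type u} [AddCommGroup N] [Module B N] (z : N),
      z ∈ IsLocalRing.maximalIdeal B • (⊤ : Submodule B N) → s • z = 0 := by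
    intro N _ _ z hz
    exact Submodule.smul_induction_on hz (fun a ha w _ => by rw [← mul_smul, hm a ha, zero_smul])
      (fun a b ha hb => by rw [smul_add, ha, hb, add_zero])
  have h1 : l v ∈ IsLocalRing.maximalIdeal B • (⊤ : Submodule B G) := by
    have hx' := congrArg (TensorProduct.quotTensorEquivQuotSMul G (IsLocalRing.maximalIdeal B)) hx
    rw [map_zero] at hx'
    change TensorProduct.quotTensorEquivQuotSMul G (IsLocalRing.maximalIdeal B)
      ((Ideal.Quotient.mk (IsLocalRing.maximalIdeal B) 1) ⊗ₜ[B] l v) = 0 at hx'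
    rw [TensorProduct.quotTensorEquivQuotSMul_mk_tmul, one_smul, Submodule.Quotient.mk_eq_zero] at hx'
    exact hx'
  have h2 : s • v = 0 := hl (by rw [map_smul, map_zero, hsm _ h1])
  let b := Module.Free.chooseBasis B F
  have h3 : v ∈ IsLocalRing.maximalIdeal B • (⊤ : Submodule B F) := by
    rw [← b.sum_repr v]
    refine Submodule.sum_mem _ fun j _ => Submodule.smul_mem_smul ?_ trivial
    rw [IsLocalRing.mem_maximalIdeal]
    intro hu
    have : s * b.repr v j = 0 := by
      rw [← smul_eq_mul, ← Finsupp.smul_apply, ← map_smul, h2, map_zero, Finsupp.coe_zero, Pi.zero_apply]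
    exact hs (hu.mul_left_eq_zero.mp this)
  show ((1 : IsLocalRing.ResidueField B) ⊗ₜ[B] v) = 0
  refine (TensorProduct.quotTensorEquivQuotSMul F (IsLocalRing.maximalIdeal B)).injective ?_
  show TensorProduct.quotTensorEquivQuotSMul F (IsLocalRing.maximalIdeal B)
      ((Ideal.Quotient.mk (IsLocalRing.maximalIdeal B) 1) ⊗ₜ[B] v) = _
  rw [TensorProduct.quotTensorEquivQuotSMul_mk_tmul, one_smul, map_zero, Submodule.Quotient.mk_eq_zero]
  exact h3

/-- `Σ_{i<e} (-1)^i N (i+1)`. -/
def alt : ℕ → (ℕ → ℕ) → ℤ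
  | 0, _ => 0
  | e + 1, N => N 1 - alt e (fun i => N (i + 1))

theorem range_split (s : B) (hs : s ≠ 0) (hm : ∀ y ∈ IsLocalRing.maximalIdeal B, s * y = 0) :
    ∀ (e : ℕ) (N : ℕ → ℕ) (f : ∀ i, (Fin (N (i + 1)) → B) →ₗ[B] (Fin (N i) → B)),
      1 ≤ e → (∀ i, i + 2 ≤ e → LinearMap.ker (f i) = LinearMap.range (f (i + 1))) →
      LinearMap.ker (f (e - 1)) = ⊥ →
      (∃ r, r ∘ₗ (LinearMap.range (f 0)).subtype = LinearMap.id) ∧
        (Module.finrank B (LinearMap.range (f 0)) : ℤ) = alt e N := by
  intro e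
  induction e with
  | zero => intro N f h; omega
  | succ e ih =>
    intro N f _ hex hlast
    have key : Module.Free B (LinearMap.range (f 0)) ∧
        (Module.finrank B (LinearMap.range (f 0)) : ℤ) = alt (e + 1) N := by
      by_cases he : e = 0
      · subst he
        let E := LinearEquiv.ofInjective (f 0) (LinearMap.ker_eq_bot.mp hlast)
        exact ⟨Module.Free.of_equiv E, by rw [← E.finrank_eq, Module.finrank_fin_fun]; simp [alt]⟩
      · set K : Submodule B (Fin (N 1) → B) := LinearMap.range (f 1)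
        obtain ⟨⟨r, hr⟩, hrk⟩ : (∃ r, r ∘ₗ K.subtype = LinearMap.id) ∧ (Module.finrank B K : ℤ) = alt e (fun i => N (i + 1)) := ih (fun i => N (i + 1)) (fun i => f (i + 1)) (by omega)
          (fun i hi => hex (i + 1) (by omega))
          (by
            have : e - 1 + 1 = e + 1 - 1 := by omega
            exact this ▸ hlast)
        have hr' : ∀ x : K, r x.1 = x := fun x => LinearMap.congr_fun hr x
        have hK : LinearMap.ker (f 0) = K := hex 0 (by omega)
        let e1 : (Fin (N 1) → B) ≃ₗ[B] K × LinearMap.range (f 0) :=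
          LinearEquiv.ofBijective (r.prod (f 0).rangeRestrict) (by
            constructor
            · refine (injective_iff_map_eq_zero _).mpr fun x hx => ?_
              have hx1 : r x = 0 := congrArg Prod.fst hx
              have hx2 : x ∈ K := by
                rw [← hK]; exact congrArg Subtype.val (congrArg Prod.snd hx)
              exact (congrArg Subtype.val ((hr' ⟨x, hx2⟩).symm.trans hx1) :)
            · rintro ⟨k, ⟨_, y, rfl⟩⟩
              refine ⟨k.1 + (y - (r y).1), Prod.ext ?_ (Subtype.ext ?_)⟩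
              · show r (k.1 + (y - (r y).1)) = k
                rw [map_add, map_sub, hr', hr', sub_self, add_zero]
              · show f 0 (k.1 + (y - (r y).1)) = f 0 y
                have h1 : f 0 k.1 = 0 := by rw [← LinearMap.mem_ker, hK]; exact k.2
                have h2 : f 0 (r y).1 = 0 := by rw [← LinearMap.mem_ker, hK]; exact (r y).2
                rw [map_add, map_sub, h1, h2, zero_add, sub_zero])
        have : Module.Projective B K :=
          Module.Projective.of_split K.subtype r hr
        have : Module.Finite B K := Module.Finite.of_surjective r fun x => ⟨x.1, hr' x⟩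
        have : Module.Free B K := Module.free_of_flat_of_isLocalRing
        have : Module.Projective B (LinearMap.range (f 0)) := by
          have hp : Module.Projective B (K × LinearMap.range (f 0)) := Module.Projective.of_equiv e1
          exact Module.Projective.of_split (LinearMap.inr B K _) (LinearMap.snd B K _) (LinearMap.snd_comp_inr ..)
        have : Module.Free B (LinearMap.range (f 0)) := Module.free_of_flat_of_isLocalRing
        refine ⟨inferInstance, ?_⟩
        have h := e1.finrank_eq
        rw [Module.finrank_fin_fun, Module.finrank_prod] at h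
        show _ = (N 1 : ℤ) - alt e (fun i => N (i + 1))
        have := congrArg (Nat.cast (R := ℤ)) h
        push_cast at this
        omega
    obtain ⟨hfree, hrk⟩ := key
    exact ⟨split_of_injective s hs hm _ Subtype.val_injective, hrk⟩

end FFR

section Loc

variable {R : Type u} [CommRing R] (B : Type u) [CommRing B] [Algebra R B]

noncomputable def ext' {a b : ℕ} (L : (Fin a → R) →ₗ[R] (Fin b → R)) :
    (Fin a → B) →ₗ[B] (Fin b → B) :=
  ((LinearMap.toMatrix' L).map (algebraMap R B)).mulVecLin

lemma ext'_apply {a b : ℕ} (L : (Fin a → R) →ₗ[R] (Fin b → R)) (w : Fin a → R) :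
    ext' B L (fun j => algebraMap R B (w j)) = fun j => algebraMap R B (L w j) := by
  funext j
  have := (RingHom.map_mulVec (algebraMap R B) (LinearMap.toMatrix' L) w j).symm
  rw [LinearMap.toMatrix'_mulVec] at this
  exact this

variable (S : Submonoid R) [IsLocalization S B]

include S

lemma clear {a : ℕ} (v : Fin a → B) :
    ∃ (t : S) (w : Fin a → R), (algebraMap R B t) • v = fun j => algebraMap R B (w j) := by
  obtain ⟨t, ht⟩ := IsLocalization.exist_integer_multiples_of_finite S v
  choose w hw using ht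
  exact ⟨t, w, funext fun j => ((hw j).trans (Algebra.smul_def _ _)).symm⟩

lemma exact_ext' {a b c : ℕ} (L : (Fin b → R) →ₗ[R] (Fin c → R)) (K : (Fin a → R) →ₗ[R] (Fin b → R))
    (h : LinearMap.ker L = LinearMap.range K) :
    LinearMap.ker (ext' B L) = LinearMap.range (ext' B K) := by
  ext v
  have hu : ∀ t : S, IsUnit (algebraMap R B t) := IsLocalization.map_units B
  constructor
  · intro hv
    obtain ⟨t, w, htw⟩ := clear B S v
    have h0 : ∀ j, algebraMap R B (L w j) = 0 := fun j => by
      have := congrFun (ext'_apply B L w) j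
      rw [← htw, map_smul, LinearMap.mem_ker.mp hv, smul_zero] at this
      exact this.symm
    have h1 : ∀ j, ∃ m : S, (m : R) * L w j = 0 := fun j => (IsLocalization.map_eq_zero_iff S B _).mp (h0 j)
    choose m hm using h1
    have h2 : (((∏ j, m j : S) : R)) • w ∈ LinearMap.ker L := by
      rw [LinearMap.mem_ker, map_smul]
      funext j
      rw [Pi.smul_apply, Pi.zero_apply, smul_eq_mul, SubmonoidClass.coe_finsetProd,
        ← Finset.prod_erase_mul _ _ (Finset.mem_univ j), mul_assoc, hm, mul_zero]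
    rw [h] at h2
    obtain ⟨z, hz⟩ := h2
    obtain ⟨u, hu'⟩ := (hu ((∏ j, m j) * t))
    refine ⟨(↑u⁻¹ : B) • fun j => algebraMap R B (z j), ?_⟩
    rw [map_smul, ext'_apply, hz]
    rw [show (fun j => algebraMap R B (((((∏ j, m j : S) : R)) • w) j)) =
      algebraMap R B ((∏ j, m j : S) : R) • fun j => algebraMap R B (w j) from
        funext fun j => by rw [Pi.smul_apply, Pi.smul_apply, smul_eq_mul, smul_eq_mul, map_mul],
      ← htw, ← mul_smul, ← mul_smul, mul_assoc, ← map_mul, ← Submonoid.coe_mul, ← hu', Units.inv_mul, one_smul]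
  · rintro ⟨y, rfl⟩
    obtain ⟨t, w, htw⟩ := clear B S y
    rw [LinearMap.mem_ker]
    refine (hu t).smul_eq_zero.mp ?_
    rw [← map_smul, ← map_smul, htw, ext'_apply, ext'_apply]
    funext j
    have : L (K w) = 0 := LinearMap.mem_ker.mp (h.ge ⟨w, rfl⟩)
    rw [this]
    simp

lemma inj_ext' {a b : ℕ} (L : (Fin a → R) →ₗ[R] (Fin b → R)) (h : LinearMap.ker L = ⊥) :
    LinearMap.ker (ext' B L) = ⊥ := by
  have h' : LinearMap.ker L = LinearMap.range (0 : (Fin 0 → R) →ₗ[R] (Fin a → R)) := by
    rw [h, LinearMap.range_zero]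
  rw [exact_ext' B S L 0 h']
  simp [ext']

end Loc

lemma alt_cases {R : Type u} [CommRing R] [IsNoetherianRing R] (e : ℕ) (he : 1 ≤ e) (N : ℕ → ℕ)
    (hN : N 0 = 1) (f : ∀ i, (Fin (N (i + 1)) → R) →ₗ[R] (Fin (N i) → R))
    (hex : ∀ i, i + 2 ≤ e → LinearMap.ker (f i) = LinearMap.range (f (i + 1)))
    (hlast : LinearMap.ker (f (e - 1)) = ⊥) (I : Ideal R)
    (hI : ∀ x, x ∈ I ↔ ∃ v j, f 0 v j = x) (Q : Ideal R) (hQ : Q ∈ associatedPrimes R R) :
    (alt e N = 0 ∨ alt e N = 1) ∧ (alt e N = 0 → ∀ x ∈ I, ∃ t ∉ Q, t * x = 0) ∧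
      (I ≤ Q → alt e N = 0) := by
  classical
  have := hQ.isPrime
  rw [AssociatedPrimes.mem_iff, isAssociatedPrime_iff] at hQ
  obtain ⟨-, x₀, hx₀⟩ := hQ
  have hx₀' : ∀ y, y ∈ Q ↔ y * x₀ = 0 := fun y => by
    rw [hx₀, Submodule.mem_colon_singleton, Submodule.mem_bot, smul_eq_mul]
  let B := Localization.AtPrime Q
  let s : B := algebraMap R B x₀
  have hs : s ≠ 0 := by
    intro h
    obtain ⟨⟨t, ht⟩, htx⟩ := (IsLocalization.map_eq_zero_iff Q.primeCompl B _).mp h
    exact ht ((hx₀' t).mpr htx)
  have hm : ∀ y ∈ IsLocalRing.maximalIdeal B, s * y = 0 := by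
    intro y hy
    rw [← Localization.AtPrime.map_eq_maximalIdeal] at hy
    have : Q.map (algebraMap R B) ≤ Submodule.annihilator (Ideal.span {s}) := by
      rw [Ideal.map_le_iff_le_comap]
      intro z hz
      rw [Ideal.mem_comap, Submodule.mem_annihilator_span_singleton, smul_eq_mul, ← map_mul,
        (hx₀' z).mp hz, map_zero]
    have := this hy
    rwa [Submodule.mem_annihilator_span_singleton, smul_eq_mul, mul_comm] at this
  set W := LinearMap.range (ext' B (f 0)) with hWdef
  obtain ⟨⟨r, hr⟩, hrk⟩ : (∃ r, r ∘ₗ W.subtype = LinearMap.id) ∧ (Module.finrank B W : ℤ) = alt e N := range_split s hs hm e N (fun i => ext' B (f i)) he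
    (fun i hi => exact_ext' B Q.primeCompl _ _ (hex i hi)) (inj_ext' B Q.primeCompl _ hlast)
  have hr' : ∀ x : W, r x.1 = x := fun x => LinearMap.congr_fun hr x
  let j0 : Fin (N 0) := ⟨0, by omega⟩
  have hsub : ∀ j : Fin (N 0), j = j0 := fun j => Fin.ext (by have := j.2; simp only [j0]; omega)
  let one : Fin (N 0) → B := fun _ => 1
  have hrep : ∀ v : Fin (N 0) → B, v = v j0 • one := fun v => funext fun j => by
    simp [one, hsub j]
  obtain ⟨ε, hε⟩ : ∃ ε : B, (r one).1 = ε • one := ⟨_, hrep _⟩
  have hεW : ∀ w : W, ε * w.1 j0 = w.1 j0 := fun w => by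
    have := congrArg (fun x : W => x.1 j0) (hr' w)
    rw [hrep w.1, map_smul, Submodule.coe_smul, hε] at this
    simp [one] at this
    rwa [mul_comm] at this
  have hrk0 : (W = ⊥ ∧ alt e N = 0) ∨ (W = ⊤ ∧ alt e N = 1) := by
    rcases IsLocalRing.isUnit_or_isUnit_one_sub_self ε with h | h
    · right
      have hW : W = ⊤ := by
        refine top_le_iff.mp fun v _ => ?_
        rw [hrep v]
        refine Submodule.smul_mem _ _ ?_
        have h1 : one = (h.unit⁻¹ : Bˣ).1 • (r one).1 := by
          rw [hε, ← mul_smul, IsUnit.val_inv_mul, one_smul]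
        rw [h1]
        exact Submodule.smul_mem _ _ (r one).2
      refine ⟨hW, ?_⟩
      rw [← hrk, hW, finrank_top, Module.finrank_fin_fun, hN, Nat.cast_one]
    · left
      have hW : W = ⊥ := by
        refine (Submodule.eq_bot_iff _).mpr fun v hv => ?_
        have : (1 - ε) * v j0 = 0 := by rw [sub_mul, one_mul, hεW ⟨v, hv⟩, sub_self]
        rw [hrep v, h.mul_right_eq_zero.mp this, zero_smul]
      refine ⟨hW, ?_⟩
      rw [← hrk, hW, finrank_bot, Nat.cast_zero]
  refine ⟨hrk0.imp And.right And.right, fun h0 x hx => ?_, fun hIQ => ?_⟩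
  · obtain ⟨hW, -⟩ := hrk0.resolve_right fun h => by rw [h.2] at h0; exact one_ne_zero h0
    obtain ⟨v, j, rfl⟩ := (hI x).mp hx
    have := congrFun (ext'_apply B (f 0) v) j
    have hz : ext' B (f 0) (fun j => algebraMap R B (v j)) ∈ W := LinearMap.mem_range_self _ _
    rw [hW, Submodule.mem_bot] at hz
    rw [hz, Pi.zero_apply] at this
    obtain ⟨⟨t, ht⟩, htx⟩ := (IsLocalization.map_eq_zero_iff Q.primeCompl B _).mp this.symm
    exact ⟨t, ht, htx⟩
  · refine (hrk0.resolve_right ?_).2
    rintro ⟨hW, -⟩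
    have : one ∈ W := hW ▸ trivial
    obtain ⟨y, hy⟩ := this
    obtain ⟨⟨t, ht⟩, w, htw⟩ := clear B Q.primeCompl y
    have h1 := congrFun (ext'_apply B (f 0) w) j0
    rw [← htw, map_smul, hy] at h1
    simp [one] at h1
    obtain ⟨⟨u, hu⟩, he'⟩ := (IsLocalization.eq_iff_exists Q.primeCompl B).mp h1
    have : u * t ∈ Q := by
      rw [he']
      exact Ideal.mul_mem_left _ _ (hIQ ((hI _).mpr ⟨w, j0, rfl⟩))
    exact (‹Q.IsPrime›.mem_or_mem this).elim hu ht

/-- Let R be a Noetherian ring and I a nonzero ideal with a finite free resolution 0 → R^{n_e} → … →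
R^{n_1} → R^{n_0} → I → 0 with e ≥ 1: the map R^{n_{i+1}} → R^{n_i} is the matrix A_i, the map π :
R^{n_0} → R is linear with image I, the kernel of π is the image of A_0, the kernel of A_i is the
image of A_{i+1} for 0 ≤ i ≤ e - 2, and A_{e-1} is injective. Then I contains a non-zero-divisor of
R. (The hypothesis that I is nonzero is implicit in the published statement: the zero ideal of a
domain has a finite free resolution and contains no non-zero-divisor.) -/
theorem result {R : Type u} [CommRing R] [IsNoetherianRing R]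
    (e : ℕ) (he : 1 ≤ e) (n : ℕ → ℕ) (A : (i : ℕ) → Matrix (Fin (n i)) (Fin (n (i + 1))) R)
    (π : (Fin (n 0) → R) →ₗ[R] R) (hI : LinearMap.range π ≠ ⊥)
    (h0 : LinearMap.ker π = LinearMap.range (A 0).mulVecLin)
    (hA : ∀ i, i + 2 ≤ e → LinearMap.ker (A i).mulVecLin = LinearMap.range (A (i + 1)).mulVecLin)
    (hlast : LinearMap.ker (A (e - 1)).mulVecLin = ⊥) :
    ∃ x : R, x ∈ LinearMap.range π ∧ x ∈ nonZeroDivisors R := by
  classical
  let I : Ideal R := LinearMap.range π
  let N : ℕ → ℕ := fun i => Nat.casesOn i 1 n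
  let f : ∀ i, (Fin (N (i + 1)) → R) →ₗ[R] (Fin (N i) → R) := fun i =>
    match i with
    | 0 => LinearMap.pi fun _ => π
    | i + 1 => (A i).mulVecLin
  have hmem : ∀ x, x ∈ I ↔ ∃ v j, f 0 v j = x := fun x =>
    ⟨fun ⟨v, hv⟩ => ⟨v, (0 : Fin 1), hv⟩, fun ⟨v, _, hv⟩ => ⟨v, hv⟩⟩
  have hex : ∀ i, i + 2 ≤ e + 1 → LinearMap.ker (f i) = LinearMap.range (f (i + 1)) := by
    intro i hi
    match i with
    | 0 =>
      show LinearMap.ker (LinearMap.pi fun _ : Fin 1 => π) = _
      rw [LinearMap.ker_pi]
      exact (iInf_const).trans h0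
    | i + 1 => exact hA i (by omega)
  have hl : LinearMap.ker (f (e + 1 - 1)) = ⊥ := by
    obtain ⟨e', rfl⟩ : ∃ e', e = e' + 1 := ⟨e - 1, by omega⟩
    exact hlast
  by_contra hno
  push Not at hno
  obtain ⟨P, hP, hIP⟩ : ∃ P ∈ associatedPrimes R R, I ≤ P := by
    refine (I.subset_union_prime_finite (associatedPrimes.finite R R) (f := id) 0 0
      fun _ h _ _ ↦ h.isPrime).1 ?_
    simp_rw [id, biUnion_associatedPrimes_eq_compl_nonZeroDivisors]
    exact fun x hx => hno x hx
  have h0' : alt (e + 1) N = 0 :=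
    (alt_cases (e + 1) (by omega) N rfl f hex hl I hmem P hP).2.2 hIP
  apply hI
  refine (Submodule.eq_bot_iff _).mpr fun x hx => ?_
  by_contra hx0
  obtain ⟨Q, hQ, hle⟩ := exists_le_isAssociatedPrime_of_isNoetherianRing R x hx0
  obtain ⟨t, ht, htx⟩ := (alt_cases (e + 1) (by omega) N rfl f hex hl I hmem Q hQ).2.1 h0' x hx
  exact ht (hle (by rw [Submodule.mem_colon_singleton, Submodule.mem_bot, smul_eq_mul, htx]))

end Groth.Agent.S12909
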