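import Groth.Statements.S0260
import Groth.Agent.H80.Clopen.Principal
import Groth.Agent.Lib.Henselian.Basic

set_option autoImplicit false
set_option backward.isDefEq.respectTransparency false
universe u
open Pi1

namespace Groth.Agent.S0260

open AlgebraicGeometry CategoryTheory CategoryTheory.Limits in
/-- Let A be a henselian Noetherian local ring of depth at least 3 and f an element of the maximal
ideal. Then restricting finite etale covers from the punctured spectrum of A to the punctured
spectrum of A/fA is fully faithful. -/
theorem result (A : Type u) [CommRing A] [IsNoetherianRing A] [HenselianLocalRing A] (hA : (3 : ℕ∞) ≤ LocCoh.depth A A)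
    (f : A) (hf : f ∈ IsLocalRing.maximalIdeal A) :
    (FEt.restrict (pullback.fst (FEt.puncturedSpec A).ι
      (Spec.map (CommRingCat.ofHom (Ideal.Quotient.mk (Ideal.span {f})))))).Full ∧
    (FEt.restrict (pullback.fst (FEt.puncturedSpec A).ι
      (Spec.map (CommRingCat.ofHom (Ideal.Quotient.mk (Ideal.span {f})))))).Faithful := by
  obtain ⟨n, a, hU, hL, hV⟩ := Groth.Agent.H80.Clopen.exists_charts_of_depth_three hA f
  have : HenselianRing A (Ideal.span {f}) :=
    Groth.Agent.Lib.Henselian.Basic.henselianRing_of_le (J := IsLocalRing.maximalIdeal A)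
      ((Ideal.span_singleton_le_iff_mem _).mpr hf)
  obtain ⟨_, hg⟩ := Groth.Agent.H80.Clopen.range_fst_quotient (FEt.puncturedSpec A)
    (Ideal.Quotient.mk (Ideal.span {f})) Ideal.Quotient.mk_surjective
  exact Groth.Agent.H80.Clopen.full_and_faithful hU _ hL hV _ (by rw [hg, Ideal.mk_ker])

end Groth.Agent.S0260
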