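import Groth.Statements.S7616
import Groth.Agent.Lib.Normalization.Relative
import Groth.Agent.Lib.Normalization.FiniteField

set_option autoImplicit false
universe u
open CategoryTheory CategoryTheory.Limits AlgebraicGeometry
open Variety

namespace Groth.Agent.S7616

/-- Let f : Y → X be a quasi-compact morphism of schemes locally of finite type over a field k, with Y
reduced; f is automatically quasi-separated. Then the normalization of X in Y is finite over X. -/
theorem result (k : Type u) [Field k] (X : Scheme.{u}) [X.Over (Spec (CommRingCat.of k))] [LocallyOfFiniteType (X ↘ (Spec (CommRingCat.of k)))]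
    (Y : Scheme.{u}) [Y.Over (Spec (CommRingCat.of k))] [LocallyOfFiniteType (Y ↘ (Spec (CommRingCat.of k)))] [IsReduced Y]
    (f : Y ⟶ X) [f.IsOver (Spec (CommRingCat.of k))] [QuasiCompact f] [QuasiSeparated f] :
    IsFinite f.fromNormalization := by
  have : LocallyOfFiniteType (f ≫ X ↘ (Spec (CommRingCat.of k))) := by
    rw [comp_over f]; infer_instance
  have : LocallyOfFiniteType f := locallyOfFiniteType_of_comp f (X ↘ (Spec (CommRingCat.of k)))
  have hS : ∀ U : X.affineOpens, CAlg.IsNagata Γ(X, U) := fun ⟨U, hU⟩ => by
    let π := X ↘ (Spec (CommRingCat.of k))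
    let : Algebra k Γ(X, U) :=
      ((π.appLE ⊤ U (by simp)).hom.comp (Scheme.ΓSpecIso (CommRingCat.of k)).inv.hom).toAlgebra
    have : Algebra.FiniteType k Γ(X, U) :=
      RingHom.FiniteType.comp (π.finiteType_appLE (isAffineOpen_top _) hU (by simp))
        (RingHom.FiniteType.of_surjective _ (ConcreteCategory.bijective_of_isIso
          (Scheme.ΓSpecIso (CommRingCat.of k)).inv).2)
    refine ⟨Algebra.FiniteType.isNoetherianRing k _, fun p _ => ?_⟩
    intro L _ _ _ _ hL
    have : Algebra.FiniteType k (Γ(X, U) ⧸ p) :=
      Algebra.FiniteType.of_surjective (Ideal.Quotient.mkₐ k p) Ideal.Quotient.mk_surjective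
    exact Groth.Agent.Lib.Normalization.FiniteField.finite_integralClosure k (Γ(X, U) ⧸ p)
      (FractionRing (Γ(X, U) ⧸ p)) L
  exact Groth.Agent.Lib.Normalization.Relative.isFinite_fromNormalization f hS
    (Groth.Agent.Lib.Normalization.Relative.locallyFinite_irreducibleComponents f hS)
    fun x _ => Groth.Agent.Lib.Normalization.Relative.essFiniteType_residueFieldMap f x

end Groth.Agent.S7616
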