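import Groth.Statements.S1185
import Groth.Agent.H80.PuncturedExt
import Groth.Agent.Lib.FEt.Basic

set_option autoImplicit false
universe u
open Pi1

namespace Groth.Agent.S1185

open AlgebraicGeometry CategoryTheory CategoryTheory.Limits in
/-- Finiteness of the sections and the extension criterion; the normality of the sections and the
equivalence of categories are not asserted: Let A be a normal Noetherian local domain of Krull
dimension at least 2 with punctured spectrum U, and V a finite etale cover of U. Then the ring of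
global sections of V is finite over A (through the map induced by V ⟶ U ⟶ Spec A), and V is the
restriction of a finite etale cover of Spec A if and only if that ring is etale over A. -/
theorem result (A : Type u) [CommRing A] [IsDomain A] [IsNoetherianRing A]
    [IsLocalRing A] [IsIntegrallyClosed A] (hdim : (2 : WithBot ℕ∞) ≤ ringKrullDim A)
    (V : FEt.Cat (FEt.puncturedSpec A : Scheme.{u})) :
    (((V.hom ≫ (FEt.puncturedSpec A).ι).appTop).hom.comp (Scheme.ΓSpecIso (CommRingCat.of A)).inv.hom).Finite ∧
    ((∃ Y : FEt.Cat (Spec (CommRingCat.of A)), Nonempty ((FEt.restrict (FEt.puncturedSpec A).ι).obj Y ≅ V)) ↔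
      (((V.hom ≫ (FEt.puncturedSpec A).ι).appTop).hom.comp (Scheme.ΓSpecIso (CommRingCat.of A)).inv.hom).Etale) := by
  have hA := Groth.Agent.H80.PuncturedExt.two_le_depth hdim
  let U := FEt.puncturedSpec A
  have : IsFinite V.hom := V.prop.1
  have : Etale V.hom := V.prop.2
  let φ : A →+* Γ(V.left, ⊤) :=
    ((V.hom ≫ (FEt.puncturedSpec A).ι).appTop).hom.comp (Scheme.ΓSpecIso (CommRingCat.of A)).inv.hom
  have hfin : φ.Finite := by
    let : Algebra A Γ(V.left, ⊤) := φ.toAlgebra
    have hloc := fun (f : A) (hf : f ∈ IsLocalRing.maximalIdeal A) =>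
      Groth.Agent.H80.PuncturedExt.finite_etale_away hA V.hom Γ(V.left, ⊤) (Iso.refl _)
        (CommRingCat.hom_ext rfl) hf
    obtain ⟨a, ha, hareg⟩ := Groth.Agent.Lib.FEt.DepthTwo.exists_regular hA
    obtain ⟨b, hb, hbreg⟩ := Groth.Agent.Lib.FEt.DepthTwo.exists_regular_mod hA ha hareg
    have ha0 : a ≠ 0 := fun h => one_ne_zero (α := A) (hareg (by simp [h] : a • (1 : A) = a • 0))
    have hb0 : b ≠ 0 := fun h => ha (isUnit_of_dvd_one (hbreg 1 (by simp [h])))
    refine Groth.Agent.H80.PuncturedExt.finite_of_pair A Γ(V.left, ⊤) ha0 hb0 hbreg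
      (hloc a ha).1 (hloc a ha).2 (hloc b hb).1 fun c x hc hcx => ?_
    have hcov : ∀ v : V.left, ∃ f ∈ IsLocalRing.maximalIdeal A,
        v ∈ V.left.basicOpen (φ f) := by
      intro v
      let q : PrimeSpectrum A := (V.hom ≫ U.ι).base v
      have hv : q ≠ IsLocalRing.closedPoint A := (V.hom.base v).2
      obtain ⟨f, hf, hfv⟩ : ∃ f ∈ IsLocalRing.maximalIdeal A, f ∉ q.asIdeal := by
        by_contra! h
        exact hv (PrimeSpectrum.ext (((IsLocalRing.maximalIdeal.isMaximal A).eq_of_le
          q.isPrime.ne_top h).symm))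
      refine ⟨f, hf, ?_⟩
      have h1 : (V.hom ≫ U.ι).base v ∈ (Spec (CommRingCat.of A)).basicOpen
          ((Scheme.ΓSpecIso (CommRingCat.of A)).inv.hom f) := by
        rw [basicOpen_eq_of_affine]; exact hfv
      have h2 : v ∈ (V.hom ≫ U.ι) ⁻¹ᵁ (Spec (CommRingCat.of A)).basicOpen
          ((Scheme.ΓSpecIso (CommRingCat.of A)).inv.hom f) := h1
      rw [Scheme.preimage_basicOpen_top] at h2
      exact h2
    have hzero : ∀ f ∈ IsLocalRing.maximalIdeal A, f ≠ 0 → ∃ k : ℕ, f ^ k • x = 0 := by
      intro f hf hf0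
      have := (hloc f hf).2
      have : IsDomain (Localization.Away f) := IsLocalization.isDomain_localization
        (Submonoid.powers_le.mpr (mem_nonZeroDivisors_of_ne_zero hf0))
      have hreg : IsSMulRegular (TensorProduct A (Localization.Away f) Γ(V.left, ⊤))
          (algebraMap A (Localization.Away f) c) :=
        Module.Flat.isSMulRegular_of_nonZeroDivisors (R := Localization.Away f)
          (M := TensorProduct A (Localization.Away f) Γ(V.left, ⊤)) (mem_nonZeroDivisors_of_ne_zero
          ((map_ne_zero_iff _ (IsLocalization.injective _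
            (Submonoid.powers_le.mpr (mem_nonZeroDivisors_of_ne_zero hf0)))).mpr hc))
      have h0 : TensorProduct.mk A (Localization.Away f) Γ(V.left, ⊤) 1 x = 0 := hreg (by
        simp only [smul_zero, algebraMap_smul, TensorProduct.mk_apply,
          ← TensorProduct.tmul_smul, hcx, TensorProduct.tmul_zero])
      obtain ⟨⟨_, k, rfl⟩, hk⟩ :=
        (IsLocalizedModule.eq_zero_iff (Submonoid.powers f) _).mp h0
      exact ⟨k, hk⟩
    refine TopCat.Sheaf.eq_of_locally_eq' V.left.sheaf
      (fun f : {f : A // f ∈ IsLocalRing.maximalIdeal A} => V.left.basicOpen (φ f.1)) ⊤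
      (fun f => homOfLE le_top) (fun v _ => ?_) x 0 fun f => ?_
    · obtain ⟨f, hf, hfv⟩ := hcov v
      exact TopologicalSpace.Opens.mem_iSup.mpr ⟨⟨f, hf⟩, hfv⟩
    · obtain ⟨f, hf⟩ := f
      let r := (V.left.presheaf.map
        (homOfLE (le_top : V.left.basicOpen (φ f) ≤ ⊤)).op).hom
      change r x = r 0
      rw [map_zero]
      have hu : IsUnit (r (φ f)) := RingedSpace.isUnit_res_basicOpen _ (φ f)
      rcases eq_or_ne f 0 with rfl | hf0
      · have e : r (φ 0) = 0 := by simp
        rw [e] at hu
        have := subsingleton_of_zero_eq_one (isUnit_zero_iff.mp hu)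
        exact Subsingleton.elim _ _
      · obtain ⟨k, hk⟩ := hzero f hf hf0
        have hk' : φ (f ^ k) * x = 0 := hk
        have := congrArg r hk'
        rw [map_mul, map_pow, map_pow, map_zero] at this
        exact (hu.pow k).mul_right_eq_zero.mp this
  refine ⟨hfin, ⟨fun ⟨Y, ⟨e⟩⟩ => ?_, fun het => ?_⟩⟩
  · let y : Y.left ⟶ Spec (CommRingCat.of A) := Y.hom
    have : IsFinite y := Y.prop.1
    have : Etale y := Y.prop.2
    have : IsAffine Y.left := isAffine_of_isAffineHom y
    let P := (FEt.restrict U.ι).obj Y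
    let j : P.left ⟶ Y.left := pullback.fst y U.ι
    have hj : IsIso j.appTop := by
      have h1 := Groth.Agent.Lib.FEt.DepthTwo.isIso_restriction_punctured hA y
      have : IsIso (y ⁻¹ᵁ U).ι.appTop := by
        have h : (y ⁻¹ᵁ U).ι.appTop ≫ (y ⁻¹ᵁ U).topIso.hom =
            Y.left.presheaf.map (homOfLE (le_top : y ⁻¹ᵁ U ≤ ⊤)).op := by
          rw [Scheme.Opens.ι_appTop, Scheme.Opens.topIso_hom]
          exact (Y.left.presheaf.map_comp _ _).symm
        have : IsIso (Y.left.presheaf.map (homOfLE (le_top : y ⁻¹ᵁ U ≤ ⊤)).op) := h1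
        exact IsIso.of_isIso_fac_right h
      have h2 : j = (pullbackRestrictIsoRestrict y U).hom ≫ (y ⁻¹ᵁ U).ι :=
        (pullbackRestrictIsoRestrict_hom_ι y U).symm
      rw [h2, Scheme.Hom.comp_appTop]
      have i1 : IsIso (pullbackRestrictIsoRestrict y U).hom.appTop :=
        inferInstanceAs (IsIso (Scheme.Γ.map (pullbackRestrictIsoRestrict y U).hom.op))
      exact IsIso.comp_isIso' inferInstance i1
    have hV : V.hom ≫ U.ι = e.inv.left ≫ j ≫ y := by
      have h1 : e.inv.left ≫ P.hom = V.hom := Over.w e.inv.hom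
      have h2 : P.hom = pullback.snd y U.ι := rfl
      have h3 : pullback.fst y U.ι ≫ y = pullback.snd y U.ι ≫ U.ι := pullback.condition
      rw [← h1, h2]
      exact (Category.assoc _ _ _).trans (congrArg (fun t => e.inv.left ≫ t) h3.symm)
    change φ.Etale
    have hei : IsIso e.inv.left := ⟨e.hom.left,
      congrArg (fun t => t.left) e.inv_hom_id, congrArg (fun t => t.left) e.hom_inv_id⟩
    have hei' : IsIso e.inv.left.appTop := inferInstanceAs (IsIso (Scheme.Γ.map e.inv.left.op))
    have : IsIso (j.appTop ≫ e.inv.left.appTop) := IsIso.comp_isIso' hj hei' 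
    have hY : y.appTop.hom.Etale := HasRingHomProperty.appTop (P := @Etale) y inferInstance
    have heq : φ = (j.appTop ≫ e.inv.left.appTop).hom.comp
        (y.appTop.hom.comp (Scheme.ΓSpecIso (CommRingCat.of A)).inv.hom) := by
      change ((V.hom ≫ U.ι).appTop).hom.comp _ = _
      rw [hV]
      rfl
    rw [heq]
    refine RingHom.Etale.stableUnderComposition _ _ ?_
      (RingHom.Etale.of_bijective (ConcreteCategory.bijective_of_isIso _))
    exact RingHom.Etale.stableUnderComposition _ _
      (RingHom.Etale.of_bijective (ConcreteCategory.bijective_of_isIso _)) hY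
  · let q : Spec Γ(V.left, ⊤) ⟶ Spec (CommRingCat.of A) := Spec.map (CommRingCat.ofHom φ)
    have hq : FEt.prop q :=
      ⟨(IsFinite.SpecMap_iff _).mpr hfin, (HasRingHomProperty.Spec_iff (P := @Etale)).mpr het⟩
    refine ⟨MorphismProperty.Over.mk ⊤ q hq, ⟨MorphismProperty.Over.isoMk ?_ ?_⟩⟩
    · exact (Groth.Agent.H80.PuncturedExt.isPullback_sections hA V.hom).flip.isoPullback.symm
    · exact (Groth.Agent.H80.PuncturedExt.isPullback_sections hA V.hom).flip.isoPullback_inv_snd

end Groth.Agent.S1185
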