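import Groth.Statements.S1763
import Groth.Agent.Lib.LCFin.FiniteH1
-- import your own Groth.Agent.* helpers here

set_option autoImplicit false
universe u
open LocCoh

namespace Groth.Agent.S1763

/-- Fix a Noetherian ring A, an ideal I of A and a finitely generated A-module M. The local cohomology
module H¹_I(M) is finitely generated over A if and only if, for each associated prime p of M with I
⊄ p, the module H¹_I(A/p) is finitely generated over A. (Affine form, through finiteness of H¹_I, of
a statement about coherence of direct images along the inclusion of the open complement of V(I).) -/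
theorem result (A : Type u) [CommRing A] [IsNoetherianRing A] (I : Ideal A) (M : Type u) [AddCommGroup M] [Module A M] [Module.Finite A M] : Module.Finite A (LocCoh.H I 1 M) ↔ ∀ p : Ideal A, p ∈ associatedPrimes A M → ¬ I ≤ p → Module.Finite A (LocCoh.H I 1 (A ⧸ p)) := by
  constructor
  · intro h p hp _
    obtain ⟨hprime, x, hx⟩ := (isAssociatedPrime_iff (I := p)).1 hp
    let g : (A ⧸ p) →ₗ[A] M := Submodule.liftQ p (LinearMap.toSpanSingleton A M x) (fun r hr => by
      rw [hx, Submodule.mem_colon_singleton, Submodule.mem_bot] at hr
      simpa using hr)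
    have hg : Function.Injective g := by
      rw [← LinearMap.ker_eq_bot]
      refine Submodule.ker_liftQ_eq_bot _ _ _ fun r hr => ?_
      rw [hx, Submodule.mem_colon_singleton, Submodule.mem_bot]
      exact hr
    exact Lib.LCFin.FiniteH1.finite_left I hg (Submodule.mkQ_surjective _) g.exact_map_mkQ_range h
  · intro h
    refine Lib.LCFin.FiniteH1.finite_H_one I fun p hp => ?_
    by_cases hIp : I ≤ p
    · have : Subsingleton (LocCoh.H I 1 (A ⧸ p)) :=
        Lib.LocalCoh.lc_subsingleton_of_isPowerTorsion I 0 (ModuleCat.of A (A ⧸ p)) fun z => ⟨1, fun r hr => by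
          rw [pow_one] at hr
          obtain ⟨z, rfl⟩ := Ideal.Quotient.mk_surjective z
          rw [Algebra.smul_def, Ideal.Quotient.algebraMap_eq, ← map_mul, Ideal.Quotient.eq_zero_iff_mem]
          exact Ideal.mul_mem_right _ _ (hIp hr)⟩
      infer_instance
    · exact h p hp hIp


end Groth.Agent.S1763
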