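import Groth.Statements.S1751
import Groth.Agent.Lib.RGamma.HTExt
import Groth.Agent.Lib.DMod.Basic

set_option autoImplicit false
universe u
open LocCoh

namespace Groth.Agent.S1751

/-- (1)⇔(2) for a general subset T ⊆ Spec A stable under specialization. Let A be a Noetherian ring, M a
finite A-module and n ≥ 0. Then H^i_T(M) is a finite A-module for all i ≤ n if and only if there is
an ideal J with V(J) ⊆ T annihilating H^i_T(M) for all i ≤ n. -/
theorem result (A : Type u) [CommRing A] [IsNoetherianRing A] (T : Set (PrimeSpectrum A)) (hT : StableUnderSpecialization T) (M : Type u) [AddCommGroup M] [Module A M] [Module.Finite A M] (n : ℕ) : (∀ i : ℕ, i ≤ n → Module.Finite A (Dual2.HT T i M)) ↔ ∃ J : Ideal A, PrimeSpectrum.zeroLocus (J : Set A) ⊆ T ∧ ∀ i : ℕ, i ≤ n → ∀ a ∈ J, ∀ x : Dual2.HT T i M, a • x = 0 := by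
  have e := fun i : ℕ => Classical.choice (Groth.Agent.Lib.RGamma.HDT.nonempty_HT_equiv T i M)
  have h := Groth.Agent.Lib.RGamma.HDT.finite_iff_annihilated (T := T) (Dual.inD A M) 0
    (fun i hi => Groth.Agent.Lib.DMod.Basic.subsingleton_HD_inD M (by omega))
    (fun i => Groth.Agent.Lib.DMod.Basic.finite_HD_inD M i) (n : ℤ)
  constructor
  · intro hf
    obtain ⟨J, hJ, hJ'⟩ := h.1 (fun i hi => by
      rcases lt_or_ge i 0 with hi' | hi'
      · have hz : ∀ x : Dual2.HDT A T (Dual.inD A M) i, x = 0 :=
          Groth.Agent.Lib.RGamma.HDT.eq_zero_below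
            (fun j hj => Groth.Agent.Lib.DMod.Basic.subsingleton_HD_inD M (by omega)) hi'
        exact Module.Finite.of_surjective (0 : A →ₗ[A] Dual2.HDT A T (Dual.inD A M) i)
          (fun x => ⟨0, (hz x).symm⟩)
      · obtain ⟨k, rfl⟩ := Int.eq_ofNat_of_zero_le hi'
        have := hf k (by omega)
        exact Module.Finite.equiv (e k).symm)
    refine ⟨J, hJ, fun i hi a ha x => (e i).symm.injective ?_⟩
    rw [map_smul, map_zero]
    exact hJ' i (by omega) a ha _
  · rintro ⟨J, hJ, hJ'⟩ i hi
    have := h.2 ⟨J, hJ, fun i hi a ha y => by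
      rcases lt_or_ge i 0 with hi' | hi'
      · exact Groth.Agent.Lib.RGamma.HDT.eq_zero_below
            (fun j hj => Groth.Agent.Lib.DMod.Basic.subsingleton_HD_inD M (by omega)) hi' _
      · obtain ⟨k, rfl⟩ := Int.eq_ofNat_of_zero_le hi'
        refine (e k).injective ?_
        rw [map_smul, map_zero]
        exact hJ' k (by omega) a ha _⟩ i (by omega)
    exact Module.Finite.equiv (e i)

end Groth.Agent.S1751
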