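import Groth.Statements.S0250
import Groth.Agent.H80.Extend.Local

set_option autoImplicit false
set_option backward.isDefEq.respectTransparency false
universe u
open Pi1

namespace Groth.Agent.S0250

open AlgebraicGeometry CategoryTheory CategoryTheory.Limits in
/-- Let X be a Noetherian scheme and U ⊆ X an open subscheme such that purity holds for the local ring
𝒪_{X,x} at every point x outside U. Then restriction of finite étale covers from X to U is
essentially surjective. -/
theorem result {X : Scheme.{u}} [IsNoetherian X] (U : X.Opens)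
    (h : ∀ x : X, x ∉ U → FEt.PurityHolds (X.presheaf.stalk x)) : (FEt.restrict U.ι).EssSurj := by
  refine ⟨fun Y => ?_⟩
  suffices key : ∀ (T : X.Opens), (∀ x, x ∉ T → FEt.PurityHolds (X.presheaf.stalk x)) →
      ∀ (Y : FEt.Cat (T : Scheme.{u})), ∃ (Z : FEt.Cat X) (j : Y.left ⟶ Z.left),
        IsPullback j Y.hom Z.hom T.ι by
    obtain ⟨Z, j, hj⟩ := key U h Y
    exact ⟨Z, Groth.Agent.H80.UnivHomeo.nonempty_iso_of_isPullback U.ι Y Z j hj⟩
  intro T
  induction T using WellFoundedGT.induction with
  | ind T ih =>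
    intro hT Y
    by_cases htop : T = ⊤
    · subst htop
      have : IsIso (⊤ : X.Opens).ι := X.topIso.isIso_hom
      exact ⟨MorphismProperty.Over.mk ⊤ (Y.hom ≫ (⊤ : X.Opens).ι)
          ((MorphismProperty.cancel_right_of_respectsIso FEt.prop.{u} Y.hom _).mpr Y.prop), 𝟙 _,
        IsPullback.of_horiz_isIso ⟨Category.id_comp _⟩⟩
    · obtain ⟨η, hη, hgen⟩ := Groth.Agent.H80.Extend.exists_generic T htop
      obtain ⟨T', hlt, Y', j, hj⟩ := Groth.Agent.H80.Extend.exists_bigger T Y hη
        (Groth.Agent.H80.Extend.ext_of_purity T Y hη hgen (hT η hη))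
      obtain ⟨Z, j', hj'⟩ := ih T' hlt (fun x hx => hT x fun hxT => hx (hlt.le hxT)) Y'
      refine ⟨Z, j ≫ j', ?_⟩
      have := hj.paste_horiz hj'
      have e : X.homOfLE hlt.le ≫ T'.ι = T.ι := Scheme.homOfLE_ι _ _
      exact e ▸ this

end Groth.Agent.S0250
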