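import Groth.Statements.S0249


set_option autoImplicit false
universe u
open Pi1

namespace Groth.Agent.S0249

open AlgebraicGeometry CategoryTheory CategoryTheory.Limits in
/-- Let A be a Noetherian local ring of dimension at least 1 and f an element of its maximal ideal. Then
some prime ideal of height exactly 1 contains f. -/
theorem result (A : Type u) [CommRing A] [IsNoetherianRing A] [IsLocalRing A]
    (h : (1 : WithBot ℕ∞) ≤ ringKrullDim A) (f : A) (hf : f ∈ IsLocalRing.maximalIdeal A) :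
    ∃ p : Ideal A, p.IsPrime ∧ f ∈ p ∧ p.height = 1 := by
  classical
  let P : Set (Ideal A) := {p | p.IsPrime ∧ f ∈ p ∧ 1 ≤ p.height}
  have hm : IsLocalRing.maximalIdeal A ∈ P := by
    refine ⟨inferInstance, hf, ?_⟩
    rw [← IsLocalRing.maximalIdeal_height_eq_ringKrullDim (R := A)] at h
    exact_mod_cast h
  obtain ⟨p, ⟨hp, hfp, hp1⟩, hmin⟩ :=
    exists_minimalFor_of_wellFoundedLT (· ∈ P) Ideal.height ⟨_, hm⟩
  refine ⟨p, hp, hfp, le_antisymm ?_ hp1⟩
  by_contra hlt
  have hmin' : ∀ p' ∈ P, p' ≤ p → p' = p := fun p' hp' hle => by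
    by_contra hne
    have := hp'.1
    have := Ideal.height_strict_mono_of_isPrime_of_isPrime (lt_of_le_of_ne hle hne)
    exact this.not_ge (hmin hp' this.le)
  obtain ⟨q, hqp, hqprime, hq1⟩ : ∃ q < p, q.IsPrime ∧ 1 ≤ q.height := by
    by_contra! hh
    refine hlt (Ideal.height_le_iff.mpr fun q hq hqp => ?_)
    exact hh q hqp hq
  obtain ⟨Q, hQ, hQq⟩ := Ideal.exists_minimalPrimes_le (I := (⊥ : Ideal A)) (J := q) bot_le
  have hQprime := hQ.isPrime
  have hQne : Q ≠ q := by
    rintro rfl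
    rw [(Ideal.height_eq_zero_iff).mpr hQ] at hq1
    exact absurd hq1 (by decide)
  have hfQ : f ∉ Q := fun hfQ => hqp.ne (hmin' q ⟨hqprime, hQq hfQ, hq1⟩ hqp.le)
  obtain ⟨p', hp', hp'p⟩ := Ideal.exists_minimalPrimes_le (I := Q ⊔ Ideal.span {f}) (J := p)
    (sup_le (hQq.trans hqp.le) ((Ideal.span_singleton_le_iff_mem p).mpr hfp))
  have hp'prime := hp'.isPrime
  have hQp' : Q < p' := lt_of_le_of_ne (le_sup_left.trans hp'.le) fun e =>
    hfQ (e ▸ hp'.le (Ideal.mem_sup_right (Ideal.mem_span_singleton_self f)))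
  obtain rfl : p' = p := hmin' p' ⟨hp'prime, hp'.le (Ideal.mem_sup_right (Ideal.mem_span_singleton_self f)),
    (zero_le.trans_lt (Ideal.height_strict_mono_of_isPrime_of_isPrime hQp')) |> Order.one_le_iff_pos.mpr⟩ hp'p
  have h1 := Ideal.map_height_le_one_of_mem_minimalPrimes hp'
  have hker : ∀ r : Ideal A, Q ≤ r → Ideal.comap (Ideal.Quotient.mk Q) (r.map (Ideal.Quotient.mk Q)) = r :=
    fun r hr => by
      rw [Ideal.comap_map_of_surjective _ Ideal.Quotient.mk_surjective, ← RingHom.ker_eq_comap_bot,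
        Ideal.mk_ker, sup_eq_left.mpr hr]
  have : (p'.map (Ideal.Quotient.mk Q)).IsPrime :=
    Ideal.map_isPrime_of_surjective Ideal.Quotient.mk_surjective (Ideal.mk_ker.trans_le hQp'.le)
  have : (q.map (Ideal.Quotient.mk Q)).IsPrime :=
    Ideal.map_isPrime_of_surjective Ideal.Quotient.mk_surjective (Ideal.mk_ker.trans_le hQq)
  have hlt' : q.map (Ideal.Quotient.mk Q) < p'.map (Ideal.Quotient.mk Q) :=
    (Ideal.map_mono hqp.le).lt_of_ne fun e => hqp.ne (by rw [← hker q hQq, e, hker p' hQp'.le])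
  have hbot : (⊥ : Ideal (A ⧸ Q)) < q.map (Ideal.Quotient.mk Q) :=
    bot_lt_iff_ne_bot.mpr fun e => hQne (by
      rw [← hker q hQq, e, ← RingHom.ker_eq_comap_bot, Ideal.mk_ker])
  have h2 := Ideal.height_strict_mono_of_isPrime_of_isPrime hbot
  have h3 := (Ideal.height_strict_mono_of_isPrime_of_isPrime hlt').trans_le h1
  exact absurd (h2.trans_le (Order.lt_one_iff.mp h3).le) not_lt_zero

end Groth.Agent.S0249
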