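import Groth.Statements.S0247
import Groth.Agent.S1185
import Groth.Agent.Lib.Purity.Punctured

set_option autoImplicit false
universe u
open Pi1

namespace Groth.Agent.S0247

open AlgebraicGeometry CategoryTheory CategoryTheory.Limits in
/-- For a regular local ring A of Krull dimension at least 2, every finite etale cover of the punctured
spectrum of A extends to a finite etale cover of Spec A. -/
theorem result (A : Type u) [CommRing A] [IsRegularLocalRing A] (h : (2 : WithBot ℕ∞) ≤ ringKrullDim A) :
    FEt.PurityHolds A := by
  have := Groth.Agent.Lib.Regular.Quotient.isDomain A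
  have := Groth.Agent.Lib.Regular.UFD.uniqueFactorizationMonoid A
  have := Groth.Agent.Lib.Regular.UFD.isIntegrallyClosed A
  refine ⟨fun V => ?_⟩
  have : IsFinite V.hom := V.prop.1
  have : Etale V.hom := V.prop.2
  obtain ⟨hfin, hiff⟩ := Groth.Agent.S1185.result A h V
  exact hiff.mpr (Groth.Agent.Lib.Purity.Punctured.etale_sections h V.hom hfin)

end Groth.Agent.S0247
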