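import Groth.Statements.S5810
import Groth.Agent.Lib.Regular.Completion
import Groth.Agent.Lib.Depth.Local
import Mathlib.RingTheory.AdicCompletion.AsTensorProduct
import Mathlib.RingTheory.Flat.FaithfullyFlat.Algebra


set_option autoImplicit false
universe u
open EGA41

namespace Groth.Agent.S5810

/-- Let A be a Noetherian local ring with maximal ideal m and M a finitely generated A-module; write Â
and M̂ for the m-adic completions. Then prof_A(M) = prof_Â(M̂). -/
theorem result (A : Type u) [CommRing A] [IsLocalRing A] [IsNoetherianRing A] (M : Type u)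
    [AddCommGroup M] [Module A M] [Module.Finite A M] :
    LocCoh.depth (AdicCompletion (IsLocalRing.maximalIdeal A) A) (AdicCompletion (IsLocalRing.maximalIdeal A) M) =
      LocCoh.depth A M := by
  classical
  set Â := AdicCompletion (IsLocalRing.maximalIdeal A) A
  have hI : IsLocalRing.maximalIdeal A ≠ ⊤ := (IsLocalRing.maximalIdeal.isMaximal A).ne_top
  have := Groth.Agent.Lib.Regular.Completion.isLocalHom (IsLocalRing.maximalIdeal A) hI
  haveI : Module.Flat A Â := inferInstance
  haveI : Module.FaithfullyFlat A Â := Module.FaithfullyFlat.of_flat_of_isLocalHom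
  have hmap := Groth.Agent.Lib.Regular.Completion.map_maximalIdeal (IsLocalRing.maximalIdeal A) hI
  unfold LocCoh.depth
  rw [← hmap, ← Groth.Agent.Lib.Depth.Basic.idealDepth_congr _
    (AdicCompletion.ofTensorProductEquivOfFiniteNoetherian (IsLocalRing.maximalIdeal A) M)]
  exact Groth.Agent.Lib.Depth.Local.idealDepth_baseChange_eq Â (IsLocalRing.maximalIdeal A) M


end Groth.Agent.S5810
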