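import Groth.Statements.S7181
import Groth.Agent.Lib.Ferrand.Pairs

set_option autoImplicit false
universe u
open FlatMor

namespace Groth.Agent.S7181

open AlgebraicGeometry CategoryTheory Limits in
set_option backward.isDefEq.respectTransparency false in
/-- In the pushout P = Y ⨿_Z X of a closed immersion i : Z → X and an integral morphism j : Z → Y over a
base S (each fibre of j contained in the preimage of an affine open of X), if X and Y are separated
(resp. quasi-separated) over S then so is P. -/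
theorem result {X Y Z P S : Scheme.{u}} (i : Z ⟶ X) (j : Z ⟶ Y) [IsClosedImmersion i] [IsIntegralHom j]
    (haff : ∀ y : Y, ∃ U : X.Opens, IsAffineOpen U ∧ j ⁻¹' {y} ⊆ (i ⁻¹ᵁ U : Set ↑Z))
    (a : X ⟶ P) (b : Y ⟶ P) (hP : IsPushout i j a b) (p : X ⟶ S) (q : Y ⟶ S) (r : P ⟶ S)
    (hp : a ≫ r = p) (hq : b ≫ r = q) :
    ((IsSeparated p ∧ IsSeparated q) → IsSeparated r) ∧ ((QuasiSeparated p ∧ QuasiSeparated q) → QuasiSeparated r) := by
  classical
  have hg := Groth.Agent.Lib.Ferrand.GluedBy.of_isPushout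
    (Groth.Agent.Lib.Ferrand.cover_of_integral i j haff) hP
  have := hg.isIntegralHom_left
  have := hg.isClosedImmersion_right
  let A : pullback p p ⟶ pullback r r :=
    pullback.map p p r r a a (𝟙 S) (by rw [hp, Category.comp_id]) (by rw [hp, Category.comp_id])
  let B : pullback q q ⟶ pullback r r :=
    pullback.map q q r r b b (𝟙 S) (by rw [hq, Category.comp_id]) (by rw [hq, Category.comp_id])
  have hA : IsIntegralHom A := MorphismProperty.pullbackMap (P := @IsIntegralHom)
    (‹IsIntegralHom a›) (‹IsIntegralHom a›) hp.symm hp.symm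
  have hB : IsClosedImmersion B := MorphismProperty.pullbackMap (P := @IsClosedImmersion)
    (‹IsClosedImmersion b›) (‹IsClosedImmersion b›) hq.symm hq.symm
  have eA : pullback.diagonal p ≫ A = a ≫ pullback.diagonal r := by
    ext <;> simp [A]
  have eB : pullback.diagonal q ≫ B = b ≫ pullback.diagonal r := by
    ext <;> simp [B]
  refine ⟨fun ⟨hsp, hsq⟩ => ⟨?_⟩, fun ⟨hsp, hsq⟩ => ⟨?_⟩⟩
  · refine IsClosedImmersion.of_isPreimmersion _ ?_
    have e : Set.range (pullback.diagonal r) =
        A '' Set.range (pullback.diagonal p) ∪ B '' Set.range (pullback.diagonal q) := by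
      ext z
      constructor
      · rintro ⟨w, rfl⟩
        rcases hg.surj w with ⟨x, rfl⟩ | ⟨y, rfl⟩
        · exact Or.inl ⟨_, ⟨x, rfl⟩, congr($eA x)⟩
        · exact Or.inr ⟨_, ⟨y, rfl⟩, congr($eB y)⟩
      · rintro (⟨_, ⟨x, rfl⟩, rfl⟩ | ⟨_, ⟨y, rfl⟩, rfl⟩)
        · exact ⟨a x, (congr($eA x)).symm⟩
        · exact ⟨b y, (congr($eB y)).symm⟩
    rw [e]
    exact (A.isClosedMap _ (pullback.diagonal p).isClosedEmbedding.isClosed_range).union
      (B.isClosedMap _ (pullback.diagonal q).isClosedEmbedding.isClosed_range)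
  · rw [quasiCompact_iff]
    intro O hO hOc
    have e : pullback.diagonal r ⁻¹' O =
        a '' ((pullback.diagonal p ≫ A) ⁻¹' O) ∪ b '' ((pullback.diagonal q ≫ B) ⁻¹' O) := by
      rw [eA, eB]
      ext w
      constructor
      · intro hw
        rcases hg.surj w with ⟨x, rfl⟩ | ⟨y, rfl⟩
        · exact Or.inl ⟨x, hw, rfl⟩
        · exact Or.inr ⟨y, hw, rfl⟩
      · rintro (⟨x, hx, rfl⟩ | ⟨y, hy, rfl⟩)
        · exact hx
        · exact hy
    rw [e]
    exact ((QuasiCompact.isCompact_preimage (f := pullback.diagonal p ≫ A) O hO hOc).image a.continuous).union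
      ((QuasiCompact.isCompact_preimage (f := pullback.diagonal q ≫ B) O hO hOc).image b.continuous)

end Groth.Agent.S7181
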