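import Groth.Statements.S1465
import Groth.Agent.Lib.Ferrand.Cartesian
import Groth.Agent.Lib.Ferrand.LQF
import Groth.Agent.S7181

set_option autoImplicit false
universe u
open FlatMor

namespace Groth.Agent.S1465

open AlgebraicGeometry CategoryTheory Limits in
/-- Let i : Z → X be a closed immersion and j : Z → Y an integral morphism such that each fibre of j
lies in the preimage of an affine open of X. Let i' : Z' → X', j' : Z' → Y' and f : X' → X, g : Y' →
Y, h : Z' → Z form cartesian squares over i and j, with f, g, h separated and locally quasi-finite.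
Then the pushouts W of (i, j) and W' of (i', j') exist in the category of schemes, the induced W' →
W is separated and locally quasi-finite, and the squares comparing Y' → W', X' → W' with Y → W, X →
W are cartesian. -/
theorem result {X Y Z X' Y' Z' : Scheme.{u}}
    (i : Z ⟶ X) [IsClosedImmersion i] (j : Z ⟶ Y) [IsIntegralHom j]
    (h3 : ∀ y : Y, ∃ U : X.Opens, IsAffineOpen U ∧ j ⁻¹' {y} ⊆ (i ⁻¹ᵁ U : Set ↑Z))
    (i' : Z' ⟶ X') (j' : Z' ⟶ Y') (f : X' ⟶ X) (g : Y' ⟶ Y) (h : Z' ⟶ Z)
    (hX : IsPullback h i' i f) (hY : IsPullback h j' j g)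
    [IsSeparated f] [LocallyQuasiFinite f] [LocallyOfFiniteType f] [IsSeparated g] [LocallyQuasiFinite g] [LocallyOfFiniteType g]
    [IsSeparated h] [LocallyQuasiFinite h] [LocallyOfFiniteType h] :
    ∃ (W W' : Scheme.{u}) (a : Y ⟶ W) (b : X ⟶ W) (a' : Y' ⟶ W') (b' : X' ⟶ W') (k : W' ⟶ W),
      IsPushout j i a b ∧ IsPushout j' i' a' b' ∧ a' ≫ k = g ≫ a ∧ b' ≫ k = f ≫ b ∧
      IsSeparated k ∧ LocallyQuasiFinite k ∧ LocallyOfFiniteType k ∧ IsPullback g a' a k ∧ IsPullback f b' b k := by
  have : IsClosedImmersion i' := MorphismProperty.of_isPullback hX inferInstance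
  have : IsIntegralHom j' := MorphismProperty.of_isPullback hY inferInstance
  obtain ⟨W, b, a, hg⟩ := Lib.Ferrand.exists_gluedBy (Lib.Ferrand.cover_of_integral i j h3)
  have h3' : ∀ y : Y', ∃ U : X'.Opens, IsAffineOpen U ∧ j' ⁻¹' {y} ⊆ (i' ⁻¹ᵁ U : Set Z') := by
    intro y
    obtain ⟨U, hU, hUy⟩ := h3 (g y)
    refine Lib.Ferrand.exists_affineOpen_fibre i' j' f U hU y fun z hz => ?_
    rw [← Scheme.Hom.comp_apply, ← hX.w, Scheme.Hom.comp_apply]
    refine hUy (show j (h z) = g y from ?_)
    rw [← Scheme.Hom.comp_apply, hY.w, Scheme.Hom.comp_apply, hz]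
  obtain ⟨W', b', a', hg'⟩ := Lib.Ferrand.exists_gluedBy (Lib.Ferrand.cover_of_integral i' j' h3')
  have hw : i' ≫ f ≫ b = j' ≫ g ≫ a := by
    rw [← reassoc_of% hX.w, hg.isPushout.w, reassoc_of% hY.w]
  let k := hg'.isPushout.desc (f ≫ b) (g ≫ a) hw
  have hb : b' ≫ k = f ≫ b := hg'.isPushout.inl_desc _ _ _
  have ha : a' ≫ k = g ≫ a := hg'.isPushout.inr_desc _ _ _
  obtain ⟨pb, pa, hft⟩ := hg.cartesian hg' hX hY hb ha
  have : LocallyOfFiniteType k := hft inferInstance inferInstance
  have := hg.isClosedImmersion_right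
  have := hg'.isClosedImmersion_right
  have := hg.isIntegralHom_left
  have := hg'.isIntegralHom_left
  have hlqf : LocallyQuasiFinite k := by
    rw [locallyQuasiFinite_iff_isDiscrete_preimage_singleton]
    intro w
    -- in both cases a surjection from a discrete fibre by a closed map
    have key : ∀ {A A' : Scheme.{u}} (φ : A' ⟶ A) [LocallyQuasiFinite φ] (π : A ⟶ W) (π' : A' ⟶ W')
        [IsIntegralHom π] [IsIntegralHom π'] (_ : IsPullback φ π' π k) (x : A) (_ : π x = w),
        _root_.IsDiscrete (k ⁻¹' {w}) := by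
      intro A A' φ _ π π' _ _ hpb x hx
      have hsurj : π' '' (φ ⁻¹' {x}) = k ⁻¹' {w} := by
        ext v
        constructor
        · rintro ⟨t, rfl : φ t = x, rfl⟩
          show k (π' t) = w
          rw [← Scheme.Hom.comp_apply, ← hpb.w, Scheme.Hom.comp_apply, hx]
        · intro (hv : k v = w)
          obtain ⟨t, ht₁, ht₂⟩ := Scheme.exists_preimage_of_isPullback hpb x v (hx.trans hv.symm)
          exact ⟨t, ht₁, ht₂⟩
      -- every subset is relatively closed
      refine isDiscrete_iff_discreteTopology.mpr (discreteTopology_iff_forall_isClosed.mpr fun S => ?_)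
      let T : Set A' := φ ⁻¹' {x} ∩ π' ⁻¹' (Subtype.val '' S)
      have hTd : _root_.IsDiscrete (φ ⁻¹' {x}) := φ.isDiscrete_preimage_singleton x
      have hcl : ∀ t ∈ closure T, π' t ∈ k ⁻¹' {w} → t ∈ T := by
        intro t ht htw
        have hφ : φ t = x := by
          have h₁ : φ t ∈ closure {x} := by
            have hsub : φ '' T ⊆ {x} := by rintro _ ⟨t', ht', rfl⟩; exact ht'.1
            exact closure_mono hsub (image_closure_subset_closure_image φ.continuous ⟨t, ht, rfl⟩)
          have h₂ : π (φ t) = π x := by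
            rw [hx, ← Scheme.Hom.comp_apply, hpb.w, Scheme.Hom.comp_apply]
            exact htw
          exact (Lib.Ferrand.eq_of_specializes_of_integral π (specializes_iff_mem_closure.mpr h₁) h₂.symm).symm
        obtain ⟨U, hU, hUeq⟩ := Lib.Ferrand.exists_open_inter hTd (show t ∈ φ ⁻¹' {x} from hφ)
        obtain ⟨t', ht'U, ht'T⟩ := mem_closure_iff.mp ht U hU (hUeq.ge rfl).1
        exact (show t' = t from hUeq.le ⟨ht'U, ht'T.1⟩) ▸ ht'T
      rw [isClosed_induced_iff]
      refine ⟨π' '' closure T, π'.isClosedMap _ isClosed_closure, ?_⟩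
      ext ⟨v, hv⟩
      constructor
      · rintro ⟨t, ht, rfl⟩
        obtain ⟨s, hs, hst⟩ := (hcl t ht hv).2
        exact (Subtype.ext hst : s = ⟨π' t, hv⟩) ▸ hs
      · intro hvS
        obtain ⟨t, ht, rfl⟩ := hsurj.ge hv
        exact ⟨t, subset_closure ⟨ht, ⟨_, hvS, rfl⟩⟩, rfl⟩
    rcases hg.surj w with ⟨x, hx⟩ | ⟨y, hy⟩
    · exact key f b b' pb x hx
    · exact key g a a' pa y hy
  refine ⟨W, W', a, b, a', b', k, hg.isPushout.flip, hg'.isPushout.flip, ha, hb, ?_, hlqf,
    inferInstance, pa, pb⟩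
  exact (S7181.result i' j' h3' b' a' hg'.isPushout (f ≫ b) (g ≫ a) k hb ha).1
    ⟨inferInstance, inferInstance⟩

end Groth.Agent.S1465
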