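import Groth.Statements.S9383
import Groth.Agent.Lib.Ferrand.Chart

set_option autoImplicit false
universe u
open QCohSub

namespace Groth.Agent.S9383

open AlgebraicGeometry CategoryTheory Groth.Agent.Lib.Ferrand

theorem topIso_inv_resLE {X Y : Scheme.{u}} (f : X ⟶ Y) (U : Y.Opens) (V : X.Opens)
    (e : V ≤ f ⁻¹ᵁ U) :
    U.topIso.inv ≫ (f.resLE U V e).appTop = f.appLE U V e ≫ V.topIso.inv := by
  rw [Scheme.Hom.appTop, Scheme.Hom.resLE_app_top, Iso.inv_hom_id_assoc]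

theorem affSq_of_appLE {X Y Z P : Scheme.{u}} {i : Z ⟶ X} {j : Z ⟶ Y} {a : X ⟶ P} {b : Y ⟶ P}
    (hw : i ≫ a = j ≫ b) (O : P.Opens) (U : X.Opens) (V : Y.Opens) (W : Z.Opens)
    (hO : IsAffineOpen O) (hU : IsAffineOpen U) (hV : IsAffineOpen V) (hW : IsAffineOpen W)
    (ea : U ≤ a ⁻¹ᵁ O) (eb : V ≤ b ⁻¹ᵁ O) (ei : W ≤ i ⁻¹ᵁ U) (ej : W ≤ j ⁻¹ᵁ V)
    (h : IsSq (b.appLE O V eb).hom (a.appLE O U ea).hom (j.appLE V W ej).hom (i.appLE U W ei).hom) :
    AffSq (i.resLE U W ei) (j.resLE V W ej) (a.resLE O U ea) (b.resLE O V eb) where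
  affZ := hW
  affX := hU
  affY := hV
  affP := hO
  w := by rw [← cancel_mono O.ι]; simp [hw]
  sq := by
    refine h.congr_iso O.topIso.symm.commRingCatIsoToRingEquiv
      V.topIso.symm.commRingCatIsoToRingEquiv U.topIso.symm.commRingCatIsoToRingEquiv
      W.topIso.symm.commRingCatIsoToRingEquiv _ _ _ _ ?_ ?_ ?_ ?_ <;> intro x
    exacts [congr($(topIso_inv_resLE b O V eb) x), congr($(topIso_inv_resLE a O U ea) x),
      congr($(topIso_inv_resLE j V W ej) x), congr($(topIso_inv_resLE i U W ei) x)]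

open AlgebraicGeometry CategoryTheory in
/-- For closed subschemes X, Y ⊆ S with ideal sheaves I, J, the scheme-theoretic union (ideal sheaf I ⊓
J) is the pushout, in the category of schemes, of X and Y along the scheme-theoretic intersection
(ideal sheaf I ⊔ J). The exact sequence 0 → O_{X∪Y} → O_X × O_Y → O_{X∩Y} → 0 is not stated. -/
theorem result (S : Scheme.{u}) (I J : S.IdealSheafData) :
    IsPushout (Scheme.IdealSheafData.inclusion (le_sup_left : I ≤ I ⊔ J))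
      (Scheme.IdealSheafData.inclusion (le_sup_right : J ≤ I ⊔ J))
      (Scheme.IdealSheafData.inclusion (inf_le_left : I ⊓ J ≤ I))
      (Scheme.IdealSheafData.inclusion (inf_le_right : I ⊓ J ≤ J)) := by
  set K := I ⊔ J with hK
  set L := I ⊓ J with hL
  let i := Scheme.IdealSheafData.inclusion (le_sup_left : I ≤ I ⊔ J)
  let j := Scheme.IdealSheafData.inclusion (le_sup_right : J ≤ I ⊔ J)
  let a := Scheme.IdealSheafData.inclusion (inf_le_left : I ⊓ J ≤ I)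
  let b := Scheme.IdealSheafData.inclusion (inf_le_right : I ⊓ J ≤ J)
  have hi : i ≫ I.subschemeι = (I ⊔ J).subschemeι := Scheme.IdealSheafData.inclusion_subschemeι _
  have hj : j ≫ J.subschemeι = (I ⊔ J).subschemeι := Scheme.IdealSheafData.inclusion_subschemeι _
  have ha : a ≫ (I ⊓ J).subschemeι = I.subschemeι := Scheme.IdealSheafData.inclusion_subschemeι _
  have hb : b ≫ (I ⊓ J).subschemeι = J.subschemeι := Scheme.IdealSheafData.inclusion_subschemeι _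
  have hw : i ≫ a = j ≫ b := by
    rw [← cancel_mono (I ⊓ J).subschemeι, Category.assoc, Category.assoc, ha, hb, hi, hj]
  have : IsClosedImmersion (i ≫ I.subschemeι) := by rw [hi]; infer_instance
  have : IsClosedImmersion i := IsClosedImmersion.of_comp i I.subschemeι
  have : IsClosedImmersion (j ≫ J.subschemeι) := by rw [hj]; infer_instance
  have : IsClosedImmersion j := IsClosedImmersion.of_comp j J.subschemeι
  refine isPushout_of_affine_cover (cover_of_isClosedImmersion i j) hw fun p => ?_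
  obtain ⟨U, hU, hpU, -⟩ := exists_isAffineOpen_mem_and_subset
    (x := (I ⊓ J).subschemeι p) (U := ⊤) trivial
  have hO := hU.preimage (I ⊓ J).subschemeι
  have hUI := hU.preimage I.subschemeι
  have hVJ := hU.preimage J.subschemeι
  have hWK := hU.preimage (I ⊔ J).subschemeι
  have eW : i ⁻¹ᵁ (I.subschemeι ⁻¹ᵁ U) = (I ⊔ J).subschemeι ⁻¹ᵁ U := by
    rw [← Scheme.Hom.comp_preimage, hi]
  have eW' : j ⁻¹ᵁ (J.subschemeι ⁻¹ᵁ U) = (I ⊔ J).subschemeι ⁻¹ᵁ U := by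
    rw [← Scheme.Hom.comp_preimage, hj]
  have eA : a ⁻¹ᵁ ((I ⊓ J).subschemeι ⁻¹ᵁ U) = I.subschemeι ⁻¹ᵁ U := by
    rw [← Scheme.Hom.comp_preimage, ha]
  have eB : b ⁻¹ᵁ ((I ⊓ J).subschemeι ⁻¹ᵁ U) = J.subschemeι ⁻¹ᵁ U := by
    rw [← Scheme.Hom.comp_preimage, hb]
  refine ⟨_, ⟨_, _, hUI, hVJ, eW.trans eW'.symm⟩, a.resLE _ _ eA.ge, b.resLE _ _ eB.ge,
    hpU, eA, eB, Scheme.Hom.resLE_comp_ι _ _, Scheme.Hom.resLE_comp_ι _ _, ?_⟩
  refine affSq_of_appLE hw _ _ _ _ hO hUI hVJ (eW.symm ▸ hWK) eA.ge eB.ge le_rfl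
    (eW.trans eW'.symm).le ?_
  have comp : ∀ {A B : Scheme.{u}} (f : A ⟶ B) (g : B ⟶ S) (h : A ⟶ S) (hfg : f ≫ g = h)
      (W : A.Opens) (e : W ≤ f ⁻¹ᵁ (g ⁻¹ᵁ U)) (e' : W ≤ h ⁻¹ᵁ U) x,
      (f.appLE (g ⁻¹ᵁ U) W e).hom ((g.app U).hom x) = (h.appLE U W e').hom x := by
    intro A B f g h hfg W e e' x
    subst hfg
    rw [Scheme.Hom.comp_appLE]
    rfl
  have le_app : ∀ {A : Scheme.{u}} (h : A ⟶ S) (e : h ⁻¹ᵁ U ≤ h ⁻¹ᵁ U) x,
      (h.appLE U (h ⁻¹ᵁ U) e).hom x = (h.app U).hom x := by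
    intro A h e x; rw [Scheme.Hom.appLE_eq_app]
  have sP := (I ⊓ J).subschemeι_app_surjective ⟨U, hU⟩
  have sI := I.subschemeι_app_surjective ⟨U, hU⟩
  have sJ := J.subschemeι_app_surjective ⟨U, hU⟩
  have kI := I.ker_subschemeι_app ⟨U, hU⟩
  have kJ := J.ker_subschemeι_app ⟨U, hU⟩
  have kP := (I ⊓ J).ker_subschemeι_app ⟨U, hU⟩
  have cI : ∀ x, (a.appLE _ _ eA.ge).hom (((I ⊓ J).subschemeι.app U).hom x) =
      (I.subschemeι.app U).hom x := fun x => by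
    rw [comp a _ _ ha _ eA.ge le_rfl, le_app]
  have cJ : ∀ x, (b.appLE _ _ eB.ge).hom (((I ⊓ J).subschemeι.app U).hom x) =
      (J.subschemeι.app U).hom x := fun x => by
    rw [comp b _ _ hb _ eB.ge le_rfl, le_app]
  -- the map to the intersection
  let κ := ((I ⊔ J).subschemeι.appLE U (i ⁻¹ᵁ (I.subschemeι ⁻¹ᵁ U)) eW.le).hom
  have cKI : ∀ x, (i.appLE _ _ le_rfl).hom ((I.subschemeι.app U).hom x) = κ x := fun x =>
    comp i _ _ hi _ le_rfl eW.le x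
  have cKJ : ∀ x, (j.appLE _ _ (eW.trans eW'.symm).le).hom ((J.subschemeι.app U).hom x) = κ x :=
    fun x => comp j _ _ hj _ _ eW.le x
  have hκ : Function.Surjective κ ∧ RingHom.ker κ = (I ⊔ J).ideal ⟨U, hU⟩ := by
    have gen : ∀ (W : (I ⊔ J).subscheme.Opens) (hW : W = (I ⊔ J).subschemeι ⁻¹ᵁ U),
        Function.Surjective ((I ⊔ J).subschemeι.appLE U W hW.le).hom ∧
          RingHom.ker ((I ⊔ J).subschemeι.appLE U W hW.le).hom = (I ⊔ J).ideal ⟨U, hU⟩ := by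
      rintro W rfl
      rw [Scheme.Hom.appLE_eq_app]
      exact ⟨(I ⊔ J).subschemeι_app_surjective ⟨U, hU⟩, (I ⊔ J).ker_subschemeι_app ⟨U, hU⟩⟩
    exact gen _ eW
  refine ⟨fun x => ?_, fun z => ?_, fun x y h₁ h₂ => ?_, fun y x hxy => ?_⟩
  · obtain ⟨x, rfl⟩ := sP x
    rw [cI, cJ]
    exact (cKJ x).trans (cKI x).symm
  · obtain ⟨x, rfl⟩ := hκ.1 z
    exact ⟨_, cKI x⟩
  · obtain ⟨x, rfl⟩ := sP x
    obtain ⟨y, rfl⟩ := sP y
    rw [cI, cI] at h₂
    rw [cJ, cJ] at h₁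
    rw [← sub_eq_zero, ← map_sub, ← RingHom.mem_ker, kP]
    rw [← sub_eq_zero, ← map_sub, ← RingHom.mem_ker, kI] at h₂
    rw [← sub_eq_zero, ← map_sub, ← RingHom.mem_ker, kJ] at h₁
    exact ⟨h₂, h₁⟩
  · obtain ⟨y, rfl⟩ := sJ y
    obtain ⟨x, rfl⟩ := sI x
    have hd : x - y ∈ (I ⊔ J).ideal ⟨U, hU⟩ := by
      rw [← hκ.2, RingHom.mem_ker, map_sub, sub_eq_zero]
      exact ((cKI x).symm.trans hxy.symm).trans (cKJ y)
    obtain ⟨u, hu, v, hv, huv⟩ := Submodule.mem_sup.mp hd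
    refine ⟨((I ⊓ J).subschemeι.app U).hom (x - u), ?_, ?_⟩
    · rw [cJ, show x - u = y + v by linear_combination -huv, map_add]
      rw [← kJ, RingHom.mem_ker] at hv
      rw [hv, add_zero]
    · rw [cI, map_sub]
      rw [← kI, RingHom.mem_ker] at hu
      rw [hu, sub_zero]

end Groth.Agent.S9383
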