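import Groth.Statements.S2085
import Groth.Agent.Lib.QDepth.Sk
import Groth.Agent.Lib.DMod.SupportDim
import Groth.Agent.Lib.Depth.Assoc
import Mathlib

set_option autoImplicit false
universe u
open CAlg

open Groth.Agent.Lib.QDepth Groth.Agent.Lib

namespace Groth.Agent.S2085

/-- Let `M` be a finite module over a Noetherian ring `R`. Then every associated prime of `M` is minimal
in the support of `M` (no embedded primes) if and only if `M` satisfies Serre's condition `(S_1)`. -/
theorem result {R M : Type u} [CommRing R] [IsNoetherianRing R] [AddCommGroup M] [Module R M]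
    [Module.Finite R M] :
    (∀ p ∈ associatedPrimes R M, p ∈ (Module.annihilator R M).minimalPrimes) ↔ LocCoh.HasSk 1 R M := by
  classical
  constructor
  · intro hmin
    refine hasSk_of_forall fun p _ j hj hd => ?_
    interval_cases j
    · simp
    by_contra hcon
    have hz : LocCoh.depth (Localization.AtPrime p) (LocalizedModule p.primeCompl M) = 0 := by
      rw [← Order.one_le_iff_ne_zero.not_left]
      exact_mod_cast hcon
    haveI : Nontrivial (LocalizedModule p.primeCompl M) := by
      by_contra hn
      rw [not_nontrivial_iff_subsingleton] at hn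
      rw [Module.supportDim_eq_bot_of_subsingleton] at hd
      simp at hd
    rw [Groth.Agent.Lib.Depth.Assoc.depth_eq_zero_iff] at hz
    have hfg : Ideal.FG (IsLocalRing.maximalIdeal (Localization.AtPrime p) |>.comap (algebraMap R (Localization.AtPrime p))) :=
      IsNoetherian.noetherian _
    have hass := Module.associatedPrimes.comap_mem_associatedPrimes_of_mem_associatedPrimes_of_isLocalizedModule_of_fg
      p.primeCompl (LocalizedModule.mkLinearMap p.primeCompl M) _ hz hfg
    have hcomap : (IsLocalRing.maximalIdeal (Localization.AtPrime p)).comap (algebraMap R (Localization.AtPrime p)) = p :=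
      Localization.AtPrime.under_maximalIdeal
    rw [hcomap] at hass
    have hpm := hmin p hass
    have hsub : ∀ q ∈ Module.support (Localization.AtPrime p) (LocalizedModule p.primeCompl M),
        q = IsLocalRing.closedPoint (Localization.AtPrime p) := by
      intro q hq
      have h1 := (DMod.SupportDim.comap_mem_support_iff ⟨p, inferInstance⟩ M q).1 hq
      rw [Module.mem_support_iff_of_finite] at h1
      have h2 : q.asIdeal.comap (algebraMap R (Localization.AtPrime p)) ≤ p :=
        (IsLocalization.AtPrime.orderIsoOfPrime (Localization.AtPrime p) p ⟨q.asIdeal, q.isPrime⟩).2.2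
      have h3 : p ≤ q.asIdeal.comap (algebraMap R (Localization.AtPrime p)) :=
        hpm.2 ⟨inferInstance, h1⟩ h2
      apply (PrimeSpectrum.localization_comap_injective (Localization.AtPrime p) p.primeCompl)
      exact PrimeSpectrum.ext ((le_antisymm h2 h3).trans hcomap.symm)
    have : Subsingleton (Module.support (Localization.AtPrime p) (LocalizedModule p.primeCompl M)) :=
      ⟨fun a b => Subtype.ext ((hsub a a.2).trans (hsub b b.2).symm)⟩
    have h4 : Module.supportDim (Localization.AtPrime p) (LocalizedModule p.primeCompl M) ≤ 0 :=
      Order.krullDim_nonpos_of_subsingleton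
    exact absurd (hd.trans h4) (by simp)
  · intro hS p hp
    have hann : Module.annihilator R M ≤ p := Submodule.annihilator_top (R := R) (M := M) ▸ hp.annihilator_le
    haveI hpp : p.IsPrime := hp.isPrime
    by_contra hnot
    obtain ⟨q, hq, hqle⟩ := Ideal.exists_minimalPrimes_le hann
    have hne : q ≠ p := fun h => hnot (h ▸ hq)
    haveI hqp : q.IsPrime := hq.1.1
    have hass := Module.associatedPrimes.mem_associatedPrimes_atPrime_of_mem_associatedPrimes hp
    have hdisj : Disjoint (p.primeCompl : Set R) (q : Set R) :=
      Set.disjoint_left.2 fun x hx hxq => hx (hqle hxq)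
    let qq : PrimeSpectrum (Localization.AtPrime p) :=
      ⟨q.map (algebraMap R (Localization.AtPrime p)), IsLocalization.isPrime_of_isPrime_disjoint p.primeCompl _ q hqp hdisj⟩
    have hqq : PrimeSpectrum.comap (algebraMap R (Localization.AtPrime p)) qq = ⟨q, hqp⟩ :=
      PrimeSpectrum.ext (IsLocalization.under_map_of_isPrime_disjoint p.primeCompl _ hqp hdisj)
    have hm : PrimeSpectrum.comap (algebraMap R (Localization.AtPrime p)) (IsLocalRing.closedPoint (Localization.AtPrime p)) = ⟨p, hpp⟩ :=
      PrimeSpectrum.ext Localization.AtPrime.under_maximalIdeal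
    have hq1 : qq ∈ Module.support (Localization.AtPrime p) (LocalizedModule p.primeCompl M) := by
      refine (DMod.SupportDim.comap_mem_support_iff ⟨p, inferInstance⟩ M qq).2 ?_
      rw [hqq, Module.mem_support_iff_of_finite]; exact hq.1.2
    have hm1 : IsLocalRing.closedPoint (Localization.AtPrime p) ∈
        Module.support (Localization.AtPrime p) (LocalizedModule p.primeCompl M) := by
      refine (DMod.SupportDim.comap_mem_support_iff ⟨p, inferInstance⟩ M _).2 ?_
      rw [hm, Module.mem_support_iff_of_finite]; exact hann
    have hlt : qq < IsLocalRing.closedPoint (Localization.AtPrime p) := by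
      refine lt_of_le_of_ne (IsLocalRing.le_maximalIdeal qq.isPrime.ne_top) fun h => hne ?_
      have := congrArg (PrimeSpectrum.comap (algebraMap R (Localization.AtPrime p))) h
      rw [hqq, hm] at this
      exact congrArg PrimeSpectrum.asIdeal this
    haveI : Nontrivial (LocalizedModule p.primeCompl M) :=
      Module.nonempty_support_iff.1 ⟨qq, hq1⟩
    have hdim : ((1 : ℕ∞) : WithBot ℕ∞) ≤ Module.supportDim (Localization.AtPrime p) (LocalizedModule p.primeCompl M) := by
      let l : LTSeries (Module.support (Localization.AtPrime p) (LocalizedModule p.primeCompl M)) :=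
        ⟨1, ![⟨qq, hq1⟩, ⟨_, hm1⟩], fun i => by fin_cases i; exact hlt⟩
      exact le_trans (by simp [l]) (le_iSup (fun p : LTSeries _ => ((p.length : ℕ∞) : WithBot ℕ∞)) l)
    have h1 := le_depth_of_hasSk hS p (j := 1) le_rfl (by simpa using hdim)
    rw [(Groth.Agent.Lib.Depth.Assoc.depth_eq_zero_iff _).2 hass] at h1
    simp at h1

end Groth.Agent.S2085
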