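import Groth.Statements.S12073
import Groth.Agent.Lib.Lim.FPDescend
import Groth.Agent.Lib.Lim.SmoothEtale
import Groth.Agent.Lib.Lim.Props
import Groth.Agent.Lib.FEt.Basic

set_option autoImplicit false
universe u
open CategoryTheory CategoryTheory.Limits AlgebraicGeometry
open Pi1

namespace Groth.Agent.S12073

/-- Let X = lim X_i be the limit of a cofiltered system of quasi-compact quasi-separated schemes with
affine transition morphisms, given by a limit cone. Then: (1) every finite étale cover of X is
isomorphic, over X, to the base change of a finite étale cover of some X_i; (2) if two morphisms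
between finite étale covers of some X_i have the same base change to X, then they have the same base
change to some X_j with j → i. (Fullness — every morphism over X between base changes comes from
some stage — is part of the published statement and is not stated here; nor is the consequence on
fundamental groups.) -/
theorem result {I : Type u} [SmallCategory I] [IsCofiltered I]
    (D : I ⥤ Scheme.{u}) (c : Limits.Cone D) (hc : Limits.IsLimit c)
    [∀ (i j : I) (f : i ⟶ j), IsAffineHom (D.map f)] [∀ i, CompactSpace (D.obj i)]
    [∀ i, QuasiSeparatedSpace (D.obj i)] :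
    (∀ V : FEt.Cat c.pt, ∃ (i : I) (Vi : FEt.Cat (D.obj i)), Nonempty ((FEt.restrict (c.π.app i)).obj Vi ≅ V)) ∧
    (∀ (i : I) (Vi Wi : FEt.Cat (D.obj i)) (φ ψ : Vi ⟶ Wi),
      (FEt.restrict (c.π.app i)).map φ = (FEt.restrict (c.π.app i)).map ψ →
      ∃ (j : I) (a : j ⟶ i), (FEt.restrict (D.map a)).map φ = (FEt.restrict (D.map a)).map ψ) := by
  have : ∀ {i j : I} (f : i ⟶ j), IsAffineHom (D.map f) := fun f => inferInstance
  refine ⟨fun V => ?_, fun i Vi Wi φ ψ h => ?_⟩
  · obtain ⟨i₀⟩ := IsCofiltered.nonempty (C := I)
    have := Groth.Agent.Lib.Lim.Basic.compactSpace_pt hc i₀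
    have := Groth.Agent.Lib.Lim.Basic.quasiSeparatedSpace_pt hc i₀
    let f : V.left ⟶ c.pt := V.hom
    have : IsFinite f := V.prop.1
    have : Etale f := V.prop.2
    have : CompactSpace V.left := QuasiCompact.compactSpace_of_compactSpace f
    have : QuasiSeparatedSpace V.left := quasiSeparatedSpace_of_quasiSeparated f
    obtain ⟨i, Xi, fi, g, _, _, _, hg⟩ := Groth.Agent.Lib.Lim.FPDescend.exists_descent hc f
    obtain ⟨j, φ, hj⟩ := Groth.Agent.Lib.Lim.SmoothEtale.etale_descends D c hc (fun _ _ f => inferInstance)
      i inferInstance inferInstance fi inferInstance inferInstance inferInstance f g hg inferInstance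
    let fj := pullback.snd fi (D.map φ)
    have hgj : IsPullback (pullback.lift g (f ≫ c.π.app j) (by rw [hg.w, Category.assoc, c.w])) f fj
        (c.π.app j) := by
      refine IsPullback.of_right ?_ (pullback.lift_snd _ _ _) (IsPullback.of_hasPullback fi (D.map φ))
      convert hg using 1
      · exact pullback.lift_fst _ _ _
      · exact c.w φ
    have : LocallyOfFiniteType fj := inferInstance
    obtain ⟨k, ψ, hk⟩ := Groth.Agent.Lib.Lim.Props.isFinite_descends D c hc (fun _ _ f => inferInstance)
      j inferInstance inferInstance fj (QuasiCompact.compactSpace_of_compactSpace (pullback.fst fi (D.map φ)))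
      (quasiSeparatedSpace_of_quasiSeparated (pullback.fst fi (D.map φ))) inferInstance f _ hgj inferInstance
    let fk := pullback.snd fj (D.map ψ)
    have hgk : IsPullback (pullback.lift (pullback.lift g (f ≫ c.π.app j) (by rw [hg.w, Category.assoc, c.w]))
        (f ≫ c.π.app k) (by rw [hgj.w, Category.assoc, c.w])) f fk (c.π.app k) := by
      refine IsPullback.of_right ?_ (pullback.lift_snd _ _ _) (IsPullback.of_hasPullback fj (D.map ψ))
      convert hgj using 1
      · exact pullback.lift_fst _ _ _
      · exact c.w ψ
    have hp : FEt.prop.{u} fk := ⟨hk, inferInstanceAs (Etale (pullback.snd fj (D.map ψ)))⟩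
    refine ⟨k, MorphismProperty.Over.mk ⊤ fk hp, ⟨MorphismProperty.Over.isoMk hgk.isoPullback.symm ?_⟩⟩
    exact (hgk.isoPullback_inv_snd : _)
  · have : IsFinite Vi.hom := Vi.prop.1
    have : IsFinite Wi.hom := Wi.prop.1
    let a : Vi.left ⟶ D.obj i := Vi.hom
    let b : Wi.left ⟶ D.obj i := Wi.hom
    have : CompactSpace Vi.left :=
      haveI : IsFinite a := Vi.prop.1
      QuasiCompact.compactSpace_of_compactSpace a
    have : LocallyOfFiniteType b :=
      haveI : IsFinite b := Wi.prop.1
      inferInstance
    obtain ⟨j, α, hα⟩ := Groth.Agent.Lib.Lim.Basic.exists_bc_comp_eq (D := D) hc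
      (IsPullback.of_hasPullback a (c.π.app i)) b φ.left ψ.left
      ((Over.w φ.hom).trans (Over.w ψ.hom).symm)
      (Groth.Agent.Lib.FEt.Basic.fst_comp_eq_of_restrict_map_eq (c.π.app i) h)
    refine ⟨j, α, MorphismProperty.Over.Hom.ext (pullback.hom_ext ?_ ?_)⟩
    · exact (Groth.Agent.Lib.FEt.Basic.restrict_map_fst (D.map α) φ).trans
        (hα.trans (Groth.Agent.Lib.FEt.Basic.restrict_map_fst (D.map α) ψ).symm)
    · exact (Over.w ((FEt.restrict (D.map α)).map φ).hom).trans
        (Over.w ((FEt.restrict (D.map α)).map ψ).hom).symm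

end Groth.Agent.S12073
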