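import Groth.Statements.S6388
import Groth.Agent.Lib.Pure.UI

set_option autoImplicit false
universe u
open CAlg
open Groth.Agent.Lib.Pure

namespace Groth.Agent.S6388

/-- Let f : M → N and g : M → M' be maps of R-modules and let N' be their pushout, realised as the
quotient of M' × N by the submodule of elements (g x, -f x). Then g dominates f — for every module Q
the kernel of f ⊗ id_Q is contained in the kernel of g ⊗ id_Q — if and only if the canonical map M'
→ N' is universally injective. -/
theorem result (R : Type u) [CommRing R] {M N M' : Type u}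
    [AddCommGroup M] [Module R M] [AddCommGroup N] [Module R N] [AddCommGroup M'] [Module R M']
    (f : M →ₗ[R] N) (g : M →ₗ[R] M') :
    (∀ (Q : Type u) [AddCommGroup Q] [Module R Q], LinearMap.ker (f.rTensor Q) ≤ LinearMap.ker (g.rTensor Q)) ↔
      CAlgX.UniversallyInjective R
        ((LinearMap.range (g.prod (-f))).mkQ ∘ₗ LinearMap.inl R M' N) := by
  classical
  let K := LinearMap.range (g.prod (-f))
  let q : M' × N →ₗ[R] (M' × N) ⧸ K := K.mkQ
  have hq : Function.Exact (g.prod (-f)) q := LinearMap.exact_map_mkQ_range _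
  have key : ∀ (Q : Type u) [AddCommGroup Q] [Module R Q] (x : TensorProduct R M Q),
      (LinearMap.fst R M' N).rTensor Q ((g.prod (-f)).rTensor Q x) = g.rTensor Q x ∧
      (LinearMap.snd R M' N).rTensor Q ((g.prod (-f)).rTensor Q x) = - f.rTensor Q x := by
    intro Q _ _ x
    rw [← LinearMap.rTensor_comp_apply, ← LinearMap.rTensor_comp_apply, LinearMap.fst_prod,
      LinearMap.snd_prod, LinearMap.rTensor_neg, LinearMap.neg_apply]
    exact ⟨rfl, rfl⟩
  constructor
  · intro h Q _ _
    rw [injective_iff_map_eq_zero]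
    intro z hz
    rw [LinearMap.rTensor_comp_apply] at hz
    obtain ⟨x, hx⟩ := (rTensor_exact Q hq K.mkQ_surjective _).1 hz
    have h1 := (key Q x).1
    have h2 := (key Q x).2
    rw [hx, ← LinearMap.rTensor_comp_apply, LinearMap.fst_comp_inl, LinearMap.rTensor_id,
      LinearMap.id_apply] at h1
    rw [hx, ← LinearMap.rTensor_comp_apply, LinearMap.snd_comp_inl, LinearMap.rTensor_zero,
      LinearMap.zero_apply, eq_comm, neg_eq_zero] at h2
    rw [h1]
    exact h Q h2
  · intro h Q _ _ x hx
    refine (injective_iff_map_eq_zero _).1 (h Q) _ ?_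
    have e : q ∘ₗ LinearMap.inl R M' N ∘ₗ g = q ∘ₗ LinearMap.inr R M' N ∘ₗ f := by
      ext m
      refine (Submodule.Quotient.eq K).2 ⟨m, ?_⟩
      simp
    rw [← LinearMap.rTensor_comp_apply, LinearMap.comp_assoc, e, LinearMap.rTensor_comp_apply,
      LinearMap.rTensor_comp_apply, LinearMap.mem_ker.1 hx, map_zero, map_zero]

end Groth.Agent.S6388
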