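import Groth.Statements.S6359
import Groth.Agent.Lib.Pure.UI
import Groth.Agent.S6388

set_option autoImplicit false
universe u
open CAlg
open Groth.Agent.Lib.Pure

namespace Groth.Agent.S6359

/-- Let f : M → N and g : M → M' be maps of R-modules such that the cokernel of f is finitely presented.
Then g dominates f (for every module Q the kernel of f ⊗ id_Q is contained in the kernel of g ⊗
id_Q) if and only if g factors through f. -/
theorem result (R : Type u) [CommRing R] {M N M' : Type u}
    [AddCommGroup M] [Module R M] [AddCommGroup N] [Module R N] [AddCommGroup M'] [Module R M']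
    (f : M →ₗ[R] N) (g : M →ₗ[R] M') [Module.FinitePresentation R (N ⧸ LinearMap.range f)] :
    (∀ (Q : Type u) [AddCommGroup Q] [Module R Q], LinearMap.ker (f.rTensor Q) ≤ LinearMap.ker (g.rTensor Q)) ↔
      ∃ h : N →ₗ[R] M', g = h ∘ₗ f := by
  classical
  constructor
  · intro h
    let K := LinearMap.range (g.prod (-f))
    let j : M' →ₗ[R] (M' × N) ⧸ K := K.mkQ ∘ₗ LinearMap.inl R M' N
    let π : (M' × N) ⧸ K →ₗ[R] N ⧸ LinearMap.range f :=
      K.liftQ ((LinearMap.range f).mkQ ∘ₗ LinearMap.snd R M' N) (by
        rintro _ ⟨m, rfl⟩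
        simp)
    have hπ : Function.Surjective π := fun y => by
      obtain ⟨y, rfl⟩ := (LinearMap.range f).mkQ_surjective y
      exact ⟨K.mkQ (0, y), by simp [π]⟩
    have hex : Function.Exact j π := by
      intro z
      obtain ⟨⟨a, b⟩, rfl⟩ := K.mkQ_surjective z
      constructor
      · intro hz
        have hb : b ∈ LinearMap.range f := by simpa [π, Submodule.Quotient.mk_eq_zero] using hz
        obtain ⟨m, rfl⟩ := hb
        exact ⟨a + g m, (Submodule.Quotient.eq K).2 ⟨m, by simp⟩⟩
      · rintro ⟨a', ha'⟩
        rw [← ha']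
        simp [π, j]
    have hj : CAlgX.UniversallyInjective R j := (Groth.Agent.S6388.result R f g).1 h
    obtain ⟨s, hs⟩ := UI.exists_section j π hex hπ hj
    have hret : ∀ z, ∃! a, j a = z - s (π z) := fun z => by
      obtain ⟨a, ha⟩ := (hex (z - s (π z))).1
        (by rw [map_sub, show π (s (π z)) = π z from LinearMap.congr_fun hs (π z), sub_self])
      exact ⟨a, ha, fun b hb => UI.injective hj (hb.trans ha.symm)⟩
    choose r hr hru using fun z => (hret z)
    let rl : (M' × N) ⧸ K →ₗ[R] M' :=
      { toFun := r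
        map_add' := fun a b => UI.injective hj (by
          rw [map_add, hr, hr, hr, map_add, map_add]; abel)
        map_smul' := fun c a => UI.injective hj (by
          rw [RingHom.id_apply, map_smul, hr, hr, map_smul, map_smul, smul_sub]) }
    refine ⟨rl ∘ₗ K.mkQ ∘ₗ LinearMap.inr R M' N, LinearMap.ext fun m => UI.injective hj ?_⟩
    change j (g m) = j (r (K.mkQ (0, f m)))
    rw [hr]
    have h0 : π (K.mkQ (0, f m)) = 0 := by simp [π]
    rw [h0, map_zero, sub_zero]
    exact (Submodule.Quotient.eq K).2 ⟨m, by simp⟩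
  · rintro ⟨h, rfl⟩ Q _ _
    rw [LinearMap.rTensor_comp]
    exact LinearMap.ker_le_ker_comp _ _

end Groth.Agent.S6359
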