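import Groth.Statements.S3819
import Groth.Agent.Lib.SymGr.Core
import Groth.Prelude.Def_PP16
import Mathlib.RingTheory.Nilpotent.Exp
import Mathlib.RingTheory.Kaehler.Basic
import Mathlib.LinearAlgebra.TensorProduct.Tower
import Mathlib.LinearAlgebra.Multilinear.Basic

set_option autoImplicit false
set_option backward.isDefEq.respectTransparency false
universe u
open scoped TensorProduct
open PP16

namespace Groth.Agent.S3819

open scoped TensorProduct
open Groth.Agent.Lib.SymGr.Core

section
variable (A B : Type u) [CommRing A] [CommRing B] [Algebra A B]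

local notation "CC" => B ⊗[A] B
local notation "II" => KaehlerDifferential.ideal A B
local notation "Ω'" => KaehlerDifferential A B

theorem sub_mem_ideal (c : CC) :
    c - algebraMap B CC (Algebra.TensorProduct.lmul' A c) ∈ II := by
  rw [RingHom.mem_ker]
  simp [Algebra.TensorProduct.algebraMap_apply]

/-- `I ^ n` is spanned over `B` by the products of the `1 ⊗ b - b ⊗ 1`, modulo `I ^ (n + 1)`. -/
theorem exists_span_zeta (ι : Type u) [Fintype ι] :
    (⊤ : Submodule B (_root_.PP16.grI A B (Fintype.card ι))) ≤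
      Submodule.span B (Set.range (fun b : ι → B => _root_.PP16.zetaProd A B b)) := by
  classical
  rintro y -
  obtain ⟨⟨y, hy⟩, rfl⟩ := Submodule.Quotient.mk_surjective _ y
  have hgen : II ^ Fintype.card ι ≤
      Ideal.span (Set.range fun b : ι → B => ∏ i, ((1 : B) ⊗ₜ[A] b i - b i ⊗ₜ[A] (1 : B))) := by
    conv_lhs => rw [← KaehlerDifferential.span_range_eq_ideal]
    rw [Ideal.span, Submodule.span_pow]
    refine Submodule.span_mono fun a ha => ?_
    obtain ⟨f, rfl⟩ := Set.mem_pow.1 ha
    choose b hb using fun i => (f i).2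
    refine ⟨fun i => b (Fintype.equivFin ι i), ?_⟩
    simp only [hb]
    rw [List.prod_ofFn]
    exact Equiv.prod_comp (Fintype.equivFin ι) fun i => (f i : CC)
  have hy' := hgen (show y ∈ II ^ Fintype.card ι from hy)
  suffices ∀ z, ∀ hz' : z ∈ Ideal.span (Set.range fun b : ι → B =>
      ∏ i, ((1 : B) ⊗ₜ[A] b i - b i ⊗ₜ[A] (1 : B))),
      ∀ hz : z ∈ (II ^ Fintype.card ι).restrictScalars B,
      (Submodule.Quotient.mk ⟨z, hz⟩ : _root_.PP16.grI A B (Fintype.card ι)) ∈
        Submodule.span B (Set.range (fun b : ι → B => _root_.PP16.zetaProd A B b)) from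
    this y hy' hy
  intro z hz'
  induction hz' using Submodule.span_induction with
  | mem x hx => obtain ⟨b, rfl⟩ := hx; intro hz; exact Submodule.subset_span ⟨b, rfl⟩
  | zero =>
    intro hz
    rw [show (⟨0, hz⟩ : ↥((II ^ Fintype.card ι).restrictScalars B)) = 0 from rfl]
    exact zero_mem _
  | add x x' hx hx' ihx ihx' =>
    intro hz
    have h1 : x ∈ (II ^ Fintype.card ι).restrictScalars B := Ideal.span_le.mpr (by
      rintro _ ⟨b, rfl⟩
      rw [← Finset.card_univ, ← Finset.prod_const]
      exact Ideal.prod_mem_prod fun i _ =>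
        KaehlerDifferential.one_smul_sub_smul_one_mem_ideal A (b i)) hx
    have h2 : x' ∈ (II ^ Fintype.card ι).restrictScalars B := by
      simpa using sub_mem hz h1
    exact add_mem (ihx h1) (ihx' h2)
  | smul c x hx ih =>
    intro hz
    have h1 : x ∈ (II ^ Fintype.card ι).restrictScalars B := Ideal.span_le.mpr (by
      rintro _ ⟨b, rfl⟩
      rw [← Finset.card_univ, ← Finset.prod_const]
      exact Ideal.prod_mem_prod fun i _ =>
        KaehlerDifferential.one_smul_sub_smul_one_mem_ideal A (b i)) hx
    have h2 : (Submodule.Quotient.mk ⟨c • x, hz⟩ : _root_.PP16.grI A B (Fintype.card ι)) =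
        (Algebra.TensorProduct.lmul' A c : B) • Submodule.Quotient.mk ⟨x, h1⟩ := by
      rw [← Submodule.Quotient.mk_smul, Submodule.Quotient.eq, Submodule.mem_comap,
        Submodule.coe_subtype, Submodule.restrictScalars_mem, AddSubgroupClass.coe_sub,
        Submodule.coe_smul]
      show c • x - (Algebra.TensorProduct.lmul' A c : B) • x ∈ _
      rw [← algebraMap_smul CC (Algebra.TensorProduct.lmul' A c : B) x, ← sub_smul, smul_eq_mul,
        pow_succ']
      exact Ideal.mul_mem_mul (sub_mem_ideal A B c) h1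
    rw [h2]
    exact Submodule.smul_mem _ _ (ih h1)

/-- The multilinear product map to the graded piece. -/
theorem exists_phi (ι : Type u) [Fintype ι] :
    ∃ φ : SymmetricPower B ι Ω' →ₗ[B] _root_.PP16.grI A B (Fintype.card ι),
      ∀ b : ι → B, φ (SymmetricPower.tprod B (fun i => KaehlerDifferential.D A B (b i))) =
        _root_.PP16.zetaProd A B b := by
  classical
  let F : (ι → II) → _root_.PP16.grI A B (Fintype.card ι) := fun x =>
    Submodule.Quotient.mk ⟨∏ i, (x i : CC), by
      rw [Submodule.restrictScalars_mem, ← Finset.card_univ, ← Finset.prod_const]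
      exact Ideal.prod_mem_prod fun i _ => (x i).2⟩
  have hF : ∀ x y : ι → II, (∀ i, (II).toCotangent (x i) = (II).toCotangent (y i)) → F x = F y := by
    intro x y h
    refine (Submodule.Quotient.eq _).mpr ?_
    rw [Submodule.mem_comap, Submodule.coe_subtype, Submodule.restrictScalars_mem,
      AddSubgroupClass.coe_sub]
    have := prod_sub_prod_mem II Finset.univ (fun i => (x i : CC)) (fun i => (y i : CC))
      (fun i _ => (x i).2) (fun i _ => (y i).2) (fun i _ => ((II).toCotangent_eq).mp (h i))
    rwa [Finset.card_univ] at this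
  choose r hr using fun ω : Ω' => (II).toCotangent_surjective ω
  let f : MultilinearMap B (fun _ : ι => Ω') (_root_.PP16.grI A B (Fintype.card ι)) :=
    MultilinearMap.mk' (fun v => F fun i => r (v i))
      (fun v i x y => by
        show F (fun j => r (Function.update v i (x + y) j)) =
          F (fun j => r (Function.update v i x j)) + F (fun j => r (Function.update v i y j))
        rw [hF (fun j => r (Function.update v i (x + y) j))
          (Function.update (fun j => r (v j)) i (r x + r y)) fun j => by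
            by_cases hj : j = i
            · subst hj
              simp only [Function.update_self, map_add, hr]
            · simp [Function.update_of_ne hj]]
        simp only [F]
        rw [← Submodule.Quotient.mk_add]
        congr 1
        refine Subtype.ext ?_
        show _ = _ + _
        simp only [Function.apply_update (fun _ => r) v, Function.apply_update (fun _ (z : II) => (z : CC)),
          Finset.prod_update_of_mem (Finset.mem_univ i), Submodule.coe_add, add_mul])
      (fun v i c x => by
        show F (fun j => r (Function.update v i (c • x) j)) =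
          c • F (fun j => r (Function.update v i x j))
        rw [hF (fun j => r (Function.update v i (c • x) j))
          (Function.update (fun j => r (v j)) i (algebraMap B CC c • r x)) fun j => by
            by_cases hj : j = i
            · subst hj
              simp only [Function.update_self, map_smul, hr]
              exact (algebraMap_smul CC c x).symm
            · simp [Function.update_of_ne hj]]
        simp only [F]
        rw [← Submodule.Quotient.mk_smul]
        congr 1
        refine Subtype.ext ?_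
        show _ = c • _
        simp only [Function.apply_update (fun _ => r) v, Function.apply_update (fun _ (z : II) => (z : CC)),
          Finset.prod_update_of_mem (Finset.mem_univ i), Submodule.coe_smul, smul_eq_mul,
          Algebra.smul_def, mul_assoc])
  refine ⟨symLift f fun e v => ?_, fun b => ?_⟩
  · show F (fun i => r (v (e i))) = F fun i => r (v i)
    simp only [F]
    congr 1
    exact Subtype.ext (Equiv.prod_comp e fun i => (r (v i) : CC))
  · rw [symLift_tprod]
    exact hF _ (fun i => ⟨(1 : B) ⊗ₜ[A] b i - b i ⊗ₜ[A] (1 : B),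
      KaehlerDifferential.one_smul_sub_smul_one_mem_ideal A (b i)⟩) fun i => hr _

/-- The exponential of a coordinate derivation. -/
theorem exists_exp (T : Type u) [CommRing T] [Algebra A T] [Algebra B T] [IsScalarTower A B T]
    [Algebra ℚ T] [SMulCommClass A ℚ T] [Module.Free B Ω'] (J : Ideal T) (n : ℕ)
    (hJ : J ^ (n + 1) = ⊥) (l : Ω' →ₗ[B] T) (hl : ∀ ω, l ω ∈ J) :
    ∃ Φ : CC →+* T, (∀ c : B, Φ (algebraMap B CC c) = algebraMap B T c) ∧
      ∀ b : B, Φ ((1 : B) ⊗ₜ[A] b - b ⊗ₜ[A] (1 : B)) - l (KaehlerDifferential.D A B b) ∈ J ^ 2 := by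
  classical
  let β := Module.Free.chooseBasis B Ω'
  let ℓ : Ω' →ₗ[A] T ⊗[A] B :=
    (Finsupp.lsum A fun k => TensorProduct.mk A T B (l (β k))) ∘ₗ
      β.repr.toLinearMap.restrictScalars A
  have hℓdef : ∀ ω, ℓ ω = (β.repr ω).sum fun k c => l (β k) ⊗ₜ[A] c := fun ω => rfl
  have hℓ : ∀ (c : B) (ω : Ω'), ℓ (c • ω) = ((1 : T) ⊗ₜ[A] c) * ℓ ω := by
    intro c ω
    rw [hℓdef, hℓdef, map_smul, Finsupp.sum_smul_index (by simp), Finsupp.sum, Finsupp.sum,
      Finset.mul_sum]
    refine Finset.sum_congr rfl fun k _ => ?_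
    rw [Algebra.TensorProduct.tmul_mul_tmul, one_mul]
  let Dh : T ⊗[A] B →ₗ[T] T ⊗[A] B :=
    (ℓ ∘ₗ (KaehlerDifferential.D A B).toLinearMap).liftBaseChange T
  have hDh : ∀ t b, Dh (t ⊗ₜ b) = (t ⊗ₜ[A] (1 : B)) * ℓ (KaehlerDifferential.D A B b) := fun t b => by
    rw [LinearMap.liftBaseChange_tmul, Algebra.smul_def, Algebra.TensorProduct.algebraMap_apply]
    simp
  have hder : ∀ x y, Dh (x * y) = x * Dh y + Dh x * y := by
    intro x y
    induction x using TensorProduct.induction_on with
    | zero => simp
    | add x x' hx hx' => rw [add_mul, map_add, map_add, hx, hx']; ring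
    | tmul t b =>
      induction y using TensorProduct.induction_on with
      | zero => simp
      | add y y' hy hy' => rw [mul_add, map_add, map_add, hy, hy']; ring
      | tmul t' b' =>
        rw [Algebra.TensorProduct.tmul_mul_tmul, hDh, hDh, hDh, Derivation.leibniz, map_add,
          hℓ, hℓ]
        rw [show t ⊗ₜ[A] b = (t ⊗ₜ[A] (1 : B)) * ((1 : T) ⊗ₜ[A] b) by simp,
          show t' ⊗ₜ[A] b' = (t' ⊗ₜ[A] (1 : B)) * ((1 : T) ⊗ₜ[A] b') by simp,
          show (t * t') ⊗ₜ[A] (1 : B) = (t ⊗ₜ[A] (1 : B)) * (t' ⊗ₜ[A] (1 : B)) by simp]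
        ring
  have hℓmem : ∀ ω, ℓ ω ∈ J • (⊤ : Submodule T (T ⊗[A] B)) := fun ω => by
    rw [hℓdef]
    refine Submodule.sum_mem _ fun k _ => ?_
    show l (β k) ⊗ₜ[A] _ ∈ _
    rw [← mul_one (l (β k)), ← smul_eq_mul, ← TensorProduct.smul_tmul']
    exact Submodule.smul_mem_smul (hl _) trivial
  have htop : ∀ w, Dh w ∈ J • (⊤ : Submodule T (T ⊗[A] B)) := fun w => by
    induction w using TensorProduct.induction_on with
    | zero => rw [map_zero]; exact zero_mem _
    | add x y hx hy => rw [map_add]; exact add_mem hx hy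
    | tmul t b => rw [LinearMap.liftBaseChange_tmul]; exact Submodule.smul_mem _ _ (hℓmem _)
  have hraise : ∀ j : ℕ, ∀ z ∈ J ^ j • (⊤ : Submodule T (T ⊗[A] B)),
      Dh z ∈ J ^ (j + 1) • (⊤ : Submodule T (T ⊗[A] B)) := by
    intro j z hz
    refine Submodule.smul_induction_on hz (fun a ha w _ => ?_)
      (fun x y hx hy => by rw [map_add]; exact add_mem hx hy)
    rw [map_smul, pow_succ, Submodule.mul_smul]
    exact Submodule.smul_mem_smul ha (htop w)
  have hpow : ∀ i z, (Dh ^ i) z ∈ J ^ i • (⊤ : Submodule T (T ⊗[A] B)) := by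
    intro i
    induction i with
    | zero => intro z; rw [pow_zero J, Ideal.one_eq_top, Submodule.top_smul]; trivial
    | succ i ih =>
      intro z
      rw [pow_succ' Dh, Module.End.mul_apply]
      exact hraise i _ (ih z)
  have hnil0 : Dh ^ (n + 1) = 0 := LinearMap.ext fun z => by
    have := hpow (n + 1) z
    rwa [hJ, Submodule.bot_smul, Submodule.mem_bot] at this
  have hnil0' : Dh ^ (n + 2) = 0 := by rw [pow_succ, hnil0, zero_mul]
  have hexp : ∀ z, IsNilpotent.exp Dh z =
      z + Dh z + ∑ i ∈ Finset.range n, ((i + 2).factorial : ℚ)⁻¹ • (Dh ^ (i + 2)) z := fun z => by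
    rw [IsNilpotent.exp_eq_sum hnil0', LinearMap.coe_sum, Finset.sum_apply, Finset.sum_range_succ',
      Finset.sum_range_succ']
    simp only [LinearMap.smul_apply, zero_add, pow_zero, pow_one, Nat.factorial_zero,
      Nat.factorial_one, Nat.cast_one, inv_one, one_smul, Module.End.one_apply]
    abel
  let μ : T ⊗[A] B →ₐ[T] T :=
    Algebra.TensorProduct.lift (AlgHom.id T T) (IsScalarTower.toAlgHom A B T)
      (fun _ _ => Commute.all _ _)
  have hμ : ∀ t b, μ (t ⊗ₜ b) = t * algebraMap B T b := fun t b => by simp [μ]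
  have hμℓ : ∀ ω, μ (ℓ ω) = l ω := fun ω => by
    rw [hℓdef, Finsupp.sum, map_sum]
    conv_rhs => rw [← β.linearCombination_repr ω, Finsupp.linearCombination_apply, Finsupp.sum,
      map_sum]
    refine Finset.sum_congr rfl fun k _ => ?_
    rw [hμ, map_smul, Algebra.smul_def, mul_comm]
  let ψ : CC →ₐ[A] T ⊗[A] B :=
    Algebra.TensorProduct.map (IsScalarTower.toAlgHom A B T) (AlgHom.id A B)
  have hψ : ∀ x y, ψ (x ⊗ₜ y) = algebraMap B T x ⊗ₜ[A] y := fun x y => by simp [ψ]
  have hD1 : ∀ t, Dh (t ⊗ₜ[A] (1 : B)) = 0 := fun t => by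
    rw [hDh, Derivation.map_one_eq_zero, map_zero, mul_zero]
  have hDi : ∀ t i, (Dh ^ (i + 2)) (t ⊗ₜ[A] (1 : B)) = 0 := fun t i => by
    rw [show i + 2 = (i + 1) + 1 from rfl, pow_succ, Module.End.mul_apply, hD1, map_zero]
  let X : Module.End T (T ⊗[A] B) := IsNilpotent.exp Dh
  let E : T ⊗[A] B →+* T ⊗[A] B :=
    { toFun := X
      map_one' := by
        show (IsNilpotent.exp Dh : Module.End T (T ⊗[A] B)) 1 = 1
        rw [hexp, Algebra.TensorProduct.one_def, hD1]
        simp [hDi]
      map_mul' := Module.End.exp_mul_of_derivation T _ Dh hder ⟨_, hnil0⟩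
      map_zero' := X.map_zero
      map_add' := X.map_add }
  refine ⟨(μ.toRingHom.comp E).comp ψ.toRingHom, fun c => ?_, fun b => ?_⟩
  · show μ ((IsNilpotent.exp Dh : Module.End T (T ⊗[A] B)) (ψ (c ⊗ₜ 1))) = algebraMap B T c
    rw [hψ, hexp, hD1]
    simp [hDi, hμ]
  · show μ ((IsNilpotent.exp Dh : Module.End T (T ⊗[A] B)) (ψ ((1 : B) ⊗ₜ[A] b - b ⊗ₜ[A] (1 : B)))) - _ ∈ J ^ 2
    rw [hexp, map_add, map_add, map_sub ψ, hψ, hψ, map_sub μ, hμ, hμ, map_sub Dh, hD1, sub_zero,
      hDh, map_one, ← Algebra.TensorProduct.one_def, one_mul, one_mul, mul_one, sub_self, hμℓ,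
      zero_add, add_sub_cancel_left, map_sum]
    refine Submodule.sum_mem _ fun i _ => ?_
    rw [map_rat_smul]
    refine Submodule.smul_of_tower_mem _ _ ?_
    have hle : ∀ z ∈ J ^ (i + 2) • (⊤ : Submodule T (T ⊗[A] B)), μ z ∈ J ^ 2 := fun z hz => by
      refine Submodule.smul_induction_on hz (fun a ha w _ => ?_)
        (fun x y hx hy => by rw [map_add]; exact add_mem hx hy)
      rw [map_smul, smul_eq_mul]
      exact Ideal.mul_mem_right _ _ (Ideal.pow_le_pow_right (by omega) ha)
    exact hle _ (hpow _ _)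

end

/-- Let B be an A-algebra containing the rational numbers (a scheme of characteristic 0) whose module of
differentials over A is a free B-module, of any rank. Then B is differentially smooth over A. -/
theorem result (A B : Type u) [CommRing A] [CommRing B] [Algebra A B] [Algebra ℚ B]
    (hΩ : Module.Free B (KaehlerDifferential A B)) : PP16.IsDiffSmooth A B := by
  classical
  have := hΩ
  refine ⟨inferInstance, fun ι _ => ?_⟩
  obtain ⟨φ, hφ⟩ := exists_phi A B ι
  obtain ⟨n, hn⟩ : ∃ n, n = Fintype.card ι := ⟨_, rfl⟩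
  let S := SymmetricAlgebra B (KaehlerDifferential A B)
  let I := KaehlerDifferential.ideal A B
  let irS : Ideal S := irr B (KaehlerDifferential A B)
  let T := S ⧸ irS ^ (n + 1)
  let q : S →ₐ[B] T := Ideal.Quotient.mkₐ B (irS ^ (n + 1))
  let J : Ideal T := irS.map (Ideal.Quotient.mk (irS ^ (n + 1)))
  letI : Algebra ℚ T := ((algebraMap B T).comp (algebraMap ℚ B)).toAlgebra
  haveI : SMulCommClass A ℚ T := ⟨fun a r t => by rw [Algebra.smul_def r t, Algebra.smul_def r (a • t), mul_smul_comm]⟩
  have hJ : J ^ (n + 1) = ⊥ := by rw [← Ideal.map_pow, Ideal.map_quotient_self]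
  have hl : ∀ ω, q (SymmetricAlgebra.ι B _ ω) ∈ J := fun ω => Ideal.mem_map_of_mem _ (ι_mem_irr ω)
  obtain ⟨Φ, hΦB, hΦ⟩ := exists_exp A B T J n hJ
    (q.toLinearMap ∘ₗ SymmetricAlgebra.ι B (KaehlerDifferential A B)) hl
  have hζmem : ∀ b : B, Φ ((1 : B) ⊗ₜ[A] b - b ⊗ₜ[A] (1 : B)) ∈ J := fun b => by
    have := add_mem (Ideal.pow_le_self two_ne_zero (hΦ b)) (hl (KaehlerDifferential.D A B b))
    simp only [LinearMap.comp_apply, AlgHom.toLinearMap_apply] at this
    convert this using 1
    exact (sub_add_cancel _ _).symm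
  have hΦI : I.map Φ ≤ J := by
    show (KaehlerDifferential.ideal A B).map Φ ≤ J
    rw [← KaehlerDifferential.span_range_eq_ideal, Ideal.map_span, Ideal.span_le]
    rintro _ ⟨_, ⟨b, rfl⟩, rfl⟩
    exact hζmem b
  have hΦprod : ∀ b : ι → B, Φ (∏ i, ((1 : B) ⊗ₜ[A] b i - b i ⊗ₜ[A] (1 : B))) =
      q (prodMap B B (KaehlerDifferential A B) ι
        (SymmetricPower.tprod B fun i => KaehlerDifferential.D A B (b i))) := fun b => by
    rw [map_prod, prodMap_tprod, map_prod, ← sub_eq_zero, ← Ideal.mem_bot, ← hJ]
    have := prod_sub_prod_mem J Finset.univ _ _ (fun i _ => hζmem (b i))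
      (fun i _ => hl (KaehlerDifferential.D A B (b i))) (fun i _ => hΦ (b i))
    rwa [Finset.card_univ, ← hn] at this
  -- surjectivity and compatibility
  have hspan : ∀ t : SymmetricPower B ι (KaehlerDifferential A B),
      ∃ y : ↥((I ^ Fintype.card ι).restrictScalars B), φ t = Submodule.Quotient.mk y ∧
        Φ (y : B ⊗[A] B) = q (prodMap B B (KaehlerDifferential A B) ι t) := by
    intro t
    have h : t ∈ Submodule.span B (Set.range fun b : ι → B =>
        SymmetricPower.tprod B fun i => KaehlerDifferential.D A B (b i)) := by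
      have htop : (⊤ : Submodule B (SymmetricPower B ι (KaehlerDifferential A B))) ≤
          Submodule.span B (Set.range fun b : ι → B =>
            SymmetricPower.tprod B fun i => KaehlerDifferential.D A B (b i)) := by
        rw [← SymmetricPower.span_tprod_eq_top, Submodule.span_le]
        rintro _ ⟨v, rfl⟩
        have hv : ∀ i, ∃ c : B →₀ B, Finsupp.linearCombination B (KaehlerDifferential.D A B) c = v i :=
          fun i => Finsupp.mem_span_range_iff_exists_finsupp.mp
            ((KaehlerDifferential.span_range_derivation A B).ge trivial)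
        choose c hc using hv
        rw [← funext hc]
        simp only [Finsupp.linearCombination_apply, Finsupp.sum]
        rw [MultilinearMap.map_sum_finset]
        refine Submodule.sum_mem _ fun g _ => ?_
        rw [MultilinearMap.map_smul_univ]
        exact Submodule.smul_mem _ _ (Submodule.subset_span ⟨fun i => g i, rfl⟩)
      exact htop trivial
    induction h using Submodule.span_induction with
    | mem x hx =>
      obtain ⟨b, rfl⟩ := hx
      exact ⟨⟨∏ i, ((1 : B) ⊗ₜ[A] b i - b i ⊗ₜ[A] (1 : B)), by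
        rw [Submodule.restrictScalars_mem, ← Finset.card_univ, ← Finset.prod_const]
        exact Ideal.prod_mem_prod fun i _ =>
          KaehlerDifferential.one_smul_sub_smul_one_mem_ideal A (b i)⟩, hφ b, hΦprod b⟩
    | zero => exact ⟨0, by simp, by simp⟩
    | add x x' _ _ hx hx' =>
      obtain ⟨y, h1, h2⟩ := hx
      obtain ⟨y', h1', h2'⟩ := hx'
      exact ⟨y + y', by rw [map_add, h1, h1']; rfl,
        by rw [map_add, map_add, Submodule.coe_add, map_add, h2, h2']⟩
    | smul c x _ hx =>
      obtain ⟨y, h1, h2⟩ := hx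
      refine ⟨c • y, by rw [map_smul, h1]; rfl, ?_⟩
      rw [Submodule.coe_smul, Algebra.smul_def, map_mul, hΦB, h2, map_smul, map_smul]
      exact (Algebra.smul_def c _).symm
  refine ⟨φ, hφ, ?_, ?_⟩
  · refine (injective_iff_map_eq_zero φ).mpr fun t ht => ?_
    obtain ⟨y, h1, h2⟩ := hspan t
    rw [h1, Submodule.Quotient.mk_eq_zero, Submodule.mem_comap] at ht
    have h3 : Φ (y : B ⊗[A] B) ∈ J ^ (n + 1) := by
      refine Ideal.pow_right_mono hΦI _ ?_
      rw [← Ideal.map_pow]
      refine Ideal.mem_map_of_mem Φ ?_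
      have ht' : (y : B ⊗[A] B) ∈ I ^ (Fintype.card ι + 1) := ht
      convert ht' using 3
    rw [hJ, Ideal.mem_bot, h2] at h3
    replace h3 : prodMap B B (KaehlerDifferential A B) ι t ∈ irS ^ (Fintype.card ι + 1) := by
      rw [← hn]
      exact Ideal.Quotient.eq_zero_iff_mem.mp h3
    rcases isEmpty_or_nonempty ι with hι | hι
    · let v₀ : ι → KaehlerDifferential A B := isEmptyElim
      have ht' : t ∈ Submodule.span B {SymmetricPower.tprod B v₀} := by
        rw [← show Set.range (SymmetricPower.tprod B (ι := ι) (M := KaehlerDifferential A B)) =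
          {SymmetricPower.tprod B v₀} from
            Set.range_eq_singleton_iff.mpr fun v => congrArg _ (Subsingleton.elim v v₀),
          SymmetricPower.span_tprod_eq_top]
        trivial
      obtain ⟨b, rfl⟩ := Submodule.mem_span_singleton.mp ht'
      rw [map_smul, prodMap_tprod, Fintype.card_eq_zero, zero_add, pow_one] at h3
      have h4 : irS ≤ RingHom.ker (SymmetricAlgebra.lift
          (0 : KaehlerDifferential A B →ₗ[B] B)) := by
        simp only [irS, irr, Ideal.span_le]
        rintro _ ⟨ω, rfl⟩
        rw [SetLike.mem_coe, RingHom.mem_ker, SymmetricAlgebra.lift_ι_apply]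
        rfl
      have h5 := h4 h3
      rw [RingHom.mem_ker, map_smul, Fintype.prod_empty, map_one, smul_eq_mul, mul_one] at h5
      rw [h5, zero_smul]
    · obtain ⟨Ψ, hΨ, hΨ0⟩ := exists_leftInv (B := B) (C := B) (P := KaehlerDifferential A B)
        (ι := ι) Function.surjective_id
      exact (hΨ t).symm.trans (hΨ0 _ h3)
  · rw [← LinearMap.range_eq_top, ← top_le_iff]
    refine (exists_span_zeta A B ι).trans (Submodule.span_le.mpr ?_)
    rintro _ ⟨b, rfl⟩
    exact ⟨_, hφ b⟩

end Groth.Agent.S3819
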