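import Groth.Statements.S0076
import Groth.Agent.H95.TopInv.Hom
import Mathlib.AlgebraicGeometry.Morphisms.UniversallyInjective
import Mathlib.AlgebraicGeometry.Morphisms.Integral

set_option autoImplicit false
open CategoryTheory CategoryTheory.Limits AlgebraicGeometry Opposite
universe u
open EtBase

namespace Groth.Agent.S0076


open Groth.Agent.H95.TopInv

theorem surjective_diagonal_of_comp' {W Y V : Scheme.{u}} (s : W ⟶ V) (φ : V ⟶ Y) [Surjective s]
    [Surjective (pullback.diagonal (s ≫ φ))] : Surjective (pullback.diagonal φ) := by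
  let m : pullback (s ≫ φ) (s ≫ φ) ⟶ pullback φ φ :=
    pullback.map (s ≫ φ) (s ≫ φ) φ φ s s (𝟙 Y) (Category.comp_id _) (Category.comp_id _)
  have : Surjective m :=
    MorphismProperty.pullback_map (P := @Surjective) ‹Surjective s› ‹Surjective s› rfl rfl
  have hd : pullback.diagonal (s ≫ φ) ≫ m = s ≫ pullback.diagonal φ := by
    apply pullback.hom_ext
    · simp only [m, pullback.map, Category.assoc]
      erw [pullback.lift_fst]
      rw [pullback.diagonal_fst, Category.comp_id, ← Category.assoc, pullback.diagonal_fst, Category.id_comp]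
    · simp only [m, pullback.map, Category.assoc]
      erw [pullback.lift_snd]
      rw [pullback.diagonal_snd, Category.comp_id, ← Category.assoc, pullback.diagonal_snd, Category.id_comp]
  have : Surjective (s ≫ pullback.diagonal φ) := hd ▸ inferInstance
  exact Surjective.of_comp s (pullback.diagonal φ)

/-- maps into an étale scheme extend uniquely along a surjective closed immersion -/
theorem exists_hom_of_univHomeo {X S Y₀ Y : Scheme.{u}} (f : X ⟶ S) [Etale f]
    (π : Y₀ ⟶ Y) [IsIntegralHom π] [UniversallyInjective π] [Surjective π] (a : Y₀ ⟶ X) (b : Y ⟶ S)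
    (w : π ≫ b = a ≫ f) : ∃ l : Y ⟶ X, π ≫ l = a ∧ l ≫ f = b := by
  let s₀ : Y₀ ⟶ pullback f b := pullback.lift a π w.symm
  let πP := pullback.fst (pullback.snd f b) π
  let σ : Y₀ ⟶ pullback (pullback.snd f b) π := pullback.lift s₀ (𝟙 Y₀) ((pullback.lift_snd _ _ _).trans (Category.id_comp _).symm)
  haveI : Etale (σ ≫ pullback.snd (pullback.snd f b) π) := by
    rw [show σ ≫ pullback.snd (pullback.snd f b) π = 𝟙 Y₀ from pullback.lift_snd _ _ _]
    infer_instance
  haveI : Etale σ := Etale.of_comp σ (pullback.snd (pullback.snd f b) π)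
  haveI : IsSplitMono σ := IsSplitMono.mk' ⟨pullback.snd _ _, pullback.lift_snd _ _ _⟩
  haveI : IsOpenImmersion σ := IsOpenImmersion.of_flat_of_mono σ
  have hπP : IsHomeomorph πP.base := by
    haveI : IsIntegralHom πP := inferInstance
    haveI : UniversallyInjective πP := MorphismProperty.pullback_fst _ _ ‹UniversallyInjective π›
    haveI : Surjective πP := inferInstance
    exact isHomeomorph_iff_continuous_isClosedMap_bijective.2
      ⟨πP.continuous, πP.isClosedMap, πP.injective, πP.surjective⟩
  let O : (pullback f b).Opens := ⟨πP '' Set.range σ, hπP.isOpenMap _ σ.opensRange.isOpen⟩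
  have hs₀ : σ ≫ πP = s₀ := pullback.lift_fst _ _ _
  have hsO : Set.range s₀ ⊆ Set.range O.ι := by
    rw [Scheme.Opens.range_ι]
    rintro _ ⟨y, rfl⟩
    exact ⟨σ y, ⟨y, rfl⟩, by rw [← Scheme.Hom.comp_apply, hs₀]⟩
  let s : Y₀ ⟶ O := IsOpenImmersion.lift O.ι s₀ hsO
  have hs : s ≫ O.ι = s₀ := IsOpenImmersion.lift_fac _ _ _
  haveI : Surjective s := ⟨fun o => by
    obtain ⟨_, ⟨y, rfl⟩, hy⟩ := o.2
    refine ⟨y, O.ι.isOpenEmbedding.injective ?_⟩
    rw [← Scheme.Hom.comp_apply, hs, ← hs₀, Scheme.Hom.comp_apply]
    exact hy⟩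
  let q : (O : Scheme.{u}) ⟶ Y := O.ι ≫ pullback.snd f b
  have hsq : s ≫ q = π := by rw [reassoc_of% hs]; exact pullback.lift_snd _ _ _
  haveI : Etale q := by
    haveI : Etale (pullback.snd f b) := inferInstance
    infer_instance
  haveI : Surjective (pullback.diagonal (s ≫ q)) :=
    ((UniversallyInjective.iff_diagonal _).1 (hsq ▸ inferInstance))
  haveI := surjective_diagonal_of_comp' s q
  haveI : IsOpenImmersion q := Lib.Unram.EtaleMono.isOpenImmersion_of_surjective_diagonal q
  haveI : IsIso q := isIso_of_surjective q fun y => by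
    obtain ⟨y₀, rfl⟩ := π.surjective y
    exact ⟨s y₀, by rw [← Scheme.Hom.comp_apply, hsq]⟩
  refine ⟨inv q ≫ O.ι ≫ pullback.fst f b, ?_, ?_⟩
  · rw [← hsq, Category.assoc, IsIso.hom_inv_id_assoc, reassoc_of% hs]
    exact pullback.lift_fst _ _ _
  · rw [Category.assoc, Category.assoc, pullback.condition, IsIso.inv_comp_eq]
    simp [q]


/-- For X étale over S and any S-scheme Y, base change along an integral, universally injective,
surjective S' → S gives a bijection between S-morphisms Y → X and S'-morphisms of the base changes. -/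
theorem result {S S' : Scheme.{u}} (g : S' ⟶ S) [IsIntegralHom g] [UniversallyInjective g]
    [Surjective g] (X Y : Over S) [AlgebraicGeometry.Etale X.hom] :
    Function.Bijective (fun φ : Y ⟶ X => (Over.pullback g).map φ) := by
  constructor
  · intro φ ψ h
    have h2 := congrArg (fun m : (Over.pullback g).obj Y ⟶ (Over.pullback g).obj X =>
      m.left ≫ pullback.fst X.hom g) h
    exact Over.OverMorphism.ext (hom_ext X.hom (pullback.fst Y.hom g)
      ((pullback.lift_fst _ _ _).symm.trans (h2.trans (pullback.lift_fst _ _ _)))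
      ((Over.w φ).trans (Over.w ψ).symm))
  · intro χ
    have : UniversallyInjective (pullback.fst Y.hom g) :=
      MorphismProperty.pullback_fst _ _ ‹UniversallyInjective g›
    obtain ⟨l, h1, h2⟩ := exists_hom_of_univHomeo X.hom (pullback.fst Y.hom g)
      (χ.left ≫ pullback.fst X.hom g) Y.hom
        ((pullback.condition.trans ((congrArg (· ≫ g) (Over.w χ)).symm.trans
          (Category.assoc _ _ _))).trans ((χ.left ≫= pullback.condition.symm).trans
            (Category.assoc _ _ _).symm))
    refine ⟨Over.homMk l h2, Over.OverMorphism.ext ?_⟩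
    apply pullback.hom_ext
    · exact (pullback.lift_fst _ _ _).trans h1
    · exact (pullback.lift_snd _ _ _).trans (Over.w χ).symm

end Groth.Agent.S0076
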