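import Groth.Statements.S3596
import Mathlib.AlgebraicGeometry.ProjectiveSpectrum.Proper
import Mathlib.AlgebraicGeometry.Morphisms.Affine

set_option autoImplicit false
universe u
open CategoryTheory CategoryTheory.Limits AlgebraicGeometry
open EGA2

namespace Groth.Agent.S3596
open TopologicalSpace HomogeneousLocalization


open TopologicalSpace HomogeneousLocalization in
/-- The preimage of `D₊(f)` is the trace of `D₊(φ f)`. -/
theorem preimage_basicOpen {R A : Type u} [CommRing R] [CommRing A] [Algebra R A] {𝒜 : ℕ → Submodule R A} [GradedAlgebra 𝒜]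
    {B : Type u} [CommRing B] [Algebra R B] {ℬ : ℕ → Submodule R B} [GradedAlgebra ℬ] (φ : 𝒜 →+*ᵍ ℬ)
    (p : (PCone.dom φ : Scheme.{u}) ⟶ Proj 𝒜) (hp : ∀ (d : ℕ) (f : A) (hd : 0 < d) (hf : f ∈ 𝒜 d),
        PCone.chart φ hf hd ≫ p =
          Spec.map (CommRingCat.ofHom (HomogeneousLocalization.Away.map φ f)) ≫ Proj.awayι 𝒜 f hf hd)
    {d : ℕ} {f : A} (hd : 0 < d) (hf : f ∈ 𝒜 d) :
    p ⁻¹ᵁ Proj.basicOpen 𝒜 f = (PCone.dom φ).ι ⁻¹ᵁ Proj.basicOpen ℬ (φ f) := by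
  ext x
  obtain ⟨⟨g, e, he, hg⟩, hx⟩ := Opens.mem_iSup.1
    (show (PCone.dom φ).ι x ∈ ⨆ g : {g : A // ∃ e : ℕ, 0 < e ∧ g ∈ 𝒜 e}, Proj.basicOpen ℬ (φ g.1) from x.2)
  rw [← Proj.opensRange_awayι ℬ (φ g) (φ.map_mem hg) he] at hx
  obtain ⟨y, hy⟩ := hx
  have hc : PCone.chart φ hg he ≫ (PCone.dom φ).ι = Proj.awayι ℬ (φ g) (φ.map_mem hg) he :=
    IsOpenImmersion.lift_fac _ _ _
  obtain rfl : PCone.chart φ hg he y = x := by
    refine (PCone.dom φ).ι.isOpenEmbedding.injective ?_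
    rw [← Scheme.Hom.comp_apply, hc]
    exact hy
  show y ∈ (PCone.chart φ hg he ⁻¹ᵁ p ⁻¹ᵁ Proj.basicOpen 𝒜 f) ↔
    y ∈ (PCone.chart φ hg he ⁻¹ᵁ (PCone.dom φ).ι ⁻¹ᵁ Proj.basicOpen ℬ (φ f))
  rw [← Scheme.Hom.comp_preimage, ← Scheme.Hom.comp_preimage, hp e g he hg, hc,
    Scheme.Hom.comp_preimage, Proj.awayι_preimage_basicOpen (𝒜 := 𝒜) (g := f) hg he hf hd]
  have h2 : Proj.awayι ℬ (φ g) (φ.map_mem hg) he ⁻¹ᵁ Proj.basicOpen ℬ (φ f) =
      PrimeSpectrum.basicOpen (Away.isLocalizationElem (𝒜 := ℬ) (φ.map_mem hg) (φ.map_mem hf)) :=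
    Proj.awayι_preimage_basicOpen ℬ (φ.map_mem hg) he (φ.map_mem hf) hd
  rw [h2]
  change Away.map φ g (Away.isLocalizationElem hg hf) ∉ y.asIdeal ↔
    Away.isLocalizationElem (φ.map_mem hg) (φ.map_mem hf) ∉ y.asIdeal
  have he' : Away.map φ g (Away.isLocalizationElem hg hf) =
      Away.isLocalizationElem (φ.map_mem hg) (φ.map_mem hf) := by
    refine val_injective _ ?_
    simp only [Away.isLocalizationElem, Away.map_mk, Away.val_mk, map_pow]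
    rfl
  rw [he']

/-- For a homomorphism of graded rings φ : S' → S, the induced morphism p : G(φ) → Proj S'
(characterised on the charts as in the previous result) is affine. -/
theorem result {R A : Type u} [CommRing R] [CommRing A] [Algebra R A] (𝒜 : ℕ → Submodule R A) [GradedAlgebra 𝒜]
    {B : Type u} [CommRing B] [Algebra R B] (ℬ : ℕ → Submodule R B) [GradedAlgebra ℬ] (φ : 𝒜 →+*ᵍ ℬ)
    (p : (PCone.dom φ : Scheme.{u}) ⟶ Proj 𝒜) (hp : ∀ (d : ℕ) (f : A) (hd : 0 < d) (hf : f ∈ 𝒜 d),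
        PCone.chart φ hf hd ≫ p =
          Spec.map (CommRingCat.ofHom (HomogeneousLocalization.Away.map φ f)) ≫ Proj.awayι 𝒜 f hf hd) :
    IsAffineHom p := by
  have hdom : ∀ (d : ℕ) (f : A), 0 < d → f ∈ 𝒜 d → Proj.basicOpen ℬ (φ f) ≤ PCone.dom φ :=
    fun d f hd hf => le_iSup_of_le ⟨f, d, hd, hf⟩ le_rfl
  have key := fun (d : ℕ) (f : A) (hd : 0 < d) (hf : f ∈ 𝒜 d) => preimage_basicOpen φ p hp hd hf
  refine isAffineHom_of_forall_exists_isAffineOpen p fun x => ?_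
  obtain ⟨d, hd, f, hf, hfx⟩ : ∃ d, 0 < d ∧ ∃ f ∈ 𝒜 d, f ∉ x.asHomogeneousIdeal := by
    by_contra h
    push Not at h
    exact x.not_irrelevant_le ((HomogeneousIdeal.irrelevant_le 𝒜).mpr h)
  refine ⟨_, hfx, Proj.isAffineOpen_basicOpen 𝒜 f hf hd, ?_⟩
  rw [key d f hd hf]
  exact (Proj.isAffineOpen_basicOpen ℬ (φ f) (φ.map_mem hf) hd).preimage_of_isOpenImmersion _
    (by rw [Scheme.Opens.opensRange_ι]; exact hdom d f hd hf)

end Groth.Agent.S3596
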