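import Groth.Statements.S1681
import Groth.Agent.Lib.AssPt.Basic
import Groth.Agent.Lib.Ideal.BlowUp

set_option autoImplicit false
universe u
open CategoryTheory CategoryTheory.Limits AlgebraicGeometry TopologicalSpace
open SDiv

namespace Groth.Agent.S1681

open Groth.Agent.Lib.Ideal.EffCartier Groth.Agent.Lib.AssPt.Basic


/-- Let b : X' ⟶ X be a blowing-up of X along the quasi-coherent ideal sheaf 𝓘. Then b restricts to a
bijection from the maximal points of X' (points with no proper generization) onto the maximal points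
of X not lying in the support of 𝓘. -/
theorem result {X X' : Scheme.{u}} (𝓘 : X.IdealSheafData) (b : X' ⟶ X) (hb : BlowUp.IsBlowUp b 𝓘) :
    Set.BijOn (fun x' => b x') {x' : ↥X' | ∀ y : ↥X', y ⤳ x' → y = x'}
      {x : ↥X | (∀ y : ↥X, y ⤳ x → y = x) ∧ x ∉ 𝓘.support} := by
  haveI hoff := Groth.Agent.Lib.Ideal.BlowUp.isIso_off_center hb
  set C : X.Opens := 𝓘.support.compl with hC
  have hopen : IsOpenImmersion ((b ⁻¹ᵁ C).ι ≫ b) := by
    rw [← morphismRestrict_ι]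
    infer_instance
  have hlift : ∀ x', b x' ∈ C → ∃ z, (b ⁻¹ᵁ C).ι z = x' := fun x' h => by
    have : x' ∈ Set.range (b ⁻¹ᵁ C).ι := by rw [Scheme.Opens.range_ι]; exact h
    exact this
  have hinj : ∀ x₁ x₂, b x₁ ∈ C → b x₂ ∈ C → b x₁ = b x₂ → x₁ = x₂ := by
    intro x₁ x₂ h₁ h₂ he
    obtain ⟨z₁, rfl⟩ := hlift x₁ h₁
    obtain ⟨z₂, rfl⟩ := hlift x₂ h₂
    rw [hopen.base_open.injective (a₁ := z₁) (a₂ := z₂) he]
  have hspec : ∀ x₁ x₂, b x₁ ∈ C → b x₂ ∈ C → b x₁ ⤳ b x₂ → x₁ ⤳ x₂ := by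
    intro x₁ x₂ h₁ h₂ he
    obtain ⟨z₁, rfl⟩ := hlift x₁ h₁
    obtain ⟨z₂, rfl⟩ := hlift x₂ h₂
    exact ((hopen.base_open.isInducing.specializes_iff (x := z₁) (y := z₂)).mp he).map
      (b ⁻¹ᵁ C).ι.continuous
  have hsurj : ∀ x ∈ C, ∃ x', b x' = x := by
    intro x hx
    obtain ⟨z, hz⟩ := (isIso_iff_isOpenImmersion_and_epi_base (b ∣_ C)).mp hoff |>.2 |>
      (TopCat.epi_iff_surjective _).mp |> fun h => h ⟨x, hx⟩
    refine ⟨(b ⁻¹ᵁ C).ι z, ?_⟩
    rw [← Scheme.Hom.comp_apply, ← morphismRestrict_ι, Scheme.Hom.comp_apply]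
    exact congrArg Subtype.val hz
  have hmaxoff : ∀ x' : X', (∀ y, y ⤳ x' → y = x') → b x' ∈ C := by
    intro x' hmax hmem
    obtain ⟨U, hxU, e, he, hIe⟩ := hb.1 x'
    have hx'E : x' ∈ (𝓘.comap b).support := by
      rw [Scheme.IdealSheafData.support_comap]; exact hmem
    have hu := isUnit_of_nzd_of_maximalPoint e hxU (germ_mem_nonZeroDivisors U.2 he x' hxU) hmax
    have hzero := (Scheme.IdealSheafData.mem_support_iff_of_mem hxU).mp hx'E
    exact (X'.mem_zeroLocus_iff _ _).mp hzero e (hIe ▸ Ideal.mem_span_singleton_self e)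
      ((X'.mem_basicOpen e x' hxU).mpr hu)
  refine ⟨fun x' hx' => ⟨fun y hy => ?_, hmaxoff x' hx'⟩, fun x₁ h₁ x₂ h₂ he =>
    hinj x₁ x₂ (hmaxoff x₁ h₁) (hmaxoff x₂ h₂) he, ?_⟩
  · have hyC : y ∈ C := hy.mem_open C.isOpen (hmaxoff x' hx')
    obtain ⟨y', rfl⟩ := hsurj y hyC
    rw [hx' y' (hspec y' x' hyC (hmaxoff x' hx') hy)]
  · rintro x ⟨hmax, hxC⟩
    obtain ⟨x', rfl⟩ := hsurj x hxC
    refine ⟨x', fun y hy => ?_, rfl⟩
    have hby := hmax _ (hy.map b.continuous)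
    exact hinj y x' (by rw [hby]; exact hxC) hxC hby

end Groth.Agent.S1681
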