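import Groth.Statements.S2348
import Groth.Agent.S1681
import Groth.Agent.Lib.Ideal.BlowUp
import Mathlib.AlgebraicGeometry.FunctionField
-- import your own Groth.Agent.* helpers here

set_option autoImplicit false
universe u
open CategoryTheory CategoryTheory.Limits AlgebraicGeometry
open EGA2

namespace Groth.Agent.S2348

/-- For an ideal of O_Y: let Y be an integral scheme, I a nonzero quasi-coherent ideal sheaf and b : X →
Y a blowing up of Y in I (characterised by its universal property). Then X is integral, b sends the
generic point of X to that of Y and induces a bijection on their residue fields (b is birational).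
The printed statement also asserts that b is surjective; the proof does not show this and it fails
when I is not of finite type, so it is left out. -/
theorem result {X Y : Scheme.{u}} [IsIntegral Y] (I : Y.IdealSheafData) (hI : I ≠ ⊥)
    (b : X ⟶ Y) (hb : BlowUp.IsBlowUp b I) :
    ∃ (_ : IsIntegral X), ∃ hgen : b.base (genericPoint X) = genericPoint Y,
      Function.Bijective (b.residueFieldMap (genericPoint X)).hom := by
  have hred : AlgebraicGeometry.IsReduced X := Groth.Agent.Lib.Ideal.BlowUp.isReduced hb
  let η := genericPoint Y
  have hη : η ∉ I.support := fun h => hI (Scheme.IdealSheafData.support_eq_top_iff.1 (top_le_iff.1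
    fun y _ => ((genericPoint_spec Y).specializes (Set.mem_univ y)).mem_closed I.support.isClosed h))
  have hmin : ∀ y : Y, y ⤳ η → y = η := fun y hy =>
    (hy.antisymm ((genericPoint_spec Y).specializes (Set.mem_univ y))).eq
  have hbij := Groth.Agent.S1681.result I b hb
  obtain ⟨ξ, hξmin, hξ : b ξ = η⟩ := hbij.surjOn ⟨hmin, hη⟩
  have hgenX : ∀ x : X, ξ ⤳ x := fun x => by
    obtain ⟨ζ, hζ⟩ := QuasiSober.sober (S := irreducibleComponent x) isIrreducible_irreducibleComponent
      isClosed_irreducibleComponent
    have hζmin : ∀ y : X, y ⤳ ζ → y = ζ := fun y hy => by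
      have hle : irreducibleComponent x ⊆ closure {y} := by
        rw [← hζ.def]; exact hy.closure_subset
      have heq := eq_irreducibleComponent isIrreducible_singleton.closure.2 hle
      exact (hy.antisymm (hζ.specializes (heq.le (subset_closure (Set.mem_singleton y))))).eq
    have h2 : b ζ = η := by
      have h3 := hbij.mapsTo hζmin
      exact (h3.1 η ((genericPoint_spec Y).specializes (Set.mem_univ _))).symm
    rw [← hbij.injOn hζmin hξmin (h2.trans hξ.symm)]
    exact hζ.specializes mem_irreducibleComponent
  haveI : IrreducibleSpace X := by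
    haveI : PreirreducibleSpace X := ⟨fun U V hU hV ⟨u, _, hu⟩ ⟨v, _, hv⟩ =>
      ⟨ξ, trivial, (hgenX u).mem_open hU hu, (hgenX v).mem_open hV hv⟩⟩
    exact ⟨⟨ξ⟩⟩
  haveI := isIntegral_of_irreducibleSpace_of_isReduced X
  have hξgen : genericPoint X = ξ :=
    (((genericPoint_spec X).specializes (Set.mem_univ ξ)).antisymm (hgenX _)).eq
  refine ⟨inferInstance, (congrArg b hξgen).trans hξ, ?_⟩
  have hst := Groth.Agent.Lib.Ideal.BlowUp.bijective_stalkMap_off hb (genericPoint X) (by
    rw [Scheme.IdealSheafData.support_comap, hξgen]
    exact fun h => hη (hξ ▸ h))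
  refine ⟨RingHom.injective _, fun r => ?_⟩
  obtain ⟨c, rfl⟩ := Ideal.Quotient.mk_surjective r
  obtain ⟨a, rfl⟩ := hst.2 c
  exact ⟨Y.residue _ a, ConcreteCategory.congr_hom (Scheme.residue_residueFieldMap b (genericPoint X)) a⟩

end Groth.Agent.S2348
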