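import Groth.Statements.S9800
import Groth.Agent.Lib.Cyc.TorPD
import Mathlib.RingTheory.DedekindDomain.Dvr
import Mathlib.RingTheory.DedekindDomain.PID

set_option autoImplicit false
set_option linter.style.haveILetI false
universe u
open CategoryTheory AlgebraicGeometry TopologicalSpace
open Props

namespace Groth.Agent.S9800

/-- A locally Noetherian normal scheme of dimension at most one is regular, that is, all of its local
rings are regular local rings. -/
theorem result (X : Scheme.{u})
    [IsLocallyNoetherian X] (hN : Pi1.IsNormalScheme X) (hd : topologicalKrullDim X ≤ 1) (x : X) :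
    IsRegularLocalRing (X.presheaf.stalk x) := by
  haveI := (hN x).1
  haveI := (hN x).2
  let R := X.presheaf.stalk x
  haveI : IsNoetherianRing R := inferInstance
  haveI : Ring.KrullDimLE 1 R := (Ring.krullDimLE_iff (n := 1)).2
    ((Groth.Agent.Lib.Cyc.TorPD.ringKrullDim_stalk_le x).trans hd)
  haveI : Ring.DimensionLEOne R := ⟨fun {p} hp hpp => by
    haveI := hpp
    exact Ideal.IsPrime.isMaximal_of_ne_bot hpp hp⟩
  haveI : IsDedekindDomain R := { }
  haveI : IsPrincipalIdealRing R := IsPrincipalIdealRing.of_finite_maximals (Set.Subsingleton.finite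
    fun I hI J hJ => (IsLocalRing.eq_maximalIdeal hI).trans (IsLocalRing.eq_maximalIdeal hJ).symm)
  infer_instance

end Groth.Agent.S9800
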