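import Groth.Statements.S11033
import Groth.Agent.H81.IntClosure
import Groth.Agent.Lib.FunFld.Approx
import Mathlib.LinearAlgebra.FreeModule.PID
import Mathlib.RingTheory.Norm.Transitivity
import Mathlib.RingTheory.Localization.Module

set_option autoImplicit false
open FunFld WithZero Groth.Agent.Lib.FunFld Groth.Agent.Lib.FunFld.Place

namespace Groth.Agent.S11033

universe u v w
variable {k : Type u} {K : Type v} {K' : Type w} [Field k] [Field K] [Field K']
  [Algebra k K] [Algebra K K'] [Algebra k K'] [IsScalarTower k K K'] [FiniteDimensional K K']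

theorem ord_nonneg_of_le (P : FunFld.Place k K) {x : K} (h : P.1 x ≤ 1) : 0 ≤ P.ord x :=
  (val_le_one_iff P).1 h

theorem norm_le_one (hK : FunFld.IsFunctionField k K) (P : FunFld.Place k K) {x : K'}
    (hx : ∀ Q : FunFld.Place k K', FunFld.IsOver Q P → Q.1 x ≤ 1) : P.1 (Algebra.norm K x) ≤ 1 := by
  have h : IsIntegral P.O (Algebra.norm K x) :=
    Algebra.isIntegral_norm K ((H81.IntClosure.isIntegral_iff (P := P) hK).2 hx)
  obtain ⟨y, hy⟩ := IsIntegrallyClosed.isIntegral_iff.1 h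
  exact hy ▸ y.2

/-- An element in a place above, integral at the others, has norm of order at least the residue degree. -/
theorem deg_le (hK : FunFld.IsFunctionField k K) (P : FunFld.Place k K) (Q : FunFld.Place k K')
    (hQ : FunFld.IsOver Q P) {t : K'} (ht0 : t ≠ 0) (htQ : Q.1 t < 1)
    (ht : ∀ R : FunFld.Place k K', FunFld.IsOver R P → R.1 t ≤ 1) :
    (Q.deg : ℤ) ≤ P.deg * P.ord (Algebra.norm K t) := by
  classical
  let R := integralClosure P.O K'
  have hmem : ∀ z : K', z ∈ R ↔ ∀ S : FunFld.Place k K', FunFld.IsOver S P → S.1 z ≤ 1 :=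
    fun z => H81.IntClosure.isIntegral_iff hK
  have := H81.IntClosure.finite (K' := K') (P := P) hK
  have : IsDiscreteValuationRing P.O := Gen.Existence.isDiscreteValuationRing_valuationSubring hK.1 P.O P.2.1
    fun h => by
      have h1 : (unif P)⁻¹ ∈ P.O := h ▸ trivial
      rw [mem_O_iff, map_inv₀, val_unif, ← exp_neg] at h1
      have := exp_le_exp.1 (h1.trans exp_zero.symm.le)
      omega
  have : FaithfulSMul P.O K' := (faithfulSMul_iff_algebraMap_injective P.O K').2 fun x y h => by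
    rw [H81.IntClosure.algebraMap_O, H81.IntClosure.algebraMap_O] at h
    exact Subtype.ext ((algebraMap K K').injective h)
  have : Module.Free P.O R := Module.free_of_finite_type_torsion_free'
  let b₀ := Module.Free.chooseBasis P.O R
  let N : Submodule P.O R :=
    { carrier := {z | Q.1 (z : K') < 1}
      zero_mem' := by simp
      add_mem' := fun {a b} ha hb => (Q.1.map_add _ _).trans_lt (max_lt ha hb)
      smul_mem' := fun c z hz => by
        show Q.1 (((c • z : R) : K')) < 1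
        have hcz : ((c • z : R) : K') = algebraMap K K' (c : K) * (z : K') := by
          show c • (z : K') = _
          rw [← H81.IntClosure.algebraMap_O c]; exact Algebra.smul_def c (z : K')
        obtain ⟨e, he⟩ := hQ
        rw [hcz, map_mul, he]
        exact (mul_le_of_le_one_left' (pow_le_one₀ zero_le c.2)).trans_lt hz }
  obtain ⟨n, snf⟩ := Submodule.smithNormalForm b₀ N
  let b := snf.bM
  obtain ⟨π, hπ⟩ : ∃ π : P.O, P.1 (π : K) = exp (-1) :=
    ⟨⟨unif P, by rw [mem_O_iff, val_unif]; exact (exp_le_exp.2 (by norm_num)).trans exp_zero.le⟩, val_unif P⟩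
  have hπ0 : (π : K) ≠ 0 := fun h => exp_ne_zero (a := (-1 : ℤ)) (by rw [← hπ, h, map_zero])
  have hdvd : ∀ a : P.O, ¬ IsUnit a → π ∣ a := by
    intro a ha
    have h0 := (mem_maximalIdeal_iff P a).1 ((IsLocalRing.mem_maximalIdeal _).2 ha)
    have h1 : P.1 ((a : K) / π) ≤ 1 := by
      rw [map_div₀, hπ, div_le_one₀ exp_pos]
      rcases eq_or_ne (P.1 (a : K)) 0 with h1 | h1
      · rw [h1]; exact zero_le
      · rw [← exp_log h1] at h0
        have h2 := exp_lt_exp.1 (h0.trans_eq exp_zero.symm)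
        rw [← exp_log h1, exp_le_exp]; omega
    exact ⟨⟨_, h1⟩, Subtype.ext (mul_div_cancel₀ (a : K) hπ0).symm⟩
  let T := Finset.univ.filter fun i => b i ∉ N
  have hrow : ∀ i ∈ T, ∀ z ∈ N, π ∣ b.repr z i := by
    intro i hi z hz
    by_cases hr : i ∈ Set.range snf.f
    · obtain ⟨j, rfl⟩ := hr
      have h1 := snf.repr_apply_embedding_eq_repr_smul ⟨z, hz⟩ (i := j)
      rw [h1, map_smul, Finsupp.smul_apply, smul_eq_mul]
      refine dvd_mul_of_dvd_left (hdvd _ fun hu => ?_) _
      obtain ⟨u, hu⟩ := hu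
      have h2 : ((u⁻¹ : P.Oˣ) : P.O) • (snf.bN j : R) = b (snf.f j) := by
        rw [snf.snf, smul_smul, ← hu, Units.inv_mul, one_smul]
      exact (Finset.mem_filter.1 hi).2 (h2 ▸ N.smul_mem _ (snf.bN j).2)
    · rw [snf.repr_eq_zero_of_notMem_range ⟨z, hz⟩ hr]
      exact dvd_zero π
  let tR : R := ⟨t, (hmem t).2 ht⟩
  let M := Algebra.leftMulMatrix b tR
  have hMN : ∀ i ∈ T, ∀ j, π ∣ M i j := by
    intro i hi j
    show π ∣ (Algebra.leftMulMatrix b tR) i j
    rw [Algebra.leftMulMatrix_eq_repr_mul]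
    refine hrow i hi _ ?_
    show Q.1 (t * (b j : K')) < 1
    rw [map_mul]
    exact (mul_le_of_le_one_right' ((hmem _).1 (b j).2 Q hQ)).trans_lt htQ
  let d : _ → P.O := fun i => if i ∈ T then π else 1
  have hdvd' : ∀ i j, d i ∣ M i j := fun i j => by
    by_cases hi : i ∈ T
    · simpa [d, hi] using hMN i hi j
    · simp [d, hi]
  choose A hA using hdvd'
  have hdet : π ^ T.card ∣ M.det := by
    refine ⟨(Matrix.of A).det, ?_⟩
    have : M = Matrix.of fun i j => d i * Matrix.of A i j := by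
      exact Matrix.ext fun i j => hA i j
    rw [this, Matrix.det_mul_column]
    simp [d, Finset.prod_ite_mem]
  -- the norm is the determinant
  have hli : LinearIndependent K fun i => ((b i : R) : K') :=
    (LinearIndependent.iff_fractionRing P.O K).1
      (b.linearIndependent.map' R.toSubmodule.subtype (Submodule.ker_subtype _))
  have hsp : ⊤ ≤ Submodule.span K (Set.range fun i => ((b i : R) : K')) := by
    rintro x -
    obtain ⟨⟨c, hc⟩, hx⟩ : ∃ c : nonZeroDivisors P.O, IsIntegral P.O ((c : P.O) • x) := by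
      have : Algebra.IsAlgebraic P.O K := IsLocalization.isAlgebraic K (nonZeroDivisors P.O)
      have : Algebra.IsAlgebraic P.O K' := Algebra.IsAlgebraic.trans P.O K K'
      obtain ⟨c, hc, hx⟩ := (Algebra.IsAlgebraic.isAlgebraic (R := P.O) x).exists_integral_multiple
      exact ⟨⟨c, mem_nonZeroDivisors_of_ne_zero hc⟩, hx⟩
    have h1 := b.sum_repr ⟨_, hx⟩
    have h2 := congrArg R.val h1
    rw [map_sum] at h2
    have hc0 : (c : K) ≠ 0 := fun h => nonZeroDivisors.ne_zero hc (Subtype.ext h)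
    have h3 : x = (c : K)⁻¹ • ((c : K) • x) := by rw [smul_smul, inv_mul_cancel₀ hc0, one_smul]
    rw [h3]
    refine Submodule.smul_mem _ _ ?_
    have h4 : (c : K) • x = R.val ⟨_, hx⟩ := algebraMap_smul K c x
    rw [h4, ← h2]
    refine Submodule.sum_mem _ fun i _ => ?_
    rw [map_smul, ← algebraMap_smul K]
    exact Submodule.smul_mem _ _ (Submodule.subset_span ⟨i, rfl⟩)
  let bK := Module.Basis.mk hli hsp
  have hnorm : Algebra.norm K t = algebraMap P.O K M.det := by
    rw [Algebra.norm_eq_matrix_det bK, RingHom.map_det]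
    congr 1
    ext i j
    rw [Algebra.leftMulMatrix_eq_repr_mul, RingHom.mapMatrix_apply, Matrix.map_apply]
    have h1 := congrArg R.val (b.sum_repr (tR * b j))
    rw [map_sum] at h1
    have h2 : t * bK j = ∑ l, (algebraMap P.O K (b.repr (tR * b j) l)) • bK l := by
      simp only [bK, Module.Basis.mk_apply]
      refine h1.symm.trans (Finset.sum_congr rfl fun l _ => ?_)
      rw [map_smul, algebraMap_smul]
      rfl
    rw [h2, Module.Basis.repr_sum_self]
    exact congrArg (algebraMap P.O K) (Algebra.leftMulMatrix_eq_repr_mul b tR i j).symm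
  have hNt : Algebra.norm K t ≠ 0 := Algebra.norm_ne_zero_iff.2 ht0
  obtain ⟨m, hm⟩ := hdet
  have hord : (T.card : ℤ) ≤ P.ord (Algebra.norm K t) := by
    rw [hnorm, hm, map_mul, map_pow] at hNt ⊢
    have h1 : (algebraMap P.O K π) ^ T.card ≠ 0 := left_ne_zero_of_mul hNt
    rw [ord_mul P h1 (right_ne_zero_of_mul hNt), ord_pow]
    have h2 : P.ord (algebraMap P.O K π) = 1 := by
      show P.ord (π : K) = 1
      rw [ord_eq_of_val_eq_exp P hπ]; norm_num
    have h3 : 0 ≤ P.ord (algebraMap P.O K m) := ord_nonneg_of_le P m.2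
    rw [h2]
    omega
  -- residues span
  have hfinP : FiniteDimensional k (IsLocalRing.ResidueField P.O) :=
    Module.finite_of_finrank_pos (Existence.deg_pos hK P)
  let bP := Module.finBasis k (IsLocalRing.ResidueField P.O)
  choose l hl using fun j => IsLocalRing.residue_surjective (bP j)
  have hbO : ∀ i, ((b i : R) : K') ∈ Q.O := fun i => (hmem _).1 (b i).2 Q hQ
  have hlO : ∀ a : P.O, algebraMap K K' (a : K) ∈ Q.O := fun a => by
    obtain ⟨e, he⟩ := hQ
    show Q.1 _ ≤ 1
    rw [he]; exact pow_le_one₀ zero_le a.2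
  let g : T × Fin (Module.finrank k (IsLocalRing.ResidueField P.O)) → IsLocalRing.ResidueField Q.O :=
    fun p => IsLocalRing.residue Q.O (⟨_, hlO (l p.2)⟩ * ⟨_, hbO p.1⟩)
  let σ : P.O →+* Q.O := ((algebraMap K K').comp P.O.subtype).codRestrict Q.O.toSubring hlO
  have hspanQ : ⊤ ≤ Submodule.span k (Set.range g) := by
    rintro y -
    obtain ⟨y₀, rfl⟩ := IsLocalRing.residue_surjective y
    obtain ⟨z, hz⟩ := Approx.approximation (Ext.finite_over (K' := K') hK P).toFinset
      (fun S => if S = Q then (y₀ : K') else 0) (fun S => if S = Q then -1 else 0)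
    have hzR : z ∈ R := (hmem z).2 fun S hS => by
      have h1 := hz S ((Ext.finite_over hK P).mem_toFinset.2 hS)
      by_cases hSQ : S = Q
      · subst hSQ
        rw [if_pos rfl, if_pos rfl] at h1
        have h2 := S.1.map_add (z - y₀) y₀
        rw [sub_add_cancel] at h2
        exact h2.trans (max_le (h1.trans ((exp_le_exp.2 (by norm_num)).trans exp_zero.le)) y₀.2)
      · rw [if_neg hSQ, if_neg hSQ, sub_zero] at h1
        exact h1.trans exp_zero.le
    have hres : IsLocalRing.residue Q.O y₀ = IsLocalRing.residue Q.O ⟨z, (hmem z).1 hzR Q hQ⟩ := by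
      rw [← sub_eq_zero, ← map_sub, res_eq_zero_iff]
      have h1 := hz Q ((Ext.finite_over hK P).mem_toFinset.2 hQ)
      rw [if_pos rfl, if_pos rfl] at h1
      show Q.1 ((y₀ : K') - z) < 1
      rw [Valuation.map_sub_swap]
      exact h1.trans_lt ((exp_lt_exp.2 (by norm_num)).trans_eq exp_zero)
    have hsum : (⟨z, (hmem z).1 hzR Q hQ⟩ : Q.O) = ∑ i, σ (b.repr ⟨z, hzR⟩ i) * ⟨_, hbO i⟩ := by
      refine Subtype.ext ((congrArg R.val (b.sum_repr ⟨z, hzR⟩)).symm.trans ?_)
      rw [map_sum, AddSubmonoidClass.coe_finsetSum]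
      refine Finset.sum_congr rfl fun i _ => ?_
      rw [map_smul, Algebra.smul_def, H81.IntClosure.algebraMap_O]
      rfl
    rw [hres, hsum, map_sum]
    refine Submodule.sum_mem _ fun i _ => ?_
    by_cases hi : i ∈ T
    · have hc : IsLocalRing.residue P.O (b.repr ⟨z, hzR⟩ i -
          ∑ j, algebraMap k P.O (bP.repr (IsLocalRing.residue P.O (b.repr ⟨z, hzR⟩ i)) j) * l j) = 0 := by
        rw [map_sub, map_sum, sub_eq_zero]
        refine (bP.sum_repr _).symm.trans (Finset.sum_congr rfl fun j _ => ?_)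
        rw [map_mul, hl]
        exact Algebra.smul_def _ (bP j)
      have hσ : ∀ a : P.O, IsLocalRing.residue P.O a = 0 → IsLocalRing.residue Q.O (σ a) = 0 := by
        intro a ha
        rw [res_eq_zero_iff] at ha ⊢
        obtain ⟨e, he⟩ := hQ
        show Q.1 (algebraMap K K' (a : K)) < 1
        rw [he]
        exact pow_lt_one₀ zero_le ha (Ext.pos_of_isOverWith he).ne'
      have h1 := hσ _ hc
      rw [map_sub, map_sub, sub_eq_zero] at h1
      rw [map_mul, h1, map_sum, map_sum, Finset.sum_mul]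
      refine Submodule.sum_mem _ fun j _ => ?_
      have h2 : IsLocalRing.residue Q.O (σ (algebraMap k P.O (bP.repr (IsLocalRing.residue P.O (b.repr ⟨z, hzR⟩ i)) j) * l j)) *
          IsLocalRing.residue Q.O ⟨_, hbO i⟩ =
          (bP.repr (IsLocalRing.residue P.O (b.repr ⟨z, hzR⟩ i)) j) • g (⟨i, hi⟩, j) := by
        have h3 : ∀ c : k, σ (algebraMap k P.O c) = algebraMap k Q.O c := fun c => Subtype.ext (by
          show algebraMap K K' ((algebraMap k P.O c : P.O) : K) = _
          rw [coe_algebraMap_O, coe_algebraMap_O, ← IsScalarTower.algebraMap_apply])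
        rw [map_mul σ, h3, map_mul, mul_assoc, ← map_mul, Algebra.smul_def]
        rfl
      rw [h2]
      exact Submodule.smul_mem _ _ (Submodule.subset_span ⟨_, rfl⟩)
    · have h1 : Q.1 ((b i : R) : K') < 1 := by simpa [T, N] using hi
      have h2 : IsLocalRing.residue Q.O ⟨_, hbO i⟩ = 0 := (res_eq_zero_iff Q _).2 h1
      rw [map_mul, h2, mul_zero]
      exact zero_mem _
  have hdeg : Q.deg ≤ T.card * P.deg := by
    show Module.finrank k _ ≤ _
    rw [← finrank_top, ← eq_top_iff.2 hspanQ]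
    refine (finrank_range_le_card g).trans ?_
    simp [FunFld.Place.deg]
  calc (Q.deg : ℤ) ≤ (T.card * P.deg : ℕ) := by exact_mod_cast hdeg
    _ = (P.deg : ℤ) * T.card := by push_cast; ring
    _ ≤ _ := mul_le_mul_of_nonneg_left hord (Int.natCast_nonneg _)

/-- The divisor norm of a principal divisor is the principal divisor of the field norm:
`v_P(N_{K'/K}(x)) = ∑_{Q|P} f(Q|P) v_Q(x)`, written with `f(Q|P) deg P = deg_k Q`. -/
theorem result (k K K' : Type*) [Field k] [Field K] [Field K'] [Algebra k K] [Algebra K K'] [Algebra k K']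
    [IsScalarTower k K K'] [FiniteDimensional K K'] (hK : FunFld.IsFunctionField k K) (hg : FunFld.IsGeometric k K) (P : FunFld.Place k K) (x : K')
    (Qs : Finset (FunFld.Place k K')) (hQs : ∀ Q, Q ∈ Qs ↔ FunFld.IsOver Q P) :
    (P.deg : ℤ) * P.ord (Algebra.norm K x) = ∑ Q ∈ Qs, (Q.deg : ℤ) * Q.ord x := by
  classical
  have hset : ∀ Q, Q ∈ Qs ↔ Q ∈ (Ext.finite_over (K' := K') hK P).toFinset := fun Q => by
    rw [hQs, Set.Finite.mem_toFinset]; rfl
  let Λ : K' → ℤ := fun z => (P.deg : ℤ) * P.ord (Algebra.norm K z) - ∑ Q ∈ Qs, (Q.deg : ℤ) * Q.ord z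
  have hmul : ∀ a b : K', a ≠ 0 → b ≠ 0 → Λ (a * b) = Λ a + Λ b := by
    intro a b ha hb
    simp only [Λ]
    rw [map_mul, ord_mul P (Algebra.norm_ne_zero_iff.2 ha) (Algebra.norm_ne_zero_iff.2 hb), mul_add]
    have : ∑ Q ∈ Qs, (Q.deg : ℤ) * Q.ord (a * b) =
        ∑ Q ∈ Qs, (Q.deg : ℤ) * Q.ord a + ∑ Q ∈ Qs, (Q.deg : ℤ) * Q.ord b := by
      rw [← Finset.sum_add_distrib]
      exact Finset.sum_congr rfl fun Q _ => by rw [ord_mul Q ha hb, mul_add]
    rw [this]; ring
  have hunit : ∀ u : K', (∀ Q ∈ Qs, Q.ord u = 0) → Λ u = 0 := by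
    intro u hu
    rcases eq_or_ne u 0 with rfl | hu0
    · simp [Λ, Algebra.norm_zero]
    have h1 : 0 ≤ P.ord (Algebra.norm K u) := ord_nonneg_of_le P (norm_le_one hK P fun Q hQ =>
      (val_le_one_iff Q).2 (hu Q ((hQs Q).2 hQ)).ge)
    have h2 : 0 ≤ P.ord (Algebra.norm K u⁻¹) := ord_nonneg_of_le P (norm_le_one hK P fun Q hQ =>
      (val_le_one_iff Q).2 (by rw [ord_inv, hu Q ((hQs Q).2 hQ)]; exact le_of_eq neg_zero.symm))
    rw [Algebra.norm_inv, ord_inv] at h2
    simp only [Λ]
    rw [Finset.sum_eq_zero fun Q hQ => by rw [hu Q hQ, mul_zero], show P.ord (Algebra.norm K u) = 0 by omega]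
    simp
  choose a ha using fun Q : FunFld.Place k K' => exists_val_eq_exp Q (-1)
  have hex : ∀ Q₀ ∈ Qs, ∃ t : K', t ≠ 0 ∧ ∀ Q ∈ Qs, Q.ord t = if Q = Q₀ then 1 else 0 := by
    intro Q₀ hQ₀
    obtain ⟨z, hz⟩ := Approx.approximation Qs (fun Q => if Q = Q₀ then a Q else 1)
      (fun Q => if Q = Q₀ then -2 else -1)
    have hval : ∀ Q ∈ Qs, Q.1 z = exp (if Q = Q₀ then -1 else 0) := by
      intro Q hQ
      have h1 := hz Q hQ
      by_cases h : Q = Q₀
      · rw [if_pos h, if_pos h] at h1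
        rw [if_pos h, ← ha Q]
        exact Q.1.map_eq_of_sub_lt (h1.trans_lt (by rw [ha Q, exp_lt_exp]; norm_num))
      · rw [if_neg h, if_neg h] at h1
        rw [if_neg h]
        have h2 : Q.1 z = Q.1 (1 : K') := Q.1.map_eq_of_sub_lt (h1.trans_lt (by
          rw [map_one]; exact (exp_lt_exp.2 (by norm_num)).trans_eq exp_zero))
        rw [h2, map_one, exp_zero]
    refine ⟨z, fun h0 => exp_ne_zero (by rw [← hval Q₀ hQ₀, h0, map_zero]), fun Q hQ => ?_⟩
    rw [ord_eq_of_val_eq_exp Q (hval Q hQ)]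
    split_ifs <;> simp
  choose! t ht0 htord using hex
  have hzero_eq : ∀ z : K', z ≠ 0 → Λ z = ∑ Q ∈ Qs, Q.ord z * Λ (t Q) := by
    intro z hz
    have hpow : ∀ (n : ℤ) (w : K'), w ≠ 0 → Λ (w ^ n) = n * Λ w := by
      intro n w hw
      simp only [Λ]
      rw [show Algebra.norm K (w ^ n) = Algebra.norm K w ^ n from ?_, ord_zpow, mul_sub, Finset.mul_sum]
      congr 1
      · ring
      · exact Finset.sum_congr rfl fun Q _ => by rw [ord_zpow]; ring
      · cases n with
        | ofNat m => simp [map_pow]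
        | negSucc m => rw [zpow_negSucc, zpow_negSucc, Algebra.norm_inv, map_pow]
    have hprod : ∀ s ⊆ Qs, (∏ Q ∈ s, t Q ^ Q.ord z) ≠ 0 ∧
        Λ (∏ Q ∈ s, t Q ^ Q.ord z) = ∑ Q ∈ s, Q.ord z * Λ (t Q) ∧
        ∀ R ∈ Qs, R.ord (∏ Q ∈ s, t Q ^ Q.ord z) = if R ∈ s then R.ord z else 0 := by
      intro s
      induction s using Finset.induction_on with
      | empty => exact fun _ => ⟨by simp, by simpa using hunit 1 fun Q _ => ord_one Q, by simp⟩
      | insert Q s hQs' ih =>
        intro hs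
        rw [Finset.insert_subset_iff] at hs
        obtain ⟨h0, h1, h2⟩ := ih hs.2
        have h3 : t Q ^ Q.ord z ≠ 0 := zpow_ne_zero _ (ht0 Q hs.1)
        simp only [Finset.prod_insert hQs', Finset.sum_insert hQs']
        refine ⟨mul_ne_zero h3 h0, by rw [hmul _ _ h3 h0, hpow _ _ (ht0 Q hs.1), h1], fun R hR => ?_⟩
        rw [ord_mul R h3 h0, ord_zpow, htord Q hs.1 R hR, h2 R hR]
        by_cases h : R = Q
        · subst h; simp [hQs']
        · simp [h]
    obtain ⟨h0, h1, h2⟩ := hprod Qs subset_rfl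
    have hu := hunit (z / ∏ Q ∈ Qs, t Q ^ Q.ord z) fun R hR => by
      rw [ord_div R hz h0, h2 R hR, if_pos hR, sub_self]
    have h3 := hmul _ _ (div_ne_zero hz h0) h0
    rw [div_mul_cancel₀ _ h0, hu, h1, zero_add] at h3
    exact h3
  have hnonneg : ∀ Q ∈ Qs, 0 ≤ Λ (t Q) := by
    intro Q hQ
    have h1 := deg_le hK P Q ((hQs Q).1 hQ) (ht0 Q hQ)
      ((val_lt_one_iff Q).2 (Or.inr (by rw [htord Q hQ Q hQ, if_pos rfl]; norm_num))) fun R hR =>
        (val_le_one_iff R).2 (by rw [htord Q hQ R ((hQs R).2 hR)]; split_ifs <;> norm_num)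
    simp only [Λ]
    rw [Finset.sum_eq_single_of_mem Q hQ fun R hR hne => by rw [htord Q hQ R hR, if_neg hne, mul_zero],
      htord Q hQ Q hQ, if_pos rfl, mul_one]
    omega
  obtain ⟨hfin, hsum⟩ := Ext.sum_ramIdx_mul_deg (K' := K') hK P
  have hordπ : ∀ Q ∈ Qs, Q.ord (algebraMap K K' (unif P)) = FunFld.ramIdx Q P := by
    intro Q hQ
    rw [Ext.ord_map (Ext.isOverWith_ramIdx ((hQs Q).1 hQ)), ord_eq_of_val_eq_exp P (val_unif P)]
    ring
  have hπ0 : algebraMap K K' (unif P) ≠ 0 := (map_ne_zero _).2 (unif_ne_zero P)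
  have hπ : Λ (algebraMap K K' (unif P)) = 0 := by
    simp only [Λ]
    rw [Algebra.norm_algebraMap, ord_pow, ord_eq_of_val_eq_exp P (val_unif P), sub_eq_zero]
    rw [Finset.sum_congr rfl fun Q hQ => by rw [hordπ Q hQ]]
    have h4 : Qs = hfin.toFinset := Finset.ext fun Q => by rw [hQs, Set.Finite.mem_toFinset]; rfl
    rw [h4]
    have h5 : ((∑ Q ∈ hfin.toFinset, FunFld.ramIdx Q P * Q.deg : ℕ) : ℤ) =
        ((Module.finrank K K' * P.deg : ℕ) : ℤ) := by rw [hsum]
    push_cast at h5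
    rw [show (P.deg : ℤ) * ((Module.finrank K K' : ℤ) * -(-1)) = (Module.finrank K K' : ℤ) * P.deg by ring, ← h5]
    exact Finset.sum_congr rfl fun Q _ => mul_comm _ _
  rw [hzero_eq _ hπ0, Finset.sum_eq_zero_iff_of_nonneg fun Q hQ =>
    mul_nonneg (by rw [hordπ Q hQ]; exact Int.natCast_nonneg _) (hnonneg Q hQ)] at hπ
  have hfinal : Λ x = 0 := by
    rcases eq_or_ne x 0 with rfl | hx
    · simp [Λ, Algebra.norm_zero]
    rw [hzero_eq x hx]
    refine Finset.sum_eq_zero fun Q hQ => ?_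
    have h1 := hπ Q hQ
    rw [hordπ Q hQ, mul_eq_zero] at h1
    rcases h1 with h1 | h1
    · have := Ext.pos_of_isOverWith (Ext.isOverWith_ramIdx ((hQs Q).1 hQ)); omega
    · rw [h1, mul_zero]
  exact sub_eq_zero.1 hfinal

end Groth.Agent.S11033
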