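import Groth.Statements.S12165
import Groth.Agent.Lib.ProjQ.Props

set_option autoImplicit false
universe u
open CategoryTheory CategoryTheory.Limits AlgebraicGeometry TopologicalSpace Opposite
open scoped HomogeneousIdeal
noncomputable section
open EGA2

namespace Groth.Agent.S12165

/-- Let φ : 𝒜 → ℬ be a (TN)-surjective graded homomorphism of quasi-coherent positively graded
O_Y-algebras (φ : 𝒜_k → ℬ_k surjective for all large k, on sections over affine opens), PA =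
Proj(𝒜), PB = Proj(ℬ) with their charts. Then Proj(φ) is defined on all of PB and is a closed
immersion PB → PA. -/
theorem result {Y PA PB : Scheme.{u}} (𝒜 ℬ : RelProj.QCGrAlg Y)
    (φ : 𝒜.toQCAlg ⟶ ℬ.toQCAlg) (hφ : RelProj.IsGradedHom φ)
    (hTN : ∃ n : ℕ, ∀ k, n ≤ k → ∀ (U : Y.Opens) (hU : IsAffineOpen U), ∀ y ∈ ℬ.deg U hU k,
      ∃ x ∈ 𝒜.deg U hU k, (φ.hom.app (op U)).hom x = y)
    (pA : PA ⟶ Y) (chartA : ∀ (U : Y.Opens) (hU : IsAffineOpen U), (((pA ⁻¹ᵁ U : PA.Opens) : Scheme.{u}) ≅ Proj (𝒜.deg U hU)))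
    (hA : RelProj.IsRelProj 𝒜 pA chartA)
    (pB : PB ⟶ Y) (chartB : ∀ (U : Y.Opens) (hU : IsAffineOpen U), (((pB ⁻¹ᵁ U : PB.Opens) : Scheme.{u}) ≅ Proj (ℬ.deg U hU)))
    (hB : RelProj.IsRelProj ℬ pB chartB) :
    RelProj.domQ (RelProj.QGrHom.ofHom φ hφ) pB chartB = ⊤ ∧
      ∀ h : PB ⟶ PA, RelProj.IsProjQMap (RelProj.QGrHom.ofHom φ hφ) pA chartA pB chartB h →
        IsClosedImmersion h := by
  open Groth.Agent.Lib.ProjQ in
  obtain ⟨n, hn⟩ := hTN
  have hs : ∀ (U : Y.Opens) (hU : IsAffineOpen U) (k : ℕ), n ≤ k → ∀ b ∈ ℬ.deg U hU k, ∃ a ∈ 𝒜.deg U hU k,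
      RelProj.gradedHomAt φ hφ U hU a = b := fun U hU k hk b hb => hn k hk U hU b hb
  refine ⟨domQ_eq_top fun y => ?_, fun h hh => ?_⟩
  · obtain ⟨U, hU, hy, -⟩ := exists_isAffineOpen_mem_and_subset (X := Y) (U := ⊤) (x := y) trivial
    refine ⟨U, hU, U, hU, le_rfl, hy, ?_⟩
    rw [gradedAt_ofHom]
    exact domOpen_eq_top_of_tnSurjective _ (hs U hU)
  · refine of_charts' @IsClosedImmersion hA hB hh (fun U hU => hU) fun i hi => ?_
    obtain ⟨U, hU, U', hU', hle, d, hd, f, hf⟩ := i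
    change U' = U at hi
    subst hi
    refine IsClosedImmersion.spec_of_surjective _ (awayMap_surjective _ (n := n) (fun k hk b hb => ?_) hd hf)
    obtain ⟨a, ha, e⟩ := hs _ hU k hk b hb
    exact ⟨a, ha, (congr($(gradedAt_ofHom φ hφ _ hU) a)).trans e⟩

end Groth.Agent.S12165
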