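import Groth.Statements.S8258
import Groth.Agent.H81.RelProj.Exists

set_option autoImplicit false
universe u
open CategoryTheory CategoryTheory.Limits AlgebraicGeometry Opposite TopologicalSpace
open scoped HomogeneousIdeal
open EGA2

namespace Groth.Agent.S8258

/-- Existence of the relative homogeneous spectrum: let Y be a scheme and 𝒮 a quasi-coherent positively
graded O_Y-algebra. There are a scheme P over Y and isomorphisms of p⁻¹(U) with Proj 𝒮(U) for all
affine opens U of Y, each lying over U and compatible with the restriction maps to basic opens D(r)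
⊆ U (the data pinning Proj(𝒮) → Y). -/
theorem result {Y : Scheme.{u}} (𝒮 : RelProj.QCGrAlg Y) :
    ∃ (P : Scheme.{u}) (p : P ⟶ Y)
      (chart : ∀ (U : Y.Opens) (hU : IsAffineOpen U), (((p ⁻¹ᵁ U : P.Opens) : Scheme.{u}) ≅ Proj (𝒮.deg U hU))),
      RelProj.IsRelProj 𝒮 p chart := by
  exact ⟨_, _, H81.RelProj.Exists.chart 𝒮, H81.RelProj.Exists.isRelProj 𝒮⟩

end Groth.Agent.S8258
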