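import Groth.Statements.S8458
import Groth.Agent.H82.Contract.Commute

set_option autoImplicit false
universe u
open CategoryTheory MonoidalCategory CartesianMonoidalCategory MonObj GrpObj AlgebraicGeometry CategoryTheory.Limits
open Red
open Groth.Agent.Lib.RedPts Groth.Agent.H82.BigCell Groth.Agent.H82.Contract
open Groth.Agent.H82.RankOne (P P_eq P_comp)

namespace Groth.Agent.S8458

/-- Let G be a split reductive S-group with splitting D (root homomorphisms u_c : 𝔾_a ⟶ G for all roots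
c) and let a, b be two roots with a + b ≠ 0 such that a + b is not a root. Then u_a(x) u_b(y) =
u_b(y) u_a(x) for all points x, y of 𝔾_a with values in any S-scheme. -/
theorem result (S : Scheme.{u}) (G : Over S) [GrpObj G] (D : Red.SplitRed G)
    (a b : D.idx) (h0 : D.P.root a + D.P.root b ≠ 0) (hab : D.P.root a + D.P.root b ∉ Set.range D.P.root)
    (X : Over S) (x y : X ⟶ Red.Ga S) :
    (x ≫ D.u a) * (y ≫ D.u b) = (y ≫ D.u b) * (x ≫ D.u a) := by
  haveI : D.P.IsCrystallographic := ⟨fun i j => ⟨D.P.pairing i j, by simp⟩⟩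
  refine Groth.Agent.H82.BigCell.pt_ext_affine fun j => ?_
  let Y := piece X j
  haveI : IsAffine Y.left := inferInstanceAs (IsAffine (X.left.affineCover.X j))
  let c := pieceHom X j
  obtain ⟨d, -, hd⟩ := exists_toExt (MvPolynomial.C : Γ(Y.left, ⊤) →+* MvPolynomial (Fin 2) Γ(Y.left, ⊤)) (𝟙 Y)
    (MvPolynomial.eval₂Hom (RingHom.id _) ![Red.gaFn (c ≫ x), Red.gaFn (c ≫ y)]) (by
      refine RingHom.ext fun r => ?_
      rw [RingHom.comp_apply, MvPolynomial.eval₂Hom_C]
      simp)
  have h := congrArg (d ≫ ·) (comm_univ h0 hab Y)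
  simp only [comm_comp, MonObj.comp_one] at h
  rw [hd, hd, MvPolynomial.eval₂Hom_X', MvPolynomial.eval₂Hom_X'] at h
  change (P (D.u a) (Red.gaFn (c ≫ x))) * (P (D.u b) (Red.gaFn (c ≫ y))) *
    (P (D.u a) (Red.gaFn (c ≫ x)))⁻¹ * (P (D.u b) (Red.gaFn (c ≫ y)))⁻¹ = 1 at h
  rw [mul_inv_eq_one, mul_inv_eq_iff_eq_mul, ← P_eq, ← P_eq, Category.assoc, Category.assoc] at h
  rw [MonObj.comp_mul, MonObj.comp_mul]
  exact h

end Groth.Agent.S8458
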