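import Groth.Statements.S4131
import Groth.Agent.H82.BigCell.Main
import Groth.Agent.Lib.Tori.Character
import Groth.Agent.Lib.Tori.Comm
import Groth.Agent.Lib.RedPts.BC

set_option autoImplicit false
universe u
open CategoryTheory MonoidalCategory CartesianMonoidalCategory MonObj GrpObj AlgebraicGeometry CategoryTheory.Limits
open Red
open Groth.Agent.Lib.RedPts Groth.Agent.H82 Groth.Agent.H82.BigCell
open Groth.Agent.H82.RankOne (P P_eq P_comp gmPt_eq gmPt_comp)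

namespace Groth.Agent.S4131

section aux

variable {S : Scheme.{u}} {G T : Over S} [GrpObj G] [GrpObj T] {i : T ⟶ G} {α : T ⟶ Red.Gm S}
  {pp pm : Red.Ga S ⟶ G} [IsMonHom i] [IsMonHom α] [IsMonHom pp] [IsMonHom pm]

theorem cell_iff_factor (H : Hyp i α pp pm) {X : Over S} (f : X ⟶ G) :
    (∃ w : X ⟶ (Red.Ga S ⊗ T) ⊗ Red.Ga S, w ≫ Φ i pp pm = f) ↔ ∃ A B C, Cell i pp pm f A B C := by
  constructor
  · rintro ⟨w, rfl⟩
    rw [H.exists_cell_iff]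
    rintro _ ⟨p, rfl⟩
    exact ⟨w.left p, rfl⟩
  · rintro ⟨A, B, C, h⟩
    exact ⟨trip A B C, (trip_Φ i pp pm A B C).trans h.symm⟩

theorem conjP_of (hpp : ∀ (X : Over S) (t : X ⟶ T) (x : X ⟶ Red.Ga S), ∃ x' : X ⟶ Red.Ga S,
      x' ≫ pp = (t ≫ i) * (x ≫ pp) * (t ≫ i)⁻¹ ∧ Red.gaFn x' = Red.gmFn (t ≫ α) * Red.gaFn x)
    {X : Over S} (t : X ⟶ T) (a : Γ(X.left, ⊤)) :
    (t ≫ i) * P pp a = P pp (Red.gmFn (t ≫ α) * a) * (t ≫ i) := by
  obtain ⟨x', h, h'⟩ := hpp X t (Ga.gaPt a)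
  rw [Ga.gaFn_gaPt] at h'
  rw [P_eq, h', P_eq, Ga.gaFn_gaPt] at h
  rw [h, inv_mul_cancel_right]

theorem conjM_of (hpm : ∀ (X : Over S) (t : X ⟶ T) (y : X ⟶ Red.Ga S), ∃ y' : X ⟶ Red.Ga S,
      y' ≫ pm = (t ≫ i) * (y ≫ pm) * (t ≫ i)⁻¹ ∧ Red.gaFn y' * Red.gmFn (t ≫ α) = Red.gaFn y)
    {X : Over S} (t : X ⟶ T) (b : Γ(X.left, ⊤)) :
    (t ≫ i) * P pm b = P pm (Red.gmFn (t ≫ α⁻¹) * b) * (t ≫ i) := by
  obtain ⟨y', h, h'⟩ := hpm X t (Ga.gaPt b)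
  rw [Ga.gaFn_gaPt] at h'
  have : Red.gaFn y' = Red.gmFn (t ≫ α⁻¹) * b := by
    rw [GrpObj.comp_inv, ← h', mul_left_comm, Gm.gmFn_inv_mul_gmFn, _root_.mul_one]
  rw [P_eq, this, P_eq, Ga.gaFn_gaPt] at h
  rw [h, inv_mul_cancel_right]

variable (H : Hyp i α pp pm) (hunit : ∀ X : Over S, IsUnit (H.lam X) ∧ IsUnit (H.mu X))

/-- The universal unit. -/
noncomputable def uniUnit : Γ((Red.Gm S).left, ⊤)ˣ := (Gm.isUnit_gmFn (𝟙 (Red.Gm S))).unit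

/-- The coroot. -/
noncomputable def av : Red.Gm S ⟶ T := H.avPt hunit (uniUnit (S := S))

theorem gmPt_av {X : Over S} (u : Γ(X.left, ⊤)ˣ) : Gm.gmPt u ≫ av H hunit = H.avPt hunit u := by
  rw [av, H.avPt_comp hunit]
  congr 1
  ext
  change (Gm.gmPt u).left.appTop (uniUnit (S := S) : Γ((Red.Gm S).left, ⊤)) = _
  rw [uniUnit, IsUnit.unit_spec, ← Gm.gmFn_comp, Category.comp_id, Gm.gmFn_gmPt]

theorem comp_av {X : Over S} (z : X ⟶ Red.Gm S) :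
    z ≫ av H hunit = H.avPt hunit (Gm.isUnit_gmFn z).unit := by
  conv_lhs => rw [gmPt_eq z (Gm.isUnit_gmFn z).unit_spec.symm]
  exact gmPt_av H hunit _

theorem isMonHom_av : IsMonHom (av H hunit) := by
  have hmul : ∀ {X : Over S} (z₁ z₂ : X ⟶ Red.Gm S),
      (z₁ * z₂) ≫ av H hunit = (z₁ ≫ av H hunit) * (z₂ ≫ av H hunit) := fun z₁ z₂ => by
    rw [comp_av, comp_av, comp_av, ← H.avPt_mul hunit]
    congr 1
    ext
    simp [Gm.gmFn_mul]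
  refine { one_hom := ?_, mul_hom := ?_ }
  · have h1 : η[Red.Gm S] = Gm.gmPt (1 : Γ((𝟙_ (Over S)).left, ⊤)ˣ) := by
      rw [RankOne.gmPt_one, Hom.one_def, toUnit_unique (toUnit _) (𝟙 _), Category.id_comp]
    have h2 : H.avPt hunit (1 : Γ((𝟙_ (Over S)).left, ⊤)ˣ) = 1 := by
      have h := H.avPt_mul hunit (1 : Γ((𝟙_ (Over S)).left, ⊤)ˣ) 1
      rw [_root_.mul_one] at h
      exact left_eq_mul.1 h
    rw [h1, gmPt_av, h2, Hom.one_def, toUnit_unique (toUnit _) (𝟙 _), Category.id_comp]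
  · have h := hmul (fst (Red.Gm S) (Red.Gm S)) (snd _ _)
    have e : fst (Red.Gm S) (Red.Gm S) * snd _ _ = μ[Red.Gm S] := by simp [Hom.mul_def]
    rw [e] at h
    rw [h, Hom.mul_def, CartesianMonoidalCategory.lift_fst_comp_snd_comp]

theorem av_sq : av H hunit ≫ α = (𝟙 (Red.Gm S)) ^ 2 :=
  Gm.gmFn_injective (by rw [av, H.avPt_sq hunit, Gm.gmFn_pow, uniUnit, IsUnit.unit_spec, pow_two])

theorem dual_units {X : Over S} [IsAffine X.left] (l : Γ(X.left, ⊤)) :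
    ∃ u : Γ((dual X).left, ⊤)ˣ, (u : Γ((dual X).left, ⊤)) = dfn X 1 l :=
  ⟨⟨dfn X 1 l, dfn X 1 (-l), by rw [dfn_mul]; simp [dfn_one], by rw [dfn_mul]; simp [dfn_one]⟩, rfl⟩

end aux

/-- Let G be an S-group scheme, i : T → G a subtorus, α : T → 𝔾_m a character which is non-trivial on
every geometric fibre, and p₊, p₋ : 𝔾_a → G homomorphisms which are monomorphisms normalised by T
with multipliers α and α⁻¹ (i(t) p₊(x) i(t)⁻¹ = p₊(α(t)x), i(t) p₋(y) i(t)⁻¹ = p₋(α(t)⁻¹y)). Assume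
(i) the morphism 𝔾_a ×_S T ×_S 𝔾_a → G, (y, t, x) ↦ p₋(y)·i(t)·p₊(x), is an open immersion, with
image Ω, and (ii) on every geometric fibre the images of p₊ and p₋ do not commute. Then there is
exactly one pair (a, α*) consisting of an S-point a of 𝔾_m and a homomorphism α* : 𝔾_m → T such that
for every S-scheme X and all points x, y of 𝔾_a with values in X: p₊(x)p₋(y) lies in Ω if and only
if 1 + a·x·y is a unit (as a function on X), and in that case p₊(x)p₋(y) = p₋(y')·i(α*(z))·p₊(x')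
where z = 1 + axy, y'·z = y and x'·z = x; moreover α ∘ α* is the squaring map of 𝔾_m. -/
theorem result (S : Scheme.{u}) (G T : Over S) [GrpObj G] [GrpObj T] (i : T ⟶ G)
    [IsMonHom i] [Mono i] (hT : Red.IsTorus T) (α : T ⟶ Red.Gm S) [IsMonHom α]
    (hα : ∀ s : S, (Over.pullback (Red.geomPt s)).map α ≠ 1)
    (pp pm : Red.Ga S ⟶ G) [IsMonHom pp] [Mono pp] [IsMonHom pm] [Mono pm]
    (hpp : ∀ (X : Over S) (t : X ⟶ T) (x : X ⟶ Red.Ga S), ∃ x' : X ⟶ Red.Ga S,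
      x' ≫ pp = (t ≫ i) * (x ≫ pp) * (t ≫ i)⁻¹ ∧ Red.gaFn x' = Red.gmFn (t ≫ α) * Red.gaFn x)
    (hpm : ∀ (X : Over S) (t : X ⟶ T) (y : X ⟶ Red.Ga S), ∃ y' : X ⟶ Red.Ga S,
      y' ≫ pm = (t ≫ i) * (y ≫ pm) * (t ≫ i)⁻¹ ∧ Red.gaFn y' * Red.gmFn (t ≫ α) = Red.gaFn y)
    (hΩ : IsOpenImmersion (((pm ⊗ₘ i) ⊗ₘ pp) ≫ (μ[G] ▷ G) ≫ μ[G]).left)
    (hnc : ∀ s : S, ∃ (X : Over (Spec (CommRingCat.of (AlgebraicClosure (S.residueField s)))))
      (x y : X ⟶ Red.bc (Red.geomPt s) (Red.Ga S)),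
      (x ≫ (Over.pullback (Red.geomPt s)).map pp) * (y ≫ (Over.pullback (Red.geomPt s)).map pm) ≠
        (y ≫ (Over.pullback (Red.geomPt s)).map pm) * (x ≫ (Over.pullback (Red.geomPt s)).map pp)) :
    ∃! q : (𝟙_ (Over S) ⟶ Red.Gm S) × (Red.Gm S ⟶ T), IsMonHom q.2 ∧ q.2 ≫ α = (𝟙 (Red.Gm S)) ^ 2 ∧
      ∀ (X : Over S) (x y : X ⟶ Red.Ga S),
        ((∃ w : X ⟶ (Red.Ga S ⊗ T) ⊗ Red.Ga S, w ≫ (((pm ⊗ₘ i) ⊗ₘ pp) ≫ (μ[G] ▷ G) ≫ μ[G]) = (x ≫ pp) * (y ≫ pm)) ↔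
          IsUnit (1 + Red.gmFn (toUnit X ≫ q.1) * Red.gaFn x * Red.gaFn y)) ∧
        (IsUnit (1 + Red.gmFn (toUnit X ≫ q.1) * Red.gaFn x * Red.gaFn y) →
          ∃ (x' y' : X ⟶ Red.Ga S) (z : X ⟶ Red.Gm S),
            Red.gmFn z = 1 + Red.gmFn (toUnit X ≫ q.1) * Red.gaFn x * Red.gaFn y ∧
            Red.gaFn x' * Red.gmFn z = Red.gaFn x ∧ Red.gaFn y' * Red.gmFn z = Red.gaFn y ∧
            (x ≫ pp) * (y ≫ pm) = (y' ≫ pm) * (z ≫ q.2 ≫ i) * (x' ≫ pp)) := by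
  obtain ⟨hfl, hsu⟩ := Groth.Agent.Lib.Tori.Character.flat_surjective_of_geomFibres α hT hα
  let H : Hyp i α pp pm :=
    { openImm := hΩ
      monoI := inferInstance
      comm := fun a b => Groth.Agent.Lib.Tori.Comm.mul_comm_of_isTorus hT a b
      conjP := fun t a => conjP_of hpp t a
      conjM := fun t b => conjM_of hpm t b
      lift := fun z => Groth.Agent.Lib.Tori.Character.exists_lift α z }
  have hnc' : ∀ s : S, ∃ (Y : Over S) (_ : Y ⟶ Over.mk (Red.geomPt s)) (x y : Γ(Y.left, ⊤)),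
      P pp x * P pm y ≠ P pm y * P pp x := fun s => by
    obtain ⟨X, x, y, hxy⟩ := hnc s
    refine ⟨(Over.map (Red.geomPt s)).obj X, Over.homMk X.hom rfl, Red.gaFn (BC.down _ x),
      Red.gaFn (BC.down _ y), fun h => hxy (BC.down_injective ?_)⟩
    simp only [BC.down_mul, BC.down_map, P_eq]
    exact h
  have hunit := fun X => H.isUnit_lam_mu hT hnc' X
  let q₁ : 𝟙_ (Over S) ⟶ Red.Gm S := Gm.gmPt (hunit (𝟙_ (Over S))).1.unit
  have hq₁ : ∀ X : Over S, Red.gmFn (toUnit X ≫ q₁) = H.lam X := fun X => by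
    simp only [q₁]
    rw [Gm.gmFn_comp, Gm.gmFn_gmPt, IsUnit.unit_spec, H.lam_comp]
  have hmain : ∀ (X : Over S) (x y : X ⟶ Red.Ga S),
      IsUnit (1 + H.lam X * Red.gaFn x * Red.gaFn y) → ∀ (K : Γ(X.left, ⊤)ˣ),
      (K : Γ(X.left, ⊤)) = 1 + H.lam X * Red.gaFn x * Red.gaFn y →
      Dec i pp pm (Red.gaFn x) (Red.gaFn y) (Red.gaFn y * (↑K⁻¹ : Γ(X.left, ⊤))) (H.avPt hunit K)
        (Red.gaFn x * (↑K⁻¹ : Γ(X.left, ⊤))) := fun X x y _ K hK => H.dec_main hunit _ _ K hK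
  refine ⟨(q₁, av H hunit), ⟨isMonHom_av H hunit, av_sq H hunit, fun X x y => ?_⟩, ?_⟩
  · rw [hq₁]
    refine ⟨⟨fun ⟨w, hw⟩ => ?_, fun hu => ?_⟩, fun hu => ?_⟩
    · obtain ⟨A, B, C, h⟩ := (cell_iff_factor H _).1 ⟨w, hw⟩
      exact H.isUnit_of_cell hunit _ _ ⟨A, B, C, by rw [Dec, ← P_eq, ← P_eq]; exact h⟩
    · have h := hmain X x y hu hu.unit hu.unit_spec
      rw [Dec, ← P_eq pp x, ← P_eq pm y] at h
      exact (cell_iff_factor H _).2 ⟨_, _, _, h⟩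
    · refine ⟨Ga.gaPt (Red.gaFn x * (↑hu.unit⁻¹ : Γ(X.left, ⊤))),
        Ga.gaPt (Red.gaFn y * (↑hu.unit⁻¹ : Γ(X.left, ⊤))), Gm.gmPt hu.unit, ?_, ?_, ?_, ?_⟩
      · rw [Gm.gmFn_gmPt, IsUnit.unit_spec]
      · rw [Ga.gaFn_gaPt, Gm.gmFn_gmPt, Units.inv_mul_cancel_right]
      · rw [Ga.gaFn_gaPt, Gm.gmFn_gmPt, Units.inv_mul_cancel_right]
      · have h := hmain X x y hu hu.unit hu.unit_spec
        rw [Dec, ← P_eq pp x, ← P_eq pm y] at h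
        rw [h, P_eq, P_eq, Ga.gaFn_gaPt, Ga.gaFn_gaPt, ← Category.assoc, gmPt_av]
  · rintro ⟨p₁, p₂⟩ ⟨hp₂, -, hp⟩
    have hl : ∀ X : Over S, Red.gmFn (toUnit X ≫ p₁) = H.lam X := fun X => by
      refine fn_ext_affine fun X' c hX' => ?_
      rw [← Gm.gmFn_comp, ← Category.assoc, toUnit_unique (c ≫ toUnit X) (toUnit X'), H.lam_comp]
      haveI := hX'
      have hc : (extHom X' (inl X')).left.appTop (Red.gmFn (toUnit X' ≫ p₁)) =
          Red.gmFn (toUnit (dual X') ≫ p₁) := by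
        rw [← Gm.gmFn_comp, ← Category.assoc, toUnit_unique (_ ≫ toUnit X') (toUnit (dual X'))]
      have hc' := H.lam_comp (extHom X' (inl X'))
      rw [extHom_dual] at hc hc'
      generalize Red.gmFn (toUnit X' ≫ p₁) = l' at hc ⊢
      generalize H.lam X' = l at hc' ⊢
      obtain ⟨K', hK'⟩ := dual_units (X := X') l'
      obtain ⟨K, hK⟩ := dual_units (X := X') l
      have hd' : (1 : Γ((dual X').left, ⊤)) +
          Red.gmFn (toUnit (dual X') ≫ p₁) * Red.gaFn (Ga.gaPt (1 : Γ((dual X').left, ⊤))) *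
            Red.gaFn (Ga.gaPt (dfn X' 0 1)) = K' := by
        rw [Ga.gaFn_gaPt, Ga.gaFn_gaPt, ← hc, hK', ← dfn_one, dfn_mul, dfn_mul, dfn_add]; simp
      obtain ⟨x', y', z, hz, hx', -, h⟩ := (hp (dual X') (Ga.gaPt 1) (Ga.gaPt (dfn X' 0 1))).2
        (hd' ▸ K'.isUnit)
      have h0 := H.dec_main hunit (1 : Γ((dual X').left, ⊤)) (dfn X' 0 1) K (by
        rw [← hc', hK, ← dfn_one, dfn_mul, dfn_mul, dfn_add]; simp)
      rw [P_eq, P_eq, Ga.gaFn_gaPt, Ga.gaFn_gaPt, P_eq pm y', P_eq pp x', ← Category.assoc] at h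
      have e := (H.unique h h0).2.2
      rw [hd'] at hz
      rw [hz, e, Ga.gaFn_gaPt, _root_.one_mul, Units.inv_mul_eq_one] at hx'
      rw [hK, hK'] at hx'
      exact (dfn_inj X' hx').2.symm
    have e₁ : p₁ = q₁ := Gm.gmFn_injective (by
      have h := (hl (𝟙_ (Over S))).trans (hq₁ _).symm
      rwa [toUnit_unique (toUnit (𝟙_ (Over S))) (𝟙 _), Category.id_comp, Category.id_comp] at h)
    have key : ∀ {X : Over S} (u : Γ(X.left, ⊤)ˣ), Gm.gmPt u ≫ p₂ = H.avPt hunit u := fun {X} u => by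
      let x : Γ(X.left, ⊤) := ((u : Γ(X.left, ⊤)) - 1) * (↑(hunit X).1.unit⁻¹ : Γ(X.left, ⊤))
      have hu' : (u : Γ(X.left, ⊤)) = 1 + H.lam X * x * 1 := by
        linear_combination -(((u : Γ(X.left, ⊤)) - 1) * (hunit X).1.mul_val_inv)
      have hd' : (1 : Γ(X.left, ⊤)) + Red.gmFn (toUnit X ≫ p₁) * Red.gaFn (Ga.gaPt x) *
          Red.gaFn (Ga.gaPt (1 : Γ(X.left, ⊤))) = u := by
        rw [Ga.gaFn_gaPt, Ga.gaFn_gaPt, hl, hu']
      obtain ⟨x', y', z, hz, -, -, h⟩ := (hp X (Ga.gaPt x) (Ga.gaPt 1)).2 (hd' ▸ u.isUnit)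
      have h0 := H.dec_main hunit x 1 u hu'
      rw [P_eq, P_eq, Ga.gaFn_gaPt, Ga.gaFn_gaPt, P_eq pm y', P_eq pp x', ← Category.assoc] at h
      rw [hd'] at hz
      rw [← gmPt_eq z hz]
      exact (H.unique h h0).2.1
    refine Prod.ext e₁ ?_
    rw [← Category.id_comp p₂, gmPt_eq (𝟙 (Red.Gm S)) (Gm.isUnit_gmFn _).unit_spec.symm, key]
    rfl

end Groth.Agent.S4131
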