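import Groth.Statements.S2963
import Groth.Agent.H82.Weyl.Transport
-- import your own Groth.Agent.* helpers here

set_option autoImplicit false
open CategoryTheory MonoidalCategory CartesianMonoidalCategory MonObj GrpObj AlgebraicGeometry
universe u
open RedX

namespace Groth.Agent.S2963

/-- With conjugacy of maximal tori over the algebraically closed base field carried as a hypothesis (the
published statement takes it as known): let k be an algebraically closed field and G a reductive
k-group in which any maximal torus is carried into any other by conjugation by some k-point of G.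
Then the root data of any two splittings of G are isomorphic (an equivalence of root pairings in
Mathlib's sense). -/
theorem result (k : Type u) [Field k] [IsAlgClosed k]
    (G : Over (Spec (CommRingCat.of k))) [GrpObj G] (hG : Red.IsReductive G)
    (hconj : ∀ (T T' : Over (Spec (CommRingCat.of k))) [GrpObj T] [GrpObj T'] (i : T ⟶ G) (i' : T' ⟶ G),
      Red.IsMaximalTorus i → Red.IsMaximalTorus i' → ∃ g : 𝟙_ (Over (Spec (CommRingCat.of k))) ⟶ G,
        ∀ (X : Over (Spec (CommRingCat.of k))) (t : X ⟶ T), ∃ t' : X ⟶ T',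
          (toUnit X ≫ g) * (t ≫ i) * (toUnit X ≫ g)⁻¹ = t' ≫ i')
    (D D' : Red.SplitRed G) : Nonempty (RootPairing.Equiv D.P D'.P) := by
  classical
  obtain ⟨g, hg⟩ := hconj D.T D'.T D.i D'.i D.maximalTorus D'.maximalTorus
  obtain ⟨c, hc⟩ := Groth.Agent.H82.Weyl.exists_carry (D := D) (D' := D') g hg
  obtain ⟨c', hc'⟩ := Groth.Agent.H82.Weyl.exists_carry (D := D') (D' := D) g⁻¹
    (Groth.Agent.H82.Weyl.exists_inverse g hg)
  let Y : Over (Spec (CommRingCat.of k)) := 𝟙_ _
  haveI : IsAffine Y.left := inferInstanceAs (IsAffine (Spec (CommRingCat.of k)))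
  haveI : Nontrivial Γ(Y.left, ⊤) :=
    ((Scheme.ΓSpecIso (CommRingCat.of k)).commRingCatIsoToRingEquiv).toEquiv.nontrivial
  haveI : ConnectedSpace Y.left := inferInstanceAs (ConnectedSpace (PrimeSpectrum k))
  have h1 : c'.g = c.g⁻¹ := by rw [hc', hc]
  have h2 : c.g = c'.g⁻¹ := by rw [hc', hc, _root_.inv_inv]
  choose σ hσ using c.exists_root c' h1 Y
  choose τ hτ using c'.exists_root c h2 Y
  have hσ' : ∀ a, c'.φ (D.P.root a) = D'.P.root (σ a) := fun a => by
    rw [← hσ a, c'.comp_eq c h2 Y]
  have hτ' : ∀ b, c.φ (D'.P.root b) = D.P.root (τ b) := fun b => by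
    rw [← hτ b, c.comp_eq c' h1 Y]
  let e : D.idx ≃ D'.idx :=
    { toFun := σ
      invFun := τ
      left_inv := fun a => D.P.root.injective (by rw [← hτ', hσ])
      right_inv := fun b => D'.P.root.injective (by rw [← hσ', hτ]) }
  refine ⟨
    { weightMap := c'.φ.toIntLinearMap
      coweightMap := c'.φ.toIntLinearMap.dualMap
      indexEquiv := e
      weight_coweight_transpose := ?_
      root_weightMap := funext fun a => hσ' a
      coroot_coweightMap := funext fun b => LinearMap.ext fun x => ?_
      bijective_weightMap := ⟨fun x y h => ?_, fun x => ⟨c.φ x, c'.comp_eq c h2 Y x⟩⟩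
      bijective_coweightMap := ?_ }⟩
  · refine LinearMap.ext fun f => LinearMap.ext fun x => ?_
    simp [D.pairing_eq, D'.pairing_eq]
  · have h3 := c.coroot_eq c' h1 Y (a := e.symm b) (b := b) (hτ' b) x
    simpa [RootPairing.coroot', D.pairing_eq, D'.pairing_eq] using h3
  · rw [← c.comp_eq c' h1 Y x, ← c.comp_eq c' h1 Y y]
    exact congrArg c.φ h
  · refine ⟨fun f f' h => LinearMap.ext fun x => ?_, fun f => ⟨f.comp c.φ.toIntLinearMap, LinearMap.ext fun x => ?_⟩⟩
    · rw [← c'.comp_eq c h2 Y x]
      exact LinearMap.congr_fun h (c.φ x)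
    · exact congrArg f (c.comp_eq c' h1 Y x)

end Groth.Agent.S2963
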