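import Groth.Statements.S8406
import Groth.Agent.Lib.SmWeil.TorusCommutator
import Groth.Agent.Lib.SmWeil.FieldTori
import Groth.Agent.Lib.GrpQ.AffKer
import Groth.Agent.H1.Classical.CentralizerRed
import Groth.Agent.H1.Classical.MaxTorusApply
import Groth.Agent.H56.GeomDescent
import Groth.Agent.H1.Classical.Smooth

set_option autoImplicit false
universe u
open CategoryTheory MonoidalCategory CartesianMonoidalCategory MonObj GrpObj AlgebraicGeometry
open SGA3x

namespace Groth.Agent.S8406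

open Groth.Agent.Lib Groth.Agent.Lib.RedPts

section
variable {k : Type u} [Field k] [IsAlgClosed k] {Q T : Over (Spec (CommRingCat.of k))} [GrpObj Q] [GrpObj T]

/-- The image of a torus in an affine group lies in a maximal torus. -/
theorem exists_maxTorus_over [IsAffine Q.left] [Smooth Q.hom] [ConnectedSpace Q.left] (hT : Red.IsTorus T)
    (f : T ⟶ Q) [IsMonHom f] :
    ∃ (M : Over (Spec (CommRingCat.of k))) (_ : GrpObj M) (m : M ⟶ Q) (w : T ⟶ M), AGF.IsMaxTorus m ∧ w ≫ m = f := by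
  obtain ⟨r, ⟨e⟩⟩ := H87.TorusIn.exists_split T hT
  let E := Lib.Tori.BaseChange.overIso e
  haveI : IsMonHom E.inv := inferInstanceAs (IsMonHom (Lib.Tori.BaseChange.overIso e.symm).hom)
  obtain ⟨N, jN, hj, hjm, hfac⟩ := H87.KerField.exists_image (E.inv ≫ f)
  haveI := hj
  haveI := hjm
  obtain ⟨M, hM, m, s, hmax, hs⟩ :=
    H1.Classical.CentralizerRed.exists_maxTorus_ge jN (H87.TorusIn.isTorus_DS N)
  exact ⟨M, hM, m, E.hom ≫ Red.DSmap _ N.subtype ≫ s, hmax, by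
    rw [Category.assoc, Category.assoc, hs, hfac, Iso.hom_inv_id_assoc]⟩

end

/-- Let G be a smooth connected algebraic group (not necessarily affine) over an algebraically closed
field k. Then any two maximal tori of G are conjugate by an element of G(k). -/
theorem result (k : Type u) [Field k] [IsAlgClosed k]
    (G : Over (Spec (CommRingCat.of k))) [GrpObj G] [Smooth G.hom] [QuasiCompact G.hom] [ConnectedSpace ↥G.left]
    (T₁ T₂ : Over (Spec (CommRingCat.of k))) [GrpObj T₁] [GrpObj T₂] (i₁ : T₁ ⟶ G) (i₂ : T₂ ⟶ G)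
    (h₁ : Red.IsMaximalTorus i₁) (h₂ : Red.IsMaximalTorus i₂) :
    ∃ g : 𝟙_ (Over (Spec (CommRingCat.of k))) ⟶ G, SGA3x.ConjBy i₁ i₂ g := by
  haveI := GrpSch.isSeparated_of_field G
  obtain ⟨_, hρ⟩ := GrpQ.Affinization.exists_grp G
  obtain ⟨hsur, hflat, hlft⟩ := GrpQ.Affinization.rho_faithfullyFlat G
  let Q := GrpQ.Affinization.aff G
  let ρ : G ⟶ Q := GrpQ.Affinization.rho G
  haveI : IsMonHom ρ := hρ
  haveI : Surjective ρ.left := hsur
  haveI : Flat ρ.left := hflat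
  haveI : LocallyOfFiniteType Q.hom := hlft
  haveI : IsReduced G.left := GrpSch.isReduced_of_smooth_field G.hom
  haveI : IsReduced Q.left := H56.GeomDescent.isReduced_of_flat_surjective ρ.left
  haveI : Smooth Q.hom := by
    haveI : GrpObj (Over.mk (GrpQ.Affinization.aff G).hom) := inferInstanceAs (GrpObj (GrpQ.Affinization.aff G))
    exact H1.Classical.Smooth.smooth_of_isReduced (GrpQ.Affinization.aff G).hom
  haveI : ConnectedSpace Q.left := ρ.left.surjective.connectedSpace ρ.left.continuous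
  haveI := h₁.1
  haveI := h₁.2.1
  haveI := h₂.1
  haveI := h₂.2.1
  obtain ⟨M₁, _, m₁, w₁, hM₁, hw₁⟩ := exists_maxTorus_over h₁.2.2.1 (i₁ ≫ ρ)
  obtain ⟨M₂, _, m₂, w₂, hM₂, hw₂⟩ := exists_maxTorus_over h₂.2.2.1 (i₂ ≫ ρ)
  obtain ⟨g₀, φ, hφ⟩ := H1.Classical.MaxTorusApply.maxTorus_conj hM₁ hM₂
  obtain ⟨g, hg⟩ := GrpSch.exists_lift_point ρ g₀
  haveI := hM₂.1
  let a : T₁ ⟶ G := (toUnit T₁ ≫ g) * i₁ * (toUnit T₁ ≫ g)⁻¹
  have ha : ∀ (X : Over (Spec (CommRingCat.of k))) (x : X ⟶ T₁),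
      x ≫ a = (toUnit X ≫ g) * (x ≫ i₁) * (toUnit X ≫ g)⁻¹ := fun X x => by
    simp only [a, MonObj.comp_mul, GrpObj.comp_inv, ← Category.assoc, toUnit_unique (x ≫ toUnit _) (toUnit X)]
  haveI : IsMonHom a := H87.HomDS.isMonHom_of_points a fun X x y => by
    rw [ha, ha, ha, MonObj.mul_comp]
    group
  haveI : Mono a := ⟨fun {X} x y h => by
    rw [ha, ha, mul_left_inj, mul_right_inj] at h
    exact (cancel_mono i₁).1 h⟩
  have haρ : a ≫ ρ = (w₁ ≫ φ.hom) ≫ m₂ := by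
    rw [Category.assoc, hφ, ← hg]
    simp only [a, MonObj.mul_comp, GrpObj.inv_comp, AGF.conjBy, MonObj.comp_mul, GrpObj.comp_inv, hw₁, ← Category.assoc,
      toUnit_unique (w₁ ≫ toUnit _) (toUnit T₁)]
  have hcomm : ∀ (X : Over (Spec (CommRingCat.of k))) (x : X ⟶ T₁) (y : X ⟶ T₂),
      Commute (x ≫ a) (y ≫ i₂) := by
    refine SmWeil.commute_of_central h₁.2.2.1 h₂.2.2.1 a i₂ fun X x y z => ?_
    have hk : ((x ≫ a) * (y ≫ i₂) * (x ≫ a)⁻¹ * (y ≫ i₂)⁻¹) ≫ ρ = 1 := by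
      rw [MonObj.mul_comp, MonObj.mul_comp, MonObj.mul_comp, GrpObj.inv_comp, GrpObj.inv_comp, Category.assoc,
        Category.assoc, haρ, ← hw₂, ← Category.assoc x, ← Category.assoc y, mul_inv_eq_one, mul_inv_eq_iff_eq_mul,
        ← MonObj.mul_comp, ← MonObj.mul_comp, Lib.Tori.Comm.mul_comm_of_isTorus hM₂.2.2.1]
    have := GrpQ.AffKer.commute_of_killed (𝟙 G) _ (show GrpQ.AffKer.Killed _ from hk.trans (by
      rw [Hom.one_def, ← IsMonHom.one_hom (f := ρ)])) z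
    simp only [Category.comp_id] at this
    exact this
  obtain ⟨w, hw⟩ := H87.TorusIn.exists_fac_field i₂ a h₂.2.2.1 h₁.2.2.1
    (fun T' _ j _ _ f hT' hf => SmWeil.maximal_of_isMaximalTorus h₂ j f hT' hf)
    (fun X t r => (hcomm X r t).eq.symm)
  let b : T₂ ⟶ G := (toUnit T₂ ≫ g)⁻¹ * i₂ * (toUnit T₂ ≫ g)
  have hb : ∀ (X : Over (Spec (CommRingCat.of k))) (y : X ⟶ T₂),
      y ≫ b = (toUnit X ≫ g)⁻¹ * (y ≫ i₂) * (toUnit X ≫ g) := fun X y => by
    simp only [b, MonObj.comp_mul, GrpObj.comp_inv, ← Category.assoc, toUnit_unique (y ≫ toUnit _) (toUnit X)]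
  haveI : IsMonHom b := H87.HomDS.isMonHom_of_points b fun X x y => by
    rw [hb, hb, hb, MonObj.mul_comp]
    group
  haveI : Mono b := ⟨fun {X} x y h => by
    rw [hb, hb, mul_left_inj, mul_right_inj] at h
    exact (cancel_mono i₂).1 h⟩
  haveI : IsIso w := SmWeil.maximal_of_isMaximalTorus h₁ b w h₂.2.2.1 (by
    rw [hb, hw]
    simp only [a]
    group)
  exact ⟨g, asIso w, hw.symm⟩

end Groth.Agent.S8406
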