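import Groth.Statements.S9612
import Mathlib.RingTheory.Jacobson.Ring
import Mathlib.RingTheory.PrincipalIdealDomain
import Mathlib.RingTheory.Int.Basic
import Mathlib.Data.Nat.Prime.Int

set_option autoImplicit false
universe u
open CAlg

namespace Groth.Agent.S9612

/-- A finite type ℤ-algebra is a Jacobson ring. -/
theorem result {S : Type u} [CommRing S] [Algebra.FiniteType ℤ S] :
    IsJacobsonRing S := by
  have : IsJacobsonRing ℤ := by
    rw [isJacobsonRing_iff_prime_eq]
    intro P hP
    by_cases h0 : P = ⊥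
    · subst h0
      refine le_antisymm (fun x hx => ?_) bot_le
      rw [Ideal.mem_bot]
      by_contra hx0
      obtain ⟨p, hp, hpp⟩ := Nat.exists_infinite_primes (x.natAbs + 1)
      have hmax : (Ideal.span {(p : ℤ)}).IsMaximal :=
        PrincipalIdealRing.isMaximal_of_irreducible (Nat.prime_iff_prime_int.mp hpp).irreducible
      obtain ⟨c, hc⟩ := Ideal.mem_span_singleton'.mp (Ideal.mem_sInf.mp hx ⟨bot_le, hmax⟩)
      have h2 : p ∣ x.natAbs := ⟨c.natAbs, by rw [← hc, Int.natAbs_mul, Int.natAbs_natCast, mul_comm]⟩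
      have := Nat.le_of_dvd (Int.natAbs_pos.mpr hx0) h2
      omega
    · have := IsPrime.to_maximal_ideal h0
      exact Ideal.jacobson_eq_self_of_isMaximal
  exact isJacobsonRing_of_finiteType (A := ℤ)

end Groth.Agent.S9612
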