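import Groth.Statements.S2974
import Mathlib
import Groth.Agent.H83.Quasi.PairMain
import Groth.Agent.S2969

set_option autoImplicit false
universe u
open TensorProduct SGA3b
open SGA3b

namespace Groth.Agent.S2974

/-- Let R be a henselian local ring and H = Spec A an R-group of multiplicative type and of finite type.
Then H is isotrivial: split by a finite etale faithfully flat R-algebra. (Affine group schemes over
an affine base are taken in Hopf-algebra form; base change is the tensor product.) -/
theorem result (R : Type u) [CommRing R] (A : Type u) [CommRing A] [HopfAlgebra R A] [HenselianLocalRing R] (hft : Algebra.FiniteType R A) (h : IsMultType R A) :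
    IsIsotrivial R A := by
  refine H83.Quasi.isIsotrivial_of_pair hft h (IsLocalRing.maximalIdeal R) ?_
  letI : Field (R ⧸ IsLocalRing.maximalIdeal R) := Ideal.Quotient.field _
  haveI : Algebra.FiniteType (R ⧸ IsLocalRing.maximalIdeal R) ((R ⧸ IsLocalRing.maximalIdeal R) ⊗[R] A) := by
    haveI := hft; infer_instance
  obtain ⟨k', _, _, hfin, hsep, M, _, -, he⟩ := Groth.Agent.S2969.result (R ⧸ IsLocalRing.maximalIdeal R)
    ((R ⧸ IsLocalRing.maximalIdeal R) ⊗[R] A) inferInstance (H83.MultType.isMultType_baseChange _ h)
  haveI := hfin
  haveI := hsep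
  haveI : Algebra.EssFiniteType (R ⧸ IsLocalRing.maximalIdeal R) k' := inferInstance
  haveI : Algebra.FormallyEtale (R ⧸ IsLocalRing.maximalIdeal R) k' := (Algebra.FormallyEtale.iff_isSeparable _ _).mpr hsep
  haveI : Algebra.FinitePresentation (R ⧸ IsLocalRing.maximalIdeal R) k' := Algebra.FinitePresentation.of_finiteType.mp inferInstance
  exact ⟨k', inferInstance, inferInstance, ⟨inferInstance, inferInstance⟩, hfin, inferInstance, M, inferInstance, he⟩

end Groth.Agent.S2974
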