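import Groth.Statements.S2985
import Mathlib
import Groth.Agent.H83.MultType.Rigid

set_option autoImplicit false
universe u
open TensorProduct SGA3b
open SGA3b

namespace Groth.Agent.S2985

/-- Case of a commutative target, over a local base: Let R be a local ring, H = Spec A an R-group of
multiplicative type and of finite type, G = Spec C a commutative affine R-group (C cocommutative)
with C of finite presentation over R, and u, v : H ⟶ G homomorphisms (bialgebra maps φ, ψ : C → A)
which agree on the closed fibre: φ c − ψ c lies in 𝔪A for every c. Then u = v. (Affine group schemes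
over an affine base are taken in Hopf-algebra form; base change is the tensor product.) -/
theorem result (R : Type u) [CommRing R] (A : Type u) [CommRing A] [HopfAlgebra R A] [IsLocalRing R] (hft : Algebra.FiniteType R A) (h : IsMultType R A)
    (C : Type u) [CommRing C] [HopfAlgebra R C] [Coalgebra.IsCocomm R C] (hC : Algebra.FinitePresentation R C)
    (φ ψ : C →ₐc[R] A) (hs : ∀ c : C, φ c - ψ c ∈ Ideal.map (algebraMap R A) (IsLocalRing.maximalIdeal R)) :
    φ = ψ := by
  classical
  refine H83.MultType.eq_of_sub_mem h φ ψ (fun S _ _ f => mul_comm _ _) ?_ hs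
  obtain ⟨T, hT⟩ := (inferInstance : Algebra.FiniteType R C).out
  refine ⟨T.image fun c => φ c - ψ c, le_antisymm (Ideal.span_mono ?_) (Ideal.span_le.mpr ?_)⟩
  · rintro _ hx
    obtain ⟨c, -, rfl⟩ := Finset.mem_image.mp hx
    exact ⟨c, rfl⟩
  · rintro _ ⟨c, rfl⟩
    have hc : c ∈ Algebra.adjoin R (T : Set C) := by rw [hT]; trivial
    induction hc using Algebra.adjoin_induction with
    | mem x hx => exact Ideal.subset_span (Finset.mem_image.mpr ⟨x, hx, rfl⟩)
    | algebraMap r =>
      have e1 : φ (algebraMap R C r) = algebraMap R A r := AlgHomClass.commutes φ r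
      have e2 : ψ (algebraMap R C r) = algebraMap R A r := AlgHomClass.commutes ψ r
      simp [e1, e2]
    | add a b _ _ ha hb =>
      simp only [SetLike.mem_coe] at ha hb ⊢
      rw [map_add, map_add, add_sub_add_comm]; exact add_mem ha hb
    | mul a b _ _ ha hb =>
      simp only [SetLike.mem_coe] at ha hb ⊢
      rw [map_mul, map_mul, show φ a * φ b - ψ a * ψ b = φ a * (φ b - ψ b) + (φ a - ψ a) * ψ b by ring]
      exact add_mem (Ideal.mul_mem_left _ _ hb) (Ideal.mul_mem_right _ _ ha)

end Groth.Agent.S2985
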