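import Groth.Statements.S18467
import Mathlib

set_option autoImplicit false
universe u
open Hopf

namespace Groth.Agent.S18467

/-- Let p be a prime and R a commutative ring containing an element u with u(p − 1) = 1, and let χ be a
homomorphism from the group of units of ℤ/p to the group of units of R such that χ(m) − 1 is a unit
of R for every m ≠ 1. For 0 ≤ i < p − 1 put e_i = u · Σ_m χ(m)^{−i} [m] in the group algebra
R[(ℤ/p)ˣ]. Then the e_i are idempotents, e_i e_j = 0 for i ≠ j, and Σ_i e_i = 1. (The published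
statement is for algebras over the subring of the p-adic integers generated over ℤ by the values of
the Teichmüller character χ and by 1/(p(p − 1)); the hypotheses on R and χ here are the properties
of that situation which the computation uses, so the row is stated for every such pair.) -/
theorem result
    (p : ℕ) [Fact p.Prime] (R : Type u) [CommRing R] (u : R) (hu : u * ((p - 1 : ℕ) : R) = 1)
    (χ : (ZMod p)ˣ →* Rˣ) (hχ : ∀ m : (ZMod p)ˣ, m ≠ 1 → IsUnit ((χ m : R) - 1)) :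
    CompleteOrthogonalIdempotents (fun i : Fin (p - 1) =>
      u • ∑ m : (ZMod p)ˣ, ((χ m⁻¹ : Rˣ) : R) ^ (i : ℕ) • MonoidAlgebra.of R (ZMod p)ˣ m) := by
  classical
  have hcard : Fintype.card (ZMod p)ˣ = p - 1 := ZMod.card_units p
  have hpow : ∀ m : (ZMod p)ˣ, ((χ m : Rˣ) : R) ^ (p - 1) = 1 := fun m => by
    rw [← Units.val_pow_eq_pow_val, ← map_pow, ← hcard, pow_card_eq_one, map_one, Units.val_one]
  -- orthogonality in the group variable
  have hA : ∀ ψ : (ZMod p)ˣ →* Rˣ, (∃ m, IsUnit ((ψ m : R) - 1)) → ∑ m, (ψ m : R) = 0 := by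
    rintro ψ ⟨m, hm⟩
    have h1 : (ψ m : R) * ∑ x, (ψ x : R) = ∑ x, (ψ x : R) := by
      rw [Finset.mul_sum]
      exact Fintype.sum_equiv (Equiv.mulLeft m) _ _ fun x => by simp
    apply hm.mul_left_cancel
    rw [sub_mul, h1, one_mul, sub_self, mul_zero]
  obtain ⟨g, hg⟩ := IsCyclic.exists_generator (α := (ZMod p)ˣ)
  have hord : orderOf g = p - 1 := by
    rw [orderOf_eq_card_of_forall_mem_zpowers hg, Nat.card_eq_fintype_card, hcard]
  have hdiff : ∀ i j : Fin (p - 1), i ≠ j →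
      ∑ m : (ZMod p)ˣ, ((χ m⁻¹ : Rˣ) : R) ^ (i : ℕ) * ((χ m : Rˣ) : R) ^ (j : ℕ) = 0 := by
    intro i j hij
    let ψ : (ZMod p)ˣ →* Rˣ :=
      { toFun := fun m => χ (m⁻¹ ^ (i : ℕ) * m ^ (j : ℕ))
        map_one' := by simp
        map_mul' := fun a b => by
          rw [← map_mul, mul_inv, mul_pow, mul_pow]; congr 1; exact mul_mul_mul_comm _ _ _ _ }
    have hne : g⁻¹ ^ (i : ℕ) * g ^ (j : ℕ) ≠ 1 := by
      intro h
      apply hij
      have h' : g ^ (j : ℕ) = g ^ (i : ℕ) := by rwa [inv_pow, inv_mul_eq_one, eq_comm] at h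
      rw [pow_eq_pow_iff_modEq, hord, Nat.ModEq, Nat.mod_eq_of_lt j.2, Nat.mod_eq_of_lt i.2] at h'
      exact Fin.ext h'.symm
    have := hA ψ ⟨g, hχ _ hne⟩
    simpa [ψ] using this
  refine ⟨⟨fun i => ?_, fun i j hij => ?_⟩, ?_⟩
  rotate_left 2
  · simp only [← Finset.smul_sum]
    rw [Finset.sum_comm]
    rw [Finset.sum_eq_single (1 : (ZMod p)ˣ)]
    · simp only [inv_one, map_one, Units.val_one, one_pow, one_smul, Finset.sum_const, Finset.card_univ,
        Fintype.card_fin]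
      rw [← Nat.cast_smul_eq_nsmul R, smul_smul, hu, one_smul]
    · intro m _ hm
      rw [← Finset.sum_smul]
      have : ∑ i : Fin (p - 1), ((χ m⁻¹ : Rˣ) : R) ^ (i : ℕ) = 0 := by
        rw [Fin.sum_univ_eq_sum_range (fun i => ((χ m⁻¹ : Rˣ) : R) ^ i)]
        apply (hχ m⁻¹ (by simpa using hm)).mul_right_cancel
        rw [geom_sum_mul, hpow, sub_self, zero_mul]
      rw [this, zero_smul]
    · simp
  all_goals
    have key : ∀ i j : Fin (p - 1),
        (u • ∑ m : (ZMod p)ˣ, ((χ m⁻¹ : Rˣ) : R) ^ (i : ℕ) • MonoidAlgebra.of R (ZMod p)ˣ m) *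
          (u • ∑ m : (ZMod p)ˣ, ((χ m⁻¹ : Rˣ) : R) ^ (j : ℕ) • MonoidAlgebra.of R (ZMod p)ˣ m) =
        ((u * u) * ∑ m : (ZMod p)ˣ, ((χ m⁻¹ : Rˣ) : R) ^ (i : ℕ) * ((χ m : Rˣ) : R) ^ (j : ℕ)) •
          ∑ l : (ZMod p)ˣ, ((χ l⁻¹ : Rˣ) : R) ^ (j : ℕ) • MonoidAlgebra.of R (ZMod p)ˣ l := by
      intro i j
      rw [smul_mul_smul_comm, Finset.sum_mul, mul_smul (u * u), Finset.sum_smul]
      congr 1
      refine Finset.sum_congr rfl fun m _ => ?_
      rw [Finset.mul_sum, Finset.smul_sum]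
      refine Fintype.sum_equiv (Equiv.mulLeft m) _ _ fun n => ?_
      rw [Equiv.coe_mulLeft, smul_mul_smul_comm, ← map_mul, smul_smul]
      congr 1
      simp only [mul_inv, map_mul, Units.val_mul, mul_pow]
      have hm1 : ((χ m : Rˣ) : R) ^ (j : ℕ) * ((χ m⁻¹ : Rˣ) : R) ^ (j : ℕ) = 1 := by
        rw [← mul_pow, ← Units.val_mul, ← map_mul, mul_inv_cancel, map_one, Units.val_one, one_pow]
      linear_combination (-((χ m⁻¹ : Rˣ) : R) ^ (i : ℕ) * ((χ n⁻¹ : Rˣ) : R) ^ (j : ℕ)) * hm1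
  · show _ * _ = _
    rw [key]
    have h1 : ∑ m : (ZMod p)ˣ, ((χ m⁻¹ : Rˣ) : R) ^ (i : ℕ) * ((χ m : Rˣ) : R) ^ (i : ℕ) = ((p - 1 : ℕ) : R) := by
      rw [Finset.sum_congr rfl (fun m _ => show _ = (1 : R) by
        rw [← mul_pow, ← Units.val_mul, ← map_mul, inv_mul_cancel, map_one, Units.val_one, one_pow])]
      rw [Finset.sum_const, Finset.card_univ, hcard, nsmul_one]
    rw [h1, mul_assoc, hu, mul_one]
  · show _ * _ = _
    rw [key, hdiff i j hij, mul_zero, zero_smul]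

end Groth.Agent.S18467
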