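import Groth.Statements.S6717
import Groth.Agent.Lib.ResDescend36.Box
import Groth.Agent.Lib.PProj.AffineGen

set_option autoImplicit false
universe u
open CategoryTheory AlgebraicGeometry
open DEquiv

namespace Groth.Agent.S6717

open Groth.Agent.Lib Groth.Agent.Lib.Modules.StalkModule CategoryTheory.Limits
open Groth.Agent.Lib.TensorMod.Basic (tmap)

open CategoryTheory.Limits in
/-- Let R be a commutative ring and X, Y quasi-compact and quasi-separated schemes over R which have the
resolution property. Then for every quasi-coherent O-module F of finite type on X ×_R Y there are a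
finite locally free O_X-module E, a finite locally free O_Y-module G and an epimorphism pr_1^* E ⊗
pr_2^* G ⟶ F. -/
theorem result
    (R : Type u) [CommRing R] (X Y : Scheme.{u}) [X.Over (Spec (.of R))] [Y.Over (Spec (.of R))]
    [CompactSpace X] [QuasiSeparatedSpace X] [CompactSpace Y] [QuasiSeparatedSpace Y]
    (hX : PerfAux.HasResolutionProperty X) (hY : PerfAux.HasResolutionProperty Y)
    (F : (pullback (X ↘ Spec (.of R)) (Y ↘ Spec (.of R))).Modules) (hF : Coh.IsQCoh F) (hF' : CohB1.IsFT F) :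
    ∃ (E : X.Modules) (G : Y.Modules), FlatMod.IsFinLocFree E ∧ FlatMod.IsFinLocFree G ∧
      ∃ π : CohB1.tensorMod
          ((Scheme.Modules.pullback (pullback.fst (X ↘ Spec (.of R)) (Y ↘ Spec (.of R)))).obj E)
          ((Scheme.Modules.pullback (pullback.snd (X ↘ Spec (.of R)) (Y ↘ Spec (.of R)))).obj G) ⟶ F,
        Epi π := by
  classical
  let fA := X ↘ Spec (CommRingCat.of R)
  let fB := Y ↘ Spec (CommRingCat.of R)
  let P := pullback fA fB
  let p : P ⟶ X := pullback.fst fA fB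
  let q : P ⟶ Y := pullback.snd fA fB
  have haff : ∀ (U : X.affineOpens) (V : Y.affineOpens), IsAffineOpen (p ⁻¹ᵁ U.1 ⊓ q ⁻¹ᵁ V.1) := fun U V =>
    (PProj.affine_and_gen p q fA fB pullback.condition
      (by rw [show pullback.lift p q pullback.condition = 𝟙 P by
            apply pullback.hom_ext <;> simp [p, q] <;> exact Category.id_comp _]
          infer_instance)
      U.2 V.2 (isAffineOpen_top _) le_top le_top).1
  haveI : QuasiCompact fA := quasiCompact_iff_compactSpace fA |>.2 inferInstance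
  haveI : QuasiCompact fB := quasiCompact_iff_compactSpace fB |>.2 inferInstance
  haveI : QuasiSeparated fA := (quasiSeparated_iff_quasiSeparatedSpace fA).2 inferInstance
  haveI : QuasiSeparated fB := (quasiSeparated_iff_quasiSeparatedSpace fB).2 inferInstance
  haveI : CompactSpace ↥P := QuasiCompact.compactSpace_of_compactSpace p
  haveI : QuasiSeparatedSpace ↥P := quasiSeparatedSpace_of_quasiSeparated p
  have hpiece : ∀ (U : X.affineOpens) (V : Y.affineOpens), ∃ (A : X.Modules) (B : Y.Modules)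
      (π : ResDescend36.Box.bx p q A B ⟶ F), FlatMod.IsFinLocFree A ∧ FlatMod.IsFinLocFree B ∧
      ∀ z ∈ p ⁻¹ᵁ U.1 ⊓ q ⁻¹ᵁ V.1, Function.Surjective (stalkMapₗ π z) := by
    intro U V
    obtain ⟨E, σ, hE, hσ⟩ := ResDescend36.Box.exists_functional hX U.2
    obtain ⟨G, τ, hG, hτ⟩ := ResDescend36.Box.exists_functional hY V.2
    let a := (Scheme.Modules.pullback p).map σ ≫ (PicLoc.pullbackStructureIso p).hom
    let b := (Scheme.Modules.pullback q).map τ ≫ (PicLoc.pullbackStructureIso q).hom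
    let s := tmap a b ≫ (TensorMod.Basic.leftUnit (Coh.structureModule P)).hom
    have hs : ∀ z, Function.Surjective (stalkMapₗ s z) ↔ z ∈ p ⁻¹ᵁ U.1 ⊓ q ⁻¹ᵁ V.1 := fun z => by
      rw [ResDescend36.Box.surjective_prod_iff, ResDescend36.Box.surjective_pullback_iff hE,
        ResDescend36.Box.surjective_pullback_iff hG, hσ, hτ]
      rfl
    have hbox : ResDescend36.Box.IsBox p q (ResDescend36.Box.bx p q E G) := ⟨E, G, hE, hG, ⟨Iso.refl _⟩⟩
    obtain ⟨k, n, m, π, hπ⟩ := ResDescend36.Boundary2.exists_surjective_on' (haff U V)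
      (TensorMod.LocFree.isFinLocFree_tensorMod (TensorMod.LocFree.isFinLocFree_pullback p hE)
        (TensorMod.LocFree.isFinLocFree_pullback q hG)) s hs F ⟨hF, hF'⟩
    obtain ⟨A, B, hA, hB, ⟨i⟩⟩ := ((ResDescend36.Box.isBox_free (p := p) (q := q) k).tensor
      (ResDescend36.Box.isBox_pw hbox s n)).tensor (ResDescend36.Box.isBox_pw hbox s m)
    exact ⟨A, B, i.hom ≫ π, hA, hB, fun z hz => ResDescend36.Family.stalkMapₗ_comp_surjective _ _
      ((Modules.Stalk.epi_iff_stalk_surjective i.hom).1 inferInstance z) (hπ z hz)⟩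
  choose A B π hA hB hπ using hpiece
  have key : ∀ t : Finset (X.affineOpens × Y.affineOpens), ∃ (E : X.Modules) (G : Y.Modules)
      (π' : ResDescend36.Box.bx p q E G ⟶ F), FlatMod.IsFinLocFree E ∧ FlatMod.IsFinLocFree G ∧
      ∀ c ∈ t, ∀ z ∈ p ⁻¹ᵁ c.1.1 ⊓ q ⁻¹ᵁ c.2.1, Function.Surjective (stalkMapₗ π' z) := by
    intro t
    induction t using Finset.induction with
    | empty =>
      exact ⟨Coh.structureModule X, Coh.structureModule Y, 0, ResDescend36.Box.isFinLocFree_structure X,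
        ResDescend36.Box.isFinLocFree_structure Y, by simp⟩
    | @insert c t hc ih =>
      obtain ⟨E, G, π', hE, hG, hπ'⟩ := ih
      let pA := Scheme.Modules.pullback p
      let pB := Scheme.Modules.pullback q
      let e₁ : A c.1 c.2 ⨿ E ⟶ A c.1 c.2 := coprod.desc (𝟙 _) 0
      let e₂ : A c.1 c.2 ⨿ E ⟶ E := coprod.desc 0 (𝟙 _)
      let g₁ : B c.1 c.2 ⨿ G ⟶ B c.1 c.2 := coprod.desc (𝟙 _) 0
      let g₂ : B c.1 c.2 ⨿ G ⟶ G := coprod.desc 0 (𝟙 _)
      refine ⟨A c.1 c.2 ⨿ E, B c.1 c.2 ⨿ G,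
        tmap (pA.map e₁) (pB.map g₁) ≫ π c.1 c.2 + tmap (pA.map e₂) (pB.map g₂) ≫ π',
        TensorMod.LocFree.isFinLocFree_biprod (hA _ _) hE, TensorMod.LocFree.isFinLocFree_biprod (hB _ _) hG,
        fun d hd z hz => ?_⟩
      haveI : pA.Additive := (Scheme.Modules.pullbackPushforwardAdjunction p).left_adjoint_additive
      haveI : pB.Additive := (Scheme.Modules.pullbackPushforwardAdjunction q).left_adjoint_additive
      rcases Finset.mem_insert.1 hd with rfl | hd
      · refine ResDescend36.Family.surjective_of_comp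
          (tmap (pA.map (coprod.inl : A d.1 d.2 ⟶ _ ⨿ E)) (pB.map (coprod.inl : B d.1 d.2 ⟶ _ ⨿ G))) _ ?_
        rw [Preadditive.comp_add, ← Category.assoc, ← Category.assoc, ← TensorMod.Basic.tmap_comp,
          ← TensorMod.Basic.tmap_comp, ← pA.map_comp, ← pA.map_comp, ← pB.map_comp, ← pB.map_comp]
        simp only [e₁, e₂, g₁, g₂, coprod.inl_desc, pA.map_id, pB.map_id, pA.map_zero, pB.map_zero,
          TensorMod.Basic.tmap_id, Category.id_comp]
        rw [show tmap (0 : pA.obj (A d.1 d.2) ⟶ pA.obj E) (0 : pB.obj (B d.1 d.2) ⟶ pB.obj G) =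
            tmap 0 (𝟙 _) ≫ tmap (𝟙 _) 0 by
          rw [← TensorMod.Basic.tmap_comp, Category.comp_id, Category.id_comp],
          TensorMod.Integral.tmap_zero_left, zero_comp, zero_comp, add_zero]
        exact hπ d.1 d.2 z hz
      · refine ResDescend36.Family.surjective_of_comp
          (tmap (pA.map (coprod.inr : E ⟶ A c.1 c.2 ⨿ E)) (pB.map (coprod.inr : G ⟶ B c.1 c.2 ⨿ G))) _ ?_
        rw [Preadditive.comp_add, ← Category.assoc, ← Category.assoc, ← TensorMod.Basic.tmap_comp,
          ← TensorMod.Basic.tmap_comp, ← pA.map_comp, ← pA.map_comp, ← pB.map_comp, ← pB.map_comp]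
        simp only [e₁, e₂, g₁, g₂, coprod.inr_desc, pA.map_id, pB.map_id, pA.map_zero, pB.map_zero,
          TensorMod.Basic.tmap_id, Category.id_comp]
        rw [show tmap (0 : pA.obj E ⟶ pA.obj (A c.1 c.2)) (0 : pB.obj G ⟶ pB.obj (B c.1 c.2)) =
            tmap 0 (𝟙 _) ≫ tmap (𝟙 _) 0 by
          rw [← TensorMod.Basic.tmap_comp, Category.comp_id, Category.id_comp],
          TensorMod.Integral.tmap_zero_left, zero_comp, zero_comp, zero_add]
        exact hπ' d hd z hz
  obtain ⟨sX, hsX, hcX⟩ := isCompact_and_isOpen_iff_finite_and_eq_biUnion_affineOpens.mp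
    (⟨isCompact_univ, isOpen_univ⟩ : IsCompact (Set.univ : Set X) ∧ IsOpen (Set.univ : Set X))
  obtain ⟨sY, hsY, hcY⟩ := isCompact_and_isOpen_iff_finite_and_eq_biUnion_affineOpens.mp
    (⟨isCompact_univ, isOpen_univ⟩ : IsCompact (Set.univ : Set Y) ∧ IsOpen (Set.univ : Set Y))
  obtain ⟨E, G, π', hE, hG, hπ'⟩ := key (hsX.toFinset ×ˢ hsY.toFinset)
  refine ⟨E, G, hE, hG, π', (Modules.Stalk.epi_iff_stalk_surjective π').2 fun z => ?_⟩
  obtain ⟨U, hU, hzU⟩ := Set.mem_iUnion₂.mp (hcX ▸ Set.mem_univ (p z))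
  obtain ⟨V, hV, hzV⟩ := Set.mem_iUnion₂.mp (hcY ▸ Set.mem_univ (q z))
  exact hπ' (U, V) (Finset.mem_product.2 ⟨hsX.mem_toFinset.2 hU, hsY.mem_toFinset.2 hV⟩) z ⟨hzU, hzV⟩

end Groth.Agent.S6717
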