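import Groth.Statements.S1066
import Groth.Agent.Lib.DerivedOX.BCLoc
import Groth.Agent.Lib.DerivedOX.BCTorInd
import Groth.Agent.Lib.Flat55.FlatChart

set_option autoImplicit false
universe u
open CategoryTheory CategoryTheory.Limits AlgebraicGeometry Opposite
attribute [local instance] HasDerivedCategory.standard
open Perf

namespace Groth.Agent.S1066

attribute [local instance] Groth.Agent.Lib.DerivedOX.LeftExists.hasLpull
  Groth.Agent.Lib.DerivedOX.Exists.hasRpush

open Groth.Agent.Lib Groth.Agent.Lib.DerivedOX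

/-- A module flat over the base is tor independent of every base change. -/
theorem torLoc_of_isFlatOver {X S S' : Scheme.{u}} (f : X ⟶ S) (g : S' ⟶ S) (G : X.Modules)
    (hG : Coh.IsQCoh G) (hflat : FlatMod.IsFlatOver f G) : BCLoc.TorLoc f g G := by
  intro U hU U' hU' eU V hV eV
  haveI : G.IsQuasicoherent := hG
  haveI := QCoh.Pullback.isQCoh_pullback hV.fromSpec G
  let N := (QCoh.Tilde.specΓ Γ(X, V)).obj ((Scheme.Modules.pullback hV.fromSpec).obj G)
  let eN : (tilde.functor Γ(X, V)).obj N ≅ (Scheme.Modules.pullback hV.fromSpec).obj G :=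
    QCoh.Tilde.isoTildeSections ((Scheme.Modules.pullback hV.fromSpec).obj G)
  refine ⟨N, ⟨eN⟩, BCAlg.torInd_of_flat _ _ N ?_⟩
  let φ := f.appLE U V eV
  letI : Algebra Γ(S, U) Γ(X, V) := φ.hom.toAlgebra
  letI : Module Γ(S, U) N := Module.compHom N φ.hom
  haveI : IsScalarTower Γ(S, U) Γ(X, V) N := IsScalarTower.of_algebraMap_smul fun _ _ => rfl
  have w : hV.fromSpec ≫ f = Spec.map φ ≫ hU.fromSpec :=
    (IsAffineOpen.SpecMap_appLE_fromSpec f hU hV eV).symm
  have hc : IsPullback (𝟙 (Spec Γ(X, V))) (Spec.map φ) (Spec.map φ ≫ hU.fromSpec) hU.fromSpec :=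
    ⟨⟨Category.id_comp _⟩, ⟨PullbackCone.IsLimit.mk _ (fun s => s.fst) (fun s => Category.comp_id _)
      (fun s => by rw [← cancel_mono hU.fromSpec, Category.assoc]; exact s.condition)
      (fun s m h1 _ => (Category.comp_id m).symm.trans h1)⟩⟩
  have h : FlatMod.IsFlatOver (Spec.map φ) ((tilde.functor Γ(X, V)).obj N) := fun x => by
    have h1 := (Flat55.FlatOverAt.isFlatOverAt_pullback_iff hV.fromSpec f G x
      (Flat.stalkMap _ _)).2 (hflat (hV.fromSpec x))
    rw [w] at h1
    refine Flat55.FlatOverAt.of_iso _ ((Scheme.Modules.pullbackId _).app _) x ?_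
    exact Flat55.FlatOverAt.isFlatOverAt_baseChange (hc := hc) (x' := x)
      (h := Flat55.FlatOverAt.of_iso _ eN.symm _ h1)
  haveI : Module.Flat Γ(S, U) N :=
    Flat55.FlatChart.flat_of_isFlatOver_tilde Γ(S, U) Γ(X, V) N h
  exact Module.Flat.of_linearEquiv (M := N)
    ({ AddEquiv.refl N with map_smul' := fun _ _ => rfl } :
      (ModuleCat.restrictScalars.{u} φ.hom).obj N ≃ₗ[Γ(S, U)] N)

/-- In the case of a single module and in weak form: let f : X ⟶ S be quasi-compact and quasi-separated,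
E ∈ D(O_X) with quasi-coherent cohomology sheaves, G a quasi-coherent O_X-module flat over S, and g
: S' ⟶ S any morphism, with X' = X ×_S S', projections g' : X' ⟶ X and f' : X' ⟶ S'. Assuming the
derived functors exist, Lg^*Rf_*(E ⊗^L G) and Rf'_*(L(g')^*E ⊗^L (g')^*G) are isomorphic in
D(O_{S'}). (The source proves the canonical base change map is an isomorphism; here only the
existence of an isomorphism is asserted.) -/
theorem result {X S S' : Scheme.{u}} (f : X ⟶ S) [QuasiCompact f] [QuasiSeparated f] (g : S' ⟶ S)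
    (E : DCoh.D X) (hE : DCoh.IsQCohD E) (G : X.Modules) (hG : Coh.IsQCoh G) (hflat : FlatMod.IsFlatOver f G)
    [DCoh.HasLTensorMod G] [DCoh.HasRpush f] [DCoh.HasLpull g]
    [DCoh.HasLpull (pullback.fst f g)] [DCoh.HasRpush (pullback.snd f g)]
    [DCoh.HasLTensorMod ((Scheme.Modules.pullback (pullback.fst f g)).obj G)] :
    Nonempty ((DCoh.Lpull g).obj ((DCoh.Rpush f).obj ((DCoh.LTensorMod G).obj E)) ≅
      (DCoh.Rpush (pullback.snd f g)).obj ((DCoh.LTensorMod ((Scheme.Modules.pullback (pullback.fst f g)).obj G)).obj ((DCoh.Lpull (pullback.fst f g)).obj E))) := by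
  obtain ⟨P, hP, ⟨eP⟩⟩ := QCohLocal.exists_kflat E
  have hPq : DCoh.IsQCohD (DerivedCategory.Q.obj P) := fun i =>
    (Groth.Agent.Lib.WayOut.Scheme.qc _).prop_of_iso
      ((DerivedCategory.homologyFunctor _ i).mapIso eP.symm) (hE i)
  have hsq : IsPullback (pullback.fst f g) (pullback.snd f g) f g := IsPullback.of_hasPullback f g
  haveI := BCLoc.isIso_ψ_tens hsq G hG (torLoc_of_isFlatOver f g G hG hflat) P hP hPq
  obtain ⟨e1⟩ := Amplitude.nonempty_ltensor_iso G hP
  obtain ⟨e2⟩ := Amplitude.nonempty_ltensor_iso ((Scheme.Modules.pullback (pullback.fst f g)).obj G)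
    (KFlatPullback.isKFlat_pullback (pullback.fst f g) hP)
  haveI := PullTranspose.isIso_counitCx (pullback.fst f g) hP
  exact ⟨(DCoh.Lpull g).mapIso ((DCoh.Rpush f).mapIso ((DCoh.LTensorMod G).mapIso eP.symm ≪≫ e1)) ≪≫
    asIso ((BCCube.ψ f g (pullback.snd f g) (pullback.fst f g) hsq.w).app _) ≪≫
    (DCoh.Rpush (pullback.snd f g)).mapIso
      (DerivedCategory.Q.mapIso (BCTens.pullTensC (pullback.fst f g) G P) ≪≫ e2.symm ≪≫
        (DCoh.LTensorMod _).mapIso ((asIso ((PullTranspose.counitCx (pullback.fst f g)).app P)).symm ≪≫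
          (DCoh.Lpull (pullback.fst f g)).mapIso eP))⟩

end Groth.Agent.S1066
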