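import Groth.Statements.S13566
import Groth.Agent.Lib.DerivedOX.FMTools
import Groth.Agent.Lib.Perfect.QCohD


set_option autoImplicit false
universe u
open CategoryTheory AlgebraicGeometry
attribute [local instance] HasDerivedCategory.standard
open DEquiv

namespace Groth.Agent.S13566

set_option linter.style.haveILetI false

open Limits

/-- `X ×_S Y ×_S Z` is the base change of `Y` to `X ×_S Z`. -/
theorem isPullback_p13 {S X Y Z : Scheme.{u}} (a : X ⟶ S) (b : Y ⟶ S) (c : Z ⟶ S) :
    IsPullback (FMK.p12 a b c ≫ pullback.snd a b) (FMK.p13 a b c) b (pullback.fst a c ≫ a) := by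
  have w : (FMK.p12 a b c ≫ pullback.snd a b) ≫ b = FMK.p13 a b c ≫ pullback.fst a c ≫ a := by
    rw [FMK.p13_fst_assoc, Category.assoc, pullback.condition]
  have hl : ∀ (s : PullbackCone b (pullback.fst a c ≫ a)), (s.snd ≫ pullback.fst a c) ≫ a = s.fst ≫ b :=
    fun s => by rw [Category.assoc, ← s.condition]
  have hr : ∀ (s : PullbackCone b (pullback.fst a c ≫ a)), s.fst ≫ b = (s.snd ≫ pullback.snd a c) ≫ c :=
    fun s => s.condition.trans ((congrArg (s.snd ≫ ·) pullback.condition).trans (Category.assoc _ _ _).symm)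
  let L : ∀ (s : PullbackCone b (pullback.fst a c ≫ a)), s.pt ⟶ FMK.T a b c := fun s =>
    pullback.lift (pullback.lift (s.snd ≫ pullback.fst a c) s.fst (hl s))
      (pullback.lift s.fst (s.snd ≫ pullback.snd a c) (hr s))
      (by rw [pullback.lift_snd, pullback.lift_fst])
  have L1 : ∀ s, L s ≫ FMK.p12 a b c = pullback.lift (s.snd ≫ pullback.fst a c) s.fst (hl s) := fun s =>
    pullback.lift_fst _ _ _
  have L2 : ∀ s, L s ≫ FMK.p23 a b c = pullback.lift s.fst (s.snd ≫ pullback.snd a c) (hr s) := fun s =>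
    pullback.lift_snd _ _ _
  refine ⟨⟨w⟩, ⟨PullbackCone.IsLimit.mk _ L (fun s => ?_) (fun s => ?_) fun s m h1 h2 => ?_⟩⟩
  · rw [reassoc_of% L1, pullback.lift_snd]
  · apply pullback.hom_ext
    · rw [Category.assoc, FMK.p13_fst, reassoc_of% L1, pullback.lift_fst]
    · rw [Category.assoc, FMK.p13_snd, reassoc_of% L2, pullback.lift_snd]
  · have k1 := congrArg (· ≫ pullback.fst a c) h2
    have k2 := congrArg (· ≫ pullback.snd a c) h2
    simp only [Category.assoc, FMK.p13_fst, FMK.p13_snd] at k1 k2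
    have k3 : m ≫ FMK.p23 a b c ≫ pullback.fst b c = s.fst :=
      (congrArg (m ≫ ·) (pullback.condition (f := pullback.snd a b) (g := pullback.fst b c)).symm).trans h1
    apply pullback.hom_ext
    · apply pullback.hom_ext
      · exact (Category.assoc _ _ _).trans (k1.trans (((congrArg (· ≫ _) (L1 s)).trans (pullback.lift_fst _ _ _)).symm))
      · exact (Category.assoc _ _ _).trans (h1.trans (((congrArg (· ≫ _) (L1 s)).trans (pullback.lift_snd _ _ _)).symm))
    · apply pullback.hom_ext
      · exact (Category.assoc _ _ _).trans (k3.trans (((congrArg (· ≫ _) (L2 s)).trans (pullback.lift_fst _ _ _)).symm))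
      · exact (Category.assoc _ _ _).trans (k2.trans (((congrArg (· ≫ _) (L2 s)).trans (pullback.lift_snd _ _ _)).symm))

/-- Let X, Y, Z be schemes smooth and proper over S, let K on X ×_S Y and M on Y ×_S Z be complexes of
modules defining perfect objects, and let S' → S be a morphism of schemes, with X', Y', Z' the base
changes of X, Y, Z. The derived functors involved are assumed to exist (instance binders). Then for
every complex K₁ on X' ×_{S'} Y' whose image in the derived category is isomorphic to the derived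
pullback of K along X' ×_{S'} Y' → X ×_S Y, and every complex M₁ on Y' ×_{S'} Z' likewise
representing the derived pullback of M, the derived pullback along X' ×_{S'} Z' → X ×_S Z of the
composite kernel Rpr_{13,*}(Lpr_{12}^* K ⊗^L pr_{23}^* M) is isomorphic in D(O_{X' ×_{S'} Z'}) to
the composite kernel Rpr'_{13,*}(Lpr'^*_{12} K₁ ⊗^L pr'^*_{23} M₁) (existence of an isomorphism; the
projections pr_{23}, pr'_{23} are flat, so the termwise inverse images used are the derived ones). -/
theorem result {S S' X Y Z : Scheme.{u}}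
    (a : X ⟶ S) (b : Y ⟶ S) (c : Z ⟶ S) (g : S' ⟶ S)
    [Smooth a] [IsProper a] [Smooth b] [IsProper b] [Smooth c] [IsProper c]
    (K : CochainComplex (Limits.pullback a b).Modules ℤ) (M : CochainComplex (Limits.pullback b c).Modules ℤ)
    (hK : DCoh.IsPerfect (DCoh.toD _ K)) (hM : DCoh.IsPerfect (DCoh.toD _ M))
    [DCoh.HasLpull (FMK.p12 a b c)] [DCoh.HasLTensorCx ((FMK.cxPull (FMK.p23 a b c)).obj M)] [DCoh.HasRpush (FMK.p13 a b c)]
    [DCoh.HasLpull (Limits.pullback.map (Limits.pullback.snd a g) (Limits.pullback.snd b g) a b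
      (Limits.pullback.fst a g) (Limits.pullback.fst b g) g (Limits.pullback.condition).symm (Limits.pullback.condition).symm)]
    [DCoh.HasLpull (Limits.pullback.map (Limits.pullback.snd b g) (Limits.pullback.snd c g) b c
      (Limits.pullback.fst b g) (Limits.pullback.fst c g) g (Limits.pullback.condition).symm (Limits.pullback.condition).symm)]
    [DCoh.HasLpull (Limits.pullback.map (Limits.pullback.snd a g) (Limits.pullback.snd c g) a c
      (Limits.pullback.fst a g) (Limits.pullback.fst c g) g (Limits.pullback.condition).symm (Limits.pullback.condition).symm)]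
    (K₁ : CochainComplex (Limits.pullback (Limits.pullback.snd a g) (Limits.pullback.snd b g)).Modules ℤ)
    (hK₁ : Nonempty (DCoh.toD _ K₁ ≅ (DCoh.Lpull (Limits.pullback.map (Limits.pullback.snd a g) (Limits.pullback.snd b g) a b
      (Limits.pullback.fst a g) (Limits.pullback.fst b g) g (Limits.pullback.condition).symm (Limits.pullback.condition).symm)).obj (DCoh.toD _ K)))
    (M₁ : CochainComplex (Limits.pullback (Limits.pullback.snd b g) (Limits.pullback.snd c g)).Modules ℤ)
    (hM₁ : Nonempty (DCoh.toD _ M₁ ≅ (DCoh.Lpull (Limits.pullback.map (Limits.pullback.snd b g) (Limits.pullback.snd c g) b c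
      (Limits.pullback.fst b g) (Limits.pullback.fst c g) g (Limits.pullback.condition).symm (Limits.pullback.condition).symm)).obj (DCoh.toD _ M)))
    [DCoh.HasLpull (FMK.p12 (Limits.pullback.snd a g) (Limits.pullback.snd b g) (Limits.pullback.snd c g))] [DCoh.HasLTensorCx ((FMK.cxPull (FMK.p23 (Limits.pullback.snd a g) (Limits.pullback.snd b g) (Limits.pullback.snd c g))).obj M₁)]
    [DCoh.HasRpush (FMK.p13 (Limits.pullback.snd a g) (Limits.pullback.snd b g) (Limits.pullback.snd c g))] :
    Nonempty ((DCoh.Lpull (Limits.pullback.map (Limits.pullback.snd a g) (Limits.pullback.snd c g) a c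
      (Limits.pullback.fst a g) (Limits.pullback.fst c g) g (Limits.pullback.condition).symm (Limits.pullback.condition).symm)).obj (FMK.conv a b c K ((FMK.cxPull (FMK.p23 a b c)).obj M)) ≅
      FMK.conv (Limits.pullback.snd a g) (Limits.pullback.snd b g) (Limits.pullback.snd c g) K₁ ((FMK.cxPull (FMK.p23 (Limits.pullback.snd a g) (Limits.pullback.snd b g) (Limits.pullback.snd c g))).obj M₁)) := by
  let a' := pullback.snd a g
  let b' := pullback.snd b g
  let c' := pullback.snd c g
  let ρab : pullback a' b' ⟶ pullback a b := pullback.map a' b' a b (pullback.fst a g) (pullback.fst b g) g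
    pullback.condition.symm pullback.condition.symm
  let ρbc : pullback b' c' ⟶ pullback b c := pullback.map b' c' b c (pullback.fst b g) (pullback.fst c g) g
    pullback.condition.symm pullback.condition.symm
  let ρac : pullback a' c' ⟶ pullback a c := pullback.map a' c' a c (pullback.fst a g) (pullback.fst c g) g
    pullback.condition.symm pullback.condition.symm
  let ρ : FMK.T a' b' c' ⟶ FMK.T a b c := pullback.map _ _ _ _ ρab ρbc (pullback.fst b g)
    (pullback.lift_snd _ _ _).symm (pullback.lift_fst _ _ _).symm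
  have h12 : ρ ≫ FMK.p12 a b c = FMK.p12 a' b' c' ≫ ρab := pullback.lift_fst _ _ _
  have h23 : ρ ≫ FMK.p23 a b c = FMK.p23 a' b' c' ≫ ρbc := pullback.lift_snd _ _ _
  have w13 : ρ ≫ FMK.p13 a b c = FMK.p13 a' b' c' ≫ ρac := by
    apply pullback.hom_ext
    · simp only [Category.assoc, FMK.p13_fst, reassoc_of% h12, ρac, ρab, pullback.lift_fst,
        FMK.p13_fst_assoc]
    · simp only [Category.assoc, FMK.p13_snd, reassoc_of% h23, ρac, ρbc, pullback.lift_snd,
        FMK.p13_snd_assoc]
  have hsq : IsPullback ρ (FMK.p13 a' b' c') (FMK.p13 a b c) ρac := by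
    refine IsPullback.of_right ?_ w13 (isPullback_p13 a b c)
    have := (isPullback_p13 a' b' c').paste_horiz (IsPullback.of_hasPullback b g)
    convert this using 1
    · rw [reassoc_of% h12, Category.assoc]
      simp only [ρab, pullback.lift_snd]
    · simp only [ρac, pullback.lift_fst_assoc, Category.assoc]
      rw [pullback.condition]
  haveI : Flat a := inferInstance
  haveI : Flat b := inferInstance
  haveI : Flat (FMK.p13 a b c) := MorphismProperty.of_isPullback (isPullback_p13 a b c) ‹Flat b›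
  haveI : QuasiCompact (FMK.p13 a b c) :=
    MorphismProperty.of_isPullback (isPullback_p13 a b c) (inferInstance : QuasiCompact b)
  haveI : QuasiSeparated (FMK.p13 a b c) :=
    MorphismProperty.of_isPullback (isPullback_p13 a b c) (inferInstance : QuasiSeparated b)
  haveI : Flat (FMK.p23 a b c) := inferInstance
  haveI : Flat (FMK.p23 a' b' c') := inferInstance
  haveI := Groth.Agent.Lib.DerivedOX.LeftExists.hasLpull ρ
  haveI := Groth.Agent.Lib.DerivedOX.LeftExists.hasLpull ρac
  haveI := Groth.Agent.Lib.DerivedOX.LeftExists.hasLpull (FMK.p23 a b c)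
  haveI := Groth.Agent.Lib.DerivedOX.LeftExists.hasLpull (FMK.p23 a' b' c')
  haveI := Groth.Agent.Lib.DerivedOX.BCFlat.isIso_counitCx (FMK.p23 a b c) M
  haveI := Groth.Agent.Lib.DerivedOX.BCFlat.isIso_counitCx (FMK.p23 a' b' c') M₁
  haveI := Groth.Agent.Lib.DerivedOX.LeftExists.hasLpull (FMK.p13 a b c)
  haveI := Groth.Agent.Lib.DerivedOX.LeftExists.hasLpull (FMK.p13 a' b' c')
  obtain ⟨eK⟩ := hK₁
  obtain ⟨eM⟩ := hM₁
  obtain ⟨s12⟩ := Groth.Agent.Lib.DerivedOX.FMTools.nonempty_lpullSquare ρ (FMK.p12 a b c)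
    (FMK.p12 a' b' c') ρab h12
  obtain ⟨s23⟩ := Groth.Agent.Lib.DerivedOX.FMTools.nonempty_lpullSquare ρ (FMK.p23 a b c)
    (FMK.p23 a' b' c') ρbc h23
  let cM := asIso ((Groth.Agent.Lib.DerivedOX.PullTranspose.counitCx (FMK.p23 a b c)).app M)
  let cM₁ := asIso ((Groth.Agent.Lib.DerivedOX.PullTranspose.counitCx (FMK.p23 a' b' c')).app M₁)
  let eL : DerivedCategory.Q.obj ((FMK.cxPull (FMK.p23 a' b' c')).obj M₁) ≅
      (DCoh.Lpull ρ).obj (DerivedCategory.Q.obj ((FMK.cxPull (FMK.p23 a b c)).obj M)) :=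
    cM₁.symm ≪≫ (DCoh.Lpull (FMK.p23 a' b' c')).mapIso eM ≪≫ s23.symm.app _ ≪≫ (DCoh.Lpull ρ).mapIso cM
  obtain ⟨pt⟩ := Groth.Agent.Lib.DerivedOX.FMTools.nonempty_pullTensor ρ _ _ eL
  have hMq : DCoh.IsQCohD (DCoh.toD _ ((FMK.cxPull (FMK.p23 a b c)).obj M)) := fun i =>
    (Groth.Agent.Lib.WayOut.Scheme.qc _).prop_of_iso
      ((DerivedCategory.homologyFunctor _ i).mapIso cM)
      (Groth.Agent.Lib.DerivedOX.LpullQCoh.isQCohD_Lpull _ _
        (Groth.Agent.Lib.Perfect.QCohD.isQCohD_of_isPerfect hM) i)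
  have hE : DCoh.IsQCohD ((DCoh.LTensorCx ((FMK.cxPull (FMK.p23 a b c)).obj M)).obj
      ((DCoh.Lpull (FMK.p12 a b c)).obj (DCoh.toD _ K))) :=
    Groth.Agent.Lib.DerivedOX.QCohLocal.isQCohD_LTensorCx _ hMq
      (Groth.Agent.Lib.DerivedOX.LpullQCoh.isQCohD_Lpull _ _
        (Groth.Agent.Lib.Perfect.QCohD.isQCohD_of_isPerfect hK))
  haveI := Groth.Agent.Lib.DerivedOX.FMTools.isIso_bcD (FMK.p13 a b c) ρac (FMK.p13 a' b' c') ρ
    (Or.inr inferInstance) hsq _ hE
  exact ⟨asIso ((Groth.Agent.Lib.DerivedOX.BCSquare.bcD (FMK.p13 a b c) ρac (FMK.p13 a' b' c') ρ hsq.w).app _) ≪≫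
    (DCoh.Rpush (FMK.p13 a' b' c')).mapIso (pt.app _ ≪≫
      (DCoh.LTensorCx _).mapIso (s12.app _ ≪≫ (DCoh.Lpull (FMK.p12 a' b' c')).mapIso eK.symm))⟩

end Groth.Agent.S13566
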