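import Groth.Statements.S13558
import Groth.Agent.S13551
import Groth.Agent.S1002
import Groth.Agent.S0921
import Groth.Agent.S0962
import Groth.Agent.Lib.Perfect.QCohD


set_option autoImplicit false
universe u
open CategoryTheory AlgebraicGeometry
attribute [local instance] HasDerivedCategory.standard
open DEquiv

namespace Groth.Agent.S13558

set_option linter.style.haveILetI false

open Limits Groth.Agent.Lib.DerivedOX

/-- The derived tensor product of perfect objects is perfect. -/
theorem isPerfect_tensor {W : Scheme.{u}} (L : CochainComplex W.Modules ℤ) [DCoh.HasLTensorCx L]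
    (hL : DCoh.IsPerfect (DCoh.toD _ L)) {E : DCoh.D W} (hE : DCoh.IsPerfect E) :
    DCoh.IsPerfect ((DCoh.LTensorCx L).obj E) := by
  haveI : QuasiIso ((KFlat.aug W).app L) := KFlat.quasiIso_aug L
  haveI := LeftExists.hasLTensorCx ((KFlat.res W).obj L)
  let e : DerivedCategory.Q.obj ((KFlat.res W).obj L) ≅ DerivedCategory.Q.obj L :=
    asIso (DerivedCategory.Q.map ((KFlat.aug W).app L))
  obtain ⟨c⟩ := FMTools.nonempty_congrTensor e
  exact ObjectProperty.prop_of_iso _ (c.app E) (Groth.Agent.S0962.result _ (KFlat.isKFlat_res L)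
    (ObjectProperty.prop_of_iso _ e.symm hL) E hE)

theorem core {S X Y Z : Scheme.{u}}
    [IsNoetherian S] (a : X ⟶ S) (b : Y ⟶ S) (c : Z ⟶ S)
    [IsProper a] [Flat a] [IsProper b] [Flat b] [IsProper c] [Flat c]
    (K : CochainComplex (Limits.pullback a b).Modules ℤ) (K' : CochainComplex (Limits.pullback b c).Modules ℤ)
    (hK : DCoh.IsPerfect (DCoh.toD _ K)) (hK' : DCoh.IsPerfect (DCoh.toD _ K'))
    [DCoh.HasLpull (Limits.pullback.fst a b)] [DCoh.HasLTensorCx K] [DCoh.HasRpush (Limits.pullback.snd a b)]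
    [DCoh.HasLpull (Limits.pullback.fst b c)] [DCoh.HasLTensorCx K'] [DCoh.HasRpush (Limits.pullback.snd b c)]
    [DCoh.HasLpull (FMK.p12 a b c)] [DCoh.HasLTensorCx ((FMK.cxPull (FMK.p23 a b c)).obj K')] [DCoh.HasRpush (FMK.p13 a b c)]
    [DCoh.HasLpull (Limits.pullback.fst a c)] [DCoh.HasRpush (Limits.pullback.snd a c)] :
    DCoh.IsPerfect (FMK.conv a b c K ((FMK.cxPull (FMK.p23 a b c)).obj K')) ∧
      ∀ (N : CochainComplex (Limits.pullback a c).Modules ℤ) [DCoh.HasLTensorCx N],
        Nonempty (DCoh.toD _ N ≅ FMK.conv a b c K ((FMK.cxPull (FMK.p23 a b c)).obj K')) →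
        Nonempty (ObjectProperty.ι (SGA6.perfP X) ⋙ FMK.phi a c N ≅
          ObjectProperty.ι (SGA6.perfP X) ⋙ FMK.phi a b K ⋙ FMK.phi b c K') := by
  haveI : Flat (FMK.p23 a b c) :=
    MorphismProperty.pullback_snd _ _ (MorphismProperty.pullback_snd a b (inferInstance : Flat a))
  haveI := LeftExists.hasLpull (FMK.p23 a b c)
  let L := (FMK.cxPull (FMK.p23 a b c)).obj K'
  haveI := BCFlat.isIso_counitCx (FMK.p23 a b c) K'
  let eL : DCoh.toD _ L ≅ (DCoh.Lpull (FMK.p23 a b c)).obj (DCoh.toD _ K') :=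
    (asIso ((PullTranspose.counitCx (FMK.p23 a b c)).app K')).symm
  have hKq := Groth.Agent.Lib.Perfect.QCohD.isQCohD_of_isPerfect hK
  have hK'q := Groth.Agent.Lib.Perfect.QCohD.isQCohD_of_isPerfect hK'
  refine ⟨?_, fun N _ hN => ?_⟩
  · have hs := Groth.Agent.S13566.isPullback_p13 a b c
    haveI : IsProper (FMK.p13 a b c) := MorphismProperty.of_isPullback hs (inferInstance : IsProper b)
    haveI : Flat (FMK.p13 a b c) := MorphismProperty.of_isPullback hs (inferInstance : Flat b)
    haveI : LocallyOfFinitePresentation b := inferInstance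
    haveI : LocallyOfFinitePresentation (FMK.p13 a b c) :=
      MorphismProperty.of_isPullback hs (inferInstance : LocallyOfFinitePresentation b)
    exact Groth.Agent.S1002.result _ _ (isPerfect_tensor L
      (ObjectProperty.prop_of_iso _ eL.symm (Groth.Agent.S0921.result _ _ hK'))
      (Groth.Agent.S0921.result _ _ hK))
  · obtain ⟨e⟩ := Groth.Agent.S13551.result a b c (Or.inl inferInstance) K K' hKq hK'q L ⟨eL⟩ N hN
    exact ⟨Functor.isoWhiskerLeft
      (ObjectProperty.ιOfLE (fun A h => Groth.Agent.Lib.Perfect.QCohD.isQCohD_of_isPerfect h :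
        SGA6.perfP X ≤ DCoh.IsQCohD (X := X))) e⟩


/-- Let S be a Noetherian scheme, X, Y, Z schemes proper and flat over S, and K on X ×_S Y, K' on Y ×_S
Z complexes of modules defining perfect objects. The derived functors involved are assumed to exist
(instance binders). Then the convolution K'' = Rpr_{13,*}(Lpr_{12}^* K ⊗^L pr_{23}^* K') on X ×_S Z
(pr_{23} is flat here, so the termwise inverse image is the derived one) is a perfect object, and
for every complex N on X ×_S Z whose image in the derived category is isomorphic to K'' the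
Fourier–Mukai functor Φ_N = Rpr_{2,*}(Lpr_1^*(−) ⊗^L N), restricted to perfect objects of D(O_X), is
isomorphic to Φ_K followed by Φ_{K'} (existence of an isomorphism of functors). -/
theorem result {S X Y Z : Scheme.{u}}
    [IsNoetherian S] (a : X ⟶ S) (b : Y ⟶ S) (c : Z ⟶ S)
    [IsProper a] [Flat a] [IsProper b] [Flat b] [IsProper c] [Flat c]
    (K : CochainComplex (Limits.pullback a b).Modules ℤ) (K' : CochainComplex (Limits.pullback b c).Modules ℤ)
    (hK : DCoh.IsPerfect (DCoh.toD _ K)) (hK' : DCoh.IsPerfect (DCoh.toD _ K'))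
    [DCoh.HasLpull (Limits.pullback.fst a b)] [DCoh.HasLTensorCx K] [DCoh.HasRpush (Limits.pullback.snd a b)]
    [DCoh.HasLpull (Limits.pullback.fst b c)] [DCoh.HasLTensorCx K'] [DCoh.HasRpush (Limits.pullback.snd b c)]
    [DCoh.HasLpull (FMK.p12 a b c)] [DCoh.HasLTensorCx ((FMK.cxPull (FMK.p23 a b c)).obj K')] [DCoh.HasRpush (FMK.p13 a b c)]
    [DCoh.HasLpull (Limits.pullback.fst a c)] [DCoh.HasRpush (Limits.pullback.snd a c)] :
    DCoh.IsPerfect (FMK.conv a b c K ((FMK.cxPull (FMK.p23 a b c)).obj K')) ∧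
      ∀ (N : CochainComplex (Limits.pullback a c).Modules ℤ) [DCoh.HasLTensorCx N],
        Nonempty (DCoh.toD _ N ≅ FMK.conv a b c K ((FMK.cxPull (FMK.p23 a b c)).obj K')) →
        Nonempty (ObjectProperty.ι (SGA6.perfP X) ⋙ FMK.phi a c N ≅
          ObjectProperty.ι (SGA6.perfP X) ⋙ FMK.phi a b K ⋙ FMK.phi b c K') := by
  exact core a b c K K' hK hK' 

end Groth.Agent.S13558
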