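import Groth.Statements.S6746
import Groth.Agent.H83.BVdB.Main
import Groth.Agent.H83.RegCrit.Main
import Groth.Agent.S1005
-- import your own Groth.Agent.* helpers here

set_option autoImplicit false
universe u
open CategoryTheory AlgebraicGeometry
attribute [local instance] HasDerivedCategory.standard
open DEquiv

namespace Groth.Agent.S6746

open CategoryTheory.Limits CategoryTheory.Pretriangulated Opposite in
/-- Let X be a scheme proper over a field k which is regular (all local rings regular), and write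
D_perf(O_X) for the full subcategory of perfect objects of D(O_X) (the instance hypothesis records
that it is a triangulated subcategory). Let H be a contravariant functor from D_perf(O_X) to
k-vector spaces which is k-linear, cohomological (for every distinguished triangle A ⟶ B ⟶ C of
D(O_X) with perfect vertices the sequence H(C) ⟶ H(B) ⟶ H(A) is exact) and such that for every
perfect E the spaces H(E⟦n⟧) are finite-dimensional for all n ∈ ℤ and nonzero for only finitely many
n. Then H is isomorphic to the functor E ↦ Hom(E, K) for some perfect object K of D(O_X) (existence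
of K and of an isomorphism of functors). -/
theorem result
    (k : Type u) [Field k] (X : Scheme.{u}) [X.Over (Spec (.of k))] [IsProper (X ↘ Spec (.of k))]
    (hreg : Models.IsRegularScheme X)
    [(SGA6.perfP X).IsTriangulated]
    (H : ((SGA6.perfP X).FullSubcategory)ᵒᵖ ⥤ ModuleCat.{u + 1} k) [H.Additive]
    (hlin : ∀ (A B : (SGA6.perfP X).FullSubcategory) (r : k) (f : A ⟶ B), H.map (r • f).op = r • H.map f.op)
    (hcoh : ∀ T ∈ distTriang (DCoh.D X), ∀ (h₁ : DCoh.IsPerfect T.obj₁)
      (h₂ : DCoh.IsPerfect T.obj₂) (h₃ : DCoh.IsPerfect T.obj₃)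
      (y : H.obj (op ⟨T.obj₂, h₂⟩)),
      H.map (ObjectProperty.homMk T.mor₁ : (⟨T.obj₁, h₁⟩ : (SGA6.perfP X).FullSubcategory) ⟶ ⟨T.obj₂, h₂⟩).op y = 0 →
        ∃ z : H.obj (op ⟨T.obj₃, h₃⟩),
          H.map (ObjectProperty.homMk T.mor₂ : (⟨T.obj₂, h₂⟩ : (SGA6.perfP X).FullSubcategory) ⟶ ⟨T.obj₃, h₃⟩).op z = y)
    (hfin : ∀ E : (SGA6.perfP X).FullSubcategory,
      (∀ n : ℤ, Module.Finite k (H.obj (op ((shiftFunctor ((SGA6.perfP X).FullSubcategory) n).obj E)))) ∧
      Set.Finite {n : ℤ | Nontrivial (H.obj (op ((shiftFunctor ((SGA6.perfP X).FullSubcategory) n).obj E)))}) :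
    ∃ K : DCoh.D X, DCoh.IsPerfect K ∧
      Nonempty (H ≅ (ObjectProperty.ι (SGA6.perfP X)).op ⋙ (linearYoneda k (DCoh.D X)).obj K) := by
  haveI : CompactSpace X := QuasiCompact.compactSpace_of_compactSpace (X ↘ Spec (CommRingCat.of k))
  haveI : QuasiSeparatedSpace X := quasiSeparatedSpace_of_quasiSeparated (X ↘ Spec (CommRingCat.of k))
  have hfin0 : ∀ E : (SGA6.perfP X).FullSubcategory, Module.Finite k (H.obj (op E)) := fun E => by
    haveI := (hfin E).1 0
    exact Module.Finite.equiv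
      (H.mapIso ((shiftFunctorZero ((SGA6.perfP X).FullSubcategory) ℤ).app E).op).toLinearEquiv.symm
  obtain ⟨K, hK, ⟨α⟩⟩ := Groth.Agent.H83.BVdB.exists_rep k H hfin0 hlin hcoh
  haveI : IsLocallyNoetherian X :=
    LocallyOfFiniteType.isLocallyNoetherian (X ↘ Spec (CommRingCat.of k))
  suffices hsuff : SGA6.cohbP X K by
    obtain ⟨hc, a, b, ha, hb⟩ := hsuff
    exact ⟨K, Groth.Agent.S1005.result X hreg K a b hc, ⟨α⟩⟩
  refine Groth.Agent.H83.RegCrit.cohbP_of_finite (k := k) hreg hK fun E hE => ?_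
  have key : ∀ l : ℤ, Nonempty ((E ⟶ (shiftFunctor (DCoh.D X) l).obj K) ≃ₗ[k]
      H.obj (op ((shiftFunctor ((SGA6.perfP X).FullSubcategory) (-l)).obj ⟨E, hE⟩))) := by
    intro l
    let sh := shiftFunctor (DCoh.D X) (-l)
    let l₁ : (E ⟶ (shiftFunctor (DCoh.D X) l).obj K) ≃ₗ[k] (sh.obj E ⟶ sh.obj ((shiftFunctor (DCoh.D X) l).obj K)) :=
      { (Functor.FullyFaithful.ofFullyFaithful sh).homEquiv with
        map_add' := fun f g => sh.map_add
        map_smul' := fun a f => sh.map_smul a f }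
    let E' : (SGA6.perfP X).FullSubcategory := (shiftFunctor ((SGA6.perfP X).FullSubcategory) (-l)).obj ⟨E, hE⟩
    let c : sh.obj E ≅ E'.obj := (((SGA6.perfP X).ι.commShiftIso (-l)).app ⟨E, hE⟩).symm
    let d : sh.obj ((shiftFunctor (DCoh.D X) l).obj K) ≅ K := (shiftFunctorCompIsoId _ l (-l) (by omega)).app K
    exact ⟨l₁ ≪≫ₗ CategoryTheory.Linear.homCongr k c d ≪≫ₗ (α.app (op E')).symm.toLinearEquiv⟩
  refine ⟨fun l => ?_, ?_⟩
  · obtain ⟨e⟩ := key l
    haveI := (hfin ⟨E, hE⟩).1 (-l)
    exact Module.Finite.equiv e.symm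
  · refine ((hfin ⟨E, hE⟩).2.image fun m => -m).subset fun l hl => ⟨-l, ?_, neg_neg l⟩
    obtain ⟨e⟩ := key l
    haveI : Nontrivial _ := hl
    exact e.symm.toEquiv.nontrivial

end Groth.Agent.S6746
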