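import Groth.Statements.S6742
import Groth.Agent.H83.ExtFinite.Vanish
-- import your own Groth.Agent.* helpers here

set_option autoImplicit false
universe u
open CategoryTheory AlgebraicGeometry
attribute [local instance] HasDerivedCategory.standard
open DEquiv

namespace Groth.Agent.S6742

/-- Let X be a scheme proper over a field k, let K be an object of D(O_X) which is bounded and has
coherent cohomology sheaves, and let E be a perfect object of D(O_X). Then the k-vector spaces
Ext^i_X(E, K) = Hom(E, K⟦i⟧) (k-linear structure induced by X → Spec k) are finite-dimensional for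
all i ∈ ℤ and nonzero for only finitely many i. -/
theorem result
    (k : Type u) [Field k] (X : Scheme.{u}) [X.Over (Spec (.of k))] [IsProper (X ↘ Spec (.of k))]
    (K : DCoh.D X) (hK : SGA6.cohbP X K) (E : DCoh.D X) (hE : DCoh.IsPerfect E) :
    (∀ i : ℤ, Module.Finite k (E ⟶ (shiftFunctor (DCoh.D X) i).obj K)) ∧
        Set.Finite {i : ℤ | Nontrivial (E ⟶ (shiftFunctor (DCoh.D X) i).obj K)} := by
  haveI : IsLocallyNoetherian X :=
    LocallyOfFiniteType.isLocallyNoetherian (X ↘ Spec (CommRingCat.of k))
  haveI : CompactSpace X := QuasiCompact.compactSpace_of_compactSpace (X ↘ Spec (CommRingCat.of k))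
  haveI : IsNoetherian X := {}
  obtain ⟨hKc, a, b, ha, hb⟩ := hK
  obtain ⟨-, c, -, hc⟩ := Groth.Agent.Lib.Perfect.Coherent.bounded_of_isPerfect hE
  have hEc := Groth.Agent.Lib.Perfect.Coherent.isCohD_of_isPerfect hE
  haveI hgE : ∀ i : ℤ, (K⟦i⟧).IsGE (a - i) := fun i =>
    DerivedCategory.TStructure.t.isGE_shift K a i (a - i) (by omega)
  refine ⟨fun i => Groth.Agent.H83.ExtFinite.finite_hom E (K⟦i⟧) hEc c
    (fun j => Groth.Agent.Lib.CohBasics.Closure.isCoh_of_iso
      (((DerivedCategory.homologyFunctor X.Modules 0).shiftIso i j (i + j) rfl).app K).symm (hKc (i + j)))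
    (a - i), ?_⟩
  obtain ⟨N, hN⟩ := Groth.Agent.H83.ExtFinite.exists_vanish (X ↘ Spec (CommRingCat.of k)) hE hKc a b
  refine (Set.finite_Icc (a - c) N).subset fun i hi => ⟨?_, ?_⟩
  · by_contra h
    exact not_subsingleton_iff_nontrivial.2 hi
      (subsingleton_of_forall_eq 0 fun φ => DerivedCategory.TStructure.t.zero φ c (a - i) (by omega))
  · by_contra h
    exact not_subsingleton_iff_nontrivial.2 hi
      (subsingleton_of_forall_eq 0 (hN i (by omega)))

end Groth.Agent.S6742
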