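import Groth.Statements.S6747
import Groth.Agent.H83.Duality.Perf
-- import your own Groth.Agent.* helpers here

set_option autoImplicit false
universe u
open CategoryTheory AlgebraicGeometry
attribute [local instance] HasDerivedCategory.standard
open DEquiv

namespace Groth.Agent.S6747

open CategoryTheory.Limits CategoryTheory.Pretriangulated Opposite in
/-- Let X be a scheme proper over a field k which is regular (all local rings regular), and write
D_perf(O_X) for the full subcategory of perfect objects of D(O_X) with its induced triangulated
structure (the instance hypothesis records that it is a triangulated subcategory). Let G be a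
covariant functor from D_perf(O_X) to k-vector spaces which is k-linear and homological and such
that for every perfect E the spaces G(E⟦n⟧) are finite-dimensional for all n ∈ ℤ and nonzero for
only finitely many n. Then G is isomorphic to the functor E ↦ Hom(K, E) for some perfect object K
(existence of K and of an isomorphism of functors). -/
theorem result
    (k : Type u) [Field k] (X : Scheme.{u}) [X.Over (Spec (.of k))] [IsProper (X ↘ Spec (.of k))]
    (hreg : Models.IsRegularScheme X)
    [(SGA6.perfP X).IsTriangulated]
    (G : (SGA6.perfP X).FullSubcategory ⥤ ModuleCat.{u + 1} k) [G.Additive] [G.Linear k] [G.IsHomological]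
    (hfin : ∀ E : (SGA6.perfP X).FullSubcategory,
      (∀ n : ℤ, Module.Finite k (G.obj ((shiftFunctor ((SGA6.perfP X).FullSubcategory) n).obj E))) ∧
      Set.Finite {n : ℤ | Nontrivial (G.obj ((shiftFunctor ((SGA6.perfP X).FullSubcategory) n).obj E))}) :
    ∃ K : (SGA6.perfP X).FullSubcategory, Nonempty (G ≅ (linearCoyoneda k ((SGA6.perfP X).FullSubcategory)).obj (op K)) := by
  exact Groth.Agent.H83.Duality.exists_corep k hreg G hfin

end Groth.Agent.S6747
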