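import Groth.Statements.S6748
import Groth.Agent.S6742
import Groth.Agent.S6746
import Groth.Agent.S6747
-- import your own Groth.Agent.* helpers here

set_option autoImplicit false
set_option linter.style.haveILetI false
universe u
open CategoryTheory AlgebraicGeometry
attribute [local instance] HasDerivedCategory.standard
open DEquiv

namespace Groth.Agent.S6748

open CategoryTheory.Limits CategoryTheory.Pretriangulated Opposite in
theorem isLeftAdjoint_of_perf
    (k : Type u) [Field k] (X Y : Scheme.{u}) [X.Over (Spec (.of k))] [Y.Over (Spec (.of k))]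
    [IsProper (X ↘ Spec (.of k))] [IsProper (Y ↘ Spec (.of k))] (hreg : Models.IsRegularScheme X)
    [(SGA6.perfP X).IsTriangulated] [(SGA6.perfP Y).IsTriangulated]
    (F : (SGA6.perfP X).FullSubcategory ⥤ (SGA6.perfP Y).FullSubcategory) [F.Additive] [F.Linear k]
    [F.CommShift ℤ] [F.IsTriangulated] : F.IsLeftAdjoint ∧ F.IsRightAdjoint := by
  haveI : IsLocallyNoetherian Y :=
    LocallyOfFiniteType.isLocallyNoetherian (Y ↘ Spec (CommRingCat.of k))
  haveI : CompactSpace Y := QuasiCompact.compactSpace_of_compactSpace (Y ↘ Spec (CommRingCat.of k))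
  let ιY := (SGA6.perfP Y).ι
  let ιX := (SGA6.perfP X).ι
  have hcb : ∀ L : (SGA6.perfP Y).FullSubcategory, SGA6.cohbP Y L.obj := fun L =>
    ⟨Groth.Agent.Lib.Perfect.Coherent.isCohD_of_isPerfect L.property,
      Groth.Agent.Lib.Perfect.Coherent.bounded_of_isPerfect L.property⟩
  let c : ∀ (E : (SGA6.perfP X).FullSubcategory) (n : ℤ),
      ιY.obj (F.obj ((shiftFunctor ((SGA6.perfP X).FullSubcategory) n).obj E)) ≅
        (shiftFunctor (DCoh.D Y) n).obj (F.obj E).obj := fun E n =>
    ιY.mapIso ((F.commShiftIso n).app E) ≪≫ (ιY.commShiftIso n).app (F.obj E)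
  constructor
  · have key : ∀ L : (SGA6.perfP Y).FullSubcategory, ∃ K : (SGA6.perfP X).FullSubcategory,
        ∃ e : ∀ E : (SGA6.perfP X).FullSubcategory, (F.obj E ⟶ L) ≃ (E ⟶ K),
          ∀ (E' E : (SGA6.perfP X).FullSubcategory) (f : E' ⟶ E) (g : F.obj E ⟶ L),
            e E' (F.map f ≫ g) = f ≫ e E g := by
      intro L
      let H : ((SGA6.perfP X).FullSubcategory)ᵒᵖ ⥤ ModuleCat.{u + 1} k :=
        F.op ⋙ ιY.op ⋙ (linearYoneda k (DCoh.D Y)).obj L.obj
      have hlin : ∀ (A B : (SGA6.perfP X).FullSubcategory) (r : k) (f : A ⟶ B), H.map (r • f).op = r • H.map f.op := by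
        intro A B r f
        refine ModuleCat.hom_ext (LinearMap.ext fun (g : (F.obj B).obj ⟶ L.obj) => ?_)
        change (F.map (r • f)).hom ≫ g = r • ((F.map f).hom ≫ g)
        rw [F.map_smul]
        exact CategoryTheory.Linear.smul_comp _ _ _ _ _ _
      have hcoh : ∀ T ∈ distTriang (DCoh.D X), ∀ (h₁ : DCoh.IsPerfect T.obj₁)
          (h₂ : DCoh.IsPerfect T.obj₂) (h₃ : DCoh.IsPerfect T.obj₃)
          (y : H.obj (op ⟨T.obj₂, h₂⟩)),
          H.map (ObjectProperty.homMk T.mor₁ : (⟨T.obj₁, h₁⟩ : (SGA6.perfP X).FullSubcategory) ⟶ ⟨T.obj₂, h₂⟩).op y = 0 →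
            ∃ z : H.obj (op ⟨T.obj₃, h₃⟩),
              H.map (ObjectProperty.homMk T.mor₂ : (⟨T.obj₂, h₂⟩ : (SGA6.perfP X).FullSubcategory) ⟶ ⟨T.obj₃, h₃⟩).op z = y := by
        intro T hT h₁ h₂ h₃ y hy
        let m₁ : (⟨T.obj₁, h₁⟩ : (SGA6.perfP X).FullSubcategory) ⟶ ⟨T.obj₂, h₂⟩ := ObjectProperty.homMk T.mor₁
        let m₂ : (⟨T.obj₂, h₂⟩ : (SGA6.perfP X).FullSubcategory) ⟶ ⟨T.obj₃, h₃⟩ := ObjectProperty.homMk T.mor₂
        let S : Triangle ((SGA6.perfP X).FullSubcategory) := Triangle.mk m₁ m₂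
          (ObjectProperty.homMk (T.mor₃ ≫ ((ιX.commShiftIso (1 : ℤ)).app ⟨T.obj₁, h₁⟩).inv))
        have hS : S ∈ distTriang _ := by
          refine isomorphic_distinguished _ hT _ (Triangle.isoMk _ _ (Iso.refl _) (Iso.refl _) (Iso.refl _) ?_ ?_ ?_)
          · exact (Category.comp_id _).trans (Category.id_comp _).symm
          · exact (Category.comp_id _).trans (Category.id_comp _).symm
          · change ((T.mor₃ ≫ ((ιX.commShiftIso (1 : ℤ)).app ⟨T.obj₁, h₁⟩).inv) ≫
              (ιX.commShiftIso (1 : ℤ)).hom.app _) ≫ (shiftFunctor (DCoh.D X) (1 : ℤ)).map (𝟙 _) = 𝟙 _ ≫ T.mor₃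
            refine ((congrArg (_ ≫ ·) ((shiftFunctor (DCoh.D X) (1 : ℤ)).map_id _)).trans (Category.comp_id _)).trans ?_
            refine Eq.trans ?_ (Category.id_comp _).symm
            exact (Category.assoc _ _ _).trans ((congrArg (T.mor₃ ≫ ·)
              ((ιX.commShiftIso (1 : ℤ)).app ⟨T.obj₁, h₁⟩).inv_hom_id).trans (Category.comp_id _))
        obtain ⟨z, hz⟩ := Triangle.yoneda_exact₂ _ (ιY.map_distinguished _ (F.map_distinguished _ hS)) y hy
        exact ⟨z, hz.symm⟩
      have hfin : ∀ E : (SGA6.perfP X).FullSubcategory,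
          (∀ n : ℤ, Module.Finite k (H.obj (op ((shiftFunctor ((SGA6.perfP X).FullSubcategory) n).obj E)))) ∧
          Set.Finite {n : ℤ | Nontrivial (H.obj (op ((shiftFunctor ((SGA6.perfP X).FullSubcategory) n).obj E)))} := by
        intro E
        have h := Groth.Agent.S6742.result k Y L.obj (hcb L) (F.obj E).obj (F.obj E).property
        have t : ∀ n : ℤ, Nonempty ((H.obj (op ((shiftFunctor ((SGA6.perfP X).FullSubcategory) n).obj E))) ≃ₗ[k]
            ((F.obj E).obj ⟶ (shiftFunctor (DCoh.D Y) (-n)).obj L.obj)) := by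
          intro n
          let sh := shiftFunctor (DCoh.D Y) n
          let l₁ : ((F.obj E).obj ⟶ (shiftFunctor (DCoh.D Y) (-n)).obj L.obj) ≃ₗ[k]
              (sh.obj (F.obj E).obj ⟶ sh.obj ((shiftFunctor (DCoh.D Y) (-n)).obj L.obj)) :=
            { (Functor.FullyFaithful.ofFullyFaithful sh).homEquiv with
              map_add' := fun f g => sh.map_add
              map_smul' := fun a f => sh.map_smul a f }
          exact ⟨(l₁ ≪≫ₗ CategoryTheory.Linear.homCongr k (c E n).symm
            ((shiftFunctorCompIsoId (DCoh.D Y) (-n) n (by omega)).app L.obj)).symm⟩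
        refine ⟨fun n => ?_, (h.2.image fun m => -m).subset fun n hn => ⟨-n, ?_, neg_neg n⟩⟩
        · obtain ⟨e⟩ := t n
          haveI := h.1 (-n)
          exact Module.Finite.equiv e.symm
        · obtain ⟨e⟩ := t n
          haveI : Nontrivial _ := hn
          exact e.symm.toEquiv.nontrivial
      obtain ⟨K, hK, ⟨α⟩⟩ := Groth.Agent.S6746.result k X hreg H hlin hcoh hfin
      refine ⟨⟨K, hK⟩, fun E => (
        ((ObjectProperty.fullyFaithfulι (SGA6.perfP Y)).homEquiv).trans ((α.app (op E)).toLinearEquiv.toEquiv.trans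
          ((ObjectProperty.fullyFaithfulι (SGA6.perfP X)).homEquiv (X := E) (Y := ⟨K, hK⟩)).symm)), fun E' E f g => ?_⟩
      refine ObjectProperty.hom_ext _ ?_
      exact ConcreteCategory.congr_hom (α.hom.naturality f.op) g.hom
    choose K e he using key
    exact (Adjunction.adjunctionOfEquivRight (fun E L => e L E) (fun E' E L f g => he L E' E f g)).isLeftAdjoint
  · have key : ∀ L : (SGA6.perfP Y).FullSubcategory, ∃ K : (SGA6.perfP X).FullSubcategory,
        ∃ e : ∀ E : (SGA6.perfP X).FullSubcategory, (K ⟶ E) ≃ (L ⟶ F.obj E),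
          ∀ (E E' : (SGA6.perfP X).FullSubcategory) (f : E ⟶ E') (g : K ⟶ E),
            e E' (g ≫ f) = e E g ≫ F.map f := by
      intro L
      let Co := (linearCoyoneda k ((SGA6.perfP Y).FullSubcategory)).obj (op L)
      let G : (SGA6.perfP X).FullSubcategory ⥤ ModuleCat.{u + 1} k := F ⋙ Co
      haveI : Co.IsHomological := ⟨fun T hT => by
        rw [ShortComplex.moduleCat_exact_iff]
        intro (g : L ⟶ T.obj₂) hg
        obtain ⟨z, hz⟩ := Triangle.coyoneda_exact₂ T hT g hg
        exact ⟨z, hz.symm⟩⟩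
      haveI : G.IsHomological := inferInstanceAs (F ⋙ Co).IsHomological
      haveI : G.Linear k := ⟨fun {A B} f r => by
        refine ModuleCat.hom_ext (LinearMap.ext fun (g : L ⟶ F.obj A) => ?_)
        change g ≫ F.map (r • f) = r • (g ≫ F.map f)
        rw [F.map_smul, CategoryTheory.Linear.comp_smul]⟩
      have hfin : ∀ E : (SGA6.perfP X).FullSubcategory,
          (∀ n : ℤ, Module.Finite k (G.obj ((shiftFunctor ((SGA6.perfP X).FullSubcategory) n).obj E))) ∧
          Set.Finite {n : ℤ | Nontrivial (G.obj ((shiftFunctor ((SGA6.perfP X).FullSubcategory) n).obj E))} := by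
        intro E
        have h := Groth.Agent.S6742.result k Y (F.obj E).obj (hcb (F.obj E)) L.obj L.property
        have t : ∀ n : ℤ, Nonempty ((G.obj ((shiftFunctor ((SGA6.perfP X).FullSubcategory) n).obj E)) ≃ₗ[k]
            (L.obj ⟶ (shiftFunctor (DCoh.D Y) n).obj (F.obj E).obj)) := by
          intro n
          let l₁ : (L ⟶ F.obj ((shiftFunctor ((SGA6.perfP X).FullSubcategory) n).obj E)) ≃ₗ[k]
              (ιY.obj L ⟶ ιY.obj (F.obj ((shiftFunctor ((SGA6.perfP X).FullSubcategory) n).obj E))) :=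
            { (ObjectProperty.fullyFaithfulι (SGA6.perfP Y)).homEquiv with
              map_add' := fun f g => rfl
              map_smul' := fun a f => rfl }
          exact ⟨l₁ ≪≫ₗ CategoryTheory.Linear.homCongr k (Iso.refl _) (c E n)⟩
        refine ⟨fun n => ?_, h.2.subset fun n hn => ?_⟩
        · obtain ⟨e⟩ := t n
          haveI := h.1 n
          exact Module.Finite.equiv e.symm
        · obtain ⟨e⟩ := t n
          haveI : Nontrivial _ := hn
          exact e.symm.toEquiv.nontrivial
      obtain ⟨K, ⟨α⟩⟩ := Groth.Agent.S6747.result k X hreg G hfin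
      exact ⟨K, fun E => (α.app E).toLinearEquiv.symm.toEquiv,
        fun E E' f g => ConcreteCategory.congr_hom (α.inv.naturality f) g⟩
    choose K e he using key
    exact (Adjunction.adjunctionOfEquivLeft (fun L E => e L E) (fun L E E' g h => he L E E' g h)).isRightAdjoint

/-- Let X and Y be schemes proper over a field k with X regular (all local rings regular), and let F :
D_perf(O_X) ⥤ D_perf(O_Y) be a k-linear exact functor between the full subcategories of perfect
objects of D(O_X) and D(O_Y) (the instance hypotheses record that these are triangulated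
subcategories). Then F has a right adjoint and a left adjoint. (Both adjoints are then exact
functors of triangulated categories; that general fact is not restated.) -/
theorem result
    (k : Type u) [Field k] (X Y : Scheme.{u}) [X.Over (Spec (.of k))] [Y.Over (Spec (.of k))]
    [IsProper (X ↘ Spec (.of k))] [IsProper (Y ↘ Spec (.of k))] (hreg : Models.IsRegularScheme X)
    [(SGA6.perfP X).IsTriangulated] [(SGA6.perfP Y).IsTriangulated]
    (F : (SGA6.perfP X).FullSubcategory ⥤ (SGA6.perfP Y).FullSubcategory) [F.Additive] [F.Linear k]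
    [F.CommShift ℤ] [F.IsTriangulated] :
    F.IsLeftAdjoint ∧ F.IsRightAdjoint := by
  exact isLeftAdjoint_of_perf k X Y hreg F

end Groth.Agent.S6748
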