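import Groth.Statements.S18472
import Groth.Agent.H4.HopfDer
import Mathlib.RingTheory.Finiteness.ModuleFinitePresentation
import Mathlib.RingTheory.Smooth.Fiber
import Mathlib.RingTheory.Kaehler.Basic
import Mathlib.RingTheory.Unramified.Basic
-- import your own Groth.Agent.* helpers here

set_option autoImplicit false
universe u v
open Hopf

open scoped TensorProduct

namespace Groth.Agent.S18472

/-- Let R be a commutative ring and A a commutative Hopf algebra over R which is finitely generated and
projective as an R-module (a finite locally free group scheme G = Spec A over Spec R), and let I =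
ker ε be its augmentation ideal. Then A is étale over R if and only if I² = I. (The published text
calls G finite flat, meaning that A is finitely generated and projective.) -/
theorem result
    (R : Type u) [CommRing R] (A : Type v) [CommRing A] [HopfAlgebra R A]
    [Module.Finite R A] [Module.Projective R A] :
    Algebra.Etale R A ↔
      RingHom.ker (Bialgebra.counitAlgHom R A) ^ 2 = RingHom.ker (Bialgebra.counitAlgHom R A) := by
  set I := RingHom.ker (Bialgebra.counitAlgHom R A) with hI
  have hsub : ∀ a : A, a - algebraMap R A (CoalgebraStruct.counit (R := R) a) ∈ I :=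
    fun a => Groth.Agent.H4.HopfDer.sub_counit_mem a
  let π : A →ₗ[R] I.Cotangent :=
    (I.toCotangent.restrictScalars R) ∘ₗ
      LinearMap.codRestrict (I.restrictScalars R)
        (LinearMap.id - Algebra.linearMap R A ∘ₗ CoalgebraStruct.counit (R := R) (A := A)) hsub
  have hπI : ∀ x : I, π (x : A) = I.toCotangent x := fun x => congrArg I.toCotangent (Subtype.ext (by
    show (x : A) - algebraMap R A _ = x
    rw [show CoalgebraStruct.counit (R := R) (x : A) = 0 from x.2, map_zero, sub_zero]))
  have hπ1 : π 1 = 0 := by
    refine (congrArg I.toCotangent (Subtype.ext (?_ : _ = ((0 : I) : A)))).trans (map_zero _)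
    show (1 : A) - algebraMap R A _ = 0
    rw [Bialgebra.counit_one, map_one, sub_self]
  constructor
  · intro _
    haveI : Subsingleton I.Cotangent := by
      refine subsingleton_of_forall_eq 0 fun x => ?_
      obtain ⟨a, rfl⟩ := Groth.Agent.H4.HopfDer.pi_surjective π hπI hπ1 x
      let d : A →ₗ[R] A ⊗[R] I.Cotangent := TensorProduct.mk R A I.Cotangent 1 ∘ₗ π
      let D : Derivation R A (A ⊗[R] I.Cotangent) :=
        Derivation.mk' (Groth.Agent.H4.HopfDer.star LinearMap.id d)
          fun p q => Groth.Agent.H4.HopfDer.leibniz_of_form π hπI hπ1 _ p q
      haveI : Subsingleton Ω[A⁄R] := Algebra.FormallyUnramified.subsingleton_kaehlerDifferential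
      have hD : D = 0 := by
        rw [← D.liftKaehlerDifferential_comp, Subsingleton.elim D.liftKaehlerDifferential 0]
        exact Derivation.ext fun _ => rfl
      have h0 : (TensorProduct.mk R A I.Cotangent 1) = 0 :=
        Groth.Agent.H4.HopfDer.form_injective π hπI hπ1 (l' := 0) (by
          have := congrArg Derivation.toLinearMap hD
          refine this.trans (LinearMap.ext fun b => ?_)
          simp [Groth.Agent.H4.HopfDer.star])
      have h1 := congrArg ((TensorProduct.lid R I.Cotangent).toLinearMap ∘ₗ
        (CoalgebraStruct.counit (R := R) (A := A)).rTensor I.Cotangent) (LinearMap.congr_fun h0 (π a))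
      simpa using h1
    exact ((pow_two I).trans ((Ideal.cotangent_subsingleton_iff I).1 inferInstance))
  · intro h2
    haveI : Subsingleton I.Cotangent := (Ideal.cotangent_subsingleton_iff I).2 ((pow_two I).symm.trans h2)
    haveI : Algebra.FormallyUnramified R A := by
      rw [Algebra.formallyUnramified_iff, ← not_nontrivial_iff_subsingleton]
      intro hne
      obtain ⟨l, hl⟩ := Groth.Agent.H4.HopfDer.exists_form π hπI hπ1 (KaehlerDifferential.D R A)
      rw [Subsingleton.elim l 0] at hl
      have hD : ∀ a, KaehlerDifferential.D R A a = 0 := fun a => by
        rw [← Derivation.coeFn_coe, ← hl]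
        simp [Groth.Agent.H4.HopfDer.star]
      have htop := KaehlerDifferential.span_range_derivation R A
      rw [show Set.range (KaehlerDifferential.D R A) = {0} from Set.range_eq_singleton_iff.2 hD,
        Submodule.span_singleton_eq_bot.2 rfl] at htop
      haveI := hne
      exact bot_ne_top htop
    haveI : Algebra.FinitePresentation R A := by
      haveI : Module.FinitePresentation R A := Module.finitePresentation_of_projective R A
      infer_instance
    exact Algebra.Etale.of_formallyUnramified_of_flat

end Groth.Agent.S18472
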