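import Groth.Statements.S13404
import Groth.Agent.Lib.OT67.UnitComp

set_option autoImplicit false
universe u v
open Hopf

open scoped TensorProduct

namespace Groth.Agent.S13404

/-- Let R be a henselian local ring and G = Spec A a finite flat group scheme over R (A a commutative
Hopf algebra over R, finite and flat as an R-module; G need not be commutative). Let e be an
idempotent of A on which the counit takes the value 1 and such that A/(1 - e) is a local ring, so
that Spec A/(1 - e) is the connected component G⁰ of G containing the unit section. Then the ideal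
(1 - e) is a Hopf ideal (G⁰ is a closed subgroup scheme of G), A/(1 - e) is a henselian local ring
with the same residue field as R (the composite R → A/(1 - e) → residue field is surjective), and
A/(1 - e) is flat over R. (The published statement also asserts that G⁰ is normal in G; this row
does not state normality.) -/
theorem result (R : Type u) [CommRing R] [HenselianLocalRing R]
    (A : Type v) [CommRing A] [HopfAlgebra R A] [Module.Finite R A] [Module.Flat R A]
    (e : A) (he : IsIdempotentElem e) (hε : Bialgebra.counitAlgHom R A e = 1)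
    [IsLocalRing (A ⧸ Ideal.span ({1 - e} : Set A))] :
    (Ideal.span ({1 - e} : Set A)).IsHopfIdeal R ∧ HenselianLocalRing (A ⧸ Ideal.span ({1 - e} : Set A)) ∧
      Function.Surjective (⇑(IsLocalRing.residue (A ⧸ Ideal.span ({1 - e} : Set A))) ∘ ⇑(algebraMap R (A ⧸ Ideal.span ({1 - e} : Set A)))) ∧
      Module.Flat R (A ⧸ Ideal.span ({1 - e} : Set A)) := by
  classical
  let I := Ideal.span ({1 - e} : Set A)
  let ε₀ := Groth.Agent.Lib.OT67.compPoint (Bialgebra.counitAlgHom R A) hε
  haveI : Module.Finite R (A ⧸ I) := Module.Finite.quotient R I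
  have hπe : Ideal.Quotient.mkₐ R I e = 1 := by
    rw [← map_one (Ideal.Quotient.mkₐ R I)]
    exact (Ideal.Quotient.eq (I := I)).2 (Ideal.mem_span_singleton'.2 ⟨-1, by ring⟩)
  let D : A →ₐ[R] (A ⧸ I) ⊗[R] (A ⧸ I) :=
    (Algebra.TensorProduct.map (Ideal.Quotient.mkₐ R I) (Ideal.Quotient.mkₐ R I)).comp (Bialgebra.comulAlgHom R A)
  have hD : ∀ z : A ⊗[R] A,
      Algebra.TensorProduct.lift (AlgHom.id R (A ⧸ I)) ((Algebra.ofId R (A ⧸ I)).comp ε₀) (fun _ _ => Commute.all _ _)
        (Algebra.TensorProduct.map (Ideal.Quotient.mkₐ R I) (Ideal.Quotient.mkₐ R I) z) =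
      Ideal.Quotient.mkₐ R I (TensorProduct.rid R A (Coalgebra.counit.lTensor A z)) := by
    intro z
    induction z using TensorProduct.induction_on with
    | zero => simp
    | add a b ha hb => simp only [map_add, ha, hb]
    | tmul a b =>
      simp [ε₀, I, Algebra.smul_def, mul_comm, Groth.Agent.Lib.OT67.compPoint]
  have hDe : D e = 1 := by
    refine Groth.Agent.Lib.OT67.idempotent_eq_one ε₀ (he.map D) ?_
    rw [AlgHom.comp_apply, Bialgebra.comulAlgHom_apply, hD, Coalgebra.lTensor_counit_comul, TensorProduct.rid_tmul,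
      one_smul, hπe]
  have hSe : Ideal.Quotient.mkₐ R I (HopfAlgebra.antipodeAlgHom R A e) = 1 := by
    refine Groth.Agent.Lib.OT67.eq_one_of_point ε₀ ((he.map (HopfAlgebra.antipodeAlgHom R A)).map _) ?_
    show Bialgebra.counitAlgHom R A (HopfAlgebraStruct.antipode (R := R) e) = 1
    rw [Bialgebra.counitAlgHom_apply, HopfAlgebra.counit_antipode]
    exact hε
  refine ⟨{ counit_eq_zero := fun x hx => ?_, map_mkQ_comul_eq_zero := fun x hx => ?_, antipode_mem := fun x hx => ?_ },
    Groth.Agent.Lib.Henselian.LocalRing.henselianLocalRing_of_isIntegral R (A ⧸ I),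
    Groth.Agent.Lib.OT67.residue_surjective ε₀, Groth.Agent.Lib.OT67.flat_component he⟩
  · obtain ⟨b, rfl⟩ := Ideal.mem_span_singleton'.1 hx
    show Bialgebra.counitAlgHom R A (b * (1 - e)) = 0
    rw [map_mul, map_sub, map_one, hε, sub_self, mul_zero]
  · obtain ⟨b, rfl⟩ := Ideal.mem_span_singleton'.1 hx
    show D (b * (1 - e)) = 0
    rw [map_mul, map_sub, map_one, hDe, sub_self, mul_zero]
  · obtain ⟨b, rfl⟩ := Ideal.mem_span_singleton'.1 hx
    show HopfAlgebra.antipodeAlgHom R A (b * (1 - e)) ∈ I
    rw [← Ideal.Quotient.eq_zero_iff_mem]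
    show Ideal.Quotient.mkₐ R I _ = 0
    rw [map_mul, map_mul, map_sub, map_one, map_sub, map_one, hSe, sub_self, mul_zero]

end Groth.Agent.S13404
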