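import Groth.Statements.S15063
import Groth.Agent.Lib.OT67.UnitComp
import Groth.Prelude.Def_Dyn

set_option autoImplicit false
universe u
open Hopf

open scoped TensorProduct

namespace Groth.Agent.S15063

/-- Let R be a henselian Noetherian local ring and A a commutative Hopf algebra over R which is finite
and flat as an R-module (a finite flat R-group G = Spec A, not assumed commutative); let e ∈ A be an
idempotent with ε(e) = 1 such that A/(1 − e) is a local ring, so that Spec A/(1 − e) is the
connected component G⁰ of G containing the unit section. Then G⁰ is normal in G: for every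
commutative R-algebra T, every T-valued point g of G and every T-valued point h of G killing the
ideal (1 − e), the conjugate g·h·g⁻¹ again kills (1 − e). (The published statement is for a flat
affine algebraic R-group and also asserts that G⁰ is an open and closed flat subgroup; this row
states the normality clause for finite flat G.) -/
theorem result (R : Type u) [CommRing R] [HenselianLocalRing R] [IsNoetherianRing R]
    (A : Type u) [CommRing A] [HopfAlgebra R A] [Module.Finite R A] [Module.Flat R A]
    (e : A) (he : IsIdempotentElem e) (hε : Bialgebra.counitAlgHom R A e = 1)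
    [IsLocalRing (A ⧸ Ideal.span ({1 - e} : Set A))] :
    SGA3.IsNormalHopfIdeal R A (Ideal.span ({1 - e} : Set A)) := by
  classical
  intro T _ _ g h hh a ha
  let I := Ideal.span ({1 - e} : Set A)
  let ε₀ := Groth.Agent.Lib.OT67.compPoint (Bialgebra.counitAlgHom R A) hε
  haveI : Module.Finite R (A ⧸ I) := Module.Finite.quotient R I
  let S := HopfAlgebra.antipodeAlgHom R A
  have hconv : ∀ {C : Type u} [CommRing C] [Algebra R C] (f g h : A →ₐ[R] C),
      Dyn.conv3 R A f g h = ((WithConv.toConv f * WithConv.toConv g) * WithConv.toConv h).ofConv := by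
    intro C _ _ f g h
    refine AlgHom.ext fun x => ?_
    rw [AlgHom.convMul_apply]
    simp only [Dyn.conv3, AlgHom.comp_apply, Bialgebra.comulAlgHom_apply]
    induction Coalgebra.comul (R := R) x using TensorProduct.induction_on with
    | zero => simp
    | add p q hp hq => simp only [map_add, hp, hq]
    | tmul p q =>
      rw [WithConv.ofConv_toConv, Algebra.TensorProduct.map_tmul, AlgHom.id_apply, Bialgebra.comulAlgHom_apply,
        Algebra.TensorProduct.map_tmul, Algebra.TensorProduct.lmul'_apply_tmul, Algebra.TensorProduct.lift_tmul,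
        AlgHom.convMul_apply]
      congr 1
      induction Coalgebra.comul (R := R) p using TensorProduct.induction_on with
      | zero => simp
      | add r s hr hs => simp only [map_add, hr, hs]
      | tmul r s => simp
  have hnat : ∀ {C C' : Type u} [CommRing C] [Algebra R C] [CommRing C'] [Algebra R C'] (L : C →ₐ[R] C')
      (f g h : A →ₐ[R] C), L.comp (Dyn.conv3 R A f g h) = Dyn.conv3 R A (L.comp f) (L.comp g) (L.comp h) := by
    intro C C' _ _ _ _ L f g h
    rw [hconv, hconv, AlgHom.comp_convMul_distrib, WithConv.ofConv_toConv, ← WithConv.toConv_ofConv (WithConv.toConv f * WithConv.toConv g), AlgHom.comp_convMul_distrib]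
  let iL : A →ₐ[R] A ⊗[R] (A ⧸ I) := Algebra.TensorProduct.includeLeft
  let iR : A →ₐ[R] A ⊗[R] (A ⧸ I) := Algebra.TensorProduct.includeRight.comp (Ideal.Quotient.mkₐ R I)
  have hx : Dyn.conv3 R A iL iR (iL.comp S) e = 1 := by
    refine Groth.Agent.Lib.OT67.idempotent_eq_one ε₀ (he.map _) ?_
    let q := Algebra.TensorProduct.lift (AlgHom.id R A) ((Algebra.ofId R A).comp ε₀) (fun _ _ => Commute.all _ _)
    have h1 : q.comp iL = AlgHom.id R A := AlgHom.ext fun x => by simp [q, iL]
    have h2 : WithConv.toConv (q.comp iR) = 1 := WithConv.ofConv_injective (AlgHom.ext fun x => by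
      show q ((1 : A) ⊗ₜ[R] Ideal.Quotient.mkₐ R I x) = algebraMap R A (Coalgebra.counit (R := R) x)
      simp [q, ε₀, I, Groth.Agent.Lib.OT67.compPoint])
    show (q.comp (Dyn.conv3 R A iL iR (iL.comp S))) e = 1
    rw [hnat, hconv, h2, mul_one, ← AlgHom.comp_assoc, h1, AlgHom.id_comp,
      show WithConv.toConv S = (WithConv.toConv (AlgHom.id R A))⁻¹ from rfl, mul_inv_cancel]
    show algebraMap R A (Bialgebra.counitAlgHom R A e) = 1
    rw [hε, map_one]
  obtain ⟨b, rfl⟩ := Ideal.mem_span_singleton'.1 ha
  let L : A ⊗[R] (A ⧸ I) →ₐ[R] T :=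
    Algebra.TensorProduct.lift g (Ideal.Quotient.liftₐ I h hh) (fun _ _ => Commute.all _ _)
  have hL1 : L.comp iL = g := AlgHom.ext fun x => by simp [L, iL]
  have hL2 : L.comp iR = h := AlgHom.ext fun x => by simp [L, iR]
  have h3 := congrArg L hx
  rw [map_one, ← AlgHom.comp_apply, hnat, hL1, hL2, ← AlgHom.comp_assoc, hL1] at h3
  rw [map_mul, map_sub, map_one, h3, sub_self, mul_zero]

end Groth.Agent.S15063
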