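import Groth.Statements.S15061
import Groth.Agent.Lib.OT67.FinQuotEtale
import Groth.Agent.Lib.OT67.FinQuotNormal
import Groth.Agent.Lib.OT67.RankMul
import Groth.Agent.S13404
import Groth.Agent.S15063

set_option autoImplicit false
set_option linter.style.haveILetI false
universe u
open scoped TensorProduct
open Hopf Groth.Agent.Lib.OT67

namespace Groth.Agent.S15061

/-- Let R be a henselian Noetherian local ring and A a commutative Hopf algebra over R which is finite
and flat as an R-module (a finite flat R-group G = Spec A, not assumed commutative); let e ∈ A be an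
idempotent with ε(e) = 1 such that A/(1 − e) is a local ring, so that G⁰ = Spec A/(1 − e) is the
connected component of the unit section, and let B ⊆ A be the subalgebra of functions invariant
under right translation by G⁰: the equaliser of a ↦ (id ⊗ π)(Δ a) and a ↦ a ⊗ 1 into A ⊗_R A/(1 −
e). Then B is a sub-Hopf-algebra of A (comultiplication and antipode preserve it), B is finite étale
over R, A is faithfully flat over B, and the ideal of A generated by the elements of B killed by the
counit is exactly (1 − e). In other words G^ét := Spec B is a finite étale R-group, G → G^ét is a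
faithfully flat homomorphism, and its kernel is G⁰: the sequence 1 → G⁰ → G → G^ét → 1 is exact. -/
theorem result (R : Type u) [CommRing R] [HenselianLocalRing R] [IsNoetherianRing R]
    (A : Type u) [CommRing A] [HopfAlgebra R A] [Module.Finite R A] [Module.Flat R A]
    (e : A) (he : IsIdempotentElem e) (hε : Bialgebra.counitAlgHom R A e = 1)
    [IsLocalRing (A ⧸ Ideal.span ({1 - e} : Set A))] :
    SGA3.IsHopfSubalgebra R A
        (AlgHom.equalizer
          ((Algebra.TensorProduct.map (AlgHom.id R A) (Ideal.Quotient.mkₐ R (Ideal.span ({1 - e} : Set A)))).comp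
            (Bialgebra.comulAlgHom R A))
          (Algebra.TensorProduct.includeLeft : A →ₐ[R] A ⊗[R] (A ⧸ Ideal.span ({1 - e} : Set A)))) ∧
      Algebra.Etale R ↥(AlgHom.equalizer
          ((Algebra.TensorProduct.map (AlgHom.id R A) (Ideal.Quotient.mkₐ R (Ideal.span ({1 - e} : Set A)))).comp
            (Bialgebra.comulAlgHom R A))
          (Algebra.TensorProduct.includeLeft : A →ₐ[R] A ⊗[R] (A ⧸ Ideal.span ({1 - e} : Set A)))) ∧
      Module.FaithfullyFlat ↥(AlgHom.equalizer
          ((Algebra.TensorProduct.map (AlgHom.id R A) (Ideal.Quotient.mkₐ R (Ideal.span ({1 - e} : Set A)))).comp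
            (Bialgebra.comulAlgHom R A))
          (Algebra.TensorProduct.includeLeft : A →ₐ[R] A ⊗[R] (A ⧸ Ideal.span ({1 - e} : Set A)))) A ∧
      SGA3.augIdealSpan R A
        (AlgHom.equalizer
          ((Algebra.TensorProduct.map (AlgHom.id R A) (Ideal.Quotient.mkₐ R (Ideal.span ({1 - e} : Set A)))).comp
            (Bialgebra.comulAlgHom R A))
          (Algebra.TensorProduct.includeLeft : A →ₐ[R] A ⊗[R] (A ⧸ Ideal.span ({1 - e} : Set A)))) =
        Ideal.span ({1 - e} : Set A) := by
  let I := Ideal.span ({1 - e} : Set A)
  obtain ⟨hH, -, -, hflat⟩ := Groth.Agent.S13404.result R A e he hε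
  haveI : I.IsHopfIdeal R := hH
  haveI : Module.Finite R (A ⧸ I) := Module.Finite.quotient R I
  haveI : Module.Flat R (A ⧸ I) := hflat
  haveI : Module.FinitePresentation R (A ⧸ I) := Module.finitePresentation_of_finite R _
  haveI : Module.Projective R (A ⧸ I) := Module.Flat.projective_of_finitePresentation
  let B := FinQuot.inv (R := R) I
  haveI : IsNoetherian R A := isNoetherian_of_isNoetherianRing_of_finite R A
  haveI : Module.Finite R B := Module.Finite.iff_fg.2 (IsNoetherian.noetherian (Subalgebra.toSubmodule B))
  haveI hff : Module.FaithfullyFlat B A := FinQuot.faithfullyFlat (R := R) I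
  haveI : Module.Flat R B := flat_of_faithfullyFlat_top (A := A)
  have hN : SGA3.IsNormalHopfIdeal R A I := Groth.Agent.S15063.result R A e he hε
  haveI : Algebra.FormallyUnramified R B := FinQuot.formallyUnramified (R := R) I he.one_sub rfl
  haveI : Algebra.FinitePresentation R B := Algebra.FinitePresentation.of_finiteType.1 inferInstance
  exact ⟨FinQuot.isHopfSubalgebra I hN, Algebra.Etale.of_formallyUnramified_of_flat (R := R) (S := B), hff,
    FinQuot.augIdealSpan_eq I⟩

end Groth.Agent.S15061
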