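import Groth.Statements.S19747
import Groth.Agent.H83.Elem.SegreModFinite

set_option autoImplicit false
universe u
open scoped TensorProduct
open GrSegre

namespace Groth.Agent.S19747

/-- Let R and S be graded rings defined over a field k with Segre product T = R # S, and let M be a
finitely generated graded R-module and N a finitely generated graded S-module. Then M # N is a
finitely generated T-module. Here a graded ring defined over k is a commutative k-algebra of finite
type, graded in nonnegative degrees by k-subspaces with degree-zero part k·1; the Segre product T =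
R # S = ⊕_n R_n ⊗_k S_n is presented abstractly as a graded k-algebra T with an injective k-algebra
homomorphism ψ : T → R ⊗_k S carrying T_n onto the k-span of the elementary tensors a ⊗ b with a ∈
R_n, b ∈ S_n; the Segre product M # N = ⊕_n M_n ⊗_k N_n of a graded R-module M and a graded S-module
N is presented abstractly as a graded T-module P with an injective k-linear map φ : P → M ⊗_k N
carrying P_n onto the k-span of the tensors x ⊗ y with x ∈ M_n, y ∈ N_n and turning the action of t
∈ T into that of ψ(t) (acting factorwise on M ⊗_k N). -/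
theorem result (k : Type u) [Field k] (R : Type u) [CommRing R] [Algebra k R] (𝒜 : ℤ → Submodule k R) [GradedAlgebra 𝒜] (hposR : ∀ n : ℤ, n < 0 → 𝒜 n = ⊥) (h0R : 𝒜 0 = Submodule.span k {(1 : R)}) [Algebra.FiniteType k R] (S : Type u) [CommRing S] [Algebra k S] (ℬ : ℤ → Submodule k S) [GradedAlgebra ℬ] (hposS : ∀ n : ℤ, n < 0 → ℬ n = ⊥) (h0S : ℬ 0 = Submodule.span k {(1 : S)}) [Algebra.FiniteType k S] (T : Type u) [CommRing T] [Algebra k T] (𝒯 : ℤ → Submodule k T) [GradedAlgebra 𝒯] (ψ : T →ₐ[k] TensorProduct k R S) (hT : GrSeg.IsSegreRing 𝒜 ℬ 𝒯 ψ) (M : Type u) [AddCommGroup M] [Module R M] [Module k M] [IsScalarTower k R M] (ℳ : ℤ → AddSubgroup M) [DirectSum.Decomposition ℳ] [SetLike.GradedSMul 𝒜 ℳ] [Module.Finite R M] (N : Type u) [AddCommGroup N] [Module S N] [Module k N] [IsScalarTower k S N] (𝒩 : ℤ → AddSubgroup N) [DirectSum.Decomposition 𝒩] [SetLike.GradedSMul ℬ 𝒩] [Module.Finite S N] (P : Type u) [AddCommGroup P] [Module T P] [Module k P] [IsScalarTower k T P] (𝒬 : ℤ → AddSubgroup P) [DirectSum.Decomposition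 𝒬] (φ : P →ₗ[k] TensorProduct k M N) (hP : GrSeg.IsSegreMod ψ ℳ 𝒩 𝒬 φ) : Module.Finite T P := by
  classical
  obtain ⟨G, hG, hgen⟩ := H83.SegreModFinite.exists_generators 𝒜 ℬ ℳ 𝒩
  have hsub : ∀ n, GrSeg.segrePiece k ℳ 𝒩 n ≤ LinearMap.range φ := fun n z hz => by
    have : z ∈ φ '' (𝒬 n : Set P) := (hP.image_piece n).symm ▸ hz
    obtain ⟨p, -, rfl⟩ := this
    exact ⟨p, rfl⟩
  have hφmem : ∀ p : P, φ p ∈ H83.SegreModFinite.diagMod (k := k) ℳ 𝒩 := by
    intro p
    induction p using DirectSum.Decomposition.inductionOn 𝒬 with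
    | zero => rw [map_zero]; exact zero_mem _
    | add x y hx hy => rw [map_add]; exact add_mem hx hy
    | @homogeneous n x =>
      exact Submodule.mem_iSup_of_mem n ((hP.image_piece n).subset ⟨x, x.2, rfl⟩)
  have hsurj : ∀ g ∈ G, ∃ p, φ p = g := fun g hg => (iSup_le hsub) (hG g hg)
  choose! q hq using hsurj
  refine ⟨⟨G.image q, top_unique fun p _ => ?_⟩⟩
  let W : Submodule k (TensorProduct k M N) :=
    (Submodule.span T (↑(G.image q) : Set P)).restrictScalars k |>.map φ
  have h := hgen (φ p) (hφmem p) W fun g hg w hw => by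
    have hw' : w ∈ LinearMap.range ψ.toLinearMap := by
      refine (iSup_le fun n => ?_ : H83.SegreNoeth.diag 𝒜 ℬ ≤ _) hw
      intro z hz
      have : z ∈ (𝒯 n).map ψ.toLinearMap := (hT.2 n).symm ▸ hz
      obtain ⟨t, -, rfl⟩ := this
      exact ⟨t, rfl⟩
    obtain ⟨t, rfl⟩ := hw'
    refine ⟨t • q g, Submodule.smul_mem _ t (Submodule.subset_span (Finset.mem_image_of_mem q hg)), ?_⟩
    rw [hP.map_smul, hq g hg]
    rfl
  obtain ⟨p', hp', he⟩ := h
  exact hP.injective he ▸ hp'

end Groth.Agent.S19747
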