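import Groth.Statements.S9624
import Groth.Agent.H20.GeomIrred

set_option autoImplicit false
universe u
open CAlg

namespace Groth.Agent.S9624

open TensorProduct in
/-- Let k be a field, S a geometrically connected k-algebra (the spectrum of k' ⊗_k S is connected for
every field extension k'/k) and R any k-algebra. Then the map R → R ⊗_k S induces a bijection on
idempotents: each idempotent of R ⊗_k S comes from exactly one idempotent of R. Here the test fields
range over field extensions in the universe of k; this is equivalent to the unrestricted notion,
since an algebraic closure of k suffices as a test. -/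
theorem result {k R S : Type u} [Field k] [CommRing R] [CommRing S] [Algebra k R] [Algebra k S]
    (hS : ∀ (k' : Type u) [Field k'] [Algebra k k'], ConnectedSpace (PrimeSpectrum (k' ⊗[k] S)))
    (x : R ⊗[k] S) (hx : IsIdempotentElem x) :
    ∃! e : R, IsIdempotentElem e ∧ algebraMap R (R ⊗[k] S) e = x := by
  haveI : Nontrivial S := by
    haveI := hS k
    haveI : Nontrivial (k ⊗[k] S) :=
      PrimeSpectrum.nonempty_iff_nontrivial.mp (inferInstance : Nonempty (PrimeSpectrum (k ⊗[k] S)))
    exact (Algebra.TensorProduct.lid k S).injective.nontrivial
  exact Groth.Agent.H20.GeomIrred.existsUnique_idempotent (fun p _ => hS p.ResidueField) x hx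

end Groth.Agent.S9624
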