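import Groth.Statements.S8395
import Groth.Agent.H4.EtaleAtPoint
-- import your own Groth.Agent.* helpers here

set_option autoImplicit false
universe u
open CategoryTheory MonoidalCategory CartesianMonoidalCategory MonObj GrpObj AlgebraicGeometry
open SGA3x

namespace Groth.Agent.S8395

/-- Let k be a field, G a k-group scheme locally of finite type, n an integer invertible in k, and u : G
→ G the n-th power morphism. Then u is etale at every point of G lying in the centre of G; here
stated at a k-rational point g of G which is central (commutes with all points of G): u is etale on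
some open neighbourhood of g. (The published statement is for any point of the centre; its proof
reduces to rational points by extending the base field.) -/
theorem result (k : Type u) [Field k]
    (G : Over (Spec (CommRingCat.of k))) [GrpObj G] [LocallyOfFiniteType G.hom] (n : ℕ) (hn : (n : k) ≠ 0)
    (g : 𝟙_ (Over (Spec (CommRingCat.of k))) ⟶ G)
    (hg : ∀ (X : Over (Spec (CommRingCat.of k))) (x : X ⟶ G), (toUnit X ≫ g) * x = x * (toUnit X ≫ g)) :
    ∃ U : G.left.Opens, Set.range g.left.base ⊆ (U : Set ↥G.left) ∧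
      Etale (U.ι ≫ ((𝟙 G : G ⟶ G) ^ n).left) := by
  obtain ⟨W, hW, hWe⟩ := Groth.Agent.H4.EtaleAtPoint.exists_etale_nhd η[G] ((𝟙 G : G ⟶ G) ^ n)
    (by rw [MonObj.comp_pow, Category.comp_id, MonObj.one_eq_one, one_pow])
    (fun v hv hvu => by
      rw [MonObj.one_eq_one, MonObj.comp_one] at hv hvu ⊢
      rw [MonObj.comp_pow, Category.comp_id] at hvu
      exact Groth.Agent.H4.NPowUnram.eq_one_of_pow_eq_one hv (isUnit_iff_ne_zero.2 hn) hvu)
  let a := Groth.Agent.Lib.GrpSch.regularAction G
  let s := (Groth.Agent.Lib.GrpSch.translate a g).inv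
  let tn := (Groth.Agent.Lib.GrpSch.translate a (g ^ n)).hom
  have hcomm : ∀ (Z : Over (Spec (CommRingCat.of k))) (y : Z ⟶ G),
      y ≫ (Groth.Agent.Lib.GrpSch.translate a g).hom = (toUnit Z ≫ g) * y ∧
      y ≫ tn = (toUnit Z ≫ g) ^ n * y := by
    intro Z y
    refine ⟨?_, ?_⟩
    · rw [Groth.Agent.Lib.GrpSch.comp_translate_hom, Hom.mul_def]; rfl
    · rw [Groth.Agent.Lib.GrpSch.comp_translate_hom, ← MonObj.comp_pow, Hom.mul_def]; rfl
  have hu : ((𝟙 G : G ⟶ G) ^ n) = s ≫ ((𝟙 G : G ⟶ G) ^ n) ≫ tn := by
    rw [← Category.assoc, MonObj.comp_pow, Category.comp_id, (hcomm G (s ^ n)).2,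
      ← (Commute.mul_pow (hg G s) n), ← (hcomm G s).1, Iso.inv_hom_id]
  haveI : IsIso s.left := ((Over.forget _).mapIso (Groth.Agent.Lib.GrpSch.translate a g).symm).isIso_hom
  haveI : IsIso tn.left := ((Over.forget _).mapIso (Groth.Agent.Lib.GrpSch.translate a (g ^ n))).isIso_hom
  refine ⟨s.left ⁻¹ᵁ W, ?_, ?_⟩
  · rintro _ ⟨p, rfl⟩
    show s.left (g.left p) ∈ W
    have hgs : g ≫ s = η[G] := by
      have h1 : η[G] ≫ (Groth.Agent.Lib.GrpSch.translate a g).hom = g := by
        rw [Groth.Agent.Lib.GrpSch.translate_regular_apply, MonObj.one_eq_one, _root_.mul_one]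
      calc g ≫ s = (η[G] ≫ (Groth.Agent.Lib.GrpSch.translate a g).hom) ≫ s := by rw [h1]
        _ = η[G] := by rw [Category.assoc, Iso.hom_inv_id, Category.comp_id]
    have hp : s.left (g.left p) = η[G].left p := (Scheme.Hom.comp_apply _ _ _).symm.trans
      (congrArg (fun q : 𝟙_ (Over (Spec (CommRingCat.of k))) ⟶ G => q.left p) hgs)
    rw [hp]
    exact hW p
  · rw [hu, Over.comp_left, Over.comp_left, ← morphismRestrict_ι_assoc, ← Category.assoc W.ι]
    haveI : Etale (s.left ∣_ W) := inferInstance
    infer_instance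

end Groth.Agent.S8395
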