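import Groth.Statements.S8385
import Groth.Agent.Lib.Adic.Complete
import Mathlib

set_option autoImplicit false
universe u
open CategoryTheory MonoidalCategory CartesianMonoidalCategory MonObj GrpObj AlgebraicGeometry
open SGA3x

set_option maxHeartbeats 400000
set_option linter.style.haveILetI false

namespace Groth.Agent.S8385

open CategoryTheory.Limits

section Core

variable {C : Type u} [CommRing C] {I : Ideal C} [IsAdicComplete I C] {Y : Scheme.{u}}

theorem range_subset (f : Spec (CommRingCat.of C) ⟶ Y) (V : Y.Opens)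
    (h : ∀ p : PrimeSpectrum C, I ≤ p.asIdeal → f.base p ∈ V) : Set.range f.base ⊆ (V : Set Y) := by
  rintro _ ⟨p, rfl⟩
  obtain ⟨P, hP, hle⟩ := Ideal.exists_le_maximal p.asIdeal p.2.ne_top
  have hI : I ≤ P := (IsAdicComplete.le_jacobson_bot I).trans (sInf_le ⟨bot_le, hP⟩)
  exact (f ⁻¹ᵁ V).2.stableUnderGeneralization
    ((PrimeSpectrum.le_iff_specializes p ⟨P, hP.isPrime⟩).mp hle) (h ⟨P, hP.isPrime⟩ hI)

theorem mem_of_quot (f : Spec (CommRingCat.of C) ⟶ Y) (u : Spec (CommRingCat.of (C ⧸ I ^ 1)) ⟶ Y)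
    (hfu : Spec.map (CommRingCat.ofHom (Ideal.Quotient.mk (I ^ 1))) ≫ f = u) (V : Y.Opens)
    (h : ∀ q, u.base q ∈ V) : Set.range f.base ⊆ (V : Set Y) := by
  refine range_subset (I := I) f V fun p hp => ?_
  obtain ⟨q, hq⟩ : p ∈ Set.range (PrimeSpectrum.comap (Ideal.Quotient.mk (I ^ 1))) := by
    rw [range_comap_of_surjective _ _ Ideal.Quotient.mk_surjective, Ideal.mk_ker, pow_one]
    exact hp
  rw [← hq]
  have := h q
  rw [← hfu] at this
  exact this

theorem ext_of_quot (f g : Spec (CommRingCat.of C) ⟶ Y) (V : Y.Opens) (hV : IsAffineOpen V)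
    (hf : ∀ q, (Spec.map (CommRingCat.ofHom (Ideal.Quotient.mk (I ^ 1))) ≫ f).base q ∈ V)
    (h : ∀ n : ℕ, Spec.map (CommRingCat.ofHom (Ideal.Quotient.mk (I ^ n))) ≫ f =
      Spec.map (CommRingCat.ofHom (Ideal.Quotient.mk (I ^ n))) ≫ g) : f = g := by
  have hfr : Set.range f.base ⊆ Set.range hV.fromSpec.base := by
    rw [hV.range_fromSpec]; exact mem_of_quot f _ rfl V hf
  have hgr : Set.range g.base ⊆ Set.range hV.fromSpec.base := by
    rw [hV.range_fromSpec]; exact mem_of_quot g _ (h 1).symm V hf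
  obtain ⟨φ, hφ⟩ := Spec.map_surjective (IsOpenImmersion.lift hV.fromSpec f hfr)
  obtain ⟨ψ, hψ⟩ := Spec.map_surjective (IsOpenImmersion.lift hV.fromSpec g hgr)
  suffices φ = ψ by
    rw [← IsOpenImmersion.lift_fac hV.fromSpec f hfr, ← IsOpenImmersion.lift_fac hV.fromSpec g hgr, ← hφ, ← hψ, this]
  ext a
  refine (IsHausdorff.eq_iff_smodEq (I := I)).mpr fun n => ?_
  have e : φ ≫ CommRingCat.ofHom (Ideal.Quotient.mk (I ^ n)) = ψ ≫ CommRingCat.ofHom (Ideal.Quotient.mk (I ^ n)) := by
    apply Spec.map_injective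
    rw [Spec.map_comp, Spec.map_comp, hφ, hψ, ← cancel_mono hV.fromSpec]
    simp only [Category.assoc, IsOpenImmersion.lift_fac]
    exact h n
  rw [SModEq.sub_mem, smul_eq_mul, Ideal.mul_top]
  exact (Ideal.Quotient.mk_eq_mk_iff_sub_mem _ _).mp congr(CommRingCat.Hom.hom $e a)

theorem exists_of_quot (V : Y.Opens) (hV : IsAffineOpen V) (u : (n : ℕ) → (Spec (CommRingCat.of (C ⧸ I ^ n)) ⟶ Y))
    (hu : ∀ n : ℕ, Spec.map (CommRingCat.ofHom (Ideal.Quotient.factor (Ideal.pow_le_pow_right (I := I) (Nat.le_succ n)))) ≫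
      u (n + 1) = u n)
    (h1 : ∀ q, (u 1).base q ∈ V) :
    ∃ f : Spec (CommRingCat.of C) ⟶ Y, ∀ n, Spec.map (CommRingCat.ofHom (Ideal.Quotient.mk (I ^ n))) ≫ f = u n := by
  have hr : ∀ n, Set.range (u n).base ⊆ Set.range hV.fromSpec.base := by
    intro n
    rw [hV.range_fromSpec]
    rintro _ ⟨p, rfl⟩
    induction n with
    | zero =>
      have : Subsingleton (C ⧸ I ^ 0) := Ideal.Quotient.subsingleton_iff.mpr (by rw [pow_zero, Ideal.one_eq_top])
      exact absurd ((Ideal.eq_top_iff_one _).mpr ((Subsingleton.elim (0 : C ⧸ I ^ 0) 1) ▸ p.asIdeal.zero_mem)) p.2.ne_top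
    | succ n ih =>
      rcases Nat.eq_zero_or_pos n with rfl | hn
      · exact h1 p
      · have hker : RingHom.ker (Ideal.Quotient.factor (Ideal.pow_le_pow_right (I := I) (Nat.le_succ n))) ≤ nilradical _ := by
          intro x hx
          obtain ⟨x, rfl⟩ := Ideal.Quotient.mk_surjective x
          rw [RingHom.mem_ker, Ideal.Quotient.factor_mk, Ideal.Quotient.eq_zero_iff_mem] at hx
          refine ⟨2, ?_⟩
          rw [← map_pow, Ideal.zero_eq_bot, Ideal.mem_bot, Ideal.Quotient.eq_zero_iff_mem]
          refine Ideal.pow_le_pow_right (show n + 1 ≤ n * 2 by omega) ?_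
          rw [pow_mul]
          exact Ideal.pow_mem_pow hx 2
        obtain ⟨q, hq⟩ : p ∈ Set.range (PrimeSpectrum.comap (Ideal.Quotient.factor (Ideal.pow_le_pow_right (I := I) (Nat.le_succ n)))) := by
          rw [range_comap_of_surjective _ _ (Ideal.Quotient.factor_surjective _)]
          haveI := p.2
          exact hker.trans (nilradical_le_prime p.asIdeal)
        have := ih q
        rw [← hu n] at this
        rw [← hq]
        exact this
  choose φ hφ using fun n => Spec.map_surjective (IsOpenImmersion.lift hV.fromSpec (u n) (hr n))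
  have hstep : ∀ n, (Ideal.Quotient.factorPow I (Nat.le_succ n)).comp (φ (n + 1)).hom = (φ n).hom := by
    intro n
    have : φ (n + 1) ≫ CommRingCat.ofHom (Ideal.Quotient.factorPow I (Nat.le_succ n)) = φ n := by
      apply Spec.map_injective
      rw [Spec.map_comp, hφ, hφ, ← cancel_mono hV.fromSpec, Category.assoc, IsOpenImmersion.lift_fac,
        IsOpenImmersion.lift_fac]
      exact hu n
    exact congr(CommRingCat.Hom.hom $this)
  have hcomp : ∀ {m n : ℕ} (hle : m ≤ n), (Ideal.Quotient.factorPow I hle).comp (φ n).hom = (φ m).hom := by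
    intro m n hle
    induction n, hle using Nat.le_induction with
    | base => ext a; simp
    | succ n hle ih => rw [← ih, ← hstep n, ← RingHom.comp_assoc]; congr 1; ext a; simp
  refine ⟨Spec.map (CommRingCat.ofHom (IsAdicComplete.liftRingHom I (fun n => (φ n).hom) hcomp)) ≫ hV.fromSpec, fun n => ?_⟩
  rw [← Category.assoc, ← Spec.map_comp, ← CommRingCat.ofHom_comp]
  erw [IsAdicComplete.mk_comp_liftRingHom]
  rw [CommRingCat.ofHom_hom, hφ n, IsOpenImmersion.lift_fac]

end Core

theorem map_pow' {B D : Type u} [CommRing B] [CommRing D] (g : B →+* D) (I : Ideal B) (n : ℕ) : (I ^ n).map g = (I.map g) ^ n :=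
  Ideal.map_pow g I n

/-- Idempotents separating the maximal ideals of an algebra complete for an ideal with Artinian quotient. -/
theorem exists_idempotents (B : Type u) [CommRing B] (I : Ideal B) [IsAdicComplete I B] [IsArtinianRing (B ⧸ I)] :
    ∃ e : MaximalSpectrum (B ⧸ I) → B, (∀ M, IsIdempotentElem (e M)) ∧
      ∀ (P : Ideal B), P.IsMaximal → ∀ M, (e M ∉ P ↔ P.map (Ideal.Quotient.mk I) = M.asIdeal) := by
  classical
  let π := Ideal.Quotient.mk (nilradical (B ⧸ I))
  let E := IsArtinianRing.quotNilradicalEquivPi (B ⧸ I)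
  have hπ : ∀ x ∈ RingHom.ker π, IsNilpotent x := fun x hx => by rwa [Ideal.mk_ker] at hx
  have hkey : ∀ M : MaximalSpectrum (B ⧸ I), ∃ x : B ⧸ I, IsIdempotentElem x ∧ π x = E.symm (Pi.single M 1) := fun M =>
    exists_isIdempotentElem_eq_of_ker_isNilpotent π hπ (E.symm (Pi.single M 1))
      (Ideal.Quotient.mk_surjective _)
      (by
        refine IsIdempotentElem.map ?_ E.symm
        ext N
        by_cases h : N = M
        · subst h; simp [Pi.single_eq_same]
        · simp [Pi.single_eq_of_ne h])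
  choose x hx hxE using hkey
  have hlift : ∀ M, ∃ e : B, IsIdempotentElem e ∧ Ideal.Quotient.mk I e = x M := fun M => by
    obtain ⟨a, ha⟩ := Ideal.Quotient.mk_surjective (x M)
    have h1 : Ideal.Quotient.mk I (a * a - a) = 0 := by rw [map_sub, map_mul, ha, (hx M).eq, sub_self]
    have h2 : IsUnit (Ideal.Quotient.mk I (2 * a - 1)) := by
      refine IsUnit.of_mul_eq_one (Ideal.Quotient.mk I (2 * a - 1)) ?_
      rw [map_sub, map_mul, ha, map_one, map_ofNat]
      linear_combination (4 : B ⧸ I) * (hx M).eq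
    have : Nontrivial (B ⧸ I) := nontrivial_of_ne 0 1 fun h => M.isMaximal.ne_top ((Ideal.eq_top_iff_one _).mpr (h ▸ M.asIdeal.zero_mem))
    have := (Ideal.Quotient.mk I).domain_nontrivial
    obtain ⟨e, he, hea⟩ := HenselianRing.is_henselian (I := I) (Polynomial.X ^ 2 - Polynomial.X) (Polynomial.monic_X_pow_sub
      (by rw [Polynomial.degree_X]; norm_num)) a (by simpa [pow_two, ← Ideal.Quotient.eq_zero_iff_mem] using h1) (by simpa [two_mul, one_add_one_eq_two] using h2)
    refine ⟨e, ?_, by rw [← ha, Ideal.Quotient.eq]; exact hea⟩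
    rw [Polynomial.IsRoot, Polynomial.eval_sub, Polynomial.eval_pow, Polynomial.eval_X, sub_eq_zero, pow_two] at he
    exact he
  choose e he hex using hlift
  refine ⟨e, he, fun P hP M => ?_⟩
  have hIP : I ≤ P := (IsAdicComplete.le_jacobson_bot I).trans (sInf_le ⟨bot_le, hP⟩)
  have : (P.map (Ideal.Quotient.mk I)).IsMaximal :=
    Ideal.IsMaximal.map_of_surjective_of_ker_le Ideal.Quotient.mk_surjective (by rwa [Ideal.mk_ker])
  let N : MaximalSpectrum (B ⧸ I) := ⟨P.map (Ideal.Quotient.mk I), inferInstance⟩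
  have hN : Ideal.Quotient.mk N.asIdeal (x M) = (Pi.single M 1 : ∀ K : MaximalSpectrum (B ⧸ I), (B ⧸ I) ⧸ K.asIdeal) N := by
    rw [← E.apply_symm_apply (Pi.single M 1), ← hxE]
    rfl
  have hmem : e M ∈ P ↔ x M ∈ N.asIdeal := by
    rw [← hex]
    exact (Ideal.mem_quotient_iff_mem_sup (J := P) (I := I)).trans (by rw [sup_eq_left.mpr hIP]) |>.symm
  rw [hmem, ← Ideal.Quotient.eq_zero_iff_mem, hN]
  by_cases h : N = M
  · subst h
    simp only [Pi.single_eq_same, one_ne_zero, not_false_eq_true, true_iff]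
    rfl
  · rw [Pi.single_eq_of_ne h]
    simp only [not_true_eq_false, false_iff]
    exact fun hh => h (MaximalSpectrum.ext hh)


theorem isArtinian_quot (A : Type u) [CommRing A] [IsLocalRing A] (B : Type u) [CommRing B] [Algebra A B] [Module.Finite A B] :
    IsArtinianRing (B ⧸ (IsLocalRing.maximalIdeal A).map (algebraMap A B)) := by
  letI : Field (A ⧸ IsLocalRing.maximalIdeal A) := Ideal.Quotient.field _
  haveI : Module.Finite (A ⧸ IsLocalRing.maximalIdeal A) (B ⧸ (IsLocalRing.maximalIdeal A).map (algebraMap A B)) :=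
    Module.Finite.of_restrictScalars_finite A _ _
  exact IsArtinianRing.of_finite (A ⧸ IsLocalRing.maximalIdeal A) _

theorem isAdicComplete_algebra (A : Type u) [CommRing A] [IsNoetherianRing A] (I : Ideal A) [IsAdicComplete I A]
    (B : Type u) [CommRing B] [Algebra A B] [Module.Finite A B] : IsAdicComplete (I.map (algebraMap A B)) B := by
  haveI := Groth.Agent.Lib.Adic.Complete.isAdicComplete_of_finite (I := I) (M := B)
  exact (IsAdicComplete.map_algebraMap_iff (I := I) (S := B) (M := B)).mpr inferInstance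

theorem le_comap_mk {B : Type u} [CommRing B] (J : Ideal B) (q : PrimeSpectrum (B ⧸ J)) :
    J ≤ (PrimeSpectrum.comap (Ideal.Quotient.mk J) q).asIdeal := fun b hb => by
  rw [PrimeSpectrum.comap_asIdeal, Ideal.mem_comap, Ideal.Quotient.eq_zero_iff_mem.mpr hb]
  exact Ideal.zero_mem _

/-- A point of the closed fibre of a piece of the decomposition. -/
theorem eq_of_mem_piece {B : Type u} [CommRing B] {I : Ideal B} [IsArtinianRing (B ⧸ I)]
    {e : MaximalSpectrum (B ⧸ I) → B}
    (hsep : ∀ (P : Ideal B), P.IsMaximal → ∀ M, (e M ∉ P ↔ P.map (Ideal.Quotient.mk I) = M.asIdeal))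
    (M : MaximalSpectrum (B ⧸ I)) (P : PrimeSpectrum B) (hI : I ≤ P.asIdeal) (he : e M ∉ P.asIdeal) :
    P.asIdeal.map (Ideal.Quotient.mk I) = M.asIdeal := by
  haveI := P.2
  haveI : (P.asIdeal.map (Ideal.Quotient.mk I)).IsPrime :=
    Ideal.map_isPrime_of_surjective Ideal.Quotient.mk_surjective (by rwa [Ideal.mk_ker])
  haveI := IsArtinianRing.isMaximal_of_isPrime (P.asIdeal.map (Ideal.Quotient.mk I))
  have hP : P.asIdeal.IsMaximal := by
    have h := Ideal.comap_isMaximal_of_surjective (Ideal.Quotient.mk I) Ideal.Quotient.mk_surjective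
      (K := P.asIdeal.map (Ideal.Quotient.mk I))
    rwa [Ideal.comap_map_of_surjective _ Ideal.Quotient.mk_surjective, ← RingHom.ker_eq_comap_bot, Ideal.mk_ker,
      sup_eq_left.mpr hI] at h
  exact (hsep _ hP M).mp he

set_option maxHeartbeats 1600000 in
/-- Let A be a complete Noetherian local ring with maximal ideal m, S = Spec A, Sₙ = Spec(A/mⁿ), X =
Spec B a scheme finite over S (B a finite A-algebra) and Y an S-scheme. Then the canonical map
Hom_S(X, Y) → lim Hom_{Sₙ}(Xₙ, Yₙ), Xₙ = Spec(B/mⁿB), is bijective: two S-morphisms X → Y agreeing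
on every Xₙ are equal, and every family of S-morphisms Xₙ → Y compatible with the closed immersions
Xₙ → Xₙ₊₁ comes from an S-morphism X → Y. -/
theorem result (A : Type u) [CommRing A] [IsLocalRing A]
    [IsNoetherianRing A] [IsAdicComplete (IsLocalRing.maximalIdeal A) A] (B : Type u) [CommRing B] [Algebra A B]
    [Module.Finite A B] (Y : Over (Spec (CommRingCat.of A))) :
    (∀ f g : Spec (CommRingCat.of B) ⟶ Y.left, f ≫ Y.hom = Spec.map (CommRingCat.ofHom (algebraMap A B)) →
      g ≫ Y.hom = Spec.map (CommRingCat.ofHom (algebraMap A B)) →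
      (∀ n : ℕ, Spec.map (CommRingCat.ofHom (Ideal.Quotient.mk (Ideal.map (algebraMap A B) ((IsLocalRing.maximalIdeal A) ^ n)))) ≫ f =
        Spec.map (CommRingCat.ofHom (Ideal.Quotient.mk (Ideal.map (algebraMap A B) ((IsLocalRing.maximalIdeal A) ^ n)))) ≫ g) → f = g) ∧
    (∀ u : (n : ℕ) → (Spec (CommRingCat.of (B ⧸ (Ideal.map (algebraMap A B) ((IsLocalRing.maximalIdeal A) ^ n)))) ⟶ Y.left),
      (∀ n : ℕ, u n ≫ Y.hom =
        Spec.map (CommRingCat.ofHom ((Ideal.Quotient.mk (Ideal.map (algebraMap A B) ((IsLocalRing.maximalIdeal A) ^ n))).comp (algebraMap A B)))) →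
      (∀ n : ℕ, Spec.map (CommRingCat.ofHom (Ideal.Quotient.factor
          (Ideal.map_mono (Ideal.pow_le_pow_right (I := (IsLocalRing.maximalIdeal A)) (Nat.le_succ n))))) ≫ u (n + 1) = u n) →
      ∃ f : Spec (CommRingCat.of B) ⟶ Y.left, f ≫ Y.hom = Spec.map (CommRingCat.ofHom (algebraMap A B)) ∧
        ∀ n : ℕ, Spec.map (CommRingCat.ofHom (Ideal.Quotient.mk (Ideal.map (algebraMap A B) ((IsLocalRing.maximalIdeal A) ^ n)))) ≫ f = u n) := by
  classical
  let m := IsLocalRing.maximalIdeal A
  let I := m.map (algebraMap A B)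
  haveI : IsArtinianRing (B ⧸ I) := isArtinian_quot A B
  haveI : IsAdicComplete I B := isAdicComplete_algebra A m B
  obtain ⟨e, he, hsep⟩ := exists_idempotents B I
  have hspan : Ideal.span (Set.range e) = ⊤ := by
    by_contra h
    obtain ⟨P, hP, hle⟩ := Ideal.exists_le_maximal _ h
    have hIP : I ≤ P := (IsAdicComplete.le_jacobson_bot I).trans (sInf_le ⟨bot_le, hP⟩)
    have hM : (P.map (Ideal.Quotient.mk I)).IsMaximal :=
      Ideal.IsMaximal.map_of_surjective_of_ker_le Ideal.Quotient.mk_surjective (by rwa [Ideal.mk_ker])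
    exact (hsep P hP ⟨_, hM⟩).mpr rfl (hle (Ideal.subset_span ⟨_, rfl⟩))
  let 𝒰 : (Spec (CommRingCat.of B)).OpenCover := (Scheme.affineOpenCoverOfSpanRangeEqTop (R := CommRingCat.of B) e hspan).openCover
  -- the pieces
  let c : ∀ M, Spec (CommRingCat.of (Localization.Away (e M))) ⟶ Spec (CommRingCat.of B) := fun M =>
    Spec.map (CommRingCat.ofHom (algebraMap B (Localization.Away (e M))))
  have hsurj : ∀ M, Function.Surjective (algebraMap B (Localization.Away (e M))) := fun M x => by
    obtain ⟨⟨a, ⟨_, k, rfl⟩⟩, hx⟩ := IsLocalization.surj (Submonoid.powers (e M)) x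
    refine ⟨a, ?_⟩
    rw [← hx]
    have h1 : algebraMap B (Localization.Away (e M)) (e M) = 1 := by
      have h := IsLocalization.Away.algebraMap_isUnit (S := Localization.Away (e M)) (e M)
      exact h.mul_left_cancel (by rw [_root_.mul_one, ← map_mul, (he M).eq])
    simp [h1]
  have hfinite : ∀ M, Module.Finite A (Localization.Away (e M)) := fun M =>
    Module.Finite.of_surjective (IsScalarTower.toAlgHom A B (Localization.Away (e M))).toLinearMap (hsurj M)
  have hcompl : ∀ M, IsAdicComplete (m.map (algebraMap A (Localization.Away (e M)))) (Localization.Away (e M)) := fun M => by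
    haveI := hfinite M
    exact isAdicComplete_algebra A m _
  have hle : ∀ M n, Ideal.map (algebraMap A B) (m ^ n) ≤
      ((m.map (algebraMap A (Localization.Away (e M)))) ^ n).comap (algebraMap B (Localization.Away (e M))) := fun M n => by
    rw [← Ideal.map_le_iff_le_comap, Ideal.map_map, ← IsScalarTower.algebraMap_eq, Ideal.map_pow]
  let r : ∀ M n, Spec (CommRingCat.of (Localization.Away (e M) ⧸ (m.map (algebraMap A (Localization.Away (e M)))) ^ n)) ⟶
      Spec (CommRingCat.of (B ⧸ Ideal.map (algebraMap A B) (m ^ n))) := fun M n =>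
    Spec.map (CommRingCat.ofHom (Ideal.quotientMap _ (algebraMap B (Localization.Away (e M))) (hle M n)))
  have hr : ∀ M n, r M n ≫ Spec.map (CommRingCat.ofHom (Ideal.Quotient.mk (Ideal.map (algebraMap A B) (m ^ n)))) =
      Spec.map (CommRingCat.ofHom (Ideal.Quotient.mk ((m.map (algebraMap A (Localization.Away (e M)))) ^ n))) ≫ c M := fun M n => by
    simp only [r, c, ← Spec.map_comp, ← CommRingCat.ofHom_comp, Ideal.quotientMap_comp_mk]
  have hI1 : I = Ideal.map (algebraMap A B) (m ^ 1) := by rw [pow_one]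
  have hpt : ∀ M q q', (r M 1).base q = (r M 1).base q' := fun M q q' => by
    apply PrimeSpectrum.comap_injective_of_surjective (Ideal.Quotient.mk (Ideal.map (algebraMap A B) (m ^ 1))) Ideal.Quotient.mk_surjective
    have key : ∀ q, (PrimeSpectrum.comap (Ideal.Quotient.mk (Ideal.map (algebraMap A B) (m ^ 1))) ((r M 1).base q)).asIdeal.map
        (Ideal.Quotient.mk I) = M.asIdeal := fun q => by
      refine eq_of_mem_piece hsep M _ ?_ ?_
      · intro b hb
        exact le_comap_mk _ _ (hI1 ▸ hb)
      · have h := congr(($(hr M 1)).base q)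
        intro hmem
        have h2 : e M ∈ ((Spec.map (CommRingCat.ofHom (Ideal.Quotient.mk ((m.map (algebraMap A (Localization.Away (e M)))) ^ 1))) ≫ c M).base q).asIdeal :=
          h ▸ hmem
        exact q.2.ne_top (Ideal.eq_top_of_isUnit_mem _ h2
          ((IsLocalization.Away.algebraMap_isUnit (e M)).map (Ideal.Quotient.mk _)))
    have hle' : ∀ q, I ≤ (PrimeSpectrum.comap (Ideal.Quotient.mk (Ideal.map (algebraMap A B) (m ^ 1))) ((r M 1).base q)).asIdeal := fun q b hb =>
      le_comap_mk _ _ (hI1 ▸ hb)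
    apply PrimeSpectrum.ext
    have := congrArg (Ideal.comap (Ideal.Quotient.mk I)) ((key q).trans (key q').symm)
    rwa [Ideal.comap_map_of_surjective _ Ideal.Quotient.mk_surjective, Ideal.comap_map_of_surjective _ Ideal.Quotient.mk_surjective,
      ← RingHom.ker_eq_comap_bot, Ideal.mk_ker, sup_eq_left.mpr (hle' q), sup_eq_left.mpr (hle' q')] at this
  -- an affine open around the image of each piece
  have hV : ∀ (u : Spec (CommRingCat.of (B ⧸ Ideal.map (algebraMap A B) (m ^ 1))) ⟶ Y.left) M,
      ∃ V : Y.left.Opens, IsAffineOpen V ∧ ∀ q, (r M 1 ≫ u).base q ∈ V := by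
    intro u M
    rcases isEmpty_or_nonempty ↥(Spec (CommRingCat.of (Localization.Away (e M) ⧸ (m.map (algebraMap A (Localization.Away (e M)))) ^ 1))) with hE | hE
    · exact ⟨⊥, isAffineOpen_bot _, fun q => (hE.false q).elim⟩
    · obtain ⟨q₀⟩ := hE
      obtain ⟨V, hV, hxV, -⟩ := exists_isAffineOpen_mem_and_subset (X := Y.left) (x := (r M 1 ≫ u).base q₀) (U := ⊤) trivial
      refine ⟨V, hV, fun q => ?_⟩
      show u.base ((r M 1).base q) ∈ V
      rw [hpt M q q₀]
      exact hxV
  refine ⟨fun f g _ _ h => 𝒰.hom_ext f g fun M => ?_, fun u hu hu' => ?_⟩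
  · show c M ≫ f = c M ≫ g
    haveI := hcompl M
    obtain ⟨V, hVa, hVm⟩ := hV (Spec.map (CommRingCat.ofHom (Ideal.Quotient.mk _)) ≫ f) M
    refine ext_of_quot (I := m.map (algebraMap A (Localization.Away (e M)))) _ _ V hVa (fun q => ?_) fun n => ?_
    · have := hVm q
      rw [← Category.assoc] at this
      erw [hr M 1] at this
      rwa [Category.assoc] at this
    · rw [← Category.assoc, ← Category.assoc]
      erw [← hr M n]
      rw [Category.assoc, Category.assoc, h]
  · have hpiece : ∀ M, ∃ f : Spec (CommRingCat.of (Localization.Away (e M))) ⟶ Y.left,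
        ∀ n, Spec.map (CommRingCat.ofHom (Ideal.Quotient.mk ((m.map (algebraMap A (Localization.Away (e M)))) ^ n))) ≫ f = r M n ≫ u n := by
      intro M
      haveI := hcompl M
      obtain ⟨V, hVa, hVm⟩ := hV (u 1) M
      refine exists_of_quot V hVa (fun n => r M n ≫ u n) (fun n => ?_) hVm
      rw [← hu' n, ← Category.assoc, ← Category.assoc]
      congr 1
      simp only [r, ← Spec.map_comp, ← CommRingCat.ofHom_comp]
      congr 2
      exact Ideal.Quotient.ringHom_ext (RingHom.ext fun b => rfl)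
    choose fM hfM using hpiece
    have hdisj : ∀ M M', M ≠ M' → IsEmpty ↥(pullback (c M) (c M')) := fun M M' hne => by
      refine ⟨fun x => ?_⟩
      let P : PrimeSpectrum B := (pullback.fst (c M) (c M') ≫ c M).base x
      have h1 : e M ∉ P.asIdeal := fun hmem => ((pullback.fst (c M) (c M')).base x).2.ne_top
        (Ideal.eq_top_of_isUnit_mem _ hmem (IsLocalization.Away.algebraMap_isUnit (e M)))
      have h2 : e M' ∉ P.asIdeal := fun hmem => by
        have h3 : P = (pullback.snd (c M) (c M') ≫ c M').base x := congr(($(pullback.condition (f := c M) (g := c M'))).base x)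
        rw [h3] at hmem
        exact ((pullback.snd (c M) (c M')).base x).2.ne_top
          (Ideal.eq_top_of_isUnit_mem _ hmem (IsLocalization.Away.algebraMap_isUnit (e M')))
      obtain ⟨Q, hQ, hle⟩ := Ideal.exists_le_maximal _ P.2.ne_top
      have hk : ∀ N, e N ∉ P.asIdeal → e N ∉ Q := fun N hN hNQ => by
        rcases P.2.mem_or_mem (show e N * (1 - e N) ∈ P.asIdeal by rw [mul_sub, _root_.mul_one, (he N).eq, sub_self]; exact zero_mem _) with h | h
        · exact hN h
        · exact hQ.ne_top ((Ideal.eq_top_iff_one _).mpr (by simpa using Q.add_mem (hle h) hNQ))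
      exact hne (MaximalSpectrum.ext (((hsep Q hQ M).mp (hk M h1)).symm.trans ((hsep Q hQ M').mp (hk M' h2))))
    let fM' : ∀ M, 𝒰.X M ⟶ Y.left := fM
    have hcompat : ∀ M M', pullback.fst (𝒰.f M) (𝒰.f M') ≫ fM' M = pullback.snd _ _ ≫ fM' M' := fun M M' => by
      by_cases h : M = M'
      · subst h
        show pullback.fst (c M) (c M) ≫ fM M = pullback.snd (c M) (c M) ≫ fM M
        haveI : IsOpenImmersion (c M) := IsOpenImmersion.of_isLocalization (e M)
        rw [(cancel_mono (c M)).mp pullback.condition]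
      · haveI := hdisj M M' h
        exact (isInitialOfIsEmpty (X := pullback (c M) (c M'))).hom_ext _ _
    obtain ⟨f, hf⟩ : ∃ f : Spec (CommRingCat.of B) ⟶ Y.left, ∀ M, c M ≫ f = fM M :=
      ⟨𝒰.glueMorphisms fM' hcompat, fun M => 𝒰.ι_glueMorphisms fM' hcompat M⟩
    have hfac : ∀ n, Spec.map (CommRingCat.ofHom (Ideal.Quotient.mk (Ideal.map (algebraMap A B) (m ^ n)))) ≫ f = u n := by
      intro n
      let g : MaximalSpectrum (B ⧸ I) → B ⧸ Ideal.map (algebraMap A B) (m ^ n) := fun M => Ideal.Quotient.mk _ (e M)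
      have hg : Ideal.span (Set.range g) = ⊤ := by
        rw [show Set.range g = Ideal.Quotient.mk _ '' Set.range e from (Set.range_comp _ _), ← Ideal.map_span, hspan, Ideal.map_top]
      let 𝒱 := (Scheme.affineOpenCoverOfSpanRangeEqTop (R := CommRingCat.of _) g hg).openCover
      refine 𝒱.hom_ext _ _ fun M => ?_
      let k := Spec.map (CommRingCat.ofHom (algebraMap (B ⧸ Ideal.map (algebraMap A B) (m ^ n)) (Localization.Away (g M))))
      show k ≫ _ = k ≫ _
      -- `k` factors through the piece
      let J := (m.map (algebraMap A (Localization.Away (e M)))) ^ n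
      let α : Localization.Away (e M) →+* Localization.Away (g M) :=
        IsLocalization.Away.lift (e M) (g := (algebraMap _ (Localization.Away (g M))).comp (Ideal.Quotient.mk (Ideal.map (algebraMap A B) (m ^ n))))
          (IsLocalization.Away.algebraMap_isUnit (g M))
      have hα : ∀ b : B, α (algebraMap B (Localization.Away (e M)) b) =
          algebraMap (B ⧸ Ideal.map (algebraMap A B) (m ^ n)) (Localization.Away (g M)) (Ideal.Quotient.mk (Ideal.map (algebraMap A B) (m ^ n)) b) := fun b =>
        IsLocalization.Away.lift_eq (e M) (IsLocalization.Away.algebraMap_isUnit (g M)) b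
      have hJ : ∀ x ∈ J, α x = 0 := by
        have : J ≤ RingHom.ker α := by
          show (m.map (algebraMap A (Localization.Away (e M)))) ^ n ≤ _
          rw [← Ideal.map_pow, Ideal.map_le_iff_le_comap]
          intro a ha
          show α (algebraMap A _ a) = 0
          rw [IsScalarTower.algebraMap_apply A B (Localization.Away (e M)), hα,
            Ideal.Quotient.eq_zero_iff_mem.mpr (Ideal.mem_map_of_mem _ ha), map_zero]
        exact fun x hx => this hx
      have hk : k = Spec.map (CommRingCat.ofHom (Ideal.Quotient.lift J α hJ)) ≫ r M n := by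
        simp only [k, r, ← Spec.map_comp, ← CommRingCat.ofHom_comp]
        congr 2
        exact Ideal.Quotient.ringHom_ext (RingHom.ext fun b => (hα b).symm)
      rw [hk, Category.assoc, Category.assoc]
      congr 1
      rw [← Category.assoc]
      erw [hr M n]
      rw [Category.assoc]
      exact (congrArg (_ ≫ ·) (hf M)).trans (hfM M n)
    have hY : ∀ M : MaximalSpectrum (B ⧸ I), c M ≫ f ≫ Y.hom = c M ≫ Spec.map (CommRingCat.ofHom (algebraMap A B)) := by
      intro M
      rw [← Category.assoc, hf M]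
      haveI := hcompl M
      refine ext_of_quot (I := m.map (algebraMap A (Localization.Away (e M)))) _ _ ⊤ (isAffineOpen_top _) (fun q => trivial) fun n => ?_
      rw [← Category.assoc, hfM M n, Category.assoc, hu n, ← Category.assoc, ← hr M n, Category.assoc, ← Spec.map_comp,
        ← CommRingCat.ofHom_comp]
      rw [← Spec.map_comp, ← Spec.map_comp]
      rfl
    exact ⟨f, 𝒰.hom_ext _ _ hY, hfac⟩

end Groth.Agent.S8385
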