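import Groth.Statements.S9262
import Groth.Agent.Lib.Henselian.Permanence
import Groth.Agent.Lib.Regular.Descent

set_option autoImplicit false
universe u
open Hensel

namespace Groth.Agent.S9262

/-- Let R be a Noetherian local ring with henselization S and strict henselization T. Then R is a
discrete valuation ring exactly when S is one, and exactly when T is one. -/
theorem result (R S T : Type u)
    [CommRing R] [IsLocalRing R] [IsNoetherianRing R] [CommRing S] [IsLocalRing S] [Algebra R S]
    [IsLocalHom (algebraMap R S)] [Hensel.IsHenselization R S] [CommRing T] [IsLocalRing T]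
    [Algebra R T] [IsLocalHom (algebraMap R T)] [Hensel.IsStrictHenselization R T] :
    ((∃ _ : IsDomain R, IsDiscreteValuationRing R) ↔ (∃ _ : IsDomain S, IsDiscreteValuationRing S)) ∧
      ((∃ _ : IsDomain R, IsDiscreteValuationRing R) ↔
        (∃ _ : IsDomain T, IsDiscreteValuationRing T)) := by
  have := Groth.Agent.Lib.Henselian.Permanence.isNoetherianRing R S
  have := Groth.Agent.Lib.Henselian.Permanence.strict_isNoetherianRing R T
  have := Groth.Agent.Lib.Henselian.Henselization.flat R S
  have := Groth.Agent.Lib.Henselian.StrictHenselization.flat R T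
  simp only [Groth.Agent.Lib.Regular.Descent.isDiscreteValuationRing_iff]
  refine ⟨?_, ?_⟩
  · rw [Groth.Agent.Lib.Regular.Descent.isRegularLocalRing_iff S (Groth.Agent.Lib.Henselian.Henselization.map_maximalIdeal R S),
      Groth.Agent.Lib.Henselian.Permanence.ringKrullDim_eq R S]
  · rw [Groth.Agent.Lib.Regular.Descent.isRegularLocalRing_iff T (Groth.Agent.Lib.Henselian.StrictHenselization.map_maximalIdeal R T),
      Groth.Agent.Lib.Henselian.Permanence.strict_ringKrullDim_eq R T]

end Groth.Agent.S9262
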