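import Groth.Statements.S19141
import Groth.Agent.Lib.ImgMT.ImageMT

set_option autoImplicit false
open CategoryTheory MonoidalCategory CartesianMonoidalCategory MonObj GrpObj AlgebraicGeometry
universe u
open SGA3x

open Groth.Agent.Lib.ImgMT

namespace Groth.Agent.S19141

/-- Let f : H ⟶ G be a homomorphism of S-group schemes, with H of multiplicative type (of arbitrary
type) and G separated and of finite presentation over S. Then there is a closed subgroup scheme Q of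
G, of multiplicative type, such that f factors through a faithfully flat (flat and surjective)
homomorphism f' : H ⟶ Q; and the pair (Q, f') is unique: for any other such factorization f = f'' ≫
j'' through a closed subgroup Q'' of multiplicative type there is an isomorphism Q ≅ Q'' over S
carrying j to j'' and f' to f''. (Q is called the image of f.) -/
theorem result {S : Scheme.{u}} (H G : Over S) [GrpObj H] [GrpObj G]
    (hH : TwC.Locally S TwC.Topology.fpqc (fun S' g => ∃ (M : Type) (_ : AddCommGroup M), Nonempty (Grp.mk (Red.bc g H) ≅ Grp.mk (Red.DS S' M))))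
    [IsSeparated G.hom] [QuasiCompact G.hom] [LocallyOfFinitePresentation G.hom] (f : H ⟶ G) [IsMonHom f] :
    (∃ (Q : Over S) (_ : GrpObj Q) (j : Q ⟶ G) (_ : IsMonHom j) (f' : H ⟶ Q) (_ : IsMonHom f'),
      IsClosedImmersion j.left ∧ TwC.Locally S TwC.Topology.fpqc (fun S' g => ∃ (M : Type) (_ : AddCommGroup M), Nonempty (Grp.mk (Red.bc g Q) ≅ Grp.mk (Red.DS S' M))) ∧
      Flat f'.left ∧ Surjective f'.left ∧ f' ≫ j = f) ∧
    (∀ (Q₁ Q₂ : Over S) [GrpObj Q₁] [GrpObj Q₂] (j₁ : Q₁ ⟶ G) (j₂ : Q₂ ⟶ G) [IsMonHom j₁] [IsMonHom j₂]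
      (f₁ : H ⟶ Q₁) (f₂ : H ⟶ Q₂) [IsMonHom f₁] [IsMonHom f₂],
      IsClosedImmersion j₁.left → IsClosedImmersion j₂.left →
      TwC.Locally S TwC.Topology.fpqc (fun S' g => ∃ (M : Type) (_ : AddCommGroup M), Nonempty (Grp.mk (Red.bc g Q₁) ≅ Grp.mk (Red.DS S' M))) →
      TwC.Locally S TwC.Topology.fpqc (fun S' g => ∃ (M : Type) (_ : AddCommGroup M), Nonempty (Grp.mk (Red.bc g Q₂) ≅ Grp.mk (Red.DS S' M))) →
      Flat f₁.left → Surjective f₁.left → f₁ ≫ j₁ = f →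
      Flat f₂.left → Surjective f₂.left → f₂ ≫ j₂ = f →
      ∃ e : Q₁ ≅ Q₂, e.hom ≫ j₂ = j₁ ∧ f₁ ≫ e.hom = f₂) := by
  refine ⟨?_, ?_⟩
  · obtain ⟨Q, gQ, j, hjm, f', hf', -, hjc, hfc, hfac, hMT, -⟩ := exists_image_MT hH f
    obtain ⟨S', g, h1, h2, h3, h4⟩ := hMT
    refine ⟨Q, gQ, j, hjm, f', hf', hjc, ⟨S', g, h1, h2, h3, fun s' => ?_⟩, hfc.1, hfc.2.1, hfac⟩
    obtain ⟨U, hU, M, iM, -, e⟩ := h4 s'
    exact ⟨U, hU, M, iM, e⟩
  · intro Q₁ Q₂ _ _ j₁ j₂ _ _ f₁ f₂ _ _ hc₁ hc₂ _ _ hfl₁ hsj₁ e₁ hfl₂ hsj₂ e₂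
    haveI := isAffineHom_of_locally hH
    haveI : Mono j₁ := (Over.forget S).mono_of_mono_map (show Mono j₁.left from inferInstance)
    haveI : Mono j₂ := (Over.forget S).mono_of_mono_map (show Mono j₂.left from inferInstance)
    have hqc : ∀ {Q : Over S} (j : Q ⟶ G) (f' : H ⟶ Q), IsClosedImmersion j.left → QuasiCompact f'.left := by
      intro Q j f' hj
      haveI : IsSeparated Q.hom := by rw [← Over.w j]; infer_instance
      haveI : QuasiCompact (f'.left ≫ Q.hom) := by rw [Over.w f']; infer_instance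
      exact QuasiCompact.of_comp f'.left Q.hom
    exact exists_iso_of_fac j₁ j₂ f₁ f₂ ⟨hfl₁, hsj₁, hqc j₁ f₁ hc₁⟩ ⟨hfl₂, hsj₂, hqc j₂ f₂ hc₂⟩ (e₁.trans e₂.symm)

end Groth.Agent.S19141
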