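import Groth.Statements.S3006
import Groth.Agent.Lib.MultSmooth.Gen
import Groth.Agent.Lib.GrpSch.Basic
import Groth.Agent.Lib.Tori.Basic

set_option autoImplicit false
universe u
open CategoryTheory MonoidalCategory CartesianMonoidalCategory MonObj GrpObj AlgebraicGeometry
open Red

namespace Groth.Agent.S3006

/-- Let S be a scheme, G an S-group scheme smooth and of finite presentation over S, and q : Q → G a
closed subgroup scheme which is a torus. Then the centralizer and the normalizer of Q in G exist as
closed subgroup schemes of G (characterized on points as in `Red.IsCentralizerOf` /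
`Red.IsNormalizerOf`) and are smooth over S. -/
theorem result (S : Scheme.{u}) (G Q : Over S) [GrpObj G] [GrpObj Q] [Smooth G.hom] [LocallyOfFinitePresentation G.hom] [QuasiCompact G.hom] [QuasiSeparated G.hom] (q : Q ⟶ G) [IsMonHom q] (hq : IsClosedImmersion q.left) (hQ : Red.IsTorus Q) : (∃ (Z : Over S) (_ : GrpObj Z) (z : Z ⟶ G), Red.IsCentralizerOf q z ∧ IsClosedImmersion z.left ∧ Smooth Z.hom) ∧ ∃ (N : Over S) (_ : GrpObj N) (n : N ⟶ G), Red.IsNormalizerOf q n ∧ IsClosedImmersion n.left ∧ Smooth N.hom := by
  have hH : SGA3x.IsMultTypeFT Q := by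
    obtain ⟨S', g, hg, hs, hc, hl⟩ := hQ
    refine ⟨S', g, hg, hs, hc, fun s' => ?_⟩
    obtain ⟨U, hU, r, he⟩ := hl s'
    exact ⟨U, hU, Fin r → ℤ, inferInstance, inferInstance, he⟩
  haveI := Groth.Agent.H87.MT.isAffineHom hH
  haveI := hq
  haveI : IsClosedImmersion η[Q].left := Groth.Agent.Lib.GrpSch.isClosedImmersion_η Q
  haveI : IsClosedImmersion η[G].left := by
    rw [← IsMonHom.one_hom (f := q), Over.comp_left]
    infer_instance
  haveI : IsSeparated G.hom := Groth.Agent.Lib.GrpSch.isSeparated_of_isClosedImmersion_η G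
  exact ⟨Groth.Agent.Lib.MultSmooth.exists_centralizer_smooth' hH q,
    Groth.Agent.Lib.MultSmooth.exists_normalizer_smooth' hH q⟩

end Groth.Agent.S3006
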