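import Groth.Statements.S0356
import Groth.Agent.Lib.Koszul.Stable.Supp
import Groth.Agent.Lib.Koszul.Stable.LC
-- import your own Groth.Agent.* helpers here

set_option autoImplicit false
universe u v
open CategoryTheory AlgebraicGeometry
open LocCoh
open Groth.Agent.Lib.Koszul.Stable

namespace Groth.Agent.S0356

/-- Let R be a Noetherian ring, I an ideal, M an R-module and U = Spec R ∖ V(I) the punctured open. For
every p ≥ 1, the cohomology group H^p(U, M̃|_U) of the restriction to U of the quasi-coherent sheaf
associated with M is isomorphic to the local cohomology H^(p+1)_I(M). (The published statement also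
gives a four-term exact sequence in low degrees, which is not stated here; here R is Noetherian.) -/
theorem result (R : Type u) [CommRing R] [IsNoetherianRing R] (I : Ideal R) (M : Type u) [AddCommGroup M] [Module R M] (p : ℕ) (hp : 1 ≤ p) : Nonempty (Coh.HH (↑(LocCoh.puncturedOpen R I)) ((AlgebraicGeometry.tilde (R := CommRingCat.of R) (ModuleCat.of R M)).restrict (LocCoh.puncturedOpen R I).ι) p ≃+ LocCoh.H I (p + 1) M) := by
  obtain ⟨S, hS⟩ : I.FG := IsNoetherian.noetherian I
  let fs : List R := S.toList
  have hfs : Ideal.span {a | a ∈ fs} = I := by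
    rw [← hS]
    exact congrArg Ideal.span (Set.ext fun a => Finset.mem_toList)
  have hI' : Groth.Agent.Lib.Koszul.Stable.LC.idl fs = I := hfs
  obtain ⟨t⟩ := Supp.nonempty_top_equiv R fs M (p + 1)
  obtain ⟨e⟩ := Groth.Agent.Lib.Koszul.Stable.LC.nonempty_equiv fs (p + 1) M
  haveI : (Supp.sh R M).IsQuasicoherent := by infer_instance
  obtain ⟨a⟩ := SchHH.nonempty_HHon (Supp.sh R M) (fs.map (Supp.φ R))
    (fun j => (AlgebraicGeometry.isAffineOpen_top (Spec (CommRingCat.of R))).basicOpen _)
    (SchLow.union (SchLow.mem' (fs.map (Supp.φ R)))) (SchLow.union_eq _) p hp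
  rw [hI'] at e
  have hU : LocCoh.puncturedOpen R I = SchLow.union (SchLow.mem' (fs.map (Supp.φ R))) := by
    rw [← hfs]; exact Supp.punctured_eq R fs
  rw [hU]
  exact ⟨a.trans (t.symm.trans e.symm.toAddEquiv)⟩


end Groth.Agent.S0356
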