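import Groth.Statements.S8656
import Groth.Agent.Lib.Synt92.KRMor

set_option autoImplicit false
universe u
open CategoryTheory CategoryTheory.Limits AlgebraicGeometry
open Synt

namespace Groth.Agent.S8656

/-- Let f : X ⟶ Y be a local complete intersection morphism in the factorisation sense: every point of X
has an open neighbourhood on which f is locally of finite type and factors as a Koszul-regular
immersion followed by a smooth morphism. Let p : Z ⟶ Y be smooth and i : X ⟶ Z an immersion with i ≫
p = f. Then i is a Koszul-regular immersion. -/
theorem result {X Y Z : Scheme.{u}} (f : X ⟶ Y) (hf : ∀ x : X, Synt.IsKoszulAt f x)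
    (p : Z ⟶ Y) [Smooth p] (i : X ⟶ Z) [IsImmersion i] (h : i ≫ p = f) :
    RegImm.IsRegularImmersion .koszul i := by
  exact (Groth.Agent.Lib.Synt92.KRImm.isRegularImmersion_iff i).2 ⟨inferInstance,
    fun x => Groth.Agent.Lib.Synt92.KRMor.exists_atN_of_koszulAt f p i h x (hf x)⟩

end Groth.Agent.S8656
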