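import Groth.Statements.S5021
import Groth.Agent.Lib.Conormal92.SmoothRank

set_option autoImplicit false
universe u
open CategoryTheory CategoryTheory.Limits AlgebraicGeometry TopologicalSpace
open Unram17

namespace Groth.Agent.S5021

/-- Let f : X ⟶ Y be smooth and j : X' ⟶ X a quasi-compact immersion such that j ≫ f is smooth. Then for
every point x of X' there are an open neighbourhood U of x and an integer n with the conormal sheaf
of j free of rank n on U, and the local dimension at j(x) of the fibre of f through j(x) equals the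
local dimension at x of the fibre of j ≫ f through x plus n. (The published statement allows any
immersion j; this row assumes j quasi-compact, the case in which the conormal sheaf used here is
known to be the conormal sheaf of j.) -/
theorem result {X' X Y : Scheme.{u}} (f : X ⟶ Y) [Smooth f]
    (j : X' ⟶ X) [IsImmersion j] [QuasiCompact j] [Smooth (j ≫ f)] (x : ↥X') :
    ∃ (U : X'.Opens) (n : ℕ), x ∈ U ∧ Nonempty ((Omega.conormal j).restrict U.ι ≅ FlatMod.freeMod (↑U) n) ∧
      FlatMor.fibreDimAt f (j.base x) = FlatMor.fibreDimAt (j ≫ f) x + (n : WithBot ℕ∞) := by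
  obtain ⟨ΩX, dX, hX⟩ := Groth.Agent.Lib.Kaehler.Exists.exists_isUniversal f
  obtain ⟨ΩZ, dZ, hZ⟩ := Groth.Agent.Lib.Kaehler.Exists.exists_isUniversal (j ≫ f)
  obtain ⟨φ, hφ⟩ := Groth.Agent.H63.SectionOmega.exists_conormalDiff j dX
  obtain ⟨c, hc, -⟩ := Groth.Agent.Lib.Kaehler.Basic.existsUnique_diffCompat (h := j) (b := 𝟙 Y)
    (hsq := Category.comp_id _) hX dZ
  obtain ⟨hepi, hex⟩ := Groth.Agent.Lib.Kaehler.Descend.epi_and_exact hX hZ hφ hc
  haveI := Groth.Agent.Lib.Conormal92.Affine.isQCoh_conormal j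
  haveI : ΩX.IsQuasicoherent := Groth.Agent.Lib.Kaehler.Finite.isQuasicoherent hX
  haveI : ((Scheme.Modules.pullback j).obj ΩX).IsQuasicoherent :=
    Groth.Agent.Lib.QCoh.Pullback.isQCoh_pullback j _
  haveI : Mono φ := Groth.Agent.Lib.QCohChart.Basic.mono_of_charts φ fun z => by
    obtain ⟨Y₀, hY₀, hz, -⟩ := AlgebraicGeometry.exists_isAffineOpen_mem_and_subset (U := (⊤ : Y.Opens))
      (x := f (j z)) trivial
    obtain ⟨V, hch, hzV, hV⟩ := Groth.Agent.Lib.Conormal92.Affine.exists_chart j z (W := f ⁻¹ᵁ Y₀) hz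
    refine ⟨j ⁻¹ᵁ V, hch.affine_preimage, hzV, ?_⟩
    exact Groth.Agent.Lib.Conormal92.SplitInj.injective_app hX hφ hch hY₀ hV
      (Groth.Agent.Lib.Kaehler.FSmooth.formallySmooth_appLE
        (Groth.Agent.Lib.SmoothLift.Formal.isFormallySmoothHom_of_smooth (j ≫ f)) hY₀ hch.affine_preimage _)
  haveI : Epi c := hepi
  let S := ShortComplex.mk φ c (Groth.Agent.Lib.Kaehler.Descend.zero hφ hc)
  have hS : S.ShortExact := { exact := hex }
  obtain ⟨U₂, n₁, hx₂, ⟨i₂⟩, hd₁⟩ := Groth.Agent.Lib.Kaehler.SmoothChart.exists_free_fibreDim hX (j x)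
  obtain ⟨U₃, n₂, hx₃, ⟨i₃⟩, hd₂⟩ := Groth.Agent.Lib.Kaehler.SmoothChart.exists_free_fibreDim hZ x
  have hC : FlatMod.IsFinLocFree (Omega.conormal j) :=
    Groth.Agent.Lib.TensorMod.LocFree.of_iso
      ((CategoryTheory.Limits.IsLimit.conePointUniqueUpToIso (kernelIsKernel c) hS.fIsKernel))
      (Groth.Agent.Lib.Perfect.Top.isFinLocFree_kernel c
        (Groth.Agent.Lib.TensorMod.LocFree.isFinLocFree_pullback j
          (Groth.Agent.Lib.Kaehler.LocFree.isFinLocFree_of_smooth hX))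
        (Groth.Agent.Lib.Kaehler.LocFree.isFinLocFree_of_smooth hZ))
  obtain ⟨U, n, hx, ⟨i⟩⟩ := hC x
  refine ⟨U, n, hx, ⟨i⟩, ?_⟩
  obtain ⟨i₂'⟩ := Groth.Agent.Lib.TensorMod.LocFree.pullback_iso_of_restrict_iso j i₂
  have := Groth.Agent.Lib.Conormal92.SmoothRank.rank_eq_add S hS i i₂' i₃ hx hx₂ hx₃
  rw [hd₁, hd₂, this, add_comm n n₂]
  norm_cast

end Groth.Agent.S5021
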