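import Groth.Statements.S9372
import Groth.Agent.Lib.Conormal92.BaseChange

set_option autoImplicit false
universe u
open OmegaSh

namespace Groth.Agent.S9372

open AlgebraicGeometry CategoryTheory in
/-- In a cartesian square with i : Z → X, i' : Z' → X' quasi-compact immersions, g : X → X', gZ : Z →
Z', the canonical map gZ^* C_{Z'/X'} → C_{Z/X} is surjective, and an isomorphism when g is flat.
(The published statement allows arbitrary immersions; this row assumes i and i' quasi-compact.) -/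
theorem result {Z X Z' X' : Scheme.{u}} (i : Z ⟶ X) (i' : Z' ⟶ X') [IsImmersion i] [IsImmersion i']
    [QuasiCompact i] [QuasiCompact i'] (g : X ⟶ X') (gZ : Z ⟶ Z') (hsq : IsPullback i gZ g i')
    (φ : (Scheme.Modules.pullback gZ).obj (Omega.conormal i') ⟶ Omega.conormal i) (hφ : OmegaSh.IsConormalMap i i' g gZ φ) :
    Epi φ ∧ (Flat g → IsIso φ) := by
  haveI := Groth.Agent.Lib.Conormal92.Affine.isQCoh_conormal i
  haveI := Groth.Agent.Lib.Conormal92.Affine.isQCoh_conormal i'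
  haveI : ((Scheme.Modules.pullback gZ).obj (Omega.conormal i')).IsQuasicoherent :=
    Groth.Agent.Lib.QCoh.Pullback.isQCoh_pullback gZ _
  have key : ∀ z : Z, ∃ V : X.Opens, IsAffineOpen (i ⁻¹ᵁ V) ∧ z ∈ i ⁻¹ᵁ V ∧
      Function.Surjective (φ.app (i ⁻¹ᵁ V)) ∧ (Flat g → Function.Injective (φ.app (i ⁻¹ᵁ V))) := by
    intro z
    obtain ⟨⟨V', hV'⟩, hzV', -, hc⟩ := Groth.Agent.Lib.Synt92.KRImm.exists_closed_chart i' (gZ z)
      (O := ⊤) trivial
    have hz : i z ∈ g ⁻¹ᵁ V' := by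
      show (i ≫ g) z ∈ V'
      rw [hsq.w]; exact hzV'
    obtain ⟨V, hV, hzV, eV⟩ := AlgebraicGeometry.exists_isAffineOpen_mem_and_subset (U := g ⁻¹ᵁ V') (x := i z) hz
    have hcl := (Groth.Agent.Lib.Synt92.KRDescentScheme.ker_baseChange i' g i gZ hsq.flip hV' hc hV eV).1
    exact ⟨V, (Groth.Agent.Lib.Synt92.KRImm.isAffine_preimage i hV hcl).1, hzV,
      Groth.Agent.Lib.Conormal92.BaseChange.chart_spec hsq hφ hV' hc hV eV⟩
  have hepi : Epi φ := Groth.Agent.Lib.QCohChart.Basic.epi_of_charts φ fun z => by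
    obtain ⟨V, h1, h2, h3, -⟩ := key z
    exact ⟨_, h1, h2, h3⟩
  refine ⟨hepi, fun hg => ?_⟩
  have hmono : Mono φ := Groth.Agent.Lib.QCohChart.Basic.mono_of_charts φ fun z => by
    obtain ⟨V, h1, h2, -, h4⟩ := key z
    exact ⟨_, h1, h2, h4 hg⟩
  exact isIso_of_mono_of_epi φ

end Groth.Agent.S9372
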