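import Groth.Statements.S0846
import Groth.Agent.Lib.ZeroCyc99.Twist
import Groth.Agent.Lib.ProjTilde.Tensor
import Groth.Agent.Lib.Ample.GG
import Groth.Agent.Lib.ResDescend36.Ample

set_option autoImplicit false
universe u
open Coherent

namespace Groth.Agent.S0846

section

open CategoryTheory CategoryTheory.Limits AlgebraicGeometry
open Groth.Agent.Lib Groth.Agent.Lib.TensorMod.Basic Groth.Agent.Lib.ProjTilde.Basic

variable {R A : Type u} [CommRing R] [CommRing A] [Algebra R A] {𝒜 : ℕ → Submodule R A} [GradedAlgebra 𝒜]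

/-- For a Noetherian graded ring the `D₊(b)`, `b` of one positive degree, cover `Proj`. -/
theorem exists_covers [IsNoetherianRing A] (𝒜 : ℕ → Submodule R A) [GradedAlgebra 𝒜] :
    ∃ d : ℕ, 0 < d ∧ ZeroCyc99.Twist.Covers 𝒜 d ∧ CompactSpace (Proj 𝒜) := by
  classical
  let S : Set A := {a | ∃ i, 0 < i ∧ a ∈ 𝒜 i}
  obtain ⟨T, hTS, hT⟩ := (Submodule.fg_span_iff_fg_span_finset_subset (R := A) S).1 (IsNoetherian.noetherian _)
  have hpos : ∀ a : T, ∃ i, 0 < i ∧ (a : A) ∈ 𝒜 i := fun a => hTS a.2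
  choose e he hmem using hpos
  have hx : ∀ x : ProjectiveSpectrum 𝒜, ∃ a : T, (a : A) ∉ x.asHomogeneousIdeal := by
    intro x
    by_contra! hcon
    have hsub : Submodule.span A S ≤ x.asHomogeneousIdeal.toIdeal :=
      hT.trans_le (Submodule.span_le.2 fun a ha => hcon ⟨a, ha⟩)
    refine x.not_irrelevant_le fun z hz => ?_
    have hz0 : GradedRing.proj 𝒜 0 z = 0 := hz
    change z ∈ x.asHomogeneousIdeal.toIdeal
    rw [← DirectSum.sum_support_decompose 𝒜 z]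
    refine Ideal.sum_mem _ fun i _ => ?_
    rcases Nat.eq_zero_or_pos i with rfl | hi
    · rw [GradedRing.proj_apply] at hz0
      rw [hz0]
      exact zero_mem _
    · exact hsub (Submodule.subset_span ⟨i, hi, Subtype.mem _⟩)
  have hd : 0 < ∏ a : T, e a := Finset.prod_pos fun a _ => he a
  refine ⟨∏ a : T, e a, hd, fun x => ?_, ⟨?_⟩⟩
  · obtain ⟨a, ha⟩ := hx x
    obtain ⟨q, hq⟩ := Finset.dvd_prod_of_mem e (Finset.mem_univ a)
    refine ⟨⟨(a : A) ^ q, ?_⟩, fun h => ha (x.isPrime.mem_of_pow_mem q h)⟩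
    rw [hq, mul_comm]
    simpa using SetLike.pow_mem_graded q (hmem a)
  · have h : (Set.univ : Set (Proj 𝒜)) =
        ⋃ a ∈ (Finset.univ : Finset T), (Proj.basicOpen 𝒜 (a : A) : Set (Proj 𝒜)) :=
      (Set.eq_univ_of_forall fun x => by
        obtain ⟨a, ha⟩ := hx x
        exact Set.mem_iUnion₂.2 ⟨a, Finset.mem_univ a, ha⟩).symm
    rw [h]
    exact Finset.univ.isCompact_biUnion fun a _ =>
      (Proj.isAffineOpen_basicOpen 𝒜 (a : A) (hmem a) (he a)).isCompact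

/-- `O(m) ⊗ O(ad) ≅ O(m + ad)` when the `D₊(b)`, `b` of degree `d`, cover. -/
theorem tensor_twist {d : ℕ} (h : ZeroCyc99.Twist.Covers 𝒜 d) (m a : ℤ) :
    Nonempty (CohB1.tensorMod (Twist.twist 𝒜 m) (Twist.twist 𝒜 (a * d)) ≅ Twist.twist 𝒜 (m + a * d)) := by
  refine ⟨tensorIso (twistIsoTilde m) (twistIsoTilde _) ≪≫
    ProjTilde.Tensor.tensorTildeIso m (a * d) (fun x => ?_) ≪≫ (twistIsoTilde _).symm⟩
  obtain ⟨b, hb⟩ := h x
  refine ⟨_, _, (b : A) ^ a.toNat, (b : A) ^ (-a).toNat, SetLike.pow_mem_graded _ b.2,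
    SetLike.pow_mem_graded _ b.2, ?_, fun h => (x.isPrime.mem_or_mem h).elim
      (fun h => hb (x.isPrime.mem_of_pow_mem _ h)) fun h => hb (x.isPrime.mem_of_pow_mem _ h)⟩
  have h0 : a = (a.toNat : ℤ) - ((-a).toNat : ℤ) := by omega
  simp only [smul_eq_mul, Nat.cast_mul]
  linear_combination (-(d : ℤ)) * h0

theorem tensorPow_twist {d : ℕ} (h : ZeroCyc99.Twist.Covers 𝒜 d) : ∀ n : ℕ,
    Nonempty (CohB1.tensorPow (Twist.twist 𝒜 (d : ℤ)) n ≅ Twist.twist 𝒜 ((n : ℤ) * d))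
  | 0 => ⟨unitIsoTilde ≪≫ (twistIsoTilde 0).symm ≪≫ eqToIso (by simp)⟩
  | n + 1 => by
    obtain ⟨i⟩ := tensorPow_twist h n
    obtain ⟨j⟩ := tensor_twist h ((n : ℤ) * d) 1
    exact ⟨tensorIso i (eqToIso (by simp)) ≪≫ j ≪≫ eqToIso (by push_cast; ring_nf)⟩

theorem aux (𝒜 : ℕ → Submodule R A) [GradedAlgebra 𝒜] [IsNoetherianRing A] (F : (Proj 𝒜).Modules) (hF : Coh.IsCoh F) :
    ∃ (r : ℕ) (d : Fin r → ℤ) (φ : (∐ fun j : Fin r => Twist.twist 𝒜 (d j)) ⟶ F), Epi φ := by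
  obtain ⟨d, hd, hcov, hcomp⟩ := exists_covers 𝒜
  haveI := hcomp
  haveI : QuasiSeparatedSpace (Proj 𝒜) := inferInstance
  have hL := ZeroCyc99.Twist.isAmple_of_covers hd hcov
  obtain ⟨n, hn⟩ := Ample.GG.eventually_genAt_twist hL F hF
  have hP := TensorMod.Invertible.isInvertible_tensorPow hL.1 n
  haveI : F.IsQuasicoherent := hF.1
  haveI : SheafOfModules.IsFiniteType (R := (Proj 𝒜).ringCatSheaf) F := hF.2
  haveI := TensorMod.QCohInv.isQCoh_of_isInvertible hP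
  haveI : SheafOfModules.IsFiniteType (R := (Proj 𝒜).ringCatSheaf) (CohB1.tensorPow (Twist.twist 𝒜 (d : ℤ)) n) :=
    (Ample.GG.isCoh_of_isInvertible hP).2
  obtain ⟨k, p, hp⟩ := ResDescend36.Ample.exists_epi_freeMod _
    (⟨TensorMod.TensorQCoh.isQCoh_tensorMod _ _, TensorMod.TensorQCoh.isFiniteType_tensorMod _ _⟩ :
      Coh.IsCoh (CohB1.tensorMod F (CohB1.tensorPow (Twist.twist 𝒜 (d : ℤ)) n))) (hn n le_rfl)
  obtain ⟨e₁⟩ := tensorPow_twist hcov n
  obtain ⟨e₂⟩ := tensor_twist hcov (-((n : ℤ) * d)) (n : ℤ)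
  let Q := Twist.twist 𝒜 (-((n : ℤ) * d))
  let e : CohB1.tensorMod Q (CohB1.tensorPow (Twist.twist 𝒜 (d : ℤ)) n) ≅ Coh.structureModule (Proj 𝒜) :=
    tensorIso (Iso.refl Q) e₁ ≪≫ e₂ ≪≫ eqToIso (by simp) ≪≫ twistIsoTilde 0 ≪≫ unitIsoTilde.symm
  let e' : CohB1.tensorMod Q (CohB1.tensorMod F (CohB1.tensorPow (Twist.twist 𝒜 (d : ℤ)) n)) ≅ F :=
    tensorIso (Iso.refl Q) (comm _ _) ≪≫ (assoc Q _ F).symm ≪≫ tensorIso e (Iso.refl F) ≪≫ leftUnit F
  let G := (tensorFunctor (Proj 𝒜)).obj Q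
  haveI : PreservesColimitsOfShape (Discrete (Fin k)) G :=
    (preservesSmallestColimits_of_preservesColimits _).preservesColimitsOfShape
  haveI : PreservesColimitsOfShape WalkingSpan G :=
    (preservesSmallestColimits_of_preservesColimits _).preservesColimitsOfShape
  haveI : G.PreservesEpimorphisms := CategoryTheory.preservesEpimorphisms_of_preservesColimitsOfShape G
  let i : (∐ fun _ : Fin k => Q) ≅ G.obj (∐ fun _ : Fin k => Coh.structureModule (Proj 𝒜)) :=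
    Sigma.mapIso (fun _ => (rightUnit Q).symm) ≪≫
      (PreservesCoproduct.iso G (fun _ : Fin k => Coh.structureModule (Proj 𝒜))).symm
  haveI := hp
  haveI : Epi (G.map p) := G.map_epi p
  refine ⟨k, fun _ => -((n : ℤ) * d), i.hom ≫ G.map p ≫ e'.hom, ?_⟩
  have h1 : Epi i.hom := inferInstance
  have h2 : Epi e'.hom := inferInstance
  exact @epi_comp _ _ _ _ _ _ h1 _ (@epi_comp _ _ _ _ _ _ ‹Epi (G.map p)› _ h2)

end

open CategoryTheory CategoryTheory.Limits AlgebraicGeometry in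
/-- Let A be a Noetherian graded ring (graded by ℕ as an R-algebra) and X = Proj A. Then every coherent
O_X-module is a quotient of a finite coproduct of twisting modules O_X(d_1), …, O_X(d_r). -/
theorem result {R A : Type u} [CommRing R] [CommRing A] [Algebra R A]
    (𝒜 : ℕ → Submodule R A) [GradedAlgebra 𝒜] [IsNoetherianRing A] (F : (Proj 𝒜).Modules) (hF : Coh.IsCoh F) :
    ∃ (r : ℕ) (d : Fin r → ℤ) (φ : (∐ fun j : Fin r => Twist.twist 𝒜 (d j)) ⟶ F), Epi φ := by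
  exact aux 𝒜 F hF

end Groth.Agent.S0846
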