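import Groth.Statements.S0219
import Groth.Agent.H34.DimOne
import Mathlib.AlgebraicGeometry.ZariskisMainTheorem

set_option autoImplicit false
universe u
open CategoryTheory CategoryTheory.Limits AlgebraicGeometry TopologicalSpace
open Curves

namespace Groth.Agent.S0219

/-- A morphism over a field from a proper scheme of dimension at most one to a separated scheme, which
does not contract any one-dimensional irreducible component to a point, is finite. -/
theorem result (k : Type u) [Field k] (X Y : Scheme.{u}) (p : X ⟶ Spec (CommRingCat.of k)) (q : Y ⟶ Spec (CommRingCat.of k))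
    [IsProper p] [IsSeparated q] (f : X ⟶ Y) (hf : f ≫ q = p) (hdim : topologicalKrullDim X ≤ 1)
    (h : ∀ Z ∈ irreducibleComponents (X : Type u), topologicalKrullDim Z = 1 → (f.base '' Z).Nontrivial) :
    IsFinite f := by
  subst hf
  have : IsProper f := MorphismProperty.of_postcomp (W := @IsProper) (W' := @IsSeparated) f q inferInstance inferInstance
  have : IsLocallyNoetherian X := LocallyOfFiniteType.isLocallyNoetherian (f ≫ q)
  have : CompactSpace X := QuasiCompact.compactSpace_of_compactSpace (f ≫ q)
  have : IsNoetherian X := ⟨⟩
  have hclosed : ∀ y : Y, IsClosed ({y} : Set Y) → (f.base ⁻¹' {y}).Finite := fun y hy =>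
    Groth.Agent.H34.DimOne.finite_of_no_component hdim (hy.preimage f.continuous) fun Z hZ hZ1 hsub =>
      (h Z hZ hZ1).not_subsingleton
        (Set.subsingleton_singleton.anti (Set.image_subset_iff.2 hsub))
  have : LocallyQuasiFinite f := by
    refine LocallyQuasiFinite.of_finite_preimage_singleton f fun y => ?_
    by_cases hy : IsClosed ({y} : Set Y)
    · exact hclosed y hy
    · refine Set.Finite.subset (s := {x : X | closure {x} ∈ irreducibleComponents X}) ?_ ?_
      · refine Set.Finite.of_finite_image (f := fun x : X => closure ({x} : Set X)) ?_ ?_
        · exact (TopologicalSpace.NoetherianSpace.finite_irreducibleComponents (α := X)).subset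
            (Set.image_subset_iff.2 fun x hx => hx)
        · intro a _ b _ hab
          exact (inseparable_iff_closure_eq.2 hab).eq
      · intro x hx
        refine (Groth.Agent.H34.DimOne.isClosed_or_component hdim x).resolve_left fun hxc => hy ?_
        have := f.isClosedMap _ hxc
        rwa [Set.image_singleton, show f.base x = y from hx] at this
  exact IsFinite.of_isProper_of_locallyQuasiFinite f

end Groth.Agent.S0219
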