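import Groth.Statements.S1557
import Groth.Statements.S1557
import Groth.Agent.H97.EulerFinite
import Groth.Agent.Lib.Curves.Degree

set_option autoImplicit false
universe u
open CategoryTheory CategoryTheory.Limits AlgebraicGeometry
open Variety

namespace Groth.Agent.S1557

/-- On a proper curve X over k with generic point ξ, for E finite locally free of rank n and F coherent
of generic rank r (the dimension of the stalk F_ξ over the field O_{X,ξ}), one has χ(X, E ⊗ F) = r ·
deg(E) + n · χ(X, F). -/
theorem result (k : Type u) [Field k] (X : Scheme.{u}) [X.Over (Spec (CommRingCat.of k))]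
    [IsIntegral X] [IsProper (X ↘ (Spec (CommRingCat.of k)))] (hdim : topologicalKrullDim X = 1)
    (n : ℕ) (E : X.Modules) (hE : FlatMod.IsFinLocFreeOfRank n E) (F : X.Modules) (hF : Coh.IsCoh F) :
    Curv2.euler k X (CohB1.tensorMod E F) =
      (Module.finrank (X.presheaf.stalk (genericPoint X)) (F.presheaf.stalk (genericPoint X)) : ℤ) * Curv2.deg k X E n +
        n * Curv2.euler k X F := by
  haveI := Lib.Curves.GlobalSections.isNoetherian_of_proper k X
  have hE' := Lib.Modules.DualBasis.hasDBases_of_isFinLocFree (Lib.TensorMod.LocFree.of_rank hE)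
  have hcoh : ∀ {M : X.Modules}, Coh.IsCoh M → Coh.IsCoh (CohB1.tensorMod E M) := fun h => by
    obtain ⟨h1, h2⟩ := Lib.Perfect.Coherent.isCoh_of_isFinLocFree (Lib.TensorMod.LocFree.of_rank hE)
    obtain ⟨h3, h4⟩ := h
    exact ⟨Lib.TensorMod.TensorQCoh.isQCoh_tensorMod E _, Lib.TensorMod.TensorQCoh.isFiniteType_tensorMod E _⟩
  have key := Lib.CurveBundle.Devissage.additive_eq (X := X) (A := ℤ)
    (fun M => Curv2.euler k X (CohB1.tensorMod E M) - n * Curv2.euler k X M)
    (fun S hS h₁ h₂ h₃ => by
      have e := Lib.ParBun.Proper.euler_add (k := k) (H97.EulerFinite.ShortExact'.map hE' hS)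
        (hcoh h₁) (hcoh h₂) (hcoh h₃)
      change Curv2.euler k X (CohB1.tensorMod E S.X₂) =
        Curv2.euler k X (CohB1.tensorMod E S.X₁) + Curv2.euler k X (CohB1.tensorMod E S.X₃) at e
      rw [e, Lib.ParBun.Proper.euler_add (k := k) hS h₁ h₂ h₃]
      ring)
    (fun Q hQ h => by
      have hs := (Lib.CurveBundle.Twist.finite_support hdim.le hQ (Lib.Modules.Support.not_mem_support_iff.mpr
        (Lib.CurveBundle.Rank.subsingleton_of_grank_eq_zero hQ h))).2
      rw [H97.EulerFinite.euler_tensor hE hQ hs, sub_self]) F hF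
  rw [Lib.Curves.Euler.euler_eq_of_iso (Lib.TensorMod.Basic.rightUnit E), nsmul_eq_mul] at key
  unfold Lib.CurveBundle.Rank.grank at key
  unfold Curv2.deg
  linarith

end Groth.Agent.S1557
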