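import Groth.Statements.S7640
import Groth.Statements.S7640
import Groth.Agent.S1557
import Groth.Agent.S0219
import Groth.Agent.H97.PushStalk
import Groth.Agent.H54.ChevGen
import Groth.Agent.Lib.SurfInt.Push

set_option autoImplicit false
universe u
open CategoryTheory CategoryTheory.Limits AlgebraicGeometry
open Variety

namespace Groth.Agent.S7640

/-- Let k be a field, let X and Y be proper curves over k (integral, proper over k, of dimension one)
and let f : X → Y be a morphism over k that is not constant, i.e. sends the generic point of X to
that of Y. For a finite locally free module E of rank n on Y, the degree of f^*E is deg(X/Y) ·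
deg(E), where deg(X/Y) is the degree of the function field of X over that of Y. -/
theorem result (k : Type u) [Field k] (X Y : Scheme.{u})
    [X.Over (Spec (CommRingCat.of k))] [Y.Over (Spec (CommRingCat.of k))] [IsIntegral X] [IsIntegral Y]
    [IsProper (X ↘ (Spec (CommRingCat.of k)))] [IsProper (Y ↘ (Spec (CommRingCat.of k)))]
    (hX : topologicalKrullDim X = 1) (hY : topologicalKrullDim Y = 1)
    (f : X ⟶ Y) (hf : f ≫ (Y ↘ (Spec (CommRingCat.of k))) = X ↘ (Spec (CommRingCat.of k)))
    (hξ : f.base (genericPoint X) = genericPoint Y)
    (n : ℕ) (E : Y.Modules) (hE : FlatMod.IsFinLocFreeOfRank n E) :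
    Curv2.deg k X ((Scheme.Modules.pullback f).obj E) n =
      (f.residueDegree (genericPoint X) : ℤ) * Curv2.deg k Y E n := by
  haveI := Lib.Curves.GlobalSections.isNoetherian_of_proper k Y
  haveI := Lib.Curves.GlobalSections.isNoetherian_of_proper k X
  haveI : IsProper (f ≫ (Y ↘ (Spec (CommRingCat.of k)))) := by rw [hf]; infer_instance
  haveI : IsProper f := IsProper.of_comp f (Y ↘ (Spec (CommRingCat.of k)))
  have hsurj : ∀ y : Y, y ∈ Set.range f.base := fun y => by
    have hy : y ∈ closure ({genericPoint Y} : Set Y) := by rw [genericPoint_closure]; trivial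
    exact closure_minimal (Set.singleton_subset_iff.2 (show genericPoint Y ∈ Set.range f.base from ⟨_, hξ⟩)) f.isClosedMap.isClosed_range hy
  haveI : IsFinite f := Groth.Agent.S0219.result k X Y _ _ f hf hX.le fun Z hZ _ => by
    rw [irreducibleComponents_eq_singleton, Set.mem_singleton_iff] at hZ
    subst hZ
    rw [Set.image_univ, Set.eq_univ_of_forall hsurj]
    refine Set.nontrivial_univ_iff.2 ?_
    by_contra hn
    rw [not_nontrivial_iff_subsingleton] at hn
    exact absurd (topologicalKrullDim_zero_of_discreteTopology Y) (by rw [hY]; norm_num)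
  have hfib : ∀ z, f.base z = f.base (genericPoint X) → z = genericPoint X := fun z hz => by
    rcases H34.DimOne.isClosed_or_component hX.le z with h | h
    · exfalso
      have hc : IsClosed ({genericPoint Y} : Set Y) := by
        have := f.isClosedMap _ h
        rwa [Set.image_singleton, hz, hξ] at this
      have huniv : ({genericPoint Y} : Set Y) = Set.univ := by
        rw [← hc.closure_eq, genericPoint_closure]
      haveI : Subsingleton Y := ⟨fun a b => by
        have ha : a ∈ ({genericPoint Y} : Set Y) := by rw [huniv]; trivial
        have hb : b ∈ ({genericPoint Y} : Set Y) := by rw [huniv]; trivial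
        rw [ha, hb]⟩
      exact absurd (topologicalKrullDim_zero_of_discreteTopology Y) (by rw [hY]; norm_num)
    · rw [irreducibleComponents_eq_singleton, Set.mem_singleton_iff] at h
      exact IsGenericPoint.eq (h : IsGenericPoint z Set.univ) (genericPoint_spec X)
  have hr := H97.PushStalk.finrank_push' f f.isClosedMap hfib hξ (Field.toIsField Y.functionField)
    (Field.toIsField X.functionField)
  have key := Groth.Agent.S1557.result k Y hY n E hE ((Coh.push f).obj (Coh.structureModule X))
    (H54.ChevH1.isCoh_N f)
  rw [hr] at key
  have hE' := Lib.Modules.DualBasis.hasDBases_of_isFinLocFree (Lib.TensorMod.LocFree.of_rank hE)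
  let α : CohB1.tensorMod E ((Coh.push f).obj (Coh.structureModule X)) ≅
      (Coh.push f).obj ((Scheme.Modules.pullback f).obj E) :=
    (Lib.Modules.ProjFormula.projIso f (E := E) hE').app (Coh.structureModule X) ≪≫
      (Coh.push f).mapIso (Lib.TensorMod.Basic.rightUnit _)
  haveI := (Lib.Perfect.Coherent.isCoh_of_isFinLocFree
    (Lib.TensorMod.LocFree.of_rank (Lib.TensorMod.LocFree.rank_pullback f hE))).1
  haveI := Lib.TensorMod.QCohInv.isQCoh_structureModule X
  rw [Lib.Curves.Euler.euler_eq_of_iso α, Lib.SurfInt.Push.euler_push f hf,
    Lib.SurfInt.Push.euler_push f hf] at key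
  unfold Curv2.deg at key ⊢
  linarith

end Groth.Agent.S7640
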