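import Groth.Statements.S16712
import Groth.Agent.H97.CurveLift

set_option autoImplicit false
set_option linter.style.haveILetI false
universe u
open CategoryTheory CategoryTheory.Limits AlgebraicGeometry TopologicalSpace
open Variety

namespace Groth.Agent.S16712

/-- Let X and X' be proper schemes over a field k, f : X' → X a surjective k-morphism and L an
invertible O_X-module. Then L is nef, meaning χ(O_C ⊗ L) - χ(O_C) ≥ 0 for every integral closed
subscheme C ⊆ X of dimension one, if and only if the pullback f^*L is nef on X' in the same sense. -/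
theorem result (k : Type u) [Field k] (X X' : Scheme.{u})
    [X.Over (Spec (CommRingCat.of k))] [IsProper (X ↘ (Spec (CommRingCat.of k)))]
    [X'.Over (Spec (CommRingCat.of k))] [IsProper (X' ↘ (Spec (CommRingCat.of k)))]
    (f : X' ⟶ X) (hf : f ≫ (X ↘ (Spec (CommRingCat.of k))) = X' ↘ (Spec (CommRingCat.of k)))
    [Surjective f] (L : X.Modules) (hL : PicF.IsInvertible L) :
    (∀ C : X.IdealSheafData, IsIntegral C.subscheme →
        topologicalKrullDim (C.support : Set X) = 1 →
          0 ≤ Curv2.euler k X (CohB1.tensorMod (ClSub.quotMod C) L) - Curv2.euler k X (ClSub.quotMod C)) ↔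
      (∀ C' : X'.IdealSheafData, IsIntegral C'.subscheme →
        topologicalKrullDim (C'.support : Set X') = 1 →
          0 ≤ Curv2.euler k X' (CohB1.tensorMod (ClSub.quotMod C') ((Scheme.Modules.pullback f).obj L)) -
            Curv2.euler k X' (ClSub.quotMod C')) := by
  let pX := X ↘ Spec (CommRingCat.of k)
  let pX' := X' ↘ Spec (CommRingCat.of k)
  constructor
  · intro h C' hC' hd
    haveI := hC'
    obtain ⟨hI, -, hy⟩ := Groth.Agent.H97.CurveLift.genPt pX' C' (d := 1) hd
    rw [hI]
    generalize C'.subschemeι (genericPoint C'.subscheme) = y at hy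
    change 0 ≤ Curv2.euler k X' (CohB1.tensorMod (Cyc.closureStructureSheaf y) ((Scheme.Modules.pullback f).obj L)) -
      Curv2.euler k X' (Cyc.closureStructureSheaf y)
    rw [Groth.Agent.H97.CurveLift.euler_diff_pullback f hf hL hy]
    by_cases hx : Groth.Agent.Lib.VarDim.Basic.pdim pX (f y) = 1
    · refine mul_nonneg (Int.natCast_nonneg _) ?_
      exact h _ (Groth.Agent.Lib.IntTheory.Curves.isIntegral_ptIdeal (f y)) (by
        rw [Groth.Agent.H97.CurveLift.dim_support_ptIdeal pX (f y), hx]; rfl)
    · rw [Groth.Agent.H97.PushInt.residueDegree_eq_zero pX pX' f hf (y := y) (by rw [hy]; exact hx)]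
      simp
  · intro h C hC hd
    haveI := hC
    obtain ⟨hI, -, hx⟩ := Groth.Agent.H97.CurveLift.genPt pX C (d := 1) hd
    rw [hI]
    haveI := Groth.Agent.Lib.Curves.GlobalSections.isNoetherian_of_proper k X
    haveI := Groth.Agent.Lib.Curves.GlobalSections.isNoetherian_of_proper k X'
    haveI := Groth.Agent.Lib.IntTheory.Push.isProper f hf
    obtain ⟨y, hy, hyd⟩ := Groth.Agent.H97.CurveLift.exists_point pX pX' f hf
      (C.subschemeι (genericPoint C.subscheme))
    rw [← hy] at hx ⊢
    have h1 := h _ (Groth.Agent.Lib.IntTheory.Curves.isIntegral_ptIdeal y) (by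
      rw [Groth.Agent.H97.CurveLift.dim_support_ptIdeal pX' y, hyd, ← hy, hx]; rfl)
    change 0 ≤ Curv2.euler k X' (CohB1.tensorMod (Cyc.closureStructureSheaf y) ((Scheme.Modules.pullback f).obj L)) -
      Curv2.euler k X' (Cyc.closureStructureSheaf y) at h1
    rw [Groth.Agent.H97.CurveLift.euler_diff_pullback f hf hL (by rw [hyd, ← hy, hx])] at h1
    have hlft : LocallyOfFiniteType f := inferInstance
    have hpos : (0 : ℤ) < f.residueDegree y := Int.natCast_pos.2
      (Groth.Agent.Lib.Cyc.Residue.residueDegree_pos_of_eq (Groth.Agent.H97.PushInt.deltaCompat pX pX' f hf) y (by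
        rw [Groth.Agent.Lib.VarDim.Basic.fdelta_eq, Groth.Agent.Lib.VarDim.Basic.fdelta_eq, hyd, hy]))
    exact nonneg_of_mul_nonneg_right h1 hpos

end Groth.Agent.S16712
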