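import Groth.Statements.S17276
import Groth.Agent.H97.CurveEuler
import Groth.Agent.Lib.IntTheory.Additive
import Groth.Agent.Lib.TensorMod.Basic

set_option autoImplicit false
set_option linter.style.haveILetI false
set_option maxHeartbeats 200000
universe u
open CategoryTheory CategoryTheory.Limits AlgebraicGeometry TopologicalSpace
open Variety

namespace Groth.Agent.S17276

open Groth.Agent Groth.Agent.Lib

/-- Let X be a proper scheme over a field k of dimension one (possibly reducible or non-reduced) and L
an invertible O_X-module that is nef, meaning χ(O_C ⊗ L) - χ(O_C) ≥ 0 for every integral closed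
subscheme C ⊆ X of dimension one. Then the degree of L on X, namely χ(L) - χ(O_X), is nonnegative. -/
theorem result (k : Type u) [Field k] (X : Scheme.{u})
    [X.Over (Spec (CommRingCat.of k))] [IsProper (X ↘ (Spec (CommRingCat.of k)))]
    (hdim : topologicalKrullDim X = 1) (L : X.Modules) (hL : PicF.IsInvertible L)
    (hnef : ∀ C : X.IdealSheafData, IsIntegral C.subscheme →
      topologicalKrullDim (C.support : Set X) = 1 →
        0 ≤ Curv2.euler k X (CohB1.tensorMod (ClSub.quotMod C) L) - Curv2.euler k X (ClSub.quotMod C)) :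
    0 ≤ Curv2.deg k X L 1 := by
  haveI := Curves.GlobalSections.isNoetherian_of_proper k X
  obtain ⟨d, hd⟩ := Snapper.DimBound.exists_dim_bound k X
  have hL1 := TensorMod.LocFree.of_isInvertible hL
  have hL' := Modules.DualBasis.hasDBases_of_isFinLocFree (TensorMod.LocFree.of_rank hL1)
  have h0 : ∀ {N : X.Modules}, IsZero N → Curv2.euler k X N = 0 := fun h => by
    rw [Snapper.Chi.euler_eq_eulerCharLE hd, Snapper.Chi.eulerCharLE_isZero h]
  let φ : X.Modules → ℤ := fun F => Curv2.euler k X (CohB1.tensorMod L F) - Curv2.euler k X F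
  have hA1 : IntTheory.Additive.IsAdd (fun F : X.Modules => Curv2.euler k X (CohB1.tensorMod L F)) := by
    refine ⟨fun e => Curves.Euler.euler_eq_of_iso (Functor.mapIso (Modules.DualAdj.tensorL L) e), fun {N} h => ?_,
      fun {S} hS h₁ h₂ h₃ => ?_⟩
    · have hz : IsZero (CohB1.tensorMod L N) := Functor.map_isZero (Modules.DualAdj.tensorL L) h
      exact h0 hz
    · have e := ParBun.Proper.euler_add (k := k) (H97.EulerFinite.ShortExact'.map hL' hS)
        (H97.CurveEuler.isCoh_tensor hL1 h₁) (H97.CurveEuler.isCoh_tensor hL1 h₂)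
        (H97.CurveEuler.isCoh_tensor hL1 h₃)
      change Curv2.euler k X (CohB1.tensorMod L S.X₂) = Curv2.euler k X (CohB1.tensorMod L S.X₁) +
        Curv2.euler k X (CohB1.tensorMod L S.X₃) at e
      exact e
  have hA2 : IntTheory.Additive.IsAdd (fun F : X.Modules => Curv2.euler k X F) :=
    ⟨fun e => Curves.Euler.euler_eq_of_iso e, h0, fun hS h₁ h₂ h₃ => ParBun.Proper.euler_add hS h₁ h₂ h₃⟩
  have hA : IntTheory.Additive.IsAdd φ := hA1.sub hA2
  have hv : IntTheory.Additive.VanishBelow φ 1 := fun F hF hlt => by
    haveI := hF.2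
    have hcl := Modules.Support.isClosed_support F
    have hz : ∀ z ∈ CohB1.support F, topologicalKrullDim (closure {z} : Set X) = ((0 : ℕ) : WithBot ℕ∞) :=
      fun z hz => le_antisymm (Order.le_of_lt_succ ((Devissage.Dim.dim_closure_le hcl hz).trans_lt hlt)) (by
        haveI : Nonempty (IrreducibleCloseds (closure {z} : Set X)) :=
          ⟨⟨closure {⟨z, subset_closure rfl⟩}, isIrreducible_singleton.closure, isClosed_closure⟩⟩
        exact Order.krullDim_nonneg)
    have := H97.EulerFinite.euler_tensor (k := k) hL1 hF fun z hzs => by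
      rw [← closure_subset_iff_isClosed]
      intro w hw
      exact (Devissage.Dim.eq_of_specializes (specializes_iff_mem_closure.2 hw)
        (hz w (hcl.closure_subset_iff.2 (Set.singleton_subset_iff.2 hzs) hw)) (hz z hzs).le).symm
    simp only [φ, this]
    push_cast
    ring
  have hO := Snapper.Twist.isCoh_structureModule X
  have hdT : topologicalKrullDim ((⊤ : Closeds X) : Set X) ≤ ((1 : ℕ) : WithBot ℕ∞) :=
    (Topology.IsInducing.subtypeVal.topologicalKrullDim_le).trans hdim.le
  have key := IntTheory.Additive.eq_sum hA hv hO (T := ⊤) (Set.subset_univ _) hdT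
  have hnn : 0 ≤ φ (Coh.structureModule X) := by
    rw [key]
    refine Finset.sum_nonneg fun y hy => mul_nonneg (Int.natCast_nonneg _) ?_
    have hy' := ((Set.Finite.mem_toFinset _).1 hy).2
    have := hnef (IntMult.ptIdeal y) (H97.CurveEuler.isIntegral_ptIdeal y) (by
      rw [← Scheme.IdealSheafData.range_subschemeι, Devissage.Closure.range_ptIdeal]
      exact hy')
    rw [show ClSub.quotMod (IntMult.ptIdeal y) = Cyc.closureStructureSheaf y from rfl,
      Curves.Euler.euler_eq_of_iso (TensorMod.Basic.comm (Cyc.closureStructureSheaf y) L)] at this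
    exact this
  have e : Curv2.euler k X (CohB1.tensorMod L (Coh.structureModule X)) = Curv2.euler k X L :=
    Curves.Euler.euler_eq_of_iso (TensorMod.Basic.rightUnit L)
  simp only [φ, e] at hnn
  unfold Curv2.deg
  push_cast
  linarith

end Groth.Agent.S17276
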