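import Groth.Statements.S17284
import Groth.Agent.H97.NefCurve
import Groth.Agent.H97.DegCurve
import Groth.Agent.S17276

set_option autoImplicit false
set_option linter.style.haveILetI false
universe u
open CategoryTheory CategoryTheory.Limits AlgebraicGeometry TopologicalSpace
open Variety

namespace Groth.Agent.S17284

open Groth.Agent

/-- (iii) ⇒ (ii): let X be a proper scheme over a field k and E a finite locally free O_X-module.
Suppose that for every regular projective curve C over k (integral, proper over k, of dimension one,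
all local rings regular), every k-morphism f : C → X and every invertible quotient f^*E → M, deg M =
χ(M) - χ(O_C) ≥ 0. Then for every proper k-scheme C of dimension one (equivalently projective;
possibly reducible or non-reduced), every k-morphism f : C → X and every invertible quotient f^*E →
M, deg M = χ(M) - χ(O_C) ≥ 0. (The source states this for proper algebraic spaces X; this is the
case of schemes.) -/
theorem result (k : Type u) [Field k]
    (X : Scheme.{u}) [X.Over (Spec (CommRingCat.of k))] [IsProper (X ↘ (Spec (CommRingCat.of k)))] (E : X.Modules) (hE : FlatMod.IsFinLocFree E)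
    (hnef : ∀ (C : Scheme.{u}) [C.Over (Spec (CommRingCat.of k))] [IsProper (C ↘ (Spec (CommRingCat.of k)))] [IsIntegral C],
      topologicalKrullDim C = 1 → (∀ x : C, IsRegularLocalRing (C.presheaf.stalk x)) →
      ∀ (f : C ⟶ X), f ≫ (X ↘ (Spec (CommRingCat.of k))) = C ↘ (Spec (CommRingCat.of k)) →
      ∀ (M : C.Modules), PicF.IsInvertible M →
      ∀ (q : (Scheme.Modules.pullback f).obj E ⟶ M), Epi q → 0 ≤ Curv2.deg k C M 1) :
    ∀ (C : Scheme.{u}) [C.Over (Spec (CommRingCat.of k))] [IsProper (C ↘ (Spec (CommRingCat.of k)))], topologicalKrullDim C = 1 →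
    ∀ (f : C ⟶ X), f ≫ (X ↘ (Spec (CommRingCat.of k))) = C ↘ (Spec (CommRingCat.of k)) →
    ∀ (M : C.Modules), PicF.IsInvertible M →
    ∀ (q : (Scheme.Modules.pullback f).obj E ⟶ M), Epi q → 0 ≤ Curv2.deg k C M 1 := by
  intro C _ _ hC f hf M hM q hq
  refine Groth.Agent.S17276.result k C hC M hM fun Z hZ hd => ?_
  haveI := hZ
  haveI := Lib.Curves.GlobalSections.isNoetherian_of_proper k C
  obtain ⟨hI, -, hy⟩ := H97.CurveLift.genPt (C ↘ Spec (CommRingCat.of k)) Z (d := 1) hd
  letI : Z.subscheme.Over (Spec (CommRingCat.of k)) := ⟨Z.subschemeι ≫ (C ↘ Spec (CommRingCat.of k))⟩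
  haveI : IsProper (Z.subscheme ↘ Spec (CommRingCat.of k)) :=
    inferInstanceAs (IsProper (Z.subschemeι ≫ (C ↘ Spec (CommRingCat.of k))))
  have hZ1 : topologicalKrullDim Z.subscheme = 1 := by
    rw [Z.subschemeι.isClosedEmbedding.isEmbedding.toHomeomorph.isHomeomorph.topologicalKrullDim_eq,
      Z.range_subschemeι]
    exact hd
  obtain ⟨C', ν, hν, hC'i, hC'd, hreg, hsurj⟩ := H97.NefCurve.exists_regular (k := k) hZ1
  letI : C'.Over (Spec (CommRingCat.of k)) := ⟨ν ≫ Z.subschemeι ≫ (C ↘ Spec (CommRingCat.of k))⟩
  haveI : IsProper (C' ↘ Spec (CommRingCat.of k)) := hν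
  haveI := hC'i
  let h : C' ⟶ C := ν ≫ Z.subschemeι
  have hh : h ≫ (C ↘ Spec (CommRingCat.of k)) = C' ↘ Spec (CommRingCat.of k) := by
    simp only [h, Category.assoc]; rfl
  have hgen : h (genericPoint C') = Z.subschemeι (genericPoint Z.subscheme) := by
    have h1 : ν (genericPoint C') = genericPoint Z.subscheme := by
      have hg := (genericPoint_spec C').image ν.continuous
      rw [Set.image_univ, Set.range_eq_univ.2 hsurj, closure_univ] at hg
      exact hg.eq (genericPoint_spec _)
    simp only [h, Scheme.Hom.comp_apply, h1]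
  have hη := Lib.Nakai.Top.pd_generic (k := k) (X := C') (n := 1) hC'd
  have e := H97.CurveLift.euler_diff_pullback h hh hM (y := genericPoint C') hη
  rw [H97.DegCurve.euler_diff_generic hC'd (PicLoc.isInvertible_pullback h hM), hgen] at e
  haveI := hq
  haveI : (Scheme.Modules.pullback h).PreservesEpimorphisms :=
    Functor.preservesEpimorphisms_of_adjunction (Scheme.Modules.pullbackPushforwardAdjunction h)
  haveI : Epi ((Scheme.Modules.pullback h).map q) := Functor.map_epi _ q
  have key := hnef C' hC'd hreg (h ≫ f) (by rw [Category.assoc, hf, hh]) _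
    (PicLoc.isInvertible_pullback h hM)
    (((Scheme.Modules.pullbackComp h f).app E).inv ≫ (Scheme.Modules.pullback h).map q) inferInstance
  rw [e] at key
  rw [hI]
  haveI := Lib.Curves.GlobalSections.isNoetherian_of_proper k C'
  haveI : IsProper h := Lib.IntTheory.Push.isProper h hh
  have hpos : (0 : ℤ) < h.residueDegree (genericPoint C') := Int.natCast_pos.2
    (Lib.Cyc.Residue.residueDegree_pos_of_eq
      (H97.PushInt.deltaCompat (C ↘ Spec (CommRingCat.of k)) (C' ↘ Spec (CommRingCat.of k)) h hh) _ (by
        rw [Lib.VarDim.Basic.fdelta_eq, Lib.VarDim.Basic.fdelta_eq, hgen, hy]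
        exact congrArg Nat.cast hη))
  exact nonneg_of_mul_nonneg_right key hpos

end Groth.Agent.S17284
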