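import Groth.Statements.S5732
import Groth.Agent.Lib.SymAlg.Frame
import Groth.Agent.Lib.SymAlg.Gen

set_option autoImplicit false
universe u
open CategoryTheory CategoryTheory.Limits AlgebraicGeometry TopologicalSpace Opposite
open scoped HomogeneousIdeal
open EGA2

namespace Groth.Agent.S5732

open Groth.Agent.Lib

/-- Let E be a quasi-coherent O_Y-module with graded symmetric algebra 𝒮 (j : E → 𝒮 landing in degree
one), p : P = P(E) → Y its projective bundle with its charts over affine opens, and O_P(1) the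
fundamental sheaf with its chart identifications. Let φ : E → p_*O_P(1) be the canonical map,
characterised as follows: for an affine open U and a section e of E over U, the section φ(e) of
O_P(1) over p⁻¹(U), read on the chart Proj(𝒮(U)), has value j(e)/1 at every point. Then the morphism
p^*E → O_P(1) adjoint to φ is an epimorphism. -/
theorem result {Y P : Scheme.{u}} (E : Y.Modules) (hE : Coh.IsQCoh E)
    (𝒮 : RelProj.QCGrAlg Y) (j : E ⟶ 𝒮.toModule) (hj : RelProj.IsGrSymAlg E 𝒮 j) (p : P ⟶ Y)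
    (chart : ∀ (U : Y.Opens) (hU : IsAffineOpen U), ((p ⁻¹ᵁ U : P.Opens) : Scheme.{u}) ≅ Proj (𝒮.deg U hU))
    (hP : RelProj.IsRelProj 𝒮 p chart) (O1 : P.Modules)
    (lam : ∀ (U : Y.Opens) (hU : IsAffineOpen U),
      O1 ⟶ (Scheme.Modules.pushforward (RelProj.emb p chart U hU)).obj (GrTwist.twist (𝒮.deg U hU) 1))
    (hO1 : RelProj.IsRelTwist 𝒮 p chart 1 O1 lam)
    (φ : E ⟶ (Scheme.Modules.pushforward p).obj O1)
    (hφ : ∀ (U : Y.Opens) (hU : IsAffineOpen U) (e : Γ(E, U))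
      (y : ↥(RelProj.emb p chart U hU ⁻¹ᵁ (p ⁻¹ᵁ U))),
      GrTwist.val (V := RelProj.emb p chart U hU ⁻¹ᵁ (p ⁻¹ᵁ U))
          ((lam U hU).app (p ⁻¹ᵁ U) ((φ.app U) e)) y =
        algebraMap (𝒮.presheaf.obj (op U)) (GrTwist.Loc (𝒮.deg U hU) y.1)
          ((j.app U) e : 𝒮.presheaf.obj (op U))) :
    Epi (((Scheme.Modules.pullbackPushforwardAdjunction p).homEquiv E O1).symm φ) := by
  set a := ((Scheme.Modules.pullbackPushforwardAdjunction p).homEquiv E O1).symm φ with ha
  have hφa : φ = (Scheme.Modules.pullbackPushforwardAdjunction p).homEquiv E O1 a := by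
    rw [ha, Equiv.apply_symm_apply]
  rw [Adjunction.homEquiv_unit] at hφa
  refine (Modules.Stalk.epi_iff_stalk_surjective _).2 fun x (v : O1.presheaf.stalk x) => ?_
  obtain ⟨U, hU, hxU, -⟩ := exists_isAffineOpen_mem_and_subset (X := Y) (x := p x) (U := ⊤) trivial
  obtain ⟨y, hy⟩ := SymAlg.Frame.exists_point (chart := chart) hU hxU
  obtain ⟨e, he⟩ := SymAlg.Gen.exists_not_mem hj hE hU y
  have hgen := SymAlg.Frame.isGen_of_val hO1 hU (φ.app U e) (hj.2 U hU e) fun y' =>
    (hφ U hU e y').trans (Localization.mk_one_eq_algebraMap _).symm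
  have hxW : x ∈ RelProj.emb p chart U hU ''ᵁ Proj.basicOpen (𝒮.deg U hU) (j.app U e) := ⟨y, he, hy⟩
  suffices h : LinearMap.range (Modules.StalkModule.stalkMapₗ a x) = ⊤ by
    exact h.ge (Submodule.mem_top (x := v))
  refine eq_top_iff.2 fun v _ => ?_
  obtain ⟨W, hxW', c, rfl⟩ := TopCat.Presheaf.exists_germ_eq O1.presheaf v
  have hxi : x ∈ RelProj.emb p chart U hU ''ᵁ Proj.basicOpen (𝒮.deg U hU) (j.app U e) ⊓ W := ⟨hxW, hxW'⟩
  obtain ⟨r, hr⟩ := Ample.GenLocus.exists_coord (hgen.res inf_le_left) (TensorMod.Dual.rs O1 inf_le_right c)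
  have h1 : Ample.GG.gm hxi (TensorMod.Dual.rs O1 inf_le_right c) = Ample.GG.gm hxW' c :=
    Ample.GG.gm_rs _ _ _
  change Ample.GG.gm hxW' c ∈ _
  rw [← h1, hr, Ample.GG.gm_smul, Ample.GG.gm_rs, Ample.GG.gm_rs]
  refine Submodule.smul_mem _ _ ⟨Ample.GG.gm (M := (Scheme.Modules.pullback p).obj E) (show x ∈ p ⁻¹ᵁ U from hxU)
    (((Scheme.Modules.pullbackPushforwardAdjunction p).unit.app E).app U e), ?_⟩
  refine (Modules.StalkModule.stalkMapₗ_germ _ _ _).trans ?_
  exact congrArg (Ample.GG.gm (M := O1) (show x ∈ p ⁻¹ᵁ U from hxU))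
    (congrArg (fun t => t.app U e) hφa).symm

end Groth.Agent.S5732
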