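import Groth.Statements.S5722
import Groth.Agent.H58VA.RelVA

set_option autoImplicit false
universe u
open CategoryTheory CategoryTheory.Limits AlgebraicGeometry TopologicalSpace Opposite
open scoped HomogeneousIdeal
open EGA2

namespace Groth.Agent.S5722

open Groth.Agent.Lib Groth.Agent.H58VA in
theorem isRelAmple_of_isEmbedding {X S P : Scheme.{u}} {f : X ⟶ S} [QuasiCompact f] {E : S.Modules}
    (hE : Coh.IsQCoh E) {𝒮 : RelProj.QCGrAlg S} {j : E ⟶ 𝒮.toModule} (hS : RelProj.IsGrSymAlg E 𝒮 j)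
    {p : P ⟶ S}
    {chart : ∀ (U : S.Opens) (hU : IsAffineOpen U), ((p ⁻¹ᵁ U : P.Opens) : Scheme.{u}) ≅ Proj (𝒮.deg U hU)}
    {O1 : P.Modules}
    {lam : ∀ (U : S.Opens) (hU : IsAffineOpen U),
      O1 ⟶ (Scheme.Modules.pushforward (RelProj.emb p chart U hU)).obj (GrTwist.twist (𝒮.deg U hU) 1)}
    (hO : RelProj.IsRelTwist 𝒮 p chart 1 O1 lam) (i : X ⟶ P) (hcomp : i ≫ p = f)
    (hemb : Topology.IsEmbedding i.base) :
    RelAmple.IsRelAmple f ((Scheme.Modules.pullback i).obj O1) := by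
  have : E.IsQuasicoherent := hE
  refine (Ample.RelAmple.isRelAmple_iff f).2 ⟨‹_›, fun V hV => ?_⟩
  have : IsAffine (V : Scheme.{u}) := hV
  have : CompactSpace (f ⁻¹ᵁ V : Scheme.{u}) := QuasiCompact.compactSpace_of_compactSpace (f ∣_ V)
  have hcov := RelVA.exists_degOne_notMem hS hV
  have hle : f ⁻¹ᵁ V ≤ i ⁻¹ᵁ (p ⁻¹ᵁ V) := le_of_eq (by rw [← hcomp]; rfl)
  let k0 := i.resLE (p ⁻¹ᵁ V) (f ⁻¹ᵁ V) hle
  have h0 : Topology.IsEmbedding k0.base := by
    have h1 : Topology.IsEmbedding (k0 ≫ (p ⁻¹ᵁ V).ι).base := by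
      rw [Scheme.Hom.resLE_comp_ι]
      exact hemb.comp (f ⁻¹ᵁ V).ι.isOpenEmbedding.isEmbedding
    exact Topology.IsEmbedding.of_comp k0.continuous (p ⁻¹ᵁ V).ι.continuous h1
  let k := k0 ≫ (chart V hV).hom
  have : QuasiSeparatedSpace (Proj (𝒮.deg V hV)) :=
    quasiSeparatedSpace_of_quasiSeparated (Proj.toSpecZero (𝒮.deg V hV))
  have : QuasiCompact k := quasiCompact_of_compactSpace k
  have hkq := Ample.RelAmple.isQuasiAffine_of_isEmbedding k
    ((chart V hV).hom.isOpenEmbedding.isEmbedding.comp h0)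
  obtain ⟨ε⟩ := RelVA.pullback_emb_iso hO hV
  let M := GrTwist.twist (𝒮.deg V hV) 1
  have hM : PicF.IsInvertible M := GrTwistOne.isInvertible_twist (d := 1) hcov
  have e : k ≫ RelProj.emb p chart V hV = (f ⁻¹ᵁ V).ι ≫ i := by
    simp only [k, k0, RelProj.emb, Category.assoc, Iso.hom_inv_id_assoc, Scheme.Hom.resLE_comp_ι]
  have key : (Scheme.Modules.pullback k).obj M ≅
      (Scheme.Modules.pullback (f ⁻¹ᵁ V).ι).obj ((Scheme.Modules.pullback i).obj O1) :=
    (Scheme.Modules.pullback k).mapIso ε.symm ≪≫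
      (Scheme.Modules.pullbackComp k (RelProj.emb p chart V hV)).app O1 ≪≫
      (Scheme.Modules.pullbackCongr e).app O1 ≪≫
      ((Scheme.Modules.pullbackComp (f ⁻¹ᵁ V).ι i).app O1).symm
  exact Ample.Pow.isAmple_of_iso key (Ample.Pullback.isAmple_of_qAffAt (PicLoc.isInvertible_pullback k hM)
    fun y => Ample.Pullback.qAffAt_pullback k hkq hM (GrTwistOne.affineAt_twist (d := 1) hcov one_pos _))

/-- Let f : X → Y be a quasi-compact morphism, E a quasi-coherent O_Y-module, 𝒮 its graded symmetric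
algebra, p : P → Y the projective bundle P(E) = Proj(𝒮) with its charts over affine opens, and
O_P(1) its fundamental sheaf, given with its chart identifications. If g : X → P is a Y-morphism (g
≫ p = f) whose underlying map is a homeomorphism of X onto a subspace of P, then the inverse image
g^*O_P(1) is ample relative to f. -/
theorem result {X Y : Scheme.{u}} (f : X ⟶ Y) [QuasiCompact f]
    (E : Y.Modules) (hE : Coh.IsQCoh E) (𝒮 : RelProj.QCGrAlg Y) (j : E ⟶ 𝒮.toModule)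
    (hj : RelProj.IsGrSymAlg E 𝒮 j) (P : Scheme.{u}) (p : P ⟶ Y)
    (chart : ∀ (U : Y.Opens) (hU : IsAffineOpen U), ((p ⁻¹ᵁ U : P.Opens) : Scheme.{u}) ≅ Proj (𝒮.deg U hU))
    (hP : RelProj.IsRelProj 𝒮 p chart) (O1 : P.Modules)
    (lam : ∀ (U : Y.Opens) (hU : IsAffineOpen U),
      O1 ⟶ (Scheme.Modules.pushforward (RelProj.emb p chart U hU)).obj (GrTwist.twist (𝒮.deg U hU) 1))
    (hO1 : RelProj.IsRelTwist 𝒮 p chart 1 O1 lam)
    (g : X ⟶ P) (hg : g ≫ p = f) (hemb : Topology.IsEmbedding g.base) :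
    RelAmple.IsRelAmple f ((Scheme.Modules.pullback g).obj O1) := by
  exact isRelAmple_of_isEmbedding hE hj hO1 g hg hemb

end Groth.Agent.S5722
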