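import Groth.Statements.S6475
import Groth.Agent.Lib.Cyc.DegK.Main
import Groth.Agent.Lib.Cyc.DegK.SuppVanish
import Groth.Agent.Lib.Cyc.SheafLen
import Groth.Agent.Lib.Devissage.Closure

set_option autoImplicit false
universe u
open CategoryTheory AlgebraicGeometry
open Cyc

namespace Groth.Agent.S6475

/-- Let X be proper over a field k, Z ⊂ X a closed subscheme of dimension d and L_1, …, L_d invertible
O_X-modules. Then the intersection number (L_1 ⋯ L_d · Z) equals deg(c_1(L_1) ∩ … ∩ c_1(L_d) ∩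
[Z]_d). The left side is FGA.intNum (alternating sum of Euler characteristics of (⊗_{i∈I} M_i) ⊗ O_Z
with M_i inverse to L_i, which is the number defined through the numerical polynomial); the right
side iterates Cyc.c1CapFun with any nonzero rational sections starting from [Z]_d and takes
ChowOps.deg of the resulting 0-cycle. Dimension function: transcendence degree over k. The caps are
applied starting with L_1 (innermost), the reverse of the displayed order; the degree does not
depend on the order. (The published statement also gives deg_L(Z) = deg(c_1(L)^d ∩ [Z]_d) for an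
ample L, the case L_1 = … = L_d = L; this row does not restate it.) -/
theorem result (k : Type u) [Field k] (X : Scheme.{u}) [X.Over (Spec (CommRingCat.of k))] [IsProper (X ↘ Spec (CommRingCat.of k))] (δ : X → ℤ) (hX : Cyc.IsSetup X δ) (hδ : Cyc.DeltaCompat (X ↘ Spec (CommRingCat.of k)) δ (fun _ => 0)) (Z : Scheme.{u}) (ι : Z ⟶ X) [IsClosedImmersion ι] (d : ℕ) (hd : topologicalKrullDim Z = d) (L M : Fin d → X.Modules) (hL : ∀ i, PicF.IsInvertible (L i)) (hM : ∀ i, Nonempty (CohB1.tensorMod (M i) (L i) ≅ Coh.structureModule X)) (s : (i : Fin d) → (ξ : X) → Cyc.secFibre (L i) ξ) (hs : ∀ i ξ, s i ξ ≠ 0) (γ : ℕ → X → ℤ) (hγ0 : γ 0 = Cyc.subschemeFun δ d ι) (hγs : ∀ (i : ℕ) (h : i < d), γ (i + 1) = Cyc.c1CapFun δ (L ⟨i, h⟩) (γ i) (s ⟨i, h⟩)) (α : AlgebraicCycle X ℤ) (hα : ⇑α = γ d) : FGA.intNum k X d M ((Coh.push ι).obj (Coh.structureModule Z)) = ChowOps.deg (X ↘ Spec (CommRingCat.of k)) δ α := by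
  classical
  haveI := Groth.Agent.Lib.Curves.GlobalSections.isNoetherian_of_proper k X
  obtain ⟨D₀, hD₀⟩ := Groth.Agent.Lib.Snapper.DimBound.exists_dim_bound k X
  have hD : topologicalKrullDim X ≤ (max D₀ d : ℕ) :=
    hD₀.trans (by exact_mod_cast le_max_left D₀ d)
  let F := (Coh.push ι).obj (Coh.structureModule Z)
  have hW : IsClosed (Set.range ι) := ι.isClosedEmbedding.isClosed_range
  have hWd : topologicalKrullDim (Set.range ι) ≤ d := by
    refine le_trans ?_ hd.le
    exact (ι.isClosedEmbedding.isEmbedding.toHomeomorph.symm.isInducing).topologicalKrullDim_le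
  have hz : ∀ x, x ∉ Set.range ι → Subsingleton (F.presheaf.stalk x) := fun x hx =>
    Groth.Agent.Lib.Cyc.SheafLen.subsingleton_push_stalk ι (Coh.structureModule Z) _ hW
      (fun z _ => ⟨z, rfl⟩) x hx
  have hsupp : CohB1.support F ⊆ Set.range ι := fun x hx => by
    by_contra h
    exact hx (hz x h)
  have hF : Cyc.CohLe δ (d : ℤ) F :=
    ⟨Groth.Agent.Lib.Devissage.Closure.isCoh_push_structureModule ι, fun x hx => by
      by_contra h
      haveI := hx
      refine not_subsingleton (F.presheaf.stalk x) (hz x fun hr => h ?_)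
      exact Groth.Agent.Lib.Cyc.DegK.Dim.delta_le hδ hW hWd hr⟩
  obtain ⟨N, hN⟩ : ∃ N : X.Modules, Limits.IsZero N := ⟨_, Limits.isZero_zero _⟩
  have hN' : ∀ x, Subsingleton (N.presheaf.stalk x) := fun x =>
    Groth.Agent.Lib.Modules.Support.not_mem_support_iff.1 (by
      rw [Groth.Agent.Lib.Modules.Support.support_eq_empty_iff.2 hN]
      exact Set.notMem_empty x)
  have hNc : Cyc.CohLe δ (d : ℤ) N :=
    ⟨Groth.Agent.Lib.KRes.CohP.isCoh_of_isZero X hN, fun x hx => absurd hx (not_nontrivial_iff_subsingleton.2 (hN' x))⟩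
  have hM' : ∀ M' ∈ List.ofFn M, PicF.IsInvertible M' := by
    rw [List.forall_mem_ofFn_iff]
    exact fun i => Groth.Agent.Lib.TensorMod.TensorInv.isInvertible_of_tensor_iso (hM i).some
  have hsub : ∀ x, γ 0 x = Cyc.sheafFun δ (d : ℤ) F x - Cyc.sheafFun δ (d : ℤ) N x := fun x => by
    haveI := hN' x
    rw [hγ0, Cyc.subschemeFun, Cyc.sheafFun, Cyc.sheafFun]
    split_ifs with hx
    · rw [Module.length_eq_zero (M := N.presheaf.stalk x)]
      by_cases hr : ∃ z, ι z = x
      · obtain ⟨z, rfl⟩ := hr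
        obtain ⟨e⟩ := Groth.Agent.Lib.Cyc.SheafLen.exists_unit_stalk_equiv (X := Z) z
        rw [show {w : Z | ι w = ι z} = {z} from Set.ext fun w => ι.isClosedEmbedding.injective.eq_iff,
          finsum_mem_singleton, Groth.Agent.Lib.Cyc.SheafLen.length_push_stalk ι (Coh.structureModule Z) z,
          e.length_eq]
        simp
      · haveI : Subsingleton (F.presheaf.stalk x) := hz x fun ⟨z, hz⟩ => hr ⟨z, hz⟩
        rw [Module.length_eq_zero (M := F.presheaf.stalk x),
          show {z : Z | ι z = x} = ∅ from Set.eq_empty_of_forall_notMem fun z hz => hr ⟨z, hz⟩,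
          finsum_mem_empty]
        simp
    · simp
  rw [Groth.Agent.Lib.Snapper.IntNum.intNum_eq_sym,
    Groth.Agent.Lib.Cyc.DegK.SuppVanish.sym_eq hD hW hWd (le_max_right _ _) _ hM' _ hsupp,
    ← Groth.Agent.Lib.Cyc.DegK.Main.key hD hX.2.2 hδ d L M hL hM s hs F N hF hNc γ hsub hγs α hα,
    Groth.Agent.Lib.Snapper.Vanish.sym_isZero _ hM' hN, sub_zero]

end Groth.Agent.S6475
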