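import Groth.Statements.S0238
import Groth.Agent.H95.TopInv.Main
import Groth.Agent.H54.ThickAffine
import Groth.Agent.Lib.FEt.FullyFaithful

set_option autoImplicit false
universe u
open Pi1

namespace Groth.Agent.S0238

open AlgebraicGeometry CategoryTheory CategoryTheory.Limits in
/-- For a thickening, i.e. a closed immersion which is surjective on points, pulling back finite etale
covers is an equivalence of categories. -/
theorem result {X X' : Scheme.{u}} (i : X ⟶ X') [IsClosedImmersion i] [Surjective i] :
    (FEt.restrict i).IsEquivalence := by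
  obtain ⟨hfull, hfaith⟩ := Groth.Agent.Lib.FEt.FullyFaithful.of_isHomeomorph i fun W =>
    Groth.Agent.H95.TopInv.isHomeomorph (pullback.fst W.hom i)
  have : (FEt.restrict i).EssSurj := ⟨fun W₀ => by
    have : Etale W₀.hom := W₀.prop.2
    have : IsFinite W₀.hom := W₀.prop.1
    obtain ⟨W, g, jW, hg, h⟩ := Groth.Agent.H95.TopInv.exists_lift i W₀.hom
    have : IsClosedImmersion jW := MorphismProperty.of_isPullback (P := @IsClosedImmersion) h.flip ‹_›
    have : Surjective jW := MorphismProperty.of_isPullback (P := @Surjective) h.flip ‹_›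
    have : IsIntegralHom g := (Groth.Agent.H54.ThickAffine.isIntegralHom_iff h.w).mp inferInstance
    have : IsFinite g := (IsFinite.iff_isIntegralHom_and_locallyOfFiniteType g).mpr ⟨this, inferInstance⟩
    exact ⟨MorphismProperty.Over.mk ⊤ g ⟨this, hg⟩,
      ⟨MorphismProperty.Over.isoMk h.isoPullback.symm h.isoPullback_inv_snd⟩⟩⟩
  exact { }

end Groth.Agent.S0238
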