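import Groth.Statements.S14457
import Mathlib.RingTheory.Etale.StandardEtale
import Mathlib.RingTheory.AdjoinRoot
import Mathlib.RingTheory.Norm.Basic
import Mathlib.Algebra.Polynomial.Taylor
import Mathlib.Algebra.DualNumber
import Mathlib.Algebra.TrivSqZeroExt.Basic

set_option autoImplicit false
universe u
open CAlg

namespace Groth.Agent.S14457

open Polynomial in
lemma etale_of_unit {A : Type u} [CommRing A] (f : A[X]) (hf : f.Monic)
    (hu : IsUnit (aeval (AdjoinRoot.root f) (derivative f))) : Algebra.Etale A (AdjoinRoot f) := by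
  obtain ⟨y, hy⟩ := isUnit_iff_exists_inv.1 hu
  obtain ⟨p, rfl⟩ := AdjoinRoot.mk_surjective y
  rw [AdjoinRoot.aeval_eq, ← map_mul, ← (AdjoinRoot.mk f).map_one, AdjoinRoot.mk_eq_mk] at hy
  obtain ⟨c, hc⟩ := hy
  let P : StandardEtalePair A := ⟨f, hf, 1, p, -c, 0, by rw [pow_zero]; linear_combination hc⟩
  have hle : Submonoid.powers (AdjoinRoot.mk P.f P.g) ≤ IsUnit.submonoid (AdjoinRoot P.f) := by
    rintro _ ⟨k, rfl⟩
    exact IsUnit.pow _ ((isUnit_one).map (AdjoinRoot.mk P.f))
  exact Algebra.Etale.of_equiv (P.equivAwayAdjoinRoot.trans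
    ((IsLocalization.atUnits (AdjoinRoot P.f) (Submonoid.powers (AdjoinRoot.mk P.f P.g)) hle).symm.restrictScalars A))

open Polynomial in
lemma unit_of_etale {A : Type u} [CommRing A] (f : A[X]) (hf : f.Monic)
    (het : Algebra.Etale A (AdjoinRoot f)) : IsUnit (aeval (AdjoinRoot.root f) (derivative f)) := by
  let J : Ideal (AdjoinRoot f) := Ideal.span {aeval (AdjoinRoot.root f) (derivative f)}
  let B := AdjoinRoot f ⧸ J
  let x : B := Ideal.Quotient.mkₐ A J (AdjoinRoot.root f)
  have hx : aeval x f = 0 := by rw [aeval_algHom_apply, AdjoinRoot.aeval_eq, AdjoinRoot.mk_self, map_zero]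
  have hx' : aeval x (derivative f) = 0 := by
    rw [aeval_algHom_apply]
    exact Ideal.Quotient.eq_zero_iff_mem.2 (Ideal.mem_span_singleton_self _)
  let z : DualNumber B := TrivSqZeroExt.inl x
  let ε : DualNumber B := DualNumber.eps
  have hz : ∀ p : A[X], aeval z p = TrivSqZeroExt.inl (aeval x p) := fun p =>
    aeval_algHom_apply ((TrivSqZeroExt.inlAlgHom A B B)) x p
  have h0 : aeval z f = 0 := by rw [hz, hx, TrivSqZeroExt.inl_zero]
  have h1 : aeval (z + ε) f = 0 := by
    rw [aeval_add_of_sq_eq_zero f z ε (by rw [pow_two]; exact DualNumber.eps_mul_eps), h0, hz, hx',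
      TrivSqZeroExt.inl_zero, zero_mul, add_zero]
  have := Algebra.FormallyUnramified.ext' (TrivSqZeroExt.fstHom A B B).toRingHom
    ⟨2, by
      rw [pow_two, Ideal.zero_eq_bot, eq_bot_iff, Ideal.mul_le]
      intro r hr s hs
      rw [RingHom.mem_ker] at hr hs
      simp at hr hs
      rw [Ideal.mem_bot]
      ext <;> simp [hr, hs]⟩
    (AdjoinRoot.liftAlgHom f (Algebra.ofId A (DualNumber B)) (z + ε) h1)
    (AdjoinRoot.liftAlgHom f (Algebra.ofId A (DualNumber B)) z h0) (fun y => by
      obtain ⟨p, rfl⟩ := AdjoinRoot.mk_surjective y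
      erw [AdjoinRoot.liftAlgHom_mk, AdjoinRoot.liftAlgHom_mk]
      show (TrivSqZeroExt.fstHom A B B) (aeval (z + ε) p) = (TrivSqZeroExt.fstHom A B B) (aeval z p)
      rw [← aeval_algHom_apply, ← aeval_algHom_apply]
      simp [z, ε])
  have he := congrArg TrivSqZeroExt.snd (AlgHom.congr_fun this (AdjoinRoot.root f))
  erw [AdjoinRoot.liftAlgHom_root, AdjoinRoot.liftAlgHom_root] at he
  simp [z, ε] at he
  rw [← Ideal.span_singleton_eq_top]
  refine Ideal.eq_top_of_isUnit_mem _ ?_ isUnit_one
  exact Ideal.Quotient.eq_zero_iff_mem.1 ((map_one _).trans he)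


open Polynomial in
/-- Let A be a commutative ring, a an element of A and n ≥ 1 an integer. The A-algebra A[T]/(T^n − a) is
etale exactly when either n = 1 or the product n·a is a unit of A. (The exponent n is a positive
integer here; for n = 0 the quotient is (A/(1 − a))[T] and the equivalence fails.) -/
theorem result (A : Type u) [CommRing A] (a : A) (n : ℕ) (hn : 1 ≤ n) :
    Algebra.Etale A (AdjoinRoot ((X : A[X]) ^ n - C a)) ↔ n = 1 ∨ IsUnit ((n : A) * a) := by
  classical
  cases subsingleton_or_nontrivial A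
  · exact iff_of_true (etale_of_unit _ (monic_X_pow_sub_C a (by omega))
      (by haveI := Module.subsingleton A (AdjoinRoot ((X : A[X]) ^ n - C a)); exact isUnit_of_subsingleton _))
      (Or.inr (isUnit_of_subsingleton _))
  let f : A[X] := X ^ n - C a
  have hf : f.Monic := monic_X_pow_sub_C a (by omega)
  have key : aeval (AdjoinRoot.root f) (derivative f) =
      algebraMap A (AdjoinRoot f) n * AdjoinRoot.root f ^ (n - 1) := by
    simp [f, derivative_X_pow]
  have hroot : AdjoinRoot.root f ^ n = algebraMap A (AdjoinRoot f) a := by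
    have : aeval (AdjoinRoot.root f) f = 0 := by rw [AdjoinRoot.aeval_eq, AdjoinRoot.mk_self]
    simpa [f, sub_eq_zero] using this
  have desc : ∀ c : A, IsUnit (algebraMap A (AdjoinRoot f) c) → IsUnit c := by
    intro c hc
    have := hc.map (Algebra.norm A)
    rw [Algebra.norm_algebraMap_of_basis (AdjoinRoot.powerBasis' hf).basis] at this
    refine (isUnit_pow_iff ?_).1 this
    simp [f, natDegree_X_pow_sub_C]; omega
  constructor
  · intro het
    by_cases h1 : n = 1
    · exact Or.inl h1
    right
    have hu := unit_of_etale f hf het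
    rw [key, IsUnit.mul_iff, isUnit_pow_iff (by omega)] at hu
    exact (desc _ hu.1).mul (desc _ (hroot ▸ hu.2.pow n))
  · intro h
    refine etale_of_unit f hf ?_
    rw [key]
    rcases h with rfl | h
    · simp
    · refine ((isUnit_of_mul_isUnit_left h).map _).mul ?_
      have : IsUnit (AdjoinRoot.root f ^ n) := hroot ▸ (isUnit_of_mul_isUnit_right h).map _
      exact IsUnit.pow _ ((isUnit_pow_iff (by omega)).1 this)

end Groth.Agent.S14457
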