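import Groth.Statements.S1967
import Groth.Agent.Lib.WeaklyEt.Normal

set_option autoImplicit false
universe u
open TensorProduct
open EtAlg

open scoped TensorProduct

namespace Groth.Agent.S1967


/-- If A is an integrally closed domain with fraction field K and B is weakly etale over A, then every
element of B ⊗_A K that is integral over B (via b ↦ b ⊗ 1) already comes from B. -/
theorem result (A : Type u) [CommRing A] [IsDomain A] [IsIntegrallyClosed A]
    (K : Type u) [Field K] [Algebra A K] [IsFractionRing A K] (B : Type u) [CommRing B] [Algebra A B]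
    [Algebra.WeaklyEtale A B] :
    IsIntegrallyClosedIn B (B ⊗[A] K) := by
  refine isIntegrallyClosedIn_iff.mpr ⟨?_, fun {x} hx => ?_⟩
  · intro a b h
    refine (TensorProduct.rid A B).symm.injective ?_
    refine Module.Flat.lTensor_preserves_injective_linearMap (Algebra.linearMap A K)
      (IsFractionRing.injective A K) ?_
    have e : ∀ z : B, (Algebra.linearMap A K).lTensor B (z ⊗ₜ[A] (1 : A)) = algebraMap B (B ⊗[A] K) z :=
      fun z => by
        rw [LinearMap.lTensor_tmul, Algebra.linearMap_apply, map_one]
        rfl
    rw [TensorProduct.rid_symm_apply, TensorProduct.rid_symm_apply, e, e, h]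
  · let c := Algebra.TensorProduct.comm A B K
    have hint : (Algebra.TensorProduct.includeRight (R := A) (A := K) (B := B)).toRingHom.IsIntegralElem (c x) := by
      obtain ⟨p, hp, hpx⟩ := hx
      refine ⟨p, hp, ?_⟩
      have h := congrArg c.toRingEquiv.toRingHom hpx
      rw [Polynomial.hom_eval₂, map_zero] at h
      have e : c.toRingEquiv.toRingHom.comp (algebraMap B (B ⊗[A] K)) =
          (Algebra.TensorProduct.includeRight (R := A) (A := K) (B := B)).toRingHom :=
        RingHom.ext fun b => rfl
      rw [e] at h
      exact h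
    obtain ⟨f, hf⟩ :=
      Groth.Agent.Lib.WeaklyEt.Normal.mem_range_of_isIntegral B K (c x) hint
    suffices hsuff : ∀ f : integralClosure A K ⊗[A] B, ∃ y : B,
        Algebra.TensorProduct.map (integralClosure A K).val (AlgHom.id A B) f =
          (1 : K) ⊗ₜ[A] y by
      obtain ⟨y, hy⟩ := hsuff f
      refine ⟨y, c.injective ?_⟩
      rw [← hf, hy]
      rfl
    intro f
    induction f with
    | zero => exact ⟨0, by rw [map_zero, TensorProduct.tmul_zero]⟩
    | add p q hp hq =>
      obtain ⟨y, hy⟩ := hp
      obtain ⟨z, hz⟩ := hq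
      exact ⟨y + z, by rw [map_add, hy, hz, TensorProduct.tmul_add]⟩
    | tmul k b =>
      obtain ⟨a, ha⟩ := IsIntegrallyClosed.isIntegral_iff.mp k.2
      refine ⟨a • b, ?_⟩
      rw [Algebra.TensorProduct.map_tmul, ← TensorProduct.smul_tmul, ← Algebra.algebraMap_eq_smul_one, ha]
      rfl

end Groth.Agent.S1967
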