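import Groth.Statements.S0516
import Groth.Agent.Lib.Henselian.QuasiFinite

set_option autoImplicit false
universe u
open Hensel

namespace Groth.Agent.S0516

/-- An unramified algebra `S` (formally unramified of finite type) over a strictly henselian local ring
`R` is isomorphic over `R` to a product of finitely many quotient rings of `R` and an `R`-algebra in
which the maximal ideal of `R` generates the unit ideal. -/
theorem result (R : Type u) [CommRing R]
    [HenselianLocalRing R] [IsSepClosed (IsLocalRing.ResidueField R)] (S : Type u) [CommRing S] [Algebra R S]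
    [Algebra.Unramified R S] :
    ∃ (ι : Type u) (_ : Fintype ι) (A : ι → Type u) (_ : ∀ i, CommRing (A i))
      (_ : ∀ i, Algebra R (A i)) (B : Type u) (_ : CommRing B) (_ : Algebra R B),
      (∀ i, Function.Surjective (algebraMap R (A i))) ∧
      Ideal.map (algebraMap R B) (IsLocalRing.maximalIdeal R) = ⊤ ∧
      Nonempty (S ≃ₐ[R] ((∀ i, A i) × B)) := by
  classical
  obtain ⟨e, he, hfin, hnot⟩ :=
    Groth.Agent.Lib.Henselian.QuasiFinite.exists_idempotent_not_quasiFiniteAt R S
  let J₁ := Ideal.span ({1 - e} : Set S)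
  let J₂ := Ideal.span ({e} : Set S)
  have htop : Ideal.map (algebraMap R (S ⧸ J₂)) (IsLocalRing.maximalIdeal R) = ⊤ := by
    by_contra hne
    obtain ⟨n, hn, hle⟩ := Ideal.exists_le_maximal _ hne
    exact hnot n ⟨(IsLocalRing.maximalIdeal.isMaximal R).eq_of_le (Ideal.IsPrime.under R n).ne_top
      (Ideal.map_le_iff_le_comap.mp hle)⟩ inferInstance
  have hbij := Groth.Agent.Lib.Henselian.Finite.toPiLocalization_bijective (A := R) (B := S ⧸ J₁)
  have := Groth.Agent.Lib.Henselian.Finite.finite_maximalSpectrum R (B := S ⧸ J₁)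
  cases nonempty_fintype (MaximalSpectrum (S ⧸ J₁))
  refine ⟨MaximalSpectrum (S ⧸ J₁), inferInstance, fun n => Localization.AtPrime n.asIdeal,
    fun _ => inferInstance, fun _ => inferInstance, S ⧸ J₂, inferInstance, inferInstance,
    fun n => ?_, htop, ?_⟩
  · -- each factor is a finite unramified local algebra with residue field `k`
    have hsurj : Function.Surjective (algebraMap (S ⧸ J₁) (Localization.AtPrime n.asIdeal)) :=
      fun y => by
        obtain ⟨t, ht⟩ := hbij.2 (Pi.single n y)
        exact ⟨t, by simpa [MaximalSpectrum.toPiLocalization_apply_apply] using congrFun ht n⟩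
    let L := Localization.AtPrime n.asIdeal
    have : Module.Finite R L :=
      Module.Finite.of_surjective (IsScalarTower.toAlgHom R (S ⧸ J₁) L).toLinearMap hsurj
    have : Algebra.FormallyUnramified R L :=
      Algebra.FormallyUnramified.of_surjective
        ((IsScalarTower.toAlgHom R (S ⧸ J₁) L).comp (Ideal.Quotient.mkₐ R J₁))
        (hsurj.comp Ideal.Quotient.mk_surjective)
    have hmax : (IsLocalRing.maximalIdeal L).comap (algebraMap R L) = IsLocalRing.maximalIdeal R :=
      IsLocalRing.eq_maximalIdeal (Ideal.isMaximal_comap_of_isIntegral_of_isMaximal _)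
    have : IsLocalHom (algebraMap R L) :=
      ((IsLocalRing.local_hom_TFAE (algebraMap R L)).out 0 4).mpr hmax
    have hmap : Ideal.map (algebraMap R L) (IsLocalRing.maximalIdeal R) = IsLocalRing.maximalIdeal L :=
      Algebra.FormallyUnramified.map_maximalIdeal
    let k := IsLocalRing.ResidueField R
    let K := IsLocalRing.ResidueField L
    have : Algebra.IsSeparable k K := inferInstance
    suffices h : (⊤ : Submodule R L) ≤
        LinearMap.range (Algebra.linearMap R L) ⊔ IsLocalRing.maximalIdeal R • (⊤ : Submodule R L) by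
      intro y
      exact Submodule.le_of_le_smul_of_le_jacobson_bot Module.Finite.fg_top
        (IsLocalRing.maximalIdeal_le_jacobson ⊥) h (Submodule.mem_top (x := y))
    rintro y -
    obtain ⟨c, hc⟩ := IsSepClosed.algebraMap_surjective k K (IsLocalRing.residue L y)
    obtain ⟨r, rfl⟩ := IsLocalRing.residue_surjective c
    rw [show y = algebraMap R L r + (y - algebraMap R L r) by ring]
    refine Submodule.add_mem_sup ⟨r, rfl⟩ ?_
    rw [Ideal.smul_top_eq_map]
    show _ ∈ Ideal.map (algebraMap R L) _
    rw [hmap, ← IsLocalRing.residue_eq_zero_iff, map_sub, ← hc, sub_eq_zero]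
    rfl
  · let e₁ : (S ⧸ J₁) ≃ₐ[R] ∀ n : MaximalSpectrum (S ⧸ J₁), Localization.AtPrime n.asIdeal :=
      AlgEquiv.ofRingEquiv (f := RingEquiv.ofBijective _ hbij) fun r => funext fun n =>
        (IsScalarTower.algebraMap_apply R (S ⧸ J₁) (Localization.AtPrime n.asIdeal) r).symm
    let ψ := (Ideal.Quotient.mkₐ R J₁).prod (Ideal.Quotient.mkₐ R J₂)
    have hψ : Function.Bijective ψ := by
      refine ⟨fun x y hxy => ?_, fun z => ?_⟩
      · obtain ⟨h1, h2⟩ := Prod.ext_iff.mp hxy
        obtain ⟨c, hc⟩ := Ideal.mem_span_singleton.mp (Ideal.Quotient.eq.mp h1)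
        obtain ⟨d, hd⟩ := Ideal.mem_span_singleton.mp (Ideal.Quotient.eq.mp h2)
        linear_combination e * hc + (1 - e) * hd + (-c - d) * he.eq
      · obtain ⟨x, hx⟩ := Ideal.Quotient.mk_surjective z.1
        obtain ⟨y, hy⟩ := Ideal.Quotient.mk_surjective z.2
        refine ⟨e * x + (1 - e) * y, Prod.ext (Eq.trans ?_ hx) (Eq.trans ?_ hy)⟩ <;>
          refine Ideal.Quotient.eq.mpr (Ideal.mem_span_singleton.mpr ?_)
        · exact ⟨y - x, by ring⟩
        · exact ⟨x - y, by ring⟩
    exact ⟨(AlgEquiv.ofBijective ψ hψ).trans (AlgEquiv.prodCongr e₁ AlgEquiv.refl)⟩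

end Groth.Agent.S0516
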