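import Groth.Statements.S9306
import Groth.Agent.H48.FSExtApply

set_option autoImplicit false
universe u
open EtRam

namespace Groth.Agent.S9306

open IsLocalRing

theorem geomRed_of_separable (k E : Type u) [Field k] [Field E] [Algebra k E] [Algebra.IsSeparable k E] :
    Algebra.IsGeometricallyReduced k E := by
  refine Algebra.IsGeometricallyReduced.of_forall_fg fun C hC => ?_
  haveI : Algebra.FiniteType k C := C.fg_iff_finiteType.mp hC
  haveI : Algebra.IsIntegral k C := Algebra.IsIntegral.of_injective C.val Subtype.val_injective
  haveI : Module.Finite k C := Algebra.IsIntegral.finite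
  letI : Field C := (isField_of_isIntegral_of_isField' (R := k) (S := C) (Field.toIsField k)).toField
  haveI : Algebra.IsSeparable k C := Algebra.IsSeparable.of_algHom k E C.val
  haveI : Algebra.FormallyUnramified k C := Algebra.FormallyUnramified.of_isSeparable k C
  rw [Algebra.isGeometricallyReduced_field_iff]
  exact Algebra.FormallyUnramified.isReduced_of_field (AlgebraicClosure k) _

open TensorProduct in
/-- Let A → B be an injective local homomorphism of discrete valuation rings with fraction fields K ⊆ L,
and let K' be a finite separable extension of K that is unramified relative to A. Then every field F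
onto which K' ⊗_K L surjects is, as an extension of L, unramified relative to B. (The published
statement also records that K' ⊗_K L is a finite product of fields, whose factors are these F; this
row does not state that part.) -/
theorem result (A B K L K' : Type u) [CommRing A] [IsDomain A]
    [IsDiscreteValuationRing A] [CommRing B] [IsDomain B] [IsDiscreteValuationRing B] [Algebra A B]
    [IsLocalHom (algebraMap A B)] (hinj : Function.Injective (algebraMap A B))
    [Field K] [Field L] [Field K'] [Algebra A K] [IsFractionRing A K] [Algebra B L] [IsFractionRing B L]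
    [Algebra K L] [Algebra A L] [IsScalarTower A K L] [IsScalarTower A B L]
    [Algebra K K'] [FiniteDimensional K K'] [Algebra.IsSeparable K K']
    (h : EtRam.IsUnramifiedExt A ((algebraMap K K').comp (algebraMap A K)))
    (F : Type u) [Field F] [Algebra (K' ⊗[K] L) F] (hF : Function.Surjective (algebraMap (K' ⊗[K] L) F)) :
    EtRam.IsUnramifiedExt B ((algebraMap (K' ⊗[K] L) F).comp
      ((Algebra.TensorProduct.includeRight : L →ₐ[K] K' ⊗[K] L).toRingHom.comp (algebraMap B L))) := by
  intro W hW
  intro _
  letI : Algebra L F := ((algebraMap (K' ⊗[K] L) F).comp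
    (Algebra.TensorProduct.includeRight : L →ₐ[K] K' ⊗[K] L).toRingHom).toAlgebra
  letI : Algebra K F := ((algebraMap L F).comp (algebraMap K L)).toAlgebra
  haveI : IsScalarTower K L F := IsScalarTower.of_algebraMap_eq fun _ => rfl
  let f : K' →ₐ[K] F :=
    { (algebraMap (K' ⊗[K] L) F).comp (Algebra.TensorProduct.includeLeft : K' →ₐ[K] K' ⊗[K] L).toRingHom with
      commutes' := fun k => by
        show algebraMap (K' ⊗[K] L) F (Algebra.TensorProduct.includeLeft (algebraMap K K' k)) =
          algebraMap (K' ⊗[K] L) F (Algebra.TensorProduct.includeRight (algebraMap K L k))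
        congr 1
        exact ((Algebra.TensorProduct.includeLeft : K' →ₐ[K] K' ⊗[K] L).commutes k).trans
          ((Algebra.TensorProduct.includeRight : L →ₐ[K] K' ⊗[K] L).commutes k).symm }
  have hgen : Algebra.adjoin L (Set.range f) = ⊤ := by
    refine eq_top_iff.2 fun z htop => ?_
    clear htop
    obtain ⟨t, rfl⟩ := hF z
    induction t using TensorProduct.induction_on with
    | zero => rw [map_zero]; exact zero_mem _
    | tmul x y =>
      rw [show (x ⊗ₜ[K] y : K' ⊗[K] L) = (Algebra.TensorProduct.includeLeft : K' →ₐ[K] K' ⊗[K] L) x *
        (Algebra.TensorProduct.includeRight : L →ₐ[K] K' ⊗[K] L) y by simp, map_mul]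
      exact mul_mem (Algebra.subset_adjoin ⟨x, rfl⟩) (Subalgebra.algebraMap_mem _ y)
    | add x y hx hy => rw [map_add]; exact add_mem hx hy
  have hcomp : ∀ a : A, algebraMap B L (algebraMap A B a) = algebraMap K L (algebraMap A K a) := fun a => by
    rw [← IsScalarTower.algebraMap_apply, ← IsScalarTower.algebraMap_apply]
  have hW' : EtRam.Dominates B ((algebraMap L F).comp (algebraMap B L)) W := hW
  letI : Algebra B W := (RingHom.codRestrict _ W hW'.1).toAlgebra
  have hV := Groth.Agent.H48.FSExt.dominates_comap hcomp f W hW'
  letI : Algebra A (W.comap f.toRingHom) := (RingHom.codRestrict _ (W.comap f.toRingHom) hV.1).toAlgebra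
  haveI : IsLocalHom (algebraMap A (W.comap f.toRingHom)) := Groth.Agent.H48.DomVal.isLocalHom_of_dominates hV
  haveI := Groth.Agent.H48.FSExt.finite_of_adjoin f hgen
  haveI : IsDiscreteValuationRing W := Groth.Agent.H48.FSExt.isDVR W hW'
  haveI : IsDiscreteValuationRing (W.comap f.toRingHom) := Groth.Agent.H48.FSExt.isDVR (W.comap f.toRingHom) hV
  obtain ⟨hwu, hsep⟩ := h (W.comap f.toRingHom) hV
  haveI := geomRed_of_separable (ResidueField A) (ResidueField (W.comap f.toRingHom))
  have hAV : Function.Injective (algebraMap A (W.comap f.toRingHom)) := fun a b hab =>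
    IsFractionRing.injective A K ((algebraMap K K').injective (congrArg Subtype.val hab))
  have he := (Groth.Agent.H48.DomVal.isWeaklyUnramified_iff hAV).1 hwu
  obtain ⟨hwB, hgr⟩ := Groth.Agent.H48.FSExt.main hAV hinj (f.toRingHom.comp (W.comap f.toRingHom).subtype)
    ((algebraMap L F).comp (algebraMap B L)) (f.injective.comp Subtype.val_injective)
    ((algebraMap L F).injective.comp (IsFractionRing.injective B L))
    (RingHom.ext fun a => by
      show f (algebraMap K K' (algebraMap A K a)) = algebraMap L F (algebraMap B L (algebraMap A B a))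
      rw [hcomp, f.commutes]; rfl)
    (eq_top_iff.2 fun z htop => by
      clear htop
      have hz : z ∈ Algebra.adjoin L (Set.range f) := by rw [hgen]; trivial
      induction hz using Algebra.adjoin_induction with
      | mem x hx =>
        obtain ⟨y, rfl⟩ := hx
        rcases (W.comap f.toRingHom).mem_or_inv_mem y with h | h
        · exact Subfield.subset_closure (Or.inl ⟨⟨y, h⟩, rfl⟩)
        · rw [← inv_inv (f y), ← map_inv₀]
          exact inv_mem (Subfield.subset_closure (Or.inl ⟨⟨y⁻¹, h⟩, rfl⟩))
      | algebraMap l =>
        obtain ⟨a, b, -, rfl⟩ := IsFractionRing.div_surjective B l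
        rw [map_div₀]
        exact div_mem (Subfield.subset_closure (Or.inr ⟨a, rfl⟩)) (Subfield.subset_closure (Or.inr ⟨b, rfl⟩))
      | add x y _ _ hx hy => exact add_mem hx hy
      | mul x y _ _ hx hy => exact mul_mem hx hy)
    W (Groth.Agent.H48.DomVal.dominates_subtype W) hW' (Or.inr hsep.isAlgebraic) (by rw [he, Nat.cast_one]; exact one_ne_zero)
    (by rw [he]; exact one_dvd _)
  haveI := hgr
  haveI : Algebra.IsAlgebraic (ResidueField B) (ResidueField W) := Groth.Agent.H48.FSExt.residue_algebraic W hW'
  exact ⟨hwB, Groth.Agent.H48.FSExt.isSeparable_of_geomRed (ResidueField B) (ResidueField W)⟩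

end Groth.Agent.S9306
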