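import Groth.Statements.S9329
import Groth.Agent.H48.Tame
import Mathlib.FieldTheory.Separable
import Mathlib.FieldTheory.SeparableClosure
import Mathlib.FieldTheory.IsAlgClosed.AlgebraicClosure
import Mathlib.RingTheory.AdjoinRoot

set_option autoImplicit false
universe u
open EtRam

namespace Groth.Agent.S9329

open Groth.Agent.H48 Polynomial IsLocalRing EtRam
open scoped IntermediateField

theorem root_ring {A : Type u} [CommRing A] [IsDomain A] [IsDiscreteValuationRing A] {π : A} (hπ : Irreducible π)
    {e : ℕ} (he : 0 < e) [IsLocalRing (AdjoinRoot (X ^ e - C π : A[X]))] :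
    IsLocalHom (algebraMap A (AdjoinRoot (X ^ e - C π : A[X]))) ∧
    AdjoinRoot.root (X ^ e - C π : A[X]) ^ e = algebraMap A _ π ∧
    maximalIdeal (AdjoinRoot (X ^ e - C π : A[X])) = Ideal.span {AdjoinRoot.root (X ^ e - C π : A[X])} ∧
    (∀ b : AdjoinRoot (X ^ e - C π : A[X]), ∃ (a : A) (c : AdjoinRoot (X ^ e - C π : A[X])),
      b = algebraMap A _ a + AdjoinRoot.root (X ^ e - C π : A[X]) * c) := by
  let A' := AdjoinRoot (X ^ e - C π : A[X])
  have hmon : (X ^ e - C π : A[X]).Monic := monic_X_pow_sub_C π he.ne'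
  have hinj : Function.Injective (algebraMap A A') := by
    rw [AdjoinRoot.algebraMap_eq]
    refine AdjoinRoot.of.injective_of_degree_ne_zero ?_
    rw [degree_X_pow_sub_C he]
    exact_mod_cast he.ne'
  haveI : Module.Finite A A' := (AdjoinRoot.powerBasis' hmon).finite
  haveI : FaithfulSMul A A' := (faithfulSMul_iff_algebraMap_injective A A').2 hinj
  haveI : Algebra.IsIntegral A A' := Algebra.IsIntegral.of_finite A A'
  haveI hloc : IsLocalHom (algebraMap A A') := Algebra.IsIntegral.isLocalHom A A'
  set x : A' := AdjoinRoot.root _ with hx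
  have hxe : x ^ e = algebraMap A A' π := by
    have := AdjoinRoot.eval₂_root (X ^ e - C π : A[X])
    rw [eval₂_sub, eval₂_X_pow, eval₂_C, sub_eq_zero] at this
    exact this
  have hdec : ∀ b : A', ∃ a c, b = algebraMap A A' a + x * c := by
    intro b
    induction b using AdjoinRoot.induction_on with
    | ih P =>
      refine ⟨P.coeff 0, AdjoinRoot.mk _ P.divX, ?_⟩
      conv_lhs => rw [← Polynomial.X_mul_divX_add P]
      rw [map_add, map_mul, AdjoinRoot.mk_X, AdjoinRoot.mk_C, AdjoinRoot.algebraMap_eq, add_comm]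
  refine ⟨hloc, hxe, le_antisymm (fun b hb => ?_) ((Ideal.span_singleton_le_iff_mem _).2 ?_), hdec⟩
  · obtain ⟨a, c, rfl⟩ := hdec b
    have hxm : x ∈ maximalIdeal A' := (maximalIdeal.isMaximal A').isPrime.mem_of_pow_mem e
      (by rw [hxe]; exact map_nonunit _ _ hπ.not_isUnit)
    have ha : a ∈ maximalIdeal A := fun hu => ((mem_maximalIdeal _).1
      ((Ideal.add_mem_iff_left _ (Ideal.mul_mem_right c _ hxm)).1 hb)) (hu.map _)
    rw [hπ.maximalIdeal_eq, Ideal.mem_span_singleton] at ha
    obtain ⟨a, rfl⟩ := ha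
    refine Ideal.add_mem _ ?_ (Ideal.mul_mem_right _ _ (Ideal.mem_span_singleton_self x))
    rw [map_mul, ← hxe]
    exact Ideal.mul_mem_right _ _ (Ideal.pow_mem_of_mem _ (Ideal.mem_span_singleton_self x) e he)
  · exact (maximalIdeal.isMaximal A').isPrime.mem_of_pow_mem e (by rw [hxe]; exact map_nonunit _ _ hπ.not_isUnit)

theorem cast_ne_zero_of_tame {k : Type u} [Field k] {e : ℕ} (he : e ≠ 0)
    (h : ∀ p : ℕ, p.Prime → CharP k p → ¬ p ∣ e) : (e : k) ≠ 0 := by
  intro h0
  rw [CharP.cast_eq_zero_iff k (ringChar k)] at h0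
  rcases CharP.char_is_prime_or_zero k (ringChar k) with hp | hp
  · exact h _ hp inferInstance h0
  · rw [hp, zero_dvd_iff] at h0
    exact he h0


open Polynomial IsLocalRing in
/-- Let `K` be the fraction field of a discrete valuation ring `A`, let `π` be a uniformizer of `A`, and
let `L` be a finite separable extension of `K` which is tamely ramified with respect to `A`. Then
there is `e₀ ≥ 1` invertible in the residue field of `A` such that for each `d ≥ 1` that is also
invertible in the residue field, setting `e = d e₀` and `A' = A[z]/(z^e - π)`, there is a finite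
separable extension `L'` of `K` into which `L` embeds over `K`, carrying an `A'`-algebra structure
extending `A → K → L'`, such that `L'` is unramified with respect to `A'`. (The local-ring instance
on `A'`, which holds, is quantified as a hypothesis.) -/
theorem result
    {A K L : Type u} [CommRing A] [IsDomain A]
    [IsDiscreteValuationRing A] [Field K] [Algebra A K] [IsFractionRing A K] [Field L] [Algebra K L]
    [Algebra A L] [IsScalarTower A K L] [FiniteDimensional K L] [Algebra.IsSeparable K L]
    (π : A) (hπ : maximalIdeal A = Ideal.span {π}) (h : EtRam.IsTamelyRamified A (algebraMap A L)) :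
    ∃ e₀ : ℕ, 0 < e₀ ∧ (e₀ : ResidueField A) ≠ 0 ∧
      ∀ d : ℕ, 0 < d → (d : ResidueField A) ≠ 0 →
        ∃ (L' : Type u) (_ : Field L') (_ : Algebra K L')
          (_ : Algebra (AdjoinRoot (X ^ (d * e₀) - C π : A[X])) L') (_ : L →ₐ[K] L'),
          FiniteDimensional K L' ∧ Algebra.IsSeparable K L' ∧
          (algebraMap (AdjoinRoot (X ^ (d * e₀) - C π : A[X])) L').comp (AdjoinRoot.of (X ^ (d * e₀) - C π)) =
            (algebraMap K L').comp (algebraMap A K) ∧
          ∀ [IsLocalRing (AdjoinRoot (X ^ (d * e₀) - C π : A[X]))],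
            EtRam.IsUnramifiedExt (AdjoinRoot (X ^ (d * e₀) - C π : A[X]))
              (algebraMap (AdjoinRoot (X ^ (d * e₀) - C π : A[X])) L') := by
  classical
  have hπ' : Irreducible π := (IsDiscreteValuationRing.irreducible_iff_uniformizer π).2 hπ
  obtain ⟨e₀, he₀, he₀k, hdvd⟩ := Tame.exists_order A (Module.finrank K L)
  refine ⟨e₀, he₀, he₀k, fun d hd hdk => ?_⟩
  set n := d * e₀ with hn
  have hn0 : 0 < n := Nat.mul_pos hd he₀
  have hnk : (n : ResidueField A) ≠ 0 := by rw [hn, Nat.cast_mul]; exact mul_ne_zero hdk he₀k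
  let Ω := AlgebraicClosure K
  let ι : L →ₐ[K] Ω := IsAlgClosed.lift
  obtain ⟨z, hz⟩ := IsAlgClosed.exists_pow_nat_eq (algebraMap K Ω (algebraMap A K π)) hn0
  let E := ι.fieldRange
  haveI : FiniteDimensional K E := ι.toLinearMap.finiteDimensional_range
  have hintz : IsIntegral K z := Algebra.IsIntegral.isIntegral z
  haveI : FiniteDimensional K K⟮z⟯ := IntermediateField.adjoin.finiteDimensional hintz
  haveI : Algebra.IsSeparable K E := Algebra.IsSeparable.of_algHom K L
    (AlgEquiv.ofInjectiveField ι).symm.toAlgHom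
  have hnK : (n : K) ≠ 0 := by
    rw [← map_natCast (algebraMap A K)]
    refine (map_ne_zero_iff _ (IsFractionRing.injective A K)).2 fun h0 => hnk ?_
    rw [← map_natCast (residue A), h0, map_zero]
  haveI : Algebra.IsSeparable K K⟮z⟯ := (IntermediateField.isSeparable_adjoin_simple_iff_isSeparable K Ω).2
    ((separable_X_pow_sub_C (algebraMap A K π) hnK
      ((map_ne_zero_iff _ (IsFractionRing.injective A K)).2 hπ'.ne_zero)).of_dvd (minpoly.dvd K z (by simp [hz])))
  let L' : IntermediateField K Ω := E ⊔ K⟮z⟯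
  haveI : FiniteDimensional K L' := inferInstanceAs (FiniteDimensional K (E ⊔ K⟮z⟯ : IntermediateField K Ω))
  haveI : Algebra.IsSeparable K L' := inferInstanceAs (Algebra.IsSeparable K (E ⊔ K⟮z⟯ : IntermediateField K Ω))
  let zL : L' := ⟨z, (le_sup_right : K⟮z⟯ ≤ L') (IntermediateField.mem_adjoin_simple_self K z)⟩
  let φ : AdjoinRoot (X ^ n - C π : A[X]) →+* L' := AdjoinRoot.lift ((algebraMap K L').comp (algebraMap A K)) zL (by
    rw [eval₂_sub, eval₂_X_pow, eval₂_C, sub_eq_zero]
    exact Subtype.ext (by push_cast; exact hz))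
  letI : Algebra (AdjoinRoot (X ^ n - C π : A[X])) L' := φ.toAlgebra
  let jL : L →ₐ[K] L' := (IntermediateField.inclusion (le_sup_left : E ≤ L')).comp ι.rangeRestrict
  have hcomp : φ.comp (AdjoinRoot.of (X ^ n - C π)) = (algebraMap K L').comp (algebraMap A K) :=
    AdjoinRoot.lift_comp_of _
  refine ⟨L', inferInstance, inferInstance, φ.toAlgebra, jL, inferInstance, inferInstance, hcomp, ?_⟩
  intro _ V hV hlocV
  letI : Algebra (AdjoinRoot (X ^ n - C π : A[X])) V := (RingHom.codRestrict _ V hV.1).toAlgebra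
  haveI : IsLocalHom (algebraMap (AdjoinRoot (X ^ n - C π : A[X])) V) := hlocV
  obtain ⟨hloc, hxe, hmax, hdec⟩ := root_ring hπ' hn0
  have hVA : Dominates A ((algebraMap K L').comp (algebraMap A K)) V := by
    rw [← hcomp]
    exact ⟨fun a => hV.1 (AdjoinRoot.of _ a), fun a ha => hV.2 (AdjoinRoot.of _ a) (map_nonunit (algebraMap A (AdjoinRoot (X ^ n - C π : A[X]))) a ha)⟩
  obtain ⟨W, rfl⟩ := DomVal.exists_comap_eq L'.val.toRingHom V
  have hW : Dominates A ((algebraMap K Ω).comp (algebraMap A K)) W := by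
    have := DomVal.dominates_comap_iff.1 hVA
    rwa [show L'.val.toRingHom.comp ((algebraMap K L').comp (algebraMap A K)) =
      (algebraMap K Ω).comp (algebraMap A K) from RingHom.ext fun a => L'.val.commutes _] at this
  have hVL : Dominates A ((algebraMap K L).comp (algebraMap A K)) (W.comap ι.toRingHom) := by
    rw [DomVal.dominates_comap_iff, show ι.toRingHom.comp ((algebraMap K L).comp (algebraMap A K)) =
      (algebraMap K Ω).comp (algebraMap A K) from RingHom.ext fun a => ι.commutes _]
    exact hW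
  have hVL' : Dominates A (algebraMap A L) (W.comap ι.toRingHom) := by rwa [IsScalarTower.algebraMap_eq A K L]
  letI : Algebra A (W.comap ι.toRingHom) := (RingHom.codRestrict _ (W.comap ι.toRingHom) hVL.1).toAlgebra
  haveI hlocL : IsLocalHom (algebraMap A (W.comap ι.toRingHom)) := DomVal.isLocalHom_of_dominates hVL
  haveI : IsDiscreteValuationRing (W.comap ι.toRingHom) := FSExt.isDVR _ hVL
  obtain ⟨hfe, hfs⟩ := Tame.field_iff hW ι hVL
  have hA2 : Algebra.IsSeparable (ResidueField A) (ResidueField (W.comap ι.toRingHom)) ∧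
      ∀ p : ℕ, p.Prime → CharP (ResidueField A) p →
        ¬ p ∣ Ideal.ramificationIdx' (maximalIdeal A) (maximalIdeal (W.comap ι.toRingHom)) := by
    have key : ∀ (g : A →+* L) (hg : g = (algebraMap K L).comp (algebraMap A K)),
        IsTamelyRamified A g → Algebra.IsSeparable (ResidueField A) (ResidueField (W.comap ι.toRingHom)) ∧
          ∀ p : ℕ, p.Prime → CharP (ResidueField A) p →
            ¬ p ∣ Ideal.ramificationIdx' (maximalIdeal A) (maximalIdeal (W.comap ι.toRingHom)) := by
      intro g hg hh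
      subst hg
      exact @hh _ hVL hlocL
    exact key _ (IsScalarTower.algebraMap_eq A K L) h
  have hAV : Function.Injective (algebraMap A (W.comap ι.toRingHom)) := fun a b h =>
    IsFractionRing.injective A K ((algebraMap K L).injective (congrArg Subtype.val h))
  obtain ⟨π₁, hπ₁⟩ := IsDiscreteValuationRing.exists_irreducible (W.comap ι.toRingHom)
  have he0 := (DVRExt.exists_unit_mul_pow hAV hπ' hπ₁).1
  have hek := cast_ne_zero_of_tame he0 hA2.2
  have hle := FSExt.ramificationIdx_le_finrank (B := A) (L := K) (W.comap ι.toRingHom) hVL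
  have hed : Abhy.e W (bot_le : ⊥ ≤ E) ∣ n := hfe ▸ dvd_mul_of_dvd_right (hdvd _ hle hek) d
  obtain ⟨-, he1, -, hen, hsep⟩ := Tame.over_root hW hπ' hnk z hz E ⟨hfs.1 hA2.1, hfe ▸ hek⟩ hed
  obtain ⟨-, -, -, r, hrz, hr⟩ := Tame.uniformizer_root hW hπ' hn0 z hz
  haveI := Abhy.isDVR hW K⟮z⟯
  haveI := Abhy.isDVR hW L'
  letI : Algebra (Abhy.V W K⟮z⟯) (Abhy.V W L') := (Abhy.res W (le_sup_right : K⟮z⟯ ≤ L')).toAlgebra
  haveI : IsLocalHom (algebraMap (Abhy.V W K⟮z⟯) (Abhy.V W L')) := Abhy.isLocalHom_res W le_sup_right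
  have hwu : IsWeaklyUnramified (Abhy.V W K⟮z⟯) (Abhy.V W L') :=
    (DomVal.isWeaklyUnramified_iff (Abhy.res_injective W le_sup_right)).2 he1
  constructor
  · rw [IsWeaklyUnramified, hmax, Ideal.map_span, Set.image_singleton]
    refine Eq.trans ?_ hwu
    rw [hr.maximalIdeal_eq, Ideal.map_span, Set.image_singleton]
    congr 2
    refine Subtype.ext (Subtype.ext ?_)
    show ((φ (AdjoinRoot.root _) : L') : Ω) = ((r : K⟮z⟯) : Ω)
    rw [hrz, AdjoinRoot.lift_root]
  · letI : Algebra A (Abhy.V W L') := (Abhy.base hW L').toAlgebra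
    haveI : IsLocalHom (algebraMap A (Abhy.V W L')) := DomVal.isLocalHom_of_dominates (Abhy.dominates hW L')
    haveI : Algebra.IsSeparable (ResidueField A) (ResidueField (Abhy.V W L')) := (Abhy.base_iff hW L').2.2.1.2 hsep
    haveI := hloc
    haveI : IsScalarTower (ResidueField A) (ResidueField (AdjoinRoot (X ^ n - C π : A[X])))
        (ResidueField (W.comap L'.val.toRingHom)) := IsScalarTower.of_algebraMap_eq fun x => by
      obtain ⟨x, rfl⟩ := residue_surjective x
      refine congrArg (residue (W.comap L'.val.toRingHom)) (Subtype.ext ?_)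
      exact (RingHom.congr_fun hcomp x).symm
    exact Algebra.isSeparable_tower_top_of_isSeparable (ResidueField A) _ _

end Groth.Agent.S9329
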