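import Groth.Statements.S9307
import Groth.Agent.S9329
import Groth.Agent.S9306
import Mathlib.FieldTheory.IsAlgClosed.AlgebraicClosure

set_option autoImplicit false
universe u
open EtRam

namespace Groth.Agent.S9307

open Groth.Agent.H48 IsLocalRing EtRam
open scoped IntermediateField

/-- Two traces of one valuation subring dominate each other along compatible embeddings. -/
theorem dom_of_sq {Ω E G : Type u} [Field Ω] [Field E] [Field G] (W : ValuationSubring Ω) (vE : E →+* Ω) (vG : G →+* Ω)
    (i : E →+* G) (h : ∀ x, vG (i x) = vE x) :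
    Dominates (W.comap vE) (i.comp (W.comap vE).subtype) (W.comap vG) := by
  rw [DomVal.dominates_comap_iff, show vG.comp (i.comp (W.comap vE).subtype) = vE.comp (W.comap vE).subtype from
    RingHom.ext fun x => h x]
  exact DomVal.dominates_subtype W

/-- Tame extensions stay tame after a base change of discretely valued fields. -/
theorem core (A B K L K' F : Type u) [CommRing A] [IsDomain A]
    [IsDiscreteValuationRing A] [CommRing B] [IsDomain B] [IsDiscreteValuationRing B] [Algebra A B]
    [IsLocalHom (algebraMap A B)] (hinj : Function.Injective (algebraMap A B))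
    [Field K] [Field L] [Field K'] [Algebra A K] [IsFractionRing A K] [Algebra B L] [IsFractionRing B L]
    [Algebra K L] [Algebra K K'] [FiniteDimensional K K'] [Field F] [Algebra L F] [Algebra K F] [IsScalarTower K L F]
    (hcomp : ∀ a : A, algebraMap B L (algebraMap A B a) = algebraMap K L (algebraMap A K a))
    (h : IsTamelyRamified A ((algebraMap K K').comp (algebraMap A K)))
    (f : K' →ₐ[K] F) (hgen : Algebra.adjoin L (Set.range f) = ⊤) :
    IsTamelyRamified B ((algebraMap L F).comp (algebraMap B L)) := by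
  classical
  intro V hV hlocV
  haveI : FiniteDimensional L F := FSExt.finite_of_adjoin f hgen
  let Ω := AlgebraicClosure F
  let ι : F →ₐ[L] Ω := IsScalarTower.toAlgHom L F Ω
  let ιK : K' →ₐ[K] Ω := (IsScalarTower.toAlgHom K F Ω).comp f
  haveI : IsScalarTower K L Ω := IsScalarTower.of_algebraMap_eq fun x => by
    rw [IsScalarTower.algebraMap_apply K F Ω, IsScalarTower.algebraMap_apply K L F, ← IsScalarTower.algebraMap_apply L F Ω]
  obtain ⟨W, rfl⟩ := DomVal.exists_comap_eq ι.toRingHom V
  letI : Algebra B (W.comap ι.toRingHom) := (RingHom.codRestrict _ (W.comap ι.toRingHom) hV.1).toAlgebra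
  haveI : IsLocalHom (algebraMap B (W.comap ι.toRingHom)) := hlocV
  have hWL : Dominates B ((algebraMap L Ω).comp (algebraMap B L)) W := by
    have := DomVal.dominates_comap_iff.1 hV
    rwa [show ι.toRingHom.comp ((algebraMap L F).comp (algebraMap B L)) = (algebraMap L Ω).comp (algebraMap B L) from
      RingHom.ext fun b => ι.commutes _] at this
  have hWK : Dominates A ((algebraMap K Ω).comp (algebraMap A K)) W := by
    have he : ∀ a, algebraMap K Ω (algebraMap A K a) = algebraMap L Ω (algebraMap B L (algebraMap A B a)) := fun a => by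
      rw [hcomp, ← IsScalarTower.algebraMap_apply K L Ω]
    exact ⟨fun a => by rw [RingHom.comp_apply, he]; exact hWL.1 _,
      fun a ha => by rw [RingHom.comp_apply, he]; exact hWL.2 _ (map_nonunit _ _ ha)⟩
  have hV' : Dominates A ((algebraMap K K').comp (algebraMap A K)) (W.comap ιK.toRingHom) := by
    rw [DomVal.dominates_comap_iff, show ιK.toRingHom.comp ((algebraMap K K').comp (algebraMap A K)) =
      (algebraMap K Ω).comp (algebraMap A K) from RingHom.ext fun a => ιK.commutes _]
    exact hWK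
  letI : Algebra A (W.comap ιK.toRingHom) := (RingHom.codRestrict _ (W.comap ιK.toRingHom) hV'.1).toAlgebra
  haveI hloc' : IsLocalHom (algebraMap A (W.comap ιK.toRingHom)) := DomVal.isLocalHom_of_dominates hV'
  haveI : IsDiscreteValuationRing (W.comap ιK.toRingHom) := FSExt.isDVR _ hV'
  obtain ⟨hse, hpe⟩ := @h _ hV' hloc'
  obtain ⟨hfe, hfs⟩ := Tame.field_iff hWK ιK hV'
  obtain ⟨π, hπ⟩ := IsDiscreteValuationRing.exists_irreducible A
  obtain ⟨π', hπ'⟩ := IsDiscreteValuationRing.exists_irreducible (W.comap ιK.toRingHom)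
  have he0 := (DVRExt.exists_unit_mul_pow (A := A) (B := W.comap ιK.toRingHom)
    (fun a b hab => IsFractionRing.injective A K ((algebraMap K K').injective (congrArg Subtype.val hab))) hπ hπ').1
  have hek := S9329.cast_ne_zero_of_tame he0 hpe
  set n := Ideal.ramificationIdx' (maximalIdeal A) (maximalIdeal (W.comap ιK.toRingHom)) with hn
  have hn0 : 0 < n := Nat.pos_of_ne_zero he0
  obtain ⟨z, hz⟩ := IsAlgClosed.exists_pow_nat_eq (algebraMap K Ω (algebraMap A K π)) hn0
  let E₁ := ιK.fieldRange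
  haveI : FiniteDimensional K E₁ := ιK.toLinearMap.finiteDimensional_range
  obtain ⟨hfz, he1, hs1, -, -⟩ := Tame.over_root hWK hπ hek z hz E₁ ⟨hfs.1 hse, hfe ▸ hek⟩ (hfe ▸ dvd_rfl)
  haveI := hfz
  let s : IntermediateField K Ω := E₁ ⊔ K⟮z⟯
  haveI : FiniteDimensional K s := inferInstanceAs (FiniteDimensional K (E₁ ⊔ K⟮z⟯ : IntermediateField K Ω))
  have hzB : z ^ n = algebraMap L Ω (algebraMap B L (algebraMap A B π)) := by
    rw [hcomp, ← IsScalarTower.algebraMap_apply K L Ω, hz]
  have hekB : (n : ResidueField B) ≠ 0 := by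
    rw [← map_natCast (algebraMap (ResidueField A) (ResidueField B))]
    exact (_root_.map_ne_zero _).2 hek
  have hTz := Tame.root hWL hekB ((map_ne_zero_iff _ hinj).2 hπ.ne_zero) z hzB
  haveI : FiniteDimensional L L⟮z⟯ := IntermediateField.adjoin.finiteDimensional
    (IsIntegral.of_pow hn0 (by rw [hzB]; exact isIntegral_algebraMap))
  haveI : FiniteDimensional L ι.fieldRange := ι.toLinearMap.finiteDimensional_range
  let G : IntermediateField L Ω := L⟮z⟯ ⊔ ι.fieldRange
  haveI : FiniteDimensional L G := inferInstanceAs (FiniteDimensional L (L⟮z⟯ ⊔ ι.fieldRange : IntermediateField L Ω))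
  have hzG : z ∈ G := (le_sup_left : L⟮z⟯ ≤ G) (IntermediateField.mem_adjoin_simple_self L z)
  have hsG : s ≤ G.restrictScalars K := by
    refine sup_le ?_ (IntermediateField.adjoin_le_iff.2 (Set.singleton_subset_iff.2 hzG))
    rintro _ ⟨y, rfl⟩
    exact (le_sup_right : ι.fieldRange ≤ G) ⟨f y, rfl⟩
  let jB : s →+* G := (s.val.toRingHom).codRestrict G fun x => hsG x.2
  let j₁ : L⟮z⟯ →+* G := (IntermediateField.inclusion (le_sup_left : L⟮z⟯ ≤ G)).toRingHom
  have hzz : K⟮z⟯ ≤ L⟮z⟯.restrictScalars K :=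
    IntermediateField.adjoin_le_iff.2 (Set.singleton_subset_iff.2 (IntermediateField.mem_adjoin_simple_self L z))
  let jz : K⟮z⟯ →+* L⟮z⟯ := (K⟮z⟯.val.toRingHom).codRestrict L⟮z⟯ fun x => hzz x.2
  haveI := Abhy.isDVR hWK K⟮z⟯
  haveI := Abhy.isDVR hWK s
  haveI := Abhy.isDVR hWL L⟮z⟯
  haveI := Abhy.isDVR hWL G
  letI : Algebra (Abhy.V W K⟮z⟯) (Abhy.V W s) := (Abhy.res W (le_sup_right : K⟮z⟯ ≤ s)).toAlgebra
  haveI : IsLocalHom (algebraMap (Abhy.V W K⟮z⟯) (Abhy.V W s)) := Abhy.isLocalHom_res W le_sup_right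
  haveI : Algebra.IsSeparable (ResidueField (Abhy.V W K⟮z⟯)) (ResidueField (Abhy.V W s)) := hs1
  haveI : Algebra.IsGeometricallyReduced (ResidueField (Abhy.V W K⟮z⟯)) (ResidueField (Abhy.V W s)) :=
    FSExt.geomRed_of_separable _ _
  have hdz : Dominates (Abhy.V W K⟮z⟯) (jz.comp (Abhy.V W K⟮z⟯).subtype) (Abhy.V W L⟮z⟯) :=
    dom_of_sq W K⟮z⟯.val.toRingHom L⟮z⟯.val.toRingHom jz fun _ => rfl
  letI : Algebra (Abhy.V W K⟮z⟯) (Abhy.V W L⟮z⟯) := (RingHom.codRestrict _ (Abhy.V W L⟮z⟯) hdz.1).toAlgebra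
  haveI : IsLocalHom (algebraMap (Abhy.V W K⟮z⟯) (Abhy.V W L⟮z⟯)) := DomVal.isLocalHom_of_dominates hdz
  have he11 : Ideal.ramificationIdx' (maximalIdeal (Abhy.V W K⟮z⟯)) (maximalIdeal (Abhy.V W s)) = 1 := he1
  obtain ⟨hu, hg⟩ := FSExt.main (A := Abhy.V W K⟮z⟯) (B := Abhy.V W s) (A₁ := Abhy.V W L⟮z⟯)
    (Abhy.res_injective W le_sup_right) (fun a b hab => Subtype.ext (jz.injective (congrArg Subtype.val hab)))
    (jB.comp (Abhy.V W s).subtype) (j₁.comp (Abhy.V W L⟮z⟯).subtype)
    (jB.injective.comp Subtype.val_injective) (j₁.injective.comp Subtype.val_injective)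
    (RingHom.ext fun _ => Subtype.ext rfl) (by
      refine eq_top_iff.2 fun y htop => ?_
      clear htop
      let T := Subfield.closure (Set.range (jB.comp (Abhy.V W s).subtype) ∪ Set.range (j₁.comp (Abhy.V W L⟮z⟯).subtype))
      have h1 : ∀ x : s, jB x ∈ T := fun x => by
        rcases (Abhy.V W s).mem_or_inv_mem x with h | h
        · exact Subfield.subset_closure (Or.inl ⟨⟨x, h⟩, rfl⟩)
        · rw [← inv_inv (jB x), ← map_inv₀]; exact inv_mem (Subfield.subset_closure (Or.inl ⟨⟨x⁻¹, h⟩, rfl⟩))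
      have h2 : ∀ x : L⟮z⟯, j₁ x ∈ T := fun x => by
        rcases (Abhy.V W L⟮z⟯).mem_or_inv_mem x with h | h
        · exact Subfield.subset_closure (Or.inr ⟨⟨x, h⟩, rfl⟩)
        · rw [← inv_inv (j₁ x), ← map_inv₀]; exact inv_mem (Subfield.subset_closure (Or.inr ⟨⟨x⁻¹, h⟩, rfl⟩))
      let T' : IntermediateField L Ω := Subfield.toIntermediateField (T.map G.val.toRingHom)
        (fun k => ⟨j₁ (algebraMap L L⟮z⟯ k), h2 _, rfl⟩)
      have hle : G ≤ T' := by
        refine sup_le (fun x hx => ⟨j₁ ⟨x, hx⟩, h2 _, rfl⟩) ?_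
        rintro _ ⟨x, rfl⟩
        have hx : x ∈ Algebra.adjoin L (Set.range f) := by rw [hgen]; trivial
        show ι x ∈ T'
        induction hx using Algebra.adjoin_induction with
        | mem x hx =>
          obtain ⟨w, rfl⟩ := hx
          exact ⟨jB ⟨ιK w, (le_sup_left : E₁ ≤ s) ⟨w, rfl⟩⟩, h1 _, rfl⟩
        | algebraMap l => rw [AlgHom.commutes]; exact T'.algebraMap_mem l
        | add x y _ _ hx hy => rw [map_add]; exact add_mem hx hy
        | mul x y _ _ hx hy => rw [map_mul]; exact mul_mem hx hy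
      obtain ⟨w, hw, hwy⟩ := hle y.2
      rw [← (show w = y from Subtype.ext hwy)]; exact hw)
    (Abhy.V W G) (dom_of_sq W s.val.toRingHom G.val.toRingHom jB fun _ => rfl)
    (dom_of_sq W L⟮z⟯.val.toRingHom G.val.toRingHom j₁ fun _ => rfl)
    (Or.inr (Abhy.residue_algebraic hWK le_sup_right)) (by rw [he11, Nat.cast_one]; exact one_ne_zero)
    (by rw [he11]; exact one_dvd _)
  letI := (Abhy.res W (le_sup_left : L⟮z⟯ ≤ G)).toAlgebra
  haveI : IsLocalHom (algebraMap (Abhy.V W L⟮z⟯) (Abhy.V W G)) := Abhy.isLocalHom_res W le_sup_left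
  have heG : Abhy.e W (le_sup_left : L⟮z⟯ ≤ G) = 1 :=
    (DomVal.isWeaklyUnramified_iff (Abhy.res_injective W le_sup_left)).1 hu
  haveI : Algebra.IsGeometricallyReduced (ResidueField (Abhy.V W L⟮z⟯)) (ResidueField (Abhy.V W G)) := hg
  haveI := Abhy.residue_algebraic hWL (le_sup_left : L⟮z⟯ ≤ G)
  have hsG' : Abhy.S W (le_sup_left : L⟮z⟯ ≤ G) := FSExt.isSeparable_of_geomRed _ _
  have hTG : Tame.Tm B W G := by
    refine ⟨(Abhy.S_iff hWL bot_le le_sup_left).2 ⟨hTz.1, hsG'⟩, ?_⟩
    rw [Abhy.e_mul hWL (bot_le : ⊥ ≤ L⟮z⟯) (le_sup_left : L⟮z⟯ ≤ G), heG, mul_one]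
    exact hTz.2
  obtain ⟨hTs, hTe⟩ := Tame.of_le hWL (le_sup_right : ι.fieldRange ≤ G) hTG
  obtain ⟨hFe, hFs⟩ := Tame.field_iff hWL ι hV
  refine ⟨hFs.2 hTs, fun p _ hpk hdvd => hTe ?_⟩
  haveI := hpk
  rw [← hFe, CharP.cast_eq_zero_iff (ResidueField B) p]
  exact hdvd


open TensorProduct in
/-- Let A → B be an injective local homomorphism of discrete valuation rings with fraction fields K ⊆ L,
and let K' be a finite separable extension of K that is tamely ramified relative to A. Then every
field F onto which K' ⊗_K L surjects is, as an extension of L, tamely ramified relative to B. (The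
published statement also records that K' ⊗_K L is a finite product of fields, whose factors are
these F; this row does not state that part.) -/
theorem result (A B K L K' : Type u) [CommRing A] [IsDomain A]
    [IsDiscreteValuationRing A] [CommRing B] [IsDomain B] [IsDiscreteValuationRing B] [Algebra A B]
    [IsLocalHom (algebraMap A B)] (hinj : Function.Injective (algebraMap A B))
    [Field K] [Field L] [Field K'] [Algebra A K] [IsFractionRing A K] [Algebra B L] [IsFractionRing B L]
    [Algebra K L] [Algebra A L] [IsScalarTower A K L] [IsScalarTower A B L]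
    [Algebra K K'] [FiniteDimensional K K'] [Algebra.IsSeparable K K']
    (h : EtRam.IsTamelyRamified A ((algebraMap K K').comp (algebraMap A K)))
    (F : Type u) [Field F] [Algebra (K' ⊗[K] L) F] (hF : Function.Surjective (algebraMap (K' ⊗[K] L) F)) :
    EtRam.IsTamelyRamified B ((algebraMap (K' ⊗[K] L) F).comp
      ((Algebra.TensorProduct.includeRight : L →ₐ[K] K' ⊗[K] L).toRingHom.comp (algebraMap B L))) := by
  letI : Algebra L F := ((algebraMap (K' ⊗[K] L) F).comp
    (Algebra.TensorProduct.includeRight : L →ₐ[K] K' ⊗[K] L).toRingHom).toAlgebra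
  letI : Algebra K F := ((algebraMap L F).comp (algebraMap K L)).toAlgebra
  haveI : IsScalarTower K L F := IsScalarTower.of_algebraMap_eq fun _ => rfl
  let f : K' →ₐ[K] F :=
    { (algebraMap (K' ⊗[K] L) F).comp (Algebra.TensorProduct.includeLeft : K' →ₐ[K] K' ⊗[K] L).toRingHom with
      commutes' := fun k => by
        show algebraMap (K' ⊗[K] L) F (Algebra.TensorProduct.includeLeft (algebraMap K K' k)) =
          algebraMap (K' ⊗[K] L) F (Algebra.TensorProduct.includeRight (algebraMap K L k))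
        congr 1
        exact ((Algebra.TensorProduct.includeLeft : K' →ₐ[K] K' ⊗[K] L).commutes k).trans
          ((Algebra.TensorProduct.includeRight : L →ₐ[K] K' ⊗[K] L).commutes k).symm }
  have hgen : Algebra.adjoin L (Set.range f) = ⊤ := by
    refine eq_top_iff.2 fun z htop => ?_
    clear htop
    obtain ⟨t, rfl⟩ := hF z
    induction t using TensorProduct.induction_on with
    | zero => rw [map_zero]; exact zero_mem _
    | tmul x y =>
      rw [show (x ⊗ₜ[K] y : K' ⊗[K] L) = (Algebra.TensorProduct.includeLeft : K' →ₐ[K] K' ⊗[K] L) x *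
        (Algebra.TensorProduct.includeRight : L →ₐ[K] K' ⊗[K] L) y by simp, map_mul]
      exact mul_mem (Algebra.subset_adjoin ⟨x, rfl⟩) (Subalgebra.algebraMap_mem _ y)
    | add x y hx hy => rw [map_add]; exact add_mem hx hy
  exact core A B K L K' F hinj (fun a => by rw [← IsScalarTower.algebraMap_apply, ← IsScalarTower.algebraMap_apply]) h f hgen

end Groth.Agent.S9307
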