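import Groth.Statements.S4955
import Groth.Agent.H46.SectEquidimModel
-- import your own Groth.Agent.* helpers here

set_option autoImplicit false
open CategoryTheory AlgebraicGeometry
universe u v w
open EGA43

namespace Groth.Agent.S4955

/-- Let f : X ⟶ Y be a morphism of finite presentation with a section g, X_y^0 the connected component
of f⁻¹(y) containing g y, X^0 their union, and suppose every X_y^0 is geometrically irreducible over
κ(y). Let x₀ be a point of X^0 and y₀ = f x₀, and suppose y ↦ dim X_y^0 is constant on a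
neighbourhood of y₀. Then there is an open neighbourhood U of y₀ such that f is universally open at
every point of X^0 lying over U; and if moreover Y is reduced and the fibre over y₀ is geometrically
reduced at x₀, then f is flat at x₀. -/
theorem result {X Y : Scheme.{u}} (f : X ⟶ Y)
    [LocallyOfFinitePresentation f] [QuasiCompact f] [QuasiSeparated f] (g : Y ⟶ X) (hg : g ≫ f = 𝟙 Y)
    (hirr : ∀ y : Y, (∀ (K : Type u) [Field K] [Algebra (IsLocalRing.ResidueField (Y.presheaf.stalk y)) K],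
        IsIrreducible ((FBase.bcπ (f.fiberToSpecResidueField y) K ≫ f.fiberι y).base ⁻¹' connectedComponentIn (f.base ⁻¹' {y}) (g.base y))))
    (x₀ : X) (hx₀ : x₀ ∈ MoreMor.sectionComponents f g)
    (hconst : ∃ V ∈ nhds (f.base x₀), ∀ z ∈ V, topologicalKrullDim ↥(connectedComponentIn (f.base ⁻¹' {z}) (g.base z)) = topologicalKrullDim ↥(connectedComponentIn (f.base ⁻¹' {(f.base x₀)}) (g.base (f.base x₀)))) :
    (∃ U : Y.Opens, f.base x₀ ∈ U ∧ ∀ x ∈ MoreMor.sectionComponents f g, f.base x ∈ U → EGA43.IsUnivOpenAt f x) ∧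
      (IsReduced Y → FBase.IsGeomReducedAt (f.fiberToSpecResidueField (f.base x₀)) (f.asFiber x₀) →
        (f.stalkMap x₀).hom.Flat) := by
  have hdim : ∀ y, topologicalKrullDim ↥(Groth.Agent.H46.SectComp.C f g y) =
      (Groth.Agent.H46.DimData.fe f (g y) : WithBot ℕ∞) := fun y => by
    obtain ⟨_, -, -, -, -, -, -, h⟩ := Groth.Agent.H46.SectComp.exists_generic f hg
      (Groth.Agent.H46.SectComp.irr_of_geom f hg (hirr y))
    exact h
  obtain ⟨V, hV, hVc⟩ := hconst
  have hfe : ∀ z ∈ V, Groth.Agent.H46.DimData.fe f (g z) = Groth.Agent.H46.DimData.fe f (g (f x₀)) :=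
    fun z hz => by
      have h := (hdim z).symm.trans ((hVc z hz).trans (hdim (f x₀)))
      exact_mod_cast h
  obtain ⟨V₀, hV₀, hV₀o, hyV₀⟩ := mem_nhds_iff.1 hV
  refine ⟨⟨⟨V₀, hV₀o⟩, hyV₀, fun x hx hxV => ?_⟩, fun hY hgr => ?_⟩
  · exact Groth.Agent.H46.SectEquidim.isUnivOpenAt f hg
      (Groth.Agent.H46.GeomIrrC.gi_of_fibre f g (f x) (hirr (f x)))
      (fun y' h => (hfe y' (hV₀ (h.mem_open hV₀o hxV))).trans (hfe _ (hV₀ hxV)).symm) hx
  · exact (Groth.Agent.H46.SectEquidimModel.main f hg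
      (Groth.Agent.H46.GeomIrrC.gi_of_fibre f g (f x₀) (hirr (f x₀))) hV hfe hx₀
      ((Groth.Agent.H46.GRAt.grAt_iff f x₀).2 hgr)).2 hY

end Groth.Agent.S4955
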