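import Groth.Statements.S8837
import Groth.Agent.Lib.Excellent.CompletionNoetherian
import Groth.Agent.H21.ApproxNbhdEtale
import Mathlib.RingTheory.AdicCompletion.Noetherian
import Mathlib.RingTheory.AdicCompletion.RingHom

set_option autoImplicit false
universe u
open AdicRing

namespace Groth.Agent.S8837

/-- Let A be a Noetherian ring complete for the adic topology of an ideal I (an adic Noetherian
topological ring), p a prime ideal of A, and f ∈ A an element mapping to a unit in A/p. Let A_{f}
denote the completed principal localization, i.e. the I-adic completion of A_f = A[1/f]. Then the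
ideal p A_{f} generated by p is prime, and the canonical map A/p → A_{f}/p A_{f} is bijective (so p
A_{f} = p ⊗_A A_{f} is the completion of p_f, with quotient A/p). -/
theorem result (A : Type u) [CommRing A] [IsNoetherianRing A] (I : Ideal A) [IsAdicComplete I A] (p : Ideal A) [p.IsPrime] (f : A) (hf : IsUnit (Ideal.Quotient.mk p f)) : (p.map (algebraMap A (AdicCompletion (I.map (algebraMap A (Localization.Away f))) (Localization.Away f)))).IsPrime ∧ Function.Bijective (Ideal.quotientMap (p.map (algebraMap A (AdicCompletion (I.map (algebraMap A (Localization.Away f))) (Localization.Away f)))) (algebraMap A (AdicCompletion (I.map (algebraMap A (Localization.Away f))) (Localization.Away f))) Ideal.le_comap_map) := by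
  classical
  haveI : IsNoetherianRing (Localization.Away f) := IsLocalization.isNoetherianRing (Submonoid.powers f) _ inferInstance
  let J := I.map (algebraMap A (Localization.Away f))
  let D := AdicCompletion J (Localization.Away f)
  let τ : A →+* D := algebraMap A D
  let P := p.map τ
  haveI : IsAdicComplete (J.map (algebraMap (Localization.Away f) D)) D :=
    AdicCompletion.isAdicComplete_self _ (IsNoetherian.noetherian J)
  have hJD : J.map (algebraMap (Localization.Away f) D) = I.map τ := by
    rw [Ideal.map_map]; rfl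
  let g : Localization.Away f →+* A ⧸ p := IsLocalization.Away.lift f hf
  have hg : ∀ a : A, g (algebraMap A _ a) = Ideal.Quotient.mk p a := fun a => IsLocalization.Away.lift_eq f hf a
  have hker : RingHom.ker g ≤ p.map (algebraMap A (Localization.Away f)) := by
    intro x hx
    obtain ⟨m, a, ha⟩ := IsLocalization.Away.surj f x
    have h1 : Ideal.Quotient.mk p a = 0 := by
      rw [← hg, ← ha, map_mul, RingHom.mem_ker.mp hx, zero_mul]
    have h2 : x * algebraMap A _ f ^ m ∈ p.map (algebraMap A (Localization.Away f)) :=
      ha ▸ Ideal.mem_map_of_mem _ (Ideal.Quotient.eq_zero_iff_mem.mp h1)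
    exact (Ideal.mul_unit_mem_iff_mem _ ((IsLocalization.Away.algebraMap_isUnit f).pow m)).mp h2
  -- an element of `Localization.Away f` is congruent to one of `A`
  have hsur : ∀ c : Localization.Away f, ∃ a : A, c - algebraMap A _ a ∈ p.map (algebraMap A (Localization.Away f)) := by
    intro c
    obtain ⟨a, ha⟩ := Ideal.Quotient.mk_surjective (g c)
    exact ⟨a, hker (by rw [RingHom.mem_ker, map_sub, hg, ha, sub_self])⟩
  have hPC : (p.map (algebraMap A (Localization.Away f))).map (algebraMap (Localization.Away f) D) = P := by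
    rw [Ideal.map_map]; rfl
  haveI : IsHausdorff ((I.map τ).map (Ideal.Quotient.mk P)) (D ⧸ P) := by
    refine IsHausdorff.of_le_jacobson _ _ ?_
    rw [Ideal.map_le_iff_le_comap]
    intro x hx
    rw [Ideal.mem_comap, Ideal.mem_jacobson_bot]
    intro y
    obtain ⟨y, rfl⟩ := Ideal.Quotient.mk_surjective y
    have := (Ideal.mem_jacobson_bot.mp (IsAdicComplete.le_jacobson_bot _ (hJD ▸ hx : x ∈ J.map (algebraMap (Localization.Away f) D))) y)
    simpa using this.map (Ideal.Quotient.mk P)
  haveI : IsHausdorff (I.map ((Ideal.Quotient.mk P).comp τ)) (D ⧸ P) := by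
    rw [← Ideal.map_map]; infer_instance
  have hS : Function.Surjective ((Ideal.Quotient.mk P).comp τ) := by
    refine surjective_of_mk_map_comp_surjective (I := I) _ ?_
    intro z
    obtain ⟨z, rfl⟩ := Ideal.Quotient.mk_surjective z
    obtain ⟨z, rfl⟩ := Ideal.Quotient.mk_surjective z
    obtain ⟨c, hc⟩ := Ideal.Quotient.mk_surjective (AdicCompletion.evalₐ J 1 z)
    obtain ⟨a, ha⟩ := hsur c
    refine ⟨a, ?_⟩
    rw [RingHom.comp_apply, Ideal.Quotient.eq]
    show Ideal.Quotient.mk P (τ a) - Ideal.Quotient.mk P z ∈ _
    rw [← map_sub, ← Ideal.map_map]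
    have h1 : z - algebraMap (Localization.Away f) D c ∈ J.map (algebraMap (Localization.Away f) D) := by
      have h0 : AdicCompletion.evalOneₐ J (z - algebraMap (Localization.Away f) D c) = 0 := by
        rw [map_sub, AlgHom.commutes, sub_eq_zero]
        have := congrArg (Ideal.Quotient.factor (show J ^ 1 ≤ J from (pow_one J).le)) hc
        rw [Ideal.Quotient.factor_mk] at this
        exact this.symm
      rw [← AdicCompletion.ker_evalOneₐ_eq_map J (IsNoetherian.noetherian J)]
      exact h0
    have h2 : algebraMap (Localization.Away f) D (c - algebraMap A _ a) ∈ P := hPC ▸ Ideal.mem_map_of_mem _ ha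
    have h3 : τ a - z = -(z - algebraMap (Localization.Away f) D c) - algebraMap (Localization.Away f) D (c - algebraMap A _ a) := by
      rw [map_sub, show algebraMap (Localization.Away f) D (algebraMap A _ a) = τ a from rfl]; ring
    rw [h3, map_sub, Ideal.Quotient.eq_zero_iff_mem.mpr h2, sub_zero]
    exact Ideal.mem_map_of_mem _ (hJD ▸ neg_mem h1)
  haveI : IsHausdorff (I.map (Ideal.Quotient.mk p)) (A ⧸ p) := by
    refine IsHausdorff.of_le_jacobson _ _ ?_
    rw [Ideal.map_le_iff_le_comap]
    intro x hx
    rw [Ideal.mem_comap, Ideal.mem_jacobson_bot]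
    intro y
    obtain ⟨y, rfl⟩ := Ideal.Quotient.mk_surjective y
    simpa using (Ideal.mem_jacobson_bot.mp (IsAdicComplete.le_jacobson_bot _ hx) y).map (Ideal.Quotient.mk p)
  have hI : ∀ a : A, τ a ∈ P → a ∈ p := by
    intro a ha
    rw [← Ideal.Quotient.eq_zero_iff_mem, IsHausdorff.eq_iff_smodEq (I := I.map (Ideal.Quotient.mk p))]
    intro n
    rw [SModEq.sub_mem, sub_zero, smul_eq_mul, Ideal.mul_top, ← Ideal.map_pow]
    have h1 := Ideal.mem_map_of_mem (AdicCompletion.evalₐ J n).toRingHom ha
    rw [← hPC, Ideal.map_map] at h1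
    have hc : (AdicCompletion.evalₐ J n).toRingHom.comp (algebraMap (Localization.Away f) D) = Ideal.Quotient.mk (J ^ n) :=
      (AdicCompletion.evalₐ J n).comp_algebraMap
    rw [hc] at h1
    have h2 : (AdicCompletion.evalₐ J n).toRingHom (τ a) = Ideal.Quotient.mk (J ^ n) (algebraMap A _ a) :=
      (AdicCompletion.evalₐ J n).commutes (algebraMap A (Localization.Away f) a)
    rw [h2, ← Ideal.mem_comap, Ideal.comap_map_of_surjective' _ Ideal.Quotient.mk_surjective, Ideal.mk_ker] at h1
    have h3 := Ideal.mem_map_of_mem g h1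
    rw [hg, Ideal.map_sup, Ideal.map_map, show g.comp (algebraMap A _) = Ideal.Quotient.mk p from RingHom.ext hg,
      Ideal.map_quotient_self, bot_sup_eq, Ideal.map_pow, Ideal.map_map,
      show g.comp (algebraMap A _) = Ideal.Quotient.mk p from RingHom.ext hg, ← Ideal.map_pow] at h3
    exact h3
  have hbij : Function.Bijective (Ideal.quotientMap P τ Ideal.le_comap_map) := by
    refine ⟨Ideal.quotientMap_injective' (fun a ha => hI a ha), fun z => ?_⟩
    obtain ⟨a, ha⟩ := hS z
    exact ⟨Ideal.Quotient.mk _ a, ha⟩
  refine ⟨?_, hbij⟩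
  haveI : IsDomain (A ⧸ p) := Ideal.Quotient.isDomain p
  haveI : IsDomain (D ⧸ P) := MulEquiv.isDomain (A ⧸ p) (RingEquiv.ofBijective _ hbij).symm.toMulEquiv
  exact (Ideal.Quotient.isDomain_iff_prime P).mp inferInstance

end Groth.Agent.S8837
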