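import Groth.Statements.S9613
import Mathlib.RingTheory.Jacobson.Ring
import Mathlib.RingTheory.Localization.Integral
import Mathlib.RingTheory.IntegralClosure.IsIntegralClosure.Basic

set_option autoImplicit false
universe u
open CAlg

namespace Groth.Agent.S9613

/-- Let R → K be an injective ring map into a field K which makes K an R-algebra of finite type. Then
for some nonzero f ∈ R the localization R_f is a field over which K is finite; here R_f is realised
as the R-subalgebra of K that is a localization of R away from f. -/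
theorem result {R K : Type u} [CommRing R] [Field K] [Algebra R K] (hinj : Function.Injective (algebraMap R K)) [Algebra.FiniteType R K] :
    ∃ f : R, f ≠ 0 ∧ ∃ Rf : Subalgebra R K, IsLocalization.Away f Rf ∧ IsField Rf ∧ Module.Finite Rf K := by
  classical
  haveI : IsDomain R := hinj.isDomain _
  letI F := FractionRing R
  let iF : F →+* K := IsFractionRing.lift hinj
  letI : Algebra F K := iF.toAlgebra
  haveI : IsScalarTower R F K := IsScalarTower.of_algebraMap_eq fun r => (IsFractionRing.lift_algebraMap hinj r).symm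
  haveI : Algebra.FiniteType F K := Algebra.FiniteType.of_restrictScalars_finiteType R F K
  haveI : Module.Finite F K := finite_of_finite_type_of_isJacobsonRing F K
  obtain ⟨s, hs⟩ := (Algebra.FiniteType.out : (⊤ : Subalgebra R K).FG)
  have hd : ∀ x : K, ∃ d : R, d ≠ 0 ∧ IsIntegral R (d • x) := fun x => by
    obtain ⟨d, hd⟩ := IsIntegral.exists_multiple_integral_of_isLocalization (nonZeroDivisors R) x
      (Algebra.IsIntegral.isIntegral (R := F) x)
    exact ⟨d, nonZeroDivisors.coe_ne_zero d, hd⟩
  choose d hd hdint using hd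
  let f := ∏ x ∈ s, d x
  have hf : f ≠ 0 := Finset.prod_ne_zero_iff.mpr fun x _ => hd x
  have hfK : algebraMap R K f ≠ 0 := fun h => hf (hinj (h.trans (map_zero _).symm))
  let Rf : Subalgebra R K := Algebra.adjoin R {(algebraMap R K f)⁻¹}
  have hinv : (algebraMap R K f)⁻¹ ∈ Rf := Algebra.subset_adjoin rfl
  have hform : ∀ z ∈ Rf, ∃ (n : ℕ) (r : R), z * algebraMap R K f ^ n = algebraMap R K r := by
    intro z hz
    induction hz using Algebra.adjoin_induction with
    | mem x hx =>
      refine ⟨1, 1, ?_⟩
      rw [Set.mem_singleton_iff.mp hx, pow_one, map_one, inv_mul_cancel₀ hfK]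
    | algebraMap r => exact ⟨0, r, by rw [pow_zero, mul_one]⟩
    | add a b _ _ ha hb =>
      obtain ⟨n, r, hr⟩ := ha
      obtain ⟨m, t, ht⟩ := hb
      refine ⟨n + m, r * f ^ m + t * f ^ n, ?_⟩
      rw [map_add, map_mul, map_mul, map_pow, map_pow, ← hr, ← ht, pow_add]; ring
    | mul a b _ _ ha hb =>
      obtain ⟨n, r, hr⟩ := ha
      obtain ⟨m, t, ht⟩ := hb
      refine ⟨n + m, r * t, ?_⟩
      rw [map_mul, ← hr, ← ht, pow_add]; ring
  haveI hA : IsLocalization.Away f Rf := by
    refine (isLocalization_iff (Submonoid.powers f) Rf).mpr ⟨?_, ?_, ?_⟩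
    · rintro ⟨_, n, rfl⟩
      show IsUnit (algebraMap R Rf (f ^ n))
      rw [map_pow]
      refine IsUnit.pow n ?_
      exact ⟨⟨algebraMap R Rf f, ⟨_, hinv⟩, Subtype.ext (mul_inv_cancel₀ hfK), Subtype.ext (inv_mul_cancel₀ hfK)⟩, rfl⟩
    · intro z
      obtain ⟨n, r, hr⟩ := hform z z.2
      exact ⟨⟨r, ⟨f ^ n, n, rfl⟩⟩, Subtype.ext (by simpa using hr)⟩
    · intro x y h
      exact ⟨1, by rw [hinj (congrArg Subtype.val h)]⟩
  have hint : Algebra.IsIntegral Rf K := by
    refine ⟨fun y => ?_⟩
    have hy : y ∈ Algebra.adjoin R (s : Set K) := hs ▸ Algebra.mem_top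
    refine Algebra.adjoin_le (S := (integralClosure Rf K).restrictScalars R) ?_ hy
    intro x hx
    show IsIntegral Rf x
    have h1 : IsIntegral Rf (d x • x) := (hdint x).tower_top
    let e : Rf := ⟨(algebraMap R K f)⁻¹, hinv⟩ * algebraMap R Rf (∏ z ∈ s.erase x, d z)
    have h2 : x = algebraMap Rf K e * (d x • x) := by
      show x = ((algebraMap R K f)⁻¹ * algebraMap R K (∏ z ∈ s.erase x, d z)) * (d x • x)
      rw [Algebra.smul_def, ← mul_assoc, mul_assoc _ (algebraMap R K _) (algebraMap R K (d x)), ← map_mul,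
        Finset.prod_erase_mul s d (Finset.mem_coe.mp hx), inv_mul_cancel₀ hfK, one_mul]
    rw [h2]
    exact isIntegral_algebraMap.mul h1
  refine ⟨f, hf, Rf, hA, isField_of_isIntegral_of_isField (S := K) Subtype.val_injective (Field.toIsField K), ?_⟩
  haveI : Algebra.FiniteType Rf K := Algebra.FiniteType.of_restrictScalars_finiteType R Rf K
  exact Algebra.IsIntegral.finite

end Groth.Agent.S9613
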