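import Groth.Statements.S8840
import Groth.Agent.Lib.Adic.RigPoints
import Groth.Agent.S8837
import Groth.Agent.S9613
import Mathlib.RingTheory.Localization.InvSubmonoid
import Mathlib.RingTheory.Localization.Submodule

set_option autoImplicit false
universe u
open AdicRing

namespace Groth.Agent.S8840

open Lib.Adic.RigClosed

variable {A : Type u} [CommRing A] [IsNoetherianRing A] (I : Ideal A) [IsAdicComplete I A]
  {B : Type u} [CommRing B] [Algebra A B] [IsNoetherianRing B] [IsAdicComplete (I.map (algebraMap A B)) B]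

/-- The choice of `f`: the residue field of the unique closed point of `V(q)` becomes finite over `A_f`. -/
theorem exists_element (hft : Algebra.FiniteType A (B ⧸ I.map (algebraMap A B))) {q : PrimeSpectrum B}
    (hq : IsRigClosed (I.map (algebraMap A B)) q) :
    ∃ (f : A) (m : Ideal B), IsUnit (Ideal.Quotient.mk q.asIdeal (algebraMap A B f)) ∧
      (∀ n : Ideal B, n.IsMaximal → q.asIdeal ≤ n → n = m) ∧
      ∃ s : Finset (B ⧸ m), ∀ x : B ⧸ m, ∃ n : ℕ,
        f ^ n • x ∈ Submodule.span A (s : Set (B ⧸ m)) := by
  classical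
  let J := I.map (algebraMap A B)
  haveI : IsAdicComplete (J.map (Ideal.Quotient.mk q.asIdeal)) (B ⧸ q.asIdeal) :=
    Lib.Adic.Complete.isAdicComplete_quotient (I := J) q.asIdeal
  haveI := krullDimLE_one J hq
  have hJ0 := (map_ne_bot_iff J q).2 hq.1
  obtain ⟨m, hm, hqm⟩ := Ideal.exists_le_maximal q.asIdeal q.isPrime.ne_top
  have hmap : ∀ n : Ideal B, n.IsMaximal → q.asIdeal ≤ n → (n.map (Ideal.Quotient.mk q.asIdeal)).IsMaximal :=
    fun n hn hle => Ideal.IsMaximal.map_of_surjective_of_ker_le Ideal.Quotient.mk_surjective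
      (by rw [Ideal.mk_ker]; exact hle)
  have huniq : ∀ n : Ideal B, n.IsMaximal → q.asIdeal ≤ n → n = m := fun n hn hle => by
    rw [← Ideal.comap_map_mk hle, maximal_eq_radical hJ0 (hmap n hn hle),
      ← maximal_eq_radical hJ0 (hmap m hm hqm), Ideal.comap_map_mk hqm]
  have hJm : J ≤ m := (IsAdicComplete.le_jacobson_bot J).trans (sInf_le ⟨bot_le, hm⟩)
  haveI := hm
  let P := m.comap (algebraMap A B)
  letI : Field (B ⧸ m) := Ideal.Quotient.field m
  letI : Algebra (A ⧸ P) (B ⧸ m) := (Ideal.quotientMap m (algebraMap A B) le_rfl).toAlgebra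
  haveI : IsScalarTower A (A ⧸ P) (B ⧸ m) :=
    IsScalarTower.of_algebraMap_eq (R := A) (S := A ⧸ P) (A := B ⧸ m) fun _ => rfl
  haveI : Algebra.FiniteType A (B ⧸ m) :=
    Algebra.FiniteType.of_surjective (Ideal.Quotient.factorₐ A hJm) (Ideal.Quotient.factor_surjective hJm)
  haveI : Algebra.FiniteType (A ⧸ P) (B ⧸ m) := Algebra.FiniteType.of_restrictScalars_finiteType A _ _
  obtain ⟨f₀, hf₀, Rf, hloc, -, hfin⟩ := S9613.result (R := A ⧸ P) (K := B ⧸ m)
    (Ideal.quotientMap_injective (I := m))
  obtain ⟨f, rfl⟩ := Ideal.Quotient.mk_surjective f₀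
  have hfm : algebraMap A B f ∉ m := fun h => hf₀ (Ideal.Quotient.eq_zero_iff_mem.2 h)
  refine ⟨f, m, ?_, huniq, ?_⟩
  · by_contra hu
    obtain ⟨n, hn, hfn⟩ := exists_max_ideal_of_mem_nonunits (mem_nonunits_iff.2 hu)
    haveI := hn
    refine hfm ?_
    rw [← huniq _ (Ideal.comap_isMaximal_of_surjective _ Ideal.Quotient.mk_surjective) (le_comap_mk _ n)]
    exact hfn
  obtain ⟨s, hs⟩ := hfin.fg_top
  refine ⟨s, fun x => ?_⟩
  have hx : x ∈ Submodule.span Rf (s : Set (B ⧸ m)) := hs ▸ Submodule.mem_top
  induction hx using Submodule.span_induction with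
  | mem z hz => exact ⟨0, by rw [pow_zero, one_smul]; exact Submodule.subset_span hz⟩
  | zero => exact ⟨0, by rw [smul_zero]; exact zero_mem _⟩
  | add a b _ _ ha hb =>
    obtain ⟨n, hn⟩ := ha
    obtain ⟨k, hk⟩ := hb
    refine ⟨n + k, ?_⟩
    rw [smul_add]
    exact add_mem (by rw [add_comm, pow_add, mul_smul]; exact Submodule.smul_mem _ _ hn)
      (by rw [pow_add, mul_smul]; exact Submodule.smul_mem _ _ hk)
  | smul r z _ hz =>
    obtain ⟨n, hn⟩ := hz
    obtain ⟨k, a, ha⟩ := IsLocalization.Away.surj (Ideal.Quotient.mk P f) r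
    obtain ⟨a, rfl⟩ := Ideal.Quotient.mk_surjective a
    refine ⟨n + k, ?_⟩
    have ha' : (r : B ⧸ m) * algebraMap A (B ⧸ m) f ^ k = algebraMap A (B ⧸ m) a := by
      have := congrArg (Subtype.val : Rf → B ⧸ m) ha
      simpa [← map_pow, IsScalarTower.algebraMap_apply A (A ⧸ P) (B ⧸ m)] using this
    have : f ^ (n + k) • (r • z) = a • f ^ n • z := by
      simp only [Algebra.smul_def, map_pow, pow_add, ← ha', map_mul]
      change _ * ((r : B ⧸ m) * z) = _
      ring
    rw [this]
    exact Submodule.smul_mem _ _ hn

/-- Contracting along a map of completed localisations. -/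
theorem main {q : PrimeSpectrum B} (hq : IsRigClosed (I.map (algebraMap A B)) q)
    {f : A} (hf : IsUnit (Ideal.Quotient.mk q.asIdeal (algebraMap A B f))) {m : Ideal B}
    (huniq : ∀ n : Ideal B, n.IsMaximal → q.asIdeal ≤ n → n = m) (s : Finset (B ⧸ m))
    (hs : ∀ x : B ⧸ m, ∃ n : ℕ, f ^ n • x ∈ Submodule.span A (s : Set (B ⧸ m)))
    (Af : Type u) [CommRing Af] [Algebra A Af] [IsLocalization.Away f Af] [IsNoetherianRing Af]
    (Bf : Type u) [CommRing Bf] [IsNoetherianRing Bf] [Algebra B Bf]
    [IsLocalization.Away (algebraMap A B f) Bf] [Algebra A Bf] [IsScalarTower A B Bf]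
    (ψ : AdicCompletion (I.map (algebraMap A Af)) Af →+*
      AdicCompletion ((I.map (algebraMap A B)).map (algebraMap B Bf)) Bf)
    (h : ∀ a, ψ (algebraMap A _ a) = algebraMap B _ (algebraMap A B a)) :
    ∃ p' : PrimeSpectrum (AdicCompletion (I.map (algebraMap A Af)) Af),
      p'.asIdeal = (q.asIdeal.map (algebraMap B
        (AdicCompletion ((I.map (algebraMap A B)).map (algebraMap B Bf)) Bf))).comap ψ ∧
      IsRigClosed (I.map (algebraMap A (AdicCompletion (I.map (algebraMap A Af)) Af))) p' := by
  classical
  let J := I.map (algebraMap A B)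
  let TA := AdicCompletion (I.map (algebraMap A Af)) Af
  let TB := AdicCompletion (J.map (algebraMap B Bf)) Bf
  letI : Algebra TA TB := ψ.toAlgebra
  haveI : IsScalarTower A TA TB := IsScalarTower.of_algebraMap_eq (R := A) (S := TA) (A := TB) fun a =>
    ((h a).trans (IsScalarTower.algebraMap_apply A B TB a).symm).symm
  obtain ⟨hprime, hbij⟩ := S8837.main J q.asIdeal (algebraMap A B f) hf Bf
  let q' : PrimeSpectrum TB := ⟨q.asIdeal.map (algebraMap B TB), hprime⟩
  haveI : IsAdicComplete (I.map (algebraMap A TA)) TA := Lib.Adic.RigPoints.isAdicComplete_completion I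
  have hJJ : (I.map (algebraMap A TA)).map (algebraMap TA TB) = J.map (algebraMap B TB) := by
    refine (Ideal.map_map _ _).trans (Eq.trans ?_ (Ideal.map_map _ _).symm)
    rw [← IsScalarTower.algebraMap_eq A TA TB, IsScalarTower.algebraMap_eq A B TB]
  haveI : IsAdicComplete ((I.map (algebraMap A TA)).map (algebraMap TA TB)) TB := by
    rw [hJJ]
    exact Lib.Adic.RigPoints.isAdicComplete_completion J
  have hq' : IsRigClosed ((I.map (algebraMap A TA)).map (algebraMap TA TB)) q' := by
    refine of_ringKrullDim_eq_one _ q' ?_ fun hle => hq.1 fun x hx => ?_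
    · exact (ringKrullDim_eq_of_ringEquiv (RingEquiv.ofBijective _ hbij)).symm.trans
        (ringKrullDim_quotient_eq_one J hq)
    · rw [hJJ] at hle
      rw [← Ideal.Quotient.eq_zero_iff_mem]
      refine hbij.1 ?_
      rw [Ideal.quotientMap_mk, map_zero]
      exact Ideal.Quotient.eq_zero_iff_mem.2 (hle (Ideal.mem_map_of_mem _ hx))
  have hres : ∀ n : Ideal TB, n.IsMaximal → q'.asIdeal ≤ n → Module.Finite TA (TB ⧸ n) := by
    intro n hn hqn
    have hsurj : Function.Surjective ((Ideal.Quotient.mk n).comp (algebraMap B TB)) := fun y => by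
      obtain ⟨t, rfl⟩ := Ideal.Quotient.mk_surjective y
      obtain ⟨x, hx⟩ := hbij.2 (Ideal.Quotient.mk _ t)
      obtain ⟨b, rfl⟩ := Ideal.Quotient.mk_surjective x
      rw [Ideal.quotientMap_mk, Ideal.Quotient.eq] at hx
      exact ⟨b, Ideal.Quotient.eq.2 (hqn hx)⟩
    have hmn : m = n.comap (algebraMap B TB) := by
      haveI := hn
      refine (huniq _ ?_ fun x hx => hqn (Ideal.mem_map_of_mem _ hx)).symm
      letI := Ideal.Quotient.field n
      have := RingHom.ker_isMaximal_of_surjective _ hsurj
      rwa [show n.comap (algebraMap B TB) = RingHom.ker ((Ideal.Quotient.mk n).comp (algebraMap B TB)) by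
        rw [← RingHom.comap_ker, Ideal.mk_ker]]
    let g : (B ⧸ m) →ₐ[A] TB ⧸ n := Ideal.quotientMapₐ n (IsScalarTower.toAlgHom A B TB) hmn.le
    have hg : Function.Surjective g := fun y => by
      obtain ⟨b, rfl⟩ := hsurj y
      exact ⟨Ideal.Quotient.mk m b, rfl⟩
    have hu : IsUnit (algebraMap A TA f) := by
      rw [IsScalarTower.algebraMap_apply A Af TA]
      exact (IsLocalization.Away.algebraMap_isUnit f).map _
    refine ⟨⟨s.image g, top_le_iff.1 fun y _ => ?_⟩⟩
    obtain ⟨x, rfl⟩ := hg y
    obtain ⟨k, hk⟩ := hs x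
    have hk' := Submodule.mem_map_of_mem (f := g.toLinearMap) hk
    rw [Submodule.map_span] at hk'
    have hk'' : algebraMap A TA f ^ k • g x ∈ Submodule.span TA ((s.image g : Finset _) : Set (TB ⧸ n)) := by
      rw [← map_pow, algebraMap_smul, Finset.coe_image]
      have := Submodule.span_le_restrictScalars A TA _ hk'
      simpa using this
    have := Submodule.smul_mem _ ((hu.pow k).unit⁻¹ : TAˣ).1 hk''
    rwa [smul_smul, IsUnit.val_inv_mul, one_smul] at this
  haveI hfin := finite_quotient hq' hres
  exact ⟨PrimeSpectrum.comap (algebraMap TA TB) q', rfl, comap_rigClosed hq' hfin⟩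

/-- Let A be a Noetherian ring complete for the adic topology of an ideal I, and B a Noetherian
A-algebra complete for the IB-adic topology with B/IB of finite type over A (an adic morphism,
topologically of finite type, of adic Noetherian topological rings). Let q be a prime of B which is
rig-closed (IB ⊄ q and q maximal among the primes not containing IB). Then there exists f ∈ A which
maps to a unit in B/q such that the following holds. Let A_{f} and B_{f} be the completed principal
localizations (the I-adic completions of A_f and B_f) and ψ : A_{f} → B_{f} the canonical map,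
characterised here as any ring map compatible with A_f → B_f (there is exactly one). Then the
inverse image p' under ψ of the ideal q' = q B_{f} is a rig-closed prime of A_{f}: p' is prime, I
A_{f} ⊄ p', and p' is maximal among the primes of A_{f} not containing I A_{f}. (That q B_{f} is
itself prime with quotient B/q holds because f is a unit modulo q; it is not restated.) -/
theorem result (A : Type u) [CommRing A] [IsNoetherianRing A] (I : Ideal A) [IsAdicComplete I A] (B : Type u) [CommRing B] [Algebra A B] [IsNoetherianRing B] [IsAdicComplete (I.map (algebraMap A B)) B] (hft : Algebra.FiniteType A (B ⧸ (I.map (algebraMap A B)))) (q : PrimeSpectrum B) (hq : (¬ (I.map (algebraMap A B)) ≤ q.asIdeal ∧ ∀ y : PrimeSpectrum B, q ≤ y → ¬ (I.map (algebraMap A B)) ≤ y.asIdeal → y = q)) : ∃ f : A, IsUnit (Ideal.Quotient.mk q.asIdeal (algebraMap A B f)) ∧ ∀ ψ : (AdicCompletion (I.map (algebraMap A (Localization.Away f))) (Localization.Away f)) →+* (AdicCompletion ((I.map (algebraMap A B)).map (algebraMap B (Localization.Away (algebraMap A B f))))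 (Localization.Away (algebraMap A B f))), ψ.comp (algebraMap (Localization.Away f) (AdicCompletion (I.map (algebraMap A (Localization.Away f))) (Localization.Away f))) = (algebraMap (Localization.Away (algebraMap A B f)) (AdicCompletion ((I.map (algebraMap A B)).map (algebraMap B (Localization.Away (algebraMap A B f)))) (Localization.Away (algebraMap A B f)))).comp (Localization.awayMap (algebraMap A B) f) → (((q.asIdeal.map (algebraMap B (AdicCompletion ((I.map (algebraMap A B)).map (algebraMap B (Localization.Away (algebraMap A B f)))) (Localization.Away (algebraMap A B f))))).comap ψ).IsPrime ∧ ¬ (I.map (algebraMap A (AdicCompletion (I.map (algebraMap A (Localization.Away f))) (Localization.Away f)))) ≤ ((q.asIdeal.map (algebraMap B (AdicCompletion ((I.map (algebraMap A B)).map (algebraMap B (Localization.Away (algebraMap A B f)))) (Localization.Away (algebraMap A B f))))).comap ψ) ∧ ∀ y : PrimeSpectrum (AdicCompletion (I.map (algebraMap A (Localization.Away f))) (Localization.Away f)), ((q.asIdeal.map (algebraMap B (AdicCompletion ((I.map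 (algebraMap A B)).map (algebraMap B (Localization.Away (algebraMap A B f)))) (Localization.Away (algebraMap A B f))))).comap ψ) ≤ y.asIdeal → ¬ (I.map (algebraMap A (AdicCompletion (I.map (algebraMap A (Localization.Away f))) (Localization.Away f)))) ≤ y.asIdeal → y.asIdeal = ((q.asIdeal.map (algebraMap B (AdicCompletion ((I.map (algebraMap A B)).map (algebraMap B (Localization.Away (algebraMap A B f)))) (Localization.Away (algebraMap A B f))))).comap ψ)) := by
  obtain ⟨f, m, hf, huniq, s, hs⟩ := exists_element I hft (q := q) hq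
  refine ⟨f, hf, fun ψ hψ => ?_⟩
  haveI : IsNoetherianRing (Localization.Away f) :=
    IsLocalization.isNoetherianRing (Submonoid.powers f) _ inferInstance
  haveI : IsNoetherianRing (Localization.Away (algebraMap A B f)) :=
    IsLocalization.isNoetherianRing (Submonoid.powers (algebraMap A B f)) _ inferInstance
  obtain ⟨p', hp', hrig⟩ := main I (q := q) hq hf huniq s hs (Localization.Away f)
    (Localization.Away (algebraMap A B f)) ψ (fun a => by
      have := RingHom.congr_fun hψ (algebraMap A (Localization.Away f) a)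
      rw [RingHom.comp_apply, RingHom.comp_apply, ← IsScalarTower.algebraMap_apply] at this
      rw [this]
      unfold Localization.awayMap IsLocalization.Away.map
      rw [IsLocalization.map_eq]
      exact (IsScalarTower.algebraMap_apply B (Localization.Away (algebraMap A B f)) _ (algebraMap A B a)).symm)
  rw [← hp']
  exact ⟨p'.isPrime, hrig.1, fun y hy hIy => congrArg PrimeSpectrum.asIdeal (hrig.2 y hy hIy)⟩

end Groth.Agent.S8840
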