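import Groth.Statements.S1863
import Groth.Agent.Lib.Cyc.PP.OpenImm

set_option autoImplicit false
universe u
open CategoryTheory AlgebraicGeometry
open Cyc
open Groth.Agent.Lib.Cyc Groth.Agent.Lib.Cyc.PP

namespace Groth.Agent.S1863

/-- Let U ⊆ X be open and α, β k-cycles on X whose restrictions to U are rationally equivalent on U (for
the restricted dimension function). Then there is a k-cycle γ on X vanishing on U with α rationally
equivalent to β + γ. Here a pair (X, δ) with Cyc.IsSetup plays the role of a scheme locally of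
finite type over a fixed base with a dimension function (X locally Noetherian with universally
catenary local rings, δ a dimension function). -/
theorem result (X : Scheme.{u}) (δ : X → ℤ) (hX : Cyc.IsSetup X δ) (U : X.Opens) (k : ℤ) (α β : AlgebraicCycle X ℤ) (hα : α ∈ Cyc.Zk X δ k) (hβ : β ∈ Cyc.Zk X δ k) (αU βU : AlgebraicCycle (↑U : Scheme.{u}) ℤ) (hαU : ∀ u : ↥U, αU u = α (U.ι u)) (hβU : ∀ u : ↥U, βU u = β (U.ι u)) (h : Cyc.RatEquiv (fun u : ↥U => δ (U.ι u)) k αU βU) : ∃ γ : AlgebraicCycle X ℤ, γ ∈ Cyc.Zk X δ k ∧ (∀ x : X, x ∈ U → γ x = 0) ∧ Cyc.RatEquiv δ k α (β + γ) := by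
  have := hX.1
  haveI : IsLocallyNoetherian (↑U : Scheme.{u}) := LocallyOfFiniteType.isLocallyNoetherian U.ι
  have hδU : Cyc.IsDimFun (↑U : Scheme.{u}) (fun u => δ (U.ι u)) := OpenImm.isDimFun U.ι hX.2.2
  obtain ⟨ι, ξ, g, hξ, hg, hlf, hsum⟩ := h
  choose f hf using fun n => (OpenImm.residue_bijective U.ι (ξ n)).2 (g n)
  have hf0 : ∀ n, f n ≠ 0 := fun n h0 => hg n (by rw [← hf n, h0]; exact map_zero _)
  have hlf' := OpenImm.locallyFinite U.ι ξ hlf
  let d : X → ℤ := fun x => ∑ᶠ n, Cyc.divFun δ (U.ι (ξ n)) (f n) x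
  have hd : LocallyFiniteSupport d := by
    intro x
    obtain ⟨W, hW, hxW, hfin⟩ := hlf' x
    choose V hV hxV hVfin using fun n => Ord.exists_open_finite_divFun hX.2.2 (U.ι (ξ n)) (f n) x
    refine ⟨W ∩ ⋂ n ∈ {n | (closure {U.ι (ξ n)} ∩ W).Nonempty}, V n,
      (hW.inter (hfin.isOpen_biInter fun n _ => hV n)).mem_nhds
        ⟨hxW, Set.mem_iInter₂.2 fun n _ => hxV n⟩, (hfin.biUnion fun n _ => hVfin n).subset ?_⟩
    rintro z ⟨⟨hzW, hzV⟩, hz⟩
    obtain ⟨n, hn⟩ := exists_ne_zero_of_finsum_mem_ne_zero (s := Set.univ)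
      (f := fun n => Cyc.divFun δ (U.ι (ξ n)) (f n) z) (by rw [finsum_mem_univ]; exact hz)
    have hmem : (closure {U.ι (ξ n)} ∩ W).Nonempty := ⟨z, specializes_iff_mem_closure.1 (by
      by_contra hs
      exact hn.2 (Ord.divFun_eq_zero_of_not_specializes δ _ _ _ hs)), hzW⟩
    exact Set.mem_biUnion hmem ⟨Set.mem_iInter₂.1 hzV n hmem, hn.2⟩
  let D : AlgebraicCycle X ℤ := ⟨d, fun _ _ => trivial, fun z _ => hd z⟩
  have hDk : D ∈ Cyc.Zk X δ k := fun x hx => finsum_eq_zero_of_forall_eq_zero fun n =>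
    dif_neg fun hc => hx (by have e1 := hc.2; have e2 : δ (U.ι (ξ n)) = k + 1 := hξ n; omega)
  refine ⟨α - β - D, fun x hx => ?_, fun x hxU => ?_, ι, fun n => U.ι (ξ n), f, hξ, hf0, hlf',
    fun x => ?_⟩
  · show α x - β x - D x = 0
    rw [hα x hx, hβ x hx, hDk x hx]
    simp
  · obtain ⟨u, rfl⟩ : ∃ u : ↥U, U.ι u = x := ⟨⟨x, hxU⟩, rfl⟩
    have e : D (U.ι u) = α (U.ι u) - β (U.ι u) := by
      refine Eq.trans ?_ ((hsum u).symm.trans (by rw [← hαU, ← hβU]; rfl))
      refine finsum_congr fun n => ?_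
      rw [← hf n]
      exact (OpenImm.divFun_map U.ι hX.2.2 hδU (ξ n) (f n) u).symm
    show α (U.ι u) - β (U.ι u) - D (U.ι u) = 0
    rw [e]
    exact sub_self _
  · show α x - (β x + (α x - β x - D x)) = D x
    ring

end Groth.Agent.S1863
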