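import Groth.Statements.S9762
import Groth.Agent.H56.Split

set_option autoImplicit false
universe u
open FlatMor

namespace Groth.Agent.S9762

open AlgebraicGeometry CategoryTheory Limits in
/-- For f : X ⟶ S separated and locally of finite type, and a point s of S such that only finitely many
points of the fibre over s are isolated, some elementary étale neighbourhood (U, u) of (S, s) admits
an open and closed V ⊆ U ×_S X, finite over U, such that no point of the fibre over u lying outside
V is isolated in that fibre. The published statement also asserts that the complement of V has empty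
fibre over u when the fibre over s is finite; this row omits that clause. -/
theorem result {X S : Scheme.{u}} (f : X ⟶ S) [LocallyOfFiniteType f] [IsSeparated f] (s : S)
    (hfin : {x : ↑(f.fiber s) | IsOpen ({x} : Set ↑(f.fiber s))}.Finite) :
    ∃ (U : Scheme.{u}) (g : U ⟶ S) (u : U), Hens2.IsEtaleNbhd g u s ∧
      ∃ V : (pullback f g).Opens, IsClopen (V : Set ↑(pullback f g)) ∧ IsFinite (V.ι ≫ pullback.snd f g) ∧
        ∀ w : ↑((pullback.snd f g).fiber u), (pullback.snd f g).fiberι u w ∉ V →
          ¬ IsOpen ({w} : Set ↑((pullback.snd f g).fiber u)) := by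
  classical
  let Q := {x : X | f x = s ∧ f.QuasiFiniteAt x}
  have hQ : Q.Finite := by
    refine (hfin.image (f.fiberι s)).subset ?_
    rintro x ⟨rfl, hx⟩
    exact ⟨f.asFiber x, hx.isClopen_singleton_asFiber.isOpen, f.fiberι_asFiber x⟩
  have := hQ.to_subtype
  obtain ⟨n, ⟨ep⟩⟩ := Finite.exists_equiv_fin Q
  obtain ⟨U, g, u, hu, V, v, hv⟩ := S1354.result f s (fun j => (ep.symm j).1)
    (fun j => (ep.symm j).2.1) (fun j => (ep.symm j).2.2)
  have hcl : ∀ j, IsClopen (V j : Set ↑(pullback f g)) := fun j => by
    refine ⟨?_, (V j).2⟩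
    have := (hv j).2.1
    have : IsFinite (V j).ι := IsFinite.of_comp (V j).ι (pullback.snd f g)
    have h := (V j).ι.isClosedMap.isClosed_range
    rwa [Scheme.Opens.range_ι] at h
  let T : (pullback f g).Opens := ⨆ j, V j
  refine ⟨U, g, u, hu, T, ?_, ?_, fun w hw hopen => hw ?_⟩
  · show IsClopen ((⨆ j, V j : (pullback f g).Opens) : Set ↑(pullback f g))
    rw [TopologicalSpace.Opens.coe_iSup]
    exact isClopen_iUnion_of_finite hcl
  · exact H56.Split.isFinite_iSup_clopen (pullback.snd f g) V hcl fun j => (hv j).2.1
  · generalize hz : (pullback.snd f g).fiberι u w = z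
    have hzu : pullback.snd f g z = u := hz ▸ H46.QFin.asFiber_mem w
    subst hzu
    obtain rfl := H46.QFin.eq_asFiber z w hz
    obtain ⟨π, hπ, -, hπo, -⟩ :=
      H46.QFin.baseChange_fibre f g _ _ (IsPullback.of_hasPullback f g) z
    have hx : f.QuasiFiniteAt (pullback.fst f g z) := by
      rw [Scheme.Hom.quasiFiniteAt_iff_isOpen_singleton_asFiber]
      have h := hπo _ hopen
      rw [Set.image_singleton] at h
      rwa [← hπ]
    have hfx : f (pullback.fst f g z) = s := by
      rw [← Scheme.Hom.comp_apply, pullback.condition, Scheme.Hom.comp_apply]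
      exact hu.base_eq
    let j := ep ⟨_, hfx, hx⟩
    have : z = v j := (H56.EtaleNbhd.fst_eq_imp_eq_and_residue f g _ hu.residue_bijective).1 z (v j)
      rfl (hv j).2.2.1 (by rw [(hv j).2.2.2.2.1, Equiv.symm_apply_apply])
    exact TopologicalSpace.Opens.mem_iSup.mpr ⟨j, this ▸ (hv j).1⟩

end Groth.Agent.S9762
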