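import Groth.Statements.S0432
import Groth.Agent.Lib.Ferrand.Pairs

set_option autoImplicit false
universe u
open FlatMor

namespace Groth.Agent.S0432

open AlgebraicGeometry CategoryTheory Limits in
/-- The pushout of two closed immersions Z → X and Z → Y exists in schemes, both maps into it are closed
immersions and the square is cartesian. -/
theorem result {X Y Z : Scheme.{u}} (i : Z ⟶ X) (j : Z ⟶ Y) [IsClosedImmersion i] [IsClosedImmersion j] :
    ∃ (P : Scheme.{u}) (a : X ⟶ P) (b : Y ⟶ P), IsPushout i j a b ∧ IsPullback i j a b ∧ IsClosedImmersion a ∧ IsClosedImmersion b := by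
  obtain ⟨P, a, b, hg⟩ := Groth.Agent.Lib.Ferrand.exists_gluedBy
    (Groth.Agent.Lib.Ferrand.cover_of_isClosedImmersion i j)
  obtain ⟨P', a', b', hg'⟩ := Groth.Agent.Lib.Ferrand.exists_gluedBy
    (Groth.Agent.Lib.Ferrand.cover_of_isClosedImmersion j i)
  refine ⟨P, a, b, hg.isPushout, hg.isPullback, ?_, hg.isClosedImmersion_right⟩
  rw [← hg'.isPushout.inr_isoIsPushout_hom _ _ hg.isPushout.flip]
  have := hg'.isClosedImmersion_right
  infer_instance

end Groth.Agent.S0432
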