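import Groth.Statements.S10045
import Groth.Agent.Lib.AffThick.Scheme
import Groth.Agent.Lib.AlgSpFormal.ThickSquare

set_option autoImplicit false
universe u
open CategoryTheory CategoryTheory.Limits AlgebraicGeometry
open AlgSp

namespace Groth.Agent.S10045

/-- Let `X` be an algebraic space over `S` and `X_red ⟶ X` its reduction (the reduced closed subspace
with the same points). If `X_red` is a scheme, then `X` is a scheme. -/
theorem result (S : Scheme.{u}) (X Z : AlgSp.Space S) (i : Z ⟶ X)
    (hi : AlgSp.IsRedInduced Set.univ i.hom) (hZ : Z.obj.obj.IsRepresentable) : X.obj.obj.IsRepresentable := by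
  have hsurj : Function.Surjective (Points.map i.hom) := fun x => by
    have : x ∈ Set.range (Points.map i.hom) := by rw [hi.2.1]; trivial
    exact this
  have hthick : IsThickMor i.hom := Groth.Agent.Lib.AlgSpace.repWith_of_exists fun T ξ => by
    obtain ⟨T₀, v, η, sq, hv⟩ := Groth.Agent.Lib.AlgSpace.repWith_exists hi.1 ξ
    refine ⟨T₀, v, η, sq, hv, ⟨fun t => ?_⟩⟩
    obtain ⟨z, hz⟩ := hsurj (Points.map ξ (Points.schemeHomeo T t))
    obtain ⟨t₀, -, ht⟩ := Groth.Agent.Lib.AlgSpace.exists_of_isPullback sq z _ hz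
    obtain ⟨t₀, rfl⟩ := (Points.schemeHomeo T₀).surjective t₀
    rw [Points.map_yon_map_apply] at ht
    exact ⟨t₀, (Points.schemeHomeo T).injective ht⟩
  obtain ⟨W, ⟨rW⟩⟩ := hZ.has_representation
  obtain ⟨T, ⟨e⟩⟩ :=
    Groth.Agent.Lib.AffThick.exists_scheme X.property hthick (isoOfRepresentableBy rW)
  exact (representableByOfIso e).isRepresentable

end Groth.Agent.S10045
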