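import Groth.Statements.S9989
import Groth.Agent.Lib.AlgSpMor.SchImage.Family
-- import your own Groth.Agent.* helpers here

set_option autoImplicit false
universe u
open CategoryTheory CategoryTheory.Limits AlgebraicGeometry Opposite
open AlgSp

open AlgSp (yon RepWith)
open Groth.Agent.Lib.AlgSpace Groth.Agent.Lib.AlgSpMor Groth.Agent.Lib.AlgSpMor.SchImage

namespace Groth.Agent.S9989

/-- For closed subspaces i : Z ⟶ X and i' : Z' ⟶ X of an algebraic space cut out by sheaves of ideals I
and I', one has I ≤ I' exactly when i' factors through i. -/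
theorem result {S : Scheme.{u}} {X Z Z' : AlgSp.Space S} (i : Z ⟶ X) (i' : Z' ⟶ X)
    (I I' : AlgSp.IdealEt X.obj) (h : AlgSp.IsCutOutBy I i.hom) (h' : AlgSp.IsCutOutBy I' i'.hom) :
    I ≤ I' ↔ ∃ k : Z' ⟶ Z, k ≫ i = i' := by
  obtain ⟨hi, rfl⟩ := h
  obtain ⟨hi', rfl⟩ := h'
  constructor
  · intro hle
    obtain ⟨κ, O, π, hO, he, hs⟩ := exists_sigma_atlas X.property
    obtain ⟨J, hJ⟩ := exists_cut hi π
    obtain ⟨k, hk⟩ := exists_factor X.property he hs hi hJ (f := i'.hom) (sees_of_components fun j ↦ by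
      rw [(hJ.comap (sigmaOverι O j)).unique (cut_kerAt_self hi _)]
      refine (sees_kerAt i'.hom _).of_le ?_
      haveI : IsOpenImmersion (sigmaOverι O j).left :=
        inferInstanceAs (IsOpenImmersion (Sigma.ι (fun i ↦ (O i).left) j))
      let E := AlgSp.EtOver.mk ((AlgSp.yon S).map (sigmaOverι O j) ≫ π)
        (LocP.repWith_etale_comp (sigmaOverι O j) he)
      haveI : IsAffine E.obj.left.left := hO j
      have h1 := (ofIdealTop_le_iff _ _).2 (hle E (hO j))
      rw [ofIdealTop_idealOfRep hi.1 E, ofIdealTop_idealOfRep hi'.1 E] at h1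
      exact h1)
    exact ⟨ObjectProperty.homMk k, ObjectProperty.hom_ext _ hk⟩
  · rintro ⟨k, hk⟩ E hE
    haveI := hE
    rw [← ofIdealTop_le_iff, ofIdealTop_idealOfRep, ofIdealTop_idealOfRep]
    exact ((cut_kerAt_self hi E.obj.hom).sees (congrArg (·.hom) hk)).le_kerAt

end Groth.Agent.S9989
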