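import Groth.Statements.S9996
import Groth.Agent.Lib.FerrandEtale.Union

set_option autoImplicit false
universe u
open CategoryTheory CategoryTheory.Limits AlgebraicGeometry Opposite
open AlgSp

namespace Groth.Agent.S9996

/-- For closed subspaces Y, Z of an algebraic space X with scheme theoretic union W (cut out by the
intersection of the two ideal sheaves) and scheme theoretic intersection V (cut out by their sum),
the inclusions Y ⟶ W and Z ⟶ W are closed immersions and the square V ⟶ Y, V ⟶ Z, Y ⟶ W, Z ⟶ W is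
cocartesian among algebraic spaces over S (W = Y ⨿_V Z). (The published statement also gives the
short exact sequence 0 → O_W → O_Y × O_Z → O_V → 0; that clause is not stated here.) -/
theorem result {S : Scheme.{u}} {X Y Z W V : AlgSp.Space S} (iY : Y ⟶ X) (iZ : Z ⟶ X)
    (w : W ⟶ X) (v : V ⟶ X) (I J K : AlgSp.IdealEt X.obj) (hI : I.IsQCoh) (hJ : J.IsQCoh)
    (hK : ∀ (E : AlgSp.EtOver X.obj) (hE : IsAffine E.obj.left.left), K.ideal E hE = I.ideal E hE ⊓ J.ideal E hE)
    (hY : AlgSp.IsCutOutBy I iY.hom) (hZ : AlgSp.IsCutOutBy J iZ.hom) (hW : AlgSp.IsCutOutBy K w.hom)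
    (hV : AlgSp.IsCutOutBy (I ⊔ J) v.hom) (a : Y ⟶ W) (b : Z ⟶ W) (c : V ⟶ Y) (d : V ⟶ Z)
    (ha : a ≫ w = iY) (hb : b ≫ w = iZ) (hc : c ≫ iY = v) (hd : d ≫ iZ = v) :
    AlgSp.RepWith @IsClosedImmersion a.hom ∧ AlgSp.RepWith @IsClosedImmersion b.hom ∧ IsPushout c d a b := by
  haveI := Groth.Agent.Lib.AlgSpMor.SchImage.mono_of_closedImmersion hW.choose
  refine ⟨Groth.Agent.Lib.FerrandEtale.Union.repWith_of_comp_mono
      (congrArg InducedCategory.Hom.hom ha) hY.choose,
    Groth.Agent.Lib.FerrandEtale.Union.repWith_of_comp_mono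
      (congrArg InducedCategory.Hom.hom hb) hZ.choose, ?_⟩
  have key := fun (s : PushoutCocone c d) =>
    Groth.Agent.Lib.FerrandEtale.Union.existsUnique_desc hK hY hZ hW hV ha hb hc hd s.pt.property
      s.inl.hom s.inr.hom (congrArg InducedCategory.Hom.hom s.condition)
  have hw : c ≫ a = d ≫ b := by
    have h : c.hom ≫ a.hom ≫ w.hom = d.hom ≫ b.hom ≫ w.hom :=
      congrArg InducedCategory.Hom.hom (show c ≫ a ≫ w = d ≫ b ≫ w by rw [ha, hb, hc, hd])
    rw [← Category.assoc, ← Category.assoc, cancel_mono] at h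
    exact ObjectProperty.hom_ext _ h
  refine ⟨⟨hw⟩, ⟨PushoutCocone.IsColimit.mk _
    (fun s => ObjectProperty.homMk (key s).exists.choose)
    (fun s => ObjectProperty.hom_ext _ (key s).exists.choose_spec.1)
    (fun s => ObjectProperty.hom_ext _ (key s).exists.choose_spec.2) fun s m h₁ h₂ =>
      ObjectProperty.hom_ext _ ((key s).unique
        ⟨congrArg InducedCategory.Hom.hom h₁, congrArg InducedCategory.Hom.hom h₂⟩
        (key s).exists.choose_spec)⟩⟩

end Groth.Agent.S9996
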