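import Groth.Statements.S0754
import Groth.Agent.Lib.ProEt.Basic
import Groth.Agent.Lib.Henselian.StrictHenselization
import Groth.Agent.Lib.Henselian.IndEtale
import Groth.Agent.Lib.WLocal.RetractLoc
-- import your own Groth.Agent.* helpers here

set_option autoImplicit false
open CategoryTheory CategoryTheory.Limits AlgebraicGeometry Opposite
universe u
open ProEtS

namespace Groth.Agent.S0754

lemma weaklyEtale_fromSpecStalk (X : Scheme.{u}) (x : X) : WeaklyEtale (X.fromSpecStalk x) := by
  obtain ⟨_, ⟨⟨U, hU, rfl⟩, hx, -⟩⟩ :=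
    X.isBasis_affineOpens.exists_subset_of_mem_open (Set.mem_univ x) isOpen_univ
  rw [← hU.fromSpecStalk_eq_fromSpecStalk hx, IsAffineOpen.fromSpecStalk]
  letI : Algebra Γ(X, U) (X.presheaf.stalk x) := (X.presheaf.germ U x hx).hom.toAlgebra
  haveI := hU.isLocalization_stalk ⟨x, hx⟩
  have hw : Algebra.WeaklyEtale ↥Γ(X, U) ↥(X.presheaf.stalk x) :=
    Groth.Agent.Lib.WLocal.RetractLoc.weaklyEtale_of_isLocalization _
      (hU.primeIdealOf ⟨x, hx⟩).asIdeal.primeCompl
  have : WeaklyEtale (Spec.map (X.presheaf.germ U x hx)) :=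
    (Groth.Agent.Lib.ProEt.Basic.weaklyEtale_SpecMap_iff' _).mpr hw
  infer_instance

/-- For a point x of a scheme X and a strict henselization R of the local ring of X at x, the canonical
morphism Spec R -> X is weakly etale, so that Spec R is an object of the small pro-etale site of X. -/
theorem result (X : Scheme.{u}) (x : ↥X) (R : Type u) [CommRing R]
    [IsLocalRing R] [Algebra (X.presheaf.stalk x) R] [IsLocalHom (algebraMap (X.presheaf.stalk x) R)]
    [Hensel.IsStrictHenselization (X.presheaf.stalk x) R] :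
    WeaklyEtale (Hens2.specOf X x R) := by
  have h := Groth.Agent.Lib.IndEtale.Basic.weaklyEtale
    (Groth.Agent.Lib.IndEtale.Basic.of_algEquiv
      (Groth.Agent.Lib.Henselian.IndEtale.isIndEtale_lim)
      (Groth.Agent.Lib.Henselian.StrictHenselization.equivOfIsStrictHenselization
        (X.presheaf.stalk x) R))
  have : WeaklyEtale (Spec.map (CommRingCat.ofHom (algebraMap ↥(X.presheaf.stalk x) R))) :=
    Groth.Agent.Lib.ProEt.Basic.weaklyEtale_SpecMap_iff.mpr h
  have := weaklyEtale_fromSpecStalk X x
  infer_instance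

end Groth.Agent.S0754
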