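import Groth.Statements.S8853
import Groth.Agent.Lib.Ideal.EffCartier
import Mathlib.AlgebraicGeometry.Morphisms.Affine

set_option autoImplicit false
universe u
open CategoryTheory CategoryTheory.Limits AlgebraicGeometry TopologicalSpace
open SDiv

namespace Groth.Agent.S8853

/-- Let Z be a locally principal closed subscheme of a scheme S, with ideal sheaf 𝓘 generated by a
single section on some affine open neighbourhood of each point of its support, and let U be the open
complement of Z. Then the inclusion U ⟶ S is an affine morphism. -/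
theorem result {S : Scheme.{u}} (𝓘 : S.IdealSheafData) (h : Curv2.IsLocPrincipal 𝓘) :
    IsAffineHom (Scheme.Opens.ι 𝓘.support.compl) := by
  refine isAffineHom_of_forall_exists_isAffineOpen _ fun x => ?_
  set C : S.Opens := 𝓘.support.compl with hC
  by_cases hx : x ∈ 𝓘.support
  · obtain ⟨U, hxU, f, hf⟩ := h x hx
    refine ⟨U, hxU, U.2, ?_⟩
    have he : C.ι ⁻¹ᵁ U.1 = C.ι ⁻¹ᵁ S.basicOpen f := by
      ext z
      refine ⟨fun hz => ?_, fun hz => S.basicOpen_le f hz⟩
      have hzU : (C.ι z : S) ∈ U.1 := hz
      by_contra hzb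
      have hzs : (C.ι z : S) ∈ 𝓘.support := by
        rw [Scheme.IdealSheafData.mem_support_iff_of_mem hzU, Scheme.mem_zeroLocus_iff, hf]
        intro r hr hzr
        obtain ⟨c, rfl⟩ := Ideal.mem_span_singleton'.mp hr
        rw [Scheme.basicOpen_mul] at hzr
        exact hzb hzr.2
      exact z.2 hzs
    rw [he]
    refine (U.2.basicOpen f).preimage_of_isOpenImmersion C.ι ?_
    intro z hz
    rw [Scheme.Opens.opensRange_ι]
    intro hzs
    have := (Scheme.IdealSheafData.mem_support_iff_of_mem (S.basicOpen_le f hz)).mp hzs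
    exact (S.mem_zeroLocus_iff _ _).mp this f (hf ▸ Ideal.mem_span_singleton_self f) hz
  · obtain ⟨U, hU, hxU, hle⟩ := exists_isAffineOpen_mem_and_subset (show x ∈ C from hx)
    refine ⟨U, hxU, hU, hU.preimage_of_isOpenImmersion C.ι ?_⟩
    rw [Scheme.Opens.opensRange_ι]
    exact fun z hz => hle hz

end Groth.Agent.S8853
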