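import Groth.Statements.S1685
import Groth.Agent.Lib.RefHull.SubStalk
import Groth.Agent.Lib.Depth.SES
import Mathlib.RingTheory.KrullDimension.NonZeroDivisors
-- import your own Groth.Agent.* helpers here

set_option autoImplicit false
universe u
open CategoryTheory CategoryTheory.Limits AlgebraicGeometry TopologicalSpace
open SDiv

namespace Groth.Agent.S1685

/-- Let X be a locally Noetherian scheme all of whose local rings satisfy Serre's condition (S_k), and
let D be the closed subscheme of an effective Cartier divisor. Then all local rings of D satisfy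
(S_{k-1}). -/
theorem result (X : Scheme.{u}) [IsLocallyNoetherian X] (k : ℕ)
    (hX : ∀ x : ↥X, min (k : WithBot ℕ∞) (ringKrullDim (X.presheaf.stalk x)) ≤
      ((LocCoh.depth (X.presheaf.stalk x) (X.presheaf.stalk x) : ℕ∞) : WithBot ℕ∞))
    (𝓘 : X.IdealSheafData) (h𝓘 : BlowUp.IsEffCartierIdeal 𝓘) (d : ↥𝓘.subscheme) :
    min ((k - 1 : ℕ) : WithBot ℕ∞) (ringKrullDim (𝓘.subscheme.presheaf.stalk d)) ≤
      ((LocCoh.depth (𝓘.subscheme.presheaf.stalk d) (𝓘.subscheme.presheaf.stalk d) : ℕ∞) : WithBot ℕ∞) := by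
  open Groth.Agent.Lib Pointwise in
  obtain ⟨U, hxU, -, f, hf, hI⟩ := Groth.Agent.Lib.Ideal.EffCartier.exists_gen h𝓘 (𝓘.subschemeι d) (W := ⊤) trivial
  have hx' := hX (𝓘.subschemeι d)
  letI : Algebra (X.presheaf.stalk (𝓘.subschemeι d)) (𝓘.subscheme.presheaf.stalk d) :=
    (𝓘.subschemeι.stalkMap d).hom.toAlgebra
  let r : X.presheaf.stalk (𝓘.subschemeι d) := X.presheaf.germ U.1 _ hxU f
  have hsurj : Function.Surjective (algebraMap (X.presheaf.stalk (𝓘.subschemeι d)) (𝓘.subscheme.presheaf.stalk d)) :=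
    Groth.Agent.Lib.RefHull.SubStalk.stalkMap_surjective 𝓘 d
  have hrreg : r ∈ nonZeroDivisors (X.presheaf.stalk (𝓘.subschemeι d)) :=
    Groth.Agent.Lib.Ideal.EffCartier.germ_mem_nonZeroDivisors U.2 hf _ hxU
  have hker : RingHom.ker (algebraMap (X.presheaf.stalk (𝓘.subschemeι d)) (𝓘.subscheme.presheaf.stalk d)) =
      Ideal.span {r} := by
    refine (Groth.Agent.Lib.RefHull.SubStalk.ker_stalkMap 𝓘 (S := {f}) hI d hxU).trans ?_
    rw [Set.image_singleton]
  have hreg : IsSMulRegular (X.presheaf.stalk (𝓘.subschemeι d)) r := fun a b h =>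
    mul_cancel_left_mem_nonZeroDivisors hrreg |>.mp h
  have hrm : r ∈ IsLocalRing.maximalIdeal (X.presheaf.stalk (𝓘.subschemeι d)) := by
    refine (IsLocalRing.mem_maximalIdeal _).mpr fun hu => ?_
    haveI : Subsingleton (𝓘.subscheme.presheaf.stalk d) := by
      refine subsingleton_of_zero_eq_one ?_
      have h1 : (1 : X.presheaf.stalk (𝓘.subschemeι d)) ∈ RingHom.ker
          (algebraMap (X.presheaf.stalk (𝓘.subschemeι d)) (𝓘.subscheme.presheaf.stalk d)) := by
        rw [hker, Ideal.span_singleton_eq_top.mpr hu]; exact Submodule.mem_top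
      rw [RingHom.mem_ker, map_one] at h1
      exact h1.symm
    exact not_subsingleton _ this
  let L : X.presheaf.stalk (𝓘.subschemeι d) →ₗ[X.presheaf.stalk (𝓘.subschemeι d)] 𝓘.subscheme.presheaf.stalk d :=
    Algebra.linearMap _ _
  have hL : LinearMap.ker L = r • (⊤ : Submodule (X.presheaf.stalk (𝓘.subschemeι d)) (X.presheaf.stalk (𝓘.subschemeι d))) := by
    ext a
    show a ∈ RingHom.ker (algebraMap (X.presheaf.stalk (𝓘.subschemeι d)) (𝓘.subscheme.presheaf.stalk d)) ↔ _
    rw [hker, Ideal.mem_span_singleton', Submodule.mem_smul_pointwise_iff_exists]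
    exact ⟨fun ⟨b, hb⟩ => ⟨b, trivial, (mul_comm r b).trans hb⟩, fun ⟨b, _, hb⟩ => ⟨b, (mul_comm b r).trans hb⟩⟩
  let e : QuotSMulTop r (X.presheaf.stalk (𝓘.subschemeι d)) ≃ₗ[X.presheaf.stalk (𝓘.subschemeι d)] 𝓘.subscheme.presheaf.stalk d :=
    (Submodule.quotEquivOfEq _ _ hL.symm).trans (L.quotKerEquivOfSurjective hsurj)
  have hdepth : LocCoh.depth (𝓘.subscheme.presheaf.stalk d) (𝓘.subscheme.presheaf.stalk d) + 1 =
      LocCoh.depth (X.presheaf.stalk (𝓘.subschemeι d)) (X.presheaf.stalk (𝓘.subschemeι d)) := by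
    rw [← Groth.Agent.Lib.Depth.Basic.depth_eq_of_surjective (R := X.presheaf.stalk (𝓘.subschemeι d))
      (S := 𝓘.subscheme.presheaf.stalk d) (M := 𝓘.subscheme.presheaf.stalk d) hsurj,
      ← Groth.Agent.Lib.Depth.Basic.depth_congr e]
    exact Groth.Agent.Lib.Depth.SES.idealDepth_quotSMulTop _ hrm hreg
  have hdim : ringKrullDim (𝓘.subscheme.presheaf.stalk d) + 1 ≤ ringKrullDim (X.presheaf.stalk (𝓘.subschemeι d)) :=
    ringKrullDim_succ_le_of_surjective _ hsurj hrreg
      (RingHom.mem_ker.mp (hker.ge (Ideal.mem_span_singleton_self r)))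
  rw [← hdepth] at hx'
  revert hx' hdim
  generalize LocCoh.depth (𝓘.subscheme.presheaf.stalk d) (𝓘.subscheme.presheaf.stalk d) = a
  generalize ringKrullDim (X.presheaf.stalk (𝓘.subschemeι d)) = D
  generalize ringKrullDim (𝓘.subscheme.presheaf.stalk d) = D'
  intro hx' hdim
  induction a using ENat.recTopCoe with
  | top => exact le_top
  | coe a =>
    rcases Nat.lt_or_ge a (k - 1) with h | h
    · refine min_le_of_right_le ?_
      rcases min_le_iff.mp hx' with h' | h'
      · exact absurd (show k ≤ a + 1 by exact_mod_cast h') (by omega)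
      · have h2 := hdim.trans h'
        induction D' with
        | bot => exact bot_le
        | coe b =>
          have h3 : b + 1 ≤ (a : ℕ∞) + 1 := by exact_mod_cast h2
          exact WithBot.coe_le_coe.mpr ((ENat.add_le_add_iff_right ENat.one_ne_top).mp h3)
    · refine min_le_of_left_le ?_
      exact WithBot.coe_le_coe.mpr (ENat.coe_le_coe.mpr h)

end Groth.Agent.S1685
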