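import Groth.Statements.S9974
import Groth.Agent.Lib.AlgSpMor.SchImage.Main
-- import your own Groth.Agent.* helpers here

set_option autoImplicit false
universe u
open CategoryTheory CategoryTheory.Limits AlgebraicGeometry
open AlgSp

open Groth.Agent.Lib.AlgSpace Groth.Agent.Lib.AlgSpMor Groth.Agent.Lib.AlgSpMor.SchImage

namespace Groth.Agent.S9974

/-- For a flat morphism of algebraic spaces, the scheme theoretic image of a quasi-compact morphism
pulls back to the scheme theoretic image of the pulled-back morphism. -/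
theorem result {S : Scheme.{u}} {X Y V Z VX ZX : AlgSp.Space S} (f : X ⟶ Y)
    (hf : AlgSp.LocP @Flat f.hom) (g : V ⟶ Y) (hg : AlgSp.IsQuasiCompactMor g.hom) (i : Z ⟶ Y)
    (hZ : AlgSp.IsSchImage g.hom i.hom) (g₁ : VX ⟶ V) (gX : VX ⟶ X) (sqV : IsPullback g₁.hom gX.hom g.hom f.hom)
    (i₁ : ZX ⟶ Z) (iX : ZX ⟶ X) (sqZ : IsPullback i₁.hom iX.hom i.hom f.hom) :
    AlgSp.IsSchImage gX.hom iX.hom := by
  refine isSchImage_of_affine X.property (repWith_baseChange sqZ hZ.1) fun T hT ξ hξ ↦ ?_
  rw [cut_iff_of_isPullback sqZ, kerAt_eq_of_isPullback sqV]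
  exact cut_kerAt V.property Y.property hg Z.property hZ hT
    (LocP.locP_comp Groth.Agent.Lib.SourceDescent.Scheme.flat (IsAlgSpace.yon_obj T) X.property Y.property
      (LocP.locP_of_repWith Groth.Agent.Lib.SourceDescent.Scheme.flat
        (repWith_mono hξ fun _ _ g (_ : Etale g) ↦ (inferInstance : Flat g))) hf)

end Groth.Agent.S9974
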