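import Groth.Statements.S2049
import Groth.Agent.H20.ValFP
import Mathlib.RingTheory.EssentialFiniteness
import Mathlib.RingTheory.Localization.Integer

set_option autoImplicit false
universe u
open CAlg

namespace Groth.Agent.S2049

theorem torsionFree_of_flat {A M : Type u} [CommRing A] [IsDomain A] [AddCommGroup M] [Module A M] [Module.Flat A M]
    (a : A) (x : M) (ha : a ≠ 0) (h : a • x = 0) : x = 0 :=
  Module.Flat.isSMulRegular_of_isRegular (M := M) (isRegular_of_ne_zero ha) (h.trans (smul_zero a).symm)

/-- Let `A` be a valuation ring, `A → B` a local homomorphism of local rings essentially of finite type,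
and `M` a finite `B`-module which is flat over `A`. Then `M` is finitely presented over `B`. -/
theorem result {A B M : Type u} [CommRing A] [IsDomain A]
    [ValuationRing A] [CommRing B] [IsLocalRing B] [Algebra A B] [IsLocalHom (algebraMap A B)]
    [Algebra.EssFiniteType A B] [AddCommGroup M] [Module B M] [Module A M] [IsScalarTower A B M]
    [Module.Finite B M] [Module.Flat A M] : Module.FinitePresentation B M := by
  classical
  let S0 := Algebra.EssFiniteType.subalgebra A B
  obtain ⟨n, f, hf⟩ := Algebra.FiniteType.iff_quotient_mvPolynomial''.mp (inferInstance : Algebra.FiniteType A S0)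
  let P := MvPolynomial (Fin n) A
  let φ : P →ₐ[A] B := S0.val.comp f
  obtain ⟨k, π, hπ⟩ := Module.Finite.exists_fin' B M
  letI : Module P M := Module.compHom M φ.toRingHom
  have hC : ∀ (a : A) (x : M), (MvPolynomial.C a : P) • x = a • x := fun a x => by
    show φ (algebraMap A P a) • x = a • x
    rw [φ.commutes, algebraMap_smul]
  let ψ : (Fin k → P) →ₗ[P] M := Fintype.linearCombination P fun j => π (Pi.single j 1)
  have hψ : ∀ v, ψ v = π (fun j => φ (v j)) := fun v => by
    conv_rhs => rw [← Finset.univ_sum_single (fun j => φ (v j))]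
    rw [map_sum, Fintype.linearCombination_apply]
    refine Finset.sum_congr rfl fun j _ => ?_
    show φ (v j) • π (Pi.single j 1) = _
    rw [← map_smul, ← Pi.single_smul, smul_eq_mul, mul_one]
  obtain ⟨G, hG⟩ : (LinearMap.ker ψ).FG := Groth.Agent.H20.ValFP.fg_of_saturated _ fun a v ha hav => by
    rw [LinearMap.mem_ker] at hav ⊢
    refine torsionFree_of_flat a _ ha ?_
    rw [← hC, ← map_smul]
    refine (congrArg ψ (funext fun j => ?_)).trans hav
    rw [Pi.smul_apply, Pi.smul_apply, smul_eq_mul, MvPolynomial.smul_eq_C_mul]
  let Φ : (Fin k → P) → (Fin k → B) := fun v j => φ (v j)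
  refine Module.finitePresentation_of_surjective π hπ ⟨G.image Φ, le_antisymm ?_ fun z hz => ?_⟩
  · rw [Submodule.span_le]
    intro z hz
    obtain ⟨v, hv, rfl⟩ := Finset.mem_image.mp hz
    have : v ∈ LinearMap.ker ψ := hG ▸ Submodule.subset_span hv
    rw [LinearMap.mem_ker, hψ] at this
    exact this
  · obtain ⟨t, ht⟩ := IsLocalization.exist_integer_multiples_of_finite (Algebra.EssFiniteType.submonoid A B) z
    choose y hy using ht
    choose v hv using fun j => hf (y j)
    have hu : IsUnit ((t : S0) : B) := t.2
    have hΦ : Φ v = ((t : S0) : B) • z := funext fun j => by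
      show ((f (v j) : S0) : B) = ((t : S0) : B) * z j
      rw [hv]
      exact hy j
    have hv0 : v ∈ Submodule.span P (G : Set (Fin k → P)) := by
      rw [hG, LinearMap.mem_ker, hψ, show (fun j => φ (v j)) = Φ v from rfl, hΦ, map_smul,
        LinearMap.mem_ker.mp hz, smul_zero]
    have : Φ v ∈ Submodule.span B (G.image Φ : Set (Fin k → B)) := by
      clear hΦ hv
      induction hv0 using Submodule.span_induction with
      | mem x hx => exact Submodule.subset_span (Finset.mem_image_of_mem _ hx)
      | zero =>
        rw [show Φ 0 = 0 from funext fun j => map_zero φ]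
        exact zero_mem _
      | add a b _ _ ha hb =>
        rw [show Φ (a + b) = Φ a + Φ b from funext fun j => map_add φ _ _]
        exact add_mem ha hb
      | smul c a _ ha =>
        rw [show Φ (c • a) = φ c • Φ a from funext fun j => map_mul φ _ _]
        exact Submodule.smul_mem _ _ ha
    rw [hΦ] at this
    exact (Submodule.smul_mem_iff_of_isUnit _ hu).mp this

end Groth.Agent.S2049
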