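import Groth.Statements.S9447
import Groth.Agent.Lib.Pure.ProjDescent
import Mathlib.RingTheory.Extension.Cotangent.BaseChange
import Mathlib.RingTheory.Kaehler.TensorProduct
import Mathlib.RingTheory.Smooth.Basic
import Mathlib.RingTheory.Flat.FaithfullyFlat.Algebra

set_option autoImplicit false
universe u
open CAlg
open scoped TensorProduct

namespace Groth.Agent.S9447

open TensorProduct in
/-- Formal smoothness descends along faithfully flat base change: for R → S arbitrary and R → R'
faithfully flat, the R-algebra S is formally smooth exactly when the R'-algebra R' ⊗_R S is formally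
smooth. No finiteness hypothesis on S. -/
theorem result (R : Type u) [CommRing R]
    (S : Type u) [CommRing S] [Algebra R S] (R' : Type u) [CommRing R'] [Algebra R R']
    [Module.FaithfullyFlat R R'] :
    Algebra.FormallySmooth R S ↔ Algebra.FormallySmooth R' (R' ⊗[R] S) := by
  refine ⟨fun _ => inferInstance, fun hS' => ?_⟩
  letI : Algebra S (R' ⊗[R] S) := Algebra.TensorProduct.rightAlgebra
  haveI : IsScalarTower R S (R' ⊗[R] S) := IsScalarTower.of_algebraMap_eq fun r =>
    ((Algebra.TensorProduct.includeRight : S →ₐ[R] R' ⊗[R] S).commutes r).symm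
  haveI h1 : Subsingleton (Algebra.H1Cotangent R S) := by
    haveI : Subsingleton (R' ⊗[R] Algebra.H1Cotangent R S) :=
      (Algebra.tensorH1CotangentOfFlat R S R').toEquiv.subsingleton
    exact Module.FaithfullyFlat.lTensor_reflects_triviality R R' (Algebra.H1Cotangent R S)
  let e : S ⊗[R] R' ≃ₐ[S] R' ⊗[R] S :=
    AlgEquiv.ofRingEquiv (f := (Algebra.TensorProduct.comm R S R').toRingEquiv) fun s => rfl
  haveI : Module.FaithfullyFlat S (R' ⊗[R] S) :=
    Module.FaithfullyFlat.of_linearEquiv S (S ⊗[R] R') e.toLinearEquiv.symm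
  haveI : Module.Projective (R' ⊗[R] S) ((R' ⊗[R] S) ⊗[S] Ω[S⁄R]) :=
    Module.Projective.of_equiv (KaehlerDifferential.tensorKaehlerEquiv R R' S (R' ⊗[R] S)).symm
  exact ⟨Groth.Agent.Lib.Pure.ProjDescent.projective_of_faithfullyFlat (S := R' ⊗[R] S), h1⟩

end Groth.Agent.S9447
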