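import Groth.Statements.S3694

import Groth.Agent.Lib.Unram.EtaleMono
import Mathlib.AlgebraicGeometry.Morphisms.UniversallyInjective

set_option autoImplicit false
universe u
open SGA1

namespace Groth.Agent.S3694

open AlgebraicGeometry CategoryTheory CategoryTheory.Limits in
/-- A morphism which is etale and universally injective (radicial) is an open immersion. (The converse
is immediate.) -/
theorem result {X Y : Scheme.{u}} (f : X ⟶ Y) [Etale f] [UniversallyInjective f] :
    IsOpenImmersion f := by
  have := (UniversallyInjective.iff_diagonal f).1 ‹_›
  exact Groth.Agent.Lib.Unram.EtaleMono.isOpenImmersion_of_surjective_diagonal f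

end Groth.Agent.S3694
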