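import Groth.Statements.S1545
import Groth.Agent.H2.Rigid.GeomRedAt

set_option autoImplicit false
universe u
open CategoryTheory CategoryTheory.Limits AlgebraicGeometry
open Variety

namespace Groth.Agent.S1545

/-- For a field extension k' of k, a point x of X and a point x' of X_{k'} over x, X is geometrically
reduced at x if and only if X_{k'} is geometrically reduced at x' (over k'). -/
theorem result (k : Type u) [Field k] (X : Scheme.{u}) [X.Over (Spec (CommRingCat.of k))] (k' : Type u) [Field k'] [Algebra k k']
    (x : X) (x' : Curv2.bc k X k') (hx : Curv2.bcFst k X k' x' = x) :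
    Curv2.IsGeomReducedAt k X x ↔
      @Curv2.IsGeomReducedAt k' _ (Curv2.bc k X k') ⟨Curv2.bcSnd k X k'⟩ x' := by
  let f := X ↘ Spec (CommRingCat.of k)
  let σK := Spec.map (CommRingCat.ofHom (algebraMap k k'))
  have key : ∀ (L : Type u) [Field L] [Algebra k' L] [Algebra k L] [IsScalarTower k k' L],
      ∃ e : pullback (pullback.snd f σK) (Spec.map (CommRingCat.ofHom (algebraMap k' L))) ≅
          pullback f (Spec.map (CommRingCat.ofHom (algebraMap k L))),
        e.hom ≫ pullback.fst _ _ = pullback.fst _ _ ≫ pullback.fst f σK := by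
    intro L _ _ _ _
    have hσ : Spec.map (CommRingCat.ofHom (algebraMap k' L)) ≫ σK =
        Spec.map (CommRingCat.ofHom (algebraMap k L)) := by
      rw [← Spec.map_comp, ← CommRingCat.ofHom_comp, ← IsScalarTower.algebraMap_eq]
    refine ⟨pullbackLeftPullbackSndIso f σK _ ≪≫ pullback.congrHom rfl hσ, ?_⟩
    simp [pullback.congrHom, pullback.map]
    erw [pullback.lift_fst]
    simp
  subst hx
  constructor
  · intro h L _ _ z hz
    letI : Algebra k L := ((algebraMap k' L).comp (algebraMap k k')).toAlgebra
    have : IsScalarTower k k' L := .of_algebraMap_eq fun _ => rfl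
    obtain ⟨e, he⟩ := key L
    have hred : _root_.IsReduced ((pullback f (Spec.map (CommRingCat.ofHom (algebraMap k L)))).presheaf.stalk (e.hom z)) := h L (e.hom z) ((congrArg (fun m : _ ⟶ X => m z) he).trans
      (congrArg (pullback.fst f σK) hz))
    exact isReduced_of_injective (RingEquiv.ofBijective (e.hom.stalkMap z).hom
      (Groth.Agent.H52.FBase.StalkBC.bijective_stalkMap e.hom z)).symm (RingEquiv.injective _)
  · intro h
    let L := AlgebraicClosure k'
    obtain ⟨e, he⟩ := key L
    have : Surjective (Spec.map (CommRingCat.ofHom (algebraMap k' L))) := ⟨fun p =>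
      ⟨Classical.arbitrary (Spec (CommRingCat.of L)), Subsingleton.elim _ _⟩⟩
    obtain ⟨z, hz⟩ := (pullback.fst (pullback.snd f σK)
      (Spec.map (CommRingCat.ofHom (algebraMap k' L)))).surjective x'
    have hred : _root_.IsReduced ((pullback (pullback.snd f σK)
      (Spec.map (CommRingCat.ofHom (algebraMap k' L)))).presheaf.stalk z) := h L z hz
    refine Groth.Agent.H52.FBase.GeomPt.isGeomReducedAt_of_perfect (f := f) (Ω := L) (e.hom z)
      ((congrArg (fun m : _ ⟶ X => m z) he).trans (congrArg (pullback.fst f σK) hz)) ?_
    exact isReduced_of_injective (RingEquiv.ofBijective (e.hom.stalkMap z).hom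
      (Groth.Agent.H52.FBase.StalkBC.bijective_stalkMap e.hom z)) (RingEquiv.injective _)


end Groth.Agent.S1545
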