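import Groth.Statements.S9965
import Groth.Agent.Lib.AlgSpMor.SchImage.Main
import Groth.Agent.Lib.AlgSpFpqc.Topo
import Groth.Agent.Lib.AlgSpRed.Stalk
-- import your own Groth.Agent.* helpers here

set_option autoImplicit false
universe u
open CategoryTheory CategoryTheory.Limits AlgebraicGeometry
open AlgSp

open Groth.Agent.Lib.AlgSpace Groth.Agent.Lib.AlgSpMor Groth.Agent.Lib.AlgSpMor.SchImage

namespace Groth.Agent.S9965

/-- For a quasi-compact morphism of algebraic spaces, forming the scheme theoretic image commutes with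
etale base change, and the image of the morphism is dense in the scheme theoretic image. -/
theorem result {S : Scheme.{u}} {X Y Z : AlgSp.Space S} (f : X ⟶ Y) (i : Z ⟶ Y)
    (hq : AlgSp.IsQuasiCompactMor f.hom) (hZ : AlgSp.IsSchImage f.hom i.hom) :
    (∀ (V XV ZV : AlgSp.Space S) (b : V ⟶ Y), AlgSp.IsEtaleMor b.hom →
      ∀ (f₁ : XV ⟶ X) (fV : XV ⟶ V) (i₁ : ZV ⟶ Z) (iV : ZV ⟶ V),
        IsPullback f₁.hom fV.hom f.hom b.hom → IsPullback i₁.hom iV.hom i.hom b.hom →
        AlgSp.IsSchImage fV.hom iV.hom) ∧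
    Set.range (AlgSp.Points.map i.hom) ⊆ closure (Set.range (AlgSp.Points.map f.hom)) := by
  refine ⟨fun V XV ZV b hb f₁ fV i₁ iV sqX sqZ ↦
    isSchImage_of_affine V.property (repWith_baseChange sqZ hZ.1) fun T hT ξ hξ ↦ ?_, ?_⟩
  · rw [cut_iff_of_isPullback sqZ, kerAt_eq_of_isPullback sqX]
    exact cut_kerAt X.property Y.property hq Z.property hZ hT
      (LocP.locP_of_repWith Groth.Agent.Lib.SourceDescent.Scheme.flat
        (repWith_mono (hb ξ hξ) fun _ _ g (_ : Etale g) ↦ (inferInstance : Flat g)))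
  · rintro _ ⟨z, rfl⟩
    obtain ⟨T₀, ξ₀, he, hs⟩ := Y.property.atlas
    obtain ⟨t₀, ht₀⟩ := surjective_ofPt hs (AlgSp.Points.map i.hom z)
    obtain ⟨T, c, hT, hc, ⟨t, rfl⟩, -⟩ := exists_affine_nhd ⊤ (x := t₀) trivial
    haveI := hc
    rw [ofPt_yon_map_comp c ξ₀ t |>.symm] at ht₀
    rw [← ht₀]
    generalize hξ' : (AlgSp.yon S).map c ≫ ξ₀ = ξ at ht₀ ⊢
    have heξ : AlgSp.RepWith @Etale ξ := hξ' ▸ LocP.repWith_etale_comp c he
    have hcut := cut_kerAt X.property Y.property hq Z.property hZ hT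
      (LocP.locP_of_repWith Groth.Agent.Lib.SourceDescent.Scheme.flat
        (repWith_mono heξ fun _ _ g (_ : Etale g) ↦ (inferInstance : Flat g)))
    haveI : Mono i.hom := mono_of_closedImmersion hZ.1
    obtain ⟨fst, sq⟩ := hcut.isPullback
    obtain ⟨y, -, hy⟩ := exists_of_isPullback sq z (AlgSp.Points.ofScheme T t)
      (by rw [← ht₀, AlgSp.Points.ofPt_eq_map_ofScheme])
    obtain ⟨y, rfl⟩ : ∃ y', AlgSp.Points.ofScheme _ y' = y := ⟨_, AlgSp.Points.ofScheme_toScheme _ y⟩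
    obtain ⟨w₀, hw₀⟩ : ∃ w, t ∈ closure w ∧ w ⊆ AlgSp.Points.ofPt ξ ⁻¹'
        Set.range (AlgSp.Points.map f.hom) := by
      obtain ⟨W, w, a₀, hW, ha, hker⟩ := exists_witness X.property Y.property hq hT ξ
      haveI := hW
      haveI := hT
      haveI : IsAffineHom w.left := inferInstance
      refine ⟨Set.range w.left, ?_, ?_⟩
      · rw [← Scheme.Hom.support_ker, hker, ← Scheme.IdealSheafData.range_subschemeι]
        rw [Groth.Agent.Lib.AlgSpFpqc.Topo.map_ofScheme] at hy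
        have hy' : (subι (kerAt f.hom ξ)).left y = t := (AlgSp.Points.schemeEquiv T).injective hy
        exact ⟨y, hy'⟩
      · rintro _ ⟨x, rfl⟩
        exact ⟨AlgSp.Points.ofPt a₀ x,
          by rw [AlgSp.Points.map_ofPt, ha, ofPt_yon_map_comp]⟩
    exact (AlgSp.Points.continuous_ofPt ξ).closure_preimage_subset _ (closure_mono hw₀.2 hw₀.1)

end Groth.Agent.S9965
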