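import Groth.Statements.S10053
import Groth.Agent.Lib.AlgSpMor.AffineSpaceClosed
-- import your own Groth.Agent.* helpers here

set_option autoImplicit false
universe u
open CategoryTheory CategoryTheory.Limits AlgebraicGeometry
open AlgSp

open Groth.Agent.Lib.AlgSpace Groth.Agent.Lib.AlgSpMor Groth.Agent.Lib

namespace Groth.Agent.S10053

/-- For a quasi-compact morphism `f : X ⟶ Y` of algebraic spaces over `S` these conditions are
equivalent: (1) `f` is universally closed; (2) for every `Z ⟶ Y` locally of finite presentation,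
with `Z` an algebraic space, the map `|X ×_Y Z| → |Z|` is closed; (3) for some scheme `V` with a
surjective etale morphism `V ⟶ Y`, the maps `|X ×_Y 𝐀^n_V| → |𝐀^n_V|` are closed for all `n`. Stated
as (1) ↔ (2) and (1) ↔ (3). -/
theorem result (S : Scheme.{u}) {X Y : AlgSp.Space S} (f : X ⟶ Y)
    (hqc : AlgSp.IsQuasiCompactMor f.hom) :
    (AlgSp.IsUnivClosedMor f.hom ↔
      ∀ (Z : AlgSp.Space S) (g : Z ⟶ Y), AlgSp.LocP @LocallyOfFinitePresentation g.hom →
        ∀ (P : AlgSp.Sp S) (fst : P ⟶ X.obj) (snd : P ⟶ Z.obj), IsPullback fst snd f.hom g.hom →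
          IsClosedMap (AlgSp.Points.map snd)) ∧
    (AlgSp.IsUnivClosedMor f.hom ↔
      ∃ (V : Over S) (p : (AlgSp.yon S).obj V ⟶ Y.obj), AlgSp.RepWith @Etale p ∧ AlgSp.RepWith @Surjective p ∧
        ∀ (n : ℕ) (P : AlgSp.Sp S) (fst : P ⟶ X.obj)
          (snd : P ⟶ (AlgSp.yon S).obj (Over.mk ((𝔸(ULift.{u} (Fin n); V.left) ↘ V.left) ≫ V.hom))),
          IsPullback fst snd f.hom ((AlgSp.yon S).map (Over.homMk (𝔸(ULift.{u} (Fin n); V.left) ↘ V.left)) ≫ p) →
            IsClosedMap (AlgSp.Points.map snd)) := by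
  have h12 : AlgSp.IsUnivClosedMor f.hom → ∀ {Z : AlgSp.Sp S}, AlgSp.IsAlgSpace Z →
      ∀ (g : Z ⟶ Y.obj) (P : AlgSp.Sp S) (fst : P ⟶ X.obj) (snd : P ⟶ Z),
        IsPullback fst snd f.hom g → IsClosedMap (AlgSp.Points.map snd) :=
    fun h Z hZ g P fst snd sq => h hZ g fst snd sq
  have h31 : (∃ (V : Over S) (p : (AlgSp.yon S).obj V ⟶ Y.obj), AlgSp.RepWith @Etale p ∧
      AlgSp.RepWith @Surjective p ∧ ∀ (n : ℕ) (P : AlgSp.Sp S) (fst : P ⟶ X.obj)
        (snd : P ⟶ (AlgSp.yon S).obj (Over.mk ((𝔸(ULift.{u} (Fin n); V.left) ↘ V.left) ≫ V.hom))),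
        IsPullback fst snd f.hom
          ((AlgSp.yon S).map (Over.homMk (𝔸(ULift.{u} (Fin n); V.left) ↘ V.left)) ≫ p) →
          IsClosedMap (AlgSp.Points.map snd)) → AlgSp.IsUnivClosedMor f.hom := by
    rintro ⟨V, p, hp, hps, hcl⟩
    have sqV := IsPullback.of_hasPullback f.hom p
    have hXV : AlgSp.IsAlgSpace (pullback f.hom p) :=
      isAlgSpace_of_isPullback sqV Y.property.diag X.property (AlgSp.IsAlgSpace.yon_obj V)
    refine Topo.univSp_of_cover Topo.cartLocal_isClosedMap Y.property.diag hp hps sqV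
      (AffineSpaceClosed.isUnivClosedMor hXV ?_ fun n P fst snd sq =>
        hcl n P _ snd (sq.paste_horiz sqV))
    intro Z Z' hZ hZc g fst snd sq
    exact hqc hZ hZc (g ≫ p) _ snd (sq.paste_horiz sqV)
  obtain ⟨V, p, hp, hps⟩ := Y.property.atlas
  refine ⟨⟨fun h Z g _ => h12 h Z.property g.hom, fun h => h31 ⟨V, p, hp, hps, ?_⟩⟩,
    ⟨fun h => ⟨V, p, hp, hps, fun n => h12 h (AlgSp.IsAlgSpace.yon_obj _) _⟩, h31⟩⟩
  intro n P fst snd sq
  let A : Over S := Over.mk ((𝔸(ULift.{u} (Fin n); V.left) ↘ V.left) ≫ V.hom)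
  let q : A ⟶ V := Over.homMk (𝔸(ULift.{u} (Fin n); V.left) ↘ V.left)
  refine h ⟨_, AlgSp.IsAlgSpace.yon_obj A⟩ (ObjectProperty.homMk ((AlgSp.yon S).map q ≫ p)) ?_ P fst
    snd sq
  have hid : AlgSp.RepWith @Etale (𝟙 ((AlgSp.yon S).obj A)) := by
    rw [← (AlgSp.yon S).map_id]
    exact (AlgSp.repWith_yon_map_iff _ _).2 (inferInstanceAs (Etale (𝟙 _)))
  have hids : AlgSp.RepWith @Surjective (𝟙 ((AlgSp.yon S).obj A)) := by
    rw [← (AlgSp.yon S).map_id]
    exact (AlgSp.repWith_yon_map_iff _ _).2 (inferInstanceAs (Surjective (𝟙 _)))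
  exact LocP.locP_of_chart SourceDescent.Scheme.locallyOfFinitePresentation
    (AlgSp.IsAlgSpace.yon_obj A).diag Y.property.diag hid hids hp (h := q) (Category.id_comp _)
    (inferInstanceAs (LocallyOfFinitePresentation (𝔸(ULift.{u} (Fin n); V.left) ↘ V.left)))

end Groth.Agent.S10053
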