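import Groth.Statements.S15137
import Groth.Agent.Lib.ZarCoh.FlatBC.Equiv
import Groth.Agent.Lib.ZarCoh.RpushVanish
import Groth.Agent.Lib.ZarCoh.PushH
import Groth.Agent.Lib.ZarCoh.Linear
import Groth.Agent.Lib.ModelFibre.SmoothModel
import Groth.Agent.Lib.ModPair.Basic
import Groth.Agent.Lib.RG.GeomComp
import Groth.Agent.Lib.Curves.LES
import Groth.Agent.Lib.Curves.Degree
import Groth.Agent.Lib.Unram.BaseChangeNhd
import Groth.Agent.H34.Stein.NormalBase
import Groth.Agent.S0002

/-!
# Proper birational morphisms to a model with rational singularities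
-/

set_option linter.style.haveILetI false

set_option autoImplicit false
universe u
open CategoryTheory CategoryTheory.Limits AlgebraicGeometry Opposite
open Models

namespace Groth.Agent.S15137

open Groth.Agent Groth.Agent.Lib Opposite TopologicalSpace
open scoped TensorProduct

section Localise

variable {X X' : Scheme.{u}} (ρ : X' ⟶ X) [IsProper ρ] {V : X.Opens} (hV : IsAffineOpen V)

/-- The preimage of an affine open as a scheme over its ring. -/
noncomputable abbrev overAff : (ρ ⁻¹ᵁ V : Scheme.{u}).Over (Spec (CommRingCat.of Γ(X, V))) :=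
  ⟨(ρ ∣_ V) ≫ hV.isoSpec.hom⟩

/-- Flat localisation of `H¹` of the preimage of an affine open. -/
theorem nonempty_H1_baseChange (B : Type u) [CommRing B] [Algebra Γ(X, V) B] [Module.Flat Γ(X, V) B]
    (P : Scheme.{u}) [P.Over (Spec (CommRingCat.of B))] (pX : P ⟶ X')
    (hP : IsPullback pX (P ↘ Spec (CommRingCat.of B)) ρ
      (Spec.map (CommRingCat.ofHom (algebraMap Γ(X, V) B)) ≫ hV.fromSpec)) :
    letI := overAff ρ hV
    Nonempty (B ⊗[Γ(X, V)] Coh.HH (ρ ⁻¹ᵁ V : Scheme.{u}) (Coh.structureModule _) 1 ≃ₗ[B]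
      Coh.HH P (Coh.structureModule P) 1) := by
  letI := overAff ρ hV
  haveI : IsAffine (V : Scheme.{u}) := hV
  haveI : IsProper ((ρ ⁻¹ᵁ V : Scheme.{u}) ↘ Spec (CommRingCat.of Γ(X, V))) :=
    inferInstanceAs (IsProper ((ρ ∣_ V) ≫ hV.isoSpec.hom))
  haveI : CompactSpace (ρ ⁻¹ᵁ V : Scheme.{u}) :=
    QuasiCompact.compactSpace_of_compactSpace ((ρ ⁻¹ᵁ V : Scheme.{u}) ↘ Spec (CommRingCat.of Γ(X, V)))
  haveI : QuasiSeparatedSpace (ρ ⁻¹ᵁ V : Scheme.{u}) :=
    quasiSeparatedSpace_of_quasiSeparated ((ρ ⁻¹ᵁ V : Scheme.{u}) ↘ Spec (CommRingCat.of Γ(X, V)))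
  have hsq : IsPullback (ρ ⁻¹ᵁ V).ι ((ρ ⁻¹ᵁ V : Scheme.{u}) ↘ Spec (CommRingCat.of Γ(X, V))) ρ
      hV.fromSpec :=
    (isPullback_morphismRestrict ρ V).flip.of_iso (Iso.refl _) (Iso.refl _) hV.isoSpec (Iso.refl _)
      (by simp) (Category.id_comp _).symm (by simp)
      (by rw [← hV.isoSpec_inv_ι, Iso.hom_inv_id_assoc]; simp)
  let g' : P ⟶ (ρ ⁻¹ᵁ V : Scheme.{u}) := hsq.lift pX
    ((P ↘ Spec (CommRingCat.of B)) ≫ Spec.map (CommRingCat.ofHom (algebraMap Γ(X, V) B)))
    (by rw [Category.assoc]; exact hP.w)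
  have h : IsPullback g' (P ↘ Spec (CommRingCat.of B))
      ((ρ ⁻¹ᵁ V : Scheme.{u}) ↘ Spec (CommRingCat.of Γ(X, V)))
      (Spec.map (CommRingCat.ofHom (algebraMap Γ(X, V) B))) :=
    IsPullback.of_right (by rw [hsq.lift_fst]; exact hP) (hsq.lift_snd _ _ _) hsq
  haveI : (Coh.structureModule (ρ ⁻¹ᵁ V : Scheme.{u})).IsQuasicoherent :=
    TensorMod.QCohInv.isQCoh_structureModule _
  obtain ⟨e⟩ := ZarCoh.FlatBC.Equiv.nonempty_linearEquiv h (Coh.structureModule _) 1
  exact ⟨e.trans (Curves.LES.isoK B (PicLoc.pullbackStructureIso g') 1)⟩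

include hV in
/-- Finiteness of `H¹` of the preimage of an affine open. -/
theorem finite_H1 [IsLocallyNoetherian X] :
    letI := overAff ρ hV
    Module.Finite Γ(X, V) (Coh.HH (ρ ⁻¹ᵁ V : Scheme.{u}) (Coh.structureModule _) 1) := by
  letI := overAff ρ hV
  haveI : IsAffine (V : Scheme.{u}) := hV
  haveI : IsNoetherianRing Γ(X, V) := IsLocallyNoetherian.component_noetherian ⟨V, hV⟩
  haveI : IsProper ((ρ ⁻¹ᵁ V : Scheme.{u}) ↘ Spec (CommRingCat.of Γ(X, V))) :=
    inferInstanceAs (IsProper ((ρ ∣_ V) ≫ hV.isoSpec.hom))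
  haveI : IsLocallyNoetherian (ρ ⁻¹ᵁ V : Scheme.{u}) :=
    LocallyOfFiniteType.isLocallyNoetherian ((ρ ⁻¹ᵁ V : Scheme.{u}) ↘ Spec (CommRingCat.of Γ(X, V)))
  exact Groth.Agent.S0002.result _ _ _ Curves.Degree.isCoh_structureModule 1

include hV in
set_option maxHeartbeats 1000000 in
set_option synthInstance.maxHeartbeats 200000 in
/-- If `H¹` vanishes over the local scheme at `x ∈ V`, it vanishes over all affines near `x`. -/
theorem exists_nhd_vanish [IsLocallyNoetherian X] {x : X} (hxV : x ∈ V)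
    (h0 : Subsingleton (Coh.HH (pullback ρ (X.fromSpecStalk x)) (Coh.structureModule _) 1)) :
    ∃ V' : X.Opens, x ∈ V' ∧ ∀ W : X.Opens, IsAffineOpen W → W ≤ V' →
      Subsingleton (CohTop.HU (Coh.toAb (Coh.structureModule X')) 1 ((Opens.map ρ.base).obj W)) := by
  classical
  letI := overAff ρ hV
  haveI := finite_H1 ρ hV
  set M := Coh.HH (ρ ⁻¹ᵁ V : Scheme.{u}) (Coh.structureModule _) 1
  let m := (hV.primeIdealOf ⟨x, hxV⟩).asIdeal
  letI : Algebra Γ(X, V) (X.presheaf.stalk x) :=
    TopCat.Presheaf.algebra_section_stalk X.presheaf ⟨x, hxV⟩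
  haveI : IsLocalization.AtPrime (X.presheaf.stalk x) m := hV.isLocalization_stalk ⟨x, hxV⟩
  haveI : Module.Flat Γ(X, V) (X.presheaf.stalk x) := IsLocalization.flat _ m.primeCompl
  letI : (pullback ρ (X.fromSpecStalk x)).Over (Spec (CommRingCat.of (X.presheaf.stalk x))) :=
    ⟨pullback.snd ρ (X.fromSpecStalk x)⟩
  obtain ⟨e⟩ := nonempty_H1_baseChange ρ hV (X.presheaf.stalk x) (pullback ρ (X.fromSpecStalk x))
    (pullback.fst ρ (X.fromSpecStalk x)) (by
      rw [show Spec.map (CommRingCat.ofHom (algebraMap Γ(X, V) (X.presheaf.stalk x))) ≫ hV.fromSpec =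
        X.fromSpecStalk x from hV.fromSpecStalk_eq_fromSpecStalk hxV]
      exact IsPullback.of_hasPullback ρ (X.fromSpecStalk x))
  have hs1 : Subsingleton (X.presheaf.stalk x ⊗[Γ(X, V)] M) :=
    haveI := h0
    e.toEquiv.subsingleton
  let eL : Localization m.primeCompl ⊗[Γ(X, V)] M ≃ₗ[Γ(X, V)] X.presheaf.stalk x ⊗[Γ(X, V)] M :=
    (IsLocalization.algEquiv m.primeCompl (Localization m.primeCompl)
      (X.presheaf.stalk x)).toLinearEquiv.rTensor M
  have hs2 : Subsingleton (Localization m.primeCompl ⊗[Γ(X, V)] M) := @Equiv.subsingleton _ _ eL.toEquiv hs1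
  have hloc : Subsingleton (LocalizedModule m.primeCompl M) :=
    @Equiv.subsingleton _ _ (LocalizedModule.equivTensorProduct m.primeCompl M).toEquiv hs2
  rw [LocalizedModule.subsingleton_iff] at hloc
  obtain ⟨S, hS⟩ := Module.Finite.fg_top (R := Γ(X, V)) (M := M)
  choose r hr hrm using hloc
  letI : DecidableEq M := Classical.decEq _
  let s : Γ(X, V) := ∏ v ∈ S, r v
  have hs : s ∉ m := m.primeCompl.prod_mem fun v _ => hr v
  have hann : ∀ v : M, s • v = 0 := by
    intro v
    have hv : v ∈ Submodule.span Γ(X, V) (S : Set M) := hS ▸ trivial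
    induction hv using Submodule.span_induction with
    | mem w hw =>
      rw [show s = (∏ u ∈ S.erase w, r u) * r w from (Finset.prod_erase_mul _ _ hw).symm,
        mul_smul, hrm, smul_zero]
    | zero => exact smul_zero _
    | add a b _ _ ha hb => rw [smul_add, ha, hb, add_zero]
    | smul c a _ ha => rw [smul_comm, ha, smul_zero]
  refine ⟨X.basicOpen s, ?_, fun W hW hWs => ?_⟩
  · rw [X.mem_basicOpen s x hxV]
    exact IsLocalization.map_units (X.presheaf.stalk x) (⟨s, hs⟩ : m.primeCompl)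
  · have hWV : W ≤ V := hWs.trans (X.basicOpen_le s)
    let φ := (X.presheaf.map (homOfLE hWV).op)
    letI : Algebra Γ(X, V) Γ(X, W) := φ.hom.toAlgebra
    haveI : Module.Flat Γ(X, V) Γ(X, W) := by
      refine RingHom.flat_algebraMap_iff.mp ?_
      have h := HasRingHomProperty.appLE @Flat (𝟙 X) inferInstance ⟨V, hV⟩ ⟨W, hW⟩ hWV
      simp only [Scheme.Hom.appLE, Scheme.Hom.id_app, Category.id_comp] at h
      exact h
    have hu : IsUnit (algebraMap Γ(X, V) Γ(X, W) s) := by
      have h1 := RingedSpace.isUnit_res_basicOpen X.toRingedSpace s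
      have h2 := h1.map (X.presheaf.map (homOfLE hWs).op).hom
      exact (congrArg (fun t : Γ(X, V) ⟶ Γ(X, W) => IsUnit (t s))
        (X.presheaf.map_comp (homOfLE (X.basicOpen_le s)).op (homOfLE hWs).op)).mpr h2
    letI : (ρ ⁻¹ᵁ W : Scheme.{u}).Over (Spec (CommRingCat.of Γ(X, W))) := overAff ρ hW
    haveI : IsAffine (W : Scheme.{u}) := hW
    obtain ⟨eW⟩ := nonempty_H1_baseChange ρ hV Γ(X, W) (ρ ⁻¹ᵁ W : Scheme.{u}) (ρ ⁻¹ᵁ W).ι (by
      rw [show Spec.map (CommRingCat.ofHom (algebraMap Γ(X, V) Γ(X, W))) ≫ hV.fromSpec = hW.fromSpec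
        from hV.map_fromSpec hW (homOfLE hWV).op]
      exact (isPullback_morphismRestrict ρ W).flip.of_iso (Iso.refl _) (Iso.refl _) hW.isoSpec (Iso.refl _)
        (by simp) (Category.id_comp _).symm (by simp)
        (by rw [← hW.isoSpec_inv_ι, Iso.hom_inv_id_assoc]; simp))
    haveI : Subsingleton (Γ(X, W) ⊗[Γ(X, V)] M) := by
      refine subsingleton_of_forall_eq 0 fun z => ?_
      induction z using TensorProduct.induction_on with
      | zero => rfl
      | tmul b v =>
        obtain ⟨c, hc⟩ := hu.exists_left_inv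
        calc b ⊗ₜ[Γ(X, V)] v = (b * (c * algebraMap Γ(X, V) Γ(X, W) s)) ⊗ₜ v := by rw [hc, mul_one]
          _ = (s • (b * c)) ⊗ₜ v := by rw [Algebra.smul_def]; ring_nf
          _ = (b * c) ⊗ₜ (s • v) := TensorProduct.smul_tmul _ _ _
          _ = 0 := by rw [hann, TensorProduct.tmul_zero]
      | add a c ha hc => rw [ha, hc, add_zero]
    haveI : Subsingleton (Coh.HH (ρ ⁻¹ᵁ W : Scheme.{u}) (Coh.structureModule _) 1) :=
      eW.symm.toEquiv.subsingleton
    let ε : (Coh.structureModule X').restrict (ρ ⁻¹ᵁ W).ι ≅ Coh.structureModule (ρ ⁻¹ᵁ W : Scheme.{u}) :=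
      (Scheme.Modules.restrictFunctorIsoPullback (ρ ⁻¹ᵁ W).ι).app _ ≪≫
        PicLoc.pullbackStructureIso (ρ ⁻¹ᵁ W).ι
    haveI : Subsingleton (Coh.HH _ ((Coh.structureModule X').restrict (ρ ⁻¹ᵁ W).ι) 1) :=
      (Curves.LES.isoK Γ(X, W) ε 1).toEquiv.subsingleton
    have := (ZarCoh.Morph.openEquiv (ρ ⁻¹ᵁ W).ι (Coh.structureModule X') 1).symm.toEquiv.subsingleton
    rwa [Scheme.Hom.image_top_eq_opensRange, Scheme.Opens.opensRange_ι] at this

/-- The fibre product with a local scheme of a proper birational morphism of normal integral schemes. -/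
theorem localScheme_props [IsIntegral X] [IsIntegral X'] (hn' : Pi1.IsNormalScheme X')
    (hgen : ρ (genericPoint X') = genericPoint X) (U : X.Opens) (hU : (U : Set X).Nonempty)
    [IsIso (ρ ∣_ U)] (x : X) :
    IsIntegral (pullback ρ (X.fromSpecStalk x)) ∧
      Pi1.IsNormalScheme (pullback ρ (X.fromSpecStalk x)) ∧
      ∃ U' : (Spec (X.presheaf.stalk x)).Opens, (U' : Set (Spec (X.presheaf.stalk x))).Nonempty ∧
        IsIso (pullback.snd ρ (X.fromSpecStalk x) ∣_ U') := by
  set P := pullback ρ (X.fromSpecStalk x)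
  let a : P ⟶ X' := pullback.fst ρ (X.fromSpecStalk x)
  have hsq := IsPullback.of_hasPullback ρ (X.fromSpecStalk x)
  haveI : IsPreimmersion a := MorphismProperty.of_isPullback hsq.flip inferInstance
  haveI : Flat a := MorphismProperty.of_isPullback hsq.flip (Unram.BaseChangeNhd.flat_fromSpecStalk x)
  have hbij : ∀ z : P, Function.Bijective (a.stalkMap z).hom := fun z => by
    letI := (a.stalkMap z).hom.toAlgebra
    haveI : Module.Flat (X'.presheaf.stalk (a z)) (P.presheaf.stalk z) :=
      RingHom.flat_algebraMap_iff.mp (Flat.stalkMap a z)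
    haveI : IsLocalHom (algebraMap (X'.presheaf.stalk (a z)) (P.presheaf.stalk z)) :=
      inferInstanceAs (IsLocalHom (a.stalkMap z).hom)
    haveI := Module.FaithfullyFlat.of_flat_of_isLocalHom (A := X'.presheaf.stalk (a z))
      (B := P.presheaf.stalk z)
    exact ⟨FaithfulSMul.algebraMap_injective (X'.presheaf.stalk (a z)) (P.presheaf.stalk z),
      a.stalkMap_surjective z⟩
  let e : ∀ z : P, X'.presheaf.stalk (a z) ≃+* P.presheaf.stalk z := fun z =>
    RingEquiv.ofBijective _ (hbij z)
  have hnorm : Pi1.IsNormalScheme P := fun z => by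
    haveI := (hn' (a z)).1
    haveI := (hn' (a z)).2
    haveI : IsDomain (P.presheaf.stalk z) := (e z).toMulEquiv.isDomain_iff.mp inferInstance
    exact ⟨inferInstance, IsIntegrallyClosed.of_equiv (e z)⟩
  have hgr : genericPoint X' ∈ Set.range a := by
    rw [Scheme.Pullback.range_fst]
    show ρ (genericPoint X') ∈ Set.range (X.fromSpecStalk x)
    rw [hgen, Scheme.range_fromSpecStalk]
    exact genericPoint_specializes x
  obtain ⟨η, hη⟩ := hgr
  haveI : IrreducibleSpace P := by
    rw [irreducibleSpace_def]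
    have h : IsGenericPoint η (Set.univ : Set P) := by
      rw [IsGenericPoint, Set.eq_univ_iff_forall]
      intro z
      rw [← specializes_iff_mem_closure, ← a.isEmbedding.isInducing.specializes_iff, hη]
      exact genericPoint_specializes _
    exact h.isIrreducible
  haveI : ∀ z : P, _root_.IsReduced (P.presheaf.stalk z) := fun z => by
    haveI := (hnorm z).1
    infer_instance
  haveI : AlgebraicGeometry.IsReduced P := isReduced_of_isReduced_stalk P
  refine ⟨isIntegral_of_irreducibleSpace_of_isReduced P, hnorm,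
    (X.fromSpecStalk x) ⁻¹ᵁ U, ?_, ModPair.isIso_restrict_of_isPullback hsq U le_rfl⟩
  have hmem : genericPoint X ∈ Set.range (X.fromSpecStalk x) := by
    rw [Scheme.range_fromSpecStalk]; exact genericPoint_specializes x
  obtain ⟨p, hp⟩ := hmem
  refine ⟨p, ?_⟩
  show X.fromSpecStalk x p ∈ U
  rw [hp]
  exact (genericPoint_specializes hU.some).mem_open U.2 hU.some_mem

set_option backward.isDefEq.respectTransparency.types false in
/-- Generic behaviour of a birational morphism. -/
theorem gen_props [IsIntegral X] [IsIntegral X'] (U : X.Opens) (hU : (U : Set X).Nonempty)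
    [IsIso (ρ ∣_ U)] :
    ρ (genericPoint X') = genericPoint X ∧ IsIso (ρ.stalkMap (genericPoint X')) := by
  have hηU : genericPoint X ∈ U := (genericPoint_specializes hU.some).mem_open U.2 hU.some_mem
  obtain ⟨⟨x, hxU⟩, hx⟩ : ∃ a : (ρ ⁻¹ᵁ U : X'.Opens), (ρ ∣_ U) a = (⟨genericPoint X, hηU⟩ : U) :=
    (ρ ∣_ U).surjective _
  have hρx : ρ x = genericPoint X := by
    have h1 := congrArg (fun a => U.ι a) hx
    have h0 : ((ρ ∣_ U) ≫ U.ι) ⟨x, hxU⟩ = ((ρ ⁻¹ᵁ U).ι ≫ ρ) ⟨x, hxU⟩ := by rw [morphismRestrict_ι]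
    exact h0.symm.trans h1
  have hgen : ρ (genericPoint X') = genericPoint X := by
    have h1 : ρ (genericPoint X') ⤳ ρ x := (genericPoint_specializes x).map ρ.continuous
    rw [hρx] at h1
    exact (h1.antisymm (genericPoint_specializes _)).eq
  have hgU : genericPoint X' ∈ ρ ⁻¹ᵁ U := by show ρ (genericPoint X') ∈ U; rw [hgen]; exact hηU
  exact ⟨hgen,
    ((MorphismProperty.isomorphisms CommRingCat).arrow_mk_iso_iff (morphismRestrictStalkMap ρ U ⟨_, hgU⟩)).1
      (show IsIso ((ρ ∣_ U).stalkMap ⟨_, hgU⟩) by infer_instance)⟩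

end Localise

end Groth.Agent.S15137

namespace Groth.Agent.S15137

open Groth.Agent.Lib Opposite TopologicalSpace

/-- Let R be a discrete valuation ring whose fraction field K has characteristic zero, let C be a proper
K-curve, smooth of relative dimension 1 and geometrically connected over K, and let X be a model of
C over R (flat and of finite type over R with generic fibre C) which is proper over R and normal, so
that X is a proper relative curve over R; assume X has rational singularities: the local ring of X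
at every closed point defines a rational singularity (every proper morphism onto its spectrum from
an integral normal scheme which is an isomorphism over a nonempty open has H^1 of the structure
sheaf zero). Let ρ : X' → X be a proper morphism over R from an integral normal scheme X' which is
an isomorphism over some nonempty open of X (a proper birational morphism). Then the first higher
direct image R^1ρ_*O_{X'} (of abelian sheaves) vanishes, the map H^1(X, O_X) → H^1(X, ρ_*O_{X'})
induced by the canonical map O_X → ρ_*O_{X'} is bijective, and consequently the R-modules H^1(X,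
O_X) and H^1(X', O_{X'}) are isomorphic (the published statement asserts that the canonical pullback
map is an isomorphism; this row records the existence of an R-linear isomorphism only). -/
theorem result (R : Type u) [CommRing R]
    [IsDomain R] [IsDiscreteValuationRing R] [CharZero (FractionRing R)]
    (X C : Scheme.{u}) [X.Over (Spec (CommRingCat.of R))]
    (f : C ⟶ Spec (CommRingCat.of (FractionRing R)))
    [SmoothOfRelativeDimension 1 f] [IsProper f] [GeometricallyConnected f]
    (hX : Models.IsModel R X (X ↘ Spec (CommRingCat.of R)) C f)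
    [IsProper (X ↘ Spec (CommRingCat.of R))] (hn : Pi1.IsNormalScheme X)
    (hrat : ∀ x : X, IsClosed ({x} : Set X) → Curv2.IsRationalSing (X.presheaf.stalk x))
    (X' : Scheme.{u}) [X'.Over (Spec (CommRingCat.of R))] (ρ : X' ⟶ X) [IsProper ρ]
    (hρ : ρ ≫ (X ↘ Spec (CommRingCat.of R)) = X' ↘ Spec (CommRingCat.of R))
    [IsIntegral X'] (hn' : Pi1.IsNormalScheme X')
    (hbir : ∃ U : X.Opens, (U : Set X).Nonempty ∧ IsIso (ρ ∣_ U)) :
    IsZero ((Coh.RpushAb ρ 1).obj (Coh.toAb (Coh.structureModule X'))) ∧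
      Function.Bijective (Sheaf.H.map ((SheafOfModules.toSheaf X.ringCatSheaf).map (ClSub.unitToPush ρ)) 1) ∧
      Nonempty (Coh.HH X (Coh.structureModule X) 1 ≃ₗ[R] Coh.HH X' (Coh.structureModule X') 1) := by
  obtain ⟨hflat, -, -, g, hg⟩ := hX
  haveI := hflat
  haveI : Smooth f := SmoothOfRelativeDimension.smooth 1 f
  haveI : ConnectedSpace C := by
    haveI : Subsingleton (Spec (CommRingCat.of (FractionRing R))) :=
      inferInstanceAs (Subsingleton (PrimeSpectrum (FractionRing R)))
    haveI : Nonempty (Spec (CommRingCat.of (FractionRing R))) :=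
      inferInstanceAs (Nonempty (PrimeSpectrum (FractionRing R)))
    exact GeometricallyConnected.connectedSpace_of_subsingleton f
  haveI : IsIntegral C := RG.GeomComp.isIntegral_of_smooth_connected f
  haveI : IsIntegral X := ModelFibre.SmoothModel.isIntegral (X ↘ Spec (CommRingCat.of R)) f g hg
  haveI : IsLocallyNoetherian X := LocallyOfFiniteType.isLocallyNoetherian (X ↘ Spec (CommRingCat.of R))
  haveI : CompactSpace X := QuasiCompact.compactSpace_of_compactSpace (X ↘ Spec (CommRingCat.of R))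
  obtain ⟨U, hU, hiso⟩ := hbir
  haveI := hiso
  obtain ⟨hgen, hst⟩ := gen_props ρ U hU
  have happ := Groth.Agent.H34.Stein.isIso_app_of_birational ρ hn hgen hst
  haveI : IsIso (ClSub.unitToPush ρ) := by
    rw [Scheme.Modules.Hom.isIso_iff_isIso_app]
    intro W
    rw [ConcreteCategory.isIso_iff_bijective]
    haveI := happ W
    exact ConcreteCategory.bijective_of_isIso (ρ.app W)
  -- a basis over which `H¹` vanishes
  let B : Set X.Opens := {W | Subsingleton
    (CohTop.HU (Coh.toAb (Coh.structureModule X')) 1 ((Opens.map ρ.base).obj W))}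
  have hB : Opens.IsBasis B := by
    refine Opens.isBasis_iff_nbhd.2 fun {O y} hy => ?_
    obtain ⟨x₀, hx₀, hx₀c⟩ := (isClosed_closure (s := ({y} : Set X))).exists_closed_singleton
      ⟨y, subset_closure rfl⟩
    obtain ⟨V, hV, hxV, -⟩ := exists_isAffineOpen_mem_and_subset (U := (⊤ : X.Opens)) (x := x₀) trivial
    obtain ⟨hint, hnP, hbP⟩ := localScheme_props ρ hn' hgen U hU x₀
    obtain ⟨V', hxV', hvan⟩ := exists_nhd_vanish ρ hV hxV
      (hrat x₀ hx₀c (pullback ρ (X.fromSpecStalk x₀)) (pullback.snd _ _)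
        (MorphismProperty.of_isPullback (IsPullback.of_hasPullback ρ (X.fromSpecStalk x₀)) inferInstance)
        hint hnP hbP)
    have hyV' : y ∈ V' := (specializes_iff_mem_closure.mpr hx₀).mem_open V'.2 hxV'
    obtain ⟨W, hW, hyW, hWle⟩ := exists_isAffineOpen_mem_and_subset (U := O ⊓ V') (x := y) ⟨hy, hyV'⟩
    exact ⟨W, hvan W hW fun z hz => (hWle hz).2, hyW, fun z hz => (hWle hz).1⟩
  have hH := ((ZarCoh.Push.bijective_and_injective (f := ρ.base) (⊤ : X.Opens) hB 1
    (Coh.toAb (Coh.structureModule X'))) fun W hW q hq => by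
      obtain rfl : q = 0 := by omega
      exact hW).1
  refine ⟨ZarCoh.RpushVanish.isZero_RpushAb ρ.base hB 0 fun W hW => hW,
    (Curves.LES.isoK R (asIso (ClSub.unitToPush ρ)) 1).bijective, ⟨?_⟩⟩
  let e₂ : Coh.HH X ((Coh.push ρ).obj (Coh.structureModule X')) 1 ≃ₗ[R] Coh.HH X' (Coh.structureModule X') 1 :=
    { AddEquiv.ofBijective (ZarCoh.PushH.pushH ρ.base (Coh.toAb (Coh.structureModule X')) 1)
        (ZarCoh.PushH.pushH_bijective_of ρ.base (Coh.toAb (Coh.structureModule X')) 1 hH) with
      map_smul' := fun c z =>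
        ZarCoh.Morph.pushH_smul ρ (Coh.structureModule X') 1 _ _ (ZarCoh.Linear.toGlobal_comp ρ hρ c) z }
  exact (Curves.LES.isoK R (asIso (ClSub.unitToPush ρ)) 1).trans e₂

end Groth.Agent.S15137
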