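import Groth.Statements.S0037
import Groth.Agent.Lib.CohDelta.AbR
import Groth.Agent.Lib.ZarCoh.Morph
import Mathlib.AlgebraicGeometry.ZariskisMainTheorem
-- import your own Groth.Agent.* helpers here

set_option autoImplicit false
universe u
open Coherent

namespace Groth.Agent.S0037

open AlgebraicGeometry CategoryTheory CategoryTheory.Limits TopologicalSpace Opposite in
open Groth.Agent.Lib.ZarCoh.Basic Groth.Agent.Lib.CohDelta in
theorem isZero_stalk_of_affine {X Y : Scheme.{u}} (f : X ⟶ Y) [QuasiCompact f] [QuasiSeparated f]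
    (V₀ : Y.Opens) [IsAffineHom (f ∣_ V₀)] {y : Y} (hy : y ∈ V₀) (M : X.Modules) (hM : M.IsQuasicoherent)
    (p : ℕ) :
    IsZero (TopCat.Presheaf.stalk ((Coh.RpushAb f (p + 1)).obj (Coh.toAb M)).obj y) := by
  haveI := Sect.enoughInjectives (X := X)
  let I := InjectiveResolution.of M
  haveI : (Syzygy.Z I 0).IsQuasicoherent :=
    ObjectProperty.prop_of_iso (SheafOfModules.isQuasicoherent (R := X.ringCatSheaf)) (Syzygy.augIso I) hM
  have hz : ∀ W : Y.Opens, IsAffineOpen W → W ≤ V₀ →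
      Subsingleton Γ(Syzygy.R I f p, W) := by
    intro W hW hWV
    have he : V₀.ι ''ᵁ (V₀.ι ⁻¹ᵁ W) = W := by
      rw [Scheme.Hom.image_preimage_eq_opensRange_inf, Scheme.Opens.opensRange_ι,
        inf_eq_right.mpr hWV]
    have h1 : IsAffineOpen (V₀.ι ⁻¹ᵁ W) :=
      V₀.ι.isAffineOpen_iff_of_isOpenImmersion.mp (he.symm ▸ hW)
    have h2 : IsAffineOpen (f ⁻¹ᵁ W) := by
      have h3 := (h1.preimage (f ∣_ V₀)).image_of_isOpenImmersion (f ⁻¹ᵁ V₀).ι
      rwa [image_morphismRestrict_preimage, he] at h3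
    haveI : Subsingleton (Abelian.Ext.{u} (Zs.obj (f ⁻¹ᵁ W)) (Coh.toAb (Syzygy.Z I 0)) (p + 1)) :=
      Groth.Agent.Lib.ZarCoh.Affine.HU_subsingleton (Syzygy.Z I 0) h2 p
    exact (QCohR.e_bijective f I p hW).2.subsingleton
  obtain ⟨i⟩ := AbR.nonempty_rpushAb_iso f I p
  let Φ := (sheafToPresheaf (Opens.grothendieckTopology ↥Y) AddCommGrpCat.{u}) ⋙ TopCat.Presheaf.stalkFunctor AddCommGrpCat.{u} y
  refine IsZero.of_iso ?_ (Φ.mapIso i)
  haveI : Subsingleton (Φ.obj (Coh.toAb (Syzygy.R I f p))) := by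
    refine subsingleton_of_forall_eq 0 fun t => ?_
    obtain ⟨U, hU, s, rfl⟩ := TopCat.Presheaf.exists_germ_eq (Coh.toAb (Syzygy.R I f p)).obj t
    obtain ⟨W, hW, hyW, hWU⟩ := exists_isAffineOpen_mem_and_subset (U := U ⊓ V₀) (x := y) ⟨hU, hy⟩
    rw [← TopCat.Presheaf.germ_res_apply (Coh.toAb (Syzygy.R I f p)).obj
      (homOfLE (hWU.trans inf_le_left)) y hyW s]
    haveI := hz W hW (hWU.trans inf_le_right)
    exact (congrArg _ (Subsingleton.elim (α := Γ(Syzygy.R I f p, W)) _ 0)).trans (map_zero _)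
  exact AddCommGrpCat.isZero_of_subsingleton _

open AlgebraicGeometry CategoryTheory in
/-- Let Y be locally Noetherian, f : X → Y proper and y a point whose fibre f⁻¹{y} is finite. Then for
every coherent F on X and every p > 0 the stalk of R^p f_* F at y vanishes. -/
theorem result {X Y : Scheme.{u}} (f : X ⟶ Y) [IsProper f]
    [IsLocallyNoetherian Y] (y : Y) (hy : (f.base ⁻¹' {y}).Finite) (M : X.Modules) (hM : Coh.IsCoh M)
    (p : ℕ) (hp : 0 < p) :
    Limits.IsZero (TopCat.Presheaf.stalk ((Coh.RpushAb f p).obj (Coh.toAb M)).obj y) := by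
  obtain ⟨p, rfl⟩ := Nat.exists_eq_succ_of_ne_zero hp.ne'
  obtain ⟨V, hyV, hV⟩ := exists_isFinite_morphismRestrict_of_finite_preimage_singleton (f := f) y hy
  haveI := hV
  exact isZero_stalk_of_affine f V hyV M hM.1 p

end Groth.Agent.S0037
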