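import Groth.Statements.S7338
import Groth.Agent.Lib.Amp36.Modif.LerayLow
import Groth.Agent.Lib.Amp36.Modif.Birat
import Groth.Agent.Lib.Amp36.ModifVanish
import Groth.Agent.H34.DefAmple
import Groth.Agent.H34.Stein.NormalBase
import Groth.Agent.S0036
import Groth.Agent.S0037
import Groth.Agent.Lib.ModPair.Coprod

set_option autoImplicit false
universe u
open CategoryTheory CategoryTheory.Limits AlgebraicGeometry
open Resolve

namespace Groth.Agent.S7338

open Groth.Agent.Lib in
/-- Vanishing of the stalks over points with finite fibre. -/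
theorem subsingleton_stalk {X' X : Scheme.{u}} (g : X' ⟶ X) [IsProper g] [IsLocallyNoetherian X]
    [HasInjectiveResolutions X'.Modules] {x : X} (hx : (g.base ⁻¹' {x}).Finite) :
    Subsingleton (((Coh.Rpush g 1).obj (Coh.structureModule X')).presheaf.stalk x) := by
  let I := injectiveResolution (Coh.structureModule X')
  obtain ⟨i⟩ := CohDelta.AbR.nonempty_rpushAb_iso g I 0
  obtain ⟨e⟩ := CohDelta.Syzygy.nonempty_rightDerived_iso I g 0
  have hz := Groth.Agent.S0037.result g x hx _ (Snapper.Twist.isCoh_structureModule X') 1 one_pos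
  let F := TopCat.Presheaf.stalkFunctor AddCommGrpCat.{u} (X := X.toTopCat) x
  have h1 : IsZero (F.obj (Coh.toAb (CohDelta.Syzygy.R I g 0)).obj) :=
    hz.of_iso (F.mapIso ((sheafToPresheaf _ _).mapIso i.symm))
  have h2 : IsZero (F.obj (Coh.toAb ((Coh.Rpush g 1).obj (Coh.structureModule X'))).obj) :=
    h1.of_iso (F.mapIso ((sheafToPresheaf _ _).mapIso ((SheafOfModules.toSheaf X.ringCatSheaf).mapIso e)))
  exact AddCommGrpCat.subsingleton_of_isZero h2

/-- Let (A, m) be a Noetherian normal local domain of dimension two, and X, X' integral schemes proper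
over Spec A, each an isomorphism over some nonempty open of Spec A (modifications), with X normal,
and g : X' → X a morphism over Spec A. Then R^1 g_* O_{X'} is generated by global sections and its
support is a finite set of closed points of X, and there is a short exact sequence 0 → H^1(X, O_X) →
H^1(X', O_{X'}) → H^0(X, R^1 g_* O_{X'}) → 0, recorded here as the additivity of A-lengths. (R^1 g_*
is the right derived functor of g_* on O-modules; that O_{X'}-modules have injective resolutions is
carried as an instance hypothesis.) -/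
theorem result (A : Type u) [CommRing A] [IsDomain A] [IsLocalRing A] [IsNoetherianRing A]
    [IsIntegrallyClosed A] (hdim : ringKrullDim A = 2)
    (X X' : Scheme.{u}) [X.Over (Spec (CommRingCat.of A))] [X'.Over (Spec (CommRingCat.of A))]
    [IsProper (X ↘ Spec (CommRingCat.of A))] [IsProper (X' ↘ Spec (CommRingCat.of A))] [IsIntegral X] [IsIntegral X']
    (hX : ∃ U : (Spec (CommRingCat.of A)).Opens, (U : Set (Spec (CommRingCat.of A))).Nonempty ∧ IsIso ((X ↘ Spec (CommRingCat.of A)) ∣_ U))
    (hX' : ∃ U : (Spec (CommRingCat.of A)).Opens, (U : Set (Spec (CommRingCat.of A))).Nonempty ∧ IsIso ((X' ↘ Spec (CommRingCat.of A)) ∣_ U))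
    (hXn : Pi1.IsNormalScheme X) (g : X' ⟶ X) (hg : g ≫ (X ↘ Spec (CommRingCat.of A)) = X' ↘ Spec (CommRingCat.of A))
    [HasInjectiveResolutions X'.Modules] :
    Curv2.IsGloballyGenerated ((Coh.Rpush g 1).obj (Coh.structureModule X')) ∧
      {x : X | Nontrivial (((Coh.Rpush g 1).obj (Coh.structureModule X')).presheaf.stalk x)}.Finite ∧
      (∀ x : X, Nontrivial (((Coh.Rpush g 1).obj (Coh.structureModule X')).presheaf.stalk x) → IsClosed ({x} : Set X)) ∧
      Module.length A (Coh.HH X' (Coh.structureModule X') 1) =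
        Module.length A (Coh.HH X (Coh.structureModule X) 1) +
          Module.length A (Coh.HH X ((Coh.Rpush g 1).obj (Coh.structureModule X')) 0) := by
  obtain ⟨U, hUne, hUX⟩ := hX
  obtain ⟨U', hU'ne, hUX'⟩ := hX'
  let f := X ↘ Spec (CommRingCat.of A)
  let f' := X' ↘ Spec (CommRingCat.of A)
  haveI : IsIso (f ∣_ U) := hUX
  haveI : IsIso (f' ∣_ U') := hUX'
  haveI : IsProper (g ≫ f) := by rw [show g ≫ f = f' from hg]; infer_instance
  haveI : IsProper g := IsProper.of_comp g f
  haveI : IsLocallyNoetherian X := LocallyOfFiniteType.isLocallyNoetherian f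
  haveI : CompactSpace X := QuasiCompact.compactSpace_of_compactSpace f
  haveI : IsNoetherian X := { }
  have hY : topologicalKrullDim (Spec (CommRingCat.of A)) ≤ ((2 : ℕ) : WithBot ℕ∞) :=
    ((PrimeSpectrum.topologicalKrullDim_eq_ringKrullDim A).trans hdim).le
  have hd1 := fun y => Groth.Agent.Lib.Amp36.ModifVanish.fiber_dim_le_one_spec A f hdim ⟨U, hUne, hUX⟩ y
  -- a common open
  let V := U ⊓ U'
  have hV : (V : Set (Spec (CommRingCat.of A))).Nonempty := by
    haveI : IrreducibleSpace (Spec (CommRingCat.of A)) := inferInstance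
    exact nonempty_preirreducible_inter U.2 U'.2 hUne hU'ne
  haveI hfV : IsIso (f ∣_ V) := Groth.Agent.Lib.ModPair.isIso_restrict_of_le f inf_le_left
  haveI hf'V : IsIso (f' ∣_ V) := Groth.Agent.Lib.ModPair.isIso_restrict_of_le f' inf_le_right
  haveI hgV : IsIso (g ∣_ (f ⁻¹ᵁ V)) :=
    Groth.Agent.Lib.Amp36.Modif.Birat.isIso_restrict f' V g f hg
  have hW : ((f ⁻¹ᵁ V : X.Opens) : Set X).Nonempty := by
    obtain ⟨b, hb⟩ := hV
    obtain ⟨a, ha⟩ := Groth.Agent.Lib.Amp36.Modif.Birat.exists_apply_eq f V hb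
    exact ⟨a, show f a ∈ V by rw [ha]; exact hb⟩
  have h2 : ∀ x : X, ringKrullDim (X.presheaf.stalk x) ≤ ((2 : ℕ) : WithBot ℕ∞) :=
    Groth.Agent.Lib.Amp36.Modif.Birat.ringKrullDim_stalk_le f V hV 2 hY
  let R := (Coh.Rpush g 1).obj (Coh.structureModule X')
  have hR : ∀ x : X, ¬ IsClosed ({x} : Set X) → Subsingleton (R.presheaf.stalk x) := fun x hx =>
    subsingleton_stalk g (Groth.Agent.Lib.Amp36.Modif.Birat.subsingleton_fibre g (f ⁻¹ᵁ V) hW hXn h2 hx).finite
  have hclosed : ∀ x : X, Nontrivial (R.presheaf.stalk x) → IsClosed ({x} : Set X) := fun x hx => by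
    by_contra h
    exact not_nontrivial_iff_subsingleton.2 (hR x h) hx
  have hfin : {x : X | Nontrivial (R.presheaf.stalk x)}.Finite := by
    haveI := (Groth.Agent.S0036.result g _ (Groth.Agent.Lib.Snapper.Twist.isCoh_structureModule X') 1).2
    have hS : IsClosed {x : X | Nontrivial (R.presheaf.stalk x)} := by
      have h := Groth.Agent.Lib.Modules.Support.isClosed_support R
      convert h using 1
      ext x
      exact not_subsingleton_iff_nontrivial.symm
    obtain ⟨S, hSf, hSc, hSi, hSu⟩ :=
      TopologicalSpace.NoetherianSpace.exists_finite_set_isClosed_irreducible hS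
    have hsub : ∀ T ∈ S, T.Subsingleton := fun T hT => by
      obtain ⟨t, ht⟩ := QuasiSober.sober (hSi T hT) (hSc T hT)
      have htS : t ∈ {x : X | Nontrivial (R.presheaf.stalk x)} := by
        rw [hSu]; exact ⟨T, hT, ht.mem⟩
      rw [← ht.def, (hclosed t htS).closure_eq]
      exact Set.subsingleton_singleton
    rw [hSu]
    exact hSf.sUnion fun T hT => (hsub T hT).finite
  refine ⟨Groth.Agent.H34.DefAmple.gg_of_torsion hR, hfin, hclosed, ?_⟩
  -- the direct image of the structure sheaf
  let φ : Coh.structureModule X ⟶ (Coh.push g).obj (Coh.structureModule X') :=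
    Groth.Agent.Lib.Modules.Free.unitHom ((Coh.push g).obj (Coh.structureModule X')) (1 : Γ(X', ⊤))
  have hgη := Groth.Agent.Lib.Amp36.Modif.Birat.apply_genericPoint g (f ⁻¹ᵁ V) hW
  have hφ : ∀ (O : X.Opens) (a : Γ(X, O)), φ.app O a = g.app O a := fun O a => by
    refine (Groth.Agent.Lib.Modules.Free.unitHom_app _ _ O a).trans ?_
    change g.app O a * (X'.presheaf.map (homOfLE (le_top : g ⁻¹ᵁ O ≤ ⊤)).op) (1 : Γ(X', ⊤)) = _
    rw [map_one, mul_one]
  haveI : IsIso φ := (Groth.Agent.Lib.Modules.Stalk.isIso_iff_app_bijective φ).2 fun O => by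
    haveI := Groth.Agent.H34.Stein.isIso_app_of_birational g hXn hgη
      ((ConcreteCategory.isIso_iff_bijective _).2 (Groth.Agent.Lib.Amp36.Modif.Birat.stalkMap_bijective g (f ⁻¹ᵁ V)
        (Groth.Agent.Lib.Amp36.Modif.Birat.apply_genericPoint_mem g (f ⁻¹ᵁ V) hW))) O
    have h := ConcreteCategory.bijective_of_isIso (g.app O)
    rwa [show (φ.app O : _ → _) = g.app O from funext (hφ O)]
  haveI : (Coh.structureModule X).IsQuasicoherent :=
    (Groth.Agent.Lib.Snapper.Twist.isCoh_structureModule X).1
  have hH2 : Subsingleton (Coh.HH X ((Coh.push g).obj (Coh.structureModule X')) 2) :=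
    haveI := Groth.Agent.Lib.FibreVanish36.Affine.subsingleton_HH
      Groth.Agent.Lib.FibreVanish36.Coherent.cohVanish f 1 hd1 (Coh.structureModule X) 1 le_rfl
    (Groth.Agent.Lib.Curves.LES.isoK A (asIso φ) 2).symm.toEquiv.subsingleton
  rw [(Groth.Agent.Lib.Curves.LES.isoK A (asIso φ) 1).length_eq]
  exact Groth.Agent.Lib.Amp36.Modif.LerayLow.length_H1 A g hg (Coh.structureModule X') hH2

end Groth.Agent.S7338
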