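import Groth.Statements.S7330
import Groth.Agent.Lib.Amp36.Modif.Extend
import Groth.Agent.Lib.Amp36.Modif.R1Zero
import Groth.Agent.Lib.DvrCrit.EssFT
import Groth.Agent.S15137
import Groth.Agent.S7338
import Groth.Agent.S2351
import Groth.Agent.S2355
import Groth.Agent.S4415
import Groth.Agent.S4418
import Groth.Agent.S12416

set_option autoImplicit false
universe u
open CategoryTheory CategoryTheory.Limits AlgebraicGeometry
open Resolve

namespace Groth.Agent.S7330

open Groth.Agent.Lib Groth.Agent.S1649 TopologicalSpace Opposite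
open scoped TensorProduct

/-- A globally generated module without global sections has zero stalks. -/
theorem subsingleton_stalk_of_gg {X : Scheme.{u}} (F : X.Modules) (hF : Curv2.IsGloballyGenerated F)
    (h0 : Subsingleton (Coh.HH X F 0)) (x : X) : Subsingleton (F.presheaf.stalk x) := by
  have hΓ : Subsingleton Γ(F, ⊤) := by
    refine @Function.Injective.subsingleton _ _ (fun s : Γ(F, ⊤) =>
      ((ZarCoh.Compare.hTop (Coh.toAb F) 0).symm (CategoryTheory.Abelian.Ext.mk₀
        ((ZarCoh.Basic.homEquiv ⊤ (Coh.toAb F)).symm s)) : CohTop.H (Coh.toAb F) 0)) ?_ h0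
    intro a b h
    exact (ZarCoh.Basic.homEquiv ⊤ (Coh.toAb F)).symm.injective
      ((CategoryTheory.Abelian.Ext.mk₀_bijective _ _).1
        ((ZarCoh.Compare.hTop (Coh.toAb F) 0).symm.injective h))
  have hbot : Groth.Agent.H34.GlobGen.Gl F x = ⊥ := by
    rw [Groth.Agent.H34.GlobGen.Gl, Submodule.span_eq_bot]
    rintro _ ⟨m, rfl⟩
    simp [Subsingleton.elim m 0]
  refine subsingleton_of_forall_eq 0 fun y => ?_
  have hy : y ∈ Groth.Agent.H34.GlobGen.Gl F x := by
    rw [Groth.Agent.H34.GlobGen.gl_eq_top_of_gg hF x]; trivial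
  rwa [hbot, Submodule.mem_bot] at hy

/-- A normal modification of `Spec A`. -/
def IsMod (A : Type u) [CommRing A] (X : Scheme.{u}) (f : X ⟶ Spec (CommRingCat.of A)) : Prop :=
  IsProper f ∧ IsIntegral X ∧ Pi1.IsNormalScheme X ∧
    ∃ U : (Spec (CommRingCat.of A)).Opens,
      (U : Set (Spec (CommRingCat.of A))).Nonempty ∧ IsIso (f ∣_ U)

/-- The length of `H¹` of the structure sheaf. -/
noncomputable def h1 (A : Type u) [CommRing A] (X : Scheme.{u}) (f : X ⟶ Spec (CommRingCat.of A)) : ℕ∞ :=
  letI : X.Over (Spec (CommRingCat.of A)) := ⟨f⟩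
  Module.length A (Coh.HH X (Coh.structureModule X) 1)

section

variable {A : Type u} [CommRing A] [IsDomain A] [IsLocalRing A] [IsNoetherianRing A]
    [IsIntegrallyClosed A] (hN : CAlg.IsNagata A) (hdim : ringKrullDim A = 2)

include hdim in
/-- Along a morphism of modifications the length of `H¹` grows, strictly unless `R¹g_*O = 0`. -/
theorem le_and_vanish {X₀ X : Scheme.{u}} {f₀ : X₀ ⟶ Spec (CommRingCat.of A)}
    {f : X ⟶ Spec (CommRingCat.of A)} (h₀ : IsMod A X₀ f₀) (h : IsMod A X f) (g : X ⟶ X₀)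
    (hg : g ≫ f₀ = f) :
    h1 A X₀ f₀ ≤ h1 A X f ∧ (h1 A X f ≤ h1 A X₀ f₀ → h1 A X₀ f₀ ≠ ⊤ →
      ∀ x : X₀, Subsingleton (((Coh.Rpush g 1).obj (Coh.structureModule X)).presheaf.stalk x)) := by
  letI : X₀.Over (Spec (CommRingCat.of A)) := ⟨f₀⟩
  letI : X.Over (Spec (CommRingCat.of A)) := ⟨f⟩
  obtain ⟨hp₀, hi₀, hn₀, hb₀⟩ := h₀
  obtain ⟨hp, hi, -, hb⟩ := h
  haveI : IsProper (X₀ ↘ Spec (CommRingCat.of A)) := hp₀
  haveI : IsProper (X ↘ Spec (CommRingCat.of A)) := hp
  haveI := hi₀
  haveI := hi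
  obtain ⟨hgg, -, -, hlen⟩ := Groth.Agent.S7338.result A hdim X₀ X hb₀ hb hn₀ g hg
  refine ⟨le_self_add.trans hlen.symm.le, fun hle htop x => subsingleton_stalk_of_gg _ hgg ?_ x⟩
  refine (Module.length_eq_zero_iff (R := A)).1 (le_antisymm ?_ bot_le)
  refine (ENat.add_le_add_iff_left htop).1 ?_
  simp only [add_zero]
  exact hlen.symm.le.trans hle

include hN in
set_option backward.isDefEq.respectTransparency.types false in
/-- Every modification is dominated by a projective one. -/
theorem exists_projective {X₀ : Scheme.{u}} {f₀ : X₀ ⟶ Spec (CommRingCat.of A)} (h₀ : IsMod A X₀ f₀) :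
    ∃ (X : Scheme.{u}) (f : X ⟶ Spec (CommRingCat.of A)) (g : X ⟶ X₀),
      IsMod A X f ∧ RelProj.IsProjective f ∧ g ≫ f₀ = f := by
  obtain ⟨hp₀, hi₀, -, U₀, hU₀, hiso₀⟩ := h₀
  haveI := hp₀
  haveI := hi₀
  haveI := hiso₀
  haveI : IsLocallyNoetherian X₀ := LocallyOfFiniteType.isLocallyNoetherian f₀
  haveI : CompactSpace X₀ := QuasiCompact.compactSpace_of_compactSpace f₀
  obtain ⟨X', π, hqp, hπp, -, ⟨U, hUd, hUiso⟩, -, -, hint⟩ :=
    Groth.Agent.S4415.result f₀ (Or.inl inferInstance)
  haveI := hint inferInstance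
  haveI : IsProper π := (Groth.Agent.S4418.result π hπp).2
  haveI := hUiso
  have hU : (U : Set X₀).Nonempty := by
    obtain ⟨z, hz⟩ := hUd.nonempty
    exact ⟨π z, hz⟩
  obtain ⟨hπη, hπst⟩ := S15137.gen_props π U hU
  obtain ⟨hfη, hfst⟩ := S15137.gen_props f₀ U₀ hU₀
  let q := π ≫ f₀
  haveI : IsProper q := inferInstanceAs (IsProper (π ≫ f₀))
  have hqη : q (genericPoint X') = genericPoint (Spec (CommRingCat.of A)) := by
    rw [Scheme.Hom.comp_apply, hπη, hfη]
  haveI : IsLocallyNoetherian X' := LocallyOfFiniteType.isLocallyNoetherian q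
  haveI : CompactSpace X' := QuasiCompact.compactSpace_of_compactSpace q
  haveI : IsNoetherian X' := {}
  have : Subsingleton (Spec (X'.presheaf.stalk (genericPoint X'))) :=
    inferInstanceAs (Subsingleton (PrimeSpectrum X'.functionField))
  have : AlgebraicGeometry.IsIntegral (Spec X'.functionField) := inferInstance
  have : AlgebraicGeometry.IsReduced (Spec (X'.presheaf.stalk (genericPoint X'))) :=
    inferInstanceAs (AlgebraicGeometry.IsReduced (Spec X'.functionField))
  haveI : IsFinite (Curv2.normalizationι X') :=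
    Groth.Agent.S9674.result _ (Amp36.Modif.Extend.isNagata_sections hN q) (locallyFinite_of_finite _)
      fun y _ => RingHom.FiniteType.essFiniteType (RingHom.FiniteType.of_surjective _
        (residueFieldMap_surjective _ y ((X'.fromSpecStalk (genericPoint X')).stalkMap_surjective y)))
  obtain ⟨_, hn, _, hgen, hres⟩ := Groth.Agent.S2351.result X'
  let ν := Curv2.normalizationι X'
  haveI : QuasiCompact q := inferInstance
  have hνqa : Mor2.IsQuasiAffine ν := ⟨inferInstance, fun V hV =>
    haveI : IsAffine (ν ⁻¹ᵁ V : (Curv2.normalization X').Opens) := hV.preimage ν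
    inferInstance⟩
  obtain ⟨hqlft, -, L, hL⟩ := hqp
  have hproj : RelProj.IsProjective (ν ≫ q) :=
    Groth.Agent.S12416.result (ν ≫ q)
      ⟨inferInstance, inferInstance, _, Groth.Agent.S2355.result q ν hνqa L hL⟩
  refine ⟨Curv2.normalization X', ν ≫ q, ν ≫ π, ⟨inferInstance, inferInstance, hn, ?_⟩, hproj,
    Category.assoc _ _ _⟩
  refine Groth.Agent.H22.Birational12426.exists_isIso_open _ ?_ ?_
  · rw [Scheme.Hom.comp_apply]
    exact (congrArg q.base hgen).trans hqη
  · rw [Scheme.residueFieldMap_comp]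
    refine hres.comp (show Function.Bijective (q.residueFieldMap (ν (genericPoint _))).hom from ?_)
    have key : ∀ y : X', y = genericPoint X' → Function.Bijective (q.residueFieldMap y).hom := by
      rintro _ rfl
      refine ⟨(q.residueFieldMap _).hom.injective, residueFieldMap_surjective q _ ?_⟩
      show Function.Surjective ((π ≫ f₀).stalkMap (genericPoint X'))
      rw [Scheme.Hom.stalkMap_comp]
      haveI := hπst
      have hf' : Function.Surjective (f₀.stalkMap (π (genericPoint X'))) := by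
        rw [hπη]
        haveI := hfst
        exact (ConcreteCategory.bijective_of_isIso _).2
      exact ((ConcreteCategory.bijective_of_isIso (π.stalkMap (genericPoint X'))).2).comp hf'
    exact key _ hgen

include hN hdim in
set_option backward.isDefEq.respectTransparency.types false in
set_option maxHeartbeats 1000000 in
/-- The local rings of a modification with maximal `H¹` are rational singularities. -/
theorem isRationalSing_stalk {X : Scheme.{u}} {f : X ⟶ Spec (CommRingCat.of A)} (hX : IsMod A X f)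
    (htop : h1 A X f ≠ ⊤)
    (hmax : ∀ (Y : Scheme.{u}) (p : Y ⟶ Spec (CommRingCat.of A)), IsMod A Y p → h1 A Y p ≤ h1 A X f)
    (x : X) : Curv2.IsRationalSing (X.presheaf.stalk x) := by
  intro W fW hfW hint hW ⟨U, hU, hiso⟩
  obtain ⟨hp, hi, hn, V₀, hV₀, hiso₀⟩ := hX
  haveI := hfW
  haveI := hint
  haveI := hiso
  haveI := hp
  haveI := hi
  haveI := hiso₀
  haveI : IsLocallyNoetherian X := LocallyOfFiniteType.isLocallyNoetherian f
  let B := X.presheaf.stalk x
  let ψ : CommRingCat.of A ⟶ B := Spec.preimage (X.fromSpecStalk x ≫ f)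
  have hψ : Spec.map ψ = X.fromSpecStalk x ≫ f := Spec.map_preimage _
  letI : Algebra A B := ψ.hom.toAlgebra
  haveI : Algebra.EssFiniteType A B := by
    obtain ⟨V, φ, hVφ, hφ⟩ := DvrCrit.exists_essFiniteType_stalk f x
    let ιV : CommRingCat.of A ⟶ Γ(Spec (CommRingCat.of A), V.1) := Spec.preimage V.2.fromSpec
    have e : ψ = ιV ≫ φ := Spec.map_injective (by
      rw [Spec.map_comp, hψ]
      exact hVφ.symm.trans (congrArg (Spec.map φ ≫ ·) (Spec.map_preimage V.2.fromSpec).symm))
    have hι : ιV.hom.FiniteType := by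
      refine (HasRingHomProperty.Spec_iff (P := @LocallyOfFiniteType)).1 ?_
      rw [Spec.map_preimage]
      infer_instance
    show ψ.hom.EssFiniteType
    rw [e]
    exact Normalization.Relative.essFiniteType_comp hι.essFiniteType hφ
  haveI : IsNoetherianRing B := Algebra.EssFiniteType.isNoetherianRing A B
  haveI : IsLocallyNoetherian (Spec (CommRingCat.of B)) := inferInstance
  haveI : IsLocallyNoetherian W := LocallyOfFiniteType.isLocallyNoetherian fW
  haveI : CompactSpace W := QuasiCompact.compactSpace_of_compactSpace fW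
  haveI : IsNoetherian W := {}
  obtain ⟨W₂, w, s, hw, hsep, hqc, hlft, hws⟩ := exists_stage (A := A) W fW
  haveI := hw; haveI := hsep; haveI := hqc; haveI := hlft
  obtain ⟨Z, j, qZ, hj, -, hqZ, hjq⟩ := Groth.Agent.S0384.result s
  haveI := hj; haveI := hqZ
  have hcomm : (w ≫ j) ≫ qZ = (fW ≫ X.fromSpecStalk x) ≫ f := by
    rw [Category.assoc, hjq, hws, Category.assoc, ← hψ]
    rfl
  let h : W ⟶ pullback qZ f := pullback.lift (w ≫ j) (fW ≫ X.fromSpecStalk x) hcomm
  haveI : IsPreimmersion h := by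
    haveI : IsPreimmersion (h ≫ pullback.fst qZ f) := by
      rw [pullback.lift_fst]; infer_instance
    exact preimm_of_comp h (pullback.fst qZ f)
  let qP : pullback qZ f ⟶ Spec (CommRingCat.of A) := pullback.snd qZ f ≫ f
  have hhq : h ≫ qP = fW ≫ X.fromSpecStalk x ≫ f := by
    show h ≫ pullback.snd qZ f ≫ f = _
    rw [pullback.lift_snd_assoc, Category.assoc]
  haveI : IsProper qP := inferInstanceAs (IsProper (pullback.snd qZ f ≫ f))
  obtain ⟨hWη, hWst⟩ := S15137.gen_props fW U hU
  obtain ⟨hfη, hfst⟩ := S15137.gen_props f V₀ hV₀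
  haveI : IsDomain B := (hn x).1
  have hjη : X.fromSpecStalk x (genericPoint (Spec (CommRingCat.of (X.presheaf.stalk x)))) = genericPoint X := by
    obtain ⟨z, hz⟩ : genericPoint X ∈ Set.range (X.fromSpecStalk x) := by
      rw [Scheme.range_fromSpecStalk]; exact genericPoint_specializes x
    have h1 : X.fromSpecStalk x (genericPoint (Spec (CommRingCat.of (X.presheaf.stalk x)))) ⤳ genericPoint X :=
      hz ▸ (genericPoint_specializes z).map (X.fromSpecStalk x).continuous
    exact (h1.antisymm (genericPoint_specializes _)).eq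
  have hη : (h ≫ qP) (genericPoint W) = genericPoint (Spec (CommRingCat.of A)) := by
    rw [hhq, Scheme.Hom.comp_apply, hWη, Scheme.Hom.comp_apply, hjη, hfη]
  have hst : Function.Surjective ((h ≫ qP).stalkMap (genericPoint W)) := by
    have key : ∀ (m : W ⟶ Spec (CommRingCat.of A)), Function.Surjective (m.stalkMap (genericPoint W)) →
        m = h ≫ qP → Function.Surjective ((h ≫ qP).stalkMap (genericPoint W)) := by
      rintro _ h rfl; exact h
    refine key ((fW ≫ X.fromSpecStalk x) ≫ f) ?_ (by rw [hhq, Category.assoc])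
    rw [Scheme.Hom.stalkMap_comp, Scheme.Hom.stalkMap_comp]
    haveI := hWst
    have h1 : Function.Surjective ((X.fromSpecStalk x).stalkMap (fW (genericPoint W))) :=
      (X.fromSpecStalk x).stalkMap_surjective _
    have h2 : Function.Surjective (f.stalkMap ((fW ≫ X.fromSpecStalk x) (genericPoint W))) := by
      rw [Scheme.Hom.comp_apply, hWη, hjη]
      haveI := hfst
      exact (ConcreteCategory.bijective_of_isIso _).2
    exact (((ConcreteCategory.bijective_of_isIso (fW.stalkMap (genericPoint W))).2).comp h1).comp h2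
  haveI : IsSeparated (h ≫ qP) := by
    rw [hhq, ← hψ]; infer_instance
  obtain ⟨X₃, p, r, ν, hint₃, hp₃, hn₃, hb₃, hr, hrν, hνp, hrη⟩ :=
    Amp36.Modif.Extend.exists_normal_closure hN hW h qP hη hst
  haveI := hint₃
  haveI := hp₃
  haveI := hr
  let g : X₃ ⟶ X := ν ≫ pullback.snd qZ f
  have hgf : g ≫ f = p := by rw [Category.assoc]; exact hνp
  haveI : IsProper (g ≫ f) := by rw [hgf]; infer_instance
  haveI : IsProper g := IsProper.of_comp g f
  have hrg : r ≫ g = fW ≫ X.fromSpecStalk x := by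
    show r ≫ ν ≫ pullback.snd qZ f = _
    rw [reassoc_of% hrν, pullback.lift_snd]
  have hR := (le_and_vanish hdim ⟨hp, hi, hn, V₀, hV₀, hiso₀⟩ ⟨hp₃, hint₃, hn₃, hb₃⟩ g hgf).2
    (hmax X₃ p ⟨hp₃, hint₃, hn₃, hb₃⟩) htop
  -- the base change to the local scheme
  obtain ⟨V₃, hV₃, hiso₃⟩ := hb₃
  haveI := hiso₃
  have hmeet : ((V₀ ⊓ V₃ : (Spec (CommRingCat.of A)).Opens) : Set (Spec (CommRingCat.of A))).Nonempty :=
    nonempty_preirreducible_inter V₀.2 V₃.2 hV₀ hV₃
  haveI : IsIso (f ∣_ (V₀ ⊓ V₃)) := ModPair.isIso_restrict_of_le f inf_le_left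
  haveI : IsIso (p ∣_ (V₀ ⊓ V₃)) := ModPair.isIso_restrict_of_le p inf_le_right
  haveI : IsIso (g ∣_ (f ⁻¹ᵁ (V₀ ⊓ V₃))) := Amp36.Modif.Birat.isIso_restrict p (V₀ ⊓ V₃) g f hgf
  have hfne : ((f ⁻¹ᵁ (V₀ ⊓ V₃) : X.Opens) : Set X).Nonempty := by
    obtain ⟨b, hb⟩ := hmeet
    obtain ⟨a, ha⟩ := Amp36.Modif.Birat.exists_apply_eq f (V₀ ⊓ V₃) hb
    exact ⟨a, show f a ∈ V₀ ⊓ V₃ by rw [ha]; exact hb⟩
  obtain ⟨hgη, -⟩ := S15137.gen_props g _ hfne
  obtain ⟨hPint, -, -⟩ := S15137.localScheme_props g hn₃ hgη _ hfne x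
  haveI := hPint
  let l : W ⟶ pullback g (X.fromSpecStalk x) := pullback.lift r fW hrg
  haveI : IsProper (pullback.snd g (X.fromSpecStalk x)) :=
    MorphismProperty.pullback_snd _ _ inferInstance
  haveI : IsProper l := by
    haveI : IsProper (l ≫ pullback.snd g (X.fromSpecStalk x)) := by
      rw [pullback.lift_snd]; infer_instance
    exact IsProper.of_comp l (pullback.snd g (X.fromSpecStalk x))
  haveI : IsPreimmersion l := by
    haveI : IsPreimmersion (l ≫ pullback.fst g (X.fromSpecStalk x)) := by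
      rw [pullback.lift_fst]; infer_instance
    exact preimm_of_comp l (pullback.fst g (X.fromSpecStalk x))
  haveI : IsClosedImmersion l := IsClosedImmersion.of_isPreimmersion l l.isClosedMap.isClosed_range
  haveI : IsPreimmersion (pullback.fst g (X.fromSpecStalk x)) :=
    MorphismProperty.pullback_fst _ _ inferInstance
  haveI : Surjective l := by
    refine ⟨fun z => ?_⟩
    have h1 : l (genericPoint W) ⤳ z := by
      rw [← (pullback.fst g (X.fromSpecStalk x)).isEmbedding.isInducing.specializes_iff,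
        ← Scheme.Hom.comp_apply, pullback.lift_fst, hrη]
      exact genericPoint_specializes _
    exact h1.mem_closed l.isClosedMap.isClosed_range ⟨_, rfl⟩
  haveI : IsIso l := isIso_of_isClosedImmersion_of_surjective l
  have hsq : IsPullback r fW g (X.fromSpecStalk x) :=
    IsPullback.of_iso_pullback ⟨hrg⟩ (asIso l) (pullback.lift_fst _ _ _) (pullback.lift_snd _ _ _)
  obtain ⟨V, hV, hxV, -⟩ := exists_isAffineOpen_mem_and_subset (U := (⊤ : X.Opens)) (x := x) trivial
  haveI h0 := Amp36.Modif.R1Zero.subsingleton_H1 g hR hV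
  letI : Algebra Γ(X, V) B := TopCat.Presheaf.algebra_section_stalk X.presheaf ⟨x, hxV⟩
  haveI : IsLocalization.AtPrime B (hV.primeIdealOf ⟨x, hxV⟩).asIdeal := hV.isLocalization_stalk ⟨x, hxV⟩
  haveI : Module.Flat Γ(X, V) B := IsLocalization.flat _ (hV.primeIdealOf ⟨x, hxV⟩).asIdeal.primeCompl
  letI : W.Over (Spec (CommRingCat.of B)) := ⟨fW⟩
  obtain ⟨e⟩ := S15137.nonempty_H1_baseChange g hV B W r (by
    rw [show Spec.map (CommRingCat.ofHom (algebraMap Γ(X, V) B)) ≫ hV.fromSpec =
      X.fromSpecStalk x from hV.fromSpecStalk_eq_fromSpecStalk hxV]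
    exact hsq)
  letI := S15137.overAff g hV
  haveI : Subsingleton (B ⊗[Γ(X, V)] Coh.HH (g ⁻¹ᵁ V : Scheme.{u}) (Coh.structureModule _) 1) := by
    refine subsingleton_of_forall_eq 0 fun z => ?_
    induction z using TensorProduct.induction_on with
    | zero => rfl
    | tmul b v => rw [h0.elim v 0, TensorProduct.tmul_zero]
    | add a c ha hc => rw [ha, hc, add_zero]
  exact e.symm.toEquiv.subsingleton

end


/-- Let (A, m) be a local normal Nagata domain of dimension two for which reduction to rational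
singularities is possible (the lengths of H^1(X, O_X) over all proper morphisms X → Spec A from an
integral normal scheme which are an isomorphism over a nonempty open are bounded). Then there is
such a normal modification f : X → Spec A, with f projective, such that at each closed point x of X
the stalk O_{X,x} is a rational singularity. (The published statement obtains X by a finite sequence
of normalized blowings up in closed points; this row asserts only the resulting modification.) -/
theorem result (A : Type u) [CommRing A] [IsDomain A] [IsLocalRing A] [IsNoetherianRing A]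
    [IsIntegrallyClosed A] (hN : CAlg.IsNagata A) (hdim : ringKrullDim A = 2)
    (hA : (∃ N : ℕ, ∀ (X : Scheme.{u}) [X.Over (Spec (CommRingCat.of A))], IsProper (X ↘ Spec (CommRingCat.of A)) →
        IsIntegral X → Pi1.IsNormalScheme X →
        (∃ U : (Spec (CommRingCat.of A)).Opens, (U : Set (Spec (CommRingCat.of A))).Nonempty ∧ IsIso ((X ↘ Spec (CommRingCat.of A)) ∣_ U)) →
        Module.length A (Coh.HH X (Coh.structureModule X) 1) ≤ (N : ℕ∞))) :
    ∃ (X : Scheme.{u}) (f : X ⟶ Spec (CommRingCat.of A)), IsProper f ∧ IsIntegral X ∧ Pi1.IsNormalScheme X ∧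
      (∃ U : (Spec (CommRingCat.of A)).Opens, (U : Set (Spec (CommRingCat.of A))).Nonempty ∧ IsIso (f ∣_ U)) ∧
      RelProj.IsProjective f ∧
      ∀ x : X, IsClosed ({x} : Set X) → Curv2.IsRationalSing (X.presheaf.stalk x) := by
  classical
  obtain ⟨N, hN'⟩ := hA
  have hbound : ∀ (X : Scheme.{u}) (f : X ⟶ Spec (CommRingCat.of A)), IsMod A X f →
      h1 A X f ≤ (N : ℕ∞) := fun X f ⟨hp, hi, hn, hb⟩ =>
    letI : X.Over (Spec (CommRingCat.of A)) := ⟨f⟩
    hN' X hp hi hn hb
  let P : ℕ → Prop := fun n => ∃ (X : Scheme.{u}) (f : X ⟶ Spec (CommRingCat.of A)),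
    IsMod A X f ∧ h1 A X f = n
  have hP : ∀ (X : Scheme.{u}) (f : X ⟶ Spec (CommRingCat.of A)), IsMod A X f →
      ∃ n ≤ N, P n ∧ h1 A X f = n := fun X f hX => by
    obtain ⟨n, hn⟩ := ENat.ne_top_iff_exists.1
      (ne_top_of_le_ne_top (ENat.natCast_ne_top N) (hbound X f hX))
    exact ⟨n, by exact_mod_cast hn ▸ hbound X f hX, ⟨X, f, hX, hn.symm⟩, hn.symm⟩
  obtain ⟨n₀, hn₀N, hn₀, -⟩ := hP _ (𝟙 _) ⟨inferInstance, inferInstance,
    RatSing74.FiniteExt.spec_isNormalScheme A, ⊤, ⟨genericPoint _, trivial⟩, inferInstance⟩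
  obtain ⟨X₀, f₀, hX₀, h₀⟩ := Nat.findGreatest_spec hn₀N hn₀
  have hmax : ∀ (Y : Scheme.{u}) (p : Y ⟶ Spec (CommRingCat.of A)), IsMod A Y p →
      h1 A Y p ≤ h1 A X₀ f₀ := fun Y p hY => by
    obtain ⟨n, hnN, hn, he⟩ := hP Y p hY
    rw [he, h₀]
    exact_mod_cast Nat.le_findGreatest hnN hn
  obtain ⟨X, f, g, hX, hproj, hg⟩ := exists_projective hN hX₀
  have hle := (le_and_vanish hdim hX₀ hX g hg).1
  have htop : h1 A X f ≠ ⊤ := ne_top_of_le_ne_top (ENat.natCast_ne_top N) (hbound X f hX)
  exact ⟨X, f, hX.1, hX.2.1, hX.2.2.1, hX.2.2.2, hproj,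
    fun x _ => isRationalSing_stalk hN hdim hX htop (fun Y p hY => (hmax Y p hY).trans hle) x⟩

end Groth.Agent.S7330
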