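import Groth.Statements.S18426
import Groth.Agent.Lib.Normalization.InField
import Mathlib.RingTheory.DedekindDomain.IntegralClosure
import Mathlib.AlgebraicGeometry.Noetherian

set_option autoImplicit false
universe u
open Pi1

namespace Groth.Agent.S18426

open AlgebraicGeometry CategoryTheory CategoryTheory.Limits in
/-- Suppose X is an integral scheme that is Noetherian and normal, write K for its function field, and
take L to be a finite separable extension of K. Then the normalization of X in L, namely the
relative normalization of the morphism Spec L → Spec K → X, is finite over X. (That this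
normalization is a normal integral scheme with function field L is not restated.) -/
theorem result {X : Scheme.{u}} [IsIntegral X] [IsNoetherian X]
    (hX : Pi1.IsNormalScheme X) (L : Type u) [Field L] [Algebra X.functionField L] [FiniteDimensional X.functionField L]
    [Algebra.IsSeparable X.functionField L]
    [QuasiCompact (Spec.map (CommRingCat.ofHom (algebraMap X.functionField L)) ≫ X.fromSpecStalk (genericPoint X))]
    [QuasiSeparated (Spec.map (CommRingCat.ofHom (algebraMap X.functionField L)) ≫ X.fromSpecStalk (genericPoint X))] :
    IsFinite (Spec.map (CommRingCat.ofHom (algebraMap X.functionField L)) ≫ X.fromSpecStalk (genericPoint X)).fromNormalization := by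
  refine Groth.Agent.Lib.Normalization.InField.isFinite (algebraMap X.functionField L) _ rfl
    fun U hne hU => ?_
  let := Groth.Agent.Lib.Normalization.InField.algebraK (algebraMap X.functionField L) U
  have := functionField_isFractionRing_of_isAffineOpen X U hU
  have := IsLocallyNoetherian.component_noetherian (X := X) ⟨U, hU⟩
  have : IsScalarTower Γ(X, U) X.functionField L := .of_algebraMap_eq fun a => rfl
  have : IsIntegrallyClosed Γ(X, U) := by
    refine IsIntegrallyClosed.of_localization_maximal fun p _ hp => ?_
    let y : X := hU.fromSpec ⟨p, hp.isPrime⟩
    have hy : y ∈ U := hU.range_fromSpec.le (Set.mem_range_self _)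
    let := TopCat.Presheaf.algebra_section_stalk X.presheaf (⟨y, hy⟩ : U)
    have hloc : IsLocalization.AtPrime (X.presheaf.stalk y) p := hU.isLocalization_stalk' ⟨p, hp.isPrime⟩ hy
    have := (hX y).2
    exact IsIntegrallyClosed.of_equiv
      (IsLocalization.algEquiv p.primeCompl (X.presheaf.stalk y) (Localization.AtPrime p)).toRingEquiv
  exact IsIntegralClosure.finite Γ(X, U) X.functionField L (integralClosure Γ(X, U) L)

end Groth.Agent.S18426
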