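import Groth.Statements.S1624
import Groth.Agent.Lib.BlowUpExists.Proper
import Groth.Agent.Lib.CohDelta.TwoAff
import Mathlib.Algebra.Module.SpanRank

set_option autoImplicit false
universe u
open CategoryTheory CategoryTheory.Limits AlgebraicGeometry
open Resolve

namespace Groth.Agent.S1624

open Groth.Agent.Lib.BlowUpExists TopologicalSpace Opposite

theorem appLE_bijective {Z X : Scheme.{u}} (f : Z ⟶ X) [IsOpenImmersion f] {U : X.Opens}
    (hU : U = f.opensRange) (e : (⊤ : Z.Opens) ≤ f ⁻¹ᵁ U) :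
    Function.Bijective (f.appLE U ⊤ e) := by
  obtain rfl : U = f ''ᵁ ⊤ := by rw [hU, Scheme.Hom.image_top_eq_opensRange]
  rw [← Scheme.Hom.appIso_hom']
  exact ConcreteCategory.bijective_of_isIso (f.appIso ⊤).hom

theorem appLE_fac {R S : CommRingCat.{u}} {X : Scheme.{u}} (φ : R ⟶ S) (v : Spec R ⟶ X)
    (w : Spec S ⟶ X) (h : Spec.map φ ≫ v = w) {U W : X.Opens} (hle : W ≤ U)
    (e : (⊤ : (Spec R).Opens) ≤ v ⁻¹ᵁ U) (e' : (⊤ : (Spec S).Opens) ≤ w ⁻¹ᵁ W)
    (x : Γ(X, U)) (p : R) (hx : v.appLE U ⊤ e x = (Scheme.ΓSpecIso R).inv p) :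
    w.appLE W ⊤ e' (X.presheaf.map (homOfLE hle).op x) = (Scheme.ΓSpecIso S).inv (φ p) := by
  subst h
  rw [← ConcreteCategory.comp_apply, Scheme.Hom.map_appLE,
    ← Scheme.Hom.appLE_comp_appLE (Spec.map φ) v U ⊤ ⊤ e (fun _ _ => trivial),
    CommRingCat.comp_apply, hx, ← CommRingCat.comp_apply, ← CommRingCat.comp_apply,
    Scheme.ΓSpecIso_inv_naturality]
  rfl

section

variable {Y : Scheme.{u}} {I : Y.IdealSheafData}

theorem exists_eq_add_frac_mul (i : Idx I) {b : Γ(Y, i.1.1)} (hb : b ∈ I.ideal i.1)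
    {s : Set Γ(Y, i.1.1)} (hs : Ideal.span s = I.ideal i.1) (hs' : s ⊆ {i.2.1, b})
    (p : chartRing i) : ∃ c p', p = (chartRingMap i).hom c + frac i hb * p' := by
  let m := Ideal.Quotient.mk (Ideal.span {frac i hb})
  have h := subring_eq_top i ((m.comp (chartRingMap i).hom).range.comap m)
    (fun x => ⟨x, rfl⟩) hs fun d hd => by
      rcases hs' hd with rfl | rfl
      · show m (frac i i.2.2) ∈ (m.comp (chartRingMap i).hom).range
        rw [frac_self, map_one]
        exact Subring.one_mem _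
      · show m (frac i hb) ∈ (m.comp (chartRingMap i).hom).range
        rw [Ideal.Quotient.eq_zero_iff_mem.mpr (Ideal.mem_span_singleton_self _)]
        exact Subring.zero_mem _
  obtain ⟨c, hc⟩ := h.ge (Subring.mem_top p)
  obtain ⟨p', hp'⟩ := Ideal.mem_span_singleton'.mp (Ideal.Quotient.eq.mp hc.symm)
  exact ⟨c, p', by rw [mul_comm, hp']; ring⟩

theorem exists_ov_eq_add (i : Idx I) {b : Γ(Y, i.1.1)} (hb : b ∈ I.ideal i.1)
    (hs : Ideal.span {i.2.1, b} = I.ideal i.1) (r : ov i hb) :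
    ∃ p q, (ovFst i hb).hom p + (ovSnd i hb).hom q = r := by
  let f := ovFst i hb
  let g := ovSnd i hb
  have st : g.hom (frac (withGen i hb) i.2.2) * f.hom (frac i hb) = 1 := by
    rw [ovSnd_frac_mul, frac_self, map_one]
  have key : ∀ (n : ℕ) (p : chartRing i), ∃ p' q',
      f.hom p * g.hom (frac (withGen i hb) i.2.2) ^ n = f.hom p' + g.hom q' := by
    intro n
    induction n with
    | zero => exact fun p => ⟨p, 0, by rw [pow_zero, mul_one, map_zero, add_zero]⟩
    | succ n ih =>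
      intro p
      obtain ⟨p', q', e⟩ := ih p
      obtain ⟨c, p'', e'⟩ := exists_eq_add_frac_mul i hb hs le_rfl p'
      refine ⟨p'', (chartRingMap (withGen i hb)).hom c * frac (withGen i hb) i.2.2 +
        q' * frac (withGen i hb) i.2.2, ?_⟩
      rw [pow_succ, ← mul_assoc, e, e', map_add f.hom, map_mul f.hom, map_add g.hom,
        map_mul g.hom, map_mul g.hom, ← ovSnd_chartRingMap_apply]
      linear_combination f.hom p'' * st
  obtain ⟨n, p, hn⟩ := IsLocalization.Away.surj (frac i hb) r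
  obtain ⟨p', q', e⟩ := key n p
  refine ⟨p', q', e.symm.trans ?_⟩
  have hn' : r * f.hom (frac i hb) ^ n = f.hom p := hn
  rw [← hn', mul_assoc, ← mul_pow, mul_comm (f.hom (frac i hb)), st, one_pow, mul_one]

/-- A blow-up of an affine scheme in an ideal with two generators is covered by two affine opens
with affine intersection, every function on which is a sum of functions extending to one of them. -/
theorem exists_two_affine_cover {X : Scheme.{u}} {b : X ⟶ Y} (hb : BlowUp.IsBlowUp b I)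
    (hY : IsAffineOpen (⊤ : Y.Opens)) (g₁ g₂ : Γ(Y, ⊤))
    (hg : Ideal.span {g₁, g₂} = I.ideal ⟨⊤, hY⟩) :
    ∃ U V : X.Opens, IsAffineOpen U ∧ IsAffineOpen V ∧ IsAffineOpen (U ⊓ V) ∧ U ⊔ V = ⊤ ∧
      ∀ z : Γ(X, U ⊓ V), ∃ (x : Γ(X, U)) (y : Γ(X, V)),
        X.presheaf.map (homOfLE inf_le_left).op x + X.presheaf.map (homOfLE inf_le_right).op y =
          z := by
  obtain ⟨h, hh, -⟩ := hb.2 (bl I) (blProj I) (localData I).Q_proj
  obtain ⟨k, hk⟩ := (localData I).exists_hom b hb.1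
  have e₁ : k ≫ h = 𝟙 X := (hb.2 X b hb.1).unique (by rw [Category.assoc, hh, hk]) (by simp)
  have e₂ : h ≫ k = 𝟙 (bl I) := (localData I).hom_ext (blProj I) (localData I).Q_proj
    (by rw [Category.assoc, hk, hh]) (by simp)
  haveI : IsIso h := ⟨k, e₂, e₁⟩
  have h₁ : g₁ ∈ I.ideal ⟨⊤, hY⟩ := hg ▸ Ideal.subset_span (Or.inl rfl)
  have h₂ : g₂ ∈ I.ideal ⟨⊤, hY⟩ := hg ▸ Ideal.subset_span (Or.inr rfl)
  let i : Idx I := ⟨⟨⊤, hY⟩, g₁, h₁⟩
  let j : Idx I := withGen i (b := g₂) h₂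
  let φ := ovFst i (b := g₂) h₂
  let ψ := ovSnd i (b := g₂) h₂
  haveI := isOpenImmersion_ovFst i (b := g₂) h₂
  haveI : ∀ l : Idx I, IsOpenImmersion (incl l) := fun l =>
    (localData I).glueData.ι_isOpenImmersion l
  let w : Spec (ov i (b := g₂) h₂) ⟶ X := Spec.map φ ≫ incl i ≫ h
  have hw : Spec.map ψ ≫ incl j ≫ h = w := by
    show _ = Spec.map φ ≫ incl i ≫ h
    rw [← Category.assoc, ← Category.assoc]
    exact congrArg (· ≫ h) (ov_glue i h₂)
  let U := (incl i ≫ h).opensRange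
  let V := (incl j ≫ h).opensRange
  have hW : U ⊓ V = w.opensRange := by
    ext x
    constructor
    · rintro ⟨⟨z, rfl⟩, z', hz'⟩
      have hinj : Function.Injective h.base := h.isOpenEmbedding.injective
      have hz : incl i z ∈ Set.range (incl j) := ⟨z', hinj hz'⟩
      have h' := (fracPoint_mem i (b := g₂) h₂ z).mp ((mem_range_incl_iff i j z).mp hz)
      rw [basicOpen_eq_of_affine] at h'
      obtain ⟨q, rfl⟩ := (PrimeSpectrum.localization_away_comap_range
        (ov i (b := g₂) h₂) (frac i (b := g₂) h₂)).ge h'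
      exact ⟨q, rfl⟩
    · rintro ⟨q, rfl⟩
      refine ⟨⟨Spec.map φ q, rfl⟩, ⟨Spec.map ψ q, ?_⟩⟩
      exact congrArg (fun f => f.base q) hw
  have hU : IsAffineOpen U := isAffineOpen_opensRange _
  have hV : IsAffineOpen V := isAffineOpen_opensRange _
  refine ⟨U, V, hU, hV, hW ▸ isAffineOpen_opensRange w, ?_, fun z => ?_⟩
  · refine eq_top_iff.mpr fun x _ => ?_
    obtain ⟨a, ha, hx⟩ := exists_mem_range_incl (k x) (U := ⟨⊤, hY⟩) trivial hg
    have hkx : h (k x) = x := congrArg (fun f => f.base x) e₁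
    obtain ⟨q, hq⟩ := hx
    rcases ha with rfl | rfl
    · exact Or.inl ⟨q, (congrArg h.base hq).trans hkx⟩
    · exact Or.inr ⟨q, (congrArg h.base hq).trans hkx⟩
  · have e : (⊤ : (Spec (ov i (b := g₂) h₂)).Opens) ≤ w ⁻¹ᵁ (U ⊓ V) := fun q _ => by
      show w q ∈ U ⊓ V
      rw [hW]
      exact ⟨q, rfl⟩
    have eU : (⊤ : (chart i).Opens) ≤ (incl i ≫ h) ⁻¹ᵁ U := fun q _ => ⟨q, rfl⟩
    have eV : (⊤ : (chart j).Opens) ≤ (incl j ≫ h) ⁻¹ᵁ V := fun q _ => ⟨q, rfl⟩
    obtain ⟨p, q, hpq⟩ := exists_ov_eq_add i (b := g₂) h₂ hg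
      ((Scheme.ΓSpecIso (ov i (b := g₂) h₂)).hom (w.appLE (U ⊓ V) ⊤ e z))
    obtain ⟨x, hx⟩ := (appLE_bijective (incl i ≫ h) rfl eU).2 ((Scheme.ΓSpecIso _).inv p)
    obtain ⟨y, hy⟩ := (appLE_bijective (incl j ≫ h) rfl eV).2 ((Scheme.ΓSpecIso _).inv q)
    refine ⟨x, y, (appLE_bijective w hW e).1 ?_⟩
    rw [map_add, appLE_fac φ _ w rfl inf_le_left eU e x p hx,
      appLE_fac ψ _ w hw inf_le_right eV e y q hy, ← map_add, hpq, Iso.hom_inv_id_apply]

end


/-- Let A be a regular local ring of dimension two and b : X → Spec A the blowing up in the maximal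
ideal. If F is a quasi-coherent O_X-module which is globally generated, then H¹(X, F) = 0. -/
theorem result (A : Type u) [CommRing A] [IsRegularLocalRing A] (hA : ringKrullDim A = 2)
    (X : Scheme.{u}) (b : X ⟶ Spec (CommRingCat.of A)) (hb : BlowUp.IsBlowUp b (Curv2.idealSheaf A (IsLocalRing.maximalIdeal A)))
    (F : X.Modules) (hF : Coh.IsQCoh F) (hgg : Curv2.IsGloballyGenerated F) : Subsingleton (Coh.HH X F 1) := by
  obtain ⟨s, hs, hspan⟩ := Submodule.FG.exists_span_finset_card_eq_spanFinrank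
    (IsNoetherian.noetherian (IsLocalRing.maximalIdeal A))
  have hs2 : s.card = 2 := by
    have h := IsRegularLocalRing.spanFinrank_maximalIdeal (R := A)
    rw [hA, ← hs] at h
    exact_mod_cast h
  classical
  obtain ⟨a₁, a₂, -, rfl⟩ := Finset.card_eq_two.mp hs2
  let Y : Scheme.{u} := Spec (CommRingCat.of A)
  have hY : IsAffineOpen (⊤ : Y.Opens) := isAffineOpen_top Y
  let ψ : A →+* Γ(Y, ⊤) := ((Scheme.ΓSpecIso (CommRingCat.of A)).inv ≫
    Y.presheaf.map (homOfLE (le_top : (⊤ : Y.Opens) ≤ ⊤)).op).hom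
  have hg : Ideal.span {ψ a₁, ψ a₂} =
      (Curv2.idealSheaf A (IsLocalRing.maximalIdeal A)).ideal ⟨⊤, hY⟩ := by
    rw [show ({ψ a₁, ψ a₂} : Set Γ(Y, ⊤)) = ψ '' ({a₁, a₂} : Set A) from Set.image_pair .. |>.symm,
      ← Ideal.map_span, show Ideal.span ({a₁, a₂} : Set A) = IsLocalRing.maximalIdeal A from by
        rw [← hspan]; simp [Ideal.submodule_span_eq],
      Curv2.idealSheaf, Scheme.IdealSheafData.ofIdealTop_ideal, Ideal.map_map]
    rfl
  obtain ⟨U, V, hU, hV, hW, hcov, hdec⟩ := exists_two_affine_cover hb hY _ _ hg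
  haveI : F.IsQuasicoherent := hF
  exact Groth.Agent.Lib.CohDelta.TwoAff.subsingleton_HH_one hU hV hW hcov hdec F hgg

end Groth.Agent.S1624
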