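import Groth.Statements.S7299
import Groth.Agent.Lib.Amp36.Modif.FibrePow
import Groth.Agent.Lib.RatSing74.FiniteExt
import Groth.Agent.S7298

set_option autoImplicit false
universe u
open CategoryTheory CategoryTheory.Limits AlgebraicGeometry
open Resolve

namespace Groth.Agent.S7299

open Groth.Agent Groth.Agent.Lib TopologicalSpace Opposite
open Groth.Agent.Lib.Amp36.Modif.FibrePow

set_option backward.isDefEq.respectTransparency.types false in
/-- The global functions of a modification of a normal affine scheme. -/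
theorem ρ_top_bijective {A : Type u} [CommRing A] [IsDomain A] [IsIntegrallyClosed A]
    {X : Scheme.{u}} (f : X ⟶ Spec (CommRingCat.of A)) [IsProper f] [IsIntegral X]
    (U : (Spec (CommRingCat.of A)).Opens) (hU : (U : Set (Spec (CommRingCat.of A))).Nonempty)
    [IsIso (f ∣_ U)] : Function.Bijective (ρ f ⊤) := by
  obtain ⟨hgen, hst⟩ := S15137.gen_props f U hU
  haveI := Groth.Agent.H34.Stein.isIso_app_of_birational f
    (RatSing74.FiniteExt.spec_isNormalScheme A) hgen hst ⊤
  have e : (ρ f ⊤ : A → Γ(X, ⊤)) = fun a => f.appTop ((Scheme.ΓSpecIso (CommRingCat.of A)).inv a) := by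
    funext a
    show X.presheaf.map (homOfLE le_top).op _ = _
    rw [show (homOfLE (le_top : (⊤ : X.Opens) ≤ ⊤)).op = 𝟙 _ from rfl, CategoryTheory.Functor.map_id]
    rfl
  rw [e]
  exact (ConcreteCategory.bijective_of_isIso (f.app ⊤)).comp
    (ConcreteCategory.bijective_of_isIso (Scheme.ΓSpecIso (CommRingCat.of A)).inv)

/-- A point over the closed point. -/
theorem exists_over_closedPoint {A : Type u} [CommRing A] [IsLocalRing A] [IsDomain A] {X : Scheme.{u}}
    (f : X ⟶ Spec (CommRingCat.of A)) [IsProper f] [IsIntegral X]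
    (hgen : f (genericPoint X) = genericPoint (Spec (CommRingCat.of A))) :
    ∃ x : X, f x = IsLocalRing.closedPoint A :=
  (genericPoint_specializes (α := Spec (CommRingCat.of A)) (IsLocalRing.closedPoint A)).mem_closed
    f.isClosedMap.isClosed_range ⟨genericPoint X, hgen⟩


/-- Let (A, m) be a local normal Nagata domain of dimension two defining a rational singularity, f : X →
Spec A a proper morphism from an integral normal scheme which is an isomorphism over some nonempty
open, and suppose the closed fibre, with ideal sheaf I = m O_X, is an effective Cartier divisor.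
Then for every n ≥ 0, H^1(X, I^n) = 0 and H^0(X, I^n) = m^n: an element of A, viewed as a global
function on X, lies in I^n on every affine open if and only if it belongs to m^n. -/
theorem result (A : Type u) [CommRing A] [IsDomain A] [IsLocalRing A] [IsNoetherianRing A]
    [IsIntegrallyClosed A] (hN : CAlg.IsNagata A) (hdim : ringKrullDim A = 2) (hA : Curv2.IsRationalSing A)
    (X : Scheme.{u}) (f : X ⟶ Spec (CommRingCat.of A)) [IsProper f] [IsIntegral X] (hXn : Pi1.IsNormalScheme X)
    (hbir : ∃ U : (Spec (CommRingCat.of A)).Opens, (U : Set (Spec (CommRingCat.of A))).Nonempty ∧ IsIso (f ∣_ U))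
    (hE : BlowUp.IsEffCartierIdeal ((Curv2.idealSheaf A (IsLocalRing.maximalIdeal A)).comap f)) (n : ℕ) :
    Subsingleton (Coh.HH X (ClSub.idealMod (((Curv2.idealSheaf A (IsLocalRing.maximalIdeal A)).comap f) ^ n)) 1) ∧
      ∀ a : A, (∀ U : X.affineOpens,
          Coh.resTop X (Opposite.op U.1) (Coh.toGlobal f a) ∈ (((Curv2.idealSheaf A (IsLocalRing.maximalIdeal A)).comap f) ^ n).ideal U) ↔
        a ∈ IsLocalRing.maximalIdeal A ^ n := by
  obtain ⟨r, t, ht⟩ := Submodule.fg_iff_exists_fin_generating_family.1
    (IsNoetherian.noetherian (IsLocalRing.maximalIdeal A))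
  have hH : ∀ F : X.Modules, F.IsQuasicoherent → Curv2.IsGloballyGenerated F →
      Subsingleton (Coh.HH X F 1) := fun F hq hg =>
    Groth.Agent.S7298.result A hN hdim hA X f hXn hbir F hq hg
  refine ⟨hH _ (Ample.QAffCrit.isQCoh_idealMod _) (gg_N f (IsLocalRing.maximalIdeal A) t ht hE n),
    fun a => ⟨?_, fun ha U => ?_⟩⟩
  swap
  · show ρ f U.1 a ∈ (I f (IsLocalRing.maximalIdeal A) n).ideal U
    rw [ideal_I]
    exact Ideal.mem_map_of_mem _ ha
  intro h
  obtain ⟨V₀, hV₀, hiso⟩ := hbir
  haveI := hiso
  have hbij := ρ_top_bijective f V₀ hV₀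
  replace h : ∀ U : X.affineOpens, ρ f U.1 a ∈ (I f (IsLocalRing.maximalIdeal A) n).ideal U := h
  suffices key : ∀ (m : ℕ) (a : A), (∀ U : X.affineOpens,
      ρ f U.1 a ∈ (I f (IsLocalRing.maximalIdeal A) m).ideal U) →
      a ∈ IsLocalRing.maximalIdeal A ^ m from key n a h
  intro m
  induction m with
  | zero => intro a _; simp
  | succ m ih =>
    intro a ha
    cases m with
    | zero =>
      rw [zero_add, pow_one]
      by_contra hu
      have hua : IsUnit a := IsLocalRing.notMem_maximalIdeal.1 hu
      obtain ⟨x, hx⟩ := exists_over_closedPoint f (S15137.gen_props f V₀ hV₀).1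
      obtain ⟨U, -, hxU⟩ := ClSub.Basis.exists_affine_le (U := (⊤ : X.Opens)) (x := x) trivial
      have htop : ((Curv2.idealSheaf A (IsLocalRing.maximalIdeal A)).comap f).ideal U = ⊤ := by
        have h1 := ha U
        rw [zero_add] at h1
        simp only [Scheme.IdealSheafData.ideal_pow, Pi.pow_apply, pow_one] at h1
        exact Ideal.eq_top_of_isUnit_mem _ h1 (hua.map _)
      have hsupp : x ∈ ((Curv2.idealSheaf A (IsLocalRing.maximalIdeal A)).comap f).support := by
        rw [Scheme.IdealSheafData.support_comap]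
        show f x ∈ (Curv2.idealSheaf A (IsLocalRing.maximalIdeal A)).support
        rw [hx, Scheme.IdealSheafData.mem_support_iff_of_mem (U := ⟨⊤, isAffineOpen_top _⟩) trivial,
          show (Curv2.idealSheaf A (IsLocalRing.maximalIdeal A)).ideal ⟨⊤, isAffineOpen_top _⟩ =
            (IsLocalRing.maximalIdeal A).map (Scheme.ΓSpecIso (CommRingCat.of A)).inv.hom from
            Scheme.IdealSheafData.equivOfIsAffine.right_inv _,
          Scheme.mem_zeroLocus_iff]
        intro s hs
        obtain ⟨b, hb, rfl⟩ := (Ideal.mem_map_iff_of_surjective _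
          (ConcreteCategory.bijective_of_isIso (Scheme.ΓSpecIso (CommRingCat.of A)).inv).2).1 hs
        rw [basicOpen_eq_of_affine]
        exact fun hb' => hb' hb
      rw [Scheme.IdealSheafData.mem_support_iff_of_mem hxU, htop, Scheme.mem_zeroLocus_iff] at hsupp
      exact hsupp 1 trivial (by rw [Scheme.basicOpen_of_isUnit _ isUnit_one]; exact hxU)
    | succ m =>
      obtain ⟨s, hs⟩ := exists_val_eq f (IsLocalRing.maximalIdeal A) (m + 1 + 1) ⊤ (ρ f ⊤ a)
        fun V hV => by rw [res_ρ]; exact ha V
      obtain ⟨c, hc⟩ := exists_combination f (IsLocalRing.maximalIdeal A) t ht hE hH m s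
      choose b hb using fun i => hbij.2 (val f (IsLocalRing.maximalIdeal A) (m + 1) ⊤ (c i))
      have hbm : ∀ i, b i ∈ IsLocalRing.maximalIdeal A ^ (m + 1) := fun i => ih (b i) fun U => by
        rw [← res_ρ f (le_top : U.1 ≤ ⊤), hb, ← val_map]
        exact val_mem f _ _ U _
      have e : a = ∑ i, b i * t i := hbij.1 (by
        rw [map_sum, ← hs, hc]
        exact Finset.sum_congr rfl fun i _ => by rw [map_mul, hb])
      rw [e, pow_succ]
      exact Ideal.sum_mem _ fun i _ => Ideal.mul_mem_mul (hbm i)
        (t_mem (IsLocalRing.maximalIdeal A) t ht i)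

end Groth.Agent.S7299
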