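import Groth.Statements.S7360
import Groth.Agent.Lib.Amp36.Modif.PointBlow
import Groth.Agent.Lib.Amp36.Modif.Glue
import Groth.Agent.Lib.Curves.GlobalSections
import Groth.Agent.Lib.InjHull.Complete

set_option autoImplicit false
universe u
open CategoryTheory CategoryTheory.Limits AlgebraicGeometry
open Resolve

namespace Groth.Agent.S7360

open Groth.Agent Groth.Agent.Lib TopologicalSpace Opposite
open Groth.Agent.Lib.Amp36.Modif
open Groth.Agent.Lib.Amp36.Modif.FibrePow

/-- A germ at an isolated point is bijective. -/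
theorem germ_bijective {Z : Scheme.{u}} (p : Z) (O : Z.Opens) (hp : p ∈ O) (h : ∀ q ∈ O, q = p) :
    Function.Bijective (Z.presheaf.germ O p hp) := by
  have hle : ∀ V : Z.Opens, p ∈ V → O ≤ V := fun V hV q hq => by rw [h q hq]; exact hV
  refine ⟨fun x y hxy => ?_, fun x => ?_⟩
  · obtain ⟨W, hW, iU, iV, e⟩ := TopCat.Presheaf.germ_eq _ p hp hp x y hxy
    have hWO : W = O := le_antisymm iU.le (hle W hW)
    subst hWO
    rw [Subsingleton.elim iU (𝟙 W), Subsingleton.elim iV (𝟙 W)] at e
    simpa using e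
  · obtain ⟨V, hV, s, rfl⟩ := TopCat.Presheaf.exists_germ_eq Z.presheaf x
    exact ⟨Z.presheaf.map (homOfLE (hle V hV)).op s, TopCat.Presheaf.germ_res_apply _ _ _ _ _⟩

/-- Let (A, m) be a regular local ring of dimension two, X → Spec A (the structure morphism) the blowing
up in m with exceptional divisor E and its ideal I_E, and I an ideal of A with m^n ⊆ I ⊆ m for some
n. Let d be the largest integer with I O_X ⊆ O_X(-dE) = I_E^d and I' ⊆ O_X the ideal with I O_X = I'
· I_E^d (so I' = I O_X(dE)). Then d > 0, O_X/I' is supported in finitely many closed points x_1, …,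
x_r, and length_A(A/I) > length_A Γ(X, O_X/I') ≥ Σ_i length_{O_{X,x_i}}(O_{X,x_i}/I'_{x_i}), the sum
written as a finite sum over the points of the subscheme defined by I'. -/
theorem result (A : Type u) [CommRing A] [IsRegularLocalRing A] (hA : ringKrullDim A = 2)
    (X : Scheme.{u}) [X.Over (Spec (CommRingCat.of A))]
    (hb : BlowUp.IsBlowUp (X ↘ Spec (CommRingCat.of A)) (Curv2.idealSheaf A (IsLocalRing.maximalIdeal A)))
    (I : Ideal A) (n : ℕ) (hIn : IsLocalRing.maximalIdeal A ^ n ≤ I) (hIm : I ≤ IsLocalRing.maximalIdeal A)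
    (d : ℕ) (I' : X.IdealSheafData)
    (hd : (Curv2.idealSheaf A I).comap (X ↘ Spec (CommRingCat.of A)) =
      I' * BlowUp.exceptional (X ↘ Spec (CommRingCat.of A)) (Curv2.idealSheaf A (IsLocalRing.maximalIdeal A)) ^ d)
    (hmax : ¬ (Curv2.idealSheaf A I).comap (X ↘ Spec (CommRingCat.of A)) ≤
      BlowUp.exceptional (X ↘ Spec (CommRingCat.of A)) (Curv2.idealSheaf A (IsLocalRing.maximalIdeal A)) ^ (d + 1)) :
    0 < d ∧ (I'.support : Set X).Finite ∧ (∀ x ∈ (I'.support : Set X), IsClosed ({x} : Set X)) ∧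
      Module.length A (Coh.HH X (ClSub.quotMod I') 0) < Module.length A (A ⧸ I) ∧
      ∑ᶠ x : ↥I'.subscheme, Module.length (I'.subscheme.presheaf.stalk x) (I'.subscheme.presheaf.stalk x) ≤
        Module.length A (Coh.HH X (ClSub.quotMod I') 0) := by
  classical
  haveI : IsDomain A := Regular.Quotient.isDomain A
  set f := X ↘ Spec (CommRingCat.of A) with hfdef
  haveI := PointBlow85.isIntegral hA hb
  haveI := PointBlow.isProper hb
  have hE : BlowUp.IsEffCartierIdeal ((Curv2.idealSheaf A (IsLocalRing.maximalIdeal A)).comap f) := hb.1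
  have hIO : ∀ V : X.affineOpens, ((Curv2.idealSheaf A I).comap f).ideal V = I.map (ρ f V.1) := by
    intro V
    have h1 := ideal_I f I 1 V
    simp only [pow_one] at h1
    exact h1
  have hd0 : 0 < d := by
    refine Nat.pos_of_ne_zero fun h0 => hmax ?_
    subst h0
    intro V
    rw [hIO, zero_add, ideal_I f (IsLocalRing.maximalIdeal A) 1 V, pow_one]
    exact Ideal.map_mono hIm
  have hdV : ∀ V : X.affineOpens, ((Curv2.idealSheaf A I).comap f).ideal V =
      I'.ideal V * (FibrePow.I f (IsLocalRing.maximalIdeal A) d).ideal V := by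
    intro V
    rw [hd]
    simp [Scheme.IdealSheafData.ideal_mul, Scheme.IdealSheafData.ideal_pow]
  have hId : I ≤ IsLocalRing.maximalIdeal A ^ d := PointBlow.le_pow hA hb I d fun V => by
    rw [hdV]; exact Ideal.mul_le_right
  obtain ⟨hfin, hcl, -, -⟩ := PointBlow.residual_support hA hb hIn hd hmax
  -- the neighbourhoods
  let S : Type u := ↥(I'.support : Set X)
  haveI : Finite S := hfin.to_subtype
  letI : Fintype S := Fintype.ofFinite S
  obtain ⟨r, t, ht⟩ := Submodule.fg_iff_exists_fin_generating_family.1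
    (IsNoetherian.noetherian (IsLocalRing.maximalIdeal A))
  have hO : ∀ z : S, IsOpen ((I'.support : Set X) \ {z.1})ᶜ := fun z => by
    rw [isOpen_compl_iff, ← Set.biUnion_of_singleton ((I'.support : Set X) \ {z.1})]
    exact (hfin.diff).isClosed_biUnion fun y hy => hcl y hy.1
  choose U hUO hzU k hτ hk using fun z : S =>
    frame f (IsLocalRing.maximalIdeal A) t ht hE (x := z.1) (O := ⟨_, hO z⟩) (fun h => h.2 rfl)
  have hUz : ∀ (z : S) (x : X), x ∈ (U z).1 → x ∈ (I'.support : Set X) → x = z.1 := fun z x hx hxs =>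
    by_contra fun h => hUO z hx ⟨hxs, h⟩
  let τ : ∀ z : S, Γ(X, (U z).1) := fun z => ρ f (U z).1 (t (k z)) ^ d
  have hne : ∀ z : S, Nonempty (U z).1 := fun z => ⟨⟨z.1, hzU z⟩⟩
  have hτc : ∀ (z : S) (x y : Γ(X, (U z).1)), x * τ z = y * τ z → x = y := fun z x y h => by
    haveI := hne z
    exact mul_right_cancel₀ (pow_ne_zero _ (hτ z)) h
  have hNd : ∀ z : S, (FibrePow.I f (IsLocalRing.maximalIdeal A) d).ideal (U z) = Ideal.span {τ z} :=
    fun z => ideal_eq_of_frame f (IsLocalRing.maximalIdeal A) t ht d (U z) (hk z)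
  have hmem : ∀ (z : S) (a : ↥(IsLocalRing.maximalIdeal A ^ d)), ∃ c, c * τ z = ρ f (U z).1 a.1 := by
    intro z a
    rw [← Ideal.mem_span_singleton', ← hNd, ideal_I]
    exact Ideal.mem_map_of_mem _ a.2
  choose c hc using hmem
  -- the targets
  let W : S → Type u := fun z => Γ(I'.subscheme, I'.subschemeι ⁻¹ᵁ (U z).1)
  let ζ : ∀ z : S, A →+* Γ(I'.subscheme, I'.subschemeι ⁻¹ᵁ (U z).1) := fun z =>
    (I'.subschemeι.app (U z).1).hom.comp (ρ f (U z).1)
  letI : ∀ z, AddCommGroup (W z) := fun z =>
    inferInstanceAs (AddCommGroup Γ(I'.subscheme, I'.subschemeι ⁻¹ᵁ (U z).1))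
  letI : ∀ z, Module A (W z) := fun z =>
    Module.compHom Γ(I'.subscheme, I'.subschemeι ⁻¹ᵁ (U z).1) (ζ z)
  let ψ : ↥(IsLocalRing.maximalIdeal A ^ d) →ₗ[A] ((z : S) → W z) :=
    { toFun := fun a z => I'.subschemeι.app (U z).1 (c z a)
      map_add' := fun a b => funext fun z => by
        show I'.subschemeι.app (U z).1 (c z (a + b)) = _ + _
        rw [hτc z (c z (a + b)) (c z a + c z b) (by
          rw [add_mul, hc, hc, hc, Submodule.coe_add, map_add]), map_add]
      map_smul' := fun s a => funext fun z => by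
        show I'.subschemeι.app (U z).1 (c z (s • a)) = ζ z s * _
        rw [hτc z (c z (s • a)) (ρ f (U z).1 s * c z a) (by
          rw [mul_assoc, hc, hc, SetLike.val_smul, smul_eq_mul, map_mul]), map_mul]
        rfl }
  have hker : Submodule.comap (IsLocalRing.maximalIdeal A ^ d).subtype I ≤ LinearMap.ker ψ := by
    intro a ha
    rw [LinearMap.mem_ker]
    funext z
    show I'.subschemeι.app (U z).1 (c z a) = 0
    rw [← RingHom.mem_ker, Scheme.IdealSheafData.ker_subschemeι_app]
    have h1 : ρ f (U z).1 a.1 ∈ I'.ideal (U z) * Ideal.span {τ z} := by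
      rw [← hNd, ← hdV, hIO]
      exact Ideal.mem_map_of_mem _ ha
    rw [Ideal.mem_mul_span_singleton] at h1
    obtain ⟨e, he, hea⟩ := h1
    rwa [← hτc z e (c z a) (hea.trans (hc z a).symm)]
  -- the inclusion of the ideal
  let J := N f I 1
  have hj0 : ClSub.idealModι (FibrePow.I f I 1) ≫
      ClSub.toSubscheme (FibrePow.I f (IsLocalRing.maximalIdeal A) d) = 0 := by
    refine Scheme.Modules.hom_ext _ _ fun O => ConcreteCategory.ext_apply fun s => ?_
    show (ClSub.toSubscheme _).app O (val f I 1 O s) = 0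
    refine toSubscheme_eq_zero _ O _ fun V hV => ?_
    rw [← val_map f I hV]
    have h1 := val_mem f I 1 V ((N f I 1).presheaf.map (homOfLE hV).op s)
    rw [ideal_I, pow_one] at h1
    rw [ideal_I]
    exact Ideal.map_mono hId h1
  let j : J ⟶ N f (IsLocalRing.maximalIdeal A) d := kernel.lift _ _ hj0
  haveI : Mono (ClSub.idealModι (FibrePow.I f I 1)) :=
    inferInstanceAs (Mono (kernel.ι (ClSub.toSubscheme (FibrePow.I f I 1))))
  haveI : Mono j := mono_of_mono_fac (kernel.lift_ι _ _ hj0)
  have hjval : ∀ (O : X.Opens) (y : Γ(J, O)),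
      val f (IsLocalRing.maximalIdeal A) d O (j.app O y) = val f I 1 O y := fun O y =>
    congrArg (fun φ : J ⟶ Coh.structureModule X => φ.app O y) (kernel.lift_ι _ _ hj0)
  have hggJ : Curv2.IsGloballyGenerated J := by
    refine Groth.Agent.H34.GlobGen.gg_of_gl_eq_top fun x => eq_top_iff.2 fun y _ => ?_
    obtain ⟨O, hxO, s, rfl⟩ := TopCat.Presheaf.exists_germ_eq (N f I 1).presheaf y
    obtain ⟨V, hVO, hxV⟩ := ClSub.Basis.exists_affine_le hxO
    rw [← ClSub.Basis.germ_map hVO hxV]
    have hm := val_mem f I 1 V ((N f I 1).presheaf.map (homOfLE hVO).op s)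
    rw [ideal_I, Ideal.map, Ideal.span, Submodule.mem_span_image_iff_exists_fun] at hm
    obtain ⟨T, hT, w, hw⟩ := hm
    have hg : (N f I 1).presheaf.map (homOfLE hVO).op s = ∑ a : T, w a • (N f I 1).presheaf.map
        (homOfLE le_top).op (glob f I 1 (hT a.2)) := by
      apply val_injective f I 1 V.1
      rw [← hw]
      exact Eq.symm ((map_sum (((ClSub.idealModι (FibrePow.I f I 1)).app V.1).hom) _ _).trans
        (Finset.sum_congr rfl fun a _ => by
          show val f I 1 V.1 _ = _
          rw [val_smul, val_glob, smul_eq_mul]))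
    rw [hg, map_sum]
    refine Submodule.sum_mem _ fun a _ => ?_
    rw [Modules.StalkModule.germ_smul, ClSub.Basis.germ_map le_top hxV]
    exact Submodule.smul_mem _ _ (Submodule.subset_span ⟨_, rfl⟩)
  have hJ1 : Subsingleton (Coh.HH X J 1) :=
    S1624.result A hA X f hb J (Ample.QAffCrit.isQCoh_idealMod _) hggJ
  have hmiss : ∀ (O : X.Opens), Disjoint (I'.support : Set X) (O : Set X) →
      ∀ s : Γ(N f (IsLocalRing.maximalIdeal A) d, O), ∃ y : Γ(J, O), j.app O y = s := by
    intro O hO s
    obtain ⟨y, hy⟩ := exists_val_eq f I 1 O (val f (IsLocalRing.maximalIdeal A) d O s) fun V hV => by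
      rw [← val_map f (IsLocalRing.maximalIdeal A) hV]
      have h1 := val_mem f (IsLocalRing.maximalIdeal A) d V
        ((N f (IsLocalRing.maximalIdeal A) d).presheaf.map (homOfLE hV).op s)
      have h2 := hdV V
      rw [PointBlow.ideal_eq_top_of_disjoint I' V (hO.mono_right hV), Ideal.top_mul, hIO] at h2
      rw [ideal_I, pow_one, h2]
      exact h1
    exact ⟨y, val_injective f (IsLocalRing.maximalIdeal A) d O (by rw [hjval, hy])⟩
  have hψ : Function.Surjective ψ := by
    intro w
    choose e he using fun z : S => Scheme.IdealSheafData.subschemeι_app_surjective I' (U z) (w z)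
    choose sz hsz using fun z : S => exists_val_eq f (IsLocalRing.maximalIdeal A) d (U z).1
      (e z * τ z) fun V hV => by
        rw [map_mul, map_pow, res_ρ, ideal_I]
        exact Ideal.mul_mem_left _ _ ((map_pow (ρ f V.1) (t (k z)) d) ▸ Ideal.mem_map_of_mem _
          (Ideal.pow_mem_pow (t_mem _ t ht (k z)) d))
    let W' : Option S → X.Opens := fun i => Option.elim i I'.support.compl fun z => (U z).1
    let s' : ∀ i : Option S, Γ(N f (IsLocalRing.maximalIdeal A) d, W' i) := fun i =>
      match i with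
      | none => 0
      | some z => sz z
    obtain ⟨g, hg⟩ := Glue.exists_lift j hJ1 W' (fun x _ => by
        by_cases hx : x ∈ (I'.support : Set X)
        · exact Opens.mem_iSup.2 ⟨some ⟨x, hx⟩, hzU ⟨x, hx⟩⟩
        · exact Opens.mem_iSup.2 ⟨none, hx⟩) s' (fun i l => by
        by_cases hil : i = l
        · subst hil
          refine ⟨0, ?_⟩
          rw [map_zero]
          exact (sub_self _).symm
        · refine hmiss _ ?_ _
          rw [Set.disjoint_right]
          rintro x ⟨hxi, hxl⟩ hxs
          rcases i with _ | z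
          · exact hxi hxs
          rcases l with _ | z'
          · exact hxl hxs
          exact hil (congrArg some (Subtype.ext ((hUz z x hxi hxs).symm.trans (hUz z' x hxl hxs)))))
    obtain ⟨a, ha⟩ := (PointBlow.ρ_bijective hA hb).2 (val f (IsLocalRing.maximalIdeal A) d ⊤ g)
    have had : a ∈ IsLocalRing.maximalIdeal A ^ d := PointBlow.mem_pow hA hb d a fun V => by
      rw [← res_ρ f (le_top : V.1 ≤ ⊤), ha, ← val_map]
      exact val_mem f _ _ V _
    refine ⟨⟨a, had⟩, funext fun z => ?_⟩
    obtain ⟨y, hy⟩ := hg (some z)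
    have h1 := val_mem f I 1 (U z) y
    rw [← hjval] at h1
    have h2 : val f (IsLocalRing.maximalIdeal A) d (U z).1 (j.app (U z).1 y) =
        (c z ⟨a, had⟩ - e z) * τ z := by
      rw [show j.app (U z).1 y = _ from hy, sub_mul, hc]
      refine (map_sub (((ClSub.idealModι (FibrePow.I f (IsLocalRing.maximalIdeal A) d)).app
        (U z).1).hom) _ _).trans ?_
      show val f (IsLocalRing.maximalIdeal A) d (U z).1 _ -
        val f (IsLocalRing.maximalIdeal A) d (U z).1 (sz z) = _
      rw [hsz]
      refine congrArg (fun q => q - e z * τ z) ((val_map f (IsLocalRing.maximalIdeal A)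
        (le_top : (U z).1 ≤ ⊤) g).trans ?_)
      rw [← ha, res_ρ]
    rw [ideal_I, pow_one, ← hIO, hdV, hNd, h2, Ideal.mem_mul_span_singleton] at h1
    obtain ⟨x, hx, hxe⟩ := h1
    have h3 : c z ⟨a, had⟩ - e z ∈ RingHom.ker (I'.subschemeι.app (U z).1).hom := by
      rw [Scheme.IdealSheafData.ker_subschemeι_app, ← hτc z _ _ hxe]
      exact hx
    show I'.subschemeι.app (U z).1 (c z ⟨a, had⟩) = w z
    rw [RingHom.mem_ker, map_sub, sub_eq_zero] at h3
    exact h3.trans (he z)
  -- the comparison with sections of the quotient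
  letI := Curves.GlobalSections.secModule A (ClSub.quotMod I')
  have hres : ∀ (z : S), I'.subschemeι ⁻¹ᵁ (U z).1 ≤ I'.subschemeι ⁻¹ᵁ ⊤ :=
    fun z _ _ => trivial
  let R : ((ClSub.quotMod I').val.obj (op ⊤) : Type u) →ₗ[A] ((z : S) → W z) :=
    { toFun := fun x z => I'.subscheme.presheaf.map (homOfLE (hres z)).op
        (x : Γ(I'.subscheme, I'.subschemeι ⁻¹ᵁ ⊤))
      map_add' := fun x y => funext fun z =>
        map_add (I'.subscheme.presheaf.map (homOfLE (hres z)).op).hom _ _
      map_smul' := fun s x => funext fun z => by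
        show I'.subscheme.presheaf.map (homOfLE (hres z)).op
          ((I'.subschemeι.app ⊤ (Coh.toGlobal f s)) * (@id Γ(I'.subscheme, I'.subschemeι ⁻¹ᵁ ⊤) x)) =
            ζ z s * _
        rw [map_mul]
        congr 1
        show _ = I'.subschemeι.app (U z).1 (ρ f (U z).1 s)
        show _ = I'.subschemeι.app (U z).1
          (X.presheaf.map (homOfLE (le_top : (U z).1 ≤ ⊤)).op (Coh.toGlobal f s))
        exact (congrArg (fun φ => φ (Coh.toGlobal f s))
          (I'.subschemeι.naturality (homOfLE (le_top : (U z).1 ≤ ⊤)).op)).symm }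
  have hsupp : ∀ p : I'.subscheme, I'.subschemeι p ∈ (I'.support : Set X) := fun p => by
    rw [← Scheme.IdealSheafData.range_subschemeι]; exact ⟨p, rfl⟩
  have hinjι : Function.Injective I'.subschemeι := I'.subschemeι.isClosedEmbedding.injective
  have hR : Function.Bijective R := by
    have key : ∀ w : (z : S) → W z, ∃! x : Γ(I'.subscheme, I'.subschemeι ⁻¹ᵁ ⊤),
        ∀ z : S, I'.subscheme.presheaf.map (homOfLE (hres z)).op x = w z := by
      intro w
      refine I'.subscheme.sheaf.existsUnique_gluing' (fun z : S => I'.subschemeι ⁻¹ᵁ (U z).1)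
        (I'.subschemeι ⁻¹ᵁ ⊤) (fun z => homOfLE (hres z)) (fun p _ => ?_) w (fun z z' => ?_)
      · exact Opens.mem_iSup.2 ⟨⟨_, hsupp p⟩, hzU _⟩
      by_cases h : z = z'
      · subst h; rfl
      have hb0 : (I'.subschemeι ⁻¹ᵁ (U z).1) ⊓ (I'.subschemeι ⁻¹ᵁ (U z').1) = ⊥ := by
        refine Opens.ext (Set.eq_empty_iff_forall_notMem.2 fun p hp => h (Subtype.ext ?_))
        exact (hUz z _ hp.1 (hsupp p)).symm.trans (hUz z' _ hp.2 (hsupp p))
      haveI : Subsingleton Γ(I'.subscheme,
          (I'.subschemeι ⁻¹ᵁ (U z).1) ⊓ (I'.subschemeι ⁻¹ᵁ (U z').1)) := by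
        rw [hb0]; infer_instance
      exact Subsingleton.elim (α := Γ(I'.subscheme,
        (I'.subschemeι ⁻¹ᵁ (U z).1) ⊓ (I'.subschemeι ⁻¹ᵁ (U z').1))) _ _
    exact ⟨fun x y h => (key (R y)).unique (fun z => congrFun h z) (fun z => rfl),
      fun w => let ⟨x, hx, _⟩ := key w; ⟨x, funext hx⟩⟩
  have hlen : Module.length A (Coh.HH X (ClSub.quotMod I') 0) = Module.length A ((z : S) → W z) :=
    ((Curves.GlobalSections.h0Linear A (ClSub.quotMod I')).trans
      (LinearEquiv.ofBijective R hR)).length_eq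
  refine ⟨hd0, hfin, hcl, ?_, ?_⟩
  · rw [hlen]
    have hfl : IsFiniteLength A (A ⧸ I) := IsFiniteLength.of_surjective
      (InjHull.Complete.isFiniteLength_quotient_pow (R := A) (IsLocalRing.maximalIdeal A) n)
      (f := Submodule.factor hIn) (Submodule.factor_surjective hIn)
    haveI := (isFiniteLength_iff_isNoetherian_isArtinian.1 hfl).1
    haveI := (isFiniteLength_iff_isNoetherian_isArtinian.1 hfl).2
    let K := Submodule.comap (IsLocalRing.maximalIdeal A ^ d).subtype I
    let L : ↥(IsLocalRing.maximalIdeal A ^ d) →ₗ[A] A ⧸ I :=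
      (Submodule.mkQ I).comp (IsLocalRing.maximalIdeal A ^ d).subtype
    have hL : LinearMap.ker L = K := by
      rw [LinearMap.ker_comp, Submodule.ker_mkQ]
    refine (Module.length_le_of_surjective (K.liftQ ψ hker) fun w => ?_).trans_lt ?_
    · obtain ⟨a, ha⟩ := hψ w
      exact ⟨Submodule.Quotient.mk a, ha⟩
    rw [← hL, L.quotKerEquivRange.length_eq]
    refine Submodule.length_lt fun htop => ?_
    obtain ⟨a, ha⟩ := htop.ge (Submodule.mem_top (x := Submodule.Quotient.mk (1 : A)))
    have h1 : (a.1 : A) - 1 ∈ I := (Submodule.Quotient.eq I).1 ha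
    have h2 : (a.1 : A) ∈ IsLocalRing.maximalIdeal A := Ideal.pow_le_self hd0.ne' a.2
    have h3 : (1 : A) ∈ IsLocalRing.maximalIdeal A := by
      simpa using Ideal.sub_mem _ h2 (hIm h1)
    exact (IsLocalRing.maximalIdeal.isMaximal A).ne_top ((Ideal.eq_top_iff_one _).2 h3)
  · rw [hlen, Module.length_pi_of_fintype]
    let e : I'.subscheme ≃ S := Equiv.ofBijective (fun p => ⟨_, hsupp p⟩)
      ⟨fun p q h => hinjι (congrArg Subtype.val h), fun z => by
        obtain ⟨p, hp⟩ := (Scheme.IdealSheafData.range_subschemeι I').ge z.2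
        exact ⟨p, Subtype.ext hp⟩⟩
    letI : Fintype I'.subscheme := Fintype.ofEquiv S e.symm
    rw [finsum_eq_sum_of_fintype, ← e.sum_comp]
    refine Finset.sum_le_sum fun p _ => ?_
    have hp : p ∈ I'.subschemeι ⁻¹ᵁ (U (e p)).1 := hzU (e p)
    have hbij := germ_bijective p _ hp fun q hq => hinjι (hUz (e p) _ hq (hsupp q))
    letI : Algebra A (I'.subscheme.presheaf.stalk p) :=
      ((I'.subscheme.presheaf.germ _ p hp).hom.comp (ζ (e p))).toAlgebra
    let ε : W (e p) →ₗ[A] I'.subscheme.presheaf.stalk p :=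
      { toFun := fun x => I'.subscheme.presheaf.germ _ p hp x
        map_add' := fun x y => map_add (I'.subscheme.presheaf.germ _ p hp).hom x y
        map_smul' := fun s x => by
          show I'.subscheme.presheaf.germ _ p hp (ζ (e p) s * x) = _
          rw [map_mul, Algebra.smul_def]
          rfl }
    rw [(LinearEquiv.ofBijective ε hbij).length_eq, ← Submodule.topEquiv.length_eq,
      ← (Submodule.topEquiv (R := A) (M := I'.subscheme.presheaf.stalk p)).length_eq]
    exact (Submodule.length_le_length_restrictScalars A ⊤).trans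
      (le_of_eq (LinearEquiv.ofEq _ _ (Submodule.restrictScalars_top A _ _)).length_eq)

end Groth.Agent.S7360
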