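import Groth.Statements.S1648
import Groth.Agent.Lib.Amp36.Modif.PointBlow
import Groth.Agent.Lib.Amp36.Modif.Induct
import Groth.Agent.Lib.BlowUpExists.Exists
import Groth.Agent.Lib.Cohen.NagataFormalFibres
import Groth.Agent.Lib.DvrCrit.EssFT
import Groth.Agent.Lib.RefHull.SubStalk
import Groth.Agent.S7360
import Groth.Agent.S1622
import Groth.Agent.S1274

set_option autoImplicit false
universe u
open CategoryTheory CategoryTheory.Limits AlgebraicGeometry
open Resolve

namespace Groth.Agent.S1648

open Groth.Agent Groth.Agent.Lib TopologicalSpace Opposite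
open Groth.Agent.Lib.Amp36.Modif

theorem support_subset {A : Type u} [CommRing A] [IsRegularLocalRing A] {I : Ideal A} {N : ℕ}
    (h : IsLocalRing.maximalIdeal A ^ N ≤ I) :
    ((Curv2.idealSheaf A I).support : Set (Spec (CommRingCat.of A))) ⊆ {IsLocalRing.closedPoint A} := by
  intro x hx
  have h1 := PointBlow.support_comap_subset (f := 𝟙 (Spec (CommRingCat.of A))) h
  rw [Scheme.IdealSheafData.comap_id] at h1
  exact h1 hx

theorem idealSheaf_comap_top {B : CommRingCat.{u}} (J : (Spec B).IdealSheafData) :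
    Curv2.idealSheaf B ((J.ideal ⟨⊤, isAffineOpen_top _⟩).comap (Scheme.ΓSpecIso B).inv.hom) = J := by
  refine Scheme.IdealSheafData.ext_of_isAffine ?_
  rw [PointBlow85.idealSheaf_top]
  exact Ideal.map_comap_of_surjective _ (ConcreteCategory.bijective_of_isIso (Scheme.ΓSpecIso B).inv).2 _

/-- The colength of the residual ideal in a local ring is the length of the local ring of the residual scheme. -/
theorem length_stalk {X : Scheme.{u}} (J : X.IdealSheafData) (p : J.subscheme) :
    Module.length (X.presheaf.stalk (J.subschemeι p))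
        (X.presheaf.stalk (J.subschemeι p) ⧸
          (((J.comap (X.fromSpecStalk (J.subschemeι p))).ideal ⟨⊤, isAffineOpen_top _⟩).comap
            (Scheme.ΓSpecIso (X.presheaf.stalk (J.subschemeι p))).inv.hom)) =
      Module.length (J.subscheme.presheaf.stalk p) (J.subscheme.presheaf.stalk p) := by
  obtain ⟨U, hU, hxU, -⟩ := exists_isAffineOpen_mem_and_subset (U := (⊤ : X.Opens))
    (x := J.subschemeι p) trivial
  have hle : (⊤ : (Spec (X.presheaf.stalk (J.subschemeι p))).Opens) ≤
      (X.fromSpecStalk (J.subschemeι p)) ⁻¹ᵁ U := fun z _ => by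
    have h : X.fromSpecStalk (J.subschemeι p) z ⤳ J.subschemeι p := by
      have h1 : (X.fromSpecStalk (J.subschemeι p) z) ∈ Set.range (X.fromSpecStalk (J.subschemeι p)) :=
        ⟨z, rfl⟩
      rwa [Scheme.range_fromSpecStalk] at h1
    exact h.mem_open U.2 hxU
  have hI₁ : ((J.comap (X.fromSpecStalk (J.subschemeι p))).ideal ⟨⊤, isAffineOpen_top _⟩).comap
      (Scheme.ΓSpecIso (X.presheaf.stalk (J.subschemeι p))).inv.hom =
      RingHom.ker (J.subschemeι.stalkMap p).hom := by
    rw [Ideal.Comap.ideal_comap _ J ⟨U, hU⟩ ⟨⊤, isAffineOpen_top _⟩ hle,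
      RefHull.SubStalk.ker_stalkMap J (S := (J.ideal ⟨U, hU⟩ : Set Γ(X, U))) (U := ⟨U, hU⟩)
        (Ideal.span_eq _).symm p hxU, ← Ideal.map]
    have e : ((X.fromSpecStalk (J.subschemeι p)).appLE U ⊤ hle).hom =
        (Scheme.ΓSpecIso (X.presheaf.stalk (J.subschemeι p))).inv.hom.comp
          (X.presheaf.germ U _ hxU).hom := by
      rw [← CommRingCat.hom_comp, Scheme.Hom.appLE, Scheme.fromSpecStalk_app hxU]
      simp only [Category.assoc, ← Functor.map_comp]
      erw [CategoryTheory.Functor.map_id]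
      rfl
    rw [e, ← Ideal.map_map]
    exact Ideal.comap_map_of_bijective _ (ConcreteCategory.bijective_of_isIso _)
  rw [hI₁]
  letI : Algebra (X.presheaf.stalk (J.subschemeι p)) (J.subscheme.presheaf.stalk p) :=
    (J.subschemeι.stalkMap p).hom.toAlgebra
  have hs : Function.Surjective (algebraMap (X.presheaf.stalk (J.subschemeι p))
      (J.subscheme.presheaf.stalk p)) := RefHull.SubStalk.stalkMap_surjective _ p
  rw [← Module.length_eq_of_surjective (R := J.subscheme.presheaf.stalk p)
    (M := J.subscheme.presheaf.stalk p) hs]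
  exact (LinearMap.quotKerEquivOfSurjective
    (Algebra.linearMap (X.presheaf.stalk (J.subschemeι p)) (J.subscheme.presheaf.stalk p)) hs).length_eq

set_option backward.isDefEq.respectTransparency.types false in
/-- A normal scheme finite over the blow-up of a regular local surface in an ideal of finite colength
has no first cohomology. -/
theorem h1_eq_zero (n : ℕ) : ∀ (A : Type u) [CommRing A] [IsRegularLocalRing A],
    CAlg.IsNagata A → ringKrullDim A = 2 → ∀ I : Ideal A, Module.length A (A ⧸ I) ≤ (n : ℕ∞) →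
    ∀ (Y : Scheme.{u}) (b : Y ⟶ Spec (CommRingCat.of A)), BlowUp.IsBlowUp b (Curv2.idealSheaf A I) →
    ∀ (W : Scheme.{u}) [IsIntegral W], Pi1.IsNormalScheme W → ∀ (h : W ⟶ Y) [IsFinite h],
      (∃ U : (Spec (CommRingCat.of A)).Opens, (U : Set (Spec (CommRingCat.of A))).Nonempty ∧
        IsIso ((h ≫ b) ∣_ U)) →
      Subsingleton (Coh.HH W (Coh.structureModule W) 1) := by
  induction n using Nat.strong_induction_on with
  | _ n ih =>
  intro A _ _ hN hdim I hI Y b hb W _ hWn h _ hbir
  classical
  by_cases hI1 : I = ⊤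
  · refine Induct.subsingleton_H1_of_top ?_ hb h
    have e : Curv2.idealSheaf A I = ⊤ := Scheme.IdealSheafData.ext_of_isAffine (by
      rw [PointBlow85.idealSheaf_top, hI1, Ideal.map_top]
      simp)
    rw [e]; simp
  have hIm : I ≤ IsLocalRing.maximalIdeal A := IsLocalRing.le_maximalIdeal hI1
  haveI : IsDomain A := Regular.Quotient.isDomain A
  haveI := Regular.UFD.isIntegrallyClosed A
  have hfl : IsFiniteLength A (A ⧸ I) :=
    Module.length_ne_top_iff.1 (ne_top_of_le_ne_top (ENat.natCast_ne_top n) hI)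
  haveI := (isFiniteLength_iff_isNoetherian_isArtinian.1 hfl).2
  haveI : IsArtinianRing (A ⧸ I) := isArtinian_of_tower A inferInstance
  obtain ⟨N, hIN⟩ := IsLocalRing.exists_maximalIdeal_pow_le_of_isArtinianRing_quotient I
  -- the blow-up of the closed point
  obtain ⟨X, fX, hX⟩ := BlowUpExists.exists_isBlowUp (Spec (CommRingCat.of A))
    (Curv2.idealSheaf A (IsLocalRing.maximalIdeal A))
  haveI := PointBlow.isProper hX
  haveI := PointBlow85.isIntegral hdim hX
  haveI : IsLocallyNoetherian X := LocallyOfFiniteType.isLocallyNoetherian fX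
  haveI : IsProper b := BlowUpExists.isProper_of_isBlowUp hb fun V => by
    haveI : IsNoetherianRing Γ(Spec (CommRingCat.of A), V.1) :=
      IsLocallyNoetherian.component_noetherian V
    exact IsNoetherian.noetherian _
  letI : X.Over (Spec (CommRingCat.of A)) := ⟨fX⟩
  obtain ⟨d, I', hd, hmax⟩ := PointBlow.exists_decomp hdim hX I N hIN
  obtain ⟨hfin, hcl, hfib, η, hηF, hηI, hηgen⟩ := PointBlow.residual_support hdim hX hIN hd hmax
  obtain ⟨-, -, -, hlt, hsum⟩ := S7360.result A hdim X hX I N hIN hIm d I' hd hmax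
  obtain ⟨hXirr, hXreg⟩ := S1622.result A hdim X fX hX
  have hXn : Pi1.IsNormalScheme X := fun z => by
    haveI := hXreg z
    exact ⟨Regular.Quotient.isDomain _, Regular.UFD.isIntegrallyClosed _⟩
  -- the blow-up of the residual ideal
  obtain ⟨Y', b'', hb''⟩ := BlowUpExists.exists_isBlowUp X I'
  haveI : IsProper b'' := BlowUpExists.isProper_of_isBlowUp hb'' fun V => by
    haveI : IsNoetherianRing Γ(X, V.1) := IsLocallyNoetherian.component_noetherian V
    exact IsNoetherian.noetherian _
  have hK : BlowUp.IsBlowUp (b'' ≫ fX)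
      (Curv2.idealSheaf A (IsLocalRing.maximalIdeal A) * Curv2.idealSheaf A I) := by
    refine Ideal.BlowUp.isBlowUp_comp_mul hX ?_
    rw [hd]
    exact Ideal.BlowUp.isBlowUp_mul_effCartier (Ideal.EffCartier.isEffCartier_pow hX.1 d) hb''
  have hI' : BlowUp.IsEffCartierIdeal ((Curv2.idealSheaf A I).comap (b'' ≫ fX)) := by
    have h1 := hK.1
    rw [Ideal.Comap.comap_mul] at h1
    exact Ideal.EffCartier.isEffCartier_factor_right h1
  obtain ⟨u, hu, -⟩ := hb.2 Y' (b'' ≫ fX) hI'
  haveI : IsProper (b'' ≫ fX) := inferInstance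
  -- a modification dominating both
  obtain ⟨U, hU, hUiso⟩ := hbir
  haveI := hUiso
  let V : (Spec (CommRingCat.of A)).Opens :=
    ⟨{IsLocalRing.closedPoint A}ᶜ, (Flat55.ContractionFibre.isClosed_closedPoint (A := A)).isOpen_compl⟩
  have hV : (V : Set (Spec (CommRingCat.of A))).Nonempty :=
    ⟨genericPoint (Spec (CommRingCat.of A)), PointBlow.closedPoint_ne_genericPoint hdim⟩
  have hUV : ((U ⊓ V : (Spec (CommRingCat.of A)).Opens) : Set (Spec (CommRingCat.of A))).Nonempty :=
    nonempty_preirreducible_inter U.2 V.2 hU hV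
  haveI : IsIso ((h ≫ b) ∣_ (U ⊓ V)) := ModPair.isIso_restrict_of_le _ inf_le_left
  have hdI : Disjoint ((Curv2.idealSheaf A I).support : Set (Spec (CommRingCat.of A)))
      ((U ⊓ V : (Spec (CommRingCat.of A)).Opens) : Set _) :=
    Set.disjoint_left.2 fun z hz hz' => hz'.2 (support_subset hIN hz)
  have hdm : Disjoint ((Curv2.idealSheaf A (IsLocalRing.maximalIdeal A) * Curv2.idealSheaf A I).support :
      Set (Spec (CommRingCat.of A))) ((U ⊓ V : (Spec (CommRingCat.of A)).Opens) : Set _) := by
    refine Set.disjoint_left.2 fun z hz hz' => ?_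
    rw [Scheme.IdealSheafData.support_mul] at hz
    rcases hz with hz | hz
    · exact hz'.2 (support_subset (I := IsLocalRing.maximalIdeal A) (N := 1) (by rw [pow_one]) hz)
    · exact hz'.2 (support_subset hIN hz)
  obtain ⟨W', h', v, hh', hv, hmod'⟩ :=
    Induct.exists_dominating hN hb hK u hu h (U ⊓ V) hUV hdI hdm
  haveI := hh'
  haveI : IsProper (h ≫ b) := inferInstance
  have hle := (S7330.le_and_vanish hdim (X₀ := W) (X := W') (f₀ := h ≫ b)
    ⟨inferInstance, inferInstance, hWn, U, hU, hUiso⟩ hmod' v hv).1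
  suffices hW' : Subsingleton (Coh.HH W' (Coh.structureModule W') 1) by
    letI : W.Over (Spec (CommRingCat.of A)) := ⟨h ≫ b⟩
    letI : W'.Over (Spec (CommRingCat.of A)) := ⟨h' ≫ b'' ≫ fX⟩
    refine (Module.length_eq_zero_iff (R := A)).1 (le_antisymm ?_ bot_le)
    exact hle.trans ((Module.length_eq_zero_iff (R := A)).2 hW').le
  obtain ⟨-, hint', hn', U', hU', hU'iso⟩ := hmod'
  haveI := hint'
  haveI := hU'iso
  obtain ⟨U₀, hU₀, hU₀iso⟩ := PointBlow.exists_iso hdim hX
  haveI := hU₀iso
  have hU2 : ((U₀ ⊓ U' : (Spec (CommRingCat.of A)).Opens) : Set (Spec (CommRingCat.of A))).Nonempty :=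
    nonempty_preirreducible_inter U₀.2 U'.2 hU₀ hU'
  haveI : IsIso (fX ∣_ (U₀ ⊓ U')) := ModPair.isIso_restrict_of_le _ inf_le_left
  haveI : IsIso ((h' ≫ b'' ≫ fX) ∣_ (U₀ ⊓ U')) := ModPair.isIso_restrict_of_le _ inf_le_right
  let ρ : W' ⟶ X := h' ≫ b''
  haveI : IsIso (ρ ∣_ (fX ⁻¹ᵁ (U₀ ⊓ U'))) :=
    Amp36.Modif.Birat.isIso_restrict (h' ≫ b'' ≫ fX) (U₀ ⊓ U') ρ fX (Category.assoc _ _ _)
  have hXne : ((fX ⁻¹ᵁ (U₀ ⊓ U') : X.Opens) : Set X).Nonempty := by
    obtain ⟨z, hz⟩ := hU2
    obtain ⟨a, ha⟩ := Amp36.Modif.Birat.exists_apply_eq fX (U₀ ⊓ U') hz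
    exact ⟨a, show fX a ∈ U₀ ⊓ U' by rw [ha]; exact hz⟩
  refine Induct.subsingleton_H1_of_local fX hXn ρ _ hXne
    (S1624.result A hdim X fX hX _ (TensorMod.QCohInv.isQCoh_structureModule X)
      (H34.GlobGen.gg_structureModule X)) fun x hxc => ?_
  -- over a closed point
  let j := X.fromSpecStalk x
  haveI : Flat j := Unram.BaseChangeNhd.flat_fromSpecStalk x
  have hb₁ := Ideal.BlowUp.isBlowUp_flat_baseChange j hb''
  let P := pullback ρ j
  let hP : P ⟶ pullback j b'' := pullback.lift (pullback.snd ρ j) (pullback.fst ρ j ≫ h')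
    (by rw [Category.assoc]; exact pullback.condition.symm)
  have hsq : IsPullback (pullback.fst ρ j) hP h' (pullback.snd j b'') :=
    IsPullback.of_bot (by rw [pullback.lift_fst]; exact IsPullback.of_hasPullback ρ j)
      (pullback.lift_snd _ _ _).symm (IsPullback.of_hasPullback j b'').flip
  haveI : IsFinite hP := MorphismProperty.of_isPullback hsq inferInstance
  by_cases hx : x ∈ (I'.support : Set X)
  swap
  · refine Induct.subsingleton_H1_of_top (Set.eq_empty_iff_forall_notMem.2 fun z hz => hx ?_) hb₁ hP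
    replace hz : j z ∈ (I'.support : Set X) := by
      exact (Scheme.IdealSheafData.support_comap I' j).le hz
    have h1 : j z ∈ Set.range j := ⟨z, rfl⟩
    rw [Scheme.range_fromSpecStalk] at h1
    exact (show j z ⤳ x from h1).mem_closed I'.support.isClosed hz
  obtain ⟨p, rfl⟩ := (Scheme.IdealSheafData.range_subschemeι I').ge hx
  haveI := hXreg (I'.subschemeι p)
  let B := X.presheaf.stalk (I'.subschemeι p)
  have hB2 : ringKrullDim B = 2 := by
    refine le_antisymm ?_ ?_
    · exact (Amp36.Modif.Birat.ringKrullDim_stalk_le fX (U₀ ⊓ U') hU2 2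
        ((PrimeSpectrum.topologicalKrullDim_eq_ringKrullDim A).trans hdim).le _)
    · have hrange : ∀ z, z ⤳ I'.subschemeι p → ∃ q : Spec B, j q = z := fun z hz => by
        have h1 : z ∈ Set.range j := by rw [Scheme.range_fromSpecStalk]; exact hz
        exact h1
      have hxF : fX (I'.subschemeι p) = IsLocalRing.closedPoint A := hfib hx
      obtain ⟨q₁, hq₁⟩ := hrange η (hηgen _ hxF)
      obtain ⟨q₀, hq₀⟩ := hrange (genericPoint X) (genericPoint_specializes _)
      obtain ⟨q₂, hq₂⟩ := hrange _ specializes_rfl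
      have hlt : ∀ a c : Spec B, j a ⤳ j c → j a ≠ j c →
          (a : PrimeSpectrum B).asIdeal < (c : PrimeSpectrum B).asIdeal := fun a c hac hne =>
        lt_of_le_of_ne ((PrimeSpectrum.le_iff_specializes a c).2 (j.isEmbedding.isInducing.specializes_iff.1 hac))
          fun h => hne (congrArg j (PrimeSpectrum.ext h))
      have h01 : (q₀ : PrimeSpectrum B).asIdeal < (q₁ : PrimeSpectrum B).asIdeal := by
        refine hlt _ _ (by rw [hq₀]; exact genericPoint_specializes _) ?_
        rw [hq₀, hq₁]
        intro h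
        obtain ⟨hg, -⟩ := S15137.gen_props fX (U₀ ⊓ U') hU2
        exact PointBlow.closedPoint_ne_genericPoint hdim (hg.symm.trans (h ▸ hηF))
      have h12 : (q₁ : PrimeSpectrum B).asIdeal < (q₂ : PrimeSpectrum B).asIdeal := by
        refine hlt _ _ (by rw [hq₁, hq₂]; exact hηgen _ hxF) ?_
        rw [hq₁, hq₂]
        exact fun h => hηI (h ▸ hx)
      let l : LTSeries (PrimeSpectrum B) :=
        ((RelSeries.singleton _ (q₀ : PrimeSpectrum B)).snoc q₁ h01).snoc q₂
          (by rw [RelSeries.last_snoc]; exact h12)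
      exact Order.LTSeries.length_le_krullDim l
  have hBN : CAlg.IsNagata B := by
    let ψ : CommRingCat.of A ⟶ B := Spec.preimage (j ≫ fX)
    have hψ : Spec.map ψ = j ≫ fX := Spec.map_preimage _
    letI : Algebra A B := ψ.hom.toAlgebra
    haveI : Algebra.EssFiniteType A B := by
      obtain ⟨V, φ, hVφ, hφ⟩ := DvrCrit.exists_essFiniteType_stalk fX (I'.subschemeι p)
      let ιV : CommRingCat.of A ⟶ Γ(Spec (CommRingCat.of A), V.1) := Spec.preimage V.2.fromSpec
      have e : ψ = ιV ≫ φ := Spec.map_injective (by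
        rw [Spec.map_comp, hψ]
        exact hVφ.symm.trans (congrArg (Spec.map φ ≫ ·) (Spec.map_preimage V.2.fromSpec).symm))
      have hι : ιV.hom.FiniteType := by
        refine (HasRingHomProperty.Spec_iff (P := @LocallyOfFiniteType)).1 ?_
        rw [Spec.map_preimage]
        infer_instance
      show ψ.hom.EssFiniteType
      rw [e]
      exact Normalization.Relative.essFiniteType_comp hι.essFiniteType hφ
    exact Cohen.NagataFormalFibres.isNagata_of_essFiniteType hN
  let I₁ : Ideal B := ((I'.comap j).ideal ⟨⊤, isAffineOpen_top _⟩).comap (Scheme.ΓSpecIso B).inv.hom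
  haveI : Finite ↥(I'.support : Set X) := hfin.to_subtype
  haveI : Finite I'.subscheme := Finite.of_injective
    (fun q => (⟨I'.subschemeι q, (Scheme.IdealSheafData.range_subschemeι I').le ⟨q, rfl⟩⟩ :
      ↥(I'.support : Set X)))
    fun a c h => I'.subschemeι.isClosedEmbedding.injective (congrArg Subtype.val h)
  letI := Fintype.ofFinite I'.subscheme
  have hlen : Module.length B (B ⧸ I₁) < Module.length A (A ⧸ I) := by
    refine lt_of_le_of_lt ?_ hlt
    refine le_trans ?_ hsum
    rw [finsum_eq_sum_of_fintype, length_stalk I' p]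
    exact Finset.single_le_sum (f := fun q : I'.subscheme =>
      Module.length (I'.subscheme.presheaf.stalk q) (I'.subscheme.presheaf.stalk q))
      (fun _ _ => bot_le) (Finset.mem_univ p)
  obtain ⟨m, hm⟩ := ENat.ne_top_iff_exists.1 (ne_top_of_lt hlen)
  have hmn : m < n := by
    have h1 := lt_of_lt_of_le hlen hI
    rw [← hm] at h1
    exact_mod_cast h1
  obtain ⟨hgρ, -⟩ := S15137.gen_props ρ _ hXne
  obtain ⟨hPint, hPn, U₁, hU₁, hU₁iso⟩ := S15137.localScheme_props ρ hn' hgρ _ hXne (I'.subschemeι p)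
  haveI := hPint
  refine ih m hmn B hBN hB2 I₁ hm.ge (pullback j b'') (pullback.fst j b'') ?_ P hPn hP
    ⟨U₁, hU₁, ?_⟩
  · rw [idealSheaf_comap_top]; exact hb₁
  · rw [pullback.lift_fst]; exact hU₁iso

set_option backward.isDefEq.respectTransparency.types false in
/-- A normal modification of a normal local surface is an isomorphism over the punctured spectrum. -/
theorem isIso_punctured {A : Type u} [CommRing A] [IsRegularLocalRing A] [IsDomain A]
    [IsIntegrallyClosed A] (hdim : ringKrullDim A = 2) {W : Scheme.{u}} [IsIntegral W]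
    (_hWn : Pi1.IsNormalScheme W) (f : W ⟶ Spec (CommRingCat.of A)) [IsProper f]
    (U : (Spec (CommRingCat.of A)).Opens) (hU : (U : Set (Spec (CommRingCat.of A))).Nonempty)
    [IsIso (f ∣_ U)] :
    IsIso (f ∣_ ⟨{IsLocalRing.closedPoint A}ᶜ,
      (Flat55.ContractionFibre.isClosed_closedPoint (A := A)).isOpen_compl⟩) := by
  set V : (Spec (CommRingCat.of A)).Opens := ⟨{IsLocalRing.closedPoint A}ᶜ,
      (Flat55.ContractionFibre.isClosed_closedPoint (A := A)).isOpen_compl⟩ with hVdef
  have hSn := RatSing74.FiniteExt.spec_isNormalScheme A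
  have h2 : ∀ w : Spec (CommRingCat.of A),
      ringKrullDim ((Spec (CommRingCat.of A)).presheaf.stalk w) ≤ 2 := fun w =>
    (Cyc.TorPD.ringKrullDim_stalk_le w).trans
      ((PrimeSpectrum.topologicalKrullDim_eq_ringKrullDim A).trans hdim).le
  haveI : LocallyQuasiFinite (f ∣_ V) := LocallyQuasiFinite.of_finite_preimage_singleton _ fun z => by
    refine Set.Subsingleton.finite fun a ha c hc => Subtype.ext ?_
    refine Amp36.Modif.Birat.subsingleton_fibre f U hU hSn h2 (w := z.1) (fun hz => ?_) ?_ ?_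
    · exact z.2 ((IsLocalRing.specializes_closedPoint (R := A) z.1).mem_closed hz rfl).symm
    · exact (morphismRestrict_base_coe f V a).symm.trans (congrArg Subtype.val ha)
    · exact (morphismRestrict_base_coe f V c).symm.trans (congrArg Subtype.val hc)
  haveI : IsIso (f ∣_ V).toNormalization :=
    (isIso_iff_isOpenImmersion_and_surjective _).mpr ⟨inferInstance, inferInstance⟩
  obtain ⟨hgen, hst⟩ := S15137.gen_props f U hU
  haveI := ZMTStein.isIso_fromNormalization (f ∣_ V) fun O hO => by
    haveI := H34.Stein.isIso_app_of_birational f hSn hgen hst (V.ι ''ᵁ O)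
    haveI : IsIso ((f ∣_ V).app O) := by
      rw [morphismRestrict_app]
      exact IsIso.comp_isIso' ‹_› (Functor.map_isIso W.presheaf _)
    exact ConcreteCategory.bijective_of_isIso _
  rw [← (f ∣_ V).toNormalization_fromNormalization]
  infer_instance

set_option backward.isDefEq.respectTransparency.types false in
/-- The normalisation of a blow-up of a Nagata surface. -/
theorem exists_normalization {A : Type u} [CommRing A] [IsDomain A] [IsNoetherianRing A]
    (hN : CAlg.IsNagata A) {X : Scheme.{u}} {b : X ⟶ Spec (CommRingCat.of A)}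
    {J : (Spec (CommRingCat.of A)).IdealSheafData} (hb : BlowUp.IsBlowUp b J) (hJne : J ≠ ⊥) :
    ∃ (W : Scheme.{u}) (h : W ⟶ X) (_ : IsFinite h) (_ : IsIntegral W), Pi1.IsNormalScheme W ∧
      ∃ U : (Spec (CommRingCat.of A)).Opens, (U : Set (Spec (CommRingCat.of A))).Nonempty ∧
        IsIso ((h ≫ b) ∣_ U) := by
  obtain ⟨hXi, hgen, hres⟩ := Groth.Agent.S2348.result J hJne b hb
  haveI := hXi
  haveI : IsProper b := BlowUpExists.isProper_of_isBlowUp hb fun U => by
    haveI : IsNoetherianRing Γ(Spec (CommRingCat.of A), U.1) :=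
      IsLocallyNoetherian.component_noetherian U
    exact IsNoetherian.noetherian _
  haveI : IsLocallyNoetherian X := LocallyOfFiniteType.isLocallyNoetherian b
  haveI : CompactSpace X := QuasiCompact.compactSpace_of_compactSpace b
  haveI : IsNoetherian X := {}
  have : Subsingleton (Spec (X.presheaf.stalk (genericPoint X))) :=
    inferInstanceAs (Subsingleton (PrimeSpectrum X.functionField))
  have : AlgebraicGeometry.IsIntegral (Spec X.functionField) := inferInstance
  have : AlgebraicGeometry.IsReduced (Spec (X.presheaf.stalk (genericPoint X))) :=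
    inferInstanceAs (AlgebraicGeometry.IsReduced (Spec X.functionField))
  haveI : IsFinite (Curv2.normalizationι X) :=
    Groth.Agent.S9674.result _ (Amp36.Modif.Extend.isNagata_sections hN b) (locallyFinite_of_finite _)
      fun y _ => RingHom.FiniteType.essFiniteType (RingHom.FiniteType.of_surjective _
        (S1649.residueFieldMap_surjective _ y ((X.fromSpecStalk (genericPoint X)).stalkMap_surjective y)))
  obtain ⟨_, hn, _, hνgen, hνres⟩ := Groth.Agent.S2351.result X
  let ν := Curv2.normalizationι X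
  refine ⟨Curv2.normalization X, ν, inferInstance, inferInstance, hn, ?_⟩
  refine Groth.Agent.H22.Birational12426.exists_isIso_open _ ?_ ?_
  · rw [Scheme.Hom.comp_apply]
    exact (congrArg b.base hνgen).trans hgen
  · rw [Scheme.residueFieldMap_comp]
    refine hνres.comp (show Function.Bijective (b.residueFieldMap (ν (genericPoint _))).hom from ?_)
    have key : ∀ y : X, y = genericPoint X → Function.Bijective (b.residueFieldMap y).hom := by
      rintro _ rfl; exact hres
    exact key _ hνgen

/-- A Nagata regular local ring of dimension two defines a rational singularity: every normal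
modification of its spectrum has vanishing H^1 of the structure sheaf. -/
theorem result (A : Type u) [CommRing A] [IsRegularLocalRing A] (hN : CAlg.IsNagata A)
    (hdim : ringKrullDim A = 2) : Curv2.IsRationalSing A := by
  classical
  intro W f hf hWi hWn hbir
  haveI := hf
  haveI := hWi
  haveI : IsDomain A := Regular.Quotient.isDomain A
  haveI := Regular.UFD.isIntegrallyClosed A
  obtain ⟨U₁, hU₁, hiso₁⟩ := hbir
  haveI := hiso₁
  let V : (Spec (CommRingCat.of A)).Opens :=
    ⟨{IsLocalRing.closedPoint A}ᶜ, (Flat55.ContractionFibre.isClosed_closedPoint (A := A)).isOpen_compl⟩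
  have hV : (V : Set (Spec (CommRingCat.of A))).Nonempty :=
    ⟨genericPoint (Spec (CommRingCat.of A)), PointBlow.closedPoint_ne_genericPoint hdim⟩
  haveI : IsIso (f ∣_ V) := isIso_punctured hdim hWn f U₁ hU₁
  obtain ⟨𝓘, Y, b, hb, ⟨-, hdis⟩, w, hw⟩ := S1274.result f V (NoetherianSpace.isCompact _)
  haveI : IsProper b := BlowUpExists.isProper_of_isBlowUp hb fun O => by
    haveI : IsNoetherianRing Γ(Spec (CommRingCat.of A), O.1) :=
      IsLocallyNoetherian.component_noetherian O
    exact IsNoetherian.noetherian _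
  obtain ⟨W', h', hh', hint', hn', U', hU', hU'iso⟩ := exists_normalization hN hb
    (fun h0 => by
      rw [h0, Scheme.IdealSheafData.support_bot] at hdis
      obtain ⟨z, hz⟩ := hV
      exact Set.disjoint_left.1 hdis trivial hz)
  haveI := hh'
  haveI := hint'
  let I : Ideal A := (𝓘.ideal ⟨⊤, isAffineOpen_top _⟩).comap (Scheme.ΓSpecIso (CommRingCat.of A)).inv.hom
  have h𝓘 : Curv2.idealSheaf A I = 𝓘 := idealSheaf_comap_top 𝓘
  obtain ⟨N, hIN⟩ : ∃ N, IsLocalRing.maximalIdeal A ^ N ≤ I := by
    refine Ideal.exists_pow_le_of_le_radical_of_fg ?_ (IsNoetherian.noetherian _)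
    rw [Ideal.radical_eq_sInf]
    refine le_sInf fun q ⟨hIq, hq⟩ => ?_
    by_contra hne
    let z : Spec (CommRingCat.of A) := (⟨q, hq⟩ : PrimeSpectrum A)
    have hz : z ∈ V := fun hz => hne (by
      have hz' : q = IsLocalRing.maximalIdeal A := congrArg PrimeSpectrum.asIdeal hz
      exact hz'.ge)
    refine Set.disjoint_left.1 hdis ?_ hz
    rw [← h𝓘, SetLike.mem_coe, Scheme.IdealSheafData.mem_support_iff_of_mem (U := ⟨⊤, isAffineOpen_top _⟩) trivial,
      PointBlow85.idealSheaf_top, Scheme.mem_zeroLocus_iff]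
    intro s hs
    obtain ⟨a, ha, rfl⟩ := (Ideal.mem_map_iff_of_surjective _
      (ConcreteCategory.bijective_of_isIso (Scheme.ΓSpecIso (CommRingCat.of A)).inv).2).1 hs
    rw [basicOpen_eq_of_affine]
    exact fun ha' => ha' (hIq ha)
  have hfl : IsFiniteLength A (A ⧸ I) := IsFiniteLength.of_surjective
    (InjHull.Complete.isFiniteLength_quotient_pow (R := A) (IsLocalRing.maximalIdeal A) N)
    (f := Submodule.factor hIN) (Submodule.factor_surjective hIN)
  obtain ⟨n, hn⟩ := ENat.ne_top_iff_exists.1 (Module.length_ne_top_iff.2 hfl)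
  have h0 : Subsingleton (Coh.HH W' (Coh.structureModule W') 1) :=
    h1_eq_zero n A hN hdim I hn.ge Y b (h𝓘.symm ▸ hb) W' hn' h' ⟨U', hU', hU'iso⟩
  letI : W.Over (Spec (CommRingCat.of A)) := ⟨f⟩
  letI : W'.Over (Spec (CommRingCat.of A)) := ⟨h' ≫ b⟩
  refine (Module.length_eq_zero_iff (R := A)).1 (le_antisymm ?_ bot_le)
  exact ((S7330.le_and_vanish hdim (X₀ := W) (X := W') (f₀ := f)
    ⟨hf, hWi, hWn, U₁, hU₁, hiso₁⟩ ⟨inferInstance, hint', hn', U', hU', hU'iso⟩ (h' ≫ w)
    (by rw [Category.assoc, hw])).1).trans ((Module.length_eq_zero_iff (R := A)).2 h0).le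

end Groth.Agent.S1648
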