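import Groth.Statements.S1650
import Groth.Agent.Lib.Amp36.Modif.FibrePow
import Groth.Agent.Lib.Amp36.Modif.Extend
import Groth.Agent.Lib.BlowUpExists.Cover
import Groth.Agent.Lib.BlowUpExists.Proper
import Groth.Agent.Lib.BlowUpExists.Frac
import Groth.Agent.Lib.Ideal.BlowUp
import Groth.Agent.S2348
import Groth.Agent.S2351
import Groth.Agent.S7299

set_option autoImplicit false
universe u
open CategoryTheory CategoryTheory.Limits AlgebraicGeometry
open Resolve

namespace Groth.Agent.S1650

open Groth.Agent Groth.Agent.Lib TopologicalSpace Opposite Polynomial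
open Groth.Agent.Lib.Amp36.Modif.FibrePow

section Algebra

variable {R₀ : Type u} [CommRing R₀] (J : Ideal R₀) (a : R₀)

theorem mk'_eq (x : R₀) :
    IsLocalization.mk' (Localization.Away a) x (⟨a, Submonoid.mem_powers a⟩ : Submonoid.powers a) =
      algebraMap R₀ (Localization.Away a) x * IsLocalization.Away.invSelf a :=
  (IsLocalization.mk'_eq_mul_mk'_one _ _)

theorem mem_of_pow : ∀ (N : ℕ) (y : R₀), y ∈ J ^ N →
    algebraMap R₀ (Localization.Away a) y * IsLocalization.Away.invSelf a ^ N ∈
      BlowUp.affineAlgebra R₀ J a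
  | 0, y, _ => by
    rw [pow_zero, mul_one]
    exact Subalgebra.algebraMap_mem _ _
  | N + 1, y, hy => by
    rw [pow_succ'] at hy
    induction hy using Submodule.mul_induction_on' with
    | mem_mul_mem x hx z hz =>
      have e : algebraMap R₀ (Localization.Away a) (x * z) * IsLocalization.Away.invSelf a ^ (N + 1) =
          IsLocalization.mk' (Localization.Away a) x (⟨a, Submonoid.mem_powers a⟩ : Submonoid.powers a) *
            (algebraMap R₀ (Localization.Away a) z * IsLocalization.Away.invSelf a ^ N) := by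
        rw [mk'_eq, map_mul, pow_succ]; ring
      rw [e]
      exact mul_mem (Algebra.subset_adjoin ⟨x, hx, rfl⟩) (mem_of_pow N z hz)
    | add x _ z _ hx hz =>
      rw [map_add, add_mul]
      exact add_mem hx hz

theorem mem_of_frac {N : ℕ} {y : R₀} (hy : y ∈ J ^ N) {z : Localization.Away a}
    (hz : z * algebraMap R₀ (Localization.Away a) a ^ N = algebraMap R₀ (Localization.Away a) y) :
    z ∈ BlowUp.affineAlgebra R₀ J a := by
  have e : z = algebraMap R₀ (Localization.Away a) y * IsLocalization.Away.invSelf a ^ N := by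
    rw [← hz, mul_assoc, ← mul_pow, IsLocalization.Away.mul_invSelf, one_pow, mul_one]
  rw [e]
  exact mem_of_pow J a N y hy

/-- The set of `z` with `z a^N ∈ J^N`. -/
def Frac (N : ℕ) (z : Localization.Away a) : Prop :=
  ∃ y ∈ J ^ N, z * algebraMap R₀ (Localization.Away a) a ^ N = algebraMap R₀ (Localization.Away a) y

theorem Frac.mono (ha : a ∈ J) {N : ℕ} {z : Localization.Away a} (h : Frac J a N z) (k : ℕ) :
    Frac J a (N + k) z := by
  obtain ⟨y, hy, e⟩ := h
  refine ⟨y * a ^ k, ?_, ?_⟩
  · rw [pow_add J]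
    exact Ideal.mul_mem_mul hy (Ideal.pow_mem_pow ha k)
  · rw [pow_add, ← mul_assoc, e, map_mul, map_pow]

theorem exists_frac (ha : a ∈ J) {z : Localization.Away a} (hz : z ∈ BlowUp.affineAlgebra R₀ J a) :
    ∃ N, Frac J a N z := by
  induction hz using Algebra.adjoin_induction with
  | mem z hz =>
    obtain ⟨x, hx, rfl⟩ := hz
    refine ⟨1, x, (pow_one J).symm ▸ hx, ?_⟩
    rw [pow_one]
    exact IsLocalization.mk'_spec _ x _
  | algebraMap r => exact ⟨0, r, by simp, by simp⟩
  | add x y _ _ hx hy =>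
    obtain ⟨N, hN⟩ := hx
    obtain ⟨M, hM⟩ := hy
    obtain ⟨u, hu, eu⟩ := hN.mono J a ha M
    obtain ⟨v, hv, ev⟩ := hM.mono J a ha N
    rw [add_comm M N] at hv ev
    exact ⟨N + M, u + v, add_mem hu hv, by rw [add_mul, eu, ev, map_add]⟩
  | mul x y _ _ hx hy =>
    obtain ⟨N, u, hu, eu⟩ := hx
    obtain ⟨M, v, hv, ev⟩ := hy
    refine ⟨N + M, u * v, ?_, ?_⟩
    · rw [pow_add J]; exact Ideal.mul_mem_mul hu hv
    · rw [pow_add, mul_mul_mul_comm, eu, ev, map_mul]

/-- The chart algebra is integrally closed if the powers of the ideal are. -/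
theorem isIntegrallyClosed_affineAlgebra [IsDomain R₀] [IsIntegrallyClosed R₀] (ha : a ∈ J) (ha0 : a ≠ 0)
    (hJ : ∀ (N d : ℕ) (w : R₀) (e : ℕ → R₀), (∀ j < d, e j ∈ J ^ (N * (d - j))) →
      w ^ d + ∑ j ∈ Finset.range d, e j * w ^ j = 0 → w ∈ J ^ N) :
    IsIntegrallyClosed (BlowUp.affineAlgebra R₀ J a) := by
  classical
  let S := Localization.Away a
  let R := BlowUp.affineAlgebra R₀ J a
  have hle : Submonoid.powers a ≤ nonZeroDivisors R₀ :=
    powers_le_nonZeroDivisors_of_noZeroDivisors ha0
  haveI : IsDomain S := IsLocalization.isDomain_localization hle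
  haveI : IsIntegrallyClosed S := isIntegrallyClosed_of_isLocalization S (Submonoid.powers a) hle
  let K := FractionRing S
  have hinjR : Function.Injective (algebraMap R K) := by
    rw [IsScalarTower.algebraMap_eq R S K]
    exact (IsFractionRing.injective S K).comp Subtype.val_injective
  haveI : FaithfulSMul R K := (faithfulSMul_iff_algebraMap_injective R K).2 hinjR
  haveI : FaithfulSMul R₀ K := (faithfulSMul_iff_algebraMap_injective R₀ K).2 (by
    rw [IsScalarTower.algebraMap_eq R₀ S K]
    exact (IsFractionRing.injective S K).comp (IsLocalization.injective S hle))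
  haveI : IsFractionRing R₀ K := IsFractionRing.of_field R₀ K fun x => by
    obtain ⟨s₁, s₂, -, rfl⟩ := IsFractionRing.div_surjective (A := S) x
    obtain ⟨n₁, p, hp⟩ := IsLocalization.Away.surj a s₁
    obtain ⟨n₂, q, hq⟩ := IsLocalization.Away.surj a s₂
    have hu : ∀ n : ℕ, algebraMap S K (algebraMap R₀ S a) ^ n ≠ 0 := fun n =>
      pow_ne_zero _ ((map_ne_zero_iff _ (IsFractionRing.injective S K)).2
        ((map_ne_zero_iff _ (IsLocalization.injective S hle)).2 ha0))
    refine ⟨p * a ^ n₂, q * a ^ n₁, ?_⟩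
    rw [IsScalarTower.algebraMap_apply R₀ S K (p * a ^ n₂),
      IsScalarTower.algebraMap_apply R₀ S K (q * a ^ n₁)]
    rw [map_mul (algebraMap R₀ S), map_mul (algebraMap R₀ S), ← hp, ← hq]
    simp only [map_mul, map_pow]
    rw [mul_assoc, mul_assoc, mul_comm (algebraMap S K (algebraMap R₀ S a) ^ n₂)
      (algebraMap S K (algebraMap R₀ S a) ^ n₁), mul_div_mul_right _ _ (mul_ne_zero (hu n₁) (hu n₂))]
  haveI : IsFractionRing R K := IsFractionRing.of_field R K fun x => by
    obtain ⟨p, q, -, rfl⟩ := IsFractionRing.div_surjective (A := R₀) x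
    exact ⟨algebraMap R₀ R p, algebraMap R₀ R q, by
      rw [← IsScalarTower.algebraMap_apply, ← IsScalarTower.algebraMap_apply]⟩
  refine (isIntegrallyClosed_iff K).2 fun {x} hx => ?_
  obtain ⟨s, rfl⟩ := (isIntegrallyClosed_iff K).1 (inferInstance : IsIntegrallyClosed S)
    (hx.tower_top (A := S))
  have hs : IsIntegral R s := (isIntegral_algebraMap_iff (IsFractionRing.injective S K)).1 hx
  obtain ⟨p, hp, hps⟩ := hs
  suffices hmem : s ∈ R from ⟨⟨s, hmem⟩, IsScalarTower.algebraMap_apply R S K _⟩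
  choose Nf hNf using fun j : ℕ => exists_frac J a ha (p.coeff j).2
  obtain ⟨k, c, hc⟩ := IsLocalization.Away.surj a s
  let d := p.natDegree
  let N := k + ∑ j ∈ Finset.range d, Nf j
  have hN : ∀ j ∈ Finset.range d, Frac J a N (p.coeff j : S) := fun j hj => by
    have hle' : Nf j ≤ N :=
      (Finset.single_le_sum (f := Nf) (fun i _ => Nat.zero_le _) hj).trans (Nat.le_add_left _ _)
    have h := (hNf j).mono J a ha (N - Nf j)
    rwa [Nat.add_sub_cancel' hle'] at h
  choose! y hy hye using hN
  let A := algebraMap R₀ S a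
  let w := c * a ^ (N - k)
  have hw : s * A ^ N = algebraMap R₀ S w := by
    rw [map_mul, map_pow, ← hc, mul_assoc, ← pow_add, Nat.add_sub_cancel' (Nat.le_add_right _ _)]
  let e := fun j : ℕ => y j * a ^ (N * (d - j - 1))
  have he : ∀ j < d, e j ∈ J ^ (N * (d - j)) := fun j hj => by
    rw [show N * (d - j) = N + N * (d - j - 1) by
      rw [add_comm, ← Nat.mul_succ]; congr 1; omega, pow_add J]
    exact Ideal.mul_mem_mul (hy j (Finset.mem_range.2 hj)) (Ideal.pow_mem_pow ha _)
  have hrel : w ^ d + ∑ j ∈ Finset.range d, e j * w ^ j = 0 := by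
    apply IsLocalization.injective S hle
    rw [map_add, map_sum, map_pow, map_zero, ← hw]
    have h0 : s ^ d + ∑ j ∈ Finset.range d, (p.coeff j : S) * s ^ j = 0 := by
      have h1 := hps
      rw [hp.as_sum] at h1
      simp [Polynomial.eval₂_finset_sum] at h1
      exact h1
    calc (s * A ^ N) ^ d + ∑ j ∈ Finset.range d, algebraMap R₀ S (e j * w ^ j)
        = A ^ (N * d) * (s ^ d + ∑ j ∈ Finset.range d, (p.coeff j : S) * s ^ j) := by
          rw [mul_add, Finset.mul_sum, mul_pow, ← pow_mul]
          congr 1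
          · ring
          · refine Finset.sum_congr rfl fun j hj => ?_
            rw [map_mul, map_mul, map_pow, map_pow, ← hye j hj, ← hw, mul_pow, ← pow_mul]
            have : N * d = N + N * (d - j - 1) + N * j := by
              have := Finset.mem_range.1 hj
              rw [show N + N * (d - j - 1) = N * (d - j - 1 + 1) by ring, ← mul_add]
              congr 1
              omega
            rw [this, pow_add, pow_add]
            ring
      _ = 0 := by rw [h0, mul_zero]
  exact mem_of_frac J a (hJ N d w e he hrel) hw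

end Algebra

section Closure

variable {A : Type u} [CommRing A] [IsDomain A] [IsLocalRing A] [IsNoetherianRing A] [IsIntegrallyClosed A]

set_option backward.isDefEq.respectTransparency.types false in
/-- The normalised blow-up. -/
theorem exists_normalizedBlowup (hN : CAlg.IsNagata A) (hdim : ringKrullDim A = 2) {X : Scheme.{u}}
    {b : X ⟶ Spec (CommRingCat.of A)}
    (hb : BlowUp.IsBlowUp b (Curv2.idealSheaf A (IsLocalRing.maximalIdeal A))) :
    ∃ (Y : Scheme.{u}) (f : Y ⟶ Spec (CommRingCat.of A)) (_ : IsIntegral Y), IsProper f ∧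
      Pi1.IsNormalScheme Y ∧
      (∃ U : (Spec (CommRingCat.of A)).Opens, (U : Set (Spec (CommRingCat.of A))).Nonempty ∧ IsIso (f ∣_ U)) ∧
      BlowUp.IsEffCartierIdeal ((Curv2.idealSheaf A (IsLocalRing.maximalIdeal A)).comap f) := by
  set J := Curv2.idealSheaf A (IsLocalRing.maximalIdeal A) with hJdef
  have hJtop : J.ideal ⟨⊤, isAffineOpen_top _⟩ =
      (IsLocalRing.maximalIdeal A).map (Scheme.ΓSpecIso (CommRingCat.of A)).inv.hom :=
    Scheme.IdealSheafData.equivOfIsAffine.right_inv _
  have hJne : J ≠ ⊥ := by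
    intro h
    rw [h] at hJtop
    have hm : IsLocalRing.maximalIdeal A = ⊥ := by
      refine (Ideal.map_eq_bot_iff_of_injective
        (ConcreteCategory.bijective_of_isIso (Scheme.ΓSpecIso (CommRingCat.of A)).inv).1).1 ?_
      rw [← hJtop]
      simp
    have h0 := ringKrullDim_eq_zero_of_isField (IsLocalRing.isField_iff_maximalIdeal_eq.2 hm)
    rw [hdim] at h0
    exact absurd h0 (by decide)
  obtain ⟨hXi, hgen, hres⟩ := Groth.Agent.S2348.result J hJne b hb
  haveI := hXi
  haveI : IsProper b := BlowUpExists.isProper_of_isBlowUp hb fun U => by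
    haveI : IsNoetherianRing Γ(Spec (CommRingCat.of A), U.1) :=
      IsLocallyNoetherian.component_noetherian U
    exact IsNoetherian.noetherian _
  haveI : IsLocallyNoetherian X := LocallyOfFiniteType.isLocallyNoetherian b
  haveI : CompactSpace X := QuasiCompact.compactSpace_of_compactSpace b
  haveI : IsNoetherian X := {}
  have : Subsingleton (Spec (X.presheaf.stalk (genericPoint X))) :=
    inferInstanceAs (Subsingleton (PrimeSpectrum X.functionField))
  have : AlgebraicGeometry.IsIntegral (Spec X.functionField) := inferInstance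
  have : AlgebraicGeometry.IsReduced (Spec (X.presheaf.stalk (genericPoint X))) :=
    inferInstanceAs (AlgebraicGeometry.IsReduced (Spec X.functionField))
  haveI : IsFinite (Curv2.normalizationι X) :=
    Groth.Agent.S9674.result _ (Amp36.Modif.Extend.isNagata_sections hN b) (locallyFinite_of_finite _)
      fun y _ => RingHom.FiniteType.essFiniteType (RingHom.FiniteType.of_surjective _
        (S1649.residueFieldMap_surjective _ y ((X.fromSpecStalk (genericPoint X)).stalkMap_surjective y)))
  obtain ⟨_, hn, _, hνgen, hνres⟩ := Groth.Agent.S2351.result X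
  let ν := Curv2.normalizationι X
  refine ⟨Curv2.normalization X, ν ≫ b, inferInstance, inferInstance, hn, ?_, ?_⟩
  · refine Groth.Agent.H22.Birational12426.exists_isIso_open _ ?_ ?_
    · rw [Scheme.Hom.comp_apply]
      exact (congrArg b.base hνgen).trans hgen
    · rw [Scheme.residueFieldMap_comp]
      refine hνres.comp (show Function.Bijective (b.residueFieldMap (ν (genericPoint _))).hom from ?_)
      have key : ∀ y : X, y = genericPoint X → Function.Bijective (b.residueFieldMap y).hom := by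
        rintro _ rfl; exact hres
      exact key _ hνgen
  · rw [Scheme.IdealSheafData.comap_comp]
    intro y
    obtain ⟨U, hyU, f₀, hf₀, hU⟩ := hb.1 (ν y)
    obtain ⟨W, hWU, hyW⟩ := ClSub.Basis.exists_affine_le (U := ν ⁻¹ᵁ U.1) (x := y) hyU
    haveI : Nonempty U.1 := ⟨⟨_, hyU⟩⟩
    haveI : Nonempty W.1 := ⟨⟨y, hyW⟩⟩
    refine ⟨W, hyW, ν.appLE U.1 W.1 hWU f₀, mem_nonZeroDivisors_of_ne_zero fun h0 => ?_, ?_⟩
    · have hη : genericPoint X ∈ X.basicOpen f₀ := by
        refine ((genericPoint_spec X).mem_open_set_iff (X.basicOpen f₀).2).2 ?_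
        rw [Set.univ_inter]
        by_contra hemp
        exact nonZeroDivisors.ne_zero hf₀ ((AlgebraicGeometry.basicOpen_eq_bot_iff f₀).1
          (TopologicalSpace.Opens.ext (Set.not_nonempty_iff_eq_empty.1 hemp)))
      have h1 : genericPoint (Curv2.normalization X) ∈ (Curv2.normalization X).basicOpen (ν.appLE U.1 W.1 hWU f₀) := by
        rw [Scheme.Hom.appLE, CommRingCat.comp_apply, Scheme.basicOpen_res, ← Scheme.preimage_basicOpen]
        refine ⟨((genericPoint_spec _).mem_open_set_iff W.1.2).2 (by simpa using ⟨y, hyW⟩), ?_⟩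
        show ν (genericPoint _) ∈ X.basicOpen f₀
        rw [hνgen]
        exact hη
      rw [h0, Scheme.basicOpen_zero] at h1
      exact h1
    · rw [Ideal.Comap.ideal_comap ν _ U W hWU, hU, _root_.Ideal.map_span, Set.image_singleton]

/-- The powers of the maximal ideal of a rational singularity are integrally closed. -/
theorem mem_pow_of_integral (hN : CAlg.IsNagata A) (hdim : ringKrullDim A = 2)
    (hA : Curv2.IsRationalSing A) {X : Scheme.{u}} {b : X ⟶ Spec (CommRingCat.of A)}
    (hb : BlowUp.IsBlowUp b (Curv2.idealSheaf A (IsLocalRing.maximalIdeal A)))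
    (N d : ℕ) (w : A) (e : ℕ → A) (he : ∀ j < d, e j ∈ IsLocalRing.maximalIdeal A ^ (N * (d - j)))
    (hrel : w ^ d + ∑ j ∈ Finset.range d, e j * w ^ j = 0) : w ∈ IsLocalRing.maximalIdeal A ^ N := by
  classical
  obtain ⟨Y, f, hYi, hf, hYn, hbir, hE⟩ := exists_normalizedBlowup hN hdim hb
  haveI := hf
  obtain ⟨r, t, ht⟩ := Submodule.fg_iff_exists_fin_generating_family.1
    (IsNoetherian.noetherian (IsLocalRing.maximalIdeal A))
  refine ((Groth.Agent.S7299.result A hN hdim hA Y f hYn hbir hE N).2 w).1 fun V => ?_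
  show ρ f V.1 w ∈ (I f (IsLocalRing.maximalIdeal A) N).ideal V
  rw [← ClSub.Sections.mem_range_idealModι_app_affine_iff, ClSub.Sections.mem_range_idealModι_app_iff]
  refine Modules.Support.eq_zero_of_germ_eq_zero (M := ClSub.quotMod _) ((ClSub.toSubscheme _).app V.1 (ρ f V.1 w)) fun y hy _ => ?_
  obtain ⟨U, hUV, hyU, k, hk0, hk⟩ := frame f (IsLocalRing.maximalIdeal A) t ht hE (O := V.1) hy
  haveI : Nonempty U.1 := ⟨⟨y, hyU⟩⟩
  let g := (Y.presheaf.germ U.1 y hyU).hom
  haveI : IsDomain (Y.presheaf.stalk y) := (hYn y).1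
  haveI : IsIntegrallyClosed (Y.presheaf.stalk y) := (hYn y).2
  let u := g (ρ f U.1 (t k))
  have hu : u ≠ 0 := fun h0 => hk0 (germ_injective_of_isIntegral Y y hyU (h0.trans (map_zero _).symm))
  have hε : ∀ j < d, ∃ ε, ε * u ^ (N * (d - j)) = g (ρ f U.1 (e j)) := fun j hj => by
    have h1 : ρ f U.1 (e j) ∈ (I f (IsLocalRing.maximalIdeal A) (N * (d - j))).ideal U := by
      rw [ideal_I]; exact _root_.Ideal.mem_map_of_mem _ (he j hj)
    rw [ideal_eq_of_frame f _ t ht _ U hk, _root_.Ideal.mem_span_singleton'] at h1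
    obtain ⟨ε, hε⟩ := h1
    exact ⟨g ε, by rw [← hε, map_mul, map_pow]⟩
  choose! ε hε using hε
  let O := Y.presheaf.stalk y
  let K := FractionRing O
  let q : K := algebraMap O K (g (ρ f U.1 w)) / algebraMap O K u ^ N
  have hu' : algebraMap O K u ≠ 0 := (map_ne_zero_iff _ (IsFractionRing.injective O K)).2 hu
  have hq : IsIntegral O q := by
    refine ⟨Polynomial.X ^ d + ∑ j : Fin d, C (ε j) * Polynomial.X ^ (j : ℕ), monic_X_pow_add (degree_sum_fin_lt _), ?_⟩
    rw [eval₂_add, eval₂_X_pow, eval₂_finset_sum, Fin.sum_univ_eq_sum_range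
      (fun j => eval₂ (algebraMap O K) q (C (ε j) * Polynomial.X ^ j))]
    simp only [eval₂_mul, eval₂_C, eval₂_X_pow]
    apply mul_left_cancel₀ (pow_ne_zero (N * d) hu')
    rw [mul_zero, mul_add, Finset.mul_sum]
    have h0 := congrArg (fun a => algebraMap O K (g (ρ f U.1 a))) hrel
    simp only [map_add, map_pow, map_sum, map_mul, map_zero] at h0
    refine Eq.trans ?_ h0
    congr 1
    · rw [pow_mul, ← mul_pow, mul_div_cancel₀ _ (pow_ne_zero N hu')]
    · refine Finset.sum_congr rfl fun j hj => ?_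
      have hj' := Finset.mem_range.1 hj
      rw [← hε j hj', map_mul, map_pow,
        show N * d = N * (d - j) + N * j by rw [← mul_add]; congr 1; omega, pow_add, pow_mul _ N j]
      have : (algebraMap O K u ^ N) ^ j * q ^ j = algebraMap O K (g (ρ f U.1 w)) ^ j := by
        rw [← mul_pow, mul_div_cancel₀ _ (pow_ne_zero N hu')]
      rw [← this]
      ring
  obtain ⟨v, hv⟩ := (isIntegrallyClosed_iff K).1 inferInstance hq
  have hwv : g (ρ f U.1 w) = v * u ^ N := IsFractionRing.injective O K (by
    rw [map_mul, map_pow, hv, div_mul_cancel₀ _ (pow_ne_zero N hu')])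
  obtain ⟨W, hyW, vW, rfl⟩ := TopCat.Presheaf.exists_germ_eq Y.presheaf v
  obtain ⟨W', hW', hyW'⟩ := ClSub.Basis.exists_affine_le (U := U.1 ⊓ W) (x := y) ⟨hyU, hyW⟩
  have hW'U : W'.1 ≤ U.1 := hW'.trans inf_le_left
  have hW'W : W'.1 ≤ W := hW'.trans inf_le_right
  have hW'V : W'.1 ≤ V.1 := hW'U.trans hUV
  haveI : Nonempty W'.1 := ⟨⟨y, hyW'⟩⟩
  have heq : ρ f W'.1 w = Y.presheaf.map (homOfLE hW'W).op vW * ρ f W'.1 (t k) ^ N := by
    apply germ_injective_of_isIntegral Y y hyW'
    rw [map_mul, map_pow, TopCat.Presheaf.germ_res_apply, ← res_ρ f hW'U w, ← res_ρ f hW'U (t k),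
      TopCat.Presheaf.germ_res_apply, TopCat.Presheaf.germ_res_apply]
    exact hwv
  rw [← ClSub.Basis.germ_map hW'V hyW', ← ClSub.Basis.map_app (ClSub.toSubscheme _) hW'V]
  refine (congrArg _ (toSubscheme_eq_zero (I f (IsLocalRing.maximalIdeal A) N) W'.1
      (Y.presheaf.map (homOfLE hW'V).op (ρ f V.1 w)) fun V' hV' => ?_)).trans (map_zero _)
  rw [res_ρ, res_ρ, ← res_ρ f hV' w, heq, map_mul, map_pow, res_ρ, ideal_I]
  exact _root_.Ideal.mul_mem_left _ _ (by
    rw [_root_.Ideal.map_pow]
    exact _root_.Ideal.pow_mem_pow (_root_.Ideal.mem_map_of_mem _ (t_mem _ t ht k)) N)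

end Closure


/-- Let A be a local normal Nagata domain of dimension two defining a rational singularity and b : X →
Spec A a blowing up in the maximal ideal. Then X is a normal scheme. -/
theorem result (A : Type u) [CommRing A] [IsDomain A] [IsLocalRing A] [IsNoetherianRing A]
    [IsIntegrallyClosed A] (hN : CAlg.IsNagata A) (hdim : ringKrullDim A = 2) (hA : Curv2.IsRationalSing A)
    (X : Scheme.{u}) (b : X ⟶ Spec (CommRingCat.of A)) (hb : BlowUp.IsBlowUp b (Curv2.idealSheaf A (IsLocalRing.maximalIdeal A))) :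
    Pi1.IsNormalScheme X := by
  intro x
  set J := Curv2.idealSheaf A (IsLocalRing.maximalIdeal A) with hJdef
  let T : (Spec (CommRingCat.of A)).affineOpens := ⟨⊤, isAffineOpen_top _⟩
  obtain ⟨a, hxa⟩ := BlowUpExists.exists_mem_chartOpen b hb.1 x T trivial
  let i : BlowUpExists.Idx J := ⟨T, a⟩
  obtain ⟨e, -⟩ := BlowUpExists.exists_chartIso hb i
  let σ := (Scheme.ΓSpecIso (CommRingCat.of A)).commRingCatIsoToRingEquiv
  haveI : IsDomain Γ(Spec (CommRingCat.of A), T.1) := σ.toMulEquiv.isDomain_iff.mpr inferInstance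
  haveI : IsIntegrallyClosed Γ(Spec (CommRingCat.of A), T.1) := IsIntegrallyClosed.of_equiv σ.symm
  have hJT : J.ideal T = (IsLocalRing.maximalIdeal A).map σ.symm.toRingHom :=
    Scheme.IdealSheafData.equivOfIsAffine.right_inv _
  have ha0 : (a : Γ(Spec (CommRingCat.of A), T.1)) ≠ 0 := fun h0 => by
    haveI : Subsingleton (BlowUpExists.chartRing i) := by
      refine ⟨fun p q => Subtype.ext ?_⟩
      haveI : Subsingleton (Localization.Away (a : Γ(Spec (CommRingCat.of A), T.1))) :=
        IsLocalization.subsingleton (M := Submonoid.powers (a : Γ(Spec (CommRingCat.of A), T.1)))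
          ⟨1, by rw [h0]; simp⟩
      exact Subsingleton.elim _ _
    haveI : IsEmpty (BlowUpExists.chart i) := inferInstanceAs (IsEmpty (PrimeSpectrum _))
    exact IsEmpty.false (e.hom ⟨x, hxa⟩)
  haveI hcd : IsDomain ↥(BlowUp.affineAlgebra Γ(Spec (CommRingCat.of A), T.1) (J.ideal T) a) := by
    haveI := IsLocalization.isDomain_localization (M := Submonoid.powers (a : Γ(Spec (CommRingCat.of A), T.1)))
      (powers_le_nonZeroDivisors_of_noZeroDivisors ha0)
    exact inferInstanceAs (IsDomain (BlowUp.affineAlgebra _ _ _))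
  haveI hci : IsIntegrallyClosed ↥(BlowUp.affineAlgebra Γ(Spec (CommRingCat.of A), T.1) (J.ideal T) a) := by
    refine isIntegrallyClosed_affineAlgebra (J.ideal T) (a : Γ(Spec (CommRingCat.of A), T.1)) a.2 ha0
      fun N d w e he hrel => ?_
    have hmap : (J.ideal T).map σ.toRingHom = IsLocalRing.maximalIdeal A := by
      rw [hJT, Ideal.map_map, RingEquiv.toRingHom_comp_symm_toRingHom, Ideal.map_id]
    have hw := mem_pow_of_integral hN hdim hA hb N d (σ w) (fun j => σ (e j))
      (fun j hj => by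
        rw [← hmap, ← Ideal.map_pow]
        exact Ideal.mem_map_of_mem σ.toRingHom (he j hj))
      (by
        have h := congrArg σ hrel
        simpa using h)
    have hw' := Ideal.mem_map_of_mem σ.symm.toRingHom hw
    rw [Ideal.map_pow, ← hJT] at hw'
    simpa using hw'
  have hn' := RatSing74.FiniteExt.spec_isNormalScheme
    ↥(BlowUp.affineAlgebra Γ(Spec (CommRingCat.of A), T.1) (J.ideal T) a)
  have hn : IsDomain ((BlowUpExists.chart i).presheaf.stalk (e.hom ⟨x, hxa⟩)) ∧
      IsIntegrallyClosed ((BlowUpExists.chart i).presheaf.stalk (e.hom ⟨x, hxa⟩)) := hn' _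
  let φ := (asIso (e.hom.stalkMap ⟨x, hxa⟩) ≪≫
    (asIso ((BlowUpExists.chartOpen b i).ι.stalkMap ⟨x, hxa⟩)).symm).commRingCatIsoToRingEquiv
  haveI := hn.1
  haveI := hn.2
  haveI : IsDomain (X.presheaf.stalk x) := φ.toMulEquiv.isDomain_iff.mp hn.1
  exact ⟨inferInstance, IsIntegrallyClosed.of_equiv φ⟩

end Groth.Agent.S1650
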