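import Groth.Statements.S7337
import Groth.Agent.S7299
import Groth.Agent.S1650
import Groth.Agent.S2348
import Groth.Agent.Lib.Amp36.ModifVanish
import Groth.Agent.Lib.Amp36.Modif.Divisorial
import Groth.Agent.Lib.Amp36.Modif.Birat
import Groth.Agent.Lib.PointBlow96.Powers
import Groth.Agent.Lib.SurfInt.ColonSeq
import Groth.Agent.Lib.Curves.GlobalSections
import Groth.Agent.Lib.CDivInt.Normal
import Groth.Agent.Lib.Depth.CM
import Groth.Agent.Lib.Excellent.Transport
import Groth.Agent.Lib.RefHull.SubStalk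
import Groth.Agent.Lib.CartierDescent.Stalk
import Groth.Agent.Lib.ModelFibre.StalkIdeal
import Groth.Agent.Lib.Flat55.ContractionFibre
import Groth.Agent.Lib.InjHull.Complete

set_option autoImplicit false
universe u
open CategoryTheory CategoryTheory.Limits AlgebraicGeometry
open Resolve

namespace Groth.Agent.S7337

open Groth.Agent Groth.Agent.Lib Groth.Agent.Lib.Amp36.Modif TopologicalSpace Opposite
open Groth.Agent.Lib.Amp36.Modif.FibrePow
open Groth.Agent.Lib.Ideal.Prime (stalkIdeal stalkIdeal_eq)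
open Groth.Agent.Lib.TensorMod.Basic (tensorIso tmap rightUnit)

/-- Normal local domains of dimension at most two are Cohen–Macaulay. -/
theorem isCohenMacaulay_of_normal (R : Type u) [CommRing R] [IsDomain R] [IsLocalRing R]
    [IsNoetherianRing R] [IsIntegrallyClosed R] (h : ringKrullDim R ≤ ((2 : ℕ) : WithBot ℕ∞)) :
    LocCoh.IsCohenMacaulayLocalRing R := by
  refine Depth.CM.isCohenMacaulayLocalRing_iff.2 ?_
  rcases eq_or_ne (LocCoh.depth R R) 0 with h0 | h0
  · have hass := (Depth.Assoc.depth_eq_zero_iff R).1 h0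
    obtain ⟨-, v, hv⟩ := isAssociatedPrime_iff.1 hass
    have hv0 : v ≠ 0 := by
      rintro rfl
      refine (IsLocalRing.maximalIdeal.isMaximal R).ne_top ((Ideal.eq_top_iff_one _).2 ?_)
      rw [hv, Submodule.mem_colon_singleton]; simp
    have hm : IsLocalRing.maximalIdeal R = ⊥ := by
      refine le_bot_iff.1 fun a ha => ?_
      rw [hv, Submodule.mem_colon_singleton, Submodule.mem_bot, smul_eq_mul] at ha
      exact (mul_eq_zero.1 ha).resolve_right hv0
    rw [h0, ringKrullDim_eq_zero_of_isField (IsLocalRing.isField_iff_maximalIdeal_eq.2 hm)]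
    exact le_rfl
  rcases eq_or_ne (LocCoh.depth R R) 1 with h1 | h1
  · haveI := CDivInt.isDiscreteValuationRing_of_depth_eq_one h1
    rw [h1, IsDiscreteValuationRing.ringKrullDim_eq_one R]
    exact le_rfl
  · refine h.trans (WithBot.coe_le_coe.2 ?_)
    have h2 : 1 < LocCoh.depth R R := lt_of_le_of_ne (Order.one_le_iff_ne_zero.2 h0) (Ne.symm h1)
    exact Order.add_one_le_of_lt h2

section Subscheme

variable {X : Scheme.{u}} [IsLocallyNoetherian X] {J : X.IdealSheafData}

/-- The local rings of an effective Cartier divisor. -/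
theorem exists_stalk_equiv (hJ : BlowUp.IsEffCartierIdeal J) (e : J.subscheme) :
    ∃ g : X.presheaf.stalk (J.subschemeι e), g ∈ nonZeroDivisors _ ∧
      g ∈ IsLocalRing.maximalIdeal (X.presheaf.stalk (J.subschemeι e)) ∧
      Nonempty ((X.presheaf.stalk (J.subschemeι e) ⧸ Ideal.span {g}) ≃+* J.subscheme.presheaf.stalk e) := by
  obtain ⟨U, hxU, s, hs, hU⟩ := hJ (J.subschemeι e)
  refine ⟨X.presheaf.germ U.1 _ hxU s, Ideal.EffCartier.germ_mem_nonZeroDivisors U.2 hs _ hxU, ?_, ?_⟩
  · have hk := RefHull.SubStalk.ker_stalkMap J (S := {s}) hU e hxU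
    rw [Set.image_singleton] at hk
    refine (IsLocalRing.mem_maximalIdeal _).2 fun hu => ?_
    have h1 := Ideal.eq_top_of_isUnit_mem _ (hk.ge (Ideal.subset_span rfl)) hu
    exact RingHom.ker_ne_top (J.subschemeι.stalkMap e).hom h1
  · have hk := RefHull.SubStalk.ker_stalkMap J (S := {s}) hU e hxU
    rw [Set.image_singleton] at hk
    exact ⟨(Ideal.quotEquivOfEq hk.symm).trans
      (RingHom.quotientKerEquivOfSurjective (RefHull.SubStalk.stalkMap_surjective J e))⟩

theorem isCohenMacaulay_stalk (hJ : BlowUp.IsEffCartierIdeal J) (hn : Pi1.IsNormalScheme X)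
    (h2 : ∀ x : X, ringKrullDim (X.presheaf.stalk x) ≤ ((2 : ℕ) : WithBot ℕ∞)) (e : J.subscheme) :
    LocCoh.IsCohenMacaulayLocalRing (J.subscheme.presheaf.stalk e) := by
  obtain ⟨g, hg, hgm, ⟨φ⟩⟩ := exists_stalk_equiv hJ e
  haveI := (hn (J.subschemeι e)).1
  haveI := (hn (J.subschemeι e)).2
  haveI := φ.symm.isLocalRing
  haveI := isCohenMacaulay_of_normal _ (h2 (J.subschemeι e))
  have hreg : IsSMulRegular (X.presheaf.stalk (J.subschemeι e)) g := fun a b h =>
    (mul_cancel_left_mem_nonZeroDivisors hg).1 h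
  have := (Depth.CM.isCohenMacaulayLocalRing_quotient_span_singleton_iff hgm hreg).2 inferInstance
  exact Excellent.Transport.isCohenMacaulayLocalRing_of_ringEquiv φ

theorem ringKrullDim_stalk_le_one (hJ : BlowUp.IsEffCartierIdeal J)
    (h2 : ∀ x : X, ringKrullDim (X.presheaf.stalk x) ≤ ((2 : ℕ) : WithBot ℕ∞)) (e : J.subscheme) :
    ringKrullDim (J.subscheme.presheaf.stalk e) ≤ ((1 : ℕ) : WithBot ℕ∞) := by
  obtain ⟨g, hg, hgm, ⟨φ⟩⟩ := exists_stalk_equiv hJ e
  rw [← ringKrullDim_eq_of_ringEquiv φ]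
  have h := (ringKrullDim_quotient_succ_le_of_nonZeroDivisor hg).trans (h2 (J.subschemeι e))
  rw [show ((2 : ℕ) : WithBot ℕ∞) = ((1 : ℕ) : WithBot ℕ∞) + 1 by norm_num] at h
  exact ENat.WithBot.add_le_add_one_right_iff.1 h

end Subscheme

section Sections

variable {A : Type u} [CommRing A] {X : Scheme.{u}} [X.Over (Spec (CommRingCat.of A))]

local notation "ff" => (X ↘ Spec (CommRingCat.of A))

/-- The constant functions in cohomological degree zero. -/
noncomputable def const : A →ₗ[A] Coh.HH X (Coh.structureModule X) 0 :=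
  LinearMap.toSpanSingleton A _ ((Curves.GlobalSections.h0Equiv (Coh.structureModule X)).symm (1 : Γ(X, ⊤)))

theorem h0Equiv_const (a : A) :
    Curves.GlobalSections.h0Equiv (Coh.structureModule X) (const a) =
      ρ ff ⊤ a := by
  have h := Curves.GlobalSections.h0Equiv_smul (Coh.structureModule X) (Coh.toGlobal ff a)
    ((Curves.GlobalSections.h0Equiv (Coh.structureModule X)).symm (1 : Γ(X, ⊤)))
  refine h.trans ((congrArg (Coh.toGlobal ff a • ·)
    ((Curves.GlobalSections.h0Equiv (Coh.structureModule X)).apply_symm_apply (1 : Γ(X, ⊤)))).trans ?_)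
  show (show Γ(X, ⊤) from Coh.toGlobal ff a) * 1 = _
  rw [mul_one]
  show _ = X.presheaf.map (homOfLE le_top).op _
  rw [show (homOfLE (le_top : (⊤ : X.Opens) ≤ ⊤)).op = 𝟙 _ from rfl, CategoryTheory.Functor.map_id]
  rfl

theorem h0Equiv_natural {M N : X.Modules} (φ : M ⟶ N) (z : Coh.HH X M 0) :
    Curves.GlobalSections.h0Equiv N (Curves.LES.mapK A φ 0 z) =
      φ.app ⊤ (Curves.GlobalSections.h0Equiv M z) :=
  (Sheaf.H.equiv₀_naturality (isTerminalTop (α := Opens X)) (Curves.LES.toAbMap φ) z).symm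

variable [IsLocalRing A] [IsNoetherianRing A] {k : ℕ}

theorem h0_quot (𝔞 : Ideal A) (hbij : Function.Bijective (ρ ff ⊤ : A → Γ(X, ⊤)))
    (hiff : ∀ a : A, (∀ U : X.affineOpens, ρ ff U.1 a ∈ (I ff 𝔞 k).ideal U) ↔ a ∈ 𝔞 ^ k)
    (h1 : Subsingleton (Coh.HH X (N ff 𝔞 k) 1)) :
    Nonempty ((A ⧸ 𝔞 ^ k) ≃ₗ[A] Coh.HH X (ClSub.quotMod (I ff 𝔞 k)) 0) := by
  have hS := ClSub.Quot.idealSeq_shortExact (I ff 𝔞 k)
  let q : A →ₗ[A] Coh.HH X (ClSub.quotMod (I ff 𝔞 k)) 0 :=
    (Curves.LES.mapK A (ClSub.toSubscheme (I ff 𝔞 k)) 0).comp const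
  have hc : Function.Surjective (const : A →ₗ[A] Coh.HH X (Coh.structureModule X) 0) := fun z => by
    obtain ⟨a, ha⟩ := hbij.2 (Curves.GlobalSections.h0Equiv (Coh.structureModule X) z)
    exact ⟨a, (Curves.GlobalSections.h0Equiv (Coh.structureModule X)).injective
      ((h0Equiv_const a).trans ha)⟩
  have hq : Function.Surjective q := by
    intro y
    obtain ⟨z, hz⟩ := (Curves.LES.exactK₃ A hS 0 1 rfl y).1 (h1.elim _ _)
    obtain ⟨a, rfl⟩ := hc z
    exact ⟨a, hz⟩
  have hker : LinearMap.ker q = 𝔞 ^ k := by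
    ext a
    rw [← hiff a, LinearMap.mem_ker]
    constructor
    · intro ha U
      obtain ⟨z, hz⟩ := (Curves.LES.exactK₂ A hS 0 (const a)).1 ha
      have h2 := (h0Equiv_natural (ClSub.idealModι (I ff 𝔞 k)) z).symm.trans
        ((congrArg (Curves.GlobalSections.h0Equiv (Coh.structureModule X)) hz).trans (h0Equiv_const a))
      rw [← res_ρ ff (le_top : U.1 ≤ ⊤), ← h2]
      show X.presheaf.map _ (val ff 𝔞 k ⊤ _) ∈ _
      exact (congrArg (· ∈ (I ff 𝔞 k).ideal U) (val_map ff 𝔞 (le_top : U.1 ≤ ⊤) _)).mp (val_mem ff 𝔞 k U _)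
    · intro ha
      obtain ⟨s, hs⟩ := exists_val_eq ff 𝔞 k ⊤ (ρ ff ⊤ a) fun V hV => by
        rw [res_ρ]; exact ha V
      refine (Curves.LES.exactK₂ A hS 0 (const a)).2
        ⟨(Curves.GlobalSections.h0Equiv (N ff 𝔞 k)).symm s, ?_⟩
      apply (Curves.GlobalSections.h0Equiv (Coh.structureModule X)).injective
      refine (h0Equiv_natural (ClSub.idealModι (I ff 𝔞 k)) _).trans ?_
      exact (congrArg _ ((Curves.GlobalSections.h0Equiv (N ff 𝔞 k)).apply_symm_apply s)).trans
        (hs.trans (h0Equiv_const a).symm)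
  exact ⟨(Submodule.quotEquivOfEq _ _ hker.symm).trans (LinearMap.quotKerEquivOfSurjective q hq)⟩

end Sections

/-- Let (A, m, κ) be a local normal Nagata domain of dimension two defining a rational singularity, let
X → Spec A (the structure morphism of X over Spec A) be the blowing up in m, and let E ⊂ X be the
exceptional divisor with ideal sheaf I = O_X(1), so that O_E(n) pushed forward to X is I^{⊗ n} ⊗
O_X/I. Then E is Cohen–Macaulay of dimension one; H^1(E, O_E(n)) = 0 for n ≥ 0; and H^0(E, O_E(n)) ≅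
m^n/m^{n+1} for n ≥ 0. (The published statement also asserts that E is proper over κ, that O_E(1) is
very ample, and that deg O_E(1) ≥ 1 with equality only for A regular; this row does not restate
those, and states the description of H^0(E, O_E(n)) as an equality of A-lengths.) -/
theorem result (A : Type u) [CommRing A] [IsDomain A] [IsLocalRing A] [IsNoetherianRing A]
    [IsIntegrallyClosed A] (hN : CAlg.IsNagata A) (hdim : ringKrullDim A = 2) (hA : Curv2.IsRationalSing A)
    (X : Scheme.{u}) [X.Over (Spec (CommRingCat.of A))]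
    (hb : BlowUp.IsBlowUp (X ↘ Spec (CommRingCat.of A)) (Curv2.idealSheaf A (IsLocalRing.maximalIdeal A))) (n : ℕ) :
    (∀ e : ↥(BlowUp.exceptional (X ↘ Spec (CommRingCat.of A)) (Curv2.idealSheaf A (IsLocalRing.maximalIdeal A))).subscheme,
        LocCoh.IsCohenMacaulayLocalRing
          ((BlowUp.exceptional (X ↘ Spec (CommRingCat.of A)) (Curv2.idealSheaf A (IsLocalRing.maximalIdeal A))).subscheme.presheaf.stalk e)) ∧
      topologicalKrullDim ↥(BlowUp.exceptional (X ↘ Spec (CommRingCat.of A)) (Curv2.idealSheaf A (IsLocalRing.maximalIdeal A))).subscheme = 1 ∧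
      Subsingleton (Coh.HH X (CohB1.tensorMod
        (CohB1.tensorPow (ClSub.idealMod (BlowUp.exceptional (X ↘ Spec (CommRingCat.of A)) (Curv2.idealSheaf A (IsLocalRing.maximalIdeal A)))) n)
        (ClSub.quotMod (BlowUp.exceptional (X ↘ Spec (CommRingCat.of A)) (Curv2.idealSheaf A (IsLocalRing.maximalIdeal A))))) 1) ∧
      Module.length A (Coh.HH X (CohB1.tensorMod
        (CohB1.tensorPow (ClSub.idealMod (BlowUp.exceptional (X ↘ Spec (CommRingCat.of A)) (Curv2.idealSheaf A (IsLocalRing.maximalIdeal A)))) n)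
        (ClSub.quotMod (BlowUp.exceptional (X ↘ Spec (CommRingCat.of A)) (Curv2.idealSheaf A (IsLocalRing.maximalIdeal A))))) 0) =
        Module.length A (↥(IsLocalRing.maximalIdeal A ^ n) ⧸
          (Submodule.comap (IsLocalRing.maximalIdeal A ^ n).subtype (IsLocalRing.maximalIdeal A ^ (n + 1)))) := by
  classical
  set f := X ↘ Spec (CommRingCat.of A) with hfdef
  set m := IsLocalRing.maximalIdeal A with hm
  set J := BlowUp.exceptional f (Curv2.idealSheaf A m) with hJdef
  have hJ : BlowUp.IsEffCartierIdeal J := hb.1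
  -- the blow-up
  haveI hp : IsProper f := BlowUpExists.isProper_of_isBlowUp hb fun U => by
    haveI : IsNoetherianRing Γ(Spec (CommRingCat.of A), U.1) := IsLocallyNoetherian.component_noetherian U
    exact IsNoetherian.noetherian _
  have hmsupp : ∀ z : Spec (CommRingCat.of A), z ∈ (Curv2.idealSheaf A m).support ↔
      z = IsLocalRing.closedPoint A := fun z => by
    rw [Scheme.IdealSheafData.mem_support_iff_of_mem (U := ⟨⊤, isAffineOpen_top _⟩) trivial,
      show (Curv2.idealSheaf A m).ideal ⟨⊤, isAffineOpen_top _⟩ =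
        m.map (Scheme.ΓSpecIso (CommRingCat.of A)).inv.hom from
        Scheme.IdealSheafData.equivOfIsAffine.right_inv _, Scheme.mem_zeroLocus_iff]
    constructor
    · intro h
      refine PrimeSpectrum.ext ((IsLocalRing.maximalIdeal.isMaximal A).eq_of_le z.2.ne_top fun a ha => ?_).symm
      have h1 := h _ (Ideal.mem_map_of_mem _ ha)
      rw [basicOpen_eq_of_affine] at h1
      exact not_not.1 h1
    · rintro rfl s hs
      obtain ⟨b, hb, rfl⟩ := (Ideal.mem_map_iff_of_surjective _
        (ConcreteCategory.bijective_of_isIso (Scheme.ΓSpecIso (CommRingCat.of A)).inv).2).1 hs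
      rw [basicOpen_eq_of_affine]
      exact fun hb' => hb' hb
  have hgne : genericPoint (Spec (CommRingCat.of A)) ≠ IsLocalRing.closedPoint A := fun h => by
    have h1 : (IsLocalRing.closedPoint A).asIdeal = (⊥ : Ideal A) := by
      rw [← h, genericPoint_eq_bot_of_affine]
      rfl
    have h2 := ringKrullDim_eq_zero_of_isField (IsLocalRing.isField_iff_maximalIdeal_eq.2 h1)
    rw [hdim] at h2
    exact absurd h2 (by decide)
  have hmne : Curv2.idealSheaf A m ≠ ⊥ := fun h => hgne ((hmsupp _).1 (by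
    rw [h, Scheme.IdealSheafData.support_bot]; trivial))
  haveI hint : IsIntegral X := (Groth.Agent.S2348.result _ hmne f hb).1
  haveI : IsIso (f ∣_ (Curv2.idealSheaf A m).support.compl) := Ideal.BlowUp.isIso_off_center hb
  have hVne : ((Curv2.idealSheaf A m).support.compl : Set (Spec (CommRingCat.of A))).Nonempty :=
    ⟨genericPoint _, fun h => hgne ((hmsupp _).1 h)⟩
  have hbir : ∃ U : (Spec (CommRingCat.of A)).Opens,
      (U : Set (Spec (CommRingCat.of A))).Nonempty ∧ IsIso (f ∣_ U) := ⟨_, hVne, inferInstance⟩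
  have hn : Pi1.IsNormalScheme X := Groth.Agent.S1650.result A hN hdim hA X f hb
  haveI : IsLocallyNoetherian X := LocallyOfFiniteType.isLocallyNoetherian f
  haveI : CompactSpace X := QuasiCompact.compactSpace_of_compactSpace f
  haveI : IsNoetherian X := {}
  have h2 : ∀ x : X, ringKrullDim (X.presheaf.stalk x) ≤ ((2 : ℕ) : WithBot ℕ∞) :=
    Amp36.Modif.Birat.ringKrullDim_stalk_le f _ hVne 2
      ((PrimeSpectrum.topologicalKrullDim_eq_ringKrullDim A).trans hdim).le
  refine ⟨fun e => isCohenMacaulay_stalk hJ hn h2 e, le_antisymm ?_ ?_, ?_⟩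
  · exact Flat55.DimIneqFibre.topologicalKrullDim_le_of_forall_stalk _ fun e =>
      ringKrullDim_stalk_le_one hJ h2 e
  · -- the fibre is not finite
    by_contra hlt
    have h0 : topologicalKrullDim J.subscheme ≤ ((0 : ℕ) : WithBot ℕ∞) := by
      rcases hd : topologicalKrullDim J.subscheme with _ | a
      · exact bot_le
      · rw [hd] at hlt
        exact WithBot.coe_le_coe.2 (Order.lt_one_iff.1 (not_le.1 fun h => hlt (WithBot.coe_le_coe.2 h))).le
    haveI : IsLocallyNoetherian J.subscheme := LocallyOfFiniteType.isLocallyNoetherian J.subschemeι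
    haveI : CompactSpace J.subscheme := QuasiCompact.compactSpace_of_compactSpace J.subschemeι
    haveI : IsNoetherian J.subscheme := {}
    have hcl : ∀ e : J.subscheme, IsClosed ({e} : Set J.subscheme) := fun e =>
      Amp36.Modif.Divisorial.isClosed_of_dim (n := 0) h0 e (by simpa using ringKrullDim_nonneg_of_nontrivial)
    have hfinE : Finite J.subscheme := by
      obtain ⟨S, hSf, hSc, hSi, hS⟩ :=
        NoetherianSpace.exists_finite_set_isClosed_irreducible (isClosed_univ (X := J.subscheme))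
      refine Set.finite_univ_iff.1 (hS ▸ hSf.sUnion fun C hC => ?_)
      obtain ⟨η, hη⟩ := QuasiSober.sober (hSi C hC) (hSc C hC)
      rw [← hη.def, (hcl η).closure_eq]
      exact Set.finite_singleton η
    haveI : LocallyQuasiFinite f := LocallyQuasiFinite.of_finite_preimage_singleton _ fun z => by
      by_cases hz : z = IsLocalRing.closedPoint A
      · refine (Set.finite_range J.subschemeι).subset fun x hx => ?_
        rw [Scheme.IdealSheafData.range_subschemeι]
        show x ∈ ((Curv2.idealSheaf A m).comap f).support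
        rw [Scheme.IdealSheafData.support_comap]
        exact (hmsupp _).2 (hx.trans hz)
      · refine Set.Subsingleton.finite fun a ha b hb' => ?_
        exact Amp36.Modif.Birat.eq_of_apply_eq f (Curv2.idealSheaf A m).support.compl
          (show f a ∈ (Curv2.idealSheaf A m).support.compl from fun h => hz (ha.symm.trans ((hmsupp _).1 h)))
          (ha.trans hb'.symm)
    haveI : IsFinite f := IsFinite.of_isProper_of_locallyQuasiFinite f
    haveI : IsAffine X := isAffine_of_isAffineHom f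
    obtain ⟨hgen, hst⟩ := S15137.gen_props f (Curv2.idealSheaf A m).support.compl hVne
    haveI : IsIso f.appTop := Groth.Agent.H34.Stein.isIso_app_of_birational f
      (RatSing74.FiniteExt.spec_isNormalScheme A) hgen hst ⊤
    haveI : IsIso f := ((MorphismProperty.isomorphisms Scheme).arrow_mk_iso_iff
      (arrowIsoSpecΓOfIsAffine f)).2 (show IsIso (Spec.map f.appTop) from inferInstance)
    have hJ' := Ideal.EffCartier.isEffCartier_comap_of_flat (inv f) hJ
    rw [hJdef, BlowUp.exceptional, ← Scheme.IdealSheafData.comap_comp, IsIso.inv_hom_id,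
      Scheme.IdealSheafData.comap_id] at hJ'
    obtain ⟨U, hU, s, -, hs⟩ := hJ' (IsLocalRing.closedPoint A)
    have hUtop : U.1 = ⊤ := top_le_iff.1 fun z _ =>
      (IsLocalRing.specializes_closedPoint z).mem_open U.1.2 hU
    obtain ⟨V, hV⟩ := U
    obtain rfl : V = ⊤ := hUtop
    rw [show (Curv2.idealSheaf A m).ideal ⟨⊤, hV⟩ = m.map (Scheme.ΓSpecIso (CommRingCat.of A)).inv.hom from
      Scheme.IdealSheafData.equivOfIsAffine.right_inv _] at hs
    have hbij' := ConcreteCategory.bijective_of_isIso (Scheme.ΓSpecIso (CommRingCat.of A)).inv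
    obtain ⟨t, rfl⟩ := hbij'.2 s
    have hprin : m = Ideal.span {t} := by
      rw [← Ideal.comap_map_of_bijective _ hbij' (I := m), hs, ← Set.image_singleton, ← Ideal.map_span,
        Ideal.comap_map_of_bijective _ hbij']
    haveI : m.IsPrincipal := ⟨⟨t, hprin⟩⟩
    have h3 := Ideal.height_le_one_of_isPrincipal_of_mem_minimalPrimes m m
      ⟨⟨(IsLocalRing.maximalIdeal.isMaximal A).isPrime, le_rfl⟩, fun q hq _ => hq.2⟩
    have h4 : ringKrullDim A ≤ 1 := by
      rw [← IsLocalRing.maximalIdeal_height_eq_ringKrullDim]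
      exact WithBot.coe_le_coe.2 h3
    rw [hdim] at h4
    exact absurd h4 (by decide)
  -- cohomology
  have hd := Amp36.ModifVanish.fiber_dim_le_one_spec A f hdim hbir
  have hH2 : ∀ M : X.Modules, M.IsQuasicoherent → Subsingleton (Coh.HH X M 2) := fun M hM =>
    haveI := hM
    FibreVanish36.Affine.subsingleton_HH FibreVanish36.Coherent.cohVanish f 1 hd M 1 le_rfl
  have hO : Subsingleton (Coh.HH X (Coh.structureModule X) 1) := hA X f hp hint hn hbir
  have hJI : ∀ k, J ^ k = I f m k := fun k => rfl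
  have h99 := fun k => Groth.Agent.S7299.result A hN hdim hA X f hn hbir hJ k
  obtain ⟨U₀, hU₀, hU₀iso⟩ := hbir
  haveI := hU₀iso
  have hbij := S7299.ρ_top_bijective f U₀ hU₀
  have hiso : ∀ k, Nonempty ((A ⧸ m ^ k) ≃ₗ[A] Coh.HH X (ClSub.quotMod (J ^ k)) 0) := fun k =>
    h0_quot m hbij (h99 k).2 (h99 k).1
  have hQ1 : ∀ k, Subsingleton (Coh.HH X (ClSub.quotMod (J ^ k)) 1) := fun k => by
    refine subsingleton_of_forall_eq 0 fun y => ?_
    obtain ⟨w, hw⟩ := (Curves.LES.exactK₃ A (ClSub.Quot.idealSeq_shortExact (J ^ k)) 1 2 rfl y).1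
      ((hH2 _ (Ample.QAffCrit.isQCoh_idealMod _)).elim _ _)
    exact hw.symm.trans ((congrArg _ (hO.elim w 0)).trans (map_zero _))
  have hC : BlowUp.IsEffCartierIdeal (J ^ n) := Ideal.EffCartier.isEffCartier_pow hJ n
  have hCi : PicF.IsInvertible (ClSub.idealMod (J ^ n)) := SurfInt.Effective.isInvertible_idealMod hC
  obtain ⟨eP⟩ : Nonempty (CohB1.tensorPow (ClSub.idealMod J) n ≅ ClSub.idealMod (J ^ n)) := by
    cases n with
    | zero =>
      have hz : IsZero (ClSub.quotMod (J ^ 0)) := by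
        refine Modules.Support.support_eq_empty_iff.mp ?_
        rw [ClSub.Quot.support_quotMod, pow_zero, Scheme.IdealSheafData.one_eq_top,
          Scheme.IdealSheafData.support_top]
        rfl
      haveI : Mono (ClSub.idealModι (J ^ 0)) := ClSub.Quot.mono_idealModι _
      haveI : IsIso (ClSub.idealModι (J ^ 0)) := by
        haveI : Epi (ClSub.idealModι (J ^ 0)) :=
          (ClSub.Quot.idealSeq_shortExact (J ^ 0)).exact.epi_f (hz.eq_of_tgt _ _)
        exact isIso_of_mono_of_epi _
      exact ⟨(asIso (ClSub.idealModι (J ^ 0))).symm⟩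
    | succ k => exact PointBlow96.nonempty_tensorPow_ideal hJ k
  let T := CohB1.tensorMod (ClSub.idealMod (J ^ n)) (ClSub.quotMod J)
  let eT : CohB1.tensorMod (CohB1.tensorPow (ClSub.idealMod J) n) (ClSub.quotMod J) ≅ T :=
    tensorIso eP (Iso.refl _)
  have hT1 : Subsingleton (Coh.HH X T 1) := by
    have hS := Snapper.Twist.twistSeq_shortExact hCi (ClSub.Quot.idealSeq_shortExact J)
    obtain ⟨e'⟩ := SurfInt.Mul.nonempty_idealMod_mul hC J
    haveI h2' : Subsingleton (Coh.HH X (CohB1.tensorMod (ClSub.idealMod (J ^ n)) (ClSub.idealMod J)) 2) :=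
      haveI := hH2 _ (Ample.QAffCrit.isQCoh_idealMod (J ^ n * J))
      (Curves.LES.isoK A e' 2).toEquiv.subsingleton
    haveI h1' : Subsingleton (Coh.HH X (CohB1.tensorMod (ClSub.idealMod (J ^ n)) (Coh.structureModule X)) 1) :=
      haveI := (h99 n).1
      (Curves.LES.isoK A (rightUnit (ClSub.idealMod (J ^ n))) 1).toEquiv.subsingleton
    refine subsingleton_of_forall_eq 0 fun y => ?_
    obtain ⟨w, hw⟩ := (Curves.LES.exactK₃ A hS 1 2 rfl y).1 (h2'.elim _ _)
    exact hw.symm.trans ((congrArg _ (h1'.elim w 0)).trans (map_zero _))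
  refine ⟨(Curves.LES.isoK A eT 1).toEquiv.subsingleton, ?_⟩
  obtain ⟨α, β, w, hS⟩ := SurfInt.ColonSeq.exists_colonSeq (J ^ n) J (J ^ (n + 1)) hCi fun x => by
    obtain ⟨g, hg, hgs⟩ := CartierDescent.stalkIdeal_eq_span hJ x
    refine ⟨g ^ n, by rw [ModelFibre.StalkIdeal.stalkIdeal_pow, hgs, Ideal.span_singleton_pow], fun a => ?_⟩
    rw [ModelFibre.StalkIdeal.stalkIdeal_pow, hgs, Ideal.span_singleton_pow,
      Ideal.mem_span_singleton', Ideal.mem_span_singleton']
    constructor
    · rintro ⟨b, hb'⟩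
      refine ⟨b, (mul_cancel_left_mem_nonZeroDivisors (pow_mem hg n)).1 ?_⟩
      rw [← hb', pow_succ]; ring
    · rintro ⟨b, rfl⟩
      exact ⟨b, by rw [pow_succ]; ring⟩
  have hsup : J ^ n ⊔ J ^ (n + 1) = J ^ n := sup_eq_left.2 (Scheme.IdealSheafData.le_def.mpr fun U => by
    rw [Scheme.IdealSheafData.ideal_pow, Scheme.IdealSheafData.ideal_pow, Pi.pow_apply, Pi.pow_apply]
    exact Ideal.pow_le_pow_right n.le_succ)
  have hlen := Module.length_eq_add_of_exact (Curves.LES.mapK A α 0) (Curves.LES.mapK A β 0)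
    (haveI := hS.mono_f; Curves.LES.mapK_injective_of_mono A α)
    (fun y => (Curves.LES.exactK₃ A hS 0 1 rfl y).1 (hT1.elim _ _))
    (Curves.LES.exactK₂ A hS 0)
  obtain ⟨i₁⟩ := hiso (n + 1)
  obtain ⟨i₀⟩ := hiso n
  rw [← i₁.length_eq, (Curves.LES.isoK A (eqToIso (congrArg ClSub.quotMod hsup)) 0).length_eq,
    ← i₀.length_eq] at hlen
  rw [(Curves.LES.isoK A eT 0).length_eq]
  let P := Submodule.comap (m ^ n).subtype (m ^ (n + 1))
  let a : (↥(m ^ n) ⧸ P) →ₗ[A] A ⧸ m ^ (n + 1) := Submodule.mapQ P (m ^ (n + 1)) (m ^ n).subtype le_rfl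
  let b : (A ⧸ m ^ (n + 1)) →ₗ[A] A ⧸ m ^ n := Submodule.factor (Ideal.pow_le_pow_right n.le_succ)
  have hlen' := Module.length_eq_add_of_exact a b
    (by
      rw [← LinearMap.ker_eq_bot, eq_bot_iff]
      rintro x hx
      obtain ⟨v, rfl⟩ := Submodule.Quotient.mk_surjective _ x
      rw [LinearMap.mem_ker] at hx
      exact (Submodule.Quotient.mk_eq_zero P).2 ((Submodule.Quotient.mk_eq_zero (m ^ (n + 1))).1 hx : (v : A) ∈ m ^ (n + 1)))
    (Submodule.factor_surjective _)
    (fun y => by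
      obtain ⟨y, rfl⟩ := Submodule.Quotient.mk_surjective _ y
      refine ⟨fun h => ⟨Submodule.Quotient.mk ⟨y, (Submodule.Quotient.mk_eq_zero _).1 h⟩, rfl⟩, ?_⟩
      rintro ⟨v, hv⟩
      obtain ⟨v, rfl⟩ := Submodule.Quotient.mk_surjective _ v
      rw [← hv]
      exact (Submodule.Quotient.mk_eq_zero _).2 v.2)
  have hfin : Module.length A (A ⧸ m ^ n) ≠ ⊤ :=
    Module.length_ne_top_iff.2 (InjHull.Complete.isFiniteLength_quotient_pow (R := A) m n)
  exact WithTop.add_right_cancel hfin (hlen.symm.trans hlen')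

end Groth.Agent.S7337
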