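import Groth.Statements.S1597
import Groth.Agent.Lib.Regular.Completion
import Mathlib.AlgebraicGeometry.Pullbacks

set_option autoImplicit false
universe u
open CategoryTheory CategoryTheory.Limits AlgebraicGeometry
open Resolve

namespace Groth.Agent.S1597

open TensorProduct IsLocalRing
open Groth.Agent.Lib.Regular

/-- The stalk at a point in the image of an affine open chart is a localization. -/
noncomputable def stalkEquiv {Y : Scheme.{u}} {C : Type u} [CommRing C]
    (j : Spec (CommRingCat.of C) ⟶ Y) [IsOpenImmersion j] (p : PrimeSpectrum C) :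
    Y.presheaf.stalk (j p) ≃+* Localization.AtPrime p.asIdeal :=
  let q : ↥(Spec (CommRingCat.of C)) := p
  letI : Algebra C ((Spec (CommRingCat.of C)).presheaf.stalk q) :=
    StructureSheaf.stalkAlgebra (CommRingCat.of C) q
  haveI : IsLocalization.AtPrime ((Spec (CommRingCat.of C)).presheaf.stalk q) p.asIdeal :=
    StructureSheaf.IsLocalization.to_stalk (CommRingCat.of C) q
  (asIso (j.stalkMap q)).commRingCatIsoToRingEquiv.trans
    (IsLocalization.algEquiv p.asIdeal.primeCompl _ (Localization.AtPrime p.asIdeal)).toRingEquiv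

theorem regular_iff {Y : Scheme.{u}} {C : Type u} [CommRing C]
    (j : Spec (CommRingCat.of C) ⟶ Y) [IsOpenImmersion j] (Q : PrimeSpectrum C) :
    IsRegularLocalRing (Y.presheaf.stalk (j Q)) ↔ IsRegularLocalRing (Localization.AtPrime Q.asIdeal) :=
  ⟨fun h => IsRegularLocalRing.of_ringEquiv (stalkEquiv j Q),
    fun h => IsRegularLocalRing.of_ringEquiv (stalkEquiv j Q).symm⟩

/-- Regularity passes to generizations. -/
theorem regular_of_specializes {Y : Scheme.{u}} {y y₀ : Y} (h : y ⤳ y₀)
    (hr : IsRegularLocalRing (Y.presheaf.stalk y₀)) : IsRegularLocalRing (Y.presheaf.stalk y) := by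
  let i := Y.affineOpenCover.idx y₀
  let C : Type u := Y.affineOpenCover.X i
  let j : Spec (CommRingCat.of C) ⟶ Y := Y.affineOpenCover.f i
  haveI : IsOpenImmersion j := inferInstanceAs (IsOpenImmersion (Y.affineOpenCover.f i))
  obtain ⟨(Q₀ : PrimeSpectrum C), hQ₀⟩ : y₀ ∈ Set.range j.base := Y.affineOpenCover.covers y₀
  obtain ⟨(Q : PrimeSpectrum C), hQ⟩ := h.mem_open j.isOpenEmbedding.isOpen_range ⟨Q₀, hQ₀⟩
  rw [← hQ₀] at h hr
  rw [← hQ] at h ⊢
  have hle : Q.asIdeal ≤ Q₀.asIdeal := by
    have : (Q : PrimeSpectrum C) ⤳ Q₀ := j.isOpenEmbedding.toIsEmbedding.toIsInducing.specializes_iff.mp h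
    exact (PrimeSpectrum.le_iff_specializes Q Q₀).mpr this
  haveI := (regular_iff j Q₀).mp hr
  refine (regular_iff j Q).mpr ?_
  let P := Q.asIdeal.map (algebraMap C (Localization.AtPrime Q₀.asIdeal))
  have hdisj : Disjoint (Q₀.asIdeal.primeCompl : Set C) Q.asIdeal :=
    Set.disjoint_left.mpr fun c hc hc' => hc (hle hc')
  haveI : P.IsPrime := IsLocalization.isPrime_of_isPrime_disjoint Q₀.asIdeal.primeCompl _ _ Q.isPrime hdisj
  haveI := Serre.isRegularLocalRing_localization P
  haveI : (P.comap (algebraMap C (Localization.AtPrime Q₀.asIdeal))).IsPrime := Ideal.comap_isPrime _ _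
  have e := (IsLocalization.localizationLocalizationAtPrimeIsoLocalization Q₀.asIdeal.primeCompl P).toRingEquiv
  have hcomap : P.comap (algebraMap C (Localization.AtPrime Q₀.asIdeal)) = Q.asIdeal :=
    IsLocalization.under_map_of_isPrime_disjoint Q₀.asIdeal.primeCompl _ Q.isPrime hdisj
  have hreg : IsRegularLocalRing (Localization.AtPrime (P.comap (algebraMap C (Localization.AtPrime Q₀.asIdeal)))) :=
    IsRegularLocalRing.of_ringEquiv e.symm
  have key : ∀ (q : Ideal C) [q.IsPrime], q = Q.asIdeal →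
      IsRegularLocalRing (Localization.AtPrime q) → IsRegularLocalRing (Localization.AtPrime Q.asIdeal) := by
    rintro q _ rfl hq
    exact hq
  exact key _ hcomap hreg

variable {A : Type u} [CommRing A] [IsLocalRing A] [IsNoetherianRing A]

omit [IsLocalRing A] in
/-- A point of a proper scheme over a local ring specializes to a closed point over the closed point. -/
theorem exists_closed {R : Type u} [CommRing R] [IsLocalRing R] {Y : Scheme.{u}}
    (g : Y ⟶ Spec (CommRingCat.of R)) [IsProper g] (y : Y) :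
    ∃ y₀, y ⤳ y₀ ∧ g y₀ = closedPoint R := by
  haveI : CompactSpace Y := QuasiCompact.compactSpace_of_compactSpace g
  obtain ⟨y₀, hy₀, hc⟩ := isClosed_closure.exists_closed_singleton (S := closure ({y} : Set Y))
    ⟨y, subset_closure rfl⟩
  refine ⟨y₀, specializes_iff_mem_closure.mpr hy₀, ?_⟩
  have hc' : IsClosed ({g y₀} : Set ↥(Spec (CommRingCat.of R))) := by
    simpa using g.isClosedMap _ hc
  exact PrimeSpectrum.ext (IsLocalRing.eq_maximalIdeal
    ((PrimeSpectrum.isClosed_singleton_iff_isMaximal (g y₀ : PrimeSpectrum R)).mp hc'))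

theorem cpl_decomp (â : Curv2.cpl A) :
    ∃ a : A, â - algebraMap A (Curv2.cpl A) a ∈ maximalIdeal (Curv2.cpl A) := by
  obtain ⟨a, ha⟩ := Ideal.Quotient.mk_surjective (AdicCompletion.evalOneₐ (maximalIdeal A) â)
  refine ⟨a, ?_⟩
  rw [← Completion.map_maximalIdeal (maximalIdeal A) (maximalIdeal.isMaximal A).ne_top,
    ← AdicCompletion.ker_evalOneₐ_eq_map (maximalIdeal A) (Ideal.fg_of_isNoetherianRing _)]
  rw [RingHom.mem_ker, map_sub, sub_eq_zero]
  exact ha.symm.trans (RingHom.congr_fun (AdicCompletion.evalOneₐ_comp_algebraMap_eq_mk (maximalIdeal A)) a).symm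

variable {B : Type u} [CommRing B] [Algebra A B]

/-- Closed-fibre primes of `B ⊗ Â` are extended from `B`. -/
theorem eq_map (Q : Ideal (B ⊗[A] Curv2.cpl A)) [Q.IsPrime]
    (hQ : maximalIdeal (Curv2.cpl A) ≤
      Q.comap (Algebra.TensorProduct.includeRight : Curv2.cpl A →ₐ[A] B ⊗[A] Curv2.cpl A)) :
    Q = (Q.comap (algebraMap B (B ⊗[A] Curv2.cpl A))).map (algebraMap B (B ⊗[A] Curv2.cpl A)) := by
  set q := Q.comap (algebraMap B (B ⊗[A] Curv2.cpl A))
  refine le_antisymm (fun c hc => ?_) Ideal.map_comap_le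
  have hm : ∀ μ ∈ maximalIdeal (Curv2.cpl A), (1 : B) ⊗ₜ[A] μ ∈ q.map (algebraMap B _) := by
    intro μ hμ
    have hμ' : Algebra.TensorProduct.includeRight (R := A) (A := B) μ ∈
        ((maximalIdeal A).map (algebraMap A (Curv2.cpl A))).map
          (Algebra.TensorProduct.includeRight : Curv2.cpl A →ₐ[A] B ⊗[A] Curv2.cpl A) := by
      rw [Completion.map_maximalIdeal (maximalIdeal A) (maximalIdeal.isMaximal A).ne_top]
      exact Ideal.mem_map_of_mem _ hμ
    have hle : ((maximalIdeal A).map (algebraMap A (Curv2.cpl A))).map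
        (Algebra.TensorProduct.includeRight : Curv2.cpl A →ₐ[A] B ⊗[A] Curv2.cpl A) ≤
          q.map (algebraMap B _) := by
      rw [Ideal.map_le_iff_le_comap, Ideal.map_le_iff_le_comap]
      intro a ha
      rw [Ideal.mem_comap, Ideal.mem_comap, AlgHom.commutes,
        IsScalarTower.algebraMap_apply A B (B ⊗[A] Curv2.cpl A)]
      refine Ideal.mem_map_of_mem _ ?_
      show algebraMap B (B ⊗[A] Curv2.cpl A) (algebraMap A B a) ∈ Q
      rw [← IsScalarTower.algebraMap_apply A B (B ⊗[A] Curv2.cpl A),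
        ← AlgHom.commutes (Algebra.TensorProduct.includeRight : Curv2.cpl A →ₐ[A] B ⊗[A] Curv2.cpl A)]
      refine hQ ?_
      rw [← Completion.map_maximalIdeal (maximalIdeal A) (maximalIdeal.isMaximal A).ne_top]
      exact Ideal.mem_map_of_mem _ ha
    exact hle hμ'
  have key : ∀ d : B ⊗[A] Curv2.cpl A, ∃ b : B, d - algebraMap B _ b ∈ q.map (algebraMap B _) := by
    intro d
    induction d using TensorProduct.induction_on with
    | zero => exact ⟨0, by simp⟩
    | add x y hx hy =>
      obtain ⟨b, hb⟩ := hx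
      obtain ⟨b', hb'⟩ := hy
      exact ⟨b + b', by rw [map_add, add_sub_add_comm]; exact add_mem hb hb'⟩
    | tmul b μ =>
      obtain ⟨a, ha⟩ := cpl_decomp μ
      refine ⟨a • b, ?_⟩
      have h1 : b ⊗ₜ[A] μ - algebraMap B (B ⊗[A] Curv2.cpl A) (a • b)
          = (b ⊗ₜ[A] (1 : Curv2.cpl A)) * ((1 : B) ⊗ₜ[A] (μ - algebraMap A _ a)) := by
        rw [Algebra.TensorProduct.tmul_mul_tmul, mul_one, one_mul, TensorProduct.tmul_sub,
          Algebra.TensorProduct.algebraMap_apply, Algebra.algebraMap_self, RingHom.id_apply,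
          TensorProduct.smul_tmul, Algebra.algebraMap_eq_smul_one]
      rw [h1]
      exact Ideal.mul_mem_left _ _ (hm _ ha)
  obtain ⟨b, hb⟩ := key c
  have hbQ : b ∈ q := by
    have : c - algebraMap B _ b ∈ Q := Ideal.map_comap_le hb
    simpa [q] using Q.sub_mem hc this
  simpa using add_mem hb (Ideal.mem_map_of_mem _ hbQ)

theorem localization_iff [Algebra.FiniteType A B] (Q : Ideal (B ⊗[A] Curv2.cpl A)) [Q.IsPrime]
    (hQ : maximalIdeal (Curv2.cpl A) ≤
      Q.comap (Algebra.TensorProduct.includeRight : Curv2.cpl A →ₐ[A] B ⊗[A] Curv2.cpl A)) :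
    IsRegularLocalRing (Localization.AtPrime (Q.comap (algebraMap B (B ⊗[A] Curv2.cpl A)))) ↔
      IsRegularLocalRing (Localization.AtPrime Q) := by
  haveI := Groth.Agent.Lib.Excellent.CompletionNoetherian.isNoetherianRing_adicCompletion (A := A)
    (maximalIdeal A)
  haveI : IsNoetherianRing B := Algebra.FiniteType.isNoetherianRing A B
  haveI : IsNoetherianRing (Curv2.cpl A ⊗[A] B) := Algebra.FiniteType.isNoetherianRing (Curv2.cpl A) _
  haveI : IsNoetherianRing (B ⊗[A] Curv2.cpl A) :=
    isNoetherianRing_of_ringEquiv _ (Algebra.TensorProduct.comm A (Curv2.cpl A) B).toRingEquiv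
  let φ : Localization.AtPrime (Q.comap (algebraMap B (B ⊗[A] Curv2.cpl A))) →+* Localization.AtPrime Q :=
    Localization.localRingHom (Q.comap (algebraMap B (B ⊗[A] Curv2.cpl A))) Q
    (algebraMap B (B ⊗[A] Curv2.cpl A)) rfl
  have hf0 : (algebraMap B (B ⊗[A] Curv2.cpl A)).Flat := RingHom.flat_algebraMap_iff.mpr inferInstance
  have hflat := hf0.localRingHom Q _ rfl
  letI := φ.toAlgebra
  haveI : Module.Flat (Localization.AtPrime (Q.comap (algebraMap B (B ⊗[A] Curv2.cpl A))))
      (Localization.AtPrime Q) := RingHom.flat_algebraMap_iff.mp hflat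
  haveI : IsLocalHom (algebraMap (Localization.AtPrime (Q.comap (algebraMap B (B ⊗[A] Curv2.cpl A))))
      (Localization.AtPrime Q)) := Localization.isLocalHom_localRingHom _ _ _ rfl
  refine Descent.isRegularLocalRing_iff (Localization.AtPrime Q) ?_
  rw [← Localization.AtPrime.map_eq_maximalIdeal, Ideal.map_map]
  have hc : (algebraMap (Localization.AtPrime (Q.comap (algebraMap B (B ⊗[A] Curv2.cpl A))))
      (Localization.AtPrime Q)).comp (algebraMap B _) =
        (algebraMap (B ⊗[A] Curv2.cpl A) (Localization.AtPrime Q)).comp (algebraMap B _) :=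
    RingHom.ext fun b => Localization.localRingHom_to_map _ _ _ rfl b
  rw [hc, ← Ideal.map_map, ← eq_map Q hQ, Localization.AtPrime.map_eq_maximalIdeal]

/-- At a point of the closed fibre, the base change to the completion does not affect regularity. -/
theorem point_iff {X : Scheme.{u}} (f : X ⟶ Spec (CommRingCat.of A)) [LocallyOfFiniteType f]
    (y : Curv2.bcCpl A f) (hy : Curv2.bcCplSnd A f y = closedPoint (Curv2.cpl A)) :
    IsRegularLocalRing (X.presheaf.stalk (Curv2.bcCplFst A f y)) ↔
      IsRegularLocalRing ((Curv2.bcCpl A f).presheaf.stalk y) := by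
  let i := X.affineOpenCover.idx (Curv2.bcCplFst A f y)
  let B : Type u := X.affineOpenCover.X i
  let j : Spec (CommRingCat.of B) ⟶ X := X.affineOpenCover.f i
  haveI : IsOpenImmersion j := inferInstanceAs (IsOpenImmersion (X.affineOpenCover.f i))
  obtain ⟨P, hP⟩ : Curv2.bcCplFst A f y ∈ Set.range j.base := X.affineOpenCover.covers _
  letI : Algebra A B := (Spec.preimage (j ≫ f)).hom.toAlgebra
  have hψ : Spec.map (CommRingCat.ofHom (algebraMap A B)) = j ≫ f := Spec.map_preimage (j ≫ f)
  haveI : Algebra.FiniteType A B := by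
    have : LocallyOfFiniteType (Spec.map (CommRingCat.ofHom (algebraMap A B))) := by
      rw [hψ]; infer_instance
    exact (HasRingHomProperty.Spec_iff (P := @LocallyOfFiniteType)).mp this
  let g := Spec.map (CommRingCat.ofHom (algebraMap A (Curv2.cpl A)))
  let e : Spec (CommRingCat.of (B ⊗[A] Curv2.cpl A)) ≅ pullback j (pullback.fst f g) :=
    (pullbackSpecIso A B (Curv2.cpl A)).symm ≪≫
      pullback.congrHom hψ rfl ≪≫ (pullbackRightPullbackFstIso f g j).symm
  let j' : Spec (CommRingCat.of (B ⊗[A] Curv2.cpl A)) ⟶ Curv2.bcCpl A f :=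
    e.hom ≫ pullback.snd j (pullback.fst f g)
  haveI : IsOpenImmersion j' := inferInstanceAs (IsOpenImmersion (e.hom ≫ pullback.snd j (pullback.fst f g)))
  have hfst : j' ≫ Curv2.bcCplFst A f =
      Spec.map (CommRingCat.ofHom (algebraMap B (B ⊗[A] Curv2.cpl A))) ≫ j := by
    simp only [j', e, Curv2.bcCplFst, Iso.trans_hom, Iso.symm_hom, Category.assoc, g]
    rw [← pullback.condition, pullbackRightPullbackFstIso_inv_fst_assoc, pullback.congrHom_hom,
      pullback.lift_fst_assoc, Category.comp_id, pullbackSpecIso_inv_fst_assoc]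
  have hsnd : j' ≫ Curv2.bcCplSnd A f =
      Spec.map (CommRingCat.ofHom (Algebra.TensorProduct.includeRight :
        Curv2.cpl A →ₐ[A] B ⊗[A] Curv2.cpl A).toRingHom) := by
    simp only [j', e, Curv2.bcCplSnd, Iso.trans_hom, Iso.symm_hom, Category.assoc, g]
    rw [pullbackRightPullbackFstIso_inv_snd_snd, pullback.congrHom_hom, pullback.lift_snd,
      Category.comp_id, pullbackSpecIso_inv_snd]
    rfl
  obtain ⟨w, hw1, hw2⟩ := Scheme.Pullback.exists_preimage_pullback (f := j) (g := pullback.fst f g) P y hP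
  obtain ⟨(Q : PrimeSpectrum (B ⊗[A] Curv2.cpl A)), hQ⟩ : y ∈ Set.range j'.base :=
    ⟨e.inv w, by
      change (e.inv ≫ j') w = y
      simp only [j', Iso.inv_hom_id_assoc]
      exact hw2⟩
  rw [← hQ] at hy ⊢
  have h1 : Curv2.bcCplFst A f (j' Q) = j (PrimeSpectrum.comap (algebraMap B (B ⊗[A] Curv2.cpl A)) Q) := by
    change (j' ≫ Curv2.bcCplFst A f) Q = _
    rw [hfst]; rfl
  have h2 : PrimeSpectrum.comap (Algebra.TensorProduct.includeRight :
        Curv2.cpl A →ₐ[A] B ⊗[A] Curv2.cpl A).toRingHom Q = closedPoint (Curv2.cpl A) := by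
    rw [← hy]
    change _ = (j' ≫ Curv2.bcCplSnd A f) Q
    rw [hsnd]; rfl
  rw [regular_iff j' Q, h1, regular_iff]
  exact localization_iff Q.asIdeal (congrArg PrimeSpectrum.asIdeal h2).ge

/-- Let A be a Noetherian local ring with completion A^, X a scheme proper over Spec A and Y its base
change to Spec A^. Then all local rings of X are regular if and only if all local rings of Y are
regular. -/
theorem result (A : Type u) [CommRing A] [IsLocalRing A] [IsNoetherianRing A]
    (X : Scheme.{u}) (f : X ⟶ Spec (CommRingCat.of A)) [IsProper f] :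
    (∀ x : X, IsRegularLocalRing (X.presheaf.stalk x)) ↔
      ∀ y : Curv2.bcCpl A f, IsRegularLocalRing ((Curv2.bcCpl A f).presheaf.stalk y) := by
  constructor
  · intro h y
    haveI := Completion.isLocalRing (maximalIdeal A) (maximalIdeal.isMaximal A).ne_top
    obtain ⟨y₀, hs, hc⟩ := exists_closed (Curv2.bcCplSnd A f) y
    exact regular_of_specializes hs ((point_iff f y₀ hc).mp (h _))
  · intro h x
    obtain ⟨x₀, hs, hc⟩ := exists_closed f x
    obtain ⟨y₀, hy1, hy2⟩ := Scheme.Pullback.exists_preimage_pullback (f := f)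
      (g := Spec.map (CommRingCat.ofHom (algebraMap A (Curv2.cpl A)))) x₀ (closedPoint (Curv2.cpl A))
      (by
        rw [hc]
        exact (IsLocalRing.comap_closedPoint (algebraMap A (Curv2.cpl A))).symm)
    refine regular_of_specializes hs ?_
    rw [← hy1]
    exact (point_iff f y₀ hy2).mpr (h y₀)

end Groth.Agent.S1597
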