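import Groth.Statements.S18070
import Groth.Agent.Lib.GrpQ.GlobalFn


set_option autoImplicit false
universe u
open CategoryTheory MonoidalCategory CartesianMonoidalCategory MonObj GrpObj AlgebraicGeometry CategoryTheory.Limits
open AlgGrp

namespace Groth.Agent.S18070

/-- Let k be a field and 1 → G₁ → G → G₂ → 1 an exact sequence of k-group schemes of finite type with
G₁, G₂ connected (i : G₁ → G a homomorphism and closed immersion which is the kernel of the flat
surjective homomorphism q : G → G₂). Anti-affineness passes from G to the quotient G₂; in the other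
direction, G is anti-affine whenever G₁ and G₂ both are. -/
theorem result (k : Type u) [Field k]
    (G₁ G G₂ : Over (Spec (CommRingCat.of k))) [GrpObj G₁] [LocallyOfFiniteType G₁.hom] [QuasiCompact G₁.hom] [ConnectedSpace ↥G₁.left]
    [GrpObj G] [LocallyOfFiniteType G.hom] [QuasiCompact G.hom]
    [GrpObj G₂] [LocallyOfFiniteType G₂.hom] [QuasiCompact G₂.hom] [ConnectedSpace ↥G₂.left]
    (i : G₁ ⟶ G) [IsMonHom i] [IsClosedImmersion i.left] (q : G ⟶ G₂) [IsMonHom q] [Surjective q.left] [Flat q.left]
    (hex : AlgGrp.IsKernel i q) :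
    (Function.Bijective ((Scheme.ΓSpecIso (CommRingCat.of k)).inv ≫ G.hom.appTop).hom → Function.Bijective ((Scheme.ΓSpecIso (CommRingCat.of k)).inv ≫ G₂.hom.appTop).hom) ∧
    (Function.Bijective ((Scheme.ΓSpecIso (CommRingCat.of k)).inv ≫ G₁.hom.appTop).hom → Function.Bijective ((Scheme.ΓSpecIso (CommRingCat.of k)).inv ≫ G₂.hom.appTop).hom → Function.Bijective ((Scheme.ΓSpecIso (CommRingCat.of k)).inv ≫ G.hom.appTop).hom) := by
  have hne : ∀ (X : Over (Spec (CommRingCat.of k))) [GrpObj X], Nonempty X.left :=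
    fun X _ => ⟨η[X].left (IsLocalRing.closedPoint k)⟩
  have := hne G₁
  have := hne G
  have := hne G₂
  have := Groth.Agent.Lib.GrpQ.quasiCompact_left q
  rw [Groth.Agent.Lib.GrpQ.GlobalFn.bijective_iff, Groth.Agent.Lib.GrpQ.GlobalFn.bijective_iff,
    Groth.Agent.Lib.GrpQ.GlobalFn.bijective_iff]
  have hw : G.hom.appTop = G₂.hom.appTop ≫ q.left.appTop := by
    rw [← Scheme.Hom.comp_appTop, Over.w q]
  refine ⟨fun h a => ?_, fun h1 h2 => ?_⟩
  · obtain ⟨c, hc⟩ := h (q.left.appTop.hom a)
    refine ⟨c, ?_⟩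
    have hinj : Function.Injective q.left.appTop.hom := by
      intro x y hxy
      have : Epi q.left := Flat.epi_of_flat_of_surjective _
      have e : q.left.appTop.hom x = q.left.appTop.hom y := hxy
      let f : ∀ z : Γ(G₂.left, ⊤), G₂.left ⟶ Spec (CommRingCat.of (Polynomial (ULift.{u} ℤ))) := fun z =>
        G₂.left.toSpecΓ ≫ Spec.map (CommRingCat.ofHom (Polynomial.eval₂RingHom
          ((Int.castRingHom Γ(G₂.left, ⊤)).comp ULift.ringEquiv.toRingHom) z))
      have hf : q.left ≫ f x = q.left ≫ f y := by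
        simp only [f, Scheme.toSpecΓ_naturality_assoc, ← Spec.map_comp]
        congr 2
        ext n
        · exact RingHom.congr_fun (Subsingleton.elim
            ((q.left.appTop.hom.comp (Polynomial.eval₂RingHom
              ((Int.castRingHom Γ(G₂.left, ⊤)).comp ULift.ringEquiv.toRingHom) x)).comp
              (Polynomial.C.comp (ULift.ringEquiv.symm.toRingHom : ℤ →+* ULift.{u} ℤ)))
            ((q.left.appTop.hom.comp (Polynomial.eval₂RingHom
              ((Int.castRingHom Γ(G₂.left, ⊤)).comp ULift.ringEquiv.toRingHom) y)).comp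
              (Polynomial.C.comp (ULift.ringEquiv.symm.toRingHom : ℤ →+* ULift.{u} ℤ)))) n.down
        · simpa using e
      have := congrArg (fun m : G₂.left ⟶ _ => ((Scheme.ΓSpecIso _).inv ≫ m.appTop).hom Polynomial.X)
        ((cancel_epi q.left).1 hf)
      simp only [f, Scheme.Hom.comp_appTop, Scheme.toSpecΓ_appTop, Scheme.ΓSpecIso_naturality_assoc,
        Scheme.ΓSpecIso_inv_naturality_assoc, Category.assoc] at this
      simpa using this
    apply hinj
    rw [← hc, hw]; rfl
  · have := Groth.Agent.Lib.GrpQ.GlobalFn.isIso_appTop h1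
    intro a
    obtain ⟨b, rfl⟩ := Groth.Agent.Lib.GrpQ.GlobalFn.appTop_surjective_of_kernel i q hex a
    obtain ⟨c, rfl⟩ := h2 b
    exact ⟨c, by rw [hw]; rfl⟩

end Groth.Agent.S18070
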