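import Groth.Statements.S14080
import Mathlib.RingTheory.PowerSeries.Substitution
import Mathlib.RingTheory.PowerSeries.Inverse
import Mathlib.Tactic.LinearCombination
import Mathlib.Tactic.FieldSimp

set_option autoImplicit false
universe u
open ArSing

namespace Groth.Agent.S14080

/-- Let k be a field in which 2 is invertible and σ an involutive k-algebra automorphism of the power
series ring k[[t]], with ξ the coefficient of t in σ(t). Then ξ^2 = 1, the k-algebra endomorphism φ
with φ(t) = (t + ξ σ(t))/2 is an automorphism, and φ⁻¹ σ φ is the automorphism t ↦ ξ t. (The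
published statement is over an algebraically closed field of characteristic prime to 2; only the
invertibility of 2 is used, so any field with 2 ≠ 0 is allowed here.) -/
theorem result (k : Type u) [Field k] (h2 : (2 : k) ≠ 0)
    (σ : PowerSeries k ≃ₐ[k] PowerSeries k) (hσ : ∀ f, σ (σ f) = f) :
    (PowerSeries.coeff 1 (σ PowerSeries.X)) ^ 2 = 1 ∧
    ∃ φ : PowerSeries k ≃ₐ[k] PowerSeries k,
      φ PowerSeries.X = PowerSeries.C (2⁻¹ : k) *
        (PowerSeries.X + PowerSeries.C (PowerSeries.coeff 1 (σ PowerSeries.X)) * σ PowerSeries.X) ∧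
      ∀ f, φ.symm (σ (φ f)) = PowerSeries.rescale (PowerSeries.coeff 1 (σ PowerSeries.X)) f := by
  set s := σ PowerSeries.X with hs
  set ξ := PowerSeries.coeff 1 s with hξ
  have cc0 : ∀ τ : PowerSeries k ≃ₐ[k] PowerSeries k, PowerSeries.constantCoeff (τ PowerSeries.X) = 0 := by
    intro τ
    by_contra h
    have hu : IsUnit (τ PowerSeries.X) := PowerSeries.isUnit_iff_constantCoeff.2 (isUnit_iff_ne_zero.2 h)
    have hu2 := hu.map τ.symm
    rw [AlgEquiv.symm_apply_apply] at hu2
    exact not_isUnit_zero (PowerSeries.constantCoeff_X (R := k) ▸ PowerSeries.isUnit_iff_constantCoeff.1 hu2)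
  have key : ∀ (τ : PowerSeries k ≃ₐ[k] PowerSeries k) (f : PowerSeries k), τ f = PowerSeries.subst (τ PowerSeries.X) f := by
    intro τ f
    have hsub := PowerSeries.HasSubst.of_constantCoeff_zero' (cc0 τ)
    ext n
    obtain ⟨g, hg⟩ : PowerSeries.X ^ (n + 1) ∣ f - (PowerSeries.trunc (n + 1) f : PowerSeries k) := by
      rw [PowerSeries.X_pow_dvd_iff]
      intro i hi
      rw [map_sub, Polynomial.coeff_coe, PowerSeries.coeff_trunc, if_pos hi, sub_self]
    rw [sub_eq_iff_eq_add] at hg
    have hp : τ (PowerSeries.trunc (n + 1) f : PowerSeries k) = PowerSeries.subst (τ PowerSeries.X) (PowerSeries.trunc (n + 1) f : PowerSeries k) := by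
      rw [PowerSeries.subst_coe hsub]
      have hcoe : ∀ p : Polynomial k, Polynomial.aeval (PowerSeries.X : PowerSeries k) p = (p : PowerSeries k) := by
        intro p
        induction p using Polynomial.induction_on' with
        | add a b ha hb => simp [ha, hb]
        | monomial i a => rw [Polynomial.aeval_monomial, ← Polynomial.C_mul_X_pow_eq_monomial, Polynomial.coe_mul, Polynomial.coe_C, Polynomial.coe_pow, Polynomial.coe_X]; rfl
      rw [← hcoe, ← Polynomial.aeval_algHom_apply τ]
    have hz : ∀ w : PowerSeries k, PowerSeries.coeff n (τ PowerSeries.X ^ (n + 1) * w) = 0 := by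
      intro w
      obtain ⟨q, hq⟩ := PowerSeries.X_dvd_iff.2 (cc0 τ)
      rw [hq, mul_pow, mul_assoc, PowerSeries.coeff_X_pow_mul', if_neg (by omega)]
    rw [hg, map_add, map_mul, map_pow, PowerSeries.subst_add hsub, PowerSeries.subst_mul hsub, PowerSeries.subst_pow hsub,
      PowerSeries.subst_X hsub, map_add, map_add, hz, hz, hp]
  have hsub := PowerSeries.HasSubst.of_constantCoeff_zero' (cc0 σ)
  have hsq : ξ ^ 2 = 1 := by
    have h := congrArg (PowerSeries.coeff 1) (hσ PowerSeries.X)
    rw [← hs, key σ s, ← hs, PowerSeries.coeff_subst' hsub, finsum_eq_single _ 1, pow_one, PowerSeries.coeff_one_X, smul_eq_mul] at h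
    · rw [pow_two]; exact h
    · intro d hd
      obtain ⟨q, hq⟩ := PowerSeries.X_dvd_iff.2 (cc0 σ)
      rcases d with _ | d
      · simp
      · rw [hq, mul_pow, PowerSeries.coeff_X_pow_mul', if_neg (by omega), smul_zero]
  refine ⟨hsq, ?_⟩
  set U := PowerSeries.C (2⁻¹ : k) * (PowerSeries.X + PowerSeries.C ξ * s) with hU
  have hU0 : PowerSeries.constantCoeff U = 0 := by simp [hU, hs, cc0 σ]
  have hU1 : PowerSeries.coeff 1 U = 1 := by
    rw [hU, PowerSeries.coeff_C_mul, map_add, PowerSeries.coeff_C_mul, PowerSeries.coeff_one_X, ← hξ, ← pow_two, hsq]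
    field_simp
    norm_num
  haveI : Invertible (PowerSeries.coeff 1 U) := (isUnit_one.invertible).copy _ hU1
  have hUs := PowerSeries.HasSubst.of_constantCoeff_zero' hU0
  have hVs : PowerSeries.HasSubst U.substInv := PowerSeries.HasSubst.substInv U
  let φ : PowerSeries k ≃ₐ[k] PowerSeries k := AlgEquiv.ofAlgHom (PowerSeries.substAlgHom hUs) (PowerSeries.substAlgHom hVs)
    (by
      ext f
      simp only [AlgHom.comp_apply, AlgHom.id_apply, PowerSeries.coe_substAlgHom]
      rw [PowerSeries.subst_comp_subst_apply hVs hUs, PowerSeries.subst_substInv_left U hU0, PowerSeries.X_subst])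
    (by
      ext f
      simp only [AlgHom.comp_apply, AlgHom.id_apply, PowerSeries.coe_substAlgHom]
      rw [PowerSeries.subst_comp_subst_apply hUs hVs, PowerSeries.subst_substInv_right U hU0, PowerSeries.X_subst])
  have hφX : φ PowerSeries.X = U := by
    simp [φ, PowerSeries.coe_substAlgHom, PowerSeries.subst_X hUs]
  refine ⟨φ, hφX, fun f => ?_⟩
  let τ := (φ.trans σ).trans φ.symm
  have hτX : τ PowerSeries.X = PowerSeries.C ξ * PowerSeries.X := by
    show φ.symm (σ (φ PowerSeries.X)) = _
    apply φ.injective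
    rw [AlgEquiv.apply_symm_apply, map_mul, hφX, hU, map_mul, map_add, map_mul,
      show σ (PowerSeries.C (2⁻¹ : k)) = PowerSeries.C (2⁻¹ : k) from σ.commutes _,
      show σ (PowerSeries.C ξ) = PowerSeries.C ξ from σ.commutes _,
      show φ (PowerSeries.C ξ) = PowerSeries.C ξ from φ.commutes _, ← hs, show σ s = PowerSeries.X from hσ _]
    have : PowerSeries.C ξ * PowerSeries.C ξ = 1 := by rw [← map_mul, ← pow_two, hsq, map_one]
    linear_combination -(PowerSeries.C (2⁻¹ : k) * s) * this
  show τ f = _
  rw [key τ f, hτX, PowerSeries.rescale_eq_subst, ← PowerSeries.smul_eq_C_mul]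

end Groth.Agent.S14080
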