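import Groth.Statements.S12907
import Groth.Agent.H80.HB.Basic
import Groth.Agent.Lib.Depth.Basic
import Groth.Agent.S12909

set_option autoImplicit false
set_option backward.isDefEq.respectTransparency false
universe u
open CAlgX
open scoped Matrix Pointwise

namespace Groth.Agent.S12907

/-- Let R be a Noetherian ring and I a nonzero ideal admitting a free resolution 0 → R^m → R^n → I → 0:
an injective matrix Ψ with n rows and m columns, and a linear map π : R^n → R with image I whose
kernel is the image of Ψ. Then n = m + 1; there is a non-zero-divisor a with I = a · I_m(Ψ), where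
I_m(Ψ) is the ideal generated by the m × m minors of Ψ; and the I_m(Ψ)-depth of R is at least 2.
(The published statement also asserts that this depth is exactly 2; only the lower bound is stated
here. The hypothesis that I is nonzero is implicit in the published statement.) -/
theorem result {R : Type u} [CommRing R] [IsNoetherianRing R] (m n : ℕ)
    (Ψ : Matrix (Fin n) (Fin m) R) (π : (Fin n → R) →ₗ[R] R)
    (hΨ : LinearMap.ker Ψ.mulVecLin = ⊥) (hex : LinearMap.ker π = LinearMap.range Ψ.mulVecLin)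
    (hI : LinearMap.range π ≠ ⊥) :
    n = m + 1 ∧
      (∃ a : R, a ∈ nonZeroDivisors R ∧ LinearMap.range π = Ideal.span {a} * CAlgX.minorIdeal Ψ m) ∧
      2 ≤ LocCoh.idealDepth (CAlgX.minorIdeal Ψ m) R := by
  classical
  -- `n = m + 1`
  let N : ℕ → ℕ := fun i => match i with | 0 => 1 | 1 => n | _ + 2 => m
  let f : ∀ i, (Fin (N (i + 1)) → R) →ₗ[R] (Fin (N i) → R) := fun i =>
    match i with
    | 0 => LinearMap.pi fun _ => π
    | 1 => Ψ.mulVecLin
    | _ + 2 => 0
  have hk0 : LinearMap.ker (f 0) = LinearMap.ker π := by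
    show LinearMap.ker (LinearMap.pi fun _ : Fin 1 => π) = _
    rw [LinearMap.ker_pi]; exact iInf_const
  have hcases := fun (Q : Ideal R) hQ => Groth.Agent.S12909.alt_cases 2 (by norm_num) N rfl f
    (fun i hi => by
      obtain rfl : i = 0 := by omega
      exact hk0.trans hex) hΨ (LinearMap.range π)
    (fun x => ⟨fun ⟨v, hv⟩ => ⟨v, (0 : Fin 1), hv⟩, fun ⟨v, _, hv⟩ => ⟨v, hv⟩⟩) Q hQ
  have halt : Groth.Agent.S12909.alt 2 N = 1 := by
    obtain ⟨x, hx, hx0⟩ := (Submodule.ne_bot_iff _).mp hI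
    obtain ⟨Q, hQ, hle⟩ := exists_le_isAssociatedPrime_of_isNoetherianRing R x hx0
    refine (hcases Q hQ).1.resolve_left fun h0 => ?_
    obtain ⟨t, ht, htx⟩ := (hcases Q hQ).2.1 h0 x hx
    exact ht (hle (by rw [Submodule.mem_colon_singleton, Submodule.mem_bot, smul_eq_mul, htx]))
  obtain rfl : n = m + 1 := by
    simp [Groth.Agent.S12909.alt, N] at halt
    omega
  refine ⟨rfl, ?_⟩
  open Groth.Agent.H80.HB.Basic in
  let p : Fin (m + 1) → R := fun i => π (Pi.single i 1)
  have hπ : ∀ v : Fin (m + 1) → R, π v = ∑ i, p i * v i := fun v => by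
    conv_lhs => rw [← Finset.univ_sum_single v]
    rw [map_sum]
    refine Finset.sum_congr rfl fun i _ => ?_
    rw [mul_comm, ← smul_eq_mul, ← map_smul, ← Pi.single_smul', smul_eq_mul, mul_one]
  have hp : ∀ c, ∑ i, p i * Ψ i c = 0 := fun c => by
    rw [← hπ]
    exact LinearMap.mem_ker.mp (hex.ge ⟨Pi.single c 1, by ext i; simp⟩)
  rw [Groth.Agent.H80.HB.Basic.minorIdeal_eq]
  set Jm := Groth.Agent.H80.HB.Basic.J Ψ
  -- `Jm` lies in no associated prime of `R`
  have hA : ∀ P ∈ associatedPrimes R R, ¬ Jm ≤ P := by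
    intro P hP hle
    have := hP.isPrime
    rw [AssociatedPrimes.mem_iff, isAssociatedPrime_iff] at hP
    obtain ⟨-, s, hs⟩ := hP
    obtain ⟨w, c, hc, hw⟩ := Groth.Agent.H80.HB.Basic.deficient Ψ P hle
    have hm : ∀ y, y ∈ P ↔ y * s = 0 := fun y => by
      rw [hs, Submodule.mem_colon_singleton, Submodule.mem_bot, smul_eq_mul]
    have hsw : s • w = 0 := LinearMap.ker_eq_bot'.mp hΨ _ (by
      rw [Matrix.mulVecLin_apply, Matrix.mulVec_smul]
      funext i
      rw [Pi.smul_apply, smul_eq_mul, mul_comm, (hm _).mp (hw i), Pi.zero_apply])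
    exact hc ((hm _).mpr (by rw [mul_comm]; exact congrFun hsw c))
  have havoid : ∀ (s : Set (Ideal R)), s.Finite → (∀ P ∈ s, P.IsPrime ∧ ¬ Jm ≤ P) →
      ∃ x ∈ Jm, ∀ P ∈ s, x ∉ P := by
    intro s hfin h
    by_contra hc
    push Not at hc
    obtain ⟨P, hP, hle⟩ := (Jm.subset_union_prime_finite hfin (f := id) 0 0 fun P hP _ _ => (h P hP).1).1
      (fun x hx => by
        obtain ⟨P, hP, hxP⟩ := hc x hx
        exact Set.mem_biUnion hP hxP)
    exact (h P hP).2 hle
  obtain ⟨d, hdJ, hd⟩ := havoid _ (associatedPrimes.finite R R) (fun P hP => ⟨hP.isPrime, hA P hP⟩)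
  have hd0 : d ∈ nonZeroDivisors R := by
    by_contra h
    have : d ∈ ⋃ p ∈ associatedPrimes R R, (p : Set R) := by
      rw [biUnion_associatedPrimes_eq_compl_nonZeroDivisors]; exact h
    obtain ⟨P, hP, hdP⟩ := Set.mem_iUnion₂.mp this
    exact hd P hP hdP
  have hcancel : ∀ z : R, d * z = 0 → z = 0 := fun z => (mul_left_mem_nonZeroDivisors_eq_zero_iff hd0).mp
  have hB : ∀ P ∈ associatedPrimes R (R ⧸ Ideal.span {d}), ¬ Jm ≤ P := by
    intro P hP hle
    have := hP.isPrime
    rw [AssociatedPrimes.mem_iff, isAssociatedPrime_iff] at hP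
    obtain ⟨-, s₀, hs⟩ := hP
    obtain ⟨s, rfl⟩ := Ideal.Quotient.mk_surjective s₀
    obtain ⟨w, c, hc, hw⟩ := Groth.Agent.H80.HB.Basic.deficient Ψ P hle
    have hm : ∀ y, y ∈ P ↔ d ∣ y * s := fun y => by
      rw [hs, Submodule.mem_colon_singleton, Submodule.mem_bot]
      exact (Ideal.Quotient.eq_zero_iff_mem (I := Ideal.span {d}) (a := y * s)).trans Ideal.mem_span_singleton
    choose u hu using fun i => (hm _).mp (hw i)
    have hu0 : u ∈ LinearMap.range Ψ.mulVecLin := by
      rw [← hex, LinearMap.mem_ker]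
      refine hcancel _ ?_
      rw [← smul_eq_mul, ← map_smul]
      have : d • u = Ψ *ᵥ (s • w) := funext fun i => by
        rw [Matrix.mulVec_smul, Pi.smul_apply, Pi.smul_apply, smul_eq_mul, smul_eq_mul, mul_comm s, hu]
      rw [this]
      exact LinearMap.mem_ker.mp (hex.ge ⟨_, rfl⟩)
    obtain ⟨z, hz⟩ := hu0
    have hsw : s • w - d • z = 0 := LinearMap.ker_eq_bot'.mp hΨ _ (by
      rw [map_sub, map_smul, map_smul, hz, sub_eq_zero, Matrix.mulVecLin_apply]
      funext i
      rw [Pi.smul_apply, Pi.smul_apply, smul_eq_mul, smul_eq_mul, mul_comm s, hu])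
    refine hc ((hm _).mpr ⟨z c, ?_⟩)
    have := congrFun (sub_eq_zero.mp hsw) c
    rw [mul_comm]; exact this
  obtain ⟨y, hyJ, hy⟩ := havoid _ (associatedPrimes.finite R (R ⧸ Ideal.span {d}))
    (fun P hP => ⟨hP.isPrime, hB P hP⟩)
  have hyreg : ∀ z : R, d ∣ y * z → d ∣ z := by
    intro z hz
    by_contra h
    have : y ∈ ⋃ p ∈ associatedPrimes R (R ⧸ Ideal.span {d}), (p : Set R) := by
      rw [biUnion_associatedPrimes_eq_zero_divisors]
      exact ⟨Ideal.Quotient.mk _ z,
        fun h0 => h (Ideal.mem_span_singleton.mp (Ideal.Quotient.eq_zero_iff_mem.mp h0)),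
        (Ideal.Quotient.eq_zero_iff_mem (I := Ideal.span {d}) (a := y * z)).mpr (Ideal.mem_span_singleton.mpr hz)⟩
    obtain ⟨P, hP, hyP⟩ := Set.mem_iUnion₂.mp this
    exact hy P hP hyP
  open Groth.Agent.H80.HB.Basic in
  have hsym : ∀ i j, p i * δ Ψ j = p j * δ Ψ i := by
    intro i j
    rw [← sub_eq_zero]
    by_contra h
    obtain ⟨P, hP, hle⟩ := exists_le_isAssociatedPrime_of_isNoetherianRing R _ h
    refine hA P hP (Ideal.span_le.mpr ?_)
    rintro _ ⟨l, rfl⟩
    refine hP.isPrime.mem_of_pow_mem 2 (hle ?_)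
    rw [Submodule.mem_colon_singleton, Submodule.mem_bot, smul_eq_mul]
    exact pow_three_mul_eq Ψ p hp i j l
  open Groth.Agent.H80.HB.Basic in
  obtain ⟨a, ha⟩ : ∃ a, ∀ i, p i = a * δ Ψ i := by
    obtain ⟨c, hc⟩ := (Submodule.mem_span_range_iff_exists_fun R).mp hdJ
    obtain ⟨e, he⟩ := (Submodule.mem_span_range_iff_exists_fun R).mp hyJ
    simp only [smul_eq_mul] at hc he
    have key : ∀ (e : Fin (m + 1) → R) i, (∑ j, e j * δ Ψ j) * p i = δ Ψ i * ∑ j, e j * p j := by
      intro e i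
      rw [Finset.sum_mul, Finset.mul_sum]
      exact Finset.sum_congr rfl fun j _ => by linear_combination e j * hsym i j
    have h1 : ∀ i, d * p i = δ Ψ i * ∑ j, c j * p j := fun i => by rw [← key c i, hc]
    obtain ⟨a, ha⟩ : d ∣ ∑ j, c j * p j := hyreg _ ⟨∑ j, e j * p j, by
      rw [← he, Finset.sum_mul, Finset.mul_sum]
      exact Finset.sum_congr rfl fun j _ => by linear_combination -(e j) * h1 j⟩
    refine ⟨a, fun i => sub_eq_zero.mp (hcancel _ ?_)⟩
    linear_combination h1 i + δ Ψ i * ha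
  have hrange : LinearMap.range π = Ideal.span {a} * Jm := by
    have hπ' : π = Fintype.linearCombination R p := LinearMap.ext fun v => by
      rw [hπ, Fintype.linearCombination_apply]
      exact Finset.sum_congr rfl fun i _ => by rw [smul_eq_mul, mul_comm]
    rw [hπ', Fintype.range_linearCombination, show p = fun i => a * Groth.Agent.H80.HB.Basic.δ Ψ i from funext ha]
    show _ = Ideal.span {a} * Groth.Agent.H80.HB.Basic.J Ψ
    rw [Groth.Agent.H80.HB.Basic.J, Ideal.span_mul_span', Set.singleton_mul, ← Set.range_comp]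
    rfl
  refine ⟨⟨a, ?_, hrange⟩, ?_⟩
  · by_contra h
    have : a ∈ ⋃ p ∈ associatedPrimes R R, (p : Set R) := by
      rw [biUnion_associatedPrimes_eq_compl_nonZeroDivisors]; exact h
    obtain ⟨P, hP, haP⟩ := Set.mem_iUnion₂.mp this
    have h0 := (hcases P hP).2.2 (by
      rw [hrange]
      exact Ideal.mul_le_left.trans (Ideal.span_le.mpr (Set.singleton_subset_iff.mpr haP)))
    rw [h0] at halt
    exact zero_ne_one halt
  · refine (Groth.Agent.Lib.Depth.Basic.le_idealDepth_iff 2).mpr (Or.inr ⟨[d, y], rfl, ?_, ?_⟩)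
    · simp [hdJ, hyJ]
    · rw [RingTheory.Sequence.isWeaklyRegular_cons_iff, RingTheory.Sequence.isWeaklyRegular_singleton_iff]
      refine ⟨(isSMulRegular_iff_right_eq_zero_of_smul).mpr (fun z hz => hcancel z hz), ?_⟩
      intro a b hab
      obtain ⟨a, rfl⟩ := Submodule.Quotient.mk_surjective _ a
      obtain ⟨b, rfl⟩ := Submodule.Quotient.mk_surjective _ b
      have hmk : ∀ a : R, (Submodule.Quotient.mk a : QuotSMulTop d R) = 0 ↔ d ∣ a := fun a => by
        rw [Submodule.Quotient.mk_eq_zero, Submodule.mem_smul_pointwise_iff_exists]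
        exact ⟨fun ⟨b, _, hb⟩ => ⟨b, hb.symm⟩, fun ⟨b, hb⟩ => ⟨b, trivial, hb.symm⟩⟩
      rw [← sub_eq_zero, ← Submodule.Quotient.mk_sub]
      refine (hmk _).mpr (hyreg _ ((hmk _).mp ?_))
      rw [← smul_eq_mul, Submodule.Quotient.mk_smul, Submodule.Quotient.mk_sub, smul_sub, sub_eq_zero]
      exact hab

end Groth.Agent.S12907
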