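import Groth.Statements.S12908
import Groth.Agent.H80.HB.Basic
import Groth.Agent.Lib.Depth.Basic

set_option autoImplicit false
set_option backward.isDefEq.respectTransparency false
universe u
open CAlgX
open scoped Matrix Pointwise

namespace Groth.Agent.S12908

/-- Let R be a Noetherian ring, t a natural number, Ψ a (t+1) × t matrix over R such that the
I_t(Ψ)-depth of R is at least 2, where I_t(Ψ) is the ideal generated by the t × t minors of Ψ, and a
a non-zero-divisor of R. Put Δ_i = a · (-1)^i det Ψ_i, where Ψ_i is Ψ with row i deleted. Then 0 →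
R^t → R^{t+1} → R, with first map Ψ and second map v ↦ Σ_i Δ_i v_i, is exact: Ψ is injective and the
kernel of the second map equals the image of Ψ; moreover the image of the second map is the ideal a
· I_t(Ψ). (The published statement adds that this ideal has depth 2 exactly when a is a unit; that
clause is not stated here.) -/
theorem result {R : Type u} [CommRing R] [IsNoetherianRing R] (t : ℕ)
    (Ψ : Matrix (Fin (t + 1)) (Fin t) R) (hdepth : 2 ≤ LocCoh.idealDepth (CAlgX.minorIdeal Ψ t) R)
    (a : R) (ha : a ∈ nonZeroDivisors R) :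
    LinearMap.ker Ψ.mulVecLin = ⊥ ∧
      LinearMap.ker (Fintype.linearCombination R
          (fun i : Fin (t + 1) => a * ((-1 : R) ^ (i : ℕ) * (Ψ.submatrix i.succAbove id).det))) =
        LinearMap.range Ψ.mulVecLin ∧
      LinearMap.range (Fintype.linearCombination R
          (fun i : Fin (t + 1) => a * ((-1 : R) ^ (i : ℕ) * (Ψ.submatrix i.succAbove id).det))) =
        Ideal.span {a} * CAlgX.minorIdeal Ψ t := by
  classical
  open Groth.Agent.H80.HB.Basic in
  have main : LinearMap.ker Ψ.mulVecLin = ⊥ ∧
      ∀ v : Fin (t + 1) → R, ∑ i, δ Ψ i * v i = 0 → v ∈ LinearMap.range Ψ.mulVecLin := by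
    rw [minorIdeal_eq] at hdepth
    -- it suffices to have a regular pair in every ideal with the same radical
    have key : ∀ K : Ideal R, (∀ j, δ Ψ j ^ 2 ∈ K) → K = ⊤ ∨ ∃ x ∈ K, ∃ y ∈ K,
        IsSMulRegular R x ∧ ∀ z : R, x ∣ y * z → x ∣ z := by
      intro K hK
      have hJK : J Ψ ≤ K.radical := Ideal.span_le.mpr (by
        rintro _ ⟨j, rfl⟩; exact ⟨2, hK j⟩)
      rcases (Groth.Agent.Lib.Depth.Basic.le_idealDepth_iff 2).mp hdepth with h | ⟨rs, hl, hmem, hreg⟩
      · rw [smul_eq_mul, Ideal.mul_top] at h
        rw [h, top_le_iff, Ideal.radical_eq_top] at hJK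
        exact Or.inl hJK
      · obtain ⟨x, y, rfl⟩ := List.length_eq_two.mp hl
        have hx : IsSMulRegular R x :=
          ((RingTheory.Sequence.isWeaklyRegular_cons_iff R x [y]).mp hreg).1
        have hy : ∀ z : R, x ∣ y * z → x ∣ z := by
          intro z hz
          have h2 := ((RingTheory.Sequence.isWeaklyRegular_cons_iff R x [y]).mp hreg).2
          rw [RingTheory.Sequence.isWeaklyRegular_singleton_iff] at h2
          have hmk : ∀ a : R, (Submodule.Quotient.mk a : QuotSMulTop x R) = 0 ↔ x ∣ a := fun a => by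
            rw [Submodule.Quotient.mk_eq_zero, Submodule.mem_smul_pointwise_iff_exists]
            exact ⟨fun ⟨b, _, hb⟩ => ⟨b, hb.symm⟩, fun ⟨b, hb⟩ => ⟨b, trivial, hb.symm⟩⟩
          refine (hmk z).mp (h2 ?_)
          show y • (Submodule.Quotient.mk z : QuotSMulTop x R) = y • 0
          rw [smul_zero, ← Submodule.Quotient.mk_smul]
          exact (hmk _).mpr hz
        obtain ⟨a', ha'⟩ := hJK (hmem x (by simp))
        obtain ⟨b', hb'⟩ := hJK (hmem y (by simp))
        refine Or.inr ⟨x ^ a', ha', y ^ b', hb', hx.pow a', ?_⟩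
        clear ha' hb'
        have hyb : ∀ z : R, x ∣ y ^ b' * z → x ∣ z := by
          induction b' with
          | zero => simp
          | succ b ih => intro z hz; rw [pow_succ, mul_assoc] at hz; exact hy z (ih _ hz)
        induction a' with
        | zero => simp
        | succ a ih =>
          intro z hz
          obtain ⟨z', rfl⟩ := hyb z ((dvd_pow_self x (Nat.succ_ne_zero a)).trans hz)
          obtain ⟨q, hq⟩ := hz
          obtain ⟨z'', hz''⟩ := ih z' ⟨q, hx (show x • (y ^ b' * z') = x • (x ^ a * q) by
            rw [smul_eq_mul, smul_eq_mul]; linear_combination hq)⟩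
          exact ⟨z'', by rw [hz'']; ring⟩
    have hinj : ∀ w, Ψ *ᵥ w = 0 → w = 0 := by
      intro w hw
      rcases key (Submodule.annihilator (Submodule.span R {w})) (fun j => by
        rw [Submodule.mem_annihilator_span_singleton, pow_two, mul_smul, δ_smul_eq_zero Ψ j w hw,
          smul_zero]) with h | ⟨x, hx, -, -, hxr, -⟩
      · have h1 : (1 : R) ∈ Submodule.annihilator (Submodule.span R {w}) := h ▸ trivial
        rwa [Submodule.mem_annihilator_span_singleton, one_smul] at h1
      · rw [Submodule.mem_annihilator_span_singleton] at hx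
        funext c
        exact hxr (show x • w c = x • 0 by rw [smul_zero]; exact congrFun hx c)
    refine ⟨LinearMap.ker_eq_bot'.mpr hinj, fun v hv => ?_⟩
    rcases key (Submodule.comap (LinearMap.toSpanSingleton R _ v) (LinearMap.range Ψ.mulVecLin))
      (fun j => sq_smul_mem_range Ψ j v hv) with h | ⟨x, hx, y, hy, hxr, hxy⟩
    · have h1 : (1 : R) ∈ Submodule.comap (LinearMap.toSpanSingleton R _ v) (LinearMap.range Ψ.mulVecLin) :=
        h ▸ trivial
      simpa using h1
    · obtain ⟨p, hp⟩ := hx
      obtain ⟨q, hq⟩ := hy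
      simp only [LinearMap.toSpanSingleton_apply, Matrix.mulVecLin_apply] at hp hq
      have hpq : y • p = x • q := sub_eq_zero.mp (hinj _ (by
        rw [Matrix.mulVec_sub, Matrix.mulVec_smul, Matrix.mulVec_smul, hp, hq, smul_comm, sub_self]))
      have hdiv : ∀ c, x ∣ p c := fun c => hxy _ ⟨q c, congrFun hpq c⟩
      choose r hr using hdiv
      refine ⟨r, ?_⟩
      funext i
      have : x • (Ψ *ᵥ r) = x • v := by
        rw [← Matrix.mulVec_smul, ← hp]
        congr 1
        exact funext fun c => (hr c).symm
      exact hxr (congrFun this i)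
  open Groth.Agent.H80.HB.Basic in
  have hlc : ∀ v : Fin (t + 1) → R, Fintype.linearCombination R
      (fun i : Fin (t + 1) => a * ((-1 : R) ^ (i : ℕ) * (Ψ.submatrix i.succAbove id).det)) v =
      a * ∑ i, δ Ψ i * v i := fun v => by
    rw [Fintype.linearCombination_apply, Finset.mul_sum]
    exact Finset.sum_congr rfl fun i _ => by rw [smul_eq_mul, δ]; ring
  refine ⟨main.1, le_antisymm (fun v hv => main.2 v ?_) ?_, ?_⟩
  · rw [LinearMap.mem_ker, hlc] at hv
    exact (mul_left_mem_nonZeroDivisors_eq_zero_iff ha).mp hv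
  · rintro _ ⟨w, rfl⟩
    rw [LinearMap.mem_ker, hlc, Matrix.mulVecLin_apply, Groth.Agent.H80.HB.Basic.sum_δ_mulVec, mul_zero]
  · rw [Fintype.range_linearCombination, Groth.Agent.H80.HB.Basic.minorIdeal_eq,
      Groth.Agent.H80.HB.Basic.J, Ideal.span_mul_span', Set.singleton_mul, ← Set.range_comp]
    rfl

end Groth.Agent.S12908
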