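import Groth.Statements.S11449
import Groth.Agent.S12907
import Groth.Agent.S12908
import Groth.Agent.H20.PDDepth
import Groth.Agent.Lib.Depth.CM

set_option autoImplicit false
set_option backward.isDefEq.respectTransparency false
universe u
open DefT

namespace Groth.Agent.S11449

/-- Let A be a regular local ring and I an ideal such that A/I is a Cohen–Macaulay local ring whose
Krull dimension is dim A − 2. Then for some r there is an (r+1) × r matrix φ with entries in A such
that, writing f_i for (−1)^i times the determinant of φ with its i-th row removed (i = 0, …, r), the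
elements f_0, …, f_r generate I, no family of fewer than r + 1 elements generates I, multiplication
by φ is an injective map A^r → A^{r+1}, and the image of that map is exactly the kernel of the map
A^{r+1} → A sending v to Σ_i v_i f_i; together with A → A/I this is a free resolution 0 → A^r →
A^{r+1} → A → A/I → 0. -/
theorem result
    (A : Type u) [CommRing A] [IsRegularLocalRing A] (I : Ideal A)
    [LocCoh.IsCohenMacaulayLocalRing (A ⧸ I)]
    (hcodim : ringKrullDim (A ⧸ I) + 2 = ringKrullDim A) :
    ∃ (r : ℕ) (φ : Matrix (Fin (r + 1)) (Fin r) A),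
      Ideal.span (Set.range (fun i : Fin (r + 1) => (-1 : A) ^ (i : ℕ) * (φ.submatrix i.succAbove id).det)) = I ∧
      I.spanFinrank = r + 1 ∧
      Function.Injective φ.mulVecLin ∧
      LinearMap.range φ.mulVecLin =
        LinearMap.ker (Fintype.linearCombination A (fun i : Fin (r + 1) => (-1 : A) ^ (i : ℕ) * (φ.submatrix i.succAbove id).det)) := by
  classical
  have hne : I ≠ ⊤ := Ideal.Quotient.nontrivial_iff.mp inferInstance
  let d := (IsLocalRing.maximalIdeal A).spanFinrank
  have hd : (d : WithBot ℕ∞) = ringKrullDim A := IsRegularLocalRing.spanFinrank_maximalIdeal (R := A)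
  -- projective dimension of `A/I` is at most two
  have hdep : (d : ℕ∞) ≤ LocCoh.depth A (A ⧸ I) + (2 : ℕ) := by
    rw [Groth.Agent.Lib.Depth.CM.depth_quotient_eq]
    rw [← hd, Groth.Agent.Lib.Depth.CM.ringKrullDim_eq_depth] at hcodim
    rw [← WithBot.coe_le_coe, WithBot.coe_add]
    exact hcodim.ge
  have hpd : Groth.Agent.Lib.Regular.PD.PDle A (A ⧸ I) 2 :=
    (Groth.Agent.H20.PDDepth.pdle_iff_le_depth_add (A ⧸ I) 2).mpr hdep
  have hIne : I ≠ ⊥ := by
    intro h
    rw [h, ringKrullDim_eq_of_ringEquiv (RingEquiv.quotientBot A), ← hd] at hcodim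
    norm_cast at hcodim
    omega
  have hfg := IsNoetherian.noetherian I
  let n := I.spanFinrank
  have hfin := Submodule.FG.finite_generators hfg
  let e : hfin.toFinset ≃ Fin n := hfin.toFinset.equivFinOfCardEq (by
    rw [← Set.ncard_eq_toFinset_card _ hfin]
    exact Submodule.FG.generators_ncard hfg)
  let g : Fin n → A := fun i => (e.symm i : A)
  let π := Fintype.linearCombination A g
  have hπ : LinearMap.range π = I := by
    rw [Fintype.range_linearCombination]
    refine Eq.trans (congrArg _ ?_) (Submodule.span_generators I)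
    ext x
    constructor
    · rintro ⟨i, rfl⟩
      exact hfin.mem_toFinset.mp (e.symm i).2
    · intro hx
      exact ⟨e ⟨x, hfin.mem_toFinset.mpr hx⟩, by simp [g]⟩
  have hpd1 : Groth.Agent.Lib.Regular.PD.PDle A (LinearMap.ker π) 0 := by
    have h1 := (Groth.Agent.Lib.Regular.PD.pdle_succ_iff (Submodule.mkQ_surjective I) 1).mp hpd
    have hsurj : Function.Surjective (π.codRestrict (LinearMap.ker I.mkQ) (fun v => by
        rw [Submodule.ker_mkQ, ← hπ]; exact LinearMap.mem_range_self _ _)) := by
      rintro ⟨y, hy⟩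
      rw [Submodule.ker_mkQ, ← hπ] at hy
      obtain ⟨v, rfl⟩ := hy
      exact ⟨v, rfl⟩
    have h2 := (Groth.Agent.Lib.Regular.PD.pdle_succ_iff hsurj 0).mp h1
    rwa [LinearMap.ker_codRestrict] at h2
  rw [Groth.Agent.Lib.Regular.PD.pdle_zero_iff] at hpd1
  have : Module.Free A (LinearMap.ker π) := Module.free_of_flat_of_isLocalRing
  let m := Module.finrank A (LinearMap.ker π)
  let b := Module.finBasis A (LinearMap.ker π)
  let L : (Fin m → A) →ₗ[A] (Fin n → A) := (LinearMap.ker π).subtype ∘ₗ b.equivFun.symm.toLinearMap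
  let Ψ : Matrix (Fin n) (Fin m) A := LinearMap.toMatrix' L
  have hΨL : Ψ.mulVecLin = L := by
    rw [← Matrix.toLin'_apply']; exact Matrix.toLin'_toMatrix' L
  have hker : LinearMap.ker Ψ.mulVecLin = ⊥ := by
    rw [hΨL, LinearMap.ker_eq_bot]
    exact Subtype.val_injective.comp b.equivFun.symm.injective
  have hex : LinearMap.ker π = LinearMap.range Ψ.mulVecLin := by
    rw [hΨL]
    show _ = LinearMap.range ((LinearMap.ker π).subtype ∘ₗ b.equivFun.symm.toLinearMap)
    rw [LinearMap.range_comp, LinearEquiv.range, Submodule.map_top, Submodule.range_subtype]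
  obtain ⟨hnm, ⟨a, ha, hrange⟩, hdepth⟩ :=
    Groth.Agent.S12907.result m n Ψ π hker hex (by rw [hπ]; exact hIne)
  rw [hπ] at hrange
  -- the factor is a unit
  have hau : IsUnit a := by
    by_contra hu
    have hle : I ≤ Ideal.span {a} := hrange.le.trans Ideal.mul_le_left
    have h1 := ringKrullDim_le_of_surjective _ (Ideal.Quotient.factor_surjective hle)
    have h2 := ringKrullDim_quotient_span_singleton_succ_eq_ringKrullDim_of_mem_nonZeroDivisors ha hu
    have h3 : ringKrullDim (A ⧸ Ideal.span {a}) + 2 ≤ ringKrullDim (A ⧸ Ideal.span {a}) + 1 :=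
      h2.symm ▸ hcodim ▸ add_le_add h1 le_rfl
    have hn1 : Ideal.span {a} ≠ ⊤ := by rwa [Ne, Ideal.span_singleton_eq_top]
    have := Ideal.Quotient.nontrivial_iff.mpr hn1
    obtain ⟨e', he'⟩ := WithBot.ne_bot_iff_exists.mp (ne_bot_of_le_ne_bot
      (by simp) (ringKrullDim_nonneg_of_nontrivial (R := A ⧸ Ideal.span {a})))
    rw [← he'] at h2
    rw [← he'] at h3
    rw [← hd] at h2
    induction e' using ENat.recTopCoe with
    | top => exact ENat.natCast_ne_top d (WithBot.coe_injective h2).symm
    | coe e' =>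
      have h4 : ((e' + 2 : ℕ) : WithBot ℕ∞) ≤ ((e' + 1 : ℕ) : WithBot ℕ∞) := by push_cast; exact h3
      have : e' + 2 ≤ e' + 1 := Nat.cast_le.mp h4
      omega
  rw [Ideal.span_singleton_eq_top.mpr hau, Ideal.top_mul] at hrange
  have key : ∀ (Φ : Matrix (Fin (m + 1)) (Fin m) A) (h : LinearMap.ker Φ.mulVecLin = ⊥)
      (hJ : I = CAlgX.minorIdeal Φ m) (hd : 2 ≤ LocCoh.idealDepth (CAlgX.minorIdeal Φ m) A)
      (hn : n = m + 1),
      ∃ (r : ℕ) (φ : Matrix (Fin (r + 1)) (Fin r) A),
      Ideal.span (Set.range (fun i : Fin (r + 1) => (-1 : A) ^ (i : ℕ) * (φ.submatrix i.succAbove id).det)) = I ∧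
      I.spanFinrank = r + 1 ∧
      Function.Injective φ.mulVecLin ∧
      LinearMap.range φ.mulVecLin =
        LinearMap.ker (Fintype.linearCombination A (fun i : Fin (r + 1) => (-1 : A) ^ (i : ℕ) * (φ.submatrix i.succAbove id).det)) := by
    intro Φ h hJ hd hn
    obtain ⟨h1, h2, h3⟩ := Groth.Agent.S12908.result m Φ hd 1 (one_mem _)
    simp only [one_mul, Ideal.span_singleton_one, Ideal.top_mul] at h2 h3
    refine ⟨m, Φ, ?_, hn, LinearMap.ker_eq_bot.mp h, h2.symm⟩
    rw [hJ, ← h3, Fintype.range_linearCombination]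
  have key' : ∀ (n' : ℕ) (Φ : Matrix (Fin n') (Fin m) A), LinearMap.ker Φ.mulVecLin = ⊥ →
      I = CAlgX.minorIdeal Φ m → 2 ≤ LocCoh.idealDepth (CAlgX.minorIdeal Φ m) A → n' = m + 1 →
      n' = n → ∃ (r : ℕ) (φ : Matrix (Fin (r + 1)) (Fin r) A),
      Ideal.span (Set.range (fun i : Fin (r + 1) => (-1 : A) ^ (i : ℕ) * (φ.submatrix i.succAbove id).det)) = I ∧
      I.spanFinrank = r + 1 ∧
      Function.Injective φ.mulVecLin ∧
      LinearMap.range φ.mulVecLin =
        LinearMap.ker (Fintype.linearCombination A (fun i : Fin (r + 1) => (-1 : A) ^ (i : ℕ) * (φ.submatrix i.succAbove id).det)) := by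
    intro n' Φ h hJ hd' hn' hn
    subst hn'
    exact key Φ h hJ hd' hn.symm
  exact key' n Ψ hker hrange hdepth hnm rfl

end Groth.Agent.S11449
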