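import Groth.Statements.S15578
import Groth.Agent.Lib.RInvQuadLocal
import Groth.Agent.Lib.Henselian.LocalRing
import Groth.Agent.Lib.Henselian.StrictHenselization
import Mathlib.FieldTheory.PurelyInseparable.Basic
import Mathlib.FieldTheory.IsSepClosed

set_option autoImplicit false
universe u v
open RInv

namespace Groth.Agent.S15578

/-- Let `R` be a commutative ring with an involution `lam` whose fixed ring `S` is strictly henselian
(henselian local with separably closed residue field). Then `R` is isomorphic to a product of
finitely many strictly henselian local rings (existence of a ring isomorphism with such a product). -/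
theorem result (S : Type u) (R : Type v) [CommRing S] [CommRing R]
    [Algebra S R] (lam : R ≃+* R) (hlam : Function.Involutive lam) (hS : RInv.IsFixedRing S R lam)
    [HenselianLocalRing S] [IsSepClosed (IsLocalRing.ResidueField S)] :
    ∃ (ι : Type) (_ : Fintype ι) (T : ι → Type v) (_ : ∀ i, CommRing (T i))
      (_ : ∀ i, HenselianLocalRing (T i)),
      (∀ i, IsSepClosed (IsLocalRing.ResidueField (T i))) ∧ Nonempty (R ≃+* (∀ i, T i)) := by
  have := Groth.Agent.Lib.RInvQuad.isIntegral hlam hS
  by_cases h : ∃ r : R, lam r - r ∉ Ring.jacobson R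
  · obtain ⟨r, hr⟩ := h
    have hd := Groth.Agent.Lib.RInvQuad.exists_isUnit_of_notMem_jacobson hlam hS hr
    obtain ⟨t, ht⟩ := Groth.Agent.Lib.RInvQuad.exists_trace hlam hS r
    obtain ⟨n, hn⟩ := Groth.Agent.Lib.RInvQuad.exists_norm hlam hS r
    have hdisc : IsUnit (t ^ 2 - 4 * n) := Groth.Agent.Lib.RInvQuad.isUnit_of_isUnit_algebraMap hS (by
      have e4 : algebraMap S R 4 = 4 := map_ofNat _ 4
      rw [map_sub, map_mul, map_pow, e4, ht, hn, show (r + lam r) ^ 2 - 4 * (r * lam r) = (r - lam r) ^ 2 by ring]
      exact hd.pow 2)
    -- a root of `X² - tX + n` in `S`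
    obtain ⟨c, hc, hcu⟩ : ∃ c : S, c ^ 2 - t * c + n = 0 ∧ IsUnit (2 * c - t) := by
      let k := IsLocalRing.ResidueField S
      let π := IsLocalRing.residue S
      let P : Polynomial S := Polynomial.X ^ 2 - Polynomial.C t * Polynomial.X + Polynomial.C n
      have hPd : ∀ c : S, (P.derivative.eval c) = 2 * c - t := fun c => by simp [P, one_add_one_eq_two]
      have hsq : ∀ c : S, (2 * c - t) ^ 2 = (t ^ 2 - 4 * n) + 4 * P.eval c := fun c => by simp [P]; ring
      have hk : ∃ x : k, (P.map π).eval x = 0 := by
        have hm : (P.map π).natDegree = 2 := by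
          simp only [P, Polynomial.map_add, Polynomial.map_sub, Polynomial.map_mul, Polynomial.map_pow, Polynomial.map_X, Polynomial.map_C]
          compute_degree!
        have hne : P.map π ≠ 0 := fun h => by simp [h] at hm
        refine IsSepClosed.exists_root _ ?_ ?_
        · rw [Polynomial.degree_eq_natDegree hne, hm]; decide
        · rw [Polynomial.separable_def', Polynomial.derivative_map]
          obtain ⟨u, hu⟩ := hdisc.exists_left_inv
          refine ⟨(Polynomial.C (-4 * u)).map π, (Polynomial.C u * (2 * Polynomial.X - Polynomial.C t)).map π, ?_⟩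
          rw [← Polynomial.map_mul, ← Polynomial.map_mul, ← Polynomial.map_add, ← Polynomial.map_one π]
          congr 1
          simp only [P, Polynomial.derivative_add, Polynomial.derivative_sub, Polynomial.derivative_C_mul, Polynomial.derivative_X_pow,
            Polynomial.derivative_X, Polynomial.derivative_C, map_mul, map_neg]
          have hu' := congr_arg Polynomial.C hu
          simp only [map_mul, map_sub, map_pow, map_one, map_ofNat] at hu'
          simp only [map_ofNat, Nat.cast_ofNat, Polynomial.C_ofNat, Polynomial.C_eq_natCast]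
          push_cast
          linear_combination hu'
      obtain ⟨x, hx⟩ := hk
      obtain ⟨c₀, rfl⟩ := IsLocalRing.residue_surjective x
      rw [Polynomial.eval_map_apply, IsLocalRing.residue_eq_zero_iff] at hx
      have hder : ∀ c : S, P.eval c ∈ IsLocalRing.maximalIdeal S → IsUnit (2 * c - t) := fun c hc => by
        rw [← isUnit_pow_iff two_ne_zero, hsq]
        by_contra hu
        refine (IsLocalRing.notMem_maximalIdeal.2 hdisc) ?_
        have := (IsLocalRing.maximalIdeal S).sub_mem ((IsLocalRing.mem_maximalIdeal _).2 hu) (Ideal.mul_mem_left _ 4 hc)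
        rwa [add_sub_cancel_right] at this
      obtain ⟨c, hc, hcc⟩ := HenselianLocalRing.is_henselian P (by simp only [P]; monicity!) c₀ hx (by rw [hPd]; exact hder c₀ hx)
      refine ⟨c, by simpa [P, Polynomial.IsRoot] using hc, hder c (by rw [hc.eq_zero]; exact Ideal.zero_mem _)⟩
    obtain ⟨u, hu⟩ := hcu.exists_left_inv
    let a := algebraMap S R
    let e : R := a u * (r - a (t - c))
    have hu' : a u * (2 * a c - (r + lam r)) = 1 := by
      rw [← ht, ← map_ofNat a 2, ← map_mul, ← map_sub, ← map_mul, hu, map_one]
    have hc' : a c ^ 2 - (r + lam r) * a c + r * lam r = 0 := by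
      rw [← ht, ← hn, ← map_pow, ← map_mul, ← map_sub, ← map_add, hc, map_zero]
    have het : a (t - c) = r + lam r - a c := by rw [map_sub, ht]
    have hee : e * e = e := by
      simp only [e, het]
      linear_combination (a u * (r - (r + lam r - a c))) * hu' + -((a u) ^ 2) * hc'
    let g : (S × S) →+* R :=
      { toFun := fun x => a x.1 * e + a x.2 * (1 - e)
        map_one' := by simp
        map_mul' := fun x y => by
          simp only [Prod.fst_mul, Prod.snd_mul, map_mul]
          linear_combination -((a x.1 - a x.2) * (a y.1 - a y.2)) * hee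
        map_zero' := by simp
        map_add' := fun x y => by simp only [Prod.fst_add, Prod.snd_add, map_add]; ring }
    have hg : Function.Bijective g := by
      refine ⟨(injective_iff_map_eq_zero g).2 fun x hx => ?_, fun z => ?_⟩
      · change a x.1 * e + a x.2 * (1 - e) = 0 at hx
        obtain ⟨p, hp, huniq⟩ := Groth.Agent.Lib.RInvQuad.existsUnique_coeff hlam hS hd 0
        have h1 := (huniq (x.2 - (x.1 - x.2) * u * (t - c), (x.1 - x.2) * u) (by
          simp only [e] at hx
          simp only [map_sub, map_mul] at hx ⊢
          linear_combination hx)).trans (huniq (0, 0) (by simp)).symm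
        simp only [Prod.mk.injEq] at h1
        have hu1 : IsUnit u := IsUnit.of_mul_eq_one _ hu
        have h12 : x.1 - x.2 = 0 := (hu1.mul_left_eq_zero).1 h1.2
        have h2 : x.2 = 0 := by simpa [h12] using h1.1
        ext
        · simpa [h2] using h12
        · exact h2
      · obtain ⟨⟨s, v⟩, hs, -⟩ := Groth.Agent.Lib.RInvQuad.existsUnique_coeff hlam hS hd z
        refine ⟨(s + v * c, s + v * (t - c)), ?_⟩
        change a (s + v * c) * e + a (s + v * (t - c)) * (1 - e) = z
        simp only [map_add, map_mul, e, het]
        linear_combination hs + a v * (r - (r + lam r - a c)) * hu'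
    let T := (algebraMap S R).range
    let eT : S ≃+* T := RingEquiv.ofBijective (algebraMap S R).rangeRestrict
      ⟨fun x y h => hS.1 (congr_arg Subtype.val h), (algebraMap S R).rangeRestrict_surjective⟩
    let _ : Algebra S T := eT.toRingHom.toAlgebra
    have : IsLocalRing T := eT.isLocalRing
    have : Algebra.IsIntegral S T := ⟨fun x => by
      obtain ⟨s, rfl⟩ := eT.surjective x; exact isIntegral_algebraMap⟩
    have hT : HenselianLocalRing T := Groth.Agent.Lib.Henselian.LocalRing.henselianLocalRing_of_isIntegral S T
    have hTk : IsSepClosed (IsLocalRing.ResidueField T) :=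
      Groth.Agent.Lib.Henselian.StrictHenselization.isSepClosed_of_ringEquiv (IsLocalRing.ResidueField.mapEquiv eT)
    refine ⟨Fin 2, inferInstance, fun _ => T, fun _ => inferInstance, fun _ => hT, fun _ => hTk, ⟨?_⟩⟩
    exact (RingEquiv.ofBijective g hg).symm.trans ((RingEquiv.prodCongr eT eT).trans
      { toFun := fun x => ![x.1, x.2]
        invFun := fun f => (f 0, f 1)
        left_inv := fun x => rfl
        right_inv := fun f => by ext i; fin_cases i <;> rfl
        map_mul' := fun x y => by ext i; fin_cases i <;> rfl
        map_add' := fun x y => by ext i; fin_cases i <;> rfl })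
  · push_neg at h
    have := Groth.Agent.Lib.RInvQuad.isLocalRing_of_forall_mem hlam hS h
    have hH : HenselianLocalRing R := Groth.Agent.Lib.Henselian.LocalRing.henselianLocalRing_of_isIntegral S R
    have hloc : IsLocalHom (algebraMap S R) := ⟨fun s hs => Groth.Agent.Lib.RInvQuad.isUnit_of_isUnit_algebraMap hS hs⟩
    let k := IsLocalRing.ResidueField S
    let K := IsLocalRing.ResidueField R
    have : Algebra.IsIntegral k K := ⟨fun x => by
      obtain ⟨x, rfl⟩ := IsLocalRing.residue_surjective x
      have h1 : IsIntegral S (IsLocalRing.residue R x) :=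
        (Algebra.IsIntegral.isIntegral (R := S) x).map (IsScalarTower.toAlgHom S R K)
      exact h1.tower_top⟩
    have : IsSepClosed K := IsSepClosed.of_exists_root _ fun p _ hirr hsep => by
      have : Fact (Irreducible p) := ⟨hirr⟩
      have : Algebra.IsAlgebraic K (AdjoinRoot p) :=
        have := (AdjoinRoot.powerBasis hirr.ne_zero).finite
        inferInstance
      have : Algebra.IsAlgebraic k (AdjoinRoot p) := Algebra.IsAlgebraic.trans k K _
      have : IsPurelyInseparable k (AdjoinRoot p) := inferInstance
      have : IsPurelyInseparable K (AdjoinRoot p) := IsPurelyInseparable.tower_top k K (AdjoinRoot p)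
      have hroot : IsSeparable K (AdjoinRoot.root p) :=
        hsep.of_dvd (minpoly.dvd K _ (by rw [AdjoinRoot.aeval_eq, AdjoinRoot.mk_self]))
      obtain ⟨x, hx⟩ := IsPurelyInseparable.inseparable K (AdjoinRoot.root p) hroot
      refine ⟨x, (algebraMap K (AdjoinRoot p)).injective ?_⟩
      rw [map_zero, ← Polynomial.aeval_algebraMap_apply_eq_algebraMap_eval, hx, AdjoinRoot.aeval_eq, AdjoinRoot.mk_self]
    exact ⟨Unit, inferInstance, fun _ => R, fun _ => inferInstance, fun _ => hH, fun _ => this,
      ⟨(RingEquiv.piUnique fun _ : Unit => R).symm⟩⟩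

end Groth.Agent.S15578
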