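import Groth.Statements.S15580
import Groth.Agent.Lib.RInvQuadLocal

set_option autoImplicit false
universe u v
open RInv

namespace Groth.Agent.S15580

/-- Let `S` be a local ring, `R` a quadratic etale `S`-algebra and `lam` an involution of `R` with fixed
ring `S`. Then every unit `r` of `R` with `lam r * r = 1` can be written `a⁻¹ * lam a` for a unit
`a` of `R`. -/
theorem result (S : Type u) (R : Type v) [CommRing S] [CommRing R]
    [Algebra S R] (lam : R ≃+* R) (hlam : Function.Involutive lam) (hS : RInv.IsFixedRing S R lam)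
    [IsLocalRing S] (hq : RInv.IsQuadEtale S R) (r : Rˣ) (hr : lam r * r = 1) :
    ∃ a : Rˣ, (r : R) = (a⁻¹ : Rˣ) * lam a := by
  obtain ⟨w, hw⟩ := Groth.Agent.Lib.RInvQuad.exists_isUnit_of_isQuadEtale hlam hS hq
  have := Groth.Agent.Lib.RInvQuad.isIntegral hlam hS
  have key : ∀ z : R, lam (z + lam ((r : R) * z)) = r * (z + lam ((r : R) * z)) := fun z => by
    rw [map_add, hlam, map_mul]
    linear_combination -(lam z) * hr
  suffices h : ∃ z : R, IsUnit (z + lam ((r : R) * z)) by
    obtain ⟨z, hz⟩ := h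
    refine ⟨hz.unit, ?_⟩
    rw [show lam (hz.unit : R) = r * (hz.unit : R) from key z, mul_left_comm, Units.inv_mul, mul_one]
  by_cases h1 : IsUnit ((1 : R) + lam ((r : R) * 1))
  · exact ⟨1, h1⟩
  refine ⟨w, ?_⟩
  obtain ⟨M, hM, h1M⟩ := exists_max_ideal_of_mem_nonunits h1
  by_contra hu
  obtain ⟨M', hM', hwM⟩ := exists_max_ideal_of_mem_nonunits hu
  -- `1 + lam r` lies in every maximal ideal
  have h1M' : (1 : R) + lam ((r : R) * 1) ∈ M' := by
    have hsub : (M' : Set R) ⊆ (M : Set R) ∪ (M.comap lam.toRingHom : Set R) := fun x hx => by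
      obtain ⟨n, hn⟩ := Groth.Agent.Lib.RInvQuad.exists_norm hlam hS x
      have hn' : n ∈ M'.comap (algebraMap S R) := by rw [Ideal.mem_comap, hn]; exact M'.mul_mem_right _ hx
      rw [IsLocalRing.eq_maximalIdeal (Ideal.isMaximal_comap_of_isIntegral_of_isMaximal (R := S) M'),
        ← IsLocalRing.eq_maximalIdeal (Ideal.isMaximal_comap_of_isIntegral_of_isMaximal (R := S) M),
        Ideal.mem_comap, hn] at hn'
      exact hM.isPrime.mem_or_mem hn'
    rcases (Ideal.subset_union).1 hsub with h | h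
    · rw [hM'.eq_of_le hM.ne_top h]; exact h1M
    · rw [hM'.eq_of_le (Ideal.comap_ne_top _ hM.ne_top) h, Ideal.mem_comap]
      change lam _ ∈ M
      rw [key]; exact M.mul_mem_left _ h1M
  have h2 : lam (r : R) * (lam w - w) ∈ M' := by
    have := M'.sub_mem hwM (M'.mul_mem_left w h1M')
    convert this using 1
    simp only [map_mul, mul_one]; ring
  refine hM'.ne_top (Ideal.eq_top_of_isUnit_mem _ h2 ((IsUnit.of_mul_eq_one _ hr).mul ?_))
  rw [← neg_sub]; exact hw.neg

end Groth.Agent.S15580
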