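import Groth.Statements.S15583
import Groth.Agent.Lib.RInvHerm

set_option autoImplicit false
universe u v
open RInv

namespace Groth.Agent.S15583

/-- Let `A` be a commutative ring with an involution `lam` whose fixed ring `B` is local, let `ε = ±1`,
and let `h` be an invertible `n × n` matrix over `A` that is `(ε, lam)`-hermitian: `h` equals `ε`
times the transpose of `lam` applied entrywise to `h`. If `lam` is not the identity modulo the
Jacobson radical of `A`, or `ε ≠ -1` modulo that radical, or `n` is odd, then `h` is congruent to a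
diagonal matrix: there is an invertible `v` with `(lam v)ᵀ h v` diagonal. -/
theorem result (B : Type u) (A : Type v) [CommRing B] [CommRing A]
    [Algebra B A] (lam : A ≃+* A) (hlam : Function.Involutive lam) (hB : RInv.IsFixedRing B A lam)
    [IsLocalRing B] (n : ℕ) (ε : A) (hε : ε = 1 ∨ ε = -1) (h : Matrix (Fin n) (Fin n) A)
    (hh : IsUnit h) (herm : ε • (h.map lam).transpose = h)
    (hcase : (∃ a : A, lam a - a ∉ Ring.jacobson A) ∨ ε + 1 ∉ Ring.jacobson A ∨ Odd n) :
    ∃ v : Matrix (Fin n) (Fin n) A, IsUnit v ∧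
      ∃ d : Fin n → A, (v.map lam).transpose * h * v = Matrix.diagonal d := by
  open Groth.Agent.Lib.RInvHerm in
  obtain ⟨M, hM, hU, hJ⟩ := exists_maximal_unit hlam hB hε
  obtain ⟨hu1, hu⟩ : (∃ k, h * k = 1 ∧ k * h = 1) ∧ IsUnit h.det :=
    ⟨⟨((hh.unit⁻¹ : (Matrix (Fin n) (Fin n) A)ˣ) : Matrix (Fin n) (Fin n) A), hh.mul_val_inv, hh.val_inv_mul⟩, (Matrix.isUnit_iff_isUnit_det h).1 hh⟩
  have hG : Groth.Agent.Lib.RInvHerm.Good lam ε h := ⟨herm, hu1⟩
  suffices hs : ∃ g : Matrix (Fin n) (Fin n) A, Groth.Agent.Lib.RInvHerm.Cong lam h g ∧ (n = 0 ∨ ∃ i, g i i ∉ M) by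
    obtain ⟨g, hg, hd⟩ := hs
    obtain ⟨d, hgd⟩ := Groth.Agent.Lib.RInvHerm.diagonalisable hlam hB hε n M hM hU (Fin n) g (Fintype.card_fin n)
      (hG.of_cong hlam hg) hd
    obtain ⟨v, w, hvw, hwv, he⟩ := hg.trans hgd
    exact ⟨v, ⟨⟨v, w, hvw, hwv⟩, rfl⟩, d, he⟩
  rcases Nat.eq_zero_or_pos n with hn | hn
  · exact ⟨h, Groth.Agent.Lib.RInvHerm.cong_submatrix h (Equiv.refl _), Or.inl hn⟩
  by_cases hna : (∃ r, lam r - r ∉ M) ∨ ε + 1 ∉ M
  · obtain ⟨g, hg, hd⟩ := Groth.Agent.Lib.RInvHerm.exists_diag_of_na hlam hna hG (⟨0, hn⟩ : Fin n)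
    exact ⟨g, hg, Or.inr hd⟩
  refine ⟨h, Groth.Agent.Lib.RInvHerm.cong_submatrix h (Equiv.refl _), Or.inr ?_⟩
  push_neg at hna
  obtain ⟨hid, heps⟩ := hna
  rcases hcase with ⟨a, ha⟩ | he | hodd
  · exact absurd (hJ _ (-1) (by rw [map_sub, hlam a]; ring) (hid a)) ha
  · refine absurd (hJ _ 1 ?_ heps) he
    rcases hε with rfl | rfl <;> simp
  · by_contra! hd
    have h0 := Groth.Agent.Lib.RInvHerm.det_eq_zero_of_alternating ((Ideal.Quotient.mk M).mapMatrix h)
      (by
        ext i j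
        simp only [Matrix.transpose_apply, Matrix.neg_apply, RingHom.mapMatrix_apply, Matrix.map_apply]
        rw [← map_neg, Ideal.Quotient.eq, sub_neg_eq_add, hG.apply j i]
        convert M.add_mem (M.mul_mem_left ε (hid (h i j))) (M.mul_mem_right (h i j) heps) using 1
        ring)
      (fun i => by simpa [Ideal.Quotient.eq_zero_iff_mem] using hd i) (by simpa using hodd)
    rw [← RingHom.map_det, Ideal.Quotient.eq_zero_iff_mem] at h0
    exact hM.ne_top (Ideal.eq_top_of_isUnit_mem _ h0 hu)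

end Groth.Agent.S15583
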