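import Groth.Statements.S12440
import Groth.Agent.Lib.DR.TwistInvertible
import Groth.Agent.S1747
import Mathlib.RingTheory.Spectrum.Prime.Topology

set_option autoImplicit false
universe u
open CategoryTheory
attribute [local instance] HasDerivedCategory.standard
open Dual

open CategoryTheory.Limits
open Groth.Agent.Lib Groth.Agent.Lib.DR Groth.Agent.Lib.DMod.FlatHom Groth.Agent.Lib.DMod.FlatDualizing Groth.Agent.Lib.DMod.Conservative

namespace Groth.Agent.S12440

variable {A : Type u} [CommRing A] [IsNoetherianRing A]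

lemma exists_local (W ω' : Dual.D A) (hW : Dual.IsDualizing A W) (hω' : Dual.IsDualizing A ω')
    (p : PrimeSpectrum A) :
    ∃ (m : ℤ) (y : ω'⟦m⟧ ⟶ W) (g : W ⟶ ω'⟦m⟧) (a : A), y ≫ g = a • 𝟙 _ ∧ a ∉ p.asIdeal := by
  let B := Localization.AtPrime p.asIdeal
  have hex : ∀ J : Ideal B, ∃ I : Ideal A, I.map (algebraMap A B) = J := fun J =>
    ⟨_, IsLocalization.map_comap p.asIdeal.primeCompl B J⟩
  have hd : ∀ {X : Dual.D A}, Dual.IsDualizing A X → Dual.IsDualizing B ((L A B).obj X) := fun {X} h =>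
    isDualizing_L B h (fid_L_of_extended B (bddFin_of_dualizing h) h.finite_injective_dimension hex)
  haveI : IsNoetherianRing B := (hd hW).isNoetherianRing
  obtain ⟨n, ⟨e⟩⟩ := Groth.Agent.S1747.result B ((L A B).obj W) ((L A B).obj ω') (hd hW) (hd hω')
  let e' : (L A B).obj (ω'⟦-n⟧) ≅ (L A B).obj W :=
    ((L A B).commShiftIso (-n)).app ω' ≪≫ (shiftFunctor (Dual.D B) (-n)).mapIso e ≪≫
      (shiftFunctorCompIsoId (Dual.D B) n (-n) (by lia)).app _
  have hX : Dual.IsDualizing A (ω'⟦-n⟧) := TwistInvertible.isDualizing_shift A hω' (-n)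
  have key : ∀ {X Y : Dual.D A}, BddFin X → BddFin Y → ∀ f : (L A B).obj X ⟶ (L A B).obj Y,
      ∃ (s : A) (f₀ : X ⟶ Y), s ∉ p.asIdeal ∧ algebraMap A B s • f = (L A B).map f₀ := by
    intro X Y hX hY f
    obtain ⟨z, rfl⟩ := (homEquivL B hX hY).surjective f
    induction z using TensorProduct.induction_on with
    | zero => exact ⟨1, 0, fun h => p.isPrime.ne_top ((Ideal.eq_top_iff_one _).2 h), by simp⟩
    | tmul b f₀ =>
      obtain ⟨⟨a, s⟩, hb⟩ := IsLocalization.surj p.asIdeal.primeCompl b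
      refine ⟨s, a • f₀, s.2, ?_⟩
      show algebraMap A B s • Φ B X Y (b ⊗ₜ f₀) = _
      rw [Φ_tmul, L_map_smul, smul_smul, mul_comm, hb]
    | add x y hx hy =>
      obtain ⟨s, f₁, hs, hf₁⟩ := hx
      obtain ⟨t, f₂, ht, hf₂⟩ := hy
      refine ⟨s * t, t • f₁ + s • f₂, fun h => (p.isPrime.mem_or_mem h).elim hs ht, ?_⟩
      rw [map_add, smul_add, Functor.map_add, L_map_smul, L_map_smul, ← hf₁, ← hf₂, smul_smul, smul_smul, ← map_mul,
        ← map_mul, mul_comm t s]
  obtain ⟨s, y, hs, hy⟩ := key (bddFin_of_dualizing hX) (bddFin_of_dualizing hW) e'.hom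
  obtain ⟨t, g, ht, hg⟩ := key (bddFin_of_dualizing hW) (bddFin_of_dualizing hX) e'.inv
  obtain ⟨a, ha⟩ := hX.toEnd_bijective.2 (y ≫ g)
  refine ⟨-n, y, g, a, ha.symm, fun hap => ?_⟩
  have h1 : algebraMap A B a • 𝟙 ((L A B).obj (ω'⟦-n⟧)) = algebraMap A B (s * t) • 𝟙 _ :=
    calc algebraMap A B a • 𝟙 _ = (L A B).map (y ≫ g) := by
            rw [← ha]; exact (map_smul_id _ a).symm
      _ = (algebraMap A B s • e'.hom) ≫ (algebraMap A B t • e'.inv) := by rw [Functor.map_comp, hy, hg]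
      _ = algebraMap A B (s * t) • 𝟙 _ := by
            rw [Linear.smul_comp, Linear.comp_smul, e'.hom_inv_id, smul_smul, ← map_mul]
  have h2 := (hd hX).toEnd_bijective.1 h1
  have hu : IsUnit (algebraMap A B (s * t)) :=
    IsLocalization.map_units B (⟨s * t, fun h => (p.isPrime.mem_or_mem h).elim hs ht⟩ : p.asIdeal.primeCompl)
  rw [← h2, IsLocalization.AtPrime.isUnit_to_map_iff B p.asIdeal] at hu
  exact hu hap

/-- The primes where `ω'⟦m⟧` is a summand of `W`. -/
def U (W ω' : Dual.D A) (m : ℤ) : Set (PrimeSpectrum A) :=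
  {p | ∃ (y : ω'⟦m⟧ ⟶ W) (g : W ⟶ ω'⟦m⟧) (a : A), y ≫ g = a • 𝟙 _ ∧ a ∉ p.asIdeal}

lemma isOpen_U (W ω' : Dual.D A) (m : ℤ) : IsOpen (U W ω' m) := by
  rw [isOpen_iff_forall_mem_open]
  rintro p ⟨y, g, a, h, ha⟩
  exact ⟨PrimeSpectrum.basicOpen a, fun q hq => ⟨y, g, a, h, hq⟩, (PrimeSpectrum.basicOpen a).isOpen, ha⟩

lemma disjoint_U (W ω' : Dual.D A) (hW : Dual.IsDualizing A W) (hω' : Dual.IsDualizing A ω')
    {m m' : ℤ} {p : PrimeSpectrum A} (h : p ∈ U W ω' m) (h' : p ∈ U W ω' m') : m = m' := by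
  by_contra hm
  obtain ⟨y, g, a, hyg, ha⟩ := h
  obtain ⟨y', g', a', hyg', ha'⟩ := h'
  obtain ⟨c', hc'⟩ := hW.toEnd_bijective.2 (g' ≫ y')
  have h1 : a' * a' = c' * a' := (TwistInvertible.isDualizing_shift A hω' m').toEnd_bijective.1 (
    calc (a' * a') • 𝟙 (ω'⟦m'⟧) = (y' ≫ g') ≫ (y' ≫ g') := by rw [hyg']; simp [smul_smul]
      _ = y' ≫ (g' ≫ y') ≫ g' := by simp only [Category.assoc]
      _ = (c' * a') • 𝟙 (ω'⟦m'⟧) := by rw [← hc']; simp [hyg', smul_smul])
  have hc : c' ∉ p.asIdeal := fun hh =>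
    (p.isPrime.mem_or_mem (h1 ▸ p.asIdeal.mul_mem_right a' hh)).elim ha' ha'
  have hs : Subsingleton (ω'⟦m⟧ ⟶ ω'⟦m'⟧) := by
    have := hω'.ext_self_subsingleton (m' - m) (by lia)
    exact ((Iso.homCongr (Iso.refl _) ((shiftFunctorAdd' (Dual.D A) (m' - m) m m' (by lia)).app ω')).trans
      (Functor.FullyFaithful.ofFullyFaithful (shiftFunctor (Dual.D A) m)).homEquiv.symm).subsingleton
  have h2 : c' * a = 0 := (TwistInvertible.isDualizing_shift A hω' m).toEnd_bijective.1 (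
    calc (c' * a) • 𝟙 (ω'⟦m⟧) = y ≫ (g' ≫ y') ≫ g := by rw [← hc']; simp [hyg, smul_smul]
      _ = (y ≫ g') ≫ y' ≫ g := by simp only [Category.assoc]
      _ = (0 : A) • 𝟙 (ω'⟦m⟧) := by rw [hs.elim (y ≫ g') 0]; simp)
  exact (p.isPrime.mem_or_mem (h2 ▸ p.asIdeal.zero_mem : c' * a ∈ p.asIdeal)).elim hc ha

lemma exists_decomp [ConnectedSpace (PrimeSpectrum A)] (W ω' : Dual.D A) (hW : Dual.IsDualizing A W)
    (hω' : Dual.IsDualizing A ω') :
    ∃ (m : ℤ) (k : ℕ) (y : Fin k → (ω'⟦m⟧ ⟶ W)) (g : Fin k → (W ⟶ ω'⟦m⟧)), ∑ j, y j ≫ g j = 𝟙 _ := by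
  obtain ⟨p₀⟩ : Nonempty (PrimeSpectrum A) := inferInstance
  obtain ⟨m, y₀, g₀, a₀, h₀, ha₀⟩ := exists_local W ω' hW hω' p₀
  have hcl : IsClopen (U W ω' m) := by
    refine ⟨⟨isOpen_iff_forall_mem_open.2 fun q hq => ?_⟩, isOpen_U W ω' m⟩
    obtain ⟨m', h⟩ := exists_local W ω' hW hω' q
    exact ⟨U W ω' m', fun r hr hr' => hq (disjoint_U W ω' hW hω' hr' hr ▸ (h : q ∈ U W ω' m')),
      isOpen_U W ω' m', h⟩
  have huniv : U W ω' m = Set.univ := hcl.eq_univ ⟨p₀, y₀, g₀, a₀, h₀, ha₀⟩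
  let S := Submodule.span A (Set.range fun z : (ω'⟦m⟧ ⟶ W) × (W ⟶ ω'⟦m⟧) => z.1 ≫ z.2)
  let I : Ideal A := S.comap (LinearMap.toSpanSingleton A _ (𝟙 (ω'⟦m⟧)))
  have hI : I = ⊤ := by
    by_contra hne
    obtain ⟨M, hM, hIM⟩ := Ideal.exists_le_maximal I hne
    obtain ⟨y, g, a, h, ha⟩ : (⟨M, hM.isPrime⟩ : PrimeSpectrum A) ∈ U W ω' m := huniv ▸ Set.mem_univ _
    exact ha (hIM (show a • 𝟙 (ω'⟦m⟧) ∈ S from h ▸ Submodule.subset_span ⟨(y, g), rfl⟩))
  have h1 : 𝟙 (ω'⟦m⟧) ∈ S := by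
    have : (1 : A) ∈ I := hI ▸ Submodule.mem_top
    have h : (1 : A) • 𝟙 (ω'⟦m⟧) ∈ S := this
    rwa [one_smul] at h
  obtain ⟨k, f, z, hz⟩ := Submodule.mem_span_set'.1 h1
  choose w hw using fun j : Fin k => (z j).2
  refine ⟨m, k, fun j => f j • (w j).1, fun j => (w j).2, ?_⟩
  rw [← hz]
  refine Finset.sum_congr rfl fun j _ => ?_
  rw [Linear.smul_comp, ← hw j]

lemma twist_of_decomp (K : DRing.Cx A) {X : Dual.D A}
    (hW : Dual.IsDualizing A ((TwistInvertible.tw A K).obj (ModuleCat.of A A))) (hX : Dual.IsDualizing A X)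
    {k : ℕ} (y : Fin k → (X ⟶ (TwistInvertible.tw A K).obj (ModuleCat.of A A)))
    (g : Fin k → ((TwistInvertible.tw A K).obj (ModuleCat.of A A) ⟶ X)) (h : ∑ j, y j ≫ g j = 𝟙 _) :
    ∃ (P : ModuleCat.{u} A) (_ : Module.Invertible A P), Nonempty (X ≅ (TwistInvertible.tw A K).obj P) := by
  let F := TwistInvertible.tw A K
  choose c hc using fun j l => hW.toEnd_bijective.2 (g j ≫ y l)
  let F₀ := ModuleCat.of A (Fin k → A)
  let pr : Fin k → (F₀ ⟶ ModuleCat.of A A) := fun j => ModuleCat.ofHom (LinearMap.proj j)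
  let inc : Fin k → (ModuleCat.of A A ⟶ F₀) := fun j => ModuleCat.ofHom (LinearMap.single A (fun _ : Fin k => A) j)
  have hsum : ∑ j, pr j ≫ inc j = 𝟙 F₀ := by
    ext x
    simp [pr, inc, Finset.univ_sum_single, F₀]
  have hinj : ∀ j l, inc j ≫ pr l = if j = l then 𝟙 _ else 0 := fun j l => by
    split_ifs with hjl
    · subst hjl; apply ModuleCat.hom_ext; apply LinearMap.ext_ring
      exact Pi.single_eq_same (M := fun _ : Fin k => A) j (1 : A)
    · apply ModuleCat.hom_ext; apply LinearMap.ext_ring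
      exact Pi.single_eq_of_ne' (M := fun _ : Fin k => A) hjl (1 : A)
  let e : F₀ ⟶ F₀ := ∑ j, ∑ l, c j l • (pr j ≫ inc l)
  have hcomp : ∀ j l, inc j ≫ e ≫ pr l = c j l • 𝟙 _ := fun j l => by
    simp only [e, Preadditive.sum_comp, Preadditive.comp_sum, Linear.smul_comp, Linear.comp_smul, Category.assoc]
    simp [hinj, ← Category.assoc, Finset.sum_ite_eq, Finset.sum_ite_eq', apply_ite]
  have hcc : ∀ j l, ∑ i, c j i * c i l = c j l := fun j l => hW.toEnd_bijective.1 (
    calc (∑ i, c j i * c i l) • 𝟙 _ = ∑ i, (g j ≫ y i) ≫ (g i ≫ y l) := by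
            rw [Finset.sum_smul]
            refine Finset.sum_congr rfl fun i _ => ?_
            rw [← hc, ← hc]
            simp [smul_smul, mul_comm]
      _ = g j ≫ (∑ i, y i ≫ g i) ≫ y l := by
            simp [Preadditive.sum_comp, Preadditive.comp_sum]
      _ = c j l • 𝟙 _ := by rw [h, Category.id_comp]; exact (hc j l).symm)
  have hee : e ≫ e = e := by
    have h0 : ∀ f f' : F₀ ⟶ F₀, (∀ j l, inc j ≫ f ≫ pr l = inc j ≫ f' ≫ pr l) → f = f' := by
      intro f f' hff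
      calc f = (∑ j, pr j ≫ inc j) ≫ f ≫ ∑ l, pr l ≫ inc l := by rw [hsum]; simp
        _ = (∑ j, pr j ≫ inc j) ≫ f' ≫ ∑ l, pr l ≫ inc l := by
          simp only [Preadditive.sum_comp, Preadditive.comp_sum, Category.assoc]
          refine Finset.sum_congr rfl fun a _ => Finset.sum_congr rfl fun b _ => ?_
          simp only [← Category.assoc]
          rw [Category.assoc (pr _) (inc _), Category.assoc (pr _) (inc _ ≫ _), Category.assoc (inc _), hff]
          simp only [Category.assoc]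
        _ = f' := by rw [hsum]; simp
    refine h0 _ _ fun j l => ?_
    calc inc j ≫ (e ≫ e) ≫ pr l = (inc j ≫ e) ≫ (∑ i, pr i ≫ inc i) ≫ e ≫ pr l := by rw [hsum]; simp
      _ = ∑ i, (inc j ≫ e ≫ pr i) ≫ inc i ≫ e ≫ pr l := by simp [Preadditive.sum_comp, Preadditive.comp_sum]
      _ = inc j ≫ e ≫ pr l := by simp [hcomp, smul_smul, mul_comm, ← Finset.sum_smul, hcc]
  let P := ModuleCat.of A (LinearMap.range e.hom)
  let ι : P ⟶ F₀ := ModuleCat.ofHom (Submodule.subtype _)
  let π : F₀ ⟶ P := ModuleCat.ofHom e.hom.rangeRestrict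
  have hπι : π ≫ ι = e := rfl
  have hιπ : ι ≫ π = 𝟙 P := by
    apply ModuleCat.hom_ext
    refine LinearMap.ext ?_
    rintro ⟨x, z, rfl⟩
    exact Subtype.ext (congrArg (fun f : F₀ ⟶ F₀ => f.hom z) hee)
  haveI : Module.Finite A P := Module.Finite.range e.hom
  haveI : Module.Projective A P :=
    Module.Projective.of_split ι.hom π.hom (congrArg ModuleCat.Hom.hom hιπ)
  let outm : F.obj P ⟶ X := ∑ j, F.map (ι ≫ pr j) ≫ g j
  let inm : X ⟶ F.obj P := ∑ l, y l ≫ F.map (inc l ≫ π)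
  have hcF : ∀ j l, F.map (inc j ≫ e ≫ pr l) = g j ≫ y l := fun j l => by
    rw [hcomp, F.map_smul, F.map_id]
    exact hc j l
  let E : X ≅ F.obj P :=
  { hom := inm
    inv := outm
    hom_inv_id :=
      calc inm ≫ outm = ∑ l, ∑ j, y l ≫ F.map (inc l ≫ e ≫ pr j) ≫ g j := by
              simp only [inm, outm, Preadditive.sum_comp, Preadditive.comp_sum, Category.assoc]
              rw [Finset.sum_comm]
              refine Finset.sum_congr rfl fun l _ => Finset.sum_congr rfl fun j _ => ?_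
              simp only [← hπι, Functor.map_comp, Category.assoc]
        _ = (∑ l, y l ≫ g l) ≫ ∑ j, y j ≫ g j := by
              simp only [hcF, Preadditive.sum_comp, Category.assoc, Preadditive.comp_sum]
              first | done | exact Finset.sum_comm
        _ = 𝟙 X := by rw [h, Category.id_comp]
    inv_hom_id :=
      calc outm ≫ inm = ∑ j, ∑ l, F.map (ι ≫ pr j) ≫ (c j l • 𝟙 _) ≫ F.map (inc l ≫ π) := by
              simp only [inm, outm, Preadditive.sum_comp, Preadditive.comp_sum, Category.assoc]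
              rw [Finset.sum_comm]
              refine Finset.sum_congr rfl fun j _ => Finset.sum_congr rfl fun l _ => ?_
              rw [← Category.assoc (g _) (y _)]
              exact congrArg (fun t => _ ≫ t ≫ _) (hc _ _).symm
        _ = F.map (ι ≫ e ≫ π) := by
              simp [e, Functor.map_sum, Functor.map_smul, Preadditive.sum_comp, Preadditive.comp_sum]
        _ = 𝟙 _ := by rw [← hπι, Category.assoc, hιπ, Category.comp_id, hιπ, F.map_id] }
  have hFP := DMod.LBC.isDualizing_of_iso E hX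
  have hbij : Function.Bijective (LinearMap.toSpanSingleton A (P ⟶ P) (𝟙 P)) := by
    refine ⟨fun a b hab => hFP.toEnd_bijective.1 ?_, fun f => ?_⟩
    · have := congrArg F.map hab
      simp only [LinearMap.toSpanSingleton_apply, F.map_smul, F.map_id] at this
      exact this
    · obtain ⟨a, ha⟩ := hFP.toEnd_bijective.2 (F.map f)
      refine ⟨a, ?_⟩
      rw [LinearMap.toSpanSingleton_apply, ← sub_eq_zero]
      have hz : F.map (a • 𝟙 P - f) = 0 := by
        rw [F.map_sub, F.map_smul, F.map_id, sub_eq_zero]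
        exact ha
      generalize a • 𝟙 P - f = d at hz
      have hd : ∀ j l, inc j ≫ π ≫ d ≫ ι ≫ pr l = 0 := fun j l => by
        let x : A := (inc j ≫ π ≫ d ≫ ι ≫ pr l).hom (1 : A)
        have hx : inc j ≫ π ≫ d ≫ ι ≫ pr l = x • 𝟙 _ := by
          apply ModuleCat.hom_ext
          apply LinearMap.ext_ring
          simp [x]
        have h0 : x • 𝟙 (F.obj (ModuleCat.of A A)) = (0 : A) • 𝟙 _ := by
          rw [zero_smul, ← F.map_id, ← F.map_smul, ← hx]
          simp [Functor.map_comp, hz]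
        rw [hx, hW.toEnd_bijective.1 h0, zero_smul]
      calc d = (ι ≫ π) ≫ d ≫ ι ≫ π := by rw [hιπ]; simp
        _ = ι ≫ ((∑ j, pr j ≫ inc j) ≫ π ≫ d ≫ ι ≫ (∑ l, pr l ≫ inc l)) ≫ π := by rw [hsum]; simp
        _ = 0 := by
          simp only [Preadditive.sum_comp, Preadditive.comp_sum, Category.assoc]
          refine Finset.sum_eq_zero fun a _ => Finset.sum_eq_zero fun b _ => ?_
          have := hd
          simp only [← Category.assoc] at this ⊢
          simp only [Category.assoc] at this ⊢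
          rw [reassoc_of% (this _ _)]
          simp
  exact ⟨P, Module.Invertible.right (dualTensorHomEquiv A P P ≪≫ₗ
    ((LinearEquiv.ofBijective _ hbij) ≪≫ₗ ModuleCat.homLinearEquiv).symm), ⟨E⟩⟩

/-- Let A be a Noetherian ring whose prime spectrum is connected, and let ω and ω′ be dualizing
complexes for A. Then there exist an invertible A-module P (finite locally free of rank one) and an
integer n such that ω′ ≅ (ω ⊗^L_A P)[n] in D(A); here the total left derived functor − ⊗^L_A P is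
assumed to exist (a true statement carried as a hypothesis). The published statement is for a
connected locally Noetherian scheme; the affine case is stated. -/
theorem result (A : Type u) [CommRing A] [IsNoetherianRing A]
    [ConnectedSpace (PrimeSpectrum A)] (ω ω' : Dual.D A) (hω : Dual.IsDualizing A ω) (hω' : Dual.IsDualizing A ω') :
    ∃ (P : ModuleCat.{u} A) (_ : Module.Invertible A P) (n : ℤ),
      ∀ [DRing.HasLTensor A P], Nonempty (ω' ≅ ((DRing.LTensor A P).obj ω)⟦n⟧) := by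
  let K := DerivedCategory.Q.objPreimage ω
  let eK : DerivedCategory.Q.obj K ≅ ω := DerivedCategory.Q.objObjPreimageIso ω
  let e₁ : (TwistInvertible.tw A K).obj (ModuleCat.of A A) ≅ ω :=
    DerivedCategory.Q.mapIso ((NatIso.mapHomologicalComplex (MonoidalCategory.rightUnitorNatIso (ModuleCat.{u} A)) (.up ℤ)).app K ≪≫
      (Functor.mapHomologicalComplexIdIso _ _).app K) ≪≫ eK
  have hW := DMod.LBC.isDualizing_of_iso e₁.symm hω
  obtain ⟨m, k, y, g, h⟩ := exists_decomp _ ω' hW hω'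
  obtain ⟨P, hP, ⟨E⟩⟩ := twist_of_decomp K hW (TwistInvertible.isDualizing_shift A hω' m) y g h
  haveI := hP
  refine ⟨P, hP, -m, fun {_} => ⟨?_⟩⟩
  exact ((shiftFunctorCompIsoId (Dual.D A) m (-m) (by lia)).app ω').symm ≪≫
    (shiftFunctor (Dual.D A) (-m)).mapIso (E ≪≫ ((TwistInvertible.T A P).mapDerivedCategoryFactors.app K).symm ≪≫
      (TwistInvertible.G A P).mapIso eK ≪≫ ((TwistInvertible.isoLTensor A P).app ω).symm)

end Groth.Agent.S12440
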