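import Groth.Statements.S4495
import Mathlib.Geometry.RingedSpace.LocallyRingedSpace
import Mathlib.RingTheory.Idempotents
import Mathlib.Topology.Connected.Clopen

set_option autoImplicit false
universe u
open FlatCx

namespace Groth.Agent.S4495

open CategoryTheory AlgebraicGeometry Opposite in
/-- A locally ringed space Z is connected, in the sense that it is not the disjoint union of two
nonempty open subsets (the empty space being allowed), if and only if every idempotent of the ring
of global sections Γ(Z, O_Z) is 0 or 1 (equivalently, Γ(Z, O_Z) is not isomorphic to a product of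
two nonzero rings). -/
theorem result (Z : LocallyRingedSpace.{u}) :
    PreconnectedSpace Z ↔
      ∀ e : Z.presheaf.obj (op ⊤), IsIdempotentElem e → e = 0 ∨ e = 1 := by
  constructor
  · intro hc e he
    let U := Z.toRingedSpace.basicOpen e
    let V := Z.toRingedSpace.basicOpen (1 - e)
    have hU : ∀ x : Z, x ∈ U ↔ x ∉ V := fun x => by
      rw [RingedSpace.mem_top_basicOpen, RingedSpace.mem_top_basicOpen, map_sub, map_one]
      have hid := he.map (Z.presheaf.Γgerm x).hom
      generalize (Z.presheaf.Γgerm x).hom e = a at hid ⊢
      rcases IsLocalRing.isUnit_or_isUnit_one_sub_self a with h | h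
      · have : a = 1 := (IsIdempotentElem.iff_eq_one_of_isUnit h).1 hid
        subst this
        simp
      · have : 1 - a = 1 := (IsIdempotentElem.iff_eq_one_of_isUnit h).1 hid.one_sub
        rw [sub_eq_self] at this
        subst this
        simp
    let Us : Set Z := {x | x ∈ U}
    have hclopen : IsClopen Us := by
      refine ⟨?_, U.isOpen⟩
      rw [show Us = {x : Z | x ∈ V}ᶜ from Set.ext hU]
      exact V.isOpen.isClosed_compl
    rcases isClopen_iff.1 hclopen with h | h
    · refine Or.inl ?_
      have hu : IsUnit (1 - e) := by
        refine RingedSpace.isUnit_of_isUnit_germ Z.toRingedSpace ⊤ (1 - e) fun x _ => ?_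
        by_contra hx
        exact Set.eq_empty_iff_forall_notMem.1 h x ((hU x).2 fun hV =>
          hx ((RingedSpace.mem_top_basicOpen _ _ x).1 hV))
      have := (IsIdempotentElem.iff_eq_one_of_isUnit hu).1 he.one_sub
      rwa [sub_eq_self] at this
    · refine Or.inr ((IsIdempotentElem.iff_eq_one_of_isUnit ?_).1 he)
      exact RingedSpace.isUnit_of_isUnit_germ Z.toRingedSpace ⊤ e fun x _ =>
        (RingedSpace.mem_top_basicOpen _ _ x).1 (Set.eq_univ_iff_forall.1 h x)
  · intro h
    refine preconnectedSpace_iff_clopen.2 fun s hs => ?_
    let W : Bool → TopologicalSpace.Opens Z := fun b =>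
      if b then ⟨s, hs.isOpen⟩ else ⟨sᶜ, hs.compl.isOpen⟩
    let sf : ∀ b, Z.presheaf.obj (op (W b)) := fun b => if b then 1 else 0
    have hcompat : ∀ i j, Z.presheaf.map (homOfLE inf_le_left : W i ⊓ W j ⟶ W i).op (sf i) =
        Z.presheaf.map (homOfLE inf_le_right : W i ⊓ W j ⟶ W j).op (sf j) := by
      intro i j
      by_cases hij : i = j
      · subst hij; rfl
      · have : W i ⊓ W j = ⊥ := by
          apply TopologicalSpace.Opens.ext
          cases i <;> cases j <;> simp [W] at hij ⊢
        have hz : Subsingleton (Z.presheaf.obj (op (W i ⊓ W j))) := by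
          rw [this]
          exact CommRingCat.subsingleton_of_isTerminal Z.toRingedSpace.sheaf.isTerminalOfEmpty
        exact @Subsingleton.elim _ hz _ _
    obtain ⟨e, he, huniq⟩ := Z.toRingedSpace.sheaf.existsUnique_gluing' W ⊤ (fun b => homOfLE le_top)
      (fun x _ => TopologicalSpace.Opens.mem_iSup.2 <| by
        by_cases hx : x ∈ s
        · exact ⟨true, hx⟩
        · exact ⟨false, hx⟩) sf hcompat
    have hid : IsIdempotentElem e := huniq _ fun b => by
      refine ((Z.presheaf.map (homOfLE (le_top : W b ≤ ⊤)).op).hom.map_mul e e).trans ?_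
      refine (congrArg₂ (· * ·) (he b) (he b)).trans ?_
      cases b
      exacts [mul_zero (0 : Z.presheaf.obj (op (W false))), mul_one (1 : Z.presheaf.obj (op (W true)))]
    have key : ∀ b, Z.presheaf.map (homOfLE (le_top : W b ≤ ⊤)).op e = sf b := he
    have hempty : ∀ b, (1 : Z.presheaf.obj (op (W b))) = 0 → (W b : Set Z) = ∅ := fun b hb =>
      Set.eq_empty_iff_forall_notMem.2 fun x hx => by
        have := congrArg (Z.presheaf.germ (W b) x hx).hom hb
        rw [map_one, map_zero] at this
        exact one_ne_zero this
    rcases h e hid with rfl | rfl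
    · refine Or.inl (hempty true ?_)
      have := key true
      rw [map_zero] at this
      exact this.symm
    · refine Or.inr ?_
      have h0 := hempty false (by
        have := key false
        rw [map_one] at this
        exact this)
      simpa [W] using h0

end Groth.Agent.S4495
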