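import Groth.Statements.S14343
import Groth.Agent.Lib.KoszulBlow85.Alg
import Groth.Agent.H26.BlowSmooth
import Groth.Agent.H26.RegKinds
import Groth.Agent.Lib.AlgSpDiv.RelBaseChange

set_option autoImplicit false
universe u
open CategoryTheory CategoryTheory.Limits AlgebraicGeometry TopologicalSpace
open QuotLF

namespace Groth.Agent.S14343

set_option linter.style.haveILetI false

open Groth.Agent.Lib Groth.Agent.Lib.AlgSpDiv Groth.Agent.Lib.Ideal.EffCartier

theorem isH1Regular_of_koszul {A : Type u} [CommRing A] (rs : List A)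
    (h : LCI.IsKoszulRegularSeq A rs) : CAlgX.IsH1Regular rs.get :=
  H26.RegKinds.h1_of_koszul rs h

theorem isH1Regular_map_equiv {A B : Type u} [CommRing A] [CommRing B] (ε : A ≃+* B) {c : ℕ}
    {a : Fin c → A} (h : CAlgX.IsH1Regular a) : CAlgX.IsH1Regular fun k => ε (a k) := by
  classical
  intro v hv
  have h1 : ∑ k, ε.symm (v k) * a k = 0 := by
    refine ε.injective ?_
    rw [map_sum, map_zero, ← hv]
    refine Finset.sum_congr rfl fun k _ => ?_
    rw [map_mul, ε.apply_symm_apply]
  have h2 : (fun k => ε (ε.symm (v k))) = v := funext fun k => ε.apply_symm_apply _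
  have h3 := h (fun k => ε.symm (v k)) h1
  suffices key : ∀ w ∈ Submodule.span A {u : Fin c → A | ∃ i j : Fin c,
      u = Pi.single i (a j) - Pi.single j (a i)},
      (fun k => ε (w k)) ∈ Submodule.span B
        {u : Fin c → B | ∃ i j : Fin c, u = Pi.single i (ε (a j)) - Pi.single j (ε (a i))} from
    h2 ▸ key _ h3
  intro w hw
  induction hw using Submodule.span_induction with
  | mem w hw => ?_
  | zero => ?_
  | add x y _ _ hx hy => ?_
  | smul r x _ hx => ?_
  · obtain ⟨i, j, rfl⟩ := hw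
    refine Submodule.subset_span ⟨i, j, ?_⟩
    funext k
    rw [Pi.sub_apply, Pi.sub_apply, map_sub,
      Pi.apply_single (fun _ (x : A) => ε x) (fun _ => map_zero ε),
      Pi.apply_single (fun _ (x : A) => ε x) (fun _ => map_zero ε)]
  · rw [show (fun k => ε ((0 : Fin c → A) k)) = 0 from funext fun k => map_zero ε]
    exact Submodule.zero_mem _
  · rw [show (fun k => ε ((x + y) k)) = (fun k => ε (x k)) + fun k => ε (y k) from
      funext fun k => map_add ε _ _]
    exact Submodule.add_mem _ hx hy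
  · rw [show (fun k => ε ((r • x) k)) = ε r • fun k => ε (x k) from
      funext fun k => map_mul ε _ _]
    exact Submodule.smul_mem _ (ε r) hx

theorem isH1Regular_cast {A : Type u} [CommRing A] {n m : ℕ} (h : n = m) {f : Fin m → A}
    (hf : CAlgX.IsH1Regular f) : CAlgX.IsH1Regular fun k => f (Fin.cast h k) := by
  subst h
  exact hf

theorem isEffCartier_comap_fst {X X' B : Scheme.{u}} (𝓘 : X.IdealSheafData)
    (h𝓘 : RegImm.IsRegularIdeal .koszul 𝓘) (g : X' ⟶ X)
    (hg : ∀ (U : X.affineOpens) (rs : List Γ(X, U.1)), LCI.IsKoszulRegularSeq Γ(X, U.1) rs →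
      𝓘.ideal U = Ideal.ofList rs → ∀ (V : X'.affineOpens) (e : V.1 ≤ g ⁻¹ᵁ U.1),
        LCI.IsKoszulRegularSeq Γ(X', V.1) (rs.map fun r => (g.appLE U.1 V.1 e).hom r))
    (b : B ⟶ X) (hb : BlowUp.IsBlowUp b 𝓘) :
    BlowUp.IsEffCartierIdeal ((𝓘.comap b).comap (pullback.fst b g)) := by
  set R := pullback b g
  set p := pullback.fst b g
  set q := pullback.snd b g
  set J := (𝓘.comap b).comap p with hJdef
  intro r
  by_cases hr : r ∈ J.support
  swap
  · obtain ⟨O, hO, hrO, hle⟩ := exists_isAffineOpen_mem_and_subset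
      (show r ∈ J.support.compl from hr)
    refine ⟨⟨O, hO⟩, hrO, 1, one_mem _, ?_⟩
    rw [Ideal.span_singleton_one, ← PrimeSpectrum.zeroLocus_empty_iff_eq_top]
    refine Set.eq_empty_iff_forall_notMem.mpr fun z hz => ?_
    have h1 : hO.fromSpec z ∈ (J.support : Set R) ∩ O := by
      rw [J.coe_support_inter ⟨O, hO⟩, ← hO.fromSpec_image_zeroLocus]
      exact Set.mem_image_of_mem _ hz
    exact hle h1.2 h1.1
  have hx : b (p r) ∈ 𝓘.support := by
    rw [hJdef, ← Scheme.IdealSheafData.comap_comp, Scheme.IdealSheafData.support_comap] at hr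
    exact hr
  obtain ⟨U, hxU, rs, hrs, hIU⟩ := h𝓘 (b (p r)) hx
  have hspan : 𝓘.ideal U = Ideal.span (Set.range rs.get) := by
    rw [hIU, Ideal.ofList, Set.range_list_get]
  obtain ⟨i, D, hD, hDU, e, hrD, he⟩ := H26.BlowSmooth.exists_chart hb (p r) hxU rs.get hspan
  have hgr : q r ∈ g ⁻¹ᵁ U.1 := by
    show g (q r) ∈ U.1
    rw [← Scheme.Hom.comp_apply, ← pullback.condition, Scheme.Hom.comp_apply]
    exact hxU
  obtain ⟨V, hV, hrV, hle⟩ := exists_isAffineOpen_mem_and_subset hgr
  have hVU : V ≤ g ⁻¹ᵁ U.1 := fun z hz => hle hz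
  haveI : IsAffine (U.1 : Scheme.{u}) := U.2
  haveI : IsAffine (D : Scheme.{u}) := hD
  haveI : IsAffine (V : Scheme.{u}) := hV
  let bU := b.resLE U.1 D hDU
  let gV := g.resLE U.1 V hVU
  haveI : IsAffine (pullback bU gV) := inferInstance
  let jj : pullback bU gV ⟶ R := pullback.map bU gV b g D.ι V.ι U.1.ι
    (Scheme.Hom.resLE_comp_ι b hDU) (Scheme.Hom.resLE_comp_ι g hVU)
  haveI : IsOpenImmersion jj := by infer_instance
  have hjp : jj ≫ p = pullback.fst bU gV ≫ D.ι := pullback.lift_fst _ _ _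
  let ι₀ : Γ(X, U.1) ≃+* Γ((U.1 : Scheme.{u}), ⊤) := U.1.topIso.symm.commRingCatIsoToRingEquiv
  let e' : BlowUp.affineAlgebra Γ(X, U.1) (Ideal.span (Set.range rs.get)) (rs.get i) ≃+*
      Γ((D : Scheme.{u}), ⊤) := e.trans D.topIso.symm.commRingCatIsoToRingEquiv
  have hbU : ∀ x, bU.appTop (ι₀ x) = D.topIso.inv (b.appLE U.1 D hDU x) := fun x => by
    show bU.app ⊤ (U.1.topIso.inv x) = _
    rw [Scheme.Hom.resLE_app_top]
    show D.topIso.inv (b.appLE U.1 D hDU (U.1.topIso.hom (U.1.topIso.inv x))) = _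
    rw [Iso.inv_hom_id_apply]
  have he' : ∀ x, e' (algebraMap _ _ x) = bU.appTop (ι₀ x) := fun x => by
    rw [hbU, ← he]
    rfl
  have hH : CAlgX.IsH1Regular fun k => gV.appTop (ι₀ (rs.get k)) := by
    have h2 := isH1Regular_of_koszul _ (hg U rs hrs hIU ⟨V, hV⟩ hVU)
    have hlen : rs.length = (rs.map fun r => (g.appLE U.1 V hVU).hom r).length := by simp
    have h3 : CAlgX.IsH1Regular fun k => (g.appLE U.1 V hVU).hom (rs.get k) := by
      have : (fun k => (g.appLE U.1 V hVU).hom (rs.get k)) =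
          fun k => (rs.map fun r => (g.appLE U.1 V hVU).hom r).get (Fin.cast hlen k) := by
        funext k; simp
      rw [this]
      exact isH1Regular_cast hlen h2
    have h4 : ∀ k, gV.appTop (ι₀ (rs.get k)) =
        V.topIso.symm.commRingCatIsoToRingEquiv ((g.appLE U.1 V hVU).hom (rs.get k)) := fun k => by
      show gV.app ⊤ (U.1.topIso.inv (rs.get k)) = _
      rw [Scheme.Hom.resLE_app_top]
      show V.topIso.inv (g.appLE U.1 V hVU (U.1.topIso.hom (U.1.topIso.inv (rs.get k)))) = _
      rw [Iso.inv_hom_id_apply]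
      rfl
    simp only [h4]
    exact isH1Regular_map_equiv _ h3
  have hnzd := KoszulBlow85.gen_mem_nonZeroDivisors rs.get i (isH1Regular_of_koszul rs hrs)
    bU.appTop gV.appTop (isPushout_appTop_of_isPullback (IsPullback.of_hasPullback bU gV)) ι₀ e' he' hH
  have hW : BlowUp.IsEffCartierIdeal (J.comap jj) := by
    intro w
    refine ⟨⟨⊤, isAffineOpen_top _⟩, trivial, _, hnzd, ?_⟩
    rw [← Scheme.IdealSheafData.comap_comp, hjp, Scheme.IdealSheafData.comap_comp,
      Lib.Ideal.Comap.ideal_comap_top (pullback.fst bU gV), Lib.Ideal.Comap.ideal_comap_ι_top ⟨D, hD⟩,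
      Lib.Ideal.Comap.ideal_comap b 𝓘 U ⟨D, hD⟩ hDU, hspan,
      show (b.appLE U.1 D hDU).hom = e.toRingHom.comp (algebraMap _ _) from
        RingHom.ext fun r => (he r).symm,
      ← Ideal.map_map,
      BlowUpExists.map_ideal_eq_span _ _ (_root_.Ideal.subset_span (Set.mem_range_self i)),
      Ideal.map_span, Set.image_singleton, Ideal.map_span, Set.image_singleton, Ideal.map_span,
      Set.image_singleton, hbU, ← he]
    rfl
  obtain ⟨w, rfl⟩ : r ∈ Set.range jj := by
    rw [Scheme.Pullback.range_map]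
    refine ⟨?_, ?_⟩
    · rw [Set.mem_preimage, Scheme.Opens.range_ι]; exact hrD
    · rw [Set.mem_preimage, Scheme.Opens.range_ι]; exact hrV
  obtain ⟨O, hwO, s, hs, hIs⟩ := hW w
  obtain ⟨O', hrO, t, ht, htn⟩ := exists_gen_of_comap jj J hwO hIs
  exact ⟨O', hrO, t, htn hs, ht⟩

/-- Let 𝓘 be a Koszul-regular quasi-coherent ideal sheaf on a scheme X (the ideal of a Koszul-regularly
immersed closed subscheme Z) and let g : X' ⟶ X be a morphism which is Tor-independent with respect
to Z ⟶ X, stated in the following equivalent form: whenever 𝓘(U) is generated on an affine open U by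
a Koszul-regular sequence, the image of that sequence in Γ(X', V) is again Koszul-regular for every
affine open V of X' lying over U (for a Koszul-regular ideal the Koszul complex of such a sequence
resolves O_Z on U, so this says exactly that the higher Tor groups of O_Z against O_{X'} vanish).
Then for every blowing-up b : B ⟶ X of X in 𝓘, the base change B ×_X X' ⟶ X' is a blowing-up of X'
in the inverse image ideal sheaf 𝓘·O_{X'} (the ideal of Z ×_X X'). Blowing-ups are taken through
their universal property. -/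
theorem result {X X' B : Scheme.{u}} (𝓘 : X.IdealSheafData)
    (h𝓘 : RegImm.IsRegularIdeal .koszul 𝓘) (g : X' ⟶ X)
    (hg : ∀ (U : X.affineOpens) (rs : List Γ(X, U.1)), LCI.IsKoszulRegularSeq Γ(X, U.1) rs →
      𝓘.ideal U = Ideal.ofList rs → ∀ (V : X'.affineOpens) (e : V.1 ≤ g ⁻¹ᵁ U.1),
        LCI.IsKoszulRegularSeq Γ(X', V.1) (rs.map fun r => (g.appLE U.1 V.1 e).hom r))
    (b : B ⟶ X) (hb : BlowUp.IsBlowUp b 𝓘) :
    BlowUp.IsBlowUp (pullback.snd b g) (𝓘.comap g) := by
  refine ⟨?_, fun Y k hk => ?_⟩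
  · rw [← Scheme.IdealSheafData.comap_comp, ← pullback.condition, Scheme.IdealSheafData.comap_comp]
    exact isEffCartier_comap_fst 𝓘 h𝓘 g hg b hb
  · rw [← Scheme.IdealSheafData.comap_comp] at hk
    obtain ⟨h, hh, huniq⟩ := hb.2 Y (k ≫ g) hk
    refine ⟨pullback.lift h k hh, pullback.lift_snd _ _ _, fun l hl => ?_⟩
    simp only at hl
    refine pullback.hom_ext ?_ (by rw [pullback.lift_snd, hl])
    rw [pullback.lift_fst]
    exact huniq _ (by simp only [Category.assoc, pullback.condition]; rw [← Category.assoc, hl])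

end Groth.Agent.S14343
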