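import Groth.Statements.S5642
import Groth.Agent.Lib.Devissage.Dim

set_option autoImplicit false
universe u
open CategoryTheory CategoryTheory.Limits AlgebraicGeometry
open Classical
open SGA6

namespace Groth.Agent.S5642

/-- Let X be a Noetherian scheme, K the Grothendieck group of coherent O_X-modules and Filt_m ⊆ K the
subgroup generated by the classes of coherent modules whose support has dimension ≤ m. Let F be
coherent with dim Supp(F) ≤ n. Then for the points x of X whose closure Z(x) has dimension n the
stalk F_x has finite length, nonzero for only finitely many such x, and [F] ≡ Σ_x length(F_x)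
[O_{Z(x)}] modulo Filt_{n-1}, where O_{Z(x)} is the structure sheaf of the reduced closed subscheme
Z(x) viewed as an O_X-module. -/
theorem result (X : Scheme.{u}) [IsNoetherian X] (n : ℕ) (F : X.Modules) (hF : Coh.IsCoh F)
    (hsupp : topologicalKrullDim ↥(CohB1.support F) ≤ n) :
    KZero.clSub (fun M : X.Modules => Coh.IsCoh M) F -
        (finsum fun x : ↥X => if topologicalKrullDim ↥(closure ({x} : Set ↥X)) = n then
          (Module.length (X.presheaf.stalk x) (F.presheaf.stalk x)).toNat • KZero.clSub (fun M : X.Modules => Coh.IsCoh M) (Cyc.closureStructureSheaf x) else 0) ∈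
      AddSubgroup.closure {c : KZero.K0sub (fun M : X.Modules => Coh.IsCoh M) |
        ∃ G : X.Modules, Coh.IsCoh G ∧ topologicalKrullDim ↥(CohB1.support G) < n ∧ c = KZero.clSub (fun M : X.Modules => Coh.IsCoh M) G} := by
  classical
  let P : ObjectProperty X.Modules := fun M => Coh.IsCoh M
  let Fl := AddSubgroup.closure {c : KZero.K0sub P |
    ∃ G : X.Modules, Coh.IsCoh G ∧ topologicalKrullDim ↥(CohB1.support G) < n ∧ c = KZero.clSub P G}
  let Q : ObjectProperty X.Modules :=
    fun G => Coh.IsCoh G ∧ topologicalKrullDim ↥(CohB1.support G) ≤ n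
  let ℓ : X.Modules → X → ℕ :=
    fun G x => (Module.length (X.presheaf.stalk x) (G.presheaf.stalk x)).toNat
  let t : X.Modules → X → KZero.K0sub P := fun G x =>
    if topologicalKrullDim ↥(closure ({x} : Set X)) = n then
      ℓ G x • KZero.clSub P (Cyc.closureStructureSheaf x) else 0
  have hmax : ∀ (G : X.Modules), Q G → ∀ x, topologicalKrullDim ↥(closure ({x} : Set X)) = n →
      ∀ z ∈ CohB1.support G, z ⤳ x → z = x := by
    intro G hG x hx z hz hzx
    haveI := hG.1.2
    exact Lib.Devissage.Dim.eq_of_specializes hzx hx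
      ((Lib.Devissage.Dim.dim_closure_le (Lib.Modules.Support.isClosed_support G) hz).trans hG.2)
  have hlen : ∀ (G : X.Modules), Q G → ∀ x, topologicalKrullDim ↥(closure ({x} : Set X)) = n →
      Module.length (X.presheaf.stalk x) (G.presheaf.stalk x) ≠ ⊤ := fun G hG x hx =>
    Lib.Cyc.SheafLen.length_ne_top hG.1 x fun z hzx hz =>
      hmax G hG x hx z (not_subsingleton_iff_nontrivial.mpr hz) hzx
  have hsub : ∀ (G : X.Modules) (x : X), x ∉ CohB1.support G → t G x = 0 := by
    intro G x hx
    simp only [t, ℓ]
    rw [Module.length_eq_zero_iff.mpr (Lib.Modules.Support.not_mem_support_iff.mp hx)]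
    simp
  have hfin : ∀ G : X.Modules, Q G → (Function.support (t G)).Finite := by
    intro G hG
    haveI := hG.1.2
    refine (Lib.Devissage.Dim.finite_maximal (Lib.Modules.Support.isClosed_support G)).subset
      fun x hx => ?_
    refine ⟨by_contra fun h => hx (hsub G x h), hmax G hG x ?_⟩
    by_contra h
    exact hx (if_neg h)
  let Φ : X.Modules → KZero.K0sub P ⧸ Fl := fun G =>
    QuotientAddGroup.mk (KZero.clSub P G - finsum (t G))
  have hadd : ∀ S : ShortComplex X.Modules, S.ShortExact → Q S.X₁ → Q S.X₂ → Q S.X₃ →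
      Φ S.X₂ = Φ S.X₁ + Φ S.X₃ := by
    intro S hS h₁ h₂ h₃
    have ht : t S.X₂ = fun x => t S.X₁ x + t S.X₃ x := by
      funext x
      simp only [t]
      split_ifs with hx
      · simp only [ℓ]
        rw [Lib.Cyc.SheafLen.length_additive S hS x, ENat.toNat_add (hlen _ h₁ x hx) (hlen _ h₃ x hx),
          add_nsmul]
      · rw [add_zero]
    simp only [Φ]
    rw [Lib.KRes.KSub.rel (P := P) hS h₁.1 h₂.1 h₃.1, ht,
      finsum_add_distrib (hfin _ h₁) (hfin _ h₃), ← QuotientAddGroup.mk_add]
    congr 1
    abel
  let φ := Lib.KRes.KSub.lift (P := Q) Φ hadd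
  haveI := hF.2
  have hcl : IsClosed (CohB1.support F) := Lib.Modules.Support.isClosed_support F
  have key : KZero.clSub Q F ∈ φ.ker := by
    refine Lib.Devissage.Basic.generation Q φ.ker ⟨CohB1.support F, hcl⟩
      (fun K hK => ⟨hK.1, (Lib.Devissage.Dim.dim_mono hK.2).trans hsupp⟩) (fun y hy => ?_) F
      ⟨hF, subset_rfl⟩
    refine ⟨_, Lib.Devissage.Closure.cohIn_closureStructureSheaf y,
      Lib.Devissage.Closure.length_closureStructureSheaf y, ?_⟩
    have hyn : topologicalKrullDim ↥(closure ({y} : Set X)) ≤ n :=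
      (Lib.Devissage.Dim.dim_closure_le hcl hy).trans hsupp
    have hQ : Q (Cyc.closureStructureSheaf y) :=
      ⟨Lib.Devissage.Closure.isCoh_closureStructureSheaf y,
        (Lib.Devissage.Dim.dim_mono (Lib.Devissage.Closure.support_closureStructureSheaf y)).trans hyn⟩
    rw [AddMonoidHom.mem_ker, Lib.KRes.KSub.lift_cl Φ hadd hQ]
    have h0 : ∀ x, x ≠ y → t (Cyc.closureStructureSheaf y) x = 0 := by
      intro x hxy
      by_contra hne
      have hdim : topologicalKrullDim ↥(closure ({x} : Set X)) = n := by_contra fun h => hne (if_neg h)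
      have hxs : x ∈ CohB1.support (Cyc.closureStructureSheaf y) := by_contra fun h => hne (hsub _ x h)
      exact hxy (Lib.Devissage.Dim.eq_of_specializes
        (specializes_iff_mem_closure.mpr (Lib.Devissage.Closure.support_closureStructureSheaf y hxs))
        hdim hyn).symm
    refine (QuotientAddGroup.eq_zero_iff _).mpr ?_
    rw [finsum_eq_single _ y h0]
    by_cases hy' : topologicalKrullDim ↥(closure ({y} : Set X)) = n
    · simp only [t, ℓ, if_pos hy', Lib.Devissage.Closure.length_closureStructureSheaf]
      simp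
    · simp only [t, if_neg hy', sub_zero]
      exact AddSubgroup.subset_closure ⟨_, hQ.1, lt_of_le_of_lt (Lib.Devissage.Dim.dim_mono
        (Lib.Devissage.Closure.support_closureStructureSheaf y)) (lt_of_le_of_ne hyn hy'), rfl⟩
  rw [AddMonoidHom.mem_ker, Lib.KRes.KSub.lift_cl Φ hadd (show Q F from ⟨hF, hsupp⟩)] at key
  exact (QuotientAddGroup.eq_zero_iff _).mp key

end Groth.Agent.S5642
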