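import Groth.Statements.S15981
import Groth.Agent.S5642

set_option autoImplicit false
universe u
open IntSh

namespace Groth.Agent.S15981
open CategoryTheory CategoryTheory.Limits AlgebraicGeometry in
theorem eq_of_spec {X : Scheme.{u}} {x z : X} (hx : ringKrullDim (X.presheaf.stalk x) = 0)
    (h : z ⤳ x) : z = x := by
  rw [ringKrullDim_stalk_eq_coheight] at hx
  have h0 : Order.coheight x = 0 := by exact_mod_cast hx
  have h1 : IsMax x := Order.coheight_eq_zero.mp h0
  exact (h.antisymm (h1 (AlgebraicGeometry.Scheme.le_iff_specializes.mpr h) : x ⤳ z)).eq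


open CategoryTheory CategoryTheory.Limits AlgebraicGeometry in
/-- Let X be a reduced Noetherian scheme and η_i the generic points of its irreducible components (the
points with zero-dimensional local ring). Sending the class of a coherent O_X-module F to the family
of lengths of its stalks F_{η_i} over O_{X,η_i} is a well defined homomorphism rk from the
Grothendieck group of coherent O_X-modules to the group of integer-valued functions on the η_i;
every such rk is surjective and its kernel is the subgroup generated by the classes of coherent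
modules whose support contains no η_i (the first step of the coniveau filtration), so that rk
identifies the zeroth graded piece of that filtration with the free abelian group on the irreducible
components. -/
theorem result
    {X : Scheme.{u}} [IsNoetherian X] [IsReduced X] :
    (∃ rk : SGA6.Kcoh X →+ ({x : X // ringKrullDim (X.presheaf.stalk x) = 0} → ℤ),
        ∀ F : X.Modules, Coh.IsCoh F →
          rk (KZero.clSub (fun M : X.Modules => Coh.IsCoh M) F) =
            fun x => ((Module.length (X.presheaf.stalk x.1) (F.presheaf.stalk x.1)).toNat : ℤ)) ∧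
    ∀ rk : SGA6.Kcoh X →+ ({x : X // ringKrullDim (X.presheaf.stalk x) = 0} → ℤ),
      (∀ F : X.Modules, Coh.IsCoh F →
          rk (KZero.clSub (fun M : X.Modules => Coh.IsCoh M) F) =
            fun x => ((Module.length (X.presheaf.stalk x.1) (F.presheaf.stalk x.1)).toNat : ℤ)) →
        Function.Surjective rk ∧
          rk.ker = AddSubgroup.closure {c : SGA6.Kcoh X | ∃ F : X.Modules, Coh.IsCoh F ∧
            (∀ x ∈ CohB1.support F, (1 : WithBot ℕ∞) ≤ ringKrullDim (X.presheaf.stalk x)) ∧
            c = KZero.clSub (fun M : X.Modules => Coh.IsCoh M) F} := by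
  classical
  haveI hfinI : Finite {x : X // ringKrullDim (X.presheaf.stalk x) = 0} :=
    (Set.Finite.subset (Lib.Devissage.Dim.finite_maximal (X := X) isClosed_univ)
      (t := {x : X | ringKrullDim (X.presheaf.stalk x) = 0})
      fun x hx => ⟨trivial, fun z _ hz => eq_of_spec hx hz⟩).to_subtype
  let P : ObjectProperty X.Modules := fun M => Coh.IsCoh M
  let ℓ : X.Modules → {x : X // ringKrullDim (X.presheaf.stalk x) = 0} → ℤ :=
    fun F x => ((Module.length (X.presheaf.stalk x.1) (F.presheaf.stalk x.1)).toNat : ℤ)
  have hlen : ∀ G, P G → ∀ x : {x : X // ringKrullDim (X.presheaf.stalk x) = 0},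
      Module.length (X.presheaf.stalk x.1) (G.presheaf.stalk x.1) ≠ ⊤ := fun G hG x =>
    Lib.Cyc.SheafLen.length_ne_top hG x.1 fun z hzx _ => eq_of_spec x.2 hzx
  have hadd : ∀ S : ShortComplex X.Modules, S.ShortExact → P S.X₁ → P S.X₂ → P S.X₃ →
      ℓ S.X₂ = ℓ S.X₁ + ℓ S.X₃ := by
    intro S hS h₁ h₂ h₃
    funext x
    simp only [ℓ, Pi.add_apply]
    rw [Lib.Cyc.SheafLen.length_additive S hS x.1, ENat.toNat_add (hlen _ h₁ x) (hlen _ h₃ x)]
    push_cast
    rfl
  refine ⟨⟨Lib.KRes.KSub.lift (P := P) ℓ hadd, fun F hF => Lib.KRes.KSub.lift_cl ℓ hadd hF⟩,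
    fun rk hrk => ?_⟩
  letI : Fintype {x : X // ringKrullDim (X.presheaf.stalk x) = 0} := Fintype.ofFinite _
  let O : X → SGA6.Kcoh X := fun y => KZero.clSub P (Cyc.closureStructureSheaf y)
  have hO : ∀ y, rk (O y) = fun x => if x.1 = y then 1 else 0 := by
    intro y
    rw [hrk _ (Lib.Devissage.Closure.isCoh_closureStructureSheaf y)]
    funext x
    by_cases h : x.1 = y
    · subst h
      simp [Lib.Devissage.Closure.length_closureStructureSheaf]
    · rw [if_neg h, Module.length_eq_zero_iff.mpr (Lib.Modules.Support.not_mem_support_iff.mp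
        fun hs => h (eq_of_spec x.2 (specializes_iff_mem_closure.mpr
          (Lib.Devissage.Closure.support_closureStructureSheaf y hs))).symm)]
      rfl
  let sec : ({x : X // ringKrullDim (X.presheaf.stalk x) = 0} → ℤ) →+ SGA6.Kcoh X :=
    AddMonoidHom.mk' (fun f => ∑ x, f x • O x.1) fun f g => by
      simp only [Pi.add_apply, add_smul, Finset.sum_add_distrib]
  have hsec : ∀ f, rk (sec f) = f := by
    intro f
    simp only [sec, AddMonoidHom.mk'_apply, map_sum, map_zsmul, hO]
    funext y
    simp only [Finset.sum_apply, Pi.smul_apply, smul_eq_mul, mul_ite, mul_one, mul_zero]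
    rw [Finset.sum_eq_single y (fun x _ hx => if_neg fun h => hx (Subtype.ext h.symm))
      (fun h => absurd (Finset.mem_univ _) h), if_pos rfl]
  refine ⟨fun f => ⟨sec f, hsec f⟩, le_antisymm ?_ ((AddSubgroup.closure_le _).mpr ?_)⟩
  · intro c hc
    let Fl : AddSubgroup (SGA6.Kcoh X) := AddSubgroup.closure {c : SGA6.Kcoh X | ∃ F : X.Modules,
      Coh.IsCoh F ∧ (∀ x ∈ CohB1.support F, (1 : WithBot ℕ∞) ≤ ringKrullDim (X.presheaf.stalk x)) ∧
      c = KZero.clSub (fun M : X.Modules => Coh.IsCoh M) F}
    let ψ : SGA6.Kcoh X →+ SGA6.Kcoh X ⧸ Fl :=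
      (QuotientAddGroup.mk' Fl).comp (AddMonoidHom.id _ - sec.comp rk)
    suffices h : ∀ d, d ∈ ψ.ker by
      have h2 := h c
      simp only [ψ, AddMonoidHom.mem_ker, AddMonoidHom.comp_apply, AddMonoidHom.sub_apply,
        AddMonoidHom.id_apply, AddMonoidHom.mem_ker.mp hc, map_zero, sub_zero] at h2
      exact (QuotientAddGroup.eq_zero_iff _).mp h2
    have hgen : ∀ G, P G → KZero.clSub P G ∈ ψ.ker := fun G hG => by
      refine Lib.Devissage.Basic.generation P ψ.ker ⊤ (fun K hK => hK.1) (fun y _ => ?_) G
        ⟨hG, fun _ _ => trivial⟩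
      refine ⟨_, Lib.Devissage.Closure.cohIn_closureStructureSheaf y,
        Lib.Devissage.Closure.length_closureStructureSheaf y, ?_⟩
      change ψ (O y) = 0
      simp only [ψ, AddMonoidHom.comp_apply, AddMonoidHom.sub_apply, AddMonoidHom.id_apply,
        QuotientAddGroup.mk'_apply, QuotientAddGroup.eq_zero_iff, hO, sec, AddMonoidHom.mk'_apply]
      by_cases hy : ringKrullDim (X.presheaf.stalk y) = 0
      · rw [Finset.sum_eq_single ⟨y, hy⟩
          (fun x _ hx => by rw [if_neg fun h => hx (Subtype.ext h), zero_smul])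
          (fun h => absurd (Finset.mem_univ _) h), if_pos rfl, one_smul, sub_self]
        exact Fl.zero_mem
      · rw [Finset.sum_eq_zero fun x _ => by
          rw [if_neg fun (h : x.1 = y) => hy (h ▸ x.2), zero_smul], sub_zero]
        refine AddSubgroup.subset_closure ⟨_, Lib.Devissage.Closure.isCoh_closureStructureSheaf y,
          fun z hz => ?_, rfl⟩
        have hzy : y ⤳ z := specializes_iff_mem_closure.mpr
          (Lib.Devissage.Closure.support_closureStructureSheaf y hz)
        rw [ringKrullDim_stalk_eq_coheight]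
        have h0 : Order.coheight z ≠ 0 := fun h0 => hy (by
          have hz0 : ringKrullDim (X.presheaf.stalk z) = 0 := by
            rw [ringKrullDim_stalk_eq_coheight, h0]; rfl
          rw [eq_of_spec hz0 hzy]; exact hz0)
        exact_mod_cast Order.one_le_iff_pos.mpr (pos_iff_ne_zero.mpr h0)
    clear_value ψ
    intro d
    obtain ⟨z, rfl⟩ : ∃ z : FreeAbelianGroup (Subtype P),
        (QuotientAddGroup.mk' (KZero.relSub P)) z = d := QuotientAddGroup.mk_surjective d
    induction z using FreeAbelianGroup.induction_on with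
    | zero => rw [map_zero]; exact zero_mem ψ.ker
    | of w =>
      have := hgen w.1 w.2
      rwa [Lib.KRes.KSub.clSub_pos w.2] at this
    | neg w hw => rw [map_neg]; exact ψ.ker.neg_mem hw
    | add a b ha hb => rw [map_add]; exact ψ.ker.add_mem ha hb
  · rintro _ ⟨F, hF, hs, rfl⟩
    rw [SetLike.mem_coe, AddMonoidHom.mem_ker, hrk F hF]
    funext x
    rw [Module.length_eq_zero_iff.mpr (Lib.Modules.Support.not_mem_support_iff.mp fun h => by
      have := hs _ h
      rw [x.2] at this
      exact absurd this (not_le.mpr (by norm_num)))]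
    rfl

end Groth.Agent.S15981
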