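import Groth.Statements.S8393
import Groth.Agent.H87.RedCentre
-- import your own Groth.Agent.* helpers here

set_option autoImplicit false
set_option linter.style.haveILetI false
universe u
open CategoryTheory MonoidalCategory CartesianMonoidalCategory MonObj GrpObj AlgebraicGeometry
open SGA3x

namespace Groth.Agent.S8393

open Groth.Agent Groth.Agent.Lib.RedPts Groth.Agent.Lib.Tori Groth.Agent.Lib.MTBridge

/-- Let G be an affine algebraic group over a field k (an affine k-group scheme of finite type). Then G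
admits a reductive centre: a subgroup scheme Z of G which is central and of multiplicative type, and
such that for every k-scheme S′ and every central homomorphism v : H → G ×_k S′ from an S′-group H
of multiplicative type and of finite type, v factors through Z ×_k S′. -/
theorem result (k : Type u) [Field k]
    (G : Over (Spec (CommRingCat.of k))) [GrpObj G] [IsAffine G.left] [QuasiCompact G.hom] [LocallyOfFiniteType G.hom] :
    ∃ (Z : Over (Spec (CommRingCat.of k))) (_ : GrpObj Z) (z : Z ⟶ G), IsMonHom z ∧ Mono z ∧ SGA3x.IsMultTypeFT Z ∧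
      (∀ (X : Over (Spec (CommRingCat.of k))) (x : X ⟶ Z) (g : X ⟶ G), (x ≫ z) * g = g * (x ≫ z)) ∧
      ∀ (S' : Scheme.{u}) (f : S' ⟶ (Spec (CommRingCat.of k))) (H : Over S') [GrpObj H] (v : H ⟶ Red.bc f G) [IsMonHom v],
        SGA3x.IsMultTypeFT H →
        (∀ (X : Over S') (x : X ⟶ H) (g : X ⟶ Red.bc f G), (x ≫ v) * g = g * (x ≫ v)) →
        ∃ w : H ⟶ Red.bc f Z, w ≫ (Over.pullback f).map z = v := by
  obtain ⟨Z₀, _, i₀, hi₀, hi₀c, hi₀m, hZ₀⟩ := H87.CentreField.exists_centre k G
  haveI := hi₀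
  haveI := hi₀c
  haveI := hi₀m
  haveI : IsAffine Z₀.left := isAffine_of_isAffineHom i₀.left
  haveI : LocallyOfFiniteType Z₀.hom := by rw [← Over.w i₀]; infer_instance
  obtain ⟨A, _, _, e₀, he₀⟩ := H1.Hopf.exists_iso Z₀
  haveI := he₀
  haveI : Algebra.FiniteType k A := H1.Hopf.finiteType_of_locallyOfFiniteType (by
    rw [← Over.w e₀.inv]; infer_instance)
  have hcent : ∀ (W : Over (Spec (CommRingCat.of k))) (a : W ⟶ Z₀) (g : W ⟶ G), (a ≫ i₀) * g = g * (a ≫ i₀) :=
    fun W a g => by simpa using (hZ₀ W (a ≫ i₀)).1 ⟨a, rfl⟩ W (𝟙 W) g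
  haveI : Coalgebra.IsCocomm k A := H87.CentreField.isCocomm_of_comm e₀ fun W a b => by
    rw [← cancel_mono i₀, MonObj.mul_comp, MonObj.mul_comp]
    exact hcent W a _
  obtain ⟨J, _, hconst, -, B, _, _, φ, -, hJ, hB⟩ := Groth.Agent.S4130.result k A
  let m : GA k (A ⧸ J) ⟶ GA k A := H87.RedCentre.specHom (Bialgebra.Quotient.mkBialgHom (R := k) J)
  haveI : IsClosedImmersion m.left := IsClosedImmersion.spec_of_surjective _ Ideal.Quotient.mk_surjective
  haveI : Mono m := (Over.forget _).mono_of_mono_map (show Mono m.left from inferInstance)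
  refine ⟨GA k (A ⧸ J), inferInstance, m ≫ e₀.inv ≫ i₀, inferInstance, inferInstance, ?_, fun X x g => ?_, ?_⟩
  · refine isMultTypeFT_of_affine _ fun s => ⟨k, inferInstance, 𝟙 _, inferInstance, A ⧸ J, inferInstance,
      inferInstance, ⟨s, rfl⟩, inferInstance, ?_, ⟨BaseChange.bcId _⟩⟩
    obtain ⟨R', _, _, hff, hd⟩ := hconst
    exact H83.MultType.isMultType_of_diag R' hd
  · simpa only [Category.assoc] using hcent X (x ≫ m ≫ e₀.inv) g
  intro S' f H _ v _ hH hv
  obtain ⟨z, hz⟩ : ∃ z : (Over.map f).obj H ⟶ Z₀, z ≫ i₀ = BC.down f v := (hZ₀ _ _).2 fun T' t h => by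
    let θ : (Over.map f).obj (Over.mk (t.left ≫ H.hom)) ≅ T' :=
      Over.isoMk (Iso.refl _) ((Category.id_comp _).trans ((Over.w t).symm.trans (Category.assoc _ _ _).symm))
    let x : Over.mk (t.left ≫ H.hom) ⟶ H := Over.homMk t.left
    have hθ : (Over.map f).map x = θ.hom ≫ t := Over.OverMorphism.ext (Category.id_comp _).symm
    have h1 := congrArg (BC.down f) (hv _ x (BC.up f (θ.hom ≫ h)))
    rw [BC.down_mul, BC.down_mul, BC.down_comp, BC.down_up, hθ, Category.assoc, ← MonObj.comp_mul,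
      ← MonObj.comp_mul, cancel_epi] at h1
    exact h1
  obtain ⟨w₀, hz₀⟩ : ∃ w : H ⟶ Red.bc f Z₀, BC.down f w = z := ⟨BC.up f z, BC.down_up z⟩
  have hw₀ : w₀ ≫ (Over.pullback f).map i₀ = v := BC.down_injective (by rw [BC.down_map, hz₀, hz])
  haveI : IsMonHom w₀ := H87.HomDS.isMonHom_of_points _ fun X a b => by
    rw [← cancel_mono ((Over.pullback f).map i₀), Category.assoc,
      MonObj.mul_comp (a ≫ w₀) (b ≫ w₀) ((Over.pullback f).map i₀), Category.assoc, Category.assoc, hw₀,
      MonObj.mul_comp]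
  have h1 := H87.RedCentre.hom_eq_one hB f hH (w₀ ≫ (Over.pullback f).map (e₀.hom ≫ H87.RedCentre.specHom φ))
  have h2 : (z ≫ e₀.hom) ≫ H87.RedCentre.specHom φ = 1 := by
    have h := congrArg (BC.down f) h1
    rw [BC.down_map, hz₀, BC.down_one] at h
    rw [Category.assoc]
    exact h
  obtain ⟨w, hw⟩ := H87.RedCentre.exists_factor_quot φ J hJ (z ≫ e₀.hom) h2
  refine ⟨BC.up f w, BC.down_injective ?_⟩
  rw [BC.down_map, BC.down_up, ← Category.assoc w, hw, Category.assoc, Iso.hom_inv_id_assoc, hz]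

end Groth.Agent.S8393
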