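import Groth.Statements.S8496
import Groth.Agent.Lib.ActSep.HomogFlat
import Mathlib.AlgebraicGeometry.Morphisms.LocalFlatDescent
-- import your own Groth.Agent.* helpers here

set_option autoImplicit false
set_option backward.isDefEq.respectTransparency false
set_option backward.isDefEq.respectTransparency.types false
set_option linter.style.haveILetI false
open CategoryTheory MonoidalCategory CartesianMonoidalCategory MonObj GrpObj AlgebraicGeometry
universe u
open Par

namespace Groth.Agent.S8496

open Groth.Agent.Lib.ActSep Groth.Agent.Lib.GrpSch in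
theorem smooth_iff_fibrewise {S : Scheme.{u}} {X Y : Over S} (u : X ⟶ Y) [Smooth X.hom] [Smooth Y.hom] :
    (Smooth u.left ↔ ∀ s : S, Smooth ((Over.pullback (S.fromSpecResidueField s)).map u).left) ∧
    ∀ (S' : Scheme.{u}) (g : S' ⟶ S), Surjective g →
      Smooth ((Over.pullback g).map u).left → Smooth u.left := by
  have hlfp : LocallyOfFinitePresentation u.left := by
    have : LocallyOfFinitePresentation (u.left ≫ Y.hom) := by rw [Over.w u]; infer_instance
    exact Groth.Agent.Lib.Flat55.FibreTransfer.locallyOfFinitePresentation_of_comp (f := u.left) (g := Y.hom) this inferInstance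
  have bc : ∀ {A B : Over S} (π : A ⟶ B), IsPullback (X ◁ π).left (u ▷ A).left (u ▷ B).left (Y ◁ π).left := by
    intro A B π
    refine IsPullback.of_right ?_ ?_ (isPullback_whiskerRight u B).flip
    · rw [← Over.comp_left, whiskerLeft_fst, ← Over.comp_left, whiskerLeft_fst]
      exact (isPullback_whiskerRight u A).flip
    · rw [← Over.comp_left, ← Over.comp_left, whisker_exchange]
  have main : (∀ s : S, Smooth (u ▷ Over.mk (S.fromSpecResidueField s)).left) → Smooth u.left := by
    intro h
    have hx : ∀ x, x ∈ nhdLocus @Smooth u.left := by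
      intro x
      let R : Over S := Over.mk (S.fromSpecResidueField (X.hom x))
      obtain ⟨a, ha⟩ : x ∈ Set.range (fst X R).left := by
        show x ∈ Set.range (Limits.pullback.fst X.hom (S.fromSpecResidueField (X.hom x)))
        rw [Scheme.Pullback.range_fst, Set.mem_preimage, Scheme.range_fromSpecResidueField]
        exact Set.mem_singleton _
      rw [← ha]
      refine (fibreCrit_smooth u (X.hom x) a).1 ⟨⊤, trivial, ?_⟩
      haveI := h (X.hom x)
      infer_instance
    choose U hU hUP using hx
    refine (IsZariskiLocalAtSource.iff_of_iSup_eq_top (P := @Smooth) U ?_).2 hUP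
    exact top_le_iff.1 fun x _ => TopologicalSpace.Opens.mem_iSup.2 ⟨x, hU x⟩
  refine ⟨⟨fun h s => ?_, fun h => main fun s => ?_⟩, fun S' g hg h => main fun s => ?_⟩
  · rw [map_left_eq_whiskerRight u]
    exact MorphismProperty.of_isPullback (P := @Smooth) (isPullback_whiskerRight u (Over.mk (S.fromSpecResidueField s))).flip h
  · rw [← map_left_eq_whiskerRight u]; exact h s
  · rw [map_left_eq_whiskerRight u g] at h
    obtain ⟨s', rfl⟩ := g.surjective s
    let R' : Over S := Over.mk (S'.fromSpecResidueField s' ≫ g)
    let π₁ : R' ⟶ Over.mk g := Over.homMk (S'.fromSpecResidueField s') rfl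
    let π₂ : R' ⟶ Over.mk (S.fromSpecResidueField (g s')) :=
      Over.homMk (Spec.map (g.residueFieldMap s')) (g.SpecMap_residueFieldMap_fromSpecResidueField s')
    have h1 : Smooth (u ▷ R').left := MorphismProperty.of_isPullback (P := @Smooth) (bc π₁) h
    have hπ : (@Surjective ⊓ @Flat ⊓ @QuasiCompact : MorphismProperty Scheme.{u}) π₂.left := by
      refine ⟨⟨?_, ?_⟩, ?_⟩
      · exact ⟨fun z => ⟨(⟨⊥, Ideal.isPrime_bot⟩ : PrimeSpectrum (S'.residueField s')), (inferInstance : Subsingleton (PrimeSpectrum (S.residueField (g s')))).elim _ _⟩⟩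
      · show Flat (Spec.map (g.residueFieldMap s'))
        rw [HasRingHomProperty.Spec_iff (P := @Flat)]
        letI := (g.residueFieldMap s').hom.toAlgebra
        exact RingHom.flat_algebraMap_iff.2 inferInstance
      · show QuasiCompact (Spec.map (g.residueFieldMap s')); infer_instance
    refine MorphismProperty.of_isPullback_of_descendsAlong (P := @Smooth)
      (Q := @Surjective ⊓ @Flat ⊓ @QuasiCompact) (bc π₂).flip ?_ h1
    exact MorphismProperty.of_isPullback (isPullback_whiskerLeft Y π₂).flip hπ

/-- Transversal position of a pair of parabolic subgroups is read here as smoothness of the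
multiplication morphism P ×_S Q ⟶ G (one of its equivalent characterisations). Let G be a reductive
S-group and P, Q parabolic subgroups. Then (P, Q) is in transversal position if and only if (P_s,
Q_s) is for every point s of S; and if (P_{S'}, Q_{S'}) is in transversal position for some
surjective S' ⟶ S then so is (P, Q). -/
theorem result {S : Scheme.{u}} {G P Q : Over S} [GrpObj G] [GrpObj P]
    [GrpObj Q] (hG : Red.IsReductive G) (p : P ⟶ G) (q : Q ⟶ G) (hP : Red.IsParabolic p) (hQ : Red.IsParabolic q) :
    (Smooth ((p ⊗ₘ q) ≫ μ[G]).left ↔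
      ∀ s : S, Smooth ((Over.pullback (S.fromSpecResidueField s)).map ((p ⊗ₘ q) ≫ μ[G])).left) ∧
    ∀ (S' : Scheme.{u}) (g : S' ⟶ S), Surjective g →
      Smooth ((Over.pullback g).map ((p ⊗ₘ q) ≫ μ[G])).left → Smooth ((p ⊗ₘ q) ≫ μ[G]).left := by
  obtain ⟨_, hGs, -⟩ := hG
  obtain ⟨_, _, hPs, -⟩ := hP
  obtain ⟨_, _, hQs, -⟩ := hQ
  haveI : Smooth (P ⊗ Q).hom := by
    show Smooth (Limits.pullback.fst P.hom Q.hom ≫ P.hom)
    infer_instance
  exact smooth_iff_fibrewise ((p ⊗ₘ q) ≫ μ[G])

end Groth.Agent.S8496
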