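import Groth.Statements.S8398
import Groth.Agent.H87.CartanUnip
import Groth.Agent.H87.EqLocus
import Groth.Agent.S5342
import Mathlib.AlgebraicGeometry.Fiber
-- import your own Groth.Agent.* helpers here

set_option autoImplicit false
universe u
open CategoryTheory MonoidalCategory CartesianMonoidalCategory MonObj GrpObj AlgebraicGeometry
open SGA3x

namespace Groth.Agent.S8398

open CategoryTheory.Limits Groth.Agent.Lib.RedPts
open Groth.Agent.H87.CentralEq (Fac)

/-- Connected fibres are geometrically connected. -/
theorem connectedSpace_geomFibre {S : Scheme.{u}} (G : Over S) [GrpObj G] (s : S)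
    (h : _root_.IsConnected (G.hom.base ⁻¹' {s})) : ConnectedSpace ↥(Red.geomFibre s G).left := by
  haveI : ConnectedSpace ↥(pullback G.hom (S.fromSpecResidueField s)) :=
    (G.hom.fiberHomeo s).connectedSpace_iff.mpr (isConnected_iff_connectedSpace.mp h)
  let e : Spec (S.residueField s) ⟶ pullback G.hom (S.fromSpecResidueField s) :=
    pullback.lift (S.fromSpecResidueField s ≫ η[G].left) (𝟙 _) (by
      rw [Category.assoc, Category.id_comp]
      erw [Over.w η[G]]
      exact Category.comp_id _)
  haveI : ConnectedSpace ↥(Spec (CommRingCat.of (AlgebraicClosure (S.residueField s)))) :=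
    inferInstanceAs (ConnectedSpace (PrimeSpectrum (AlgebraicClosure (S.residueField s))))
  have hc := Groth.Agent.S5342.result (S.residueField s) _ _ (pullback.snd G.hom (S.fromSpecResidueField s))
    (Spec.map (CommRingCat.ofHom (algebraMap (S.residueField s) (AlgebraicClosure (S.residueField s))))) e
    (pullback.lift_snd _ _ _)
  haveI := hc
  exact (Scheme.homeoOfIso (pullbackLeftPullbackSndIso G.hom (S.fromSpecResidueField s)
    (Spec.map (CommRingCat.ofHom (algebraMap (S.residueField s) (AlgebraicClosure (S.residueField s))))))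
    ).connectedSpace_iff.mp hc

/-- Let G be an S-group scheme which is smooth and affine over S with connected fibres, T a maximal
torus of G, and u : H → G a central homomorphism from an S-group scheme H of multiplicative type and
of finite type. Then u factors through T. -/
theorem result (S : Scheme.{u}) (G : Over S) [GrpObj G]
    [Smooth G.hom] [IsAffineHom G.hom] (hconn : ∀ s : S, _root_.IsConnected (G.hom.base ⁻¹' {s}))
    (T : Over S) [GrpObj T] (i : T ⟶ G) (hT : Red.IsMaximalTorus i)
    (H : Over S) [GrpObj H] (hH : SGA3x.IsMultTypeFT H) (u : H ⟶ G) [IsMonHom u]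
    (hc : ∀ (X : Over S) (x : X ⟶ H) (g : X ⟶ G), (x ≫ u) * g = g * (x ≫ u)) :
    ∃ w : H ⟶ T, w ≫ i = u := by
  obtain ⟨hi, him, hTt, hmax⟩ := hT
  haveI := hi
  haveI := him
  haveI : IsSeparated G.hom := inferInstance
  obtain ⟨U, -, hU, hUf⟩ := Groth.Agent.H87.EqLocus.exists_fac_locus u i hH
    (Groth.Agent.H87.GmFibre.isMultTypeFT_of_isTorus hTt) (Or.inr inferInstance) (fun X h h' => hc X h (h' ≫ i))
  have hall : ∀ s : S, s ∈ U := by
    intro s
    rw [hU]
    let g := Red.geomPt s
    haveI : IsAffine (Red.bc g G).left :=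
      haveI : IsAffineHom (Red.bc g G).hom := inferInstanceAs (IsAffineHom (pullback.snd G.hom g))
      isAffine_of_isAffineHom (Red.bc g G).hom
    haveI : Smooth (Red.bc g G).hom := inferInstanceAs (Smooth (pullback.snd G.hom g))
    haveI : ConnectedSpace ↥(Red.bc g G).left := connectedSpace_geomFibre G s (hconn s)
    haveI : Mono ((Over.pullback g).map i) := inferInstance
    obtain ⟨w, hw⟩ := Groth.Agent.H87.CartanUnip.exists_fac_field (iT := (Over.pullback g).map i)
      ⟨inferInstance, inferInstance, Groth.Agent.Lib.Tori.Basic.isTorus_bc hTt g,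
        fun T' _ j' _ _ f ht hf => hmax s T' j' f ht hf⟩
      (Groth.Agent.H87.Normal.multTypeFT_bc hH g) ((Over.pullback g).map u)
      (fun X x y => BC.down_injective (by rw [BC.down_mul, BC.down_mul, BC.down_map, hc]))
    have hfac : Fac u i g := by
      intro Y p x
      let ε : (Over.map g).obj (Over.mk p.left) ≅ Y :=
        Over.isoMk (Iso.refl _) ((Category.id_comp _).trans (Over.w p).symm)
      refine ⟨ε.inv ≫ BC.down g (BC.up g (ε.hom ≫ x) ≫ w), ?_⟩
      rw [Category.assoc, ← BC.down_map, Category.assoc, hw, BC.down_map, BC.down_up]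
      simp
    refine (Groth.Agent.H87.CentralEq.fib_iso_iff u i _).1 ?_
    have h1 := (Groth.Agent.H87.Charts.fib_point_iff (MorphismProperty.isomorphisms Scheme) g
      (Groth.Agent.H87.CentralEq.proj u i)).1 ((Groth.Agent.H87.CentralEq.fib_iso_iff u i g).2 hfac)
    have hs : g (IsLocalRing.closedPoint (AlgebraicClosure (S.residueField s))) = s :=
      S.fromSpecResidueField_apply s _
    rwa [hs] at h1
  have hr : Set.range H.hom ⊆ Set.range U.ι := by
    rintro x -
    rw [Scheme.Opens.range_ι]
    exact hall x
  obtain ⟨γ', hγ'⟩ := hUf H (Over.homMk (IsOpenImmersion.lift U.ι H.hom hr) (IsOpenImmersion.lift_fac _ _ _)) (𝟙 H)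
  exact ⟨γ', by rw [hγ', Category.id_comp]⟩

end Groth.Agent.S8398
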