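import Groth.Statements.S4116
import Groth.Agent.Lib.SmWeil.TorusConjEtale
import Groth.Agent.Lib.SmWeil.TorusCentralizer
import Groth.Agent.Lib.EtaleSection.Sections

set_option autoImplicit false
universe u
open CategoryTheory MonoidalCategory CartesianMonoidalCategory MonObj GrpObj AlgebraicGeometry CategoryTheory.Limits
open SGA3x

namespace Groth.Agent.S4116

/-- Let G be an S-group scheme which is smooth, separated and of finite type over S, and let T₁, T₂ be
maximal tori of G. Then T₁ and T₂ are conjugate locally for the etale topology: there are an etale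
surjective morphism S' → S and an S'-point g of G_{S'} with int(g)(T₁ ×_S S') = T₂ ×_S S'. -/
theorem result (S : Scheme.{u}) (G : Over S) [GrpObj G]
    [Smooth G.hom] [IsSeparated G.hom] [QuasiCompact G.hom]
    (T₁ T₂ : Over S) [GrpObj T₁] [GrpObj T₂] (i₁ : T₁ ⟶ G) (i₂ : T₂ ⟶ G)
    (h₁ : Red.IsMaximalTorus i₁) (h₂ : Red.IsMaximalTorus i₂) :
    ∃ (S' : Scheme.{u}) (f : S' ⟶ S), Etale f ∧ Surjective f ∧
      ∃ g : 𝟙_ (Over S') ⟶ Red.bc f G, SGA3x.ConjBy ((Over.pullback f).map i₁) ((Over.pullback f).map i₂) g := by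
  obtain ⟨hi₁, him₁, ht₁, hm₁⟩ := h₁
  obtain ⟨hi₂, him₂, ht₂, hm₂⟩ := h₂
  haveI := hi₁
  haveI := him₁
  haveI := hi₂
  haveI := him₂
  obtain ⟨C, c, hc, hsm, hC⟩ := Lib.SmWeil.exists_transporter_torus ht₁ ht₂ i₁ i₂
  haveI := hsm
  haveI : Surjective C.hom := ⟨fun s => by
    let σ := Red.geomPt s
    let K := AlgebraicClosure (S.residueField s)
    haveI : Smooth (Red.bc σ G).hom := MorphismProperty.pullback_snd (P := @Smooth) _ _ inferInstance
    haveI : QuasiCompact (Red.bc σ G).hom := MorphismProperty.pullback_snd (P := @QuasiCompact) _ _ inferInstance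
    obtain ⟨g, hg⟩ := Lib.SmWeil.exists_conjBy
      (Lib.SmWeil.isMaximalTorus_of_maximal ((Over.pullback σ).map i₁) (Lib.Tori.Basic.isTorus_bc ht₁ σ) (hm₁ s))
      (Lib.SmWeil.isMaximalTorus_of_maximal ((Over.pullback σ).map i₂) (Lib.Tori.Basic.isTorus_bc ht₂ σ) (hm₂ s))
    obtain ⟨z, -⟩ := (hC _).2 (Lib.SmWeil.transports_of_conjBy σ g hg)
    refine ⟨z.left (IsLocalRing.closedPoint K), ?_⟩
    rw [← Scheme.Hom.comp_apply, Over.w z]
    show σ (IsLocalRing.closedPoint K) = s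
    exact Scheme.fromSpecResidueField_apply s _⟩
  obtain ⟨S', f, h, hf, hfs, hhf⟩ := Lib.EtaleSection.Sections.exists_etale_surjective_section C.hom
  let z : Over.mk f ⟶ C := Over.homMk h hhf
  exact ⟨S', f, hf, hfs, _, Lib.SmWeil.conjBy_of_transports f (z ≫ c) ((hC (z ≫ c)).1 ⟨z, rfl⟩)⟩

end Groth.Agent.S4116
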