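import Groth.Statements.S7468
import Groth.Agent.Lib.Subtrusive.VCover

set_option autoImplicit false
universe w u
open HTop

namespace Groth.Agent.S7468

open CategoryTheory CategoryTheory.Limits AlgebraicGeometry in
/-- If T is affine and a finite family is obtained by restricting one proper surjective morphism U -> T
to the pieces of a finite affine open cover of U, then the family is a standard V covering. -/
theorem result {T : Scheme.{u}} (E : PreZeroHypercover.{w} T) (hE : HTop.IsStandardPh E) : HTop.IsStandardV E := by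
  obtain ⟨hT, hfin, haff, U, f, ι, hf, hs, hι, hfac, hcov⟩ := hE
  refine Groth.Agent.Lib.Subtrusive.VCover.isStandardV_of_liftsFam E haff ?_
  have hl : Groth.Agent.Lib.Subtrusive.Criterion.HasLifts f := Groth.Agent.Lib.Subtrusive.Criterion.univSSubtrusive_iff_hasLifts.mp
    (Groth.Agent.Lib.Subtrusive.Criterion.univSSubtrusive_of_universallyClosed f)
  intro Vr _ _ _ g
  obtain ⟨W, iC, iD, iV, a, b, hb, hab⟩ := hl Vr g
  obtain ⟨j, y, hy⟩ := hcov (a (Groth.Agent.Lib.Subtrusive.Valuation.clPt W))
  have := hι j
  obtain ⟨a', ha'⟩ := Groth.Agent.Lib.Subtrusive.VCover.exists_factor a (ι j) ⟨y, hy⟩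
  exact ⟨W, iC, iD, iV, j, a', b, hb, by rw [← hfac j, reassoc_of% ha', hab]⟩

end Groth.Agent.S7468
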