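import Groth.Statements.S5256
import Groth.Agent.H87.Fibres

set_option autoImplicit false
open CategoryTheory MonoidalCategory CartesianMonoidalCategory MonObj GrpObj AlgebraicGeometry
universe u
open SGA3x

namespace Groth.Agent.S5256

/-- Let u : H ⟶ G be a homomorphism of S-groups, with H of multiplicative type and of finite type and G
of finite presentation over S (locally of finite presentation, quasi-compact and quasi-separated).
If for every s ∈ S the homomorphism u_s : H_s ⟶ G_s induced on the fibres at s is central (every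
point of G_s commutes with the image of every point of H_s), then u is central. -/
theorem result {S : Scheme.{u}} (H G : Over S) [GrpObj H] [GrpObj G]
    (hH : SGA3x.IsMultTypeFT H) [LocallyOfFinitePresentation G.hom] [QuasiCompact G.hom] [QuasiSeparated G.hom]
    (u : H ⟶ G) [IsMonHom u]
    (hfib : ∀ (s : S) (X : Over (Spec (S.residueField s))) (g : X ⟶ Red.bc (S.fromSpecResidueField s) G)
      (h : X ⟶ Red.bc (S.fromSpecResidueField s) H),
      g * (h ≫ (Over.pullback (S.fromSpecResidueField s)).map u) = (h ≫ (Over.pullback (S.fromSpecResidueField s)).map u) * g) :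
    ∀ (X : Over S) (g : X ⟶ G) (h : X ⟶ H), g * (h ≫ u) = (h ≫ u) * g := by
  obtain ⟨S', f, hf, hs, -, hloc⟩ := hH
  choose U hU M iM _ hM using hloc
  intro X g h
  have key := Groth.Agent.H87.Fibres.act_trivial H G f (fun s' => ⟨U s', hU s', M s', iM s', hM s'⟩)
    (Groth.Agent.H87.Fibres.conjAction u) (fun s Y p γ x => ?_) X h g
  · rw [Groth.Agent.H87.Fibres.conjAction_act] at key
    exact (mul_inv_eq_iff_eq_mul.mp key).symm
  · rw [Groth.Agent.H87.Fibres.conjAction_act, mul_inv_eq_iff_eq_mul]
    let Y' : Over (Spec (S.residueField s)) := Over.mk p.left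
    let φ : (Over.map (S.fromSpecResidueField s)).obj Y' ≅ Y := Over.isoMk (Iso.refl _)
      ((Category.id_comp _).trans (Over.w p).symm)
    have := congrArg (Groth.Agent.Lib.RedPts.BC.down (S.fromSpecResidueField s))
      (hfib s Y' (Groth.Agent.Lib.RedPts.BC.up _ (φ.hom ≫ x)) (Groth.Agent.Lib.RedPts.BC.up _ (φ.hom ≫ γ)))
    rw [Groth.Agent.Lib.RedPts.BC.down_mul, Groth.Agent.Lib.RedPts.BC.down_mul, Groth.Agent.Lib.RedPts.BC.down_map,
      Groth.Agent.Lib.RedPts.BC.down_up, Groth.Agent.Lib.RedPts.BC.down_up, Category.assoc] at this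
    rw [← cancel_epi φ.hom, comp_mul, comp_mul]
    exact this.symm

end Groth.Agent.S5256
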