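import Groth.Statements.S1654
import Groth.Agent.S6333
import Groth.Agent.H52.FBase.ComponentsIrr
import Groth.Agent.Lib.Cyc.Residue
import Groth.Agent.Lib.GeomConn.Residue
import Mathlib.AlgebraicGeometry.Geometrically.Irreducible
import Mathlib.AlgebraicGeometry.PullbackCarrier

set_option autoImplicit false
universe u
open CategoryTheory CategoryTheory.Limits AlgebraicGeometry
open Variety

namespace Groth.Agent.S1654

open CategoryTheory CategoryTheory.Limits AlgebraicGeometry
attribute [local instance] Curv2.resAlgebra

theorem finiteDimensional_separableClosure (k : Type u) [Field k] (X : Scheme.{u})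
    [X.Over (Spec (CommRingCat.of k))] [LocallyOfFiniteType (X ↘ (Spec (CommRingCat.of k)))] (x : X) :
    FiniteDimensional k (separableClosure k (X.residueField x)) := by
  have h1 : (Curv2.resMap k X x).EssFiniteType := by
    have h0 := Groth.Agent.Lib.Cyc.Residue.residueFieldMap_essFiniteType (f := X ↘ (Spec (CommRingCat.of k))) x
    let p : Spec (CommRingCat.of k) := (X ↘ (Spec (CommRingCat.of k))) x
    let σ : CommRingCat.of k ⟶ (Spec (CommRingCat.of k)).residueField p :=
      Spec.preimage ((Spec (CommRingCat.of k)).fromSpecResidueField p)
    have hσ : σ.hom.FiniteType := by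
      have : IsClosedImmersion (Spec.map σ) := by
        rw [Spec.map_preimage]
        exact IsClosedImmersion.of_isPreimmersion _ (by
          rw [Scheme.range_fromSpecResidueField]
          exact (Set.subsingleton_singleton (a := p)).isClosed)
      exact (HasRingHomProperty.Spec_iff (P := @LocallyOfFiniteType)).mp inferInstance
    have heq : (Curv2.resMap k X x) = ((X ↘ (Spec (CommRingCat.of k))).residueFieldMap x).hom.comp σ.hom := by
      have : CommRingCat.ofHom (Curv2.resMap k X x) = σ ≫ (X ↘ (Spec (CommRingCat.of k))).residueFieldMap x := by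
        refine Spec.map_injective ?_
        rw [Groth.Agent.Lib.GeomConn.Residue.specMap_resMap, Spec.map_comp, Spec.map_preimage,
          Scheme.Hom.SpecMap_residueFieldMap_fromSpecResidueField]
      exact congrArg CommRingCat.Hom.hom this
    rw [heq]
    exact RingHom.EssFiniteType.comp (RingHom.FiniteType.essFiniteType hσ) h0
  haveI : Algebra.EssFiniteType k (X.residueField x) := h1
  haveI := Groth.Agent.S6333.result (k := k) (K := X.residueField x) (IntermediateField.fg_top_iff.mpr inferInstance)
  have hle : separableClosure k (X.residueField x) ≤ algebraicClosure k (X.residueField x) :=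
    fun z hz => mem_algebraicClosure_iff.mpr (mem_separableClosure_iff.mp hz).isIntegral.isAlgebraic
  exact FiniteDimensional.of_injective (IntermediateField.inclusion hle).toLinearMap
    (IntermediateField.inclusion hle).injective

/-- Let X be a k-scheme locally of finite type, having only finitely many irreducible components. There
is then a finite separable extension k' of k such that every irreducible component of X_{k'}, with
its reduced induced structure, is geometrically irreducible over k'. -/
theorem result (k : Type u) [Field k] (X : Scheme.{u}) [X.Over (Spec (CommRingCat.of k))] [LocallyOfFiniteType (X ↘ (Spec (CommRingCat.of k)))]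
    (hirr : (irreducibleComponents (X : Type u)).Finite) :
    ∃ (k' : Type u) (_ : Field k') (_ : Algebra k k'), FiniteDimensional k k' ∧ Algebra.IsSeparable k k' ∧
      ∀ (T : Set (Curv2.bc k X k')) (hT : T ∈ irreducibleComponents (Curv2.bc k X k' : Type u)),
        GeometricallyIrreducible
          ((Scheme.IdealSheafData.vanishingIdeal ⟨T, isClosed_of_mem_irreducibleComponents T hT⟩).subschemeι ≫
            Curv2.bcSnd k X k') := by
  haveI : Finite ↥(irreducibleComponents (X : Type u)) := hirr.to_subtype
  obtain ⟨E, hE, hpre⟩ := Groth.Agent.H52.FBase.ComponentsIrr.exists_finite_separable k X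
    fun Z hZ => finiteDimensional_separableClosure k X _
  refine ⟨E, inferInstance, inferInstance, hE,
    Algebra.isSeparable_tower_bot_of_isSeparable k E (SeparableClosure k), fun T hT => ⟨?_⟩⟩
  have : Algebra.IsSeparable E (SeparableClosure k) :=
    Algebra.isSeparable_tower_top_of_isSeparable k E (SeparableClosure k)
  intro K _ y Z a b hpb
  let φ := Spec.preimage y
  letI : Algebra E K := φ.hom.toAlgebra
  have hy : y = Spec.map (CommRingCat.ofHom (algebraMap E K)) := (Spec.map_preimage y).symm
  rw [hy] at hpb
  have hS := Groth.Agent.H52.FBase.ComponentsIrr.isIrreducible_preimage_bc k X E (SeparableClosure k) (hpre T hT) K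
  set g := Spec.map (CommRingCat.ofHom (algebraMap E K))
  let J := (Scheme.IdealSheafData.vanishingIdeal ⟨T, isClosed_of_mem_irreducibleComponents T hT⟩)
  let m : Z ⟶ pullback (Curv2.bcSnd k X E) g := pullback.lift (a ≫ J.subschemeι) b (by rw [Category.assoc]; exact hpb.w)
  have hm : IsPullback a m J.subschemeι (pullback.fst (Curv2.bcSnd k X E) g) :=
    IsPullback.of_bot (by rw [pullback.lift_snd]; exact hpb) (pullback.lift_fst _ _ _).symm
      (IsPullback.of_hasPullback _ _)
  haveI : IsClosedImmersion m := MorphismProperty.of_isPullback hm inferInstance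
  have hrange : Set.range m = pullback.fst (Curv2.bcSnd k X E) g ⁻¹' T := by
    have hT' : Set.range J.subschemeι = T := by
      simp [J, Scheme.IdealSheafData.range_subschemeι, Scheme.IdealSheafData.coe_support_vanishingIdeal]
    ext w
    constructor
    · rintro ⟨z, rfl⟩
      show pullback.fst (Curv2.bcSnd k X E) g (m z) ∈ T
      rw [← Scheme.Hom.comp_apply, pullback.lift_fst, Scheme.Hom.comp_apply]
      exact hT'.le ⟨_, rfl⟩
    · intro hw
      obtain ⟨v, hv⟩ : pullback.fst (Curv2.bcSnd k X E) g w ∈ Set.range J.subschemeι := hT'.symm ▸ hw
      obtain ⟨z, -, hz⟩ := Scheme.exists_preimage_of_isPullback hm v w hv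
      exact ⟨z, hz⟩
  have e : ↥Z ≃ₜ ↥(pullback.fst (Curv2.bcSnd k X E) g ⁻¹' T) :=
    m.isClosedEmbedding.isEmbedding.toHomeomorph.trans (Homeomorph.setCongr hrange)
  haveI := Subtype.irreducibleSpace hS
  exact e.symm.surjective.irreducibleSpace e.symm.continuous

end Groth.Agent.S1654
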