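import Groth.Statements.S9523
import Groth.Agent.Lib.CohDelta.IdealMul.Sec
import Groth.Agent.Lib.Ideal.Comap

set_option autoImplicit false
set_option linter.style.haveILetI false
universe u
open CategoryTheory CategoryTheory.Limits AlgebraicGeometry
attribute [local instance] HasDerivedCategory.standard
open Coherent

namespace Groth.Agent.S9523

open Groth.Agent.Lib.CohDelta.IdealMul.Sec

theorem mem_map_smul {A B : Type u} [CommRing A] [CommRing B] (φ : A →+* B) (J : Ideal A)
    {M : Type u} [AddCommGroup M] [Module B M] [Module A M] (h : ∀ (a : A) (m : M), a • m = φ a • m)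
    (m : M) : m ∈ J • (⊤ : Submodule A M) ↔ m ∈ J.map φ • (⊤ : Submodule B M) := by
  constructor <;> intro hm
  · refine Submodule.smul_induction_on hm (fun a ha v _ => ?_) fun _ _ => add_mem
    rw [h]
    exact Submodule.smul_mem_smul (Ideal.mem_map_of_mem φ ha) Submodule.mem_top
  · refine Submodule.smul_induction_on hm (fun b hb v _ => ?_) fun _ _ => add_mem
    induction hb using Submodule.span_induction generalizing v with
    | mem r hr =>
      obtain ⟨a, ha, rfl⟩ := hr
      rw [← h]
      exact Submodule.smul_mem_smul ha Submodule.mem_top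
    | zero => rw [zero_smul]; exact zero_mem _
    | add x y _ _ hx hy => rw [add_smul]; exact add_mem (hx v trivial) (hy v trivial)
    | smul c x _ hx => rw [smul_assoc, smul_comm]; exact hx _ trivial

/-- Let f : Y → X be an affine morphism of schemes, F a quasi-coherent O_Y-module and I a quasi-coherent
sheaf of ideals on X. Then I·f_*F = f_*((f⁻¹I O_Y)·F) as submodules of f_*F: there is an isomorphism
I·f_*F ≅ f_*((f⁻¹I O_Y)·F) whose composite with f_* of the inclusion (f⁻¹I O_Y)·F → F is the
inclusion I·f_*F → f_*F. (J·M denotes the submodule sheaf Dual3.idealMul J M; f⁻¹I O_Y is the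
pulled-back ideal sheaf I.comap f.) -/
theorem result {Y X : Scheme.{u}} (f : Y ⟶ X) [IsAffineHom f]
    (F : Y.Modules) (hF : Coh.IsQCoh F) (I : X.IdealSheafData) :
    ∃ e : (Dual3.idealMul I).obj ((Scheme.Modules.pushforward f).obj F) ≅
        (Scheme.Modules.pushforward f).obj ((Dual3.idealMul (I.comap f)).obj F),
      e.hom ≫ (Scheme.Modules.pushforward f).map (Dual3.idealMulι (I.comap f) F) =
        Dual3.idealMulι I ((Scheme.Modules.pushforward f).obj F) := by
  haveI : F.IsQuasicoherent := hF
  haveI : ((Scheme.Modules.pushforward f).obj F).IsQuasicoherent :=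
    Groth.Agent.Lib.QCoh.Pushforward.isQCoh_pushforward f (M := F)
  haveI : ((Scheme.Modules.pushforward f).obj ((Dual3.idealMul (I.comap f)).obj F)).IsQuasicoherent :=
    Groth.Agent.Lib.QCoh.Pushforward.isQCoh_pushforward f (M := (Dual3.idealMul (I.comap f)).obj F)
  haveI : Mono ((Scheme.Modules.pushforward f).map (Dual3.idealMulι (I.comap f) F)) :=
    haveI := (Scheme.Modules.pullbackPushforwardAdjunction f).isRightAdjoint
    haveI := Functor.preservesMonomorphisms_of_adjunction (Scheme.Modules.pullbackPushforwardAdjunction f)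
    Functor.map_mono _ _
  have key : ∀ W : X.affineOpens,
      LinearMap.range (appL (Dual3.idealMulι I ((Scheme.Modules.pushforward f).obj F)) W.1) =
        LinearMap.range (appL ((Scheme.Modules.pushforward f).map (Dual3.idealMulι (I.comap f) F)) W.1) := by
    intro W
    ext m
    have h2 : m ∈ LinearMap.range (appL ((Scheme.Modules.pushforward f).map
        (Dual3.idealMulι (I.comap f) F)) W.1) ↔
        (show Γ(F, f ⁻¹ᵁ W.1) from m) ∈
          LinearMap.range (appL (Dual3.idealMulι (I.comap f) F) (f ⁻¹ᵁ W.1)) := Iff.rfl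
    rw [h2, range_ι I _ W, range_ι (I.comap f) F ⟨_, W.2.preimage f⟩,
      Groth.Agent.Lib.Ideal.Comap.ideal_comap f I W ⟨_, W.2.preimage f⟩ le_rfl,
      Scheme.Hom.appLE_eq_app]
    letI : Module Γ(Y, f ⁻¹ᵁ W.1) Γ((Scheme.Modules.pushforward f).obj F, W.1) :=
      (inferInstance : Module Γ(Y, f ⁻¹ᵁ W.1) Γ(F, f ⁻¹ᵁ W.1))
    exact mem_map_smul (M := Γ((Scheme.Modules.pushforward f).obj F, W.1)) (f.app W.1).hom (I.ideal W) (fun _ _ => rfl) m
  have cov : ∀ x : X, ∃ W : X.Opens, IsAffineOpen W ∧ x ∈ W := fun x => by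
    obtain ⟨W, hW, hx, -⟩ := exists_isAffineOpen_mem_and_subset (U := (⊤ : X.Opens)) (x := x) trivial
    exact ⟨W, hW, hx⟩
  obtain ⟨l, hl⟩ := exists_lift ((Scheme.Modules.pushforward f).map (Dual3.idealMulι (I.comap f) F))
    (Dual3.idealMulι I ((Scheme.Modules.pushforward f).obj F))
    fun x => let ⟨W, hW, hx⟩ := cov x; ⟨W, hW, hx, (key ⟨W, hW⟩).le⟩
  obtain ⟨l', hl'⟩ := exists_lift (Dual3.idealMulι I ((Scheme.Modules.pushforward f).obj F))
    ((Scheme.Modules.pushforward f).map (Dual3.idealMulι (I.comap f) F))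
    fun x => let ⟨W, hW, hx⟩ := cov x; ⟨W, hW, hx, (key ⟨W, hW⟩).ge⟩
  exact ⟨⟨l, l', by rw [← cancel_mono (Dual3.idealMulι I _), Category.assoc, hl', hl, Category.id_comp],
    by rw [← cancel_mono ((Scheme.Modules.pushforward f).map (Dual3.idealMulι (I.comap f) F)),
      Category.assoc, hl, hl', Category.id_comp]⟩, hl⟩

end Groth.Agent.S9523
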