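import Groth.Statements.S6366
import Mathlib.Algebra.Module.FinitePresentation


set_option autoImplicit false
universe u
open CAlg

namespace Groth.Agent.S6366

theorem free_case (R : Type u) [CommRing R] (hR : ∀ I : Ideal R, I.FG → Module.FinitePresentation R I) :
    ∀ (n : ℕ) (N : Submodule R (Fin n → R)), N.FG → Module.FinitePresentation R N
  | 0, N, _ => inferInstance
  | n + 1, N, hN => by
    let π : N →ₗ[R] R := (LinearMap.proj 0).comp N.subtype
    have : Module.Finite R N := Module.Finite.iff_fg.mpr hN
    have hI : Module.FinitePresentation R (LinearMap.range π) :=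
      hR _ (Module.Finite.iff_fg.mp (Module.Finite.range π))
    let l : N →ₗ[R] LinearMap.range π := π.rangeRestrict
    have hl : Function.Surjective l := π.surjective_rangeRestrict
    have hker : (LinearMap.ker l).FG := Module.FinitePresentation.fg_ker l hl
    have : Module.Finite R (LinearMap.ker l) := Module.Finite.iff_fg.mpr hker
    let tl : (Fin (n + 1) → R) →ₗ[R] (Fin n → R) := LinearMap.funLeft R R Fin.succ
    let f : LinearMap.ker l →ₗ[R] (Fin n → R) := tl.comp (N.subtype.comp (LinearMap.ker l).subtype)
    have hf : Function.Injective f := by
      intro a b h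
      apply Subtype.ext
      apply Subtype.ext
      funext i
      refine Fin.cases ?_ (fun j => congrFun h j) i
      have ha : (a.1.1 : Fin (n + 1) → R) 0 = 0 := congrArg Subtype.val (LinearMap.mem_ker.mp a.2)
      have hb : (b.1.1 : Fin (n + 1) → R) 0 = 0 := congrArg Subtype.val (LinearMap.mem_ker.mp b.2)
      rw [ha, hb]
    have := free_case R hR n (LinearMap.range f) (Module.Finite.iff_fg.mp (Module.Finite.range f))
    have : Module.FinitePresentation R (LinearMap.ker l) :=
      Module.FinitePresentation.of_equiv (M := LinearMap.range f) (N := LinearMap.ker l)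
        (LinearEquiv.ofInjective f hf).symm
    exact Module.finitePresentation_of_ker l hl



/-- Let R be a coherent ring, i.e. every finitely generated ideal of R is finitely presented. Then an
R-module is coherent (finitely generated, and every finitely generated submodule is finitely
presented) if and only if it is finitely presented. -/
theorem result (R : Type u) [CommRing R]
    (hR : ∀ I : Ideal R, I.FG → Module.FinitePresentation R I) (M : Type u) [AddCommGroup M] [Module R M] :
    (Module.Finite R M ∧ ∀ N : Submodule R M, N.FG → Module.FinitePresentation R N) ↔ Module.FinitePresentation R M := by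
  constructor
  · rintro ⟨hfin, h⟩
    have := h ⊤ hfin.fg_top
    exact Module.FinitePresentation.of_equiv Submodule.topEquiv
  · intro hM
    refine ⟨inferInstance, fun N hN => ?_⟩
    obtain ⟨n, f, hf⟩ := Module.Finite.exists_fin' R M
    have hK : (LinearMap.ker f).FG := Module.FinitePresentation.fg_ker f hf
    let N' := N.comap f
    have hN' : N'.FG := by
      refine Submodule.fg_of_fg_map_of_fg_inf_ker f ?_ ?_
      · rwa [Submodule.map_comap_eq, LinearMap.range_eq_top.mpr hf, top_inf_eq]
      · rwa [inf_eq_right.mpr (LinearMap.ker_le_comap f)]
    have := free_case R hR n N' hN'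
    let g : N' →ₗ[R] N := f.restrict fun x hx => hx
    have hg : Function.Surjective g := fun y => by
      obtain ⟨x, hx⟩ := hf y.1
      exact ⟨⟨x, show f x ∈ N from hx ▸ y.2⟩, Subtype.ext hx⟩
    refine Module.finitePresentation_of_surjective g hg ?_
    have e : (LinearMap.ker g).map N'.subtype = LinearMap.ker f := by
      ext x
      constructor
      · rintro ⟨y, hy, rfl⟩
        exact congrArg Subtype.val (LinearMap.mem_ker.mp hy)
      · intro hx
        exact ⟨⟨x, LinearMap.ker_le_comap f hx⟩, LinearMap.mem_ker.mpr (Subtype.ext hx), rfl⟩
    exact Submodule.fg_of_fg_map_injective N'.subtype Subtype.val_injective (e ▸ hK)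

end Groth.Agent.S6366
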