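import Groth.Statements.S18899
import Groth.Agent.H21.FixedAlg

set_option autoImplicit false
universe u v w
open CAlg

namespace Groth.Agent.S18899

/-- Let A be a commutative ring on which a finite group G acts by ring automorphisms, with ring of
invariants A^G, and let K be a field. If two ring homomorphisms f₁, f₂ : A → K have the same
restriction to A^G, then f₂ = f₁ ∘ γ for some γ ∈ G. -/
theorem result {A : Type u} [CommRing A] {G : Type v} [Group G] [Finite G]
    [MulSemiringAction G A] {K : Type w} [Field K] (f₁ f₂ : A →+* K)
    (h : ∀ a : A, (∀ g : G, g • a = a) → f₁ a = f₂ a) :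
    ∃ γ : G, ∀ a : A, f₂ a = f₁ (γ • a) := by
  let σ : G →* (A →+* A) :=
    { toFun := fun g => MulSemiringAction.toRingHom G A g
      map_one' := RingHom.ext fun a => one_smul G a
      map_mul' := fun g g' => RingHom.ext fun a => mul_smul g g' a }
  exact Groth.Agent.H21.FixedAlg.exists_smul_eq σ f₁ f₂ h

end Groth.Agent.S18899
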