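import Groth.Statements.S9261
import Mathlib.LinearAlgebra.TensorProduct.Pi


set_option autoImplicit false
universe u
open CAlg

namespace Groth.Agent.S9261

/-- Let G be a finite group acting on a ring R, S = R^G its ring of invariants (here: S → R injective
with image the invariants) and A a flat S-algebra. Then the map A → A ⊗_S R is injective with image
the invariants of G acting on A ⊗_S R through the second factor; that is, A → (A ⊗_S R)^G is an
isomorphism. -/
theorem result (S R A G : Type u) [CommRing S] [CommRing R] [Algebra S R]
    [FaithfulSMul S R] [Group G] [Finite G] [MulSemiringAction G R] [SMulCommClass G S R]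
    [Algebra.IsInvariant S R G] [CommRing A] [Algebra S A] [Module.Flat S A] :
    Function.Injective (algebraMap A (TensorProduct S A R)) ∧
      ∀ x : TensorProduct S A R,
        (∀ σ : G, Algebra.TensorProduct.map (AlgHom.id S A) (MulSemiringAction.toAlgHom S R σ) x = x) →
          x ∈ Set.range (algebraMap A (TensorProduct S A R)) := by
  classical
  haveI := Fintype.ofFinite G
  let ι : S →ₗ[S] R := Algebra.linearMap S R
  let d : R →ₗ[S] (G → R) := LinearMap.pi fun σ => (MulSemiringAction.toAlgHom S R σ).toLinearMap - LinearMap.id
  have hex : Function.Exact ι d := by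
    intro r
    constructor
    · intro hr
      exact Algebra.IsInvariant.isInvariant (A := S) (G := G) r fun σ => sub_eq_zero.mp (congrFun hr σ)
    · rintro ⟨s, rfl⟩
      funext σ
      show σ • algebraMap S R s - algebraMap S R s = 0
      rw [smul_algebraMap, sub_self]
  have hkey : ∀ a : A, ι.lTensor A (a ⊗ₜ 1) = algebraMap A (TensorProduct S A R) a := fun a => by
    simp [ι]
  have hi : Function.Injective (ι.lTensor A) :=
    Module.Flat.lTensor_preserves_injective_linearMap ι (FaithfulSMul.algebraMap_injective S R)
  refine ⟨fun a b h => ?_, fun x hx => ?_⟩
  · rw [← hkey, ← hkey] at h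
    simpa using congrArg (TensorProduct.rid S A) (hi h)
  · have h0 : d.lTensor A x = 0 := by
      apply (TensorProduct.piRight S S A (fun _ : G => R)).injective
      rw [map_zero]
      funext σ
      have key : ∀ y : TensorProduct S A R, TensorProduct.piRight S S A (fun _ : G => R) (d.lTensor A y) σ =
          Algebra.TensorProduct.map (AlgHom.id S A) (MulSemiringAction.toAlgHom S R σ) y - y := by
        intro y
        induction y with
        | zero => simp
        | add p q hp hq => simp only [map_add, Pi.add_apply, hp, hq]; abel
        | tmul a r => simp [d, TensorProduct.tmul_sub]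
      rw [key, hx σ, sub_self, Pi.zero_apply]
    obtain ⟨w, hw⟩ := (Module.Flat.lTensor_exact A hex x).mp h0
    refine ⟨TensorProduct.rid S A w, ?_⟩
    rw [← hkey, ← hw]
    congr 1
    exact (TensorProduct.rid S A).symm_apply_apply w

end Groth.Agent.S9261
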