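import Groth.Statements.S16721
import Groth.Agent.Lib.QuotSt.CatQuot
import Groth.Agent.Lib.QuotSt.Atlas

set_option autoImplicit false
set_option backward.isDefEq.respectTransparency false
set_option backward.isDefEq.respectTransparency.types false
universe u
open CategoryTheory MonoidalCategory CartesianMonoidalCategory AlgebraicGeometry
open AlgSt

namespace Groth.Agent.S16721

open Opposite MonoidalCategory CartesianMonoidalCategory
open AlgSt (QuotObj QuotSt quotMap ofSp ofSpMap)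
open AlgSp (Sp yon)
open Lib.QuotSt (trivObj ofPoint functor_eq_of_iso invariant_of_factor map_eq_of_ofSpMap existsUnique_factor isIso_of_base res res_congr res_rfl map_res)

theorem exists_section {K : Type u} [Field K] [IsAlgClosed K] {P : Over (Spec (CommRingCat.of K))}
    (h : NonAbH1.IsLocallyTrivialFor Scheme.fppfPrecoverage P) :
    ∃ s : Spec (CommRingCat.of K) ⟶ P.left, s ≫ P.hom = 𝟙 _ := by
  obtain ⟨R, hR, hs⟩ := h
  obtain ⟨I, Y, f, rfl⟩ := R.exists_eq_ofArrows
  obtain ⟨hc, he⟩ := (Scheme.ofArrows_mem_precoverage_iff _).1 hR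
  obtain ⟨i, y, -⟩ := hc (IsLocalRing.closedPoint K)
  have : LocallyOfFiniteType (f i) := by
    have := (he i).2
    infer_instance
  have : JacobsonSpace (Y i) := LocallyOfFiniteType.jacobsonSpace (f i)
  obtain ⟨c, -, hcl⟩ := nonempty_inter_closedPoints (X := Y i) ⟨y, Set.mem_univ _⟩ isClosed_univ.isLocallyClosed
  obtain ⟨s, hs'⟩ := hs (f i) ⟨i⟩
  exact ⟨pointOfClosedPoint (f i) c (mem_closedPoints_iff.1 hcl) ≫ s,
    ((Category.assoc _ _ _).trans (congrArg (pointOfClosedPoint (f i) c (mem_closedPoints_iff.1 hcl) ≫ ·) hs')).trans (pointOfClosedPoint_comp _ _ _)⟩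

theorem exists_sec {S : Scheme.{u}} {G X : Over S} [GrpObj G] {aX : AlgGrp.Action G X}
    (A : QuotObj Scheme.fppfPrecoverage G aX) {K : Type u} [Field K] [IsAlgClosed K]
    (f : Spec (CommRingCat.of K) ⟶ S) (h : A.base = Over.mk f) :
    ∃ s : A.base ⟶ A.P, s ≫ A.π = 𝟙 _ := by
  obtain ⟨base, P, act, π, cart, loc, φ, eqv⟩ := A
  dsimp only at h ⊢
  subst h
  obtain ⟨s, hs⟩ := exists_section (P := Over.mk π.left) loc
  refine ⟨Over.homMk s ?_, Over.OverMorphism.ext hs⟩
  have hs' : s ≫ π.left = 𝟙 _ := hs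
  rw [← Over.w π, ← Category.assoc, hs']; exact Category.id_comp _

variable {S : Scheme.{u}} {G X Y : Over S} [GrpObj G] {aX : AlgGrp.Action G X} {f : X ⟶ Y}
  {π : QuotSt Scheme.fppfPrecoverage G aX ⥤ᵇ AlgSt.ofSch Y}

/-- The section under an object with a point. -/
theorem res_obj (hπ : BasedFunctor.comp (quotMap Scheme.fppfPrecoverage G aX) π = ofSpMap ((yon S).map f))
    (A : QuotObj Scheme.fppfPrecoverage G aX) (s : A.base ⟶ A.P) (hs : s ≫ A.π = 𝟙 _) :
    res (π.obj A) (π.w_obj A) = ⟨(s ≫ A.φ) ≫ f⟩ := by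
  let m : trivObj Scheme.fppfPrecoverage aX (s ≫ A.φ) ⟶ A := ofPoint (s ≫ A.φ) (𝟙 _) s hs rfl
  have h1 := map_res (π.map m) (π.w_obj _) (π.w_obj A) (𝟙 A.base) (CategoryTheory.Functor.congr_hom π.w m)
  have hobj : ∀ o, (BasedFunctor.comp (quotMap Scheme.fppfPrecoverage G aX) π).toFunctor.obj o =
      (ofSpMap ((yon S).map f)).obj o := fun o => by rw [hπ]
  have h2 : ∀ r : ((yon S).obj Y).obj.obj (op A.base), ((yon S).obj Y).obj.map (𝟙 A.base).op r = r := fun r => by simp
  refine ((h2 _).symm.trans h1).trans ((res_congr (hobj ⟨A.base, ⟨s ≫ A.φ⟩⟩) _ rfl).trans (res_rfl _))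

/-- Objects over an algebraically closed field with points in one orbit are isomorphic. -/
theorem nonempty_iso {T : Over S} (A B : (QuotSt Scheme.fppfPrecoverage G aX).p.Fiber T)
    (tA : A.1.base ⟶ A.1.P) (hA : tA ≫ A.1.π = 𝟙 _) (tB : B.1.base ⟶ B.1.P) (hB : tB ≫ B.1.π = 𝟙 _)
    (g : T ⟶ G) (hg : lift g (eqToHom A.2.symm ≫ tA ≫ A.1.φ) ≫ aX.act = eqToHom B.2.symm ≫ tB ≫ B.1.φ) :
    Nonempty (A ≅ B) := by
  obtain ⟨A, rfl⟩ := A
  obtain ⟨B, hB'⟩ := B
  have e : A.base = B.base := hB'.symm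
  let x := eqToHom e ≫ tB ≫ B.φ
  have hg' : lift g (tA ≫ A.φ) ≫ aX.act = x := by simpa [x] using hg
  let s := lift g tA ≫ A.act.act
  have hs : s ≫ A.π = 𝟙 _ := by
    simp only [s, Category.assoc, A.cart.w]
    rw [lift_snd_assoc, hA]
    rfl
  have hx : s ≫ A.φ = x := by
    simp only [s, Category.assoc, A.eqv]
    rw [lift_whiskerLeft_assoc]
    exact hg'
  let a : trivObj Scheme.fppfPrecoverage aX x ⟶ A := ofPoint x (𝟙 _) s hs hx
  let b : trivObj Scheme.fppfPrecoverage aX x ⟶ B :=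
    ofPoint x (eqToHom e) (eqToHom e ≫ tB) (by rw [Category.assoc, hB, Category.comp_id]) (Category.assoc _ _ _)
  have : IsIso a.base := inferInstanceAs (IsIso (𝟙 _))
  have : IsIso b.base := inferInstanceAs (IsIso (eqToHom e))
  have := isIso_of_base a
  have := isIso_of_base b
  have hbase : (inv a ≫ b).base = eqToHom e := by
    have h1 : (inv a).base = 𝟙 _ := by
      have := congrArg QuotObj.Hom.base (IsIso.inv_hom_id a)
      change (inv a).base ≫ 𝟙 _ = 𝟙 _ at this
      rwa [Category.comp_id] at this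
    rw [QuotObj.comp_base, h1]
    exact Category.id_comp _
  have hlift : (QuotSt Scheme.fppfPrecoverage G aX).p.IsHomLift
      (𝟙 ((QuotSt Scheme.fppfPrecoverage G aX).p.obj A)) (inv a ≫ b) :=
    IsHomLift.of_fac' _ _ _ rfl hB' (by
      change (inv a ≫ b).base = _
      rw [hbase]
      exact (eqToHom_trans _ _).symm.trans (congrArg (eqToHom _ ≫ ·) (Category.id_comp _).symm))
  have : IsIso (inv a ≫ b) := inferInstance
  exact ⟨{ hom := ⟨inv a ≫ b, hlift⟩
           inv := ⟨inv (inv a ≫ b), IsHomLift.lift_id_inv_isIso _ _ _⟩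
           hom_inv_id := Functor.Fiber.hom_ext (IsIso.hom_inv_id _)
           inv_hom_id := Functor.Fiber.hom_ext (IsIso.inv_hom_id _) }⟩

/-- Let `S` be a scheme, `G` a group scheme over `S` whose structure morphism is affine, flat and
locally of finite presentation, acting on a scheme `X` over `S`, and `f : X ⟶ Y` a `G`-invariant
morphism of schemes over `S`. Assume (i) for every algebraically closed field `Ω` and every `t :
Spec Ω ⟶ S`, every `Ω`-point of `Y` over `t` is the image of an `Ω`-point of `X`, and two `Ω`-points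
of `X` over `t` with the same image in `Y` are translates of one another by an `Ω`-point of `G` (the
geometric fibres of `f` are the orbits of geometric points); (ii) `f` is a categorical quotient in
the category of algebraic spaces over `S`: every `G`-invariant map of fppf sheaves `h_X ⟶ N` to an
algebraic space `N` factors uniquely through `h_Y`. Then the functor `[X/G] ⟶ Y` over `(Sch/S)`
induced by `f` (the one whose composite with `X ⟶ [X/G]` is the functor of `f`) is a coarse moduli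
space: `h_Y` is an algebraic space, every functor from `[X/G]` to an algebraic space factors
uniquely through it, and for every algebraically closed `Ω` it is a bijection from isomorphism
classes of objects of `[X/G]` over `Spec Ω` onto `Y(Spec Ω)`. Here `[X/G]` is the fppf quotient
stack described by `G`-torsors that are schemes with an equivariant map to `X`. Of the source's
hypothesis that `f` is a geometric quotient only the condition (i) on geometric points enters, and
only (i) is assumed. (The published setting has an affine base scheme; this row allows any base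
scheme.) -/
theorem result (S : Scheme.{u}) (G : Over S) [GrpObj G]
    [IsAffineHom G.hom] [Flat G.hom] [LocallyOfFinitePresentation G.hom]
    (X Y : Over S) (aX : AlgGrp.Action G X) (f : X ⟶ Y)
    (hinv : aX.act ≫ f = snd G X ≫ f)
    (horb : ∀ (Ω : Type u) [Field Ω] [IsAlgClosed Ω] (t : Spec (CommRingCat.of Ω) ⟶ S),
      (∀ y : Over.mk t ⟶ Y, ∃ x : Over.mk t ⟶ X, x ≫ f = y) ∧
      (∀ x x' : Over.mk t ⟶ X, x ≫ f = x' ≫ f → ∃ g : Over.mk t ⟶ G, lift g x' ≫ aX.act = x))
    (hcat : ∀ (N : AlgSp.Space S) (ψ : (AlgSp.yon S).obj X ⟶ N.obj),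
      (AlgSp.yon S).map aX.act ≫ ψ = (AlgSp.yon S).map (snd G X) ≫ ψ →
        ∃! χ : (AlgSp.yon S).obj Y ⟶ N.obj, (AlgSp.yon S).map f ≫ χ = ψ)
    (π : AlgSt.QuotSt Scheme.fppfPrecoverage G aX ⥤ᵇ AlgSt.ofSch Y)
    (hπ : Nonempty (BasedFunctor.comp (AlgSt.quotMap Scheme.fppfPrecoverage G aX) π ≅
      AlgSt.ofSpMap ((AlgSp.yon S).map f))) :
    AlgSt.IsCoarseModuli π := by
  obtain ⟨e⟩ := hπ
  have hπ' := functor_eq_of_iso e
  refine ⟨⟨AlgSp.IsAlgSpace.yon_obj Y, fun N hN φ => ?_⟩, fun Ω _ _ t => ⟨fun m => ?_, fun A B hAB => ?_⟩⟩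
  · let ψ : (yon S).obj X ⟶ N := Lib.AlgStack.Space.spHom (BasedFunctor.comp (quotMap Scheme.fppfPrecoverage G aX) φ)
    have hψ : BasedFunctor.comp (quotMap Scheme.fppfPrecoverage G aX) φ = ofSpMap ψ :=
      functor_eq_of_iso (Lib.AlgStack.OfPsh.isoOfPshMap _)
    have hψi := invariant_of_factor φ hψ
    obtain ⟨χ, hχ, hχu⟩ := hcat ⟨N, hN⟩ ψ hψi
    have h1 : ∀ χ' : (yon S).obj Y ⟶ N, BasedFunctor.comp (quotMap Scheme.fppfPrecoverage G aX)
        (BasedFunctor.comp π (ofSpMap χ')) = ofSpMap ((yon S).map f ≫ χ') := fun χ' => by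
      change BasedFunctor.comp (BasedFunctor.comp (quotMap Scheme.fppfPrecoverage G aX) π) (ofSpMap χ') = _
      rw [hπ']
      rfl
    refine ⟨χ, ⟨eqToIso ((existsUnique_factor ψ le_rfl hψi).unique (by rw [h1, hχ]) hψ)⟩, fun χ' h' => ?_⟩
    obtain ⟨i⟩ := h'
    exact hχu χ' (map_eq_of_ofSpMap ((h1 χ').symm.trans
      ((congrArg (BasedFunctor.comp _) (functor_eq_of_iso i)).trans hψ)))
  · obtain ⟨x, hx⟩ := (horb Ω t).1 m.down
    refine ⟨⟨trivObj Scheme.fppfPrecoverage aX x, rfl⟩, ?_⟩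
    have hobj : (BasedFunctor.comp (quotMap Scheme.fppfPrecoverage G aX) π).toFunctor.obj ⟨Over.mk t, ⟨x⟩⟩ =
        (ofSpMap ((yon S).map f)).obj ⟨Over.mk t, ⟨x⟩⟩ := by rw [hπ']
    refine ((res_congr hobj (π.w_obj _) rfl).trans (res_rfl _)).trans ?_
    show ULift.up (x ≫ f) = m
    rw [hx]
    rfl
  · obtain ⟨tA, hA⟩ := exists_sec A.1 t A.2
    obtain ⟨tB, hB⟩ := exists_sec B.1 t B.2
    have key : ∀ (C : (QuotSt Scheme.fppfPrecoverage G aX).p.Fiber (Over.mk t)) (tC : C.1.base ⟶ C.1.P),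
        tC ≫ C.1.π = 𝟙 _ → AlgSt.fibSec π C = ⟨(eqToHom C.2.symm ≫ tC ≫ C.1.φ) ≫ f⟩ := by
      intro C tC hC
      obtain ⟨C, hC'⟩ := C
      generalize Over.mk t = T at hC' ⊢
      subst hC'
      refine (res_obj hπ' C tC hC).trans (congrArg ULift.up ?_)
      show (tC ≫ C.φ) ≫ f = (eqToHom rfl ≫ tC ≫ C.φ) ≫ f
      simp
    rw [key A tA hA, key B tB hB] at hAB
    obtain ⟨g, hg⟩ := (horb Ω t).2 _ _ (congrArg ULift.down hAB).symm
    exact nonempty_iso A B tA hA tB hB g hg

end Groth.Agent.S16721
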