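import Groth.Statements.S18247
import Mathlib.Tactic.LinearCombination

set_option autoImplicit false
universe u
open W4c5m1nsnscurves
open Curves

namespace Groth.Agent.S18247

open MvPolynomial

/-- The values of the generators in the polynomial ring. -/
noncomputable def val : UGen 2 → MvPolynomial (Fin 6) ℤ
  | .a => X 0
  | .c => (X 0 + X 1 + X 2 + X 3 + X 4 - X 5) * X 3 + X 5 * X 1 - X 1 * X 3
  | .cb => (X 0 + X 1 + X 2 + X 3 + X 4 - X 5) * X 2 + X 5 * X 4 - X 2 * X 4
  | .ci i => if i = 0 then X 1 else X 3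
  | .cbi i => if i = 0 then X 2 else X 4
  | .cij i _ _ => if i = 0 then X 5 else X 0 + X 1 + X 2 + X 3 + X 4 - X 5

theorem val_rel (p : MvPolynomial (UGen 2) ℤ) (hp : p ∈ URel ℤ 2) : aeval val p = 0 := by
  simp only [URel, Set.mem_union, Set.mem_range] at hp
  rcases hp with ((⟨⟨⟨i, j⟩, hij⟩, rfl⟩ | ⟨⟨⟨i, j⟩, hij⟩, rfl⟩) | ⟨⟨⟨i, j⟩, hij⟩, rfl⟩) | ⟨⟨⟨i, j, l⟩, h1, h2, h3⟩, rfl⟩
  all_goals fin_cases i <;> fin_cases j
  all_goals first
    | (exact absurd rfl hij)
    | (exact absurd rfl h1)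
    | (fin_cases l <;> first | (exact absurd rfl h2) | (exact absurd rfl h3))
    | (simp [val]; done)
    | (simp [val]; ring)

/-- The inverse. -/
noncomputable def inv : URing ℤ 2 →ₐ[ℤ] MvPolynomial (Fin 6) ℤ :=
  Ideal.Quotient.liftₐ _ (aeval val) fun p hp => by
    have hle : Ideal.span (URel ℤ 2) ≤ RingHom.ker (aeval (R := ℤ) val).toRingHom :=
      Ideal.span_le.mpr fun q hq => val_rel q hq
    exact hle hp

/-- Case n = 5: the coordinate ring of U_5 over ℤ (m = 2 indices, standing for the points 4 and 5;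
generators a, c, c̄, c_4, c̄_4, c_5, c̄_5, c_{45}, c_{54} with the linear and the two quadratic
relations for the one pair of indices, and no triple) is the polynomial ring on a, c_4, c̄_4, c_5,
c̄_5, c_{45}: the ℤ-algebra map from the polynomial ring in six variables sending the variables to
these six classes, in this order, is bijective. -/
theorem result :
    Function.Bijective (MvPolynomial.aeval (R := ℤ) (S₁ := URing ℤ 2)
      ![ugen ℤ 2 .a, ugen ℤ 2 (.ci 0), ugen ℤ 2 (.cbi 0), ugen ℤ 2 (.ci 1), ugen ℤ 2 (.cbi 1),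
        ugen ℤ 2 (.cij 0 1 Fin.zero_ne_one)]) := by
  set F := MvPolynomial.aeval (R := ℤ) (S₁ := URing ℤ 2)
      ![ugen ℤ 2 .a, ugen ℤ 2 (.ci 0), ugen ℤ 2 (.cbi 0), ugen ℤ 2 (.ci 1), ugen ℤ 2 (.cbi 1),
        ugen ℤ 2 (.cij 0 1 Fin.zero_ne_one)] with hF
  have hinv : ∀ g, inv (ugen ℤ 2 g) = val g := fun g => MvPolynomial.aeval_X _ _
  have h1 : inv.comp F = AlgHom.id ℤ _ := by
    refine MvPolynomial.algHom_ext fun i => ?_
    rw [AlgHom.comp_apply, hF, MvPolynomial.aeval_X]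
    fin_cases i <;> exact (hinv _).trans rfl
  have hrel : ∀ p ∈ URel ℤ 2, (Ideal.Quotient.mk (Ideal.span (URel ℤ 2)) p) = 0 := fun p hp =>
    Ideal.Quotient.eq_zero_iff_mem.mpr (Ideal.subset_span hp)
  have hl := hrel _ (Or.inl (Or.inl (Or.inl ⟨⟨(0, 1), Fin.zero_ne_one⟩, rfl⟩)))
  have hq := hrel _ (Or.inl (Or.inl (Or.inr ⟨⟨(0, 1), Fin.zero_ne_one⟩, rfl⟩)))
  have hqb := hrel _ (Or.inl (Or.inr ⟨⟨(0, 1), Fin.zero_ne_one⟩, rfl⟩))
  simp only [map_sub, map_add, map_mul] at hl hq hqb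
  have h2 : F.comp inv = AlgHom.id ℤ _ := by
    refine Ideal.Quotient.algHom_ext _ (MvPolynomial.algHom_ext fun g => ?_)
    show F (inv (ugen ℤ 2 g)) = ugen ℤ 2 g
    rw [hinv]
    rcases g with _ | _ | _ | i | i | ⟨i, j, h⟩
    · simp [val, hF]
    · simp [val, hF, ugen]
      linear_combination hq - (Ideal.Quotient.mk (Ideal.span (URel ℤ 2)) (MvPolynomial.X (UGen.ci 1))) * hl
    · simp [val, hF, ugen]
      linear_combination hqb - (Ideal.Quotient.mk (Ideal.span (URel ℤ 2)) (MvPolynomial.X (UGen.cbi 0))) * hl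
    · fin_cases i <;> simp [val, hF]
    · fin_cases i <;> simp [val, hF]
    · fin_cases i <;> fin_cases j
      · exact absurd rfl h
      · simp [val, hF]
      · simp [val, hF, ugen]
        linear_combination -hl
      · exact absurd rfl h
  exact ⟨Function.LeftInverse.injective (g := inv) (AlgHom.congr_fun h1),
    Function.RightInverse.surjective (g := inv) (AlgHom.congr_fun h2)⟩

end Groth.Agent.S18247
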