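import Groth.Statements.S12422
import Groth.Agent.Lib.JacCrit.OverField
import Groth.Agent.Lib.Kaehler.SmoothChart

set_option autoImplicit false
universe u
open CategoryTheory CategoryTheory.Limits AlgebraicGeometry
open NonsingVar

namespace Groth.Agent.S12422

/-- Let k be an algebraically closed field, X an irreducible scheme which is separated and of finite
type over k, n = dim X, and (Ω, d) a sheaf of relative differentials of X over k, i.e. d : O_X → Ω a
universal k-derivation. Then Ω is locally free of rank n if and only if every local ring of X is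
regular (X is a nonsingular variety over k). -/
theorem result (k : Type u) [Field k] [IsAlgClosed k] (n : ℕ)
    (X : Scheme.{u}) [X.Over (Spec (CommRingCat.of k))] [IrreducibleSpace ↥X]
    [IsSeparated (X ↘ (Spec (CommRingCat.of k)))] [LocallyOfFiniteType (X ↘ (Spec (CommRingCat.of k)))]
    [QuasiCompact (X ↘ (Spec (CommRingCat.of k)))]
    (hn : topologicalKrullDim ↥X = (n : WithBot ℕ∞))
    (Ω : X.Modules) (d : OmegaSh.Der (X ↘ (Spec (CommRingCat.of k))) Ω) (hd : OmegaSh.IsUniversal d) :
    FlatMod.IsFinLocFreeOfRank n Ω ↔ ∀ x : ↥X, IsRegularLocalRing ↑(X.presheaf.stalk x) := by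
  haveI := Lib.JacCrit.OverField.locallyOfFinitePresentation (X ↘ (Spec (CommRingCat.of k)))
  have hdim : ∀ x : ↥X, FlatMor.fibreDimAt (X ↘ (Spec (CommRingCat.of k))) x = (n : WithBot ℕ∞) :=
    fun x => by
      rw [Lib.JacCrit.OverField.fibreDimAt_eq_localDim,
        Lib.JacCrit.OverField.localDim_eq_of_irreducible (X ↘ (Spec (CommRingCat.of k))) x, hn]
  constructor
  · intro h x
    obtain ⟨U, hx, ⟨i⟩⟩ := h x
    exact Lib.JacCrit.OverField.isRegularLocalRing_stalk _ x
      (Lib.JacCrit.Scheme'.mem_smoothLocus_of_free hd x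
        (Lib.JacCrit.OverField.flat_stalkMap _ x) hx i (hdim x).ge)
  · intro h x
    haveI : Smooth (X ↘ (Spec (CommRingCat.of k))) :=
      Scheme.Hom.smoothLocus_eq_top_iff.mp (top_le_iff.mp fun y _ =>
        Lib.JacCrit.OverField.mem_smoothLocus_of_isRegular _ y (h y))
    obtain ⟨U, m, hx, hiso, hm⟩ :=
      Lib.Kaehler.SmoothChart.exists_free_fibreDim hd x
    rw [hdim x] at hm
    obtain rfl : n = m := by exact_mod_cast hm
    exact ⟨U, hx, hiso⟩

end Groth.Agent.S12422
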