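import Groth.Statements.S12576
import Groth.Agent.H81.ConstPlace
import Groth.Agent.Lib.FunFld.Res.Omega

set_option autoImplicit false
universe u v w
open FunFld

namespace Groth.Agent.S12576

/-- For a geometric function field of one variable `K/k` and a finite separable extension `K'` with
constant field `k'`, `[k':k] (2g_{K'} - 2) = [K':K] (2g_K - 2) + [k':k] deg 𝒟_{K'/K}`, the degree of
the different being `∑_Q d(Q|P) deg_{k'} Q`; stated, cleared of denominators, through Laurent
expansions at every place of `K` over `k` and of `K'` over `k'` (all places separable) with the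
different exponents computed on `dx`. (The published statement allows any finite extension along
which differentials pull back injectively; this row takes `K'` separable over `K`.) -/
theorem result (k k' : Type u) (K K' : Type v) [Field k] [Field k'] [Field K] [Field K']
    [Algebra k k'] [Algebra k K] [Algebra K K'] [Algebra k' K'] [Algebra k K']
    [IsScalarTower k k' K'] [IsScalarTower k K K'] [FiniteDimensional k k'] [FiniteDimensional K K']
    [Algebra.IsSeparable K K']
    (hK : FunFld.IsFunctionField k K) (hg : FunFld.IsGeometric k K) (hK' : FunFld.IsFunctionField k' K')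
    (F : FunFld.Place k K → Type w) [∀ P, Field (F P)] [∀ P, Algebra k (F P)]
    (φ : ∀ P, K →ₐ[k] LaurentSeries (F P)) (hφ : ∀ P, LocRes.IsExpansionAt P.1 (φ P))
    (F' : FunFld.Place k' K' → Type w) [∀ Q, Field (F' Q)] [∀ Q, Algebra k' (F' Q)]
    (ψ : ∀ Q, K' →ₐ[k'] LaurentSeries (F' Q)) (hψ : ∀ Q, LocRes.IsExpansionAt Q.1 (ψ Q))
    (below : FunFld.Place k' K' → FunFld.Place k K) (e : FunFld.Place k' K' → ℕ)
    (he : ∀ Q (z : K), Q.1 (algebraMap K K' z) = (below Q).1 z ^ e Q)
    (x : K) (hx : ∀ P, LocRes.vDiff (φ P) 1 x ≠ 0) (hx' : ∀ Q, LocRes.vDiff (ψ Q) 1 (algebraMap K K' x) ≠ 0) :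
    (Function.support fun Q => LocRes.diffExp (φ (below Q)) (ψ Q) (e Q) x).Finite ∧
    (Module.finrank k k' : ℤ) * (2 * (FunFld.genus k' K' : ℤ) - 2) =
      (Module.finrank K K' : ℤ) * (2 * (FunFld.genus k K : ℤ) - 2) +
      (Module.finrank k k' : ℤ) * ∑ᶠ Q, LocRes.diffExp (φ (below Q)) (ψ Q) (e Q) x * (Q.deg : ℤ) := by
  classical
  have hsepK := Groth.Agent.Lib.FunFld.Hasse.Separable.exists_isSep_of_geometric hK hg
  have hsepK' : ∃ x₀ : K', Groth.Agent.Lib.FunFld.Hasse.Separable.IsSep k' x₀ := by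
    obtain ⟨x₀, hx₀⟩ := hsepK
    refine ⟨algebraMap K K' x₀, ?_⟩
    let A := IntermediateField.adjoin k ({x₀} : Set K)
    let B := IntermediateField.adjoin k' ({algebraMap K K' x₀} : Set K')
    have : Algebra.IsSeparable A K := hx₀
    have : Algebra.IsSeparable A K' := Algebra.IsSeparable.trans A K K'
    have hmem : ∀ a : A, algebraMap K K' (a : K) ∈ B.restrictScalars k := fun a => by
      have hsub : A.map (IsScalarTower.toAlgHom k K K') ≤ B.restrictScalars k := by
        rw [IntermediateField.adjoin_map, IntermediateField.adjoin_le_iff, Set.image_singleton,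
          Set.singleton_subset_iff]
        exact IntermediateField.subset_adjoin k' _ rfl
      exact hsub ⟨_, a.2, rfl⟩
    let j : A →+* B :=
      { toFun := fun a => ⟨_, hmem a⟩
        map_one' := Subtype.ext (map_one _)
        map_mul' := fun a b => Subtype.ext (map_mul (algebraMap K K') (a : K) b)
        map_zero' := Subtype.ext (map_zero _)
        map_add' := fun a b => Subtype.ext (map_add (algebraMap K K') (a : K) b) }
    let _ := j.toAlgebra
    have : IsScalarTower A B K' := IsScalarTower.of_algebraMap_eq fun _ => rfl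
    exact Algebra.isSeparable_tower_top_of_isSeparable A B K'
  have : ∀ P, FiniteDimensional k (F P) := fun P => Module.finite_of_finrank_pos (by
    rw [Groth.Agent.Lib.FunFld.Res.Coef.finrank_eq_deg (hφ P)]
    exact Groth.Agent.Lib.FunFld.Existence.deg_pos hK P)
  have : ∀ Q, FiniteDimensional k' (F' Q) := fun Q => Module.finite_of_finrank_pos (by
    rw [Groth.Agent.Lib.FunFld.Res.Coef.finrank_eq_deg (hψ Q)]
    exact Groth.Agent.Lib.FunFld.Existence.deg_pos hK' Q)
  obtain ⟨t, ht⟩ := Groth.Agent.Lib.FunFld.Riemann.exists_transcendental hK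
  obtain ⟨P₀, -⟩ := Groth.Agent.Lib.FunFld.Existence.exists_zero hK ht
  obtain ⟨Q₁, -⟩ := Groth.Agent.Lib.FunFld.Ext.exists_over (K' := K') hK P₀
  obtain ⟨Q₀, -⟩ : ∃ Q₀ : FunFld.Place k' K', True :=
    ⟨(Groth.Agent.H81.ConstPlace.equiv k k' K').symm Q₁, trivial⟩
  have hxK : KaehlerDifferential.D k K x ≠ 0 := fun h => hx P₀ (by
    rw [LocRes.vDiff, Groth.Agent.Lib.FunFld.Res.SepRes.D_eq_zero_of_kaehler (φ P₀) h, mul_zero, map_zero])
  have hxK' : KaehlerDifferential.D k' K' (algebraMap K K' x) ≠ 0 := fun h => hx' Q₀ (by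
    rw [LocRes.vDiff, Groth.Agent.Lib.FunFld.Res.SepRes.D_eq_zero_of_kaehler (ψ Q₀) h, mul_zero, map_zero])
  obtain ⟨C, hC, hCval⟩ := Groth.Agent.Lib.FunFld.Res.Omega.exists_canonical φ hφ hK hsepK one_ne_zero hxK
  obtain ⟨C', hC', hC'val⟩ := Groth.Agent.Lib.FunFld.Res.Omega.exists_canonical ψ hψ hK' hsepK' one_ne_zero hxK'
  let eqv := Groth.Agent.H81.ConstPlace.equiv k k' K'
  let D : FunFld.Divisor k' K' := (FunFld.conorm (k := k) K' C).equivMapDomain eqv.symm
  have hD : ∀ Q, D Q = e Q * C (below Q) := fun Q => by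
    rw [Finsupp.equivMapDomain_apply, Equiv.symm_symm]
    exact Groth.Agent.Lib.FunFld.Ext.conorm_apply hK C (Q := eqv Q) (he Q)
  have hdiff : (fun Q => LocRes.diffExp (φ (below Q)) (ψ Q) (e Q) x) = fun Q => (C' - D) Q := funext fun Q => by
    rw [Finsupp.sub_apply, hD, hC'val, hCval, LocRes.diffExp]
  refine ⟨hdiff ▸ (C' - D).hasFiniteSupport, ?_⟩
  have hdegC := Groth.Agent.Lib.FunFld.Weil.deg_canonical hK hC
  have hdegC' := Groth.Agent.Lib.FunFld.Weil.deg_canonical hK' hC'
  have hcon := Groth.Agent.Lib.FunFld.Ext.deg_conorm (K' := K') hK C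
  have hDdeg : (Module.finrank k k' : ℤ) * D.deg = (FunFld.conorm (k := k) K' C).deg := by
    rw [FunFld.Divisor.deg, FunFld.Divisor.deg]
    simp only [D, Finsupp.equivMapDomain_eq_mapDomain]
    rw [Finsupp.sum_mapDomain_index_inj eqv.symm.injective, Finsupp.sum, Finsupp.sum, Finset.mul_sum]
    refine Finset.sum_congr rfl fun Q _ => ?_
    have hq := Groth.Agent.H81.ConstPlace.deg_equiv (k := k) (eqv.symm Q)
    rw [Equiv.apply_symm_apply] at hq
    rw [hq]
    push_cast
    ring
  have hsum : ∑ᶠ Q, LocRes.diffExp (φ (below Q)) (ψ Q) (e Q) x * (Q.deg : ℤ) = C'.deg - D.deg := by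
    simp only [congrFun hdiff]
    rw [← Groth.Agent.Lib.FunFld.Degree.deg_sub, FunFld.Divisor.deg, Finsupp.sum]
    refine finsum_eq_sum_of_support_subset _ fun Q hQ => ?_
    exact Finsupp.mem_support_iff.2 (left_ne_zero_of_mul hQ)
  rw [hsum, hdegC']
  rw [mul_sub (Module.finrank k k' : ℤ) (2 * (FunFld.genus k' K' : ℤ) - 2) (FunFld.Divisor.deg D), hDdeg, hcon, hdegC]
  ring

end Groth.Agent.S12576
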