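import Groth.Statements.S9679
import Groth.Agent.H75.Birat.Gen

set_option autoImplicit false
universe u
open CategoryTheory CategoryTheory.Limits AlgebraicGeometry
open Mor

namespace Groth.Agent.S9679

/-- Suppose X and Y have finitely many irreducible components and f : X ⟶ Y is birational, i.e. f
restricts to a bijection between the generic points of the irreducible components of X and those of
Y and induces an isomorphism of local rings at every generic point of an irreducible component of X.
Assume that f is quasi-compact or separated, and moreover that f is locally of finite presentation,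
or else Y is reduced and f is locally of finite type. Under these hypotheses, some dense open V ⊆ Y
has the property that the restriction f⁻¹(V) ⟶ V of f is an isomorphism. -/
theorem result {X Y : Scheme.{u}} (f : X ⟶ Y)
    (hXfin : (irreducibleComponents ↥X).Finite) (hYfin : (irreducibleComponents ↥Y).Finite)
    (hbij : Set.BijOn (fun x : X => f.base x) {x : X | closure {x} ∈ irreducibleComponents ↥X}
      {y : Y | closure {y} ∈ irreducibleComponents ↥Y})
    (hiso : ∀ x : X, closure {x} ∈ irreducibleComponents ↥X → IsIso (f.stalkMap x))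
    (hf₁ : QuasiCompact f ∨ IsSeparated f)
    (hf₂ : (LocallyOfFiniteType f ∧ IsReduced Y) ∨ LocallyOfFinitePresentation f) :
    ∃ V : Y.Opens, Dense (V : Set ↥Y) ∧ IsIso (f ∣_ V) := by
    obtain ⟨U, V, hOI, hU, hV⟩ := H75.Birat.exists_OI_dense f hYfin hbij hiso hf₂
    suffices ∃ V' : Y.Opens, V' ≤ V ∧ f ⁻¹ᵁ V' ≤ U ∧ ∀ y, H75.Birat.IsGen y → y ∈ V' by
      obtain ⟨V', hle, hsub, hV'⟩ := this
      have h' := hOI.shrink hle
      rw [inf_eq_right.mpr hsub] at h'
      refine ⟨V', H75.Birat.dense_of_isGen_mem hV', ?_⟩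
      have := h'.isIso
      rwa [Scheme.Hom.resLE_eq_morphismRestrict] at this
    rcases hf₁ with hqc | hsep
    · let Z : TopologicalSpace.Closeds X := ⟨(U : Set X)ᶜ, U.2.isClosed_compl⟩
      let i := (Scheme.IdealSheafData.vanishingIdeal Z).subschemeι
      have hi : Set.range i = (U : Set X)ᶜ := by
        rw [Scheme.IdealSheafData.range_subschemeι, Scheme.IdealSheafData.coe_support_vanishingIdeal]
        rfl
      refine ⟨⟨(V : Set Y) \ closure (Set.range (i ≫ f)), V.2.sdiff isClosed_closure⟩,
        Set.sdiff_subset, fun z hz => ?_, fun y hy => ⟨hV y hy, fun hc => ?_⟩⟩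
      · by_contra hzU
        obtain ⟨w, rfl⟩ : z ∈ Set.range i := by rw [hi]; exact hzU
        exact hz.2 (subset_closure ⟨w, Scheme.Hom.comp_apply i f w⟩)
      · obtain ⟨w, hw⟩ := Lib.SchTopo.Closure.mem_range_of_mem_closure_range (i ≫ f) hy hc
        rw [Scheme.Hom.comp_apply] at hw
        obtain ⟨x₀, hx₀, hfx₀⟩ := hbij.surjOn hy
        have := H75.Birat.eq_of_base_eq f hbij hiso hx₀ (hw.trans hfx₀.symm)
        have hmem : i w ∈ (U : Set X)ᶜ := hi ▸ ⟨w, rfl⟩
        exact hmem (this ▸ hU x₀ hx₀)
    · refine ⟨V, le_rfl, ?_, hV⟩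
      let s := X.homOfLE hOI.le
      haveI : IsSeparated (f ∣_ V) := inferInstance
      haveI : IsClosedImmersion (s ≫ f ∣_ V) := by
        haveI := hOI.isIso
        have : s ≫ f ∣_ V = f.resLE V U hOI.le := by
          rw [← cancel_mono V.ι]
          simp [s]
        rw [this]
        infer_instance
      haveI : IsClosedImmersion s := IsClosedImmersion.of_comp s (f ∣_ V)
      intro z hz
      by_contra hzU
      have hr : (⟨z, hz⟩ : ↥(f ⁻¹ᵁ V)) ∉ Set.range s := by
        rintro ⟨w, hw⟩
        have : w.1 = z := by simpa [s] using congrArg (fun t => t.1) hw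
        exact hzU (this ▸ w.2)
      obtain ⟨O, hO, hOeq⟩ : ∃ O : Set X, IsOpen O ∧ Subtype.val ⁻¹' O = (Set.range s)ᶜ :=
        isOpen_induced_iff.mp s.isClosedEmbedding.isClosed_range.isOpen_compl
      obtain ⟨η, hη, hηz⟩ := H75.Birat.exists_isGen z
      have hηV : η ∈ f ⁻¹ᵁ V := hηz.mem_open (f ⁻¹ᵁ V).2 hz
      have hzO : z ∈ O := (Set.ext_iff.mp hOeq ⟨z, hz⟩).mpr hr
      have hηO : (⟨η, hηV⟩ : ↥(f ⁻¹ᵁ V)) ∈ (Set.range s)ᶜ :=
        (Set.ext_iff.mp hOeq ⟨η, hηV⟩).mp (hηz.mem_open hO hzO)
      exact hηO ⟨⟨η, hU η hη⟩, Subtype.ext (by simp [s])⟩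

end Groth.Agent.S9679
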