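import Groth.Statements.S6455
import Groth.Agent.Lib.Cyc.C1

set_option autoImplicit false
universe u
open CategoryTheory AlgebraicGeometry
open Cyc

namespace Groth.Agent.S6455

/-- c_1(O_X) ∩ α = 0 in CH_k(X) for every (k + 1)-cycle α: computed with any nonzero rational sections
of the structure sheaf, the k-cycle c_1(O_X) ∩ α is rationally equivalent to zero. Here L(ξ) =
L_ξ/𝔪_ξ L_ξ is the space of rational sections of L on the closure of ξ, div_{L|W}(s) and c_1(L) ∩ α
are computed as coefficient functions from chosen nonzero rational sections (Cyc.secDivFun,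
Cyc.c1CapFun), and results are compared up to rational equivalence for any cycles with those
coefficients. A pair (X, δ) with Cyc.IsSetup plays the role of a scheme locally of finite type over
the base (S, δ) (X locally Noetherian with universally catenary local rings, δ a dimension
function). -/
theorem result (X : Scheme.{u}) (δ : X → ℤ) (hX : Cyc.IsSetup X δ) (k : ℤ) (α : AlgebraicCycle X ℤ) (hα : α ∈ Cyc.Zk X δ (k + 1)) (s : (ξ : X) → Cyc.secFibre (Coh.structureModule X) ξ) (hs : ∀ ξ, s ξ ≠ 0) (γ : AlgebraicCycle X ℤ) (hγ : ⇑γ = Cyc.c1CapFun δ (Coh.structureModule X) ⇑α s) : Cyc.RatEquivZero δ k γ := by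
  classical
  have := hX.1
  have hδ := hX.2.2
  choose g hg using fun ξ => Lib.Cyc.C1.exists_smul_one ξ (s ξ)
  have hg0 : ∀ ξ, X.residue ξ (g ξ) ≠ 0 := by
    intro ξ h0
    refine hs ξ ?_
    rw [hg ξ, ← Submodule.Quotient.mk_smul, Submodule.Quotient.mk_eq_zero]
    exact Submodule.smul_mem_smul ((IsLocalRing.residue_eq_zero_iff _).mp h0) trivial
  refine ⟨{ξ : X // α ξ ≠ 0}, Subtype.val, fun i => X.residue i.1 (g i.1) ^ α i.1,
    fun i => by by_contra hne; exact i.2 (hα i.1 hne), fun i => zpow_ne_zero _ (hg0 i.1),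
    fun x => ?_, fun x => ?_⟩
  · obtain ⟨t, ht, hfin⟩ := α.supportLocallyFiniteWithinDomain' x (Set.mem_univ x)
    obtain ⟨U, hUt, hUo, hxU⟩ := mem_nhds_iff.mp ht
    refine ⟨U, hUo, hxU, (hfin.preimage (Subtype.val_injective.injOn)).subset ?_⟩
    rintro i ⟨y, hy, hyU⟩
    exact ⟨hUt ((specializes_iff_mem_closure.mpr hy).mem_open hUo hyU), i.2⟩
  · rw [hγ, Cyc.c1CapFun]
    dsimp only
    refine Eq.trans ?_ (finsum_subtype_eq_finsum_cond
      (f := fun ξ => Cyc.divFun δ ξ (X.residue ξ (g ξ) ^ α ξ) x) (fun ξ => α ξ ≠ 0)).symm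
    refine finsum_congr fun ξ => ?_
    rw [Lib.Cyc.C1.secDivFun_unit hδ ξ (s ξ) (hs ξ) (g ξ) (hg ξ)]
    by_cases h : α ξ = 0
    · simp [h]
    · simp [h, Lib.Cyc.C1.divFun_zpow hδ ξ _ (hg0 ξ)]

end Groth.Agent.S6455
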