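import Groth.Statements.S9787
import Groth.Agent.S8656
import Groth.Agent.H26.BlowSmooth
import Groth.Agent.H26.H1Quasi
import Groth.Agent.H26.RegKinds
import Groth.Agent.Lib.KindDesc.Good
import Groth.Agent.Lib.Synt92.KoszulScheme
import Groth.Agent.Lib.Ideal.BlowUp
import Groth.Agent.Lib.SmoothBlow85.Alg

set_option autoImplicit false
universe u
open CategoryTheory CategoryTheory.Limits AlgebraicGeometry TopologicalSpace
open FlatMor

namespace Groth.Agent.S9787

set_option linter.style.haveILetI false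

open Groth.Agent.Lib

theorem isKoszulAt_of_smooth {X S : Scheme.{u}} (f : X ⟶ S) [Smooth f] (x : X) :
    Synt.IsKoszulAt f x := by
  refine ⟨⊤, _, 𝟙 _, (⊤ : X.Opens).ι ≫ f, trivial, inferInstance, ⟨inferInstance, fun z => ?_⟩,
    inferInstance, Category.id_comp _⟩
  obtain ⟨U, hU, hzU, -⟩ := exists_isAffineOpen_mem_and_subset (x := z) (U := ⊤) trivial
  refine ⟨⟨U, hU⟩, hzU, inferInstance, [], ?_, ?_⟩
  · show LCI.IsKoszulRegularSeq _ _
    rw [← List.ofFn_get ([] : List _)]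
    refine Synt92.CubeBase.isKoszulRegularSeq_of_acyc _
      (Synt92.CubeBase.acyc_of_isWeaklyRegular _ ?_)
    rw [List.ofFn_get]
    exact RingTheory.Sequence.IsWeaklyRegular.nil _ _
  · rw [Ideal.ofList_nil, ← RingHom.injective_iff_ker_eq_bot]
    exact fun a b h => h

/-- The local data of a smooth pair near a point of the centre. -/
theorem exists_local_data {Z X S : Scheme.{u}} (q : X ⟶ S) [Smooth q] (i : Z ⟶ X)
    [IsClosedImmersion i] [Smooth (i ≫ q)] (z : Z) :
    ∃ (V : S.affineOpens) (U : X.affineOpens) (hUV : U.1 ≤ q ⁻¹ᵁ V.1) (c : ℕ)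
      (a : Fin c → Γ(X, U.1)), i z ∈ U.1 ∧ CAlgX.IsH1Regular a ∧
      i.ker.ideal U = Ideal.span (Set.range a) ∧
      (letI := (q.appLE V.1 U.1 hUV).hom.toAlgebra
       Algebra.FormallySmooth Γ(S, V.1) (Γ(X, U.1) ⧸ Ideal.span (Set.range a))) := by
  have hi := S8656.result (i ≫ q) (isKoszulAt_of_smooth _) q i rfl
  obtain ⟨W, hzW, hcl, rs, hrs, hker⟩ := hi.2 z
  haveI := hcl
  obtain ⟨V, hV, hzV, -⟩ := exists_isAffineOpen_mem_and_subset (x := q (i z)) (U := ⊤) trivial
  obtain ⟨g, hgV, hzg⟩ := W.2.exists_basicOpen_le (V := q ⁻¹ᵁ V) ⟨i z, hzV⟩ hzW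
  obtain ⟨hO, hsurj, hker'⟩ := Synt92.KoszulScheme.exists_chart i W.2 rs hker g
  let φ : Γ(X, W.1) →+* Γ(X, X.basicOpen g) := (X.presheaf.map (homOfLE (X.basicOpen_le g)).op).hom
  have hφ : φ.Flat := by
    haveI := W.2.isLocalization_basicOpen g
    have := IsLocalization.flat Γ(X, X.basicOpen g) (Submonoid.powers g)
    rw [← RingHom.flat_algebraMap_iff] at this
    exact this
  let U : X.affineOpens := ⟨X.basicOpen g, W.2.basicOpen g⟩
  have hI : i.ker.ideal U = Ideal.span (Set.range (φ ∘ rs.get)) := by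
    rw [Scheme.Hom.ker_apply, hker', Set.range_comp, Set.range_list_get, Ideal.ofList]
    congr 1
    ext x
    simp [φ]
  refine ⟨⟨V, hV⟩, U, hgV, _, φ ∘ rs.get, hzg, KindDesc.h1_flat φ hφ
    (H26.RegKinds.h1_of_koszul rs hrs), hI, ?_⟩
  letI := (q.appLE V (X.basicOpen g) hgV).hom.toAlgebra
  letI : Algebra Γ(S, V) Γ(Z, i ⁻¹ᵁ X.basicOpen g) :=
    ((i.app (X.basicOpen g)).hom.comp (q.appLE V (X.basicOpen g) hgV).hom).toAlgebra
  haveI : Algebra.Smooth Γ(S, V) Γ(Z, i ⁻¹ᵁ X.basicOpen g) := by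
    refine RingHom.smooth_algebraMap.1 ?_
    have h := (i ≫ q).smooth_appLE hV hO (fun y hy => hgV hy)
    rw [← Scheme.Hom.appLE_comp_appLE i q V (X.basicOpen g) (i ⁻¹ᵁ X.basicOpen g) hgV le_rfl,
      ← Scheme.Hom.app_eq_appLE] at h
    exact h
  let π : Γ(X, X.basicOpen g) →ₐ[Γ(S, V)] Γ(Z, i ⁻¹ᵁ X.basicOpen g) :=
    { (i.app (X.basicOpen g)).hom with commutes' := fun _ => rfl }
  have hπ : RingHom.ker π = Ideal.span (Set.range (φ ∘ rs.get)) := by
    rw [← hI, Scheme.Hom.ker_apply]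
    rfl
  exact Algebra.FormallySmooth.of_equiv
    ((Ideal.quotientKerAlgEquivOfSurjective (f := π) hsurj).symm.trans
      (Ideal.quotientEquivAlgOfEq Γ(S, V) hπ))

set_option maxHeartbeats 1000000 in
theorem smooth_blowUp {Z X X' S : Scheme.{u}} (q : X ⟶ S) [Smooth q] (i : Z ⟶ X)
    [IsClosedImmersion i] [Smooth (i ≫ q)] (b : X' ⟶ X) (hb : BlowUp.IsBlowUp b i.ker) :
    Smooth (b ≫ q) := by
  rw [HasRingHomProperty.iff_exists_appLE (P := @Smooth)
    (RingHom.Smooth.stableUnderComposition.stableUnderCompositionWithLocalizationAway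
      RingHom.Smooth.holdsForLocalizationAway).left]
  intro x
  by_cases hx : b x ∈ i.ker.support
  swap
  · let W : X'.Opens := b ⁻¹ᵁ i.ker.support.compl
    haveI : IsIso (b ∣_ i.ker.support.compl) := Lib.Ideal.BlowUp.isIso_off_center hb
    haveI : Smooth (W.ι ≫ b ≫ q) := by
      rw [← Category.assoc, ← morphismRestrict_ι b i.ker.support.compl, Category.assoc]
      infer_instance
    obtain ⟨U, V, hxV, hle, hsm⟩ := (HasRingHomProperty.iff_exists_appLE (P := @Smooth)
      (RingHom.Smooth.stableUnderComposition.stableUnderCompositionWithLocalizationAway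
        RingHom.Smooth.holdsForLocalizationAway).left).1
      (inferInstance : Smooth (W.ι ≫ b ≫ q)) ⟨x, hx⟩
    have e' : W.ι ''ᵁ V.1 ≤ (b ≫ q) ⁻¹ᵁ U.1 := by
      rintro _ ⟨w, hw, rfl⟩
      exact hle hw
    refine ⟨U, ⟨W.ι ''ᵁ V.1, V.2.image_of_isOpenImmersion W.ι⟩, ⟨⟨x, hx⟩, hxV, rfl⟩, e', ?_⟩
    rwa [Synt92.KoszulScheme.appLE_ι_comp (b ≫ q) W V.1 hle e'] at hsm
  obtain ⟨z, hz⟩ : b x ∈ Set.range i := by
    have h := hx
    rw [← SetLike.mem_coe, Scheme.Hom.support_ker, i.isClosedEmbedding.isClosed_range.closure_eq] at h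
    exact h
  obtain ⟨V, U, hUV, c, a, hzU, ha, hI, hfs⟩ := exists_local_data q i z
  rw [hz] at hzU
  obtain ⟨j, D, hD, hDU, e, hxD, he⟩ := H26.BlowSmooth.exists_chart hb x hzU a hI
  letI : Algebra Γ(S, V.1) Γ(X, U.1) := (q.appLE V.1 U.1 hUV).hom.toAlgebra
  haveI : Algebra.Smooth Γ(S, V.1) Γ(X, U.1) :=
    RingHom.smooth_algebraMap.1 (q.smooth_appLE V.2 U.2 hUV)
  haveI := hfs
  obtain ⟨r, hr⟩ := SmoothBlow85.exists_retraction (R := Γ(S, V.1)) a
    (H26.H1Quasi.isQuasiRegular ha)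
  obtain ⟨Δ, hΔ, hsm⟩ := SmoothBlow85.exists_smooth_chart_away a j ha r hr
  have hxO : x ∈ X'.basicOpen (e Δ) := by
    obtain ⟨w, hw⟩ := Ideal.mem_span_singleton.1 hΔ
    have h1 : e Δ = 1 - (b.appLE U.1 D hDU).hom (a j) * e w := by
      rw [← he, ← map_one e, ← map_mul, ← map_sub, ← hw, sub_sub_cancel]
    have h2 : x ∉ X'.basicOpen ((b.appLE U.1 D hDU).hom (a j)) := fun h => by
      have h' := (Scheme.basicOpen_appLE b D U.1 hDU (a j)).le h
      have hxs := (Scheme.IdealSheafData.mem_support_iff_of_mem (I := i.ker) (U := U) hzU).1 hx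
      rw [Scheme.mem_zeroLocus_iff] at hxs
      exact hxs (a j) (hI.ge (Ideal.subset_span ⟨j, rfl⟩)) h'.2
    rw [Scheme.mem_basicOpen _ _ _ hxD] at h2 ⊢
    rw [h1, map_sub, map_one, map_mul]
    exact IsLocalRing.isUnit_one_sub_self_of_mem_nonunits _
      (mul_mem_nonunits_left h2)
  refine ⟨V, ⟨X'.basicOpen (e Δ), hD.basicOpen _⟩, hxO,
    fun y hy => hUV (hDU (X'.basicOpen_le _ hy)), ?_⟩
  haveI := hD.isLocalization_basicOpen (e Δ)
  let E : Localization.Away Δ ≃+* Γ(X', X'.basicOpen (e Δ)) :=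
    IsLocalization.ringEquivOfRingEquiv (T := Submonoid.powers (e Δ)) (M := Submonoid.powers Δ)
      (Localization.Away Δ) Γ(X', X'.basicOpen (e Δ)) e (Submonoid.map_powers _ Δ)
  have hmain := RingHom.Smooth.respectsIso.1 (algebraMap Γ(S, V.1) (Localization.Away Δ)) E
    (RingHom.smooth_algebraMap.2 hsm)
  convert hmain using 1
  refine RingHom.ext fun s => ?_
  rw [RingHom.comp_apply, IsScalarTower.algebraMap_apply Γ(S, V.1) (BlowUp.affineAlgebra Γ(X, U.1)
    (Ideal.span (Set.range a)) (a j)) (Localization.Away Δ)]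
  show _ = E (algebraMap _ _ _)
  have hE : ∀ y, E (algebraMap _ _ y) = algebraMap Γ(X', D) Γ(X', X'.basicOpen (e Δ)) (e y) :=
    fun y => IsLocalization.ringEquivOfRingEquiv_eq _ _
  rw [hE, IsScalarTower.algebraMap_apply Γ(S, V.1) Γ(X, U.1)
    (BlowUp.affineAlgebra Γ(X, U.1) (Ideal.span (Set.range a)) (a j)), he]
  rw [← Scheme.Hom.appLE_comp_appLE b q V.1 U.1 (X'.basicOpen (e Δ)) hUV
    ((X'.basicOpen_le _).trans hDU), ← Scheme.Hom.appLE_map b hDU (homOfLE (X'.basicOpen_le _)).op]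
  rfl

/-- For a smooth q : X ⟶ S and a closed immersion i : Z ⟶ X whose composite with q is smooth, any
blowing up b : X' ⟶ X of the ideal sheaf of Z (given by its universal property) is smooth over S,
and so is its exceptional divisor. The published statement also identifies the exceptional divisor
over Z with the projective bundle of the conormal sheaf, with O(1) the restriction of O_{X'}(−E);
this row proves only the two smoothness claims. -/
theorem result {Z X X' S : Scheme.{u}} (q : X ⟶ S) [Smooth q] (i : Z ⟶ X) [IsClosedImmersion i]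
    [Smooth (i ≫ q)] (b : X' ⟶ X) (hb : BlowUp.IsBlowUp b i.ker) :
    Smooth (b ≫ q) ∧ Smooth ((BlowUp.exceptional b i.ker).subschemeι ≫ b ≫ q) := by
  refine ⟨smooth_blowUp q i b hb, ?_⟩
  have hle : i.ker ≤ ((BlowUp.exceptional b i.ker).subschemeι ≫ b).ker := by
    rw [← Scheme.IdealSheafData.map_ker, Scheme.IdealSheafData.ker_subschemeι]
    exact Scheme.IdealSheafData.le_map_comap _ b
  let g := IsClosedImmersion.lift i ((BlowUp.exceptional b i.ker).subschemeι ≫ b) hle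
  have hg : g ≫ i = (BlowUp.exceptional b i.ker).subschemeι ≫ b := IsClosedImmersion.lift_fac _ _ _
  haveI : Smooth g := H26.BlowSmooth.smooth i (fun z => by
    obtain ⟨-, U, -, c, a, hzU, ha, hI, -⟩ := exists_local_data q i z
    exact ⟨U, c, a, hzU, H26.H1Quasi.isQuasiRegular ha, hI⟩) b hb g hg
  rw [← Category.assoc, ← hg, Category.assoc]
  infer_instance

end Groth.Agent.S9787
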