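import Groth.Statements.S12131
import Groth.Agent.Lib.CohDelta.BC.CoverIso
import Groth.Agent.Lib.CohDelta.BC.Transpose
import Groth.Agent.Lib.QCoh.Pushforward
import Groth.Agent.Lib.ZarCoh.FlatBC.Main

set_option autoImplicit false
set_option linter.style.haveILetI false
universe u
open EGA2

namespace Groth.Agent.S12131


open AlgebraicGeometry CategoryTheory CategoryTheory.Limits TopologicalSpace Opposite in
theorem isPushout_appLE {X S X' S' : Scheme.{u}} {f : X ⟶ S} {g : S' ⟶ S} {g' : X' ⟶ X}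
    {f' : X' ⟶ S'} (h : IsPullback g' f' f g) [IsAffineHom f] {T : S.Opens} {T' : S'.Opens}
    (hT : IsAffineOpen T) (hT' : IsAffineOpen T') (eT : T' ≤ g ⁻¹ᵁ T)
    (e₂ : f' ⁻¹ᵁ T' ≤ g' ⁻¹ᵁ (f ⁻¹ᵁ T)) :
    IsPushout (g.appLE T T' eT) (f.app T) (f'.app T') (g'.appLE (f ⁻¹ᵁ T) (f' ⁻¹ᵁ T') e₂) := by
  haveI : IsAffineHom f' := MorphismProperty.of_isPullback h inferInstance
  haveI : IsAffine (T : Scheme.{u}) := hT
  haveI : IsAffine (T' : Scheme.{u}) := hT'
  haveI : IsAffine ((f ⁻¹ᵁ T : X.Opens) : Scheme.{u}) := hT.preimage f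
  haveI : IsAffine ((f' ⁻¹ᵁ T' : X'.Opens) : Scheme.{u}) := hT'.preimage f'
  have hUY : f' ⁻¹ᵁ T' = g' ⁻¹ᵁ (f ⁻¹ᵁ T) ⊓ f' ⁻¹ᵁ T' := (inf_eq_right.2 e₂).symm
  have sq := Scheme.Hom.isPullback_resLE h eT (le_refl (f ⁻¹ᵁ T)) hUY
  have po := isPushout_appTop_of_isPullback sq.flip
  rw [Scheme.Hom.app_eq_appLE, Scheme.Hom.app_eq_appLE]
  exact po.of_iso T.topIso T'.topIso (f ⁻¹ᵁ T).topIso (f' ⁻¹ᵁ T').topIso
    (arrowResLEAppIso g T T' eT).hom.w.symm
    (arrowResLEAppIso f T (f ⁻¹ᵁ T) le_rfl).hom.w.symm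
    (arrowResLEAppIso f' T' (f' ⁻¹ᵁ T') le_rfl).hom.w.symm
    (arrowResLEAppIso g' (f ⁻¹ᵁ T) (f' ⁻¹ᵁ T') e₂).hom.w.symm

open AlgebraicGeometry CategoryTheory Scheme.Modules in
/-- Let f : X → S be an affine morphism, g : S' → S a morphism, X' = X ×_S S' with projections g' : X' →
X and f' : X' → S', and F a quasi-coherent O_X-module. Let ρ : F → g'_* g'^* F be the unit of
adjunction and v = f_*(ρ) : f_* F → f_* g'_* g'^* F = g_* f'_* g'^* F; then the map u : g^*(f_* F) →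
f'_*(g'^* F) adjoint to v is an isomorphism. -/
theorem result {X S X' S' : Scheme.{u}} (f : X ⟶ S) (g : S' ⟶ S)
    (g' : X' ⟶ X) (f' : X' ⟶ S') (h : IsPullback g' f' f g) [IsAffineHom f]
    (F : X.Modules) [Coh.IsQCoh F] :
    IsIso (((pullbackPushforwardAdjunction g).homEquiv ((pushforward f).obj F)
        ((pushforward f').obj ((pullback g').obj F))).symm
      ((pushforward f).map ((pullbackPushforwardAdjunction g').unit.app F) ≫
        (pushforwardComp g' f).hom.app ((pullback g').obj F) ≫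
        (pushforwardCongr h.w).hom.app ((pullback g').obj F) ≫
        (pushforwardComp f' g).inv.app ((pullback g').obj F))) := by
  haveI : F.IsQuasicoherent := ‹Coh.IsQCoh F›
  haveI : IsAffineHom f' := MorphismProperty.of_isPullback h inferInstance
  haveI : ((pushforward f).obj F).IsQuasicoherent :=
    Groth.Agent.Lib.QCoh.Pushforward.isQCoh_pushforward f (M := F)
  haveI := Groth.Agent.Lib.QCoh.Pullback.isQCoh_pullback g ((pushforward f).obj F)
  haveI := Groth.Agent.Lib.QCoh.Pullback.isQCoh_pullback g' F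
  haveI : ((pushforward f').obj ((pullback g').obj F)).IsQuasicoherent :=
    Groth.Agent.Lib.QCoh.Pushforward.isQCoh_pushforward f' (M := (pullback g').obj F)
  let N := (pullback g').obj F
  let v : (pushforward f).obj F ⟶ (pushforward g).obj ((pushforward f').obj N) :=
    (pushforward f).map ((pullbackPushforwardAdjunction g').unit.app F) ≫
      (pushforwardComp g' f).hom.app N ≫ (pushforwardCongr h.w).hom.app N ≫
      (pushforwardComp f' g).inv.app N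
  refine Groth.Agent.Lib.CohDelta.BC.CoverIso.isIso_of_bijective_cover _ fun y' => ?_
  obtain ⟨T, hT, hyT, -⟩ := exists_isAffineOpen_mem_and_subset (U := (⊤ : S.Opens)) (x := g y') trivial
  obtain ⟨T', hT', hyT', eT⟩ := exists_isAffineOpen_mem_and_subset (U := g ⁻¹ᵁ T) (x := y') hyT
  refine ⟨T', hT', hyT', ?_⟩
  have e₂ : f' ⁻¹ᵁ T' ≤ g' ⁻¹ᵁ (f ⁻¹ᵁ T) := (f'.preimage_mono eT).trans (le_of_eq (by
    rw [← Scheme.Hom.comp_preimage, ← Scheme.Hom.comp_preimage, h.w]))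
  refine (Function.Bijective.of_comp_iff _
    (_root_.ZarCoh.FlatBC.PullbackSections.bijective_pbTensor g ((pushforward f).obj F) hT hT' eT)).1 ?_
  letI : Algebra Γ(S, T) Γ(S', T') := (g.appLE T T' eT).hom.toAlgebra
  letI : Algebra Γ(S, T) Γ(X, f ⁻¹ᵁ T) := (f.app T).hom.toAlgebra
  letI : Algebra Γ(S', T') Γ(X', f' ⁻¹ᵁ T') := (f'.app T').hom.toAlgebra
  letI : Algebra Γ(X, f ⁻¹ᵁ T) Γ(X', f' ⁻¹ᵁ T') :=
    (g'.appLE (f ⁻¹ᵁ T) (f' ⁻¹ᵁ T') e₂).hom.toAlgebra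
  letI : Algebra Γ(S, T) Γ(X', f' ⁻¹ᵁ T') :=
    ((algebraMap Γ(S', T') Γ(X', f' ⁻¹ᵁ T')).comp (algebraMap Γ(S, T) Γ(S', T'))).toAlgebra
  haveI : IsScalarTower Γ(S, T) Γ(S', T') Γ(X', f' ⁻¹ᵁ T') :=
    IsScalarTower.of_algebraMap_eq fun _ => rfl
  have po := isPushout_appLE h hT hT' eT e₂
  haveI : IsScalarTower Γ(S, T) Γ(X, f ⁻¹ᵁ T) Γ(X', f' ⁻¹ᵁ T') :=
    IsScalarTower.of_algebraMap_eq fun a => congr($po.w a)
  haveI : Algebra.IsPushout Γ(S, T) Γ(S', T') Γ(X, f ⁻¹ᵁ T) Γ(X', f' ⁻¹ᵁ T') :=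
    CommRingCat.isPushout_iff_isPushout.mp po
  letI : Module Γ(X, f ⁻¹ᵁ T) Γ((pushforward f).obj F, T) :=
    (inferInstance : Module Γ(X, f ⁻¹ᵁ T) Γ(F, f ⁻¹ᵁ T))
  haveI : IsScalarTower Γ(S, T) Γ(X, f ⁻¹ᵁ T) Γ((pushforward f).obj F, T) :=
    IsScalarTower.of_algebraMap_smul fun _ _ => rfl
  letI : Module Γ(X', f' ⁻¹ᵁ T') Γ((pushforward f').obj N, T') :=
    (inferInstance : Module Γ(X', f' ⁻¹ᵁ T') Γ(N, f' ⁻¹ᵁ T'))
  let u := ((pullbackPushforwardAdjunction g).homEquiv ((pushforward f).obj F)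
    ((pushforward f').obj N)).symm v
  let d : TensorProduct Γ(S, T) Γ(S', T') Γ((pushforward f).obj F, T) →+
      Γ((pushforward f').obj N, T') :=
    ((u.app T').hom).comp
      (_root_.ZarCoh.FlatBC.PullbackSections.pbTensor g ((pushforward f).obj F) eT).toAddMonoidHom
  refine _root_.ZarCoh.FlatBC.Main.bijective_of_isPushout
    (A := Γ(S, T)) (B := Γ(S', T')) (R := Γ(X, f ⁻¹ᵁ T)) (R' := Γ(X', f' ⁻¹ᵁ T'))
    (N := Γ((pushforward f).obj F, T)) (P := Γ((pushforward f').obj N, T'))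
    (_root_.ZarCoh.FlatBC.PullbackSections.pbTensor g' F e₂)
    (_root_.ZarCoh.FlatBC.PullbackSections.bijective_pbTensor g' F (hT.preimage f) (hT'.preimage f') e₂)
    d fun s m => ?_
  show u.app T' (_root_.ZarCoh.FlatBC.PullbackSections.pbTensor g ((pushforward f).obj F) eT
    (s ⊗ₜ[Γ(S, T)] m)) = _
  refine (congrArg (fun z => u.app T' z)
    (_root_.ZarCoh.FlatBC.PullbackSections.pbTensor_tmul g ((pushforward f).obj F) eT s m)).trans ?_
  refine (u.app_smul s _).trans ?_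
  refine (congrArg (fun k => s • k)
    (Groth.Agent.Lib.CohDelta.BC.Transpose.transpose_pbRes g v eT m)).trans ?_
  refine congrArg (fun k : Γ(N, f' ⁻¹ᵁ T') => f'.app T' s • k) ?_
  refine Eq.trans ?_ ((one_smul Γ(X', f' ⁻¹ᵁ T') _).symm.trans
    (_root_.ZarCoh.FlatBC.PullbackSections.pbTensor_tmul g' F e₂ 1 m).symm)
  show N.presheaf.map _ (N.presheaf.map _
      (((pullbackPushforwardAdjunction g').unit.app F).app (f ⁻¹ᵁ T) m)) = N.presheaf.map _ _
  refine (ConcreteCategory.comp_apply _ _ _).symm.trans (ConcreteCategory.congr_hom ?_ _)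
  exact (N.presheaf.map_comp _ _).symm.trans (congrArg (fun k => N.presheaf.map k)
    (Subsingleton.elim _ _))

end Groth.Agent.S12131
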