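import Groth.Statements.S7243
import Groth.Agent.Lib.DerivedOX.AmplitudeStalk
import Groth.Agent.Lib.DerivedOX.LeftExists
import Groth.Agent.Lib.DerivedOX.TildeStalk
import Groth.Agent.Lib.DR.TorAmp
import Groth.Agent.Lib.DR.KFlat
import Mathlib.RingTheory.Flat.Localization

set_option autoImplicit false
universe u
open CategoryTheory CategoryTheory.Limits AlgebraicGeometry
attribute [local instance] HasDerivedCategory.standard
open Perf

namespace Groth.Agent.S7243

open AlgebraicGeometry CategoryTheory.Limits Groth.Agent.Lib Groth.Agent.Lib.DerivedOX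
open Groth.Agent.Lib.Modules.StalkModule

variable (R : CommRingCat.{u})

theorem isFlat_tilde (N : ModuleCat.{u} R) (hN : Module.Flat R N) : FlatMod.IsFlat (tilde N) := fun x => by
  letI : Algebra R ((Spec R).presheaf.stalk x) := (TildeStalk.σ R x).toAlgebra
  haveI : Module.Flat R N := hN
  haveI : Module.Flat ((Spec R).presheaf.stalk x) ((ModuleCat.extendScalars.{u, u, u} (TildeStalk.σ R x)).obj N) :=
    (Module.Flat.baseChange R ((Spec R).presheaf.stalk x) N :)
  exact Module.Flat.of_linearEquiv
    ((TildeStalk.tildeStalkIso R x).app N).symm.toLinearEquiv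

theorem flat_localized (x : Spec R) (N : ModuleCat.{u} R) (h : FlatMod.IsFlat (tilde N)) :
    Module.Flat R (LocalizedModule x.asIdeal.primeCompl N) := by
  letI : Algebra R ((Spec R).presheaf.stalk x) := StructureSheaf.stalkAlgebra R x
  haveI : IsLocalization.AtPrime ((Spec R).presheaf.stalk x) x.asIdeal :=
    StructureSheaf.IsLocalization.to_stalk R x
  haveI : IsScalarTower R ((Spec R).presheaf.stalk x) ((tilde N).presheaf.stalk x) :=
    .of_algebraMap_smul fun _ _ => rfl
  have hb : IsBaseChange ((Spec R).presheaf.stalk x) (tilde.toStalk N x).hom :=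
    IsLocalizedModule.isBaseChange x.asIdeal.primeCompl ((Spec R).presheaf.stalk x) _
  haveI : IsLocalizedModule x.asIdeal.primeCompl (tilde.toStalk N x).hom :=
    (isLocalizedModule_iff_isBaseChange x.asIdeal.primeCompl ((Spec R).presheaf.stalk x) _).2 hb
  haveI : Module.Flat ((Spec R).presheaf.stalk x) ((tilde N).presheaf.stalk x) := h x
  haveI : Module.Flat R ((Spec R).presheaf.stalk x) := IsLocalization.flat _ x.asIdeal.primeCompl
  haveI : Module.Flat R ((tilde N).presheaf.stalk x) :=
    Module.Flat.trans R ((Spec R).presheaf.stalk x) _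
  exact Module.Flat.of_linearEquiv (IsLocalizedModule.iso x.asIdeal.primeCompl (tilde.toStalk N x).hom)

theorem flat_of_isFlat_tilde (N : ModuleCat.{u} R) (h : FlatMod.IsFlat (tilde N)) : Module.Flat R N := by
  refine Module.flat_of_isLocalized_maximal (R := R) (M := N) R
    (fun P => LocalizedModule P.primeCompl N) (fun P => LocalizedModule.mkLinearMap P.primeCompl N)
    fun P hP => ?_
  exact flat_localized R ⟨P, hP.isPrime⟩ N h

variable [PreservesFiniteLimits (tilde.functor R)]

theorem tilde_exact_iff (E : DRing.Cx R) (i : ℤ) :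
    (((tilde.functor R).mapHomologicalComplex (ComplexShape.up ℤ)).obj E).ExactAt i ↔ E.ExactAt i := by
  rw [HomologicalComplex.exactAt_iff, HomologicalComplex.exactAt_iff]
  exact ShortComplex.exact_map_iff_of_faithful (E.sc i) (tilde.functor R)

/-- The representative of `M~` given by a representative of `M`. -/
noncomputable def repr {M : Dual.D R} (E : DRing.Cx R) (e : DerivedCategory.Q.obj E ≅ M) :
    DCoh.toD (Spec R) (((tilde.functor R).mapHomologicalComplex (ComplexShape.up ℤ)).obj E) ≅
      (DCoh.tildeD R).obj M :=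
  ((tilde.functor R).mapDerivedCategoryFactors.app E).symm ≪≫ (DCoh.tildeD R).mapIso e

theorem main (M : Dual.D R) (a b : ℤ) :
    DCoh.HasFlatAmplitudeIn a b ((DCoh.tildeD R).obj M) ↔ DRing.HasTorAmplitudeIn R a b M := by
  let T := (tilde.functor R).mapHomologicalComplex (ComplexShape.up ℤ)
  constructor
  · intro h
    have ht := Amplitude.torAmp_of_flatAmp h
    have hL : ∀ G : (Spec R).Modules, DCoh.HasLTensorMod G := fun G => LeftExists.hasLTensorMod G
    let E₀ := DerivedCategory.Q.objPreimage M
    let P := (DR.KProjRes.res R).obj E₀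
    haveI := DR.KProjRes.quasiIso_aug R E₀
    let eP : DerivedCategory.Q.obj P ≅ M :=
      asIso (DerivedCategory.Q.map ((DR.KProjRes.aug R).app E₀)) ≪≫ DerivedCategory.Q.objObjPreimageIso M
    have hP : ∀ i, i < a ∨ b < i → P.ExactAt i := fun i hi => (tilde_exact_iff R P i).1
      (Amplitude.exactAt_of_torAmp (TildeStalk.isKFlat_tilde R (DR.KFlat.isKFlat_res E₀))
        (repr R P eP) ht hL hi)
    haveI : M.IsLE b := by
      haveI : P.IsLE b := (CochainComplex.isLE_iff P b).2 fun i hi => hP i (Or.inr hi)
      exact DerivedCategory.TStructure.t.isLE_of_iso eP b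
    obtain ⟨E, hEb, hEp, ⟨eE⟩⟩ := (DR.Representative.ba_proj (X := M) (b := b) inferInstance).of_le DR.BaseChange.flat_of_proj
    have hEK : DCoh.IsKFlat (T.obj E) :=
      TildeStalk.isKFlat_tilde R (DR.KFlat.isKFlat_of_flat E b hEb hEp)
    have hfl : ∀ n, FlatMod.IsFlat ((T.obj E).X n) := fun n => isFlat_tilde R _ (hEp n)
    have hc := Amplitude.isFlat_cokernel hEK (repr R E eE) ht hL hfl
    refine (DR.TorAmp.bdd_of_opcycles DR.BaseChange.good_flat hEb (fun i _ => hEp i) ?_ ?_).of_iso eE
    · rw [DerivedCategory.isGE_Q_obj_iff, CochainComplex.isGE_iff]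
      exact fun i hi => (tilde_exact_iff R E i).1
        (Amplitude.exactAt_of_torAmp hEK (repr R E eE) ht hL (Or.inl hi))
    · refine flat_of_isFlat_tilde R _ (FlatResolve.good_isFlat.iso ?_ hc)
      haveI : PreservesColimitsOfSize.{0, 0} (tilde.functor R) :=
        (tilde.adjunction (R := R)).leftAdjoint_preservesColimits
      exact (PreservesCokernel.iso (tilde.functor R) (E.d (a - 1) a)).symm ≪≫
        (tilde.functor R).mapIso (ModuleCat.cokernelIsoRangeQuotient (E.d (a - 1) a))
  · rintro ⟨E, hE, hf, ⟨e⟩⟩
    exact ⟨T.obj E, fun i hi => (tilde.functor R).map_isZero (hE i hi),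
      fun i => isFlat_tilde R _ (hf i), ⟨repr R E e⟩⟩

end Groth.Agent.S7243

namespace Groth.Agent.S7243

/-- Let A be a ring, M an object of D(A) and E = M~ the associated object of D(O_X), X = Spec A (tilde
being recorded as exact). The tor amplitude of E lies in [a, b] precisely when the tor amplitude of
M lies in that same interval; both are stated here in the flat-representative form (isomorphic to a
complex of flat modules vanishing outside [a, b]), which on either side is equivalent to the
derived-tensor form. The finite tor dimension variant follows at once. -/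
theorem result (A : Type u) [CommRing A] [PreservesFiniteLimits (tilde.functor (CommRingCat.of A))]
    (M : Dual.D A) (a b : ℤ) :
    DCoh.HasFlatAmplitudeIn a b ((DCoh.tildeD (CommRingCat.of A)).obj M) ↔ DRing.HasTorAmplitudeIn A a b M := by
  exact Groth.Agent.S7243.main (CommRingCat.of A) M a b

end Groth.Agent.S7243
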