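import Groth.Statements.S9687
import Groth.Agent.S0554
import Groth.Agent.Lib.Cyc.InducedDimFun

set_option autoImplicit false
universe u
open CategoryTheory CategoryTheory.Limits AlgebraicGeometry
open Mor

namespace Groth.Agent.S9687

section

open IsLocalRing Groth.Agent.Lib.Cyc Groth.Agent.Lib.Cyc.InducedDimFun

variable {X Y : Scheme.{u}} (f : X ⟶ Y)


set_option maxHeartbeats 1000000 in
theorem locQuot_ineq [LocallyOfFiniteType f] [IsLocallyNoetherian Y] (x y : X) (h : x ⤳ y) (n E : ℕ)
    (hn : Residue.trdegAt f y = n) (hE : Residue.trdegAt f x ≤ E) :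
    ringKrullDim (Cyc.LocQuot y x h) + n ≤
      ringKrullDim (Cyc.LocQuot (f y) (f x) (h.map f.continuous)) + E := by
  classical
  let R := Cyc.LocQuot (f y) (f x) (h.map f.continuous)
  let T := Cyc.LocQuot y x h
  let := (locQuotMap f x y h).toAlgebra
  obtain ⟨_, ⟨V, hV, rfl⟩, hyV, -⟩ :=
    Y.isBasis_affineOpens.exists_subset_of_mem_open (Set.mem_univ (f y)) isOpen_univ
  obtain ⟨_, ⟨U, hU, rfl⟩, hyU, hUV⟩ :=
    X.isBasis_affineOpens.exists_subset_of_mem_open (show y ∈ (f ⁻¹ᵁ V : X.Opens) from hyV)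
      (f ⁻¹ᵁ V).2
  have hft : (f.appLE V U hUV).hom.FiniteType :=
    HasRingHomProperty.appLE @LocallyOfFiniteType f ‹_› ⟨V, hV⟩ ⟨U, hU⟩ hUV
  let := (f.appLE V U hUV).hom.toAlgebra
  obtain ⟨G, hG⟩ := (hft : Algebra.FiniteType Γ(Y, V) Γ(X, U)).out
  let g : Γ(X, U) →+* T :=
    (Ideal.Quotient.mk (RingHom.ker (Cyc.specMap y x h))).comp (X.presheaf.germ U y hyU).hom
  let S : Subalgebra R T := Algebra.adjoin R (g '' ↑G)
  have hSft : Algebra.FiniteType R S :=
    S.fg_iff_finiteType.mp (Subalgebra.fg_def.mpr ⟨g '' ↑G, G.finite_toSet.image g, rfl⟩)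
  have hmem : ∀ b, g b ∈ S := by
    intro b
    have hb : b ∈ Algebra.adjoin Γ(Y, V) (G : Set Γ(X, U)) := by rw [hG]; trivial
    induction hb using Algebra.adjoin_induction with
    | mem b hb => exact Algebra.subset_adjoin ⟨b, hb, rfl⟩
    | algebraMap a =>
      convert S.algebraMap_mem (Ideal.Quotient.mk _ (Y.presheaf.germ V (f y) hyV a)) using 1
      show Ideal.Quotient.mk _ (X.presheaf.germ U y hyU (f.appLE V U hUV a)) =
        locQuotMap f x y h (Ideal.Quotient.mk _ (Y.presheaf.germ V (f y) hyV a))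
      rw [locQuotMap_mk]
      congr 1
      rw [Scheme.Hom.germ_stalkMap_apply, ← TopCat.Presheaf.germ_res_apply X.presheaf (homOfLE hUV) y hyU, ← CommRingCat.comp_apply]
      rfl
    | add a b _ _ ha hb => rw [map_add]; exact S.add_mem ha hb
    | mul a b _ _ ha hb => rw [map_mul]; exact S.mul_mem ha hb
  let q : Ideal S := (maximalIdeal T).comap S.val.toRingHom
  have hq : q.IsPrime := Ideal.IsPrime.comap _
  -- elements of the local ring are fractions of `S`
  have hfrac : ∀ z : T, ∃ a b : S, b ∉ q ∧ z * b = a := by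
    intro z
    obtain ⟨w, rfl⟩ := Ideal.Quotient.mk_surjective z
    let := (X.presheaf.germ U y hyU).hom.toAlgebra
    have := hU.isLocalization_stalk ⟨y, hyU⟩
    obtain ⟨⟨a, b⟩, hab⟩ := IsLocalization.surj (hU.primeIdealOf ⟨y, hyU⟩).asIdeal.primeCompl w
    refine ⟨⟨g a, hmem a⟩, ⟨g b, hmem b⟩, fun hb => ?_,
      (map_mul _ _ _).symm.trans (congrArg _ hab)⟩
    exact hb ((IsLocalization.map_units (X.presheaf.stalk y) b).map
      (Ideal.Quotient.mk (RingHom.ker (Cyc.specMap y x h))))
  have : IsLocalization.AtPrime T q :=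
    { map_units := fun b => notMem_maximalIdeal.mp b.2
      surj := fun z => by
        obtain ⟨a, b, hb, hab⟩ := hfrac z
        exact ⟨⟨a, ⟨b, hb⟩⟩, hab⟩
      exists_of_eq := fun {a b} hab => ⟨1, by rw [Subtype.ext hab]⟩ }
  -- fields
  let φx : T →+* X.residueField x := algebraMap T (X.residueField x)
  let := (φx.comp (locQuotMap f x y h)).toAlgebra
  let := (f.residueFieldMap x).hom.toAlgebra
  have : IsScalarTower R (Y.residueField (f x)) (X.residueField x) := by
    refine IsScalarTower.of_algebraMap_eq fun r => ?_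
    obtain ⟨a, rfl⟩ := Ideal.Quotient.mk_surjective r
    exact specMap_stalkMap f x y h a
  have : IsScalarTower R T (X.residueField x) := IsScalarTower.of_algebraMap_eq fun _ => rfl
  have : FaithfulSMul R T := by
    refine (faithfulSMul_iff_algebraMap_injective R T).mpr fun a b hab => ?_
    refine (Ord.algebraMap_injective (f y) (f x) (h.map f.continuous)) ((f.residueFieldMap x).hom.injective ?_)
    obtain ⟨a, rfl⟩ := Ideal.Quotient.mk_surjective a
    obtain ⟨b, rfl⟩ := Ideal.Quotient.mk_surjective b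
    have := congrArg φx hab
    exact (specMap_stalkMap f x y h a).symm.trans (this.trans (specMap_stalkMap f x y h b))
  have : FaithfulSMul R S := by
    refine (faithfulSMul_iff_algebraMap_injective R S).mpr fun a b hab => ?_
    exact FaithfulSMul.algebraMap_injective R T (congrArg Subtype.val hab)
  have : FaithfulSMul S T :=
    (faithfulSMul_iff_algebraMap_injective S T).mpr Subtype.val_injective
  have : Algebra.IsAlgebraic S T := IsLocalization.isAlgebraic T q.primeCompl
  have : Algebra.IsAlgebraic T (X.residueField x) :=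
    IsLocalization.isAlgebraic _ (nonZeroDivisors T)
  have : Algebra.IsAlgebraic R (Y.residueField (f x)) :=
    IsLocalization.isAlgebraic _ (nonZeroDivisors R)
  have hS : Algebra.trdeg R S = Residue.trdegAt f x := by
    have h1 := trdeg_add_eq R S (A := T)
    have h2 := trdeg_add_eq R T (A := X.residueField x)
    have h3 := trdeg_add_eq R (Y.residueField (f x)) (A := X.residueField x)
    rw [trdeg_eq_zero (R := S), add_zero] at h1
    rw [trdeg_eq_zero (R := T), add_zero] at h2
    rw [trdeg_eq_zero (R := R), zero_add] at h3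
    exact h1.trans (h2.trans h3.symm)
  -- residue fields of the closed point
  let p : Ideal R := maximalIdeal R
  have hloc : ∀ r : R, algebraMap R T r ∈ maximalIdeal T ↔ r ∈ p := by
    intro r
    obtain ⟨a, rfl⟩ := Ideal.Quotient.mk_surjective r
    have h1 : ∀ (Z : Scheme.{u}) (z w : Z) (hw : w ⤳ z) (b : Z.presheaf.stalk z),
        Ideal.Quotient.mk (RingHom.ker (Cyc.specMap z w hw)) b ∈ maximalIdeal _ ↔
          b ∈ maximalIdeal _ := fun Z z w hw b => by
      rw [← Ideal.mem_comap, IsLocalRing.maximalIdeal_comap]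
    show locQuotMap f x y h (Ideal.Quotient.mk _ a) ∈ maximalIdeal _ ↔ _
    rw [locQuotMap_mk, h1, h1, mem_maximalIdeal, mem_maximalIdeal, mem_nonunits_iff,
      mem_nonunits_iff, isUnit_map_iff]
  have : q.LiesOver p := ⟨Ideal.ext fun r => (hloc r).symm⟩
  let ρy : T →+* X.residueField y := Ideal.Quotient.lift _ (X.residue y).hom fun a ha => by
    refine IsLocalRing.residue_eq_zero_iff _ |>.mpr ?_
    exact le_maximalIdeal (RingHom.ker_isPrime (Cyc.specMap y x h)).ne_top ha
  let ρt : R →+* Y.residueField (f y) := Ideal.Quotient.lift _ (Y.residue (f y)).hom fun a ha => by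
    refine IsLocalRing.residue_eq_zero_iff _ |>.mpr ?_
    exact le_maximalIdeal (RingHom.ker_isPrime (Cyc.specMap (f y) (f x) (h.map f.continuous))).ne_top ha
  let ψS : (S ⧸ q) →+* X.residueField y := Ideal.Quotient.lift q (ρy.comp S.val.toRingHom) (by
    rintro ⟨a, ha'⟩ ha
    obtain ⟨b, rfl⟩ := Ideal.Quotient.mk_surjective a
    refine IsLocalRing.residue_eq_zero_iff _ |>.mpr ?_
    rw [← IsLocalRing.maximalIdeal_comap (Ideal.Quotient.mk (RingHom.ker (Cyc.specMap y x h)))]
    exact ha)
  let ψR : (R ⧸ p) →+* Y.residueField (f y) := Ideal.Quotient.lift p ρt (by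
    intro a ha
    obtain ⟨b, rfl⟩ := Ideal.Quotient.mk_surjective a
    refine IsLocalRing.residue_eq_zero_iff _ |>.mpr ?_
    rw [← IsLocalRing.maximalIdeal_comap
      (Ideal.Quotient.mk (RingHom.ker (Cyc.specMap (f y) (f x) (h.map f.continuous))))]
    exact ha)
  let := RingHom.toAlgebra (R := S ⧸ q) (S := X.residueField y) ψS
  let := RingHom.toAlgebra (R := R ⧸ p) (S := Y.residueField (f y)) ψR
  let := (f.residueFieldMap y).hom.toAlgebra
  let := ((f.residueFieldMap y).hom.comp ψR).toAlgebra
  have : IsScalarTower (R ⧸ p) (Y.residueField (f y)) (X.residueField y) :=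
    IsScalarTower.of_algebraMap_eq (R := R ⧸ p) (S := Y.residueField (f y))
      (A := X.residueField y) fun _ => rfl
  have : IsScalarTower (R ⧸ p) (S ⧸ q) (X.residueField y) := by
    refine IsScalarTower.of_algebraMap_eq (R := R ⧸ p) (S := S ⧸ q)
      (A := X.residueField y) fun r => ?_
    obtain ⟨r, rfl⟩ := Ideal.Quotient.mk_surjective r
    obtain ⟨a, rfl⟩ := Ideal.Quotient.mk_surjective r
    exact ConcreteCategory.congr_hom (Scheme.residue_residueFieldMap f y) a
  have : Algebra.IsAlgebraic (R ⧸ p) (Y.residueField (f y)) := by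
    have : Module.Finite (R ⧸ p) (Y.residueField (f y)) := RingHom.Finite.of_surjective ψR fun a => by
      obtain ⟨b, rfl⟩ := Y.residue_surjective _ a
      exact ⟨Ideal.Quotient.mk p (Ideal.Quotient.mk _ b), rfl⟩
    exact Algebra.IsAlgebraic.of_finite _ _
  have hψS : Function.Injective ψS := by
    rw [injective_iff_map_eq_zero]
    intro a ha
    obtain ⟨⟨a, ha'⟩, rfl⟩ := Ideal.Quotient.mk_surjective a
    obtain ⟨b, rfl⟩ := Ideal.Quotient.mk_surjective a
    refine Ideal.Quotient.eq_zero_iff_mem.mpr ?_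
    show Ideal.Quotient.mk _ b ∈ maximalIdeal T
    rw [← Ideal.mem_comap, IsLocalRing.maximalIdeal_comap]
    exact IsLocalRing.residue_eq_zero_iff _ |>.mp ha
  have : FaithfulSMul (S ⧸ q) (X.residueField y) :=
    (faithfulSMul_iff_algebraMap_injective _ _).mpr hψS
  have : FaithfulSMul (R ⧸ p) (S ⧸ q) := by
    refine (faithfulSMul_iff_algebraMap_injective _ _).mpr ((injective_iff_map_eq_zero _).mpr ?_)
    intro a ha
    obtain ⟨a, rfl⟩ := Ideal.Quotient.mk_surjective a
    exact Ideal.Quotient.eq_zero_iff_mem.mpr ((hloc a).mp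
      (show algebraMap R S a ∈ q from Ideal.Quotient.eq_zero_iff_mem.mp ha))
  have : FaithfulSMul (R ⧸ p) (Y.residueField (f y)) :=
    (faithfulSMul_iff_algebraMap_injective _ _).mpr ((injective_iff_map_eq_zero ψR).mpr fun a ha => by
      obtain ⟨a, rfl⟩ := Ideal.Quotient.mk_surjective a
      obtain ⟨b, rfl⟩ := Ideal.Quotient.mk_surjective a
      refine Ideal.Quotient.eq_zero_iff_mem.mpr ?_
      show Ideal.Quotient.mk _ b ∈ maximalIdeal R
      rw [← Ideal.mem_comap, IsLocalRing.maximalIdeal_comap]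
      exact IsLocalRing.residue_eq_zero_iff _ |>.mp ha)
  have : Algebra.IsAlgebraic (S ⧸ q) (X.residueField y) := by
    refine ⟨fun z => ?_⟩
    obtain ⟨w, rfl⟩ := X.residue_surjective y z
    obtain ⟨a, b, hb, hab⟩ := hfrac (Ideal.Quotient.mk _ w)
    refine ⟨Polynomial.C (Ideal.Quotient.mk q b) * Polynomial.X -
      Polynomial.C (Ideal.Quotient.mk q a), ?_, ?_⟩
    · intro h0
      have h1 := congrArg (fun p => Polynomial.coeff p 1) h0
      simp at h1
      exact hb (Ideal.Quotient.eq_zero_iff_mem.mp h1)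
    · simp only [map_sub, map_mul, Polynomial.aeval_C, Polynomial.aeval_X]
      show ρy (b : T) * ρy (Ideal.Quotient.mk _ w) - ρy (a : T) = 0
      rw [← map_mul, mul_comm, hab, sub_self]
  have hSq : Algebra.trdeg (R ⧸ p) (S ⧸ q) = Residue.trdegAt f y := by
    have h1 := trdeg_add_eq (R ⧸ p) (S ⧸ q) (A := X.residueField y)
    have h2 := trdeg_add_eq (R ⧸ p) (Y.residueField (f y)) (A := X.residueField y)
    rw [trdeg_eq_zero (R := S ⧸ q), add_zero] at h1
    rw [trdeg_eq_zero (R := R ⧸ p), zero_add] at h2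
    exact h1.trans h2.symm
  haveI : IsNoetherianRing R :=
    isNoetherianRing_of_surjective _ R (Ideal.Quotient.mk _) Ideal.Quotient.mk_surjective
  have key := Groth.Agent.S0554.result R S p q
  rw [hS, hSq, hn] at key
  have : IsNoetherianRing S := Algebra.FiniteType.isNoetherianRing R S
  obtain ⟨a, ha⟩ := ENat.ne_top_iff_exists.mp (Ideal.height_ne_top (I := q) hq.ne_top)
  obtain ⟨b, hb⟩ := ENat.ne_top_iff_exists.mp (Ideal.height_ne_top (I := p) (IsLocalRing.maximalIdeal.isMaximal R).ne_top)
  rw [← ha, ← hb] at key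
  simp only [Cardinal.ofENat_nat] at key
  have key' : ((a + n : ℕ) : Cardinal.{u}) ≤ ((b + E : ℕ) : Cardinal.{u}) := by
    push_cast
    exact key.trans (add_le_add le_rfl hE)
  have hab : a + n ≤ b + E := by exact_mod_cast key'
  rw [IsLocalization.AtPrime.ringKrullDim_eq_height q T, ← ha,
    ← IsLocalRing.maximalIdeal_height_eq_ringKrullDim (R := R)]
  show _ ≤ (p.height : WithBot ℕ∞) + _
  rw [← hb]
  exact_mod_cast hab

end

open Groth.Agent.Lib.Cyc


/-- Let S be locally Noetherian, f : X ⟶ S locally of finite type and x a point of X with image s. Let n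
be the transcendence degree of κ(x) over κ(s) and let E bound the transcendence degree of κ(ξ) over
κ(f ξ) for every generic point ξ of an irreducible component of X passing through x. Then dim
O_{X,x} + n ≤ dim O_{S,s} + E. (The published statement takes E to be the maximum of these
transcendence degrees; the statement with any upper bound E is equivalent.) -/
theorem result {X S : Scheme.{u}} [IsLocallyNoetherian S]
    (f : X ⟶ S) [LocallyOfFiniteType f] (x : X) (n E : ℕ)
    (hn : letI := (f.residueFieldMap x).hom.toAlgebra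
      Algebra.trdeg (S.residueField (f.base x)) (X.residueField x) = n)
    (hE : ∀ ξ : X, closure {ξ} ∈ irreducibleComponents ↥X → ξ ⤳ x →
      letI := (f.residueFieldMap ξ).hom.toAlgebra
      Algebra.trdeg (S.residueField (f.base ξ)) (X.residueField ξ) ≤ E) :
    ringKrullDim (X.presheaf.stalk x) + n ≤ ringKrullDim (S.presheaf.stalk (f.base x)) + E := by
  haveI : IsLocallyNoetherian X := LocallyOfFiniteType.isLocallyNoetherian f
  let A := X.presheaf.stalk x
  obtain ⟨l, hl, hlen⟩ := (IsLocalRing.maximalIdeal A).exists_ltSeries_length_eq_height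
  obtain ⟨P, hP, hPle⟩ := Ideal.exists_minimalPrimes_le (bot_le (a := l.head.asIdeal))
  haveI hPp : P.IsPrime := hP.1.1
  let ξ : X := X.fromSpecStalk x ⟨P, hPp⟩
  have hξx : ξ ⤳ x := DimFun.fromSpecStalk_specializes_self x _
  have hgen : RingHom.ker (Cyc.specMap x ξ hξx) = P :=
    (congrArg PrimeSpectrum.asIdeal (DimFun.eq_genPrime x (⟨P, hPp⟩ : PrimeSpectrum A))).symm
  have hcomp : closure {ξ} ∈ irreducibleComponents ↥X := by
    refine ⟨isIrreducible_singleton.closure, fun Z hZ hle => ?_⟩
    have hη := hZ.isGenericPoint_genericPoint_closure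
    have h1 : hZ.genericPoint ⤳ ξ :=
      hη.specializes (subset_closure (hle (subset_closure rfl)))
    obtain ⟨r, hr⟩ : hZ.genericPoint ∈ Set.range (X.fromSpecStalk x) := by
      rw [Scheme.range_fromSpecStalk]
      exact h1.trans hξx
    have hrP : r.asIdeal ≤ P := by
      rw [← hr] at h1
      exact (DimFun.fromSpecStalk_specializes_iff x r ⟨P, hPp⟩).mp h1
    have : r = (⟨P, hPp⟩ : PrimeSpectrum A) :=
      PrimeSpectrum.ext (le_antisymm hrP (hP.2 ⟨r.isPrime, bot_le⟩ hrP))
    have h2 : hZ.genericPoint = ξ := by rw [← hr, this]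
    intro z hz
    have h3 := hη.mem_closed_set_iff (isClosed_closure : IsClosed (closure ({ξ} : Set X)))
    rw [← h2]
    exact hη.specializes (subset_closure hz) |>.mem_closure
  have key := locQuot_ineq f ξ x hξx n E hn (hE ξ hcomp hξx)
  have h1 : ringKrullDim A ≤ ringKrullDim (Cyc.LocQuot x ξ hξx) := by
    rw [ringKrullDim_quotient, hgen, ← IsLocalRing.maximalIdeal_height_eq_ringKrullDim, ← hlen]
    let Z := PrimeSpectrum.zeroLocus (R := A) (P : Set A)
    let s : LTSeries Z := LTSeries.mk l.length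
      (fun i => ⟨l i, hPle.trans (show (l.head).asIdeal ≤ (l i).asIdeal from l.head_le i)⟩)
      (fun i j hij => l.strictMono hij)
    exact Order.LTSeries.length_le_krullDim s
  have h2 : ringKrullDim (Cyc.LocQuot (f x) (f ξ) (hξx.map f.continuous)) ≤
      ringKrullDim (S.presheaf.stalk (f x)) :=
    ringKrullDim_quotient_le _
  exact le_trans (add_le_add h1 le_rfl) (key.trans (add_le_add h2 le_rfl))

end Groth.Agent.S9687
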