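import Groth.Statements.S12460
import Groth.Agent.Lib.Excellent.Localization

set_option autoImplicit false
set_option linter.style.haveILetI false
universe u
open CategoryTheory AlgebraicGeometry
open Props

namespace Groth.Agent.S12460

/-- (1) ⇔ (3) ⇔ (4): let X be a locally Noetherian scheme. Then X is J-2 — for every morphism Y → X
locally of finite type the set of points y with O_{Y,y} a regular local ring is open in Y — if and
only if for every affine open U of X the ring Γ(X, U) is J-2 (every finite type algebra over it has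
open regular locus), if and only if every point of X lies in such an affine open. (Schemes Y over X
are taken in the universe of X.) -/
theorem result (X : Scheme.{u}) [IsLocallyNoetherian X] :
    ((∀ (Y : Scheme.{u}) (g : Y ⟶ X), LocallyOfFiniteType g →
        IsOpen {y : Y | IsRegularLocalRing (Y.presheaf.stalk y)}) ↔
      ∀ U : X.affineOpens, EGA4.IsJ2 Γ(X, U)) ∧
    ((∀ (Y : Scheme.{u}) (g : Y ⟶ X), LocallyOfFiniteType g →
        IsOpen {y : Y | IsRegularLocalRing (Y.presheaf.stalk y)}) ↔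
      ∀ x : X, ∃ U : X.affineOpens, x ∈ (U : X.Opens) ∧ EGA4.IsJ2 Γ(X, U)) := by
  have key : ∀ {Z : Scheme.{u}} {R : CommRingCat.{u}} (j : Spec R ⟶ Z), IsOpenImmersion j →
      ∀ p : Spec R, IsRegularLocalRing (Z.presheaf.stalk (j p)) ↔ (p : PrimeSpectrum R) ∈ EGA4.regLocus R := by
    intro Z R j hj p
    haveI := hj
    haveI : p.asIdeal.IsPrime := PrimeSpectrum.isPrime p
    let e : Z.presheaf.stalk (j p) ≃+* Localization.AtPrime (p : PrimeSpectrum R).asIdeal :=
      ((asIso (j.stalkMap p)) ≪≫ Spec.stalkIso R p).commRingCatIsoToRingEquiv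
    refine ⟨fun h => ?_, fun h => ?_⟩
    · haveI := h
      exact IsRegularLocalRing.of_ringEquiv e
    · haveI : IsRegularLocalRing (Localization.AtPrime p.asIdeal) := h
      exact IsRegularLocalRing.of_ringEquiv e.symm
  have h14 : (∀ (Y : Scheme.{u}) (g : Y ⟶ X), LocallyOfFiniteType g →
      IsOpen {y : Y | IsRegularLocalRing (Y.presheaf.stalk y)}) →
      ∀ U : X.affineOpens, EGA4.IsJ2 Γ(X, U) := by
    intro h U S _ _ hT
    have hU : IsAffineOpen (U : X.Opens) := U.2
    let g : Spec (CommRingCat.of S) ⟶ X :=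
      Spec.map (CommRingCat.ofHom (algebraMap Γ(X, U) S)) ≫ hU.fromSpec
    have hg : LocallyOfFiniteType g := by
      have : LocallyOfFiniteType (Spec.map (CommRingCat.ofHom (algebraMap Γ(X, U) S))) :=
        HasRingHomProperty.Spec_iff.mpr (RingHom.finiteType_algebraMap.mpr hT)
      exact inferInstance
    have heq : {y : Spec (CommRingCat.of S) | IsRegularLocalRing ((Spec (CommRingCat.of S)).presheaf.stalk y)} =
        EGA4.regLocus S := Set.ext fun p => key (𝟙 _) inferInstance p
    exact heq ▸ h _ g hg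
  have h31 : (∀ x : X, ∃ U : X.affineOpens, x ∈ (U : X.Opens) ∧ EGA4.IsJ2 Γ(X, U)) →
      ∀ (Y : Scheme.{u}) (g : Y ⟶ X), LocallyOfFiniteType g →
      IsOpen {y : Y | IsRegularLocalRing (Y.presheaf.stalk y)} := by
    intro h Y g hg
    rw [isOpen_iff_forall_mem_open]
    intro y hy
    obtain ⟨U, hyU, hJ⟩ := h (g y)
    obtain ⟨W, hW, hyW, hWU⟩ := exists_isAffineOpen_mem_and_subset (x := y) (U := g ⁻¹ᵁ (U : X.Opens)) hyU
    letI := (g.appLE U W hWU).hom.toAlgebra
    have hopen : IsOpen (EGA4.regLocus Γ(Y, W)) :=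
      hJ Γ(Y, W) (LocallyOfFiniteType.finiteType_appLE g U.2 hW hWU)
    refine ⟨hW.fromSpec '' (show Set (Spec Γ(Y, W)) from EGA4.regLocus Γ(Y, W)), ?_,
      hW.fromSpec.isOpenEmbedding.isOpenMap _ hopen, ?_⟩
    · rintro _ ⟨p, hp, rfl⟩
      exact (key hW.fromSpec inferInstance p).2 hp
    · have hy' : y ∈ Set.range hW.fromSpec := by rw [IsAffineOpen.range_fromSpec]; exact hyW
      obtain ⟨p, hp⟩ := hy'
      subst hp
      exact ⟨p, (key hW.fromSpec inferInstance p).1 hy, rfl⟩
  have h43 : (∀ U : X.affineOpens, EGA4.IsJ2 Γ(X, U)) →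
      ∀ x : X, ∃ U : X.affineOpens, x ∈ (U : X.Opens) ∧ EGA4.IsJ2 Γ(X, U) := by
    intro h x
    obtain ⟨U, hU, hx, -⟩ := exists_isAffineOpen_mem_and_subset (x := x) (U := ⊤) trivial
    exact ⟨⟨U, hU⟩, hx, h ⟨U, hU⟩⟩
  exact ⟨⟨h14, fun h => h31 (h43 h)⟩, ⟨fun h => h43 (h14 h), h31⟩⟩

end Groth.Agent.S12460
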