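import Groth.Statements.S9833
import Groth.Agent.H18.NagataLocal
import Groth.Agent.Lib.Excellent.Nagata
import Groth.Agent.Lib.Cohen.Unramified
import Mathlib.AlgebraicGeometry.AffineScheme

set_option autoImplicit false
set_option linter.style.haveILetI false
universe u
open CategoryTheory AlgebraicGeometry TopologicalSpace
open Props

namespace Groth.Agent.S9833

/-- If a scheme has an affine open covering by spectra of Nagata rings, then the coordinate ring of
every affine open is Nagata. -/
theorem result (X : Scheme.{u}) {ι : Type u} (U : ι → X.Opens)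
    (hU : iSup U = ⊤) (haff : ∀ i, IsAffineOpen (U i)) (hN : ∀ i, CAlg.IsNagata Γ(X, U i))
    (V : X.Opens) (hV : IsAffineOpen V) : CAlg.IsNagata Γ(X, V) := by
  refine AlgebraicGeometry.of_affine_open_cover (P := fun W : X.affineOpens => CAlg.IsNagata Γ(X, W.1))
    (fun i => (⟨U i, haff i⟩ : X.affineOpens)) hU ⟨V, hV⟩ (fun W f hW => ?_) (fun W s hs hW => ?_) hN
  · haveI := W.2.isLocalization_basicOpen f
    exact Groth.Agent.Lib.Excellent.Nagata.isNagata_of_isLocalization (A' := Γ(X, X.basicOpen f))
      (Submonoid.powers f) hW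
  · refine Groth.Agent.H18.NagataLocal.isNagata_of_cover (ι := (s : Set Γ(X, W.1))) (fun f => f.1)
      (by rw [Subtype.range_coe]; exact hs) fun f => ?_
    haveI := W.2.isLocalization_basicOpen f.1
    exact Groth.Agent.Lib.Cohen.Unramified.isNagata_of_surjective (hW ⟨f.1, f.2⟩)
      (IsLocalization.algEquiv (Submonoid.powers f.1) Γ(X, X.basicOpen f.1)
        (Localization.Away f.1)).toRingEquiv.toRingHom (RingEquiv.surjective _)

end Groth.Agent.S9833
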