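import Groth.Statements.S9802
import Groth.Agent.S9833
import Groth.Agent.H75.RedSub
import Groth.Agent.Lib.Excellent.Nagata
import Groth.Agent.Lib.Cohen.Unramified
import Mathlib.AlgebraicGeometry.FunctionField
import Mathlib.AlgebraicGeometry.Morphisms.ClosedImmersion
import Mathlib.AlgebraicGeometry.Noetherian

set_option autoImplicit false
set_option linter.style.haveILetI false
universe u
open CategoryTheory AlgebraicGeometry TopologicalSpace
open Props

namespace Groth.Agent.S9802

/-- A locally Noetherian scheme is Nagata (every affine open has a Nagata coordinate ring) if and only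
if every integral closed subscheme is Japanese (every nonempty affine open of it has an N-2
coordinate ring). -/
theorem result (X : Scheme.{u})
    [IsLocallyNoetherian X] :
    (∀ U : X.Opens, IsAffineOpen U → CAlg.IsNagata Γ(X, U)) ↔
      ∀ (Z : Scheme.{u}) (i : Z ⟶ X) [IsClosedImmersion i] [IsIntegral Z]
        (V : Z.Opens) [Nonempty V], IsAffineOpen V → CAlg.IsN2 Γ(Z, V) := by
  classical
  constructor
  · intro hX Z i _ _ V _ hV
    have hN : CAlg.IsNagata Γ(Z, V) := by
      refine Groth.Agent.S9833.result Z (fun W : X.affineOpens => i ⁻¹ᵁ W.1) ?_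
        (fun W => W.2.preimage i) (fun W => ?_) V hV
      · rw [← Scheme.Hom.preimage_iSup, iSup_affineOpens_eq_top, Scheme.Hom.preimage_top]
      · exact Groth.Agent.Lib.Cohen.Unramified.isNagata_of_surjective (hX W.1 W.2) (i.app W.1).hom
          (Scheme.Hom.app_surjective i W.1 W.2)
    exact Groth.Agent.Lib.Excellent.Nagata.isN2_of_ringEquiv (RingEquiv.quotientBot Γ(Z, V)) (hN.2 ⊥)
  · intro h U hU
    haveI : IsNoetherianRing Γ(X, U) := IsLocallyNoetherian.component_noetherian ⟨U, hU⟩
    refine ⟨inferInstance, fun p hp => ?_⟩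
    let x : X := hU.fromSpec ⟨p, hp⟩
    let T : Closeds X := ⟨closure {x}, isClosed_closure⟩
    let I := Scheme.IdealSheafData.vanishingIdeal T
    have hIU : I.ideal ⟨U, hU⟩ = p := by
      change PrimeSpectrum.vanishingIdeal (hU.fromSpec ⁻¹' closure {x}) = p
      have h1 : (hU.fromSpec ⁻¹' closure ({x} : Set X) : Set (PrimeSpectrum Γ(X, U))) =
          closure {(⟨p, hp⟩ : PrimeSpectrum Γ(X, U))} := by
        refine (hU.fromSpec.isOpenEmbedding.isOpenMap.preimage_closure_eq_closure_preimage
          hU.fromSpec.continuous {x}).trans (congrArg closure ?_)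
        ext y
        exact ⟨fun hy => hU.fromSpec.isOpenEmbedding.injective hy, fun hy => congrArg hU.fromSpec hy⟩
      rw [h1, PrimeSpectrum.vanishingIdeal_closure, PrimeSpectrum.vanishingIdeal_singleton]
    haveI : AlgebraicGeometry.IsReduced I.subscheme := Groth.Agent.H75.RedSub.isReduced_vanishingIdeal T
    have hrange : Set.range I.subschemeι = closure {x} := by
      rw [Scheme.IdealSheafData.range_subschemeι, Scheme.IdealSheafData.coe_support_vanishingIdeal]
      rfl
    obtain ⟨z, hz⟩ : x ∈ Set.range I.subschemeι := hrange ▸ subset_closure rfl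
    haveI : IrreducibleSpace I.subscheme := by
      haveI : Nonempty I.subscheme := ⟨z⟩
      have hz' : closure {z} = (Set.univ : Set I.subscheme) := by
        rw [I.subschemeι.isClosedEmbedding.isEmbedding.isInducing.closure_eq_preimage_closure_image,
          Set.image_singleton, hz, ← hrange, Set.preimage_range]
      haveI : PreirreducibleSpace I.subscheme := ⟨hz' ▸ isIrreducible_singleton.closure.isPreirreducible⟩
      exact ⟨inferInstance⟩
    haveI : IsIntegral I.subscheme := isIntegral_of_irreducibleSpace_of_isReduced _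
    haveI : Nonempty (I.subschemeι ⁻¹ᵁ U : I.subscheme.Opens) := ⟨⟨z, by
      change I.subschemeι z ∈ U
      rw [hz]
      have hm : x ∈ Set.range hU.fromSpec := ⟨_, rfl⟩
      rw [hU.range_fromSpec] at hm
      exact hm⟩⟩
    have h1 := h I.subscheme I.subschemeι (I.subschemeι ⁻¹ᵁ U) (hU.preimage I.subschemeι)
    haveI : IsDomain (Γ(X, U) ⧸ p) := Ideal.Quotient.isDomain p
    exact Groth.Agent.Lib.Excellent.Nagata.isN2_of_ringEquiv
      ((I.subschemeObjIso ⟨U, hU⟩).commRingCatIsoToRingEquiv.trans (Ideal.quotEquivOfEq hIU)) h1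

end Groth.Agent.S9802
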