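import Groth.Statements.S8944
import Groth.Agent.Lib.Disc.QFOmega

set_option autoImplicit false
universe u
open AlgebraicGeometry
open scoped TensorProduct
open Disc

namespace Groth.Agent.S8944

attribute [local instance] Algebra.TensorProduct.rightAlgebra

/-- Let A → B be a flat homomorphism of Noetherian rings, and suppose it factors through a ring B′ as A
→ B′ → B, where B′ is finite over A and the induced map of spectra Spec(B) → Spec(B′) is an open
immersion, so that the relative dualizing module is ω_{B/A} = Hom_A(B′, A) ⊗_{B′} B (B′ acting on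
Hom_A(B′, A) through the argument). Then ω_{B/A} is a flat A-module. -/
theorem result (A B B' : Type u) [CommRing A] [CommRing B] [CommRing B'] [IsNoetherianRing A] [IsNoetherianRing B] [Algebra A B] [Module.Flat A B] [Algebra A B'] [Algebra B' B] [IsScalarTower A B' B] [Module.Finite A B'] (hopen : IsOpenImmersion (Spec.map (CommRingCat.ofHom (algebraMap B' B)))) : Module.Flat A (B ⊗[B'] Disc.Omega A B') := by
  classical
  refine Groth.Agent.Lib.Disc.Cover.flat_of_cover (B := B) fun q hq => ?_
  haveI := hq.isPrime
  obtain ⟨A₁, _, _, _, _, _, e, he, hfin, hne⟩ :=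
    Groth.Agent.Lib.Disc.QFChart.exists_chart (A := A) hopen q
  haveI := hfin
  haveI := Groth.Agent.Lib.Disc.QFChart.flat_CC_base (A := A) (B := B) A₁ e he
  haveI : Module.Free A₁ (Groth.Agent.Lib.Disc.QFChart.CC A₁ e) := Module.free_of_flat_of_isLocalRing
  obtain ⟨Ψ⟩ := Groth.Agent.Lib.Disc.QFChart.omega_equiv (A := A) (B' := B') A₁ e hopen he
  exact ⟨Groth.Agent.Lib.Disc.QFChart.CC A₁ e, inferInstance, inferInstance,
    Groth.Agent.Lib.Disc.QFChart.flat_CC A₁ e he, inferInstance, inferInstance, hne,
    Groth.Agent.Lib.Disc.QFOmega.flat_of_omega Ψ⟩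

end Groth.Agent.S8944
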