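import Groth.Statements.S13370
import Mathlib.AlgebraicGeometry.AffineSpace

set_option autoImplicit false
universe u
open GaDual

namespace Groth.Agent.S13370

open CategoryTheory CategoryTheory.Limits AlgebraicGeometry in
/-- Over a reduced scheme X, each invertible global function on 𝔸ⁿ_X comes, by pullback along the
projection to X, from an invertible global function on X. -/
theorem result (n : Type u) [Finite n] (X : Scheme.{u}) [IsReduced X]
    (w : Γ(𝔸(n; X), ⊤)) (hw : IsUnit w) :
    ∃ v : Γ(X, ⊤), IsUnit v ∧ (𝔸(n; X) ↘ X).appTop v = w := by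
  classical
  let z : ∀ Y : Scheme.{u}, Y ⟶ 𝔸(n; Y) := fun Y => AffineSpace.homOfVector (𝟙 Y) 0
  have hz : ∀ {Y Z : Scheme.{u}} (f : Y ⟶ Z), z Y ≫ AffineSpace.map n f = f ≫ z Z := by
    intro Y Z f
    apply AffineSpace.hom_ext
    · simp [z]
    · intro i
      simp only [z, Scheme.Hom.comp_appTop, CommRingCat.comp_apply, AffineSpace.map_appTop_coord,
        AffineSpace.homOfVector_appTop_coord, Pi.zero_apply, map_zero]
  have haff : ∀ (R : CommRingCat.{u}) [IsReduced (Spec R)] (w : Γ(𝔸(n; Spec R), ⊤)), IsUnit w →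
      (𝔸(n; Spec R) ↘ Spec R).appTop ((z (Spec R)).appTop w) = w := by
    intro R _ w hw
    haveI : _root_.IsReduced R := isReduced_of_injective _
      (Scheme.ΓSpecIso R).symm.commRingCatIsoToRingEquiv.injective
    let φ : CommRingCat.of (MvPolynomial n R) ⟶ CommRingCat.of (MvPolynomial n R) :=
      CommRingCat.ofHom ((MvPolynomial.C (σ := n) (R := R)).comp MvPolynomial.constantCoeff)
    have e : (AffineSpace.SpecIso n R).inv ≫ 𝔸(n; Spec R) ↘ Spec R ≫ z (Spec R) =
        Spec.map φ ≫ (AffineSpace.SpecIso n R).inv := by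
      apply AffineSpace.hom_ext
      · have hc : CommRingCat.ofHom (MvPolynomial.C (σ := n) (R := R)) ≫ φ =
            CommRingCat.ofHom (MvPolynomial.C (σ := n) (R := R)) := by
          ext r; simp [φ]
        simp [z, ← Spec.map_comp, hc]
      · intro i
        have h1 : (Spec.map φ).appTop ((Scheme.ΓSpecIso _).inv (MvPolynomial.X i)) =
            (Scheme.ΓSpecIso _).inv (φ (MvPolynomial.X i)) :=
          congr($(Scheme.ΓSpecIso_inv_naturality φ) (MvPolynomial.X i)).symm
        simp only [z, Scheme.Hom.comp_appTop, CommRingCat.comp_apply,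
          AffineSpace.homOfVector_appTop_coord, AffineSpace.SpecIso_inv_appTop_coord, Pi.zero_apply,
          map_zero]
        rw [h1]
        simp [φ]
    have hinj : Function.Injective (AffineSpace.SpecIso n R).inv.appTop.hom := by
      have : (AffineSpace.SpecIso n R).inv.appTop ≫ (AffineSpace.SpecIso n R).hom.appTop = 𝟙 _ := by
        rw [← Scheme.Hom.comp_appTop, Iso.hom_inv_id, Scheme.Hom.id_appTop]
      exact Function.LeftInverse.injective (g := (AffineSpace.SpecIso n R).hom.appTop.hom)
        fun x => congr($this x)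
    apply hinj
    have h1 : (AffineSpace.SpecIso n R).inv.appTop ((𝔸(n; Spec R) ↘ Spec R).appTop
        ((z (Spec R)).appTop w)) =
        (Spec.map φ).appTop ((AffineSpace.SpecIso n R).inv.appTop w) :=
      congr($(congrArg Scheme.Hom.appTop e) w)
    refine h1.trans ?_
    set y := (AffineSpace.SpecIso n R).inv.appTop w
    have hu : IsUnit ((Scheme.ΓSpecIso _).hom y) :=
      (hw.map (AffineSpace.SpecIso n R).inv.appTop.hom).map (Scheme.ΓSpecIso _).hom.hom
    obtain ⟨r, _, hr⟩ := MvPolynomial.isUnit_iff_eq_C_of_isReduced.1 hu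
    have hy : y = (Scheme.ΓSpecIso _).inv ((Scheme.ΓSpecIso _).hom y) :=
      congr($((Scheme.ΓSpecIso _).hom_inv_id) y).symm
    rw [hy, hr]
    refine congr($(Scheme.ΓSpecIso_inv_naturality φ) (MvPolynomial.C r)).symm.trans ?_
    exact congrArg (Scheme.ΓSpecIso _).inv.hom (show MvPolynomial.C (MvPolynomial.constantCoeff (MvPolynomial.C r)) = MvPolynomial.C r by simp)
  refine ⟨(z X).appTop w, hw.map (z X).appTop.hom, ?_⟩
  refine Scheme.OpenCover.ext_elem _ _ (X.affineCover.pullback₁ (𝔸(n; X) ↘ X)) fun i => ?_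
  let f := X.affineCover.f i
  haveI : IsOpenImmersion f := X.affineCover.map_prop i
  haveI hred : IsReduced (X.affineCover.X i) := isReduced_of_isOpenImmersion f
  let P := AffineSpace.isPullback_map (n := n) f
  have hfst : pullback.fst (𝔸(n; X) ↘ X) f = P.isoPullback.inv ≫ AffineSpace.map n f :=
    P.isoPullback_inv_fst.symm
  change (pullback.fst (𝔸(n; X) ↘ X) f).appTop _ = (pullback.fst (𝔸(n; X) ↘ X) f).appTop w
  rw [hfst, Scheme.Hom.comp_appTop, CommRingCat.comp_apply, CommRingCat.comp_apply]
  congr 1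
  have key : AffineSpace.map n f ≫ 𝔸(n; X) ↘ X ≫ z X =
      𝔸(n; X.affineCover.X i) ↘ X.affineCover.X i ≫ z _ ≫ AffineSpace.map n f := by
    rw [AffineSpace.map_over_assoc, hz]
  exact congr($(congrArg Scheme.Hom.appTop key) w).trans
    (@haff _ hred _ (hw.map (AffineSpace.map n f).appTop.hom))

end Groth.Agent.S13370
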