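import Groth.Statements.S15383
import Groth.Agent.H2.FreeLocal
import Groth.Agent.Lib.RedPts.Gm
import Groth.Agent.Lib.JacCrit.OverField

set_option autoImplicit false
universe u
open GmDual

namespace Groth.Agent.S15383

open CategoryTheory AlgebraicGeometry in
/-- Let f : X' ⟶ X be a finite flat morphism of Noetherian schemes (so finite locally free). A morphism
of abelian sheaves N : f_* 𝔾_{m,X'} ⟶ 𝔾_{m,X} on the big fppf site of X is called a norm map of f
when, on every affine test scheme T over X for which the functions of T ×_X X' form a finite free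
algebra over those of T, it sends an invertible function on T ×_X X' to the determinant of
multiplication by it. Two norm maps of f are equal: a norm map is determined by its affine-local
description by determinants. -/
theorem result (X X' : Scheme.{u}) (f : X' ⟶ X) [IsFinite f] [Flat f]
    [AlgebraicGeometry.IsNoetherian X]
    (N N' : CGrpSh3.pushGm Scheme.fppfPrecoverage f ⟶ CGrpSh2.Gm Scheme.fppfPrecoverage X)
    (hN : CGrpSh3.IsNormMap Scheme.fppfPrecoverage f N) (hN' : CGrpSh3.IsNormMap Scheme.fppfPrecoverage f N') :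
    N = N' := by
  haveI : LocallyOfFinitePresentation f :=
    Lib.JacCrit.OverField.locallyOfFinitePresentation f
  refine CategoryTheory.Sheaf.hom_ext (NatTrans.ext (funext fun T => AddCommGrpCat.ext fun x => ?_))
  obtain ⟨T⟩ := T
  change (ULift.{u + 1} (Additive ((Over.pullback f).obj T ⟶ Red.Gm X'))) at x
  refine ULift.ext _ _ (congrArg Additive.ofMul (?_ : CGrpSh3.normPt Scheme.fppfPrecoverage f N T x.down.toMul =
    CGrpSh3.normPt Scheme.fppfPrecoverage f N' T x.down.toMul))
  choose V hV hmem hfree using fun t => H2.FreeLocal.exists_affine_free f T.hom t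
  apply Over.OverMorphism.ext
  refine Scheme.Cover.hom_ext (T.left.openCoverOfIsOpenCover V
    (TopologicalSpace.IsOpenCover.mk (eq_top_iff.2 fun t _ => TopologicalSpace.Opens.mem_iSup.2 ⟨t, hmem t⟩))) _ _ fun t => ?_
  let W : Over X := Over.mk ((V t).ι ≫ T.hom)
  let j : W ⟶ T := Over.homMk (V t).ι rfl
  haveI : IsAffine W.left := hV t
  letI : Algebra Γ(W.left, ⊤) Γ(((Over.pullback f).obj W).left, ⊤) :=
    (Limits.pullback.fst W.hom f).appTop.hom.toAlgebra
  haveI : Module.Finite Γ(W.left, ⊤) Γ(((Over.pullback f).obj W).left, ⊤) := (hfree t).1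
  haveI : Module.Free Γ(W.left, ⊤) Γ(((Over.pullback f).obj W).left, ⊤) := (hfree t).2
  have e : ∀ M : CGrpSh3.pushGm Scheme.fppfPrecoverage f ⟶ CGrpSh2.Gm Scheme.fppfPrecoverage X,
      j ≫ CGrpSh3.normPt Scheme.fppfPrecoverage f M T x.down.toMul =
        CGrpSh3.normPt Scheme.fppfPrecoverage f M W ((Over.pullback f).map j ≫ x.down.toMul) := fun M =>
    (congrArg (fun y => Additive.toMul y.down) (congr($(M.hom.naturality j.op) x))).symm
  have h1 : j ≫ CGrpSh3.normPt Scheme.fppfPrecoverage f N T x.down.toMul =
      j ≫ CGrpSh3.normPt Scheme.fppfPrecoverage f N' T x.down.toMul := by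
    rw [e, e]
    exact Lib.RedPts.Gm.gmFn_injective
      ((hN W (fun _ => rfl) _).trans (hN' W (fun _ => rfl) _).symm)
  exact congrArg CommaMorphism.left h1

end Groth.Agent.S15383
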