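import Groth.Statements.S12080
import Mathlib

set_option autoImplicit false
universe u
open TensorProduct
open CAlg

open TensorProduct

namespace Groth.Agent.S12080

/-- (1) ⇒ (2): let `M` be a finite locally free `R`-module of rank `1`, i.e. there is a set `s ⊆ R`
generating the unit ideal with `M_f ≅ R_f` as `R_f`-modules for every `f ∈ s`. Then the evaluation
map `Hom_R(M, R) ⊗_R M → R` is bijective, so `M` is invertible with inverse its dual. -/
theorem result (R : Type u) [CommRing R] (M : Type u) [AddCommGroup M]
    [Module R M] (s : Set R) (hs : Ideal.span s = ⊤)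
    (hfree : ∀ f ∈ s, Nonempty (LocalizedModule.Away f M ≃ₗ[Localization.Away f] Localization.Away f)) :
    Module.Invertible R M := by
  classical
  haveI : Module.FinitePresentation R M := Module.FinitePresentation.of_localizationSpan s hs fun r => by
    obtain ⟨e⟩ := hfree r r.2
    exact Module.FinitePresentation.of_equiv e.symm
  have hcomm : ∀ (φ : M →ₗ[R] R) (x y : M), φ x • y = φ y • x := by
    intro φ x y
    refine Module.eq_of_isLocalized_span s hs (fun r : s => LocalizedModule.Away (r : R) M) (fun r => LocalizedModule.mkLinearMap _ M) _ _ fun r => ?_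
    obtain ⟨e⟩ := hfree r r.2
    let mk := LocalizedModule.mkLinearMap (Submonoid.powers (r : R)) M
    let ψ : LocalizedModule.Away (r : R) M →ₗ[Localization.Away (r : R)] Localization.Away (r : R) :=
      .extendScalarsOfIsLocalization (.powers (r : R)) _ <| IsLocalizedModule.map
        (.powers (r : R)) mk (Algebra.linearMap R _) φ
    have hψ : ∀ z, algebraMap R (Localization.Away (r : R)) (φ z) = e (mk z) * ψ (e.symm 1) := fun z => by
      have h1 : ψ (mk z) = algebraMap R _ (φ z) := IsLocalizedModule.map_apply _ mk _ φ z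
      rw [← h1, ← smul_eq_mul, ← map_smul, ← map_smul, smul_eq_mul, mul_one, LinearEquiv.symm_apply_apply]
    show mk (φ x • y) = mk (φ y • x)
    have he : ∀ (c : R) (w : LocalizedModule.Away (r : R) M), e (c • w) = algebraMap R _ c * e w :=
      fun c w => by rw [← algebraMap_smul (Localization.Away (r : R)) c w, e.map_smul, smul_eq_mul]
    apply e.injective
    rw [mk.map_smul, mk.map_smul, he, he, hψ, hψ]
    ring
  have hsurj : Function.Surjective (contractLeft R M) := by
    rw [← LinearMap.range_eq_top]
    by_contra hne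
    obtain ⟨P, hP, hle⟩ := Ideal.exists_le_maximal _ hne
    refine hP.ne_top (top_le_iff.1 (hs ▸ Ideal.span_le.2 fun r hr => ?_))
    obtain ⟨e⟩ := hfree r hr
    let mk := LocalizedModule.mkLinearMap (Submonoid.powers r) M
    obtain ⟨φ, ⟨_, k, rfl⟩, hφ⟩ := Module.FinitePresentation.exists_lift_of_isLocalizedModule
      (Submonoid.powers r) (Algebra.linearMap R (Localization.Away r)) ((e.toLinearMap.restrictScalars R) ∘ₗ mk)
    obtain ⟨⟨m, ⟨_, j, rfl⟩⟩, hm⟩ := IsLocalizedModule.surj (Submonoid.powers r) mk (e.symm 1)
    simp only [Submonoid.smul_def] at hm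
    have h1 := LinearMap.congr_fun hφ m
    simp only [LinearMap.comp_apply, LinearMap.smul_apply, LinearMap.restrictScalars_apply,
      LinearEquiv.coe_coe, Algebra.linearMap_apply, Submonoid.smul_def] at h1
    rw [← hm, ← algebraMap_smul (Localization.Away r) (r ^ j), map_smul, LinearEquiv.apply_symm_apply,
      Algebra.smul_def, smul_eq_mul, mul_one, ← map_mul] at h1
    obtain ⟨⟨_, l, rfl⟩, hl⟩ := IsLocalization.exists_of_eq (M := Submonoid.powers r) h1
    have hmem : φ m ∈ P := hle ⟨φ ⊗ₜ m, contractLeft_apply φ m⟩
    have hp : r ^ l * (r ^ k * r ^ j) ∈ P := hl ▸ P.mul_mem_left _ hmem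
    rw [← pow_add, ← pow_add] at hp
    exact hP.isPrime.mem_of_pow_mem _ hp
  refine ⟨⟨?_, hsurj⟩⟩
  obtain ⟨e₀, he₀⟩ := hsurj 1
  have key : ∀ z, z = contractLeft R M z • e₀ := by
    have hd : ∀ (ψ : M →ₗ[R] R) (w : Module.Dual R M ⊗[R] M) (y : M),
        contractLeft R M w • (ψ ⊗ₜ[R] y) = ψ y • w := by
      intro ψ w y
      induction w using TensorProduct.induction_on with
      | zero => simp
      | tmul φ m =>
        have h : φ m • ψ = ψ m • φ := LinearMap.ext fun x => by
          have h2 := congrArg ψ (hcomm φ x m)
          simp only [map_smul, smul_eq_mul] at h2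
          simp only [LinearMap.smul_apply, smul_eq_mul]
          rw [← h2, mul_comm]
        rw [contractLeft_apply, TensorProduct.smul_tmul', h, TensorProduct.smul_tmul, hcomm ψ m y,
          TensorProduct.tmul_smul]
      | add a b ha hb => rw [map_add, add_smul, ha, hb, smul_add]
    intro z
    induction z using TensorProduct.induction_on with
    | zero => simp
    | tmul ψ y => rw [contractLeft_apply, ← hd ψ e₀ y, he₀, one_smul]
    | add a b ha hb => rw [map_add, add_smul, ← ha, ← hb]
  intro a b hab
  rw [key a, key b, hab]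

end Groth.Agent.S12080
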