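import Groth.Statements.S3707
import Mathlib.AlgebraicGeometry.Morphisms.FormallyUnramified
import Mathlib.AlgebraicGeometry.Morphisms.IsIso
import Mathlib.AlgebraicGeometry.Morphisms.UnderlyingMap
import Mathlib.AlgebraicGeometry.PullbackCarrier

set_option autoImplicit false
universe u
open SGA1

namespace Groth.Agent.S3707

open AlgebraicGeometry CategoryTheory CategoryTheory.Limits in
/-- Let g : S' -> S be a surjective morphism of schemes, X and Y schemes over S with Y unramified over S
(formally unramified and locally of finite type), and X', Y' their base changes to S'. Then the map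
sending an S-morphism X -> Y to the induced S'-morphism X' -> Y' is injective. -/
theorem result {S S' X Y : Scheme.{u}} (g : S' ⟶ S) [Surjective g]
    (p : X ⟶ S) (q : Y ⟶ S) [FormallyUnramified q] [LocallyOfFiniteType q]
    (u v : X ⟶ Y) (hu : p ≫ 𝟙 S = u ≫ q) (hv : p ≫ 𝟙 S = v ≫ q)
    (h : pullback.map p g q g u (𝟙 S') (𝟙 S) hu ((Category.comp_id _).trans (Category.id_comp _).symm) =
      pullback.map p g q g v (𝟙 S') (𝟙 S) hv ((Category.comp_id _).trans (Category.id_comp _).symm)) :
    u = v := by
  rw [Category.comp_id] at hu hv
  let t : X ⟶ pullback q q := pullback.lift u v (hu.symm.trans hv)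
  have hoi : IsOpenImmersion (pullback.fst t (pullback.diagonal q)) :=
    MorphismProperty.pullback_fst (P := @IsOpenImmersion) _ _ inferInstance
  have hfst : pullback.fst p g ≫ u = pullback.fst p g ≫ v := by
    have := congrArg (· ≫ pullback.fst q g) h
    simp only [pullback.map, Category.assoc, pullback.lift_fst] at this
    exact this
  let w : pullback p g ⟶ pullback t (pullback.diagonal q) :=
    pullback.lift (pullback.fst p g) (pullback.fst p g ≫ u) (by
      refine pullback.hom_ext ?_ ?_
      · rw [Category.assoc, Category.assoc, pullback.lift_fst, pullback.diagonal_fst, Category.comp_id]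
      · rw [Category.assoc, Category.assoc, pullback.lift_snd, pullback.diagonal_snd, Category.comp_id, hfst])
  have : Surjective (pullback.fst p g) := MorphismProperty.pullback_fst (P := @Surjective) _ _ ‹_›
  have : Surjective (pullback.fst t (pullback.diagonal q)) := by
    refine ⟨fun x => ?_⟩
    obtain ⟨z, rfl⟩ := (pullback.fst p g).surjective x
    exact ⟨w z, by rw [← Scheme.Hom.comp_apply, pullback.lift_fst]⟩
  have : IsIso (pullback.fst t (pullback.diagonal q)) := (isIso_iff_isOpenImmersion_and_surjective _).mpr ⟨inferInstance, inferInstance⟩
  have hc := pullback.condition (f := t) (g := pullback.diagonal q)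
  rw [← cancel_epi (pullback.fst t (pullback.diagonal q))]
  have h1 := congrArg (· ≫ pullback.fst q q) hc
  have h2 := congrArg (· ≫ pullback.snd q q) hc
  simp only [Category.assoc, t, pullback.lift_fst, pullback.lift_snd, pullback.diagonal_fst,
    pullback.diagonal_snd] at h1 h2
  rw [h1, h2]

end Groth.Agent.S3707
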