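import Groth.Statements.S3709
import Groth.Agent.S3694
import Groth.Agent.S3707
import Groth.Agent.Lib.Subtrusive.Submersive
import Mathlib.AlgebraicGeometry.Morphisms.Etale
import Mathlib.AlgebraicGeometry.Morphisms.IsIso
import Mathlib.AlgebraicGeometry.ResidueField

set_option autoImplicit false
universe u
open SGA1

namespace Groth.Agent.S3709

open AlgebraicGeometry CategoryTheory CategoryTheory.Limits in
/-- A universally submersive morphism is a descent morphism for etale schemes (exactness of Hom_S(X, Y)
-> Hom_S'(X', Y') => Hom_S''(X'', Y'')): let g : S' -> S be universally submersive, X and Y schemes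
over S with Y etale over S, X' and Y' their base changes along g, and f' : X' -> Y' an S'-morphism
whose two pullbacks to S'' = S' x_S S' coincide (equivalently: the two composites X'' -> X' -> Y' ->
Y along the two projections agree). Then there is exactly one S-morphism u : X -> Y whose base
change is f'. -/
theorem result {S S' X Y : Scheme.{u}} (g : S' ⟶ S) (hg : SGA1.UnivSubmersive g)
    (p : X ⟶ S) (q : Y ⟶ S) [Etale q]
    (f' : pullback p g ⟶ pullback q g) (hf' : f' ≫ pullback.snd q g = pullback.snd p g)
    (hcoc : pullback.map p (pullback.fst g g ≫ g) p g (𝟙 X) (pullback.fst g g) (𝟙 S)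
        ((Category.comp_id _).trans (Category.id_comp _).symm) (Category.comp_id _) ≫ f' ≫ pullback.fst q g =
      pullback.map p (pullback.fst g g ≫ g) p g (𝟙 X) (pullback.snd g g) (𝟙 S)
        ((Category.comp_id _).trans (Category.id_comp _).symm) ((Category.comp_id _).trans pullback.condition) ≫
        f' ≫ pullback.fst q g) :
    ∃! u : X ⟶ Y, u ≫ q = p ∧ f' ≫ pullback.fst q g = pullback.fst p g ≫ u := by
  let P' := pullback (pullback.fst p q ≫ p) g
  let pr : P' ⟶ pullback p q := pullback.fst _ _
  let ρ : P' ⟶ pullback p g :=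
    pullback.lift (pr ≫ pullback.fst p q) (pullback.snd _ _)
      (by rw [Category.assoc]; exact pullback.condition)
  have hρ1 : ρ ≫ pullback.fst p g = pr ≫ pullback.fst p q := pullback.lift_fst _ _ _
  have hρ2 : ρ ≫ pullback.snd p g = pullback.snd _ _ := pullback.lift_snd _ _ _
  have hρ : IsPullback pr ρ (pullback.fst p q) (pullback.fst p g) := by
    refine IsPullback.of_bot ?_ hρ1.symm (IsPullback.of_hasPullback p g)
    rw [hρ2]
    exact IsPullback.of_hasPullback _ _
  have : Etale ρ := MorphismProperty.of_isPullback hρ inferInstance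
  have hY : (f' ≫ pullback.fst q g) ≫ q = pullback.fst p g ≫ p := by
    rw [Category.assoc, pullback.condition, ← Category.assoc, hf', pullback.condition]
  let γ : pullback p g ⟶ P' :=
    pullback.lift (pullback.lift (pullback.fst p g) (f' ≫ pullback.fst q g) hY.symm)
      (pullback.snd p g) (by rw [pullback.lift_fst_assoc]; exact pullback.condition)
  have hγ1 : γ ≫ pr = pullback.lift (pullback.fst p g) (f' ≫ pullback.fst q g) hY.symm :=
    pullback.lift_fst _ _ _
  have hγ2 : γ ≫ pullback.snd _ g = pullback.snd p g := pullback.lift_snd _ _ _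
  have hγρ : γ ≫ ρ = 𝟙 _ := by
    refine pullback.hom_ext ?_ ?_
    · rw [Category.assoc, hρ1, reassoc_of% hγ1, pullback.lift_fst, Category.id_comp]
    · rw [Category.assoc, hρ2, hγ2, Category.id_comp]
  have : IsSplitMono γ := IsSplitMono.mk' ⟨ρ, hγρ⟩
  have : Etale (γ ≫ ρ) := hγρ ▸ inferInstance
  have : Etale γ := Etale.of_comp γ ρ
  have : IsOpenImmersion γ := IsOpenImmersion.of_flat_of_mono γ
  have hgq : Topology.IsQuotientMap pr := Lib.Subtrusive.Submersive.isQuotientMap_of_univSubmersive
    (Lib.Subtrusive.Submersive.univSubmersive_of_isPullback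
      (IsPullback.of_hasPullback (pullback.fst p q ≫ p) g).flip hg)
  have hsat : ∀ (a : (pullback p g : Scheme.{u})) (b : (P' : Scheme.{u})), pr (γ a) = pr b →
      b ∈ Set.range γ := by
    intro a b hab
    obtain ⟨w, hw1, hw2⟩ := Scheme.Pullback.exists_preimage_pullback (γ a) b hab
    let W := pullback pr pr
    let t := W.fromSpecResidueField w
    have ht1 : Set.range (t ≫ pullback.fst pr pr) ⊆ Set.range γ := by
      rintro _ ⟨z, rfl⟩
      rw [Scheme.Hom.comp_apply, Scheme.fromSpecResidueField_apply, hw1]
      exact ⟨a, rfl⟩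
    let τ := IsOpenImmersion.lift γ (t ≫ pullback.fst pr pr) ht1
    have hτ : τ ≫ γ = t ≫ pullback.fst pr pr := IsOpenImmersion.lift_fac _ _ _
    let τ₂ := t ≫ pullback.snd pr pr ≫ ρ
    have hfst : τ ≫ pullback.fst p g = τ₂ ≫ pullback.fst p g := by
      simp only [τ₂, Category.assoc, hρ1]
      rw [← pullback.condition_assoc, ← Category.assoc t, ← hτ, Category.assoc, reassoc_of% hγ1,
        pullback.lift_fst]
    let σ : _ ⟶ pullback p (pullback.fst g g ≫ g) :=
      pullback.lift (τ ≫ pullback.fst p g)
        (pullback.lift (τ ≫ pullback.snd p g) (τ₂ ≫ pullback.snd p g) (by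
          rw [Category.assoc, Category.assoc, ← pullback.condition, reassoc_of% hfst]))
        (by rw [pullback.lift_fst_assoc, Category.assoc, Category.assoc, pullback.condition])
    have hc := congrArg (σ ≫ ·) hcoc
    simp only [← Category.assoc] at hc
    rw [show σ ≫ pullback.map p (pullback.fst g g ≫ g) p g (𝟙 X) (pullback.fst g g) (𝟙 S)
        ((Category.comp_id _).trans (Category.id_comp _).symm) (Category.comp_id _) = τ by
          apply pullback.hom_ext
          · rw [pullback.map, Category.assoc, pullback.lift_fst, pullback.lift_fst_assoc,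
              Category.comp_id]
          · rw [pullback.map, Category.assoc, pullback.lift_snd, pullback.lift_snd_assoc,
              pullback.lift_fst],
      show σ ≫ pullback.map p (pullback.fst g g ≫ g) p g (𝟙 X) (pullback.snd g g) (𝟙 S)
        ((Category.comp_id _).trans (Category.id_comp _).symm)
        ((Category.comp_id _).trans pullback.condition) = τ₂ by
          apply pullback.hom_ext
          · rw [pullback.map, Category.assoc, pullback.lift_fst, pullback.lift_fst_assoc,
              Category.comp_id, hfst]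
          · rw [pullback.map, Category.assoc, pullback.lift_snd, pullback.lift_snd_assoc,
              pullback.lift_snd]] at hc
    have he : τ₂ ≫ γ = t ≫ pullback.snd pr pr := by
      refine pullback.hom_ext (pullback.hom_ext ?_ ?_) ?_
      · change ((τ₂ ≫ γ) ≫ pr) ≫ _ = ((t ≫ pullback.snd pr pr) ≫ pr) ≫ _
        simp only [Category.assoc]
        rw [reassoc_of% hγ1, pullback.lift_fst]
        simp only [τ₂, Category.assoc, hρ1]
      · change ((τ₂ ≫ γ) ≫ pr) ≫ _ = ((t ≫ pullback.snd pr pr) ≫ pr) ≫ _
        simp only [Category.assoc]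
        rw [reassoc_of% hγ1, pullback.lift_snd, ← Category.assoc τ₂, ← hc, ← pullback.condition_assoc,
          ← Category.assoc t, ← hτ]
        simp only [Category.assoc]
        rw [reassoc_of% hγ1, pullback.lift_snd]
      · simp only [Category.assoc, hγ2]
        simp only [τ₂, Category.assoc, hρ2]
    refine ⟨τ₂ (IsLocalRing.closedPoint _), ?_⟩
    rw [← Scheme.Hom.comp_apply, he, Scheme.Hom.comp_apply, Scheme.fromSpecResidueField_apply, hw2]
  have hpre : pr ⁻¹' (pr '' Set.range γ) = Set.range γ := by
    refine Set.Subset.antisymm ?_ (Set.subset_preimage_image _ _)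
    rintro b ⟨_, ⟨a, rfl⟩, hab⟩
    exact hsat a b hab
  let Γ : (pullback p q).Opens := ⟨pr '' Set.range γ,
    hgq.isOpen_preimage.mp (by rw [hpre]; exact γ.opensRange.2)⟩
  let π := Γ.ι ≫ pullback.fst p q
  have : Surjective g :=
    ⟨(Lib.Subtrusive.Submersive.isQuotientMap_of_univSubmersive hg).surjective⟩
  have : Surjective (pullback.fst p g) := MorphismProperty.pullback_fst (P := @Surjective) _ _ ‹_›
  let γΓ : pullback p g ⟶ Γ := IsOpenImmersion.lift Γ.ι (γ ≫ pr) (by
    rintro _ ⟨a, rfl⟩
    rw [Scheme.Opens.range_ι, Scheme.Hom.comp_apply]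
    exact ⟨γ a, ⟨a, rfl⟩, rfl⟩)
  have hγΓ : γΓ ≫ Γ.ι = γ ≫ pr := IsOpenImmersion.lift_fac _ _ _
  have hγπ : γΓ ≫ π = pullback.fst p g := by
    rw [reassoc_of% hγΓ, reassoc_of% hγ1, pullback.lift_fst]
  have : Surjective π := ⟨fun x => by
    obtain ⟨a, rfl⟩ := (pullback.fst p g).surjective x
    exact ⟨γΓ a, by rw [← Scheme.Hom.comp_apply, hγπ]⟩⟩
  have : UniversallyInjective π := by
    refine (UniversallyInjective.iff_diagonal π).mpr ⟨fun w => ?_⟩
    let t := (pullback π π).fromSpecResidueField w
    obtain ⟨L, e, x', hx, hw⟩ : ∃ (L : Scheme.{u}) (e : L ⟶ pullback π π) (x' : L ⟶ pullback p g),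
        (e ≫ pullback.fst π π) ≫ π = x' ≫ pullback.fst p g ∧ w ∈ Set.range e := by
      obtain ⟨z, hz1, -⟩ := Scheme.Pullback.exists_preimage_pullback
        (IsLocalRing.closedPoint _ : Spec ((pullback π π).residueField w))
        (Function.surjInv (pullback.fst p g).surjective
          ((t ≫ pullback.fst π π ≫ π) (IsLocalRing.closedPoint _)))
        (f := t ≫ pullback.fst π π ≫ π) (g := pullback.fst p g)
        (Function.surjInv_eq (pullback.fst p g).surjective _).symm
      refine ⟨_, pullback.fst _ _ ≫ t, pullback.snd (t ≫ pullback.fst π π ≫ π) (pullback.fst p g),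
        ?_, z, ?_⟩
      · rw [Category.assoc, Category.assoc]
        exact pullback.condition
      · rw [Scheme.Hom.comp_apply]; exact Scheme.fromSpecResidueField_apply _ _
    have key : ∀ a : _ ⟶ (Γ : Scheme.{u}), a ≫ π = x' ≫ pullback.fst p g → a ≫ Γ.ι = x' ≫ γ ≫ pr := by
      intro a ha
      let b : _ ⟶ P' := pullback.lift (a ≫ Γ.ι) (x' ≫ pullback.snd p g) (by
        rw [Category.assoc, ← Category.assoc Γ.ι, ← Category.assoc a, ha, Category.assoc,
          Category.assoc, pullback.condition])
      have hb : Set.range b ⊆ Set.range γ := by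
        rintro _ ⟨s, rfl⟩
        rw [← hpre]
        change pr (b s) ∈ pr '' Set.range γ
        rw [← Scheme.Hom.comp_apply, pullback.lift_fst, Scheme.Hom.comp_apply]
        exact (a s).2
      have hx' : IsOpenImmersion.lift γ b hb = x' := by
        rw [← Category.comp_id (IsOpenImmersion.lift γ b hb), ← hγρ, IsOpenImmersion.lift_fac_assoc]
        refine pullback.hom_ext ?_ ?_
        · rw [Category.assoc, hρ1, pullback.lift_fst_assoc, Category.assoc, ← ha]
        · rw [Category.assoc, hρ2, pullback.lift_snd]
      rw [← hx', IsOpenImmersion.lift_fac_assoc, pullback.lift_fst]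
    have h12 : e ≫ pullback.fst π π = e ≫ pullback.snd π π := by
      rw [← cancel_mono Γ.ι]
      rw [key _ hx, key _ (by rw [Category.assoc, ← pullback.condition, ← Category.assoc, hx])]
    obtain ⟨s, rfl⟩ := hw
    refine ⟨(e ≫ pullback.fst π π) s, ?_⟩
    rw [← Scheme.Hom.comp_apply, show (e ≫ pullback.fst π π) ≫ pullback.diagonal π = e by
      refine pullback.hom_ext ?_ ?_
      · rw [Category.assoc, pullback.diagonal_fst, Category.comp_id]
      · rw [Category.assoc, pullback.diagonal_snd, Category.comp_id, h12]]
  have : IsOpenImmersion π := Groth.Agent.S3694.result π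
  have : IsIso π := (isIso_iff_isOpenImmersion_and_surjective _).mpr ⟨inferInstance, inferInstance⟩
  have hu : (inv π ≫ Γ.ι ≫ pullback.snd p q) ≫ q = p := by
    rw [Category.assoc, Category.assoc, ← pullback.condition, IsIso.inv_comp_eq]
    rw [Category.assoc]
  have hu' : f' ≫ pullback.fst q g = pullback.fst p g ≫ inv π ≫ Γ.ι ≫ pullback.snd p q := by
    rw [← hγπ, Category.assoc, IsIso.hom_inv_id_assoc, reassoc_of% hγΓ, reassoc_of% hγ1,
      pullback.lift_snd]
  refine ⟨_, ⟨hu, hu'⟩, fun v hv => ?_⟩
  refine Groth.Agent.S3707.result g p q v _ (by rw [Category.comp_id, hv.1])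
    (by rw [Category.comp_id, hu]) ?_
  refine pullback.hom_ext ?_ ?_
  · rw [pullback.map, pullback.map, pullback.lift_fst, pullback.lift_fst, ← hv.2, hu']
  · rw [pullback.map, pullback.map, pullback.lift_snd, pullback.lift_snd]

end Groth.Agent.S3709
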