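import Groth.Statements.S7473
import Groth.Agent.Lib.Subtrusive.VCover

set_option autoImplicit false
universe u
open HTop

namespace Groth.Agent.S7473

open CategoryTheory CategoryTheory.Limits AlgebraicGeometry in
/-- An fpqc covering of a scheme T is a V covering. (Here an fpqc covering is a family in Mathlib's fpqc
precoverage: flat, jointly surjective, and every affine open of T is the union of the images of
finitely many quasi-compact opens of the members. The further clauses for fppf, syntomic, smooth,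
étale and Zariski coverings follow because those coverings are fpqc coverings; the clause for ph
coverings is the standard ph statement applied over each affine open.) -/
theorem result {T : Scheme.{u}} : ∀ 𝒰 : Scheme.Cover Scheme.fpqcPrecoverage T, HTop.IsVCover 𝒰.toPreZeroHypercover := by
  intro 𝒰 O
  have hmem : 𝒰.toPreZeroHypercover.presieve₀ ∈ Scheme.propQCPrecoverage @Flat T := 𝒰.mem₀
  have hqc : QuasiCompactCover 𝒰.toPreZeroHypercover :=
    Scheme.presieve₀_mem_qcPrecoverage_iff.mp hmem.1
  obtain ⟨n, a, Vs, hVs, hcov⟩ :=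
    QuasiCompactCover.exists_isAffineOpen_of_isCompact 𝒰.toPreZeroHypercover O.2.isCompact
  let F : PreZeroHypercover.{0} (O.1 : Scheme.{u}) :=
    { I₀ := Fin n
      X := fun i => (Vs i : Scheme.{u})
      f := fun i => (𝒰.f (a i)).resLE O.1 (Vs i) (fun x hx => by
        show 𝒰.f (a i) x ∈ (O.1 : Set T)
        rw [← hcov]
        exact Set.mem_iUnion.mpr ⟨i, x, hx, rfl⟩) }
  have : Finite F.I₀ := inferInstanceAs (Finite (Fin n))
  have : IsAffine (O.1 : Scheme.{u}) := O.2
  have hflat : ∀ i, Flat (F.f i) := fun i => by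
    have : Flat (𝒰.f (a i)) := ((Scheme.presieve₀_mem_precoverage_iff _).mp hmem.2).2 (a i)
    exact inferInstanceAs (Flat ((𝒰.f (a i)).resLE O.1 (Vs i) _))
  refine ⟨F, Groth.Agent.Lib.Subtrusive.VCover.isStandardV_of_liftsFam F hVs
    (Groth.Agent.Lib.Subtrusive.VCover.liftsFam_of_flat F hflat fun t => ?_), fun i => ⟨a i, (Vs i).ι, ?_⟩⟩
  · have ht : t.1 ∈ ⋃ i, 𝒰.f (a i) '' (Vs i : Set (𝒰.X (a i))) := hcov.symm ▸ t.2
    obtain ⟨i, x, hx, hxt⟩ := Set.mem_iUnion.mp ht
    refine ⟨i, ⟨x, hx⟩, Subtype.ext ?_⟩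
    refine Eq.trans ?_ hxt
    show (F.f i ≫ O.1.ι) ⟨x, hx⟩ = _
    rw [Scheme.Hom.resLE_comp_ι]
    rfl
  · exact (Scheme.Hom.resLE_comp_ι _ _).symm

end Groth.Agent.S7473
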