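import Groth.Statements.S9006
import Groth.Agent.Lib.Lim.FPDescend
import Groth.Agent.Lib.Lim.Props
import Groth.Agent.Lib.LimSub.Descend
import Groth.Agent.Lib.Subtrusive.VCover

set_option autoImplicit false
universe w u
open HTop

namespace Groth.Agent.S9006

open CategoryTheory CategoryTheory.Limits AlgebraicGeometry in
/-- A standard h covering of an affine scheme written as a cofiltered limit of affine schemes is, up to
isomorphism of families over the limit, the base change of a standard h covering of one of the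
schemes in the system. (The further parts of the published statement, on descending morphisms of
such coverings and equalities between them, are not stated here.) -/
theorem result {I : Type u} [SmallCategory I] [IsCofiltered I] (D : I ⥤ Scheme.{u}) [∀ i, IsAffine (D.obj i)] (c : Cone D) (hc : IsLimit c) [IsAffine c.pt] (V : PreZeroHypercover.{w} c.pt) (hV : HTop.IsStandardH V) : ∃ (i : I) (W : PreZeroHypercover.{w} (D.obj i)), HTop.IsStandardH W ∧ ∃ (σ : V.I₀ ≃ W.I₀) (e : ∀ j, V.X j ≅ pullback (c.π.app i) (W.f (σ j))), ∀ j, (e j).hom ≫ pullback.fst (c.π.app i) (W.f (σ j)) = V.f j := by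
  classical
  have := hV.finite_index
  have := hV.isAffine_obj
  have := hV.finitePresentation
  have := Fintype.ofFinite V.I₀
  choose i₀ Xi fi gi hXc hXq hfi hsq using fun j =>
    Groth.Agent.Lib.Lim.FPDescend.exists_descent hc (V.f j)
  choose i₁ φ₁ haff using fun j =>
    Groth.Agent.Lib.Lim.Props.isAffineHom_descends D c hc (fun _ _ g => inferInstance) (i₀ j)
      inferInstance inferInstance (fi j) (hXc j) (hXq j) trivial (V.f j) (gi j) (hsq j) inferInstance
  obtain ⟨i₂, hi₂⟩ := IsCofiltered.inf_objs_exists (Finset.univ.image i₁)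
  have ψ : ∀ j, Nonempty (i₂ ⟶ i₁ j) := fun j => hi₂ (Finset.mem_image_of_mem i₁ (Finset.mem_univ j))
  let Z := fun j => pullback (pullback.snd (fi j) (D.map (φ₁ j))) (D.map (ψ j).some)
  let z : ∀ j, Z j ⟶ D.obj i₂ := fun j => pullback.snd _ _
  have hz : ∀ j, IsAffineHom (z j) := fun j => by
    have := haff j
    exact inferInstanceAs (IsAffineHom (pullback.snd (pullback.snd (fi j) (D.map (φ₁ j))) _))
  have hzl : ∀ j, LocallyOfFinitePresentation (z j) := fun j =>
    inferInstanceAs (LocallyOfFinitePresentation (pullback.snd (pullback.snd (fi j) (D.map (φ₁ j))) _))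
  have hZ : ∀ j, IsAffine (Z j) := fun j => isAffine_of_isAffineHom (z j)
  have hsq₂ := fun j => Groth.Agent.Lib.Lim.FPDescend.move (c := c)
    (Groth.Agent.Lib.Lim.FPDescend.move (c := c) (hsq j) (φ₁ j)) (ψ j).some
  let f₀ : ∐ Z ⟶ D.obj i₂ := Sigma.desc z
  have : LocallyOfFinitePresentation f₀ := IsZariskiLocalAtSource.sigmaDesc hzl
  have hlim : Subtr.UnivSSubtrusive (pullback.snd f₀ (c.π.app i₂)) := by
    refine Groth.Agent.Lib.Subtrusive.Criterion.univSSubtrusive_of_hasLifts fun Vr _ _ _ g => ?_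
    obtain ⟨R, iC, iD, iV, j, a, b, hb, hab⟩ :=
      Groth.Agent.Lib.Subtrusive.VCover.liftsFam_of_isVCover hV.isVCover Vr g
    let q : V.X j ⟶ Z j := pullback.lift (pullback.lift (gi j) (V.f j ≫ c.π.app (i₁ j))
        (by rw [Category.assoc, c.w, (hsq j).w]))
      (V.f j ≫ c.π.app i₂) (by rw [pullback.lift_snd, Category.assoc, c.w])
    have hq : q ≫ z j = V.f j ≫ c.π.app i₂ := pullback.lift_snd _ _ _
    refine ⟨R, iC, iD, iV, pullback.lift (a ≫ q ≫ Sigma.ι Z j) (b ≫ g) ?_, b, hb,
      pullback.lift_snd _ _ _⟩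
    simp only [f₀, Category.assoc, Sigma.ι_desc]
    rw [hq, reassoc_of% hab]
  obtain ⟨i₃, θ, hθ⟩ := Groth.Agent.Lib.LimSub.Descend.univSSubtrusive_descendsAffine D c hc
    (fun _ => inferInstance) (fun _ _ g => inferInstance) i₂ f₀ inferInstance inferInstance ‹_›
    (pullback.snd f₀ (c.π.app i₂)) (pullback.fst _ _) (IsPullback.of_hasPullback _ _) hlim
  let W : PreZeroHypercover.{w} (D.obj i₃) :=
    { I₀ := V.I₀, X := fun j => pullback (z j) (D.map θ), f := fun j => pullback.snd _ _ }
  have : Finite W.I₀ := hV.finite_index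
  have hWa : ∀ j, IsAffine (W.X j) := fun j => inferInstanceAs (IsAffine (pullback (z j) (D.map θ)))
  have hWl : Groth.Agent.Lib.Subtrusive.VCover.LiftsFam W := by
    intro Vr _ _ _ g
    obtain ⟨R, iC, iD, iV, a, b, hb, hab⟩ :=
      Groth.Agent.Lib.Subtrusive.Criterion.univSSubtrusive_iff_hasLifts.mp hθ Vr g
    obtain ⟨j, y, hy⟩ := (sigmaOpenCover Z).exists_eq
      ((a ≫ pullback.fst f₀ (D.map θ)) (Groth.Agent.Lib.Subtrusive.Valuation.clPt R))
    obtain ⟨a', ha'⟩ := Groth.Agent.Lib.Subtrusive.VCover.exists_factor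
      (a ≫ pullback.fst f₀ (D.map θ)) (Sigma.ι Z j) ⟨y, hy⟩
    refine ⟨R, iC, iD, iV, j, pullback.lift a' (b ≫ g) ?_, b, hb, pullback.lift_snd _ _ _⟩
    rw [← hab, ← Sigma.ι_desc z j, reassoc_of% ha', Category.assoc, pullback.condition]
  have hWs : HTop.IsStandardV W :=
    Groth.Agent.Lib.Subtrusive.VCover.isStandardV_of_liftsFam W hWa hWl
  refine ⟨i₃, W, ⟨inferInstance, inferInstance, hWa, fun j =>
    inferInstanceAs (LocallyOfFinitePresentation (pullback.snd (z j) (D.map θ))), ?_⟩,
    Equiv.refl _, fun j => ((Groth.Agent.Lib.Lim.FPDescend.move (c := c) (hsq₂ j) θ).flip).isoPullback,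
    fun j => IsPullback.isoPullback_hom_fst _⟩
  exact Groth.Agent.Lib.Subtrusive.VCover.isVCover_of_exists fun U => by
    have : IsAffine (U.1 : Scheme.{u}) := U.2
    exact ⟨W.pullback₁ U.1.ι, Groth.Agent.Lib.Subtrusive.VCover.isStandardV_pullback₁ _ hWs,
      fun j => ⟨j, pullback.snd U.1.ι (W.f j), pullback.condition.symm⟩⟩

end Groth.Agent.S9006
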