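import Groth.Statements.S7478
import Mathlib.AlgebraicGeometry.PullbackCarrier
import Mathlib.AlgebraicGeometry.Limits

set_option autoImplicit false
universe w u
open HTop

namespace Groth.Agent.S7478

open CategoryTheory CategoryTheory.Limits AlgebraicGeometry in
/-- The base change of a standard ph covering along a morphism of affine schemes T' -> T is a standard
ph covering of T'. -/
theorem result {T T' : Scheme.{u}} [IsAffine T'] (g : T' ⟶ T) (E : PreZeroHypercover.{w} T) (hE : HTop.IsStandardPh E) : HTop.IsStandardPh (E.pullback₁ g) := by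
  obtain ⟨U, f, ι, hf, hfs, hι, hιf, hcov⟩ := hE.exists_proper
  have := hE.isAffine
  let ι' : ∀ j, pullback g (E.f j) ⟶ pullback g f := fun j =>
    pullback.lift (pullback.fst g (E.f j)) (pullback.snd g (E.f j) ≫ ι j)
      (by rw [Category.assoc, hιf, pullback.condition])
  have hsq : ∀ j, IsPullback (ι' j) (pullback.snd g (E.f j)) (pullback.snd g f) (ι j) := fun j =>
    IsPullback.of_right (h₁₁ := ι' j) (by
      simp only [ι', pullback.lift_fst, hιf]
      exact (IsPullback.of_hasPullback g (E.f j)))
      (pullback.lift_snd _ _ _) (IsPullback.of_hasPullback g f)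
  refine ⟨inferInstance, hE.finite_index, fun j => ?_, pullback g f, pullback.fst g f, ι',
    inferInstance, inferInstance, fun j => ?_, fun j => pullback.lift_fst _ _ _, fun x => ?_⟩
  · have := hE.isAffine_obj j
    exact inferInstanceAs (IsAffine (pullback g (E.f j)))
  · exact MorphismProperty.of_isPullback (hsq j).flip (hι j)
  · obtain ⟨j, a, ha⟩ := hcov (pullback.snd g f x)
    obtain ⟨z, hz, -⟩ := Scheme.Pullback.exists_preimage_pullback (f := pullback.snd g f) (g := ι j)
      x a ha.symm
    refine ⟨j, (hsq j).isoPullback.inv z, ?_⟩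
    show ι' j _ = x
    rw [← Scheme.Hom.comp_apply, IsPullback.isoPullback_inv_fst]
    exact hz

end Groth.Agent.S7478
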