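import Groth.Statements.S8976
import Groth.Agent.Lib.HTopSheaf.ModelAffine
import Groth.Agent.Lib.HTopSheaf.Ph
import Groth.Agent.S7468

set_option autoImplicit false
universe w u
open HTop

namespace Groth.Agent.S8976

open CategoryTheory CategoryTheory.Limits AlgebraicGeometry in
/-- For a family of morphisms of schemes with fixed target all of whose members are locally of finite
presentation, being a ph covering is equivalent to being a V covering. -/
theorem result {X : Scheme.{u}} (E : PreZeroHypercover.{w} X) (hE : ∀ i, LocallyOfFinitePresentation (E.f i)) : HTop.IsPhCover E ↔ HTop.IsVCover E := by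
  refine ⟨fun h O => ?_, fun h => ⟨fun i => ?_, fun O => ?_⟩⟩
  · obtain ⟨F, hF, hr⟩ := h.2 O
    exact ⟨F, Groth.Agent.S7468.result F hF, hr⟩
  · have := hE i
    infer_instance
  · have : IsAffine (O.1 : Scheme.{u}) := O.2
    have hH : HTop.IsHCover (E.pullback₁ O.1.ι) := ⟨fun i => by
      have := hE i
      exact inferInstanceAs (LocallyOfFinitePresentation (pullback.fst O.1.ι (E.f i))),
      Groth.Agent.Lib.Subtrusive.VCover.isVCover_pullback₁ _ h⟩
    obtain ⟨Y, g, hg, hgs, -, hloc⟩ := Groth.Agent.Lib.HTopSheaf.ModelAffine.exists_model _ hH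
    refine Groth.Agent.Lib.HTopSheaf.Ph.exists_standard_of_locally g O.1.ι E fun y => ?_
    obtain ⟨U, hy, i, k, hk⟩ := hloc y
    let k' : (U : Scheme.{u}) ⟶ pullback O.1.ι (E.f i) := k
    have hk' : k' ≫ pullback.fst O.1.ι (E.f i) = U.ι ≫ g := hk
    exact ⟨U, hy, i, k' ≫ pullback.snd _ _, by
      rw [Category.assoc, ← pullback.condition, reassoc_of% hk']⟩

end Groth.Agent.S8976
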