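import Groth.Statements.S7190
import Groth.Agent.S7473
import Groth.Agent.S8976

set_option autoImplicit false
universe w u
open FlatMor

namespace Groth.Agent.S7190

open AlgebraicGeometry CategoryTheory Limits in
/-- An fppf covering {T_i → T} of schemes (flat, locally of finite presentation, jointly surjective) is
a ph covering. -/
theorem result {T : Scheme.{u}} (E : PreZeroHypercover.{w} T)
    (hflat : ∀ i, Flat (E.f i)) (hfp : ∀ i, LocallyOfFinitePresentation (E.f i))
    (hsurj : ∀ t : T, ∃ (i : E.I₀) (x : E.X i), E.f i x = t) : HTop.IsPhCover E := by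
  have h1 : E.presieve₀ ∈ Scheme.fppfPrecoverage T := by
    show Presieve.ofArrows _ _ ∈ Scheme.precoverage _ T
    rw [Scheme.ofArrows_mem_precoverage_iff]
    exact ⟨hsurj, fun i => ⟨hflat i, hfp i⟩⟩
  have h2 : E.presieve₀ ∈ Scheme.fpqcPrecoverage T := Scheme.fppfPrecoverage_le_fpqcPrecoverage T h1
  exact (Groth.Agent.S8976.result E hfp).mpr (Groth.Agent.S7473.result ⟨E, h2⟩)

end Groth.Agent.S7190
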