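import Groth.Statements.S10293
import Groth.Agent.Lib.AffThick.DeformProp
import Groth.Agent.Lib.AlgSpMor.RepDescent

set_option autoImplicit false
universe u
open CategoryTheory CategoryTheory.Limits AlgebraicGeometry
open AlgSp

namespace Groth.Agent.S10293

/-- (3) ⇒ (1): being finite locally free descends along a surjective etale base change from a scheme. -/
theorem result {S : Scheme.{u}} {X Y : AlgSp.Space S} (f : X ⟶ Y) (V : Over S)
    (p : (AlgSp.yon S).obj V ⟶ Y.obj) (hp : AlgSp.RepWith @Etale p) (hps : AlgSp.RepWith @Surjective p)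
    {P : AlgSp.Sp S} (fst : P ⟶ X.obj) (snd : P ⟶ (AlgSp.yon S).obj V) (sq : IsPullback fst snd f.hom p)
    (h : AlgSp.IsFinLocFreeMor snd) : AlgSp.IsFinLocFreeMor f.hom := by
  rw [Groth.Agent.Lib.AffThick.DeformProp.isFinLocFreeMor_iff_props (IsAlgSpace.yon_obj V)] at h
  rw [Groth.Agent.Lib.AffThick.DeformProp.isFinLocFreeMor_iff_props Y.property]
  obtain ⟨h₁, h₂, h₃⟩ := h
  haveI := Groth.Agent.Lib.AlgSpMor.AffineDescent.isLocalAtTarget_isFinite.{u}
  refine ⟨Groth.Agent.Lib.AlgSpMor.AffineDescent.isFiniteMor_iff.2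
    (Groth.Agent.Lib.AlgSpMor.RepDescent.repWith_of_cover @IsFinite
      Groth.Agent.Lib.AlgSpMor.AffineDescent.effective_isFinite Y.property.diag hp hps sq
      (Groth.Agent.Lib.AlgSpMor.AffineDescent.isFiniteMor_iff.1 h₁)), ?_, ?_⟩
  · exact Groth.Agent.Lib.AlgSpMor.LocP.locP_of_isPullback_of_cover
      Groth.Agent.Lib.SourceDescent.Scheme.flat X.property Y.property hp hps sq h₂
  · exact Groth.Agent.Lib.AlgSpMor.LocP.locP_of_isPullback_of_cover
      Groth.Agent.Lib.SourceDescent.Scheme.locallyOfFinitePresentation X.property Y.property hp hps sq h₃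

end Groth.Agent.S10293
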