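import Groth.Statements.S8525
import Groth.Agent.Lib.EtSite.Pull
import Groth.Agent.Lib.EtSite.Fiber

set_option autoImplicit false
universe u
open CategoryTheory CategoryTheory.Limits AlgebraicGeometry Opposite
open EtAcyc

namespace Groth.Agent.S8525

/-- Let L be a set of primes and F an abelian sheaf on the small etale site of a scheme X. Then F is an
L-torsion sheaf if and only if for every geometric point ξ of X every element of the stalk F_ξ is
killed by a positive integer all of whose prime factors lie in L. -/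
theorem result {X : Scheme.{u}} (L : Set ℕ) (F : EtCoh.Ab X) :
    EtAcyc.IsLTorsion L F ↔
      ∀ (Ω : Type u) [Field Ω] [IsSepClosed Ω] (ξ : Spec (CommRingCat.of Ω) ⟶ X)
        (t : (EtCoh.stalk ξ).obj F), ∃ m : ℕ, EtAcyc.PrimesIn L m ∧ m • t = 0 := by
  constructor
  · intro h Ω _ _ ξ t
    obtain ⟨U, p, s, rfl⟩ := (Scheme.pointSmallEtale ξ).toPresheafFiber_jointly_surjective t
    obtain ⟨V, g, m, ⟨v, hv⟩, hm, hs⟩ := h U s (Groth.Agent.Lib.EtSite.Basic.fiberPt p)
    refine ⟨m, hm, ?_⟩
    obtain ⟨q, hq, -⟩ := Groth.Agent.Lib.EtSite.Fiber.exists_fiber_map ξ g p v hv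
    rw [← hq]
    erw [← GrothendieckTopology.Point.toPresheafFiber_w_apply, ← map_nsmul, hs]
    exact map_zero _
  · intro h U s x
    obtain ⟨p, hp⟩ := Groth.Agent.Lib.EtSite.Basic.exists_fiber_geomPoint U x
    obtain ⟨m, hm, ht⟩ := h _ _ ((Scheme.pointSmallEtale _).toPresheafFiber U p F.obj s)
    have h0 : (Scheme.pointSmallEtale _).toPresheafFiber U p F.obj (m • s) =
        (Scheme.pointSmallEtale _).toPresheafFiber U p F.obj 0 := by
      rw [map_nsmul, map_zero]
      exact ht
    obtain ⟨V, g, q, hq, e⟩ := ((Scheme.pointSmallEtale _).toPresheafFiber_eq_iff' U p _ _).1 h0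
    refine ⟨V, g, m, ⟨Groth.Agent.Lib.EtSite.Basic.fiberPt q, ?_⟩, hm, ?_⟩
    · exact (Groth.Agent.Lib.EtSite.Basic.fiberPt_map g q).symm.trans
        ((congrArg Groth.Agent.Lib.EtSite.Basic.fiberPt hq).trans hp)
    · simpa using e

end Groth.Agent.S8525
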