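import Groth.Statements.S3513
import Groth.Agent.S8525
import Groth.Agent.S0642
import Groth.Agent.H61.HpullFunct
import Groth.Agent.Lib.EtSite.Pull
import Groth.Agent.Lib.EtSite.UnitStalk

set_option autoImplicit false
universe u
open CategoryTheory CategoryTheory.Limits AlgebraicGeometry Opposite
open EtAcyc

namespace Groth.Agent.S3513

noncomputable section

open Groth.Agent.Lib.EtSite

theorem isLTorsion_pull {X Y : Scheme.{u}} (f : X ⟶ Y) (L : Set ℕ) (F : EtCoh.Ab Y)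
    (hF : IsLTorsion L F) : IsLTorsion L ((EtCoh.pull f).obj F) := by
  refine (S8525.result L _).2 fun Ω _ _ ξ t => ?_
  let e := (((Pull.stalkPull f ξ).app F).addCommGroupIsoToAddEquiv)
  obtain ⟨m, hm, h0⟩ := (S8525.result L F).1 hF Ω (ξ ≫ f) (e t)
  exact ⟨m, hm, e.injective (((map_nsmul e m t).trans h0).trans (map_zero e).symm)⟩

theorem Hpull_comp_bijective {X Y Z : Scheme.{u}} (u : X ⟶ Y) (t : Y ⟶ Z) (F : EtCoh.Ab Z) (q : ℕ)
    (hu : Function.Injective (EtCore.Hpull u ((EtCoh.pull t).obj F) q)) :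
    (Function.Injective (EtCore.Hpull (u ≫ t) F q) ↔ Function.Injective (EtCore.Hpull t F q)) ∧
      (Function.Surjective (EtCore.Hpull u ((EtCoh.pull t).obj F) q) →
        (Function.Bijective (EtCore.Hpull (u ≫ t) F q) ↔ Function.Bijective (EtCore.Hpull t F q))) := by
  let β := ((EtCoh.HF X q).mapIso (((EtCore.pullComp u t).symm ≪≫
    EtCore.pullCongr (rfl : u ≫ t = u ≫ t)).app F)).addCommGroupIsoToAddEquiv
  have h : ⇑(EtCore.Hpull (u ≫ t) F q) =
      (⇑β ∘ ⇑(EtCore.Hpull u ((EtCoh.pull t).obj F) q)) ∘ ⇑(EtCore.Hpull t F q) :=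
    funext fun e => (H61.HpullFunct.HpullVia_Hpull u t (u ≫ t) rfl F q e).symm
  rw [h]
  refine ⟨⟨fun i => i.of_comp, fun i => (β.injective.comp hu).comp i⟩, fun hs => ?_⟩
  exact Function.Bijective.of_comp_iff' (β.bijective.comp ⟨hu, hs⟩) _

theorem compN_iff {X Y Z : Scheme.{u}} (u : X ⟶ Y) (t : Y ⟶ Z) (L : Set ℕ) (n : ℕ)
    (hu : CompN u L n) : CompN (u ≫ t) L n ↔ CompN t L n := by
  constructor
  · intro h F hF _
    obtain ⟨hb, hi⟩ := hu _ (isLTorsion_pull t L F hF)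
    exact ⟨fun q hq => ((Hpull_comp_bijective u t F q (hb q hq).1).2 (hb q hq).2).1 ((h F hF).1 q hq),
      (Hpull_comp_bijective u t F (n + 1) hi).1.1 (h F hF).2⟩
  · intro h F hF _
    obtain ⟨hb, hi⟩ := hu _ (isLTorsion_pull t L F hF)
    exact ⟨fun q hq => ((Hpull_comp_bijective u t F q (hb q hq).1).2 (hb q hq).2).2 ((h F hF).1 q hq),
      (Hpull_comp_bijective u t F (n + 1) hi).1.2 (h F hF).2⟩

theorem compN_of_isIso {X Y : Scheme.{u}} (u : X ⟶ Y) [IsIso u] (L : Set ℕ) (n : ℕ) : CompN u L n :=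
  fun F _ _ => ⟨fun q _ => S0642.result u F q, (S0642.result u F (n + 1)).1⟩

theorem isIso_unit_of_isIso {X Y : Scheme.{u}} (u : X ⟶ Y) [IsIso u] (F : EtDesc.Sh Y) :
    IsIso ((EtDesc.adjSh u).unit.app F) := by
  refine Stalk.isIso_of_stalks _ fun y => ?_
  refine ⟨_, inferInstance, inferInstance, Push.algPoint Y y, Push.algPoint_apply Y y default, ?_⟩
  generalize Push.algPoint Y y = η
  obtain ⟨ξ, rfl⟩ : ∃ ξ, ξ ≫ u = η := ⟨η ≫ inv u, by simp⟩
  have h := PushStalk.germTo_bijective u (A := Type (u + 1)) (ξ ≫ u) ((EtDesc.pullSh u).obj F)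
  have hg : Function.Bijective ((PushStalk.germTo u (Type (u + 1)) (rfl : ξ ≫ u = ξ ≫ u)).app
      ((EtDesc.pullSh u).obj F)) := by
    refine ⟨fun a b e => h.1 (funext fun ξ' => ?_), fun z => ?_⟩
    · obtain ⟨ξ', hξ'⟩ := ξ'
      obtain rfl : ξ' = ξ := (cancel_mono u).1 hξ'
      exact e
    · obtain ⟨x, hx⟩ := h.2 fun ξ' => cast (congrArg (fun r =>
        ToType ((Scheme.pointSmallEtale r).sheafFiber.obj ((EtDesc.pullSh u).obj F)))
        ((cancel_mono u).1 ξ'.2).symm) z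
      exact ⟨x, congrFun hx ⟨ξ, rfl⟩⟩
  have := UnitStalk.isIso_unitStalk u ξ (Type (u + 1)) F
  have hb := (ConcreteCategory.isIso_iff_bijective (UnitStalk.unitStalk u ξ (Type (u + 1)) F)).1 this
  refine (Function.Bijective.of_comp_iff' hg _).1 ?_
  exact hb

theorem unitsIso_iff {X Y Z : Scheme.{u}} (u : X ⟶ Y) (t : Y ⟶ Z)
    (hu : ∀ G : EtDesc.Sh Y, IsIso ((EtDesc.adjSh u).unit.app G)) (F : EtDesc.Sh Z) :
    IsIso ((EtDesc.adjSh (u ≫ t)).unit.app F) ↔ IsIso ((EtDesc.adjSh t).unit.app F) := by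
  let adj := ((EtDesc.adjSh t).comp (EtDesc.adjSh u)).ofNatIsoRight (EtDesc.pushCompSh t u)
  have h := Adjunction.unit_leftAdjointUniq_hom_app adj (EtDesc.adjSh (u ≫ t)) F
  have hadj : adj.unit.app F = (EtDesc.adjSh t).unit.app F ≫
      ((EtDesc.pushSh t).map ((EtDesc.adjSh u).unit.app ((EtDesc.pullSh t).obj F)) ≫
        (EtDesc.pushCompSh t u).hom.app _) := by
    simp [adj, Adjunction.ofNatIsoRight, Adjunction.comp]
  rw [hadj] at h
  have := hu ((EtDesc.pullSh t).obj F)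
  constructor
  · intro hi
    have h1 := IsIso.of_isIso_fac_right h
    exact IsIso.of_isIso_fac_right (rfl : (EtDesc.adjSh t).unit.app F ≫
      ((EtDesc.pushSh t).map ((EtDesc.adjSh u).unit.app ((EtDesc.pullSh t).obj F)) ≫
        (EtDesc.pushCompSh t u).hom.app _) = _)
  · intro hi
    rw [← h]
    infer_instance

theorem prj_comp {X Y Z : Scheme.{u}} (g : X ⟶ Y) (h : Y ⟶ Z) (W : Z.Etale) :
    (pullbackLeftPullbackSndIso W.hom h g).hom ≫ prj (g ≫ h) W =
      prj g ((EtCoh.bc h).obj W) ≫ prj h W :=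
  pullbackLeftPullbackSndIso_hom_fst _ _ _


/-- Last assertion, abelian and sets cases: let g : X → Y and h : Y → Z be morphisms of schemes, L a set
of primes and n a natural number. If g is n-acyclic for L, then h is n-acyclic for L if and only if
g ≫ h is; if g is 0-acyclic, then h is 0-acyclic if and only if g ≫ h is. -/
theorem result {X Y Z : Scheme.{u}} (g : X ⟶ Y) (h : Y ⟶ Z) (L : Set ℕ) (n : ℕ) :
    (EtAcyc.IsAcyclicN g L n → (EtAcyc.IsAcyclicN h L n ↔ EtAcyc.IsAcyclicN (g ≫ h) L n)) ∧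
      (EtAcyc.IsZeroAcyclic g → (EtAcyc.IsZeroAcyclic h ↔ EtAcyc.IsZeroAcyclic (g ≫ h))) := by
  constructor
  · intro hg
    refine forall_congr' fun W => ?_
    have h1 := compN_iff (prj g ((EtCoh.bc h).obj W)) (prj h W) L n (hg _)
    rw [← prj_comp] at h1
    exact h1.symm.trans (compN_iff _ _ L n (compN_of_isIso _ L n))
  · intro hg
    refine forall_congr' fun W => forall_congr' fun F => ?_
    have h1 := unitsIso_iff (prj g ((EtCoh.bc h).obj W)) (prj h W) (hg _) F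
    rw [← prj_comp] at h1
    exact h1.symm.trans (unitsIso_iff _ _ (isIso_unit_of_isIso _) F)

end

end Groth.Agent.S3513
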