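import Groth.Statements.S14622
import Groth.Agent.Lib.EtSite.Pull

set_option autoImplicit false
open CategoryTheory AlgebraicGeometry
universe u
open EtBase

namespace Groth.Agent.S14622

/-- Let g : Y' → Y be a morphism of schemes which is surjective on points. Then for every abelian sheaf
F on the small étale site of Y the unit F → g_* g⁻¹ F of the adjunction between inverse image and
direct image is a monomorphism. -/
theorem result {Y Y' : Scheme.{u}} (g : Y' ⟶ Y) [Surjective g]
    (F : EtCoh.Ab Y) : Mono ((EtCoh.pullPushAdj g).unit.app F) := by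
  refine Groth.Agent.Lib.EtSite.Stalk.mono_of_stalks _ fun y => ?_
  obtain ⟨x, rfl⟩ := g.surjective y
  let ξ := Groth.Agent.Lib.EtSite.Basic.geomPoint Y' x
  refine ⟨_, inferInstance, inferInstance, ξ ≫ g, ?_, ?_⟩
  · rw [Scheme.Hom.comp_apply, Groth.Agent.Lib.EtSite.Basic.geomPoint_apply]
  · have h1 : IsSplitMono ((EtCoh.pull g).map ((EtCoh.pullPushAdj g).unit.app F)) :=
      IsSplitMono.mk' ⟨_, (EtCoh.pullPushAdj g).left_triangle_components F⟩
    have h2 : Mono ((EtCoh.stalk (ξ ≫ g)).map ((EtCoh.pullPushAdj g).unit.app F)) :=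
      ((MorphismProperty.monomorphisms _).arrow_mk_iso_iff
        (((Functor.mapArrowFunctor _ _).mapIso (Groth.Agent.Lib.EtSite.Pull.stalkPull g ξ)).app
          (Arrow.mk ((EtCoh.pullPushAdj g).unit.app F)))).1
        (inferInstanceAs (Mono ((EtCoh.stalk ξ).map
          ((EtCoh.pull g).map ((EtCoh.pullPushAdj g).unit.app F)))))
    exact (AddCommGrpCat.mono_iff_injective _).1 h2

end Groth.Agent.S14622
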