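import Groth.Statements.S8560
import Groth.Agent.H88.EtMod.TorsionCoh
import Groth.Agent.Lib.EtSite.FiniteEtaleTransfer
import Groth.Agent.Lib.DerCat.RFObj

set_option autoImplicit false
universe u
open CategoryTheory CategoryTheory.Limits AlgebraicGeometry Opposite
open EtAcyc

namespace Groth.Agent.S8560

/-- For the etale sites of schemes and a set of primes L: if f : X ⟶ Y is a quasi-compact and
quasi-separated morphism of schemes and F is an abelian L-torsion sheaf on the small etale site of X
(every section is, etale-locally around each point, killed by a positive integer all of whose prime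
factors lie in L), then each higher direct image R^q f_* F is an L-torsion sheaf on Y. (The
published statement, for topoi, asks only that the morphism be quasi-compact; this row also assumes
f quasi-separated: for the spectrum of a polynomial ring in countably many variables over a
separably closed field glued to a copy of itself along the complement of the origin, and the direct
sum of the skyscraper sheaves ℤ/pⁿ at the points where exactly the n-th variable is 1, the structure
morphism to the field is quasi-compact but H¹ contains a class of infinite order.) -/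
theorem result {X Y : Scheme.{u}} (f : X ⟶ Y) [QuasiCompact f] [QuasiSeparated f]
    [EtCoh.BCCont f] (L : Set ℕ) (F : EtCoh.Ab X) (hF : EtAcyc.IsLTorsion L F) (q : ℕ) :
    EtAcyc.IsLTorsion L ((EtCoh.Rpush f q).obj F) := by
  have hT : EtCoh.IsTorsion F := fun U s x => by
    obtain ⟨V, g, m, hv, hm, hs⟩ := hF U s x
    exact ⟨V, g, hv, isOfFinAddOrder_iff_nsmul_eq_zero.2 ⟨m, hm.1, hs⟩⟩
  intro U s x
  obtain ⟨V, g, hv, hfin⟩ := Groth.Agent.H88.EtMod.TorsionCoh.isTorsion_rpush (f := f) F hT q U s x
  obtain ⟨m, hm0, hm⟩ := isOfFinAddOrder_iff_nsmul_eq_zero.1 hfin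
  suffices key : ∀ (m : ℕ) (t : EtCoh.sect ((EtCoh.Rpush f q).obj F) V), 0 < m → m • t = 0 →
      ∃ n, EtAcyc.PrimesIn L n ∧ n • t = 0 by
    obtain ⟨n, hn, hn'⟩ := key m _ hm0 hm
    exact ⟨V, g, n, hv, hn, hn'⟩
  intro m
  induction m using Nat.strong_induction_on with
  | _ m ih =>
  intro t hm0 hm
  by_cases hL : ∀ l : ℕ, l.Prime → l ∣ m → l ∈ L
  · exact ⟨m, ⟨hm0, hL⟩, hm⟩
  · push Not at hL
    obtain ⟨l, hl, ⟨k, rfl⟩, hlL⟩ := hL
    have hiso := Groth.Agent.Lib.EtSite.FiniteEtaleTransfer.isIso_nsmul L l
      (fun p hp hpL hpd => hlL ((Nat.prime_dvd_prime_iff_eq hp hl).1 hpd ▸ hpL)) F hF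
    have hiso' : IsIso (l • 𝟙 ((EtCoh.Rpush f q).obj F)) := by
      haveI : (EtCoh.Rpush f q).Additive :=
        Groth.Agent.Lib.DerCat.RFObj.additive_rightDerived (EtCoh.push f) q
      have h : (EtCoh.Rpush f q).map (l • 𝟙 F) = l • 𝟙 ((EtCoh.Rpush f q).obj F) := by
        rw [Functor.map_nsmul, CategoryTheory.Functor.map_id]
      exact h ▸ inferInstance
    have happ : ∀ (a : ℕ) (y : EtCoh.sect ((EtCoh.Rpush f q).obj F) V),
        (a • 𝟙 ((EtCoh.Rpush f q).obj F)).hom.app (op V) y = a • y := fun a y => by
      induction a with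
      | zero => simp
      | succ a ih => rw [succ_nsmul, succ_nsmul, ← ih]; rfl
    have hk0 : 0 < k := Nat.pos_of_ne_zero fun h => by simp [h] at hm0
    refine ih k ((Nat.lt_mul_iff_one_lt_left hk0).2 hl.one_lt) t hk0 ?_
    have : IsIso ((sheafToPresheaf Y.smallEtaleTopology AddCommGrpCat.{u + 1}).map
        (l • 𝟙 ((EtCoh.Rpush f q).obj F))) := inferInstance
    refine ((ConcreteCategory.bijective_of_isIso ((asIso ((sheafToPresheaf Y.smallEtaleTopology
      AddCommGrpCat.{u + 1}).map (l • 𝟙 ((EtCoh.Rpush f q).obj F)))).app (op V)).hom).1 ?_)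
    refine (happ l (k • t)).trans ?_
    rw [← mul_nsmul', hm, map_zero]

end Groth.Agent.S8560
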