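import Groth.Statements.S16462
import Groth.Agent.Lib.CohDelta.AffEdge
import Groth.Agent.Lib.CohDelta.Syzygy

set_option autoImplicit false
universe u
open Coherent

namespace Groth.Agent.S16462

open CategoryTheory AlgebraicGeometry AlgebraicGeometry.Scheme.Modules in
/-- Let f : X → Y be a quasi-compact quasi-separated morphism of schemes, g : Y → Z an affine morphism
and M a quasi-coherent O_X-module. Then for every p ≥ 0 the canonical edge morphism R^p (g ∘ f)_* M
→ g_*(R^p f_* M) is an isomorphism (higher direct images as right derived functors of direct image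
on O-modules). (The published statement assumes f separated; this row assumes only f
quasi-separated.) -/
theorem result {X Y Z : Scheme.{u}} (f : X ⟶ Y) (g : Y ⟶ Z)
    [QuasiCompact f] [QuasiSeparated f] [IsAffineHom g] [HasInjectiveResolutions X.Modules]
    (M : X.Modules) [Coh.IsQCoh M] (p : ℕ) :
    IsIso (CohBC.lerayEdgeOut f g p M) := by
  haveI : Limits.PreservesLimitsOfSize.{0, 0} (pushforward f) :=
    (pullbackPushforwardAdjunction f).rightAdjoint_preservesLimits
  haveI : Limits.PreservesFiniteLimits (pushforward f) :=
    Limits.PreservesLimitsOfSize.preservesFiniteLimits _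
  haveI : Limits.PreservesLimitsOfSize.{0, 0} (pushforward g) :=
    (pullbackPushforwardAdjunction g).rightAdjoint_preservesLimits
  haveI : Limits.PreservesFiniteLimits (pushforward g) :=
    Limits.PreservesLimitsOfSize.preservesFiniteLimits _
  have h : IsIso (RDer.homologyComparison (pushforward g)
      (((pushforward f).mapHomologicalComplex (ComplexShape.up ℕ)).obj
        (injectiveResolution M).cocomplex) p) := by
    cases p with
    | zero =>
      exact Groth.Agent.Lib.CohDelta.HCmp.isIso_homologyComparison_of_d_eq_zero _ _ 0
        (HomologicalComplex.shape _ _ _ (by simp))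
    | succ p =>
      haveI : (Groth.Agent.Lib.CohDelta.Syzygy.Z (injectiveResolution M) 0).IsQuasicoherent :=
        ObjectProperty.prop_of_iso (SheafOfModules.isQuasicoherent (R := X.ringCatSheaf))
          (Groth.Agent.Lib.CohDelta.Syzygy.augIso (injectiveResolution M)) ‹Coh.IsQCoh M›
      exact Groth.Agent.Lib.CohDelta.AffEdge.isIso_homologyComparison_succ f g
        (injectiveResolution M) p
  unfold CohBC.lerayEdgeOut RDer.edgeOut
  exact @IsIso.comp_isIso _ _ _ _ _ _ _ inferInstance
    (@IsIso.comp_isIso _ _ _ _ _ _ _ inferInstance
      (@IsIso.comp_isIso _ _ _ _ _ _ _ h inferInstance))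

end Groth.Agent.S16462
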