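import Groth.Statements.S0003
import Groth.Agent.H78.FormalFun.Main
import Groth.Agent.S0002

set_option autoImplicit false
universe u
open Formal

namespace Groth.Agent.S0003

open CategoryTheory AlgebraicGeometry in
/-- The Theorem on formal functions over a complete base: let A be a Noetherian ring complete with
respect to an ideal I, X a scheme proper over Spec A and M a coherent O_X-module. Then for every p
the canonical map from H^p(X, M) to the inverse limit of the groups H^p(X, M/I^nM) is bijective.
(The general Theorem on formal functions allows any Noetherian A and asserts that the I-adic
completion of H^p(X, M) maps bijectively onto this limit; it is stated here only for A already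
complete.) -/
theorem result (A : Type u) [CommRing A] [IsNoetherianRing A] (I : Ideal A)
    [IsAdicComplete I A] (X : Scheme.{u}) [X.Over (Spec (CommRingCat.of A))]
    [IsProper (X ↘ Spec (CommRingCat.of A))] (M : X.Modules) (hM : Coh.IsCoh M) (p : ℕ) :
    Function.Bijective (Formal.toHHlim I M p) := by
  haveI : IsLocallyNoetherian X :=
    LocallyOfFiniteType.isLocallyNoetherian (X ↘ Spec (CommRingCat.of A))
  haveI : CompactSpace X :=
    (quasiCompact_iff_compactSpace (X ↘ Spec (CommRingCat.of A))).mp inferInstance
  haveI : IsNoetherian X := ⟨⟩
  exact Groth.Agent.H78.FormalFun.Main.bijective_of_isCoh A I X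
    (fun N hN q => Groth.Agent.S0002.result A X N hN q) M hM p

end Groth.Agent.S0003
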