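import Groth.Statements.S0056
import Groth.Agent.Lib.Exchange.Algz.Embed
import Groth.Agent.Lib.Exchange.Algz.Cart
import Groth.Agent.Lib.Exchange.Algz.Bundle

set_option autoImplicit false
universe u
open Coherent

namespace Groth.Agent.S0056

open AlgebraicGeometry CategoryTheory CategoryTheory.Limits in
/-- Grothendieck's algebraization Theorem, with a slightly weaker conclusion. Let A be a Noetherian ring
complete for an ideal I, and S_n = Spec(A/I^(n+1)). Given schemes X_n over S_n with transition maps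
X_n → X_(n+1) making each X_n the base change of X_(n+1) to S_n, with X_0 → S_0 proper, and
invertible modules L_n on X_n with L_n ≅ (pullback of L_(n+1)) and L_0 ample, there exist a proper Y
→ Spec A, an ample invertible module M on Y and maps X_n → Y, compatible with the transition maps,
identifying X_n with Y ×_A S_n, under which L_n is isomorphic to the pullback of M. (The published
statement also makes these isomorphisms compatible with the given ones L_n ≅ (pullback of L_(n+1));
that compatibility is not asserted here.) -/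
theorem result (A : Type u) [CommRing A]
    [IsNoetherianRing A] (I : Ideal A) [IsAdicComplete I A]
    (Xs : ℕ → Scheme.{u}) (p : (n : ℕ) → (Xs n ⟶ Spec (CommRingCat.of (A ⧸ I ^ (n + 1)))))
    (i : (n : ℕ) → (Xs n ⟶ Xs (n + 1)))
    (hcart : ∀ n, IsPullback (i n) (p n) (p (n + 1)) (CohB1.specQuotTrans I n)) (hp : IsProper (p 0))
    (L : (n : ℕ) → (Xs n).Modules) (hL : ∀ n, PicF.IsInvertible (L n))
    (φ : ∀ n, Nonempty ((Scheme.Modules.pullback (i n)).obj (L (n + 1)) ≅ L n)) (ha : CohB1.IsAmple (L 0)) :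
    ∃ (Y : Scheme.{u}) (g : Y ⟶ Spec (CommRingCat.of A)) (M : Y.Modules) (e : (n : ℕ) → (Xs n ⟶ Y)),
      IsProper g ∧ PicF.IsInvertible M ∧ CohB1.IsAmple M ∧
      (∀ n, IsPullback (e n) (p n) g (CohB1.specQuot I n)) ∧ (∀ n, e n = i n ≫ e (n + 1)) ∧
      ∀ n, Nonempty ((Scheme.Modules.pullback (e n)).obj M ≅ L n) := by
  let T : Groth.Agent.Lib.Exchange.Thick.Tower I := ⟨Xs, p, i, hcart⟩
  haveI : IsProper (T.p 0) := hp
  haveI : IsLocallyNoetherian (T.X 0) := LocallyOfFiniteType.isLocallyNoetherian (T.p 0)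
  haveI : ∀ k, IsLocallyNoetherian (T.X k) := fun k => T.isLocallyNoetherian k
  let ψ := fun k => (φ k).some
  obtain ⟨N, e, hec, he, heo⟩ := Groth.Agent.Lib.Exchange.Algz.exists_embedding (T := T) L hL ψ ha
  let P := CohB1.ProjSpaceOver N (Spec (CommRingCat.of A))
  letI : P.Over (Spec (CommRingCat.of A)) := ⟨CohB1.ProjSpaceOver.toBase N _⟩
  haveI : IsProper (P ↘ Spec (CommRingCat.of A)) :=
    Groth.Agent.Lib.Exchange.Algz.isProper_toBase N _
  haveI : IsLocallyNoetherian P :=
    LocallyOfFiniteType.isLocallyNoetherian (P ↘ Spec (CommRingCat.of A))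
  haveI := hec
  have hO := Groth.Agent.Lib.Exchange.Algz.isAmple_one N (CommRingCat.of A)
  obtain ⟨Y, ι, w, hι, hw, hker⟩ :=
    Groth.Agent.Lib.Exchange.Algz.exists_subscheme (T := T) (X := P) hO e he heo
  letI : Y.Over (Spec (CommRingCat.of A)) := ⟨ι ≫ (P ↘ Spec (CommRingCat.of A))⟩
  haveI : IsProper (Y ↘ Spec (CommRingCat.of A)) :=
    inferInstanceAs (IsProper (ι ≫ (P ↘ Spec (CommRingCat.of A))))
  haveI : IsLocallyNoetherian Y := LocallyOfFiniteType.isLocallyNoetherian ι
  haveI : ∀ k, IsClosedImmersion (w k) := fun k => by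
    have : IsClosedImmersion (w k ≫ ι) := by rw [hw k]; exact hec k
    exact IsClosedImmersion.of_comp (w k) ι
  have hwt : ∀ k, T.i k ≫ w (k + 1) = w k := fun k =>
    (cancel_mono ι).1 (by rw [Category.assoc, hw, hw, he])
  have hwo : ∀ k, w k ≫ (Y ↘ Spec (CommRingCat.of A)) = T.q k := fun k =>
    ((Category.assoc _ _ _).symm.trans (congrArg (· ≫ (P ↘ Spec (CommRingCat.of A))) (hw k))).trans (heo k)
  have hk : ∀ k, (w k).ker = Groth.Agent.Lib.Exchange.Algz.jIdeal I ^ (k + 1) := fun k => by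
    rw [hker k, Groth.Agent.Lib.Ideal.Comap.comap_pow, Groth.Agent.Lib.Exchange.Algz.jIdeal,
      ← Scheme.IdealSheafData.comap_comp]
    rfl
  have hY : CohB1.IsAmple ((Scheme.Modules.pullback ι).obj (Twist.twistOver N _ 1)) :=
    Groth.Agent.Lib.Ample.Pullback.isAmple_pullback ι
      (Groth.Agent.Lib.Ample.Pullback.isQuasiAffine_of_isAffineHom ι) hO
  obtain ⟨M, hM, hiso⟩ :=
    Groth.Agent.Lib.Exchange.Algz.exists_bundle (T := T) w hwt hwo hk hY L hL ψ
  refine ⟨Y, Y ↘ Spec (CommRingCat.of A), M, w, inferInstance, hM, ?_, fun n => ?_, fun n => (hwt n).symm,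
    hiso⟩
  · exact Groth.Agent.Lib.Exchange.Algz.isAmple_of_zero (T := T) w hwt hwo hk hp hM
      (Groth.Agent.Lib.Ample.Pow.isAmple_of_iso (hiso 0).some.symm ha)
  · exact Groth.Agent.Lib.Exchange.Algz.isPullback_of_ker (T := T) (w n) (hwo n) (hk n)

end Groth.Agent.S0056
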