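import Groth.Statements.S3762
import Groth.Agent.Lib.ExchangeFP29.KPush.Proj

set_option autoImplicit false
universe v u
open CategoryTheory CategoryTheory.Limits AlgebraicGeometry
attribute [local instance] HasDerivedCategory.standard
open KRR
open Groth.Agent.Lib Groth.Agent.Lib.ExchangeFP29 Groth.Agent.Lib.ExchangeFP29.KPush

namespace Groth.Agent.S3762

/-- Let Y be a connected Noetherian scheme, p : P = P^n_Y ⟶ Y, with models of K(P), K(Y), g = p_K the
push-forward and q = p^K the pull-back. Then p_K (x · p^K y) = p_K (x) · y for all x ∈ K(P), y ∈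
K(Y). -/
theorem result (n : ℕ) (Y : Scheme.{u}) [IsNoetherian Y] [ConnectedSpace ↥Y]
    (KP : Type v) [CommRing KP] [LambdaRing.LambdaOps KP] (PP : LambdaRing.PosStructure KP) (φP : SGA6.Kvb (KRR.PY n Y) →+ KP) (hKP : KRR.IsModel (KRR.PY n Y) KP PP φP)
    (KY : Type v) [CommRing KY] [LambdaRing.LambdaOps KY] (PY : LambdaRing.PosStructure KY) (φY : SGA6.Kvb Y →+ KY) (hKY : KRR.IsModel Y KY PY φY)
    (g : KP →+ KY) (hg : KRR.IsPushPr n Y φP φY g) (q : KY →+ KP) (hq : KRR.IsPull (KRR.pr n Y) φY φP q) (x : KP) (y : KY) :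
    g (x * q y) = g x * y := by
  obtain ⟨z, rfl⟩ := hKP.bijective.2 x
  obtain ⟨w, rfl⟩ := hKY.bijective.2 y
  have gen : ∀ (E : Y.Modules), FlatMod.IsFinLocFree E → ∀ z,
      g (φP z * q (φY (KRR.cl Y E))) = g (φP z) * φY (KRR.cl Y E) := by
    intro E hE
    have key : (g.comp (AddMonoidHom.mulRight (q (φY (KRR.cl Y E))))).comp φP =
        ((AddMonoidHom.mulRight (φY (KRR.cl Y E))).comp g).comp φP := Ext.hom_ext fun F hF => by
      have hp := TensorMod.LocFree.isFinLocFree_pullback (KRR.pr n Y) hE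
      have hR := Proj.RB_tensor hF hE
      obtain ⟨e⟩ := Proj.nonempty_proj (n := n) F hE
      show g (φP _ * q _) = g (φP _) * φY _
      rw [hq E hE, hKP.map_mul F _ hF.1 hp, hg F hF.1 hF.2,
        hKY.map_mul _ E (Push.isFinLocFree_push hF) hE]
      exact (hg _ hR.1 hR.2).trans
        (congrArg φY (KAugNil98.Main.cl_iso e (Push.isFinLocFree_push hR)))
    exact DFunLike.congr_fun key
  have key2 : (g.comp (AddMonoidHom.mulLeft (φP z))).comp (q.comp φY) =
      (AddMonoidHom.mulLeft (g (φP z))).comp φY := by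
    refine QuotientAddGroup.addMonoidHom_ext _ (FreeAbelianGroup.lift_ext _ _ ?_)
    rintro ⟨E, hE⟩
    have hE' : FlatMod.IsFinLocFree E := hE
    have := gen E hE' z
    simp only [KRR.cl, KZero.clSub, KRR.vbP, hE', dite_true] at this
    exact this
  exact DFunLike.congr_fun key2 w

end Groth.Agent.S3762
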