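import Groth.Statements.S3759
import Groth.Agent.Lib.H70.KRRReg.Local
import Groth.Agent.Lib.ProjCoh.GlobalFun
import Groth.Agent.Lib.ProjCoh.Twist
import Groth.Agent.Lib.ClSub.Basis
import Groth.Agent.Lib.ExtFilt.Lambda

set_option autoImplicit false
universe v u
open CategoryTheory CategoryTheory.Limits AlgebraicGeometry
attribute [local instance] HasDerivedCategory.standard
open KRR

namespace Groth.Agent.S3759

open Groth.Agent.Lib

set_option linter.style.haveILetI false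

/-- Pullback of the structure module. -/
noncomputable def pullUnit {X X' : Scheme.{u}} (f : X' ⟶ X) :
    (Scheme.Modules.pullback f).obj (Coh.structureModule X) ≅ Coh.structureModule X' :=
  (Scheme.Modules.pullback f).mapIso (TensorMod.LocFree.freeModOneIso _).symm ≪≫
    TensorMod.LocFree.pullbackFreeModIso f 1 ≪≫ TensorMod.LocFree.freeModOneIso _

theorem isRegSheaf_structure (n : ℕ) (Y : Scheme.{u}) :
    KRR.IsRegSheaf n Y (Coh.structureModule (KRR.PY n Y)) := by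
  have hO : Coh.IsQCoh (Coh.structureModule (KRR.PY n Y)) :=
    TensorMod.QCohInv.isQCoh_structureModule _
  refine (H70.KRRReg.Local.isRegSheaf_iff _ hO).2 fun V hV i hi => ?_
  let e : CohB1.tensorMod (H70.KRRReg.Chart.rest hV (Coh.structureModule (KRR.PY n Y)))
      (ProjCoh.Coherent.tw n Γ(Y, V) (0 - i)) ≅ ProjCoh.Coherent.tw n Γ(Y, V) (0 - i) :=
    TensorMod.Basic.tensorIso ((Scheme.Modules.restrictFunctorIsoPullback _).app _ ≪≫ pullUnit _)
      (Iso.refl _) ≪≫ TensorMod.Basic.leftUnit _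
  refine ProjKoszul.Chase.subsingleton_of_iso Γ(Y, V) e.symm ?_
  by_cases hn : i ≤ n
  · exact ProjCoh.Twist.subsingleton_HH_of_neg_le n Γ(Y, V) (by omega) (by omega)
  · haveI : Coh.IsQCoh (ProjCoh.Coherent.tw n Γ(Y, V) (0 - i)) :=
      ProjCoh.Twist.isQCoh_TS (n := n) (R := Γ(Y, V)) (d := 0 - (i : ℤ))
    exact ProjCoh.Twist.subsingleton_HH_of_lt _ (by omega)

theorem isIso_appLE_top {X P : Scheme.{u}} (f : X ⟶ P) [IsOpenImmersion f] {W : P.Opens}
    (h : f ''ᵁ ⊤ = W) (e : ⊤ ≤ f ⁻¹ᵁ W) : IsIso (f.appLE W ⊤ e) := by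
  subst h
  rw [← Scheme.Hom.appIso_hom']
  infer_instance

theorem isIso_app_pr (n : ℕ) (Y : Scheme.{u}) {V : Y.Opens} (hV : IsAffineOpen V) :
    IsIso ((KRR.pr n Y).app V) := by
  have h1 := H70.KRRReg.Chart.emb_pr (n := n) hV
  have h2 := H70.KRRReg.Chart.image_top (n := n) hV
  have e2 : ⊤ ≤ (H70.KRRReg.Chart.emb (n := n) hV) ⁻¹ᵁ ((KRR.pr n Y) ⁻¹ᵁ V) := by
    rw [← h2]
    exact le_of_eq (Scheme.Hom.preimage_image_eq _ _).symm
  haveI := isIso_appLE_top _ h2 e2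
  have e3 : ⊤ ≤ hV.fromSpec ⁻¹ᵁ V := by rw [hV.fromSpec_preimage_self]
  haveI := isIso_appLE_top hV.fromSpec (W := V)
    (by rw [Scheme.Hom.image_top_eq_opensRange, hV.opensRange_fromSpec]) e3
  haveI := ProjCoh.GlobalFun.isIso_appTop n Γ(Y, V)
  have key : (KRR.pr n Y).app V ≫ (H70.KRRReg.Chart.emb (n := n) hV).appLE ((KRR.pr n Y) ⁻¹ᵁ V) ⊤ e2 =
      hV.fromSpec.appLE V ⊤ e3 ≫ (CohB1.ProjSpace.toSpec n Γ(Y, V)).appTop := by
    rw [Scheme.Hom.appTop, Scheme.Hom.app_eq_appLE, Scheme.Hom.app_eq_appLE,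
      Scheme.Hom.appLE_comp_appLE]
    refine Eq.trans ?_ (Scheme.Hom.appLE_comp_appLE (CohB1.ProjSpace.toSpec n Γ(Y, V)) hV.fromSpec
      V ⊤ ⊤ e3 le_rfl).symm
    simp only [h1]
  haveI : IsIso ((KRR.pr n Y).app V ≫
      (H70.KRRReg.Chart.emb (n := n) hV).appLE ((KRR.pr n Y) ⁻¹ᵁ V) ⊤ e2) := by
    rw [key]; infer_instance
  exact IsIso.of_isIso_comp_right _ ((H70.KRRReg.Chart.emb (n := n) hV).appLE _ ⊤ e2)

theorem nonempty_push_iso (n : ℕ) (Y : Scheme.{u}) :
    Nonempty ((Scheme.Modules.pushforward (KRR.pr n Y)).obj (Coh.structureModule (KRR.PY n Y)) ≅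
      Coh.structureModule Y) := by
  let φ : Coh.structureModule Y ⟶
      (Scheme.Modules.pushforward (KRR.pr n Y)).obj (Coh.structureModule (KRR.PY n Y)) :=
    SheafOfModules.unitToPushforwardObjUnit (KRR.pr n Y).toRingCatSheafHom
  haveI : IsIso φ := ClSub.Basis.isIso_of_bijective_affine φ fun U => by
    haveI := isIso_app_pr n Y U.2
    exact ConcreteCategory.bijective_of_isIso ((KRR.pr n Y).app U.1)
  exact ⟨(asIso φ).symm⟩

/-- With R5, R6; the degree-0 case: let Y be a connected Noetherian scheme, p : P = P^n_Y ⟶ Y, and (KP,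
PP, φP), (KY, PY, φY) models of K(P), K(Y) with g = p_K the push-forward ([F] ↦ [p_*F] for regular
finite locally free F). Then p_K [O_P] = 1. -/
theorem result (n : ℕ) (Y : Scheme.{u}) [IsNoetherian Y] [ConnectedSpace ↥Y]
    (KP : Type v) [CommRing KP] [LambdaRing.LambdaOps KP] (PP : LambdaRing.PosStructure KP) (φP : SGA6.Kvb (KRR.PY n Y) →+ KP) (hKP : KRR.IsModel (KRR.PY n Y) KP PP φP)
    (KY : Type v) [CommRing KY] [LambdaRing.LambdaOps KY] (PY : LambdaRing.PosStructure KY) (φY : SGA6.Kvb Y →+ KY) (hKY : KRR.IsModel Y KY PY φY)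
    (g : KP →+ KY) (hg : KRR.IsPushPr n Y φP φY g) :
    g (φP (KRR.cl (KRR.PY n Y) (Coh.structureModule (KRR.PY n Y)))) = 1 := by
  obtain ⟨e⟩ := nonempty_push_iso n Y
  have hP : FlatMod.IsFinLocFree (Coh.structureModule (KRR.PY n Y)) :=
    ExtFilt.Lambda.isFinLocFree_structure
  rw [hg _ hP (isRegSheaf_structure n Y), ← hKY.map_one]
  congr 1
  exact (ExtFilt.Lambda.cl_congr e.symm ExtFilt.Lambda.isFinLocFree_structure).symm

end Groth.Agent.S3759
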