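import Groth.Statements.S4471
import Groth.Agent.Lib.ProjSpace.TwistBC
import Groth.Agent.Lib.ZarCoh.RpushVanish
import Groth.Agent.Lib.ZarCoh.Morph
import Groth.Agent.S0844

set_option autoImplicit false
universe u
open Coherent

namespace Groth.Agent.S4471

section
open Groth.Agent.Lib CategoryTheory CategoryTheory.Limits CategoryTheory.Abelian AlgebraicGeometry TopologicalSpace Opposite

/-- Degree zero: no sections on a basis means no direct image. -/
lemma isZero_push {A B : TopCat.{u}} (f : A ⟶ B) (F : CohTop.Ab A) {S : Set (Opens B)} (hS : Opens.IsBasis S)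
    (h : ∀ W ∈ S, Subsingleton (CohTop.HU F 0 ((Opens.map f).obj W))) :
    IsZero ((CohTop.push f).obj F) := by
  have h0 : ∀ W ∈ S, Subsingleton (F.obj.obj (op ((Opens.map f).obj W))) := fun W hW =>
    @Equiv.subsingleton _ _ ((Ext.homEquiv₀ (X := ZarCoh.Basic.Zs.obj ((Opens.map f).obj W)) (Y := F)).trans
      (ZarCoh.Basic.homEquiv _ F)).symm (h W hW)
  rw [IsZero.iff_id_eq_zero]
  apply ObjectProperty.hom_ext
  refine NatTrans.ext (funext fun U => AddCommGrpCat.ext fun s => ?_)
  obtain ⟨U⟩ := U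
  let K : TopCat.Sheaf AddCommGrpCat.{u} B := (CohTop.push f).obj F
  have hex : ∀ b : U, ∃ W : Opens B, W ∈ S ∧ b.1 ∈ W ∧ W ≤ U := fun b =>
    Opens.isBasis_iff_nbhd.1 hS b.2
  choose V hV hbV hle using hex
  refine TopCat.Sheaf.eq_of_locally_eq' K V U (fun b => homOfLE (hle b))
    (fun b hb => Opens.mem_iSup.2 ⟨⟨b, hb⟩, hbV ⟨b, hb⟩⟩) _ _ fun b => ?_
  exact @Subsingleton.elim _ (h0 (V b) (hV b)) _ _

/-- Over an affine open of the base, projective space over its functions is an open subscheme. -/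
lemma exists_chart {Y : Scheme.{u}} (r : ℕ) {V : Y.Opens} (hV : IsAffineOpen V) :
    ∃ (j : CohB1.ProjSpace r Γ(Y, V) ⟶ CohB1.ProjSpaceOver r Y) (_ : IsOpenImmersion j),
      j.opensRange = CohB1.ProjSpaceOver.toBase r Y ⁻¹ᵁ V ∧
      j ≫ pullback.fst (CohB1.ProjSpace.toSpec r (ULift.{u} ℤ)) (specULiftZIsTerminal.from Y) =
        ProjSpace.BaseChange.projMap r (ProjSpace.BaseChange.ulz Γ(Y, V)) ∧
      j ≫ CohB1.ProjSpaceOver.toBase r Y = CohB1.ProjSpace.toSpec r Γ(Y, V) ≫ hV.fromSpec := by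
  let e := ProjSpace.BaseChange.overSpecIso r Γ(Y, V)
  let j : CohB1.ProjSpace r Γ(Y, V) ⟶ CohB1.ProjSpaceOver r Y :=
    e.inv ≫ ProjSpace.BaseChange.overMap r hV.fromSpec
  haveI : IsOpenImmersion (ProjSpace.BaseChange.overMap r hV.fromSpec) :=
    MorphismProperty.of_isPullback (P := @IsOpenImmersion.{u})
      (ProjSpace.BaseChange.isPullback_overMap r hV.fromSpec).flip inferInstance
  haveI : IsOpenImmersion j := inferInstanceAs (IsOpenImmersion (e.inv ≫ _))
  have hrange : j.opensRange = CohB1.ProjSpaceOver.toBase r Y ⁻¹ᵁ V := by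
    have h1 := (ProjSpace.BaseChange.isPullback_overMap r hV.fromSpec).flip
    refine Opens.ext (Set.Subset.antisymm ?_ ?_)
    · rintro _ ⟨x, rfl⟩
      show CohB1.ProjSpaceOver.toBase r Y (j x) ∈ (V : Set Y)
      rw [← hV.range_fromSpec]
      have e1 : j ≫ CohB1.ProjSpaceOver.toBase r Y =
          (e.inv ≫ CohB1.ProjSpaceOver.toBase r _) ≫ hV.fromSpec := by
        simp [j, ProjSpace.BaseChange.overMap_toBase]
      rw [← Scheme.Hom.comp_apply, e1, Scheme.Hom.comp_apply]
      exact ⟨_, rfl⟩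
    · intro p hp
      have hp' : CohB1.ProjSpaceOver.toBase r Y p ∈ Set.range hV.fromSpec := by
        rw [hV.range_fromSpec]; exact hp
      obtain ⟨v, hv⟩ := hp'
      obtain ⟨t, -, ht⟩ := Scheme.exists_preimage_of_isPullback h1 v p hv
      refine ⟨e.hom t, ?_⟩
      show (e.hom ≫ j) t = p
      rw [show e.hom ≫ j = ProjSpace.BaseChange.overMap r hV.fromSpec from e.hom_inv_id_assoc _]
      exact ht
  have he : (e.inv ≫ ProjSpace.BaseChange.overMap r hV.fromSpec) ≫ pullback.fst (CohB1.ProjSpace.toSpec r (ULift.{u} ℤ)) (specULiftZIsTerminal.from Y) =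
      ProjSpace.BaseChange.projMap r (ProjSpace.BaseChange.ulz Γ(Y, V)) := by
    refine (Category.assoc _ _ _).trans ?_
    refine (congrArg (e.inv ≫ ·) (ProjSpace.BaseChange.overMap_fst r hV.fromSpec)).trans ?_
    exact (Iso.inv_comp_eq e).2 (ProjSpace.BaseChange.overSpecIso_hom_projMap r _).symm
  refine ⟨j, inferInstance, hrange, he, ?_⟩
  simp [j, e, ProjSpace.BaseChange.overMap_toBase, ProjSpace.BaseChange.overSpecIso_inv_toBase_assoc]

/-- Over an affine open of the base the cohomology of `O(d)` is that of projective space over its functions. -/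
lemma subsingleton_HU {Y : Scheme.{u}} (r : ℕ) (q : ℕ) (d : ℤ)
    (h : ¬ ((q = 0 ∧ 0 ≤ d) ∨ (q = r ∧ d ≤ -((r : ℤ) + 1)))) {V : Y.Opens} (hV : IsAffineOpen V) :
    Subsingleton (CohTop.HU (Coh.toAb (Twist.twistOver r Y d)) q
      (CohB1.ProjSpaceOver.toBase r Y ⁻¹ᵁ V)) := by
  obtain ⟨j, hj, hrange, he, -⟩ := exists_chart r hV
  obtain ⟨τ⟩ := ProjSpace.TwistBC.nonempty_iso r (ProjSpace.BaseChange.ulz Γ(Y, V)) d
  let ι : (Twist.twistOver r Y d).restrict j ≅ Twist.twistProjSpace r Γ(Y, V) d :=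
    (Scheme.Modules.restrictFunctorIsoPullback j).app _ ≪≫
      (Scheme.Modules.pullbackComp j _).app _ ≪≫ (Scheme.Modules.pullbackCongr he).app _ ≪≫ τ
  haveI : Subsingleton (Coh.HH _ ((Twist.twistOver r Y d).restrict j) q) :=
    @Equiv.subsingleton _ _
      (((Sheaf.functorH _ q).mapIso ((SheafOfModules.toSheaf _).mapIso ι)).addCommGroupIsoToAddEquiv).toEquiv
      (Groth.Agent.S0844.result Γ(Y, V) r d q (fun hh => h (Or.inl hh)) (fun hh => h (Or.inr hh)))
  have := (ZarCoh.Morph.openEquiv j (Twist.twistOver r Y d) q).symm.toEquiv.subsingleton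
  rwa [Scheme.Hom.image_top_eq_opensRange, hrange] at this

/-- Vanishing of a higher direct image from vanishing on a basis, in every degree. -/
lemma isZero_Rpush {X Y : Scheme.{u}} (f : X ⟶ Y) {S : Set (Opens Y)} (hS : Opens.IsBasis S) (i : ℕ)
    {F : CohTop.Ab X} (h : ∀ W ∈ S, Subsingleton (CohTop.HU F i (f ⁻¹ᵁ W))) :
    IsZero ((Coh.RpushAb f i).obj F) := by
  haveI : (CohTop.push f.base).IsRightAdjoint :=
    (TopCat.Sheaf.pullbackPushforwardAdjunction AddCommGrpCat.{u} _).isRightAdjoint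
  haveI : PreservesFiniteLimits (Coh.pushAb f) :=
    inferInstanceAs (PreservesFiniteLimits (CohTop.push f.base))
  rcases i with _ | n
  · exact (isZero_push _ _ hS h).of_iso ((CategoryTheory.Functor.rightDerivedZeroIsoSelf _).app _)
  · exact ZarCoh.RpushVanish.isZero_RpushAb _ hS n h

end

open AlgebraicGeometry CategoryTheory in
/-- The case of the trivial bundle of rank r+1, i.e. projective r-space over Y; vanishing assertion. Let
Y be a scheme, r ≥ 0, f : P^r_Y → Y the structure morphism and d an integer. Then R^i f_* O(d) = 0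
(higher direct image of the underlying abelian sheaf of the twisting sheaf) except possibly when i =
0 and d ≥ 0, or i = r and d ≤ -(r+1). -/
theorem result (Y : Scheme.{u}) (r : ℕ) (i : ℕ) (d : ℤ)
    (h : ¬ ((i = 0 ∧ 0 ≤ d) ∨ (i = r ∧ d ≤ -((r : ℤ) + 1)))) :
    Limits.IsZero ((Coh.RpushAb (CohB1.ProjSpaceOver.toBase r Y) i).obj (Coh.toAb (Twist.twistOver r Y d))) := by
  exact isZero_Rpush _ Y.isBasis_affineOpens i (fun W hW => subsingleton_HU r i d h hW)

end Groth.Agent.S4471
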