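import Groth.Statements.S4483
import Groth.Agent.Lib.ProjSpace.BundleChart
import Groth.Agent.Lib.Ample.Pow
import Groth.Agent.S4471

set_option autoImplicit false
universe u
open Coherent

namespace Groth.Agent.S4483

section
open CategoryTheory CategoryTheory.Limits AlgebraicGeometry TopologicalSpace Opposite
open Groth.Agent.Lib

/-- Powers of `O(1)`. -/
noncomputable def twPow (r : ℕ) (R : Type u) [CommRing R] : ∀ m : ℕ,
    Twist.twistProjSpace r R (m : ℤ) ≅ CohB1.tensorPow (Twist.twistProjSpace r R 1) m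
  | 0 => ProjCoh.Coherent.twZero
  | m + 1 => eqToIso (by push_cast; rfl) ≪≫ (ProjCoh.Coherent.twTensor (m : ℤ) 1).symm ≪≫
      TensorMod.Basic.tensorIso (twPow r R m) (Iso.refl _)

/-- Powers of `O(-1)`. -/
noncomputable def twPowNeg (r : ℕ) (R : Type u) [CommRing R] : ∀ m : ℕ,
    Twist.twistProjSpace r R (-(m : ℤ)) ≅ CohB1.tensorPow (Twist.twistProjSpace r R (-1)) m
  | 0 => ProjCoh.Coherent.twZero
  | m + 1 => eqToIso (by rw [show (-((m + 1 : ℕ) : ℤ)) = -(m : ℤ) + -1 by omega]; rfl) ≪≫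
      (ProjCoh.Coherent.twTensor (-(m : ℤ)) (-1)).symm ≪≫
        TensorMod.Basic.tensorIso (twPowNeg r R m) (Iso.refl _)

/-- Vanishing of `R^i π_*` from the charts. -/
theorem isZero_of_charts {Y P : Scheme.{u}} (π : P ⟶ Y) (r : ℕ) (E : Y.Modules)
    (hE : FlatMod.IsFinLocFreeOfRank (r + 1) E) {O1 : P.Modules}
    {q : (Scheme.Modules.pullback π).obj E ⟶ O1} (hP : KRR.IsProjBundle π E O1 q) (M : P.Modules)
    (d : ℤ) (i : ℕ) (h : ¬ ((i = 0 ∧ 0 ≤ d) ∨ (i = r ∧ d ≤ -((r : ℤ) + 1))))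
    (hM : ∀ (A : CommRingCat.{u}) (j : CohB1.ProjSpace r A ⟶ P),
      Nonempty ((Scheme.Modules.pullback j).obj O1 ≅ Twist.twistProjSpace r A 1) →
        Nonempty ((Scheme.Modules.pullback j).obj M ≅ Twist.twistProjSpace r A d)) :
    Limits.IsZero ((Coh.RpushAb π i).obj (Coh.toAb M)) := by
  let S : Set (Opens Y) := {W | IsAffineOpen W ∧ ∃ V : Y.Opens, W ≤ V ∧
    Nonempty (E.restrict V.ι ≅ FlatMod.freeMod (↑V) (r + 1))}
  have hS : Opens.IsBasis S := Opens.isBasis_iff_nbhd.2 fun {U x} hx => by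
    obtain ⟨V, hxV, e⟩ := hE x
    obtain ⟨W, hW, hxW, hle⟩ := exists_isAffineOpen_mem_and_subset (X := Y) (x := x) (U := U ⊓ V) ⟨hx, hxV⟩
    exact ⟨W, ⟨hW, V, fun y hy => (hle hy).2, e⟩, hxW, fun y hy => (hle hy).1⟩
  have hHU : ∀ W ∈ S, Subsingleton (CohTop.HU (Coh.toAb M) i (π ⁻¹ᵁ W)) := by
    rintro W ⟨hW, V, hWV, ⟨e⟩⟩
    obtain ⟨e₀, he₀⟩ := TensorMod.Basis.exists_basis_of_iso e
    obtain ⟨j, hj, hrange, hj1⟩ := ProjSpace.BundleChart.exists_chart hP hW _ (he₀.res hWV)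
    obtain ⟨τ⟩ := hM _ j hj1
    let ι : M.restrict j ≅ Twist.twistProjSpace r Γ(Y, W) d :=
      (Scheme.Modules.restrictFunctorIsoPullback j).app _ ≪≫ τ
    haveI : Subsingleton (Coh.HH _ (M.restrict j) i) :=
      @Equiv.subsingleton _ _
        (((Sheaf.functorH _ i).mapIso ((SheafOfModules.toSheaf _).mapIso ι)).addCommGroupIsoToAddEquiv).toEquiv
        (Groth.Agent.S0844.result Γ(Y, W) r d i (fun hh => h (Or.inl hh)) (fun hh => h (Or.inr hh)))
    have := (ZarCoh.Morph.openEquiv j M i).symm.toEquiv.subsingleton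
    rwa [Scheme.Hom.image_top_eq_opensRange, show j.opensRange = π ⁻¹ᵁ W from Opens.ext hrange] at this
  haveI : (CohTop.push π.base).IsRightAdjoint :=
    (TopCat.Sheaf.pullbackPushforwardAdjunction AddCommGrpCat.{u} _).isRightAdjoint
  haveI : Limits.PreservesFiniteLimits (Coh.pushAb π) :=
    inferInstanceAs (Limits.PreservesFiniteLimits (CohTop.push π.base))
  rcases i with _ | n
  · exact (Groth.Agent.S4471.isZero_push _ _ hS hHU).of_iso
      ((CategoryTheory.Functor.rightDerivedZeroIsoSelf _).app _)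
  · exact ZarCoh.RpushVanish.isZero_RpushAb _ hS n hHU

end

open AlgebraicGeometry CategoryTheory in
/-- Let Y be a scheme, E a locally free O_Y-module of rank r+1, and (π : P → Y, O(1), q : π^*E → O(1)) a
projective bundle P(E) of E, characterised by its universal property; let L be an O_P-module with L
⊗ O(1) ≅ O_P, playing the role of O(-1). Then the higher direct images R^i π_* O(n) vanish except
possibly for i = 0, n ≥ 0 and for i = r, n ≤ -(r+1): precisely, R^i π_*(O(1)^{⊗ n}) = 0 for all n ≥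
0 and i ≠ 0, and R^i π_*(L^{⊗ m}) = 0 for all m ≥ 1 and all i unless i = r and m ≥ r + 1 (higher
direct images of the underlying abelian sheaves). -/
theorem result {Y P : Scheme.{u}} (π : P ⟶ Y) (r : ℕ)
    (E : Y.Modules) (hE : FlatMod.IsFinLocFreeOfRank (r + 1) E) (O1 : P.Modules)
    (q : (Scheme.Modules.pullback π).obj E ⟶ O1) (hP : KRR.IsProjBundle π E O1 q)
    (L : P.Modules) (hL : ClSub.IsInverseOf L O1) :
    (∀ (n i : ℕ), i ≠ 0 → Limits.IsZero ((Coh.RpushAb π i).obj (Coh.toAb (CohB1.tensorPow O1 n)))) ∧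
    (∀ (m i : ℕ), 1 ≤ m → ¬ (i = r ∧ r + 1 ≤ m) →
      Limits.IsZero ((Coh.RpushAb π i).obj (Coh.toAb (CohB1.tensorPow L m)))) := by
  refine ⟨fun n i hi => isZero_of_charts π r E hE hP _ (n : ℤ) i ?_ fun A j hj => ?_,
    fun m i hm hmr => isZero_of_charts π r E hE hP _ (-(m : ℤ)) i ?_ fun A j hj => ?_⟩
  · rintro (⟨h, -⟩ | ⟨-, h⟩)
    · exact hi h
    · omega
  · exact ⟨Groth.Agent.Lib.Ample.Pow.pullbackPow j O1 n ≪≫ Groth.Agent.Lib.Ample.Pow.powIso hj.some n ≪≫
      (twPow r A n).symm⟩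
  · rintro (⟨-, h⟩ | ⟨h, h'⟩)
    · omega
    · exact hmr ⟨h, by omega⟩
  · obtain ⟨e⟩ := hj
    obtain ⟨c⟩ := hL
    let e1 : CohB1.tensorMod ((Scheme.Modules.pullback j).obj L) (Twist.twistProjSpace r A 1) ≅
        CohB1.tensorMod (Twist.twistProjSpace r A (-1)) (Twist.twistProjSpace r A 1) :=
      Groth.Agent.Lib.TensorMod.Basic.tensorIso (Iso.refl _) e.symm ≪≫
        (Groth.Agent.Lib.TensorMod.Pullback.pullbackTensorIso j L O1).symm ≪≫
        (Scheme.Modules.pullback j).mapIso c ≪≫ _root_.PicLoc.pullbackStructureIso j ≪≫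
        (Groth.Agent.Lib.ProjCoh.Coherent.twCancel (-1) 1 (by omega)).symm
    let e2 := Groth.Agent.Lib.TensorMod.Invertible.cancelRight
      (Groth.Agent.Lib.ProjCoh.Coherent.isInvertible_tw (n := r) (R := A) 1) e1
    exact ⟨Groth.Agent.Lib.Ample.Pow.pullbackPow j L m ≪≫ Groth.Agent.Lib.Ample.Pow.powIso e2 m ≪≫
      (twPowNeg r A m).symm⟩

end Groth.Agent.S4483
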