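import Groth.Statements.S3757
import Groth.Agent.H73.RegSeq
import Groth.Agent.Lib.Exchange.FlatTwist
import Groth.Agent.Lib.Exchange.NearFibre
import Groth.Agent.Lib.ProjMor.Conv
import Groth.Agent.Lib.ProjSpace.BaseChange
import Groth.Agent.Lib.Perfect.Coherent

set_option autoImplicit false
universe v u
open CategoryTheory CategoryTheory.Limits AlgebraicGeometry
attribute [local instance] HasDerivedCategory.standard
open KRR

namespace Groth.Agent.S3757

open CategoryTheory CategoryTheory.Limits AlgebraicGeometry Groth.Agent.Lib in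
theorem nonempty_pow_iso (n : ℕ) (T : Scheme.{u}) : ∀ m : ℕ,
    Nonempty (Twist.twistOver n T (m : ℤ) ≅ CohB1.tensorPow (Twist.twistOver n T 1) m)
  | 0 => ⟨H73.RegSeq.overZero⟩
  | m + 1 => by
    obtain ⟨i⟩ := nonempty_pow_iso n T m
    exact ⟨eqToIso (by push_cast; rfl) ≪≫ (H73.RegSeq.overTensor (m : ℤ) 1).symm ≪≫
      TensorMod.Basic.tensorIso i (Iso.refl _)⟩

/-- Let Y be a Noetherian scheme, p : P = P^n_Y ⟶ Y the structure morphism of projective n-space over Y,
and F a finite locally free O_P-module. Then there is m₀ such that p_*(F(m)) is a finite locally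
free O_Y-module for every m ≥ m₀. -/
theorem result (n : ℕ) (Y : Scheme.{u}) [IsNoetherian Y]
    (F : (KRR.PY n Y).Modules) (hF : FlatMod.IsFinLocFree F) :
    ∃ m₀ : ℕ, ∀ m : ℕ, m₀ ≤ m →
      FlatMod.IsFinLocFree ((Scheme.Modules.pushforward (KRR.pr n Y)).obj (KRR.twF n Y (m : ℤ) F)) := by
  haveI : IsProper (KRR.pr n Y) := Groth.Agent.Lib.ProjSpace.BaseChange.isProper_toBase n Y
  haveI : Smooth (KRR.pr n Y) := Groth.Agent.Lib.ProjSpace.BaseChange.smooth_toBase n Y
  haveI : Flat (KRR.pr n Y) := inferInstance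
  haveI : IsLocallyNoetherian (KRR.PY n Y) := LocallyOfFiniteType.isLocallyNoetherian (KRR.pr n Y)
  have ha : RelAmple.IsRelAmple (KRR.pr n Y) (Twist.twistOver n Y 1) := by
    have h := Groth.Agent.Lib.ProjMor.Conv.isRelAmple_of_immersion (KRR.pr n Y) n (𝟙 _) (Category.id_comp _)
    refine ⟨inferInstance, fun V => Groth.Agent.Lib.Ample.Pow.isAmple_of_iso ?_ (h.2 V)⟩
    exact (Scheme.Modules.restrictFunctor (KRR.pr n Y ⁻¹ᵁ V.1).ι).mapIso
      ((Scheme.Modules.pullbackId _).app (Twist.twistOver n Y 1))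
  have hlf : PicF.IsInvertible (Twist.twistOver n Y 1) :=
    PicLoc.isInvertible_pullback _ (Groth.Agent.Lib.ProjTilde.Invertible.twist_isInvertible_of_cover (fun z => by
      obtain ⟨c, hc⟩ := Groth.Agent.Lib.ProjMor.Main.cover
        (Groth.Agent.Lib.ProjMor.Poly.lin_mem n (ULift.{u} ℤ))
        (Groth.Agent.Lib.ProjMor.Poly.adjoin_lin n (ULift.{u} ℤ)) z
      exact ⟨c, c.2, hc⟩) 1)
  obtain ⟨n₀, hn₀⟩ := Groth.Agent.Lib.Exchange.FlatTwist.eventually_finLocFree (KRR.pr n Y) ha hlf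
    (Groth.Agent.Lib.Perfect.Coherent.isCoh_of_isFinLocFree hF)
    (ZarCoh.Exchange.NearFibre.isFlatOver_of_isFinLocFree (KRR.pr n Y) hF)
  refine ⟨n₀, fun m hm => ?_⟩
  obtain ⟨i⟩ := nonempty_pow_iso n Y m
  exact Groth.Agent.Lib.TensorMod.LocFree.of_iso ((Coh.push (KRR.pr n Y)).mapIso
    (H73.RegSeq.twFIso (m : ℤ) F ≪≫ Groth.Agent.Lib.TensorMod.Basic.tensorIso (Iso.refl F) i).symm) (hn₀ m hm)

end Groth.Agent.S3757
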