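import Groth.Statements.S5670
import Groth.Agent.Lib.FEt.AppBijective

set_option autoImplicit false
universe u
open Pi1

namespace Groth.Agent.S5670

open CategoryTheory CategoryTheory.Limits AlgebraicGeometry in
/-- Let `f : X → Y` be a proper morphism of Noetherian schemes such that `O_Y → f_* O_X` is an
isomorphism (bijective on sections over every open of `Y`). Then for every connected finite étale
`Y'` over `Y`, the base change `X ×_Y Y'` is connected; equivalently, `f` induces a surjection on
étale fundamental groups. -/
theorem result {X Y Y' : Scheme.{u}} (f : X ⟶ Y) [IsProper f] [IsNoetherian X] [IsNoetherian Y] (hf : ∀ U : Y.Opens, Function.Bijective (f.app U)) (g : Y' ⟶ Y) [IsFinite g] [Etale g] [ConnectedSpace Y'] : ConnectedSpace ↥(pullback f g) := by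
  have h := Groth.Agent.Lib.FEt.AppBijective.app_bijective
    (IsPullback.of_hasPullback f g).flip hf ⊤
  have hne : Nonempty ↥(pullback f g) := by
    by_contra hne
    rw [not_nonempty_iff] at hne
    have : Subsingleton Γ(pullback f g, (pullback.snd f g) ⁻¹ᵁ g ⁻¹ᵁ ⊤) := by
      rw [show (pullback.snd f g) ⁻¹ᵁ g ⁻¹ᵁ (⊤ : Y.Opens) = ⊥ from
        TopologicalSpace.Opens.ext (Subsingleton.elim _ _)]
      infer_instance
    have : Subsingleton Γ(Y', ⊤) := h.1.subsingleton
    obtain ⟨y⟩ := (inferInstance : Nonempty Y')
    have hy : y ∈ Y'.basicOpen (0 : Γ(Y', ⊤)) := by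
      rw [show (0 : Γ(Y', ⊤)) = 1 from Subsingleton.elim _ _,
        Scheme.basicOpen_of_isUnit _ isUnit_one]
      trivial
    rwa [Scheme.basicOpen_zero] at hy
  have : PreconnectedSpace ↥(pullback f g) := by
    rw [preconnectedSpace_iff_clopen]
    intro C hC
    obtain ⟨D, hD, rfl⟩ := Groth.Agent.Lib.FEt.AppBijective.exists_isClopen_preimage
      (IsPullback.of_hasPullback f g).flip hf hC
    rcases isClopen_iff.mp hD with rfl | rfl
    · exact Or.inl Set.preimage_empty
    · exact Or.inr Set.preimage_univ
  exact { toNonempty := hne }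

end Groth.Agent.S5670
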