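import Groth.Statements.S11361
import Groth.Agent.Lib.DMod.CMFibreGlobal
import Mathlib.RingTheory.Spectrum.Prime.Topology

set_option autoImplicit false
universe u
open CategoryTheory
open scoped TensorProduct
open Dual

namespace Groth.Agent.S11361
open Groth.Agent.Lib.DMod

/-- Transport of Cohen-Macaulayness and pure dimension along an isomorphism. -/
theorem transport {S T : Type u} [CommRing S] [CommRing T] (e : S ≃+* T) (n : ℕ)
    (h : LocCoh.IsCohenMacaulayRing S ∧ ∀ Q : PrimeSpectrum S, Q.asIdeal ∈ minimalPrimes S →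
      Order.coheight Q = (n : ℕ∞)) :
    LocCoh.IsCohenMacaulayRing T ∧ ∀ Q : PrimeSpectrum T, Q.asIdeal ∈ minimalPrimes T →
      Order.coheight Q = (n : ℕ∞) := by
  obtain ⟨hCM, hmin⟩ := h
  have : IsNoetherianRing T := isNoetherianRing_of_ringEquiv S e
  refine ⟨{ isCohenMacaulayLocalRing_localization := fun P _ => ?_ }, fun Q hQ => ?_⟩
  · have h1 : (P.comap e.toRingHom).primeCompl.map e.toMonoidHom = P.primeCompl := by
      ext x
      constructor
      · rintro ⟨y, hy, rfl⟩
        exact hy
      · intro hx
        exact ⟨e.symm x, fun h' => hx (by simpa using h'), e.apply_symm_apply x⟩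
    exact @Lib.Excellent.Transport.isCohenMacaulayLocalRing_of_ringEquiv _ _ _ _
      (IsLocalization.ringEquivOfRingEquiv (Localization.AtPrime (P.comap e.toRingHom))
        (Localization.AtPrime P) e h1) (hCM.isCohenMacaulayLocalRing_localization _)
  · let φ := PrimeSpectrum.comapEquiv e
    rw [← PrimeSpectrum.isMin_iff] at hQ
    have h1 := hmin (φ.symm Q) (PrimeSpectrum.isMin_iff.1 ((OrderIso.isMin_apply φ.symm).2 hQ))
    rwa [Order.coheight_orderIso] at h1


/-- Let A be a Noetherian ring, n ≤ N, P = A[t_1, …, t_N], I an ideal of P with B = P/I flat over A.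
Then all fibre rings B ⊗_A κ(p) are Cohen–Macaulay with every irreducible component of dimension n
(every minimal prime of the fibre ring has coheight n in its spectrum) if and only if Ext^j_P(B, P)
vanishes for j ≠ N − n and Ext^{N−n}_P(B, P) is A-flat. (The published statement is for a flat
morphism of locally Noetherian schemes factoring through a closed immersion into a separated smooth
scheme, with f^! of the structure sheaf in place of the Ext modules; this row is the affine case of
a closed subscheme of affine N-space, where the two agree up to a shift and a twist by the trivial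
canonical module.) -/
theorem result (A : Type u) [CommRing A] [IsNoetherianRing A] (N n : ℕ) (hnN : n ≤ N) (I : Ideal (MvPolynomial (Fin N) A)) [Module.Flat A (MvPolynomial (Fin N) A ⧸ I)] : (∀ p : PrimeSpectrum A, LocCoh.IsCohenMacaulayRing ((MvPolynomial (Fin N) A ⧸ I) ⊗[A] p.asIdeal.ResidueField) ∧ ∀ Q : PrimeSpectrum ((MvPolynomial (Fin N) A ⧸ I) ⊗[A] p.asIdeal.ResidueField), Q.asIdeal ∈ minimalPrimes ((MvPolynomial (Fin N) A ⧸ I) ⊗[A] p.asIdeal.ResidueField) → Order.coheight Q = (n : ℕ∞)) ↔ ((∀ j : ℕ, j ≠ N - n → Subsingleton (Abelian.Ext (ModuleCat.of (MvPolynomial (Fin N) A) (MvPolynomial (Fin N) A ⧸ I)) (ModuleCat.of (MvPolynomial (Fin N) A) (MvPolynomial (Fin N) A)) j)) ∧ Module.Flat A (RestrictScalars A (MvPolynomial (Fin N) A) (Abelian.Ext (ModuleCat.of (MvPolynomial (Fin N) A) (MvPolynomial (Fin N) A ⧸ I)) (ModuleCat.of (MvPolynomial (Fin N) A) (MvPolynomial (Fin N) A)) (N - n)))) := by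
  have hsurj : Function.Surjective (algebraMap (MvPolynomial (Fin N) A) (MvPolynomial (Fin N) A ⧸ I)) :=
    Ideal.Quotient.mk_surjective
  let c := fun p : PrimeSpectrum A =>
    (Algebra.TensorProduct.comm A (MvPolynomial (Fin N) A ⧸ I) p.asIdeal.ResidueField).toRingEquiv
  constructor
  · intro h
    exact CMFibreGlobal.ext_of_fibres hsurj fun p => transport (c p) n (h p)
  · rintro ⟨hv, hflat⟩ p
    exact transport (c p).symm n (CMFibreGlobal.fibres_of_ext hsurj hnN hv hflat p)

end Groth.Agent.S11361
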