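import Groth.Statements.S15848
import Groth.Agent.Lib.Perfect.Coherent
import Groth.Agent.Lib.Cyc.Dev.SchemeEquiv
import Groth.Agent.Lib.JacCrit.OverField
import Groth.Agent.Lib.CohBasics.Closure
import Groth.Agent.Lib.ZarCoh.FP
import Groth.Agent.Lib.TensorMod.FPConv
import Groth.Agent.Lib.TensorMod.FPCrit
import Groth.Agent.Lib.Cyc.TorPD
import Groth.Agent.Lib.PushClosed.Unit
import Groth.Agent.Lib.Regular.Serre
import Groth.Agent.H18.AB
import Groth.Agent.Lib.JacCrit.FlatRegular
import Groth.Agent.Lib.SmoothCurve.Stalk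
import Groth.Agent.Lib.Ideal.Prime

set_option autoImplicit false
universe u
open CategoryTheory CategoryTheory.Limits AlgebraicGeometry
open Surf

namespace Groth.Agent.S15848

/-- Let k be an algebraically closed field of characteristic zero and S a smooth surface over k (an
integral k-scheme, smooth over k, of dimension two). Let j : C → S be a closed immersion with C
integral of dimension one, M a coherent O_C-module whose stalks are torsion-free modules over the
local rings of C, F a finite locally free O_S-module and f : F → j_*M an epimorphism of O_S-modules.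
Then the kernel of f, the elementary transformation of F along f, is a finite locally free
O_S-module. (The published setting takes S projective; the argument is local on S and projectivity
is not assumed here.) -/
theorem result
    (k : Type u) [Field k] [IsAlgClosed k] [CharZero k]
    (S : Scheme.{u}) [S.Over (Spec (CommRingCat.of k))] [IsIntegral S]
    [Smooth (S ↘ Spec (CommRingCat.of k))] (hdim : topologicalKrullDim S = 2)
    (C : Scheme.{u}) (j : C ⟶ S) [IsClosedImmersion j] [IsIntegral C]
    (hC : topologicalKrullDim C = 1)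
    (M : C.Modules) (hM : Coh.IsCoh M) (hMtf : TorSh.IsTorsionFree M)
    (F : S.Modules) (hF : FlatMod.IsFinLocFree F)
    (f : F ⟶ (Coh.push j).obj M) [Epi f] :
    FlatMod.IsFinLocFree (kernel f) := by
  haveI : IsLocallyNoetherian S := LocallyOfFiniteType.isLocallyNoetherian (S ↘ Spec (CommRingCat.of k))
  haveI : IsLocallyNoetherian C := LocallyOfFiniteType.isLocallyNoetherian j
  have hFc : Coh.IsCoh F := Groth.Agent.Lib.Perfect.Coherent.isCoh_of_isFinLocFree hF
  have hP : Coh.IsCoh ((Coh.push j).obj M) :=
    Groth.Agent.Lib.Cyc.Dev.SchemeEquiv.isCoh_push j hM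
  have hK : Coh.IsCoh (kernel f) :=
    Groth.Agent.Lib.CohBasics.Closure.isCoh_kernel f hFc hP.1
  haveI := Groth.Agent.Lib.ZarCoh.FP.isFP_of_isCoh _ hK
  refine Groth.Agent.Lib.TensorMod.FPCrit.isFinLocFree_of_free_stalks _ fun x => ?_
  haveI := hFc.2
  haveI := hP.2
  haveI := hK.2
  haveI := Groth.Agent.Lib.Modules.GenStalk.finite_stalk F x
  haveI := Groth.Agent.Lib.Modules.GenStalk.finite_stalk ((Coh.push j).obj M) x
  haveI := Groth.Agent.Lib.Modules.GenStalk.finite_stalk (kernel f) x
  haveI := Groth.Agent.Lib.TensorMod.FPConv.free_stalk_of_isFinLocFree hF x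
  haveI hR : IsRegularLocalRing (S.presheaf.stalk x) :=
    Groth.Agent.Lib.JacCrit.OverField.isRegularLocalRing_stalk (S ↘ Spec (CommRingCat.of k)) x
      (by rw [Scheme.Hom.smoothLocus_eq_top]; trivial)
  have hd2 : ringKrullDim (S.presheaf.stalk x) ≤ 2 :=
    hdim ▸ Groth.Agent.Lib.Cyc.TorPD.ringKrullDim_stalk_le x
  have hd := IsRegularLocalRing.spanFinrank_maximalIdeal (R := S.presheaf.stalk x)
  let φ := Groth.Agent.Lib.Modules.StalkModule.stalkMapₗ f x
  have hsurj : Function.Surjective φ :=
    (Groth.Agent.Lib.Modules.StalkModule.epi_iff_stalkMapₗ_surjective f).mp inferInstance x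
  have hpd : Groth.Agent.Lib.Regular.PD.PDle (S.presheaf.stalk x)
      (((Coh.push j).obj M).presheaf.stalk x) 1 := by
    have hall := Groth.Agent.Lib.Regular.Serre.pdle_all (R := S.presheaf.stalk x)
      (((Coh.push j).obj M).presheaf.stalk x)
    by_cases h1 : (IsLocalRing.maximalIdeal (S.presheaf.stalk x)).spanFinrank ≤ 1
    · exact Groth.Agent.Lib.Regular.PD.pdle_mono hall h1
    by_cases hs : Subsingleton (((Coh.push j).obj M).presheaf.stalk x)
    · exact Groth.Agent.Lib.Regular.PD.pdle_mono
        (Groth.Agent.Lib.Regular.PD.pdle_zero_iff.mpr Module.Projective.of_free) zero_le_one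
    haveI : Nontrivial (((Coh.push j).obj M).presheaf.stalk x) :=
      not_subsingleton_iff_nontrivial.mp hs
    have hxr : x ∈ Set.range j := by
      by_contra hx
      exact hs (Groth.Agent.Lib.PushClosed.Unit.subsingleton_stalk_push j M hx)
    obtain ⟨c, rfl⟩ := hxr
    have hR2 : ringKrullDim (S.presheaf.stalk (j c)) = 2 := by
      refine le_antisymm hd2 ?_
      rw [← hd]
      exact_mod_cast (not_le.mp h1)
    have hcne : c ≠ genericPoint C := by
      intro hc
      obtain ⟨z, hz⟩ : ∃ z : C, z ≠ genericPoint C := by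
        by_contra! hall'
        haveI : Subsingleton C := ⟨fun a b => (hall' a).trans (hall' b).symm⟩
        haveI : JacobsonSpace C :=
          LocallyOfFiniteType.jacobsonSpace (j ≫ (S ↘ Spec (CommRingCat.of k)))
        have := topologicalKrullDim_zero_of_discreteTopology C
        rw [hC] at this
        exact absurd this (by decide)
      have hy : j c ⤳ j z := by
        rw [hc]
        exact ((genericPoint_spec C).specializes trivial).map j.continuous
      obtain ⟨V, hV, hyV, -⟩ := exists_isAffineOpen_mem_and_subset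
        (show j z ∈ (⊤ : S.Opens) from trivial)
      haveI : IsNoetherianRing Γ(S, V) := IsLocallyNoetherian.component_noetherian ⟨V, hV⟩
      have hcV := hy.mem_open V.isOpen hyV
      have hlt : (hV.primeIdealOf ⟨j c, hcV⟩).asIdeal < (hV.primeIdealOf ⟨j z, hyV⟩).asIdeal := by
        refine lt_of_le_of_ne
          ((Groth.Agent.Lib.AssPt.Basic.specializes_iff_primeIdealOf hV hyV hcV).mp hy) fun he => hz ?_
        have := congrArg hV.fromSpec (PrimeSpectrum.ext he)
        rw [hV.fromSpec_primeIdealOf, hV.fromSpec_primeIdealOf] at this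
        exact (j.isClosedEmbedding.injective this).symm.trans hc
      have h3 := Order.add_one_le_of_lt (Ideal.height_strict_mono_of_isPrime hlt)
      rw [Groth.Agent.Lib.Ideal.Prime.ringKrullDim_stalk_eq_height hV hcV] at hR2
      have hyd := Groth.Agent.Lib.Cyc.TorPD.ringKrullDim_stalk_le (j z)
      rw [hdim, Groth.Agent.Lib.Ideal.Prime.ringKrullDim_stalk_eq_height hV hyV] at hyd
      have e2 : (hV.primeIdealOf ⟨j c, hcV⟩).asIdeal.height = 2 := WithBot.coe_inj.mp hR2
      rw [e2] at h3
      exact absurd (h3.trans (WithBot.coe_le_coe.mp hyd)) (by decide)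
    have hm0 : IsLocalRing.maximalIdeal (C.presheaf.stalk c) ≠ ⊥ := fun h =>
      Groth.Agent.Lib.SmoothCurve.Stalk.not_isField_stalk hcne
        (IsLocalRing.isField_iff_maximalIdeal_eq.mpr h)
    obtain ⟨b, hbu, hb0⟩ := (Submodule.ne_bot_iff _).mp hm0
    obtain ⟨a, rfl⟩ := j.stalkMap_surjective c b
    have ham : a ∈ IsLocalRing.maximalIdeal (S.presheaf.stalk (j c)) :=
      fun hu => hbu (hu.map (j.stalkMap c).hom)
    haveI := hMtf c
    have hbij := Groth.Agent.Lib.PushClosed.Unit.bijective_pushStalkMap j M c
    have hreg : IsSMulRegular (((Coh.push j).obj M).presheaf.stalk (j c)) a := by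
      intro v w hvw
      refine hbij.1 ?_
      have h := congrArg (Groth.Agent.Lib.DerivedOX.PullbackStalk.pushStalkMap j c M) hvw
      erw [Groth.Agent.Lib.DerivedOX.PullbackStalk.pushStalkMap_smul,
        Groth.Agent.Lib.DerivedOX.PullbackStalk.pushStalkMap_smul] at h
      exact Module.IsTorsionFree.isSMulRegular (isRegular_iff_ne_zero.mpr hb0) h
    obtain ⟨p, hp⟩ : ∃ p : ℕ, LocCoh.depth (S.presheaf.stalk (j c))
        (((Coh.push j).obj M).presheaf.stalk (j c)) = p :=
      (ENat.ne_top_iff_exists.mp (Groth.Agent.Lib.Depth.Assoc.depth_ne_top _)).imp fun _ h => h.symm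
    have hp1 := Groth.Agent.H18.AB.one_le_depth_of_regular ham hreg
    rw [hp] at hp1
    have hdep : LocCoh.depth (S.presheaf.stalk (j c)) (S.presheaf.stalk (j c)) = (2 : ℕ) := by
      haveI := Groth.Agent.Lib.JacCrit.FlatRegular.isCohenMacaulayLocalRing (S.presheaf.stalk (j c))
      have h := LocCoh.IsCohenMacaulayLocalRing.supportDim_eq_depth (R := S.presheaf.stalk (j c))
      rw [Module.supportDim_self_eq_ringKrullDim, hR2] at h
      exact (WithBot.coe_inj.mp h).symm
    exact ((Groth.Agent.H18.AB.pdle_iff 2 _ hdep _ ⟨_, hall⟩ p hp).2 1).mpr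
      (by have : (1 : ℕ) ≤ p := (by exact_mod_cast hp1); omega)
  have hker : Module.Projective (S.presheaf.stalk x) (LinearMap.ker φ) :=
    Groth.Agent.Lib.Regular.PD.pdle_zero_iff.mp
      ((Groth.Agent.Lib.Regular.PD.pdle_succ_iff hsurj 0).mp hpd)
  let ψ := Groth.Agent.Lib.Modules.StalkModule.stalkMapₗ (kernel.ι f) x
  have hinj : Function.Injective ψ :=
    (Groth.Agent.Lib.Modules.StalkModule.mono_iff_stalkMapₗ_injective _).mp inferInstance x
  have hrange : LinearMap.range ψ = LinearMap.ker φ := by
    have hex := ((CategoryTheory.ShortComplex.mk (kernel.ι f) f (kernel.condition f)).exact_of_f_is_kernel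
      (kernelIsKernel f)).map (Groth.Agent.Lib.Modules.StalkModule.stalkModFunctor S x)
    exact (CategoryTheory.ShortComplex.moduleCat_exact_iff_range_eq_ker _).mp hex
  haveI : Module.Projective (S.presheaf.stalk x) ((kernel f).presheaf.stalk x) :=
    Module.Projective.of_equiv
      ((LinearEquiv.ofInjective ψ hinj).trans (LinearEquiv.ofEq _ _ hrange)).symm
  exact Module.free_of_flat_of_isLocalRing

end Groth.Agent.S15848
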