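import Groth.Statements.S3859
-- import your own Groth.Agent.* helpers here

set_option autoImplicit false
universe u
open FCompl

namespace Groth.Agent.S3859

open AlgebraicGeometry in
open CategoryTheory in
/-- In the presentation by systems of thickenings: For morphisms of systems X -> S and Y -> S, the
levelwise fibre product with its two projections is a fibre product in the category of systems; it
presents the fibre product of formal schemes when one factor is adic over the base, and otherwise
only up to cofinality of the levels. -/
theorem result {𝔛 𝔜 𝔖 : FSch.Sys.{u}} (f : 𝔛 ⟶ 𝔖) (g : 𝔜 ⟶ 𝔖) :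
    IsPullback (FSch.pullbackFst f g) (FSch.pullbackSnd f g) f g := by
  open CategoryTheory.Limits in
  refine IsPullback.of_isLimit' ⟨?_⟩ (PullbackCone.IsLimit.mk _ (fun s => ⟨fun n =>
      pullback.lift ((s.fst : FSch.Hom _ _).app n) ((s.snd : FSch.Hom _ _).app n)
        (congrArg (fun k : s.pt ⟶ 𝔖 => (k : FSch.Hom _ _).app n) s.condition), fun n => ?_⟩) ?_ ?_ ?_)
  · exact FSch.Hom.ext (funext fun n => pullback.condition)
  · apply pullback.hom_ext
    · simp only [FSch.pullbackSys, pullback.map, Category.assoc]
      erw [pullback.lift_fst, pullback.lift_fst, pullback.lift_fst_assoc]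
      exact (s.fst : FSch.Hom _ _).comm n
    · simp only [FSch.pullbackSys, pullback.map, Category.assoc]
      erw [pullback.lift_snd, pullback.lift_snd, pullback.lift_snd_assoc]
      exact (s.snd : FSch.Hom _ _).comm n
  · intro s
    exact FSch.Hom.ext (funext fun n => pullback.lift_fst _ _ _)
  · intro s
    exact FSch.Hom.ext (funext fun n => pullback.lift_snd _ _ _)
  · intro s m h1 h2
    refine FSch.Hom.ext (funext fun n => ?_)
    apply pullback.hom_ext
    · exact (congrArg (fun k : s.pt ⟶ 𝔛 => (k : FSch.Hom _ _).app n) h1).trans (pullback.lift_fst _ _ _).symm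
    · exact (congrArg (fun k : s.pt ⟶ 𝔜 => (k : FSch.Hom _ _).app n) h2).trans (pullback.lift_snd _ _ _).symm

end Groth.Agent.S3859
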