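import Groth.Statements.S0163
import Groth.Agent.Lib.EtSite.LocBC
import Groth.Agent.Lib.EtSite.LocFlat
import Groth.Agent.Lib.EtSite.FibreGeom

set_option autoImplicit false
universe u
open CategoryTheory CategoryTheory.Limits AlgebraicGeometry Opposite
open EtPBC

namespace Groth.Agent.S0163

/-- Consider a cartesian square of schemes Y = X ×_S T with projections h : Y → X and e : Y → T, where f
: X → S is flat and locally of finite presentation with geometrically reduced fibres (for every
point s of S and every morphism Spec K → S from the spectrum of a field with image {s}, the base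
change X ×_S Spec K is reduced), and g : T → S is quasi-compact and quasi-separated. Then for every
abelian sheaf F on T_ét the base change map f⁻¹g_*F → h_*e⁻¹F is an isomorphism. The published
statement is for sheaves of sets; stated here for abelian sheaves. (Continuity of the functors of
étale sites along f, g, h and e is carried as instance binders.) -/
theorem result {X S Y T : Scheme.{u}} (f : X ⟶ S) [Flat f]
    [LocallyOfFinitePresentation f]
    (hred : ∀ (s : S) (K : Type u) [Field K] (k : Spec (CommRingCat.of K) ⟶ S),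
      Set.range k = {s} → IsReduced (pullback f k))
    (g : T ⟶ S) [QuasiCompact g] [QuasiSeparated g] (h : Y ⟶ X) (e : Y ⟶ T) (hc : IsPullback e h g f)
    [EtCoh.BCCont f] [EtCoh.BCCont g] [EtCoh.BCCont h] [EtCoh.BCCont e] (F : EtCoh.Ab T) :
    IsIso (EtCoh.baseChange0 g f h e hc.w F) := by
  have hred' : ∀ (K : Type u) [Field K] (k : Spec (CommRingCat.of K) ⟶ S), IsReduced (pullback f k) :=
    fun K _ k => by
      haveI : Subsingleton ↥(Spec (CommRingCat.of K)) := inferInstanceAs (Subsingleton (PrimeSpectrum K))
      haveI : Nonempty ↥(Spec (CommRingCat.of K)) := inferInstanceAs (Nonempty (PrimeSpectrum K))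
      exact hred (k.base (Classical.arbitrary _)) K k
        (Set.eq_singleton_iff_unique_mem.2 ⟨⟨_, rfl⟩, by rintro _ ⟨y, rfl⟩; exact congrArg k.base (Subsingleton.elim _ _)⟩)
  open Groth.Agent.Lib.EtSite in
  refine LocBC.isIso_baseChange0 hc F
    (fun Ω _ _ η => haveI := LocFlat.flat_specMap_funct f η
      LocBC.gen_of_flat (Spec.map (LocMap.funct f η))) fun Ω _ _ η Ω' _ _ s => ?_
  obtain ⟨aS, lS, hS, sS⟩ := Groth.Agent.Lib.EtSite.LocMap.exists_algebra (η ≫ f)
  obtain ⟨aX, lX, hX, sX⟩ := Groth.Agent.Lib.EtSite.LocMap.exists_algebra η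
  exact @Groth.Agent.Lib.EtSite.FibreGeom.connectedSpace_fibre X S f _ _ hred' (η.base default)
    (EtBase.etaleLocalRing (η ≫ f)) (EtBase.etaleLocalRing η) _ _ _ _ aS lS sS aX lX sX
    (Groth.Agent.Lib.EtSite.LocMap.funct f η).hom.toAlgebra
    (Groth.Agent.Lib.EtSite.LocMap.isLocalHom_funct f η)
    (Groth.Agent.Lib.EtSite.LocFlat.funct_comp_algebraMap f η aS aX hS hX) Ω' _ s

end Groth.Agent.S0163
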