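import Groth.Statements.S7439
import Groth.Agent.Lib.FibreDeg.Basic

set_option autoImplicit false
universe u
open CategoryTheory AlgebraicGeometry
open BddFib

namespace Groth.Agent.S7439

open Groth.Agent.Lib.FibreDeg
open CategoryTheory

/-- Every immersion has universally bounded fibres, with `1` as a bound for the degrees of its fibres. -/
theorem result {X Y : Scheme.{u}} (f : X ⟶ Y) [IsImmersion f] :
    BddFib.FibreDegLE f 1 := by
  intro y
  letI := BddFib.secAlgebra (Y.residueField y) (f.fiberToSpecResidueField y)
  have : IsImmersion (f.fiberToSpecResidueField y) := MorphismProperty.pullback_snd _ _ inferInstance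
  have : IsClosedImmersion (f.fiberToSpecResidueField y) := by
    refine IsClosedImmersion.of_isPreimmersion _ ?_
    have : Subsingleton (Spec (Y.residueField y)) := inferInstanceAs (Subsingleton (PrimeSpectrum (Y.residueField y)))
    exact Subsingleton.set_cases (p := fun S : Set (Spec (Y.residueField y)) => IsClosed S) isClosed_empty isClosed_univ _
  have hT : IsAffine (f.fiber y) := isAffine_of_isAffineHom (f.fiberToSpecResidueField y)
  have hsurj : Function.Surjective (algebraMap (Y.residueField y) Γ(f.fiber y, ⊤)) := by
    show Function.Surjective ((Scheme.ΓSpecIso (Y.residueField y)).inv ≫ (f.fiberToSpecResidueField y).appTop).hom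
    rw [CommRingCat.hom_comp, RingHom.coe_comp]
    exact ((f.fiberToSpecResidueField y).app_surjective ⊤ (isAffineOpen_top _)).comp (ConcreteCategory.bijective_of_isIso _).2
  have hF : Module.Finite (Y.residueField y) Γ(f.fiber y, ⊤) :=
    Module.Finite.of_surjective (Algebra.linearMap _ _) hsurj
  refine ⟨hT, hF, ?_⟩
  exact (Algebra.linearMap (Y.residueField y) Γ(f.fiber y, ⊤)).finrank_le_finrank_of_surjective hsurj |>.trans (Module.finrank_self _).le

end Groth.Agent.S7439
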