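import Groth.Statements.S7441
import Groth.Agent.Lib.FibreDeg.Compose
import Groth.Agent.S7439

set_option autoImplicit false
universe u
open CategoryTheory AlgebraicGeometry
open BddFib

namespace Groth.Agent.S7441

open Groth.Agent.Lib.FibreDeg Limits

open scoped TensorProduct in
theorem exists_bound_of_affine {X Y : Scheme.{u}} (f : X ⟶ Y) [LocallyQuasiFinite f]
    [LocallyOfFiniteType f] {V : Y.Opens} (hV : IsAffineOpen V) {U : X.Opens} (hU : IsAffineOpen U)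
    (e : U ≤ f ⁻¹ᵁ V) : ∃ N : ℕ, BddFib.FibreDegLE (U.ι ≫ f) N := by
  have hq := HasRingHomProperty.appLE @LocallyQuasiFinite f inferInstance ⟨V, hV⟩ ⟨U, hU⟩ e
  have ht := HasRingHomProperty.appLE @LocallyOfFiniteType f inferInstance ⟨V, hV⟩ ⟨U, hU⟩ e
  letI : Algebra Γ(Y, V) Γ(X, U) := (f.appLE V U e).hom.toAlgebra
  haveI : Algebra.QuasiFinite Γ(Y, V) Γ(X, U) := hq
  haveI : Algebra.FiniteType Γ(Y, V) Γ(X, U) := ht
  obtain ⟨N, hN⟩ := Algebra.exists_bound Γ(Y, V) Γ(X, U)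
  have h1 : BddFib.FibreDegLE (Spec.map (f.appLE V U e)) N :=
    (Compose.fibreDegLE_specMap_iff (A := Γ(Y, V)) (B := Γ(X, U)) N).2 fun p => hN p.asIdeal.ResidueField
  have h2 := Compose.fibreDegLE_comp _ hV.fromSpec h1 (Groth.Agent.S7439.result hV.fromSpec)
  rw [IsAffineOpen.SpecMap_appLE_fromSpec f hV hU e, mul_one] at h2
  refine ⟨N, Compose.fibreDegLE_of_isPullback (IsPullback.of_horiz_isIso (fst := hU.isoSpec.hom) (g := 𝟙 Y) ⟨?_⟩) h2⟩
  rw [Category.comp_id, ← IsAffineOpen.isoSpec_inv_ι, Category.assoc, Iso.hom_inv_id_assoc]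

/-- Let `f : X → Y` be locally quasi-finite (locally of finite type with discrete fibres) with `X`
quasi-compact. Then the fibres of `f` are universally bounded. -/
theorem result {X Y : Scheme.{u}} (f : X ⟶ Y) [LocallyQuasiFinite f]
    [LocallyOfFiniteType f] [CompactSpace X] : BddFib.UnivBounded f := by
  classical
  have key : ∀ x : X, ∃ U : X.Opens, x ∈ U ∧ ∃ N : ℕ, BddFib.FibreDegLE (U.ι ≫ f) N := fun x => by
    obtain ⟨_, ⟨V, hV, rfl⟩, hxV, -⟩ := Y.isBasis_affineOpens.exists_subset_of_mem_open (Set.mem_univ (f x)) isOpen_univ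
    obtain ⟨_, ⟨U, hU, rfl⟩, hxU, hUV⟩ :=
      X.isBasis_affineOpens.exists_subset_of_mem_open (show x ∈ f ⁻¹ᵁ V from hxV) (f ⁻¹ᵁ V).2
    exact ⟨U, hxU, exists_bound_of_affine f hV hU hUV⟩
  choose U hxU N hN using key
  obtain ⟨F, hF⟩ := isCompact_univ.elim_finite_subcover (fun x => (U x : Set X)) (fun x => (U x).2)
    (fun x _ => Set.mem_iUnion.mpr ⟨x, hxU x⟩)
  refine ⟨∑ i : F, N i.1, (Basic.fibreDegLE_iff f _).2 fun y => ?_⟩
  refine Compose.fd_of_cover (f.fiberToSpecResidueField y) (fun i : F => f.fiberι y ⁻¹ᵁ U i.1) ?_ _ fun i => ?_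
  · refine top_le_iff.1 fun t _ => ?_
    obtain ⟨x, hx, hxm⟩ := Set.mem_iUnion₂.1 (hF (Set.mem_univ (f.fiberι y t)))
    exact TopologicalSpace.Opens.mem_iSup.2 ⟨⟨x, hx⟩, hxm⟩
  · have hP : IsPullback (f.fiberι y ∣_ U i.1)
        ((f.fiberι y ⁻¹ᵁ U i.1).ι ≫ f.fiberToSpecResidueField y) ((U i.1).ι ≫ f) (Y.fromSpecResidueField y) :=
      (isPullback_morphismRestrict (f.fiberι y) (U i.1)).paste_vert (IsPullback.of_hasPullback f _)
    haveI := Basic.flat_of_field (((U i.1).ι ≫ f).fiberToSpecResidueField y)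
    have h2 : hP.isoPullback.hom ≫ ((U i.1).ι ≫ f).fiberToSpecResidueField y =
        (f.fiberι y ⁻¹ᵁ U i.1).ι ≫ f.fiberToSpecResidueField y := hP.isoPullback_hom_snd
    exact (congrArg (fun a => Basic.FD a (N i.1)) h2).mp
      ((Basic.fd_comp_iso hP.isoPullback.hom _ _).2 ((Basic.fibreDegLE_iff _ _).1 (hN i.1) y))

end Groth.Agent.S7441
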