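import Groth.Statements.S1448
import Groth.Agent.Lib.FibreDeg.Strat
import Groth.Agent.S7441
import Mathlib

set_option autoImplicit false
universe u
open FlatMor

namespace Groth.Agent.S1448
open AlgebraicGeometry CategoryTheory Limits Topology TopologicalSpace Groth.Agent.Lib.FibreDeg

theorem deg_eq_of_fibre_subset {X S : Scheme.{u}} {p : X ⟶ S} (hp : Strat.FiniteFibres p)
    (V : X.Opens) [IsFinite (V.ι ≫ p)] [Flat p] (s : S)
    (hall : ∀ w : X, p w = s → w ∈ V) : Strat.deg (V.ι ≫ p) s = Strat.deg p s := by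
  let Q := pullback V.ι (p.fiberι s)
  let jq : Q ⟶ p.fiber s := pullback.snd V.ι (p.fiberι s)
  have : Surjective jq := ⟨fun w => by
    have hw : p (p.fiberι s w) = s := by
      have h1 : p.fiberι s w ∈ Set.range (p.fiberι s) := ⟨w, rfl⟩
      rwa [Scheme.Hom.range_fiberι] at h1
    obtain ⟨q, -, hq⟩ := Scheme.Pullback.exists_preimage_pullback (f := V.ι)
      (g := p.fiberι s) ⟨_, hall _ hw⟩ w rfl
    exact ⟨q, hq⟩⟩
  have : IsIso jq := (isIso_iff_isOpenImmersion_and_surjective jq).2 ⟨inferInstance, inferInstance⟩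
  have sq : IsPullback (pullback.fst V.ι (p.fiberι s)) (jq ≫ p.fiberToSpecResidueField s) (V.ι ≫ p)
      (S.fromSpecResidueField s) :=
    (IsPullback.of_hasPullback _ _).paste_vert (IsPullback.of_hasPullback _ _)
  let e := sq.isoIsPullback _ _ (IsPullback.of_hasPullback _ _)
  have he : e.hom ≫ (V.ι ≫ p).fiberToSpecResidueField s = jq ≫ p.fiberToSpecResidueField s :=
    IsPullback.isoIsPullback_hom_snd _ _ _ _
  have := hp s
  have := Basic.flat_of_field (K := S.residueField s) (p.fiberToSpecResidueField s)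
  have := Strat.finiteFibres_of_isFinite (f := V.ι ≫ p) s
  have := Basic.flat_of_field (K := S.residueField s) ((V.ι ≫ p).fiberToSpecResidueField s)
  exact ((Strat.finrank_eq_of_iso e ‹_› ‹_› he _).symm.trans
    (Strat.finrank_eq_of_iso (asIso jq) ‹_› ‹_› rfl _))

theorem finiteFibres {X S : Scheme.{u}} (f : X ⟶ S) [LocallyQuasiFinite f] [LocallyOfFiniteType f]
    [QuasiCompact f] : Strat.FiniteFibres f := fun s => by
  have : LocallyQuasiFinite (f.fiberToSpecResidueField s) := inferInstanceAs (LocallyQuasiFinite (pullback.snd f (S.fromSpecResidueField s)))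
  have : LocallyOfFiniteType (f.fiberToSpecResidueField s) := inferInstanceAs (LocallyOfFiniteType (pullback.snd f (S.fromSpecResidueField s)))
  have : QuasiCompact (f.fiberToSpecResidueField s) := inferInstanceAs (QuasiCompact (pullback.snd f (S.fromSpecResidueField s)))
  exact IsFinite.of_locallyQuasiFinite _

/-- Near every point of an affine open, the level set of the degree contains a constructible set. -/
theorem exists_constructible {X S : Scheme.{u}} (f : X ⟶ S) [Flat f] [LocallyOfFinitePresentation f]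
    [IsSeparated f] [LocallyQuasiFinite f] [QuasiCompact f] {A : S.Opens} (hA : IsAffineOpen A)
    (a : (A : Scheme.{u})) :
    ∃ C : Set (A : Scheme.{u}), IsConstructible C ∧ a ∈ C ∧ ∀ b ∈ C, Strat.deg f (A.ι b) = Strat.deg f (A.ι a) := by
  classical
  have hf := finiteFibres f
  obtain ⟨U, g, u, V, hc, hg, hgu, hfin, hV⟩ := Strat.exists_finite_part hf (A.ι a)
  let p := pullback.snd f g
  have hp : Strat.FiniteFibres p := Strat.finiteFibres_baseChange (IsPullback.of_hasPullback f g) hf
  have hdeg : ∀ u', Strat.deg f (g u') = Strat.deg p u' :=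
    fun u' => (Strat.deg_baseChange (IsPullback.of_hasPullback f g) hf u').symm
  have hVdeg : ∀ u', (∀ w, p w = u' → w ∈ V) → (V.ι ≫ p).finrank u' = Strat.deg f (g u') := fun u' h => by
    rw [← Strat.deg_eq_finrank (f := V.ι ≫ p), deg_eq_of_fibre_subset hp V u' h, hdeg]
  have hu : (V.ι ≫ p).finrank u = Strat.deg f (A.ι a) :=
    (hVdeg u ((hV u).2 (by rw [hgu]))).trans (by rw [hgu])
  have hopen : IsOpen {u' | (V.ι ≫ p).finrank u' = Strat.deg f (A.ι a)} :=
    ((V.ι ≫ p).isLocallyConstant_finrank).isOpen_fiber _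
  obtain ⟨W, hW, huW, hWle⟩ := exists_isAffineOpen_mem_and_subset (X := U) (x := u)
    (U := (⟨_, hopen⟩ : U.Opens) ⊓ g ⁻¹ᵁ A) ⟨hu, show g u ∈ A by rw [hgu]; exact a.2⟩
  let h : (W : Scheme.{u}) ⟶ A := g.resLE A W (fun x hx => (hWle hx).2)
  let K : Set (pullback f g : Scheme.{u}) := (p ⁻¹ᵁ W : Set _) \ (V : Set _)
  have hVc : IsClosed (V : Set (pullback f g : Scheme.{u})) := by
    have := hc.base_closed.isClosed_range
    rwa [Scheme.Opens.range_ι] at this
  have hKo : IsOpen K := (p ⁻¹ᵁ W).2.sdiff hVc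
  have hKc : IsCompact K := (p.isCompact_preimage hW.isCompact).diff V.2
  let B : Set U := p '' K
  have hBo : IsOpen B := p.isOpenMap _ hKo
  have hBc : IsCompact B := hKc.image p.continuous
  haveI : IsAffine (W : Scheme.{u}) := hW
  haveI : IsAffine (A : Scheme.{u}) := hA
  haveI : QuasiCompact h := quasiCompact_of_compactSpace h
  haveI : LocallyOfFinitePresentation g := inferInstance
  haveI : LocallyOfFinitePresentation h := inferInstanceAs (LocallyOfFinitePresentation (g.resLE A W _))
  have hBW : B ⊆ W := by rintro _ ⟨w, hw, rfl⟩; exact hw.1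
  have hBW' : IsConstructible (W.ι ⁻¹' B) := by
    have hcpt : IsCompact (W.ι ⁻¹' B) := by
      rw [W.ι.isEmbedding.isInducing.isCompact_iff, Set.image_preimage_eq_of_subset (by rwa [Scheme.Opens.range_ι])]
      exact hBc
    exact hcpt.isConstructible (hBo.preimage W.ι.continuous)
  refine ⟨h '' (W.ι ⁻¹' B)ᶜ, h.isConstructible_image hBW'.compl, ⟨⟨u, huW⟩, ?_, ?_⟩, ?_⟩
  · rintro ⟨w, hw, hwu⟩
    exact hw.2 ((hV u).2 (by rw [hgu]) w hwu)
  · refine A.ι.isOpenEmbedding.injective ?_
    rw [← Scheme.Hom.comp_apply, Scheme.Hom.resLE_comp_ι]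
    exact hgu
  · rintro _ ⟨w, hw, rfl⟩
    have hfib : ∀ z, p z = W.ι w → z ∈ V := fun z hz => by
      by_contra hzV
      exact hw ⟨z, ⟨show p z ∈ W from hz ▸ w.2, hzV⟩, hz⟩
    have h1 := hVdeg (W.ι w) hfib
    have h2 : (V.ι ≫ p).finrank (W.ι w) = Strat.deg f (A.ι a) := (hWle w.2).1
    rw [← Scheme.Hom.comp_apply, Scheme.Hom.resLE_comp_ι, Scheme.Hom.comp_apply]
    exact h1.symm.trans h2

theorem isOpen_constructibleTopology {α : Type*} [TopologicalSpace α] [CompactSpace α]
    {C : Set α} (hC : IsConstructible C) : IsOpen[constructibleTopology α] C := by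
  have hboth : IsOpen[constructibleTopology α] C ∧ IsOpen[constructibleTopology α] Cᶜ := by
    induction hC using IsConstructible.empty_union_induction with
    | open_retrocompact U hUo hUc =>
      exact ⟨hUc.isCompact.isOpen_constructibleTopology_of_isOpen hUo,
        IsCompact.isOpen_constructibleTopology_of_isClosed (by rw [compl_compl]; exact hUc.isCompact) hUo.isClosed_compl⟩
    | union s _ t _ hs ht =>
      exact ⟨@IsOpen.union α s t (constructibleTopology α) hs.1 ht.1,
        by rw [Set.compl_union]; exact @IsOpen.inter α (constructibleTopology α) sᶜ tᶜ hs.2 ht.2⟩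
    | compl s _ hs => exact ⟨hs.2, by rw [compl_compl]; exact hs.1⟩
  exact hboth.1

theorem isCompact_of_isConstructible {Y : Scheme.{u}} [IsAffine Y] {C : Set Y} (hC : IsConstructible C) :
    IsCompact C := by
  have hcont : Continuous (fun x : WithConstructibleTopology ↥Y => WithTopology.ofTopology x) := by
    refine (PrespectralSpace.isTopologicalBasis (X := ↥Y)).continuous_iff.mpr fun s hs => ?_
    exact WithConstructibleTopology.isOpen_iff.mpr (hs.2.isOpen_constructibleTopology_of_isOpen hs.1)
  have hcl : IsClosed ((fun x : WithConstructibleTopology ↥Y => WithTopology.ofTopology x) ⁻¹' C) :=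
    isOpen_compl_iff.mp (WithConstructibleTopology.isOpen_iff.mpr (isOpen_constructibleTopology hC.compl))
  have := hcl.isCompact.image hcont
  rwa [Set.image_preimage_eq C (fun x => ⟨WithTopology.toTopology _ x, rfl⟩)] at this

theorem isConstructible_level {X S : Scheme.{u}} (f : X ⟶ S) [Flat f] [LocallyOfFinitePresentation f]
    [IsSeparated f] [LocallyQuasiFinite f] [QuasiCompact f] {A : S.Opens} (hA : IsAffineOpen A) (r : ℕ) :
    IsConstructible {b : (A : Scheme.{u}) | Strat.deg f (A.ι b) = r} := by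
  classical
  haveI : IsAffine (A : Scheme.{u}) := hA
  choose C hC hmem hdeg using exists_constructible f hA
  obtain ⟨F, hF⟩ := (isCompact_univ (X := WithConstructibleTopology ↥(A : Scheme.{u}))).elim_finite_subcover
    (fun a : (A : Scheme.{u}) => (fun x => WithTopology.ofTopology x) ⁻¹' C a)
    (fun a => (WithConstructibleTopology.isOpen_iff).mpr (isOpen_constructibleTopology (hC a)))
    (fun x _ => Set.mem_iUnion.mpr ⟨_, hmem _⟩)
  have e : {b : (A : Scheme.{u}) | Strat.deg f (A.ι b) = r} = ⋃ a ∈ F.filter (fun a => Strat.deg f (A.ι a) = r), C a := by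
    ext b
    simp only [Set.mem_ofPred_eq, Set.mem_iUnion, Finset.mem_filter, exists_prop]
    constructor
    · intro hb
      obtain ⟨a, haF, hba⟩ := Set.mem_iUnion₂.mp (hF (Set.mem_univ (WithTopology.toTopology _ b)))
      exact ⟨a, ⟨haF, (hdeg a b hba).symm.trans hb⟩, hba⟩
    · rintro ⟨a, ⟨-, ha⟩, hba⟩
      exact (hdeg a b hba).trans ha
  rw [e]
  exact IsConstructible.biUnion (Finset.finite_toSet _) fun a _ => hC a


open AlgebraicGeometry CategoryTheory Limits in
/-- Consider a separated, flat, quasi-compact and locally quasi-finite morphism f : X → S which is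
locally of finite presentation. Then there is a function deg : S → ℕ with every sublevel set {deg ≤
r} closed and every level set retrocompact, such that for every morphism g : T → S and every r, deg
∘ g is constant with value r exactly when the base change of f along g is finite locally free of
degree r. -/
theorem result {X S : Scheme.{u}} (f : X ⟶ S) [Flat f] [LocallyOfFinitePresentation f] [IsSeparated f] [LocallyQuasiFinite f] [QuasiCompact f] :
    ∃ deg : ↑S → ℕ, (∀ r : ℕ, IsClosed {s : ↑S | deg s ≤ r}) ∧ (∀ r : ℕ, IsRetrocompact {s : ↑S | deg s = r}) ∧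
      ∀ (T : Scheme.{u}) (g : T ⟶ S) (r : ℕ), Mor2.IsFinLocFreeOfDeg r (pullback.snd f g) ↔ ∀ t : T, deg (g t) = r := by
  have hf := finiteFibres f
  refine ⟨Strat.deg f, fun r => ?_, fun r => ?_, fun T g r => ?_⟩
  · rw [← isOpen_compl_iff]
    convert Strat.isOpen_le_deg hf (r + 1) using 1
    ext s
    simp only [Set.mem_compl_iff, Set.mem_ofPred_eq, not_le]
    rfl
  · intro U hUc hUo
    obtain ⟨F, hF⟩ := hUc.elim_finite_subcover (fun A : {A : S.affineOpens // (A.1 : Set S) ⊆ U} => (A.1.1 : Set S))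
      (fun A => A.1.1.2) (fun x hx => by
        obtain ⟨A, hA, hxA, hle⟩ := exists_isAffineOpen_mem_and_subset (U := (⟨U, hUo⟩ : S.Opens)) hx
        exact Set.mem_iUnion.mpr ⟨⟨⟨A, hA⟩, hle⟩, hxA⟩)
    have e : {s | Strat.deg f s = r} ∩ U = ⋃ A ∈ F, A.1.1.ι '' {b : (A.1.1 : Scheme.{u}) | Strat.deg f (A.1.1.ι b) = r} := by
      ext s
      simp only [Set.mem_inter_iff, Set.mem_ofPred_eq, Set.mem_iUnion, Set.mem_image, exists_prop]
      constructor
      · rintro ⟨hs, hsU⟩
        obtain ⟨A, hA, hsA⟩ := Set.mem_iUnion₂.mp (hF hsU)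
        exact ⟨A, hA, ⟨s, hsA⟩, hs, rfl⟩
      · rintro ⟨A, -, b, hb, rfl⟩
        exact ⟨hb, A.2 b.2⟩
    rw [e]
    refine F.finite_toSet.isCompact_biUnion fun A _ => IsCompact.image ?_ A.1.1.ι.continuous
    haveI : IsAffine (A.1.1 : Scheme.{u}) := A.1.2
    exact isCompact_of_isConstructible (isConstructible_level f A.1.2 r)
  · have sq := IsPullback.of_hasPullback f g
    have hg : Strat.FiniteFibres (pullback.snd f g) := Strat.finiteFibres_baseChange sq hf
    constructor
    · rintro ⟨⟨h1, h2, h3⟩, hr⟩ t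
      rw [← Strat.deg_baseChange sq hf t, Strat.deg_eq_finrank]
      exact hr t
    · intro hr
      exact Strat.isFinLocFree_of_deg_eq hg fun t => (Strat.deg_baseChange sq hf t).trans (hr t)

end Groth.Agent.S1448
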