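import Groth.Statements.S1393
import Groth.Agent.Lib.Flat55.FibrewiseScheme
import Groth.Agent.Lib.TensorMod.FPCrit

set_option autoImplicit false
universe u
open FlatMor Groth.Agent

namespace Groth.Agent.S1393

open AlgebraicGeometry CategoryTheory Limits in
/-- Let f : X → S be of finite presentation, F a finitely presented quasi-coherent O_X-module and x a
point with image s. If F is flat over S at x and the stalk at x of the restriction of F to the
fibre, namely F_x / m_s F_x, is flat over the local ring of the fibre at x, namely O_{X,x} / m_s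
O_{X,x}, then F is free of finite rank on some open neighbourhood of x. -/
theorem result {X S : Scheme.{u}} (f : X ⟶ S) [LocallyOfFinitePresentation f] [QuasiCompact f] [QuasiSeparated f]
    (F : X.Modules) (hFq : Coh.IsQCoh F) (hFp : CohB1.IsFP F) (x : X) (h1 : FlatMod.IsFlatOverAt f F x)
    (h2 : Module.Flat (↑(X.presheaf.stalk x) ⧸ Ideal.map (f.stalkMap x).hom (IsLocalRing.maximalIdeal ↑(S.presheaf.stalk (f x))))
      (↑(F.presheaf.stalk x) ⧸ (Ideal.map (f.stalkMap x).hom (IsLocalRing.maximalIdeal ↑(S.presheaf.stalk (f x))) • (⊤ : Submodule ↑(X.presheaf.stalk x) ↑(F.presheaf.stalk x))))) :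
    ∃ (U : X.Opens) (n : ℕ), x ∈ U ∧ Nonempty (F.restrict U.ι ≅ FlatMod.freeMod (↑U) n) := by
  have : F.IsQuasicoherent := hFq
  haveI : SheafOfModules.IsFinitePresentation (R := X.ringCatSheaf) F := hFp
  haveI : LocallyOfFinitePresentation (𝟙 X ≫ f) := by rw [Category.id_comp]; infer_instance
  have h1' : FlatMod.IsFlatOverAt (𝟙 X ≫ f) F x := by rw [Category.id_comp]; exact h1
  have hid : ∀ (a : X.presheaf.stalk x) (m : F.presheaf.stalk x),
      ((𝟙 X : X ⟶ X).stalkMap x).hom a • m = a • m := fun a m ↦ by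
    rw [Scheme.Hom.stalkMap_id]; rfl
  have h := Lib.Flat55.FibrewiseScheme.flat_at_of_fibre (𝟙 X) f F x h1' (by
    have e : (FlatMod.moduleStalkOver (𝟙 X) F x : Module (X.presheaf.stalk x) (F.presheaf.stalk x)) =
        FlatMod.moduleStalk F x := Module.ext' _ _ hid
    dsimp only
    erw [e]
    exact h2)
  have hflat : Module.Flat (X.presheaf.stalk x) (F.presheaf.stalk x) :=
    @Lib.Flat55.FibrewiseScheme.flat_congr (X.presheaf.stalk x) (F.presheaf.stalk x) _ _
      (FlatMod.moduleStalk F x) (FlatMod.moduleStalkOver (𝟙 X) F x)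
      (fun a m ↦ (hid a m).symm) h.1
  obtain ⟨U, hU, hxU, -, hfpU⟩ := Lib.Flat55.QCohFP.exists_affine_le F x ⊤ trivial
  let _ := TopCat.Presheaf.algebra_section_stalk X.presheaf (⟨x, hxU⟩ : U)
  have := hU.isLocalization_stalk ⟨x, hxU⟩
  let _ := Lib.StalkLoc.Basic.moduleSections F hxU
  have : IsScalarTower Γ(X, U) (X.presheaf.stalk x) (F.presheaf.stalk x) :=
    Lib.StalkLoc.Basic.isScalarTower_sections F hxU
  have := Lib.StalkLoc.Basic.isLocalizedModule_germ (M := F) hU hxU
  have : Module.Finite (X.presheaf.stalk x) (F.presheaf.stalk x) :=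
    Module.Finite.of_isLocalizedModule (hU.primeIdealOf ⟨x, hxU⟩).asIdeal.primeCompl
      (Rₚ := X.presheaf.stalk x) (Lib.StalkLoc.Basic.germₗ F hxU)
  have : Module.Free (X.presheaf.stalk x) (F.presheaf.stalk x) := Module.free_of_flat_of_isLocalRing
  exact Lib.TensorMod.FPCrit.exists_free_nhd hU hxU

end Groth.Agent.S1393
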