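import Groth.Statements.S14254
import Groth.Agent.Lib.H58PerfClos
import Groth.Agent.H98.PerfUH
import Groth.Agent.Lib.Perfection.Morph
-- import your own Groth.Agent.* helpers here

set_option autoImplicit false
universe u
open CategoryTheory AlgebraicGeometry
open FrobAlg

namespace Groth.Agent.S14254

/-- Let p be a prime, φ : A → B a map of commutative rings of characteristic p, i : A → A' and j : B →
B' perfect closures (A' and B' are perfect rings of characteristic p, every element of A' resp. B'
has a p^n-th power in the image of i resp. j, and the kernels of i and j consist of nilpotent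
elements), and φ' : A' → B' the induced map, φ' ∘ i = j ∘ φ. Then Spec φ : Spec B ⟶ Spec A is a
universal homeomorphism if and only if φ' is bijective. (The published statement is for an arbitrary
morphism of schemes over the prime field and its perfection; this row is the case of affine schemes,
the perfection of Spec A being Spec of the perfect closure of A.) -/
theorem result (p : ℕ) [Fact p.Prime]
    {A B A' B' : Type u} [CommRing A] [CommRing B] [CommRing A'] [CommRing B']
    [CharP A p] [CharP B p] [CharP A' p] [CharP B' p] [PerfectRing A' p] [PerfectRing B' p]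
    (φ : A →+* B) (i : A →+* A') (j : B →+* B') [IsPerfectClosure i p] [IsPerfectClosure j p]
    (φ' : A' →+* B') (hφ : φ'.comp i = j.comp φ) :
    FlatMor.IsUnivHomeo (Spec.map (CommRingCat.ofHom φ)) ↔ Function.Bijective φ' := by
  have hI := Groth.Agent.Lib.H58PerfClos.isIntegralHom_spec p i
  have hJ := Groth.Agent.Lib.H58PerfClos.isIntegralHom_spec p j
  have uI := Groth.Agent.Lib.H58PerfClos.universallyInjective_spec p i
  have uJ := Groth.Agent.Lib.H58PerfClos.universallyInjective_spec p j
  have sI := Groth.Agent.Lib.H58PerfClos.surjective_spec p i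
  have sJ := Groth.Agent.Lib.H58PerfClos.surjective_spec p j
  have w : Spec.map (CommRingCat.ofHom φ') ≫ Spec.map (CommRingCat.ofHom i) =
      Spec.map (CommRingCat.ofHom j) ≫ Spec.map (CommRingCat.ofHom φ) := by
    rw [← Spec.map_comp, ← Spec.map_comp, ← CommRingCat.ofHom_comp, ← CommRingCat.ofHom_comp, hφ]
  have hI' := Groth.Agent.Lib.Perfection.Morph.isUnivHomeo_of (Spec.map (CommRingCat.ofHom i))
  have hJ' := Groth.Agent.Lib.Perfection.Morph.isUnivHomeo_of (Spec.map (CommRingCat.ofHom j))
  have hiff : FlatMor.IsUnivHomeo (Spec.map (CommRingCat.ofHom φ)) ↔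
      FlatMor.IsUnivHomeo (Spec.map (CommRingCat.ofHom φ')) := by
    constructor
    · intro h
      have hc := Groth.Agent.Lib.Perfection.Morph.isUnivHomeo_comp hJ' h
      rw [← w] at hc
      obtain ⟨a, b, c⟩ := Groth.Agent.Lib.Perfection.Morph.props_of_isUnivHomeo hc
      have := Groth.Agent.Lib.Perfection.Morph.universallyClosed_of_comp (Spec.map (CommRingCat.ofHom φ')) (Spec.map (CommRingCat.ofHom i))
      have := Groth.Agent.Lib.Perfection.Morph.universallyInjective_of_comp (Spec.map (CommRingCat.ofHom φ')) (Spec.map (CommRingCat.ofHom i))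
      have : Surjective (Spec.map (CommRingCat.ofHom φ')) := ⟨fun y => by
        obtain ⟨x, hx⟩ := (Spec.map (CommRingCat.ofHom φ') ≫ Spec.map (CommRingCat.ofHom i)).surjective
          (Spec.map (CommRingCat.ofHom i) y)
        exact ⟨x, (Spec.map (CommRingCat.ofHom i)).injective hx⟩⟩
      exact Groth.Agent.Lib.Perfection.Morph.isUnivHomeo_of _
    · intro h
      have hc := Groth.Agent.Lib.Perfection.Morph.isUnivHomeo_comp h hI'
      rw [w] at hc
      exact Groth.Agent.Lib.Perfection.Morph.isUnivHomeo_of_comp hJ' hc
  rw [hiff]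
  constructor
  · intro h
    obtain ⟨hc, hinj, hs⟩ := Groth.Agent.Lib.Perfection.Morph.props_of_isUnivHomeo h
    have hint : φ'.IsIntegral := IsIntegralHom.SpecMap_iff.1
      (IsIntegralHom.iff_universallyClosed_and_isAffineHom.2 ⟨hc, inferInstance⟩)
    have hbij : Function.Bijective (PrimeSpectrum.comap φ') :=
      ⟨(Spec.map (CommRingCat.ofHom φ')).injective, (Spec.map (CommRingCat.ofHom φ')).surjective⟩
    letI : Algebra A' B' := φ'.toAlgebra
    haveI : Algebra.IsIntegral A' B' := ⟨hint⟩
    refine ⟨?_, Groth.Agent.H98.PerfUH.surjective_algebraMap p (CharP.cast_eq_zero A' p)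
      (PerfectRing.bijective_frobenius (R := A') (p := p)) (PerfectRing.bijective_frobenius (R := B') (p := p)) ?_ hbij⟩
    · refine (injective_iff_map_eq_zero φ').2 fun a ha => ?_
      have hn : a ∈ pNilradical A' p := by
        rw [pNilradical_prime Fact.out, nilradical_eq_sInf, Ideal.mem_sInf]
        intro P hP
        obtain ⟨Q, hQ⟩ := hbij.2 ⟨P, hP⟩
        refine (SetLike.ext_iff.mp (congr_arg PrimeSpectrum.asIdeal hQ) a).mp ?_
        show φ' a ∈ Q.asIdeal
        rw [ha]; exact zero_mem _
      rwa [PerfectRing.pNilradical_eq_bot A' p, Ideal.mem_bot] at hn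
    · intro K _ ψ₁ ψ₂ h12
      have h2 : ∀ (K : Type u) [Field K], Function.Injective
          (fun k : Spec (.of K) ⟶ Spec (.of B') => k ≫ Spec.map (CommRingCat.ofHom φ')) :=
        ((tfae_universallyInjective _).out 0 1).mp hinj
      have h3 := @h2 K _ (Spec.map (CommRingCat.ofHom ψ₁)) (Spec.map (CommRingCat.ofHom ψ₂)) (by
        simp only [← Spec.map_comp]
        congr 1
        exact CommRingCat.hom_ext h12)
      rw [Spec.map_inj] at h3
      exact congr_arg CommRingCat.Hom.hom h3
  · intro h
    haveI : IsIso (CommRingCat.ofHom φ') := (ConcreteCategory.isIso_iff_bijective _).mpr h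
    exact Groth.Agent.Lib.Perfection.Morph.isUnivHomeo_of _

end Groth.Agent.S14254
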