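import Groth.Statements.S12606
import Groth.Agent.Lib.FunFld.Hasse.Local
-- import your own Groth.Agent.* helpers here

set_option autoImplicit false
open FunFld

namespace Groth.Agent.S12606
open Groth.Agent.Lib.FunFld.Hasse Groth.Agent.Lib.FunFld

/-- Over an algebraically closed constant field, let `P` be a strong fixed point of the `k`-endomorphism
`τ`, `φ = (φ₀, …, φₙ)` (`n ≥ 1`) an effective projective map normalized at `P` with `τ(φ)` not a
`K`-multiple of `φ`, `t` a local parameter at `P`, `j₁, …, jₙ` the `τ`-orders of `φ` and `j'₁, …,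
j'ₙ` the orders of `φ` at `P`. Then `jₗ ≤ j'ₗ - j'₁` for `1 ≤ l ≤ n`. -/
theorem result
    (k K : Type*) [Field k] [IsAlgClosed k] [Field K] [Algebra k K]
    (hK : FunFld.IsFunctionField k K) (τ : K →ₐ[k] K) (P : FunFld.Place k K) (hP : FunFld.IsStrongFixedPt τ P)
    {n : ℕ} (hn : 0 < n) (φ : Fin (n + 1) → K) (hφ : LinearIndependent k φ)
    (heff : (1 : K) ∈ Submodule.span k (Set.range φ)) (hnorm : ∀ i, P.1 (φ i) ≤ 1)
    (hτφ : ¬ ∃ y : K, ∀ i, τ (φ i) = y * φ i)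
    (t : K) (ht : P.1 t = WithZero.exp (-1))
    (Ht : K →ₐ[k] PowerSeries K) (hHt : LocRes.IsHasseFamily t Ht)
    (J : Fin n → ℕ) (hJ : FunFld.IsOrders K (FunFld.hcol τ Ht φ) J)
    (J' : Fin n → ℕ) (hJ' : FunFld.IsOrders (IsLocalRing.ResidueField P.O) (FunFld.hcolAt P Ht φ) J') :
    ∀ l, J l + J' ⟨0, hn⟩ ≤ J' l := by
  obtain ⟨ψ, hψ, hψt⟩ := Param.exists_expansion hK ht
  obtain ⟨I, hI, hdet, hle⟩ := Local.exists_binom (k := k) hJ'.1 hn
  have h := (Local.val_det φ hK (Local.isFixedPt_of_strong hP) hψ hψt ht hHt hφ heff hnorm hJ' I).2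
    (Or.inr hP)
  have hne : (FunFld.wrMat τ Ht φ I).det ≠ 0 := fun h0 => by
    have := h.mpr hdet
    rw [h0, map_zero] at this
    exact WithZero.exp_ne_zero this.symm
  intro l
  have := Jumps.orders_le (Param.hcol_zero_ne_zero τ φ ⟨0, hφ.ne_zero 0⟩ Ht) hJ hI
    ((Jumps.det_ne_zero_iff I).mp (Jumps.wrMat_det τ Ht φ I ▸ hne)) l
  have := hle l
  omega

end Groth.Agent.S12606
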