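import Groth.Statements.S11053
import Groth.Agent.Lib.FunFld.Hasse.Wdiv
import Groth.Agent.Lib.FunFld.Gaps
import Groth.Agent.S12606
-- import your own Groth.Agent.* helpers here

set_option autoImplicit false
open FunFld

namespace Groth.Agent.S11053
open Groth.Agent.Lib.FunFld.Hasse Groth.Agent.Lib.FunFld WithZero

/-- Over an algebraically closed constant field, let `τ` be a `k`-embedding of the function field `K` of
genus `g` into itself, of degree `deg τ = [K : τ(K)]`. A place is a strong fixed point of `τ` when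
`τ` maps its maximal ideal into the square of that ideal. For every integer `n > g` there are at
most `1 + deg τ + (n + deg τ / n) g + 2g²(g-1)/n` strong fixed points. -/
theorem result
    (k K : Type*) [Field k] [IsAlgClosed k] [Field K] [Algebra k K]
    (hK : FunFld.IsFunctionField k K) (τ : K →ₐ[k] K) (n : ℕ)
    (hn : FunFld.genus k K < n) :
    {P : FunFld.Place k K | ∀ x : K, P.1 x < 1 → P.1 (τ x) ≤ WithZero.exp (-2)}.Finite ∧
    (Set.ncard {P : FunFld.Place k K | ∀ x : K, P.1 x < 1 → P.1 (τ x) ≤ WithZero.exp (-2)} : ℝ) ≤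
      1 + Module.finrank τ.fieldRange K +
        (n + (Module.finrank τ.fieldRange K : ℝ) / n) * FunFld.genus k K +
        2 * (FunFld.genus k K : ℝ) ^ 2 * (FunFld.genus k K - 1) / n := by
  classical
  set g := FunFld.genus k K with hgdef
  set q := Module.finrank τ.fieldRange K
  set S := {P : FunFld.Place k K | ∀ x : K, P.1 x < 1 → P.1 (τ x) ≤ WithZero.exp (-2)}
  have hn0 : 0 < n := by omega
  have hnR : (0 : ℝ) < n := by exact_mod_cast hn0
  rcases S.eq_empty_or_nonempty with hS | ⟨P₀, hP₀⟩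
  · rw [hS]
    refine ⟨Set.finite_empty, ?_⟩
    rw [Set.ncard_empty, Nat.cast_zero]
    have h1 : (0 : ℝ) ≤ 2 * (g : ℝ) ^ 2 * ((g : ℝ) - 1) := by
      rcases Nat.eq_zero_or_pos g with h0 | h0
      · simp [h0]
      · have : (1 : ℝ) ≤ g := by exact_mod_cast h0
        have : (0 : ℝ) ≤ (g : ℝ) - 1 := by linarith
        positivity
    have h2 : (0 : ℝ) ≤ ((n : ℝ) + q / n) * g := by positivity
    have h3 : (0 : ℝ) ≤ 2 * (g : ℝ) ^ 2 * ((g : ℝ) - 1) / n := div_nonneg h1 hnR.le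
    have h4 : (0 : ℝ) ≤ q := Nat.cast_nonneg _
    linarith
  have hP₁ := Wdiv.deg_eq_one hK P₀
  set N := n + g
  -- the linear system
  set D : FunFld.Divisor k K := Finsupp.single P₀ (N : ℤ)
  have := Degree.finiteDimensional_L hK D
  have hell : Module.finrank k (FunFld.L D) = n + 1 := by
    have h := Weil.ell_eq_of_deg_ge hK (D := D) (by rw [Degree.deg_single, hP₁]; omega)
    rw [Degree.deg_single, hP₁] at h
    simp only [FunFld.ell] at h
    omega
  let b := Module.finBasisOfFinrankEq k (FunFld.L D) hell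
  obtain ⟨f₁, hf₁, hf₁'⟩ := Gaps.isPole_of_two_mul_le hK hP₁ (m := N) (by omega)
  obtain ⟨f₂, hf₂, hf₂'⟩ := Gaps.isPole_of_two_mul_le hK hP₁ (m := N - 1) (by omega)
  have hf₁0 : f₁ ≠ 0 := fun h => by rw [h, map_zero] at hf₁; exact exp_ne_zero hf₁.symm
  have hy : f₁⁻¹ ≠ 0 := inv_ne_zero hf₁0
  let φ₀ : Fin (n + 1) → K := fun i => (b i : K)
  let φ : Fin (n + 1) → K := f₁⁻¹ • φ₀
  have hli₀ : LinearIndependent k φ₀ := b.linearIndependent.map' (FunFld.L D).subtype (Submodule.ker_subtype _)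
  have hspan₀ : Submodule.span k (Set.range φ₀) = FunFld.L D := by
    rw [show φ₀ = (FunFld.L D).subtype ∘ b from rfl, Set.range_comp, Submodule.span_image, b.span_eq,
      Submodule.map_top, Submodule.range_subtype]
  have hli : LinearIndependent k φ :=
    hli₀.map' (LinearMap.mulLeft k f₁⁻¹) (LinearMap.ker_eq_bot.mpr (mul_right_injective₀ hy))
  have hmem : ∀ z : K, z ∈ FunFld.L D → f₁⁻¹ * z ∈ Submodule.span k (Set.range φ) := fun z hz => by
    rw [show φ = LinearMap.mulLeft k f₁⁻¹ ∘ φ₀ from rfl, Set.range_comp, Submodule.span_image, hspan₀]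
    exact ⟨z, hz, rfl⟩
  have hmem' : ∀ f, f ∈ Submodule.span k (Set.range φ) → f₁ * f ∈ FunFld.L D := fun f hf => by
    rw [show φ = LinearMap.mulLeft k f₁⁻¹ ∘ φ₀ from rfl, Set.range_comp, Submodule.span_image, hspan₀] at hf
    obtain ⟨z, hz, rfl⟩ := hf
    simpa [mul_inv_cancel_left₀ hf₁0] using hz
  have hf₁L : f₁ ∈ FunFld.L D := (Gaps.mem_L_single P₀).mpr ⟨hf₁.le, hf₁'⟩
  have hf₂L : f₂ ∈ FunFld.L D :=
    (Gaps.mem_L_single P₀).mpr ⟨hf₂.le.trans (exp_le_exp.mpr (by omega)), hf₂'⟩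
  have heff : (1 : K) ∈ Submodule.span k (Set.range φ) := by
    have := hmem f₁ hf₁L
    rwa [inv_mul_cancel₀ hf₁0] at this
  have hint : ∀ i, P₀.1 (φ i) ≤ 1 := fun i => by
    have h := ((Gaps.mem_L_single P₀).mp (b i).2).1
    change P₀.1 (f₁⁻¹ * (b i : K)) ≤ 1
    rw [map_mul, map_inv₀, hf₁]
    exact inv_mul_le_one_of_le₀ h zero_le
  have hτφ : ¬ ∃ y : K, ∀ i, τ (φ i) = y * φ i := by
    rintro ⟨y, hy⟩
    have hyz : ∀ z ∈ Submodule.span k (Set.range φ), τ z = y * z := fun z hz => by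
      refine Submodule.span_induction ?_ (by simp) (fun a b _ _ ha hb => ?_) (fun c a _ ha => ?_) hz
      · rintro _ ⟨i, rfl⟩; exact hy i
      · rw [map_add, ha, hb, mul_add]
      · rw [map_smul, ha, mul_smul_comm]
    have hy1 : y = 1 := by simpa using (hyz 1 heff).symm
    have hr := hyz _ (hmem f₂ hf₂L)
    rw [hy1, one_mul] at hr
    have hv : P₀.1 (f₁⁻¹ * f₂) = exp (-1) := by
      rw [map_mul, map_inv₀, hf₁, hf₂, ← exp_neg, ← exp_add]
      congr 1
      omega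
    have h2 := hP₀ (f₁⁻¹ * f₂) (by rw [hv, ← exp_zero, exp_lt_exp]; norm_num)
    rw [hr, hv, exp_le_exp] at h2
    omega
  obtain ⟨t, ψ, Ht, ht, hψ, hψt, hHt⟩ := Wdiv.exists_local hK P₀
  obtain ⟨Φ, hΦ⟩ := Wdiv.exists_expansions hK
  obtain ⟨J, hJ⟩ := Param.exists_orders τ φ hK hli hHt
  obtain ⟨J', hJ'⟩ := Diff.exists_orders_at hK hli heff hint ht hHt
  have h06 := Groth.Agent.S12606.result k K hK τ P₀ hP₀ hn0 φ hli heff hint hτφ t ht Ht hHt J hJ J' hJ'
  -- the orders at `P₀`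
  set G := Gaps.gapsTo P₀ N
  set T := (Finset.range N).filter fun m => Gaps.IsPole P₀ m
  have hjump : ∀ l, 0 < J' l ∧ J' l ≤ N ∧ Gaps.IsPole P₀ (N - J' l) := fun l => by
    obtain ⟨hpos, f, hf, hfv⟩ :=
      (Local.isJump_hcolAt_iff φ hK hψ hψt hHt hint (J' l)).mp ((hJ'.2 _).mp ⟨l, rfl⟩)
    obtain ⟨h1, h2⟩ := (Gaps.mem_L_single P₀).mp (hmem' f hf)
    have hv : P₀.1 (f₁ * f) = exp ((N : ℤ) - J' l) := by
      rw [map_mul, hf₁, hfv, ← exp_add]; congr 1
    have hle : J' l ≤ N := by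
      by_contra hlt
      have hneg : (f₁ * f) ∈ FunFld.L (Finsupp.single P₀ ((N : ℤ) - J' l)) :=
        (Gaps.mem_L_single P₀).mpr ⟨hv.le, h2⟩
      rw [Degree.L_eq_bot_of_deg_neg hK (by rw [Degree.deg_single, hP₁]; omega), Submodule.mem_bot] at hneg
      rw [hneg, map_zero] at hv
      exact exp_ne_zero hv.symm
    refine ⟨hpos, hle, f₁ * f, ?_, h2⟩
    rw [hv, Nat.cast_sub hle]
  have hGr : G = (Finset.range N).filter fun m => ¬ Gaps.IsPole P₀ m := by
    ext m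
    rw [Gaps.mem_gapsTo, Finset.mem_filter, Finset.mem_range]
    constructor
    · rintro ⟨⟨-, h2⟩, h3⟩
      exact ⟨lt_of_le_of_ne h2 fun e => h3 (e ▸ Gaps.isPole_of_two_mul_le hK hP₁ (by omega)), h3⟩
    · rintro ⟨h1, h2⟩
      exact ⟨⟨Nat.one_le_iff_ne_zero.mpr fun h0 => h2 (h0 ▸ Gaps.isPole_zero P₀), h1.le⟩, h2⟩
  have hG : G.card = g := Gaps.card_eq_genus hK hP₁ (by omega)
  have hT : T.card + G.card = N := by
    rw [hGr, Finset.card_filter_add_card_filter_not, Finset.card_range]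
  have himg : Finset.univ.image (fun l => N - J' l) = T := by
    refine Finset.eq_of_subset_of_card_le (fun m hm => ?_) ?_
    · obtain ⟨l, -, rfl⟩ := Finset.mem_image.mp hm
      obtain ⟨h1, h2, h3⟩ := hjump l
      exact Finset.mem_filter.mpr ⟨Finset.mem_range.mpr (by omega), h3⟩
    · rw [Finset.card_image_of_injective _ fun a b hab => hJ'.1.injective (by
        have := (hjump a).2.1; have := (hjump b).2.1; omega), Finset.card_univ, Fintype.card_fin]
      omega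
  have hsum1 : ∑ l, J' l = ∑ m ∈ T, (N - m) := by
    rw [← himg, Finset.sum_image fun a _ b _ hab => hJ'.1.injective (by
      have := (hjump a).2.1; have := (hjump b).2.1; omega)]
    exact Finset.sum_congr rfl fun l _ => by have := (hjump l).2.1; omega
  have hsum2 : (∑ m ∈ T, (N - m)) + ∑ m ∈ G, (N - m) = ∑ m ∈ Finset.range N, (N - m) := by
    rw [hGr, Finset.sum_filter_add_sum_filter_not]
  have hsum3 : ∀ M : ℕ, 2 * ∑ m ∈ Finset.range M, (M - m) = M * (M + 1) := fun M => by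
    induction M with
    | zero => simp
    | succ M ih =>
      rw [Finset.sum_range_succ']
      simp only [Nat.add_sub_add_right, tsub_zero]
      nlinarith
  have hsum4 : (∑ m ∈ G, (N - m)) + ∑ m ∈ G, m = g * N := by
    rw [← Finset.sum_add_distrib, Finset.sum_congr rfl (g := fun _ => N) fun m hm => ?_,
      Finset.sum_const, smul_eq_mul, hG]
    have := (Gaps.mem_gapsTo P₀).mp hm
    omega
  have hsum5 : ∑ m ∈ G, m ≤ g ^ 2 := Gaps.sum_gapsTo_le hK hP₁ N
  have hJle : (∑ l, J l) + n ≤ ∑ l, J' l := by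
    calc (∑ l, J l) + n = ∑ l, (J l + 1) := by
          rw [Finset.sum_add_distrib]; simp
      _ ≤ ∑ l, J' l := Finset.sum_le_sum fun l _ => by
          have := h06 l
          have := (hjump ⟨0, hn0⟩).1
          omega
  have hJ2 : 2 * (∑ l, (J l : ℤ)) ≤ (n : ℤ) ^ 2 - n + g ^ 2 + g := by
    have e1 : ((∑ l, J l : ℕ) : ℤ) + n ≤ (∑ l, J' l : ℕ) := by exact_mod_cast hJle
    have e2 := hsum3 N
    rw [← hsum2, ← hsum1] at e2
    have e2' : 2 * (((∑ l, J' l : ℕ) : ℤ) + (∑ m ∈ G, (N - m) : ℕ)) = (N : ℤ) * (N + 1) := by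
      exact_mod_cast e2
    have e4 : ((∑ m ∈ G, (N - m) : ℕ) : ℤ) + (∑ m ∈ G, m : ℕ) = (g : ℤ) * N := by exact_mod_cast hsum4
    have e5 : ((∑ m ∈ G, m : ℕ) : ℤ) ≤ (g : ℤ) ^ 2 := by exact_mod_cast hsum5
    have eN : (N : ℤ) = n + g := Nat.cast_add n g
    rw [eN] at e2' e4
    rw [← Nat.cast_sum]
    linarith [e1, e2', e4, e5]
  have hJ3 : (n : ℤ) ^ 2 - n ≤ 2 * (∑ l, (J l : ℤ)) := by
    have hl : ∀ l : Fin n, (l : ℕ) ≤ J l := by
      rintro ⟨m, hm⟩
      induction m with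
      | zero => exact Nat.zero_le _
      | succ m ih =>
        exact (Nat.succ_le_succ (ih (by omega))).trans
          (hJ.1 (show (⟨m, by omega⟩ : Fin n) < ⟨m + 1, hm⟩ from Nat.lt_succ_self m))
    have h1 : ∑ l : Fin n, (l : ℕ) ≤ ∑ l, J l := Finset.sum_le_sum fun l _ => hl l
    rw [Fin.sum_univ_eq_sum_range (fun i => i)] at h1
    have h3 : ((∑ i ∈ Finset.range n, i : ℕ) : ℤ) * 2 = (n : ℤ) * ((n : ℤ) - 1) := by
      have h2 := Finset.sum_range_id_mul_two n
      have h2' : ((∑ i ∈ Finset.range n, i : ℕ) : ℤ) * 2 = ((n * (n - 1) : ℕ) : ℤ) := by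
        exact_mod_cast h2
      rw [h2']
      push_cast [Nat.cast_sub hn0]
      ring
    rw [← Nat.cast_sum]
    have h1' : ((∑ i ∈ Finset.range n, i : ℕ) : ℤ) ≤ ((∑ l, J l : ℕ) : ℤ) := by exact_mod_cast h1
    linarith [h1', h3]
  -- the divisor
  set W := FunFld.wDiv τ Ht Φ t φ J
  have hge : ∀ P ∈ S, (n : ℤ) ≤ W P := fun P hP =>
    Wdiv.weight_ge_of_fixed hK hP hn0 Φ hΦ hHt hli hJ
  have hsub : S ⊆ ↑W.support := fun P hP => by
    have := hge P hP
    rw [Finset.mem_coe, Finsupp.mem_support_iff]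
    omega
  have hfin : S.Finite := W.support.finite_toSet.subset hsub
  refine ⟨hfin, ?_⟩
  have hcount : (n : ℤ) * S.ncard ≤ W.deg := by
    rw [Set.ncard_eq_toFinset_card S hfin, FunFld.Divisor.deg, Finsupp.sum]
    calc (n : ℤ) * (hfin.toFinset.card : ℤ) = ∑ _P ∈ hfin.toFinset, (n : ℤ) := by simp [mul_comm]
      _ ≤ ∑ P ∈ hfin.toFinset, W P * (P.deg : ℤ) := Finset.sum_le_sum fun P hP => by
          rw [Wdiv.deg_eq_one hK, Nat.cast_one, mul_one]
          exact hge P (hfin.mem_toFinset.mp hP)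
      _ ≤ _ := Finset.sum_le_sum_of_subset_of_nonneg (fun P hP => hsub (hfin.mem_toFinset.mp hP))
          fun P _ _ => mul_nonneg (Wdiv.wDiv_nonneg hK τ Φ hΦ hHt hli hJ P) (Nat.cast_nonneg _)
  rw [Wdiv.deg_wDiv hK τ Φ hΦ hHt φ J] at hcount
  have hdegφ : (FunFld.mapDiv k φ).deg ≤ (N : ℤ) := by
    have hne : ∀ i, φ₀ i ≠ 0 := fun i => hli₀.ne_zero i
    have heq : FunFld.mapDiv k φ = FunFld.mapDiv k φ₀ - FunFld.div k f₁⁻¹ := Finsupp.ext fun P => by
      rw [Finsupp.sub_apply, Degree.div_apply hK]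
      exact Diff.mapDiv_smul hK hne hy P
    have hle : FunFld.mapDiv k φ₀ ≤ D := Finsupp.le_def.mpr fun P => by
      obtain ⟨-, i, hi⟩ := Diff.exp_mapDiv hK hne P
      exact exp_le_exp.mp (hi ▸ (b i).2 P)
    have h := Degree.deg_mono hle
    rw [Degree.deg_single, hP₁] at h
    rw [heq, Degree.deg_sub, Degree.deg_div hK]
    omega
  rw [← hgdef] at hcount
  change (n : ℤ) * S.ncard ≤ ((q : ℤ) + n) * (FunFld.mapDiv k φ).deg +
    (2 * (g : ℤ) - 2) * ∑ l, (J l : ℤ) at hcount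
  have hmain : (n : ℤ) * S.ncard ≤
      n + n * q + (n * n + q) * g + 2 * (g : ℤ) ^ 2 * ((g : ℤ) - 1) := by
    have h1 : ((q : ℤ) + n) * (FunFld.mapDiv k φ).deg ≤ ((q : ℤ) + n) * (n + g) :=
      mul_le_mul_of_nonneg_left (hdegφ.trans_eq (Nat.cast_add n g)) (by positivity)
    rcases Nat.eq_zero_or_pos g with h0 | h0
    · rw [h0] at hcount h1 ⊢
      push_cast at hcount h1 ⊢
      nlinarith [hcount, h1, hJ3]
    · have hg1 : (0 : ℤ) ≤ (g : ℤ) - 1 := by omega
      have h3 := mul_le_mul_of_nonneg_left hJ2 hg1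
      have hgg : (g : ℤ) ≤ (g : ℤ) ^ 2 := by exact_mod_cast Nat.le_self_pow two_ne_zero g
      have h4 := mul_le_mul_of_nonneg_left hgg hg1
      nlinarith [hcount, h1, h3, h4]
  have hmainR : (n : ℝ) * S.ncard ≤
      n + n * q + (n * n + q) * g + 2 * (g : ℝ) ^ 2 * ((g : ℝ) - 1) := by exact_mod_cast hmain
  have hrhs : 1 + (q : ℝ) + ((n : ℝ) + q / n) * g + 2 * (g : ℝ) ^ 2 * ((g : ℝ) - 1) / n =
      (n + n * q + (n * n + q) * g + 2 * (g : ℝ) ^ 2 * ((g : ℝ) - 1)) / n := by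
    field_simp
  rw [hrhs, le_div_iff₀ hnR, mul_comm]
  exact hmainR

end Groth.Agent.S11053
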