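import Groth.Statements.S4744
import Groth.Agent.Lib.EGA75.Reduction
import Groth.Agent.Lib.EGA75.CM

set_option autoImplicit false
set_option linter.style.haveILetI false
universe u
open EGA4

namespace Groth.Agent.S4744

/-- Let A → A' be a flat local homomorphism of Noetherian local rings all of whose fibre rings k(p) ⊗_A
A' are Cohen–Macaulay. If the completion map of A' is regular (the formal fibres of A' are
geometrically regular), then the formal fibres of A are Cohen–Macaulay. -/
theorem result (A A' : Type u) [CommRing A] [CommRing A'] [IsNoetherianRing A]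
    [IsNoetherianRing A'] [IsLocalRing A] [IsLocalRing A'] [Algebra A A'] [IsLocalHom (algebraMap A A')]
    [Module.Flat A A'] (hf : ∀ (p : Ideal A) [p.IsPrime], LocCoh.IsCohenMacaulayRing (p.Fiber A'))
    (hA' : CAlg.IsRegularHom A' (EGA4.Cpl A')) : EGA4.HasCMFormalFibres A := by
  haveI : Module.Flat A' (EGA4.Cpl A') := inferInstance
  obtain ⟨ψ, hψ⟩ := Groth.Agent.Lib.Unram.SmoothCompletion.exists_map (A := A) (B := A')
  letI := ψ.toAlgebra
  haveI hst : IsScalarTower A (EGA4.Cpl A) (EGA4.Cpl A') :=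
    IsScalarTower.of_algebraMap_eq' (by
      rw [IsScalarTower.algebraMap_eq A A' (EGA4.Cpl A')]
      exact hψ.symm)
  haveI : IsLocalHom (algebraMap (EGA4.Cpl A) (EGA4.Cpl A')) :=
    ((IsLocalRing.local_hom_TFAE _).out 0 2 rfl rfl).mpr (by
      rw [AdicCompletion.maximalIdeal_eq_map, AdicCompletion.maximalIdeal_eq_map, Ideal.map_map,
        ← IsScalarTower.algebraMap_eq A (EGA4.Cpl A), IsScalarTower.algebraMap_eq A A' (EGA4.Cpl A'),
        ← Ideal.map_map]
      exact Ideal.map_mono (IsLocalRing.map_maximalIdeal_le _))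
  haveI : Module.Flat (EGA4.Cpl A) (EGA4.Cpl A') := Groth.Agent.H24.CompletionFlat.flat_completion A A'
  haveI : Module.FaithfullyFlat (EGA4.Cpl A) (EGA4.Cpl A') := Module.FaithfullyFlat.of_flat_of_isLocalHom
  intro p _
  have hK := Groth.Agent.Lib.Excellent.FormalFibre.isFinPoint_residueField p
  refine Groth.Agent.Lib.EGA75.Reduction.descend (Q := fun R [CommRing R] => LocCoh.IsCohenMacaulayRing R)
    Groth.Agent.Lib.EGA75.CM.isoInvariant_ring
    (fun R S _ _ _ _ _ _ hS => Groth.Agent.Lib.EGA75.CM.descent R S hS)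
    A (EGA4.Cpl A) (EGA4.Cpl A') p.ResidueField hK ?_
  haveI := Groth.Agent.Lib.EGA75.Complete.isNoetherianRing_finPoint A (EGA4.Cpl A') p.ResidueField hK
  refine Groth.Agent.Lib.EGA75.CM.of_forall _ ?_
  refine Groth.Agent.Lib.EGA75.Comp.finPoint Groth.Agent.Lib.EGA75.CM.compProp A A' (EGA4.Cpl A')
    (fun L _ _ hL Q _ => ?_) p.ResidueField hK
    (fun Q _ => (hf p).isCohenMacaulayLocalRing_localization Q)
  haveI := (Groth.Agent.Lib.Excellent.FormalFibre.forall_fibre_iff (P := fun R [CommRing R] => IsRegularRing R)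
    Groth.Agent.Lib.Excellent.Transport.isoInvariant_isRegularRing (EGA4.Cpl A')).1
    (fun q _ => (hA'.2 q).2) L hL
  haveI := IsRegularRing.isRegularLocalRing_localization Q
  exact Groth.Agent.Lib.JacCrit.FlatRegular.isCohenMacaulayLocalRing _

end Groth.Agent.S4744
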