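import Groth.Statements.S0236
import Groth.Agent.Lib.EtH1Gm.Pic

set_option autoImplicit false
universe u
open CategoryTheory CategoryTheory.Limits AlgebraicGeometry
open Curves

namespace Groth.Agent.S0236

/-- For any scheme X, the first étale cohomology of G_m (small site) vanishes exactly when every
invertible O_X-module is isomorphic to the structure sheaf — the part of the identification
H^1_et(X, G_m) = Pic(X) that can be stated without a group structure on Pic. -/
theorem result (X : Scheme.{u}) :
    Subsingleton (EtCoh.H X (EtCoh.Gm X) 1) ↔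
      ∀ L : X.Modules, PicF.IsInvertible L → Nonempty (L ≅ Coh.structureModule X) := by
  constructor
  · intro h L hL
    obtain ⟨c, hc⟩ := Groth.Agent.Lib.EtH1Gm.Pic.exists_rel' hL
    obtain ⟨c₀, hc₀⟩ :=
      Groth.Agent.Lib.EtH1Gm.Pic.exists_rel' (PicLoc.isInvertible_structureModule X)
    exact (hc.eq_iff hc₀).1 (Subsingleton.elim _ _)
  · intro h
    refine ⟨fun c c' => ?_⟩
    obtain ⟨L, hL⟩ := Groth.Agent.Lib.EtH1Gm.Pic.exists_rel c
    obtain ⟨L', hL'⟩ := Groth.Agent.Lib.EtH1Gm.Pic.exists_rel c'
    obtain ⟨i⟩ := h L hL.isInvertible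
    obtain ⟨j⟩ := h L' hL'.isInvertible
    exact (hL.eq_iff hL').2 ⟨i ≪≫ j.symm⟩

end Groth.Agent.S0236
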