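import Groth.Statements.S0254
import Groth.Agent.H80.SepClosedNormal

set_option autoImplicit false
universe u
open Pi1

namespace Groth.Agent.S0254

open AlgebraicGeometry CategoryTheory CategoryTheory.Limits in
/-- An integrally closed local domain whose fraction field is separably closed is henselian with
separably closed residue field (i.e. strictly henselian). -/
theorem result (A : Type u) [CommRing A] [IsDomain A] [IsLocalRing A] [IsIntegrallyClosed A]
    [IsSepClosed (FractionRing A)] :
    HenselianLocalRing A ∧ IsSepClosed (IsLocalRing.ResidueField A) := by
  refine ⟨Groth.Agent.H80.SepClosedNormal.henselian (FractionRing A), ?_⟩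
  by_cases hm : IsLocalRing.maximalIdeal A = ⊥
  · have hf : IsField A := IsLocalRing.isField_iff_maximalIdeal_eq.mpr hm
    let : Field A := hf.toField
    let e : FractionRing A ≃+* IsLocalRing.ResidueField A :=
      (RingEquiv.ofBijective (algebraMap A (FractionRing A))
        ⟨IsFractionRing.injective A (FractionRing A), fun x => by
          obtain ⟨a, b, hb, rfl⟩ := IsFractionRing.div_surjective (A := A) x
          obtain ⟨c, hc⟩ := hf.mul_inv_cancel (nonZeroDivisors.ne_zero hb)
          refine ⟨a * c, ?_⟩
          rw [map_mul, div_eq_mul_inv]
          congr 1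
          exact eq_inv_of_mul_eq_one_right (by rw [← map_mul, hc, map_one])⟩).symm.trans
        (RingEquiv.ofBijective (IsLocalRing.residue A)
          ⟨(IsLocalRing.residue A).injective, IsLocalRing.residue_surjective⟩)
    refine IsSepClosed.of_exists_root _ fun g hg _ hsep => ?_
    obtain ⟨x, hx⟩ := IsSepClosed.exists_root (g.map e.symm.toRingHom)
      (by rw [hg.degree_map]; exact (Polynomial.degree_pos_of_irreducible ‹_›).ne') hsep.map
    exact ⟨e x, e.symm.injective (by
      rw [map_zero]
      change e.symm.toRingHom _ = 0
      rw [← Polynomial.eval₂_hom]
      rw [Polynomial.IsRoot, Polynomial.eval_map] at hx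
      simpa using hx)⟩
  · have := Groth.Agent.H80.SepClosedNormal.isAlgClosed_residueField (FractionRing A) hm
    infer_instance

end Groth.Agent.S0254
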