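import Groth.Statements.S0414

import Groth.Agent.Lib.GenFree.Good
import Mathlib.AlgebraicGeometry.Morphisms.Flat
import Mathlib.AlgebraicGeometry.Morphisms.FinitePresentation
import Mathlib.AlgebraicGeometry.Morphisms.FiniteType
import Mathlib.RingTheory.FiniteType

set_option autoImplicit false
universe u
open FlatMor

open AlgebraicGeometry CategoryTheory Limits
namespace Groth.Agent.S0414

open AlgebraicGeometry CategoryTheory Limits in
/-- generically nice -/
def NiceAt {R A : Type u} [CommRing R] [CommRing A] (φ : R →+* A) (g : R) : Prop :=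
  letI := φ.toAlgebra
  ∃ (n : ℕ) (α : MvPolynomial (Fin n) R →ₐ[R] A), Function.Surjective α ∧
    Lib.GenFree.FreeUpTo g A ∧ ∃ G : Finset (MvPolynomial (Fin n) R), (∀ p ∈ G, α p = 0) ∧
      ∀ p, α p = 0 → ∃ N : ℕ, g ^ N • p ∈ Ideal.span (G : Set (MvPolynomial (Fin n) R))

theorem NiceAt.mono {R A : Type u} [CommRing R] [CommRing A] {φ : R →+* A} {g g' : R}
    (h : NiceAt φ g) (hd : g ∣ g') : NiceAt φ g' := by
  letI := φ.toAlgebra
  obtain ⟨n, α, hα, hfree, G, hG, hG'⟩ := h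
  refine ⟨n, α, hα, hfree.mono hd, G, hG, fun p hp => ?_⟩
  obtain ⟨N, hN⟩ := hG' p hp
  obtain ⟨c, rfl⟩ := hd
  refine ⟨N, ?_⟩
  rw [mul_pow, mul_comm, mul_smul]
  exact Submodule.smul_of_tower_mem _ _ hN

theorem exists_niceAt {R A : Type u} [CommRing R] [_root_.IsReduced R] [CommRing A] (φ : R →+* A)
    (hφ : φ.FiniteType) (g₀ : R) (hg₀ : g₀ ≠ 0) : ∃ g, g ≠ 0 ∧ g₀ ∣ g ∧ NiceAt φ g := by
  letI := φ.toAlgebra
  obtain ⟨n, α, hα⟩ := Algebra.FiniteType.iff_quotient_mvPolynomial''.1 hφ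
  obtain ⟨g, hg, hd, -, -, hS, G, hG, hG'⟩ := Lib.GenFree.exists_upTo_finiteType A α hα A
    (fun _ : Fin 1 => (1 : A)) (by simp) g₀ hg₀
  exact ⟨g, hg, hd, n, α, hα, hS, G, hG, hG'⟩

theorem of_appLE_eq {X Y : Scheme.{u}} (f : X ⟶ Y) {Q : ∀ {R S : Type u} [CommRing R] [CommRing S], (R →+* S) → Prop}
    {D D' : Y.Opens} {B B' : X.Opens} (hD : D' = D) (hB : B' = B) (e' : B' ≤ f ⁻¹ᵁ D')
    (e : B ≤ f ⁻¹ᵁ D) (h : Q (f.appLE D B e).hom) : Q (f.appLE D' B' e').hom := by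
  subst hD hB
  exact h

/-- Generic flatness: a morphism X → S of finite type with S reduced is flat and locally of finite
presentation over some dense open subscheme of S. (Stated for the structure sheaf; the published
statement also treats a quasi-coherent O_X-module of finite type.) -/
theorem result {X S : Scheme.{u}} (f : X ⟶ S) [IsReduced S] [LocallyOfFiniteType f] [QuasiCompact f] :
    ∃ U : S.Opens, Dense (U : Set ↑S) ∧ Flat (f ∣_ U) ∧ LocallyOfFinitePresentation (f ∣_ U) := by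
  -- good affine pieces of the base
  let Good : S.Opens → Prop := fun D => ∀ x, f x ∈ D → ∃ (D₀ : S.affineOpens) (B : X.affineOpens)
    (e : B.1 ≤ f ⁻¹ᵁ D₀.1), x ∈ B.1 ∧ D₀.1 ≤ D ∧
      (f.appLE D₀.1 B.1 e).hom.Flat ∧ (f.appLE D₀.1 B.1 e).hom.FinitePresentation
  let U : S.Opens := sSup {D | Good D}
  refine ⟨U, ?_, ?_⟩
  · rw [dense_iff_inter_open]
    rintro O hO ⟨s, hs⟩
    obtain ⟨_, ⟨W, hW, rfl⟩, hsW, hWO⟩ :=
      S.isBasis_affineOpens.exists_subset_of_mem_open hs hO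
    obtain ⟨T, hTle, hcov⟩ : ∃ T : Finset X.affineOpens, (∀ V ∈ T, V.1 ≤ f ⁻¹ᵁ W) ∧
        ∀ x, f x ∈ W → ∃ V ∈ T, x ∈ V.1 := by
      have hc : IsCompact (f ⁻¹ᵁ W : Set X) := QuasiCompact.isCompact_preimage _ W.isOpen hW.isCompact
      obtain ⟨T, hT, hTf, hsub⟩ := hc.elim_finite_subcover_image
        (b := {V : X.affineOpens | V.1 ≤ f ⁻¹ᵁ W}) (c := fun V => (V.1 : Set X))
        (fun V _ => V.1.isOpen) (fun x hx => by
          obtain ⟨_, ⟨V, hV, rfl⟩, hxV, hsub⟩ :=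
            X.isBasis_affineOpens.exists_subset_of_mem_open hx (f ⁻¹ᵁ W).isOpen
          exact Set.mem_biUnion (x := ⟨V, hV⟩) hsub hxV)
      refine ⟨hTf.toFinset, fun V hV => hT (hTf.mem_toFinset.1 hV), fun x hx => ?_⟩
      obtain ⟨V, hV, hxV⟩ := Set.mem_iUnion₂.1 (hsub hx)
      exact ⟨V, hTf.mem_toFinset.2 hV, hxV⟩
    have : Nonempty W := ⟨⟨s, hsW⟩⟩
    have hred : _root_.IsReduced Γ(S, W) := IsReduced.component_reduced W
    have hne1 : (1 : Γ(S, W)) ≠ 0 := one_ne_zero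
    classical
    obtain ⟨g, hg, hgood⟩ : ∃ g : Γ(S, W), g ≠ 0 ∧
        ∀ V (hV : V ∈ T), NiceAt (f.appLE W V.1 (hTle V hV)).hom g := by
      suffices ∀ T' : Finset X.affineOpens, ∀ (h : T' ⊆ T), ∃ g : Γ(S, W), g ≠ 0 ∧
          ∀ V (hV : V ∈ T'), NiceAt (f.appLE W V.1 (hTle V (h hV))).hom g from this T subset_rfl
      intro T'
      induction T' using Finset.induction with
      | empty => exact fun _ => ⟨1, hne1, fun V hV => absurd hV (Finset.notMem_empty V)⟩
      | @insert V T' hV ih =>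
        intro h
        obtain ⟨g, hg, hgood⟩ := ih fun x hx => h (Finset.mem_insert_of_mem hx)
        obtain ⟨g', hg', hd, hnice⟩ := exists_niceAt (f.appLE W V.1 (hTle V (h (Finset.mem_insert_self V T')))).hom
          (f.finiteType_appLE hW V.2 _) g hg
        refine ⟨g', hg', fun V' hV' => ?_⟩
        rcases Finset.mem_insert.1 hV' with rfl | hV'
        · exact hnice
        · exact (hgood V' hV').mono hd
    have hbne : (S.basicOpen g : Set S).Nonempty := by
      by_contra hc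
      apply hg
      rw [← basicOpen_eq_bot_iff g]
      exact SetLike.coe_injective (Set.not_nonempty_iff_eq_empty.1 hc)
    obtain ⟨t, ht⟩ := hbne
    refine ⟨t, hWO (S.basicOpen_le g ht), TopologicalSpace.Opens.mem_sSup.2 ⟨S.basicOpen g, ?_, ht⟩⟩
    intro x hx
    obtain ⟨V, hV, hxV⟩ := hcov x (S.basicOpen_le g hx)
    let a := f.appLE W V.1 (hTle V hV) g
    have e' : X.basicOpen a ≤ f ⁻¹ᵁ S.basicOpen g := by simp [a, Scheme.Hom.appLE]
    have hxa : x ∈ X.basicOpen a := by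
      have : a = X.presheaf.map (homOfLE (hTle V hV)).op (f.app W g) := rfl
      rw [this, Scheme.basicOpen_res, ← Scheme.preimage_basicOpen]
      exact ⟨hxV, hx⟩
    refine ⟨⟨_, hW.basicOpen g⟩, ⟨_, V.2.basicOpen a⟩, e', hxa, le_rfl, ?_⟩
    let _ := hW.isLocalization_basicOpen g
    let _ := V.2.isLocalization_basicOpen a
    obtain ⟨n, hn⟩ := hgood V hV
    have := Lib.GenFree.flat_finitePresentation_awayMap' _ g hn Γ(S, S.basicOpen g) Γ(X, X.basicOpen a)
    rw [IsAffineOpen.appLE_eq_away_map f hW V.2 (hTle V hV) g]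
    exact this
  · have key : ∀ x : ↥(f ⁻¹ᵁ U), ∃ (D' : U.toScheme.affineOpens) (B' : (f ⁻¹ᵁ U).toScheme.affineOpens)
        (_ : x ∈ B'.1) (e : B'.1 ≤ (f ∣_ U) ⁻¹ᵁ D'.1),
        ((f ∣_ U).appLE D' B' e).hom.Flat ∧ ((f ∣_ U).appLE D' B' e).hom.FinitePresentation := by
      rintro ⟨x, hx⟩
      obtain ⟨D, hD, hxD⟩ := TopologicalSpace.Opens.mem_sSup.1 hx
      obtain ⟨D₀, B, e, hxB, hle, h⟩ := hD x hxD
      have hDU : D₀.1 ≤ U := hle.trans (le_sSup hD)
      have hBU : B.1 ≤ f ⁻¹ᵁ U := fun y hy => hDU (e hy)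
      have h1 : U.ι ''ᵁ U.ι ⁻¹ᵁ D₀.1 = D₀.1 := by
        rw [Scheme.Hom.image_preimage_eq_opensRange_inf, Scheme.Opens.opensRange_ι, inf_eq_right]
        exact hDU
      have h2 : (f ⁻¹ᵁ U).ι ''ᵁ (f ⁻¹ᵁ U).ι ⁻¹ᵁ B.1 = B.1 := by
        rw [Scheme.Hom.image_preimage_eq_opensRange_inf, Scheme.Opens.opensRange_ι, inf_eq_right]
        exact hBU
      refine ⟨⟨U.ι ⁻¹ᵁ D₀.1, D₀.2.preimage_of_isOpenImmersion U.ι (by simpa using hDU)⟩,
        ⟨(f ⁻¹ᵁ U).ι ⁻¹ᵁ B.1, B.2.preimage_of_isOpenImmersion _ (by simpa using hBU)⟩, hxB, ?_, ?_⟩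
      · rw [← Scheme.Hom.comp_preimage, morphismRestrict_ι, Scheme.Hom.comp_preimage]
        exact fun y hy => e hy
      · rw [morphismRestrict_appLE]
        exact of_appLE_eq (Q := fun φ => φ.Flat ∧ φ.FinitePresentation) f h1 h2 _ e h
    refine ⟨(HasRingHomProperty.iff_exists_appLE (P := @Flat) (Q := RingHom.Flat) ?_).2 fun x => ?_,
      (HasRingHomProperty.iff_exists_appLE (P := @LocallyOfFinitePresentation)
        (Q := RingHom.FinitePresentation) ?_).2 fun x => ?_⟩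
    · exact (RingHom.Flat.stableUnderComposition.stableUnderCompositionWithLocalizationAway
        RingHom.Flat.holdsForLocalizationAway).left
    · obtain ⟨D', B', h, e, h'⟩ := key x
      exact ⟨D', B', h, e, h'.1⟩
    · exact (RingHom.finitePresentation_stableUnderComposition.stableUnderCompositionWithLocalizationAway
        RingHom.finitePresentation_holdsForLocalizationAway).left
    · obtain ⟨D', B', h, e, h'⟩ := key x
      exact ⟨D', B', h, e, h'.2⟩


end Groth.Agent.S0414
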