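import Groth.Statements.S13004

import Groth.Agent.H14.Chart.LocQ4

set_option autoImplicit false
set_option backward.isDefEq.respectTransparency false
set_option backward.isDefEq.respectTransparency.types false
universe u
open CategoryTheory AlgebraicGeometry
open AlgSt

namespace Groth.Agent.S13004

open Groth.Agent.H14.Sep
open Groth.Agent.Lib.AlgStack
open Groth.Agent.H14.Chart

/-- Let 𝒳 → 𝒴 → 𝒵 be morphisms of algebraic stacks with 𝒳 → 𝒵 flat and 𝒳 → 𝒴 surjective and flat. Then 𝒴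
→ 𝒵 is flat. -/
theorem result
    (S : Scheme.{u}) (𝒳 : AlgSt.Cat S) (𝒴 : AlgSt.Cat S) (𝒵 : AlgSt.Cat S)
    (h𝒳 : AlgSt.IsAlgStack Scheme.fppfPrecoverage 𝒳)
    (h𝒴 : AlgSt.IsAlgStack Scheme.fppfPrecoverage 𝒴)
    (h𝒵 : AlgSt.IsAlgStack Scheme.fppfPrecoverage 𝒵)
    (f : 𝒳 ⥤ᵇ 𝒴) (g : 𝒴 ⥤ᵇ 𝒵)
    (hf₁ : AlgSt.LocQ (AlgSp.LocP @Flat) f) (hf₂ : AlgSt.IsSurjective f) :
    AlgSt.LocQ (AlgSp.LocP @Flat) (BasedFunctor.comp f g) → AlgSt.LocQ (AlgSp.LocP @Flat) g := by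
  intro h
  refine LocQ.locQ_right SmLocal.isSmoothLocalST_flat SmLocal.isSmoothLocalST_flat
    (fun U V W k l hkl hk hs => ?_) h𝒳 h𝒴 h𝒵 h hf₁ hf₂
  have : Flat k.left := AlgSp.locP_yon_map hk
  have : Flat (k.left ≫ l.left) := AlgSp.locP_yon_map hkl
  exact Lib.AlgSpMor.LocP.locP_of_repWith Lib.SourceDescent.Scheme.flat
    ((AlgSp.repWith_yon_map_iff _ _).2 (Lib.Flat55.FlatDescend.flat_of_comp k.left l.left))

end Groth.Agent.S13004
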