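import Groth.Statements.S16862
import Groth.Agent.Lib.Gerbe.Diag
import Groth.Agent.H14.Chart.LocQ2
import Groth.Agent.Lib.AlgStack.RepOver

set_option autoImplicit false
universe u
open CategoryTheory AlgebraicGeometry
open Gerb

namespace Groth.Agent.S16862

/-- If a morphism f of algebraic stacks makes its source a gerbe over its target, then the relative
inertia of f is flat and locally of finite presentation over the source. -/
theorem result
    (S : Scheme.{u}) (𝒳 𝒴 : AlgSt.Cat S)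
    (h𝒳 : AlgSt.IsAlgStack Scheme.fppfPrecoverage 𝒳) (h𝒴 : AlgSt.IsAlgStack Scheme.fppfPrecoverage 𝒴)
    (f : 𝒳 ⥤ᵇ 𝒴) (hf : Gerb.IsGerbeOver (QuotSh.J Scheme.fppfPrecoverage S) f) :
    AlgSt.LocQ (AlgSp.LocP @Flat) (FibCat.inertiaToBase f) ∧
      AlgSt.LocQ (AlgSp.LocP @LocallyOfFinitePresentation) (FibCat.inertiaToBase f) := by
  obtain ⟨h1, h2, -⟩ := Lib.Gerbe.Diag.diag_props h𝒳 h𝒴 f hf
  have k1 := H14.Sep.Inertia.inertiaToBase_of_diag h1
  have k2 := H14.Sep.Inertia.inertiaToBase_of_diag h2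
  have hI : AlgSt.IsAlgStack Scheme.fppfPrecoverage (FibCat.inertia f) :=
    Lib.AlgStack.RepOver.isAlgStack_of_repByAlgSp1 (Lib.Fibred.SelfOver.inertia_grpd h𝒳.isStack.1 h𝒴.isStack.1) h𝒳
      (Lib.AlgStack.Rep.repByAlgSp1_of_repByAlgSpWith k1)
  exact ⟨H14.Chart.LocQ.locQ_of_repByAlgSpWith H14.Chart.SmLocal.isSmoothLocalST_flat.precomp hI h𝒳 k1,
    H14.Chart.LocQ.locQ_of_repByAlgSpWith H14.Chart.SmLocal.isSmoothLocalST_lfp.precomp hI h𝒳 k2⟩

end Groth.Agent.S16862
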