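import Groth.Statements.S16861
import Groth.Agent.Lib.Gerbe.Rigid3
import Groth.Agent.H14.Coarse.Inertia
import Groth.Agent.S16862

set_option autoImplicit false
universe u
open CategoryTheory AlgebraicGeometry
open Gerb
open Groth.Agent.Lib.AlgStack

namespace Groth.Agent.S16861

/-- An algebraic stack is a gerbe (over some algebraic space) exactly when its inertia is flat and
locally of finite presentation over it. -/
theorem result
    (S : Scheme.{u}) (𝒳 : AlgSt.Cat S) (h𝒳 : AlgSt.IsAlgStack Scheme.fppfPrecoverage 𝒳) :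
    Gerb.IsAlgGerbe Scheme.fppfPrecoverage 𝒳 ↔
      AlgSt.LocQ (AlgSp.LocP @Flat) (FibCat.inertiaToBase (FibCat.toSelf 𝒳)) ∧
        AlgSt.LocQ (AlgSp.LocP @LocallyOfFinitePresentation) (FibCat.inertiaToBase (FibCat.toSelf 𝒳)) := by
  constructor
  · rintro ⟨X, π, hπ⟩
    obtain ⟨h1, h2⟩ := S16862.result S 𝒳 (AlgSt.ofSp X.obj) h𝒳 (IsAlg.isAlgStack_ofSp X) π hπ
    obtain ⟨d1, -, -⟩ := Lib.Gerbe.Diag.diag_props h𝒳 (IsAlg.isAlgStack_ofSp X) π hπ
    have hI : AlgSt.IsAlgStack Scheme.fppfPrecoverage (FibCat.inertia π) :=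
      RepOver.isAlgStack_of_repByAlgSp1
        (Lib.Fibred.SelfOver.inertia_grpd h𝒳.isStack.1 (IsAlg.isAlgStack_ofSp X).isStack.1) h𝒳
        (Rep.repByAlgSp1_of_repByAlgSpWith (H14.Sep.Inertia.inertiaToBase_of_diag d1))
    exact ⟨Lib.Gerbe.Rigid.locQ_of_equiv Lib.SourceDescent.Scheme.flat H14.Chart.SmLocal.isSmoothLocalST_flat
        (fun f _ => inferInstance) hI h𝒳 (H14.Coarse.isEquivOver_toInertia π) (Iso.refl _) h1,
      Lib.Gerbe.Rigid.locQ_of_equiv Lib.SourceDescent.Scheme.locallyOfFinitePresentation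
        H14.Chart.SmLocal.isSmoothLocalST_lfp (fun f _ => inferInstance) hI h𝒳
        (H14.Coarse.isEquivOver_toInertia π) (Iso.refl _) h2⟩
  · rintro ⟨h1, h2⟩
    exact ⟨⟨_, Lib.Gerbe.Rigid.isAlgSpace_base h𝒳 h1 h2⟩, Lib.Gerbe.Rigid.proj h𝒳.isStack.1,
      Lib.Gerbe.Rigid.isGerbeOver_proj h𝒳.isStack.1⟩

end Groth.Agent.S16861
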