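import Groth.Statements.S18656
import Groth.Agent.Lib.Graded.CMVanish
import Groth.Agent.Lib.Graded.StdVanish

set_option autoImplicit false
universe u
open GrLC

namespace Groth.Agent.S18656

open Groth.Agent.Lib.Graded Groth.Agent.Lib.Graded.StarInj

/-- Let R be a graded ring defined over a field k = R_0, generated over k by R_1, of dimension r ≥ 1,
and let a(R) be its a-invariant. Then the homogeneous piece H^r_m(R)_n is nonzero for every n ≤
a(R). Here 'graded ring defined over a field' means R = ⊕_{n ≥ 0} R_n is Noetherian with R_0 a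
field, and m = R_+ is its unique graded maximal ideal. The a-invariant a(R) is the largest degree in
which the graded local cohomology H^n_m(R) (n = dim R, m = R_+), computed from a *injective
resolution of R in the graded category, is nonzero. -/
theorem result (R : Type u) [CommRing R] [IsNoetherianRing R] (𝒜 : ℤ → AddSubgroup R) [GradedRing 𝒜] (hpos : ∀ n : ℤ, n < 0 → 𝒜 n = ⊥) (h0 : IsField (GrLC.deg0 𝒜)) (m : HomogeneousIdeal 𝒜) (hm : GrLC.IsStarLocal 𝒜 m) (hmsp : m.toIdeal = Ideal.span (⋃ n ∈ Set.Ioi (0 : ℤ), (𝒜 n : Set R))) (hstd : Ideal.span (⋃ n ∈ Set.Ioi (0 : ℤ), (𝒜 n : Set R)) = Ideal.span ((𝒜 1 : AddSubgroup R) : Set R)) (r : ℕ) (hr : ringKrullDim R = r) (h1 : 1 ≤ r) (I : GrLC.StarInjRes 𝒜 𝒜) (a : ℤ) (ha : GrLC.endDeg (I.Hgr m r) = ((a : WithTop ℤ) : WithBot (WithTop ℤ))) (n : ℤ) (hn : n ≤ a) : I.Hcomp m r n ≠ ⊥ := by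
  intro hbot
  have hstd' : m.toIdeal = Ideal.span ((𝒜 1 : AddSubgroup R) : Set R) := hmsp.trans hstd
  have hup : ∀ k : ℕ, Van.V m (toMod 𝒜 𝒜) r (n + k) := by
    intro k
    induction k with
    | zero =>
      rw [Nat.cast_zero, add_zero]
      exact (Van.V_toMod_iff I).2 ((LES.Hcomp_eq_bot_iff m I r n).1 hbot)
    | succ k ih =>
      refine StdVanish.V_next hstd' h1 fun j => ?_
      rcases Nat.eq_zero_or_pos j with rfl | hj
      · simpa [← add_assoc] using ih
      · refine CMVanish.V_of_supportDim_lt _ ?_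
        rw [Module.supportDim_self_eq_ringKrullDim, hr]
        exact_mod_cast Nat.lt_add_of_pos_right hj
  have hle : GrLC.endDeg (I.Hgr m r) ≤ (((a - 1 : ℤ) : WithTop ℤ) : WithBot (WithTop ℤ)) := by
    refine (IntGraded.endDeg_le_iff _).2 fun g hg => ?_
    have := hup (g - n).toNat
    rw [show n + ((g - n).toNat : ℤ) = g by omega] at this
    exact (Van.V_toMod_iff I).1 this
  rw [ha, WithBot.coe_le_coe, WithTop.coe_le_coe] at hle
  omega

end Groth.Agent.S18656
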