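import Groth.Statements.S18825
import Groth.Agent.Lib.GrpQ.Image
import Groth.Agent.Lib.GrpQ.MonoClosed


set_option autoImplicit false
universe u
open CategoryTheory MonoidalCategory CartesianMonoidalCategory MonObj AlgebraicGeometry
open AlgGrp

namespace Groth.Agent.S18825

/-- Let k be a field and f : H → G a homomorphism of locally algebraic groups over k (group k-schemes
locally of finite type) which is of finite type (equivalently quasi-compact). Let H → K → G be the
factorization of f through its scheme-theoretic image: i : K → G a closed immersion and g : H → K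
with g followed by i equal to f and O_K → g_*O_H injective. Then (1) K is a closed subgroup scheme
of G: the unit section of G factors through i and, for every k-scheme T and T-valued points k₁, k₂
of K, the T-valued point (i k₁)⁻¹ · (i k₂) of G factors through i; and (2) g : H → K is surjective.
(The source also records that g is a homomorphism for the group structure induced on K; this row
does not state it.) -/
theorem result (k : Type u) [Field k]
    (H G K : Over (Spec (CommRingCat.of k))) [GrpObj H] [GrpObj G]
    [LocallyOfFiniteType H.hom] [LocallyOfFiniteType G.hom]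
    (f : H ⟶ G) [IsMonHom f] [QuasiCompact f.left]
    (i : K ⟶ G) [IsClosedImmersion i.left] (g : H ⟶ K) (hgi : g ≫ i = f)
    [IsSchemeTheoreticallyDominant g.left] :
    ((∃ e : 𝟙_ (Over (Spec (CommRingCat.of k))) ⟶ K, e ≫ i = η[G]) ∧
      ∀ (T : Over (Spec (CommRingCat.of k))) (k₁ k₂ : T ⟶ K),
        ∃ k₃ : T ⟶ K, k₃ ≫ i = (k₁ ≫ i)⁻¹ * (k₂ ≫ i)) ∧
    Surjective g.left := by
  have : IsSeparated i.left := inferInstance
  have : LocallyOfFiniteType K.hom := by rw [← Over.w i]; infer_instance
  have hgq : QuasiCompact g.left := by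
    have : QuasiCompact (g.left ≫ i.left) := by rw [← Over.comp_left, hgi]; infer_instance
    exact QuasiCompact.of_comp g.left i.left
  have : Mono i := Groth.Agent.Lib.GrpQ.mono_of_left i
  have hflat : ∀ (T : Over (Spec (CommRingCat.of k))), Flat T.hom := fun T =>
    Groth.Agent.Lib.GrpSch.flat_of_isField (Field.toIsField k) T.hom
  have hfac : ∀ {T T' : Over (Spec (CommRingCat.of k))} (z : T' ⟶ T) (x : T ⟶ G),
      IsSchemeTheoreticallyDominant z.left → (∃ w : T' ⟶ K, w ≫ i = z ≫ x) → ∃ w : T ⟶ K, w ≫ i = x := by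
    intro T T' z x hz ⟨w, hw⟩
    have H : i.left.ker ≤ x.left.ker := by
      rw [← Groth.Agent.Lib.GrpQ.Image.ker_comp_eq z.left x.left, ← Over.comp_left, ← hw, Over.comp_left]
      exact Scheme.Hom.le_ker_comp _ _
    refine ⟨Over.homMk (IsClosedImmersion.lift i.left x.left H) ?_, Over.OverMorphism.ext ?_⟩
    · rw [← Over.w i, IsClosedImmersion.lift_fac_assoc, Over.w]
    · exact IsClosedImmersion.lift_fac _ _ _
  refine ⟨⟨⟨η[H] ≫ g, by rw [Category.assoc, hgi, IsMonHom.one_hom]⟩, ?_⟩, ?_⟩
  · have hm : ∃ d : K ⊗ K ⟶ K, d ≫ i = (fst K K ≫ i)⁻¹ * (snd K K ≫ i) := by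
      have : Flat (fst K H).left := Groth.Agent.Lib.GrpSch.fst_left_of (P := @Flat) _ (hflat H)
      have : Flat (snd K K).left := Groth.Agent.Lib.GrpSch.snd_left_of (P := @Flat) _ (hflat K)
      have ha : IsSchemeTheoreticallyDominant (g ▷ H).left :=
        .of_isPullback (Groth.Agent.Lib.GrpSch.isPullback_whiskerRight g H).flip
      have hb : IsSchemeTheoreticallyDominant (K ◁ g).left :=
        .of_isPullback (Groth.Agent.Lib.GrpSch.isPullback_whiskerLeft K g).flip
      refine hfac ((g ▷ H) ≫ (K ◁ g)) _ (by rw [Over.comp_left]; infer_instance)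
        ⟨((fst H H)⁻¹ * snd H H) ≫ g, ?_⟩
      rw [Category.assoc, hgi, MonObj.mul_comp, GrpObj.inv_comp, MonObj.comp_mul, GrpObj.comp_inv]
      simp only [← hgi, Category.assoc, whiskerLeft_fst_assoc, whiskerLeft_snd_assoc,
        whiskerRight_fst_assoc, whiskerRight_snd_assoc]
    obtain ⟨d, hd⟩ := hm
    intro T k₁ k₂
    refine ⟨lift k₁ k₂ ≫ d, ?_⟩
    rw [Category.assoc, hd, MonObj.comp_mul, GrpObj.comp_inv, lift_fst_assoc, lift_snd_assoc]
  · let L := AlgebraicClosure k
    let b := Groth.Agent.Lib.GrpSch.extBase k L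
    let H' := Red.bc b H
    let G' := Red.bc b G
    let f' : H' ⟶ G' := (Over.pullback b).map f
    let g' : H' ⟶ Red.bc b K := (Over.pullback b).map g
    let i' : Red.bc b K ⟶ G' := (Over.pullback b).map i
    have : IsMonHom f' := inferInstanceAs (IsMonHom ((Over.pullback b).map f))
    have : LocallyOfFiniteType H'.hom := Groth.Agent.Lib.GrpSch.bc_hom_of (P := @LocallyOfFiniteType) b H ‹_›
    have : LocallyOfFiniteType G'.hom := Groth.Agent.Lib.GrpSch.bc_hom_of (P := @LocallyOfFiniteType) b G ‹_›
    have : QuasiCompact f'.left := Groth.Agent.Lib.GrpSch.bc_map_left_of (P := @QuasiCompact) b f ‹_›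
    have : QuasiCompact g'.left := Groth.Agent.Lib.GrpSch.bc_map_left_of (P := @QuasiCompact) b g hgq
    have : Flat (Groth.Agent.Lib.GrpSch.bcProj b K) :=
      Groth.Agent.Lib.GrpSch.bcProj_of (P := @Flat) b K (Groth.Agent.Lib.GrpSch.extBase_surjective_flat_qc k L).1.2
    have hstd : IsSchemeTheoreticallyDominant g'.left :=
      IsSchemeTheoreticallyDominant.of_isPullback (Groth.Agent.Lib.GrpSch.isPullback_bc_map b g).flip
    have hi' : IsClosedImmersion i'.left := Groth.Agent.Lib.GrpSch.bc_map_left_of (P := @IsClosedImmersion) b i ‹_›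
    have hcl := Groth.Agent.Lib.GrpQ.MonoClosed.isClosed_range f'
    have hfe : f'.left = g'.left ≫ i'.left := by
      rw [← Over.comp_left, ← Functor.map_comp, hgi]
    have hr : IsClosed (Set.range g'.left) := by
      have h : Set.range g'.left = i'.left ⁻¹' Set.range f'.left := by
        rw [hfe, Scheme.Hom.comp_base, TopCat.coe_comp, Set.range_comp, Set.preimage_image_eq _ i'.left.isClosedEmbedding.injective]
      rw [h]
      exact hcl.preimage i'.left.continuous
    have hd : DenseRange g'.left := g'.left.denseRange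
    refine Groth.Agent.Lib.GrpSch.of_bc_map_left k L (P := @Surjective) g ⟨fun y => ?_⟩
    have h := hd.closure_range
    rw [hr.closure_eq] at h
    exact h.ge trivial

end Groth.Agent.S18825
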