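import Groth.Statements.S18289

import Groth.Agent.Lib.GrpSch.AttrDescent

set_option autoImplicit false
universe u
open CategoryTheory MonoidalCategory CartesianMonoidalCategory MonObj AlgebraicGeometry Opposite
open Magnet

namespace Groth.Agent.S18289

open Groth.Agent.Lib.GrpSch in
theorem orbit_fixed {S : Scheme.{u}} {M : Type} [AddCommGroup M] (Z : AddSubgroup M) {X : Over S}
    (a : Magnet.MonAct (Magnet.AMonS S M) X) {T : Over S} (φ : (Magnet.attr a Z.toAddSubmonoid).obj (op T))
    (U : Over S) (t : U ⟶ T) (g : U ⟶ Magnet.AMonS S (M ⧸ Z)) :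
    lift g (t ≫ (Magnet.attrToX a Z.toAddSubmonoid).app (op T) φ) ≫
        (a.restrict (Magnet.AMonS.map S (QuotientAddGroup.mk' Z))).act =
      t ≫ (Magnet.attrToX a Z.toAddSubmonoid).app (op T) φ := by
  have e : t ≫ (Magnet.attrToX a Z.toAddSubmonoid).app (op T) φ = lift 1 t ≫ φ.1 := by
    rw [Magnet.MonAct.eqvHom.evalAt_app, ← Category.assoc t, comp_lift, Category.comp_id,
      ← Category.assoc t, toUnit_unique (t ≫ toUnit _) (toUnit U), Hom.one_def]
  rw [e, Magnet.MonAct.lift_restrict_act, ← (Magnet.MonAct.mem_eqvHom_iff _).1 φ.2, lift_subAct]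
  congr 2
  refine monFn_ext fun m => ?_
  rw [monFn_mul, monFn_one, _root_.mul_one, monFn_map, monFn_map]
  change monFn g (QuotientAddGroup.mk' Z (m : M)) = 1
  rw [show QuotientAddGroup.mk' Z (m : M) = 0 from (QuotientAddGroup.eq_zero_iff _).mpr m.2, monFn_zero]

open Groth.Agent.Lib.GrpSch in
theorem point_bot {S : Scheme.{u}} {M : Type} [AddCommGroup M] {U : Over S}
    (b : U ⟶ Magnet.AMonS S (⊥ : AddSubmonoid M)) : b = 1 :=
  monFn_ext fun m => by
    rw [show m = 0 from Subtype.ext (AddSubmonoid.mem_bot.mp m.2), monFn_zero, monFn_one]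

open Groth.Agent.Lib.GrpSch in
theorem fixed_lifts {S : Scheme.{u}} {M : Type} [AddCommGroup M] (Z : AddSubgroup M) {X : Over S}
    (a : Magnet.MonAct (Magnet.AMonS S M) X) (T : Over S) (N : AddSubmonoid M)
    (hN : (⊥ : AddSubmonoid (M ⧸ Z)).comap (QuotientAddGroup.mk' Z) = N) :
    Function.Injective ((Magnet.attrToX a N).app (op T)) ∧
      ∀ x : T ⟶ X, (∀ (U : Over S) (t : U ⟶ T) (g : U ⟶ Magnet.AMonS S (M ⧸ Z)),
        lift g (t ≫ x) ≫ (a.restrict (Magnet.AMonS.map S (QuotientAddGroup.mk' Z))).act = t ≫ x) →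
        ∃ φ, (Magnet.attrToX a N).app (op T) φ = x := by
  subst hN
  obtain ⟨hi, hs⟩ := attrComap_bijective (f := QuotientAddGroup.mk' Z) (Y := ⊥) a bot_le T
  have he : ∀ φ : (Magnet.attr a _).obj (op T), ∀ {U : Over S} (b : U ⟶ Magnet.AMonS S (⊥ : AddSubmonoid (M ⧸ Z))) (t : U ⟶ T),
      lift b t ≫ ((Magnet.attrComap a (QuotientAddGroup.mk' Z) ⊥).app (op T) φ).1 =
        t ≫ (Magnet.attrToX a _).app (op T) φ := fun φ U b t => by
    rw [Magnet.attrComap_app_coe, point_bot b, lift_whiskerRight_assoc, MonObj.one_comp,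
      Magnet.MonAct.eqvHom.evalAt_app, ← Category.assoc t, comp_lift, Category.comp_id,
      ← Category.assoc t, toUnit_unique (t ≫ toUnit _) (toUnit U), Hom.one_def]
  refine ⟨fun φ ψ h => hi (Subtype.ext (Magnet.hom_ext_lift₂ fun U b t => ?_)), fun x hx => ?_⟩
  · rw [he φ b t, he ψ b t, h]
  · obtain ⟨φ, hφ⟩ := hs ⟨snd _ _ ≫ x, (Magnet.MonAct.mem_eqvHom_iff _).2 fun U g b t => by
      rw [lift_snd_assoc, lift_snd_assoc, hx U t g]⟩
    refine ⟨φ, ?_⟩
    have h := he φ 1 (𝟙 T)
    rw [hφ, lift_snd_assoc, Category.id_comp] at h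
    exact h.trans rfl |>.symm
/-- Let M be a finitely generated commutative group, Z a subgroup of M and X an S-scheme with an action
of the diagonalizable group scheme D(M)_S. Then the attractor X^Z, for Z regarded as a magnet of M,
is identified with the fixed-point functor of X under the subgroup D(M/Z)_S (acting through D(M/Z)_S
→ D(M)_S): there is an isomorphism of functors on S-schemes from X^Z to the fixed points whose
composite with the inclusion of the fixed points into X is the canonical map X^Z → X. (The published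
statement allows X to be an algebraic space; here X is a scheme.) -/
theorem result (S : Scheme.{u}) (M : Type) [AddCommGroup M] [AddGroup.FG M]
    (Z : AddSubgroup M) (X : Over S) (a : AlgGrp.Action (Red.DS S M) X) :
    ∃ e : Magnet.attr (Magnet.MonAct.ofAction a) Z.toAddSubmonoid ≅
        Magnet.MonAct.fixedPsh ((Magnet.MonAct.ofAction a).restrict (Magnet.AMonS.map S (QuotientAddGroup.mk' Z))),
      e.hom ≫ Magnet.MonAct.fixedPshι _ = Magnet.attrToX (Magnet.MonAct.ofAction a) Z.toAddSubmonoid := by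
  let b := Magnet.MonAct.ofAction a
  let ν : Magnet.attr b Z.toAddSubmonoid ⟶
      Magnet.MonAct.fixedPsh (b.restrict (Magnet.AMonS.map S (QuotientAddGroup.mk' Z))) :=
    { app := fun T => TypeCat.ofHom fun φ => ⟨(Magnet.attrToX b Z.toAddSubmonoid).app T φ, orbit_fixed Z b φ⟩
      naturality := fun T T' t => ConcreteCategory.hom_ext _ _ fun φ =>
        Subtype.ext (ConcreteCategory.congr_hom ((Magnet.attrToX b Z.toAddSubmonoid).naturality t) φ) }
  haveI : ∀ T, IsIso (ν.app T) := fun T => (CategoryTheory.isIso_iff_bijective _).mpr (by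
    obtain ⟨hi, hs⟩ := fixed_lifts Z b (unop T) Z.toAddSubmonoid
      (by ext m; simp [QuotientAddGroup.eq_zero_iff])
    exact ⟨fun φ ψ h => hi (congrArg Subtype.val h), fun x => (hs x.1 x.2).imp fun φ h => Subtype.ext h⟩)
  haveI := NatIso.isIso_of_isIso_app ν
  exact ⟨asIso ν, rfl⟩


end Groth.Agent.S18289
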