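import Groth.Statements.S18295

import Groth.Agent.Lib.GrpSch.AttrRep

set_option autoImplicit false
universe u
open CategoryTheory MonoidalCategory CartesianMonoidalCategory MonObj AlgebraicGeometry Opposite
open Magnet

namespace Groth.Agent.S18295

/-- Let X be an S-scheme affine over S with an action of the diagonalizable monoid scheme A(M)_S of a
commutative monoid M, and N a submonoid (magnet) of M. Then X^N is represented by a closed subscheme
Z of X: there are a closed immersion i : Z → X over S and an isomorphism of the functor of points of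
Z with X^N under which the canonical map X^N → X (evaluation at the unit section) is composition
with i. (Over an affine base the ideal of Z is generated by the homogeneous components of degree
outside N; that description is a separate statement.) -/
theorem result (S : Scheme.{u}) (M : Type)
    [AddCommMonoid M] (N : AddSubmonoid M) (X : Over S) [IsAffineHom X.hom]
    (a : Magnet.MonAct (Magnet.AMonS S M) X) :
    ∃ (Z : Over S) (i : Z ⟶ X) (e : (Magnet.attr a N).RepresentableBy Z), IsClosedImmersion i.left ∧
      ∀ (T : Over S) (z : T ⟶ Z), (Magnet.attrToX a N).app (op T) (e.homEquiv z) = z ≫ i := by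
  classical
  open Groth.Agent.Lib.GrpSch in
  obtain ⟨Z, i, hi, hZ⟩ := AttrAffine.exists_attr_closed a N
  have hmono : Mono i := (Over.forget _).mono_of_mono_map (inferInstanceAs (Mono i.left))
  have hex : ∀ {T : Over S} (z : T ⟶ Z), ∃ ξ : (Magnet.attr a N).obj (op T), (Magnet.attrToX a N).app (op T) ξ = z ≫ i :=
    fun {T} z => (Groth.Agent.Lib.GrpSch.AttrAffine.exists_attr_iff a N (z ≫ i)).2 ((hZ T _).1 ⟨z, rfl⟩)
  choose ξ hξ using @hex
  have hinj : ∀ T : Over S, Function.Injective ((Magnet.attrToX a N).app (op T)) :=
    Groth.Agent.Lib.GrpSch.attrToX_injective a N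
  let e : ∀ T : Over S, (T ⟶ Z) ≃ (Magnet.attr a N).obj (op T) := fun T =>
    Equiv.ofBijective (fun z => ξ z) ⟨fun z w h => (cancel_mono i).1 (by rw [← hξ z, ← hξ w]; exact congrArg _ h),
      fun ξ' => by
        obtain ⟨z, hz⟩ := (hZ T _).2 ((Groth.Agent.Lib.GrpSch.AttrAffine.exists_attr_iff a N _).1 ⟨ξ', rfl⟩)
        exact ⟨z, hinj T ((hξ z).trans hz)⟩⟩
  refine ⟨Z, i, { homEquiv := fun {T} => e T, homEquiv_comp := fun {T T'} f g => hinj T ?_ }, hi, fun T z => hξ z⟩
  have hnat := ConcreteCategory.congr_hom ((Magnet.attrToX a N).naturality f.op) (ξ g)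
  refine (hξ (f ≫ g)).trans (Eq.trans ?_ hnat.symm)
  change (f ≫ g) ≫ i = f ≫ ((Magnet.attrToX a N).app (op T')) (ξ g)
  rw [hξ, Category.assoc]

end Groth.Agent.S18295
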