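import Groth.Statements.S18299

import Groth.Agent.Lib.GrpSch.ClosedDescent
import Mathlib.CategoryTheory.Limits.Types.Pullbacks

set_option autoImplicit false
universe u
open CategoryTheory MonoidalCategory CartesianMonoidalCategory MonObj AlgebraicGeometry Opposite
open Magnet

open Opposite

namespace Groth.Agent.S18299

/-- Let Q be a commutative group, X and U S-schemes with actions of the diagonalizable group scheme
D(Q)_S, and f : U → X an equivariant morphism over S which is étale and surjective and fixed-point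
reflecting: the square formed by the fixed-point functors U^{D(Q)} → X^{D(Q)} over U → X is
cartesian (an FPR atlas). If the fixed-point functor of U is represented by a closed subscheme of U
— which holds when U is a disjoint union of D(Q)_S-stable S-affine schemes, by the affine
representability of attractors — then the fixed-point functor of X is represented by a closed
subscheme of X, compatibly with its inclusion into X. (In the source Q = M/Z for a subgroup Z of a
commutative group M acting through D(M)_S, the fixed points of D(M/Z)_S being the attractor X^Z, and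
X may be an algebraic space; here X is a scheme.) -/
theorem result (S : Scheme.{u}) (Q : Type)
    [AddCommGroup Q] (X U : Over S) (aX : AlgGrp.Action (Red.DS S Q) X) (aU : AlgGrp.Action (Red.DS S Q) U)
    (f : U ⟶ X) [Etale f.left] [Surjective f.left]
    (hf : Magnet.MonAct.IsEquivariant (Magnet.MonAct.ofAction aU) (Magnet.MonAct.ofAction aX) f)
    (hfpr : IsPullback (Magnet.MonAct.fixedPsh.map f hf) (Magnet.MonAct.fixedPshι (Magnet.MonAct.ofAction aU))
      (Magnet.MonAct.fixedPshι (Magnet.MonAct.ofAction aX)) (yoneda.map f))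
    (hU : ∃ (W' : Over S) (i' : W' ⟶ U) (e' : (Magnet.MonAct.fixedPsh (Magnet.MonAct.ofAction aU)).RepresentableBy W'),
      IsClosedImmersion i'.left ∧ ∀ (T : Over S) (w : T ⟶ W'),
        (Magnet.MonAct.fixedPshι (Magnet.MonAct.ofAction aU)).app (op T) (e'.homEquiv w) = w ≫ i') :
    ∃ (W : Over S) (i : W ⟶ X) (e : (Magnet.MonAct.fixedPsh (Magnet.MonAct.ofAction aX)).RepresentableBy W),
      IsClosedImmersion i.left ∧ ∀ (T : Over S) (w : T ⟶ W),
        (Magnet.MonAct.fixedPshι (Magnet.MonAct.ofAction aX)).app (op T) (e.homEquiv w) = w ≫ i := by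
  obtain ⟨W', i', e', hi', he'⟩ := hU
  have hfacU : ∀ {T : Over S} (u : T ⟶ U), (∃ x : (Magnet.MonAct.fixedPsh (Magnet.MonAct.ofAction aU)).obj (op T), x.1 = u) ↔
      ∃ w : T ⟶ W', w ≫ i' = u := by
    intro T u
    refine ⟨fun ⟨x, hx⟩ => ⟨e'.homEquiv.symm x, ?_⟩, fun ⟨w, hw⟩ => ⟨e'.homEquiv w, ?_⟩⟩
    · rw [← he' T (e'.homEquiv.symm x), Equiv.apply_symm_apply]
      exact hx
    · exact (he' T w).trans hw
  have hrefl : ∀ {T : Over S} (u : T ⟶ U),
      (∃ x : (Magnet.MonAct.fixedPsh (Magnet.MonAct.ofAction aX)).obj (op T), x.1 = u ≫ f) →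
      ∃ w : T ⟶ W', w ≫ i' = u := by
    rintro T u ⟨x, hx⟩
    obtain ⟨v, -, hv⟩ := Limits.Types.exists_of_isPullback (hfpr.map ((evaluation _ _).obj (op T))) x u hx
    exact (hfacU u).1 ⟨v, hv⟩
  obtain ⟨W, j, q, hj, hq⟩ := Groth.Agent.Lib.GrpSch.exists_closedImmersion_descent f.left i'.left (by
    rintro T x₀ x₁ h ⟨v, hv⟩
    let T₀ : Over S := Over.mk (x₀ ≫ U.hom)
    let u₀ : T₀ ⟶ U := Over.homMk x₀
    let u₁ : T₀ ⟶ U := Over.homMk x₁ (by
      change x₁ ≫ U.hom = x₀ ≫ U.hom
      rw [← Over.w f, reassoc_of% h])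
    let v₀ : T₀ ⟶ W' := Over.homMk v (by
      change v ≫ W'.hom = x₀ ≫ U.hom
      rw [← Over.w i', reassoc_of% hv])
    have e : u₁ ≫ f = u₀ ≫ f := Over.OverMorphism.ext h.symm
    have hv₀ : v₀ ≫ i' = u₀ := Over.OverMorphism.ext hv
    obtain ⟨x, hx⟩ := (hfacU u₀).2 ⟨v₀, hv₀⟩
    obtain ⟨w, hw⟩ := hrefl u₁ ⟨(Magnet.MonAct.fixedPsh.map f hf).app (op T₀) x, by
      rw [e, ← hx]; rfl⟩
    exact ⟨w.left, congrArg (fun m => m.left) hw⟩)
  let Wo : Over S := Over.mk (j ≫ X.hom)
  let i : Wo ⟶ X := Over.homMk j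
  have hsurj : Surjective f.left := ‹_›
  have hcov : ∀ {T : Over S} (x : T ⟶ X),
      Groth.Agent.Lib.FFDesc.fpqcCover (Limits.pullback.fst x.left f.left) := fun x =>
    Groth.Agent.Lib.FFDesc.fpqcCover_of_lfp _
  have hfac : ∀ {T : Over S} (x : T ⟶ X), (∀ (T' : Over S) (t : T' ⟶ T) (g : T' ⟶ Red.DS S Q),
      lift g (t ≫ x) ≫ (Magnet.MonAct.ofAction aX).act = t ≫ x) ↔ ∃ w : T ⟶ Wo, w ≫ i = x := by
    intro T x
    constructor
    · intro hx
      let P : Over S := Over.mk (Limits.pullback.fst x.left f.left ≫ T.hom)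
      let pr : P ⟶ T := Over.homMk (Limits.pullback.fst x.left f.left)
      let u : P ⟶ U := Over.homMk (Limits.pullback.snd x.left f.left) (by
        change Limits.pullback.snd x.left f.left ≫ U.hom = Limits.pullback.fst x.left f.left ≫ T.hom
        rw [← Over.w f, ← Over.w x, Limits.pullback.condition_assoc])
      have hu : u ≫ f = pr ≫ x := Over.OverMorphism.ext Limits.pullback.condition.symm
      obtain ⟨w, hw⟩ := hrefl u ⟨(Magnet.MonAct.fixedPsh (Magnet.MonAct.ofAction aX)).map pr.op ⟨x, hx⟩, by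
        rw [hu]; rfl⟩
      obtain ⟨w₁, hw₁⟩ := Groth.Agent.Lib.GrpSch.exists_factor_mono_of_cover _ (hcov x) x.left j
        ⟨w.left ≫ q, by
          have hw' : w.left ≫ i'.left = Limits.pullback.snd x.left f.left := congrArg (fun m => m.left) hw
          rw [Category.assoc, ← hq.w, reassoc_of% hw', Limits.pullback.condition]⟩
      exact ⟨Over.homMk w₁ (by
        change w₁ ≫ j ≫ X.hom = T.hom
        rw [reassoc_of% hw₁, Over.w]), Over.OverMorphism.ext hw₁⟩
    · rintro ⟨w, rfl⟩ T' t g
      let y : T' ⟶ X := t ≫ w ≫ i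
      let P : Over S := Over.mk (Limits.pullback.fst y.left f.left ≫ T'.hom)
      let pr : P ⟶ T' := Over.homMk (Limits.pullback.fst y.left f.left)
      let u : P ⟶ U := Over.homMk (Limits.pullback.snd y.left f.left) (by
        change Limits.pullback.snd y.left f.left ≫ U.hom = Limits.pullback.fst y.left f.left ≫ T'.hom
        rw [← Over.w f, ← Over.w y, Limits.pullback.condition_assoc])
      have hu : u ≫ f = pr ≫ y := Over.OverMorphism.ext Limits.pullback.condition.symm
      have hy : y.left = (t ≫ w).left ≫ j := (congrArg (fun m => m.left) (Category.assoc t w i)).symm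
      let v : P ⟶ W' := Over.homMk (hq.lift (Limits.pullback.snd y.left f.left)
          (Limits.pullback.fst y.left f.left ≫ (t ≫ w).left) (Limits.pullback.condition.symm.trans
            ((congrArg (Limits.pullback.fst y.left f.left ≫ ·) hy).trans (Category.assoc _ _ _).symm))) (by
        rw [← Over.w i', hq.lift_fst_assoc]
        exact Over.w u)
      obtain ⟨z, hz⟩ := (hfacU u).2 ⟨v, Over.OverMorphism.ext (hq.lift_fst _ _ _)⟩
      have := ((Magnet.MonAct.fixedPsh.map f hf).app (op P) z).2 P (𝟙 P) (pr ≫ g)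
      rw [show ((Magnet.MonAct.fixedPsh.map f hf).app (op P) z).1 = pr ≫ y from by rw [← hu, ← hz]; rfl,
        Category.id_comp, ← comp_lift, Category.assoc] at this
      have := (hcov y).effectiveEpi
      refine Over.OverMorphism.ext ((cancel_epi (Limits.pullback.fst y.left f.left)).1 ?_)
      exact congrArg (fun m => m.left) ‹pr ≫ lift g y ≫ _ = pr ≫ y›
  have hmono : Mono i := Over.mono_of_mono_left i
  refine ⟨Wo, i,
    { homEquiv := fun {T} => Equiv.ofBijective (fun w => ⟨w ≫ i, (hfac _).2 ⟨w, rfl⟩⟩)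
        ⟨fun w w' h => (cancel_mono i).1 (congrArg Subtype.val h), fun x => by
          obtain ⟨w, hw⟩ := (hfac x.1).1 x.2
          exact ⟨w, Subtype.ext hw⟩⟩
      homEquiv_comp := fun g w => Subtype.ext (Category.assoc g w i) }, hj, fun T w => rfl⟩


end Groth.Agent.S18299
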