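import Groth.Statements.S18240

import Groth.Agent.Lib.GrpSch.EqvLiftApp
import Groth.Prelude.Def_Magnet4

set_option autoImplicit false
universe u
open CategoryTheory MonoidalCategory CartesianMonoidalCategory AlgebraicGeometry Opposite
open Magnet

open Groth.Agent.Lib Groth.Agent.Lib.GrpSch.AttrAffine

namespace Groth.Agent.S18240

attribute [local instance] baseAlg

/-- The statement for a surjection of rings with square-zero kernel. -/
theorem exists_lift (S : Scheme.{u}) (M : Type) [AddCommGroup M]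
    {N F : AddSubmonoid M} (hF : Magnet.IsFace N F) {X : Over S} [Smooth X.hom]
    (a : Magnet.MonAct (Magnet.AMonS S M) X) {A B : CommRingCat.{u}} (m : A ⟶ B)
    (hm : Function.Surjective m.hom) (hsq : RingHom.ker m.hom ^ 2 = ⊥) (str : Spec A ⟶ S)
    (x : (Magnet.attr a N).obj (op (specOver B (Spec.map m ≫ str))))
    (y : (Magnet.attr a F).obj (op (specOver A str)))
    (hw : (Magnet.AMonS.faceMap S hF ▷ specOver B (Spec.map m ≫ str)) ≫ x.1 =
      (Magnet.AMonS S ↥F ◁ sMap m rfl) ≫ y.1) :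
    ∃ l : (Magnet.attr a N).obj (op (specOver A str)),
      (Magnet.AMonS S ↥N ◁ sMap m rfl) ≫ l.1 = x.1 ∧
        (Magnet.AMonS.faceMap S hF ▷ specOver A str) ≫ l.1 = y.1 := by
  let TA := specOver A str
  let TB := specOver B (Spec.map m ≫ str)
  let g : TB ⟶ TA := sMap m rfl
  let face := Magnet.AMonS.faceMap S hF
  let ret := Magnet.AMonS.map S (AddSubmonoid.inclusion hF.le)
  let eNA := dIso (M := ↥N) A str
  let eNB := dIso (M := ↥N) B (Spec.map m ≫ str)
  let eFA := dIso (M := ↥F) A str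
  let eFB := dIso (M := ↥F) B (Spec.map m ≫ str)
  let ρNA := transportAct eNA ((Magnet.subAct S M N).prod (Magnet.MonAct.trivial (Magnet.AMonS S M) TA))
  let ρNB := transportAct eNB ((Magnet.subAct S M N).prod (Magnet.MonAct.trivial (Magnet.AMonS S M) TB))
  let ρFA := transportAct eFA ((Magnet.subAct S M F).prod (Magnet.MonAct.trivial (Magnet.AMonS S M) TA))
  let ρFB := transportAct eFB ((Magnet.subAct S M F).prod (Magnet.MonAct.trivial (Magnet.AMonS S M) TB))
  let iN := dMap (M := ↥N) m (t := str) rfl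
  let iF := dMap (M := ↥F) m (t := str) rfl
  let fA := eFA.hom ≫ (face ▷ TA) ≫ eNA.inv
  let fB := eFB.hom ≫ (face ▷ TB) ≫ eNB.inv
  let rA := eNA.hom ≫ (ret ▷ TA) ≫ eFA.inv
  let rB := eNB.hom ≫ (ret ▷ TB) ≫ eFB.inv
  have hiNe : iN ≫ eNA.hom = eNB.hom ≫ (Magnet.AMonS S ↥N ◁ g) := dMap_dIso m rfl
  have hiFe : iF ≫ eFA.hom = eFB.hom ≫ (Magnet.AMonS S ↥F ◁ g) := dMap_dIso m rfl
  have hfi : iF ≫ fA = fB ≫ iN := by
    rw [← cancel_mono eNA.hom]
    simp only [fA, fB, Category.assoc, eNA.inv_hom_id, Category.comp_id, hiNe, eNB.inv_hom_id_assoc]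
    rw [← Category.assoc, hiFe, Category.assoc]
    erw [Category.comp_id, whisker_exchange]
  have hri : iN ≫ rA = rB ≫ iF := by
    rw [← cancel_mono eFA.hom]
    simp only [rA, rB, Category.assoc, eFA.inv_hom_id, Category.comp_id, hiFe, eFB.inv_hom_id_assoc]
    rw [← Category.assoc, hiNe, Category.assoc]
    erw [Category.comp_id, whisker_exchange]
  have hfr : fA ≫ rA = 𝟙 _ := by
    simp only [fA, rA, Category.assoc, eNA.inv_hom_id_assoc]
    rw [← MonoidalCategory.comp_whiskerRight_assoc, Magnet.AMonS.faceMap_comp_map,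
      MonoidalCategory.id_whiskerRight, Category.id_comp, eFA.hom_inv_id]
  -- rings
  let πN : bcRing R0.{u} ↥N A ⟶ bcRing R0.{u} ↥N B := bcNat R0.{u} (toAlgHom' m)
  let πF : bcRing R0.{u} ↥F A ⟶ bcRing R0.{u} ↥F B := bcNat R0.{u} (toAlgHom' m)
  let qA := Spec.preimage fA.left
  let qB := Spec.preimage fB.left
  let κA := Spec.preimage rA.left
  let κB := Spec.preimage rB.left
  have hqA : Spec.map qA = fA.left := Spec.map_preimage _
  have hqB : Spec.map qB = fB.left := Spec.map_preimage _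
  have hκA : Spec.map κA = rA.left := Spec.map_preimage _
  have hκB : Spec.map κB = rB.left := Spec.map_preimage _
  have hq : qA ≫ πF = πN ≫ qB := Spec.map_injective (by
    rw [Spec.map_comp, Spec.map_comp, hqA, hqB]
    exact congrArg CommaMorphism.left hfi)
  have hκ : κA ≫ πN = πF ≫ κB := Spec.map_injective (by
    rw [Spec.map_comp, Spec.map_comp, hκA, hκB]
    exact congrArg CommaMorphism.left hri)
  have hκq : κA ≫ qA = 𝟙 _ := Spec.map_injective (by
    rw [Spec.map_comp, hqA, hκA, Spec.map_id]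
    exact congrArg CommaMorphism.left hfr)
  let K : Ideal (bcRing R0.{u} ↥N A) := RingHom.ker πN.hom ⊓ RingHom.ker qA.hom
  let π : bcRing R0.{u} ↥N A ⟶ CommRingCat.of (bcRing R0.{u} ↥N A ⧸ K) := CommRingCat.ofHom (Ideal.Quotient.mk K)
  let r : CommRingCat.of (bcRing R0.{u} ↥N A ⧸ K) ⟶ bcRing R0.{u} ↥N B :=
    CommRingCat.ofHom (Ideal.Quotient.lift K πN.hom fun c hc => hc.1)
  let s : CommRingCat.of (bcRing R0.{u} ↥N A ⧸ K) ⟶ bcRing R0.{u} ↥F A :=
    CommRingCat.ofHom (Ideal.Quotient.lift K qA.hom fun c hc => hc.2)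
  have hπr : π ≫ r = πN := rfl
  have hπs : π ≫ s = qA := rfl
  have hSq : Ferrand.IsSq r.hom s.hom qB.hom πF.hom := by
    refine ⟨fun z => ?_, bcNat_surjective R0.{u} (toAlgHom' m) hm, fun z z' h₁ h₂ => ?_, fun b c hbc => ?_⟩
    · obtain ⟨c, rfl⟩ := Ideal.Quotient.mk_surjective z
      exact congr($hq c).symm
    · obtain ⟨c, rfl⟩ := Ideal.Quotient.mk_surjective z
      obtain ⟨c', rfl⟩ := Ideal.Quotient.mk_surjective z'
      refine Ideal.Quotient.eq.2 ⟨?_, ?_⟩
      · change πN.hom (c - c') = 0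
        rw [map_sub]
        exact sub_eq_zero.2 h₁
      · change qA.hom (c - c') = 0
        rw [map_sub]
        exact sub_eq_zero.2 h₂
    · obtain ⟨c₁, rfl⟩ := bcNat_surjective R0.{u} (toAlgHom' m) hm b
      refine ⟨Ideal.Quotient.mk K (c₁ + κA.hom (c - qA.hom c₁)), ?_, ?_⟩
      · change πN.hom (c₁ + κA.hom (c - qA.hom c₁)) = πN.hom c₁
        rw [map_add, show πN.hom (κA.hom (c - qA.hom c₁)) = κB.hom (πF.hom (c - qA.hom c₁)) from congr($hκ _),
          map_sub πF.hom, show πF.hom (qA.hom c₁) = qB.hom (πN.hom c₁) from congr($hq _), sub_eq_zero.2 hbc.symm,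
          map_zero, add_zero]
      · change qA.hom (c₁ + κA.hom (c - qA.hom c₁)) = c
        rw [map_add, show qA.hom (κA.hom (c - qA.hom c₁)) = c - qA.hom c₁ from congr($hκq _),
          add_sub_cancel]
  let tC : Spec (bcRing R0.{u} ↥N A) ⟶ S := Spec.map (bcInl R0.{u} ↥N A) ≫ str
  let tP : Spec (CommRingCat.of (bcRing R0.{u} ↥N A ⧸ K)) ⟶ S := Spec.map π ≫ tC
  have er : Spec.map r ≫ tP = Spec.map (bcInl R0.{u} ↥N B) ≫ Spec.map m ≫ str := by
    rw [← Category.assoc, ← Spec.map_comp, hπr]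
    exact Over.w iN
  have es : Spec.map s ≫ tP = Spec.map (bcInl R0.{u} ↥F A) ≫ str := by
    rw [← Category.assoc, ← Spec.map_comp, hπs, hqA]
    exact Over.w fA
  obtain ⟨hpo, hpo1⟩ := isPushout_spec_whiskerLeft (M := M) hSq er es
    (by rw [hqB]; exact Over.w fB) (Over.w iF)
  rw [show sMap qB (by rw [hqB]; exact Over.w fB) = fB from Over.OverMorphism.ext hqB,
    show sMap πF (Over.w iF) = iF from rfl] at hpo hpo1
  let ι0 : specOver (CommRingCat.of (bcRing R0.{u} ↥N A ⧸ K)) tP ⟶ dOver (M := ↥N) A str := sMap π rfl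
  have hsι : sMap s es ≫ ι0 = fA := by
    apply Over.OverMorphism.ext
    rw [Over.comp_left, sMap_left, sMap_left, ← Spec.map_comp, hπs, hqA]
  have hrι : sMap r er ≫ ι0 = iN := by
    apply Over.OverMorphism.ext
    rw [Over.comp_left, sMap_left, sMap_left, ← Spec.map_comp, hπr]
    rfl
  -- equivariance of the maps
  have hiN : Magnet.MonAct.IsEquivariant ρNB ρNA iN := by
    rw [show iN = eNB.hom ≫ (Magnet.AMonS S ↥N ◁ g) ≫ eNA.inv from by
      rw [← Category.assoc, Iso.eq_comp_inv]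
      exact hiNe]
    exact (isEquivariant_transport_hom eNB _).comp
      (Magnet.MonAct.IsEquivariant.comp (Magnet.MonAct.prod_trivial_act_whiskerLeft _ g)
        (isEquivariant_transport_inv eNA _))
  have hiF : Magnet.MonAct.IsEquivariant ρFB ρFA iF := by
    rw [show iF = eFB.hom ≫ (Magnet.AMonS S ↥F ◁ g) ≫ eFA.inv from by
      rw [← Category.assoc, Iso.eq_comp_inv]
      exact hiFe]
    exact (isEquivariant_transport_hom eFB _).comp
      (Magnet.MonAct.IsEquivariant.comp (Magnet.MonAct.prod_trivial_act_whiskerLeft _ g)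
        (isEquivariant_transport_inv eFA _))
  have hface : ∀ T : Over S, Magnet.MonAct.IsEquivariant
      ((Magnet.subAct S M F).prod (Magnet.MonAct.trivial (Magnet.AMonS S M) T))
      ((Magnet.subAct S M N).prod (Magnet.MonAct.trivial (Magnet.AMonS S M) T)) (face ▷ T) := fun T => by
    rw [Magnet.MonAct.isEquivariant_iff]
    intro T' p q
    have he := (Magnet.MonAct.isEquivariant_iff _ _ _).1 (Magnet.isEquivariant_faceMapS (M := M) S hF)
    rw [← lift_comp_fst_snd q, Magnet.MonAct.lift_prod_act_assoc, lift_whiskerRight, lift_whiskerRight,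
      Magnet.MonAct.lift_prod_act, Magnet.MonAct.lift_trivial_act,
      Category.assoc, he]
  have hfA : Magnet.MonAct.IsEquivariant ρFA ρNA fA :=
    (isEquivariant_transport_hom eFA _).comp
      (Magnet.MonAct.IsEquivariant.comp (hface TA) (isEquivariant_transport_inv eNA _))
  have hfB : Magnet.MonAct.IsEquivariant ρFB ρNB fB :=
    (isEquivariant_transport_hom eFB _).comp
      (Magnet.MonAct.IsEquivariant.comp (hface TB) (isEquivariant_transport_inv eNB _))
  have hx : Magnet.MonAct.IsEquivariant ρNB a (eNB.hom ≫ x.1) := (isEquivariant_transport_hom eNB _).comp x.2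
  have hy : Magnet.MonAct.IsEquivariant ρFA a (eFA.hom ≫ y.1) := (isEquivariant_transport_hom eFA _).comp y.2
  -- the datum on the union
  let x0 := hpo.desc (eFA.hom ≫ y.1) (eNB.hom ≫ x.1) (by
    rw [← Category.assoc, hiFe, Category.assoc, ← hw]
    simp only [fB, Category.assoc, eNB.inv_hom_id_assoc]
    rfl)
  have hx0s : sMap s es ≫ x0 = eFA.hom ≫ y.1 := hpo.inl_desc _ _ _
  have hx0r : sMap r er ≫ x0 = eNB.hom ≫ x.1 := hpo.inr_desc _ _ _
  let ρ0 := hpo1.desc (ρFA.act ≫ sMap s es) (ρNB.act ≫ sMap r er) (by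
    rw [← reassoc_of% hiF, ← reassoc_of% hfB, hpo.w])
  have hρs : (Magnet.AMonS S M ◁ sMap s es) ≫ ρ0 = ρFA.act ≫ sMap s es := hpo1.inl_desc _ _ _
  have hρr : (Magnet.AMonS S M ◁ sMap r er) ≫ ρ0 = ρNB.act ≫ sMap r er := hpo1.inr_desc _ _ _
  have hρ0 : ρ0 ≫ ι0 = (Magnet.AMonS S M ◁ ι0) ≫ ρNA.act := by
    refine hpo1.hom_ext ?_ ?_
    · rw [reassoc_of% hρs, hsι, hfA, ← MonoidalCategory.whiskerLeft_comp_assoc, hsι]
    · rw [reassoc_of% hρr, hrι, hiN, ← MonoidalCategory.whiskerLeft_comp_assoc, hrι]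
  have hρx : ρ0 ≫ x0 = (Magnet.AMonS S M ◁ x0) ≫ a.act := by
    refine hpo1.hom_ext ?_ ?_
    · rw [reassoc_of% hρs, hx0s, hy, ← MonoidalCategory.whiskerLeft_comp_assoc, hx0s]
    · rw [reassoc_of% hρr, hx0r, hx, ← MonoidalCategory.whiskerLeft_comp_assoc, hx0r]
  -- lifting
  let f : X ⟶ Over.mk (𝟙 S) := Over.homMk X.hom
  haveI : Smooth f.left := inferInstanceAs (Smooth X.hom)
  have huniq : ∀ {Z : Over S} (u v : Z ⟶ Over.mk (𝟙 S)), u = v := fun u v =>
    Over.mkIdTerminal.hom_ext u v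
  obtain ⟨l, hl, hl0, -⟩ := exists_eqv_lift_spec π Ideal.Quotient.mk_surjective
    (by
      rw [eq_bot_iff]
      refine le_trans (Ideal.pow_right_mono ?_ 2) (ker_bcNat_sq (M := ↥N) m hsq).le
      rw [show RingHom.ker π.hom = K from Ideal.mk_ker]
      exact inf_le_left)
    rfl a (Magnet.MonAct.trivial (Magnet.AMonS S M) (Over.mk (𝟙 S))) f (huniq _ _) ρNA ρ0 hρ0 x0 hρx
    (Over.mkIdTerminal.from _) (huniq _ _) (huniq _ _)
  refine ⟨⟨eNA.inv ≫ l, (isEquivariant_transport_inv eNA _).comp hl⟩, ?_, ?_⟩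
  · change (Magnet.AMonS S ↥N ◁ g) ≫ eNA.inv ≫ l = x.1
    rw [← cancel_epi eNB.hom, ← Category.assoc, ← hiNe, Category.assoc, eNA.hom_inv_id_assoc, ← hrι,
      Category.assoc, hl0, hx0r]
  · change (face ▷ TA) ≫ eNA.inv ≫ l = y.1
    rw [← cancel_epi eFA.hom]
    change eFA.hom ≫ (face ▷ TA) ≫ eNA.inv ≫ l = eFA.hom ≫ y.1
    rw [← hx0s, ← hl0, reassoc_of% hsι]
    simp only [fA, Category.assoc]

/-- Let S be a scheme, M a finitely generated abelian group, N a submonoid of M and F a face of N (x + y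
∈ F iff x ∈ F and y ∈ F), and X an S-scheme with an action of the diagonalizable group scheme D(M)_S
such that X → S is smooth. Then the canonical map X^N → X^F (restriction along the closed immersion
A(F) → A(N) of the face) is formally smooth as a transformation of functors on S-schemes: for every
ring A, ideal I with I² = 0 and Spec A → S, writing T = Spec (A/I) ⊂ T' = Spec A, every x in X^N(T)
and y in X^F(T') with the same image in X^F(T) admit some l in X^N(T') with l|_T = x mapping to y.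
(Stated for schemes; the published statement is for algebraic spaces over S.) -/
theorem result (S : Scheme.{u}) (M : Type) [AddCommGroup M] [AddGroup.FG M]
    {N F : AddSubmonoid M} (hF : Magnet.IsFace N F) {X : Over S} [Smooth X.hom]
    (a : Magnet.MonAct (Magnet.AMonS S M) X) (A : Type u) [CommRing A] (I : Ideal A) (hI : I ^ 2 = ⊥)
    (str : Spec (CommRingCat.of A) ⟶ S)
    (x : (Magnet.attr a N).obj (op (Over.mk (Spec.map (CommRingCat.ofHom (Ideal.Quotient.mk I)) ≫ str))))
    (y : (Magnet.attr a F).obj (op (Over.mk str)))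
    (h : (Magnet.attrFace a hF).app _ x = (Magnet.attr a F).map (Over.homMk (Spec.map (CommRingCat.ofHom (Ideal.Quotient.mk I))) rfl :
        Over.mk (Spec.map (CommRingCat.ofHom (Ideal.Quotient.mk I)) ≫ str) ⟶ Over.mk str).op y) :
    ∃ l : (Magnet.attr a N).obj (op (Over.mk str)),
      (Magnet.attr a N).map (Over.homMk (Spec.map (CommRingCat.ofHom (Ideal.Quotient.mk I))) rfl :
        Over.mk (Spec.map (CommRingCat.ofHom (Ideal.Quotient.mk I)) ≫ str) ⟶ Over.mk str).op l = x ∧ (Magnet.attrFace a hF).app _ l = y := by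
  obtain ⟨l, h0, h1⟩ := exists_lift S M hF a (A := CommRingCat.of A) (B := CommRingCat.of (A ⧸ I))
    (CommRingCat.ofHom (Ideal.Quotient.mk I)) Ideal.Quotient.mk_surjective
    (by
      rw [show RingHom.ker (CommRingCat.ofHom (Ideal.Quotient.mk I)).hom = I from Ideal.mk_ker]
      exact hI)
    str x y (congrArg Subtype.val h)
  exact ⟨l, Subtype.ext h0, Subtype.ext h1⟩

end Groth.Agent.S18240
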