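import Groth.Statements.S18241

import Groth.Agent.S18240
import Groth.Agent.Lib.GrpSch.AttrStage
import Groth.Agent.Lib.GrpSch.RepSmooth

set_option autoImplicit false
universe u
open CategoryTheory MonoidalCategory CartesianMonoidalCategory AlgebraicGeometry Opposite
open Magnet

namespace Groth.Agent.S18241

/-- Let S be a scheme, M a finitely generated abelian group, N a submonoid of M and F a face of N, and X
an S-scheme smooth over S with an action of the diagonalizable group scheme D(M)_S. If the
attractors X^N and X^F are represented by S-schemes Z_N and Z_F, and j : Z_N → Z_F is the S-morphism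
that corresponds to the canonical map X^N → X^F under the two representing bijections, then j is
smooth. (Stated for schemes; the published statement is for algebraic spaces over S.) -/
theorem result (S : Scheme.{u}) (M : Type) [AddCommGroup M] [AddGroup.FG M]
    {N F : AddSubmonoid M} (hF : Magnet.IsFace N F) {X : Over S} [Smooth X.hom]
    (a : Magnet.MonAct (Magnet.AMonS S M) X) {ZN ZF : Over S} (eN : (Magnet.attr a N).RepresentableBy ZN)
    (eF : (Magnet.attr a F).RepresentableBy ZF) (j : ZN ⟶ ZF)
    (hj : ∀ (T : Over S) (z : T ⟶ ZN), eF.homEquiv (z ≫ j) = (Magnet.attrFace a hF).app (op T) (eN.homEquiv z)) :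
    Smooth j.left := by
  refine Groth.Agent.Lib.GrpSch.smooth_of_representable (Magnet.attrFace a hF) eN eF j hj ?_ ?_
  · intro A _ I hI str x y hxy
    exact Groth.Agent.S18240.result S M hF a A I hI str x y hxy
  · intro I _ _ E e he hE i x y hxy
    -- the structure map as an equivariant map to the final object
    let p : X ⟶ Over.mk (𝟙 S) := Over.homMk X.hom
    haveI : Smooth p.left := inferInstanceAs (Smooth X.hom)
    let b := Magnet.MonAct.trivial (Magnet.AMonS S M) (Over.mk (𝟙 S))
    have huniq : ∀ {Z : Over S} (u v : Z ⟶ Over.mk (𝟙 S)), u = v := fun u v =>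
      Over.mkIdTerminal.hom_ext u v
    let yN : (Magnet.attr b N).obj (op (E.obj i)) := ⟨Over.mkIdTerminal.from _, huniq _ _⟩
    obtain ⟨k, φ, x', h1, -⟩ := Groth.Agent.Lib.GrpSch.AttrStage.exists_attr_lift_stage he hE a b N p
      (huniq _ _) (i := i) x yN (huniq _ _)
    have hx' : (Magnet.attr a N).map (e.π.app k).op x' = x := Subtype.ext h1
    obtain ⟨k', ψ, hψ⟩ := Groth.Agent.Lib.GrpSch.AttrStage.exists_attr_eq_stage he hE a F p
      ((Magnet.attrFace a hF).app (op (E.obj k)) x') ((Magnet.attr a F).map (E.map φ).op y) (huniq _ _) (by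
        refine (NatTrans.naturality_apply (Magnet.attrFace a hF) (e.π.app k).op x').symm.trans ?_
        rw [hx']
        refine hxy.trans ?_
        rw [← Functor.map_comp_apply, ← op_comp, e.w])
    refine ⟨k', ψ ≫ φ, (Magnet.attr a N).map (E.map ψ).op x', ?_, ?_⟩
    · rw [← Functor.map_comp_apply, ← op_comp, e.w, hx']
    · rw [NatTrans.naturality_apply (Magnet.attrFace a hF) (E.map ψ).op x', hψ, ← Functor.map_comp_apply,
        ← op_comp, ← E.map_comp]

end Groth.Agent.S18241
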