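import Groth.Statements.S6891
import Groth.Agent.H25.Fitting
import Mathlib.RingTheory.Support
-- import your own Groth.Agent.* helpers here

set_option autoImplicit false
universe u
open Fitt

namespace Groth.Agent.S6891

/-- Let `M` be a finite `R`-module. Then `Fit_0(M) ⊆ Ann_R(M)`, the closed set `V(Fit_0(M))` equals
`Supp(M)`, and for an ideal `I` one has `Fit_0(R/I) = I`. -/
theorem result {R : Type u} [CommRing R] (M : Type u) [AddCommGroup M]
    [Module R M] [Module.Finite R M] (I : Ideal R) :
    Fitt.ideal R M 0 ≤ Module.annihilator R M ∧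
    PrimeSpectrum.zeroLocus (Fitt.ideal R M 0 : Set R) = Module.support R M ∧
    Fitt.ideal R (R ⧸ I) 0 = I := by
  open Groth.Agent.H25.Fitting in
  obtain ⟨n, x, hx⟩ := Module.Finite.exists_fin (R := R) (M := M)
  refine ⟨ideal_zero_le_annihilator, le_antisymm (fun p hp => ?_) ?_, ?_⟩
  · by_contra hs
    rw [Module.notMem_support_iff', ] at hs
    choose r hr hrm using hs
    classical
    set f := ∏ i, r (x i) with hf
    have hfm : ∀ m : M, f • m = 0 := by
      intro m
      have hm : m ∈ Submodule.span R (Set.range x) := hx ▸ Submodule.mem_top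
      refine Submodule.span_induction ?_ (smul_zero _) ?_ ?_ hm
      · rintro _ ⟨j, rfl⟩
        rw [hf, ← Finset.prod_erase_mul _ _ (Finset.mem_univ j), mul_smul, hrm, smul_zero]
      · intro a b _ _ ha hb; rw [smul_add, ha, hb, add_zero]
      · intro t a _ ha; rw [smul_comm, ha, smul_zero]
    have h1 : f ^ n ∈ p.asIdeal := hp (pow_mem_ideal_zero x hx f hfm)
    have h2 : f ∈ p.asIdeal := p.2.mem_of_pow_mem _ h1
    obtain ⟨i, _, hi⟩ := p.2.prod_mem_iff.mp (hf ▸ h2)
    exact hr (x i) hi
  · rw [Module.support_eq_zeroLocus]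
    exact PrimeSpectrum.zeroLocus_anti_mono ideal_zero_le_annihilator
  · refine le_antisymm ?_ fun f hf => ?_
    · refine (ideal_zero_le_annihilator (R := R) (M := R ⧸ I)).trans ?_
      rw [Ideal.annihilator_quotient]
    · have hsp : Submodule.span R (Set.range fun _ : Fin 1 => (1 : R ⧸ I)) = ⊤ := by
        rw [Set.range_const, Submodule.span_singleton_eq_top_iff]
        intro y
        obtain ⟨r, rfl⟩ := Ideal.Quotient.mk_surjective y
        exact ⟨r, by rw [Algebra.smul_def, mul_one]; rfl⟩
      have := pow_mem_ideal_zero (R := R) (M := R ⧸ I) _ hsp f fun m => by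
        obtain ⟨r, rfl⟩ := Ideal.Quotient.mk_surjective m
        rw [Algebra.smul_def, Ideal.Quotient.algebraMap_eq, ← map_mul, Ideal.Quotient.eq_zero_iff_mem]
        exact I.mul_mem_right r hf
      rwa [pow_one] at this

end Groth.Agent.S6891
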