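import Groth.Statements.S4613
import Mathlib.AlgebraicGeometry.Morphisms.ClosedImmersion
import Mathlib.AlgebraicGeometry.Morphisms.FinitePresentation

set_option autoImplicit false
universe u
open AlgebraicGeometry CategoryTheory
open EGA41

namespace Groth.Agent.S4613

/-- For a closed immersion j : X → Y: j is locally of finite presentation if and only if its ideal sheaf
is of finite type, i.e. for every affine open U of Y the kernel of Γ(U, O_Y) → Γ(j⁻¹U, O_X) is
finitely generated. (An immersion with image closed in an open U reduces to this case.) -/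
theorem result {X Y : Scheme.{u}} (j : X ⟶ Y)
    [IsClosedImmersion j] :
    LocallyOfFinitePresentation j ↔ ∀ U : Y.affineOpens, (RingHom.ker (j.app U).hom).FG := by
  have hsurj : ∀ U : Y.affineOpens, Function.Surjective (j.app U).hom := fun U =>
    j.app_surjective U.1 U.2
  constructor
  · intro h U
    have hfp : (j.appLE U.1 (j ⁻¹ᵁ U.1) le_rfl).hom.FinitePresentation :=
      HasRingHomProperty.appLE @LocallyOfFinitePresentation j h U ⟨_, U.2.preimage j⟩ le_rfl
    rw [Scheme.Hom.app_eq_appLE]
    let g := (j.appLE U.1 (j ⁻¹ᵁ U.1) le_rfl).hom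
    let := g.toAlgebra
    have hg : Function.Surjective g := by
      have := hsurj U
      rwa [Scheme.Hom.app_eq_appLE] at this
    have : Algebra.FinitePresentation Γ(Y, U.1) Γ(X, j ⁻¹ᵁ U.1) := hfp
    exact Algebra.FinitePresentation.ker_fG_of_surjective (Algebra.ofId Γ(Y, U.1) Γ(X, j ⁻¹ᵁ U.1)) hg
  · intro h
    refine (HasRingHomProperty.iff_exists_appLE (P := @LocallyOfFinitePresentation) (RingHom.finitePresentation_stableUnderComposition.stableUnderCompositionWithLocalizationAway RingHom.finitePresentation_holdsForLocalizationAway).1).mpr fun x => ?_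
    obtain ⟨U, hU, hxU, -⟩ := exists_isAffineOpen_mem_and_subset (x := j x) (U := ⊤) trivial
    refine ⟨⟨U, hU⟩, ⟨_, hU.preimage j⟩, hxU, le_rfl, ?_⟩
    rw [← Scheme.Hom.app_eq_appLE]
    exact RingHom.FinitePresentation.of_surjective _ (hsurj ⟨U, hU⟩) (h ⟨U, hU⟩)

end Groth.Agent.S4613
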