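import Groth.Statements.S2080
import Groth.Agent.H75.Birat.GenFinite

set_option autoImplicit false
universe u
open CategoryTheory AlgebraicGeometry
open Mor

namespace Groth.Agent.S2080

/-- Let `f : X → Y` be locally of finite type, quasi-compact and quasi-separated, and `η` a generic
point of an irreducible component of `Y`. Then `f⁻¹{η}` is finite if and only if there is an affine
open `V ∋ η` such that `f⁻¹(V) → V` is finite. -/
theorem result {X Y : Scheme.{u}} (f : X ⟶ Y) [LocallyOfFiniteType f]
    [QuasiCompact f] [QuasiSeparated f] (η : Y) (hη : closure {η} ∈ irreducibleComponents (Y : Type u)) :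
    (f.base ⁻¹' {η}).Finite ↔ ∃ V : Y.Opens, IsAffineOpen V ∧ η ∈ V ∧ IsFinite (f ∣_ V) := by
    refine ⟨fun hfin => ?_, fun ⟨V, _, hηV, hV⟩ => ?_⟩
    · obtain ⟨V, hV, hηV, -⟩ := exists_isAffineOpen_mem_and_subset (X := Y) (x := η) (U := ⊤) trivial
      obtain ⟨V', hV', hηV', -, hF⟩ := H75.Birat.exists_isFinite_restrict f hη hfin hV hηV
        (fun W hW _ => H75.Birat.exists_nhd_of_quasiCompact f hη W hW)
        (fun U U' hU hU' h h' hne =>
          H75.Birat.exists_sep_of_quasiSeparated f hη hV hηV U U' hU hU' h h' hne)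
      exact ⟨V', hV', hηV', hF⟩
    · exact H75.Birat.finite_preimage_of_isFinite_restrict f hηV

end Groth.Agent.S2080
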