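import Groth.Statements.S16558
import Groth.Agent.Lib.SurfInt.NefInt
import Groth.Agent.Lib.CohDelta.ProjChi.Main
-- import your own Groth.Agent.* helpers here

set_option autoImplicit false
universe u
open CategoryTheory CategoryTheory.Limits AlgebraicGeometry TopologicalSpace
open Surf

namespace Groth.Agent.S16558

open Groth.Agent.Lib Groth.Agent.Lib.SurfInt in
theorem subsingleton_of_neg {k : Type u} [Field k] {X : Scheme.{u}} [X.Over (Spec (CommRingCat.of k))]
    [IsIntegral X] [IsNoetherian X] [IsProper (X ↘ (Spec (CommRingCat.of k)))]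
    [Smooth (X ↘ (Spec (CommRingCat.of k)))] (hdim : topologicalKrullDim X = 2)
    {H L : X.Modules} (hH : PicF.IsInvertible H) (hL : PicF.IsInvertible L)
    (hsec : ∀ x : X, ∃ t : Coh.structureModule X ⟶ H, x ∈ CohB1.genLocus H t)
    (hLH : FGA.intNum k X 2 ![L, H] (Coh.structureModule X) < 0) :
    Subsingleton (Coh.HH X L 0) := by
  classical
  have hfin := Snapper.Finite.cohFinite k X
  have hreg := NegDef.regular_of_smooth (k := k) (X := X)
  have hnef : ∀ C : X.IdealSheafData, IsIntegral C.subscheme →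
      topologicalKrullDim (C.support : Set X) = 1 →
        FGA.intNum k X 2 ![_root_.ClSub.idealMod C, H] (Coh.structureModule X) ≤ 0 := fun C hC hCd => by
    haveI := hC
    obtain ⟨x, hx⟩ : (C.support : Set X).Nonempty := by
      obtain ⟨w⟩ := (inferInstance : Nonempty C.subscheme)
      exact ⟨_, C.range_subschemeι.subset ⟨w, rfl⟩⟩
    obtain ⟨t, ht⟩ := hsec x
    have ht0 : t ≠ 0 := Pencil.ne_zero_of_mem_genLocus hH ht
    obtain ⟨hF, -, hsupp, -⟩ := Div.divisor_spec hH t ht0
    have h1 := Surface.intNum_nonneg hfin hdim hreg C hCd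
      (F := PicF2.zeroScheme H t) hF fun hsub => (hsupp.le (hsub hx)) ht
    have hI : PicF.IsInvertible (_root_.ClSub.idealMod C) :=
      Effective.isInvertible_idealMod (Curve.isEffCartier (X ↘ Spec (CommRingCat.of k)) hdim hreg C hCd)
    have h2 := Bound.intNum_zeroScheme hfin hdim hH t ht0 hI
    rw [Snapper.IntNum.intNum_pair_comm (_root_.ClSub.idealMod C)] at h1
    rw [Snapper.IntNum.intNum_pair_comm (_root_.ClSub.idealMod C)]
    linarith
  refine ⟨fun a b => ?_⟩
  suffices hz : ∀ c : Coh.HH X L 0, c = 0 by rw [hz a, hz b]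
  intro c
  by_contra hc
  let e₁ := Sheaf.H.equiv₀ (Coh.toAb L) (T := (⊤ : X.Opens)) isTerminalTop
  obtain ⟨s, hs⟩ := Ample.GenLocus.exists_hom_of_sec (L := L) (e₁ c)
  have hs0 : s ≠ 0 := by
    rintro rfl
    exact hc (e₁.injective (hs.symm.trans ((map_zero e₁).symm)))
  obtain ⟨hD, -, -, -⟩ := Div.divisor_spec hL s hs0
  have h3 := NefInt.nonneg_effective hdim hH hnef hD
  rw [Bound.intNum_zeroScheme hfin hdim hL s hs0 hH] at h3
  linarith

theorem exists_sec {k : Type u} [Field k] {X : Scheme.{u}} (σ : X ⟶ CohB1.ProjSpace 2 k) (x : X) :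
    ∃ t : Coh.structureModule X ⟶ (Scheme.Modules.pullback σ).obj (Twist.twistProjSpace 2 k 1),
      x ∈ CohB1.genLocus _ t := by
  obtain ⟨j, hj⟩ := Groth.Agent.Lib.ProjKoszul.Mult.exists_mem_chart (σ x)
  refine ⟨(PicLoc.pullbackStructureIso σ).inv ≫
    (Scheme.Modules.pullback σ).map (Groth.Agent.Lib.ProjKoszul.Mult.sect j), ?_⟩
  refine (Groth.Agent.Lib.Ample.GenLocus.genLocus_pullback (f := σ)
    (Groth.Agent.Lib.ProjCoh.Coherent.isInvertible_tw 1) _ (PicLoc.pullbackStructureIso σ).symm).ge ?_
  exact Groth.Agent.Lib.CohDelta.ProjChi.mem_genLocus_sect hj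

/-- Let k be an algebraically closed field, p_1, …, p_r distinct closed points of the projective plane
P²_k and σ : X → P²_k the blow-up of P²_k in the ideal of the reduced finite set {p_1, …, p_r}
(universal property), X being regarded over k through σ; X is then an integral smooth proper surface
(carried as hypotheses). Write H = σ^*O(1), (L·M) = χ(O_X) − χ(L) − χ(M) + χ(L ⊗ M) for the
intersection number of invertible modules L, M, and for a closed subscheme C ⊆ X with ideal I_C
write (L·C) = χ(O_C ⊗ L) − χ(O_C) and C² = (I_C·I_C). If L is an invertible O_X-module with (L·H) <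
0, then H⁰(X, L) = 0. (The source takes the points in general position; that assumption plays no
role here.) -/
theorem result (k : Type u) [Field k] [IsAlgClosed k]
    (r : ℕ) (P : Fin r → ↥(CohB1.ProjSpace 2 k)) (hP : Function.Injective P)
    (hPc : ∀ i, IsClosed ({P i} : Set ↥(CohB1.ProjSpace 2 k))) (hZ : IsClosed (Set.range P))
    (X : Scheme.{u}) [X.Over (Spec (CommRingCat.of k))] (σ : X ⟶ CohB1.ProjSpace 2 k)
    (hσk : σ ≫ CohB1.ProjSpace.toSpec 2 k = X ↘ (Spec (CommRingCat.of k)))
    (hσ : BlowUp.IsBlowUp σ (Scheme.IdealSheafData.vanishingIdeal ⟨Set.range P, hZ⟩))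
    [IsIntegral X] [IsProper (X ↘ (Spec (CommRingCat.of k)))] [Smooth (X ↘ (Spec (CommRingCat.of k)))] (hdim : topologicalKrullDim X = 2)
    (L : X.Modules) (hL : PicF.IsInvertible L) (hLH : FGA.intNum k X 2 ![L, ((Scheme.Modules.pullback σ).obj (Twist.twistProjSpace 2 k 1))] (Coh.structureModule X) < 0) :
    Subsingleton (Coh.HH X L 0) := by
  haveI : IsNoetherian X := Groth.Agent.Lib.Curves.GlobalSections.isNoetherian_of_proper k X
  exact subsingleton_of_neg hdim
    (PicLoc.isInvertible_pullback σ (Groth.Agent.Lib.ProjCoh.Coherent.isInvertible_tw 1)) hL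
    (exists_sec σ) hLH

end Groth.Agent.S16558
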