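import Groth.Statements.S13915
import Groth.Agent.Lib.PointBlow96.Powers
import Groth.Agent.Lib.ProjSpace.Dim
import Groth.Agent.Lib.ProjCoh.Coherent
import Groth.Agent.Lib.Cyc.SmoothReg
import Groth.Agent.S4466
import Mathlib.RingTheory.Binomial
-- import your own Groth.Agent.* helpers here

set_option autoImplicit false
set_option linter.style.haveILetI false
universe u
open CategoryTheory CategoryTheory.Limits AlgebraicGeometry
open BlowUp

namespace Groth.Agent.S13915

/-- On the blowing up σ : X ⟶ P²_k of the projective plane over an algebraically closed field k of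
characteristic zero at a closed point, with E the ideal of the exceptional line and H the pull-back
of O(1), one has χ(X, σ^*O(a) ⊗ E^b) = (a² + 3a)/2 − (b² + b)/2 + 1 for all integers a and natural
numbers b (the line bundle written aH − bL; the k-structure on X is the composite through σ). -/
theorem result (k : Type u) [Field k] [IsAlgClosed k] [CharZero k]
    (p : ↥(CohB1.ProjSpace 2 k)) (hp : IsClosed ({p} : Set ↥(CohB1.ProjSpace 2 k)))
    {X : Scheme.{u}} [X.Over (Spec (CommRingCat.of k))] (σ : X ⟶ CohB1.ProjSpace 2 k)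
    (hσk : σ ≫ CohB1.ProjSpace.toSpec 2 k = X ↘ Spec (CommRingCat.of k))
    (hσ : BlowUp.IsBlowUp σ (Scheme.IdealSheafData.vanishingIdeal ⟨{p}, hp⟩)) (a : ℤ) (b : ℕ) :
    Curv2.euler k X (CohB1.tensorMod ((Scheme.Modules.pullback σ).obj (Twist.twistProjSpace 2 k a))
      (ClSub.idealMod ((BlowUp.exceptional σ (Scheme.IdealSheafData.vanishingIdeal ⟨{p}, hp⟩)) ^ b))) =
      (a * a + 3 * a) / 2 - ((b : ℤ) * b + b) / 2 + 1 := by
  letI : (CohB1.ProjSpace 2 k).Over (Spec (CommRingCat.of k)) := ⟨CohB1.ProjSpace.toSpec 2 k⟩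
  haveI : IsProper (CohB1.ProjSpace 2 k ↘ Spec (CommRingCat.of k)) :=
    inferInstanceAs (IsProper (CohB1.ProjSpace.toSpec 2 k))
  have hdim : topologicalKrullDim (CohB1.ProjSpace 2 k) = 2 := by
    rw [Lib.ProjSpace.Dim.topologicalKrullDim_projSpace_of_field 2 k]; rfl
  have hreg : ∀ y : CohB1.ProjSpace 2 k,
      IsRegularLocalRing ((CohB1.ProjSpace 2 k).presheaf.stalk y) :=
    fun y => Lib.Cyc.SmoothReg.isRegularLocalRing_stalk (CohB1.ProjSpace.toSpec 2 k) y
  have hσk' : σ ≫ (CohB1.ProjSpace 2 k ↘ Spec (CommRingCat.of k)) = X ↘ Spec (CommRingCat.of k) := hσk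
  haveI := Lib.PointBlow96.isProper_X k hp hσk' hσ
  haveI := Lib.Curves.GlobalSections.isNoetherian_of_proper k X
  have h := Lib.PointBlow96.two_mul_eulerCharLE_twist k hdim hreg hp hσk' hσ
    (Lib.ProjCoh.Coherent.isInvertible_tw (n := 2) (R := k) a) b
  rw [Lib.Snapper.Chi.euler_eq_eulerCharLE (Lib.PointBlow96.dim_X k hdim hp hσk' hσ).le]
  have hP : FGA.eulerCharLE k (CohB1.ProjSpace 2 k) (Twist.twistProjSpace 2 k a) 2 =
      Ring.choose (a + (2 : ℕ)) 2 := Groth.Agent.S4466.result k 2 two_pos a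
  have hc : 2 * Ring.choose (a + (2 : ℕ) : ℤ) 2 = a * a + 3 * a + 2 := by
    have h2 := Ring.descPochhammer_eq_factorial_smul_choose (a + (2 : ℕ) : ℤ) 2
    simp [descPochhammer_succ_right, Polynomial.smeval_mul, Polynomial.smeval_X,
      Polynomial.smeval_sub, Polynomial.smeval_one] at h2
    push_cast
    linarith
  have he1 : 2 ∣ a * a + 3 * a := ⟨Ring.choose (a + (2 : ℕ) : ℤ) 2 - 1, by linarith⟩
  have he2 : (2 : ℤ) ∣ (b : ℤ) * b + b := by
    obtain ⟨m, hm⟩ := Int.even_mul_succ_self (b : ℤ)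
    exact ⟨m, by linarith⟩
  obtain ⟨m1, hm1⟩ := he1
  obtain ⟨m2, hm2⟩ := he2
  rw [hm1, hm2, Int.mul_ediv_cancel_left _ two_ne_zero, Int.mul_ediv_cancel_left _ two_ne_zero]
  change 2 * FGA.eulerCharLE k X _ 2 = 2 * FGA.eulerCharLE k (CohB1.ProjSpace 2 k)
    (Twist.twistProjSpace 2 k a) 2 - _ at h
  rw [hP] at h
  refine mul_left_cancel₀ (two_ne_zero (α := ℤ)) (h.trans ?_)
  linarith

end Groth.Agent.S13915
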