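import Groth.Statements.S8335
import Groth.Agent.Lib.H70.BCTransportScheme
import Groth.Agent.H81.RelProj.RelTwistComap
import Groth.Agent.H81.RelProj.RelTwist

set_option linter.style.haveILetI false
set_option linter.unusedVariables false
set_option autoImplicit false
universe u
open CategoryTheory CategoryTheory.Limits AlgebraicGeometry Opposite TopologicalSpace
open scoped HomogeneousIdeal
noncomputable section
open EGA2

namespace Groth.Agent.S8335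
open Groth.Agent.H81.RelProj Groth.Agent.Lib.H70
open Groth.Agent.Lib.CohDelta.BC.Transpose

section

variable {Y Y' : Scheme.{u}} {ψ : Y' ⟶ Y} {𝒮 : RelProj.QCGrAlg Y} {𝒮' : RelProj.QCGrAlg Y'}
  {u : 𝒮.presheaf ⟶ ψ.base _* 𝒮'.presheaf}
  (φ : ∀ (U : Y.Opens) (hU : IsAffineOpen U) (U' : Y'.Opens) (hU' : IsAffineOpen U') (_ : U' ≤ ψ ⁻¹ᵁ U),
    𝒮.deg U hU →+*ᵍ 𝒮'.deg U' hU')
  (hφ : ∀ (U : Y.Opens) (hU : IsAffineOpen U) (U' : Y'.Opens) (hU' : IsAffineOpen U') (hle : U' ≤ ψ ⁻¹ᵁ U),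
    (φ U hU U' hU' hle).toRingHom =
      ((u.app (op U) : 𝒮.presheaf.obj (op U) ⟶ 𝒮'.presheaf.obj (op (ψ ⁻¹ᵁ U))) ≫
        𝒮'.presheaf.map (homOfLE hle).op).hom)

include hφ in
theorem φ_res {D U : Y.Opens} {D' U' : Y'.Opens} (hD : IsAffineOpen D) (hU : IsAffineOpen U)
    (hD' : IsAffineOpen D') (hU' : IsAffineOpen U') (i : D ≤ U) (i' : D' ≤ U') (hl : D' ≤ ψ ⁻¹ᵁ D)
    (hle : U' ≤ ψ ⁻¹ᵁ U) (a : 𝒮.presheaf.obj (op U)) :
    φ D hD D' hD' hl (𝒮.res hU hD i a) = 𝒮'.res hU' hD' i' (φ U hU U' hU' hle a) := by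
  have h1 := congr($(hφ D hD D' hD' hl) (𝒮.res hU hD i a))
  have h2 := congr($(hφ U hU U' hU' hle) a)
  refine h1.trans (Eq.trans ?_ (congrArg (𝒮'.res hU' hD' i') h2).symm)
  show 𝒮'.presheaf.map (homOfLE hl).op (u.app (op D) (𝒮.presheaf.map (homOfLE i).op a)) =
    𝒮'.presheaf.map (homOfLE i').op (𝒮'.presheaf.map (homOfLE hle).op (u.app (op U) a))
  rw [NatTrans.naturality_apply]
  show 𝒮'.presheaf.map (homOfLE hl).op (𝒮'.presheaf.map _ (u.app (op U) a)) = _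
  simp only [← CommRingCat.comp_apply, Category.assoc, ← Functor.map_comp]
  rfl

/-- `φ` as a semilinear map of the algebras as modules over themselves. -/
def vφ (U : Y.Opens) (hU : IsAffineOpen U) (U' : Y'.Opens) (hU' : IsAffineOpen U') (hle : U' ≤ ψ ⁻¹ᵁ U) :
    (RelTilde.selfMod 𝒮).mod.val.obj (op U) →ₛₗ[(φ U hU U' hU' hle).toRingHom]
      (RelTilde.selfMod 𝒮').mod.val.obj (op U') where
  toFun a := φ U hU U' hU' hle a
  map_add' a b := map_add (φ U hU U' hU' hle) a b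
  map_smul' a b := map_mul (φ U hU U' hU' hle) a b

theorem hvφ (U : Y.Opens) (hU : IsAffineOpen U) (U' : Y'.Opens) (hU' : IsAffineOpen U') (hle : U' ≤ ψ ⁻¹ᵁ U)
    (i : ℕ) (m : (RelTilde.selfMod 𝒮).mod.val.obj (op U)) (hm : m ∈ (RelTilde.selfMod 𝒮).deg U hU i) :
    vφ φ U hU U' hU' hle m ∈ (RelTilde.selfMod 𝒮').deg U' hU' i :=
  GradedRingHom.map_mem (φ U hU U' hU' hle) hm

include hφ in
/-- Over affines `φ` is a base change. -/
theorem bc_data (hpo : ∀ (U : Y.Opens) (hU : IsAffineOpen U) (U' : Y'.Opens) (hU' : IsAffineOpen U')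
      (hle : U' ≤ ψ ⁻¹ᵁ U), IsPushout (ψ.appLE U U' hle) (𝒮.str.app (op U)) (𝒮'.str.app (op U'))
        ((u.app (op U) : 𝒮.presheaf.obj (op U) ⟶ 𝒮'.presheaf.obj (op (ψ ⁻¹ᵁ U))) ≫
          𝒮'.presheaf.map (homOfLE hle).op))
    (U : Y.Opens) (hU : IsAffineOpen U) (U' : Y'.Opens) (hU' : IsAffineOpen U') (hle : U' ≤ ψ ⁻¹ᵁ U) :
    (∀ r, φ U hU U' hU' hle ((𝒮.str.app (op U)).hom r) =
        (𝒮'.str.app (op U')).hom ((ψ.appLE U U' hle).hom r)) ∧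
      (∀ b : 𝒮'.presheaf.obj (op U'), b ∈ AddSubmonoid.closure
        {y | ∃ (r : Γ(Y', U')) (a : 𝒮.presheaf.obj (op U)),
          y = (𝒮'.str.app (op U')).hom r * φ U hU U' hU' hle a}) ∧
      GrBaseChange.IsBaseChangeMap (φ U hU U' hU' hle) (vφ φ U hU U' hU' hle)
        (𝒮.str.app (op U)).hom (𝒮'.str.app (op U')).hom (ψ.appLE U U' hle).hom := by
  have hw := (hpo U hU U' hU' hle).w
  letI : Algebra Γ(Y, U) Γ(Y', U') := (ψ.appLE U U' hle).hom.toAlgebra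
  letI : Algebra Γ(Y, U) (𝒮.presheaf.obj (op U)) := (𝒮.str.app (op U)).hom.toAlgebra
  letI : Algebra Γ(Y', U') (𝒮'.presheaf.obj (op U')) := (𝒮'.str.app (op U')).hom.toAlgebra
  letI : Algebra (𝒮.presheaf.obj (op U)) (𝒮'.presheaf.obj (op U')) := (φ U hU U' hU' hle).toRingHom.toAlgebra
  letI : Algebra Γ(Y, U) (𝒮'.presheaf.obj (op U')) :=
    ((𝒮'.str.app (op U')).hom.comp (ψ.appLE U U' hle).hom).toAlgebra
  have hcompat : ∀ r, φ U hU U' hU' hle ((𝒮.str.app (op U)).hom r) =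
      (𝒮'.str.app (op U')).hom ((ψ.appLE U U' hle).hom r) := fun r =>
    (congr($(hφ U hU U' hU' hle) ((𝒮.str.app (op U)).hom r))).trans (congr($(hw) r)).symm
  haveI : IsScalarTower Γ(Y, U) Γ(Y', U') (𝒮'.presheaf.obj (op U')) := IsScalarTower.of_algebraMap_eq' rfl
  haveI : IsScalarTower Γ(Y, U) (𝒮.presheaf.obj (op U)) (𝒮'.presheaf.obj (op U')) :=
    IsScalarTower.of_algebraMap_eq fun r => (hcompat r).symm
  haveI : Algebra.IsPushout Γ(Y, U) Γ(Y', U') (𝒮.presheaf.obj (op U)) (𝒮'.presheaf.obj (op U')) := by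
    have h := hpo U hU U' hU' hle
    rw [show ((u.app (op U) : 𝒮.presheaf.obj (op U) ⟶ 𝒮'.presheaf.obj (op (ψ ⁻¹ᵁ U))) ≫
        𝒮'.presheaf.map (homOfLE hle).op) = CommRingCat.ofHom (φ U hU U' hU' hle).toRingHom by
      rw [hφ]; rfl] at h
    exact CommRingCat.isPushout_iff_isPushout.1 h
  have hbc : IsBaseChange Γ(Y', U') (IsScalarTower.toAlgHom Γ(Y, U) (𝒮.presheaf.obj (op U))
      (𝒮'.presheaf.obj (op U'))).toLinearMap := Algebra.IsPushout.out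
  refine ⟨hcompat, ?_⟩
  have hspan : ∀ x : 𝒮'.presheaf.obj (op U'), x ∈ AddSubmonoid.closure
      {y | ∃ (r : Γ(Y', U')) (b : 𝒮.presheaf.obj (op U)),
        y = (𝒮'.str.app (op U')).hom r * φ U hU U' hU' hle b} := by
    intro x
    induction x using hbc.inductionOn with
    | zero => exact zero_mem _
    | tmul b => exact AddSubmonoid.subset_closure ⟨1, b, by rw [map_one, one_mul]; rfl⟩
    | smul r a ha =>
      induction ha using AddSubmonoid.closure_induction with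
      | mem y hy =>
        obtain ⟨s, b, rfl⟩ := hy
        exact AddSubmonoid.subset_closure ⟨r * s, b, by
          rw [map_mul, mul_assoc]; rfl⟩
      | zero => rw [smul_zero]; exact zero_mem _
      | add a b _ _ ha hb => rw [smul_add]; exact add_mem ha hb
    | add a b ha hb => exact add_mem ha hb
  refine ⟨hspan, fun x => hspan x, ?_⟩
  intro Q _ _ w hw'
  letI : Module Γ(Y, U) Q := Module.compHom Q (ψ.appLE U U' hle).hom
  haveI : IsScalarTower Γ(Y, U) Γ(Y', U') Q := IsScalarTower.of_algebraMap_smul fun _ _ => rfl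
  let w' : 𝒮.presheaf.obj (op U) →ₗ[Γ(Y, U)] Q :=
    { toFun := w
      map_add' := w.map_add
      map_smul' := fun r b => hw' r b }
  refine ⟨(hbc.lift w').toAddMonoidHom, fun r b => ?_⟩
  exact (map_smul (hbc.lift w') r (φ U hU U' hU' hle b)).trans (congrArg (r • ·) (hbc.lift_eq w' b))

end


/-- Let ψ : Y' → Y be a morphism, 𝒮 a quasi-coherent positively graded O_Y-algebra and 𝒮' = ψ^*𝒮
(presented through a graded ψ-morphism 𝒮 → ψ_*𝒮' with pushout squares over affine opens), X =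
Proj(𝒮), X' = Proj(𝒮') = X ×_Y Y' with projection g : X' → X (chartwise induced by 𝒮(U) → 𝒮'(U')).
Then for every integer n the inverse image g^*(O_X(n)) is isomorphic to O_{X'}(n), both twisting
sheaves being given through their chartwise identifications (existence of an isomorphism only; the
published identification O_{X'}(n) = O_X(n) ⊗_Y O_{Y'} is canonical). -/
theorem result {Y Y' P P' : Scheme.{u}} (ψ : Y' ⟶ Y) (𝒮 : RelProj.QCGrAlg Y)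
    (𝒮' : RelProj.QCGrAlg Y') (u : 𝒮.presheaf ⟶ ψ.base _* 𝒮'.presheaf)
    (hu : 𝒮.str ≫ u = ψ.c ≫ (TopCat.Presheaf.pushforward CommRingCat.{u} ψ.base).map 𝒮'.str)
    (φ : ∀ (U : Y.Opens) (hU : IsAffineOpen U) (U' : Y'.Opens) (hU' : IsAffineOpen U') (_ : U' ≤ ψ ⁻¹ᵁ U),
      𝒮.deg U hU →+*ᵍ 𝒮'.deg U' hU')
    (hφ : ∀ (U : Y.Opens) (hU : IsAffineOpen U) (U' : Y'.Opens) (hU' : IsAffineOpen U') (hle : U' ≤ ψ ⁻¹ᵁ U),
      (φ U hU U' hU' hle).toRingHom =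
        ((u.app (op U) : 𝒮.presheaf.obj (op U) ⟶ 𝒮'.presheaf.obj (op (ψ ⁻¹ᵁ U))) ≫
          𝒮'.presheaf.map (homOfLE hle).op).hom)
    (hpo : ∀ (U : Y.Opens) (hU : IsAffineOpen U) (U' : Y'.Opens) (hU' : IsAffineOpen U') (hle : U' ≤ ψ ⁻¹ᵁ U),
      IsPushout (ψ.appLE U U' hle) (𝒮.str.app (op U)) (𝒮'.str.app (op U'))
        ((u.app (op U) : 𝒮.presheaf.obj (op U) ⟶ 𝒮'.presheaf.obj (op (ψ ⁻¹ᵁ U))) ≫
          𝒮'.presheaf.map (homOfLE hle).op))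
    (hirr : ∀ (U : Y.Opens) (hU : IsAffineOpen U) (U' : Y'.Opens) (hU' : IsAffineOpen U') (hle : U' ≤ ψ ⁻¹ᵁ U),
      (𝒮'.deg U' hU')₊ ≤ ((𝒮.deg U hU)₊).map (φ U hU U' hU' hle))
    (p : P ⟶ Y)
    (chart : ∀ (U : Y.Opens) (hU : IsAffineOpen U), (((p ⁻¹ᵁ U : P.Opens) : Scheme.{u}) ≅ Proj (𝒮.deg U hU)))
    (hP : RelProj.IsRelProj 𝒮 p chart) (p' : P' ⟶ Y')
    (chart' : ∀ (U' : Y'.Opens) (hU' : IsAffineOpen U'), (((p' ⁻¹ᵁ U' : P'.Opens) : Scheme.{u}) ≅ Proj (𝒮'.deg U' hU')))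
    (hP' : RelProj.IsRelProj 𝒮' p' chart') (g : P' ⟶ P)
    (hg : ∀ (U : Y.Opens) (hU : IsAffineOpen U) (U' : Y'.Opens) (hU' : IsAffineOpen U') (hle : U' ≤ ψ ⁻¹ᵁ U),
      (p' ⁻¹ᵁ U').ι ≫ g =
        (chart' U' hU').hom ≫ Proj.map (φ U hU U' hU' hle) (hirr U hU U' hU' hle) ≫ RelProj.emb p chart U hU)
    (n : ℤ) (L : P.Modules)
    (lam : ∀ (U : Y.Opens) (hU : IsAffineOpen U),
      L ⟶ (Scheme.Modules.pushforward (RelProj.emb p chart U hU)).obj (GrTwist.twist (𝒮.deg U hU) n))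
    (hL : RelProj.IsRelTwist 𝒮 p chart n L lam) (L' : P'.Modules)
    (lam' : ∀ (U' : Y'.Opens) (hU' : IsAffineOpen U'),
      L' ⟶ (Scheme.Modules.pushforward (RelProj.emb p' chart' U' hU')).obj (GrTwist.twist (𝒮'.deg U' hU') n))
    (hL' : RelProj.IsRelTwist 𝒮' p' chart' n L' lam') :
    Nonempty ((Scheme.Modules.pullback g).obj L ≅ L') := by
  classical
  let J := {j : Y'.affineOpens × Y.affineOpens // (j.1.1 : Y'.Opens) ≤ ψ ⁻¹ᵁ j.2.1}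
  let S' := RelTilde.system (RelTilde.selfMod 𝒮') n hP' RelTilde.loc_selfMod
  let S : ModGlue.Datum P' :=
    { J := J
      rel := fun l j => RelTilde.Rel l.1.1 j.1.1 ∧ RelTilde.Rel l.1.2 j.1.2
      O := fun j => p' ⁻¹ᵁ j.1.1.1
      G := fun j => RelTilde.G p' chart' (RelTilde.selfMod 𝒮') n j.1.1
      c := fun h => RelTilde.c (RelTilde.selfMod 𝒮') n hP' h.1
      trans := fun h₁ h₂ => ⟨h₁.1.trans h₂.1, h₁.2.trans h₂.2⟩
      comp := fun h₁ h₂ => RelTilde.c_trans (RelTilde.selfMod 𝒮') n hP' h₁.1 h₂.1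
      supp := fun j W => S'.supp j.1.1 W
      O_le := fun h => p'.preimage_mono h.1.le
      bij := fun h W hW => S'.bij h.1 W hW
      exists_common := fun j k x hj hk => by
        obtain ⟨D, hDj, hDk, hxD⟩ := RelTilde.exists_common (p := p') j.1.1 k.1.1 x hj hk
        obtain ⟨r, s, ers, hxr⟩ := exists_basicOpen_le_affine_inter j.1.2.2 k.1.2.2 (ψ (p' x))
          ⟨j.2 hj, k.2 hk⟩
        obtain ⟨t, ht, hxt⟩ := D.2.exists_basicOpen_le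
          (V := (D.1 : Y'.Opens) ⊓ ψ ⁻¹ᵁ Y.basicOpen r) (⟨p' x, hxD, hxr⟩ :
            ((D.1 : Y'.Opens) ⊓ ψ ⁻¹ᵁ Y.basicOpen r : Y'.Opens)) hxD
        have hrel : RelTilde.Rel (⟨Y'.basicOpen t, D.2.basicOpen t⟩ : Y'.affineOpens) D := ⟨t, rfl⟩
        exact ⟨⟨(⟨Y'.basicOpen t, D.2.basicOpen t⟩, ⟨Y.basicOpen r, j.1.2.2.basicOpen r⟩),
            fun z hz => (ht hz).2⟩,
          ⟨hrel.trans hDj, r, rfl⟩, ⟨hrel.trans hDk, s, ers.symm⟩, hxt⟩ }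
  have e₃ : ∀ j : J, Proj.map (φ j.1.2.1 j.1.2.2 j.1.1.1 j.1.1.2 j.2) (hirr _ _ _ _ _) ≫
      RelProj.emb p chart j.1.2.1 j.1.2.2 = RelProj.emb p' chart' j.1.1.1 j.1.1.2 ≫ g := fun j => by
    conv_rhs => rw [RelProj.emb, Category.assoc, hg j.1.2.1 j.1.2.2 j.1.1.1 j.1.1.2 j.2,
      Iso.inv_hom_id_assoc]
  let κ : ∀ j : J, RelTilde.G p chart (RelTilde.selfMod 𝒮) n j.1.2 ⟶
      (Scheme.Modules.pushforward g).obj (S.G j) := fun j =>
    RelComap.toComp _ (hirr j.1.2.1 j.1.2.2 j.1.1.1 j.1.1.2 j.2) (vφ φ _ _ _ _ j.2) (hvφ φ _ _ _ _ j.2) n g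
      (RelProj.emb p chart j.1.2.1 j.1.2.2) (RelProj.emb p' chart' j.1.1.1 j.1.1.2) (e₃ j)
  let θ : ∀ j : J, L ⟶ (Scheme.Modules.pushforward g).obj (S.G j) := fun j =>
    TwistTilde.lamT lam j.1.2.1 j.1.2.2 ≫ κ j
  have hθ : ∀ (l j : J) (h : S.rel l j), θ j ≫ (Scheme.Modules.pushforward g).map (S.c h) = θ l := by
    intro l j h
    have hsq : RelTilde.c (RelTilde.selfMod 𝒮) n hP h.2 ≫ κ l =
        κ j ≫ (Scheme.Modules.pushforward g).map (S.c h) := by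
      refine RelComap.square' (XU := RelTilde.G p chart (RelTilde.selfMod 𝒮) n j.1.2)
        (XD := RelTilde.G p chart (RelTilde.selfMod 𝒮) n l.1.2)
        (YU := RelTilde.G p' chart' (RelTilde.selfMod 𝒮') n j.1.1)
        (YD := RelTilde.G p' chart' (RelTilde.selfMod 𝒮') n l.1.1)
        (𝒮.res j.1.2.2 l.1.2.2 h.2.le) (RelTilde.irr 𝒮 h.2) ((RelTilde.selfMod 𝒮).res j.1.2.2 l.1.2.2 h.2.le)
        ((RelTilde.selfMod 𝒮).res_mem j.1.2.2 l.1.2.2 h.2.le)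
        (𝒮'.res j.1.1.2 l.1.1.2 h.1.le) (RelTilde.irr 𝒮' h.1) ((RelTilde.selfMod 𝒮').res j.1.1.2 l.1.1.2 h.1.le)
        ((RelTilde.selfMod 𝒮').res_mem j.1.1.2 l.1.1.2 h.1.le)
        _ (hirr j.1.2.1 j.1.2.2 j.1.1.1 j.1.1.2 j.2) (vφ φ _ _ _ _ j.2) (hvφ φ _ _ _ _ j.2)
        _ (hirr l.1.2.1 l.1.2.2 l.1.1.1 l.1.1.2 l.2) (vφ φ _ _ _ _ l.2) (hvφ φ _ _ _ _ l.2)
        (φ_res φ hφ l.1.2.2 j.1.2.2 l.1.1.2 j.1.1.2 h.2.le h.1.le l.2 j.2)
        (φ_res φ hφ l.1.2.2 j.1.2.2 l.1.1.2 j.1.1.2 h.2.le h.1.le l.2 j.2) n g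
        (RelProj.emb p chart j.1.2.1 j.1.2.2) (RelProj.emb p chart l.1.2.1 l.1.2.2)
        (RelProj.emb p' chart' j.1.1.1 j.1.1.2) (RelProj.emb p' chart' l.1.1.1 l.1.1.2)
        (RelTilde.map_emb hP h.2) (RelTilde.map_emb hP' h.1) (e₃ j) (e₃ l)
        rfl rfl rfl rfl _ _ _ _ ?_ ?_ ?_ ?_ <;> exact HEq.rfl
    show (TwistTilde.lamT lam _ _ ≫ κ j) ≫ _ = TwistTilde.lamT lam _ _ ≫ κ l
    rw [Category.assoc, ← hsq, ← Category.assoc]
    exact congrArg (· ≫ κ l) (RelTilde.lam_c hP (TwistTilde.isRelTilde hL) h.2)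
  let adj := Scheme.Modules.pullbackPushforwardAdjunction g
  obtain ⟨ν, hν, -⟩ := RelFun.existsUnique_hom S (F := (Scheme.Modules.pullback g).obj L) (F' := L')
    (fun j => (adj.homEquiv _ _).symm (θ j))
    (fun l j h => by rw [← hθ l j h]; exact (adj.homEquiv_naturality_right_symm _ _).symm)
    (fun j => TwistTilde.lamT lam' j.1.1.1 j.1.1.2)
    (fun l j h => RelTilde.lam_c hP' (TwistTilde.isRelTilde hL') h.1)
    (top_le_iff.mp fun x _ => by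
      obtain ⟨U, hU, hxU, -⟩ := exists_isAffineOpen_mem_and_subset (U := ⊤) (x := ψ (p' x)) trivial
      obtain ⟨U', hU', hxU', hle⟩ := exists_isAffineOpen_mem_and_subset (U := ψ ⁻¹ᵁ U) (x := p' x) hxU
      exact Opens.mem_iSup.mpr ⟨(⟨(⟨U', hU'⟩, ⟨U, hU⟩), hle⟩ : J), hxU'⟩)
    (fun j W hW => (TwistTilde.isRelTilde hL').bijective _ _ W hW)
  haveI hLq : L.IsQuasicoherent := RelTwist.isQCoh hL
  haveI hLq' : L'.IsQuasicoherent := RelTwist.isQCoh hL'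
  haveI := Groth.Agent.Lib.QCoh.Pullback.isQCoh_pullback g L
  refine ⟨@asIso _ _ _ _ ν (isIso_of_bijective_basis ν
    (B := {W | ∃ (j : J) (d : ℕ) (f : _) (_ : 0 < d) (_ : f ∈ 𝒮.deg j.1.2.1 j.1.2.2 d)
      (r : Γ(P', RelProj.emb p' chart' j.1.1.1 j.1.1.2 ''ᵁ
        Proj.basicOpen (𝒮'.deg j.1.1.1 j.1.1.2) (φ j.1.2.1 j.1.2.2 j.1.1.1 j.1.1.2 j.2 f))),
      W = P'.basicOpen r}) ?_ ?_)⟩
  · refine Opens.isBasis_iff_nbhd.2 fun {Ω x} hx => ?_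
    obtain ⟨U, hU, hxU, -⟩ := exists_isAffineOpen_mem_and_subset (U := ⊤) (x := ψ (p' x)) trivial
    obtain ⟨U', hU', hxU', hle⟩ := exists_isAffineOpen_mem_and_subset (U := ψ ⁻¹ᵁ U) (x := p' x) hxU
    obtain ⟨y, rfl⟩ : x ∈ (RelProj.emb p' chart' U' hU').opensRange := by
      rw [RelTilde.opensRange_emb]; exact hxU'
    obtain ⟨d, hd, f, hf, hfy⟩ : ∃ d, 0 < d ∧ ∃ f ∈ 𝒮.deg U hU d,
        f ∉ (ProjectiveSpectrum.comap (φ U hU U' hU' hle) (hirr U hU U' hU' hle) y).asHomogeneousIdeal := by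
      by_contra h
      push Not at h
      exact (ProjectiveSpectrum.comap (φ U hU U' hU' hle) (hirr U hU U' hU' hle) y).not_irrelevant_le
        ((HomogeneousIdeal.irrelevant_le _).mpr h)
    have haff := (Proj.isAffineOpen_basicOpen (𝒮'.deg U' hU') _ ((φ U hU U' hU' hle).map_mem hf) hd).image_of_isOpenImmersion
      (RelProj.emb p' chart' U' hU')
    obtain ⟨r, hr, hxr⟩ := haff.exists_basicOpen_le (V := Ω) ⟨_, hx⟩ ⟨y, hfy, rfl⟩
    exact ⟨_, ⟨⟨(⟨U', hU'⟩, ⟨U, hU⟩), hle⟩, d, f, hd, hf, r, rfl⟩, hxr, hr⟩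
  · rintro _ ⟨j, d, f, hd, hf, r, rfl⟩
    obtain ⟨⟨⟨U', hU'⟩, ⟨U, hU⟩⟩, hle⟩ := j
    let j : J := ⟨(⟨U', hU'⟩, ⟨U, hU⟩), hle⟩
    let eA := RelProj.emb p chart U hU
    let eB := RelProj.emb p' chart' U' hU'
    let ψ₁ := φ U hU U' hU' hle
    have hf' : ψ₁ f ∈ 𝒮'.deg U' hU' d := ψ₁.map_mem hf
    let V := eA ''ᵁ Proj.basicOpen (𝒮.deg U hU) f
    let W := eB ''ᵁ Proj.basicOpen (𝒮'.deg U' hU') (ψ₁ f)
    have hV : IsAffineOpen V := (Proj.isAffineOpen_basicOpen _ f hf hd).image_of_isOpenImmersion eA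
    have hW : IsAffineOpen W := (Proj.isAffineOpen_basicOpen _ (ψ₁ f) hf' hd).image_of_isOpenImmersion eB
    have e : W ≤ g ⁻¹ᵁ V := by
      rintro _ ⟨y, hy, rfl⟩
      show g (eB y) ∈ V
      rw [← Scheme.Hom.comp_apply, ← e₃ j, Scheme.Hom.comp_apply]
      exact ⟨_, hy, rfl⟩
    have hVr : V ≤ eA.opensRange := eA.image_le_opensRange _
    have hWr : W ≤ eB.opensRange := eB.image_le_opensRange _
    have e₀ : eB ⁻¹ᵁ W ≤ Proj.map ψ₁ (hirr U hU U' hU' hle) ⁻¹ᵁ (eA ⁻¹ᵁ V) := by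
      rw [eB.preimage_image_eq, eA.preimage_image_eq]; exact le_rfl
    obtain ⟨hc, hspan, hM⟩ := bc_data φ hφ hpo U hU U' hU' hle
    have gen : ∀ (V₀ : (Proj (𝒮.deg U hU)).Opens) (W₀ : (Proj (𝒮'.deg U' hU')).Opens)
        (e₀ : W₀ ≤ Proj.map ψ₁ (hirr U hU U' hU' hle) ⁻¹ᵁ V₀),
        V₀ = Proj.basicOpen (𝒮.deg U hU) f → W₀ = Proj.basicOpen (𝒮'.deg U' hU') (ψ₁ f) →
        BCLift.IsBC ((Proj.map ψ₁ (hirr U hU U' hU' hle)).appLE V₀ W₀ e₀).hom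
          (BCLift.sectMap (Proj.map ψ₁ (hirr U hU U' hU' hle))
            (GrMod.comap ψ₁ (hirr U hU U' hU' hle) (vφ φ U hU U' hU' hle) (hvφ φ U hU U' hU' hle) n) e₀) := by
      rintro V₀ W₀ e₀ rfl rfl
      exact GrBaseChange.isBC (hirr U hU U' hU' hle) (hvφ φ U hU U' hU' hle) (fun r => 𝒮'.str_mem U' hU' r)
        hf hd n (fun r => 𝒮.str_mem U hU r) hc hspan hM e₀
    have hVU : V ≤ p ⁻¹ᵁ U := hVr.trans (RelTilde.opensRange_emb p chart U hU).le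
    have hWU : W ≤ p' ⁻¹ᵁ U' := hWr.trans (RelTilde.opensRange_emb p' chart' U' hU').le
    have hbc := BCTransportScheme.isBC_push ψ₁ (hirr U hU U' hU' hle) (vφ φ U hU U' hU' hle)
      (hvφ φ U hU U' hU' hle) n g eA eB (e₃ j) (TwistTilde.lamT lam U hU) V W hVr hWr
      ((TwistTilde.isRelTilde hL).bijective U hU V hVU) e e₀
      (gen _ _ e₀ (eA.preimage_image_eq _) (eB.preimage_image_eq _))
    have hbij : Function.Bijective (((adj.homEquiv _ _).symm (θ j)).app W) :=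
      BCLift.bijective_transpose g (θ j) hV hW e hbc
    have hνj : ν ≫ TwistTilde.lamT lam' U' hU' = (adj.homEquiv _ _).symm (θ j) := hν j
    have hνW : Function.Bijective (ν.app W) := by
      rw [← hνj] at hbij
      exact (Function.Bijective.of_comp_iff' ((TwistTilde.isRelTilde hL').bijective U' hU' W hWU) (ν.app W)).1 hbij
    exact Groth.Agent.Lib.H70.QCohBasic.bijective_basicOpen ν hW hνW r

end Groth.Agent.S8335
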