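import Groth.Statements.S8979
import Groth.Agent.Lib.Subtrusive.VCover

set_option autoImplicit false
universe u
open HTop

namespace Groth.Agent.S8979

open CategoryTheory CategoryTheory.Limits AlgebraicGeometry in
/-- A surjective proper morphism of finite presentation, as a one-member family, is an h covering of its
target. -/
theorem result {X Y : Scheme.{u}} (f : Y ⟶ X) [IsProper f] [Surjective f] [LocallyOfFinitePresentation f] : HTop.IsHCover (PreZeroHypercover.singleton.{0} f) := by
  refine ⟨fun _ => ‹LocallyOfFinitePresentation f›, ?_⟩
  exact (Groth.Agent.Lib.Subtrusive.VCover.isVCover_singleton_iff f).mpr (Groth.Agent.Lib.Subtrusive.Criterion.univSSubtrusive_iff_hasLifts.mp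
    (Groth.Agent.Lib.Subtrusive.Criterion.univSSubtrusive_of_universallyClosed f))

end Groth.Agent.S8979
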