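import Groth.Statements.S4704
import Groth.Agent.H2.Rigid.GeomRegLocal
import Groth.Agent.H24.CompletionFlat
import Groth.Prelude.Def_FSch3

set_option autoImplicit false
universe u
open EGA4

namespace Groth.Agent.S4704

set_option backward.isDefEq.respectTransparency false in
/-- Let A → A' be a local homomorphism of Noetherian local rings which is regular (flat, with
geometrically regular fibres). If the completion map of A' is regular (the formal fibres of A' are
geometrically regular), then the completion map of A is regular. -/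
theorem result (A A' : Type u) [CommRing A] [CommRing A'] [IsNoetherianRing A]
    [IsNoetherianRing A'] [IsLocalRing A] [IsLocalRing A'] [Algebra A A'] [IsLocalHom (algebraMap A A')]
    (hf : CAlg.IsRegularHom A A') (hA' : CAlg.IsRegularHom A' (EGA4.Cpl A')) :
    CAlg.IsRegularHom A (EGA4.Cpl A) := by
  open IsLocalRing in
  let φ : EGA4.Cpl A →+* EGA4.Cpl A' :=
    FSch.complMap (maximalIdeal A) (maximalIdeal A') (algebraMap A A') (map_maximalIdeal_le _)
  let _ : Algebra (EGA4.Cpl A) (EGA4.Cpl A') := φ.toAlgebra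
  have hsq : ∀ a : A, φ (algebraMap A (EGA4.Cpl A) a) = algebraMap A (EGA4.Cpl A') a := fun a => by
    rw [IsScalarTower.algebraMap_apply A A' (EGA4.Cpl A')]
    refine AdicCompletion.ext_evalₐ fun n => ?_
    simp [φ, FSch.complMap, AdicCompletion.evalₐ_liftRingHom, Ideal.Quotient.algebraMap_eq]
    rfl
  have : IsScalarTower A (EGA4.Cpl A) (EGA4.Cpl A') :=
    IsScalarTower.of_algebraMap_eq fun a => (hsq a).symm
  have hl : IsLocalHom (algebraMap (EGA4.Cpl A) (EGA4.Cpl A')) := by
    refine ((IsLocalRing.local_hom_TFAE _).out 0 2 rfl rfl).2 ?_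
    rw [AdicCompletion.maximalIdeal_eq_map, AdicCompletion.maximalIdeal_eq_map, Ideal.map_map,
      ← IsScalarTower.algebraMap_eq, IsScalarTower.algebraMap_eq A A' (EGA4.Cpl A'), ← Ideal.map_map]
    exact Ideal.map_mono (IsLocalRing.map_maximalIdeal_le _)
  have := hf.1
  have : Module.Flat (EGA4.Cpl A) (EGA4.Cpl A') := H24.CompletionFlat.flat_completion A A'
  have : Module.FaithfullyFlat (EGA4.Cpl A) (EGA4.Cpl A') := Module.FaithfullyFlat.of_flat_of_isLocalHom
  exact H2.Rigid.GeomRegLocal.isRegularHom_of_comp (B := EGA4.Cpl A) (C := EGA4.Cpl A')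
    (H2.Rigid.GeomRegLocal.isRegularHom_comp hf hA' fun p _ => H2.Rigid.GeomRegHom.isNoetherianRing_fiber p)

end Groth.Agent.S4704
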