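import Groth.Statements.S4736
import Groth.Agent.Lib.Excellent.LocalizedHom
import Groth.Agent.Lib.Excellent.Transport

set_option autoImplicit false
set_option linter.style.haveILetI false
universe u
open EGA4

namespace Groth.Agent.S4736

/-- Let A → B be a regular homomorphism of Noetherian rings (flat, with geometrically regular fibres)
and S a multiplicative subset of A. Then the induced homomorphism S⁻¹A → S⁻¹B is regular. (S⁻¹A and
S⁻¹B are given here as arbitrary localizations at S and at its image.) -/
theorem result (A B : Type u) [CommRing A] [CommRing B] [IsNoetherianRing A] [IsNoetherianRing B]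
    [Algebra A B] (h : CAlg.IsRegularHom A B) (S : Submonoid A)
    (A' B' : Type u) [CommRing A'] [CommRing B'] [Algebra A A'] [Algebra B B'] [Algebra A' B'] [Algebra A B']
    [IsScalarTower A A' B'] [IsScalarTower A B B'] [IsLocalization S A']
    [IsLocalization (Algebra.algebraMapSubmonoid B S) B'] :
    CAlg.IsRegularHom A' B' := by
  haveI := h.1
  refine ⟨Groth.Agent.Lib.Excellent.LocalizedHom.flat_localization (B := B) S A' B', fun p _ => ?_⟩
  have h1 : ∀ (K : Type u) [Field K] [Algebra A' K],
      Groth.Agent.Lib.Excellent.FormalFibre.IsFinPoint A' K → IsNoetherianRing (TensorProduct A' K B') :=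
    Groth.Agent.Lib.Excellent.LocalizedHom.forall_tensor_localization S A' B'
      (P := fun R [CommRing R] => IsNoetherianRing R)
      (fun R _ _ _ e _ => isNoetherianRing_of_ringEquiv R e)
      ((Groth.Agent.Lib.Excellent.FormalFibre.forall_fibre_iff
        (P := fun R [CommRing R] => IsNoetherianRing R)
        (fun R _ _ _ e _ => isNoetherianRing_of_ringEquiv R e) B).1 fun p _ k' _ _ _ => by
          haveI := (h.2 p).1
          exact Groth.Agent.Lib.Excellent.LocalizedHom.isNoetherianRing_finite_tensor _ _ k')
  refine ⟨h1 p.ResidueField (Groth.Agent.Lib.Excellent.FormalFibre.isFinPoint_residueField p), ?_⟩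
  exact (Groth.Agent.Lib.Excellent.FormalFibre.forall_fibre_iff
    (P := fun R [CommRing R] => IsRegularRing R)
    Groth.Agent.Lib.Excellent.Transport.isoInvariant_isRegularRing B').2
    (Groth.Agent.Lib.Excellent.LocalizedHom.forall_tensor_localization S A' B'
      (P := fun R [CommRing R] => IsRegularRing R)
      Groth.Agent.Lib.Excellent.Transport.isoInvariant_isRegularRing
      ((Groth.Agent.Lib.Excellent.FormalFibre.forall_fibre_iff
        (P := fun R [CommRing R] => IsRegularRing R)
        Groth.Agent.Lib.Excellent.Transport.isoInvariant_isRegularRing B).1 fun p _ => (h.2 p).2)) p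

end Groth.Agent.S4736
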