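import Groth.Statements.S9317
import Groth.Agent.S9318
import Groth.Agent.Lib.FSAdic.Completion

set_option autoImplicit false
universe u
open CAlg

namespace Groth.Agent.S9317

/-- Let `R → S` be a ring map, let `𝔪 ⊆ R` and `𝔫 ⊆ S` be finitely generated ideals such that some power
of `𝔪` maps into `𝔫`, and let `R^`, `S^` be the `𝔪`-adic and `𝔫`-adic completions. Let `ψ : R^ → S^`
be a ring map whose composite with `R → R^` is the composite `R → S → S^` (there is exactly one such
map, the canonical one, since any such map is continuous for the adic topologies). Then `R → S` is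
formally smooth for the `𝔫`-adic topology if and only if `R^ → S^`, i.e. `S^` viewed as an
`R^`-algebra through `ψ`, is formally smooth for the adic topology of the extension of `𝔫` to `S^`. -/
theorem result {R S : Type u} [CommRing R] [CommRing S]
    [Algebra R S] (𝔪 : Ideal R) (𝔫 : Ideal S) (h𝔪 : 𝔪.FG) (h𝔫 : 𝔫.FG)
    (hc : ∃ c : ℕ, (𝔪 ^ c).map (algebraMap R S) ≤ 𝔫)
    (ψ : AdicCompletion 𝔪 R →+* AdicCompletion 𝔫 S)
    (hψ : ψ.comp (algebraMap R (AdicCompletion 𝔪 R)) =
      (algebraMap S (AdicCompletion 𝔫 S)).comp (algebraMap R S)) :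
    CAlgX.IsAdicFormallySmooth R S 𝔫 ↔
      letI : Algebra (AdicCompletion 𝔪 R) (AdicCompletion 𝔫 S) := ψ.toAlgebra
      CAlgX.IsAdicFormallySmooth (AdicCompletion 𝔪 R) (AdicCompletion 𝔫 S)
        (𝔫.map (algebraMap S (AdicCompletion 𝔫 S))) := by
  let R' := AdicCompletion 𝔪 R
  let S' := AdicCompletion 𝔫 S
  let 𝔫' : Ideal S' := 𝔫.map (algebraMap S S')
  obtain ⟨c, hc⟩ := hc
  letI : Algebra R' S' := ψ.toAlgebra
  haveI : IsScalarTower R R' S' := IsScalarTower.of_algebraMap_eq' (by
    rw [IsScalarTower.algebraMap_eq R S S']; exact hψ.symm)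
  have hcn : (𝔪 ^ c).map (algebraMap R S') ≤ 𝔫' := by
    rw [IsScalarTower.algebraMap_eq R S S', ← Ideal.map_map]
    exact Ideal.map_mono hc
  -- a map killing a power of `𝔫'` forces a power of `𝔪` to vanish
  have kills : ∀ (C : Type u) [CommRing C] [Algebra R C] (J : Ideal C), J ^ 2 = ⊥ →
      ∀ (u : S' →ₐ[R] C ⧸ J) (k : ℕ), (∀ x ∈ 𝔫' ^ k, u x = 0) →
        (𝔪 ^ (c * k * 2)).map (algebraMap R C) = ⊥ := by
    intro C _ _ J hJ u k hk
    have h1 : (𝔪 ^ (c * k)).map (algebraMap R C) ≤ J := by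
      refine Ideal.map_le_iff_le_comap.mpr fun a ha => ?_
      rw [Ideal.mem_comap, ← Ideal.Quotient.eq_zero_iff_mem]
      show algebraMap R (C ⧸ J) a = 0
      rw [← u.commutes]
      refine hk _ ?_
      have h2 := Ideal.mem_map_of_mem (algebraMap R S') ha
      rw [pow_mul, Ideal.map_pow] at h2
      exact Ideal.pow_right_mono hcn k h2
    rw [pow_mul, Ideal.map_pow, eq_bot_iff, ← hJ]
    exact Ideal.pow_right_mono h1 2
  -- on such rings, maps out of the completion are determined by `R`
  have det : ∀ (D : Type u) [CommRing D] [Algebra R D] (f g : R' →+* D) (N : ℕ),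
      (𝔪 ^ N).map (algebraMap R D) = ⊥ → f.comp (algebraMap R R') = algebraMap R D →
      g.comp (algebraMap R R') = algebraMap R D → f = g := by
    intro D _ _ f g N hN hf hg
    refine RingHom.ext fun r => ?_
    obtain ⟨a, ha⟩ := Lib.FSAdic.Completion.exists_sub_mem h𝔪 N r
    rw [← Ideal.map_pow] at ha
    have e : ∀ φ : R' →+* D, φ.comp (algebraMap R R') = algebraMap R D → φ r = algebraMap R D a := fun φ hφ => by
      have h2 := Ideal.mem_map_of_mem φ ha
      rw [Ideal.map_map, hφ, hN, Ideal.mem_bot, map_sub, sub_eq_zero] at h2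
      exact h2.trans (RingHom.congr_fun hφ a)
    rw [e f hf, e g hg]
  rw [S9318.result 𝔫 h𝔫]
  constructor
  · intro h C _ _ J hJ u ⟨k, hk⟩
    letI : Algebra R C := ((algebraMap R' C).comp (algebraMap R R')).toAlgebra
    haveI : IsScalarTower R R' C := IsScalarTower.of_algebraMap_eq fun _ => rfl
    obtain ⟨χ, hχ⟩ := h C J hJ (u.restrictScalars R) ⟨k, hk⟩
    have h1 : χ.toRingHom.comp (algebraMap R' S') = algebraMap R' C :=
      det C _ _ _ (kills C J hJ (u.restrictScalars R) k hk)
        (by rw [RingHom.comp_assoc, ← IsScalarTower.algebraMap_eq]; exact RingHom.ext χ.commutes)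
        (IsScalarTower.algebraMap_eq R R' C).symm
    exact ⟨{ χ.toRingHom with commutes' := RingHom.congr_fun h1 }, AlgHom.ext fun x => AlgHom.congr_fun hχ x⟩
  · intro h C _ _ J hJ u ⟨k, hk⟩
    have hN := kills C J hJ u k hk
    let ι : R' →ₐ[R] C := (Ideal.Quotient.liftₐ (𝔪 ^ (c * k * 2)) (Algebra.ofId R C) fun a ha =>
      Ideal.mem_bot.mp (hN ▸ Ideal.mem_map_of_mem (algebraMap R C) ha)).comp
        (AdicCompletion.evalₐ 𝔪 (c * k * 2))
    letI : Algebra R' C := ι.toRingHom.toAlgebra
    haveI : IsScalarTower R R' C := IsScalarTower.of_algebraMap_eq fun a => (ι.commutes a).symm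
    have h1 : u.toRingHom.comp (algebraMap R' S') = (Ideal.Quotient.mk J).comp (algebraMap R' C) :=
      det (C ⧸ J) _ _ (c * k * 2)
        (by
          rw [show algebraMap R (C ⧸ J) = (Ideal.Quotient.mk J).comp (algebraMap R C) from rfl,
            ← Ideal.map_map, hN, Ideal.map_bot])
        (by rw [RingHom.comp_assoc, ← IsScalarTower.algebraMap_eq]; exact RingHom.ext u.commutes)
        (by rw [RingHom.comp_assoc, ← IsScalarTower.algebraMap_eq]; rfl)
    obtain ⟨χ, hχ⟩ := h C J hJ { u.toRingHom with commutes' := RingHom.congr_fun h1 } ⟨k, hk⟩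
    exact ⟨χ.restrictScalars R, AlgHom.ext fun x => AlgHom.congr_fun hχ x⟩

end Groth.Agent.S9317
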