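import Groth.Statements.S9314
import Groth.Agent.H68.CompleteRegular
import Groth.Agent.S9317
import Groth.Agent.H18.FEquidim.Loc
import Groth.Agent.Lib.EGA75.Reduction
import Groth.Agent.Lib.EGA75.RegularComp

set_option autoImplicit false
universe u
open CAlg

namespace Groth.Agent.S9314

/-- Let `A` and `B` be Noetherian local rings and `A → B` a local ring map, and suppose that the map
from `A` to its completion along the maximal ideal is a regular ring map. If `A → B` is formally
smooth for the adic topology of the maximal ideal of `B`, then `A → B` is a regular ring map: flat,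
with Noetherian fibres that are geometrically regular over the residue fields of `A`. -/
theorem result {A B : Type u}
    [CommRing A] [CommRing B] [IsLocalRing A] [IsLocalRing B] [IsNoetherianRing A]
    [IsNoetherianRing B] [Algebra A B] [IsLocalHom (algebraMap A B)]
    (hA : CAlg.IsRegularHom A (AdicCompletion (IsLocalRing.maximalIdeal A) A))
    (h : CAlgX.IsAdicFormallySmooth A B (IsLocalRing.maximalIdeal B)) :
    CAlg.IsRegularHom A B := by
  haveI : Module.Flat A B := H68.AdicFlat.flat h
  let A' := AdicCompletion (IsLocalRing.maximalIdeal A) A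
  let B' := AdicCompletion (IsLocalRing.maximalIdeal B) B
  obtain ⟨φ, hφ⟩ := H18.FEquidim.Loc.exists_cplMap A B
  have hφ' : φ.comp (algebraMap A A') = (algebraMap B B').comp (algebraMap A B) :=
    RingHom.ext fun a => (RingHom.congr_fun hφ a).trans rfl
  have h' := (S9317.result (IsLocalRing.maximalIdeal A) (IsLocalRing.maximalIdeal B)
    (IsNoetherian.noetherian _) (IsNoetherian.noetherian _)
    ⟨1, by rw [pow_one]; exact IsLocalRing.map_maximalIdeal_le _⟩ φ hφ').mp h
  letI : Algebra A' B' := φ.toAlgebra
  haveI : IsScalarTower A A' B' := IsScalarTower.of_algebraMap_eq' (by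
    rw [IsScalarTower.algebraMap_eq A B B']
    exact hφ'.symm)
  have hmA := AdicCompletion.maximalIdeal_eq_map (R := A)
  have hmB := AdicCompletion.maximalIdeal_eq_map (R := B)
  haveI : IsLocalHom (algebraMap A' B') := by
    refine ((IsLocalRing.local_hom_TFAE _).out 2 0).mp ?_
    rw [hmA, hmB, Ideal.map_map, ← IsScalarTower.algebraMap_eq, IsScalarTower.algebraMap_eq A B B',
      ← Ideal.map_map]
    exact Ideal.map_mono (IsLocalRing.map_maximalIdeal_le _)
  rw [← hmB] at h'
  obtain ⟨hflat', hfib'⟩ := H68.CompleteRegular.isRegularHom h'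
  haveI := hflat'
  refine ⟨inferInstance, fun p _ => ⟨Lib.EGA75.Complete.isNoetherianRing_finPoint A B
    p.ResidueField (Lib.Excellent.FormalFibre.isFinPoint_residueField p), ?_⟩⟩
  refine (Lib.Excellent.FormalFibre.forall_fibre_iff
    (P := fun R [CommRing R] => IsRegularRing R)
    Lib.Excellent.Transport.isoInvariant_isRegularRing B).2 (fun K _ _ hK => ?_) p
  haveI : Module.FaithfullyFlat B B' := H80.Extend.faithfullyFlat_completion B
  refine Lib.EGA75.Reduction.descend (Q := fun R [CommRing R] => IsRegularRing R)
    Lib.Excellent.Transport.isoInvariant_isRegularRing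
    (fun R S _ _ _ _ _ _ hS => Lib.EGA75.Reduction.isRegularRing_descent R S hS)
    A B B' K hK ?_
  refine Lib.EGA75.RegularComp.isRegularRing_comp_finPoint A A' B'
    (fun L _ _ hL => ?_) K hK
    ((Lib.Excellent.FormalFibre.forall_fibre_iff
      (P := fun R [CommRing R] => IsRegularRing R)
      Lib.Excellent.Transport.isoInvariant_isRegularRing A').1
      (fun q _ => (hA.2 q).2) K hK)
  exact (Lib.Excellent.FormalFibre.forall_fibre_iff
      (P := fun R [CommRing R] => IsRegularRing R)
      Lib.Excellent.Transport.isoInvariant_isRegularRing B').1 (fun q _ => (hfib' q).2) L hL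

end Groth.Agent.S9314
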