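import Groth.Statements.S1167
import Groth.Agent.Lib.HilbD.Content

set_option autoImplicit false
open CategoryTheory CategoryTheory.Limits AlgebraicGeometry
universe u
open HilbD

namespace Groth.Agent.S1167
open Groth.Agent.Lib.HilbD Groth.Agent.Lib.HilbD.Basic


/-- Let f : X → S be a separated morphism of schemes and let (H, Z) represent the Hilbert functor of
points of degree d of X over S (Z the universal object on H). Then H → S is separated. -/
theorem result {X S : Scheme.{u}} (f : X ⟶ S) [IsSeparated f] (d : ℕ)
    (H : Over S) (Z : HilbD.Obj f d H) (hZ : HilbD.IsUniversal f d H Z) : IsSeparated H.hom := by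
  have key : IsClosedImmersion (pullback.diagonal H.hom) := by
    let T : Over S := Over.mk (pullback.fst H.hom H.hom ≫ H.hom)
    let p1 : T ⟶ H := Over.homMk (pullback.fst H.hom H.hom) rfl
    let p2 : T ⟶ H := Over.homMk (pullback.snd H.hom H.hom) pullback.condition.symm
    let I := pullObj f p1 Z
    let J := pullObj f p2 Z
    let E : T.left.IdealSheafData :=
      Content.eqLocus (PicF.XTproj f T) I.1 J.1 I.2.1 J.2.1
    have hE : ∀ {T' : Over S} (q : T' ⟶ T), E.comap q.left = ⊥ ↔
        HilbD.pull f (q ≫ p1) Z.1 = HilbD.pull f (q ≫ p2) Z.1 := fun q => by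
      rw [Content.eqLocus_comap_eq_bot_iff (isPullback_XTmap f q), pull_comp, pull_comp,
        pull_eq_comap f q, pull_eq_comap f q]
      rfl
    let V : Over S := Over.mk (E.subschemeι ≫ T.hom)
    let ι : V ⟶ T := Over.homMk E.subschemeι rfl
    have hι : ι ≫ p1 = ι ≫ p2 :=
      hom_ext f hZ ((hE ι).mp ((exists_lift_iff _ _).mp ⟨𝟙 _, Category.id_comp _⟩))
    let δ : H ⟶ T := Over.homMk (pullback.diagonal H.hom) (by
      show pullback.diagonal H.hom ≫ pullback.fst H.hom H.hom ≫ H.hom = H.hom
      rw [pullback.diagonal_fst_assoc])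
    have hδ1 : δ ≫ p1 = 𝟙 H := by
      ext
      exact pullback.diagonal_fst H.hom
    have hδ2 : δ ≫ p2 = 𝟙 H := by
      ext
      exact pullback.diagonal_snd H.hom
    obtain ⟨l, hl⟩ := (exists_lift_iff δ.left E).mpr ((hE δ).mpr (by rw [hδ1, hδ2]))
    have h1 : E.subschemeι ≫ pullback.fst H.hom H.hom ≫ pullback.diagonal H.hom = E.subschemeι := by
      have h2 : E.subschemeι ≫ pullback.fst H.hom H.hom = E.subschemeι ≫ pullback.snd H.hom H.hom :=
        congrArg (fun a => CommaMorphism.left a) hι
      apply pullback.hom_ext
      · simp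
      · rw [Category.assoc, Category.assoc, pullback.diagonal_snd, Category.comp_id]
        exact h2
    let e : H.left ≅ E.subscheme :=
      { hom := l
        inv := E.subschemeι ≫ pullback.fst H.hom H.hom
        hom_inv_id := by
          rw [← Category.assoc, hl]
          exact pullback.diagonal_fst H.hom
        inv_hom_id := by
          rw [← cancel_mono E.subschemeι, Category.assoc, Category.id_comp, hl, Category.assoc]
          exact h1 }
    have : δ.left = e.hom ≫ E.subschemeι := hl.symm
    show IsClosedImmersion δ.left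
    rw [this]
    have : IsIso e.hom := Iso.isIso_hom e
    exact (@MorphismProperty.cancel_left_of_respectsIso _ _ @IsClosedImmersion _ _ _ _ e.hom
      E.subschemeι this).mpr inferInstance
  exact ⟨key⟩

end Groth.Agent.S1167
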