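import Groth.Statements.S1173
import Groth.Agent.Lib.HilbD.Sec
import Groth.Agent.Lib.RelDiv.Diff
import Groth.Agent.Lib.Ideal.Comap

set_option autoImplicit false
open CategoryTheory CategoryTheory.Limits AlgebraicGeometry
universe u
open HilbD

namespace Groth.Agent.S1173
open Groth.Agent.Lib Groth.Agent.Lib.RelDiv Groth.Agent.Lib.HilbD.Sec Groth.Agent.Lib.HilbD.Basic

set_option linter.style.haveILetI false
set_option backward.isDefEq.respectTransparency false


/-- With X ⟶ S assumed separated, so that graphs of sections are closed subschemes: Let f : X ⟶ S be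
smooth of relative dimension 1 and separated, and let (H, Z) and (H', Z') represent the Hilbert
functors of points of X over S in degrees d and d + 1. Let T = H ×_S X with its point x : T ⟶ X.
Then the S-morphism T ⟶ H' classifying the closed subscheme Z_T + (graph of x) of X ×_S T is finite
locally free of degree d + 1. -/
theorem result {X S : Scheme.{u}} (f : X ⟶ S) [SmoothOfRelativeDimension 1 f] [IsSeparated f]
    (d : ℕ) (H : Over S) (Z : HilbD.Obj f d H) (hZ : HilbD.IsUniversal f d H Z)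
    (H' : Over S) (Z' : HilbD.Obj f (d + 1) H') (hZ' : HilbD.IsUniversal f (d + 1) H' Z')
    (m : Over.mk (pullback.fst H.hom f ≫ H.hom) ⟶ H')
    (hm : HilbD.pull f m Z'.1 =
      HilbD.pull f (Over.homMk (pullback.fst H.hom f) rfl : Over.mk (pullback.fst H.hom f ≫ H.hom) ⟶ H) Z.1 *
        HilbD.secGraph f (Over.mk (pullback.fst H.hom f ≫ H.hom)) (pullback.snd H.hom f) pullback.condition.symm) :
    Mor2.IsFinLocFreeOfDeg (d + 1) m.left := by
  let T : Over S := Over.mk (pullback.fst H.hom f ≫ H.hom)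
  let p : T ⟶ H := Over.homMk (pullback.fst H.hom f) rfl
  let xT : T.left ⟶ X := pullback.snd H.hom f
  have hxT : xT ≫ f = T.hom := pullback.condition.symm
  have hm' : HilbD.pull f m Z'.1 = HilbD.pull f p Z.1 * HilbD.secGraph f T xT hxT := hm
  clear hm
  haveI : ∀ W : Over S, SmoothOfRelativeDimension 1 (PicF.XTproj f W) := fun W =>
    haveI := smoothOfRelativeDimension_isStableUnderBaseChange.{u} (n := 1)
    MorphismProperty.pullback_snd (P := @SmoothOfRelativeDimension 1) f W.hom ‹_›
  have hcart : ∀ (W : Over S) (y : W.left ⟶ X) (hy : y ≫ f = W.hom),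
      BlowUp.IsEffCartierIdeal (HilbD.secGraph f W y hy) := fun W y hy =>
    Cartier.isEffCartier_of_isFinLocFree (PicF.XTproj f W) _ (finLocFreeOfDeg_secGraph f W y hy).1
  have hmulcomap : ∀ {W W' : Over S} (q : W' ⟶ W) (I J : (PicF.XT f W).IdealSheafData),
      HilbD.pull f q (I * J) = HilbD.pull f q I * HilbD.pull f q J := fun q I J => by
    rw [pull_eq_comap, pull_eq_comap, pull_eq_comap, Ideal.Comap.comap_mul]
  let V : Over S := Over.mk ((Z'.1.subschemeι ≫ PicF.XTproj f H') ≫ H'.hom)
  let v : V ⟶ H' := Over.homMk (Z'.1.subschemeι ≫ PicF.XTproj f H') rfl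
  let xV : V.left ⟶ X := Z'.1.subschemeι ≫ pullback.fst f H'.hom
  have hxV : xV ≫ f = V.hom := by
    show (Z'.1.subschemeι ≫ pullback.fst f H'.hom) ≫ f =
      (Z'.1.subschemeι ≫ pullback.snd f H'.hom) ≫ H'.hom
    rw [Category.assoc, Category.assoc, pullback.condition]
  have hsecV : sec f V xV hxV ≫ PicF.XTmap f v = Z'.1.subschemeι := by
    apply pullback.hom_ext
    · rw [Category.assoc, XTmap_fst, sec_fst]
    · show (sec f V xV hxV ≫ PicF.XTmap f v) ≫ PicF.XTproj f H' = _
      rw [Category.assoc, XTmap_snd, ← Category.assoc, sec_proj, Category.id_comp]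
      rfl
  have hleV : HilbD.pull f v Z'.1 ≤ HilbD.secGraph f V xV hxV := by
    rw [pull_eq_comap, secGraph_eq, ← Scheme.IdealSheafData.map_bot,
      Scheme.IdealSheafData.le_map_iff_comap_le, ← Scheme.IdealSheafData.comap_comp, hsecV,
      ← Scheme.IdealSheafData.le_map_iff_comap_le, Scheme.IdealSheafData.map_bot,
      Scheme.IdealSheafData.ker_subschemeι]
  obtain ⟨D, hD, hvD⟩ := Diff.exists_difference (PicF.XTproj f V) _ _ hleV 1 (d + 1)
    (finLocFreeOfDeg_secGraph f V xV hxV) (pullObj f v Z').2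
  rw [Nat.add_sub_cancel] at hD
  obtain ⟨h, hh, -⟩ := hZ V ⟨D, hD⟩
  have hw : h.left ≫ H.hom = xV ≫ f := (Over.w h).trans hxV.symm
  let ψ : V ⟶ T := Over.homMk (pullback.lift h.left xV hw) (by
    show pullback.lift h.left xV hw ≫ pullback.fst H.hom f ≫ H.hom = V.hom
    rw [pullback.lift_fst_assoc]
    exact Over.w h)
  have hψp : ψ ≫ p = h := by
    ext
    exact pullback.lift_fst _ _ _
  have hψx : ψ.left ≫ xT = xV := pullback.lift_snd _ _ _
  have hψm : ψ ≫ m = v := hom_ext f hZ' (by
    rw [pull_comp, hm', hmulcomap, ← pull_comp, hψp, hh, pull_secGraph, hvD, mul_comm]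
    congr 1
    simp only [secGraph_eq, hψx])
  have hsecT : sec f T xT hxT ≫ PicF.XTmap f m = pullback.lift xT m.left
      (by rw [hxT, Over.w m]) := by
    apply pullback.hom_ext
    · rw [Category.assoc, XTmap_fst, sec_fst, pullback.lift_fst]
    · show (sec f T xT hxT ≫ PicF.XTmap f m) ≫ PicF.XTproj f H' = _
      rw [Category.assoc, XTmap_snd, ← Category.assoc, sec_proj, Category.id_comp,
        pullback.lift_snd]
  let u : T.left ⟶ PicF.XT f H' := pullback.lift xT m.left (by rw [hxT, Over.w m])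
  have hu : Z'.1.comap u = ⊥ := by
    have : u = sec f T xT hxT ≫ PicF.XTmap f m := hsecT.symm
    rw [this, Scheme.IdealSheafData.comap_comp, ← pull_eq_comap, hm', ← le_bot_iff,
      ← Scheme.IdealSheafData.le_map_iff_comap_le, Scheme.IdealSheafData.map_bot, ← secGraph_eq]
    exact Sum.mul_le_right _ _
  obtain ⟨φ₀, hφ₀⟩ := (exists_lift_iff u Z'.1).mpr hu
  have hφv : φ₀ ≫ Z'.1.subschemeι ≫ PicF.XTproj f H' = m.left := by
    rw [← Category.assoc, hφ₀]
    exact pullback.lift_snd _ _ _
  let φ : T ⟶ V := Over.homMk φ₀ (by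
    show φ₀ ≫ (Z'.1.subschemeι ≫ PicF.XTproj f H') ≫ H'.hom = T.hom
    rw [← Category.assoc, hφv]
    exact Over.w m)
  have hφm : φ ≫ v = m := by
    ext
    exact hφv
  have hφx : φ.left ≫ xV = xT := by
    show φ₀ ≫ Z'.1.subschemeι ≫ pullback.fst f H'.hom = xT
    rw [← Category.assoc, hφ₀]
    exact pullback.lift_fst _ _ _
  have hφh : φ ≫ h = p := hom_ext f hZ (by
    rw [pull_comp, hh]
    apply Diff.mul_left_cancel (hcart T xT hxT)
    rw [mul_comm (HilbD.secGraph f T xT hxT) (HilbD.pull f p Z.1), ← hm', ← hφm, pull_comp, hvD,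
      hmulcomap, pull_secGraph]
    simp only [secGraph_eq, hφx]
    rfl)
  have h1 : φ₀ ≫ ψ.left = 𝟙 T.left := by
    apply pullback.hom_ext
    · show (φ₀ ≫ ψ.left) ≫ p.left = 𝟙 T.left ≫ p.left
      have h0 : φ ≫ ψ ≫ p = p := by rw [hψp, hφh]
      rw [Category.id_comp, Category.assoc]
      exact congrArg (fun a => CommaMorphism.left a) h0
    · show (φ₀ ≫ ψ.left) ≫ xT = 𝟙 T.left ≫ xT
      rw [Category.id_comp, Category.assoc, hψx]
      exact hφx
  have h2 : ψ.left ≫ u = Z'.1.subschemeι := by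
    apply pullback.hom_ext
    · rw [Category.assoc, pullback.lift_fst, hψx]
    · rw [Category.assoc, pullback.lift_snd]
      exact congrArg (fun a => CommaMorphism.left a) hψm
  let e : T.left ≅ Z'.1.subscheme :=
    { hom := φ₀
      inv := ψ.left
      hom_inv_id := h1
      inv_hom_id := by
        rw [← cancel_mono Z'.1.subschemeι, Category.assoc, hφ₀, h2]
        exact (Category.id_comp _).symm }
  have hfin : Mor2.IsFinLocFreeOfDeg (d + 1) (e.hom ≫ Z'.1.subschemeι ≫ PicF.XTproj f H') :=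
    (@MorphismProperty.cancel_left_of_respectsIso _ _ (AlgSp.finLocFreeOfDeg (d + 1)) _ _ _ _ e.hom
      _ (Iso.isIso_hom e)).mpr Z'.2
  exact hφv ▸ hfin

end Groth.Agent.S1173
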