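import Groth.Statements.S1169
import Groth.Agent.S1173
import Groth.Agent.Lib.HilbD.Sec
import Groth.Agent.Lib.RelDiv.Diff
import Groth.Agent.Lib.SmoothDesc.Scheme

set_option autoImplicit false
open CategoryTheory CategoryTheory.Limits AlgebraicGeometry
universe u
open HilbD

namespace Groth.Agent.S1169
set_option linter.style.haveILetI false
set_option backward.isDefEq.respectTransparency false

open Groth.Agent.Lib Groth.Agent.Lib.RelDiv Groth.Agent.Lib.HilbD

theorem finLocFreeOfDeg_zero_of_isEmpty {A B : Scheme.{u}} (g : A ⟶ B) [IsEmpty A] :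
    Mor2.IsFinLocFreeOfDeg 0 g := by
  haveI : IsOpenImmersion g := inferInstance
  haveI : IsClosedImmersion g := inferInstance
  refine ⟨⟨inferInstance, inferInstance, inferInstance⟩, fun y => ?_⟩
  by_contra h
  let q := B.fromSpecResidueField y
  let pt : Spec (B.residueField y) := IsLocalRing.closedPoint (B.residueField y)
  have h1 : q pt = y := B.fromSpecResidueField_apply y pt
  have h2 : (pullback.snd g q).finrank pt = g.finrank y := by
    rw [Scheme.Hom.finrank_pullback_snd, h1]
  haveI : Surjective (pullback.snd g q) := by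
    refine (Scheme.Hom.one_le_finrank_iff_surjective _).mp fun z => ?_
    rw [Subsingleton.elim z pt, h2]
    exact Nat.pos_of_ne_zero h
  obtain ⟨w, -⟩ := (pullback.snd g q).surjective pt
  exact IsEmpty.false (pullback.fst g q w)


/-- Let f : X ⟶ S be smooth of relative dimension 1 and separated, and assume the Hilbert functor of
points of X over S is representable in every degree. Then for every d, any scheme H over S carrying
a universal family for the degree-d Hilbert functor of points is smooth over S. (The published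
statement also asserts that H has relative dimension d over S; only smoothness is asserted here.) -/
theorem result {X S : Scheme.{u}} (f : X ⟶ S) [SmoothOfRelativeDimension 1 f] [IsSeparated f]
    (hrep : ∀ e : ℕ, HilbD.Representable f e) (d : ℕ) (H : Over S) (Z : HilbD.Obj f d H)
    (hZ : HilbD.IsUniversal f d H Z) : Smooth H.hom := by
  induction d generalizing H with
  | zero =>
    have htop : ∀ (T : Over S) (W : HilbD.Obj f 0 T), W.1 = ⊤ := fun T W => by
      obtain ⟨h1, h2, h3⟩ := W.2.1
      have hemp : IsEmpty W.1.subscheme := ⟨fun x => by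
        have := Scheme.Hom.one_le_finrank_map (W.1.subschemeι ≫ PicF.XTproj f T) x
        rw [W.2.2] at this
        exact absurd this (by norm_num)⟩
      rw [← W.1.ker_subschemeι]
      exact (Scheme.Hom.ker_eq_top_iff_isEmpty _).mpr hemp
    let T0 : Over S := Over.mk (𝟙 S)
    haveI : IsEmpty (⊤ : (PicF.XT f T0).IdealSheafData).subscheme := by
      rw [← Scheme.Hom.ker_eq_top_iff_isEmpty (⊤ : (PicF.XT f T0).IdealSheafData).subschemeι,
        Scheme.IdealSheafData.ker_subschemeι]
    obtain ⟨s, -, -⟩ := hZ T0 ⟨⊤, finLocFreeOfDeg_zero_of_isEmpty _⟩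
    have h1 : s.left ≫ H.hom = 𝟙 S := Over.w s
    let r : H ⟶ T0 := Over.homMk H.hom (Category.comp_id _)
    have h2 : r ≫ s = 𝟙 H := Basic.hom_ext f hZ
      ((htop H (Basic.pullObj f (r ≫ s) Z)).trans (htop H (Basic.pullObj f (𝟙 H) Z)).symm)
    haveI : IsIso H.hom := ⟨s.left, congrArg (fun a => CommaMorphism.left a) h2, h1⟩
    infer_instance
  | succ n ih =>
    obtain ⟨H₀, Z₀, hZ₀⟩ := hrep n
    haveI := ih H₀ Z₀ hZ₀
    let T : Over S := Over.mk (pullback.fst H₀.hom f ≫ H₀.hom)
    let p : T ⟶ H₀ := Over.homMk (pullback.fst H₀.hom f) rfl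
    haveI : SmoothOfRelativeDimension 1 (PicF.XTproj f T) :=
      haveI := smoothOfRelativeDimension_isStableUnderBaseChange.{u} (n := 1)
      MorphismProperty.pullback_snd (P := @SmoothOfRelativeDimension 1) f T.hom ‹_›
    obtain ⟨m, hm, -⟩ := hZ T ⟨HilbD.pull f p Z₀.1 *
      HilbD.secGraph f T (pullback.snd H₀.hom f) pullback.condition.symm,
      Diff.mul_finLocFreeOfDeg (PicF.XTproj f T) _ _ n 1 (Basic.pullObj f p Z₀).2
        (Sec.finLocFreeOfDeg_secGraph f T _ _)⟩
    have hdeg := Groth.Agent.S1173.result f n H₀ Z₀ hZ₀ H Z hZ m hm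
    obtain ⟨h1, h2, h3⟩ := hdeg.1
    haveI : Surjective m.left := (Scheme.Hom.one_le_finrank_iff_surjective m.left).mp fun y => by
      rw [Pi.one_apply, hdeg.2 y]
      exact Nat.le_add_left 1 n
    haveI : Smooth f := SmoothOfRelativeDimension.smooth 1 f
    haveI : Smooth (pullback.fst H₀.hom f) :=
      MorphismProperty.pullback_fst (P := @Smooth) H₀.hom f ‹_›
    haveI hT : Smooth (m.left ≫ H.hom) := by
      rw [Over.w m]
      show Smooth (pullback.fst H₀.hom f ≫ H₀.hom)
      infer_instance
    haveI : LocallyOfFinitePresentation (m.left ≫ H.hom) := inferInstance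
    haveI := SmoothDesc.Scheme.locallyOfFinitePresentation_of_comp m.left H.hom
    exact SmoothDesc.Scheme.smooth_of_comp m.left H.hom

end Groth.Agent.S1169
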