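import Groth.Statements.S7388
import Groth.Agent.H75.GenPts.Avoid

set_option autoImplicit false
universe u
open CategoryTheory AlgebraicGeometry
open Mor

namespace Groth.Agent.S7388

open TopologicalSpace

/-- Let `X` be a scheme admitting an immersion into `Proj S` for some graded ring `S`. Then any finite
set of points of `X` is contained in an affine open of `X`. -/
theorem result {R A : Type u} [CommRing R] [CommRing A] [Algebra R A]
    (𝒜 : ℕ → Submodule R A) [GradedAlgebra 𝒜] {X : Scheme.{u}} (ι : X ⟶ Proj 𝒜) [IsImmersion ι]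
    (E : Set X) (hE : E.Finite) :
    ∃ U : X.Opens, IsAffineOpen U ∧ E ⊆ U := by
  obtain ⟨U, hU, hle, hEU⟩ := Groth.Agent.H75.GenPts.exists_basicOpen_finite 𝒜 ι.coborderRange
    (ι.base '' E) (hE.image _) (by rintro _ ⟨x, -, rfl⟩; exact subset_coborder ⟨x, rfl⟩)
  refine ⟨ι ⁻¹ᵁ U, ?_, fun x hx => hEU ⟨x, hx, rfl⟩⟩
  have h1 : IsAffineOpen (ι.coborderRange.ι ⁻¹ᵁ U) :=
    hU.preimage_of_isOpenImmersion _ (by rw [Scheme.Opens.opensRange_ι]; exact hle)
  have h2 := h1.preimage ι.liftCoborder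
  rwa [← Scheme.Hom.comp_preimage, Scheme.Hom.liftCoborder_ι] at h2

end Groth.Agent.S7388
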