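import Groth.Statements.S18892
import Groth.Agent.Lib.CurveFF.DoubleInvol
import Groth.Agent.Lib.CurveBundle.SmoothField
-- import your own Groth.Agent.* helpers here

set_option autoImplicit false
universe u
open CategoryTheory CategoryTheory.Limits AlgebraicGeometry
open Curves

namespace Groth.Agent.S18892
open Groth.Agent.Lib
attribute [local instance] Curv2.stalkAlgebra

/-- Let k be an algebraically closed field of characteristic different from 2 and X a hyperelliptic
curve over k, i.e. p : X → Spec k is smooth and proper, X is connected of dimension one and of genus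
dim_k H¹(X, O_X) ≥ 2, and X admits a double cover of P¹_k (a k-morphism which is finite and flat of
rank 2 at every point). A hyperelliptic involution is a k-endomorphism σ ≠ id of X with σ ≫ h = h
for some such double cover h. Then any two hyperelliptic involutions of X coincide. -/
theorem result (k : Type u) [Field k] [IsAlgClosed k] (h2 : (2 : k) ≠ 0)
    {X : Scheme.{u}} (p : X ⟶ Spec (CommRingCat.of k)) [IsProper p] [Smooth p] [ConnectedSpace ↥X]
    (hX : topologicalKrullDim ↥X = 1) (hg : 2 ≤ @Curv2.genus k _ X ⟨p⟩)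
    (h₁ h₂ : X ⟶ CohB1.ProjSpace 1 k) (hh₁ : h₁ ≫ CohB1.ProjSpace.toSpec 1 k = p)
    (hh₂ : h₂ ≫ CohB1.ProjSpace.toSpec 1 k = p)
    [IsFinite h₁] [Flat h₁] (hr₁ : ∀ y : ↥(CohB1.ProjSpace 1 k), h₁.finrank y = 2)
    [IsFinite h₂] [Flat h₂] (hr₂ : ∀ y : ↥(CohB1.ProjSpace 1 k), h₂.finrank y = 2)
    (σ τ : X ⟶ X) (hσ : σ ≫ h₁ = h₁) (hσ₁ : σ ≠ 𝟙 X) (hτ : τ ≫ h₂ = h₂) (hτ₁ : τ ≠ 𝟙 X) :
    σ = τ := by
  letI : X.Over (Spec (CommRingCat.of k)) := ⟨p⟩
  haveI : IsProper (X ↘ Spec (CommRingCat.of k)) := ‹IsProper p›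
  haveI : Smooth (X ↘ Spec (CommRingCat.of k)) := ‹Smooth p›
  haveI : IsIntegral X := CurveBundle.SmoothField.isIntegral k hX.le
  haveI : X.IsSeparated := ⟨by rw [← Limits.terminal.comp_from p]; infer_instance⟩
  have hh0 := Curves.GlobalSections.finrank_h0_structure k X
  have hc := CurveFF.curveHyp_of_smooth k hX
  have hK := CurveFF.isFunctionField (k := k) hc hh0
  have hg' : 2 ≤ _root_.FunFld.genus k X.functionField := by rw [← CurveFF.genus_eq hc hh0]; exact hg
  have hp₁ := CurveFF.DoubleInvol.over_of_comp h₁ hh₁ hσ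
  have hp₂ := CurveFF.DoubleInvol.over_of_comp h₂ hh₂ hτ
  have eσ := CurveFF.DoubleInvol.genericPoint_fixed (k := k) h₁ hX hσ
  have eτ := CurveFF.DoubleInvol.genericPoint_fixed (k := k) h₂ hX hτ
  have hx₁ := CurveFF.DoubleInvol.finrank_coord h₁ hh₁ hX hr₁
  have hx₂ := CurveFF.DoubleInvol.finrank_coord h₂ hh₂ hX hr₂
  have hfix₁ := CurveFF.DoubleInvol.fix_coord h₁ (CurveFF.DoubleCover.generic_eq h₁ hX) hσ eσ
    (CurveFF.DoubleCover.generic_mem h₁ (CurveFF.DoubleCover.generic_eq h₁ hX) 0)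
  have hfix₂ := CurveFF.DoubleInvol.fix_coord h₂ (CurveFF.DoubleCover.generic_eq h₂ hX) hτ eτ
    (CurveFF.DoubleCover.generic_mem h₂ (CurveFF.DoubleCover.generic_eq h₂ hX) 0)
  have heq := Groth.Agent.H81.DoubleCover.adjoin_eq hK hg' hx₁ hx₂
  have hfix₂' := CurveFF.DoubleInvol.fix_adjoin (CurveFF.DoubleInvol.endAlg τ hp₂ eτ) hfix₂
    (heq ▸ IntermediateField.mem_adjoin_simple_self k _)
  have h := CurveFF.DoubleInvol.eq_of_quadratic hx₁ _ _ hfix₁ hfix₂'
    (CurveFF.DoubleInvol.exists_ne σ hp₁ eσ hσ₁) (CurveFF.DoubleInvol.exists_ne τ hp₂ eτ hτ₁)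
  exact CurveFF.AutoMap.ext_of_kMap eσ eτ fun z => DFunLike.congr_fun h z

end Groth.Agent.S18892
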