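import Groth.Statements.S14521
import Groth.Agent.Lib.IntTheory.Additive
import Groth.Agent.Lib.Snapper.IntNum
import Groth.Agent.Lib.Snapper.Finite
import Groth.Agent.Lib.Curves.GlobalSections

set_option autoImplicit false
universe u
open CategoryTheory CategoryTheory.Limits AlgebraicGeometry
open Variety

namespace Groth.Agent.S14521

/-- Let k be an algebraically closed field, X a complete variety over k (reduced and proper over k) of
dimension at most d, L_1, …, L_r line bundles with tensor inverses M_1, …, M_r, and F a coherent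
O_X-module whose support has dimension at most r. Let Y_1, …, Y_s be the r-dimensional irreducible
components of Supp F, with generic points ξ_1, …, ξ_s (given as a finite set s of points: ξ ∈ s iff
ξ ∈ Supp F and the closure of ξ has dimension r), each Y_i with its reduced structure. Then
(L_1⋯L_r; F) = Σ_i length_{O_{X,ξ_i}}(F_{ξ_i}) · (L_1⋯L_r · Y_i), where all intersection numbers are
the alternating Euler-characteristic sums in the M_i (the prelude's FGA.intNum). -/
theorem result (k : Type u) [Field k] [IsAlgClosed k]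
    (X : Scheme.{u}) [X.Over (Spec (CommRingCat.of k))] [IsReduced X] [IsProper (X ↘ (Spec (CommRingCat.of k)))] (d : ℕ) (hd : topologicalKrullDim X ≤ d)
    {r : ℕ} (M : Fin r → X.Modules) (hM : ∀ i, PicF.IsInvertible (M i))
    (F : X.Modules) (hF : Coh.IsCoh F) (hsupp : topologicalKrullDim ↥(CohB1.support F) ≤ r)
    (s : Finset X) (hs : ∀ ξ : X, ξ ∈ s ↔ ξ ∈ CohB1.support F ∧ topologicalKrullDim ↥(closure ({ξ} : Set X)) = r) :
    FGA.intNum k X d M F =
      ∑ ξ ∈ s, ((Module.length (X.presheaf.stalk ξ) (F.presheaf.stalk ξ)).toNat : ℤ) *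
        FGA.intNum k X d M (ClSub.quotMod (Scheme.IdealSheafData.vanishingIdeal ⟨closure ({ξ} : Set X), isClosed_closure⟩)) := by
  have := Lib.Curves.GlobalSections.isNoetherian_of_proper k X
  have hfin := Lib.Snapper.Finite.cohFinite k X
  have hl : ∀ N ∈ List.ofFn M, PicF.IsInvertible N := by
    intro N hN; obtain ⟨i, rfl⟩ := List.mem_ofFn.1 hN; exact hM i
  have := hF.2
  let T : TopologicalSpace.Closeds X := ⟨CohB1.support F, Lib.Modules.Support.isClosed_support F⟩
  have hT : topologicalKrullDim (T : Set X) ≤ (r : WithBot ℕ∞) := hsupp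
  simp only [Lib.Snapper.IntNum.intNum_eq_sym]
  rw [Lib.IntTheory.Additive.eq_sum (Lib.IntTheory.Additive.isAdd_sym hfin hd hl)
    (Lib.IntTheory.Additive.vanishBelow_sym hfin hd hl (List.length_ofFn)) hF (T := T) subset_rfl hT]
  refine Finset.sum_congr ?_ fun ξ _ => rfl
  ext ξ
  rw [Set.Finite.mem_toFinset]
  exact (hs ξ).symm

end Groth.Agent.S14521
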