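import Groth.Statements.S0675
import Groth.Agent.Lib.WLocal.RetractLoc
import Mathlib.RingTheory.Localization.Integral
import Mathlib.FieldTheory.IsSepClosed
import Mathlib.FieldTheory.IsAlgClosed.AlgebraicClosure

set_option autoImplicit false
open CategoryTheory CategoryTheory.Limits AlgebraicGeometry Opposite Topology
universe u
open ProEtW

namespace Groth.Agent.S0675

open Polynomial in
lemma derivative_eval_scaleRoots_ne_zero {K : Type u} [Field K] (p : K[X]) {c a : K} (hc : c ≠ 0)
    (ha : (derivative p).eval a ≠ 0) : (derivative (p.scaleRoots c)).eval (c * a) ≠ 0 := by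
  intro h
  have h1 : (p.scaleRoots c).comp (C c * X) = C c ^ p.natDegree * p := by
    rw [Polynomial.comp, scaleRoots_eval₂_mul, eval₂_C_X]
  have h2 := congrArg (fun q => (derivative q).eval a) h1
  simp only [derivative_comp, ← C_pow, derivative_mul, derivative_C, derivative_X, eval_mul,
    eval_comp, eval_C, eval_X, zero_mul, zero_add, mul_one, eval_add, eval_zero, h, mul_zero] at h2
  exact mul_ne_zero (pow_ne_zero _ hc) ha h2.symm

lemma exists_field_root {κ : Type u} [Field κ] (p : Polynomial κ) (hp : Irreducible p) :
    ∃ (K : Type u) (_ : Field K) (_ : Algebra κ K) (r : K), Polynomial.aeval r p = 0 :=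
  ⟨AlgebraicClosure κ, inferInstance, inferInstance,
    IsAlgClosed.exists_aeval_eq_zero (AlgebraicClosure κ) p hp.degree_pos.ne'⟩

/-- A standard etale algebra with a point over a maximal ideal `m` has a point in `A_m`. -/
lemma exists_hasMap {A : Type u} [CommRing A] (h : ProEtW.HasEtaleRetractions A) (m : Ideal A)
    [hm : m.IsMaximal] (P : StandardEtalePair A) {K : Type u} [Field K]
    [Algebra A K] (hK : RingHom.ker (algebraMap A K) = m) (x : K) (hx : P.HasMap x) :
    ∃ y : Localization.AtPrime m, P.HasMap y := by
  let ψ : P.Ring →ₐ[A] K := P.lift x hx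
  obtain ⟨φ⟩ := Groth.Agent.Lib.WLocal.Retract.exists_hom_etale h (E := P.Ring)
    (L := Localization.AtPrime m) m
    (by rw [IsLocalRing.jacobson_eq_maximalIdeal ⊥ bot_ne_top,
      Localization.AtPrime.map_eq_maximalIdeal])
    (fun y hy => by
      refine ⟨PrimeSpectrum.comap ψ.toRingHom ⊥, PrimeSpectrum.ext ?_⟩
      rw [← hm.eq_of_le y.2.ne_top hy]
      ext a
      simp [← hK, RingHom.mem_ker])
  exact ⟨φ P.X, StandardEtalePair.hasMap_X.map φ⟩

/-- The residue field at `m` is separably closed. -/
lemma isSepClosed {A : Type u} [CommRing A] (h : ProEtW.HasEtaleRetractions A) (m : Ideal A)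
    [hm : m.IsMaximal] {κ : Type u} [Field κ] [Algebra A κ]
    (hκ : Function.Surjective (algebraMap A κ)) (hker : RingHom.ker (algebraMap A κ) = m)
    (φ : Localization.AtPrime m →ₐ[A] κ) : IsSepClosed κ := by
  refine IsSepClosed.of_exists_root _ fun p hp hirr hsep => ?_
  obtain ⟨g, hg, -, hgm⟩ := Polynomial.lifts_and_natDegree_eq_and_monic
    (f := algebraMap A κ) ((Polynomial.mem_lifts p).mpr (Polynomial.map_surjective _ hκ p)) hp
  let P : StandardEtalePair A :=
    { f := g, monic_f := hgm, g := g.derivative, cond := ⟨1, 0, 1, by ring⟩ }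
  obtain ⟨K, _, _, r, hr⟩ := exists_field_root p hirr
  letI : Algebra A K := ((algebraMap κ K).comp (algebraMap A κ)).toAlgebra
  haveI : IsScalarTower A κ K := .of_algebraMap_eq fun _ => rfl
  have hker' : RingHom.ker (algebraMap A K) = m := by
    rw [IsScalarTower.algebraMap_eq A κ K, RingHom.ker_comp_of_injective _
      (algebraMap κ K).injective, hker]
  have hP : P.HasMap r := by
    refine ⟨?_, isUnit_iff_ne_zero.mpr ?_⟩
    · rw [← Polynomial.aeval_map_algebraMap κ, hg]
      exact hr
    · rw [← Polynomial.aeval_map_algebraMap κ, ← Polynomial.derivative_map, hg]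
      exact hsep.aeval_derivative_ne_zero hr
  obtain ⟨y, hy, -⟩ := exists_hasMap h m P hker' r hP
  refine ⟨φ y, ?_⟩
  rw [← hg, Polynomial.eval_map, ← Polynomial.aeval_def, Polynomial.aeval_algHom_apply, hy, map_zero]

/-- If every faithfully flat etale A-algebra has an A-algebra retraction, then for every maximal ideal m
of A the localization A_m is a strictly henselian local ring (henselian with separably closed
residue field). -/
theorem result (A : Type u) [CommRing A]
    (h : ProEtW.HasEtaleRetractions A) (m : Ideal A) [m.IsMaximal] :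
    EtCoh.IsStrictlyHenselianLocalRing (Localization.AtPrime m) := by
  classical
  let R := Localization.AtPrime m
  let κ := IsLocalRing.ResidueField R
  have hκ : Function.Surjective (algebraMap A κ) := m.algebraMap_residueField_surjective
  have hker : RingHom.ker (algebraMap A κ) = m := m.ker_algebraMap_residueField
  have hres : IsLocalRing.residue R = algebraMap R κ := rfl
  refine ⟨((HenselianLocalRing.TFAE R).out 0 1).mpr fun f hf a₀ h₁ h₂ => ?_, ?_⟩
  · let s := IsLocalization.commonDenom m.primeCompl f.support f.coeff
    let c : κ := algebraMap A κ s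
    have hc : c ≠ 0 := by
      intro hc
      have : (s : A) ∈ RingHom.ker (algebraMap A κ) := hc
      rw [hker] at this
      exact s.2 this
    have hsu : IsUnit (algebraMap A R s) := IsLocalization.map_units R s
    have hl := IsLocalization.scaleRoots_commonDenom_mem_lifts m.primeCompl f
      (by rw [hf.leadingCoeff]; exact one_mem _)
    obtain ⟨g, hg, -, hgm⟩ := Polynomial.lifts_and_natDegree_eq_and_monic hl
      ((Polynomial.monic_scaleRoots_iff _).mpr hf)
    set p := f.map (algebraMap R κ) with hp
    have hgκ : g.map (algebraMap A κ) = p.scaleRoots c := by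
      rw [show algebraMap A κ = (algebraMap R κ).comp (algebraMap A R) from
        IsScalarTower.algebraMap_eq A R κ, ← Polynomial.map_map, hg,
        Polynomial.map_scaleRoots _ _ _ (by simp [hf.leadingCoeff])]
      rfl
    have hp0 : p.eval a₀ = 0 := by rwa [hp, Polynomial.eval_map, ← Polynomial.aeval_def]
    have hp1 : p.derivative.eval a₀ ≠ 0 := by
      rwa [hp, Polynomial.derivative_map, Polynomial.eval_map, ← Polynomial.aeval_def]
    set b := c * a₀
    have hb0 : (g.map (algebraMap A κ)).eval b = 0 := by
      rw [hgκ, Polynomial.scaleRoots_eval_mul, hp0, mul_zero]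
    obtain ⟨q, hq⟩ := Polynomial.dvd_iff_isRoot.mpr hb0
    have hb1 : q.eval b ≠ 0 := by
      have := derivative_eval_scaleRoots_ne_zero p hc hp1
      rw [← hgκ, hq] at this
      simpa [b] using this
    obtain ⟨q', rfl⟩ := Polynomial.map_surjective _ hκ q
    let P : StandardEtalePair A :=
      { f := g, monic_f := hgm, g := g.derivative * q', cond := ⟨q', 0, 1, by ring⟩ }
    have hP : P.HasMap b := by
      refine ⟨by rwa [Polynomial.aeval_def, ← Polynomial.eval_map], isUnit_iff_ne_zero.mpr ?_⟩
      rw [Polynomial.aeval_def, ← Polynomial.eval_map, Polynomial.map_mul, ← Polynomial.derivative_map,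
        hq]
      simpa using mul_ne_zero hb1 hb1
    obtain ⟨y, hy, hyu⟩ := exists_hasMap h m P hker b hP
    refine ⟨hsu.unit⁻¹.val * y, ?_, ?_⟩
    · have h3 : (f.scaleRoots (algebraMap A R s)).eval y = 0 := by
        rw [← hg, Polynomial.eval_map, ← Polynomial.aeval_def]
        exact hy
      rw [show y = algebraMap A R s * (hsu.unit⁻¹.val * y) by
        rw [← mul_assoc, IsUnit.mul_val_inv, one_mul], Polynomial.scaleRoots_eval_mul] at h3
      exact (hsu.pow _).mul_right_eq_zero.mp h3
    · set z := algebraMap R κ y
      have hz : (g.map (algebraMap A κ)).eval z = 0 := by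
        rw [Polynomial.eval_map, ← Polynomial.aeval_def, Polynomial.aeval_algebraMap_apply]
        exact (congrArg (algebraMap R κ) hy).trans (map_zero _)
      have hqz : (q'.map (algebraMap A κ)).eval z ≠ 0 := by
        intro h0
        have h4 := hyu.map (algebraMap R κ)
        rw [← Polynomial.aeval_algebraMap_apply, map_mul, isUnit_iff_ne_zero] at h4
        refine h4 (mul_eq_zero_of_right _ ?_)
        rwa [Polynomial.aeval_def, ← Polynomial.eval_map]
      rw [hq, Polynomial.eval_mul] at hz
      have hzb : z = b := by
        have := (mul_eq_zero.mp hz).resolve_right hqz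
        simpa [sub_eq_zero] using this
      rw [hres, map_mul, show algebraMap R κ y = z from rfl, hzb, ← mul_assoc,
        show c = algebraMap R κ (algebraMap A R s) from IsScalarTower.algebraMap_apply A R κ s,
        ← map_mul, IsUnit.val_inv_mul, map_one, one_mul]
  · exact isSepClosed h m hκ hker (IsScalarTower.toAlgHom A R κ)

end Groth.Agent.S0675
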