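import Groth.Statements.S17153
import Groth.Agent.Lib.Isoc.Isoclinic
-- import your own Groth.Agent.* helpers here

set_option autoImplicit false
universe u
open Isoc

namespace Groth.Agent.S17153

/-- Let k be a perfect field of characteristic p, W = W(k), L its fraction field, a ∈ ℤ, and λ = d/h
with h > 0 and gcd(d, h) = 1. The standard σ^a-F-isocrystal N_λ of slope λ — the space L^h with the
σ^a-semilinear F determined by F e_i = e_{i+1} (i + 1 < h) and F e_{h−1} = p^d · e_0 — is a simple
isocrystal: an L-subspace of L^h carried into itself by F is either 0 or everything. (The source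
introduces N_λ for a ≠ 0 only; the simplicity argument, via sub-isocrystals of an isoclinic
isocrystal having the same slope, does not use that restriction, and the statement is made for all
a.) -/
theorem result (p : ℕ) [Fact p.Prime] (k : Type u) [Field k] [CharP k p] [PerfectRing k p]
    (a : ℤ) (d : ℤ) (h : ℕ) (hh : 0 < h) (hdh : Int.gcd d h = 1)
    (P : Submodule (FractionRing (WittVector p k)) (Fin h → (FractionRing (WittVector p k))))
    (hP : ∀ x ∈ P, Isoc.stdIsoc (Isoc.frob p k a) d h x ∈ P) : P = ⊥ ∨ P = ⊤ := by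
  have hτ := Groth.Agent.Lib.Isoc.Order.good_frob (p := p) (k := k) a
  set τ := Isoc.frob p k a with hτdef
  set F := Isoc.stdIsoc τ d h with hFdef
  have hne : (p : FractionRing (WittVector p k)) ^ d ≠ 0 :=
    zpow_ne_zero _ Groth.Agent.Lib.Isoc.Order.p_ne_zero
  have hF : Isoc.IsIsoc F := by
    refine ⟨inferInstance, (injective_iff_map_eq_zero F).2 fun x hx => ?_, fun y => ?_⟩
    · funext i
      have h1 := congrFun hx (finRotate h i)
      rw [hFdef, Isoc.stdIsoc_apply, Equiv.symm_apply_apply, Pi.zero_apply, mul_eq_zero] at h1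
      rcases h1 with h1 | h1
      · exact absurd h1 (by split_ifs <;> [exact hne; exact one_ne_zero])
      · exact (map_eq_zero τ).1 h1
    · choose g hg using hτ.bijective.2
      refine ⟨fun j => g ((if (finRotate h j).val = 0 then
        (p : FractionRing (WittVector p k)) ^ d else 1)⁻¹ * y (finRotate h j)), funext fun i => ?_⟩
      rw [hFdef, Isoc.stdIsoc_apply, hg, Equiv.apply_symm_apply, mul_inv_cancel_left₀]
      split_ifs
      · exact hne
      · exact one_ne_zero
  obtain ⟨n, rfl⟩ : ∃ n, h = n + 1 := ⟨h - 1, by omega⟩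
  have hiter : ∀ j, j ≤ n + 1 → ∀ (x : Fin (n + 1) → FractionRing (WittVector p k)) (i : Fin (n + 1)),
      (⇑F)^[j] x i = (if i.val < j then (p : FractionRing (WittVector p k)) ^ d else 1) *
        (⇑τ)^[j] (x ⟨(i.val + (n + 1) - j) % (n + 1), Nat.mod_lt _ (by omega)⟩) := by
    intro j
    induction j with
    | zero =>
      intro _ x i
      simp [Nat.mod_eq_of_lt i.2]
    | succ j ih =>
      intro hj x i
      rw [Function.iterate_succ_apply', hFdef, Isoc.stdIsoc_apply, ← hFdef, ih (by omega),
        map_mul, Function.iterate_succ_apply']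
      have hσ : (((finRotate (n + 1)).symm i : Fin (n + 1)) : ℕ) = if i.val = 0 then n else i.val - 1 := by
        rw [finRotate_symm_apply, Fin.coe_sub_one]
        simp only [Fin.ext_iff, Fin.val_zero]
      simp only [apply_ite τ, map_one, Groth.Agent.Lib.Isoc.Order.map_zpow_p, hσ]
      by_cases hi : i.val = 0
      · simp only [hi, if_true, Nat.zero_lt_succ, if_neg (show ¬ n < j by omega), mul_one]
        rw [one_mul]
        congr 5
        rw [show n + (n + 1) - j = (0 + (n + 1) - (j + 1)) + (n + 1) by omega, Nat.add_mod_right]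
      · simp only [hi, if_false, one_mul, show i.val - 1 < j ↔ i.val < j + 1 by omega]
        congr 4
        simp only [Fin.mk.injEq]
        congr 1
        omega
  have hh : ∀ x i, (⇑F)^[n + 1] x i =
      (p : FractionRing (WittVector p k)) ^ d * (⇑τ)^[n + 1] (x i) := fun x i => by
    rw [hiter (n + 1) le_rfl x i, if_pos i.2]
    congr 3
    exact Fin.ext (by simp [Nat.mod_eq_of_lt i.2])
  obtain ⟨e, he⟩ := Groth.Agent.Lib.Isoc.Order.good_pow hτ (n + 1)
  have he' : ∀ w, (⇑τ)^[n + 1] (algebraMap (WittVector p k) (FractionRing (WittVector p k)) w) =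
      algebraMap (WittVector p k) (FractionRing (WittVector p k)) (e w) := fun w => by
    rw [← RingHom.coe_pow]; exact he w
  let M : Submodule (WittVector p k) (Fin (n + 1) → FractionRing (WittVector p k)) :=
    Submodule.span (WittVector p k) (Set.range fun i => Pi.single i 1)
  have hMmem : ∀ x, x ∈ M ↔ ∀ i, x i ∈ (algebraMap (WittVector p k) (FractionRing (WittVector p k))).range := by
    intro x
    constructor
    · intro hx
      induction hx using Submodule.span_induction with
      | mem y hy =>
        obtain ⟨j, rfl⟩ := hy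
        intro i
        simp only [Pi.single_apply]
        split_ifs <;> [exact one_mem _; exact zero_mem _]
      | zero => exact fun i => zero_mem _
      | add u v _ _ hu hv => exact fun i => add_mem (hu i) (hv i)
      | smul w u _ hu =>
        intro i
        rw [Pi.smul_apply, Groth.Agent.Lib.Isoc.Lattice.w_smul, smul_eq_mul]
        exact mul_mem ⟨w, rfl⟩ (hu i)
    · intro hx
      choose w hw using hx
      have : x = ∑ i, w i • (Pi.single i 1 : Fin (n + 1) → FractionRing (WittVector p k)) := by
        funext i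
        rw [Finset.sum_apply, Finset.sum_eq_single i (fun j _ hj => by
          rw [Pi.smul_apply, Pi.single_eq_of_ne' hj, smul_zero]) (fun hni => absurd (Finset.mem_univ i) hni)]
        rw [Pi.smul_apply, Pi.single_eq_same, Algebra.smul_def, mul_one, hw]
      rw [this]
      exact Submodule.sum_mem _ fun i _ => Submodule.smul_mem _ _ (Submodule.subset_span ⟨i, rfl⟩)
  have hM : M.IsLattice (FractionRing (WittVector p k)) :=
    ⟨Submodule.fg_span (Set.finite_range _), by
      rw [Submodule.span_span_of_tower]
      exact (Pi.basisFun (FractionRing (WittVector p k)) (Fin (n + 1))).span_eq ▸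
        congrArg _ (by ext v; simp)⟩
  have heq : Isoc.latImg F (n + 1) M = Isoc.pPow d M := by
    ext y
    simp only [Groth.Agent.Lib.Isoc.Lattice.mem_latImg hτ, Groth.Agent.Lib.Isoc.Lattice.mem_pPow_iff, hMmem]
    constructor
    · rintro ⟨x, hx, rfl⟩ i
      obtain ⟨w, hw⟩ := hx i
      refine ⟨e w, ?_⟩
      rw [Pi.smul_apply, hh, smul_eq_mul, ← hw, he', ← mul_assoc,
        ← zpow_add₀ Groth.Agent.Lib.Isoc.Order.p_ne_zero, neg_add_cancel, zpow_zero, one_mul]
    · intro hy
      choose w hw using hy
      refine ⟨fun i => algebraMap _ _ (e.symm (w i)), fun i => ⟨_, rfl⟩, funext fun i => ?_⟩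
      rw [hh, he', e.apply_symm_apply, hw, Pi.smul_apply, smul_eq_mul, ← mul_assoc,
        ← zpow_add₀ Groth.Agent.Lib.Isoc.Order.p_ne_zero, add_neg_cancel, zpow_zero, one_mul]
  have hiso : Isoc.IsIsoclinic F ((d : ℚ) / (n + 1 : ℕ)) :=
    ⟨M, hM, d, n + 1, by omega, rfl, heq⟩
  have hP' := Groth.Agent.Lib.Isoc.Isoclinic.isIsoclinic_restrict hτ hF hiso hP
  obtain ⟨X, hX, r, s, hs, hrs, hXeq⟩ := hP'
  have hPF := Groth.Agent.Lib.Isoc.Isoclinic.isIsoc_restrict hτ hF hP
  have := hPF.finite
  let b := Module.finBasis (FractionRing (WittVector p k)) P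
  obtain ⟨d', hd'⟩ := Groth.Agent.Lib.Isoc.Det.exists_isOrdP_detCoeff b hτ hPF.bijective.2
  have h1 := (Groth.Agent.Lib.Isoc.Det.mul_le_of_latImg_le b hτ hd' hX hXeq.le).2.2 hXeq
  by_cases hP0 : P = ⊥
  · exact Or.inl hP0
  right
  refine Submodule.eq_top_of_finrank_eq ?_
  rw [Module.finrank_fin_fun]
  have h2 : (d : ℤ) * Module.finrank (FractionRing (WittVector p k)) P = ((n + 1 : ℕ) : ℤ) * d' := by
    rw [div_eq_div_iff (by exact_mod_cast hs.ne') (by positivity)] at hrs
    have h3 : r * ((n + 1 : ℕ) : ℤ) = d * s := by exact_mod_cast hrs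
    refine mul_left_cancel₀ (show (s : ℤ) ≠ 0 by exact_mod_cast hs.ne') ?_
    calc (s : ℤ) * (d * Module.finrank (FractionRing (WittVector p k)) P)
        = (r * ((n + 1 : ℕ) : ℤ)) * Module.finrank (FractionRing (WittVector p k)) P := by rw [h3]; ring
      _ = ((n + 1 : ℕ) : ℤ) * (r * Module.finrank (FractionRing (WittVector p k)) P) := by ring
      _ = _ := by rw [h1]; ring
  have hdvd : (n + 1) ∣ Module.finrank (FractionRing (WittVector p k)) P := by
    have : ((n + 1 : ℕ) : ℤ) ∣ d * Module.finrank (FractionRing (WittVector p k)) P := ⟨d', h2⟩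
    have hcop : IsCoprime ((n + 1 : ℕ) : ℤ) d := by
      rw [Int.isCoprime_iff_gcd_eq_one, Int.gcd_comm]; exact_mod_cast hdh
    exact Int.natCast_dvd_natCast.1 (hcop.dvd_of_dvd_mul_left this)
  have hle : Module.finrank (FractionRing (WittVector p k)) P ≤ n + 1 := by
    simpa using Submodule.finrank_le P
  have hpos : 0 < Module.finrank (FractionRing (WittVector p k)) P :=
    Nat.pos_of_ne_zero fun h0 => hP0 (Submodule.finrank_eq_zero.1 h0)
  exact le_antisymm hle (Nat.le_of_dvd hpos hdvd)

end Groth.Agent.S17153
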