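import Groth.Statements.S1677
import Groth.Agent.Lib.Synt92.SmoothAmbient
import Groth.Agent.Lib.Synt92.MorCrit
import Groth.Agent.Lib.Synt92.MorStd

set_option autoImplicit false
universe u
open CategoryTheory CategoryTheory.Limits AlgebraicGeometry TopologicalSpace
open SDiv RingTheory.Sequence
open Groth.Agent.Lib.Synt92

namespace Groth.Agent.S1677

theorem mem_basicOpen_iff {X : Scheme.{u}} {U : X.Opens} (hU : IsAffineOpen U) (f : Γ(X, U)) (x : U) :
    (x : X) ∈ X.basicOpen f ↔ f ∉ (hU.primeIdealOf x).asIdeal := by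
  have h : hU.primeIdealOf x ∈ hU.fromSpec ⁻¹ᵁ X.basicOpen f ↔ (x : X) ∈ X.basicOpen f := by
    change hU.fromSpec (hU.primeIdealOf x) ∈ X.basicOpen f ↔ _
    rw [hU.fromSpec_primeIdealOf]
  rw [← h, hU.fromSpec_preimage_basicOpen]
  exact Iff.rfl

theorem notMem_basicOpen {X Y : Scheme.{u}} (i : Y ⟶ X) {U : X.Opens} (f : Γ(X, U))
    (hf : (i.app U).hom f = 0) (z : Y) : i z ∉ X.basicOpen f := fun h => by
  have h1 : z ∈ i ⁻¹ᵁ X.basicOpen f := h
  rw [Scheme.preimage_basicOpen i f] at h1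
  erw [hf, Scheme.basicOpen_zero] at h1
  exact h1

/-- Let X ⟶ S be smooth, Y ⟶ S flat, locally of finite presentation with complete-intersection fibre
local rings (syntomic), and i : Y ⟶ X a closed immersion over S. Then i is a regular closed
immersion. -/
theorem result {X Y S : Scheme.{u}} (p : X ⟶ S) [Smooth p] (i : Y ⟶ X)
    [IsClosedImmersion i] (hY : CInt.IsCIMorphism (i ≫ p)) : Mor2.IsRegularClosedImmersion i := by
  refine ⟨inferInstance, fun z => ?_⟩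
  obtain ⟨V, hV, hzV, -⟩ := exists_isAffineOpen_mem_and_subset (X := S) (x := p (i z)) (U := ⊤) trivial
  obtain ⟨U, hU, hzU, hUV⟩ := exists_isAffineOpen_mem_and_subset (x := i z) (U := p ⁻¹ᵁ V) hzV
  have hW : IsAffineOpen (i ⁻¹ᵁ U) := hU.preimage i
  have e : i ⁻¹ᵁ U ≤ (i ≫ p) ⁻¹ᵁ V := fun y hy => hUV hy
  have hsyn := MorCrit.isSyntomic_appLE (i ≫ p) hY ⟨i ⁻¹ᵁ U, hW⟩ ⟨V, hV⟩ e
  letI := (p.appLE V U hUV).hom.toAlgebra
  haveI : Algebra.Smooth Γ(S, V) Γ(X, U) := RingHom.smooth_algebraMap.1 (p.smooth_appLE hV hU hUV)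
  have hs : Function.Surjective (i.app U).hom := i.app_surjective U hU
  let I : Ideal Γ(X, U) := RingHom.ker (i.app U).hom
  have hI : i.ker.ideal ⟨U, hU⟩ = I := i.ker_apply ⟨U, hU⟩
  letI := ((i ≫ p).appLE V (i ⁻¹ᵁ U) e).hom.toAlgebra
  have hsyn' : Synt.IsSyntomic Γ(S, V) (Γ(X, U) ⧸ I) := by
    refine MorStd.isSyntomic_of_arrow (RingEquiv.refl Γ(S, V))
      (RingHom.quotientKerEquivOfSurjective hs) (fun a => ?_) hsyn
    change (i.app U).hom ((p.appLE V U hUV).hom a) = ((i ≫ p).appLE V (i ⁻¹ᵁ U) e).hom a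
    rw [← Scheme.Hom.appLE_comp_appLE i p V U (i ⁻¹ᵁ U) hUV le_rfl, Scheme.Hom.app_eq_appLE]
    rfl
  haveI : (hU.primeIdealOf ⟨i z, hzU⟩).asIdeal.IsPrime := (hU.primeIdealOf ⟨i z, hzU⟩).isPrime
  obtain ⟨g, hg, l, hl, hreg, hgI⟩ := SmoothAmbient.exists_chart I hsyn'
    (hU.primeIdealOf ⟨i z, hzU⟩).asIdeal fun f hf => by
      by_contra h
      exact notMem_basicOpen i f hf z ((mem_basicOpen_iff hU f ⟨i z, hzU⟩).2 h)
  have hzg : i z ∈ X.basicOpen g := (mem_basicOpen_iff hU g ⟨i z, hzU⟩).2 hg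
  let ρ := (X.presheaf.map (homOfLE (X.basicOpen_le g)).op).hom
  haveI := hU.isLocalization_basicOpen g
  have hker : i.ker.ideal (X.affineBasicOpen (U := ⟨U, hU⟩) g) = Ideal.ofList (l.map ρ) := by
    rw [← i.ker.map_ideal_basicOpen ⟨U, hU⟩ g, hI, ← Ideal.map_ofList]
    refine le_antisymm (Ideal.map_le_iff_le_comap.2 fun y hy => ?_) (Ideal.map_mono (Ideal.span_le.2 hl))
    have h1 := Ideal.mem_map_of_mem ρ (hgI y hy)
    rw [map_mul] at h1
    have hu : IsUnit (ρ g) := IsLocalization.Away.algebraMap_isUnit (S := Γ(X, X.basicOpen g)) g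
    exact (Ideal.unit_mul_mem_iff_mem _ hu).1 h1
  refine ⟨X.basicOpen g, hU.basicOpen g, hzg, l.map ρ, ⟨?_, ?_⟩, hker⟩
  · let E : Localization.Away g ≃ₐ[Γ(X, U)] Γ(X, X.basicOpen g) :=
      IsLocalization.algEquiv (Submonoid.powers g) _ _
    refine (E.toRingEquiv.toAddEquiv.isWeaklyRegular_congr ?_).1 hreg
    rw [List.forall₂_map_left_iff, List.forall₂_map_right_iff, List.forall₂_same]
    intro r _ x
    change E (algebraMap _ _ r * x) = algebraMap Γ(X, U) Γ(X, X.basicOpen g) r * E x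
    rw [map_mul, E.commutes]
  · intro h
    have h1 : (1 : Γ(X, X.basicOpen g)) ∈ Ideal.ofList (l.map ρ) := by
      have : (1 : Γ(X, X.basicOpen g)) ∈ (⊤ : Submodule Γ(X, X.basicOpen g) Γ(X, X.basicOpen g)) := trivial
      rw [h] at this
      simpa using this
    rw [← hker, i.ker_apply] at h1
    change (i.app (X.basicOpen g)).hom 1 = 0 at h1
    rw [map_one] at h1
    haveI := subsingleton_of_zero_eq_one h1.symm
    have hz : z ∈ Y.basicOpen (0 : Γ(Y, i ⁻¹ᵁ X.basicOpen g)) := by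
      rw [Subsingleton.elim (0 : Γ(Y, i ⁻¹ᵁ X.basicOpen g)) 1, Scheme.basicOpen_of_isUnit _ isUnit_one]
      exact hzg
    rw [Scheme.basicOpen_zero] at hz
    exact hz

end Groth.Agent.S1677
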