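import Groth.Statements.S3765
import Groth.Agent.Lib.KVec.PushGood
import Groth.Agent.S1676

set_option autoImplicit false
universe v u
open CategoryTheory CategoryTheory.Limits AlgebraicGeometry
attribute [local instance] HasDerivedCategory.standard
open KRR

namespace Groth.Agent.S3765

/-- For the trivial bundle P = P^n_Y: let Y be a connected Noetherian scheme, p : P ⟶ Y the projection
and s : Y ⟶ P a section of p (s ≫ p = 𝟙); assume every coherent module on P is a quotient of a
finite locally free one. Then s is a regular closed imbedding (of codimension n), and with models of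
K(Y), K(P), the push-forward s_K (via finite locally free resolutions of s_*F) and p_K (via regular
sheaves) satisfy p_K ∘ s_K = id. -/
theorem result (n : ℕ) (Y : Scheme.{u}) [IsNoetherian Y] [ConnectedSpace ↥Y]
    (hPe : KRR.HasEnoughLocFree (KRR.PY n Y)) (s : Y ⟶ KRR.PY n Y) (hs : s ≫ KRR.pr n Y = 𝟙 Y)
    (KP : Type v) [CommRing KP] [LambdaRing.LambdaOps KP] (PP : LambdaRing.PosStructure KP) (φP : SGA6.Kvb (KRR.PY n Y) →+ KP) (hKP : KRR.IsModel (KRR.PY n Y) KP PP φP)
    (KY : Type v) [CommRing KY] [LambdaRing.LambdaOps KY] (PY : LambdaRing.PosStructure KY) (φY : SGA6.Kvb Y →+ KY) (hKY : KRR.IsModel Y KY PY φY)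
    (gs : KY →+ KP) (hgs : KRR.IsPushCl s φY φP gs) (gp : KP →+ KY) (hgp : KRR.IsPushPr n Y φP φY gp) :
    Mor2.IsRegularClosedImmersion s ∧ gp.comp gs = AddMonoidHom.id KY := by
  have : Smooth (KRR.pr n Y) := Lib.ProjSpace.BaseChange.smooth_toBase n Y
  have : IsClosedImmersion (s ≫ KRR.pr n Y) := by rw [hs]; infer_instance
  have : IsClosedImmersion s := IsClosedImmersion.of_comp s (KRR.pr n Y)
  have hreg := Groth.Agent.S1676.result (KRR.pr n Y) s hs
  refine ⟨hreg, AddMonoidHom.ext fun y => ?_⟩
  obtain ⟨z, rfl⟩ := hKY.bijective.2 y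
  have key : (gp.comp gs).comp φY = φY := Lib.KRes.KSub.hom_ext (P := KRR.vbP Y) fun F hF => by
    show gp (gs (φY (KRR.cl Y F))) = φY (KRR.cl Y F)
    rw [Lib.KVec.PushCl.pushCl_apply hPe s hgs hF (Lib.KVec.PushBPD.bpd_push s hreg hF),
      Lib.KVec.PushGood.push_χcl hPe hKP hKY hgp (Lib.KVec.PushGood.good_section s hs hreg hF)]
    let e : (Scheme.Modules.pushforward (KRR.pr n Y)).obj ((Scheme.Modules.pushforward s).obj F) ≅ F :=
      ((Scheme.Modules.pushforwardComp s (KRR.pr n Y)) ≪≫ Scheme.Modules.pushforwardCongr hs ≪≫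
        Scheme.Modules.pushforwardId Y).app F
    exact congrArg φY (Lib.KAugNil98.Main.cl_iso e (Lib.KVec.PushGood.locFree_push (Lib.KVec.PushGood.good_section s hs hreg hF)))
  exact DFunLike.congr_fun key z

end Groth.Agent.S3765
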