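import Groth.Statements.S2107
import Groth.Agent.H20.EssAffine
import Groth.Agent.H20.FlatInj

set_option autoImplicit false
universe u
open CAlg

namespace Groth.Agent.S2107

/-- Let `R → S` be a local homomorphism of local rings with `S` essentially of finite presentation over
`R`, `M`, `N` finitely presented `S`-modules with `N` flat over `R`, and `u : M → N` an `S`-linear
map which is injective modulo `𝔪_R`. Then `u` is injective and its cokernel is flat over `R`. -/
theorem result {R S M N : Type u} [CommRing R] [CommRing S] [IsLocalRing R]
    [IsLocalRing S] [Algebra R S] [IsLocalHom (algebraMap R S)] (hS : CAlgX.IsEssFinitePresentation R S)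
    [AddCommGroup M] [Module S M] [Module R M] [IsScalarTower R S M] [Module.FinitePresentation S M]
    [AddCommGroup N] [Module S N] [Module R N] [IsScalarTower R S N] [Module.FinitePresentation S N] [Module.Flat R N]
    (u : M →ₗ[S] N)
    (hu : ∀ x : M, u x ∈ (IsLocalRing.maximalIdeal R).map (algebraMap R S) • (⊤ : Submodule S N) →
      x ∈ (IsLocalRing.maximalIdeal R).map (algebraMap R S) • (⊤ : Submodule S M)) :
    Function.Injective u ∧ Module.Flat R (N ⧸ LinearMap.range u) := by
  classical
  obtain ⟨S₀, _, _, _, _, Msub, _, _⟩ := hS
  obtain ⟨d, q, _, hq, ψ, hψ, hψfg⟩ :=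
    Groth.Agent.H20.EssAffine.exists_localization_presentation R S S₀ Msub
  let T := Localization.AtPrime q
  letI : Algebra T S := ψ.toRingHom.toAlgebra
  haveI : IsScalarTower R T S := IsScalarTower.of_algebraMap_eq fun a => (ψ.commutes a).symm
  haveI : Module.FinitePresentation T S :=
    Module.finitePresentation_of_surjective (Algebra.linearMap T S) hψ hψfg
  letI : Module T M := Module.compHom M (algebraMap T S)
  haveI : IsScalarTower T S M := IsScalarTower.of_algebraMap_smul fun _ _ => rfl
  haveI : IsScalarTower R T M := IsScalarTower.of_algebraMap_smul fun a x => by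
    show algebraMap T S (algebraMap R T a) • x = a • x
    rw [← IsScalarTower.algebraMap_apply, algebraMap_smul]
  letI : Module T N := Module.compHom N (algebraMap T S)
  haveI : IsScalarTower T S N := IsScalarTower.of_algebraMap_smul fun _ _ => rfl
  haveI : IsScalarTower R T N := IsScalarTower.of_algebraMap_smul fun a x => by
    show algebraMap T S (algebraMap R T a) • x = a • x
    rw [← IsScalarTower.algebraMap_apply, algebraMap_smul]
  haveI : Module.Finite T M := Module.Finite.trans S M
  haveI : Module.FinitePresentation T N := Module.FinitePresentation.trans T N S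
  have h := Groth.Agent.H20.FlatInj.injective_and_flat_coker q hq (u.restrictScalars T) fun x hx => by
    have h1 : u x ∈ (IsLocalRing.maximalIdeal R).map (algebraMap R S) • (⊤ : Submodule S N) := by
      rw [← Submodule.restrictScalars_mem R, Ideal.smul_restrictScalars, Submodule.restrictScalars_top]
      exact hx
    have h2 := hu x h1
    rwa [← Submodule.restrictScalars_mem R, Ideal.smul_restrictScalars, Submodule.restrictScalars_top] at h2
  have he : LinearMap.range (u.restrictScalars T) = (LinearMap.range u).restrictScalars T :=
    LinearMap.range_restrictScalars u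
  haveI := h.2
  exact ⟨h.1, Module.Flat.of_linearEquiv (((Submodule.quotEquivOfEq _ _ he).trans
    (Submodule.Quotient.restrictScalarsEquiv T (LinearMap.range u))).symm.restrictScalars R)⟩

end Groth.Agent.S2107
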