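import Groth.Statements.S0824
import Groth.Agent.Lib.ResDescend36.Ample
import Groth.Agent.Lib.ZarCoh.Bounded
import Groth.Agent.Lib.Curves.LES
import Groth.Agent.Lib.Perfect.Top
import Groth.Agent.Lib.Perfect.Coherent
import Groth.Agent.Lib.ProjCoh.Horrocks
import Groth.Agent.Lib.Ample.Basis
import Groth.Agent.H34.HOne
import Groth.Agent.Lib.ProjKoszul.Reg2

set_option autoImplicit false
universe u
open Coherent

namespace Groth.Agent.S0824

open CategoryTheory CategoryTheory.Limits AlgebraicGeometry TopologicalSpace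
open Groth.Agent.Lib Groth.Agent.Lib.TensorMod Groth.Agent.Lib.TensorMod.Basic
open Groth.Agent.Lib.Modules.StalkModule
open Groth.Agent.Lib.Ample.GenLocus (sv sv_comp exists_coord genLocus_inf_eq le_genLocus isGen_one isGen_tmul
  pairM_id genLocus_comp_iso exists_hom_of_sec rs_sv)
open Groth.Agent.Lib.TensorMod.Dual (rs)
open Groth.Agent.Lib.TensorMod.Gen (one)

noncomputable section

variable {X : Scheme.{u}} {P D : X.Modules}

/-- The locus of a section of `O ⊗ D` pushed into `P ⊗ D`. -/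
theorem genLocus_tmap (hP : PicF.IsInvertible P) (hD : PicF.IsInvertible D)
    (s : Coh.structureModule X ⟶ P)
    (ρ : Coh.structureModule X ⟶ CohB1.tensorMod (Coh.structureModule X) D) :
    CohB1.genLocus _ (ρ ≫ tmap s (𝟙 D)) = CohB1.genLocus _ ρ ⊓ CohB1.genLocus _ s := by
  apply Opens.ext
  apply Set.ext
  intro x
  obtain ⟨U₁, e, hx₁, he⟩ := TensorMod.Gen.isInvertible_iff.1 hP x
  obtain ⟨U₂, e', hx₂, he'⟩ := TensorMod.Gen.isInvertible_iff.1 hD x
  have hU := he.res (inf_le_left : U₁ ⊓ U₂ ≤ U₁)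
  have hU' := he'.res (inf_le_right : U₁ ⊓ U₂ ≤ U₂)
  let e₁ : Γ(P, U₁ ⊓ U₂) := rs P inf_le_left e
  let e₂ : Γ(D, U₁ ⊓ U₂) := rs D inf_le_right e'
  have hgρ : Gen.IsGen (CohB1.tensorMod (Coh.structureModule X) D) (U₁ ⊓ U₂)
      (Free.pairM (𝟙 _) (one X (U₁ ⊓ U₂)) e₂) := isGen_tmul (isGen_one (U₁ ⊓ U₂)) hU'
  obtain ⟨a, ha⟩ := exists_coord hU (sv s (U₁ ⊓ U₂))
  obtain ⟨b, hb⟩ := exists_coord hgρ (sv ρ (U₁ ⊓ U₂))
  have hab : sv (ρ ≫ tmap s (𝟙 D)) (U₁ ⊓ U₂) =
      (b * a) • (Free.pairM (𝟙 (CohB1.tensorMod P D)) e₁ e₂) := by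
    rw [sv_comp, hb, (tmap s (𝟙 D)).app_smul, ← smul_smul]
    congr 1
    rw [← Free.pairM_comp, Category.id_comp, Free.pairM_tmap]
    refine (congrArg (fun z => Free.pairM (𝟙 _) z _) ha).trans ?_
    exact TensorMod.Pullback.pairM_smul_left _ _ _ _
  have h1 := SetLike.ext_iff.1 (genLocus_inf_eq (isGen_tmul hU hU') _ hab) x
  rw [Scheme.basicOpen_mul, ← genLocus_inf_eq hgρ ρ hb, ← genLocus_inf_eq hU s ha] at h1
  exact ⟨fun h => ⟨(h1.1 ⟨h, hx₁, hx₂⟩).1.1, (h1.1 ⟨h, hx₁, hx₂⟩).2.1⟩,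
    fun h => (h1.2 ⟨⟨h.1, hx₁, hx₂⟩, h.2, hx₁, hx₂⟩).1⟩

/-- Sections generating everywhere give an epimorphism from a free module. -/
theorem epi_of_cover {N : ℕ} (s : Fin N → (Coh.structureModule X ⟶ P))
    (hcov : ∀ x, ∃ i, x ∈ CohB1.genLocus _ (s i)) : Epi (Sigma.desc s) := by
  refine (Modules.Stalk.epi_iff_stalk_surjective _).2 fun x (v : P.presheaf.stalk x) => ?_
  obtain ⟨i, hi⟩ := hcov x
  obtain ⟨W, hxW, c, rfl⟩ := TopCat.Presheaf.exists_germ_eq P.presheaf v
  obtain ⟨a, ha⟩ := exists_coord ((Ample.Basis.isGen_genLocus (s i)).res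
    (inf_le_left : CohB1.genLocus _ (s i) ⊓ W ≤ _)) (rs P inf_le_right c)
  let V := CohB1.genLocus _ (s i) ⊓ W
  let ι' : Coh.structureModule X ⟶ ∐ fun _ : Fin N => Coh.structureModule X :=
    Sigma.ι (fun _ : Fin N => Coh.structureModule X) i
  have hV : (Sigma.desc s).app V (ι'.app V (a • one X V)) = rs P inf_le_right c := by
    rw [ha, ι'.app_smul, (Sigma.desc s).app_smul, rs_sv]
    congr 1
    exact congrArg (fun φ => φ.app V (one X V)) (Sigma.ι_desc s i)
  refine ⟨(∐ fun _ : Fin N => Coh.structureModule X).presheaf.germ V x ⟨hi, hxW⟩ (ι'.app V (a • one X V)), ?_⟩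
  refine (stalkMapₗ_germ (Sigma.desc s) _ _).trans ?_
  rw [hV]
  exact TopCat.Presheaf.germ_res_apply _ _ _ _ _

/-- A splitting of the sections of an epimorphism onto `O` makes the scheme affine. -/
theorem isAffine_of_split (hP : PicF.IsInvertible P) (hD : PicF.IsInvertible D)
    (i : CohB1.tensorMod P D ≅ Coh.structureModule X) {N : ℕ} (s : Fin N → (Coh.structureModule X ⟶ P))
    (hs : ∀ j, IsAffineOpen (CohB1.genLocus _ (s j)))
    (ψ : (∐ fun _ : Fin N => CohB1.tensorMod (Coh.structureModule X) D) ⟶ Coh.structureModule X)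
    (hψ : ∀ j, Sigma.ι (fun _ : Fin N => CohB1.tensorMod (Coh.structureModule X) D) j ≫ ψ =
      tmap (s j) (𝟙 D) ≫ i.hom)
    (hsurj : Function.Surjective (ψ.app ⊤)) : IsAffine X := by
  classical
  let T := CohB1.tensorMod (Coh.structureModule X) D
  obtain ⟨w, hw⟩ := hsurj (one X ⊤)
  obtain ⟨τ, hτ⟩ := exists_hom_of_sec w
  let π : Fin N → ((∐ fun _ : Fin N => T) ⟶ T) := fun j =>
    Sigma.desc fun k => if k = j then 𝟙 T else 0
  let σ : Fin N → (Coh.structureModule X ⟶ Coh.structureModule X) := fun j =>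
    ((τ ≫ π j) ≫ tmap (s j) (𝟙 D)) ≫ i.hom
  have htot : ∑ j, π j ≫ Sigma.ι (fun _ : Fin N => T) j = 𝟙 _ := Sigma.hom_ext _ _ fun j => by
    rw [Preadditive.comp_sum, Category.comp_id, Finset.sum_eq_single j]
    · simp [π]
    · intro b _ hb; simp [π, Ne.symm hb]
    · simp
  have hsum : ∑ j, σ j = τ ≫ ψ := by
    have e : τ ≫ ψ = τ ≫ (∑ j, π j ≫ Sigma.ι (fun _ : Fin N => T) j) ≫ ψ := by
      rw [htot, Category.id_comp]
    rw [e, Preadditive.sum_comp, Preadditive.comp_sum]
    refine Finset.sum_congr rfl fun j _ => ?_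
    simp only [σ, Category.assoc]
    rw [← hψ j]
  have hO : PicF.IsInvertible (Coh.structureModule X) := PicLoc.isInvertible_structureModule X
  have haff : ∀ j, IsAffineOpen (CohB1.genLocus _ (σ j)) := fun j => by
    rw [genLocus_comp_iso, genLocus_tmap hP hD]
    exact Ample.Basis.isAffineOpen_genLocus_inf
      (Invertible.isInvertible_tensorMod hO hD) _ (hs j)
  have htop : CohB1.genLocus _ (∑ j, σ j) = ⊤ := by
    refine top_le_iff.1 (le_genLocus ?_)
    have e : sv (∑ j, σ j) ⊤ = one X ⊤ := by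
      rw [hsum, sv_comp, hτ, hw]
    rw [e]
    exact isGen_one ⊤
  have := Ample.Basis.isAffineOpen_genLocus_sum hO σ haff
  rw [htop] at this
  haveI : IsAffine (⊤ : X.Opens).toScheme := this
  exact IsAffine.of_isIso X.topIso.inv

/-- The third term of a short exact sequence with vanishing neighbours. -/
theorem les_vanish {E F : X.Modules} (π : E ⟶ F) (hπ : Epi π) (p : ℕ)
    (h₂ : Subsingleton (Coh.HH X E p)) (h₁ : Subsingleton (Coh.HH X (kernel π) (p + 1))) :
    Subsingleton (Coh.HH X F p) := by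
  let S : ShortComplex X.Modules := ShortComplex.mk (kernel.ι π) π (kernel.condition π)
  have hS : S.ShortExact :=
    { exact := ShortComplex.exact_of_f_is_kernel _ (kernelIsKernel π), epi_g := hπ }
  letI : X.Over (Spec Γ(X, ⊤)) := ⟨X.toSpecΓ⟩
  exact ProjKoszul.Reg2.sub₃ Γ(X, ⊤) (S := S) hS h₂ h₁

/-- A twist generated by sections gives an epimorphism from a sum of copies of the inverse. -/
theorem exists_epi_sum {F : X.Modules} (hD : PicF.IsInvertible D)
    (i : CohB1.tensorMod P D ≅ Coh.structureModule X) (k : ℕ)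
    (q : FlatMod.freeMod X k ⟶ CohB1.tensorMod F P) (hq : Epi q) :
    ∃ π : (∐ fun _ : Fin k => D) ⟶ F, Epi π ∧ FlatMod.IsFinLocFree (∐ fun _ : Fin k => D) := by
  have := LocFree.preservesFinCoproducts (tensorBy D) (Fin k)
  let eE : (tensorBy D).obj (FlatMod.freeMod X k) ≅ ∐ fun _ : Fin k => D :=
    PreservesCoproduct.iso (tensorBy D) _ ≪≫ Sigma.mapIso fun _ => leftUnit D
  obtain ⟨π, hπ⟩ := @ProjCoh.Coherent.exists_epi_of_twist X P D _ F _ i q hq eE
  exact ⟨π, hπ, LocFree.of_iso eE (LocFree.isFinLocFree_tensorMod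
    (LocFree.of_rank (LocFree.isFinLocFree_freeMod X k)) (LocFree.of_rank (LocFree.of_isInvertible hD)))⟩

/-- Cohomology of a finite sum. -/
theorem subsingleton_sigma (N : ℕ) (T : X.Modules) (q : ℕ) (h : Subsingleton (Coh.HH X T q)) :
    Subsingleton (Coh.HH X (∐ fun _ : Fin N => T) q) := by
  letI : X.Over (Spec Γ(X, ⊤)) := ⟨X.toSpecΓ⟩
  exact ProjCoh.Horrocks.subsingleton_HH_sigma (A := Γ(X, ⊤)) (fun _ : Fin N => T) q fun _ => h

end

open CategoryTheory AlgebraicGeometry in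
/-- Let X be a scheme with an ample invertible module L, and let L' be an inverse of L (L ⊗ L' ≅ O_X).
If there is n₀ such that H^p(X, L'^n) = 0 for all n ≥ n₀ and all p > 0, then X is affine. -/
theorem result (X : Scheme.{u}) (L L' : X.Modules)
    (hL : CohB1.IsAmple L) (hinv : Nonempty (CohB1.tensorMod L L' ≅ Coh.structureModule X)) (n₀ : ℕ)
    (h : ∀ n : ℕ, n₀ ≤ n → ∀ p : ℕ, 0 < p → Subsingleton (Coh.HH X (CohB1.tensorPow L' n) p)) :
    IsAffine X := by
  haveI : CompactSpace X := hL.2.1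
  haveI := Ample.Pullback.quasiSeparatedSpace_of_isAmple hL
  obtain ⟨e⟩ := hinv
  have hpair : ∀ n, Nonempty (CohB1.tensorMod (CohB1.tensorPow L n) (CohB1.tensorPow L' n) ≅
      Coh.structureModule X) := fun n =>
    ⟨(Ample.Pow.powTensor L L' n).symm ≪≫ Ample.Pow.powIso e n ≪≫ Ample.Pow.powUnit X n⟩
  have hinvp : ∀ n, PicF.IsInvertible (CohB1.tensorPow L' n) := fun n => by
    obtain ⟨i⟩ := hpair n
    have hP := Invertible.isInvertible_tensorPow hL.1 n
    refine Invertible.isInvertible_of_iso ?_ (Invertible.isInvertible_dual hP)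
    exact (rightUnit _).symm ≪≫ tensorIso (Iso.refl _) i.symm ≪≫ (assoc _ _ _).symm ≪≫
      tensorIso (comm _ _ ≪≫ Invertible.tensorDualIso hP) (Iso.refl _) ≪≫ leftUnit _
  obtain ⟨d, hd⟩ := ZarCoh.Bounded.exists_bound_HH X
  have hvb : ∀ j p : ℕ, d ≤ p + j → 0 < p → ∀ F : X.Modules, FlatMod.IsFinLocFree F →
      Subsingleton (Coh.HH X F p) := by
    intro j
    induction j with
    | zero => exact fun p hp _ F hF => hd F (Perfect.Coherent.isCoh_of_isFinLocFree hF).1 p (by omega)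
    | succ j ih =>
      intro p hp hp0 F hF
      obtain ⟨n₁, hn₁⟩ := Ample.GG.eventually_genAt_twist hL F (Perfect.Coherent.isCoh_of_isFinLocFree hF)
      let n := max n₀ n₁
      let P := CohB1.tensorPow L n
      let D := CohB1.tensorPow L' n
      have hP := Invertible.isInvertible_tensorPow hL.1 n
      have hFc := Perfect.Coherent.isCoh_of_isFinLocFree hF
      haveI := hFc.1
      haveI := hFc.2
      haveI := (Ample.GG.isCoh_of_isInvertible hP).1
      haveI := (Ample.GG.isCoh_of_isInvertible hP).2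
      have hc : Coh.IsCoh (CohB1.tensorMod F P) :=
        ⟨TensorQCoh.isQCoh_tensorMod _ _, TensorQCoh.isFiniteType_tensorMod _ _⟩
      obtain ⟨k, q, hq⟩ := ResDescend36.Ample.exists_epi_freeMod _ hc (hn₁ n (le_max_right _ _))
      obtain ⟨i⟩ := hpair n
      obtain ⟨π, hπ, hE⟩ := exists_epi_sum (hinvp n) i k q hq
      exact les_vanish π hπ p (subsingleton_sigma k D p (h n (le_max_left _ _) p hp0))
        (ih (p + 1) (by omega) (by omega) _ (Perfect.Top.isFinLocFree_kernel π hE hF))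
  obtain ⟨m, -, N, s, hs, hcov⟩ := Ample.GG.exists_common_pow hL
  obtain ⟨i⟩ := hpair m
  have hP := Invertible.isInvertible_tensorPow hL.1 m
  let D := CohB1.tensorPow L' m
  haveI := epi_of_cover s hcov
  have := LocFree.preservesFinCoproducts (tensorBy D) (Fin N)
  let c := PreservesCoproduct.iso (tensorBy D) (fun _ : Fin N => Coh.structureModule X)
  let ψ := c.inv ≫ (tensorBy D).map (Sigma.desc s) ≫ i.hom
  haveI : Epi ((tensorBy D).map (Sigma.desc s)) := inferInstance
  haveI : Epi ((tensorBy D).map (Sigma.desc s) ≫ i.hom) := @epi_comp _ _ _ _ _ _ ‹_› _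
    (@IsIso.epi_of_iso _ _ _ _ _ i.isIso_hom)
  haveI : Epi ψ := @epi_comp _ _ _ _ _ _ (@IsIso.epi_of_iso _ _ _ _ _ c.isIso_inv) _ ‹_›
  refine isAffine_of_split hP (hinvp m) i s hs ψ (fun j => ?_) ?_
  · have hc : Sigma.ι (fun _ : Fin N => (tensorBy D).obj (Coh.structureModule X)) j ≫ c.inv =
        (tensorBy D).map (Sigma.ι (fun _ : Fin N => Coh.structureModule X) j) :=
      ι_comp_sigmaComparison _ _ j
    have hd : (tensorBy D).map (Sigma.ι (fun _ : Fin N => Coh.structureModule X) j) ≫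
        (tensorBy D).map (Sigma.desc s) = tmap (s j) (𝟙 D) := by
      rw [← Functor.map_comp, Sigma.ι_desc]
      rfl
    rw [← hd, ← hc]
    exact (Category.assoc _ _ _).symm.trans ((Category.assoc _ _ _).symm.trans (by rfl))
  · let S : ShortComplex X.Modules := ShortComplex.mk (kernel.ι ψ) ψ (kernel.condition ψ)
    have hS : S.ShortExact :=
      { exact := ShortComplex.exact_of_f_is_kernel _ (kernelIsKernel ψ), epi_g := inferInstance }
    have hE : FlatMod.IsFinLocFree (∐ fun _ : Fin N => CohB1.tensorMod (Coh.structureModule X) D) :=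
      LocFree.of_iso c (LocFree.isFinLocFree_tensorMod
        (LocFree.of_rank (LocFree.isFinLocFree_freeMod X N))
        (LocFree.of_rank (LocFree.of_isInvertible (hinvp m))))
    exact Groth.Agent.H34.HOne.app_top_surjective hS
      (hvb d 1 (by omega) one_pos _ (Perfect.Top.isFinLocFree_kernel ψ hE
        (LocFree.of_rank (LocFree.of_isInvertible (PicLoc.isInvertible_structureModule X)))))

end Groth.Agent.S0824
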