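import Groth.Statements.S8914
import Groth.Agent.Lib.ClSub.Cartier
import Groth.Agent.Lib.TensorMod.Gen

set_option autoImplicit false
universe u
open CategoryTheory CategoryTheory.Limits AlgebraicGeometry TopologicalSpace
open SDiv

namespace Groth.Agent.S8914

/-- Let S be a scheme and D ⊆ S a closed subscheme with quasi-coherent ideal sheaf 𝓘. Then the ideal
sheaf of D is an invertible O_S-module (that is, D is an effective Cartier divisor) if and only if
every point has an affine open neighbourhood Spec A in S with D ∩ Spec A = Spec A/(f) for a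
nonzerodivisor f ∈ A. -/
theorem result {S : Scheme.{u}} (𝓘 : S.IdealSheafData) :
    PicF.IsInvertible (ClSub.idealMod 𝓘) ↔ BlowUp.IsEffCartierIdeal 𝓘 := by
  refine ⟨fun h x => ?_, Groth.Agent.Lib.ClSub.Cartier.isInvertible_idealMod⟩
  obtain ⟨U₀, e₀, hx₀, he₀⟩ := Groth.Agent.Lib.TensorMod.Gen.isInvertible_iff.1 h x
  obtain ⟨U, hU, hx, hUU⟩ := exists_isAffineOpen_mem_and_subset hx₀
  have he := he₀.res (show U ≤ U₀ from hUU) U le_rfl
  generalize Groth.Agent.Lib.TensorMod.Dual.rs (ClSub.idealMod 𝓘) (show U ≤ U₀ from hUU) e₀ = e at he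
  simp only [Groth.Agent.Lib.TensorMod.Dual.rs_self] at he
  let ι : Γ(ClSub.idealMod 𝓘, U) → Γ(S, U) := fun m => (ClSub.idealModι 𝓘).app U m
  have hι : ∀ r : Γ(S, U), ι (r • e) = r * ι e := fun r => Scheme.Modules.Hom.app_smul (ClSub.idealModι 𝓘) r e
  refine ⟨⟨U, hU⟩, hx, ι e, mem_nonZeroDivisors_iff.2 ⟨fun r hr => ?_, fun r hr => ?_⟩, ?_⟩
  · refine he.1 (Groth.Agent.Lib.ClSub.Sections.idealModι_app_injective 𝓘 U ?_)
    change ι (r • e) = ι ((0 : Γ(S, U)) • e)
    rw [hι, hι, zero_mul, mul_comm]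
    exact hr
  · refine he.1 (Groth.Agent.Lib.ClSub.Sections.idealModι_app_injective 𝓘 U ?_)
    change ι (r • e) = ι ((0 : Γ(S, U)) • e)
    rw [hι, hι, zero_mul]
    exact hr
  · ext s
    refine ((Groth.Agent.Lib.ClSub.Sections.mem_range_idealModι_app_affine_iff 𝓘 ⟨U, hU⟩ s).symm.trans ?_).trans
      (Ideal.mem_span_singleton' (α := Γ(S, U))).symm
    constructor
    · rintro ⟨m, rfl⟩
      obtain ⟨r, rfl⟩ := he.2 m
      exact ⟨r, (hι r).symm⟩
    · rintro ⟨r, rfl⟩
      exact ⟨r • e, hι r⟩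

end Groth.Agent.S8914
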