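import Groth.Statements.S3354
import Groth.Agent.H80.Clopen.LinePunctured

set_option autoImplicit false
set_option backward.isDefEq.respectTransparency false
universe u
open CategoryTheory CategoryTheory.Limits AlgebraicGeometry
open ParaF

namespace Groth.Agent.S3354

/-- The graded ring of a principal ideal with regular generator is free. -/
theorem free_gr {A : Type u} [CommRing A] (t : A) (hreg : IsSMulRegular A t) (n : ℕ) :
    Module.Free (A ⧸ Ideal.span {t}) (↥(Ideal.span {t} ^ n) ⧸
      (Ideal.span {t} • (⊤ : Submodule A ↥(Ideal.span {t} ^ n)))) := by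
  set J := Ideal.span {t} with hJ
  have hpow : J ^ n = Ideal.span {t ^ n} := Ideal.span_singleton_pow t n
  let v : ↥(J ^ n) := ⟨t ^ n, Ideal.pow_mem_pow (Ideal.mem_span_singleton_self t) n⟩
  refine Module.Free.of_equiv (LinearEquiv.ofBijective
    (LinearMap.toSpanSingleton (A ⧸ J) _ ((J • (⊤ : Submodule A ↥(J ^ n))).mkQ v)) ⟨?_, ?_⟩)
  · rw [injective_iff_map_eq_zero]
    intro r hr
    obtain ⟨r, rfl⟩ := Ideal.Quotient.mk_surjective r
    rw [LinearMap.toSpanSingleton_apply, ← Ideal.Quotient.algebraMap_eq,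
      IsScalarTower.algebraMap_smul, ← map_smul, Submodule.mkQ_apply,
      Submodule.Quotient.mk_eq_zero, Submodule.mem_smul_top_iff] at hr
    have h' : r * t ^ n ∈ J ^ (n + 1) := (pow_succ' J n).ge hr
    rw [Ideal.span_singleton_pow, Ideal.mem_span_singleton'] at h'
    obtain ⟨c, hc⟩ := h'
    rw [Ideal.Quotient.eq_zero_iff_mem, hJ, Ideal.mem_span_singleton']
    exact ⟨c, (hreg.pow n) (show t ^ n * (c * t) = t ^ n * r by rw [pow_succ] at hc; linear_combination hc)⟩
  · intro y
    obtain ⟨⟨y, hy⟩, rfl⟩ := Submodule.mkQ_surjective _ y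
    obtain ⟨c, rfl⟩ := Ideal.mem_span_singleton'.mp (hpow.le hy)
    refine ⟨Ideal.Quotient.mk J c, ?_⟩
    rw [LinearMap.toSpanSingleton_apply, ← Ideal.Quotient.algebraMap_eq,
      IsScalarTower.algebraMap_smul, ← map_smul]
    rfl

/-- Let A be a Noetherian local ring which is a quotient of a regular local ring, t an A-regular element
of the maximal ideal such that A is complete for the t-adic topology, X the punctured spectrum of A
and Y = V(t) ∩ X (the punctured spectrum of B = A/tA, as the closed subscheme of X cut out by t).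
Assume (a) A_p has depth ≥ 2 for every prime p with dim A/p = 1 (the closed points of X) and (b) B
has depth ≥ 3. Then the map Pic(X) → Pic(Y) has trivial kernel: an invertible O_X-module whose
pull-back to Y is trivial is trivial. In particular, if B is parafactorial then A is parafactorial. -/
theorem result (R : Type u) [CommRing R] [IsRegularLocalRing R] (A : Type u) [CommRing A] [IsLocalRing A] [IsNoetherianRing A] (π : R →+* A) (hπ : Function.Surjective π) (t : A) (ht : t ∈ IsLocalRing.maximalIdeal A) (hreg : IsSMulRegular A t) [IsAdicComplete (Ideal.span {t}) A] (ha : ∀ p : PrimeSpectrum A, ringKrullDim (A ⧸ p.asIdeal) = 1 → (2 : ℕ∞) ≤ LocCoh.depth (Localization.AtPrime p.asIdeal) (Localization.AtPrime p.asIdeal)) [IsLocalRing (A ⧸ Ideal.span {t})] (hb : (3 : ℕ∞) ≤ LocCoh.depth (A ⧸ Ideal.span {t}) (A ⧸ Ideal.span {t})) : Formal2.PicPullbackInjective (((Spec.map (CommRingCat.ofHom (Ideal.Quotient.mk (Ideal.span {t})))).ker.comap (FEt.puncturedSpec A).ι)).subschemeι ∧ (ParaF.IsParafactorialLocalRing (A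 ⧸ Ideal.span {t}) → ParaF.IsParafactorialLocalRing A) := by
  let J : Ideal A := Ideal.span {t}
  have hJ : J ≠ ⊤ := Ideal.Quotient.nontrivial_iff.mp inferInstance
  have hgr := free_gr t hreg
  refine ⟨fun L hL htriv => ?_, fun hB => ?_⟩
  · refine H80.Clopen.trivial_of_pullback J hJ hb hgr L hL fun s hs => ?_
    obtain ⟨φ⟩ := htriv
    let q : Spec (CommRingCat.of (A ⧸ J)) ⟶ Spec (CommRingCat.of A) :=
      Spec.map (CommRingCat.ofHom (Ideal.Quotient.mk J))
    let U₀ := FEt.puncturedSpec (A ⧸ J)
    let i := ((q.ker.comap (FEt.puncturedSpec A).ι)).subschemeι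
    let j : (U₀ : Scheme.{u}) ⟶ (q.ker.comap (FEt.puncturedSpec A).ι).subscheme :=
      pullback.lift s (U₀.ι ≫ q.toImage) (by
        rw [Category.assoc]; exact hs.trans (congrArg (U₀.ι ≫ ·) q.toImage_imageι.symm)) ≫
        (q.ker.comapIso (FEt.puncturedSpec A).ι).inv
    have hj : j ≫ i = s := by simp [j, i]
    rw [← hj]
    exact ⟨((Scheme.Modules.pullbackComp j i).app L).symm ≪≫
      (Scheme.Modules.pullback j).mapIso φ ≪≫ PicLoc.pullbackStructureIso j⟩
  · obtain ⟨-, hpic⟩ := (Lib.ParaF.Local.isParafactorialLocalRing_iff _).mp hB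
    have hd := H80.Clopen.three_le_depth_of_gr_free J hJ hb hgr
    exact (Lib.ParaF.Local.isParafactorialLocalRing_iff A).mpr
      ⟨H78.ParaF.Punctured.res_bijective_of_depth A (le_trans (by norm_num) hd),
        H80.Clopen.picTrivial_of_gr_free J hJ hb hgr hpic⟩

end Groth.Agent.S3354
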