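import Groth.Statements.S13507
import Groth.Agent.H88.MuLocal
import Mathlib.RingTheory.Polynomial.Cyclotomic.Roots
-- import your own Groth.Agent.* helpers here

set_option autoImplicit false
universe u
open CategoryTheory CategoryTheory.Limits AlgebraicGeometry
open EtCore

namespace Groth.Agent.S13507

/-- Let S be a scheme and n ≥ 1 with n invertible in the ring of global functions Γ(S, O_S). If Γ(S,
O_S) contains a root ζ of the n-th cyclotomic polynomial, then the sheaf μ_n of n-th roots of unity
on the small étale site of S is isomorphic to the constant sheaf with value Z/n (existence of an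
isomorphism only; the published isomorphism is the one sending 1 to ζ). -/
theorem result (S : Scheme.{u}) (n : ℕ) (hn : 1 ≤ n)
    (hunit : IsUnit (n : Γ(S, ⊤))) (ζ : Γ(S, ⊤))
    (hζ : Polynomial.aeval ζ (Polynomial.cyclotomic n ℤ) = 0) :
    Nonempty (EtCoh.mu S n ≅ EtCoh.const S (ZMod n)) := by
  have h0 : 0 < n := hn
  have hroot : Groth.Agent.H88.Cyclotomic.IsStrongPrimitiveRoot ζ n := by
    obtain ⟨h, hh⟩ := Polynomial.cyclotomic.dvd_X_pow_sub_one n ℤ
    refine ⟨?_, fun i hi hin => ?_⟩
    · have := congrArg (Polynomial.aeval ζ) hh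
      rw [map_mul, hζ, zero_mul, map_sub, map_pow, Polynomial.aeval_X, map_one, sub_eq_zero] at this
      exact this
    · by_contra hnu
      obtain ⟨M, hM, hmem⟩ := exists_max_ideal_of_mem_nonunits (mem_nonunits_iff.2 hnu)
      have := hM
      let q := Ideal.Quotient.mk M
      let := Ideal.Quotient.field M
      have hne : NeZero (n : Γ(S, ⊤) ⧸ M) := ⟨(show IsUnit ((n : ℕ) : Γ(S, ⊤) ⧸ M) by
        simpa using hunit.map q).ne_zero⟩
      have hr : IsPrimitiveRoot (q ζ) n := by
        rw [← Polynomial.isRoot_cyclotomic_iff, Polynomial.IsRoot.def,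
          ← Polynomial.map_cyclotomic n (Int.castRingHom _), Polynomial.eval_map]
        have := congrArg q hζ
        rw [map_zero, Polynomial.aeval_def, Polynomial.hom_eval₂] at this
        rwa [show q.comp (algebraMap ℤ Γ(S, ⊤)) = Int.castRingHom _ from RingHom.ext_int _ _] at this
      refine hr.pow_ne_one_of_pos_of_lt hi.ne' hin ?_
      have := Ideal.Quotient.eq_zero_iff_mem.2 hmem
      rwa [map_sub, map_pow, map_one, sub_eq_zero] at this
  obtain ⟨e⟩ := Groth.Agent.H88.MuLocal.exists_iso_const h0 hunit (EtCoh.top S) ζ hroot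
  let α : ((EtShriek.restrAlong (EtCoh.top S).hom).obj (EtCoh.mu S n)).obj ≅ (EtCoh.mu S n).obj :=
    NatIso.ofComponents (fun V => (EtCoh.mu S n).obj.mapIso
      (MorphismProperty.Over.isoMk (Iso.refl _)
        ((Category.id_comp _).trans (Category.comp_id _).symm) :
        (EtShriek.compEtale (EtCoh.top S).hom).obj V.unop ≅ V.unop).symm.op)
      (fun {V W} g => by
        change (EtCoh.mu S n).obj.map _ ≫ (EtCoh.mu S n).obj.map _ =
          (EtCoh.mu S n).obj.map _ ≫ (EtCoh.mu S n).obj.map _
        rw [← Functor.map_comp, ← Functor.map_comp]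
        exact congrArg (EtCoh.mu S n).obj.map (Quiver.Hom.unop_inj (MorphismProperty.Over.Hom.ext
          ((Category.id_comp _).trans (Category.comp_id _).symm))))
  exact ⟨(e ≪≫ (fullyFaithfulSheafToPresheaf _ _).preimageIso α).symm⟩

end Groth.Agent.S13507
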