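import Groth.Statements.S17018
import Groth.Agent.Lib.ModelFibre.Stalk
import Groth.Agent.Lib.ModelFibre.MaxPoint

set_option autoImplicit false
universe u
open CategoryTheory CategoryTheory.Limits AlgebraicGeometry
open scoped TensorProduct
open Models

namespace Groth.Agent.S17018

/-- Let R be a discrete valuation ring with algebraically closed residue field and f : X → Spec R a
proper flat morphism whose generic fibre (base change to the fraction field of R) is smooth of
relative dimension 1 and connected and whose special fibre (base change to the residue field) is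
connected and reduced; let ξ be the generic point of an irreducible component of the special fibre
and B a discrete valuation ring given with an isomorphism from the local ring of X at ξ under which
R → B is the map induced by f. Then the maximal ideal of B is the extension of the maximal ideal of
R: a uniformizer of R maps to a uniformizer of B. (The published setting takes everything
essentially of finite type over a field of characteristic zero; the printed argument does not use
this and it is not imposed here.) -/
theorem result
    (R : Type u) [CommRing R] [IsDomain R] [IsDiscreteValuationRing R]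
    [IsAlgClosed (IsLocalRing.ResidueField R)]
    (X : Scheme.{u}) (f : X ⟶ Spec (CommRingCat.of R)) [IsProper f] [Flat f]
    (XK : Scheme.{u}) (gK : XK ⟶ X) (fK : XK ⟶ Spec (CommRingCat.of (FractionRing R)))
    (hK : IsPullback gK fK f (Spec.map (CommRingCat.ofHom (algebraMap R (FractionRing R)))))
    [SmoothOfRelativeDimension 1 fK] [ConnectedSpace XK]
    (Xs : Scheme.{u}) (gs : Xs ⟶ X) (fs : Xs ⟶ Spec (CommRingCat.of (IsLocalRing.ResidueField R)))
    (hs : IsPullback gs fs f (Spec.map (CommRingCat.ofHom (IsLocalRing.residue R))))
    [ConnectedSpace Xs] [IsReduced Xs]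
    (ξ : Xs) (hξ : closure ({ξ} : Set Xs) ∈ irreducibleComponents Xs)
    (B : Type u) [CommRing B] [IsDomain B] [IsDiscreteValuationRing B] [Algebra R B]
    (e : X.presheaf.stalk (gs.base ξ) ≅ CommRingCat.of B)
    (he : e.hom.hom.comp ((X.presheaf.germ ⊤ (gs.base ξ) trivial).hom.comp (Coh.toGlobal f)) =
      algebraMap R B) :
    IsLocalRing.maximalIdeal B = Ideal.map (algebraMap R B) (IsLocalRing.maximalIdeal R) := by
  have hfield : IsField (Xs.presheaf.stalk ξ) :=
    Groth.Agent.Lib.ModelFibre.MaxPoint.isField_stalk
      (Groth.Agent.Lib.ModelFibre.MaxPoint.generalization_of_mem_irreducibleComponents hξ)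
  have hs' := hs
  have hφ : Function.Surjective (IsLocalRing.residue R) := IsLocalRing.residue_surjective
  have : IsClosedImmersion (Spec.map (CommRingCat.ofHom (IsLocalRing.residue R))) :=
    IsClosedImmersion.spec_of_surjective _ hφ
  have : IsClosedImmersion gs := MorphismProperty.of_isPullback hs.flip inferInstance
  have hmax : (RingHom.ker (gs.stalkMap ξ).hom).IsMaximal :=
    Ideal.Quotient.maximal_of_isField _
      (MulEquiv.isField hfield (RingHom.quotientKerEquivOfSurjective (gs.stalkMap_surjective ξ)).toMulEquiv)
  have hker := Groth.Agent.Lib.ModelFibre.Stalk.ker_stalkMap _ hφ hs ξ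
  rw [IsLocalRing.ker_residue] at hker
  have h3 : IsLocalRing.maximalIdeal (X.presheaf.stalk (gs.base ξ)) =
      (IsLocalRing.maximalIdeal R).map (Groth.Agent.Lib.ModelFibre.Stalk.baseHom f (gs.base ξ)) :=
    (IsLocalRing.eq_maximalIdeal hmax).symm.trans hker
  have h4 : e.hom.hom.comp (Groth.Agent.Lib.ModelFibre.Stalk.baseHom f (gs.base ξ)) = algebraMap R B := by
    rw [Groth.Agent.Lib.ModelFibre.Stalk.baseHom]; exact he
  have hsurj : Function.Surjective e.hom.hom := e.commRingCatIsoToRingEquiv.surjective
  rw [← IsLocalRing.map_maximalIdeal_of_surjective e.hom.hom hsurj, h3, Ideal.map_map]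
  exact congrArg (fun g => Ideal.map g (IsLocalRing.maximalIdeal R)) h4

end Groth.Agent.S17018
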