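import Groth.Statements.S14812
import Groth.Agent.Lib.Nakai.NumProper
import Groth.Agent.Lib.Snapper.DimBound

set_option autoImplicit false
universe u
open CategoryTheory CategoryTheory.Limits AlgebraicGeometry
open Pic13

namespace Groth.Agent.S14812

/-- Take any field k, a proper k-scheme X and an invertible O_X-module L. Then L is numerically trivial
(degree 0 on every closed subscheme of X which is integral of dimension one) if and only if χ(F ⊗ L)
= χ(F) for every coherent O_X-module F; here χ is the alternating sum of the dimensions dim_k H^i(X,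
·) over 0 ≤ i ≤ d, for any natural number d bounding the dimension of X. The field k is not assumed
algebraically closed. -/
theorem result (k : Type u) [Field k] (X : Scheme.{u})
    [X.Over (Spec (CommRingCat.of k))] [IsProper (X ↘ Spec (CommRingCat.of k))] (L : X.Modules) (hL : PicF.IsInvertible L) :
    Pic13.IsNumEquivZero k X L ↔
      ∀ (F : X.Modules), Coh.IsCoh F → ∀ d : ℕ, topologicalKrullDim X ≤ d →
        FGA.eulerCharLE k X (CohB1.tensorMod F L) d = FGA.eulerCharLE k X F d := by
  haveI := Lib.Curves.GlobalSections.isNoetherian_of_proper k X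
  refine ⟨fun h F hF d hd => Lib.Nakai.NumProper.chi_eq hd (Lib.Nakai.NTBound.nt_of_num hd hL h) hF,
    fun h Y i _ hY hdim => ?_⟩
  obtain ⟨d, hd⟩ := Lib.Snapper.DimBound.exists_dim_bound k X
  letI : Y.Over (Spec (CommRingCat.of k)) := ⟨i ≫ (X ↘ Spec (CommRingCat.of k))⟩
  haveI : IsProper (Y ↘ Spec (CommRingCat.of k)) :=
    inferInstanceAs (IsProper (i ≫ (X ↘ Spec (CommRingCat.of k))))
  haveI := Lib.Curves.GlobalSections.isNoetherian_of_proper k Y
  have hY1 : topologicalKrullDim Y ≤ ((1 : ℕ) : WithBot ℕ∞) := hdim.le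
  have hO := Lib.Ample.GG.isCoh_of_isInvertible (PicLoc.isInvertible_structureModule Y)
  have hiL := PicLoc.isInvertible_pullback i hL
  have e := (Lib.Modules.ProjFormula.projIso i (E := L) (Lib.Modules.DualBasis.hasDBases_of_isFinLocFree
    (Lib.TensorMod.LocFree.of_rank (Lib.TensorMod.LocFree.of_isInvertible hL)))).app
      (Coh.structureModule Y)
  have e' : CohB1.tensorMod ((Coh.push i).obj (Coh.structureModule Y)) L ≅
      (Coh.push i).obj ((Scheme.Modules.pullback i).obj L) :=
    Lib.TensorMod.Basic.comm _ _ ≪≫ e ≪≫ (Coh.push i).mapIso (Lib.TensorMod.Basic.rightUnit _)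
  have h1 := h _ (Lib.Cyc.Dev.SchemeEquiv.isCoh_push i hO) d hd
  haveI := hO.1
  haveI := (Lib.Ample.GG.isCoh_of_isInvertible hiL).1
  rw [Lib.Snapper.Chi.eulerCharLE_of_iso e', Lib.SurfInt.Push.eulerCharLE_push i rfl,
    Lib.SurfInt.Push.eulerCharLE_push i rfl] at h1
  show FGA.eulerCharLE k Y _ 1 - FGA.eulerCharLE k Y _ 1 = 0
  have hpos : 1 ≤ d := by
    have := i.isClosedEmbedding.isInducing.topologicalKrullDim_le.trans hd
    rw [hdim] at this
    exact_mod_cast this
  rw [sub_eq_zero, ← Lib.Snapper.Chi.eulerCharLE_eq_of_le hY1 hpos,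
    ← Lib.Snapper.Chi.eulerCharLE_eq_of_le hY1 hpos]
  exact h1

end Groth.Agent.S14812
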