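import Groth.Statements.S9494
import Groth.Agent.H80.Inertia.Separating
import Groth.Agent.Lib.IndEtale.Basic
import Mathlib.FieldTheory.Galois.Profinite
import Mathlib.FieldTheory.Galois.GaloisClosure
import Mathlib.RingTheory.IntegralClosure.IntegralRestrict

set_option autoImplicit false
set_option backward.isDefEq.respectTransparency false
universe u
open Pi1

namespace Groth.Agent.S9494

/-- The ind-etale criterion at a finite level. -/
theorem exists_etale_level {A K L : Type u} [CommRing A] [IsDomain A] [IsIntegrallyClosed A]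
    [Field K] [Field L] [Algebra A K] [IsFractionRing A K] [Algebra K L] [Algebra A L] [IsScalarTower A K L]
    [IsGalois K L] (q : Ideal (integralClosure A L)) [q.IsPrime]
    (I : Subgroup (L ≃ₐ[K] L))
    (hI : ∀ σ : L ≃ₐ[K] L, σ ∈ I ↔ ∀ b : integralClosure A L, ∃ c ∈ q, (c : L) = σ b - b)
    (T : Finset (integralClosure A L)) (hT : ∀ x ∈ T, ∀ σ ∈ I, σ (x : L) = x) :
    ∃ (S : Type u) (_ : CommRing S) (_ : Algebra A S) (j : S →ₐ[A] integralClosure A L) (g : S),
      Function.Injective j ∧ (∀ y : S, ∀ σ ∈ I, σ (j y : L) = j y) ∧ (∀ x ∈ T, ∃ y, j y = x) ∧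
      j g ∉ q ∧ Algebra.Etale A (Localization.Away g) := by
  classical
  let W : (L ≃ₐ[K] L) → integralClosure A L → Prop := fun σ b => ∀ c ∈ q, (c : L) ≠ σ b - b
  have hfd : ∀ b : L, FiniteDimensional K (IntermediateField.adjoin K {b}) := fun b =>
    IntermediateField.adjoin.finiteDimensional (Algebra.IsIntegral.isIntegral b)
  have hfix : ∀ (b : L) (h : L ≃ₐ[K] L), h ∈ (IntermediateField.adjoin K {b}).fixingSubgroup → h b = b :=
    fun b h hh => hh ⟨b, IntermediateField.mem_adjoin_simple_self K b⟩
  have hopen : ∀ (b : L) (Q : L → Prop), IsOpen {σ : L ≃ₐ[K] L | Q (σ b)} := fun b Q => by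
    have := hfd b
    rw [isOpen_iff_mem_nhds]
    intro σ hσ
    refine Filter.mem_of_superset
      (((IntermediateField.fixingSubgroup_isOpen (IntermediateField.adjoin K {b})).leftCoset σ).mem_nhds
        ⟨1, one_mem _, mul_one σ⟩) ?_
    rintro _ ⟨h, hh, rfl⟩
    change Q (σ (h b))
    rwa [hfix b h hh]
  let Z : Set (L ≃ₐ[K] L) := {σ | ∃ x ∈ T, σ (x : L) ≠ x}
  have hZ : IsCompact Z := by
    refine IsClosed.isCompact ?_
    have : Z = ⋃ x ∈ T, {σ : L ≃ₐ[K] L | σ (x : L) = x}ᶜ := by ext; simp [Z]
    rw [this]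
    exact isClosed_biUnion_finset fun x _ => (hopen x (fun z => z = x)).isClosed_compl
  obtain ⟨bs, hbs⟩ := hZ.elim_finite_subcover (fun b : integralClosure A L => {σ | W σ b})
    (fun b => hopen b (fun z => ∀ c ∈ q, (c : L) ≠ z - b)) (fun σ ⟨x, hx, hσ⟩ => by
      have h1 : σ ∉ I := fun h => hσ (hT x hx σ h)
      rw [hI] at h1
      push Not at h1
      obtain ⟨b, hb⟩ := h1
      exact Set.mem_iUnion.mpr ⟨b, hb⟩)
  let s : Set L := (T ∪ bs).image (fun x : integralClosure A L => (x : L))
  let M := FiniteGaloisIntermediateField.adjoin K s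
  have hsM : ∀ x ∈ T ∪ bs, (x : L) ∈ M.toIntermediateField := fun x hx =>
    FiniteGaloisIntermediateField.subset_adjoin K s (Finset.mem_coe.mpr (Finset.mem_image_of_mem _ hx))
  let M' := M.toIntermediateField
  let R := integralClosure A M'
  have : IsIntegralClosure R A M' := integralClosure.isIntegralClosure A M'
  let ι : R →ₐ[A] integralClosure A L :=
    ((M'.val.restrictScalars A).comp R.val).codRestrict (integralClosure A L) fun x => x.2.map (M'.val.restrictScalars A)
  have hι : Function.Injective ι := fun a b h =>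
    Subtype.val_injective (Subtype.val_injective (show ((a : M') : L) = ((b : M') : L) from congrArg (fun z : integralClosure A L => (z : L)) h))
  let : MulSemiringAction (M' ≃ₐ[K] M') R :=
    MulSemiringAction.compHom R (galRestrict A K M' R).toMonoidHom
  have hact : ∀ (σ : M' ≃ₐ[K] M') (x : R), ((σ • x : R) : M') = σ x := fun σ x =>
    algebraMap_galRestrict_apply (A := A) (K := K) (L := M') (B := R) σ x
  have hres : ∀ (σ : L ≃ₐ[K] L) (x : R), (ι (AlgEquiv.restrictNormal σ M' • x) : L) = σ (ι x) := fun σ x => by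
    change (((AlgEquiv.restrictNormal σ M' • x : R) : M') : L) = σ ((x : M') : L)
    rw [hact]
    exact AlgEquiv.restrictNormal_commutes σ M' (x : M')
  let q' : Ideal R := q.comap ι
  let H := q'.inertia (M' ≃ₐ[K] M')
  have hlift : ∀ σ : M' ≃ₐ[K] M', ∃ τ : L ≃ₐ[K] L, AlgEquiv.restrictNormal τ M' = σ :=
    AlgEquiv.restrictNormalHom_surjective (F := K) (K₁ := M') (E := L)
  have hIH : ∀ σ ∈ I, AlgEquiv.restrictNormal σ M' ∈ H := fun σ hσ x => by
    obtain ⟨c, hc, hcx⟩ := (hI σ).mp hσ (ι x)
    change ι (AlgEquiv.restrictNormal σ M' • x - x) ∈ q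
    rw [show ι (AlgEquiv.restrictNormal σ M' • x - x) = c from Subtype.ext (by
      rw [map_sub, hcx, AddSubgroupClass.coe_sub, hres])]
    exact hc
  let S : Subalgebra A R :=
    { carrier := {x | ∀ h ∈ H, h • x = x}
      mul_mem' := fun {a b} ha hb h hh => by rw [smul_mul', ha h hh, hb h hh]
      add_mem' := fun {a b} ha hb h hh => by rw [smul_add, ha h hh, hb h hh]
      algebraMap_mem' := fun a h _ => (galRestrict A K M' R h).commutes a }
  have hAR : Function.Injective (algebraMap A R) := fun a b h => by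
    have h1 : algebraMap A L a = algebraMap A L b :=
      congrArg (fun x : R => ((x : M') : L)) h
    rw [IsScalarTower.algebraMap_apply A K L, IsScalarTower.algebraMap_apply A K L b] at h1
    exact IsFractionRing.injective A K ((algebraMap K L).injective h1)
  obtain ⟨g, hg, het⟩ := Groth.Agent.H80.Inertia.exists_etale q' H rfl hAR
    (fun a σ => (galRestrict A K M' R σ).commutes a)
    (fun r hr => by
      obtain ⟨c, hc⟩ := IntermediateField.mem_bot.mp ((IsGalois.mem_bot_iff_fixed (r : M')).mpr
        fun σ => by rw [← hact, hr])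
      have hint : IsIntegral A c := (isIntegral_algHom_iff (IsScalarTower.toAlgHom A K M') (algebraMap K M').injective).mp
        (show IsIntegral A (algebraMap K M' c) from hc ▸ r.2)
      obtain ⟨a, ha⟩ := IsIntegrallyClosed.isIntegral_iff.mp hint
      exact ⟨a, Subtype.ext (show algebraMap A M' a = r by rw [IsScalarTower.algebraMap_apply A K M', ha, hc])⟩)
    S.val Subtype.val_injective (fun x h => x.2 h.1 h.2) (fun r hr => ⟨⟨r, hr⟩, rfl⟩)
  refine ⟨S, inferInstance, inferInstance, ι.comp S.val, g, hι.comp Subtype.val_injective,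
    fun y σ hσ => ?_, fun x hx => ?_, hg, het⟩
  · change σ (ι (y : R) : L) = ι (y : R)
    rw [← hres, y.2 _ (hIH σ hσ)]
  · have hxM := hsM x (Finset.mem_union_left _ hx)
    let x' : R := ⟨⟨x, hxM⟩, (isIntegral_algHom_iff (M'.val.restrictScalars A) Subtype.val_injective).mp x.2⟩
    refine ⟨⟨x', fun h hh => ?_⟩, rfl⟩
    obtain ⟨τ, rfl⟩ := hlift h
    refine hι (Subtype.ext ?_)
    rw [hres]
    by_contra hne
    obtain ⟨b, hb, hW⟩ := Set.mem_iUnion₂.mp (hbs (show τ ∈ Z from ⟨x, hx, hne⟩))
    let b' : R := ⟨⟨b, hsM b (Finset.mem_union_right _ hb)⟩,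
      (isIntegral_algHom_iff (M'.val.restrictScalars A) Subtype.val_injective).mp b.2⟩
    exact hW _ (hh b') (by rw [map_sub, AddSubgroupClass.coe_sub, hres]; rfl)

/-- Let A be an integrally closed domain with fraction field K, L/K a (possibly infinite) Galois
extension with group G = Gal(L/K), B the integral closure of A in L and q a prime of B. Let I ⊆ G be
the inertia group of q: the automorphisms σ with σ(b) - b ∈ q for every b ∈ B. Then the localization
of the ring of invariants B^I = B ∩ L^I at the prime q ∩ B^I is an ind-etale A-algebra, i.e. a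
filtered colimit of etale A-algebras. -/
theorem result (A K L : Type u) [CommRing A] [IsDomain A] [IsIntegrallyClosed A]
    [Field K] [Field L] [Algebra A K] [IsFractionRing A K] [Algebra K L] [Algebra A L] [IsScalarTower A K L]
    [IsGalois K L] (q : Ideal (integralClosure A L)) [q.IsPrime]
    (I : Subgroup (L ≃ₐ[K] L))
    (hI : ∀ σ : L ≃ₐ[K] L, σ ∈ I ↔ ∀ b : integralClosure A L, ∃ c ∈ q, (c : L) = σ b - b) :
    EtPBC.IsIndEtale A (Localization.AtPrime
      (q.comap (Subalgebra.inclusion
        (inf_le_left : integralClosure A L ⊓ (IntermediateField.fixedField I).toSubalgebra.restrictScalars A ≤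
          integralClosure A L)))) := by
  classical
  refine Groth.Agent.Lib.IndEtale.Basic.of_factors fun C _ _ hC f => ?_
  set BI : Subalgebra A L := integralClosure A L ⊓ (IntermediateField.fixedField I).toSubalgebra.restrictScalars A
  set p := q.comap (Subalgebra.inclusion (inf_le_left : BI ≤ integralClosure A L))
  let inc := Subalgebra.inclusion (inf_le_left : BI ≤ integralClosure A L)
  obtain ⟨gens, hgens⟩ := (inferInstance : Algebra.FiniteType A C).out
  choose num hnum using fun c : C => IsLocalization.surj p.primeCompl (f c)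
  let T : Finset (integralClosure A L) :=
    gens.image (fun c => inc (num c).1) ∪ gens.image (fun c => inc (num c).2.1)
  obtain ⟨S, _, _, j, g, hj, hjI, hjT, hg, het⟩ := exists_etale_level q I hI T fun x hx σ hσ => by
    rcases Finset.mem_union.mp hx with h | h <;> obtain ⟨c, -, rfl⟩ := Finset.mem_image.mp h
    · exact (num c).1.2.2 ⟨σ, hσ⟩
    · exact (num c).2.1.2.2 ⟨σ, hσ⟩
  let k : S →ₐ[A] BI := ((integralClosure A L).val.comp j).codRestrict BI fun y => ⟨(j y).2, fun σ => hjI y σ.1 σ.2⟩
  have hk : Function.Injective k := fun a b h => hj (Subtype.ext (show (j a : L) = (j b : L) from congrArg (fun z : BI => (z : L)) h))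
  have hkp : ∀ y, k y ∈ p ↔ j y ∈ q := fun y => Iff.rfl
  have hd : ∀ c, ∃ y, c ∈ gens → k y = (num c).2.1 := fun c => by
    by_cases hc : c ∈ gens
    · obtain ⟨y, hy⟩ := hjT _ (Finset.mem_union_right _ (Finset.mem_image_of_mem _ hc))
      exact ⟨y, fun _ => Subtype.ext (show (j y : L) = ((num c).2.1 : L) from congrArg (fun z : integralClosure A L => (z : L)) hy)⟩
    · exact ⟨1, fun h => absurd h hc⟩
  choose den hden using hd
  let h₀ : S := ∏ c ∈ gens, den c
  have hu : ∀ y : S, j y ∉ q → IsUnit ((IsScalarTower.toAlgHom A BI (Localization.AtPrime p)).comp k y) :=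
    fun y hy => IsLocalization.map_units (Localization.AtPrime p) (⟨k y, hy⟩ : p.primeCompl)
  have hh₀ : j h₀ ∉ q := by
    rw [map_prod, Ideal.IsPrime.prod_mem_iff]
    rintro ⟨c, hc, hmem⟩
    have := (hkp _).mpr hmem
    rw [hden c hc] at this
    exact (num c).2.2 this
  let S₁ := Localization.Away g
  let E := Localization.Away (algebraMap S S₁ h₀)
  have : IsLocalization.Away (g * h₀) E := IsLocalization.Away.mul' S₁ E g h₀
  have : Algebra.Etale A S₁ := het
  have hE : Algebra.Etale A E := inferInstance
  let v : E →ₐ[A] Localization.AtPrime p :=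
    IsLocalization.liftAlgHom (M := Submonoid.powers (g * h₀))
      (f := (IsScalarTower.toAlgHom A BI (Localization.AtPrime p)).comp k) (by
        rintro ⟨_, m, rfl⟩
        exact hu _ (by
          rw [map_pow]
          exact fun h => ((‹q.IsPrime›.mem_or_mem (map_mul j g h₀ ▸ ‹q.IsPrime›.mem_of_pow_mem m h))).elim hg hh₀))
  have hBI : Function.Injective (algebraMap BI (Localization.AtPrime p)) :=
    IsLocalization.injective _ p.primeCompl_le_nonZeroDivisors
  have hv : Function.Injective v := by
    rw [IsLocalization.coe_liftAlgHom, IsLocalization.lift_injective_iff]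
    intro a b
    refine ⟨fun h => congrArg _ ?_, fun h => ?_⟩
    · obtain ⟨⟨_, m, rfl⟩, hm⟩ := (IsLocalization.eq_iff_exists (Submonoid.powers (g * h₀)) E).mp h
      refine hk (mul_left_cancel₀ (a := k ((g * h₀) ^ m)) ?_ ?_)
      · intro h0
        have h1 : k ((g * h₀) ^ m) ∈ p := h0 ▸ p.zero_mem
        rw [hkp, map_pow, map_mul] at h1
        exact (‹q.IsPrime›.mem_or_mem (‹q.IsPrime›.mem_of_pow_mem m h1)).elim hg hh₀
      · rw [← map_mul, ← map_mul]
        exact congrArg k hm
    · exact congrArg _ (hk (hBI h))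
  have hsub : ∀ c : C, f c ∈ v.range := by
    intro c
    have hc : c ∈ Algebra.adjoin A (gens : Set C) := hgens ▸ trivial
    induction hc using Algebra.adjoin_induction with
    | mem c hc =>
      obtain ⟨y, hy⟩ := hjT _ (Finset.mem_union_left _ (Finset.mem_image_of_mem _ hc))
      have hky : k y = (num c).1 := Subtype.ext (show (j y : L) = ((num c).1 : L) from congrArg (fun z : integralClosure A L => (z : L)) hy)
      obtain ⟨w, hw⟩ : IsUnit (algebraMap S E (den c)) := by
        refine isUnit_of_dvd_unit (map_dvd (algebraMap S E) ?_)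
          (IsLocalization.Away.algebraMap_isUnit (S := E) (g * h₀))
        exact Dvd.dvd.mul_left (Finset.dvd_prod_of_mem den hc) g
      refine ⟨algebraMap S E y * ↑w⁻¹, ?_⟩
      have h1 : v (algebraMap S E y) = algebraMap BI _ (k y) := IsLocalization.lift_eq _ y
      have h2 : v (algebraMap S E (den c)) = algebraMap BI _ (k (den c)) := IsLocalization.lift_eq _ _
      refine (IsLocalization.map_units (Localization.AtPrime p) (num c).2).mul_left_inj.mp ?_
      change v (algebraMap S E y * ↑w⁻¹) * _ = _
      rw [hnum c, ← hden c hc, ← hky, ← h1, ← h2, ← map_mul, ← hw, mul_assoc, Units.inv_mul, mul_one]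
    | algebraMap a => rw [f.commutes]; exact Subalgebra.algebraMap_mem _ a
    | add x y _ _ hx hy => rw [map_add]; exact add_mem hx hy
    | mul x y _ _ hx hy => rw [map_mul]; exact mul_mem hx hy
  refine ⟨E, inferInstance, inferInstance, hE,
    (AlgEquiv.ofInjective v hv).symm.toAlgHom.comp (f.codRestrict v.range hsub), v, AlgHom.ext fun c => ?_⟩
  exact congrArg Subtype.val ((AlgEquiv.ofInjective v hv).apply_symm_apply ⟨f c, hsub c⟩)

end Groth.Agent.S9494
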