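import Groth.Statements.S6073
import Groth.Agent.Lib.GenSub.Bounded
import Groth.Agent.Lib.GenSub.Connected
import Groth.Agent.Lib.GenSub.ImageMap
import Groth.Agent.H63.GrpConnected

set_option autoImplicit false
universe u
open CategoryTheory CategoryTheory.Limits MonoidalCategory CartesianMonoidalCategory MonObj GrpObj AlgebraicGeometry
open SGA3

namespace Groth.Agent.S6073

open scoped Pointwise commutatorElement
open Lib.GenSub Lib.Solv

section
variable {k : Type u} [Field k]

/-- The map on rational points. -/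
noncomputable def ptsHom {A G : Over (Spec (CommRingCat.of k))} [GrpObj A] [GrpObj G] (a : A ⟶ G) [IsMonHom a] :
    (𝟙_ (Over (Spec (CommRingCat.of k))) ⟶ A) →* (𝟙_ (Over (Spec (CommRingCat.of k))) ⟶ G) where
  toFun x := x ≫ a
  map_one' := MonObj.one_comp a
  map_mul' x y := MonObj.mul_comp x y a

theorem irreducibleSpace_of_connectedSpace (A : Over (Spec (CommRingCat.of k))) [GrpObj A]
    [LocallyOfFiniteType A.hom] [ConnectedSpace A.left] : IrreducibleSpace A.left ∧ CompactSpace A.left := by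
  have h : (Set.univ : Set A.left) = H63.GrpComponent.comp0 A := by
    rw [← H63.GrpConnected.connectedComponent_unit, PreconnectedSpace.connectedComponent_eq_univ]
  refine ⟨(irreducibleSpace_def _).2 ?_, ⟨by rw [h]; exact H63.GrpConnected.isCompact_comp0 A⟩⟩
  show IsIrreducible (Set.univ : Set A.left)
  rw [h]
  exact isIrreducible_irreducibleComponent

/-- Case of normal subgroups: a bound in the product subgroup. -/
theorem bound_normal [IsAlgClosed k] {G A B : Over (Spec (CommRingCat.of k))} [GrpObj G] [GrpObj A] [GrpObj B]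
    [LocallyOfFiniteType G.hom] (a : A ⟶ G) [IsMonHom a] [IsClosedImmersion a.left] (b : B ⟶ G) [IsMonHom b]
    [IsClosedImmersion b.left] [QuasiCompact A.hom] [QuasiCompact B.hom]
    (hA : AlgGrp.IsNormalHom a) (hB : AlgGrp.IsNormalHom b) :
    ∃ (H : Over (Spec (CommRingCat.of k))) (_ : GrpObj H) (h : H ⟶ G), IsMonHom h ∧ IsClosedImmersion h.left ∧
      CompactSpace H.left ∧ (∃ a' : A ⟶ H, a' ≫ h = a) ∧ (∃ b' : B ⟶ H, b' ≫ h = b) ∧
      ∃ L : ℕ, ((Subgroup.closure (Set.image2 (fun x y => ⁅x, y⁆) (Set.range (ptsHom a)) (Set.range (ptsHom b))) :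
        Subgroup (𝟙_ (Over (Spec (CommRingCat.of k))) ⟶ G)) : Set _) ⊆
        (Set.image2 (fun x y => ⁅x, y⁆) (Set.range (ptsHom a)) (Set.range (ptsHom b))) ^ L := by
  have : IsSeparated G.hom := Lib.GrpSch.isSeparated_of_field G
  have : LocallyOfFiniteType A.hom := by rw [← Over.w a]; infer_instance
  have : LocallyOfFiniteType B.hom := by rw [← Over.w b]; infer_instance
  let W := A ⊗ B
  let f : W ⟶ G := (fst A B ≫ a) * (snd A B ≫ b)
  obtain ⟨hW1, hW2⟩ := tensor_props (W := A) (W' := B) inferInstance inferInstance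
  have : QuasiCompact (f.left ≫ G.hom) := by rw [Over.w]; infer_instance
  have : QuasiCompact f.left := QuasiCompact.of_comp _ G.hom
  -- the group law on the product
  obtain ⟨c, hc⟩ := hA _ (fst W W ≫ snd A B ≫ b) (snd W W ≫ fst A B)
  let m : W ⊗ W ⟶ W := lift ((fst W W ≫ fst A B) * c) ((fst W W ≫ snd A B) * (snd W W ≫ snd A B))
  have hm : m ≫ f = (f ⊗ₘ f) ≫ μ[G] := by
    rw [show (f ⊗ₘ f) ≫ μ[G] = (fst W W ≫ f) * (snd W W ≫ f) by rw [Hom.mul_def, ← lift_fst_comp_snd_comp]]
    simp only [f, m, MonObj.comp_mul, lift_fst_assoc, lift_snd_assoc, MonObj.mul_comp, Category.assoc]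
    rw [← hc]
    simp [_root_.mul_assoc]
  obtain ⟨c', hc'⟩ := hA _ (snd A B ≫ b)⁻¹ (fst A B)⁻¹
  let v : W ⟶ W := lift c' (snd A B)⁻¹
  have hv : v ≫ f = f ≫ GrpObj.inv := by
    rw [show f ≫ GrpObj.inv = f⁻¹ from rfl]
    simp only [f, v, MonObj.comp_mul, lift_fst_assoc, lift_snd_assoc, GrpObj.inv_comp, ← hc', _root_.mul_inv_rev]
    simp [_root_.mul_assoc]
  let e : 𝟙_ (Over (Spec (CommRingCat.of k))) ⟶ W := 1
  have heA : η[A] ≫ a = η[G] := IsMonHom.one_hom a
  let e' : 𝟙_ (Over (Spec (CommRingCat.of k))) ⟶ W := lift η[A] η[B]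
  have he : e' ≫ f = η[G] := by
    simp only [f, e', MonObj.comp_mul, lift_fst_assoc, lift_snd_assoc, heA, IsMonHom.one_hom b]
    rw [show η[G] = (1 : 𝟙_ _ ⟶ G) by rw [Hom.one_def, toUnit_unit, Category.id_comp], _root_.one_mul]
  obtain ⟨H, _, h, f', hh, hf', hhc, -, -, hrange⟩ := exists_image_of_map f m hm e' he v hv
  have : LocallyOfFiniteType W.hom := inferInstance
  have hcl : IsClosed (Set.range f.left) := isClosed_range_of_map f m hm e' v hv
  rw [hcl.closure_eq] at hrange
  have : CompactSpace W.left := QuasiCompact.compactSpace_of_compactSpace W.hom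
  have hcH : CompactSpace H.left := ⟨by
    rw [h.left.isClosedEmbedding.isInducing.isCompact_iff, Set.image_univ, hrange]
    exact isCompact_range f.left.continuous⟩
  have ha : ∃ a' : A ⟶ H, a' ≫ h = a := ⟨lift (𝟙 A) (toUnit A ≫ η[B]) ≫ f', by
    rw [Category.assoc, hf']
    simp only [f, MonObj.comp_mul, lift_fst_assoc, lift_snd_assoc, Category.assoc, IsMonHom.one_hom b, Category.id_comp]
    rw [← Hom.one_def, _root_.mul_one]⟩
  have hb : ∃ b' : B ⟶ H, b' ≫ h = b := ⟨lift (toUnit B ≫ η[A]) (𝟙 B) ≫ f', by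
    rw [Category.assoc, hf']
    simp only [f, MonObj.comp_mul, lift_fst_assoc, lift_snd_assoc, Category.assoc, heA, Category.id_comp]
    rw [← Hom.one_def, _root_.one_mul]⟩
  refine ⟨H, ‹_›, h, hh, hhc, hcH, ha, hb, ?_⟩
  obtain ⟨a', rfl⟩ := ha
  obtain ⟨b', rfl⟩ := hb
  have : Mono h := (Over.forget _).mono_of_mono_map (show Mono h.left from inferInstance)
  have : IsMonHom a' := ⟨by rw [← cancel_mono h, Category.assoc, IsMonHom.one_hom, IsMonHom.one_hom],
    by rw [← cancel_mono h, Category.assoc, Category.assoc, IsMonHom.mul_hom, IsMonHom.mul_hom,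
      tensorHom_comp_tensorHom_assoc]⟩
  have : IsMonHom b' := ⟨by rw [← cancel_mono h, Category.assoc, IsMonHom.one_hom, IsMonHom.one_hom],
    by rw [← cancel_mono h, Category.assoc, Category.assoc, IsMonHom.mul_hom, IsMonHom.mul_hom,
      tensorHom_comp_tensorHom_assoc]⟩
  have : LocallyOfFiniteType H.hom := by rw [← Over.w h]; infer_instance
  have : QuasiCompact H.hom := inferInstance
  letI := ptTop H
  have := noetherianSpace_pts H
  have := wellFoundedGT_pts H
  have hinj : Function.Injective (ptsHom h) := fun x y hxy => (cancel_mono h).1 hxy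
  have hclosed : ∀ {C : Over (Spec (CommRingCat.of k))} [GrpObj C] [LocallyOfFiniteType C.hom] (c : C ⟶ H)
      [IsMonHom c] [IsClosedImmersion (c ≫ h).left], IsClosed ((ptsHom c).range : Set (Pts H)) := by
    intro C _ _ c _ _
    have heq : ((ptsHom c).range : Set (Pts H)) = (fun g : Pts H => h.left (ptMap H g)) ⁻¹' Set.range (c ≫ h).left := by
      ext g
      constructor
      · rintro ⟨x, rfl⟩
        exact ⟨ptMap C x, rfl⟩
      · intro hg
        obtain ⟨x, hx⟩ := exists_rational_lift (c ≫ h) (g ≫ h) (IsLocalRing.closedPoint k) hg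
        exact ⟨x, hinj ((Category.assoc x c h).trans hx)⟩
    rw [heq]
    exact (c ≫ h).left.isClosedEmbedding.isClosed_range.preimage (h.left.continuous.comp continuous_induced_dom)
  have hnorm : ∀ {C : Over (Spec (CommRingCat.of k))} [GrpObj C] (c : C ⟶ H) [IsMonHom c],
      AlgGrp.IsNormalHom (c ≫ h) → ((ptsHom c).range).Normal := by
    intro C _ c _ hn
    refine ⟨?_⟩
    rintro _ ⟨x, rfl⟩ g
    obtain ⟨x', hx'⟩ := hn _ (g ≫ h) x
    refine ⟨x', hinj ?_⟩
    show (x' ≫ c) ≫ h = (g * (x ≫ c) * g⁻¹) ≫ h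
    rw [Category.assoc, ← hx', MonObj.mul_comp, MonObj.mul_comp, GrpObj.inv_comp, Category.assoc]
  have := hnorm a' hA
  have := hnorm b' hB
  obtain ⟨-, L, hL⟩ := comm_bounded (zar H) (imgClass H) (ptsHom a').range (ptsHom b').range (hclosed a') (hclosed b')
  refine ⟨L, ?_⟩
  have himg : ptsHom h '' Set.image2 (fun x y => ⁅x, y⁆) (Set.range (ptsHom a')) (Set.range (ptsHom b')) =
      Set.image2 (fun x y => ⁅x, y⁆) (Set.range (ptsHom (a' ≫ h))) (Set.range (ptsHom (b' ≫ h))) := by
    rw [Set.image_image2_distrib fun x y => map_commutatorElement (ptsHom h) x y, ← Set.range_comp, ← Set.range_comp]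
    congr 2 <;> exact funext fun x => Category.assoc _ _ _
  rw [← himg, ← MonoidHom.map_closure, Subgroup.coe_map, ← Set.image_pow]
  refine Set.image_mono ?_
  rw [Subgroup.commutator_def] at hL
  exact hL

end

/-- Let k be an algebraically closed field, G a group scheme locally of finite type over k, and a : A →
G, b : B → G two closed subgroup schemes which are geometrically reduced over k, such that either
(a) A and B are normal in G and of finite type over k, or (b) A is connected and B is of finite type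
over k. Let i : Γ → G be the commutator subgroup scheme (A, B): the smallest closed subgroup scheme
of G through which A ×_k B → G, (x, y) ↦ a(x) b(y) a(x)⁻¹ b(y)⁻¹, factors. Then the image of Γ(k) in
G(k) is the commutator subgroup of the images of A(k) and B(k): the subgroup of G(k) generated by
the commutators of a k-point of A with a k-point of B. -/
theorem result (k : Type u) [Field k] [IsAlgClosed k]
    (G A B : Over (Spec (CommRingCat.of k))) [GrpObj G] [GrpObj A] [GrpObj B] [LocallyOfFiniteType G.hom]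
    (a : A ⟶ G) [IsMonHom a] [IsClosedImmersion a.left] (b : B ⟶ G) [IsMonHom b] [IsClosedImmersion b.left]
    [GeometricallyReduced A.hom] [GeometricallyReduced B.hom] [QuasiCompact B.hom]
    (hcase : (AlgGrp.IsNormalHom a ∧ AlgGrp.IsNormalHom b ∧ QuasiCompact A.hom) ∨ ConnectedSpace A.left)
    (Γ : Over (Spec (CommRingCat.of k))) [GrpObj Γ] (i : Γ ⟶ G) [IsMonHom i] [IsClosedImmersion i.left]
    (hf : ∃ f' : A ⊗ B ⟶ Γ, f' ≫ i = (((fst A B) ≫ a) * ((snd A B) ≫ b) * ((fst A B) ≫ a)⁻¹ * ((snd A B) ≫ b)⁻¹))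
    (hmin : ∀ (Γ' : Over (Spec (CommRingCat.of k))) (_ : GrpObj Γ') (i' : Γ' ⟶ G), IsMonHom i' → IsClosedImmersion i'.left →
        (∃ f'' : A ⊗ B ⟶ Γ', f'' ≫ i' = (((fst A B) ≫ a) * ((snd A B) ≫ b) * ((fst A B) ≫ a)⁻¹ * ((snd A B) ≫ b)⁻¹)) → ∃ j : Γ ⟶ Γ', j ≫ i' = i) :
    Set.range (fun z : 𝟙_ (Over (Spec (CommRingCat.of k))) ⟶ Γ => z ≫ i) =
      ((⁅Subgroup.closure (Set.range (fun x : 𝟙_ (Over (Spec (CommRingCat.of k))) ⟶ A => x ≫ a)),
         Subgroup.closure (Set.range (fun y : 𝟙_ (Over (Spec (CommRingCat.of k))) ⟶ B => y ≫ b))⁆ : Subgroup (𝟙_ (Over (Spec (CommRingCat.of k))) ⟶ G)) :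
        Set (𝟙_ (Over (Spec (CommRingCat.of k))) ⟶ G)) := by
  obtain ⟨f', hf'⟩ := hf
  have : LocallyOfFiniteType A.hom := by rw [← Over.w a]; infer_instance
  have : LocallyOfFiniteType B.hom := by rw [← Over.w b]; infer_instance
  have : LocallyOfFiniteType Γ.hom := by rw [← Over.w i]; infer_instance
  have : Mono i := (Over.forget _).mono_of_mono_map (show Mono i.left from inferInstance)
  have : QuasiCompact A.hom := by
    rcases hcase with ⟨-, -, h⟩ | h
    · exact h
    · have := (irreducibleSpace_of_connectedSpace A).2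
      infer_instance
  obtain ⟨hABl, hABq⟩ := tensor_props (W := A) (W' := B) inferInstance inferInstance
  have hinj : Function.Injective (ptsHom i) := fun x y hxy => (cancel_mono i).1 hxy
  set Sset := Set.image2 (fun x y => ⁅x, y⁆) (Set.range (ptsHom a)) (Set.range (ptsHom b))
  have hval : ∀ x : 𝟙_ (Over (Spec (CommRingCat.of k))) ⟶ A ⊗ B,
      x ≫ f' ≫ i = ⁅x ≫ fst A B ≫ a, x ≫ snd A B ≫ b⁆ := fun x => by
    rw [hf']; simp [commutatorElement_def, MonObj.comp_mul, GrpObj.comp_inv]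
  have hrange : ptsHom i '' (Set.range fun x : 𝟙_ (Over (Spec (CommRingCat.of k))) ⟶ A ⊗ B => x ≫ f') = Sset := by
    rw [← Set.range_comp]
    refine Set.ext fun g => ⟨?_, ?_⟩
    · rintro ⟨x, rfl⟩
      show (x ≫ f') ≫ i ∈ _
      rw [Category.assoc, hval]
      exact ⟨_, ⟨x ≫ fst A B, Category.assoc x (fst A B) a⟩, _, ⟨x ≫ snd A B, Category.assoc x (snd A B) b⟩, rfl⟩
    · rintro ⟨_, ⟨p, rfl⟩, _, ⟨q, rfl⟩, rfl⟩
      refine ⟨lift p q, ?_⟩
      show (lift p q ≫ f') ≫ i = _
      rw [Category.assoc, hval, lift_fst_assoc, lift_snd_assoc]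
      rfl
  have hmin' : ∀ (Γ' : Over (Spec (CommRingCat.of k))) (_ : GrpObj Γ') (i' : Γ' ⟶ Γ), IsMonHom i' →
      IsClosedImmersion i'.left → (∃ f'' : A ⊗ B ⟶ Γ', f'' ≫ i' = f') → ∃ j : Γ ⟶ Γ', j ≫ i' = 𝟙 Γ := by
    intro Γ' _ i' hi' hc' ⟨f'', hf''⟩
    obtain ⟨j, hj⟩ := hmin Γ' ‹_› (i' ≫ i) inferInstance (by rw [Over.comp_left]; infer_instance)
      ⟨f'', by rw [← Category.assoc, hf'', hf']⟩
    refine ⟨j, ?_⟩
    rw [← cancel_mono i, Category.assoc, Category.id_comp]
    exact hj
  have : GeometricallyReduced (A ⊗ B).hom := H52.FBase.GeomRedSch.geometricallyReduced_prod A.hom B.hom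
  let Y := Set.range fun x : 𝟙_ (Over (Spec (CommRingCat.of k))) ⟶ A ⊗ B => x ≫ f'
  have key : QuasiCompact Γ.hom ∧ ∃ M : ℕ, (Subgroup.closure Y : Set _) ⊆ (Y ∪ Y⁻¹) ^ M := by
    rcases hcase with ⟨hA, hB, -⟩ | hA
    · obtain ⟨H, _, h, _, _, hH, ⟨a', ha'⟩, ⟨b', hb'⟩, L, hL⟩ := bound_normal a b hA hB
      obtain ⟨j, hj⟩ := hmin H ‹_› h ‹_› ‹_›
        ⟨((fst A B) ≫ a') * ((snd A B) ≫ b') * ((fst A B) ≫ a')⁻¹ * ((snd A B) ≫ b')⁻¹, by
          simp [MonObj.mul_comp, GrpObj.inv_comp, ha', hb']⟩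
      have : CompactSpace Γ.left := by
        have : IsClosedImmersion (j.left ≫ h.left) := by rw [← Over.comp_left, hj]; infer_instance
        have : IsClosedImmersion j.left := IsClosedImmersion.of_comp j.left h.left
        exact j.left.isClosedEmbedding.compactSpace
      refine ⟨inferInstance, L, fun g hg => ?_⟩
      have h1 : ptsHom i g ∈ Subgroup.closure Sset := by
        rw [← hrange, ← MonoidHom.map_closure]; exact ⟨g, hg, rfl⟩
      have h2 := hL h1
      change ptsHom i g ∈ Sset ^ L at h2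
      rw [← hrange, ← Set.image_pow] at h2
      exact Set.pow_subset_pow_left Set.subset_union_left ((hinj.mem_set_image).1 h2)
    · have := hA
      obtain ⟨hAirr, -⟩ := irreducibleSpace_of_connectedSpace A
      have : GeometricallyConnected A.hom :=
        Lib.GrpSch.geometricallyConnected_of_rationalPoint _ η[A].left (Over.w η[A])
      have hone : ∀ {T : Over (Spec (CommRingCat.of k))} (y : T ⟶ B),
          lift (1 : T ⟶ A) y ≫ f' = 1 := fun y => by
        rw [← cancel_mono i, Category.assoc, hf', MonObj.one_comp i]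
        simp [MonObj.comp_mul, GrpObj.comp_inv, MonObj.one_comp a]
      have : IsReduced (A ⊗ B).left := Lib.GenSub.isReduced_left (A ⊗ B)
      have : GeometricallyConnected (snd A B).left := Lib.GrpSch.snd_left_of (P := @GeometricallyConnected) B ‹_›
      have : ConnectedSpace Γ.left := connectedSpace_of_pieces Γ f' (fun x => by
        refine ⟨_, ((snd A B).left.isConnected_preimage_singleton ((snd A B).left x)).isPreconnected, rfl,
          (lift (1 : B ⟶ A) (𝟙 B)).left ((snd A B).left x), ?_, ?_⟩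
        · show (snd A B).left ((lift (1 : B ⟶ A) (𝟙 B)).left ((snd A B).left x)) = (snd A B).left x
          rw [← Scheme.Hom.comp_apply, ← Over.comp_left, lift_snd]
          rfl
        · rw [← Scheme.Hom.comp_apply, ← Over.comp_left, hone, Hom.one_def, Over.comp_left, Scheme.Hom.comp_apply]
          exact ⟨_, rfl⟩) hmin'
      have : CompactSpace Γ.left := (irreducibleSpace_of_connectedSpace Γ).2
      have hqc : QuasiCompact Γ.hom := inferInstance
      refine ⟨hqc, ?_⟩
      letI := ptTop Γ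
      letI := ptTop A
      have := wellFoundedGT_pts Γ
      let q : (𝟙_ (Over (Spec (CommRingCat.of k))) ⟶ B) → (A ⟶ Γ) := fun y =>
        lift (𝟙 A) (toUnit A ≫ y) ≫ f'
      have hq : ∀ y (x : 𝟙_ (Over (Spec (CommRingCat.of k))) ⟶ A), x ≫ q y = lift x y ≫ f' := fun y x => by
        simp only [q]
        rw [← Category.assoc, comp_lift, Category.comp_id, ← Category.assoc, toUnit_unique (x ≫ toUnit A) (𝟙 _),
          Category.id_comp]
      have hcont : ∀ y, Continuous fun x : Pts A => x ≫ q y := fun y =>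
        continuous_induced_rng.2 ((q y).left.continuous.comp continuous_induced_dom)
      obtain ⟨M, hM⟩ := exists_bound_generated (zar Γ) (imgClass Γ)
        (fun y : 𝟙_ (Over (Spec (CommRingCat.of k))) ⟶ B => Set.range fun x : Pts A => x ≫ q y)
        (fun y => by
          rw [← Set.image_univ]
          refine IsIrreducible.image ⟨⟨(1 : 𝟙_ _ ⟶ A), Set.mem_univ _⟩, ?_⟩ _ (hcont y).continuousOn
          rintro u v hu hv ⟨x₁, -, hx₁⟩ ⟨x₂, -, hx₂⟩
          obtain ⟨u', hu', rfl⟩ := isOpen_induced_iff.1 hu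
          obtain ⟨v', hv', rfl⟩ := isOpen_induced_iff.1 hv
          obtain ⟨z, -, hz⟩ := (IrreducibleSpace.isIrreducible_univ A.left).2 u' v' hu' hv' ⟨_, trivial, hx₁⟩
            ⟨_, trivial, hx₂⟩
          obtain ⟨x, hx⟩ := exists_pt_of_isLocallyClosed A (hu'.inter hv').isLocallyClosed ⟨z, hz⟩
          exact ⟨x, trivial, hx⟩)
        (fun y => ⟨A, q y, inferInstance, inferInstance, rfl⟩)
        (fun y => ⟨(1 : 𝟙_ _ ⟶ A), by show (1 : 𝟙_ _ ⟶ A) ≫ q y = 1; rw [hq, hone]⟩)
        (Y ∪ Y⁻¹)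
        (fun y => by rintro _ ⟨x, rfl⟩; exact Or.inl ⟨lift x y, (hq y x).symm⟩)
        (Or.inl ⟨lift (1 : 𝟙_ _ ⟶ A) η[B], hone _⟩)
        (fun x hx => hx.elim (fun h => Or.inr (by simpa using h)) (fun h => Or.inl (by simpa using h)))
      refine ⟨M, le_trans (Subgroup.closure_mono ?_) hM⟩
      rintro _ ⟨x, rfl⟩
      refine Set.mem_iUnion.2 ⟨x ≫ snd A B, x ≫ fst A B, ?_⟩
      show (x ≫ fst A B) ≫ q (x ≫ snd A B) = x ≫ f'
      rw [hq, ← comp_lift, lift_fst_snd, Category.comp_id]
  obtain ⟨_, M, hM⟩ := key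
  let t : Spec (CommRingCat.of k) ⟶ Spec (CommRingCat.of k) := 𝟙 _
  have hsigned : signed f' (Over.mk t) = Y ∪ Y⁻¹ := rfl
  have hbound : (Subgroup.closure (signed f' (Over.mk t)) : Set (Over.mk t ⟶ Γ)) ⊆ signed f' (Over.mk t) ^ M := by
    rw [hsigned]
    refine le_trans ?_ hM
    refine (Subgroup.closure_le _).2 (Set.union_subset Subgroup.subset_closure fun g hg => ?_)
    simpa using Subgroup.inv_mem _ (Subgroup.subset_closure (Set.mem_inv.1 hg))
  have huniv := wordSet_eq_univ_of_bound f' t M hbound hmin'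
  have htop : Subgroup.closure Y = ⊤ := by
    refine (Subgroup.eq_top_iff' _).2 fun g => ?_
    have h := (pt_mem_wordSet_iff f' t M g).1 (huniv ▸ Set.mem_univ _)
    obtain ⟨x, ε, hx⟩ := (mem_signed_pow_iff f').1 h
    rw [← hx]
    refine Subgroup.list_prod_mem _ fun y hy => ?_
    obtain ⟨l, rfl⟩ := List.mem_ofFn.1 hy
    split
    · exact Subgroup.subset_closure ⟨_, rfl⟩
    · exact Subgroup.inv_mem _ (Subgroup.subset_closure ⟨_, rfl⟩)
  show ((ptsHom i).range : Set (𝟙_ (Over (Spec (CommRingCat.of k))) ⟶ G)) =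
    SetLike.coe (⁅Subgroup.closure (Set.range (ptsHom a)), Subgroup.closure (Set.range (ptsHom b))⁆ : Subgroup (𝟙_ (Over (Spec (CommRingCat.of k))) ⟶ G))
  congr 1
  rw [MonoidHom.range_eq_map, ← htop, MonoidHom.map_closure, hrange, ← MonoidHom.coe_range (ptsHom a),
    ← MonoidHom.coe_range (ptsHom b), Subgroup.closure_eq, Subgroup.closure_eq, Subgroup.commutator_def]
  rfl

end Groth.Agent.S6073
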