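import Groth.Statements.S13402
import Groth.Agent.H66.ExactSeq

set_option autoImplicit false
universe u v w
open Hopf

namespace Groth.Agent.S13402

/-- Let k be a field and let A and B be finite-dimensional commutative and cocommutative Hopf algebras
over k (finite commutative k-group schemes G = Spec A and H = Spec B). Let f : B → A be a bialgebra
map (a homomorphism G → H) which is injective and such that the ideal of A generated by the image of
the augmentation ideal of B is the augmentation ideal of A (the homomorphism G → H has trivial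
kernel). Then f is bijective, so G → H is an isomorphism; this is what makes the category of finite
commutative k-group schemes abelian. -/
theorem result (k : Type u) [Field k] (A : Type v) (B : Type w)
    [CommRing A] [HopfAlgebra k A] [Module.Finite k A] [Coalgebra.IsCocomm k A]
    [CommRing B] [HopfAlgebra k B] [Module.Finite k B] [Coalgebra.IsCocomm k B]
    (f : B →ₐc[k] A) (hinj : Function.Injective f)
    (hker : Ideal.map f (RingHom.ker (Bialgebra.counitAlgHom k B)) = RingHom.ker (Bialgebra.counitAlgHom k A)) :
    Function.Bijective f := by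
  refine ⟨hinj, fun a => ?_⟩
  let S : Subalgebra k A := (f : B →ₐ[k] A).range
  have h1 : ∀ x ∈ S, CoalgebraStruct.comul (R := k) x ∈
      LinearMap.range (TensorProduct.map S.val.toLinearMap S.val.toLinearMap) := by
    rintro _ ⟨b, rfl⟩
    refine ⟨TensorProduct.map (f : B →ₐ[k] A).rangeRestrict.toLinearMap
      (f : B →ₐ[k] A).rangeRestrict.toLinearMap (CoalgebraStruct.comul (R := k) b), ?_⟩
    rw [← LinearMap.comp_apply, ← TensorProduct.map_comp]
    exact CoalgHomClass.map_comp_comul_apply f b
  have h2 : ∀ x ∈ S, HopfAlgebraStruct.antipode (R := k) x ∈ S := by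
    rintro _ ⟨b, rfl⟩
    exact ⟨HopfAlgebraStruct.antipode (R := k) b,
      (Groth.Agent.Lib.Hopf.FaithfullyFlat.map_antipode f b).symm⟩
  haveI : Module.FaithfullyFlat S A := Groth.Agent.H66.ExactSeq.faithfullyFlat_subalgebra S h1 h2
  have h3 : RingHom.ker (Bialgebra.counitAlgHom k A) ≤
      Ideal.span {x | x ∈ S ∧ CoalgebraStruct.counit (R := k) x = 0} := by
    rw [← hker, Ideal.map_le_iff_le_comap]
    intro b hb
    refine Ideal.subset_span ⟨⟨b, rfl⟩, ?_⟩
    rw [RingHom.mem_ker] at hb
    exact (CoalgHomClass.counit_comp_apply f b).trans hb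
  obtain ⟨b, hb⟩ := Groth.Agent.H66.ExactSeq.mem_of_coinvariant S h1 h2
    (Bialgebra.counitAlgHom k A) h3 (a := a)
    (Coalgebra.lTensor_counit_comul a)
  exact ⟨b, hb⟩

end Groth.Agent.S13402
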