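import Groth.Statements.S18543
import Groth.Agent.Lib.OT67.Points
import Groth.Agent.Lib.OT67.BaseChange
import Mathlib

set_option autoImplicit false
universe u
open Hopf

namespace Groth.Agent.S18543

/-- Let p be a prime number, k a field of characteristic p and A a finite-dimensional commutative,
cocommutative Hopf algebra over k — the coordinate ring of a finite commutative group scheme G over
k — such that A is étale over k and dim_k A = p^n for some n (G is an étale group scheme of p-power
order). Then the Cartier dual A^∨ = Hom_k(A, k), with its convolution ring structure, is a local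
ring; that is, the Cartier dual group scheme G^∨ = Spec A^∨ is infinitesimal (its underlying space
is a single point). -/
theorem result (p : ℕ) [Fact p.Prime]
    (k : Type u) [Field k] [CharP k p] (A : Type u) [CommRing A] [HopfAlgebra k A] [Coalgebra.IsCocomm k A]
    [Module.Finite k A] [Algebra.Etale k A] (n : ℕ) (hA : Module.finrank k A = p ^ n) :
    IsLocalRing (CartDual.D k A) := by
  classical
  let K := AlgebraicClosure k
  let B := TensorProduct k K A
  haveI : Algebra.Etale K B := Algebra.Etale.baseChange (R := k) (A := A) (B := K)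
  haveI : IsReduced B := Algebra.FormallyUnramified.isReduced_of_field K B
  haveI : CharP K p := charP_of_injective_algebraMap (algebraMap k K).injective p
  haveI := Groth.Agent.Lib.OT67.finite_points (k := K) (A := B)
  cases nonempty_fintype (WithConv (B →ₐ[K] K))
  have hcard : Nat.card (WithConv (B →ₐ[K] K)) = p ^ n := by
    rw [Groth.Agent.Lib.OT67.card_points, Module.finrank_baseChange, hA]
  have hord : ∀ g : WithConv (B →ₐ[K] K), g ^ (p ^ n) = 1 := fun g => hcard ▸ pow_card_eq_one'
  let L : MonoidAlgebra K (WithConv (B →ₐ[K] K)) →ₐ[K] WithConv (B →ₗ[K] K) :=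
    MonoidAlgebra.lift K _ _
      { toFun := fun g => WithConv.toConv g.ofConv.toLinearMap
        map_one' := AlgHom.toLinearMap_convOne
        map_mul' := fun g h => AlgHom.toLinearMap_convMul g h }
  have hL : ∀ g c, L (MonoidAlgebra.single g c) = c • WithConv.toConv g.ofConv.toLinearMap := fun g c => by
    simp [L]
  haveI : CharP (MonoidAlgebra K (WithConv (B →ₐ[K] K))) p :=
    charP_of_injective_algebraMap (algebraMap K _).injective p
  have hsurj : Function.Surjective L := fun φ => by
    refine ⟨∑ h : WithConv (B →ₐ[K] K),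
      MonoidAlgebra.single h (φ (Groth.Agent.Lib.OT67.gelfand.symm (Pi.single h 1))), ?_⟩
    apply WithConv.ofConv_injective
    refine LinearMap.ext fun a => ?_
    simp only [map_sum, hL, WithConv.ofConv_sum, LinearMap.sum_apply, WithConv.ofConv_smul, LinearMap.smul_apply,
      WithConv.ofConv_toConv, AlgHom.toLinearMap_apply, smul_eq_mul]
    have ha : a = ∑ h : WithConv (B →ₐ[K] K), h.ofConv a • Groth.Agent.Lib.OT67.gelfand.symm (Pi.single h 1) := by
      apply (Groth.Agent.Lib.OT67.gelfand (k := K) (A := B)).injective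
      rw [map_sum]
      funext h'
      simp [Finset.sum_apply, Groth.Agent.Lib.OT67.gelfand_apply, Pi.single_apply]
    conv_rhs => rw [ha]
    rw [map_sum]
    refine Finset.sum_congr rfl fun h _ => ?_
    rw [map_smul, smul_eq_mul, mul_comm]
  have hfrob : ∀ ψ : WithConv (B →ₗ[K] K), ψ ^ (p ^ n) = (ψ.ofConv 1) ^ (p ^ n) • (1 : WithConv (B →ₗ[K] K)) := by
    intro ψ
    obtain ⟨z, rfl⟩ := hsurj ψ
    have hz := (MonoidAlgebra.basis (WithConv (B →ₐ[K] K)) K).sum_repr z
    rw [← map_pow, ← hz, sum_pow_char_pow]
    simp only [smul_pow, MonoidAlgebra.basis_apply, MonoidAlgebra.single_pow, hord, one_pow, map_sum, map_smul, hL,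
      one_smul]
    rw [← Finset.sum_smul, ← sum_pow_char_pow]
    simp only [WithConv.ofConv_sum, WithConv.ofConv_smul, LinearMap.sum_apply, LinearMap.smul_apply,
      WithConv.ofConv_toConv, AlgHom.toLinearMap_apply, map_one, smul_eq_mul, mul_one]
    exact congrArg _ AlgHom.toLinearMap_convOne
  have hnil : ∀ φ : CartDual.D k A, φ.ofConv 1 = 0 → φ ^ (p ^ n) = 0 := by
    intro φ hφ
    have h := hfrob (Groth.Agent.Lib.OT67.bcDual K φ)
    have h0 : (Groth.Agent.Lib.OT67.bcDual K φ).ofConv (1 : B) = 0 := by
      show (Groth.Agent.Lib.OT67.bcForm K φ).ofConv ((1 : K) ⊗ₜ[k] (1 : A)) = 0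
      rw [Groth.Agent.Lib.OT67.bcForm_apply, hφ, map_zero, mul_zero]
    rw [h0, zero_pow (pow_ne_zero _ (Fact.out : p.Prime).ne_zero), zero_smul] at h
    refine WithConv.ofConv_injective (LinearMap.ext fun a => (algebraMap k K).injective ?_)
    have h2 := congrArg (fun t => t.ofConv ((1 : K) ⊗ₜ[k] a)) ((map_pow (Groth.Agent.Lib.OT67.bcDual K) φ (p ^ n)).trans h)
    simp only [WithConv.ofConv_zero, LinearMap.zero_apply] at h2 ⊢
    rw [map_zero, ← h2]
    show _ = (Groth.Agent.Lib.OT67.bcForm K (φ ^ (p ^ n))).ofConv _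
    rw [Groth.Agent.Lib.OT67.bcForm_apply, one_mul]
  let ε := Bialgebra.counitAlgHom k (CartDual.D k A)
  have hmax : (RingHom.ker ε).IsMaximal :=
    RingHom.ker_isMaximal_of_surjective _ fun c => ⟨algebraMap k _ c, ε.commutes c⟩
  refine IsLocalRing.of_unique_max_ideal ⟨RingHom.ker ε, hmax, fun M hM => ?_⟩
  refine (hmax.eq_of_le hM.ne_top ?_).symm
  intro φ hφ
  exact nilradical_le_prime M ⟨p ^ n, hnil φ hφ⟩

end Groth.Agent.S18543
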