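import Groth.Statements.S15945
import Groth.Agent.Lib.Ferrand.Props

set_option autoImplicit false
universe u
open Pinch

namespace Groth.Agent.S15945

open CategoryTheory AlgebraicGeometry in
/-- Let Y be a scheme, f : X → Y a morphism, t : T → Y a scheme affine over Y, ξ : Z → T a morphism with
Z affine over Y via ξ followed by t, and ι : Z → X a closed immersion over Y; assume every point of
Y has an affine open neighbourhood U together with an affine open V of X inside the preimage of U
containing the image under ι of the part of Z over U; assume moreover that Y is locally Noetherian,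
f and t are of finite type and ξ is finite, and let X → P ← T be a push-out of ι and ξ in the
category of schemes. Then X → P is finite, the square is also cartesian (Z is identified with X ×_P
T), and T → P is a closed immersion. -/
theorem result {X Y T Z : Scheme.{u}} (f : X ⟶ Y) (t : T ⟶ Y) (ξ : Z ⟶ T) (ι : Z ⟶ X)
    [IsAffineHom t] [IsAffineHom (ξ ≫ t)] [IsClosedImmersion ι] (hsq : ι ≫ f = ξ ≫ t)
    (hstd : ∀ y : Y, ∃ U : Y.Opens, IsAffineOpen U ∧ y ∈ U ∧ ∃ V : X.Opens, IsAffineOpen V ∧
      V ≤ f ⁻¹ᵁ U ∧ ∀ z : Z, (ξ ≫ t).base z ∈ U → ι.base z ∈ V)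
    [IsLocallyNoetherian Y] [LocallyOfFiniteType f] [QuasiCompact f] [LocallyOfFiniteType t] [QuasiCompact t]
    [IsFinite ξ] {P : Scheme.{u}} (a : X ⟶ P) (b : T ⟶ P) (hP : IsPushout ι ξ a b) :
    IsFinite a ∧ IsPullback ι ξ a b ∧ IsClosedImmersion b := by
  have hcov : ∀ y : T, ∃ k : Groth.Agent.Lib.Ferrand.AffPair ι ξ, y ∈ k.V := by
    intro y
    obtain ⟨U, hU, hyU, V, hV, hVU, hVZ⟩ := hstd (t.base y)
    refine ⟨⟨V, t ⁻¹ᵁ U, hV, hU.preimage t, le_antisymm (fun z hz => ?_) (fun z hz => hVZ z hz)⟩, hyU⟩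
    show (ξ ≫ t).base z ∈ U
    rw [← hsq]
    exact hVU hz
  have hg := Groth.Agent.Lib.Ferrand.GluedBy.of_isPushout hcov hP
  refine ⟨?_, hg.isPullback, hg.isClosedImmersion_right⟩
  have := hg.isIntegralHom_left
  have : LocallyOfFiniteType (a ≫ hP.desc f t hsq) := by rw [hP.inl_desc]; infer_instance
  have : LocallyOfFiniteType a := locallyOfFiniteType_of_comp a (hP.desc f t hsq)
  exact (IsFinite.iff_isIntegralHom_and_locallyOfFiniteType a).mpr ⟨‹_›, ‹_›⟩

end Groth.Agent.S15945
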