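import Groth.Statements.S7182
import Groth.Agent.Lib.Ferrand.Chart
import Groth.Agent.Lib.Ferrand.FiniteType

set_option autoImplicit false
universe u
open FlatMor

namespace Groth.Agent.S7182

open AlgebraicGeometry CategoryTheory Limits in
set_option backward.isDefEq.respectTransparency false in
/-- In the pushout P = Y ⨿_Z X of a closed immersion i : Z → X and an integral morphism j : Z → Y over a
locally Noetherian base S (each fibre of j inside the preimage of an affine open of X), when X, Y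
and Z are each locally of finite type over S, the pushout P is locally of finite type over S as
well. -/
theorem result {X Y Z P S : Scheme.{u}} (i : Z ⟶ X) (j : Z ⟶ Y) [IsClosedImmersion i] [IsIntegralHom j]
    (haff : ∀ y : Y, ∃ U : X.Opens, IsAffineOpen U ∧ j ⁻¹' {y} ⊆ (i ⁻¹ᵁ U : Set ↑Z))
    (a : X ⟶ P) (b : Y ⟶ P) (hP : IsPushout i j a b) (p : X ⟶ S) (q : Y ⟶ S) (r : P ⟶ S)
    (hp : a ≫ r = p) (hq : b ≫ r = q) [IsLocallyNoetherian S]
    [LocallyOfFiniteType p] [LocallyOfFiniteType q] [LocallyOfFiniteType (j ≫ q)] : LocallyOfFiniteType r := by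
  classical
  have hcov := Groth.Agent.Lib.Ferrand.cover_of_integral i j haff
  have key : ∀ x : P, ∃ (W : Scheme.{u}) (e : W ⟶ P), IsOpenImmersion e ∧ x ∈ Set.range e ∧
      LocallyOfFiniteType (e ≫ r) := by
    intro x
    obtain ⟨V, hV, hxV, -⟩ := exists_isAffineOpen_mem_and_subset (x := r x) (U := ⊤) trivial
    obtain ⟨k₀, e₀, he₀, ⟨x₀, rfl⟩, f₁, f₂, -, -⟩ :=
      (Groth.Agent.Lib.Ferrand.GluedBy.of_isPushout hcov hP).chart x
    obtain ⟨n, hn, ⟨x₁, hx₁⟩, hsub, -⟩ :=
      k₀.exists_le ((e₀ ≫ r) ⁻¹ᵁ V) x₀ (show (e₀ ≫ r) x₀ ∈ V from hxV)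
    have := (Groth.Agent.Lib.Ferrand.AffPair.map_prop hn).1
    refine ⟨n.obj, Groth.Agent.Lib.Ferrand.AffPair.map hn ≫ e₀, inferInstance,
      ⟨x₁, by rw [Scheme.Hom.comp_apply, hx₁]⟩, ?_⟩
    have hrange : Set.range ((Groth.Agent.Lib.Ferrand.AffPair.map hn ≫ e₀) ≫ r) ⊆
        Set.range V.ι := by
      rintro _ ⟨z, rfl⟩
      rw [Scheme.Opens.range_ι, Category.assoc, Scheme.Hom.comp_apply]
      exact hsub ⟨z, rfl⟩
    let g := IsOpenImmersion.lift V.ι _ hrange
    have hg : g ≫ V.ι = (Groth.Agent.Lib.Ferrand.AffPair.map hn ≫ e₀) ≫ r :=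
      IsOpenImmersion.lift_fac _ _ _
    rw [← hg]
    suffices LocallyOfFiniteType g from inferInstance
    have : IsAffine V.toScheme := hV
    have : IsNoetherianRing Γ(S, V) := IsLocallyNoetherian.component_noetherian ⟨V, hV⟩
    have : IsNoetherianRing Γ(V.toScheme, ⊤) :=
      isNoetherianRing_of_ringEquiv Γ(S, V) V.topIso.commRingCatIsoToRingEquiv.symm
    have hna : LocallyOfFiniteType (n.a ≫ g) := by
      have : LocallyOfFiniteType ((n.a ≫ g) ≫ V.ι) := by
        rw [Category.assoc, hg, Category.assoc, Groth.Agent.Lib.Ferrand.AffPair.a_map_assoc,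
          ← reassoc_of% f₁, hp, Scheme.homOfLE_ι_assoc]
        infer_instance
      exact locallyOfFiniteType_of_comp (n.a ≫ g) V.ι
    have hnb : LocallyOfFiniteType (n.b ≫ g) := by
      have : LocallyOfFiniteType ((n.b ≫ g) ≫ V.ι) := by
        rw [Category.assoc, hg, Category.assoc, Groth.Agent.Lib.Ferrand.AffPair.b_map_assoc,
          ← reassoc_of% f₂, hq, Scheme.homOfLE_ι_assoc]
        infer_instance
      exact locallyOfFiniteType_of_comp (n.b ≫ g) V.ι
    have : IsIntegralHom (j.resLE n.V (i ⁻¹ᵁ n.U) n.eq.le) := by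
      rw [(j.resLE_congr n.eq.le rfl n.eq @IsIntegralHom), Scheme.Hom.resLE_eq_morphismRestrict]
      infer_instance
    exact n.affSq.locallyOfFiniteType g
  choose W e he hx hlft using key
  let 𝒰 : P.OpenCover :=
    { I₀ := P
      X := W
      f := e
      mem₀ := by
        rw [Scheme.presieve₀_mem_precoverage_iff]
        exact ⟨fun p => ⟨p, hx p⟩, fun p => he p⟩ }
  exact IsZariskiLocalAtSource.of_openCover (P := @LocallyOfFiniteType) 𝒰 hlft

end Groth.Agent.S7182
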