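import Groth.Statements.S15944
import Groth.Agent.Lib.Ferrand.Props
import Groth.Agent.S7182
import Groth.Agent.S15945
import Mathlib.AlgebraicGeometry.Morphisms.Proper

set_option autoImplicit false
universe u
open Pinch CategoryTheory CategoryTheory.Limits AlgebraicGeometry

namespace Groth.Agent.S15944

open CategoryTheory AlgebraicGeometry in
/-- Let Y be a scheme, f : X → Y a morphism, t : T → Y a scheme affine over Y, ξ : Z → T a morphism with
Z affine over Y via ξ followed by t, and ι : Z → X a closed immersion over Y; assume every point of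
Y has an affine open neighbourhood U together with an affine open V of X inside the preimage of U
containing the image under ι of the part of Z over U; assume moreover that Y is locally Noetherian,
f and t are of finite type and ξ is finite, and let X → P ← T be a push-out of ι and ξ in the
category of schemes, with p : P → Y the induced morphism. Then p is of finite type, and if X and T
are proper over Y then so is P. -/
theorem result {X Y T Z : Scheme.{u}} (f : X ⟶ Y) (t : T ⟶ Y) (ξ : Z ⟶ T) (ι : Z ⟶ X)
    [IsAffineHom t] [IsAffineHom (ξ ≫ t)] [IsClosedImmersion ι] (hsq : ι ≫ f = ξ ≫ t)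
    (hstd : ∀ y : Y, ∃ U : Y.Opens, IsAffineOpen U ∧ y ∈ U ∧ ∃ V : X.Opens, IsAffineOpen V ∧
      V ≤ f ⁻¹ᵁ U ∧ ∀ z : Z, (ξ ≫ t).base z ∈ U → ι.base z ∈ V)
    [IsLocallyNoetherian Y] [LocallyOfFiniteType f] [QuasiCompact f] [LocallyOfFiniteType t] [QuasiCompact t]
    [IsFinite ξ] {P : Scheme.{u}} (a : X ⟶ P) (b : T ⟶ P) (hP : IsPushout ι ξ a b)
    (p : P ⟶ Y) (hap : a ≫ p = f) (hbp : b ≫ p = t) :
    (LocallyOfFiniteType p ∧ QuasiCompact p) ∧ (IsProper f → IsProper t → IsProper p) := by
  have hcov : ∀ y : T, ∃ k : Groth.Agent.Lib.Ferrand.AffPair ι ξ, y ∈ k.V := by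
    intro y
    obtain ⟨U, hU, hyU, V, hV, hVU, hVZ⟩ := hstd (t.base y)
    refine ⟨⟨V, t ⁻¹ᵁ U, hV, hU.preimage t, le_antisymm (fun z hz => ?_) (fun z hz => hVZ z hz)⟩, hyU⟩
    show (ξ ≫ t).base z ∈ U
    rw [← hsq]
    exact hVU hz
  have hg := Groth.Agent.Lib.Ferrand.GluedBy.of_isPushout hcov hP
  have hsurj := hg.surj
  have haff : ∀ y : T, ∃ U : X.Opens, IsAffineOpen U ∧ ξ ⁻¹' {y} ⊆ (ι ⁻¹ᵁ U : Set Z) := fun y => by
    obtain ⟨U, -, hyU, V, hV, -, hVZ⟩ := hstd (t.base y)
    exact ⟨V, hV, fun z hz => hVZ z (show t (ξ z) ∈ U from (show ξ z = y from hz) ▸ hyU)⟩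
  have hlft : LocallyOfFiniteType p :=
    Groth.Agent.S7182.result ι ξ haff a b hP f t p hap hbp
  have hqc : QuasiCompact p := ⟨fun U hU hU' => by
    have h₁ : IsCompact (f ⁻¹' U) := QuasiCompact.isCompact_preimage U hU hU'
    have h₂ : IsCompact (t ⁻¹' U) := QuasiCompact.isCompact_preimage U hU hU'
    have : p ⁻¹' U = a '' (f ⁻¹' U) ∪ b '' (t ⁻¹' U) := by
      ext x
      constructor
      · intro hx
        rcases hsurj x with ⟨y, rfl⟩ | ⟨y, rfl⟩
        · exact Or.inl ⟨y, show f y ∈ U from hap ▸ hx, rfl⟩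
        · exact Or.inr ⟨y, show t y ∈ U from hbp ▸ hx, rfl⟩
      · rintro (⟨y, hy, rfl⟩ | ⟨y, hy, rfl⟩)
        · exact show (a ≫ p) y ∈ U from hap ▸ hy
        · exact show (b ≫ p) y ∈ U from hbp ▸ hy
    rw [this]
    exact (h₁.image a.continuous).union (h₂.image b.continuous)⟩
  refine ⟨⟨hlft, hqc⟩, fun hf ht => ?_⟩
  have : IsFinite a := (Groth.Agent.S15945.result f t ξ ι hsq hstd a b hP).1
  have := hg.isClosedImmersion_right
  have : IsProper a := inferInstance
  have : IsProper b := inferInstance
  have : UniversallyClosed p := by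
    constructor
    intro P' Y' i₁ i₂ f' H C hC
    have ha : IsClosedMap (pullback.fst i₁ a ≫ f') := by
      have : UniversallyClosed (a ≫ p) := by rw [hap]; infer_instance
      exact UniversallyClosed.universally_isClosedMap _ _ _
        ((IsPullback.of_hasPullback i₁ a).paste_horiz H)
    have hb : IsClosedMap (pullback.fst i₁ b ≫ f') := by
      have : UniversallyClosed (b ≫ p) := by rw [hbp]; infer_instance
      exact UniversallyClosed.universally_isClosedMap _ _ _
        ((IsPullback.of_hasPullback i₁ b).paste_horiz H)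
    have : f' '' C = (pullback.fst i₁ a ≫ f') '' (pullback.fst i₁ a ⁻¹' C) ∪
        (pullback.fst i₁ b ≫ f') '' (pullback.fst i₁ b ⁻¹' C) := by
      ext y
      constructor
      · rintro ⟨x, hx, rfl⟩
        rcases hsurj (i₁ x) with ⟨z, hz⟩ | ⟨z, hz⟩
        · obtain ⟨w, rfl⟩ : x ∈ Set.range (pullback.fst i₁ a) := by
            rw [Scheme.Pullback.range_fst]; exact ⟨z, hz⟩
          exact Or.inl ⟨w, hx, rfl⟩
        · obtain ⟨w, rfl⟩ : x ∈ Set.range (pullback.fst i₁ b) := by
            rw [Scheme.Pullback.range_fst]; exact ⟨z, hz⟩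
          exact Or.inr ⟨w, hx, rfl⟩
      · rintro (⟨w, hw, rfl⟩ | ⟨w, hw, rfl⟩) <;> exact ⟨_, hw, rfl⟩
    rw [this]
    exact (ha _ (hC.preimage (pullback.fst i₁ a).continuous)).union
      (hb _ (hC.preimage (pullback.fst i₁ b).continuous))
  have : IsSeparated p := by
    refine ⟨IsClosedImmersion.of_isPreimmersion _ ?_⟩
    let A := pullback.map f f p p a a (𝟙 Y) (by simp [hap]) (by simp [hap])
    let B := pullback.map t t p p b b (𝟙 Y) (by simp [hbp]) (by simp [hbp])
    have hA : IsProper A := MorphismProperty.pullbackMap ‹IsProper a› ‹IsProper a› hap.symm hap.symm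
    have hB : IsProper B := MorphismProperty.pullbackMap ‹IsProper b› ‹IsProper b› hbp.symm hbp.symm
    have eA : pullback.diagonal f ≫ A = a ≫ pullback.diagonal p := by
      apply pullback.hom_ext
      · simp only [A, pullback.map, Category.assoc, pullback.lift_fst]
        erw [pullback.lift_fst]
        simp
      · simp only [A, pullback.map, Category.assoc, pullback.lift_snd]
        erw [pullback.lift_snd]
        simp
    have eB : pullback.diagonal t ≫ B = b ≫ pullback.diagonal p := by
      apply pullback.hom_ext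
      · simp only [B, pullback.map, Category.assoc, pullback.lift_fst]
        erw [pullback.lift_fst]
        simp
      · simp only [B, pullback.map, Category.assoc, pullback.lift_snd]
        erw [pullback.lift_snd]
        simp
    have : Set.range (pullback.diagonal p) =
        Set.range (pullback.diagonal f ≫ A) ∪ Set.range (pullback.diagonal t ≫ B) := by
      rw [eA, eB]
      ext x
      constructor
      · rintro ⟨z, rfl⟩
        rcases hsurj z with ⟨y, rfl⟩ | ⟨y, rfl⟩
        · exact Or.inl ⟨y, rfl⟩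
        · exact Or.inr ⟨y, rfl⟩
      · rintro (⟨y, rfl⟩ | ⟨y, rfl⟩) <;> exact ⟨_, rfl⟩
    rw [this]
    exact (pullback.diagonal f ≫ A).isClosedMap.isClosed_range.union
      (pullback.diagonal t ≫ B).isClosedMap.isClosed_range
  exact {}

end Groth.Agent.S15944
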