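import Groth.Statements.S15954
import Groth.Agent.Lib.Ferrand.BaseChangeCoker

set_option autoImplicit false
universe u
open Pinch CategoryTheory CategoryTheory.Limits AlgebraicGeometry

namespace Groth.Agent.S15954

theorem cokFlat_resLE {T Z Y : Scheme.{u}} (t : T ⟶ Y) (ξ : Z ⟶ T) [IsAffineHom t] [IsAffineHom ξ]
    [Flat ξ] [Surjective ξ] (U : Y.Opens) (hU : IsAffineOpen U)
    (hproj : @Pinch.CokerProjective Γ(Y, U) Γ(Z, (ξ ≫ t) ⁻¹ᵁ U) Γ(T, t ⁻¹ᵁ U) _ _ _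
      ((ξ ≫ t).app U).hom.toAlgebra (ξ.app (t ⁻¹ᵁ U)).hom)
    (V : T.Opens) (W : Z.Opens) (hV : V = t ⁻¹ᵁ U) (hW : W = ξ ⁻¹ᵁ (t ⁻¹ᵁ U))
    (e₁ : V ≤ t ⁻¹ᵁ U) (e₂ : W ≤ ξ ⁻¹ᵁ V) :
    Groth.Agent.Lib.Ferrand.CokFlat (t.resLE U V e₁).appTop.hom (ξ.resLE V W e₂).appTop.hom := by
  subst hV hW
  have hinj : Function.Injective (ξ.resLE (t ⁻¹ᵁ U) (ξ ⁻¹ᵁ t ⁻¹ᵁ U) e₂).appTop.hom := by
    have : IsAffine (t ⁻¹ᵁ U).toScheme := hU.preimage t
    have : IsAffine (ξ ⁻¹ᵁ t ⁻¹ᵁ U).toScheme := (hU.preimage t).preimage ξ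
    rw [Scheme.Hom.resLE_eq_morphismRestrict]
    exact ((Flat.flat_and_surjective_iff_faithfullyFlat_of_isAffine (ξ ∣_ t ⁻¹ᵁ U)).mp
      ⟨MorphismProperty.of_isPullback (isPullback_morphismRestrict ξ _).flip ‹Flat ξ›,
        IsZariskiLocalAtTarget.restrict ‹Surjective ξ› _⟩).injective
  have hκ : ∀ r, (t.resLE U (t ⁻¹ᵁ U) e₁).appTop.hom r =
      (t ⁻¹ᵁ U).topIso.inv.hom ((t.app U).hom (U.topIso.hom.hom r)) := fun r => by
    rw [Scheme.Hom.appTop, Scheme.Hom.resLE_app_top, Scheme.Hom.app_eq_appLE]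
    rfl
  have hq : ∀ r, (ξ.resLE (t ⁻¹ᵁ U) (ξ ⁻¹ᵁ t ⁻¹ᵁ U) e₂).appTop.hom r =
      (ξ ⁻¹ᵁ t ⁻¹ᵁ U).topIso.inv.hom
        ((ξ.app (t ⁻¹ᵁ U)).hom ((t ⁻¹ᵁ U).topIso.hom.hom r)) := fun r => by
    rw [Scheme.Hom.appTop, Scheme.Hom.resLE_app_top, Scheme.Hom.app_eq_appLE]
    rfl
  have hbase : Groth.Agent.Lib.Ferrand.CokFlat (t.app U).hom (ξ.app (t ⁻¹ᵁ U)).hom := by
    refine ⟨?_, ?_⟩
    · intro x y hxy
      obtain ⟨x, rfl⟩ := (t ⁻¹ᵁ U).topIso.commRingCatIsoToRingEquiv.surjective x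
      obtain ⟨y, rfl⟩ := (t ⁻¹ᵁ U).topIso.commRingCatIsoToRingEquiv.surjective y
      exact congrArg _ (hinj ((hq x).trans ((congrArg _ hxy).trans (hq y).symm)))
    · let κ : Γ(Y, U) →+* Γ(Z, ξ ⁻¹ᵁ t ⁻¹ᵁ U) := (ξ.app (t ⁻¹ᵁ U)).hom.comp (t.app U).hom
      letI : Algebra Γ(Y, U) Γ(Z, ξ ⁻¹ᵁ t ⁻¹ᵁ U) := κ.toAlgebra
      let M : Submodule Γ(Y, U) Γ(Z, ξ ⁻¹ᵁ t ⁻¹ᵁ U) :=
        Submodule.span Γ(Y, U) (Set.range (ξ.app (t ⁻¹ᵁ U)).hom)
      have hp : Module.Projective Γ(Y, U) (Γ(Z, ξ ⁻¹ᵁ t ⁻¹ᵁ U) ⧸ M) := hproj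
      refine ⟨Γ(Z, ξ ⁻¹ᵁ t ⁻¹ᵁ U) ⧸ M, inferInstance, inferInstance, M.mkQ.toAddMonoidHom,
        inferInstance, M.mkQ_surjective, fun r z => ?_,
        fun z => (Submodule.Quotient.mk_eq_zero _).trans ?_⟩
      · show M.mkQ ((algebraMap Γ(Y, U) Γ(Z, ξ ⁻¹ᵁ t ⁻¹ᵁ U) r) * z) = r • M.mkQ z
        rw [← map_smul, Algebra.smul_def]
      · refine ⟨fun hz => ?_, fun ⟨x, hx⟩ => Submodule.subset_span ⟨x, hx⟩⟩
        refine Submodule.span_induction (fun z hz => hz) ⟨0, map_zero _⟩ ?_ ?_ hz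
        · rintro _ _ _ _ ⟨x, rfl⟩ ⟨x', rfl⟩
          exact ⟨x + x', map_add _ _ _⟩
        · rintro r _ _ ⟨x, rfl⟩
          exact ⟨(t.app U).hom r * x, map_mul _ _ _⟩
  refine hbase.comp_ringEquiv U.topIso.commRingCatIsoToRingEquiv
    (t ⁻¹ᵁ U).topIso.symm.commRingCatIsoToRingEquiv
    (ξ ⁻¹ᵁ t ⁻¹ᵁ U).topIso.symm.commRingCatIsoToRingEquiv _ _ hκ fun x => (hq _).trans ?_
  refine congrArg _ (congrArg _ ?_)
  exact (t ⁻¹ᵁ U).topIso.commRingCatIsoToRingEquiv.apply_symm_apply x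


open CategoryTheory AlgebraicGeometry in
/-- Let Y be a scheme, f : X → Y a morphism, t : T → Y a scheme affine over Y, ξ : Z → T a morphism with
Z affine over Y via ξ followed by t, and ι : Z → X a closed immersion over Y; assume every point of
Y has an affine open neighbourhood U together with an affine open V of X inside the preimage of U
containing the image under ι of the part of Z over U; assume moreover that Y is locally Noetherian,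
f and t are of finite type and ξ is finite, and let X → P ← T be a push-out of ι and ξ in the
category of schemes; assume finally that ξ is faithfully flat and that over every affine open U of Y
the cokernel of the map from functions on t⁻¹(U) to functions on the part of Z over U is a
projective module over the functions on U. Let p : P → Y be the induced morphism. Then the push-out
commutes with every base change: for every morphism Y' → Y the square obtained by pulling back Z →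
X, Z → T, X → P and T → P along Y' → Y is a push-out square in the category of schemes. -/
theorem result {X Y T Z : Scheme.{u}} (f : X ⟶ Y) (t : T ⟶ Y) (ξ : Z ⟶ T) (ι : Z ⟶ X)
    [IsAffineHom t] [IsAffineHom (ξ ≫ t)] [IsClosedImmersion ι] (hsq : ι ≫ f = ξ ≫ t)
    (hstd : ∀ y : Y, ∃ U : Y.Opens, IsAffineOpen U ∧ y ∈ U ∧ ∃ V : X.Opens, IsAffineOpen V ∧
      V ≤ f ⁻¹ᵁ U ∧ ∀ z : Z, (ξ ≫ t).base z ∈ U → ι.base z ∈ V)
    [IsLocallyNoetherian Y] [LocallyOfFiniteType f] [QuasiCompact f] [LocallyOfFiniteType t] [QuasiCompact t]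
    [IsFinite ξ] {P : Scheme.{u}} (a : X ⟶ P) (b : T ⟶ P) (hP : IsPushout ι ξ a b)
    [Flat ξ] [Surjective ξ]
    (hv : ∀ U : Y.affineOpens, @Pinch.CokerProjective Γ(Y, U) Γ(Z, (ξ ≫ t) ⁻¹ᵁ U) Γ(T, t ⁻¹ᵁ U) _ _ _
      ((ξ ≫ t).app U).hom.toAlgebra (ξ.app (t ⁻¹ᵁ U)).hom)
    (p : P ⟶ Y) (hap : a ≫ p = f) (hbp : b ≫ p = t) {Y' : Scheme.{u}} (g : Y' ⟶ Y) :
    IsPushout ((Over.pullback g).map (Over.homMk ι hsq : Over.mk (ξ ≫ t) ⟶ Over.mk f)).left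
      ((Over.pullback g).map (Over.homMk ξ rfl : Over.mk (ξ ≫ t) ⟶ Over.mk t)).left
      ((Over.pullback g).map (Over.homMk a hap : Over.mk f ⟶ Over.mk p)).left
      ((Over.pullback g).map (Over.homMk b hbp : Over.mk t ⟶ Over.mk p)).left := by
  have hcov : ∀ y : T, ∃ k : Groth.Agent.Lib.Ferrand.AffPair ι ξ, y ∈ k.V := by
    intro y
    obtain ⟨U, hU, hyU, V, hV, hVU, hVZ⟩ := hstd (t.base y)
    refine ⟨⟨V, t ⁻¹ᵁ U, hV, hU.preimage t, le_antisymm (fun z hz => ?_) (fun z hz => hVZ z hz)⟩, hyU⟩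
    show (ξ ≫ t).base z ∈ U
    rw [← hsq]
    exact hVU hz
  have hg := Groth.Agent.Lib.Ferrand.GluedBy.of_isPushout hcov hP
  refine hg.baseChangeOfCok p g (pP := pullback.fst p g) (gP := pullback.snd p g)
    (IsPullback.of_hasPullback p g) (pX := pullback.fst f g) ?_ (pY := pullback.fst t g) ?_
    (pZ := pullback.fst (ξ ≫ t) g) ?_ ?_ ?_ ?_
  · refine IsPullback.of_bot ?_ ?_ (IsPullback.of_hasPullback p g)
    · convert IsPullback.of_hasPullback f g using 1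
      exact pullback.lift_snd _ _ _
    · exact (pullback.lift_fst _ _ _).symm
  · refine IsPullback.of_bot ?_ ?_ (IsPullback.of_hasPullback p g)
    · convert IsPullback.of_hasPullback t g using 1
      exact pullback.lift_snd _ _ _
    · exact (pullback.lift_fst _ _ _).symm
  · refine IsPullback.of_bot ?_ ?_ (IsPullback.of_hasPullback f g)
    · convert IsPullback.of_hasPullback (ξ ≫ t) g using 1
      exact pullback.lift_snd _ _ _
    · exact (pullback.lift_fst _ _ _).symm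
  · exact pullback.lift_fst _ _ _
  · apply pullback.hom_ext
    · simp only [Category.assoc]
      erw [pullback.lift_fst, pullback.lift_fst, pullback.lift_fst_assoc, pullback.lift_fst_assoc]
      simp [hP.w]
    · simp only [Category.assoc]
      erw [pullback.lift_snd, pullback.lift_snd, pullback.lift_snd, pullback.lift_snd]
  intro p₀
  by_cases hb : ∃ y, b y = p₀
  · obtain ⟨y, rfl⟩ := hb
    obtain ⟨U, hU, hyU, V, hV, hVU, hVZ⟩ := hstd (t.base y)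
    have hpre : ι ⁻¹ᵁ V = ξ ⁻¹ᵁ (t ⁻¹ᵁ U) :=
      le_antisymm (fun z hz => by
        show (ξ ≫ t).base z ∈ U
        rw [← hsq]
        exact hVU hz) (fun z hz => hVZ z hz)
    obtain ⟨O, hO, hOa, hOb⟩ := Groth.Agent.Lib.Ferrand.exists_affineOpen_of_pair hcov hP
      ⟨V, t ⁻¹ᵁ U, hV, hU.preimage t, hpre⟩
    have hOle : O ≤ p ⁻¹ᵁ U := by
      intro x hx
      rcases hg.surj x with ⟨x', rfl⟩ | ⟨y', rfl⟩
      · have : x' ∈ f ⁻¹ᵁ U := hVU (hOa.le hx)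
        rw [← hap] at this
        exact this
      · have : y' ∈ t ⁻¹ᵁ U := hOb.le hx
        rw [← hbp] at this
        exact this
    have hZ : ι ⁻¹ᵁ (a ⁻¹ᵁ O) = ξ ⁻¹ᵁ (t ⁻¹ᵁ U) := by rw [hOa]; exact hpre
    have e : ι ⁻¹ᵁ (a ⁻¹ᵁ O) ≤ ξ ⁻¹ᵁ (b ⁻¹ᵁ O) := by rw [hZ, hOb]
    refine ⟨U, O, hOle, e, hU, hO, hOb.ge hyU, Or.inr ?_⟩
    have hb' : b.resLE O (b ⁻¹ᵁ O) le_rfl ≫ p.resLE U O hOle =
        t.resLE U (b ⁻¹ᵁ O) (hOb.le.trans le_rfl) := by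
      rw [Scheme.Hom.resLE_comp_resLE]
      congr 1
    rw [← Scheme.Hom.comp_appTop, hb']
    exact cokFlat_resLE t ξ U hU (hv ⟨U, hU⟩) _ _ hOb hZ _ _
  · obtain ⟨x, rfl⟩ := (hg.surj p₀).resolve_right hb
    have hx : x ∈ (Set.range ι)ᶜ := by
      rintro ⟨z, rfl⟩
      exact hb ⟨ξ z, by rw [← Scheme.Hom.comp_apply, ← hP.w, Scheme.Hom.comp_apply]⟩
    obtain ⟨U, hU, hxU, -⟩ := exists_isAffineOpen_mem_and_subset (x := f x) (U := ⊤) trivial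
    obtain ⟨W, hW, hxW, hWle⟩ := exists_isAffineOpen_mem_and_subset (x := x)
      (U := f ⁻¹ᵁ U ⊓ ⟨(Set.range ι)ᶜ, ι.isClosedEmbedding.isClosed_range.isOpen_compl⟩) ⟨hxU, hx⟩
    have hpre : ι ⁻¹ᵁ W = ξ ⁻¹ᵁ (⊥ : T.Opens) := by
      ext z
      exact ⟨fun hz => absurd ⟨z, rfl⟩ (hWle hz).2, fun hz => hz.elim⟩
    obtain ⟨O, hO, hOa, hOb⟩ := Groth.Agent.Lib.Ferrand.exists_affineOpen_of_pair hcov hP
      ⟨W, ⊥, hW, isAffineOpen_bot T, hpre⟩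
    have hOle : O ≤ p ⁻¹ᵁ U := by
      intro q hq
      rcases hg.surj q with ⟨x', rfl⟩ | ⟨y', rfl⟩
      · have : x' ∈ f ⁻¹ᵁ U := (hWle (hOa.le hq)).1
        rw [← hap] at this
        exact this
      · exact (hOb.le hq).elim
    have e : ι ⁻¹ᵁ (a ⁻¹ᵁ O) ≤ ξ ⁻¹ᵁ (b ⁻¹ᵁ O) := by
      rw [← Scheme.Hom.comp_preimage, ← Scheme.Hom.comp_preimage, hP.w]
    refine ⟨U, O, hOle, e, hU, hO, hOa.ge hxW, Or.inl ?_⟩
    have : IsEmpty (ι ⁻¹ᵁ (a ⁻¹ᵁ O)).toScheme := ⟨fun z => (hWle (hOa.le z.2)).2 ⟨z.1, rfl⟩⟩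
    infer_instance

end Groth.Agent.S15954
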