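import Groth.Statements.S12146
import Groth.Agent.Lib.ProjQ.Locus

set_option autoImplicit false
universe u
open CategoryTheory CategoryTheory.Limits AlgebraicGeometry TopologicalSpace Opposite
open scoped HomogeneousIdeal
noncomputable section
open EGA2

namespace Groth.Agent.S12146

/-- Let q : X → Y be a morphism with Y affine, L an invertible O_X-module, 𝒮L = ⊕_{n≥0} L^{⊗n} its
graded symmetric algebra (whose Proj, presented with its charts, is identified with X by its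
structure morphism pL), 𝒮 a quasi-coherent positively graded O_Y-algebra with S = Γ(Y, 𝒮), ψ : q^*𝒮
→ 𝒮L a graded homomorphism given as a graded q-morphism u = ψ♭ : 𝒮 → q_*𝒮L, P = Proj(𝒮), and r =
r_{L,ψ} : G(ψ) → P the associated morphism on its open of definition G(ψ) ⊆ Proj(𝒮L). Then r is
dominant if and only if for every n > 0, every s ∈ S_n such that ψ♭(s) ∈ Γ(X, L^{⊗n}) is locally
nilpotent (as a section of the algebra 𝒮L: each point of X has an affine neighbourhood V with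
ψ♭(s)|V nilpotent in 𝒮L(V)) is nilpotent. -/
theorem result {Y X P PL : Scheme.{u}} (q : X ⟶ Y)
    (L : X.Modules) (hL : PicF.IsInvertible L) (hLq : Coh.IsQCoh L)
    (𝒮 : RelProj.QCGrAlg Y) (𝒮L : RelProj.QCGrAlg X) (j : L ⟶ 𝒮L.toModule) (hj : RelProj.IsGrSymAlg L 𝒮L j)
    (u : RelProj.QGrHom q 𝒮 𝒮L)
    (p : P ⟶ Y) (chart : ∀ (U : Y.Opens) (hU : IsAffineOpen U), (((p ⁻¹ᵁ U : P.Opens) : Scheme.{u}) ≅ Proj (𝒮.deg U hU)))
    (hP : RelProj.IsRelProj 𝒮 p chart)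
    (pL : PL ⟶ X) (chartL : ∀ (U : X.Opens) (hU : IsAffineOpen U), (((pL ⁻¹ᵁ U : PL.Opens) : Scheme.{u}) ≅ Proj (𝒮L.deg U hU)))
    (hPL : RelProj.IsRelProj 𝒮L pL chartL)
    (r : ((RelProj.domQ u pL chartL : PL.Opens) : Scheme.{u}) ⟶ P)
    (hr : RelProj.IsProjQMapOn u p chart pL chartL (RelProj.domQ u pL chartL) r)
    (hY : IsAffineOpen (⊤ : Y.Opens)) :
    IsDominant r ↔
      ∀ (n : ℕ), 0 < n → ∀ s ∈ 𝒮.deg ⊤ hY n,
        (∀ x : X, ∃ (V : X.Opens) (_ : IsAffineOpen V), x ∈ V ∧ IsNilpotent ((u.appLE ⊤ V (le_top.trans (Scheme.Hom.preimage_top q).ge)).hom s)) →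
          IsNilpotent s := by
  open Groth.Agent.Lib.ProjQ in
  have hle : ∀ V : X.Opens, V ≤ q ⁻¹ᵁ ⊤ := fun V => le_top.trans (Scheme.Hom.preimage_top q).ge
  rw [isDominant_iff hP hPL hr]
  constructor
  · intro h n hn s hs hloc
    by_contra hnil
    obtain ⟨U', hU', hle', hU'n⟩ := h ⊤ hY n hn s hs hnil
    refine hU'n ((basicOpen_eq_bot_iff hn ((u.gradedAt ⊤ hY U' hU' hle').map_mem hs)).1
      (le_bot_iff.1 fun w hw => ?_))
    set ξ := RelProj.emb pL chartL U' hU' w with hξ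
    obtain ⟨V, hV, hxV, hVn⟩ := hloc (pL ξ)
    have hxU : pL ξ ∈ U' := (opensRange_emb (p := pL) (chart := chartL) U' hU').le ⟨w, rfl⟩
    obtain ⟨V₂, hV₂, hxV₂, hsub₂⟩ := exists_isAffineOpen_mem_and_subset (X := X) (x := pL ξ) (U := V ⊓ U') ⟨hxV, hxU⟩
    have i1 : V₂ ≤ V := fun y hy => (hsub₂ hy).1
    have i2 : V₂ ≤ U' := fun y hy => (hsub₂ hy).2
    have h1 := (image_res (p := pL) (chart := chartL) hPL hU' hV₂ i2 (u.gradedAt ⊤ hY U' hU' hle' s)).ge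
      ⟨⟨w, hw, hξ.symm⟩, hxV₂⟩
    rw [show 𝒮L.res hU' hV₂ i2 (u.gradedAt ⊤ hY U' hU' hle' s) = u.gradedAt ⊤ hY V₂ hV₂ (hle V₂) s from
      congr($(res_comp_gradedAt u hY hU' hV₂ hle' i2) s)] at h1
    obtain ⟨v, hv, -⟩ := h1
    have h2 : IsNilpotent (u.gradedAt ⊤ hY V₂ hV₂ (hle V₂) s) := by
      rw [← show 𝒮L.res hV hV₂ i1 (u.gradedAt ⊤ hY V hV (hle V) s) = u.gradedAt ⊤ hY V₂ hV₂ (hle V₂) s from
        congr($(res_comp_gradedAt u hY hV hV₂ (hle V) i1) s)]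
      exact IsNilpotent.map (show IsNilpotent (u.gradedAt ⊤ hY V hV (hle V) s) from hVn) (𝒮L.res hV hV₂ i1)
    exact ((basicOpen_eq_bot_iff hn ((u.gradedAt ⊤ hY V₂ hV₂ (hle V₂)).map_mem hs)).2 h2).le hv
  · intro h U hU d hd f hf hnil
    obtain ⟨w, hw⟩ : ((Proj.basicOpen (𝒮.deg U hU) f : Set (Proj (𝒮.deg U hU)))).Nonempty :=
      Set.nonempty_iff_ne_empty.2 fun h => hnil ((basicOpen_eq_bot_iff hd hf).1 (Opens.ext h))
    obtain ⟨w₀, hw₀⟩ := (opensRange_emb (p := p) (chart := chart) ⊤ hY).ge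
      (show RelProj.emb p chart U hU w ∈ p ⁻¹ᵁ ⊤ from trivial)
    obtain ⟨n, s, hn, hs, hws, hsle⟩ := exists_basicOpen_le
      (RelProj.emb p chart ⊤ hY ⁻¹ᵁ ((RelProj.emb p chart U hU) ''ᵁ Proj.basicOpen (𝒮.deg U hU) f))
      (w := w₀) ⟨w, hw, hw₀.symm⟩
    have hsn : ¬ IsNilpotent s := fun e => ((basicOpen_eq_bot_iff hn hs).2 e).le hws
    obtain ⟨x, hx⟩ := not_forall.1 fun hall => hsn (h n hn s hs hall)
    simp only [not_exists, not_and] at hx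
    obtain ⟨V, hV, hxV, -⟩ := exists_isAffineOpen_mem_and_subset (X := X) (U := ⊤) (x := x) trivial
    obtain ⟨v, hv⟩ : ((Proj.basicOpen (𝒮L.deg V hV) (u.gradedAt ⊤ hY V hV (hle V) s) :
        Set (Proj (𝒮L.deg V hV)))).Nonempty :=
      Set.nonempty_iff_ne_empty.2 fun h =>
        hx V hV hxV ((basicOpen_eq_bot_iff hn ((u.gradedAt ⊤ hY V hV (hle V)).map_mem hs)).1 (Opens.ext h))
    obtain ⟨y, hy, hyv⟩ := (mem_image_preimage_iff hP hPL hr ⊤ hY hn s hs _).2 ⟨V, hV, hle V, v, hv, rfl⟩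
    obtain ⟨t, ht, hty⟩ := hy
    obtain ⟨U', hU', hle', v', hv', -⟩ := (mem_image_preimage_iff hP hPL hr U hU hd f hf y.1).1
      ⟨y, (show r y ∈ (RelProj.emb p chart U hU) ''ᵁ Proj.basicOpen (𝒮.deg U hU) f from
        Eq.subst (motive := fun z => z ∈ (RelProj.emb p chart U hU) ''ᵁ Proj.basicOpen (𝒮.deg U hU) f) hty
          (hsle ht)), rfl⟩
    exact ⟨U', hU', hle', fun e =>
      ((basicOpen_eq_bot_iff hd ((u.gradedAt U hU U' hU' hle').map_mem hf)).2 e).le hv'⟩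

end Groth.Agent.S12146
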