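import Groth.Statements.S5355
import Groth.Agent.Lib.ActSep.QCClosed
import Groth.Agent.Lib.ActSep.FlatTransl
import Groth.Agent.Lib.ModelFibre.MaxPoint

set_option autoImplicit false
universe u
open CategoryTheory CategoryTheory.Limits MonoidalCategory CartesianMonoidalCategory MonObj GrpObj AlgebraicGeometry
open SGA3

namespace Groth.Agent.S5355

open Groth.Agent.Lib

/-- Let f : G → H be a homomorphism of group schemes over a field k (not assumed of finite type) which
is quasi-compact and dominant. Then (i) f is surjective; (ii) if H is reduced, f is flat (hence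
faithfully flat). -/
theorem result (k : Type u) [Field k] (G H : Over (Spec (CommRingCat.of k))) [GrpObj G] [GrpObj H]
    (f : G ⟶ H) [IsMonHom f] [QuasiCompact f.left] (hf : DenseRange f.left.base) :
    Surjective f.left ∧ (IsReduced H.left → Flat f.left) := by
  have hsurj : Set.range f.left = Set.univ := by
    rw [← (ActSep.isClosed_range_of_quasiCompact f).closure_eq]
    exact hf.closure_range
  refine ⟨⟨Set.range_eq_univ.1 hsurj⟩, fun _ => ?_⟩
  obtain ⟨y, hy, -⟩ := SchTopo.Closure.exists_maximal_specializes H.left
    (f.left (η[G].left (IsLocalRing.closedPoint k)))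
  obtain ⟨x, rfl⟩ := Set.range_eq_univ.1 hsurj y
  have hfield := ModelFibre.MaxPoint.isField_stalk (X := H.left)
    (ModelFibre.MaxPoint.generalization_of_mem_irreducibleComponents hy)
  refine ActSep.flat_of_flat_at_point f (ActSep.exists_iso_hom f) x ?_
  let := hfield.toField
  exact (inferInstance : @Module.Flat (H.left.presheaf.stalk (f.left x)) (G.left.presheaf.stalk x) _ _
    (f.left.stalkMap x).hom.toAlgebra.toModule)

end Groth.Agent.S5355
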