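import Groth.Statements.S14592
import Groth.Agent.Lib.SemiAbExt.Descent

set_option autoImplicit false
universe u
open CategoryTheory MonoidalCategory CartesianMonoidalCategory MonObj GrpObj AlgebraicGeometry CategoryTheory.Limits
open AlgGrp

set_option backward.isDefEq.respectTransparency false
set_option linter.style.haveILetI false
set_option synthInstance.maxHeartbeats 200000
namespace Groth.Agent.S14592

/-- Let k be a field with algebraic closure K and G a k-group scheme of finite type. If G_K is a
semi-abelian variety over K — an extension of an abelian variety (proper, smooth, connected K-group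
scheme) by a torus — then G is a semi-abelian variety over k: there are a closed subgroup scheme i :
T → G with T a torus and a flat surjective homomorphism q : G → A with kernel T onto a proper smooth
connected k-group scheme. -/
theorem result (k : Type u) [Field k]
    (G : Over (Spec (CommRingCat.of k))) [GrpObj G] [LocallyOfFiniteType G.hom] [QuasiCompact G.hom]
    (hK : (∃ (T : Over (Spec (CommRingCat.of (AlgebraicClosure k)))) (_ : GrpObj T) (i : T ⟶ Red.bc (Spec.map (CommRingCat.ofHom (algebraMap k (AlgebraicClosure k)))) G) (A : Over (Spec (CommRingCat.of (AlgebraicClosure k)))) (_ : GrpObj A) (q : Red.bc (Spec.map (CommRingCat.ofHom (algebraMap k (AlgebraicClosure k)))) G ⟶ A),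
        IsMonHom i ∧ IsClosedImmersion i.left ∧ Red.IsTorus T ∧ IsMonHom q ∧ Surjective q.left ∧ Flat q.left ∧
        AlgGrp.IsKernel i q ∧ IsProper A.hom ∧ Smooth A.hom ∧ ConnectedSpace ↥A.left)) :
    (∃ (T : Over (Spec (CommRingCat.of k))) (_ : GrpObj T) (i : T ⟶ G) (A : Over (Spec (CommRingCat.of k))) (_ : GrpObj A) (q : G ⟶ A),
        IsMonHom i ∧ IsClosedImmersion i.left ∧ Red.IsTorus T ∧ IsMonHom q ∧ Surjective q.left ∧ Flat q.left ∧
        AlgGrp.IsKernel i q ∧ IsProper A.hom ∧ Smooth A.hom ∧ ConnectedSpace ↥A.left) := by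
  obtain ⟨T, _, i, A, _, q, hi, hci, hT, hq, hqs, hqf, hK', hp, hsm, hcA⟩ := hK
  haveI := hi; haveI := hci; haveI := hq; haveI := hqs; haveI := hqf; haveI := hp; haveI := hsm; haveI := hcA
  let π := Groth.Agent.Lib.GrpSch.extBase k (AlgebraicClosure k)
  haveI : LocallyOfFiniteType (Red.bc π G).hom := Groth.Agent.Lib.GrpSch.bc_hom_of (P := @LocallyOfFiniteType) _ G ‹_›
  haveI : QuasiCompact (Red.bc π G).hom := Groth.Agent.Lib.GrpSch.bc_hom_of (P := @QuasiCompact) _ G ‹_›
  obtain ⟨hs, hc, -⟩ := Groth.Agent.Lib.SemiAbExt.IsSA.props (k := AlgebraicClosure k)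
    ⟨T, inferInstance, i, A, inferInstance, q, hi, hci, hT, hq, hqs, hqf, hK', hp, hsm, hcA⟩
  haveI : Smooth (Red.bc π G).hom := hs
  haveI : ConnectedSpace (Red.bc π G).left := hc
  haveI : Smooth G.hom := Groth.Agent.H1.Classical.FieldDescent.smooth_of_bc (K := AlgebraicClosure k) G
  haveI : ConnectedSpace G.left := Groth.Agent.H1.Classical.FieldDescent.connectedSpace_of_bc (K := AlgebraicClosure k) G
  haveI := Groth.Agent.S17451.result k G
    ⟨T, inferInstance, i, A, inferInstance, q, hi, hci, hT, hq, hqs, hqf, hK', hp, hsm, hcA⟩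
  exact Groth.Agent.Lib.SemiAbExt.Descent.isSA_of_bc G i q hK' hT

end Groth.Agent.S14592
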