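import Groth.Statements.S14594
import Groth.Agent.Lib.SemiAbIsog.Basic
import Groth.Agent.Lib.TorusPow.Basic
import Groth.Agent.H52.SemiAbelian
import Groth.Agent.S3030
import Groth.Agent.Lib.IsogLaw.TorusIff
import Groth.Agent.Lib.GrpQ.DomFF
import Groth.Agent.Lib.GenSub.ImageMap
import Groth.Agent.Lib.GenSub.Basic
import Groth.Agent.Lib.GrpQ.Image
import Mathlib.AlgebraicGeometry.Group.Smooth

set_option autoImplicit false
universe u
open CategoryTheory MonoidalCategory CartesianMonoidalCategory MonObj GrpObj AlgebraicGeometry CategoryTheory.Limits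
open AlgGrp

set_option backward.isDefEq.respectTransparency false
set_option linter.style.haveILetI false
set_option maxHeartbeats 800000
open GrpObj CategoryTheory.Limits Groth.Agent.Lib Groth.Agent.Lib.SemiAbIsog.Basic
namespace Groth.Agent.S14594

/-- Let k be a field, G a smooth connected k-group scheme of finite type and f : G → H an isogeny onto a
k-group scheme of finite type H, i.e. a surjective homomorphism whose kernel N is finite. If H is a
semi-abelian variety (an extension of a proper smooth connected k-group scheme by a torus), then G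
is a semi-abelian variety. -/
theorem result (k : Type u) [Field k]
    (G H : Over (Spec (CommRingCat.of k))) [GrpObj G] [GrpObj H] [Smooth G.hom] [QuasiCompact G.hom] [ConnectedSpace ↥G.left]
    [LocallyOfFiniteType H.hom] [QuasiCompact H.hom] (f : G ⟶ H) [IsMonHom f] [Surjective f.left]
    (N : Over (Spec (CommRingCat.of k))) [GrpObj N] (n : N ⟶ G) [IsMonHom n] [IsClosedImmersion n.left] [IsFinite N.hom]
    (hker : AlgGrp.IsKernel n f) (hH : (∃ (T : Over (Spec (CommRingCat.of k))) (_ : GrpObj T) (i : T ⟶ H) (A : Over (Spec (CommRingCat.of k))) (_ : GrpObj A) (q : H ⟶ A),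
        IsMonHom i ∧ IsClosedImmersion i.left ∧ Red.IsTorus T ∧ IsMonHom q ∧ Surjective q.left ∧ Flat q.left ∧
        AlgGrp.IsKernel i q ∧ IsProper A.hom ∧ Smooth A.hom ∧ ConnectedSpace ↥A.left)) :
    (∃ (T : Over (Spec (CommRingCat.of k))) (_ : GrpObj T) (i : T ⟶ G) (A : Over (Spec (CommRingCat.of k))) (_ : GrpObj A) (q : G ⟶ A),
        IsMonHom i ∧ IsClosedImmersion i.left ∧ Red.IsTorus T ∧ IsMonHom q ∧ Surjective q.left ∧ Flat q.left ∧
        AlgGrp.IsKernel i q ∧ IsProper A.hom ∧ Smooth A.hom ∧ ConnectedSpace ↥A.left) := by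
  obtain ⟨T, _, i, A, _, q, hi, hci, hT, hq, hqs, hqf, hK, hp, hsm, hcA⟩ := hH
  haveI := hi; haveI := hci; haveI := hq; haveI := hqs; haveI := hqf; haveI := hp; haveI := hsm; haveI := hcA
  haveI : IsCommMonObj H := Groth.Agent.H52.SemiAbelian.isCommMonObj i q hK hT
  haveI : Smooth H.hom := (Groth.Agent.H52.SemiAbelian.smooth_geometricallyIntegral i q hK hT).1
  haveI : Smooth T.hom := Groth.Agent.Lib.Tori.Basic.smooth_of_isTorus hT
  haveI : ConnectedSpace T.left := Groth.Agent.H52.SemiAbelian.connectedSpace_of_isTorus T hT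
  haveI : IsCommMonObj G := isCommMonObj_of_ker f n hker
  haveI : IsSeparated G.hom := GrpSch.isSeparated_of_field G
  haveI : IsSeparated H.hom := GrpSch.isSeparated_of_field H
  haveI : Mono i := Over.mono_of_mono_left i
  haveI : QuasiCompact T.hom := by rw [← Over.w i]; infer_instance
  haveI : LocallyOfFiniteType T.hom := inferInstance
  obtain ⟨m, hm, hNm⟩ := exists_killed N
  have hcomp : ∀ {W X : Over (Spec (CommRingCat.of k))} [GrpObj X] (x : W ⟶ X), x ≫ (𝟙 X : X ⟶ X) ^ m = x ^ m :=
    fun x => by rw [MonObj.comp_pow, Category.comp_id]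
  haveI : Flat f.left := GrpQ.flat_of_surjective_of_smooth f
  haveI : LocallyOfFinitePresentation f.left :=
    Flat55.FibreTransfer.locallyOfFinitePresentation_of_comp (g := H.hom)
      (by rw [Over.w f]; infer_instance) inferInstance
  haveI : Epi f := H87.CentralExt.epi_of_cover f
  obtain ⟨ψ, hψ⟩ := H87.CentralExt.exists_desc f ((𝟙 G : G ⟶ G) ^ m) fun W x y hxy => by
    have h1 : (x * y⁻¹) ≫ f = toUnit W ≫ η[H] := by
      rw [← Hom.one_def, MonObj.mul_comp, GrpObj.inv_comp, hxy, mul_inv_cancel]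
    have h2 : (hker.lift (x * y⁻¹) (toUnit W) h1 ≫ n) ^ m = 1 := by
      rw [← MonObj.pow_comp, ← hcomp, hNm, MonObj.comp_one, MonObj.one_comp]
    rw [hker.lift_fst, _root_.mul_pow, inv_pow] at h2
    rw [hcomp, hcomp]
    exact mul_inv_eq_one.mp h2
  haveI : IsMonHom ψ := Groth.Agent.H87.HomDS.isMonHom_of_points ψ fun X a b => by
    obtain ⟨X1, e1, a', ha, _, _, _⟩ := GrpQ.ThirdIso.exists_lift f a
    obtain ⟨X2, e2, b', hb, _, _, _⟩ := GrpQ.ThirdIso.exists_lift f (e1 ≫ b)
    haveI := H87.CentralExt.epi_of_cover e1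
    haveI := H87.CentralExt.epi_of_cover e2
    rw [← cancel_epi e1, ← cancel_epi e2]
    have hab : e2 ≫ e1 ≫ (a * b) = ((e2 ≫ a') * b') ≫ f := by
      rw [MonObj.mul_comp, hb, Category.assoc, ha, MonObj.comp_mul, MonObj.comp_mul]
    have haa : e2 ≫ e1 ≫ a = (e2 ≫ a') ≫ f := by rw [Category.assoc, ha]
    rw [MonObj.comp_mul, MonObj.comp_mul, ← Category.assoc e1 (a * b), ← Category.assoc e2, hab,
      Category.assoc, hψ, hcomp, _root_.mul_pow,
      ← Category.assoc e1 a, ← Category.assoc e2, haa, Category.assoc, hψ, hcomp,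
      ← Category.assoc e1 b, ← Category.assoc e2, ← hb, Category.assoc, hψ, hcomp]
  have hψf : ψ ≫ f = (𝟙 H : H ⟶ H) ^ m := by
    rw [← cancel_epi f, ← Category.assoc, hψ, hcomp, MonObj.pow_comp, Category.id_comp]
  obtain ⟨T', _, p, c, hpm, hcm, hpc, hstd, hcc⟩ := GrpQ.Image.exists_image (i ≫ ψ)
  haveI := hpm; haveI := hcm; haveI := hcc; haveI := hstd
  haveI : Mono c := Over.mono_of_mono_left c
  haveI : LocallyOfFiniteType T'.hom := by rw [← Over.w c]; infer_instance
  haveI : QuasiCompact T'.hom := by rw [← Over.w c]; infer_instance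
  haveI : IsAffineHom T.hom := Groth.Agent.Lib.Tori.Basic.isAffineHom_of_isTorus hT
  haveI : IsReduced T.left := GrpSch.isReduced_of_smooth_field T.hom
  haveI : QuasiCompact p.left := GrpQ.quasiCompact_left p
  haveI : GeometricallyReduced T.hom := GrpSch.geometricallyReduced_of_smooth_field T.hom
  haveI : IsReduced T'.left := ⟨fun W => isReduced_of_injective (p.left.app W).hom (p.left.app_injective W)⟩
  haveI : GeometricallyReduced T'.hom := GenSub.geometricallyReduced_of_dense T' fun O hO => by
    obtain ⟨y, hy⟩ := p.left.denseRange.exists_mem_open O.2 hO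
    exact ⟨T, p, inferInstance, y, hy⟩
  haveI : GrpObj (Over.mk T'.hom) := inferInstanceAs (GrpObj T')
  haveI : Smooth T'.hom := smooth_of_grpObj T'.hom
  have hclosed : IsClosed (Set.range p.left) := GenSub.isClosed_range_of_map p μ[T]
    (IsMonHom.mul_hom p) η[T] GrpObj.inv (by
      have h : (𝟙 T)⁻¹ ≫ p = p⁻¹ := by rw [GrpObj.inv_comp (𝟙 T) p, Category.id_comp]
      simpa [Hom.inv_def] using h)
  haveI : Surjective p.left := ⟨by
    rw [← Set.range_eq_univ, ← hclosed.closure_eq]
    exact p.left.denseRange.closure_range⟩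
  haveI : Flat p.left := GrpQ.flat_of_surjective_of_smooth p
  haveI : LocallyOfFinitePresentation p.left :=
    Flat55.FibreTransfer.locallyOfFinitePresentation_of_comp (g := T'.hom)
      (by rw [Over.w p]; infer_instance) inferInstance
  haveI : Epi p := H87.CentralExt.epi_of_cover p
  have hT' : Red.IsTorus T' := isTorus_quotient hT p
  have hpcf : p ≫ c ≫ f = ((𝟙 T : T ⟶ T) ^ m) ≫ i := by
    rw [reassoc_of% hpc, hψf, hcomp, MonObj.pow_comp, Category.id_comp]
  obtain ⟨g, hg⟩ : ∃ g : T' ⟶ T, g ≫ i = c ≫ f := by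
    refine ⟨hK.lift (c ≫ f) (toUnit T') ?_, hK.lift_fst _ _ _⟩
    rw [← cancel_epi p, ← Category.assoc, hpcf, Category.assoc, hK.w, ← Hom.one_def, ← Hom.one_def,
      MonObj.comp_one, MonObj.comp_one]
  haveI : Surjective g.left := by
    have hpg : p ≫ g = (𝟙 T : T ⟶ T) ^ m := by rw [← cancel_mono i, Category.assoc, hg, hpcf]
    haveI : Surjective (p.left ≫ g.left) := by
      rw [← Over.comp_left, hpg]; exact TorusPow.Basic.surjective_pow hT hm
    exact Surjective.of_comp p.left g.left
  haveI : Flat g.left := by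
    haveI : IsMonHom g := GrpQ.DomFlat.isMonHom_of_comp_mono g i (by rw [hg]; infer_instance)
    exact GrpQ.flat_of_surjective_of_smooth g
  haveI : LocallyOfFinitePresentation g.left :=
    Flat55.FibreTransfer.locallyOfFinitePresentation_of_comp (g := T.hom)
      (by rw [Over.w g]; infer_instance) inferInstance
  have hnormal : AlgGrp.IsNormalHom c := fun X x y => ⟨y, by rw [mul_inv_cancel_comm]⟩
  haveI : IsArtinianRing k := inferInstance
  obtain ⟨A', _, q', hq'm, hq'f, hq's, hq'p, hker', hsep', hflat', hsm'⟩ :=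
    Groth.Agent.S3030.result k T' G c hnormal
  haveI := hq'm; haveI := hq'f; haveI := hq's; haveI := hq'p; haveI := hsep'
  haveI : Smooth A'.hom := hsm' inferInstance
  haveI : QuasiCompact A'.hom := by
    haveI : CompactSpace G.left := QuasiCompact.compactSpace_of_compactSpace G.hom
    haveI : CompactSpace A'.left := q'.left.surjective.compactSpace q'.left.continuous
    rw [quasiCompact_iff_compactSpace]; infer_instance
  haveI : ConnectedSpace A'.left := q'.left.surjective.connectedSpace q'.left.continuous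
  haveI : Epi q' := H87.CentralExt.epi_of_cover q'
  have hcfq : c ≫ f ≫ q = 1 := by
    rw [← Category.assoc, ← hg, Category.assoc, hK.w, ← Hom.one_def, MonObj.comp_one]
  obtain ⟨r, hr⟩ := H87.CentralExt.exists_desc q' (f ≫ q) fun W x y hxy => by
    have h1 : (x * y⁻¹) ≫ q' = toUnit W ≫ η[A'] := by
      rw [← Hom.one_def, MonObj.mul_comp, GrpObj.inv_comp, hxy, mul_inv_cancel]
    have h2 : hker'.lift (x * y⁻¹) (toUnit W) h1 ≫ c ≫ f ≫ q = 1 := by rw [hcfq, MonObj.comp_one]
    rw [← Category.assoc, hker'.lift_fst, MonObj.mul_comp, GrpObj.inv_comp, mul_inv_eq_one] at h2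
    exact h2
  haveI : IsMonHom r := Groth.Agent.H87.HomDS.isMonHom_of_points r fun X a b => by
    obtain ⟨X1, e1, a', ha, _, _, _⟩ := GrpQ.ThirdIso.exists_lift q' a
    obtain ⟨X2, e2, b', hb, _, _, _⟩ := GrpQ.ThirdIso.exists_lift q' (e1 ≫ b)
    haveI := H87.CentralExt.epi_of_cover e1
    haveI := H87.CentralExt.epi_of_cover e2
    rw [← cancel_epi e1, ← cancel_epi e2]
    have hab : e2 ≫ e1 ≫ (a * b) = ((e2 ≫ a') * b') ≫ q' := by
      rw [MonObj.mul_comp, hb, Category.assoc, ha, MonObj.comp_mul, MonObj.comp_mul]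
    have haa : e2 ≫ e1 ≫ a = (e2 ≫ a') ≫ q' := by rw [Category.assoc, ha]
    rw [MonObj.comp_mul, MonObj.comp_mul, ← Category.assoc e1 (a * b), ← Category.assoc e2, hab,
      Category.assoc, hr, MonObj.mul_comp]
    rw [← Category.assoc e1 a, ← Category.assoc e2, haa, ← Category.assoc e1 b, ← Category.assoc e2]
    rw [← hb]
    simp only [Category.assoc, hr]
  haveI : Surjective r.left := by
    haveI : Surjective (q'.left ≫ r.left) := by rw [← Over.comp_left, hr, Over.comp_left]; infer_instance
    exact Surjective.of_comp q'.left r.left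
  haveI : QuasiCompact A.hom := inferInstance
  haveI : Flat r.left := GrpQ.flat_of_surjective_of_smooth r
  haveI : IsSeparated A.hom := inferInstance
  haveI : QuasiCompact r.left := GrpQ.quasiCompact_left r
  obtain ⟨R, _, j, hjm, hjc, hkr, -⟩ := GrpQ.exists_kernel r
  haveI := hjm; haveI := hjc
  haveI : LocallyOfFiniteType R.hom := by rw [← Over.w j]; infer_instance
  haveI : QuasiCompact R.hom := by rw [← Over.w j]; infer_instance
  obtain ⟨v, hv⟩ : ∃ v : N ⟶ R, v ≫ j = n ≫ q' := by
    refine ⟨hkr.lift (n ≫ q') (toUnit N) ?_, hkr.lift_fst _ _ _⟩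
    rw [Category.assoc, hr, ← Category.assoc, hker.w, Category.assoc, IsMonHom.one_hom]
  haveI : Mono j := Over.mono_of_mono_left j
  haveI : Surjective v.left := by
    obtain ⟨X1, e1, x, hx, _, _, _⟩ := GrpQ.ThirdIso.exists_lift q' j
    have hxt : (x ≫ f) ≫ q = toUnit X1 ≫ η[A] := by
      rw [Category.assoc, ← hr, ← Category.assoc, hx, Category.assoc, hkr.w, ← Category.assoc,
        toUnit_unique (e1 ≫ toUnit R) (toUnit X1)]
    obtain ⟨X2, e2, u, hu, _, _, _⟩ := GrpQ.ThirdIso.exists_lift g (hK.lift (x ≫ f) (toUnit X1) hxt)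
    have hd : ((e2 ≫ x) * (u ≫ c)⁻¹) ≫ f = toUnit X2 ≫ η[H] := by
      have huf : (u ≫ c) ≫ f = (e2 ≫ x) ≫ f := by
        rw [Category.assoc, ← hg, reassoc_of% hu, hK.lift_fst, Category.assoc]
      rw [MonObj.mul_comp, GrpObj.inv_comp, huf, mul_inv_cancel, Hom.one_def]
    have hfin : hker.lift _ (toUnit X2) hd ≫ v = e2 ≫ e1 := by
      rw [← cancel_mono j, Category.assoc, hv, ← Category.assoc, hker.lift_fst, MonObj.mul_comp,
        GrpObj.inv_comp, Category.assoc u c, hker'.w, ← Hom.one_def, MonObj.comp_one, inv_one,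
        _root_.mul_one, Category.assoc, hx, Category.assoc]
    haveI : Surjective ((hker.lift _ (toUnit X2) hd).left ≫ v.left) := by
      rw [← Over.comp_left, hfin, Over.comp_left]; infer_instance
    exact Surjective.of_comp (hker.lift _ (toUnit X2) hd).left v.left
  haveI : IsFinite R.hom := by
    haveI : IsLocallyArtinian N.left := .of_locallyQuasiFinite N.hom
    haveI : CompactSpace N.left := QuasiCompact.compactSpace_of_compactSpace N.hom
    haveI : Finite N.left := finite_of_compact_of_discrete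
    haveI : Finite R.left := Finite.of_surjective _ v.left.surjective
    haveI : LocallyQuasiFinite R.hom :=
      locallyQuasiFinite_iff_finite_preimage_singleton.mpr fun _ => Set.toFinite _
    exact IsFinite.of_locallyQuasiFinite R.hom
  haveI : IsFinite r.left := Groth.Agent.Lib.IsogLaw.isFinite_of_kernel r hkr
  haveI : IsProper A'.hom := by rw [← Over.w r]; infer_instance
  exact ⟨T', inferInstance, c, A', inferInstance, q', hcm, hcc, hT', hq'm, hq's, hq'f, hker', inferInstance,
    inferInstance, inferInstance⟩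

end Groth.Agent.S14594
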