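import Groth.Statements.S0220
import Groth.Agent.Lib.CurveMaps.Basic
import Mathlib.AlgebraicGeometry.Morphisms.Flat
import Mathlib.RingTheory.Flat.TorsionFree
import Mathlib.RingTheory.DedekindDomain.PID

set_option autoImplicit false
universe u
open CategoryTheory CategoryTheory.Limits AlgebraicGeometry TopologicalSpace
open Curves

namespace Groth.Agent.S0220

/-- A nonconstant morphism between curves over a field (integral, separated, finite type, dimension one)
whose target has integrally closed local domains is flat. -/
theorem result (k : Type u) [Field k] (X Y : Scheme.{u}) (p : X ⟶ Spec (CommRingCat.of k)) (q : Y ⟶ Spec (CommRingCat.of k))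
    [IsIntegral X] [IsIntegral Y] [IsSeparated p] [IsSeparated q] [LocallyOfFiniteType p] [LocallyOfFiniteType q]
    [QuasiCompact p] [QuasiCompact q] (hX : topologicalKrullDim X = 1) (hY : topologicalKrullDim Y = 1)
    (hN : ∀ y : Y, IsDomain (Y.presheaf.stalk y) ∧ IsIntegrallyClosed (Y.presheaf.stalk y))
    (f : X ⟶ Y) (hf : f ≫ q = p) (hnc : (Set.range f.base).Nontrivial) :
    Flat f := by
  have hgen := Groth.Agent.Lib.CurveMaps.Basic.map_genericPoint f hY hnc
  have : IsLocallyNoetherian Y := LocallyOfFiniteType.isLocallyNoetherian q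
  rw [Flat.iff_flat_stalkMap]
  intro x
  have := (hN (f x)).1
  have := (hN (f x)).2
  have hdim : ringKrullDim (Y.presheaf.stalk (f x)) ≤ 1 := by
    rw [ringKrullDim_stalk_eq_coheight, ← hY]
    exact Groth.Agent.Lib.SmoothCurve.Stalk.coheight_le_topologicalKrullDim (f x)
  have : Ring.KrullDimLE 1 (Y.presheaf.stalk (f x)) := Ring.krullDimLE_iff.mpr hdim
  have : Ring.DimensionLEOne (Y.presheaf.stalk (f x)) := ⟨fun {P} hne hP => by
    rcases Order.krullDim_le_one_iff.mp (show Order.krullDim (PrimeSpectrum (Y.presheaf.stalk (f x))) ≤ 1 from hdim) ⟨P, hP⟩ with h | h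
    · exact absurd (le_bot_iff.mp (show P ≤ ⊥ from h (b := ⟨⊥, Ideal.isPrime_bot⟩) (show (⊥ : Ideal _) ≤ P from bot_le))) hne
    · exact PrimeSpectrum.isMax_iff.mp h⟩
  have : IsDedekindRing (Y.presheaf.stalk (f x)) := { }
  have : IsDedekindDomain (Y.presheaf.stalk (f x)) := { }
  have : IsPrincipalIdealRing (Y.presheaf.stalk (f x)) :=
    IsPrincipalIdealRing.of_finite_maximals ((Set.finite_singleton (IsLocalRing.maximalIdeal _)).subset
      fun m hm => IsLocalRing.eq_maximalIdeal hm)
  have hx : genericPoint X ⤳ x := (genericPoint_spec X).specializes trivial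
  have hy : genericPoint Y ⤳ f x := (genericPoint_spec Y).specializes trivial
  have hinjY : Function.Injective (Y.presheaf.stalkSpecializes hy).hom :=
    IsFractionRing.injective (Y.presheaf.stalk (f x)) Y.functionField
  have hinj : Function.Injective (f.stalkMap x).hom := by
    intro a b hab
    have h : (f.stalkMap (genericPoint X)).hom ((Y.presheaf.stalkSpecializes (hx.map f.continuous)).hom a) =
        (f.stalkMap (genericPoint X)).hom ((Y.presheaf.stalkSpecializes (hx.map f.continuous)).hom b) := by
      rw [show (f.stalkMap (genericPoint X)).hom ((Y.presheaf.stalkSpecializes (hx.map f.continuous)).hom a) = _ from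
          Scheme.Hom.stalkSpecializes_stalkMap_apply f (genericPoint X) x hx a,
        show (f.stalkMap (genericPoint X)).hom ((Y.presheaf.stalkSpecializes (hx.map f.continuous)).hom b) = _ from
          Scheme.Hom.stalkSpecializes_stalkMap_apply f (genericPoint X) x hx b]
      exact congr_arg _ hab
    letI : Field (Y.presheaf.stalk (f (genericPoint X))) :=
      (hgen.symm ▸ (Semifield.toIsField Y.functionField) : IsField (Y.presheaf.stalk (f (genericPoint X)))).toField
    have h' := RingHom.injective (f.stalkMap (genericPoint X)).hom h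
    apply hinjY
    have h'' := congr_arg (Y.presheaf.stalkSpecializes (specializes_of_eq hgen.symm)).hom h'
    rwa [TopCat.Presheaf.stalkSpecializes_comp_apply, TopCat.Presheaf.stalkSpecializes_comp_apply] at h''
  let : Algebra (Y.presheaf.stalk (f x)) (X.presheaf.stalk x) := (f.stalkMap x).hom.toAlgebra
  change Module.Flat (Y.presheaf.stalk (f x)) (X.presheaf.stalk x)
  rw [Module.Flat.flat_iff_torsion_eq_bot_of_isBezout, eq_bot_iff]
  intro z hz
  obtain ⟨⟨c, hc⟩, hcz⟩ := (Submodule.mem_torsion_iff z).mp hz
  rw [Submodule.mem_bot]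
  have hcz' : (f.stalkMap x).hom c * z = 0 := hcz
  exact (mul_eq_zero.mp hcz').resolve_left fun h => nonZeroDivisors.ne_zero hc (hinj (h.trans (map_zero _).symm))

end Groth.Agent.S0220
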