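import Groth.Statements.S18897
import Groth.Agent.Lib.QuotTame53.Curve
import Groth.Agent.S0220
import Groth.Agent.S9777

set_option autoImplicit false
universe u
open CategoryTheory CategoryTheory.Limits AlgebraicGeometry
open Curves

namespace Groth.Agent.S18897

/-- Let k be a field, p : X → Spec k a smooth, proper, geometrically connected curve (X of dimension
one), and G a finite group acting faithfully on X by k-automorphisms, with the order of G invertible
in k. Let π : X → Y be a k-morphism which is a quotient of X by G: π is affine and G-invariant and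
over every open of Y the sections of O_Y are exactly the G-invariant sections of O_X. Then Y is a
smooth, proper, geometrically connected curve over k and π is a cover of degree |G|: finite, flat,
of rank |G| at every point. (The source says projective where this row says proper; for curves over
a field the two agree.) -/
theorem result (k : Type u) [Field k]
    {X Y : Scheme.{u}} (p : X ⟶ Spec (CommRingCat.of k)) [IsProper p] [Smooth p] [GeometricallyConnected p]
    (hX : topologicalKrullDim ↥X = 1)
    {G : Type u} [Group G] [Finite G] (hG : ((Nat.card G : ℕ) : k) ≠ 0)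
    (ρ : G →* Aut X) (hρ : Function.Injective ρ) (hρk : ∀ g : G, (ρ g).hom ≫ p = p)
    (π : X ⟶ Y) (q : Y ⟶ Spec (CommRingCat.of k)) (hπ : π ≫ q = p) (hquot : SGA1.IsQuot ρ π) :
    IsProper q ∧ Smooth q ∧ GeometricallyConnected q ∧ topologicalKrullDim ↥Y = 1 ∧
      IsFinite π ∧ Flat π ∧ ∀ y : Y, π.finrank y = Nat.card G := by
  subst hπ
  have hlft : LocallyOfFiniteType q :=
    Groth.Agent.Lib.SchQuot.Props.locallyOfFiniteType_of_comp' hquot q inferInstance
  have hprop : IsProper q := Groth.Agent.Lib.QuotTame53.isProper hquot q hlft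
  have hfin : IsFinite π := Groth.Agent.Lib.SchQuot.Props.isFinite_of_comp hquot q inferInstance
  have hsurj : Surjective π := ⟨Groth.Agent.Lib.SchQuot.IsQuot.surjective hquot⟩
  have hconn : GeometricallyConnected q := ⟨fun K _ y Z fst snd hZ => by
    have hsurj' : Surjective (Groth.Agent.Lib.QuotTame53.Curve.quotBC y (q := q) (π := π) rfl) :=
      MorphismProperty.of_isPullback
        (Groth.Agent.Lib.QuotTame53.Curve.isPullback_quotBC y rfl) hsurj
    have : ConnectedSpace ↥(pullback (π ≫ q) y) :=
      GeometricallyConnected.geometrically_connectedSpace y _ _ (IsPullback.of_hasPullback _ _)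
    have h2 : ConnectedSpace ↥(pullback q y) := hsurj'.1.connectedSpace
      (Groth.Agent.Lib.QuotTame53.Curve.quotBC y (q := q) (π := π) rfl).continuous
    show ConnectedSpace Z
    exact hZ.isoPullback.inv.surjective.connectedSpace hZ.isoPullback.inv.continuous⟩
  have hsm : Smooth q := by
    let b : Spec (CommRingCat.of (AlgebraicClosure k)) ⟶ Spec (CommRingCat.of k) :=
      Spec.map (CommRingCat.ofHom (algebraMap k (AlgebraicClosure k)))
    have hb : (@Surjective ⊓ @Flat ⊓ @QuasiCompact : MorphismProperty Scheme.{u}) b :=
      ⟨⟨⟨fun x => ⟨default, Subsingleton.elim _ _⟩⟩,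
        Flat.SpecMap_iff.mpr (RingHom.flat_algebraMap_iff.mpr inferInstance)⟩, inferInstance⟩
    have : Flat b := hb.1.2
    refine MorphismProperty.of_isPullback_of_descendsAlong (P := @Smooth)
      (IsPullback.of_hasPullback q b).flip hb ?_
    have : ConnectedSpace ↥(pullback (π ≫ q) b) :=
      GeometricallyConnected.geometrically_connectedSpace b _ _ (IsPullback.of_hasPullback _ _)
    refine Groth.Agent.Lib.QuotTame53.Curve.smooth_quot (pullback.snd (π ≫ q) b) ?_ _ ?_
      (Groth.Agent.Lib.QuotTame53.Curve.isQuot_quotBC hρk b hquot rfl)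
    · have hfib : ∀ {K : Type u} [Field K] {W : Scheme.{u}} (r : W ⟶ Spec (CommRingCat.of K))
          (s : Spec (CommRingCat.of K)),
          topologicalKrullDim ↥(r.fiber s) = topologicalKrullDim ↥W := fun r s => by
        have hu : r ⁻¹' {s} = Set.univ :=
          Set.eq_univ_iff_forall.mpr fun w => Subsingleton.elim _ _
        exact IsHomeomorph.topologicalKrullDim_eq _
          (((r.fiberHomeo s).trans (Homeomorph.setCongr hu)).trans
            (Homeomorph.Set.univ _)).isHomeomorph
      have h := Groth.Agent.S9777.result (π ≫ q) b (pullback.snd (π ≫ q) b)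
        (pullback.fst (π ≫ q) b) (IsPullback.of_hasPullback _ _) default
      rw [hfib, hfib, hX] at h
      exact h.le
    · simp only [Groth.Agent.Lib.QuotTame53.Curve.quotBC, pullback.map]
      exact (pullback.lift_snd _ _ _).trans (Category.comp_id _)
  have hconnX : ConnectedSpace ↥X := GeometricallyConnected.geometrically_connectedSpace
    (f := π ≫ q) (𝟙 _) (𝟙 X) (π ≫ q) (IsPullback.of_horiz_isIso ⟨by simp⟩)
  obtain ⟨hint, hnorm⟩ := Groth.Agent.Lib.QuotTame53.Curve.isIntegral_of_smooth (π ≫ q)
  have := Groth.Agent.Lib.QuotTame53.Normal.isIntegral hquot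
  have hY : topologicalKrullDim ↥Y = 1 := by
    rw [← Groth.Agent.Lib.AffineCompl.Dim.topologicalKrullDim_of_finite_surjective π hsurj.1, hX]
  have hflat : Flat π := by
    refine Groth.Agent.S0220.result k X Y (π ≫ q) q hX hY
      (Groth.Agent.Lib.QuotTame53.Normal.isNormalScheme hquot hnorm) π rfl ?_
    rw [hsurj.1.range_eq]
    by_contra hc
    rw [Set.not_nontrivial_iff] at hc
    have : Subsingleton ↥Y := Set.subsingleton_univ_iff.mp hc
    have h0 : topologicalKrullDim ↥Y ≤ 0 := by
      rw [topologicalKrullDim]
      have : Subsingleton (TopologicalSpace.IrreducibleCloseds ↥Y) := ⟨fun A B =>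
        SetLike.coe_injective ((Subsingleton.eq_univ_of_nonempty A.isIrreducible.1).trans
          (Subsingleton.eq_univ_of_nonempty B.isIrreducible.1).symm)⟩
      exact Order.krullDim_nonpos_of_subsingleton
    rw [hY] at h0
    exact absurd h0 (by decide)
  have : X.IsSeparated := ⟨by
    rw [terminal.comp_from (π ≫ q) |>.symm]
    infer_instance⟩
  exact ⟨hprop, hsm, hconn, hY, hfin, hflat,
    fun y => Groth.Agent.Lib.QuotTame53.Normal.finrank_eq hquot hρ y⟩

end Groth.Agent.S18897
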