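import Groth.Statements.S1201
import Groth.Agent.Lib.RG.Induct
-- import your own Groth.Agent.* helpers here

set_option autoImplicit false
universe u
open FlatMor

namespace Groth.Agent.S1201

/-- Ring form: X = Spec S, S = Spec R: for a finite type R-algebra S, a finite S-module N and a prime q
of S lying over p, the localization N_q is flat over R if and only if N_{q'} is flat over R for
every prime q' ⊆ q lying over p whose extension to the fibre ring over p is an associated prime of
the fibre module of N (the associated points of the fibre which specialize to q). -/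
theorem result {R S : Type u} [CommRing R] [CommRing S] [Algebra R S] [Algebra.FiniteType R S]
    (N : Type u) [AddCommGroup N] [Module S N] [Module R N] [IsScalarTower R S N] [Module.Finite S N]
    (p : Ideal R) [p.IsPrime] (q : Ideal S) [q.IsPrime] [q.LiesOver p] :
    FlatCA.FlatAt R q N ↔ ∀ (q' : Ideal S) [q'.IsPrime], q' ≤ q → q'.LiesOver p →
      FlatCA.fiberIdeal p q' ∈ associatedPrimes (p.Fiber S) (FlatCA.fiberMod p S N) → FlatCA.FlatAt R q' N := by
  constructor
  · intro h q' _ hle _ _
    exact Lib.RG.FlatStep.flat_of_le hle h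
  · intro h
    refine Lib.RG.Induct.flat_of_flat_at_soc p q fun q₀ hq₀ hle hq₀p hsoc => ?_
    haveI := hq₀
    haveI := hq₀p
    refine h q₀ hle hq₀p ((Lib.FlatCA.FibreAss.assoc_iff N p q₀).2 ?_)
    obtain ⟨ξ, hξ, hne⟩ := hsoc
    haveI : IsNoetherianRing (p.Fiber S) := Algebra.FiniteType.isNoetherianRing p.ResidueField _
    by_contra hn
    have hn' := (Lib.FlatCA.FibreAss.assoc_iff N p q₀).not.2 hn
    exact Lib.RG.FibrePoint.not_nzdAt_of_socAt ⟨ξ, hξ, hne⟩ (Lib.RG.FibrePoint.nzdAt_of_not_assoc hn')

end Groth.Agent.S1201
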