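import Groth.Statements.S1816
import Groth.Agent.Lib.RGamma.Derived

set_option autoImplicit false
universe u
open CategoryTheory
attribute [local instance] HasDerivedCategory.standard
open LocCoh

namespace Groth.Agent.S1816

/-- First statement, for a Noetherian ring (where RΓ with support in V(I) is RΓ_I). Let A be a
Noetherian ring, I and J ideals, and assume the total right derived functors RΓ_I, RΓ_J and RΓ_{I+J}
exist. Then for every K in D(A), RΓ_J(RΓ_I(K)) is isomorphic to RΓ_{I+J}(K). -/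
theorem result (A : Type u) [CommRing A] [IsNoetherianRing A] (I J : Ideal A) [DRing.HasRgammaI I] [DRing.HasRgammaI J] [DRing.HasRgammaI (I ⊔ J)] (K : Dual.D A) : Nonempty ((DRing.RgammaI J).obj ((DRing.RgammaI I).obj K) ≅ (DRing.RgammaI (I ⊔ J)).obj K) := by
  obtain ⟨E, hE, hinj, ⟨e⟩⟩ := Groth.Agent.Lib.RGamma.exists_rep K
  obtain ⟨lJ, hlJ⟩ := Groth.Agent.Lib.RGamma.exists_ide_eq (IsNoetherian.noetherian J)
  have := Groth.Agent.Lib.RGamma.isIso_unit_of_isKInjective I E
  have := Groth.Agent.Lib.RGamma.isIso_unit_of_isKInjective (I ⊔ J) E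
  have := Groth.Agent.Lib.RGamma.isIso_unit_of_good J hlJ ((Groth.Agent.Lib.RGamma.gam I).obj E)
    fun i => Groth.Agent.Lib.RGamma.good_of_injective lJ _
      (Groth.Agent.Lib.LocalCoh.injective_torsionSub (hE :=
        Module.injective_module_of_injective_object A _ (inj := hinj i)) I (E.X i))
  exact ⟨(DRing.RgammaI J).mapIso
      ((DRing.RgammaI I).mapIso e ≪≫ Groth.Agent.Lib.RGamma.objIso I E) ≪≫
    Groth.Agent.Lib.RGamma.objIso J _ ≪≫
    DerivedCategory.Q.mapIso (Groth.Agent.Lib.RGamma.gamCompIso I J E) ≪≫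
    (Groth.Agent.Lib.RGamma.objIso (I ⊔ J) E).symm ≪≫ (DRing.RgammaI (I ⊔ J)).mapIso e.symm⟩

end Groth.Agent.S1816
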