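import Groth.Statements.S13919
import Groth.Agent.Lib.RamP1.Three
-- import your own Groth.Agent.* helpers here

set_option autoImplicit false
universe u
open W4c1limliniiii

namespace Groth.Agent.S13919

open Polynomial in
/-- Over an algebraically closed field of characteristic p (zero allowed), fix three distinct points of
the affine line and indices 2 ≤ e_i ≤ d prime to p with ∑ (e_i − 1) = 2d − 2, and encode self-maps
of the projective line up to automorphisms of the target as base-point-free separable pencils of
polynomials of degree at most d. If p is positive, the first two indices are less than p and p ≤ d,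
then there is no separable degree-d self-map of the projective line with ramification index exactly
e_i at the i-th point; if p = 0 or d < p there is exactly one up to automorphisms of the target.
(The first clause includes the case d = p; with it, when all e_i are less than p, the three-point
count is one map if p = 0 or p > d and none otherwise.) -/
theorem result (k : Type u) [Field k] [IsAlgClosed k]
    (p : ℕ) [CharP k p] (d : ℕ) (P : Fin 3 → k) (hP : Function.Injective P)
    (e : Fin 3 → ℕ) (he : W4c1limliniiii.Admissible p d e) :
    (p ≠ 0 → e 0 < p → e 1 < p → p ≤ d → W4c1limliniiii.ramMaps d P e = ∅) ∧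
      (p = 0 ∨ d < p → ∃ V : Submodule k k[X], W4c1limliniiii.ramMaps d P e = {V}) := by
  refine ⟨fun hp0 h0 h1 hpd => ?_, fun hp => ?_⟩
  · obtain ⟨V, hle, hrk, hns, hmem⟩ := Groth.Agent.Lib.RamP1.Three.insep_pencil hp0 hP he h0 h1 hpd
    exact Groth.Agent.Lib.RamP1.Three.empty_of_insep hP he hle hrk hns hmem
  · obtain ⟨V, hV⟩ := Groth.Agent.Lib.RamP1.Three.exists_mem_of_large hP he hp
    exact ⟨V, Set.eq_singleton_iff_unique_mem.2 ⟨hV, fun W hW =>
      Groth.Agent.Lib.RamP1.Three.unique_of_mem hP he hV hW.1.1 hW.1.2.1 fun i => (hW.2.2 i).1⟩⟩

end Groth.Agent.S13919
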