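import Groth.Statements.S10193
import Groth.Agent.Lib.AlgSpDecent.RedInduced
import Groth.Agent.Lib.AlgSpDecent.Factor
import Groth.Agent.Lib.AlgSpace.Points

set_option autoImplicit false
universe u
open CategoryTheory CategoryTheory.Limits AlgebraicGeometry Topology TopologicalSpace
open AlgSp

namespace Groth.Agent.S10193

/-- Let X, Y be algebraic spaces over a scheme S, i : Z ⟶ X a closed subspace (a morphism representable
by closed immersions) and assume Y is reduced. Then a morphism f : Y ⟶ X factors through Z if and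
only if |f|(|Y|) is contained in |Z|. -/
theorem result {S : Scheme.{u}} {X Y Z : AlgSp.Space S}
    (i : Z ⟶ X) (hi : AlgSp.RepWith @IsClosedImmersion i.hom) (hY : AlgSp.IsReducedSp Y.obj) (f : Y ⟶ X) :
    (∃ g : Y ⟶ Z, g ≫ i = f) ↔
      Set.range (AlgSp.Points.map f.hom) ⊆ Set.range (AlgSp.Points.map i.hom) := by
  constructor
  · rintro ⟨g, rfl⟩ _ ⟨y, rfl⟩
    exact ⟨Points.map g.hom y, (Points.map_comp g.hom i.hom y).symm⟩
  · intro h
    obtain ⟨U, a, ha, has, hU⟩ := hY
    haveI := Groth.Agent.Lib.AlgSpace.isLocallySurjective_of_etale ha has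
    obtain ⟨T₀, v, η, sq, hv⟩ := Groth.Agent.Lib.AlgSpace.repWith_exists hi (a ≫ f.hom)
    haveI : IsClosedImmersion v.left := hv
    obtain ⟨l, hl⟩ := Groth.Agent.Lib.AlgSpDecent.RedInduced.exists_lift_over (𝟙 U) v (by
      rintro u -
      obtain ⟨z, hz⟩ := h ⟨Points.map a (Points.schemeHomeo U u), rfl⟩
      rw [← Points.map_comp] at hz
      obtain ⟨t, -, ht⟩ := Groth.Agent.Lib.AlgSpace.exists_of_isPullback sq z _ hz
      obtain ⟨t, rfl⟩ := (Points.schemeHomeo T₀).surjective t
      rw [Points.map_yon_map_apply] at ht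
      exact ⟨t, (Points.schemeHomeo U).injective ht⟩)
    haveI : Mono i.hom := Groth.Agent.Lib.AlgSpace.mono_of_repWith (P := @IsClosedImmersion)
      (fun _ _ g (_ : IsClosedImmersion g) => (inferInstance : Mono g)) hi
    obtain ⟨g, hg⟩ := Groth.Agent.Lib.AlgSpDecent.Factor.exists_descend a i.hom f.hom
      ((yon S).map l ≫ η) (by
        rw [Category.assoc, sq.w, ← Functor.map_comp_assoc, hl, CategoryTheory.Functor.map_id,
          Category.id_comp])
    exact ⟨ObjectProperty.homMk g, ObjectProperty.hom_ext _ hg⟩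

end Groth.Agent.S10193
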