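import Groth.Statements.S10279
import Groth.Agent.Lib.AlgSpMor.Proper
-- import your own Groth.Agent.* helpers here

set_option autoImplicit false
universe u
open CategoryTheory CategoryTheory.Limits AlgebraicGeometry
open AlgSp

open Groth.Agent.Lib.AlgSpace Groth.Agent.Lib.AlgSpMor Groth.Agent.Lib.SourceDescent.Scheme Topology

namespace Groth.Agent.S10279

/-- The target of a surjective morphism over B from a space universally closed over B is universally
closed over B (hence proper over B as soon as it is also separated and of finite type over B, by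
definition). -/
theorem result {S : Scheme.{u}} {X Y B : AlgSp.Space S} (f : X ⟶ Y) (p : X ⟶ B)
    (q : Y ⟶ B) (comm : f ≫ q = p) (hp : AlgSp.IsUnivClosedMor p.hom) (hf : AlgSp.IsSurjectiveMor f.hom) :
    AlgSp.IsUnivClosedMor q.hom := by
  have hc : f.hom ≫ q.hom = p.hom := congrArg (fun k ↦ k.hom) comm
  intro Z Q' hZ g fst snd sq
  have sqP := IsPullback.of_hasPullback (f.hom ≫ q.hom) g
  have sq2 : IsPullback (pullback.fst (f.hom ≫ q.hom) g)
      (sq.lift (pullback.fst (f.hom ≫ q.hom) g ≫ f.hom) (pullback.snd _ g)
        (by rw [Category.assoc]; exact pullback.condition)) f.hom fst :=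
    IsPullback.of_bot (by rw [sq.lift_snd]; exact sqP) (sq.lift_fst _ _ _).symm sq
  have hs := QC.surjective_of_isPullback sq2 hf
  rw [← hc] at hp
  intro C hC
  have h := hp hZ g _ _ sqP _ (hC.preimage (AlgSp.Points.continuous_map (sq.lift
    (pullback.fst (f.hom ≫ q.hom) g ≫ f.hom) (pullback.snd _ g)
    (by rw [Category.assoc]; exact pullback.condition))))
  rw [← Set.image_preimage_eq C hs, Set.image_image]
  simp_rw [← AlgSp.Points.map_comp, sq.lift_snd]
  exact h

end Groth.Agent.S10279
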