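import Groth.Statements.S1789
import Groth.Agent.Lib.DMod.ShriekVia

set_option autoImplicit false
universe u
open CategoryTheory
attribute [local instance] HasDerivedCategory.standard
open Dual2

namespace Groth.Agent.S1789
open Groth.Agent.Lib.DMod

/-- Let R → A be a ring map of finite type between Noetherian rings with R local, where φ^!(K) is formed
from a presentation ψ : R[x_1, …, x_n] → A as RHom_P(A, K ⊗^L_R P)[n], assuming the derived base
change to P exists and taking for RHom_P(A, −) a right adjoint of restriction of scalars along ψ.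
Let m be a maximal ideal of A lying over the maximal ideal of R and ω a normalized dualizing complex
for R. Assuming the derived base change D(A) → D(A_m) exists, the base change of φ^!(ω) to A_m is a
normalized dualizing complex for A_m. -/
theorem result (R A : Type u) [CommRing R] [CommRing A] [IsNoetherianRing R] [IsNoetherianRing A] [Algebra R A] (n : ℕ) (ψ : MvPolynomial (Fin n) R →ₐ[R] A) (hψ : Function.Surjective ψ) [DRing.HasLBaseChange (algebraMap R (MvPolynomial (Fin n) R))] (Rψ : Dual.D (MvPolynomial (Fin n) R) ⥤ Dual.D A) (adj : DRing.restrictD ψ.toRingHom ⊣ Rψ) [IsLocalRing R] (m : Ideal A) [m.IsMaximal] (hm : m.comap (algebraMap R A) = IsLocalRing.maximalIdeal R) (ω : Dual.D R) (hω : Dual.IsDualizing R ω) (hn : Dual.IsNormalized R ω) [DRing.HasLBaseChange (algebraMap A (Localization.AtPrime m))] : Dual.IsDualizing (Localization.AtPrime m) ((DRing.LBaseChange (algebraMap A (Localization.AtPrime m))).obj (Dual2.shriekVia n Rψ ω)) ∧ Dual.IsNormalized (Localization.AtPrime m) ((DRing.LBaseChange (algebraMap A (Localization.AtPrime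 m))).obj (Dual2.shriekVia n Rψ ω)) := by
  let P := MvPolynomial (Fin n) R
  let Am := Localization.AtPrime m
  have hd : Dual.IsDualizing A (Dual2.shriekVia n Rψ ω) :=
    Gorenstein.isDualizing_shift (FiniteRing.isDualizing_right ψ.toRingHom
      (RingHom.Finite.of_surjective _ hψ) adj
      (LBC.isDualizing_of_iso ((FlatHom.isoLBaseChange R P).app ω).symm
        (ShriekVia.isDualizing_L_mvPolynomial n hω))) _
  have : Module.Flat A Am := IsLocalization.flat Am m.primeCompl
  let e := (FlatHom.isoLBaseChange A Am).app (Dual2.shriekVia n Rψ ω)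
  refine ⟨LBC.isDualizing_of_iso e.symm (GorLocus.isDualizing_atPrime hd m),
    LBC.isNormalized_of_iso e.symm fun i hi => ?_⟩
  suffices h : Subsingleton (Dual.inD A (A ⧸ m) ⟶ (Dual2.shriekVia n Rψ ω)⟦i⟧) by
    have := FlatDualizing.vanish_quot Am (FlatDualizing.bddFin_of_dualizing hd) m i h
    rw [Localization.AtPrime.map_eq_maximalIdeal] at this
    exact this
  let M : Ideal P := m.comap ψ.toRingHom
  have : M.IsMaximal := Ideal.comap_isMaximal_of_surjective ψ.toRingHom hψ
  have hM : M.comap (algebraMap R P) = IsLocalRing.maximalIdeal R := by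
    rw [Ideal.comap_comap]
    refine Eq.trans ?_ hm
    congr 1
    exact ψ.comp_algebraMap
  have h0 := ShriekVia.subsingleton_maximal hω hn M hM (↑n + i) (by lia)
  let f : P →ₗ[P] ((ModuleCat.restrictScalars.{u} ψ.toRingHom).obj (ModuleCat.of A (A ⧸ m))) :=
    LinearMap.toSpanSingleton P _ (Ideal.Quotient.mk m 1)
  have hf : Function.Surjective f := fun x => by
    obtain ⟨a, rfl⟩ := Ideal.Quotient.mk_surjective (I := m) x
    obtain ⟨z, rfl⟩ := hψ a
    refine ⟨z, ?_⟩
    show Ideal.Quotient.mk m (ψ z * 1) = _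
    rw [mul_one]
  have hker : LinearMap.ker f = M := by
    ext z
    show Ideal.Quotient.mk m (ψ z * 1) = 0 ↔ _
    rw [mul_one, Ideal.Quotient.eq_zero_iff_mem]
    exact Iff.rfl
  let o : ((ModuleCat.restrictScalars.{u} ψ.toRingHom).obj (ModuleCat.of A (A ⧸ m))) ≅ ModuleCat.of P (P ⧸ M) :=
    ((Submodule.quotEquivOfEq _ _ hker.symm).trans
      (LinearMap.quotKerEquivOfSurjective f hf)).symm.toModuleIso
  let Y := (DRing.LBaseChange (algebraMap R P)).obj ω
  have h1 : Subsingleton (Dual.inD A (A ⧸ m) ⟶ (Rψ.obj Y)⟦↑n + i⟧) :=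
    ((FiniteRing.adjEquiv (FiniteRing.isRep_counit adj Y) _ (↑n + i)).trans
      (Linear.homCongr P (FiniteRing.resSingle (ModuleCat.of A (A ⧸ m)) ≪≫
        (DerivedCategory.singleFunctor (ModuleCat.{u} P) 0).mapIso o)
        (((shiftFunctor (Dual.D P) (↑n + i)).mapIso
          ((FlatHom.isoLBaseChange R P).app ω)))).toAddEquiv).toEquiv.subsingleton
  exact (Iso.homCongr (Iso.refl _) ((shiftFunctorAdd' (Dual.D A) (n : ℤ) i (↑n + i) rfl).app
    (Rψ.obj Y)).symm).subsingleton

end Groth.Agent.S1789
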