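import Groth.Statements.S9069
import Groth.Agent.Lib.DerCat29.AdjIso
import Groth.Agent.Lib.DerCat29.CohIn
-- import your own Groth.Agent.* helpers here

set_option autoImplicit false
universe u
open CategoryTheory CategoryTheory.Limits Opposite
attribute [local instance] HasDerivedCategory.standard
open SiteCmp

namespace Groth.Agent.S9069

/-- Let f be a flat morphism from the ringed site (C, O_C) to the ringed site (D, O_D) and A ⊂ Mod(O_C),
A' ⊂ Mod(O_D) weak Serre subcategories such that f^* induces an equivalence of categories A' → A and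
F' → Rf_*f^*F' is an isomorphism for every F' ∈ A'. Then f^* : D^+_{A'}(O_D) → D^+_A(O_C) is an
equivalence with quasi-inverse Rf_*: on bounded below objects with cohomology sheaves in A' (resp.
A) the functor f^* (resp. Rf_*) lands in bounded below objects with cohomology sheaves in A (resp.
A'), and the unit (resp. counit) of the adjunction is an isomorphism there. The adjunction f^* ⊣
Rf_* on unbounded derived categories is a hypothesis; f^* is exact, so it is its own derived
functor. Stated for ringed sites; the published statement is for ringed topoi. -/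
theorem result
    {C : Type u} [SmallCategory C] {J : GrothendieckTopology C} {O_C : Sheaf J CommRingCat.{u}}
    {D : Type u} [SmallCategory D] {K : GrothendieckTopology D} {O_D : Sheaf K CommRingCat.{u}}
    (f : ModSite.RMor O_C O_D) [PreservesFiniteLimits f.pull] [SiteCmp.HasRpushD f]
    (adj : SiteCmp.pullD f ⊣ SiteCmp.RpushD f)
    (A : ObjectProperty (ModSite.Mod O_C)) [WSerre.IsWeakSerre A]
    (A' : ObjectProperty (ModSite.Mod O_D)) [WSerre.IsWeakSerre A']
    (h2a : ∀ F' : ModSite.Mod O_D, A' F' → A (f.pull.obj F'))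
    (h2b : ∀ F' G' : ModSite.Mod O_D, A' F' → A' G' →
      Function.Bijective (fun φ : F' ⟶ G' => f.pull.map φ))
    (h2c : ∀ F : ModSite.Mod O_C, A F → ∃ F' : ModSite.Mod O_D, A' F' ∧ Nonempty (f.pull.obj F' ≅ F))
    (h3 : ∀ F' : ModSite.Mod O_D, A' F' → IsIso (adj.unit.app (SiteCmp.inD O_D F'))) :
    (∀ Y : DerivedCategory (ModSite.Mod O_D), WSerre.cohInPlus A' Y →
      WSerre.cohInPlus A ((SiteCmp.pullD f).obj Y) ∧ IsIso (adj.unit.app Y)) ∧
    (∀ X : DerivedCategory (ModSite.Mod O_C), WSerre.cohInPlus A X →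
      WSerre.cohInPlus A' ((SiteCmp.RpushD f).obj X) ∧ IsIso (adj.counit.app X)) := by
  have hu : ∀ Y : DerivedCategory (ModSite.Mod O_D), WSerre.cohInPlus A' Y → IsIso (adj.unit.app Y) := by
    rintro Y ⟨hY, n₀, hn⟩
    exact Lib.DerCat29.AdjIso.isIso_unit_app f.pull adj Y n₀ hn fun q => h3 _ (hY q)
  refine ⟨fun Y hY => ⟨⟨Lib.DerCat29.CohIn.cohIn_mapDerivedCategory A' A f.pull h2a Y hY.1, ?_⟩, hu Y hY⟩, ?_⟩
  · obtain ⟨-, n₀, hn⟩ := hY
    exact ⟨n₀, Lib.DR.ExactPush.isGE_map f.pull hn⟩
  have hR := Lib.DerCat29.AdjIso.preservesGE_right f.pull adj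
  have hc : ∀ M : ModSite.Mod O_C, A M → IsIso (adj.counit.app (SiteCmp.inD O_C M)) ∧
      WSerre.cohIn A' ((SiteCmp.RpushD f).obj (SiteCmp.inD O_C M)) := fun M hM => by
    obtain ⟨F', hF', ⟨e⟩⟩ := h2c M hM
    let eD : (SiteCmp.pullD f).obj (SiteCmp.inD O_D F') ≅ SiteCmp.inD O_C M :=
      Lib.DR.ExactPush.mapSingle f.pull F' 0 ≪≫ (DerivedCategory.singleFunctor _ 0).mapIso e
    have := h3 F' hF'
    have hε : IsIso (adj.counit.app ((SiteCmp.pullD f).obj (SiteCmp.inD O_D F'))) := by
      have : IsIso ((SiteCmp.pullD f).map (adj.unit.app (SiteCmp.inD O_D F')) ≫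
          adj.counit.app ((SiteCmp.pullD f).obj (SiteCmp.inD O_D F'))) := by
        erw [adj.left_triangle_components]
        infer_instance
      exact IsIso.of_isIso_comp_left ((SiteCmp.pullD f).map (adj.unit.app (SiteCmp.inD O_D F'))) _
    refine ⟨(NatTrans.isIso_app_iff_of_iso adj.counit eD).1 hε, ?_⟩
    refine Lib.DerCat29.CohIn.cohIn_of_iso A'
      (asIso (adj.unit.app _) ≪≫ (SiteCmp.RpushD f).mapIso eD) fun i => ?_
    change A' ((DerivedCategory.homologyFunctor (ModSite.Mod O_D) i).obj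
      ((DerivedCategory.singleFunctor (ModSite.Mod O_D) 0).obj F'))
    obtain rfl | hi := eq_or_ne i 0
    · exact A'.prop_of_iso
        ((DerivedCategory.singleFunctorCompHomologyFunctorIso _ 0).app F').symm hF'
    · rcases lt_or_gt_of_ne hi with hi | hi
      · exact Lib.DerCat29.CohIn.prop_of_isZero A' (DerivedCategory.isZero_of_isGE _ 0 i hi)
      · exact Lib.DerCat29.CohIn.prop_of_isZero A' (DerivedCategory.isZero_of_isLE _ 0 i hi)
  rintro X ⟨hX, n₀, hn⟩
  let := adj.rightAdjointCommShift ℤ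
  have : adj.CommShift ℤ := adj.commShift_of_leftAdjoint ℤ
  have : (SiteCmp.RpushD f).IsTriangulated := adj.isTriangulated_rightAdjoint
  exact ⟨⟨Lib.DerCat29.CohIn.cohIn_obj A A' _ hR (fun M hM => (hc M hM).2) X n₀ hn hX, n₀,
      hR X n₀ hn⟩,
    Lib.DerCat29.AdjIso.isIso_counit_app f.pull adj X n₀ hn fun q => (hc _ (hX q)).1⟩

end Groth.Agent.S9069
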