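import Groth.Statements.S14595
import Groth.Agent.H52.SemiAbelian
import Groth.Agent.S14584

set_option autoImplicit false
set_option linter.style.haveILetI false
universe u
open CategoryTheory MonoidalCategory CartesianMonoidalCategory MonObj GrpObj AlgebraicGeometry CategoryTheory.Limits
open AlgGrp

namespace Groth.Agent.S14595

/-- Let k be a field, X and Y varieties over k (separated, geometrically integral, of finite type) with
rational points x₀, y₀, G a semi-abelian variety (an extension of a proper smooth connected k-group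
scheme by a torus) and f : X × Y → G a k-morphism. Then f(x, y) f(x, y₀)⁻¹ f(x₀, y)⁻¹ f(x₀, y₀) = e
identically, in the group of morphisms X × Y → G. -/
theorem result (k : Type u) [Field k]
    (X Y G : Over (Spec (CommRingCat.of k)))
    [LocallyOfFiniteType X.hom] [QuasiCompact X.hom] [IsSeparated X.hom] [GeometricallyIntegral X.hom]
    [LocallyOfFiniteType Y.hom] [QuasiCompact Y.hom] [IsSeparated Y.hom] [GeometricallyIntegral Y.hom]
    [GrpObj G] [LocallyOfFiniteType G.hom] [QuasiCompact G.hom] (hG : (∃ (T : Over (Spec (CommRingCat.of k))) (_ : GrpObj T) (i : T ⟶ G) (A : Over (Spec (CommRingCat.of k))) (_ : GrpObj A) (q : G ⟶ A),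
        IsMonHom i ∧ IsClosedImmersion i.left ∧ Red.IsTorus T ∧ IsMonHom q ∧ Surjective q.left ∧ Flat q.left ∧
        AlgGrp.IsKernel i q ∧ IsProper A.hom ∧ Smooth A.hom ∧ ConnectedSpace ↥A.left))
    (x₀ : 𝟙_ (Over (Spec (CommRingCat.of k))) ⟶ X) (y₀ : 𝟙_ (Over (Spec (CommRingCat.of k))) ⟶ Y) (f : X ⊗ Y ⟶ G) :
    f * (fst X Y ≫ lift (𝟙 X) (toUnit X ≫ y₀) ≫ f)⁻¹ * (snd X Y ≫ lift (toUnit Y ≫ x₀) (𝟙 Y) ≫ f)⁻¹ *
      (toUnit (X ⊗ Y) ≫ lift x₀ y₀ ≫ f) = 1 := by
  obtain ⟨T, _, i, A, _, q, hi, hci, hT, hq, hs, hfl, hK, hp, hsm, hc⟩ := hG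
  haveI := hi; haveI := hci; haveI := hq; haveI := hs; haveI := hfl; haveI := hp; haveI := hsm
  haveI := hc
  haveI : IsCommMonObj G := Groth.Agent.H52.SemiAbelian.isCommMonObj i q hK hT
  haveI : Mono i := ⟨fun a b h => hK.hom_ext h (toUnit_unique _ _)⟩
  set ψ : X ⊗ Y ⟶ G := f * (fst X Y ≫ lift (𝟙 X) (toUnit X ≫ y₀) ≫ f)⁻¹ *
    (snd X Y ≫ lift (toUnit Y ≫ x₀) (𝟙 Y) ≫ f)⁻¹ * (toUnit (X ⊗ Y) ≫ lift x₀ y₀ ≫ f) with hψ
  have hψq : ψ ≫ q = toUnit (X ⊗ Y) ≫ η[A] := by
    rw [← Hom.one_def]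
    have h := Groth.Agent.S14584.result k X Y A x₀ y₀ (f ≫ q)
    simp only [hψ, MonObj.mul_comp, GrpObj.inv_comp, Category.assoc]
    haveI : GeometricallyIntegral A.hom :=
      haveI := Groth.Agent.Lib.GrpSch.geometricallyReduced_of_smooth_field A.hom
      Groth.Agent.H4.HomImage.geometricallyIntegral_of_connected A
    haveI : IsCommMonObj A := isCommMonObj_of_isProper_of_geometricallyIntegral A
    conv_lhs => enter [1, 1, 1]; rw [h]
    rw [mul_inv_cancel_right, mul_inv_cancel_right, inv_mul_cancel]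
  rw [← hK.lift_fst ψ (toUnit _) hψq, Groth.Agent.H52.TorusRigid.eq_one_of_axes X Y T hT x₀ y₀
    (hK.lift ψ (toUnit _) hψq) ?_ ?_, MonObj.one_comp]
  all_goals rw [← cancel_mono i, MonObj.one_comp, Category.assoc, hK.lift_fst]
  · simp only [hψ, MonObj.comp_mul, GrpObj.comp_inv, lift_fst_assoc, lift_snd_assoc,
      comp_toUnit_assoc, comp_lift_assoc, comp_toUnit, Category.assoc, Category.id_comp, Category.comp_id,
      lift_fst, lift_snd]
    rw [mul_inv_cancel, _root_.one_mul, inv_mul_cancel]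
  · simp only [hψ, MonObj.comp_mul, GrpObj.comp_inv, lift_fst_assoc, lift_snd_assoc,
      comp_toUnit_assoc, comp_lift_assoc, comp_toUnit, Category.assoc, Category.id_comp, Category.comp_id,
      lift_fst, lift_snd]
    rw [_root_.mul_comm (_ * _) ((lift (toUnit Y ≫ x₀) (𝟙 Y) ≫ f)⁻¹),
      ← _root_.mul_assoc, inv_mul_cancel, _root_.one_mul, inv_mul_cancel]

end Groth.Agent.S14595
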