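import Groth.Statements.S0625
import Groth.Statements.S0625
import Groth.Agent.Lib.SepClosedSplit.Basic

set_option autoImplicit false
open CategoryTheory CategoryTheory.Limits AlgebraicGeometry Opposite
universe u
open EtCore

noncomputable section

namespace Groth.Agent.S0625

open TopologicalSpace

/-- A map which is Zariski locally split on a clopen covering has a section. -/
theorem section_of_clopen {V Z : Scheme.{u}} (φ : V ⟶ Z) {ι : Type u} [Finite ι] (W : ι → Z.Opens)
    (hW : ∀ k, IsClosed (W k : Set Z)) (a : ∀ k, (W k : Scheme.{u}) ⟶ V) (ha : ∀ k, a k ≫ φ = (W k).ι)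
    (hcov : ∀ z, ∃ k, z ∈ W k) : ∃ s : Z ⟶ V, s ≫ φ = 𝟙 Z := by
  obtain ⟨n, ⟨σ⟩⟩ := Finite.exists_equiv_fin ι
  let D : ι → Z.Opens := fun k => ⟨(W k : Set Z) \ ⋃ l : {l // σ l < σ k}, (W l.1 : Set Z),
    (W k).2.sdiff (isClosed_iUnion_of_finite fun l => hW l.1)⟩
  have hle : ∀ k, D k ≤ W k := fun k => Set.diff_subset
  have hdis : Pairwise (Function.onFun Disjoint D) := by
    intro k l hkl
    refine disjoint_iff_inf_le.2 ?_
    rintro z ⟨hk, hl⟩
    rcases lt_or_gt_of_ne (σ.injective.ne hkl) with h | h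
    · exact (hl.2 (Set.mem_iUnion.2 ⟨⟨k, h⟩, hk.1⟩)).elim
    · exact (hk.2 (Set.mem_iUnion.2 ⟨⟨l, h⟩, hl.1⟩)).elim
  have hDcov : ∀ z, ∃ k, z ∈ D k := fun z => by
    obtain ⟨k₀, hk₀⟩ := hcov z
    obtain ⟨k, hk, hmin⟩ := Set.Finite.exists_minimalFor σ {k | z ∈ W k} (Set.toFinite _) ⟨k₀, hk₀⟩
    refine ⟨k, hk, fun h => ?_⟩
    obtain ⟨⟨l, hl⟩, hzl⟩ := Set.mem_iUnion.1 h
    exact absurd (hmin hzl hl.le) (not_le.2 hl)
  obtain ⟨hc⟩ := nonempty_isColimit_cofanMk_of (fun k => (D k).ι) (by
    refine eq_top_iff.2 fun z _ => ?_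
    obtain ⟨k, hk⟩ := hDcov z
    exact Opens.mem_iSup.2 ⟨k, by simpa using hk⟩) (fun k l hkl => by
    simpa [Function.onFun] using hdis hkl)
  refine ⟨Cofan.IsColimit.desc hc (fun k => Z.homOfLE (hle k) ≫ a k), Cofan.IsColimit.hom_ext hc _ _ fun k => ?_⟩
  rw [← Category.assoc, Cofan.IsColimit.fac, Category.assoc, ha, Scheme.homOfLE_ι]
  exact (Category.comp_id _).symm

/-- Let X be an affine integral normal scheme whose function field is separably closed and Z -> X a
closed immersion. Every surjective finite etale morphism V -> Z has a section. -/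
theorem result {V Z X : Scheme.{u}} [IsAffine X] [IsIntegral X]
    (hN : ∀ x : X, IsIntegrallyClosed (X.presheaf.stalk x)) [IsSepClosed X.functionField]
    (i : Z ⟶ X) [IsClosedImmersion i] (φ : V ⟶ Z) [AlgebraicGeometry.Etale φ] [IsFinite φ] [Surjective φ] :
    ∃ s : Z ⟶ V, s ≫ φ = 𝟙 Z := by
  haveI hZ : IsAffine Z := isAffine_of_isAffineHom i
  haveI : IsAffine V := isAffine_of_isAffineHom φ
  obtain ⟨ι, _, W, e, he⟩ := Groth.Agent.Lib.SepClosedSplit.exists_split hN i φ
  let a := fun k => Sigma.ι (fun k => (W k : Scheme.{u})) k ≫ e.hom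
  have ha : ∀ k, a k ≫ φ = (W k).ι := fun k => (Category.assoc _ _ _).trans (he k)
  have hinv : ∀ l y, (Sigma.ι (fun k => (W k : Scheme.{u})) l).base y = e.inv.base ((a l).base y) := fun l y =>
    congrArg (fun m => m.base y) (show Sigma.ι (fun k => (W k : Scheme.{u})) l = a l ≫ e.inv by simp [a])
  have hcl : ∀ k, IsClosed (W k : Set Z) := fun k => by
    have hk : IsClosed (Set.range (a k).base) := by
      rw [← isOpen_compl_iff]
      have : (Set.range (a k).base)ᶜ = ⋃ l : {l // l ≠ k}, Set.range (a l.1).base := by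
        ext v
        obtain ⟨l, y, hy⟩ := (sigmaOpenCover (fun k => (W k : Scheme.{u}))).exists_eq (e.inv.base v)
        have hv : (a l).base y = v := by
          change e.hom.base ((Sigma.ι (fun k => (W k : Scheme.{u})) l).base y) = v
          erw [hy]
          exact congrArg (fun m => m.base v) e.inv_hom_id
        simp only [Set.mem_compl_iff, Set.mem_iUnion, Set.mem_range]
        refine ⟨fun h => ⟨⟨l, fun hlk => h ?_⟩, y, hv⟩, ?_⟩
        · subst hlk
          exact ⟨y, hv⟩
        · rintro ⟨⟨l', hl'⟩, y', hy'⟩ ⟨y'', hy''⟩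
          have := disjoint_opensRange_sigmaι (fun k => (W k : Scheme.{u})) l' k hl'
          refine ((disjoint_iff_inf_le.1 this) (x := e.inv.base v) ⟨⟨y', ?_⟩, ⟨y'', ?_⟩⟩).elim
          · rw [← hy']
            exact hinv l' y'
          · rw [← hy'']
            exact hinv k y''
      rw [this]
      exact isOpen_iUnion fun l => (a l.1).opensRange.2
    have := φ.isClosedMap _ hk
    rw [← Set.range_comp] at this
    rw [← Scheme.Opens.range_ι (W k), ← ha k]
    exact this
  exact Groth.Agent.S0625.section_of_clopen φ W hcl a ha (fun z => by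
    obtain ⟨v, rfl⟩ := φ.surjective z
    obtain ⟨l, y, hy⟩ := (sigmaOpenCover (fun k => (W k : Scheme.{u}))).exists_eq (e.inv.base v)
    refine ⟨l, ?_⟩
    have hv : (a l).base y = v := by
      change e.hom.base ((Sigma.ι (fun k => (W k : Scheme.{u})) l).base y) = v
      erw [hy]
      exact congrArg (fun m => m.base v) e.inv_hom_id
    have : φ.base ((a l).base y) = y.1 := congrArg (fun m => m.base y) (ha l)
    change φ.base v ∈ (W l : Set Z)
    rw [← hv]
    exact this ▸ y.2)

end Groth.Agent.S0625
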