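import Groth.Statements.S11486
import Groth.Agent.Lib.ProjCoh.Horrocks

set_option autoImplicit false
universe u
open VBPn

namespace Groth.Agent.S11486

open CategoryTheory CategoryTheory.Limits AlgebraicGeometry in
/-- Let k be a characteristic-zero algebraically closed field and E a finite locally free O-module of
rank r on P^n_k. Then E splits as a direct sum of twisting sheaves O(a_1) ⊕ ⋯ ⊕ O(a_r) if and only
if H^i(P^n_k, E ⊗ O(d)) = 0 for every 0 < i < n and every integer d. -/
theorem result (k : Type u) [Field k] [IsAlgClosed k] [CharZero k]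
    (n r : ℕ) (E : (CohB1.ProjSpace n k).Modules) (hE : FlatMod.IsFinLocFreeOfRank r E) :
    (∃ a : Fin r → ℤ, Nonempty (E ≅ ∐ fun j : Fin r => Twist.twistProjSpace n k (a j))) ↔
      ∀ (i : ℕ) (d : ℤ), 0 < i → i < n →
        Subsingleton (Coh.HH (CohB1.ProjSpace n k) (CohB1.tensorMod E (Twist.twistProjSpace n k d)) i) := by
  constructor
  · rintro ⟨a, ⟨e⟩⟩ i d h1 h2
    exact Agent.Lib.ProjCoh.Horrocks.mid_of_sum a e d i h1 h2
  · intro h
    rcases Nat.eq_zero_or_pos n with rfl | hn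
    · exact ⟨fun _ => 0, Agent.Lib.ProjCoh.Horrocks.exists_iso_sum_zero hE⟩
    · have hlf : FlatMod.IsFinLocFree E := fun x => by
        obtain ⟨U, hx, hi⟩ := hE x
        exact ⟨U, r, hx, hi⟩
      obtain ⟨r', a, ⟨e⟩⟩ := Agent.Lib.ProjCoh.Horrocks.exists_iso_sum hn E
        ⟨Agent.Lib.Perfect.Coherent.isCoh_of_isFinLocFree hlf, fun m i h1 h2 => h i m h1 h2,
          Agent.Lib.ProjCoh.Horrocks.exists_h0_vanish hn E hlf⟩
      obtain rfl := Agent.Lib.ProjCoh.Horrocks.rank_eq hE a e
      exact ⟨a, ⟨e⟩⟩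

end Groth.Agent.S11486
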