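import Groth.Statements.S5217
import Mathlib.CategoryTheory.Sites.RegularEpi
import Mathlib.CategoryTheory.Sites.LeftExact
import Mathlib.CategoryTheory.Limits.Types.Pullbacks
import Mathlib.CategoryTheory.Sites.EpiMono
import Mathlib.CategoryTheory.Types.Epimorphisms

set_option autoImplicit false
open CategoryTheory CategoryTheory.Limits
universe w v₁ u₁
open ShfCat

namespace Groth.Agent.S5217

section
open Opposite

variable {C : Type u₁} [Category.{v₁} C] {J : GrothendieckTopology C}

/-- Evaluation of sheaves of sets. -/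
noncomputable abbrev evSh (J : GrothendieckTopology C) (U : Cᵒᵖ) : Sheaf J (Type w) ⥤ Type w :=
  sheafToPresheaf J (Type w) ⋙ (evaluation _ _).obj U

variable {R X : Sheaf J (Type w)} {p₁ p₂ : R ⟶ X}

/-- The quotient presheaf of an equivalence relation of sheaves. -/
noncomputable def quotPresheaf (p₁ p₂ : R ⟶ X) : Cᵒᵖ ⥤ Type w where
  obj U := Quot fun a b : X.obj.obj U => ∃ r : R.obj.obj U, p₁.hom.app U r = a ∧ p₂.hom.app U r = b
  map {U V} g := ↾(Quot.map (X.obj.map g) (by
    rintro a b ⟨r, rfl, rfl⟩
    exact ⟨R.obj.map g r, NatTrans.naturality_apply p₁.hom g r, NatTrans.naturality_apply p₂.hom g r⟩))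
  map_id U := by
    ext x
    induction x using Quot.ind
    simp [Quot.map]
  map_comp g h := by
    ext x
    induction x using Quot.ind
    simp [Quot.map]

/-- The quotient map. -/
noncomputable def quotMap (p₁ p₂ : R ⟶ X) : X.obj ⟶ quotPresheaf p₁ p₂ where
  app U := ↾(Quot.mk _)

variable [HasSheafify J (Type w)]

theorem jointly_injective (e : EquivalenceRelation p₁ p₂) (U : Cᵒᵖ) (r s : R.obj.obj U)
    (h₁ : p₁.hom.app U r = p₁.hom.app U s) (h₂ : p₂.hom.app U r = p₂.hom.app U s) : r = s := by
  have : Mono (prod.lift p₁ p₂) := ⟨fun {W} a b h => e.right_cancellation a b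
    (by simpa only [Category.assoc, prod.lift_fst, prod.lift_snd] using congrArg (fun q => q ≫ prod.fst) h) (by simpa only [Category.assoc, prod.lift_fst, prod.lift_snd] using congrArg (fun q => q ≫ prod.snd) h)⟩
  apply injective_of_mono ((evSh J U).map (prod.lift p₁ p₂))
  apply Concrete.isLimit_ext _ (isLimitOfPreserves (evSh J U) (prodIsProd X X))
  rintro ⟨_ | _⟩
  · show ((evSh J U).map (prod.lift p₁ p₂) ≫ (evSh J U).map prod.fst) r =
      ((evSh J U).map (prod.lift p₁ p₂) ≫ (evSh J U).map prod.fst) s
    rw [← Functor.map_comp, prod.lift_fst]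
    exact h₁
  · show ((evSh J U).map (prod.lift p₁ p₂) ≫ (evSh J U).map prod.snd) r =
      ((evSh J U).map (prod.lift p₁ p₂) ≫ (evSh J U).map prod.snd) s
    rw [← Functor.map_comp, prod.lift_snd]
    exact h₂

theorem equivalence_app (e : EquivalenceRelation p₁ p₂) (U : Cᵒᵖ) :
    Equivalence fun a b : X.obj.obj U => ∃ r : R.obj.obj U, p₁.hom.app U r = a ∧ p₂.hom.app U r = b where
  refl a := ⟨(evSh J U).map e.r a,
    congr($(show (evSh J U).map e.r ≫ (evSh J U).map p₁ = 𝟙 _ by
      rw [← Functor.map_comp, e.reflexivity₁, CategoryTheory.Functor.map_id]) a),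
    congr($(show (evSh J U).map e.r ≫ (evSh J U).map p₂ = 𝟙 _ by
      rw [← Functor.map_comp, e.reflexivity₂, CategoryTheory.Functor.map_id]) a)⟩
  symm := by
    rintro a b ⟨r, rfl, rfl⟩
    exact ⟨(evSh J U).map e.s r,
      congr($(show (evSh J U).map e.s ≫ (evSh J U).map p₁ = (evSh J U).map p₂ by
        rw [← Functor.map_comp, e.symmetry₁]) r),
      congr($(show (evSh J U).map e.s ≫ (evSh J U).map p₂ = (evSh J U).map p₁ by
        rw [← Functor.map_comp, e.symmetry₂]) r)⟩
  trans := by
    rintro a b c ⟨r, rfl, hr⟩ ⟨r', hr', rfl⟩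
    have hpb : IsPullback e.c.fst e.c.snd p₂ p₁ :=
      IsPullback.of_isLimit e.isLimit
    obtain ⟨z, hz₁, hz₂⟩ := Types.exists_of_isPullback (hpb.map (evSh J U)) r r' (hr.trans hr'.symm)
    refine ⟨(evSh J U).map e.t z, ?_, ?_⟩
    · show ((evSh J U).map e.t ≫ (evSh J U).map p₁) z = _
      rw [← Functor.map_comp, e.transitivity₁, Functor.map_comp]
      exact congrArg _ hz₁
    · show ((evSh J U).map e.t ≫ (evSh J U).map p₂) z = _
      rw [← Functor.map_comp, e.transitivity₂, Functor.map_comp]
      exact congrArg _ hz₂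

theorem isPullback_quotMap (e : EquivalenceRelation p₁ p₂) :
    IsPullback p₁.hom p₂.hom (quotMap p₁ p₂) (quotMap p₁ p₂) := by
  refine IsPullback.of_forall_isPullback_app fun U => ?_
  rw [Types.isPullback_iff]
  refine ⟨?_, fun a b h => jointly_injective e U a b h.1 h.2, fun a b h => ?_⟩
  · ext r
    exact Quot.sound ⟨r, rfl, rfl⟩
  · have := Quot.eqvGen_exact h
    rw [(equivalence_app e U).eqvGen_iff] at this
    obtain ⟨r, h₁, h₂⟩ := this
    exact ⟨r, h₁, h₂⟩

theorem epi_stable {F G F' G' : Sheaf J (Type w)} {t : F' ⟶ F} {q : F' ⟶ G'} {π : F ⟶ G} {g : G' ⟶ G}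
    (h : IsPullback t q π g) [Epi π] : Epi q := by
  let L := presheafToSheaf J (Type w)
  let η := (sheafificationAdjunction J (Type w)).counit
  have hη : ∀ {A B : Sheaf J (Type w)} (f : A ⟶ B), L.map f.hom ≫ η.app B = η.app A ≫ f := fun f =>
    η.naturality f
  haveI : Epi (L.map π.hom) := by
    have : L.map π.hom = η.app F ≫ π ≫ inv (η.app G) := by
      rw [← Category.assoc, ← hη, Category.assoc, IsIso.hom_inv_id, Category.comp_id]
    rw [this]; infer_instance
  haveI : Epi (L.map (Limits.image.ι π.hom)) := by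
    haveI : Epi (L.map (factorThruImage π.hom) ≫ L.map (Limits.image.ι π.hom)) := by
      rw [← L.map_comp, Limits.image.fac]; infer_instance
    exact epi_of_epi (L.map (factorThruImage π.hom)) _
  haveI : IsIso (L.map (Limits.image.ι π.hom)) := isIso_of_mono_of_epi _
  have hp : IsPullback t.hom q.hom π.hom g.hom := h.map (sheafToPresheaf J (Type w))
  let k : F'.obj ⟶ pullback (Limits.image.ι π.hom) g.hom :=
    pullback.lift (t.hom ≫ factorThruImage π.hom) q.hom (by rw [Category.assoc, Limits.image.fac]; exact hp.w)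
  have hP := IsPullback.of_hasPullback (Limits.image.ι π.hom) g.hom
  have hk : IsPullback t.hom k (factorThruImage π.hom) (pullback.fst _ _) := by
    refine IsPullback.of_bot (v₁₁ := k) (v₂₁ := pullback.snd (Limits.image.ι π.hom) g.hom) (v₁₂ := factorThruImage π.hom) (v₂₂ := Limits.image.ι π.hom) (h₃₁ := g.hom) ?_ (pullback.lift_fst _ _ _).symm hP
    rw [Limits.image.fac, pullback.lift_snd]
    exact hp
  haveI : Epi k := by
    haveI : ∀ U, Epi (k.app U) := fun U =>
      MorphismProperty.of_isPullback (P := MorphismProperty.epimorphisms (Type w)) (hk.app U)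
        (inferInstanceAs (Epi ((factorThruImage π.hom).app U)))
    exact NatTrans.epi_of_epi_app _
  haveI : IsIso (L.map (pullback.snd (Limits.image.ι π.hom) g.hom)) := (hP.map L).isIso_snd_of_isIso
  haveI : Epi (L.map q.hom) := by
    rw [show q.hom = k ≫ pullback.snd _ _ from (pullback.lift_snd _ _ _).symm, Functor.map_comp]
    infer_instance
  have : q = inv (η.app F') ≫ L.map q.hom ≫ η.app G' := by rw [hη, IsIso.inv_hom_id_assoc]
  rw [this]
  infer_instance

end

/-- In the category of sheaves of sets on a site, every equivalence relation is universally effective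
(its quotient sheaf exists, the relation is the kernel pair of the quotient map, and that map is a
universal effective epimorphism). Stated for sheaves valued in `Type w` whenever sheafification
exists. -/
theorem result {C : Type u₁} [Category.{v₁} C]
    (J : GrothendieckTopology C) [HasSheafify J (Type w)]
    {R X : Sheaf J (Type w)} (p₁ p₂ : R ⟶ X) [IsEquivalenceRelation p₁ p₂] :
    IsUniversallyEffectiveEquivalenceRelation p₁ p₂ := by
  obtain ⟨e⟩ := IsEquivalenceRelation.nonempty_equivalenceRelation (p₁ := p₁) (p₂ := p₂)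
  let L := presheafToSheaf J (Type w)
  let η := (sheafificationAdjunction J (Type w)).counit
  let π : X ⟶ L.obj (quotPresheaf p₁ p₂) := inv (η.app X) ≫ L.map (quotMap p₁ p₂)
  haveI : Epi (quotMap p₁ p₂) := by
    haveI : ∀ U, Epi ((quotMap p₁ p₂).app U) := fun U => by
      rw [epi_iff_surjective]
      exact Quot.mk_surjective
    exact NatTrans.epi_of_epi_app _
  haveI : Epi (L.map (quotMap p₁ p₂)) := inferInstance
  haveI : Epi π := epi_comp _ _
  have hk : IsKernelPair π p₁ p₂ := by
    refine IsPullback.of_iso ((isPullback_quotMap e).map L) (asIso (η.app R)) (asIso (η.app X))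
      (asIso (η.app X)) (Iso.refl _) (η.naturality p₁) (η.naturality p₂) ?_ ?_
    · simp [π, L]
    · simp [π, L]
  haveI : EffectiveEpi π := (isRegularEpi_iff_effectiveEpi π).1 (IsRegularEpiCategory.regularEpiOfEpi π)
  have hc := isColimitCoforkOfEffectiveEpi π _ hk.isLimit
  have hpo : IsPushout p₁ p₂ π π := by
    have hab : ∀ (s : PushoutCocone p₁ p₂), s.inl = s.inr := fun s => by
      have := congrArg (fun q => e.r ≫ q) s.condition
      simpa [reassoc_of% e.reflexivity₁, reassoc_of% e.reflexivity₂] using this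
    exact ⟨⟨hk.w⟩, ⟨PushoutCocone.IsColimit.mk _
      (fun s => Cofork.IsColimit.desc hc s.inl (s.condition.trans (congrArg (p₂ ≫ ·) (hab s).symm)))
      (fun s => Cofork.IsColimit.π_desc hc)
      (fun s => (Cofork.IsColimit.π_desc hc).trans (hab s))
      (fun s m hm₁ _ => Cofork.IsColimit.hom_ext hc (hm₁.trans (Cofork.IsColimit.π_desc' hc _ _).symm))⟩⟩
  refine ⟨⟨{ e with B := _, π := π, isKernelPair := hk, isPushout := hpo, universally_effectiveEpi_π := ?_ }⟩⟩
  intro F' G' a b q hq
  have := epi_stable hq.flip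
  exact (isRegularEpi_iff_effectiveEpi q).1 (IsRegularEpiCategory.regularEpiOfEpi q)

end Groth.Agent.S5217
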