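import Groth.Statements.S9431
import Groth.Agent.H21.SepGen
import Mathlib.RingTheory.Smooth.Locus
import Mathlib.RingTheory.Localization.FractionRing

set_option autoImplicit false
universe u
open CAlg

namespace Groth.Agent.S9431

/-- For a separable (geometrically reduced) field extension K/k, every finite subset of K lies in a
k-subalgebra of K which is smooth over k; in particular K is a filtered colimit of smooth
k-algebras. -/
theorem result (k : Type u) [Field k]
    (K : Type u) [Field K] [Algebra k K] [Algebra.IsGeometricallyReduced k K] (E : Finset K) :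
    ∃ A : Subalgebra k K, (↑E : Set K) ⊆ (A : Set K) ∧ Algebra.Smooth k A := by
  let A₀ : Subalgebra k K := Algebra.adjoin k (E : Set K)
  haveI : Algebra.FiniteType k A₀ := (Subalgebra.fg_iff_finiteType A₀).1 (Subalgebra.fg_adjoin_finset E)
  haveI : Algebra.FinitePresentation k A₀ := Algebra.FinitePresentation.of_finiteType.1 inferInstance
  let F := FractionRing A₀
  let j : F →ₐ[k] K := IsFractionRing.liftAlgHom (g := A₀.val) Subtype.val_injective
  haveI : Algebra.IsGeometricallyReduced k F :=
    Algebra.IsGeometricallyReduced.of_injective j (RingHom.injective j.toRingHom)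
  haveI : Algebra.FormallySmooth k F :=
    Groth.Agent.Lib.PBasis.FieldSmooth.formallySmooth_iff_isGeometricallyReduced.2 inferInstance
  haveI : Algebra.IsSmoothAt k (⊥ : Ideal A₀) :=
    Algebra.FormallySmooth.of_equiv ((Groth.Agent.H21.SepGen.atBotEquiv A₀ F).restrictScalars k).symm
  obtain ⟨f, hf, hsm⟩ := Algebra.IsSmoothAt.exists_notMem_smooth k (⊥ : Ideal A₀)
  have hf0 : (f : K) ≠ 0 := fun h => hf (Ideal.mem_bot.2 (Subtype.ext h))
  let ψ : Localization.Away f →ₐ[k] K := IsLocalization.liftAlgHom (M := Submonoid.powers f) (f := A₀.val)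
    (by rintro ⟨_, n, rfl⟩; rw [map_pow]; exact (isUnit_iff_ne_zero.2 hf0).pow n)
  have hψ : Function.Injective ψ := by
    show Function.Injective (IsLocalization.lift _)
    refine (IsLocalization.lift_injective_iff _).2 fun x y => ?_
    refine ⟨fun h => ?_, fun h => ?_⟩
    · exact congrArg _ (IsLocalization.injective (Localization.Away f)
        (powers_le_nonZeroDivisors_of_noZeroDivisors fun h0 => hf0 (congrArg Subtype.val h0)) h)
    · exact congrArg _ (Subtype.val_injective h)
  haveI := hsm
  refine ⟨ψ.range, fun x hx => ?_, Algebra.Smooth.of_equiv (AlgEquiv.ofInjective ψ hψ)⟩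
  refine ⟨algebraMap A₀ (Localization.Away f) ⟨x, Algebra.subset_adjoin hx⟩, ?_⟩
  exact IsLocalization.lift_eq _ _

end Groth.Agent.S9431
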