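import Groth.Statements.S6829
import Groth.Agent.Lib.Smoothing.BaseChange

set_option autoImplicit false
universe u
open Smoothing

namespace Groth.Agent.S6829

open TensorProduct in
/-- Let A be a finitely presented R-algebra, R → R' a ring map and a ∈ A. If a is elementary standard,
resp. strictly standard, in A over R, then a ⊗ 1 is elementary standard, resp. strictly standard, in
A ⊗_R R' over R' (written here as 1 ⊗ a in R' ⊗_R A). -/
theorem result {R A R' : Type u} [CommRing R] [CommRing A] [Algebra R A]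
    [Algebra.FinitePresentation R A] [CommRing R'] [Algebra R R'] (a : A) :
    (Smoothing.IsElementaryStandard R A a →
        Smoothing.IsElementaryStandard R' (R' ⊗[R] A) ((1 : R') ⊗ₜ[R] a)) ∧
      (Smoothing.IsStrictlyStandard R A a →
        Smoothing.IsStrictlyStandard R' (R' ⊗[R] A) ((1 : R') ⊗ₜ[R] a)) := by
  open Groth.Agent.Lib.Smoothing.BaseChange MvPolynomial in
  have key : ∀ P : Smoothing.MarkedPresentation R A,
      ∃ P' : Smoothing.MarkedPresentation R' (R' ⊗[R] A),
        (Smoothing.KillsTail P a → Smoothing.KillsTail P' ((1 : R') ⊗ₜ[R] a)) ∧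
        ((∃ a' : A, a = a' * P.hom (Smoothing.jacobianMinor P.rel (Fin.castLE P.hcm) (Fin.castLE P.hcn))) →
          ∃ a'' : R' ⊗[R] A, (1 : R') ⊗ₜ[R] a =
            a'' * P'.hom (Smoothing.jacobianMinor P'.rel (Fin.castLE P'.hcm) (Fin.castLE P'.hcn))) ∧
        ((a ∈ Ideal.span (Set.range fun cols : Fin P.c → Fin P.n =>
            P.hom (Smoothing.jacobianMinor P.rel (Fin.castLE P.hcm) cols))) →
          ((1 : R') ⊗ₜ[R] a) ∈ Ideal.span (Set.range fun cols : Fin P'.c → Fin P'.n =>
            P'.hom (Smoothing.jacobianMinor P'.rel (Fin.castLE P'.hcm) cols))) := by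
    intro P
    obtain ⟨hom', hsurj, hker, hmap⟩ := exists_presentation P R'
    have hminor : ∀ cols : Fin P.c → Fin P.n,
        hom' (Smoothing.jacobianMinor (fun j => MvPolynomial.map (algebraMap R R') (P.rel j))
          (Fin.castLE P.hcm) cols) =
          (1 : R') ⊗ₜ P.hom (Smoothing.jacobianMinor P.rel (Fin.castLE P.hcm) cols) := by
      intro cols
      rw [← hmap, Smoothing.jacobianMinor, Smoothing.jacobianMinor, RingHom.map_det]
      congr 2
      refine Matrix.ext fun i j => ?_
      simp [pderiv_map]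
    refine ⟨⟨P.n, P.m, P.c, P.hcn, P.hcm, fun j => MvPolynomial.map (algebraMap R R') (P.rel j), hom',
      hsurj, hker⟩, ?_, ?_, ?_⟩
    · intro hk
      obtain ⟨g, hg⟩ := P.surj a
      refine killsTail_of_lift (g := MvPolynomial.map (algebraMap R R') g)
        ((hmap g).trans (by rw [hg])) fun j hj => ?_
      have h1 := Ideal.mem_map_of_mem (MvPolynomial.map (algebraMap R R')) (hk g hg j hj)
      rw [map_mul, Ideal.map_sup, Ideal.map_span, Ideal.map_pow, Ideal.map_span,
        ← Set.range_comp, ← Set.image_comp] at h1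
      exact h1
    · rintro ⟨a', ha'⟩
      refine ⟨(1 : R') ⊗ₜ a', ?_⟩
      show _ = _ * hom' (Smoothing.jacobianMinor _ (Fin.castLE P.hcm) _)
      rw [hminor, Algebra.TensorProduct.tmul_mul_tmul, one_mul, ← ha']
    · intro hmem
      have h1 := Ideal.mem_map_of_mem
        (Algebra.TensorProduct.includeRight : A →ₐ[R] R' ⊗[R] A).toRingHom hmem
      rw [Ideal.map_span, ← Set.range_comp] at h1
      show _ ∈ Ideal.span (Set.range fun cols : Fin P.c → Fin P.n =>
        hom' (Smoothing.jacobianMinor _ (Fin.castLE P.hcm) cols))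
      simp only [hminor]
      exact h1
  constructor
  · rintro ⟨P, h1, h2⟩
    obtain ⟨P', hk, he, -⟩ := key P
    exact ⟨P', he h1, hk h2⟩
  · rintro ⟨P, h1, h2⟩
    obtain ⟨P', hk, -, hs⟩ := key P
    exact ⟨P', hs h1, hk h2⟩


end Groth.Agent.S6829
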