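import Groth.Statements.S9146
import Groth.Agent.Lib.Synt92.MorAlg
import Groth.Agent.Lib.Synt92.PointCrit

set_option autoImplicit false
universe u
open Synt

namespace Groth.Agent.S9146

/-- Being syntomic is local on the target ring: if finitely many elements of S generating the unit ideal
have syntomic localizations R → S_g, then R → S is syntomic. -/
theorem result (R S : Type u) [CommRing R] [CommRing S] [Algebra R S]
    (s : Finset S) (hs : Ideal.span (s : Set S) = ⊤)
    (h : ∀ g ∈ s, Synt.IsSyntomic R (Localization.Away g)) : Synt.IsSyntomic R S := by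
  haveI hflat : Module.Flat R S := RingHom.flat_algebraMap_iff.1
    (RingHom.Flat.ofLocalizationSpanTarget (algebraMap R S) s hs fun g => by
      rw [← IsScalarTower.algebraMap_eq]
      exact RingHom.flat_algebraMap_iff.2 (h g.1 g.2).1)
  haveI hfp : Algebra.FinitePresentation R S := RingHom.finitePresentation_algebraMap.1
    (RingHom.finitePresentation_ofLocalizationSpanTarget (algebraMap R S) s hs fun g => by
      rw [← IsScalarTower.algebraMap_eq]
      exact RingHom.finitePresentation_algebraMap.2 (h g.1 g.2).2.1)
  refine Lib.Synt92.MorAlg.isSyntomic_iff.2 ⟨hflat, hfp, fun p Q => ?_⟩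
  let q := Q.asIdeal.comap
    (Algebra.TensorProduct.includeRight (R := R) (A := p.asIdeal.ResidueField) (B := S)).toRingHom
  haveI : q.IsPrime := Ideal.IsPrime.comap _
  obtain ⟨g, hg, hgq⟩ : ∃ g ∈ s, g ∉ q := by
    by_contra hc
    push Not at hc
    exact Ideal.IsPrime.ne_top ‹q.IsPrime› (top_le_iff.1 (hs ▸ Ideal.span_le.2 hc))
  exact (Lib.Synt92.PointCrit.flat_and_isCIOver g (h g hg) q hgq p Q.asIdeal rfl).2

end Groth.Agent.S9146
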