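import Groth.Statements.S9287
import Groth.Agent.Lib.Synt92.KoszulChart
import Groth.Agent.Lib.Synt92.KoszulFlat
import Groth.Agent.Lib.Synt92.MorStalk
import Groth.Agent.S9146

set_option autoImplicit false
universe u
attribute [local instance] HasDerivedCategory.standard
open CategoryTheory
open Synt

namespace Groth.Agent.S9287

/-- One Koszul-regular chart of a flat local complete intersection map. -/
theorem isSyntomic_chart {R P S : Type u} [CommRing R] [CommRing P] [CommRing S] [Algebra R P] [Algebra R S]
    [Algebra.Smooth R P] [Module.Flat R S] (φ : P →ₐ[R] S) (hφ : Function.Surjective φ) (l : List P)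
    (hl : LCI.IsKoszulRegularSeq P l) (hker : RingHom.ker φ.toRingHom = Ideal.ofList l) :
    Synt.IsSyntomic R S := by
  classical
  haveI : Algebra.FinitePresentation R S := Algebra.FinitePresentation.of_surjective hφ (by
    rw [hker]
    exact ⟨l.toFinset, by rw [Ideal.ofList]; exact congrArg Ideal.span (Set.ext fun a => by simp)⟩)
  refine Lib.Synt92.MorAlg.isSyntomic_iff.2 ⟨inferInstance, inferInstance, fun p Q => ?_⟩
  haveI : Algebra.FiniteType R S := inferInstance
  haveI := Lib.Synt92.MorStalk.essFiniteType_fiber p.asIdeal Q.asIdeal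
  let b := Q.asIdeal.comap
    (Algebra.TensorProduct.includeRight (R := R) (A := p.asIdeal.ResidueField) (B := S)).toRingHom
  haveI : b.IsPrime := Ideal.IsPrime.comap _
  refine (Lib.Synt92.MorAlg.isCompleteIntersection_iff_of_equiv p.asIdeal.ResidueField (RingEquiv.refl _)).1 ?_
  refine Lib.Synt92.KoszulFlat.isCompleteIntersection φ hφ l.get ?_
    (Lib.Wiebe.Bridge.acyc_of_isKoszulRegularSeq l.get (by rw [List.ofFn_get]; exact hl))
    p.asIdeal b Q.asIdeal rfl
  rw [hker, Ideal.ofList]
  exact congrArg Ideal.span (Set.ext fun a => by simp [List.mem_iff_get])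


/-- A ring map R → S is syntomic if and only if it is flat and a local complete intersection
homomorphism. -/
theorem result (R S : Type u) [CommRing R] [CommRing S] [Algebra R S] :
    Synt.IsSyntomic R S ↔ Module.Flat R S ∧ LCI.IsLCI R S := by
  classical
  constructor
  · intro h
    obtain ⟨hflat, hfp, hci⟩ := Lib.Synt92.MorAlg.isSyntomic_iff.1 h
    haveI := hflat
    refine ⟨hflat, inferInstance, ?_⟩
    obtain ⟨n, ψ, hψ, hI⟩ := hfp.out
    refine ⟨n, ψ, hψ, fun P hP => ?_⟩
    let b : Ideal S := P.asIdeal.map ψ.toRingHom
    haveI : b.IsPrime := Ideal.map_isPrime_of_surjective (f := ψ.toRingHom) hψ hP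
    have hbc : b.comap ψ.toRingHom = P.asIdeal := by
      rw [Ideal.comap_map_of_surjective _ (show Function.Surjective ψ.toRingHom from hψ)]
      exact sup_eq_left.2 hP
    let p : PrimeSpectrum R := PrimeSpectrum.comap (algebraMap R S) ⟨b, inferInstance⟩
    let a := PrimeSpectrum.preimageEquivFiber R S p ⟨⟨b, inferInstance⟩, rfl⟩
    have ha : a.asIdeal.comap Algebra.TensorProduct.includeRight.toRingHom = b :=
      congrArg (fun z => z.1.asIdeal)
        ((PrimeSpectrum.preimageEquivFiber R S p).symm_apply_apply ⟨⟨b, inferInstance⟩, rfl⟩)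
    haveI : Module.Flat R (Localization.AtPrime b) := Module.Flat.trans R S _
    obtain ⟨c, F, g, hgb, hFI, hmul, hrel⟩ :=
      Lib.Synt92.CritLocal.exists_data ψ hψ hI b p.asIdeal rfl a.asIdeal ha (hci p a)
    refine ⟨g, fun hg => hgb (hbc.ge hg), _, Lib.Synt92.KoszulChart.isKoszulRegularSeq_away F g hrel, ?_⟩
    have hJ : Ideal.span {x | x ∈ (List.ofFn F).map (algebraMap (MvPolynomial (Fin n) R) (Localization.Away g))} =
        (Ideal.span (Set.range F)).map (algebraMap _ (Localization.Away g)) := by
      rw [Ideal.map_span]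
      exact congrArg Ideal.span (Set.ext fun x => by simp)
    rw [hJ]
    refine le_antisymm (Ideal.map_le_iff_le_comap.2 fun y hy => ?_)
      (Ideal.map_mono (Ideal.span_le.2 (by rintro _ ⟨i, rfl⟩; exact hFI i)))
    have h1 := Ideal.mem_map_of_mem (algebraMap _ (Localization.Away g)) (hmul y hy)
    rw [map_mul] at h1
    exact (Ideal.unit_mul_mem_iff_mem _ (IsLocalization.Away.algebraMap_isUnit (S := Localization.Away g) g)).1 h1
  · rintro ⟨hflat, -, n, f, hf, hI⟩
    haveI := hflat
    let T : Set S := {t | ∃ g : MvPolynomial (Fin n) R, f g = t ∧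
      ∃ l : List (Localization.Away g), LCI.IsKoszulRegularSeq (Localization.Away g) l ∧
        (RingHom.ker f.toRingHom).map (algebraMap _ (Localization.Away g)) = Ideal.span {x | x ∈ l}}
    have hT : Ideal.span T = ⊤ := by
      by_contra hne
      obtain ⟨m, hm, hle⟩ := Ideal.exists_le_maximal _ hne
      obtain ⟨g, hg, hl⟩ := hI ⟨m.comap f.toRingHom, Ideal.IsPrime.comap _⟩ (Ideal.comap_mono bot_le)
      exact hg (hle (Ideal.subset_span ⟨g, rfl, hl⟩))
    obtain ⟨s, hs, hone⟩ := Submodule.mem_span_finite_of_mem_span
      (show (1 : S) ∈ Ideal.span T from hT ▸ Submodule.mem_top)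
    refine S9146.result R S s ((Ideal.eq_top_iff_one _).2 hone) fun t ht => ?_
    obtain ⟨g, rfl, l, hl, hmap⟩ := hs ht
    have hT' : Submonoid.map f.toRingHom (Submonoid.powers g) = Submonoid.powers (f g) :=
      Submonoid.map_powers f.toRingHom g
    let ψ : Localization.Away g →ₐ[R] Localization.Away (f g) :=
      { IsLocalization.map (Localization.Away (f g)) f.toRingHom
          (hT' ▸ Submonoid.le_comap_map (Submonoid.powers g)) with
        commutes' := fun r => by
          rw [IsScalarTower.algebraMap_apply R (MvPolynomial (Fin n) R) (Localization.Away g),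
            RingHom.toFun_eq_coe, IsLocalization.map_eq,
            show f.toRingHom (algebraMap R (MvPolynomial (Fin n) R) r) = algebraMap R S r from f.commutes r,
            ← IsScalarTower.algebraMap_apply] }
    haveI : Algebra.Smooth R (MvPolynomial (Fin n) R) := ⟨inferInstance, inferInstance⟩
    haveI : Algebra.Smooth (MvPolynomial (Fin n) R) (Localization.Away g) :=
      Algebra.Smooth.of_isLocalization_Away g
    haveI : Algebra.Smooth R (Localization.Away g) :=
      Algebra.Smooth.comp R (MvPolynomial (Fin n) R) _
    haveI : Module.Flat R (Localization.Away (f g)) := Module.Flat.trans R S _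
    refine isSyntomic_chart ψ ?_ l hl ?_
    · haveI : IsLocalization ((Submonoid.powers g).map f.toRingHom) (Localization.Away (f g)) := by
        rw [hT']; infer_instance
      exact IsLocalization.map_surjective_of_surjective (S := Localization.Away g)
        (Submonoid.powers g) (Localization.Away (f g)) hf
    · exact (IsLocalization.ker_map (S := Localization.Away g) (Localization.Away (f g)) f.toRingHom hT').trans hmap

end Groth.Agent.S9287
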