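import Groth.Statements.S9170
import Groth.Agent.Lib.Synt92.GCIBasic
import Groth.Agent.Lib.Synt92.Syzygy

set_option autoImplicit false
universe u
open Synt

namespace Groth.Agent.S9170

/-- For a relative global complete intersection S = R[x_1, …, x_n]/(f_1, …, f_c) over a ring R and a
prime q' of the polynomial ring containing the ideal (f_1, …, f_c): (1) f_1, …, f_c is a regular
sequence in the localization R[x]_{q'} (a local ring); (2) every quotient R[x]_{q'}/(f_1, …, f_i) is
flat over R; (3) the conormal module (f)/(f)² is free over S with basis the classes of the f_i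
(stated as: these classes are linearly independent over S and span). -/
theorem result (R : Type u) [CommRing R] (n c : ℕ)
    (F : Fin c → MvPolynomial (Fin n) R) (h : Synt.IsRelGCI R n c F)
    (q' : Ideal (MvPolynomial (Fin n) R)) [q'.IsPrime] (hq' : Ideal.span (Set.range F) ≤ q') :
    RingTheory.Sequence.IsRegular (Localization.AtPrime q')
        ((List.ofFn F).map (algebraMap (MvPolynomial (Fin n) R) (Localization.AtPrime q'))) ∧
      (∀ i ≤ c, Module.Flat R (Localization.AtPrime q' ⧸ Ideal.ofList
        (((List.ofFn F).take i).map (algebraMap (MvPolynomial (Fin n) R) (Localization.AtPrime q'))))) ∧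
      LinearIndependent (Synt.RelGCIRing R n c F)
        (fun i : Fin c => (Ideal.span (Set.range F)).toCotangent ⟨F i, Ideal.subset_span (Set.mem_range_self i)⟩) ∧
      Submodule.span (Synt.RelGCIRing R n c F) (Set.range
        (fun i : Fin c => (Ideal.span (Set.range F)).toCotangent ⟨F i, Ideal.subset_span (Set.mem_range_self i)⟩)) = ⊤ := by
  have key := fun (q : Ideal (MvPolynomial (Fin n) R)) (_ : q.IsPrime) hq => Lib.Synt92.GCIBasic.regular R F h q hq (Localization.AtPrime q)
  refine ⟨(key q' inferInstance hq').1, fun i _ => ?_, ?_, ?_⟩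
  · rw [List.map_take]
    exact (key q' inferInstance hq').2 i
  · rw [Fintype.linearIndependent_iff]
    intro g hg i
    choose a ha using fun j => Ideal.Quotient.mk_surjective (g j)
    rw [← ha i, Ideal.Quotient.eq_zero_iff_mem]
    refine Lib.Synt92.Syzygy.coeff_mem_of_sum_mem_sq F (fun q hqm hle => ?_) a ?_ i
    · have := (key q hqm.isPrime hle).1.toIsWeaklyRegular
      rwa [List.map_ofFn] at this
    · have e : (Ideal.span (Set.range F)).toCotangent
          (∑ j, a j • (⟨F j, Ideal.subset_span (Set.mem_range_self j)⟩ : Ideal.span (Set.range F))) = 0 := by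
        rw [map_sum, ← hg]
        refine Finset.sum_congr rfl fun j _ => ?_
        rw [map_smul, ← ha j]
        rfl
      rw [Ideal.toCotangent_eq_zero] at e
      simpa [Submodule.coe_sum] using e
  · rw [eq_top_iff]
    intro x _
    obtain ⟨⟨y, hy⟩, rfl⟩ := (Ideal.span (Set.range F)).toCotangent_surjective x
    obtain ⟨a, rfl⟩ := Ideal.mem_span_range_iff_exists_fun.1 hy
    refine (Submodule.mem_span_range_iff_exists_fun _).2 ⟨fun j => Ideal.Quotient.mk _ (a j), ?_⟩
    have e : (⟨∑ j, a j * F j, hy⟩ : Ideal.span (Set.range F)) =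
        ∑ j, a j • ⟨F j, Ideal.subset_span (Set.mem_range_self j)⟩ := Subtype.ext (by simp [Submodule.coe_sum])
    rw [e, map_sum]
    refine Finset.sum_congr rfl fun j _ => ?_
    rw [map_smul]
    rfl

end Groth.Agent.S9170
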