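import Groth.Statements.S9172
import Groth.Agent.Lib.Synt92.RelChart
import Groth.Agent.Lib.Synt92.RelGCI

set_option autoImplicit false
universe u
open Synt

namespace Groth.Agent.S9172

open MvPolynomial in
/-- Let S = R[x_1, …, x_n]/(F_1, …, F_c) over a ring R. Let I be an ideal of R such that the reduction
R/I[x]/(F mod I) = S/IS is a relative global complete intersection over R/I (its nonempty fibres
have dimension n − c). Then some h in the polynomial ring, with image g in S, satisfies: g maps to 1
in S/IS, and the presentation S_g = R[x_1, …, x_{n+1}]/(F_1, …, F_c, h·x_{n+1} − 1) is a relative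
global complete intersection over R (with S_g isomorphic to it over R). -/
theorem result (R : Type u) [CommRing R] (n c : ℕ) (F : Fin c → MvPolynomial (Fin n) R)
    (I : Ideal R)
    (hI : Synt.IsRelGCI (R ⧸ I) n c (fun i => MvPolynomial.map (Ideal.Quotient.mk I) (F i))) :
    ∃ h : MvPolynomial (Fin n) R,
      Ideal.Quotient.mk (I.map (algebraMap R (Synt.RelGCIRing R n c F)))
        (Ideal.Quotient.mk (Ideal.span (Set.range F)) h) = 1 ∧
      Synt.IsRelGCI R (n + 1) (c + 1)
        (Fin.snoc (fun i => rename Fin.castSucc (F i)) (rename Fin.castSucc h * X (Fin.last n) - 1)) ∧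
      Nonempty (Localization.Away (Ideal.Quotient.mk (Ideal.span (Set.range F)) h) ≃ₐ[R]
        Synt.RelGCIRing R (n + 1) (c + 1)
          (Fin.snoc (fun i => rename Fin.castSucc (F i)) (rename Fin.castSucc h * X (Fin.last n) - 1))) := by
  classical
  have hfib : ∀ q : PrimeSpectrum (Synt.RelGCIRing R n c F),
      I.map (algebraMap R (Synt.RelGCIRing R n c F)) ≤ q.asIdeal →
      c ≤ n ∧ Groth.Agent.H20.FibreDimBC.fdim R (Synt.RelGCIRing R n c F) q.asIdeal ≤ n - c := by
    intro q hq
    set p := q.asIdeal.under R with hpdef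
    haveI : p.IsPrime := Ideal.IsPrime.under R q.asIdeal
    have hIp : I ≤ p := Ideal.map_le_iff_le_comap.1 hq
    haveI : (p.map (Ideal.Quotient.mk I)).IsPrime :=
      Ideal.map_isPrime_of_surjective Ideal.Quotient.mk_surjective (by rwa [Ideal.mk_ker])
    set p' := p.map (Ideal.Quotient.mk I)
    have hpp : p = p'.comap (Ideal.Quotient.mk I) := by
      rw [Ideal.comap_map_of_surjective _ Ideal.Quotient.mk_surjective]
      exact (sup_eq_left.2 (Ideal.mk_ker.le.trans hIp)).symm
    letI : Algebra p.ResidueField p'.ResidueField :=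
      (Ideal.ResidueField.map p p' (Ideal.Quotient.mk I) hpp).toAlgebra
    let G : Fin c → MvPolynomial (Fin n) (R ⧸ I) := fun i => MvPolynomial.map (Ideal.Quotient.mk I) (F i)
    have hJ : ((Ideal.span (Set.range F)).map (MvPolynomial.map (algebraMap R p.ResidueField))).map
        (MvPolynomial.map (algebraMap p.ResidueField p'.ResidueField)) =
        (Ideal.span (Set.range G)).map (MvPolynomial.map (algebraMap (R ⧸ I) p'.ResidueField)) := by
      simp only [Ideal.map_span, ← Set.range_comp]
      refine congrArg Ideal.span (congrArg Set.range (funext fun i => ?_))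
      simp only [Function.comp_apply, G, MvPolynomial.map_map]
      refine congrArg (fun φ => MvPolynomial.map φ (F i)) (RingHom.ext fun r => ?_)
      simp only [RingHom.comp_apply]
      exact Ideal.ResidueField.map_algebraMap p p' (Ideal.Quotient.mk I) hpp r
    have e := Lib.Synt92.GCIBasic.fiberEquiv R (Ideal.span (Set.range F)) p
    have e' := Lib.Synt92.GCIBasic.fiberEquiv (R ⧸ I) (Ideal.span (Set.range G)) p'
    have hne2 : Nontrivial (p'.Fiber (Synt.RelGCIRing (R ⧸ I) n c G)) := by
      let ψ : (R ⧸ I) →+* Synt.RelGCIRing R n c F ⧸ q.asIdeal :=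
        Ideal.Quotient.lift I ((Ideal.Quotient.mk q.asIdeal).comp (algebraMap R _)) fun r hr =>
          Ideal.Quotient.eq_zero_iff_mem.2 (hIp hr)
      let φ : MvPolynomial (Fin n) (R ⧸ I) →+* Synt.RelGCIRing R n c F ⧸ q.asIdeal :=
        MvPolynomial.eval₂Hom ψ fun i =>
          Ideal.Quotient.mk _ (Ideal.Quotient.mk (Ideal.span (Set.range F)) (MvPolynomial.X i))
      have hφ : ∀ x, φ (MvPolynomial.map (Ideal.Quotient.mk I) x) =
          Ideal.Quotient.mk _ (Ideal.Quotient.mk (Ideal.span (Set.range F)) x) := by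
        have : φ.comp (MvPolynomial.map (Ideal.Quotient.mk I)) =
            (Ideal.Quotient.mk q.asIdeal).comp (Ideal.Quotient.mk (Ideal.span (Set.range F))) := by
          refine MvPolynomial.ringHom_ext (fun r => ?_) fun i => ?_
          · simp [φ, ψ]
            rfl
          · simp [φ]
        exact fun x => RingHom.congr_fun this x
      let Φ : Synt.RelGCIRing (R ⧸ I) n c G →+* Synt.RelGCIRing R n c F ⧸ q.asIdeal :=
        Ideal.Quotient.lift _ φ fun x hx => by
          have hle : Ideal.span (Set.range G) ≤ RingHom.ker φ := by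
            rw [Ideal.span_le]
            rintro _ ⟨i, rfl⟩
            change φ (MvPolynomial.map (Ideal.Quotient.mk I) (F i)) = 0
            rw [hφ, Ideal.Quotient.eq_zero_iff_mem.2 (Ideal.subset_span (Set.mem_range_self i)), map_zero]
          exact hle hx
      haveI : (RingHom.ker Φ).IsPrime := RingHom.ker_isPrime Φ
      refine PrimeSpectrum.nonempty_iff_nontrivial.1
        ⟨PrimeSpectrum.preimageEquivFiber (R ⧸ I) (Synt.RelGCIRing (R ⧸ I) n c G) ⟨p', inferInstance⟩
          ⟨⟨RingHom.ker Φ, inferInstance⟩, PrimeSpectrum.ext ?_⟩⟩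
      ext y
      obtain ⟨r, rfl⟩ := Ideal.Quotient.mk_surjective y
      change φ (MvPolynomial.C (Ideal.Quotient.mk I r)) = 0 ↔ Ideal.Quotient.mk I r ∈ p'
      rw [← MvPolynomial.map_C (Ideal.Quotient.mk I), hφ, Ideal.Quotient.eq_zero_iff_mem,
        show Ideal.Quotient.mk I r ∈ p' ↔ r ∈ p'.comap (Ideal.Quotient.mk I) from Iff.rfl, ← hpp]
      rfl
    obtain ⟨hc, hd⟩ := hI ⟨p', inferInstance⟩ hne2
    refine ⟨hc, ?_⟩
    have hd' : ringKrullDim (MvPolynomial (Fin n) p'.ResidueField ⧸
        (Ideal.span (Set.range G)).map (MvPolynomial.map (algebraMap (R ⧸ I) p'.ResidueField))) ≤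
          ((n - c : ℕ) : WithBot ℕ∞) :=
      (ringKrullDim_eq_of_ringEquiv e'.toRingEquiv).ge.trans hd.le
    rw [← hJ] at hd'
    have h1 := Lib.Synt92.RelGCI.dim_le_of_field _ (n - c) hd'
    have h2 : ringKrullDim (p.Fiber (Synt.RelGCIRing R n c F)) ≤ ((n - c : ℕ) : WithBot ℕ∞) :=
      (ringKrullDim_eq_of_ringEquiv e.toRingEquiv).le.trans h1
    exact Lib.Synt92.RelChart.fdim_le_of_ringKrullDim_le _ q.asIdeal (n - c) h2
  by_cases hc : c ≤ n
  · obtain ⟨J, hJ⟩ := (PrimeSpectrum.isClosed_iff_zeroLocus_ideal _).1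
      (Groth.Agent.H20.FibreDimSet.isOpen_setOf_fdim_le (R := R) (S := Synt.RelGCIRing R n c F) (n - c)).isClosed_compl
    have htop : J ⊔ I.map (algebraMap R (Synt.RelGCIRing R n c F)) = ⊤ := by
      by_contra h
      obtain ⟨m, hm, hle⟩ := Ideal.exists_le_maximal _ h
      have : (⟨m, hm.isPrime⟩ : PrimeSpectrum _) ∈ PrimeSpectrum.zeroLocus (J : Set (Synt.RelGCIRing R n c F)) :=
        le_sup_left.trans hle
      rw [← hJ] at this
      exact this (hfib ⟨m, hm.isPrime⟩ (le_sup_right.trans hle)).2
    obtain ⟨j, hj, i, hi, hji⟩ := Submodule.mem_sup.1 (htop ▸ Submodule.mem_top : (1 : Synt.RelGCIRing R n c F) ∈ _)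
    obtain ⟨h, rfl⟩ := Ideal.Quotient.mk_surjective j
    refine ⟨h, ?_, Lib.Synt92.RelChart.isRelGCI_ext R hc F h (fun q hqp hq => ?_),
      Lib.Synt92.AwayPres.nonempty_equiv R n c F h⟩
    · rw [← map_one (Ideal.Quotient.mk (I.map (algebraMap R (Synt.RelGCIRing R n c F)))), ← hji, map_add,
        Ideal.Quotient.eq_zero_iff_mem.2 hi, add_zero]
    · by_contra hle
      have : (⟨q, hqp⟩ : PrimeSpectrum _) ∈ PrimeSpectrum.zeroLocus (J : Set (Synt.RelGCIRing R n c F)) :=
        hJ ▸ hle
      exact hq (this hj)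
  · have htop : I.map (algebraMap R (Synt.RelGCIRing R n c F)) = ⊤ := by
      by_contra h
      obtain ⟨m, hm, hle⟩ := Ideal.exists_le_maximal _ h
      exact hc (hfib ⟨m, hm.isPrime⟩ hle).1
    obtain ⟨e⟩ := Lib.Synt92.AwayPres.nonempty_equiv R n c F 0
    refine ⟨0, ?_, fun p hp => ?_, ⟨e⟩⟩
    · haveI : Subsingleton (Synt.RelGCIRing R n c F ⧸ I.map (algebraMap R (Synt.RelGCIRing R n c F))) :=
        Ideal.Quotient.subsingleton_iff.2 htop
      exact Subsingleton.elim _ _
    · exfalso
      haveI : Subsingleton (Localization.Away (Ideal.Quotient.mk (Ideal.span (Set.range F)) (0 : MvPolynomial (Fin n) R))) :=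
        IsLocalization.subsingleton (M := Submonoid.powers (Ideal.Quotient.mk (Ideal.span (Set.range F)) 0))
          (by rw [map_zero]; exact ⟨1, pow_one _⟩)
      haveI : Subsingleton (Synt.RelGCIRing R (n + 1) (c + 1) (Lib.Synt92.AwayPres.ext R n c F 0)) :=
        e.symm.toEquiv.subsingleton
      haveI : Subsingleton (p.asIdeal.Fiber (Synt.RelGCIRing R (n + 1) (c + 1) (Lib.Synt92.AwayPres.ext R n c F 0))) :=
        subsingleton_of_forall_eq 0 fun x => by
          induction x using TensorProduct.induction_on with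
          | zero => rfl
          | tmul a b => rw [Subsingleton.elim b 0, TensorProduct.tmul_zero]
          | add a b ha hb => rw [ha, hb, add_zero]
      exact not_nontrivial_iff_subsingleton.2 this hp

end Groth.Agent.S9172
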