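import Groth.Statements.S5366
import Groth.Agent.Lib.GenSub.Basic
import Groth.Agent.H2.Rigid.Smooth
import Mathlib.AlgebraicGeometry.AlgClosed.Basic
import Mathlib.GroupTheory.Nilpotent

set_option autoImplicit false
universe u
open CategoryTheory CategoryTheory.Limits MonoidalCategory CartesianMonoidalCategory MonObj GrpObj AlgebraicGeometry
open SGA3

namespace Groth.Agent.S5366

open scoped commutatorElement

section Grp

variable {Γ : Type*} [Group Γ]

theorem commutator_closure_le (A B : Set Γ) (hA : ∀ (g : Γ), ∀ a ∈ A, g * a * g⁻¹ ∈ A) (hB : ∀ (g : Γ), ∀ b ∈ B, g * b * g⁻¹ ∈ B) :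
    ⁅Subgroup.closure A, Subgroup.closure B⁆ ≤ Subgroup.closure (Set.image2 (fun a b => ⁅a, b⁆) A B) := by
  set N := Subgroup.closure (Set.image2 (fun a b => ⁅a, b⁆) A B)
  have hN : ∀ g : Γ, ∀ n ∈ N, g * n * g⁻¹ ∈ N := fun g n hn => by
    induction hn using Subgroup.closure_induction with
    | mem x hx =>
      obtain ⟨a, ha, b, hb, rfl⟩ := hx
      exact Subgroup.subset_closure ⟨_, hA g a ha, _, hB g b hb, by simp [commutatorElement_def, _root_.mul_assoc]⟩
    | one => simp
    | mul x y _ _ hx hy => simpa [_root_.mul_assoc] using N.mul_mem hx hy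
    | inv x _ hx => simpa [_root_.mul_assoc] using N.inv_mem hx
  have : N.Normal := ⟨fun n hn g => hN g n hn⟩
  refine Subgroup.commutator_le.2 fun x hx y hy => ?_
  rw [← QuotientGroup.eq_one_iff, ← QuotientGroup.mk'_apply, map_commutatorElement, commutatorElement_eq_one_iff_mul_comm]
  have h1 : ∀ a ∈ A, ∀ y ∈ Subgroup.closure B, Commute (QuotientGroup.mk' N a) (QuotientGroup.mk' N y) := fun a ha y hy => by
    induction hy using Subgroup.closure_induction with
    | mem b hb =>
      rw [commute_iff_eq, ← commutatorElement_eq_one_iff_mul_comm, ← map_commutatorElement, QuotientGroup.mk'_apply,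
        QuotientGroup.eq_one_iff]
      exact Subgroup.subset_closure ⟨a, ha, b, hb, rfl⟩
    | one => simp
    | mul x y _ _ hx hy => rw [map_mul]; exact hx.mul_right hy
    | inv x _ hx => rw [map_inv]; exact hx.inv_right
  induction hx using Subgroup.closure_induction with
  | mem a ha => exact h1 a ha y hy
  | one => simp
  | mul x x' _ _ hx hx' => rw [map_mul]; exact (Commute.mul_left (hx : Commute _ _) hx' :)
  | inv x _ hx => rw [map_inv]; exact (Commute.inv_left (hx : Commute _ _) :)

/-- The values of the derived words. -/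
def dVals (Γ : Type*) [Group Γ] : ℕ → Set Γ
  | 0 => Set.univ
  | n + 1 => Set.image2 (fun a b => ⁅a, b⁆) (dVals Γ n) (dVals Γ n)

/-- The values of the lower central words. -/
def lVals (Γ : Type*) [Group Γ] : ℕ → Set Γ
  | 0 => Set.univ
  | n + 1 => Set.image2 (fun a b => ⁅a, b⁆) (lVals Γ n) Set.univ

theorem dVals_conj : ∀ (n : ℕ) (g : Γ), ∀ a ∈ dVals Γ n, g * a * g⁻¹ ∈ dVals Γ n
  | 0, _, _, _ => Set.mem_univ _
  | n + 1, g, _, ⟨a, ha, b, hb, rfl⟩ =>
    ⟨_, dVals_conj n g a ha, _, dVals_conj n g b hb, by simp [commutatorElement_def, _root_.mul_assoc]⟩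

theorem lVals_conj : ∀ (n : ℕ) (g : Γ), ∀ a ∈ lVals Γ n, g * a * g⁻¹ ∈ lVals Γ n
  | 0, _, _, _ => Set.mem_univ _
  | n + 1, g, _, ⟨a, ha, b, hb, rfl⟩ =>
    ⟨_, lVals_conj n g a ha, g * b * g⁻¹, Set.mem_univ _, by simp [commutatorElement_def, _root_.mul_assoc]⟩

theorem derivedSeries_eq_closure : ∀ n, derivedSeries Γ n = Subgroup.closure (dVals Γ n)
  | 0 => by simp [dVals]
  | n + 1 => by
    refine le_antisymm ?_ ((Subgroup.closure_le _).2 ?_)
    · rw [derivedSeries_succ, derivedSeries_eq_closure n]
      exact commutator_closure_le _ _ (dVals_conj n) (dVals_conj n)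
    · rintro _ ⟨a, ha, b, hb, rfl⟩
      rw [derivedSeries_succ, derivedSeries_eq_closure n]
      exact Subgroup.commutator_mem_commutator (Subgroup.subset_closure ha) (Subgroup.subset_closure hb)

theorem lowerCentralSeries_eq_closure : ∀ n, Subgroup.lowerCentralSeries (⊤ : Subgroup Γ) n = Subgroup.closure (lVals Γ n)
  | 0 => by simp [lVals, Subgroup.lowerCentralSeries_zero]
  | n + 1 => by
    refine le_antisymm ?_ ((Subgroup.closure_le _).2 ?_)
    · rw [Subgroup.lowerCentralSeries_succ, lowerCentralSeries_eq_closure n, ← Subgroup.closure_univ]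
      exact commutator_closure_le _ _ (lVals_conj n) (fun _ _ _ => Set.mem_univ _)
    · rintro _ ⟨a, ha, b, -, rfl⟩
      rw [Subgroup.lowerCentralSeries_succ, lowerCentralSeries_eq_closure n]
      exact Subgroup.commutator_mem_commutator (Subgroup.subset_closure ha) (Subgroup.mem_top b)

end Grp

section Sch

variable {k : Type u} [Field k] {G : Over (Spec (CommRingCat.of k))} [GrpObj G]

/-- A word in a group scheme: a geometrically reduced scheme of finite type with a morphism. -/
structure Word (G : Over (Spec (CommRingCat.of k))) where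
  W : Over (Spec (CommRingCat.of k))
  w : W ⟶ G
  gred : GeometricallyReduced W.hom
  lft : LocallyOfFiniteType W.hom

/-- The set of values of a word at `T`. -/
def Word.vals (A : Word G) (T : Over (Spec (CommRingCat.of k))) : Set (T ⟶ G) := Set.range fun t : T ⟶ A.W => t ≫ A.w

theorem exists_comm_word (A B : Word G) : ∃ C : Word G,
    ∀ T, C.vals T = Set.image2 (fun a b => ⁅a, b⁆) (A.vals T) (B.vals T) := by
  have := A.gred; have := B.gred; have := A.lft; have := B.lft
  refine ⟨⟨A.W ⊗ B.W, ⁅fst A.W B.W ≫ A.w, snd A.W B.W ≫ B.w⁆,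
    H52.FBase.GeomRedSch.geometricallyReduced_prod A.W.hom B.W.hom, ?_⟩, fun T => Set.ext fun g => ⟨?_, ?_⟩⟩
  · have := Lib.GrpSch.fst_left_of (P := @LocallyOfFiniteType) A.W B.lft
    rw [← Over.w (fst A.W B.W)]
    infer_instance
  · rintro ⟨t, rfl⟩
    exact ⟨_, ⟨t ≫ fst A.W B.W, rfl⟩, _, ⟨t ≫ snd A.W B.W, rfl⟩, by
      simp [commutatorElement_def, MonObj.comp_mul, GrpObj.comp_inv]⟩
  · rintro ⟨_, ⟨t, rfl⟩, _, ⟨t', rfl⟩, rfl⟩
    exact ⟨lift t t', by simp [commutatorElement_def, MonObj.comp_mul, GrpObj.comp_inv]⟩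

/-- A word vanishing on the points of an algebraically closed field vanishes. -/
theorem Word.trivial_iff [LocallyOfFiniteType G.hom] (A : Word G) (Ω : Type u) [Field Ω] [Algebra k Ω] [IsAlgClosed Ω] :
    (∀ T, ∀ g ∈ A.vals T, g = 1) ↔
      ∀ g ∈ A.vals (Over.mk (Spec.map (CommRingCat.ofHom (algebraMap k Ω)))), g = 1 := by
  refine ⟨fun h => h _, fun h => ?_⟩
  suffices A.w = 1 by
    rintro T _ ⟨t, rfl⟩
    show t ≫ A.w = 1
    rw [this, MonObj.comp_one]
  have := A.gred; have := A.lft
  have : IsReduced A.W.left := Lib.GenSub.isReduced_left A.W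
  have : IsSeparated G.hom := Lib.GrpSch.isSeparated_of_field G
  have : JacobsonSpace A.W.left := LocallyOfFiniteType.jacobsonSpace A.W.hom
  refine Over.OverMorphism.ext (ext_of_fromSpecResidueField_eq _ _ G.hom (closedPoints A.W.left) ?_ (fun x hx => ?_)
    (by rw [Over.w, Over.w]))
  · rw [dense_iff_closure_eq, closure_closedPoints]
  · have : IsFinite (A.W.left.fromSpecResidueField x ≫ A.W.hom) := by
      have hx' : IsClosed ({x} : Set A.W.left) := hx
      rw [isClosed_singleton_iff_isClosedImmersion] at hx'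
      rw [isFinite_iff_locallyOfFiniteType_of_jacobsonSpace]
      infer_instance
    let φ := Spec.preimage (A.W.left.fromSpecResidueField x ≫ A.W.hom)
    have hφ : Spec.map φ = A.W.left.fromSpecResidueField x ≫ A.W.hom := Spec.map_preimage _
    algebraize [φ.hom]
    have : Algebra.IsIntegral k (A.W.left.residueField x) := by
      refine ⟨fun y => ?_⟩
      have : IsIntegralHom (Spec.map φ) := by rw [hφ]; infer_instance
      exact (IsIntegralHom.SpecMap_iff.mp this) y
    let ψ : A.W.left.residueField x →ₐ[k] Ω := IsAlgClosed.lift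
    let t : Over.mk (Spec.map (CommRingCat.ofHom (algebraMap k Ω))) ⟶ A.W :=
      Over.homMk (Spec.map (CommRingCat.ofHom ψ.toRingHom) ≫ A.W.left.fromSpecResidueField x) (by
        show (Spec.map _ ≫ A.W.left.fromSpecResidueField x) ≫ A.W.hom = Spec.map _
        rw [Category.assoc, ← hφ, ← Spec.map_comp]
        congr 1
        ext c
        exact ψ.commutes c)
    have h1 : t ≫ A.w = t ≫ (1 : A.W ⟶ G) := (h _ ⟨t, rfl⟩).trans (MonObj.comp_one t).symm
    have h2 := congrArg CommaMorphism.left h1
    have : IsDominant (Spec.map (CommRingCat.ofHom ψ.toRingHom)) := ⟨fun y => subset_closure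
      ⟨IsLocalRing.closedPoint Ω, Subsingleton.elim (α := PrimeSpectrum (A.W.left.residueField x)) _ _⟩⟩
    refine ext_of_isDominant_of_isSeparated G.hom (by simp only [Category.assoc, Over.w])
      (Spec.map (CommRingCat.ofHom ψ.toRingHom)) ?_
    rw [← Category.assoc, ← Category.assoc]
    exact h2

end Sch

/-- (i) ⟺ (iii): let G be a smooth group scheme of finite type over a field k, Ω an algebraically closed
extension field of k and n a natural number. Then G is solvable of class n (the n-th term of the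
derived series of the group G(T) is trivial for every k-scheme T) if and only if the n-th term of
the derived series of the group of Ω-points G(Ω) is trivial; and G is nilpotent of class n (the n-th
term of the lower central series of G(T) is trivial for every T) if and only if the n-th term of the
lower central series of G(Ω) is trivial. -/
theorem result (k : Type u) [Field k] (G : Over (Spec (CommRingCat.of k))) [GrpObj G]
    [Smooth G.hom] [QuasiCompact G.hom] (Ω : Type u) [Field Ω] [Algebra k Ω] [IsAlgClosed Ω] (n : ℕ) :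
    ((∀ T : Over (Spec (CommRingCat.of k)), derivedSeries (T ⟶ G) n = ⊥) ↔ derivedSeries ((Over.mk (Spec.map (CommRingCat.ofHom (algebraMap k Ω))) : Over (Spec (CommRingCat.of k))) ⟶ G) n = ⊥) ∧
    ((∀ T : Over (Spec (CommRingCat.of k)), Subgroup.lowerCentralSeries (⊤ : Subgroup (T ⟶ G)) n = ⊥) ↔ Subgroup.lowerCentralSeries (⊤ : Subgroup (((Over.mk (Spec.map (CommRingCat.ofHom (algebraMap k Ω))) : Over (Spec (CommRingCat.of k))) ⟶ G))) n = ⊥) := by
  have : GeometricallyReduced G.hom := H2.Rigid.geometricallyReduced_of_smooth G.hom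
  let W₀ : Word G := ⟨G, 𝟙 G, inferInstance, inferInstance⟩
  have hW₀ : ∀ T, W₀.vals T = Set.univ := fun T => Set.eq_univ_of_forall fun g => ⟨g, Category.comp_id g⟩
  have hd : ∀ n, ∃ A : Word G, ∀ T, A.vals T = dVals (T ⟶ G) n := fun n => by
    induction n with
    | zero => exact ⟨W₀, hW₀⟩
    | succ n ih =>
      obtain ⟨A, hA⟩ := ih
      obtain ⟨C, hC⟩ := exists_comm_word A A
      exact ⟨C, fun T => by rw [hC T, hA T]; rfl⟩
  have hl : ∀ n, ∃ A : Word G, ∀ T, A.vals T = lVals (T ⟶ G) n := fun n => by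
    induction n with
    | zero => exact ⟨W₀, hW₀⟩
    | succ n ih =>
      obtain ⟨A, hA⟩ := ih
      obtain ⟨C, hC⟩ := exists_comm_word A W₀
      exact ⟨C, fun T => by rw [hC T, hA T, hW₀ T]; rfl⟩
  constructor
  · obtain ⟨A, hA⟩ := hd n
    simp only [derivedSeries_eq_closure, Subgroup.closure_eq_bot_iff, ← hA, Set.subset_singleton_iff]
    exact A.trivial_iff Ω
  · obtain ⟨A, hA⟩ := hl n
    simp only [lowerCentralSeries_eq_closure, Subgroup.closure_eq_bot_iff, ← hA, Set.subset_singleton_iff]
    exact A.trivial_iff Ω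

end Groth.Agent.S5366
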