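import Groth.Statements.S1145
import Groth.Agent.Lib.FEt.FullyFaithful
import Groth.Agent.Lib.Unram.UnibranchEtaleAlg
import Groth.Agent.Lib.SchTopo.Closure
import Groth.Agent.Lib.Unram.FibreCount

set_option autoImplicit false
universe u
open Pi1

namespace Groth.Agent.S1145

open AlgebraicGeometry CategoryTheory CategoryTheory.Limits IsLocalRing in
theorem isPreconnected_punctured {X W : Scheme.{u}} (h : W ⟶ X) [Etale h] (w : W)
    (hsh : ∀ (R : Type u) [CommRing R] [IsLocalRing R] [Algebra (X.presheaf.stalk (h w)) R]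
      [IsLocalHom (algebraMap (X.presheaf.stalk (h w)) R)]
      [Hensel.IsStrictHenselization (X.presheaf.stalk (h w)) R],
      ConnectedSpace (FEt.puncturedSpec R : Scheme.{u})) :
    _root_.IsPreconnected ({closedPoint (W.presheaf.stalk w)}ᶜ : Set (PrimeSpectrum (W.presheaf.stalk w))) := by
  let A := X.presheaf.stalk (h w)
  let B := W.presheaf.stalk w
  let : Algebra A B := (h.stalkMap w).hom.toAlgebra
  have : IsLocalHom (algebraMap A B) := inferInstanceAs <| IsLocalHom (h.stalkMap w).hom
  have : Algebra.EssFiniteType A B := LocallyOfFiniteType.stalkMap h w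
  have : Algebra.FormallyUnramified A B := FormallyUnramified.stalkMap h w
  have : Module.Flat A B := Flat.stalkMap h w
  have : Algebra.IsSeparable (ResidueField A) (ResidueField B) := inferInstance
  obtain ⟨e⟩ := Groth.Agent.Lib.Unram.UnibranchEtaleAlg.exists_strict_equiv A B
    (Groth.Agent.Lib.Unram.UnibranchEtaleAlg.isIndEtale_of_flat_unramified A B)
  let S := Groth.Agent.Lib.Henselian.StrictHenselization.StrictHenselization A
  let T := Groth.Agent.Lib.Henselian.StrictHenselization.StrictHenselization B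
  have hS : _root_.IsPreconnected ({closedPoint S}ᶜ : Set (PrimeSpectrum S)) :=
    (isPreconnected_iff_preconnectedSpace).mpr (hsh S).toPreconnectedSpace
  let c := PrimeSpectrum.comap (algebraMap B T)
  have hc : ({closedPoint B}ᶜ : Set (PrimeSpectrum B)) =
      c '' (PrimeSpectrum.homeomorphOfRingEquiv e '' {closedPoint S}ᶜ) := by
    have hcl : ∀ p : PrimeSpectrum T, c p = closedPoint B ↔ p = closedPoint T := by
      refine fun p => ⟨fun hp => ?_, fun hp => hp ▸ IsLocalRing.comap_closedPoint (algebraMap B T)⟩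
      refine PrimeSpectrum.ext ((IsLocalRing.maximalIdeal.isMaximal T).eq_of_le p.isPrime.ne_top ?_).symm
      rw [← Groth.Agent.Lib.Henselian.StrictHenselization.map_maximalIdeal B T, Ideal.map_le_iff_le_comap]
      exact (congrArg PrimeSpectrum.asIdeal hp).ge
    have he : PrimeSpectrum.homeomorphOfRingEquiv e '' {closedPoint S}ᶜ = {closedPoint T}ᶜ := by
      rw [Set.image_compl_eq (PrimeSpectrum.homeomorphOfRingEquiv e).bijective, Set.image_singleton]
      congr 2
      exact IsLocalRing.comap_closedPoint (e.symm : T →+* S)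
    rw [he]
    refine Set.Subset.antisymm (fun q hq => ?_) (Set.image_subset_iff.mpr fun p hp => (hcl p).not.mpr hp)
    have := Groth.Agent.Lib.Henselian.StrictHenselization.faithfullyFlat B T
    obtain ⟨p, rfl⟩ := PrimeSpectrum.comap_surjective_of_faithfullyFlat (A := B) (B := T) q
    exact ⟨p, (hcl p).not.mp hq, rfl⟩
  rw [hc]
  exact (hS.image _ (PrimeSpectrum.homeomorphOfRingEquiv e).continuous.continuousOn).image _
    (PrimeSpectrum.continuous_comap _).continuousOn

open AlgebraicGeometry CategoryTheory CategoryTheory.Limits IsLocalRing in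
theorem exists_isClopen {X W : Scheme.{u}} (h : W ⟶ X) [IsFinite h] [Etale h] (U : X.Opens)
    (hU : Dense (U : Set X)) [QuasiCompact U.ι] (hcl : ∀ x : X, x ∉ U → IsClosed ({x} : Set X))
    (hsh : ∀ x : X, x ∉ U → ∀ (R : Type u) [CommRing R] [IsLocalRing R] [Algebra (X.presheaf.stalk x) R]
      [IsLocalHom (algebraMap (X.presheaf.stalk x) R)] [Hensel.IsStrictHenselization (X.presheaf.stalk x) R],
      ConnectedSpace (FEt.puncturedSpec R : Scheme.{u}))
    (C : Set (pullback h U.ι : Scheme.{u})) (hC : IsClopen C) :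
    ∃ D : Set W, IsClopen D ∧ (pullback.fst h U.ι).base ⁻¹' D = C := by
  let m := pullback.fst h U.ι
  have hr : Set.range m.base = h.base ⁻¹' (U : Set X) := by
    rw [IsOpenImmersion.range_pullbackFst]; simp
  have key : ∀ (E : Set (pullback h U.ι : Scheme.{u})), IsClopen E → ∀ z ∈ closure (m.base '' E),
      ∃ y ∈ m.base '' E, y ⤳ z := by
    intro E hE z hz
    let V : (pullback h U.ι : Scheme.{u}).Opens := ⟨E, hE.2⟩
    haveI : IsClosedImmersion V.ι := .of_isPreimmersion _ (by rw [Scheme.Opens.range_ι]; exact hE.1)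
    have hrV : Set.range (V.ι ≫ m).base = m.base '' E := by
      rw [Scheme.Hom.comp_base, TopCat.coe_comp, Set.range_comp, Scheme.Opens.range_ι]
      rfl
    obtain ⟨v, hv⟩ := Groth.Agent.Lib.SchTopo.Closure.exists_specializes_of_mem_closure_range (V.ι ≫ m)
      (hrV.symm ▸ hz)
    exact ⟨_, hrV ▸ Set.mem_range_self v, hv⟩
  have hinj : Function.Injective m.base := m.isOpenEmbedding.injective
  have hdisj : ∀ z, z ∈ closure (m.base '' C) → z ∈ closure (m.base '' Cᶜ) → False := by
    intro z hzC hzD
    obtain ⟨y₁, ⟨a, ha, rfl⟩, hy₁⟩ := key C hC z hzC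
    obtain ⟨y₂, ⟨b, hb, rfl⟩, hy₂⟩ := key Cᶜ hC.compl z hzD
    have hzU : h z ∉ U := fun hzU => by
      obtain ⟨c, rfl⟩ := hr.ge hzU
      exact hb ((hy₂.mem_open (m.isOpenEmbedding.isOpenMap _ hC.2)
        ⟨c, by_contra fun hc => absurd ha (((hy₁.mem_open (m.isOpenEmbedding.isOpenMap _ hC.compl.2)
          ⟨c, hc, rfl⟩) |> hinj.mem_set_image.mp)), rfl⟩) |> hinj.mem_set_image.mp)
    let j := W.fromSpecStalk z
    let P : Set (PrimeSpectrum (W.presheaf.stalk z)) := {closedPoint (W.presheaf.stalk z)}ᶜ
    have hj : ∀ p ∈ P, j p ∈ Set.range m.base := fun p hp => by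
      rw [hr]
      by_contra hpU
      have hsp : j p ⤳ z := Scheme.range_fromSpecStalk.le ⟨p, rfl⟩
      have heq : h (j p) = h z := ((hcl _ hpU).closure_eq.le (hsp.map h.continuous).mem_closure).symm
      have hz' : j p = z := by
        let a' : (h ⁻¹' {h z} : Set W) := ⟨j p, heq⟩
        let b' : (h ⁻¹' {h z} : Set W) := ⟨z, rfl⟩
        have hd : DiscreteTopology (h ⁻¹' {h z} : Set W) :=
          isDiscrete_iff_discreteTopology.mp (h.isDiscrete_preimage_singleton (h z))
        exact congrArg Subtype.val ((subtype_specializes_iff a' b').mpr hsp).eq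
      exact hp ((W.fromSpecStalk z).isEmbedding.injective (hz'.trans Scheme.fromSpecStalk_closedPoint.symm))
    have hP : _root_.IsPreconnected (m.base ⁻¹' (j '' P)) := by
      refine ((isPreconnected_punctured h z (hsh _ hzU)).image _ j.continuous.continuousOn).preimage_of_isOpenMap
        hinj m.isOpenEmbedding.isOpenMap ?_
      rintro _ ⟨p, hp, rfl⟩
      exact hj p hp
    have hmem : ∀ c, m.base c ⤳ z → c ∈ m.base ⁻¹' (j '' P) := fun c hc => by
      obtain ⟨p, hp⟩ := Scheme.range_fromSpecStalk.ge hc
      refine ⟨p, fun hpc => hzU ?_, hp⟩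
      have : m.base c = z := by
        rw [← hp, Set.mem_singleton_iff.mp hpc]; exact Scheme.fromSpecStalk_closedPoint
      exact this ▸ hr.le ⟨c, rfl⟩
    exact hb (hP.subset_isClopen hC ⟨a, hmem a hy₁, ha⟩ (hmem b hy₂))
  have hdense : Dense (Set.range m.base) := hr ▸ hU.preimage h.isOpenMap
  have hun : closure (m.base '' C) ∪ closure (m.base '' Cᶜ) = Set.univ := by
    rw [← closure_union, ← Set.image_union, Set.union_compl_self, Set.image_univ, hdense.closure_eq]
  have heq : closure (m.base '' C) = (closure (m.base '' Cᶜ))ᶜ :=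
    Set.Subset.antisymm (fun z h1 h2 => hdisj z h1 h2) fun z hz =>
      (hun.ge (Set.mem_univ z)).resolve_right hz
  refine ⟨closure (m.base '' C), ⟨isClosed_closure, heq ▸ isClosed_closure.isOpen_compl⟩, ?_⟩
  refine Set.Subset.antisymm (fun c hc => by_contra fun hcC => hdisj _ hc (subset_closure ⟨c, hcC, rfl⟩)) fun c hc =>
    subset_closure ⟨c, hc, rfl⟩

open AlgebraicGeometry CategoryTheory CategoryTheory.Limits in
/-- Let X be a scheme and U a dense open subscheme with quasi-compact inclusion such that every point of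
the complement of U is closed and, for every such point x and every strict henselization R of the
local ring at x, the punctured spectrum of R is connected. Then restriction of finite etale covers
from X to U is fully faithful. -/
theorem result {X : Scheme.{u}} (U : X.Opens)
    (hU : Dense (U : Set X)) [QuasiCompact U.ι] (hcl : ∀ x : X, x ∉ U → IsClosed ({x} : Set X))
    (hsh : ∀ x : X, x ∉ U → ∀ (R : Type u) [CommRing R] [IsLocalRing R] [Algebra (X.presheaf.stalk x) R]
      [IsLocalHom (algebraMap (X.presheaf.stalk x) R)] [Hensel.IsStrictHenselization (X.presheaf.stalk x) R],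
      ConnectedSpace (FEt.puncturedSpec R : Scheme.{u})) :
    (FEt.restrict U.ι).Full ∧ (FEt.restrict U.ι).Faithful := by
  refine Groth.Agent.Lib.FEt.FullyFaithful.full_and_faithful U.ι (fun s hs hne => ?_) fun W C hC => ?_
  · obtain ⟨x, hxs, hxU⟩ := hU.inter_open_nonempty s hs.2 hne
    exact ⟨x, hxs, by rw [Scheme.Opens.range_ι]; exact hxU⟩
  · have : IsFinite W.hom := W.prop.1
    have : Etale W.hom := W.prop.2
    exact exists_isClopen W.hom U hU hcl hsh C hC

end Groth.Agent.S1145
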