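import Groth.Statements.S8509
import Groth.Agent.H83.Fppf
import Groth.Agent.Lib.EtaleSection.Sections
import Groth.Agent.Lib.Henselian.QuasiFinite

set_option autoImplicit false
open CategoryTheory MonoidalCategory CartesianMonoidalCategory MonObj GrpObj AlgebraicGeometry
universe u
open RedSub

namespace Groth.Agent.S8509

open CategoryTheory.Limits

instance smoothZariskiTarget : IsZariskiLocalAtTarget (@Smooth.{u}) :=
  HasRingHomProperty.instIsZariskiLocalAtTarget (P := @Smooth.{u}) (Q := @RingHom.Smooth)

instance smoothDescendsFppf : MorphismProperty.DescendsAlong (@Smooth.{u})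
    (@Surjective.{u} ⊓ @Flat.{u} ⊓ @LocallyOfFinitePresentation.{u}) :=
  instDescendsAlongSchemeMinMorphismPropertySurjectiveFlatLocallyOfFinitePresentationOfQuasiCompactOfIsZariskiLocalAtTarget
    (@Smooth.{u})

/-- A torsor under a smooth group scheme is smooth. -/
theorem smooth_of_isTorsor {S : Scheme.{u}} {G P : Over S} [GrpObj G] [Smooth G.hom]
    (a : AlgGrp.Action G P) (ha : RedSub.IsTorsor a) : Smooth P.hom := by
  obtain ⟨h1, h2, h3, h4⟩ := ha
  let e : G ⊗ P ≅ P ⊗ P := asIso (lift a.act (snd G P))
  have hsnd : snd P P = e.inv ≫ snd G P := by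
    rw [Iso.eq_inv_comp]; simp [e]
  have hiso : IsIso e.inv.left := ((Over.forget S).mapIso e).isIso_inv
  have hs : Smooth (pullback.snd P.hom P.hom) := by
    change Smooth (snd P P).left
    rw [hsnd]
    change Smooth (e.inv.left ≫ pullback.snd G.hom P.hom)
    infer_instance
  exact MorphismProperty.of_isPullback_of_descendsAlong (P := @Smooth.{u})
    (IsPullback.of_hasPullback P.hom P.hom).flip
    (show (@Surjective ⊓ @Flat ⊓ @LocallyOfFinitePresentation : MorphismProperty Scheme.{u}) P.hom
      from ⟨⟨h1, h2⟩, h3⟩) hs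

/-- An étale scheme over a henselian local ring with a point over the closed point contains a
finite étale surjective open subscheme. -/
theorem exists_finite_etale (A : Type u) [CommRing A] [HenselianLocalRing A]
    {T : Scheme.{u}} (g : T ⟶ Spec (CommRingCat.of A)) [Etale g] (t : T)
    (ht : g t = IsLocalRing.closedPoint A) :
    ∃ (S' : Scheme.{u}) (j : S' ⟶ T), IsFinite (j ≫ g) ∧ Etale (j ≫ g) ∧ Surjective (j ≫ g) := by
  obtain ⟨W, hW, htW, -⟩ := exists_isAffineOpen_mem_and_subset (show t ∈ (⊤ : T.Opens) from trivial)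
  let B := Γ(T, W)
  let φ : CommRingCat.of A ⟶ B := Spec.preimage (hW.fromSpec ≫ g)
  have hφ : Spec.map φ = hW.fromSpec ≫ g := Spec.map_preimage _
  algebraize [φ.hom]
  have het : Algebra.Etale A B := by
    have : Etale (Spec.map φ) := by rw [hφ]; infer_instance
    exact RingHom.etale_algebraMap.1 ((HasRingHomProperty.Spec_iff (P := @Etale)).1 this)
  let q := hW.primeIdealOf ⟨t, htW⟩
  have hq : Spec.map φ q = IsLocalRing.closedPoint A := by
    rw [hφ]
    exact (congrArg (fun y => g y) (hW.fromSpec_primeIdealOf ⟨t, htW⟩)).trans ht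
  have : q.asIdeal.LiesOver (IsLocalRing.maximalIdeal A) :=
    ⟨(congrArg PrimeSpectrum.asIdeal hq).symm⟩
  obtain ⟨e, he, heq, hfin⟩ :=
    Groth.Agent.Lib.Henselian.QuasiFinite.exists_idempotent_of_quasiFiniteAt (R := A) q.asIdeal
  let C := B ⧸ Ideal.span ({1 - e} : Set B)
  let c : B ⟶ CommRingCat.of C := CommRingCat.ofHom (Ideal.Quotient.mk _)
  have : IsLocalization.Away e C := IsLocalization.away_of_isIdempotentElem he
    Ideal.mk_ker Ideal.Quotient.mk_surjective
  have : IsOpenImmersion (Spec.map c) := IsOpenImmersion.of_isLocalization (R := B) (S := C) e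
  let j : Spec (CommRingCat.of C) ⟶ T := Spec.map c ≫ hW.fromSpec
  have hj : j ≫ g = Spec.map (φ ≫ c) := by
    rw [Spec.map_comp, hφ, Category.assoc]
  have het' : Etale (j ≫ g) := inferInstance
  refine ⟨Spec (CommRingCat.of C), j, ?_, het', ?_⟩
  · rw [hj, IsFinite.SpecMap_iff]
    exact RingHom.finite_algebraMap.2 hfin
  · constructor
    have hopen := (j ≫ g).isOpenMap.isOpen_range
    have hmem : (IsLocalRing.closedPoint A : PrimeSpectrum A) ∈ Set.range (j ≫ g) := by
      obtain ⟨y, hy⟩ : q ∈ Set.range (PrimeSpectrum.comap (algebraMap B C)) := by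
        rw [PrimeSpectrum.localization_away_comap_range C e]; exact heq
      refine ⟨y, ?_⟩
      rw [hj, Spec.map_comp]
      exact (congrArg (fun z => Spec.map φ z) hy).trans hq
    rw [← Set.range_eq_univ, Set.eq_univ_iff_forall]
    exact fun x => (IsLocalRing.specializes_closedPoint x).mem_open hopen hmem

/-- Let A be a henselian local ring, S = Spec A, and G an S-group scheme which is smooth and affine over
S. Then every torsor P under G (a representable principal homogeneous bundle) is isotrivial: there
is a finite etale surjective morphism S' ⟶ S such that P_{S'} has a section. (The published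
statement asks only that every finite set of points of G lie in an affine open; this row takes G
affine over S.) -/
theorem result (A : Type u) [CommRing A] [HenselianLocalRing A]
    {G P : Over (Spec (CommRingCat.of A))} [GrpObj G] [Smooth G.hom] [IsAffineHom G.hom] (a : AlgGrp.Action G P)
    (ha : RedSub.IsTorsor a) :
    ∃ (S' : Scheme.{u}) (f : S' ⟶ Spec (CommRingCat.of A)), IsFinite f ∧ Etale f ∧ Surjective f ∧
      RedSub.HasSection (Red.bc f P) := by
  have := smooth_of_isTorsor a ha
  obtain ⟨x, hx⟩ := ha.1.surj (IsLocalRing.closedPoint A)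
  obtain ⟨T, g, t, hg, hgt, h, hh⟩ :=
    Groth.Agent.Lib.EtaleSection.Sections.exists_etale_section P.hom x
  obtain ⟨S', j, h1, h2, h3⟩ := exists_finite_etale A g t (hgt.trans hx)
  refine ⟨S', j ≫ g, h1, h2, h3, ⟨Over.homMk (pullback.lift (j ≫ h) (𝟙 S') ?_) ?_⟩⟩
  · rw [Category.assoc, hh]; exact (Category.id_comp _).symm
  · exact pullback.lift_snd _ _ _

end Groth.Agent.S8509
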