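import Groth.Statements.S12540

import Groth.Agent.Lib.Homog.Tower
import Groth.Agent.S0593

set_option autoImplicit false
universe u
open CategoryTheory MonoidalCategory CartesianMonoidalCategory MonObj GrpObj AlgebraicGeometry
open AlgGrp

open Groth.Agent.Lib

namespace Groth.Agent.S12540

/-- Over an algebraically closed field k, let G be an algebraic group (a smooth k-group scheme of finite
type), h : H → G a closed subgroup scheme, and h' : H' → H a closed subgroup scheme of H which is
reduced with the same underlying space as H (the reduced subgroup scheme H_red; it is a subgroup of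
G through h' ≫ h). Let X, with its G-action and base point, be the quotient G/H, and X' the quotient
G/H' (each locally of finite type over k, with flat surjective orbit map identifying G × H with G
×_X G, respectively G × H' with G ×_{X'} G). Then X is affine if and only if X' is affine. (The
published statement adds the same equivalence with the identity component of H_red; that clause is
not stated here.) -/
theorem result (k : Type u) [Field k] [IsAlgClosed k]
    (G : Over (Spec (CommRingCat.of k))) [GrpObj G] [Smooth G.hom] [QuasiCompact G.hom]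
    (H : Over (Spec (CommRingCat.of k))) [GrpObj H] (h : H ⟶ G) [IsMonHom h] [IsClosedImmersion h.left]
    (H' : Over (Spec (CommRingCat.of k))) [GrpObj H'] (h' : H' ⟶ H) [IsMonHom h'] [IsClosedImmersion h'.left]
    [Surjective h'.left] [IsReduced H'.left]
    (X : Over (Spec (CommRingCat.of k))) (a : AlgGrp.Action G X) (o : 𝟙_ (Over (Spec (CommRingCat.of k))) ⟶ X)
    (hX : AGF.IsQuotient h X a o)
    (X' : Over (Spec (CommRingCat.of k))) (a' : AlgGrp.Action G X') (o' : 𝟙_ (Over (Spec (CommRingCat.of k))) ⟶ X')
    (hX' : AGF.IsQuotient (h' ≫ h) X' a' o') :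
    IsAffine X.left ↔ IsAffine X'.left := by
  haveI := hX.1
  haveI := hX'.1
  haveI : LocallyOfFiniteType H.hom := by rw [← Over.w h]; infer_instance
  haveI : QuasiCompact H.hom := by rw [← Over.w h]; infer_instance
  haveI : LocallyOfFiniteType H'.hom := by rw [← Over.w h']; infer_instance
  haveI : QuasiCompact H'.hom := by rw [← Over.w h']; infer_instance
  have hiX := Homog.comp_orbit_of_quotient hX.2.2.2
  have hiX' := Homog.comp_orbit_of_quotient hX'.2.2.2
  obtain ⟨q, ⟨heq, hq⟩, -⟩ := Homog.existsUnique_equivariant hX' a o (by
    rw [Category.assoc, hiX, ← Category.assoc, toUnit_unique (h' ≫ toUnit H) (toUnit H')])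
  have hc := Homog.isCover_of_isQuotient hX
  have hc' := Homog.isCover_of_isQuotient hX'
  haveI : LocallyOfFiniteType (q.left ≫ X.hom) := by rw [Over.w]; infer_instance
  haveI : LocallyOfFiniteType q.left := locallyOfFiniteType_of_comp q.left X.hom
  haveI := hX.2.2.1
  haveI := hc'.2.2
  haveI := hc.2.2
  haveI : Surjective q.left := by
    have : Surjective ((a'.orbitMap o').left ≫ q.left) := by rw [← Over.comp_left, hq]; infer_instance
    exact Surjective.of_comp (a'.orbitMap o').left q.left
  -- the fibre over the base point
  let Y : Over (Spec (CommRingCat.of k)) := Over.mk (Limits.pullback.snd q.left o.left)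
  let ψ : Y ⟶ X' := Over.homMk (Limits.pullback.fst q.left o.left) (by
    show _ ≫ X'.hom = Limits.pullback.snd q.left o.left
    rw [← Over.w q, ← Category.assoc, Limits.pullback.condition, Category.assoc, Over.w]
    exact Category.comp_id _)
  have hψ : IsPullback ψ (toUnit Y) q o := by
    refine IsPullback.of_map (Over.forget _) ?_ ?_
    · exact Over.OverMorphism.ext Limits.pullback.condition
    · exact IsPullback.of_hasPullback q.left o.left
  -- it has only one point
  haveI : Subsingleton Y.left := by
    have hpt : ∀ y : Y.left, ψ.left y = o'.left (IsLocalRing.closedPoint k) := by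
      intro y
      obtain ⟨g, hg⟩ := hX'.2.2.1.surj (ψ.left y)
      obtain ⟨w, hw⟩ : ∃ w : H.left, h.left w = g := by
        have h1 : (a.orbitMap o).left g = o.left ((toUnit Y).left y) := by
          rw [← hq, Over.comp_left, Scheme.Hom.comp_apply, hg, ← Scheme.Hom.comp_apply, ← Over.comp_left,
            hψ.w, Over.comp_left, Scheme.Hom.comp_apply]
        have h2 : (a.orbitMap o).left g = (a.orbitMap o).left (η[G].left (IsLocalRing.closedPoint k)) := by
          rw [h1, ← Scheme.Hom.comp_apply (η[G].left), ← Over.comp_left, GrpSch.η_orbit]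
          congr 1
          exact Subsingleton.elim (α := Spec (CommRingCat.of k)) _ _
        obtain ⟨v, hv1, hv2⟩ := Scheme.exists_preimage_of_isPullback (hX.2.2.2.map (Over.forget _))
          (η[G].left (IsLocalRing.closedPoint k)) g h2.symm
        refine ⟨(snd G H).left v, ?_⟩
        change (fst G H).left v = _ at hv1
        have h5 : (G ◁ h) ≫ μ[G] = (fst G H) * (snd G H ≫ h) := by
          rw [Hom.mul_def]; congr 1
        have h6 := hv2
        change ((G ◁ h) ≫ μ[G]).left v = g at h6
        rw [h5] at h6
        obtain ⟨j, hj, hjf⟩ : ∃ j : H ⟶ G ⊗ H, j = lift 1 (𝟙 H) ∧ v ∈ Set.range j.left := by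
          refine ⟨_, rfl, ?_⟩
          obtain ⟨z, hz, -⟩ := Scheme.exists_preimage_of_isPullback
            ((GrpSch.isPullback_whiskerRight η[G] H)) v (IsLocalRing.closedPoint k) hv1
          refine ⟨(λ_ H).hom.left z, ?_⟩
          rw [← Scheme.Hom.comp_apply, ← Over.comp_left, show (λ_ H).hom ≫ lift (1 : H ⟶ G) (𝟙 H) = η[G] ▷ H by
            apply CartesianMonoidalCategory.hom_ext
            · simp [Hom.one_def]
              exact congrArg (· ≫ η[G]) (toUnit_unique _ _)
            · simp
              exact leftUnitor_hom H]
          exact hz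
        obtain ⟨w, rfl⟩ := hjf
        rw [← Scheme.Hom.comp_apply, ← Over.comp_left, ← h6, ← Scheme.Hom.comp_apply, ← Scheme.Hom.comp_apply,
          ← Over.comp_left, ← Over.comp_left, hj, MonObj.comp_mul, lift_fst, lift_snd_assoc, _root_.one_mul]
      obtain ⟨w', rfl⟩ := h'.left.surjective w
      rw [← hg, ← hw, ← Scheme.Hom.comp_apply, ← Scheme.Hom.comp_apply, ← Over.comp_left, ← Over.comp_left,
        ← Category.assoc, hiX', Over.comp_left, Scheme.Hom.comp_apply]
      congr 1
      exact Subsingleton.elim (α := Spec (CommRingCat.of k)) _ _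
    refine ⟨fun y y' => ?_⟩
    haveI : IsImmersion (o.left ≫ X.hom) := by rw [Over.w]; exact inferInstanceAs (IsImmersion (𝟙 _))
    haveI : IsImmersion o.left := IsImmersion.of_comp o.left X.hom
    haveI : IsImmersion ψ.left := inferInstanceAs (IsImmersion (Limits.pullback.fst q.left o.left))
    exact ψ.left.isEmbedding.injective ((hpt y).trans (hpt y').symm)
  haveI : LocallyOfFiniteType Y.hom := inferInstanceAs (LocallyOfFiniteType (Limits.pullback.snd q.left o.left))
  haveI : CompactSpace Y.left := ⟨Set.subsingleton_univ.finite.isCompact⟩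
  haveI : QuasiCompact Y.hom := (HasAffineProperty.iff_of_isAffine (P := @QuasiCompact)).mpr inferInstance
  haveI : LocallyQuasiFinite Y.hom :=
    LocallyQuasiFinite.of_finite_preimage_singleton _ fun _ => Set.toFinite _
  have hY : IsFinite Y.hom := IsFinite.of_locallyQuasiFinite _
  haveI : IsFinite q.left :=
    MorphismProperty.of_isPullback_of_descendsAlong (P := @IsFinite) (Q := @Surjective ⊓ @Flat ⊓ @QuasiCompact)
      ((Homog.isPullback_spread heq hψ).map (Over.forget _)) ⟨⟨hc.2.1, hc.1⟩, hc.2.2⟩
      (GrpSch.fst_left_of (P := @IsFinite) G hY)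
  constructor
  · intro hA
    exact isAffine_of_isAffineHom q.left
  · intro hA
    exact S0593.result X'.left X.left q.left

end Groth.Agent.S12540
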