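import Groth.Statements.S17633
import Groth.Agent.Lib.MultiBound96.ZTwist
-- import your own Groth.Agent.* helpers here

set_option autoImplicit false
set_option linter.style.haveILetI false
universe u
open CategoryTheory CategoryTheory.Limits AlgebraicGeometry
open Variety

namespace Groth.Agent.S17633

open Filter Groth.Agent.Lib.PosLin.Asymp

/-- An error `O(D m (S m + 1)^{n-1})` changes the upper limit by at most `O(D S^{n-1})`. -/
theorem limsup_le_add {n g D S B : ℕ} {u v : ℕ → ℕ} (hn : n = 0 → g = 0)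
    (hv : ∀ m, v m ≤ B * (m + 1) ^ n) (h : ∀ m, u m ≤ v m + g * (D * m) * (S * m + 1) ^ (n - 1)) :
    limsup (nrm n u) atTop ≤ limsup (nrm n v) atTop + (g : ℝ) * n.factorial * D * (S : ℝ) ^ (n - 1) := by
  refine le_of_forall_pos_le_add fun ε hε => ?_
  set c : ℝ := (g : ℝ) * n.factorial * D * (S : ℝ) ^ (n - 1)
  have hlim : Tendsto (fun m : ℕ => (g : ℝ) * n.factorial * D * ((S : ℝ) + 1 / (m : ℝ)) ^ (n - 1)) atTop
      (nhds c) := by
    have h1 := ((tendsto_one_div_atTop_nhds_zero_nat (𝕜 := ℝ)).const_add (S : ℝ)).pow (n - 1)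
    rw [add_zero] at h1
    exact h1.const_mul _
  have hle : ∀ᶠ m in atTop, nrm n u m ≤ nrm n v m + (c + ε) := by
    filter_upwards [hlim.eventually_le_const (lt_add_of_pos_right c hε), eventually_ge_atTop 1] with m h2 hm
    refine le_trans ?_ (add_le_add le_rfl h2)
    have hm' : (0 : ℝ) < m := Nat.cast_pos.2 hm
    have hu : (u m : ℝ) ≤ v m + (g : ℝ) * (D * m) * ((S : ℝ) * m + 1) ^ (n - 1) := by exact_mod_cast h m
    unfold nrm
    rw [div_le_iff₀ (pow_pos hm' n), add_mul, div_mul_cancel₀ _ (pow_pos hm' n).ne']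
    refine (mul_le_mul_of_nonneg_right hu (Nat.cast_nonneg _)).trans (le_of_eq ?_)
    rw [add_mul]
    congr 1
    rcases n with _ | d
    · simp [hn rfl]
    · simp only [Nat.add_sub_cancel]
      rw [show (S : ℝ) * m + 1 = ((S : ℝ) + 1 / m) * m by field_simp, mul_pow, pow_succ]
      ring
  calc limsup (nrm n u) atTop ≤ limsup (fun m => nrm n v m + (c + ε)) atTop := by
        refine limsup_le_limsup hle (cobounded_nrm n u) ?_
        obtain ⟨b, hb⟩ := bounded_nrm hv
        exact isBoundedUnder_of_eventually_le (a := b + (c + ε))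
          ((eventually_map.1 hb).mono fun m hm => add_le_add hm le_rfl)
    _ = _ := by rw [limsup_add_const atTop (nrm n v) _ (bounded_nrm hv) (cobounded_nrm n v), add_assoc]


/-- Let X be an integral scheme, proper over an uncountable algebraically closed field k of
characteristic zero and admitting an ample invertible module, of dimension n (the published
statement is over the complex numbers), and let L_1, …, L_r be invertible O_X-modules with inverses
M_1, …, M_r. For a ∈ ℤ^r write L^a = ⊗_j L_j^{a_j} (negative powers taken through the M_j) and ‖a‖ =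
max_j |a_j|. Then for every i (the published statement takes 0 ≤ i ≤ n; for i > n both sides vanish)
there is a constant C such that for all a, b ∈ ℤ^r, |ĥ^i(X, L^a) − ĥ^i(X, L^b)| ≤ C · Σ_{q=1}^{n}
max(‖a‖, ‖b‖)^{n−q} · ‖a − b‖^q, where ĥ^i(X, L) = limsup_m dim_k H^i(X, L^{⊗m}) · n!/m^n. (The
published statement gives this Lipschitz-type estimate for ĥ^i as a function on the rational
Néron–Severi space with any fixed norm, together with its homogeneity of degree n; restricted to the
classes spanned by L_1, …, L_r with the maximum norm on coordinates it reads as here.) -/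
theorem result (k : Type u) [Field k] [IsAlgClosed k] [CharZero k] [Uncountable k] (X : Scheme.{u})
    [X.Over (Spec (CommRingCat.of k))] [AlgebraicGeometry.IsIntegral X]
    [IsProper (X ↘ Spec (CommRingCat.of k))] (hproj : ∃ A : X.Modules, CohB1.IsAmple A)
    (n : ℕ) (hn : topologicalKrullDim X = n)
    (r : ℕ) (L M : Fin r → X.Modules) (hL : ∀ j, PicF.IsInvertible (L j))
    (hM : ∀ j, ClSub.IsInverseOf (L j) (M j)) (i : ℕ) :
    ∃ C : ℝ, ∀ a b : Fin r → ℤ,
      |W4c5asymptcohfn.hhat k X n i (W4c5asymptcohfn.ztwist X L M a) -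
          W4c5asymptcohfn.hhat k X n i (W4c5asymptcohfn.ztwist X L M b)| ≤
        C * (Finset.Icc 1 n).sum (fun q =>
          (max ‖(fun j => ((a j : ℤ) : ℝ))‖ ‖(fun j => ((b j : ℤ) : ℝ))‖) ^ (n - q) *
            ‖(fun j => ((a j - b j : ℤ) : ℝ))‖ ^ q) := by
  obtain ⟨A, hA⟩ := hproj
  haveI := Lib.Curves.GlobalSections.isNoetherian_of_proper k X
  have hLM := Lib.MultiBound96.isInvertible_append hL hM
  obtain ⟨g, hg0, hg⟩ := Lib.MultiBound96.exists_lip (k := k) hn hA hLM i
  obtain ⟨K, -, hK⟩ := Lib.MultiBound96.exists_bound (k := k) hA hLM (n + 1) (Coh.structureModule X)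
    (Lib.Snapper.Twist.isCoh_structureModule X)
    (fun x _ => Nat.lt_succ_of_le (pdim_le_dim (k := k) hn x)) i
  set u : (Fin r → ℤ) → ℕ → ℕ := fun a m =>
    Lib.PosLin.CohBound.hd k X (CohB1.tensorPow (W4c5asymptcohfn.ztwist X L M a) m) i with hu
  have hbd : ∀ a, ∀ m, u a m ≤ K * (Lib.MultiBound96.absSum a + 1) ^ n * (m + 1) ^ n := fun a m => by
    have h := (Lib.PosLin.CohBound.hd_congr (k := k) (Lib.TensorMod.Basic.rightUnit _).symm i).le.trans
      (hK (Lib.MultiBound96.dbl a m))
    rw [Lib.MultiBound96.sum_dbl, Nat.add_sub_cancel] at h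
    simp only [hu]
    rw [Lib.MultiBound96.hd_ztwist_pow, mul_assoc, ← mul_pow]
    refine h.trans (Nat.mul_le_mul_left _ (Nat.pow_le_pow_left ?_ _))
    exact Nat.succ_le_of_lt (by nlinarith)
  refine ⟨(g : ℝ) * n.factorial * ((r : ℝ) ^ n * 2 ^ n), fun a b => ?_⟩
  have key : ∀ a b : Fin r → ℤ, W4c5asymptcohfn.hhat k X n i (W4c5asymptcohfn.ztwist X L M a) ≤
      W4c5asymptcohfn.hhat k X n i (W4c5asymptcohfn.ztwist X L M b) +
        (g : ℝ) * n.factorial * Lib.MultiBound96.absSum (a - b) *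
          ((Lib.MultiBound96.absSum a + Lib.MultiBound96.absSum b : ℕ) : ℝ) ^ (n - 1) := by
    intro a b
    rw [hhat_eq, hhat_eq]
    refine limsup_le_add hg0 (hbd b) fun m => ?_
    have h := hg (Lib.MultiBound96.dbl a m) (Lib.MultiBound96.dbl b m)
    rw [Lib.MultiBound96.sum_dbl_dist, Lib.MultiBound96.sum_dbl, Lib.MultiBound96.sum_dbl,
      ← Lib.MultiBound96.hd_ztwist_pow, ← Lib.MultiBound96.hd_ztwist_pow, ← Nat.add_mul] at h
    exact h
  rcases Nat.eq_zero_or_pos n with hn0 | hn0
  · have hg' := hg0 hn0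
    have h1 := key a b
    have h2 := key b a
    simp only [hg', Nat.cast_zero, zero_mul, add_zero] at h1 h2 ⊢
    rw [le_antisymm h1 h2]; simp
  set na := ‖(fun j => ((a j : ℤ) : ℝ))‖
  set nb := ‖(fun j => ((b j : ℤ) : ℝ))‖
  set nd := ‖(fun j => ((a j - b j : ℤ) : ℝ))‖
  set Q := ∑ q ∈ Finset.Icc 1 n, max na nb ^ (n - q) * nd ^ q
  have hQ : max na nb ^ (n - 1) * nd ≤ Q := by
    refine le_trans (le_of_eq (by rw [pow_one])) (Finset.single_le_sum
      (f := fun q => max na nb ^ (n - q) * nd ^ q) (fun q _ => ?_) (Finset.mem_Icc.2 ⟨le_rfl, hn0⟩))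
    have : 0 ≤ max na nb := le_max_of_le_left (norm_nonneg _)
    positivity
  have hS : ∀ a' b' : Fin r → ℤ, (a' = a ∧ b' = b) ∨ (a' = b ∧ b' = a) →
      (g : ℝ) * n.factorial * Lib.MultiBound96.absSum (a' - b') *
        ((Lib.MultiBound96.absSum a' + Lib.MultiBound96.absSum b' : ℕ) : ℝ) ^ (n - 1) ≤
      (g : ℝ) * n.factorial * ((r : ℝ) ^ n * 2 ^ n) * Q := by
    intro a' b' hab
    have h1 : (Lib.MultiBound96.absSum (a' - b') : ℝ) ≤ r * nd := by
      refine (Lib.MultiBound96.absSum_le _).trans (le_of_eq ?_)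
      congr 1
      rcases hab with ⟨rfl, rfl⟩ | ⟨rfl, rfl⟩
      · simp only [nd, Pi.sub_apply]
      · simp only [nd, Pi.sub_apply]
        rw [← norm_neg]
        congr 1
        funext j
        push_cast [Pi.neg_apply]
        ring
    have h2 : ((Lib.MultiBound96.absSum a' + Lib.MultiBound96.absSum b' : ℕ) : ℝ) ≤ 2 * r * max na nb := by
      have ha := (Lib.MultiBound96.absSum_le a).trans
        (mul_le_mul_of_nonneg_left (le_max_left na nb) (Nat.cast_nonneg r))
      have hb := (Lib.MultiBound96.absSum_le b).trans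
        (mul_le_mul_of_nonneg_left (le_max_right na nb) (Nat.cast_nonneg r))
      rcases hab with ⟨rfl, rfl⟩ | ⟨rfl, rfl⟩ <;> push_cast <;> linarith
    have hm : 0 ≤ max na nb := le_max_of_le_left (norm_nonneg _)
    have hd : 0 ≤ nd := norm_nonneg _
    calc (g : ℝ) * n.factorial * Lib.MultiBound96.absSum (a' - b') *
          ((Lib.MultiBound96.absSum a' + Lib.MultiBound96.absSum b' : ℕ) : ℝ) ^ (n - 1)
        ≤ (g : ℝ) * n.factorial * (r * nd) * (2 * r * max na nb) ^ (n - 1) := by gcongr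
      _ = (g : ℝ) * n.factorial * ((r : ℝ) ^ n * 2 ^ (n - 1)) * (max na nb ^ (n - 1) * nd) := by
          have : (r : ℝ) ^ n = r ^ (n - 1) * r := by rw [← pow_succ, Nat.sub_add_cancel hn0]
          rw [mul_pow, mul_pow, this]; ring
      _ ≤ (g : ℝ) * n.factorial * ((r : ℝ) ^ n * 2 ^ n) * Q := by
          gcongr
          · norm_num
          · omega
  rw [abs_le]
  have h1 := (key a b).trans (add_le_add le_rfl (hS a b (Or.inl ⟨rfl, rfl⟩)))
  have h2 := (key b a).trans (add_le_add le_rfl (hS b a (Or.inr ⟨rfl, rfl⟩)))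
  constructor <;> linarith


end Groth.Agent.S17633
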