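import Groth.Statements.S0004
import Groth.Agent.H78.Proper.Existence

set_option autoImplicit false
universe u
open Formal

namespace Groth.Agent.S0004

open CategoryTheory AlgebraicGeometry Opposite in
/-- Grothendieck's existence Theorem for proper schemes: let A be a Noetherian ring complete with
respect to an ideal I, and X a scheme proper over Spec A. Then (a) for coherent O_X-modules M, N,
every morphism between the inverse systems (M/IⁿM) and (N/IⁿN) is induced by exactly one morphism M
⟶ N, and (b) every coherent formal module (an inverse system (G_n)_{n≥1} of coherent modules with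
G_n killed by Iⁿ and G_{n+1}/IⁿG_{n+1} = G_n; in the Lean encoding the index is shifted by one,
position n holding level n+1) is isomorphic to the system (M/IⁿM) of some coherent M. Together: the
I-adic completion functor is an equivalence from coherent O_X-modules onto coherent formal modules.
(The variant for X separated and of finite type over A with proper supports is a different statement
and is not asserted here.) -/
theorem result (A : Type u) [CommRing A] [IsNoetherianRing A] (I : Ideal A)
    [IsAdicComplete I A] (X : Scheme.{u}) [X.Over (Spec (CommRingCat.of A))]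
    [IsProper (X ↘ Spec (CommRingCat.of A))] :
    (∀ (M N : X.Modules), Coh.IsCoh M → Coh.IsCoh N →
      ∀ ψ : Formal.completion I M ⟶ Formal.completion I N, ∃! φ : M ⟶ N,
        ∀ n : ℕ, Formal.modPowπ I (n + 1) M ≫ ψ.app (op n) = φ ≫ Formal.modPowπ I (n + 1) N) ∧
    (∀ G : ℕᵒᵖ ⥤ X.Modules, Formal.IsCohFormal I G →
      ∃ M : X.Modules, Coh.IsCoh M ∧ Nonempty (Formal.completion I M ≅ G)) := by
  haveI := Groth.Agent.H78.Existence.AmpleVanish.isNoetherian_of_proper A (X := X)
  have hprop : ClSub.IsProperOver (X ↘ Spec (CommRingCat.of A)) (Set.univ : Set X) :=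
    ⟨isClosed_univ, inferInstance⟩
  exact ⟨fun M N hM hN ψ =>
    Groth.Agent.H78.Faithful.Completion.existsUnique_of_good I
      (Groth.Agent.H78.FormalFun.ProperSupport.good Groth.Agent.Lib.Snapper.Finite.facts hprop) hM hN
      ⟨Groth.Agent.Lib.RefHull.HomSh.isCoh_homSh hM hN, Set.subset_univ _⟩ ψ,
    fun G hG => Groth.Agent.H78.Proper.Existence.algebraizable G hG⟩

end Groth.Agent.S0004
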