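import Groth.Statements.S0005
import Groth.Agent.S0250
import Groth.Agent.S0247
import Groth.Agent.Lib.Purity.Restrict

set_option autoImplicit false
universe u
open FEt

namespace Groth.Agent.S0005

open CategoryTheory AlgebraicGeometry in
/-- Purity for finite étale covers, global form: let X be a Noetherian scheme all of whose local rings
are regular and U ⊆ X an open subscheme such that every point of X outside U has local ring of Krull
dimension at least 2. Then restriction of finite étale covers from X to U is an equivalence of
categories. -/
theorem result (X : Scheme.{u}) [IsNoetherian X]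
    (hreg : ∀ x : X, IsRegularLocalRing (X.presheaf.stalk x)) (U : X.Opens)
    (hU : ∀ x : X, x ∉ U → (2 : WithBot ℕ∞) ≤ ringKrullDim (X.presheaf.stalk x)) :
    (FEt.restrict U.ι).IsEquivalence := by
  have hn : ∀ x : X, IsDomain (X.presheaf.stalk x) ∧ IsIntegrallyClosed (X.presheaf.stalk x) :=
    fun x => by
      have := hreg x
      have := Groth.Agent.Lib.Regular.Quotient.isDomain (X.presheaf.stalk x)
      have := Groth.Agent.Lib.Regular.UFD.uniqueFactorizationMonoid (X.presheaf.stalk x)
      exact ⟨inferInstance, Groth.Agent.Lib.Regular.UFD.isIntegrallyClosed (X.presheaf.stalk x)⟩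
  have hess : (FEt.restrict U.ι).EssSurj := Groth.Agent.S0250.result U fun x hx => by
    have := hreg x
    exact Groth.Agent.S0247.result (X.presheaf.stalk x) (hU x hx)
  have : ∀ x : X, IsDomain (X.presheaf.stalk x) := fun x => (hn x).1
  obtain ⟨hfull, hfaith⟩ := Groth.Agent.Lib.Purity.Restrict.full_and_faithful hn U fun x hx => by
    by_contra hxU
    have h2 := hU x hxU
    rw [ringKrullDim_eq_zero_of_isField (IsLocalRing.isField_iff_maximalIdeal_eq.mpr ?_)] at h2
    · exact absurd h2 (by decide)
    · have h := hx _ (Groth.Agent.Lib.Purity.Restrict.top_specializes x)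
      rw [Groth.Agent.Lib.Purity.Restrict.top] at h
      have hcl : (X.fromSpecStalk x).base (IsLocalRing.closedPoint (X.presheaf.stalk x)) = x :=
        Scheme.fromSpecStalk_closedPoint
      exact (congrArg PrimeSpectrum.asIdeal ((X.fromSpecStalk x).isEmbedding.injective (h.trans hcl.symm))).symm
  exact { }

end Groth.Agent.S0005
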