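import Groth.Statements.S0008
import Groth.Agent.Lib.Cech.Module
import Mathlib.AlgebraicGeometry.Morphisms.QuasiSeparated
import Mathlib.AlgebraicGeometry.Modules.Tilde
-- import your own Groth.Agent.* helpers here

set_option autoImplicit false
universe u
open Coherent

namespace Groth.Agent.S0008

open AlgebraicGeometry in
/-- For a ring A, an A-module M and elements f_1, …, f_n generating the unit ideal, the Čech cohomology
of the associated module on Spec A with respect to the covering by the basic opens D(f_i) vanishes
in every positive degree. -/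
theorem result (A : Type u) [CommRing A] (M : ModuleCat.{u} A)
    (n : ℕ) (f : ULift.{u} (Fin n) → A) (hf : Ideal.span (Set.range f) = ⊤) (p : ℕ) (hp : 0 < p) :
    CategoryTheory.Limits.IsZero (CohB1.cechH (fun i => PrimeSpectrum.basicOpen (f i)) (tilde (R := CommRingCat.of A) M) p) := by
  obtain ⟨q, rfl⟩ := Nat.exists_eq_succ_of_ne_zero hp.ne'
  refine (Groth.Agent.Lib.Cech.Complex.isZero_homology_succ_iff
    (X := (Spec (CommRingCat.of A)).toPresheafedSpace.carrier) _ _ q).mpr ?_
  let e := (Scheme.ΓSpecIso (CommRingCat.of A)).inv
  refine Groth.Agent.Lib.Cech.Module.exactSucc_basicOpens (X := Spec (CommRingCat.of A))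
    (tilde (R := CommRingCat.of A) M) (V := ⊤) (fun k => e (f k)) ?_ _
    (fun k => (AlgebraicGeometry.basicOpen_eq_of_affine (R := CommRingCat.of A) (f k)).symm)
    (fun i => Groth.Agent.Lib.Cech.Module.isCompact_inter (X := Spec (CommRingCat.of A)) _
      (fun k => ?_) i)
    (fun i => IsQuasiSeparated.of_quasiSeparatedSpace _) q
  · rw [Set.range_comp' e f, ← Ideal.map_span, hf, Ideal.map_top]
  · exact PrimeSpectrum.isCompact_basicOpen (f k)

end Groth.Agent.S0008
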