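import Groth.Statements.S0015


set_option autoImplicit false
universe u
open Coherent

namespace Groth.Agent.S0015

open AlgebraicGeometry in
theorem induction {X : Scheme.{u}} [QuasiSeparatedSpace X] (P : X.Opens → Prop)
    (h₁ : ∀ U : X.Opens, IsAffineOpen U → P U)
    (h₂ : ∀ U V : X.Opens, IsCompact (U : Set X) → IsAffineOpen V → P U → P V → P (U ⊓ V) →
      P (U ⊔ V)) (S : X.Opens) (hS : IsCompact (S : Set X)) : P S := by
  have hsep : ∀ (S : X.Opens), IsCompact (S : Set X) →
      (∀ (W : X.Opens), (∃ V : X.Opens, IsAffineOpen V ∧ W ≤ V) → IsCompact (W : Set X) → P W) → P S := by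
    intro S hS hw
    refine compact_open_induction_on (P := P) S hS (h₁ ⊥ (isAffineOpen_bot X)) fun S hS V hP => ?_
    exact h₂ S V.1 hS V.2 hP (h₁ _ V.2) (hw _ ⟨V.1, V.2, inf_le_right⟩
        (QuasiSeparatedSpace.inter_isCompact _ _ S.2 hS V.1.2 V.2.isCompact))
  refine hsep S hS fun W ⟨V, hV, hWV⟩ hW => ?_
  obtain ⟨s, hs, hcov⟩ := (isCompact_and_isOpen_iff_finite_and_eq_biUnion_affineOpens
    (U := (W : Set X))).mp ⟨hW, W.2⟩
  haveI := hs.to_subtype
  suffices h : ∀ (t : Finset {b : Γ(X, V) // X.basicOpen b ≤ W}),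
      P (⨆ b ∈ t, X.basicOpen b.1) by
    obtain ⟨t, ht⟩ := hW.elim_finite_subcover
      (fun b : {b : Γ(X, V) // X.basicOpen b ≤ W} => (X.basicOpen b.1 : Set X))
      (fun b => (X.basicOpen b.1).2) (fun x hx => by
        obtain ⟨b, hb, hxb⟩ := hV.exists_basicOpen_le (⟨x, hx⟩ : W) (hWV hx)
        exact Set.mem_iUnion.2 ⟨⟨b, hb⟩, hxb⟩)
    have e : W = ⨆ b ∈ t, X.basicOpen b.1 := le_antisymm (fun x hx => by
      obtain ⟨b, hbt, hxb⟩ := Set.mem_iUnion₂.1 (ht hx)
      exact TopologicalSpace.Opens.mem_iSup.2 ⟨b, TopologicalSpace.Opens.mem_iSup.2 ⟨hbt, hxb⟩⟩)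
      (iSup₂_le fun b _ => b.2)
    exact e ▸ h t
  intro t
  suffices h : ∀ (f : Γ(X, V)), P (⨆ b ∈ t, X.basicOpen (f * b.1)) by
    simpa using h 1
  induction t using Finset.cons_induction with
  | empty => intro f; simpa using h₁ ⊥ (isAffineOpen_bot X)
  | cons a t ha ih =>
    intro f
    classical
    rw [Finset.cons_eq_insert, Finset.iSup_insert]
    rw [sup_comm]
    refine h₂ _ _ ?_ (hV.basicOpen _) (ih f) (h₁ _ (hV.basicOpen _)) ?_
    · simp only [TopologicalSpace.Opens.coe_iSup]
      exact t.isCompact_biUnion fun b _ => (hV.basicOpen _).isCompact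
    · have := ih (f * a.1 * f)
      convert this using 1
      rw [iSup_inf_eq]
      refine iSup_congr fun b => ?_
      rw [iSup_inf_eq]
      refine iSup_congr fun _ => ?_
      rw [← Scheme.basicOpen_mul]
      congr 1
      ring


open AlgebraicGeometry in
/-- Let X be quasi-compact and quasi-separated and P a property of opens of X. If P holds for affine
opens, and P(U ∪ V) follows from P(U), P(V), P(U ∩ V) whenever U is quasi-compact open and V affine
open, then P holds for every quasi-compact open, in particular for X. -/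
theorem result (X : Scheme.{u}) [CompactSpace X] [QuasiSeparatedSpace X]
    (P : X.Opens → Prop) (h₁ : ∀ U : X.Opens, IsAffineOpen U → P U)
    (h₂ : ∀ U V : X.Opens, IsCompact (U : Set X) → IsAffineOpen V → P U → P V → P (U ⊓ V) →
      P (U ⊔ V))
    (U : X.Opens) (hU : IsCompact (U : Set X)) : P U := by
  exact Groth.Agent.S0015.induction P h₁ h₂ U hU

end Groth.Agent.S0015
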