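import Groth.Statements.S0019
import Groth.Agent.Lib.CohBasics.Closure
import Groth.Agent.Lib.QCoh.Pushforward
import Mathlib.AlgebraicGeometry.Morphisms.Finite

set_option autoImplicit false
universe u
open Coherent

namespace Groth.Agent.S0019

open AlgebraicGeometry in
/-- If f : X → Y is a finite morphism of schemes with Y locally Noetherian and F is a coherent
O_X-module, then the direct image f_*F is a coherent O_Y-module. -/
theorem result {X Y : Scheme.{u}} (f : X ⟶ Y) [IsFinite f] [IsLocallyNoetherian Y]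
    (M : X.Modules) (hM : Coh.IsCoh M) : Coh.IsCoh ((Coh.push f).obj M) := by
  haveI := hM.1
  haveI : ((Coh.push f).obj M).IsQuasicoherent :=
    Groth.Agent.Lib.QCoh.Pushforward.isQCoh_pushforward f
  refine Groth.Agent.Lib.CohBasics.Closure.isCoh_of_finite_sections fun V hV => ?_
  haveI hA : Module.Finite Γ(X, f ⁻¹ᵁ V) Γ(M, f ⁻¹ᵁ V) :=
    Groth.Agent.Lib.CohBasics.Closure.finite_sections hM (hV.preimage f)
  letI : Algebra Γ(Y, V) Γ(X, f ⁻¹ᵁ V) := (f.app V).hom.toAlgebra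
  haveI : Module.Finite Γ(Y, V) Γ(X, f ⁻¹ᵁ V) := f.finite_app V hV
  letI : Module Γ(Y, V) Γ(M, f ⁻¹ᵁ V) := Module.compHom Γ(M, f ⁻¹ᵁ V) (f.app V).hom
  haveI : IsScalarTower Γ(Y, V) Γ(X, f ⁻¹ᵁ V) Γ(M, f ⁻¹ᵁ V) :=
    IsScalarTower.of_algebraMap_smul fun _ _ => rfl
  exact Module.Finite.trans (R := Γ(Y, V)) Γ(X, f ⁻¹ᵁ V) Γ(M, f ⁻¹ᵁ V)

end Groth.Agent.S0019
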