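import Groth.Statements.S0026
import Groth.Agent.Lib.CohDelta.Filtration

set_option autoImplicit false
universe u
open Coherent

namespace Groth.Agent.S0026

open AlgebraicGeometry CategoryTheory CategoryTheory.Limits in
/-- A filtration with quotients the direct images of ideals of integral closed subschemes. -/
def Filt {X : Scheme.{u}} (M : X.Modules) : Prop :=
    ∃ (m : ℕ) (F : ℕ → X.Modules) (φ : (j : ℕ) → (F j ⟶ F (j + 1))),
      IsZero (F 0) ∧ Nonempty (F m ≅ M) ∧ (∀ j ≤ m, Coh.IsCoh (F j)) ∧ ∀ j < m, Mono (φ j) ∧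
        ∃ (Z : Scheme.{u}) (i : Z ⟶ X), IsClosedImmersion i ∧ IsIntegral Z ∧
          ∃ (I : Z.Modules) (ι : I ⟶ Coh.structureModule Z), Mono ι ∧ Coh.IsQCoh I ∧ ¬ IsZero I ∧
            Nonempty (cokernel (φ j) ≅ (Coh.push i).obj I)

open AlgebraicGeometry CategoryTheory CategoryTheory.Limits in
/-- A filtration extends by one step. -/
theorem Filt.step {X : Scheme.{u}} {A B : X.Modules} (hA : Filt A) (hB : Coh.IsCoh B) (f : A ⟶ B)
    [Mono f] (Z : Scheme.{u}) (i : Z ⟶ X) (hi : IsClosedImmersion i) (hZ : IsIntegral Z)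
    (I : Z.Modules) (ι : I ⟶ Coh.structureModule Z) (hι : Mono ι) (hI : Coh.IsQCoh I)
    (hne : ¬ IsZero I) (e : cokernel f ≅ (Coh.push i).obj I) : Filt B := by
  obtain ⟨m, F, φ, h0, ⟨eA⟩, hcoh, hstep⟩ := hA
  classical
  let F' : ℕ → X.Modules := fun j => if j ≤ m then F j else B
  have e₁ : ∀ {j}, j ≤ m → F' j = F j := fun h => if_pos h
  have e₂ : ∀ {j}, ¬ j ≤ m → F' j = B := fun h => if_neg h
  let φ' : (j : ℕ) → (F' j ⟶ F' (j + 1)) := fun j =>
    if h : j < m then eqToHom (e₁ h.le) ≫ φ j ≫ eqToHom (e₁ h).symm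
    else if h' : j = m then eqToHom ((e₁ h'.le).trans (congrArg F h')) ≫ eA.hom ≫ f ≫
      eqToHom (e₂ (by omega)).symm
    else eqToHom ((e₂ (by omega)).trans (e₂ (by omega)).symm)
  refine ⟨m + 1, F', φ', (e₁ (Nat.zero_le m)).symm ▸ h0, ⟨eqToIso (e₂ (by omega))⟩, fun j _ => ?_,
    fun j hj => ?_⟩
  · by_cases h : j ≤ m
    · rw [e₁ h]; exact hcoh j h
    · rw [e₂ h]; exact hB
  · by_cases h : j < m
    · have hφ : φ' j = eqToHom (e₁ h.le) ≫ φ j ≫ eqToHom (e₁ h).symm := dif_pos h
      obtain ⟨hm, Z', i', hi', hZ', I', ι', hι', hI', hne', ⟨e'⟩⟩ := hstep j h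
      haveI := hm
      refine ⟨?_, Z', i', hi', hZ', I', ι', hι', hI', hne',
        ⟨cokernelIsoOfEq hφ ≪≫ cokernelEpiComp _ _ ≪≫ cokernelCompIsIso _ _ ≪≫ e'⟩⟩
      rw [hφ]; infer_instance
    · obtain rfl : j = m := by omega
      have hφ : φ' j = eqToHom (e₁ le_rfl) ≫ eA.hom ≫ f ≫ eqToHom (e₂ (by omega)).symm :=
        (dif_neg h).trans (dif_pos rfl)
      refine ⟨?_, Z, i, hi, hZ, I, ι, hι, hI, hne,
        ⟨cokernelIsoOfEq hφ ≪≫ cokernelEpiComp _ _ ≪≫ cokernelEpiComp _ _ ≪≫ cokernelCompIsIso _ _ ≪≫ e⟩⟩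
      rw [hφ]; infer_instance

open AlgebraicGeometry CategoryTheory CategoryTheory.Limits in
/-- A filtration transports along isomorphisms. -/
theorem Filt.of_iso {X : Scheme.{u}} {A B : X.Modules} (hA : Filt A) (e : A ≅ B) : Filt B := by
  obtain ⟨m, F, φ, h0, ⟨eA⟩, hcoh, hstep⟩ := hA
  exact ⟨m, F, φ, h0, ⟨eA ≪≫ e⟩, hcoh, hstep⟩

open AlgebraicGeometry CategoryTheory CategoryTheory.Limits in
/-- What is proved by dévissage: filtrations extend along monomorphisms with cokernel `M`. -/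
def Good {X : Scheme.{u}} (M : X.Modules) : Prop :=
  ∀ (A B : X.Modules) (f : A ⟶ B), Mono f → Coh.IsCoh B → Nonempty (cokernel f ≅ M) → Filt A → Filt B

open AlgebraicGeometry CategoryTheory CategoryTheory.Limits in
open scoped ZeroObject in
/-- On a Noetherian scheme X, every coherent module M admits a finite chain 0 = F_0 → F_1 → … → F_m ≅ M
of monomorphisms between coherent modules such that each quotient F_{j+1}/F_j is isomorphic to the
direct image of a nonzero quasi-coherent ideal sheaf of some integral closed subscheme Z_j → X.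
(Filtration written as a chain of monomorphisms up to isomorphism.) -/
theorem result (X : Scheme.{u}) [IsNoetherian X]
    (M : X.Modules) (hM : Coh.IsCoh M) :
    ∃ (m : ℕ) (F : ℕ → X.Modules) (φ : (j : ℕ) → (F j ⟶ F (j + 1))),
      IsZero (F 0) ∧ Nonempty (F m ≅ M) ∧ (∀ j ≤ m, Coh.IsCoh (F j)) ∧ ∀ j < m, Mono (φ j) ∧
        ∃ (Z : Scheme.{u}) (i : Z ⟶ X), IsClosedImmersion i ∧ IsIntegral Z ∧
          ∃ (I : Z.Modules) (ι : I ⟶ Coh.structureModule Z), Mono ι ∧ Coh.IsQCoh I ∧ ¬ IsZero I ∧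
            Nonempty (cokernel (φ j) ≅ (Coh.push i).obj I) := by
  have key : Good M := by
    refine Groth.Agent.Lib.CohDelta.Filtration.devissage Good ⊤ ?_ ?_ ?_ ?_ M ⟨hM, Set.subset_univ _⟩
    · intro M hM A B f hf _ ⟨e⟩ hA
      haveI := hf
      haveI : Epi f := Preadditive.epi_of_isZero_cokernel f (hM.of_iso e)
      haveI := isIso_of_mono_of_epi f
      exact hA.of_iso (asIso f)
    · intro M N ⟨e⟩ h A B f hf hB ⟨e'⟩ hA
      exact h A B f hf hB ⟨e' ≪≫ e.symm⟩ hA
    · intro S hS _ _ h₃ hQ₁ hQ₃ A B f hf hB ⟨e⟩ hA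
      haveI := hf
      haveI := hS.mono_f
      haveI := hS.epi_g
      let p : B ⟶ S.X₂ := cokernel.π f ≫ e.hom
      let q : B ⟶ S.X₃ := p ≫ S.g
      have hfp : f ≫ p = 0 := by simp [p]
      let f' : A ⟶ kernel q := kernel.lift q f (by rw [← Category.assoc, hfp, zero_comp])
      let g : kernel q ⟶ S.X₁ := hS.exact.lift (kernel.ι q ≫ p) (by
        rw [Category.assoc]; exact kernel.condition q)
      have hg : g ≫ S.f = kernel.ι q ≫ p := hS.exact.lift_f _ _
      haveI : Epi g := by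
        rw [epi_iff_surjective_up_to_refinements]
        intro W y
        obtain ⟨W', π, hπ, x, hx⟩ := surjective_up_to_refinements_of_epi p (y ≫ S.f)
        refine ⟨W', π, hπ, kernel.lift q x ?_, ?_⟩
        · show x ≫ p ≫ S.g = 0
          rw [← Category.assoc, ← hx, Category.assoc, Category.assoc, S.zero, comp_zero, comp_zero]
        · rw [← cancel_mono S.f, Category.assoc, Category.assoc, hg, kernel.lift_ι_assoc, hx]
      have hfg : f' ≫ g = 0 := by
        rw [← cancel_mono S.f, Category.assoc, hg, zero_comp, kernel.lift_ι_assoc, hfp]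
      haveI : Mono f' := mono_of_mono_fac (kernel.lift_ι q f _)
      have hex : (ShortComplex.mk f' g hfg).Exact := by
        rw [ShortComplex.exact_iff_exact_up_to_refinements]
        intro W x hx
        have h0 : (x ≫ kernel.ι q) ≫ cokernel.π f = 0 := by
          rw [← cancel_mono e.hom, zero_comp, Category.assoc]
          show (x ≫ kernel.ι q) ≫ p = 0
          rw [Category.assoc, ← hg, ← Category.assoc, hx, zero_comp]
        refine ⟨W, 𝟙 W, inferInstance, Abelian.monoLift f _ h0, ?_⟩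
        rw [Category.id_comp, ← cancel_mono (kernel.ι q), Category.assoc]
        show _ = Abelian.monoLift f _ h0 ≫ f' ≫ kernel.ι q
        rw [kernel.lift_ι, Abelian.monoLift_comp]
      have hK : Coh.IsCoh (kernel q) := by
        haveI : IsLocallyNoetherian X := inferInstance
        exact Groth.Agent.Lib.CohBasics.Closure.isCoh_kernel q hB h₃.1.1
      have hK' : Filt (kernel q) := hQ₁ A _ f' inferInstance hK
        ⟨(cokernelIsCokernel f').coconePointUniqueUpToIso
          (ShortComplex.ShortExact.mk' hex inferInstance inferInstance).gIsCokernel⟩ hA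
      exact hQ₃ _ B (kernel.ι q) inferInstance hB
        ⟨(cokernelIsCokernel (kernel.ι q)).coconePointUniqueUpToIso
          (ShortComplex.ShortExact.mk' (ShortComplex.exact_kernel q) inferInstance
            (epi_comp _ _)).gIsCokernel⟩ hK'
    · intro Z i hi hZ _ I ι hι hI hne A B f hf hB ⟨e⟩ hA
      haveI := hf
      exact hA.step hB f Z i hi hZ I ι hι hI hne e
  have h0 : Filt (0 : X.Modules) :=
    ⟨0, fun _ => 0, fun _ => 0, isZero_zero _, ⟨Iso.refl _⟩,
      fun _ _ => Groth.Agent.Lib.KRes.CohP.isCoh_of_isZero X (isZero_zero _),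
      fun j hj => absurd hj (Nat.not_lt_zero j)⟩
  exact key 0 M 0 ((isZero_zero X.Modules).mono _) hM ⟨cokernelZeroIsoTarget⟩ h0

end Groth.Agent.S0026
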