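import Groth.Statements.S0029
import Groth.Agent.Lib.ZarCoh.SerreAff
import Groth.Agent.Lib.CohDelta.AbR
import Groth.Agent.Lib.CohDelta.Sect
import Groth.Agent.Lib.ZarCoh.Morph
-- import your own Groth.Agent.* helpers here

set_option autoImplicit false
universe u
open Coherent

namespace Groth.Agent.S0029

open AlgebraicGeometry CategoryTheory CategoryTheory.Limits Groth.Agent.Lib in
/-- Quasi-coherent ideals extend from quasi-compact opens. -/
theorem exists_extension {X : Scheme.{u}} (U : X.Opens) [QuasiCompact U.ι] [QuasiSeparated U.ι]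
    (I' : (U : Scheme.{u}).Modules) (ι' : I' ⟶ Coh.structureModule U) [Mono ι'] (hI : Coh.IsQCoh I') :
    ∃ (K : X.Modules) (k : K ⟶ Coh.structureModule X), Mono k ∧ Coh.IsQCoh K ∧
      Nonempty (K.restrict U.ι ≅ I') := by
  haveI : I'.IsQuasicoherent := hI
  haveI := TensorMod.QCohInv.isQCoh_structureModule X
  haveI := TensorMod.QCohInv.isQCoh_structureModule (U : Scheme.{u})
  haveI := QCoh.Closure.isQCoh_cokernel ι'
  haveI := QCoh.Pushforward.isQCoh_pushforward U.ι (M := cokernel ι')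
  let adj := Scheme.Modules.restrictAdjunction U.ι
  let R := Scheme.Modules.restrictFunctor U.ι
  let o : R.obj (Coh.structureModule X) ≅ Coh.structureModule U :=
    (Scheme.Modules.restrictFunctorIsoPullback U.ι).app _ ≪≫ PicLoc.pullbackStructureIso U.ι
  let φ : R.obj (Coh.structureModule X) ⟶ cokernel ι' := o.hom ≫ cokernel.π ι'
  let α := adj.homEquiv _ _ φ
  haveI : PreservesFiniteLimits R := inferInstance
  have hα : R.map α ≫ (adj.counit.app _) = φ := by
    have := adj.homEquiv_counit (g := α)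
    rwa [Equiv.symm_apply_apply, eq_comm] at this
  let e : R.obj (kernel α) ≅ I' :=
    PreservesKernel.iso R α ≪≫ (kernelCompMono (R.map α) (adj.counit.app _)).symm ≪≫
      kernelIsoOfEq hα ≪≫ kernelIsIsoComp o.hom (cokernel.π ι') ≪≫
      ((Abelian.monoIsKernelOfCokernel _ (cokernelIsCokernel ι')).conePointUniqueUpToIso
        (kernelIsKernel (cokernel.π ι'))).symm
  exact ⟨kernel α, kernel.ι α, inferInstance, QCoh.Closure.isQCoh_kernel α, ⟨e⟩⟩

open AlgebraicGeometry CategoryTheory in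
/-- Let f : X → Y be a quasi-compact morphism between quasi-separated schemes. Suppose R^1 f_* I
vanishes for each quasi-coherent submodule I of O_X; then f is affine. -/
theorem result {X Y : Scheme.{u}} (f : X ⟶ Y) [QuasiCompact f]
    [QuasiSeparatedSpace X] [QuasiSeparatedSpace Y]
    (h : ∀ (I : X.Modules) (i : I ⟶ Coh.structureModule X), Mono i → Coh.IsQCoh I →
      Limits.IsZero ((Coh.RpushAb f 1).obj (Coh.toAb I))) : IsAffineHom f := by
  refine ⟨fun V hV => ?_⟩
  haveI : CompactSpace (f ⁻¹ᵁ V : Scheme.{u}) :=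
    isCompact_iff_compactSpace.mp (f.isCompact_preimage hV.isCompact)
  haveI : QuasiSeparated f := .of_quasiSeparatedSpace f
  haveI : IsAffine (f ⁻¹ᵁ V : Scheme.{u}) := ZarCoh.SerreAff.isAffine_of_h1
    fun I' ι' hm hI => by
    haveI : QuasiCompact (f ⁻¹ᵁ V).ι := quasiCompact_iff_forall_isAffineOpen.mpr fun W hW => by
      refine ((f ⁻¹ᵁ V).ι.isOpenEmbedding.isEmbedding.isCompact_iff).mpr ?_
      rw [Scheme.Hom.coe_preimage, Set.image_preimage_eq_inter_range, Scheme.Opens.range_ι]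
      exact QuasiSeparatedSpace.inter_isCompact _ _ W.isOpen hW.isCompact (f ⁻¹ᵁ V).isOpen
        (f.isCompact_preimage hV.isCompact)
    obtain ⟨K, k, hk, hK, ⟨e⟩⟩ := exists_extension (f ⁻¹ᵁ V) I' ι' hI
    haveI := Groth.Agent.Lib.CohDelta.Sect.enoughInjectives (X := X)
    let R := injectiveResolution K
    obtain ⟨i⟩ := Groth.Agent.Lib.CohDelta.AbR.nonempty_rpushAb_iso f R 0
    haveI : (Groth.Agent.Lib.CohDelta.Syzygy.Z R 0).IsQuasicoherent :=
      ObjectProperty.prop_of_iso (SheafOfModules.isQuasicoherent (R := X.ringCatSheaf))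
        (Groth.Agent.Lib.CohDelta.Syzygy.augIso R) hK
    have hz : Limits.IsZero (Coh.toAb (Groth.Agent.Lib.CohDelta.Syzygy.R R f 0)) :=
      (h K k hk hK).of_iso i.symm
    haveI hsub : Subsingleton Γ(Groth.Agent.Lib.CohDelta.Syzygy.R R f 0, V) :=
      subsingleton_of_forall_eq 0 fun x =>
        ConcreteCategory.congr_hom (congrArg (fun g => g.hom.app (Opposite.op V))
          (hz.eq_of_src (𝟙 _) 0)) x
    haveI : Subsingleton (CohTop.HU (Coh.toAb (Groth.Agent.Lib.CohDelta.Syzygy.Z R 0)) 1 (f ⁻¹ᵁ V)) :=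
      (Groth.Agent.Lib.CohDelta.QCohR.e_bijective f R 0 hV).injective.subsingleton
    have h1 : Subsingleton (CohTop.HU (Coh.toAb K) 1 (f ⁻¹ᵁ V)) :=
      Groth.Agent.H34.HOne.ext_of_iso.{u} _ 1
        ((Groth.Agent.H34.HOne.ab X).mapIso (Groth.Agent.Lib.CohDelta.Syzygy.augIso R).symm) ‹_›
    refine Groth.Agent.H34.HOne.h1_of_iso e ?_
    exact (Groth.Agent.Lib.ZarCoh.Morph.nonempty_HHon_equiv K (f ⁻¹ᵁ V) 1).some.toEquiv.subsingleton
  exact ‹_›

end Groth.Agent.S0029
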