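import Groth.Statements.S0043
import Groth.Agent.Lib.ZarCoh.SerreAff
import Groth.Agent.Lib.ZarCoh.Bounded
import Groth.Agent.Lib.Ample.GGQAff
import Groth.Agent.Lib.ProjCoh.Gen
import Groth.Agent.Lib.ProjCoh.Horrocks
import Groth.Agent.Lib.Perfect.Top
import Groth.Agent.Lib.CurveBundle.Coherent

set_option autoImplicit false
set_option linter.style.haveILetI false
universe u
open Coherent

namespace Groth.Agent.S0043

open AlgebraicGeometry CategoryTheory CategoryTheory.Limits Groth.Agent.Lib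

theorem vanish {X : Scheme.{u}} [X.IsQuasiAffine]
    (h : ∀ p : ℕ, 0 < p → Subsingleton (Coh.HH X (Coh.structureModule X) p))
    (E : X.Modules) (hE : FlatMod.IsFinLocFree E) :
    Subsingleton (Coh.HH X E 1) := by
  obtain ⟨d, hd⟩ := ZarCoh.Bounded.exists_bound_HH X
  letI : X.Over (Spec Γ(X, ⊤)) := ⟨X.toSpecΓ⟩
  letI : X.Over (Spec (CommRingCat.of Γ(X, ⊤))) := ⟨X.toSpecΓ⟩
  suffices key : ∀ (k q : ℕ), d ≤ q + 1 + k → ∀ E : X.Modules, FlatMod.IsFinLocFree E →
      Subsingleton (Coh.HH X E (q + 1)) from key d 0 (by omega) E hE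
  intro k
  induction k with
  | zero => exact fun q hq E hE => hd E (CurveBundle.Coherent.isCoh hE).1 _ hq
  | succ k ih =>
    intro q hq E hE
    have hc := CurveBundle.Coherent.isCoh hE
    haveI := hc.1
    obtain ⟨m, p, hp⟩ := ProjCoh.Gen.exists_epi_freeMod hc (Ample.GGQAff.genAt E)
    haveI := hp
    have hK : FlatMod.IsFinLocFree (kernel p) := Perfect.Top.isFinLocFree_kernel p
      (TensorMod.LocFree.of_rank (TensorMod.LocFree.isFinLocFree_freeMod X m)) hE
    let S : ShortComplex X.Modules := ShortComplex.mk _ _ (kernel.condition p)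
    have hS : S.ShortExact :=
      { exact := ShortComplex.exact_of_f_is_kernel _ (kernelIsKernel p)
        mono_f := inferInstanceAs (Mono (kernel.ι p))
        epi_g := hp }
    haveI h1 : Subsingleton (Coh.HH X S.X₁ (q + 1 + 1)) := ih (q + 1) (by omega) _ hK
    haveI h2 : Subsingleton (Coh.HH X S.X₂ (q + 1)) :=
      ProjCoh.Horrocks.subsingleton_HH_sigma Γ(X, ⊤) _ (q + 1) fun _ => h (q + 1) q.succ_pos
    refine subsingleton_of_forall_eq 0 fun z => ?_
    obtain ⟨w, hw⟩ := ((Curves.LES.exactK₃ Γ(X, ⊤) hS (q + 1) (q + 1 + 1) rfl) z).mp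
      (Subsingleton.elim (α := Coh.HH X S.X₁ (q + 1 + 1)) _ _)
    rw [← hw, Subsingleton.elim w 0, map_zero]

open ZarCoh.SerreAff in
/-- If X is quasi-affine and H^p(X, O_X) = 0 for all p > 0, then X is affine. -/
theorem result (X : Scheme.{u}) [X.IsQuasiAffine]
    (h : ∀ p : ℕ, 0 < p → Subsingleton (Coh.HH X (Coh.structureModule X) p)) : IsAffine X := by
  obtain ⟨s, hs⟩ := (isCompact_univ (X := X)).elim_finite_subcover
    (fun f : {f : Γ(X, ⊤) // IsAffineOpen (X.basicOpen f)} => (X.basicOpen f.1 : Set X))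
    (fun f => (X.basicOpen f.1).2) (fun x hx => by
      obtain ⟨_, ⟨_, ⟨r, hr, rfl⟩, rfl⟩, hxr, -⟩ := (Scheme.IsQuasiAffine.isBasis_basicOpen
        X).exists_subset_of_mem_open hx isOpen_univ
      exact Set.mem_iUnion.2 ⟨⟨r, hr⟩, hxr⟩)
  let f : Fin s.card → Γ(X, ⊤) := fun i => (s.equivFin.symm i).1.1
  have hf : ∀ x : X, ∃ i, x ∈ X.basicOpen (f i) := fun x => by
    obtain ⟨g, hg, hxg⟩ := Set.mem_iUnion₂.mp (hs (Set.mem_univ x))
    exact ⟨s.equivFin ⟨g, hg⟩, by simpa [f] using hxg⟩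
  haveI := epi_row f hf
  have hfree : FlatMod.IsFinLocFree (free X s.card) := by
    haveI : HasFiniteBiproducts X.Modules := HasFiniteBiproducts.of_hasFiniteCoproducts
    exact TensorMod.LocFree.of_iso
      ((biproduct.isoCoproduct _).symm ≪≫ biproduct.isoProduct _)
      (TensorMod.LocFree.of_rank (TensorMod.LocFree.isFinLocFree_freeMod X s.card))
  have hK : FlatMod.IsFinLocFree (kernel (row f)) := Perfect.Top.isFinLocFree_kernel _ hfree
    (TensorMod.LocFree.of_rank (TensorMod.LocFree.of_isInvertible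
      (PicLoc.isInvertible_structureModule X)))
  let S : ShortComplex X.Modules := ShortComplex.mk _ _ (kernel.condition (row f))
  have hS : S.ShortExact :=
    { exact := ShortComplex.exact_of_f_is_kernel _ (kernelIsKernel _)
      mono_f := inferInstanceAs (Mono (kernel.ι (row f)))
      epi_g := inferInstanceAs (Epi (row f)) }
  obtain ⟨m, hm⟩ := Groth.Agent.H34.HOne.app_top_surjective hS (vanish h _ hK)
    (show Γ(Coh.structureModule X, ⊤) from (1 : Γ(X, ⊤)))
  replace hm : sec ((row f).app ⊤ m) = 1 := hm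
  rw [row_app_top] at hm
  refine isAffine_of_isAffineOpen_basicOpen (Set.range f) ?_ ?_
  · rw [Ideal.eq_top_iff_one, ← hm]
    exact Ideal.sum_mem _ fun i _ => Ideal.mul_mem_left _ _ (Ideal.subset_span ⟨i, rfl⟩)
  · rintro _ ⟨i, rfl⟩
    exact (s.equivFin.symm i).1.2

end Groth.Agent.S0043
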