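import Groth.Statements.S0045
import Groth.Agent.Lib.CohBasics.Closure
import Groth.Agent.Lib.Modules.Stalk
import Mathlib.RingTheory.Noetherian.Defs

set_option autoImplicit false
universe u
open Coherent

namespace Groth.Agent.S0045

open AlgebraicGeometry CategoryTheory in
/-- On a Noetherian scheme, any increasing sequence of quasi-coherent submodules of a coherent module is
eventually constant. -/
theorem result (X : Scheme.{u}) [IsNoetherian X] (M : X.Modules)
    (hM : Coh.IsCoh M) (F : ℕ →o Subobject M) (hF : ∀ n, Coh.IsQCoh ((F n : Subobject M) : X.Modules)) :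
    ∃ n : ℕ, ∀ m : ℕ, n ≤ m → F m = F n := by
  classical
  haveI := hM.1
  obtain ⟨s, hs, hcov⟩ := (isCompact_and_isOpen_iff_finite_and_eq_biUnion_affineOpens
    (U := (Set.univ : Set X))).mp ⟨CompactSpace.isCompact_univ, isOpen_univ⟩
  let g : ∀ (n : ℕ), ((F n : Subobject M) : X.Modules) ⟶ M := fun n => (F n).arrow
  let R : ∀ (U : X.affineOpens), ℕ →o Submodule Γ(X, U.1) Γ(M, U.1) := fun U =>
    ⟨fun n => LinearMap.range (Groth.Agent.Lib.CohBasics.Affine.secₗ (g n) U.1), fun a b hab => by
      rintro _ ⟨t, rfl⟩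
      refine ⟨(Subobject.ofLE (F a) (F b) (F.monotone hab)).app U.1 t, ?_⟩
      change (Subobject.ofLE (F a) (F b) (F.monotone hab) ≫ g b).app U.1 t = (g a).app U.1 t
      rw [Subobject.ofLE_arrow]⟩
  have hst : ∀ U : X.affineOpens, ∃ n, ∀ m, n ≤ m → R U n = R U m := fun U => by
    haveI := IsLocallyNoetherian.component_noetherian (X := X) U
    haveI := Groth.Agent.Lib.CohBasics.Closure.finite_sections hM U.2
    obtain ⟨n, hn⟩ := monotone_stabilizes_iff_noetherian.mpr
      (inferInstance : IsNoetherian Γ(X, U.1) Γ(M, U.1)) (R U)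
    exact ⟨n, hn⟩
  choose N hN using hst
  refine ⟨hs.toFinset.sup N, fun m hm => ?_⟩
  have hle := F.monotone hm
  let φ := Subobject.ofLE (F (hs.toFinset.sup N)) (F m) hle
  haveI : Epi φ := by
    refine (Groth.Agent.Lib.Modules.Stalk.epi_iff_stalk_surjective φ).mpr fun x z => ?_
    obtain ⟨U, hUs, hxU⟩ : ∃ U ∈ s, x ∈ (U.1 : Set X) := by
      have := hcov.le (Set.mem_univ x)
      simpa using this
    obtain ⟨V, hxV, t, rfl⟩ := TopCat.Presheaf.germ_exist _ z
    obtain ⟨f, hfV, hxf⟩ := U.2.exists_basicOpen_le (⟨x, hxV⟩ : V) hxU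
    haveI := hF m
    haveI := hF (hs.toFinset.sup N)
    have hsurj : Function.Surjective (φ.app (X.basicOpen f)) := by
      intro y
      obtain ⟨k, y', hy'⟩ := (Groth.Agent.Lib.QCoh.Localizing.localizes_of_isAffineOpen
        ((F m : Subobject M) : X.Modules) U.2 f).ext' y
      have hR : R U m = R U (hs.toFinset.sup N) := by
        rw [← hN U m ((Finset.le_sup (hs.mem_toFinset.mpr hUs)).trans hm),
          hN U _ (Finset.le_sup (hs.mem_toFinset.mpr hUs))]
      obtain ⟨w, hw⟩ := hR.le ⟨y', rfl⟩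
      have hw' : φ.app U.1 w = y' := by
        apply Groth.Agent.Lib.QCoh.Closure.sections_injective_of_mono (g m) U.1
        change (φ ≫ g m).app U.1 w = _
        rw [Subobject.ofLE_arrow]
        exact hw
      have hu : IsUnit (Groth.Agent.Lib.QCoh.Localizing.resR (X.basicOpen_le f) f ^ k) :=
        (AlgebraicGeometry.RingedSpace.isUnit_res_basicOpen _ f).pow k
      obtain ⟨v, hv⟩ := hu.exists_left_inv
      refine ⟨v • Groth.Agent.Lib.QCoh.Localizing.res _ (X.basicOpen_le f) w, ?_⟩
      rw [φ.app_smul, ← Groth.Agent.Lib.QCoh.Localizing.res_app, hw', hy', smul_smul, hv, one_smul]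
    obtain ⟨w, hw⟩ := hsurj (Groth.Agent.Lib.QCoh.Localizing.res _ hfV t)
    refine ⟨((F (hs.toFinset.sup N) : Subobject M) : X.Modules).presheaf.germ (X.basicOpen f) x hxf w, ?_⟩
    refine (TopCat.Presheaf.stalkFunctor_map_germ_apply (F := ((F (hs.toFinset.sup N) : Subobject M) : X.Modules).presheaf) (X.basicOpen f) x hxf φ.mapPresheaf w).trans ?_
    erw [hw]
    exact TopCat.Presheaf.germ_res_apply _ _ _ hxf t
  haveI : Mono φ := mono_of_mono_fac (Subobject.ofLE_arrow hle)
  haveI : IsIso φ := isIso_of_mono_of_epi φ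
  exact (Subobject.eq_of_comm (asIso φ) (Subobject.ofLE_arrow hle)).symm

end Groth.Agent.S0045
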