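import Groth.Statements.S0047
import Groth.Agent.H52.PointSupp
import Groth.Agent.Lib.Modules.Support

set_option autoImplicit false
universe u
open Coherent

namespace Groth.Agent.S0047

open AlgebraicGeometry in
/-- On a locally Noetherian scheme, a coherent module whose support consists of closed points (i.e. has
dimension ≤ 0) satisfies H^i(X, F) = 0 for all i > 0. (Global generation is not stated.) -/
theorem result (X : Scheme.{u}) [IsLocallyNoetherian X]
    (M : X.Modules) (hM : Coh.IsCoh M) (h0 : ∀ x ∈ CohB1.support M, IsClosed ({x} : Set X))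
    (i : ℕ) (hi : 0 < i) : Subsingleton (Coh.HH X M i) := by
  obtain ⟨n, rfl⟩ : ∃ n, i = n + 1 := ⟨i - 1, by omega⟩
  haveI := hM.2
  haveI := Groth.Agent.H52.PointSupp.isFlasque (Coh.toAb M) (CohB1.support M) h0
    (Groth.Agent.Lib.Modules.Support.isClosed_support M) fun x hx =>
      Groth.Agent.Lib.Modules.Support.not_mem_support_iff.1 hx
  exact Groth.Agent.Lib.ZarCoh.Basic.H_flasque (X := X.toTopCat) (Coh.toAb M) n

end Groth.Agent.S0047
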