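import Groth.Statements.S0048
import Groth.Agent.Lib.Perfect.Coherent
import Groth.Agent.Lib.Modules.Support
-- import your own Groth.Agent.* helpers here

set_option autoImplicit false
universe u
open Coherent
open CategoryTheory

namespace Groth.Agent.S0048

open AlgebraicGeometry in
/-- Let U ⊆ X be open and T ⊆ U a subset closed in X. If F is a coherent (quasi-coherent of finite type,
i.e. `Coh.IsCoh`) module on U with support contained in T, then its direct image along U ↪ X is
again coherent in the same sense. (The published statement is for coherent modules in the usual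
sense; here both hypothesis and conclusion use the notion `Coh.IsCoh`.) -/
theorem result (X : Scheme.{u}) (U : X.Opens) (T : Set X)
    (hT : IsClosed T) (hTU : T ⊆ (U : Set X)) (F : (↑U : Scheme.{u}).Modules) (hF : Coh.IsCoh F)
    (hs : ∀ x : ↥U, x ∈ CohB1.support F → (x : X) ∈ T) : Coh.IsCoh ((Coh.push U.ι).obj F) := by
  refine Groth.Agent.Lib.Perfect.Coherent.isCoh_of_cover fun x => ?_
  by_cases hx : x ∈ (U : Set X)
  · exact ⟨↑U, U.ι, inferInstance, ⟨x, hx⟩, rfl, Groth.Agent.Lib.CohBasics.Closure.isCoh_of_iso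
      ((Scheme.Modules.restrictFunctorAdjCounitIso U.ι).app F).symm hF⟩
  let W : X.Opens := ⟨Tᶜ, hT.isOpen_compl⟩
  refine ⟨↑W, W.ι, inferInstance, ⟨x, fun h => hx (hTU h)⟩, rfl, ?_⟩
  apply Groth.Agent.Lib.KRes.CohP.isCoh_of_isZero
  rw [← Groth.Agent.Lib.Modules.Support.support_eq_empty_iff,
    Groth.Agent.Lib.Modules.Support.support_restrict, Set.eq_empty_iff_forall_notMem]
  intro w hw
  apply hw
  refine subsingleton_of_forall_eq 0 fun v => ?_
  obtain ⟨V, hxV, t, rfl⟩ :=
    TopCat.Presheaf.exists_germ_eq ((Coh.push U.ι).obj F : X.Modules).presheaf v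
  let V' : X.Opens := V ⊓ W
  rw [← TopCat.Presheaf.germ_res_apply ((Coh.push U.ι).obj F : X.Modules).presheaf
    (homOfLE (inf_le_left : V' ≤ V)) (W.ι w) ⟨hxV, w.2⟩ t]
  have h0 : ((Coh.push U.ι).obj F : X.Modules).presheaf.map (homOfLE (inf_le_left : V' ≤ V)).op t = 0 :=
    Groth.Agent.Lib.Modules.Support.eq_zero_of_germ_eq_zero (M := F) (U := U.ι ⁻¹ᵁ V') _
      fun y hy hys => absurd (hs y hys) hy.2
  exact (congrArg _ h0).trans (map_zero _)

end Groth.Agent.S0048
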