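import Groth.Statements.S0049
import Groth.Agent.Lib.CohBasics.Closure
import Groth.Agent.Lib.Modules.Support
import Groth.Agent.Lib.QCoh.Pushforward
import Groth.Agent.Lib.RefHull.LocFree
-- import your own Groth.Agent.* helpers here

set_option autoImplicit false
universe u
open Coherent
open CategoryTheory.Limits

namespace Groth.Agent.S0049

open AlgebraicGeometry CategoryTheory in
/-- On a Noetherian scheme, if the support of a coherent module F is the union of closed sets Z and Z',
there is a short exact sequence 0 → G' → F → G → 0 of coherent modules with G' supported in Z' and G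
supported in Z. -/
theorem result (X : Scheme.{u}) [IsNoetherian X] (M : X.Modules) (hM : Coh.IsCoh M)
    (Z Z' : Set X) (hZ : IsClosed Z) (hZ' : IsClosed Z') (h : CohB1.support M = Z ∪ Z') :
    ∃ S : ShortComplex X.Modules, S.ShortExact ∧ Nonempty (S.X₂ ≅ M) ∧ Coh.IsCoh S.X₁ ∧ Coh.IsCoh S.X₃ ∧
      CohB1.support S.X₁ ⊆ Z' ∧ CohB1.support S.X₃ ⊆ Z := by
  haveI := hM.1
  let U : X.Opens := ⟨Z'ᶜ, hZ'.isOpen_compl⟩
  haveI : Coh.IsQCoh (M.restrict U.ι) := (Groth.Agent.Lib.RefHull.LocFree.isCoh_restrict hM U).1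
  haveI : QuasiCompact U.ι := inferInstance
  let P : X.Modules := (Scheme.Modules.pushforward U.ι).obj (M.restrict U.ι)
  haveI hP : P.IsQuasicoherent :=
    Groth.Agent.Lib.QCoh.Pushforward.isQCoh_pushforward U.ι (M := M.restrict U.ι)
  let φ : M ⟶ P := (Scheme.Modules.restrictAdjunction U.ι).unit.app M
  have hφ : ∀ (V : X.Opens) (a : Γ(M, V)),
      φ.app V a = M.presheaf.map (homOfLE (U.ι.image_preimage_le V)).op a := fun V a => rfl
  have hK : Coh.IsCoh (kernel φ) := Groth.Agent.Lib.CohBasics.Closure.isCoh_kernel φ hM hP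
  let G := cokernel (kernel.ι φ)
  let m : G ⟶ P := cokernel.desc (kernel.ι φ) φ (kernel.condition φ)
  haveI : Mono m := inferInstanceAs (Mono (Abelian.factorThruCoimage φ))
  refine ⟨ShortComplex.mk (kernel.ι φ) (cokernel.π (kernel.ι φ)) (cokernel.condition _),
    ShortComplex.ShortExact.mk' (ShortComplex.exact_cokernel _) inferInstance inferInstance,
    ⟨Iso.refl _⟩, hK, Groth.Agent.Lib.CohBasics.Closure.isCoh_cokernel _ hK.1 hM, ?_, ?_⟩
  · -- sections of the kernel die outside `Z'`
    intro x hx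
    by_contra hxZ
    apply hx
    refine subsingleton_of_forall_eq 0 fun v => ?_
    obtain ⟨V, hxV, t, rfl⟩ := TopCat.Presheaf.exists_germ_eq (kernel φ).presheaf v
    apply (Groth.Agent.Lib.Modules.StalkModule.mono_iff_stalkMapₗ_injective (kernel.ι φ)).mp
      inferInstance x
    rw [map_zero, Groth.Agent.Lib.Modules.StalkModule.stalkMapₗ_germ]
    let a : Γ(M, V) := (kernel.ι φ).app V t
    show M.presheaf.germ V x hxV a = 0
    have h0 : φ.app V a = 0 := by
      show (kernel.ι φ ≫ φ).app V t = 0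
      rw [kernel.condition]
      rfl
    have hxV' : x ∈ U.ι ''ᵁ (U.ι ⁻¹ᵁ V) := ⟨⟨x, hxZ⟩, hxV, rfl⟩
    rw [← TopCat.Presheaf.germ_res_apply M.presheaf (homOfLE (U.ι.image_preimage_le V)) x hxV' a]
    exact (congrArg _ ((hφ V a).symm.trans h0)).trans (map_zero _)
  · -- the quotient embeds in the sections outside `Z'`
    intro x hx
    by_contra hxZ
    have hxP := Groth.Agent.Lib.Modules.Support.support_subset_of_mono m hx
    apply hxP
    refine subsingleton_of_forall_eq 0 fun v => ?_
    obtain ⟨V, hxV, t, rfl⟩ := TopCat.Presheaf.exists_germ_eq P.presheaf v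
    let V' : X.Opens := V ⊓ ⟨Zᶜ, hZ.isOpen_compl⟩
    have hxV' : x ∈ V' := ⟨hxV, hxZ⟩
    rw [← TopCat.Presheaf.germ_res_apply P.presheaf (homOfLE (inf_le_left : V' ≤ V)) x hxV' t]
    have h0 : P.presheaf.map (homOfLE (inf_le_left : V' ≤ V)).op t = 0 := by
      refine Groth.Agent.Lib.Modules.Support.eq_zero_of_germ_eq_zero
        (M := M) (U := U.ι ''ᵁ (U.ι ⁻¹ᵁ V')) _ fun y hy hys => ?_
      obtain ⟨w, hw, rfl⟩ := hy
      rcases h ▸ hys with hz | hz
      · exact absurd hz hw.2
      · exact absurd hz w.2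
    exact (congrArg _ h0).trans (map_zero _)

end Groth.Agent.S0049
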