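import Groth.Statements.S0062
import Groth.Agent.Lib.Exchange.AmpleSpread
import Groth.Agent.S2416
import Groth.Agent.Lib.CohDelta.AbR
import Groth.Agent.Lib.CohDelta.Sect
-- import your own Groth.Agent.* helpers here

set_option autoImplicit false
universe u
open Coherent

namespace Groth.Agent.S0062

open AlgebraicGeometry CategoryTheory CategoryTheory.Limits TopologicalSpace Opposite in
open Groth.Agent.Lib Groth.Agent.Lib.ZarCoh.Basic Groth.Agent.Lib.CohDelta in
/-- Vanishing of `H^(p+1)` over an affine neighbourhood gives vanishing of the stalk. -/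
theorem isZero_stalk {X Y : Scheme.{u}} (f : X ⟶ Y) [QuasiCompact f] [IsSeparated f]
    (U : Y.Opens) (hU : IsAffineOpen U) {y : Y} (hy : y ∈ U) (M : X.Modules) (hM : M.IsQuasicoherent)
    (p : ℕ) (h : Subsingleton (Coh.HH (f ⁻¹ᵁ U : Scheme.{u}) (M.restrict (f ⁻¹ᵁ U).ι) (p + 1))) :
    IsZero (TopCat.Presheaf.stalk ((Coh.RpushAb f (p + 1)).obj (Coh.toAb M)).obj y) := by
  haveI := Sect.enoughInjectives (X := X)
  let I := InjectiveResolution.of M
  haveI : (Syzygy.Z I 0).IsQuasicoherent :=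
    ObjectProperty.prop_of_iso (SheafOfModules.isQuasicoherent (R := X.ringCatSheaf)) (Syzygy.augIso I) hM
  haveI : IsAffine (U : Scheme.{u}) := hU
  haveI : CompactSpace (f ⁻¹ᵁ U : Scheme.{u}) :=
    isCompact_iff_compactSpace.mp (f.isCompact_preimage hU.isCompact)
  haveI : (f ⁻¹ᵁ U : Scheme.{u}).IsSeparated := ⟨by
    rw [Limits.terminal.hom_ext (Limits.terminal.from _) ((f ∣_ U) ≫ Limits.terminal.from _)]
    infer_instance⟩
  let j := (f ⁻¹ᵁ U).ι
  have hz : ∀ a : Γ(U, ⊤), Subsingleton Γ(Syzygy.R I f p, U.ι ''ᵁ (U : Scheme.{u}).basicOpen a) := by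
    intro a
    let a' : Γ((f ⁻¹ᵁ U : Scheme.{u}), ⊤) := (f ∣_ U).appTop a
    let O := (f ⁻¹ᵁ U : Scheme.{u}).basicOpen a'
    haveI : (M.restrict j).IsQuasicoherent := inferInstance
    obtain ⟨ψ⟩ := Groth.Agent.S2416.result _ a' (M.restrict j) (p + 1)
    haveI := h
    haveI := ψ.toEquiv.subsingleton
    haveI h1 : Subsingleton (CohTop.HU (Coh.toAb (M.restrict j)) (p + 1) O) :=
      (ZarCoh.Morph.nonempty_HHon_equiv (M.restrict j) O (p + 1)).some.symm.toEquiv.subsingleton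
    haveI h2 : Subsingleton (CohTop.HU (Coh.toAb M) (p + 1) (j ''ᵁ O)) :=
      @Equiv.subsingleton _ _
        (ZarCoh.Compare.restrEquiv j.isOpenEmbedding O (p + 1) (Coh.toAb M)).toEquiv h1
    have he : j ''ᵁ O = f ⁻¹ᵁ (U.ι ''ᵁ (U : Scheme.{u}).basicOpen a) := by
      rw [← image_morphismRestrict_preimage f U, Scheme.preimage_basicOpen_top]
    rw [he] at h2
    have h3 : Subsingleton (CohTop.HU (Coh.toAb (Syzygy.Z I 0)) (p + 1)
        (f ⁻¹ᵁ (U.ι ''ᵁ (U : Scheme.{u}).basicOpen a))) :=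
      Groth.Agent.H34.HOne.ext_of_iso.{u} _ (p + 1)
        ((Groth.Agent.H34.HOne.ab X).mapIso (Syzygy.augIso I)) h2
    exact @Function.Surjective.subsingleton _ _ _ h3 (QCohR.e_bijective f I p
      (((isAffineOpen_top (U : Scheme.{u})).basicOpen a).image_of_isOpenImmersion U.ι)).2
  obtain ⟨i⟩ := AbR.nonempty_rpushAb_iso f I p
  let Φ := (sheafToPresheaf (Opens.grothendieckTopology ↥Y) AddCommGrpCat.{u}) ⋙ TopCat.Presheaf.stalkFunctor AddCommGrpCat.{u} y
  refine IsZero.of_iso ?_ (Φ.mapIso i)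
  haveI : Subsingleton (Φ.obj (Coh.toAb (Syzygy.R I f p))) := by
    refine subsingleton_of_forall_eq 0 fun t => ?_
    obtain ⟨V, hV, s, rfl⟩ := TopCat.Presheaf.exists_germ_eq (Coh.toAb (Syzygy.R I f p)).obj t
    obtain ⟨a, haV, hya⟩ := (isAffineOpen_top (U : Scheme.{u})).exists_basicOpen_le
      (V := U.ι ⁻¹ᵁ V) ⟨⟨y, hy⟩, hV⟩ trivial
    have hWV : U.ι ''ᵁ (U : Scheme.{u}).basicOpen a ≤ V :=
      (Scheme.Hom.image_mono U.ι haV).trans (U.ι.image_preimage_le V)
    have hyW : y ∈ U.ι ''ᵁ (U : Scheme.{u}).basicOpen a := ⟨⟨y, hy⟩, hya, rfl⟩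
    rw [← TopCat.Presheaf.germ_res_apply (Coh.toAb (Syzygy.R I f p)).obj (homOfLE hWV) y hyW s]
    haveI := hz a
    exact (congrArg _ (Subsingleton.elim
      (α := Γ(Syzygy.R I f p, U.ι ''ᵁ (U : Scheme.{u}).basicOpen a)) _ 0)).trans (map_zero _)
  exact AddCommGrpCat.isZero_of_subsingleton _

open AlgebraicGeometry CategoryTheory in
/-- Let f : X → Y be proper with Y Noetherian, L invertible on X, F coherent on X, and y a point such
that the pullback of L to the fibre X_y is ample. Then there is d₀ such that for all d ≥ d₀ and p >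
0 the stalk at y of R^p f_*(F ⊗ L^{⊗d}) vanishes. (The surjectivity assertion on global sections of
the fibre is not stated.) -/
theorem result {X Y : Scheme.{u}} (f : X ⟶ Y) [IsProper f]
    [IsNoetherian Y] (L : X.Modules) (hL : PicF.IsInvertible L) (M : X.Modules) (hM : Coh.IsCoh M) (y : Y)
    (hy : CohB1.IsAmple ((Scheme.Modules.pullback (f.fiberι y)).obj L)) :
    ∃ d₀ : ℕ, ∀ d : ℕ, d₀ ≤ d → ∀ p : ℕ, 0 < p →
      Limits.IsZero (TopCat.Presheaf.stalk
        ((Coh.RpushAb f p).obj (Coh.toAb (CohB1.tensorMod M (CohB1.tensorPow L d)))).obj y) := by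
  obtain ⟨U, hyU, hU, hamp⟩ :=
    Groth.Agent.Lib.Exchange.AmpleSpread.exists_nhd_of_fiber f hL y hy
  haveI : IsAffine (U : Scheme.{u}) := hU
  let g : (f ⁻¹ᵁ U : Scheme.{u}) ⟶ Spec Γ(Y, U) := (f ∣_ U) ≫ hU.isoSpec.hom
  haveI : IsNoetherianRing Γ(Y, U) := IsLocallyNoetherian.component_noetherian ⟨U, hU⟩
  haveI : IsLocallyNoetherian X := LocallyOfFiniteType.isLocallyNoetherian f
  let j := (f ⁻¹ᵁ U).ι
  have hMU : Coh.IsCoh (M.restrict j) :=
    Groth.Agent.Lib.CohBasics.Closure.isCoh_of_iso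
      ((Scheme.Modules.restrictFunctorIsoPullback j).symm.app M)
      (Groth.Agent.Lib.Cyc.FP.Stalk.isCoh_pullback j hM)
  haveI : IsProper g := inferInstance
  obtain ⟨d₀, hd⟩ := (Groth.Agent.S0051.result Γ(Y, U) _ g _ hamp.1).1 hamp _ hMU
  refine ⟨d₀, fun d hd' p hp => ?_⟩
  obtain ⟨q, rfl⟩ := Nat.exists_eq_add_of_le' hp
  let N := CohB1.tensorMod M (CohB1.tensorPow L d)
  have hN : Coh.IsCoh N := Groth.Agent.Lib.RefHull.Tensor.isCoh_tensorMod hM
    (Groth.Agent.Lib.Ample.GG.isCoh_of_isInvertible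
      (Groth.Agent.Lib.TensorMod.Invertible.isInvertible_tensorPow hL d))
  refine isZero_stalk f U hU hyU N hN.1 q ?_
  let e : N.restrict j ≅ CohB1.tensorMod (M.restrict j) (CohB1.tensorPow (L.restrict j) d) :=
    (Scheme.Modules.restrictFunctorIsoPullback j).app N ≪≫
      Groth.Agent.Lib.TensorMod.Pullback.pullbackTensorIso j M _ ≪≫
      Groth.Agent.Lib.TensorMod.Basic.tensorIso
        ((Scheme.Modules.restrictFunctorIsoPullback j).symm.app M)
        (((Scheme.Modules.restrictFunctorIsoPullback j).symm.app _) ≪≫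
          Groth.Agent.Lib.Ample.Pow.restrictPow j L d)
  letI : (f ⁻¹ᵁ U : Scheme.{u}).Over (Spec Γ(Y, U)) := ⟨g⟩
  exact Groth.Agent.H34.HOne.ext_of_iso.{u} _ (q + 1)
    ((Groth.Agent.H34.HOne.ab _).mapIso e.symm) (hd d hd' (q + 1) q.succ_pos)

end Groth.Agent.S0062
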