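import Groth.Statements.S0063
import Mathlib.AlgebraicGeometry.Morphisms.FormallyUnramified

set_option autoImplicit false
open CategoryTheory CategoryTheory.Limits AlgebraicGeometry Opposite
universe u
open EtBase

namespace Groth.Agent.S0063

/-- Rigidity of maps into an unramified separated scheme — two maps from a connected scheme over the
base that agree at one point, including on residue fields, coincide. -/
theorem result {X S Y : Scheme.{u}} (π : X ⟶ S)
    [FormallyUnramified π] [LocallyOfFiniteType π] [IsSeparated π]
    (h : Y ⟶ S) [ConnectedSpace Y] (f g : Y ⟶ X) (hf : f ≫ π = h) (hg : g ≫ π = h)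
    (y : Y) (hy : Y.fromSpecResidueField y ≫ f = Y.fromSpecResidueField y ≫ g) : f = g := by
  have hab : f ≫ π = g ≫ π := hf.trans hg.symm
  let c : Y ⟶ pullback π π := pullback.lift f g hab
  let d := Y.fromSpecResidueField y
  have hdc : d ≫ c = (d ≫ f) ≫ pullback.diagonal π := by
    apply pullback.hom_ext
    · rw [Category.assoc, Category.assoc, pullback.lift_fst, pullback.diagonal_fst, Category.comp_id]
    · rw [Category.assoc, Category.assoc, pullback.lift_snd, pullback.diagonal_snd, Category.comp_id]
      exact hy.symm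
  let U : Set Y := c ⁻¹' Set.range (pullback.diagonal π)
  have hU : IsClopen U :=
    ⟨(Scheme.Hom.isClosedEmbedding (pullback.diagonal π)).isClosed_range.preimage c.continuous,
      (pullback.diagonal π).isOpenEmbedding.isOpen_range.preimage c.continuous⟩
  have hyU : y ∈ U := by
    obtain ⟨z, hz⟩ : ∃ z, d z = y := ⟨default, Scheme.fromSpecResidueField_apply _ _⟩
    rw [← hz]
    refine ⟨(d ≫ f) z, ?_⟩
    rw [← Scheme.Hom.comp_apply, ← hdc, Scheme.Hom.comp_apply]
  have hall : U = Set.univ := hU.eq_univ ⟨y, hyU⟩
  have hrange : Set.range c ⊆ Set.range (pullback.diagonal π) := by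
    rintro _ ⟨r, rfl⟩; exact hall.ge (Set.mem_univ r)
  obtain ⟨l, hl⟩ : ∃ l : Y ⟶ X, l ≫ pullback.diagonal π = c :=
    ⟨IsOpenImmersion.lift _ c hrange, IsOpenImmersion.lift_fac _ c hrange⟩
  calc f = c ≫ pullback.fst π π := (pullback.lift_fst f g hab).symm
    _ = c ≫ pullback.snd π π := by rw [← hl]; simp
    _ = g := pullback.lift_snd f g hab

end Groth.Agent.S0063
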