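import Groth.Statements.S0064
import Mathlib.AlgebraicGeometry.Morphisms.QuasiFinite
import Mathlib.AlgebraicGeometry.Morphisms.Etale
import Mathlib.AlgebraicGeometry.Morphisms.FlatMono
import Mathlib.RingTheory.Unramified.LocalStructure
import Mathlib.AlgebraicGeometry.Noetherian

set_option autoImplicit false
open CategoryTheory CategoryTheory.Limits AlgebraicGeometry Opposite
universe u
open EtBase

namespace Groth.Agent.S0064

/-- Let S be a Noetherian scheme, X → S a quasi-compact, separated, unramified morphism (formally
unramified and locally of finite type), and Y a Noetherian scheme with a morphism Y → S. Then there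
are only finitely many S-morphisms Y → X. The published statement does not assume X → S separated;
it is stated here in the separated case. -/
theorem result {X S Y : Scheme.{u}} [IsNoetherian S] [IsNoetherian Y]
    (π : X ⟶ S) [FormallyUnramified π] [LocallyOfFiniteType π] [QuasiCompact π] [IsSeparated π]
    (h : Y ⟶ S) : Set.Finite {f : Y ⟶ X | f ≫ π = h} := by
  have hqf : ∀ {A B : Scheme.{u}} (q : A ⟶ B) [FormallyUnramified q] [LocallyOfFiniteType q],
      LocallyQuasiFinite q := fun q _ _ => by
    refine (HasRingHomProperty.iff_appLE (P := @LocallyQuasiFinite)).2 fun U V e => ?_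
    have h1 := q.formallyUnramified_appLE U.2 V.2 e
    have h2 := q.finiteType_appLE U.2 V.2 e
    algebraize [(q.appLE U.1 V.1 e).hom]
    exact RingHom.quasiFinite_algebraMap.2 inferInstance
  have hpt : ∀ (K : Type u) [Field K] (t : Spec (CommRingCat.of K) ⟶ S),
      Set.Finite {g : Spec (CommRingCat.of K) ⟶ X | g ≫ π = t} := by
    intro K _ t
    let p := pullback.snd π t
    have : FormallyUnramified p := MorphismProperty.pullback_snd _ _ ‹FormallyUnramified π›
    have : LocallyOfFiniteType p := MorphismProperty.pullback_snd _ _ ‹LocallyOfFiniteType π›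
    have : QuasiCompact p := MorphismProperty.pullback_snd _ _ ‹QuasiCompact π›
    have := hqf p
    have : Finite ↥(pullback π t) := by
      rw [← Set.finite_univ_iff]
      refine (p.finite_preimage_singleton default).subset fun z _ => ?_
      exact Subsingleton.elim _ _
    let G : {g : Spec (CommRingCat.of K) ⟶ X // g ≫ π = t} → ↥(pullback π t) :=
      fun g => pullback.lift g.1 (𝟙 _) (g.2.trans (Category.id_comp t).symm) default
    have hG : Function.Injective G := fun g g' h => by
      let s := pullback.lift g.1 (𝟙 _) (g.2.trans (Category.id_comp t).symm)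
      let s' := pullback.lift g'.1 (𝟙 _) (g'.2.trans (Category.id_comp t).symm)
      have hs' : s' ≫ p = 𝟙 _ := pullback.lift_snd _ _ _
      have : AlgebraicGeometry.Etale (s' ≫ p) := by rw [hs']; infer_instance
      have : AlgebraicGeometry.Etale s' := AlgebraicGeometry.Etale.of_comp s' p
      have : IsSplitMono s' := IsSplitMono.mk' ⟨p, hs'⟩
      have : IsOpenImmersion s' := IsOpenImmersion.of_flat_of_mono s'
      have hr : Set.range s ⊆ Set.range s' := by
        rintro _ ⟨z, rfl⟩
        rw [Subsingleton.elim z default]
        exact ⟨default, h.symm⟩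
      have hl := IsOpenImmersion.lift_fac s' s hr
      have he : IsOpenImmersion.lift s' s hr = 𝟙 _ :=
        (Category.comp_id _).symm.trans ((congrArg (fun m => IsOpenImmersion.lift s' s hr ≫ m) hs'.symm).trans
          ((Category.assoc _ _ _).symm.trans ((congrArg (fun m => m ≫ p) hl).trans (pullback.lift_snd _ _ _))))
      rw [he, Category.id_comp] at hl
      have := congrArg (fun m => m ≫ pullback.fst π t) hl.symm
      simp only [s, s', pullback.lift_fst] at this
      exact Subtype.ext this
    exact Set.finite_coe_iff.1 (Finite.of_injective G hG)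
  have hI : (genericPoints Y).Finite := genericPoints.finite finite_irreducibleComponents_of_isNoetherian
  have := hI.to_subtype
  let R : {f : Y ⟶ X // f ≫ π = h} → ∀ η : genericPoints Y,
      {g : Spec (Y.residueField η.1) ⟶ X // g ≫ π = Y.fromSpecResidueField η.1 ≫ h} :=
    fun f η => ⟨Y.fromSpecResidueField η.1 ≫ f.1, by rw [Category.assoc, f.2]⟩
  have : ∀ η : genericPoints Y,
      Finite {g : Spec (Y.residueField η.1) ⟶ X // g ≫ π = Y.fromSpecResidueField η.1 ≫ h} :=
    fun η => (hpt _ _).to_subtype
  have hR : Function.Injective R := fun f f' hff' => by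
    have hab : f.1 ≫ π = f'.1 ≫ π := f.2.trans f'.2.symm
    let c : Y ⟶ pullback π π := pullback.lift f.1 f'.1 hab
    let U : Set Y := c ⁻¹' Set.range (pullback.diagonal π)
    have hU : IsClosed U :=
      (Scheme.Hom.isClosedEmbedding (pullback.diagonal π)).isClosed_range.preimage c.continuous
    have hrange : Set.range c ⊆ Set.range (pullback.diagonal π) := by
      rintro _ ⟨y, rfl⟩
      let η : genericPoints Y := genericPoints.ofComponent
        ⟨irreducibleComponent y, irreducibleComponent_mem_irreducibleComponents y⟩
      have hy : η.1 ⤳ y := by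
        have hc := genericPoints.isGenericPoint η
        rw [genericPoints.component_ofComponent] at hc
        exact hc.specializes mem_irreducibleComponent
      let d := Y.fromSpecResidueField η.1
      have he : d ≫ f.1 = d ≫ f'.1 := congrArg Subtype.val (congrFun hff' η)
      have hdc : d ≫ c = (d ≫ f.1) ≫ pullback.diagonal π := by
        apply pullback.hom_ext
        · rw [Category.assoc, Category.assoc, pullback.lift_fst, pullback.diagonal_fst, Category.comp_id]
        · rw [Category.assoc, Category.assoc, pullback.lift_snd, pullback.diagonal_snd, Category.comp_id]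
          exact he.symm
      have hmem : η.1 ∈ U := by
        obtain ⟨z, hz⟩ : ∃ z, d z = η.1 := ⟨default, Scheme.fromSpecResidueField_apply _ _⟩
        rw [← hz]
        refine ⟨(d ≫ f.1) z, ?_⟩
        rw [← Scheme.Hom.comp_apply, ← hdc, Scheme.Hom.comp_apply]
      exact hy.mem_closed hU hmem
    obtain ⟨l, hl⟩ : ∃ l : Y ⟶ X, l ≫ pullback.diagonal π = c :=
      ⟨IsOpenImmersion.lift _ c hrange, IsOpenImmersion.lift_fac _ c hrange⟩
    refine Subtype.ext ?_
    calc f.1 = c ≫ pullback.fst π π := (pullback.lift_fst _ _ hab).symm
      _ = c ≫ pullback.snd π π := by rw [← hl]; simp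
      _ = f'.1 := pullback.lift_snd _ _ hab
  exact Set.finite_coe_iff.1 (Finite.of_injective R hR)

end Groth.Agent.S0064
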