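import Groth.Statements.S0068
import Groth.Agent.Lib.EtSite.ClosedComplement

set_option autoImplicit false
open CategoryTheory CategoryTheory.Limits AlgebraicGeometry Opposite
universe u
open EtBase

namespace Groth.Agent.S0068

/-- Part (2), second half — an abelian étale sheaf is a pushforward from a closed subscheme exactly when
its sections vanish over every étale scheme mapping into the open complement. -/
theorem result {Z X : Scheme.{u}} (i : Z ⟶ X) [IsClosedImmersion i] [EtCoh.BCCont i]
    (F : EtCoh.Ab X) :
    (EtCoh.push i).essImage F ↔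
      ∀ U : X.Etale, Disjoint (Set.range U.hom.base) (Set.range i.base) → IsZero (F.obj.obj (op U)) := by
  refine ⟨?_, fun hF => ?_⟩
  · rintro ⟨G, ⟨e⟩⟩ U hU
    have := Groth.Agent.Lib.EtSite.ClosedComplement.isEmpty_bc i U hU
    have := (Groth.Agent.Lib.EtSite.ClosedComplement.unique_sections_of_isEmpty G ((EtCoh.bc i).obj U)).1
    exact IsZero.of_iso (AddCommGrpCat.isZero_of_subsingleton (G.obj.obj (op ((EtCoh.bc i).obj U))))
      ((((sheafToPresheaf _ _).mapIso e).app (op U)).symm)
  · refine (Groth.Agent.Lib.EtSite.ClosedEssImage.essImage_iff i F).2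
      (Groth.Agent.Lib.EtSite.ClosedEssImage.isIso_unit i F fun x hx => ?_)
    refine ⟨_, inferInstance, inferInstance, Groth.Agent.Lib.EtSite.Basic.geomPoint X x,
      Groth.Agent.Lib.EtSite.Basic.geomPoint_apply x _, ⟨fun z z' => ?_⟩, ⟨0⟩⟩
    have hzero : ∀ z, z = (0 : ToType ((Scheme.pointSmallEtale
        (Groth.Agent.Lib.EtSite.Basic.geomPoint X x)).sheafFiber.obj F)) := by
      intro z
      obtain ⟨V, p, s, rfl⟩ := (Scheme.pointSmallEtale _).toPresheafFiber_jointly_surjective z
      obtain ⟨V', a, p', hp', hd⟩ := Groth.Agent.Lib.EtSite.ClosedComplement.exists_avoid i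
        (by rw [Groth.Agent.Lib.EtSite.Basic.geomPoint_apply]; exact hx) V p
      have := AddCommGrpCat.subsingleton_of_isZero (hF V' hd)
      rw [← hp']
      erw [← GrothendieckTopology.Point.toPresheafFiber_w_apply]
      exact (congrArg _ (Subsingleton.elim _ (0 : F.obj.obj (op V')))).trans (map_zero _)
    rw [hzero z, hzero z']

end Groth.Agent.S0068
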