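import Groth.Statements.S0072
import Groth.Agent.Lib.EtSite.FiniteStalk

set_option autoImplicit false
open CategoryTheory CategoryTheory.Limits AlgebraicGeometry Opposite
universe u
open EtBase

namespace Groth.Agent.S0072

/-- Let f : X → Y be a finite morphism of schemes, F an abelian sheaf on X_ét, and η : Spec Ω → Y a
geometric point with Ω algebraically closed. Then the stalk (f_*F)_η is isomorphic to the direct sum
of the stalks F_ξ over the geometric points ξ : Spec Ω → X lying over η (those with f ∘ ξ = η). Only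
the existence of an isomorphism is asserted; the published statement gives a canonical
identification. -/
theorem result {X Y : Scheme.{u}} (f : X ⟶ Y) [IsFinite f] [EtCoh.BCCont f]
    (F : EtCoh.Ab X) {Ω : Type u} [Field Ω] [IsAlgClosed Ω] (η : Spec (CommRingCat.of Ω) ⟶ Y) :
    Nonempty ((EtCoh.stalk η).obj ((EtCoh.push f).obj F) ≅
      ∐ fun ξ : {ξ : Spec (CommRingCat.of Ω) ⟶ X // ξ ≫ f = η} => (EtCoh.stalk ξ.1).obj F) := by
  have := Groth.Agent.Lib.EtSite.PushStalk.finite_points f η
  let M : {ξ : Spec (CommRingCat.of Ω) ⟶ X // ξ ≫ f = η} → AddCommGrpCat.{u + 1} := fun ξ =>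
    (EtCoh.stalk ξ.1).obj F
  let g : ∀ ξ, (EtCoh.stalk η).obj ((EtCoh.push f).obj F) ⟶ M ξ :=
    fun ξ => (Groth.Agent.Lib.EtSite.PushStalk.germTo f AddCommGrpCat.{u + 1} ξ.2).app F
  have : IsIso (Pi.lift g) := Groth.Agent.Lib.EtSite.FiniteStalk.isIso_pi_lift M g
    (Groth.Agent.Lib.EtSite.PushStalk.germTo_bijective f η F)
  have : HasBiproduct M := HasBiproduct.of_hasProduct M
  exact ⟨asIso (Pi.lift g) ≪≫ (biproduct.isoProduct M).symm ≪≫ biproduct.isoCoproduct M⟩

end Groth.Agent.S0072
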