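import Groth.Statements.S0078
import Groth.Agent.Lib.EtSite.LangSemilinear

set_option autoImplicit false
universe u
open EtBase

namespace Groth.Agent.S0078

/-- Second half — for such an F the fixed vectors F v = v form a finite set of size at most p ^ dim V
(an F_p-space of dimension at most dim V). -/
theorem result {k V : Type u} [Field k] [IsAlgClosed k] (p : ℕ) [Fact p.Prime] [CharP k p]
    [AddCommGroup V] [Module k V] [FiniteDimensional k V] (F : V →+ V)
    (hF : ∀ (c : k) (v : V), F (c • v) = c ^ p • F v) :
    Set.Finite {v : V | F v = v} ∧ Nat.card {v : V | F v = v} ≤ p ^ Module.finrank k V := by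
  classical
  obtain ⟨ι, _, b, hli, hb, hspan⟩ :=
    Groth.Agent.Lib.EtSite.LangSemilinear.exists_fixed_basis (k := k) F
  let G : (ι → ZMod p) → V := fun d => ∑ i, ZMod.castHom (dvd_refl p) k (d i) • b i
  have hsub : {v : V | F v = v} ⊆ Set.range G := by
    intro v hv
    have hv' : v ∈ Submodule.span k (Set.range b) := hspan ▸ Submodule.subset_span hv
    obtain ⟨c, hc⟩ := (Submodule.mem_span_range_iff_exists_fun k).1 hv'
    have h : ∑ i, (c i ^ p - c i) • b i = 0 := by
      have h1 : F v - v = 0 := sub_eq_zero.2 hv
      rw [← hc, map_sum] at h1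
      simp only [hF, hb] at h1
      simp only [sub_smul, Finset.sum_sub_distrib]
      exact h1
    choose e he using fun i => Groth.Agent.Lib.EtSite.LangSemilinear.exists_zmod_of_pow_eq p
      (sub_eq_zero.1 (Fintype.linearIndependent_iff.1 hli _ h i))
    exact ⟨e, by simp only [G, he]; exact hc⟩
  refine ⟨(Set.finite_range G).subset hsub, ?_⟩
  calc Nat.card {v : V | F v = v} ≤ Nat.card (Set.range G) :=
        Nat.card_mono (Set.finite_range G) hsub
    _ ≤ Nat.card (ι → ZMod p) := Finite.card_range_le G
    _ = p ^ Fintype.card ι := by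
        rw [Nat.card_eq_fintype_card, Fintype.card_fun, ZMod.card]
    _ ≤ p ^ Module.finrank k V :=
        Nat.pow_le_pow_right (Fact.out : p.Prime).pos hli.fintype_card_le_finrank

end Groth.Agent.S0078
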