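import Groth.Statements.S0088
import Groth.Agent.Lib.EtSite.Sections
import Mathlib.AlgebraicGeometry.Morphisms.Integral
import Mathlib.AlgebraicGeometry.Morphisms.Finite

set_option autoImplicit false
open CategoryTheory CategoryTheory.Limits AlgebraicGeometry Opposite
universe u
open EtBase

namespace Groth.Agent.S0088

/-- On an affine scheme all of whose points are closed and all of whose residue fields are separably
closed, every abelian étale sheaf has vanishing cohomology in positive degrees. -/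
theorem result (S : Scheme.{u}) [IsAffine S] (h1 : ∀ s : S, IsClosed ({s} : Set S))
    (h2 : ∀ s : S, IsSepClosed (S.residueField s)) (F : EtCoh.Ab S) (i : ℕ) (hi : 1 ≤ i) :
    Subsingleton (EtCoh.H S F i) := by
  let e := S.isoSpec
  have : Ring.KrullDimLE 0 Γ(S, ⊤) := Ring.KrullDimLE.mk₀ fun q hq => by
    refine (PrimeSpectrum.isClosed_singleton_iff_isMaximal (⟨q, hq⟩ : PrimeSpectrum Γ(S, ⊤))).1 ?_
    have h := h1 (e.inv.base ⟨q, hq⟩)
    have h2 : ({⟨q, hq⟩} : Set (PrimeSpectrum Γ(S, ⊤))) = e.inv.base ⁻¹' {e.inv.base ⟨q, hq⟩} := by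
      ext y
      exact ⟨fun hy => congrArg e.inv.base hy, fun hy => (Scheme.homeoOfIso e.symm).injective hy⟩
    rw [h2]
    exact h.preimage e.inv.continuous
  refine Groth.Agent.Lib.EtSite.Sections.H_subsingleton_of_gsec
    (Groth.Agent.Lib.EtSite.Sections.gsec_preservesEpimorphisms
      (Groth.Agent.Lib.EtSite.Sections.hasSections_of_krullDimLE_zero Γ(S, ⊤) fun q hq => ?_)) F i hi
  let y : Spec Γ(S, ⊤) := ⟨q, hq⟩
  have := h2 (e.inv.base y)
  let ε := asIso (e.inv.residueFieldMap y) ≪≫ Scheme.Spec.residueFieldIso Γ(S, ⊤) y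
  exact Groth.Agent.Lib.EtSite.Sections.isSepClosed_of_ringEquiv ε.commRingCatIsoToRingEquiv

end Groth.Agent.S0088
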