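import Groth.Statements.S0093
import Groth.Agent.Lib.SepClosedSplit.HConst
import Mathlib.FieldTheory.IsAlgClosed.AlgebraicClosure
import Mathlib.RingTheory.IntegralClosure.IntegrallyClosed
import Mathlib.RingTheory.Spectrum.Prime.Basic
import Mathlib.RingTheory.Ideal.GoingUp
import Mathlib.RingTheory.MvPolynomial.Basic

set_option autoImplicit false
set_option linter.style.haveILetI false
open CategoryTheory CategoryTheory.Limits AlgebraicGeometry Opposite
universe u
open EtBase

namespace Groth.Agent.S0093

theorem spec_normal_sepClosed (R : CommRingCat.{u}) (Ω : Type u) [Field Ω] [IsSepClosed Ω] [Algebra R Ω]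
    (hd : IsDomain R) (hn : IsIntegrallyClosed R) (hf : IsFractionRing R Ω) :
    (∀ x : ↥(Spec R), IsIntegrallyClosed ((Spec R).presheaf.stalk x)) ∧ IsSepClosed (Spec R).functionField :=
  ⟨fun x => by
      let p : PrimeSpectrum R := x
      haveI : IsLocalization p.asIdeal.primeCompl ((Spec.structureSheaf R).presheaf.stalk p) :=
        StructureSheaf.IsLocalization.to_stalk R p
      haveI : IsIntegrallyClosed ((Spec.structureSheaf R).presheaf.stalk p) :=
        isIntegrallyClosed_of_isLocalization (R := R) _ p.asIdeal.primeCompl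
          p.asIdeal.primeCompl_le_nonZeroDivisors
      exact this,
    Groth.Agent.Lib.EtSite.Sections.isSepClosed_of_ringEquiv
      (IsLocalization.algEquiv (nonZeroDivisors R) Ω (Spec R).functionField).toRingEquiv⟩

/-- Part (1) — every affine scheme admits an integral surjective morphism from a scheme all of whose
closed subschemes have vanishing positive-degree étale cohomology with finite constant coefficients. -/
theorem result (X : Scheme.{u}) [IsAffine X] :
    ∃ (X' : Scheme.{u}) (π : X' ⟶ X) (_ : IsIntegralHom π) (_ : Surjective π),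
      ∀ (Z' : Scheme.{u}) (i : Z' ⟶ X') (_ : IsClosedImmersion i)
        (M : Type) (_ : AddCommGroup M) (_ : Finite M) (q : ℕ), 1 ≤ q →
        Subsingleton (EtCoh.H Z' (EtCoh.const Z' M) q) := by
  let P := MvPolynomial Γ(X, ⊤) ℤ
  let φ : P →+* Γ(X, ⊤) := MvPolynomial.eval₂Hom (Int.castRingHom _) id
  have hφ : Function.Surjective φ := fun a => ⟨MvPolynomial.X a, MvPolynomial.eval₂Hom_X' _ _ a⟩
  let K := FractionRing P
  let Ω := AlgebraicClosure K
  let R := integralClosure P Ω
  haveI : IsClosedImmersion (Spec.map (CommRingCat.ofHom φ)) := IsClosedImmersion.spec_of_surjective _ hφ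
  let a : X ⟶ Spec (CommRingCat.of P) := X.isoSpec.hom ≫ Spec.map (CommRingCat.ofHom φ)
  let b : Spec (CommRingCat.of R) ⟶ Spec (CommRingCat.of P) := Spec.map (CommRingCat.ofHom (algebraMap P R))
  have hinj : Function.Injective (algebraMap P R) := fun x y h => by
    apply IsFractionRing.injective P K
    apply (algebraMap K Ω).injective
    have h' : (algebraMap P R x : Ω) = (algebraMap P R y : Ω) := congrArg Subtype.val h
    rw [← IsScalarTower.algebraMap_apply, ← IsScalarTower.algebraMap_apply]
    exact h'
  haveI : FaithfulSMul P R := (faithfulSMul_iff_algebraMap_injective P R).2 hinj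
  haveI : IsIntegralHom b := IsIntegralHom.SpecMap_iff.2 (Algebra.IsIntegral.isIntegral (R := P) (A := R))
  haveI : Surjective b := ⟨Algebra.IsIntegral.comap_surjective P R⟩
  refine ⟨pullback a b, pullback.fst a b, inferInstance, inferInstance, ?_⟩
  intro Z' i hi M _ _ q hq
  haveI := hi
  haveI : IsClosedImmersion a := inferInstance
  haveI : Algebra.IsAlgebraic P Ω :=
    (IsFractionRing.comap_isAlgebraic_iff (A := P) (K := K) (C := Ω)).mpr inferInstance
  haveI : IsFractionRing R Ω :=
    integralClosure.isFractionRing_of_algebraic (A := P) (L := Ω) fun x hx => by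
      rwa [map_eq_zero_iff (algebraMap P Ω) (by
        rw [IsScalarTower.algebraMap_eq P K Ω]
        exact (algebraMap K Ω).injective.comp (IsFractionRing.injective P K))] at hx
  haveI : IsDomain R := inferInstance
  haveI : IsIntegrallyClosed R :=
    (isIntegrallyClosed_iff Ω).2 fun {x} hx => ⟨⟨x, isIntegral_trans x hx⟩, rfl⟩
  let R' : CommRingCat.{u} := CommRingCat.of R
  obtain ⟨hN, hsc⟩ := spec_normal_sepClosed R' Ω ‹IsDomain R› ‹IsIntegrallyClosed R› ‹IsFractionRing R Ω›
  haveI : IsDomain R' := inferInstanceAs (IsDomain R)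
  haveI := hsc
  obtain ⟨r, rfl⟩ := Nat.exists_eq_add_of_le' hq
  exact Groth.Agent.Lib.SepClosedSplit.HConst.subsingleton_H r (X := Spec R') hN (i ≫ pullback.snd a b) M

end Groth.Agent.S0093
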