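import Groth.Statements.S0094
import Groth.Agent.Lib.EtSubmersive.Main
import Groth.Agent.Lib.GeomConn.SepClosed

set_option autoImplicit false
open CategoryTheory CategoryTheory.Limits AlgebraicGeometry Opposite
universe u
open EtBase

namespace Groth.Agent.S0094

/-- For a flat quasi-compact morphism with connected geometric fibres, global sections of an abelian
étale sheaf on the base agree with global sections of its pullback: the unit of the
pullback–pushforward adjunction is bijective on global sections (the source proves this for sheaves
of sets; the abelian case is stated). -/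
theorem result {T S : Scheme.{u}} (f : T ⟶ S) [Flat f] [QuasiCompact f] [EtCoh.BCCont f]
    (hc : ∀ (Ω : Type u) [Field Ω] [IsAlgClosed Ω] (s : Spec (CommRingCat.of Ω) ⟶ S),
      ConnectedSpace ↥(pullback f s))
    (F : EtCoh.Ab S) :
    Function.Bijective (((EtCoh.pullPushAdj f).unit.app F).hom.app (op (EtCoh.top S))) := by
  have hsurj : Surjective f := by
    refine ⟨fun s => ?_⟩
    have := hc _ (Groth.Agent.Lib.EtSite.Push.algPoint S s)
    obtain ⟨z⟩ := (inferInstance : Nonempty ↥(pullback f (Groth.Agent.Lib.EtSite.Push.algPoint S s)))
    refine ⟨(pullback.fst f (Groth.Agent.Lib.EtSite.Push.algPoint S s)).base z, ?_⟩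
    refine (congrArg (fun q : pullback f (Groth.Agent.Lib.EtSite.Push.algPoint S s) ⟶ S => q.base z)
      pullback.condition).trans ?_
    exact Groth.Agent.Lib.EtSite.Push.algPoint_apply S s _
  exact Groth.Agent.Lib.EtSubmersive.Main.bijective_unit f F
    (fun S' g => Flat.isQuotientMap_of_surjective (pullback.snd f g)) hc

end Groth.Agent.S0094
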