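import Groth.Statements.S0095
import Groth.Agent.Lib.EtSubmersive.Main
import Groth.Agent.Lib.GeomConn.SepClosed

set_option autoImplicit false
open CategoryTheory CategoryTheory.Limits AlgebraicGeometry Opposite
universe u
open EtBase

namespace Groth.Agent.S0095

/-- For a scheme over a separably closed field k and a field extension K of k, global sections of an
abelian étale sheaf do not change under base change to K (the source proves this for sheaves of
sets; the abelian case is stated). -/
theorem result {k K : Type u} [Field k] [IsSepClosed k] [Field K] [Algebra k K]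
    {S : Scheme.{u}} (a : S ⟶ Spec (CommRingCat.of k))
    [EtCoh.BCCont (pullback.fst a (Spec.map (CommRingCat.ofHom (algebraMap k K))))]
    (F : EtCoh.Ab S) :
    Function.Bijective (((EtCoh.pullPushAdj
      (pullback.fst a (Spec.map (CommRingCat.ofHom (algebraMap k K))))).unit.app F).hom.app
        (op (EtCoh.top S))) := by
  set b := Spec.map (CommRingCat.ofHom (algebraMap k K))
  have hsurj : Surjective b := ⟨fun y => ⟨default, Subsingleton.elim (α := PrimeSpectrum k) _ _⟩⟩
  have : Flat b := (HasRingHomProperty.Spec_iff (P := @Flat)).2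
    (RingHom.flat_algebraMap_iff.2 inferInstance)
  refine Groth.Agent.Lib.EtSubmersive.Main.bijective_unit (pullback.fst a b) F
    (fun S' g => Flat.isQuotientMap_of_surjective (pullback.snd (pullback.fst a b) g))
    fun Ω _ _ s => ?_
  let e : pullback (pullback.fst a b) s ≅ pullback (s ≫ a) b :=
    pullbackSymmetry _ _ ≪≫ pullbackRightPullbackFstIso a b s
  obtain ⟨φ, hφ⟩ := Spec.map_surjective (s ≫ a)
  algebraize [φ.hom]
  have hb : s ≫ a = Spec.map (CommRingCat.ofHom (algebraMap k Ω)) := hφ.symm
  let e' : pullback (pullback.fst a b) s ≅ Spec (CommRingCat.of (TensorProduct k Ω K)) :=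
    e ≪≫ pullback.congrHom hb rfl ≪≫ pullbackSpecIso k Ω K
  have h : IrreducibleSpace (PrimeSpectrum (TensorProduct k Ω K)) :=
    Groth.Agent.Lib.GeomConn.SepClosed.irreducibleSpace_spec_tensor k Ω K
  have h2 : ConnectedSpace ↥(Spec (CommRingCat.of (TensorProduct k Ω K))) :=
    (inferInstance : ConnectedSpace (PrimeSpectrum (TensorProduct k Ω K)))
  exact (Scheme.homeoOfIso e').symm.surjective.connectedSpace (Scheme.homeoOfIso e').symm.continuous

end Groth.Agent.S0095
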