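import Groth.Statements.S0096
import Groth.Agent.Lib.EtSite.UnramSplit
import Mathlib.AlgebraicGeometry.Morphisms.Finite
import Mathlib.AlgebraicGeometry.Morphisms.Etale
import Mathlib.AlgebraicGeometry.Pullbacks
import Mathlib.Tactic.LinearCombination

set_option autoImplicit false
open CategoryTheory CategoryTheory.Limits AlgebraicGeometry Opposite
universe u
open EtBase

namespace Groth.Agent.S0096

/-- A finite unramified morphism becomes, after base change to a suitable étale neighbourhood of any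
point of the base, a finite disjoint union of closed immersions. -/
theorem result {X S : Scheme.{u}} (f : X ⟶ S) [IsFinite f] [FormallyUnramified f] (s : S) :
    ∃ (U : Scheme.{u}) (g : U ⟶ S) (_ : AlgebraicGeometry.Etale g) (u : U) (_ : g.base u = s)
      (n : ℕ) (V : Fin n → Scheme.{u}) (c : ∀ j, V j ⟶ U) (_ : ∀ j, IsClosedImmersion (c j))
      (e : (∐ V) ≅ pullback f g), ∀ j, Sigma.ι V j ≫ e.hom ≫ pullback.snd f g = c j := by
  obtain ⟨_, ⟨U₀, hU, rfl⟩, hsU, -⟩ :=
    S.isBasis_affineOpens.exists_subset_of_mem_open (Set.mem_univ s) isOpen_univ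
  let hV : IsAffineOpen (f ⁻¹ᵁ U₀) := hU.preimage f
  let R := Γ(S, U₀)
  let A := Γ(X, f ⁻¹ᵁ U₀)
  let φ : R ⟶ A := f.appLE U₀ (f ⁻¹ᵁ U₀) le_rfl
  let : Algebra R A := φ.hom.toAlgebra
  have : Module.Finite R A := by
    have h := IsFinite.finite_app f U₀ hU
    rw [Scheme.Hom.app_eq_appLE] at h
    exact h
  have : Algebra.FormallyUnramified R A :=
    RingHom.formallyUnramified_algebraMap.1 (f.formallyUnramified_appLE hU hV le_rfl)
  let Ω := AlgebraicClosure (S.residueField s)
  let ξ : Spec (CommRingCat.of Ω) ⟶ S :=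
    Spec.map (CommRingCat.ofHom (algebraMap (S.residueField s) Ω)) ≫ S.fromSpecResidueField s
  have hξ : ∀ z, ξ z = s := fun z => by
    rw [Scheme.Hom.comp_apply, Scheme.fromSpecResidueField_apply]
  have hr : Set.range ξ ⊆ Set.range hU.fromSpec := by
    rintro _ ⟨z, rfl⟩
    rw [hU.range_fromSpec, hξ]
    exact hsU
  let π : R ⟶ CommRingCat.of Ω := Spec.preimage (IsOpenImmersion.lift hU.fromSpec ξ hr)
  have hπ : Spec.map π ≫ hU.fromSpec = ξ := by
    rw [Spec.map_preimage]; exact IsOpenImmersion.lift_fac _ _ _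
  let : Algebra R Ω := π.hom.toAlgebra
  obtain ⟨R', _, _, _, ψ, m, e, he⟩ :=
    Groth.Agent.Lib.EtSite.UnramSplit.exists_split Ω _ R A rfl
  let T := TensorProduct R R' A
  let g : Spec (CommRingCat.of R') ⟶ S := Spec.map (CommRingCat.ofHom (algebraMap R R')) ≫ hU.fromSpec
  have hg : AlgebraicGeometry.Etale g := by
    have : AlgebraicGeometry.Etale (Spec.map (CommRingCat.ofHom (algebraMap R R'))) :=
      (HasRingHomProperty.Spec_iff (P := @AlgebraicGeometry.Etale)).2 (RingHom.etale_algebraMap.2 inferInstance)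
    infer_instance
  let u : Spec (CommRingCat.of R') := Spec.map (CommRingCat.ofHom ψ.toRingHom) default
  have hu : g u = s := by
    refine Eq.trans ?_ (hξ default)
    rw [← Scheme.Hom.comp_apply, ← Category.assoc, ← Spec.map_comp, ← hπ]
    congr
    ext x
    exact ψ.commutes x
  let a : Spec (CommRingCat.of T) ⟶ X :=
    Spec.map (CommRingCat.ofHom (Algebra.TensorProduct.includeRight (R := R) (A := R') (B := A)).toRingHom) ≫ hV.fromSpec
  let b : Spec (CommRingCat.of T) ⟶ Spec (CommRingCat.of R') :=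
    Spec.map (CommRingCat.ofHom Algebra.TensorProduct.includeLeftRingHom)
  have h1 : IsPullback (Spec.map φ) hV.fromSpec hU.fromSpec f := by
    refine IsOpenImmersion.isPullback _ _ _ _ (hU.SpecMap_appLE_fromSpec f hV le_rfl).symm ?_
    rw [hU.opensRange_fromSpec, hV.opensRange_fromSpec]
  have h0 : IsPullback b (Spec.map (CommRingCat.ofHom (Algebra.TensorProduct.includeRight (R := R) (A := R') (B := A)).toRingHom))
      (Spec.map (CommRingCat.ofHom (algebraMap R R'))) (Spec.map φ) :=
    isPullback_SpecMap_of_isPushout _ _ _ _ (CommRingCat.isPushout_tensorProduct R R' A)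
  have h2 : IsPullback a b f g := h0.flip.paste_horiz h1.flip
  let J := ULift.{u} (Fin m)
  let e' : J → T := e ∘ ULift.down
  have he' : CompleteOrthogonalIdempotents e' := (CompleteOrthogonalIdempotents.equiv Equiv.ulift).2 he.1
  let B : J → CommRingCat.{u} := fun j => CommRingCat.of (T ⧸ Ideal.span {1 - e' j})
  let pi : CommRingCat.of T ⟶ CommRingCat.of (Π j, B j) :=
    CommRingCat.ofHom (RingHom.pi fun j => Ideal.Quotient.mk (Ideal.span {1 - e' j}))
  have : IsIso pi := (ConcreteCategory.isIso_iff_bijective _).2 he'.bijective_pi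
  let V : Fin m → Scheme.{u} := fun j => Spec (B ⟨j⟩)
  have i1 : IsIso (sigmaSpec B) := inferInstance
  let r0 : (∐ V) ≅ ∐ fun j => Spec (B j) := (Sigma.reindex (Equiv.ulift.{u} : J ≃ Fin m) V).symm
  let E : (∐ V) ≅ pullback f g := r0 ≪≫ asIso (sigmaSpec B ≫ Spec.map pi) ≪≫ h2.isoPullback
  refine ⟨_, g, hg, u, hu, m, V, fun j => Sigma.ι V j ≫ E.hom ≫ pullback.snd f g,
    fun j => ?_, E, fun j => rfl⟩
  have e0 : Sigma.ι V j ≫ r0.hom = Sigma.ι (fun j => Spec (B j)) ⟨j⟩ := by
    rw [← Iso.eq_comp_inv]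
    exact (Sigma.ι_reindex_hom (Equiv.ulift.{u} : J ≃ Fin m) V ⟨j⟩).symm
  have e1 : Sigma.ι V j ≫ E.hom ≫ pullback.snd f g =
      Spec.map (CommRingCat.ofHom (algebraMap R' (T ⧸ Ideal.span {1 - e j}))) := by
    simp only [E, Iso.trans_hom, asIso_hom, Category.assoc, IsPullback.isoPullback_hom_snd]
    rw [reassoc_of% e0, ι_sigmaSpec_assoc, ← Spec.map_comp_assoc, ← Spec.map_comp]
    congr 1
  show IsClosedImmersion (Sigma.ι V j ≫ E.hom ≫ pullback.snd f g)
  rw [e1]
  refine IsClosedImmersion.spec_of_surjective _ fun z => ?_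
  obtain ⟨t, rfl⟩ := Ideal.Quotient.mk_surjective z
  obtain ⟨r, hr⟩ := he.2 j t
  refine ⟨r, ?_⟩
  show Ideal.Quotient.mk _ (algebraMap R' T r) = _
  rw [Ideal.Quotient.eq, Ideal.mem_span_singleton]
  exact ⟨algebraMap R' T r - t, by linear_combination -hr⟩

end Groth.Agent.S0096
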