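import Groth.Statements.S0098
import Groth.Agent.S0097
import Mathlib.AlgebraicGeometry.Morphisms.FlatMono

set_option autoImplicit false
open CategoryTheory CategoryTheory.Limits AlgebraicGeometry Opposite
universe u
open EtBase

namespace Groth.Agent.S0098

/-- A finite étale morphism whose fibre over a point s is a single point with the same residue field is
an isomorphism over an open neighbourhood of s. -/
theorem result {X S : Scheme.{u}} (f : X ⟶ S) [IsFinite f] [AlgebraicGeometry.Etale f] (s : S) (x : X)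
    (hx : f.base ⁻¹' {s} = {x}) (hκ : Function.Surjective (f.residueFieldMap x)) :
    ∃ U : S.Opens, s ∈ U ∧ IsIso (f ∣_ U) := by
  obtain ⟨U, hsU, hU⟩ := Groth.Agent.S0097.result f s x hx hκ
  have hxs : f x = s := by
    have : x ∈ f.base ⁻¹' {s} := by rw [hx]; rfl
    exact this
  have : Etale (f ∣_ U) := IsZariskiLocalAtTarget.restrict (P := @Etale) ‹Etale f› U
  let O : (U : Scheme.{u}).Opens := ⟨Set.range (f ∣_ U), (f ∣_ U).isOpenMap.isOpen_range⟩
  have hO : IsOpenImmersion (f ∣_ U) := IsOpenImmersion.of_flat_of_mono _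
  refine ⟨U.ι ''ᵁ O, ?_, ?_⟩
  · refine ⟨⟨s, hsU⟩, ⟨⟨x, show f x ∈ U from hxs ▸ hsU⟩, Subtype.ext ?_⟩, rfl⟩
    exact (morphismRestrict_base_coe f U _).trans hxs
  · have : IsIso ((f ∣_ U) ∣_ O) := by
      have : IsOpenImmersion ((f ∣_ U) ∣_ O) := IsZariskiLocalAtTarget.restrict (P := @IsOpenImmersion) hO O
      have : Surjective ((f ∣_ U) ∣_ O) := ⟨fun o => by
        obtain ⟨z, hz⟩ := o.2
        refine ⟨⟨z, show (f ∣_ U) z ∈ O from ⟨z, rfl⟩⟩, Subtype.ext ?_⟩
        exact (morphismRestrict_base_coe (f ∣_ U) O _).trans hz⟩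
      exact isIso_of_isOpenImmersion_of_opensRange_eq_top _ (TopologicalSpace.Opens.ext
        (Set.range_eq_univ.2 (Scheme.Hom.surjective _)))
    exact ((MorphismProperty.isomorphisms Scheme).arrow_mk_iso_iff (morphismRestrictRestrict f U O)).1 this

end Groth.Agent.S0098
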