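import Groth.Statements.S0102
import Groth.Agent.Lib.EtSite.Pull
import Groth.Agent.Lib.EtSite.Fiber

set_option autoImplicit false
open CategoryTheory CategoryTheory.Limits AlgebraicGeometry Opposite
universe u
open EtBase

namespace Groth.Agent.S0102

/-- A section of an abelian étale sheaf over an étale scheme U vanishes on pullback to an étale V → U
exactly when V maps into a certain largest open subset of U. -/
theorem result {S : Scheme.{u}} (F : EtCoh.Ab S) (U : S.Etale) (σ : EtCoh.sect F U) :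
    ∃ W : U.left.Opens, ∀ (V : S.Etale) (φ : V ⟶ U),
      F.obj.map φ.op σ = 0 ↔ Set.range φ.left.base ⊆ (W : Set U.left) := by
  classical
  let W : U.left.Opens := ⟨{u | ∃ (V : S.Etale) (φ : V ⟶ U) (v : V.left),
      F.obj.map φ.op σ = 0 ∧ φ.left.base v = u}, isOpen_iff_forall_mem_open.2 fun u hu => by
    obtain ⟨V, φ, v, hφ, rfl⟩ := hu
    exact ⟨Set.range φ.left.base, by rintro _ ⟨w, rfl⟩; exact ⟨V, φ, w, hφ, rfl⟩,
      Groth.Agent.Lib.EtSite.Fiber.isOpen_range_left φ, v, rfl⟩⟩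
  refine ⟨W, fun V φ => ⟨fun h => ?_, fun h => ?_⟩⟩
  · rintro _ ⟨v, rfl⟩
    exact ⟨V, φ, v, h, rfl⟩
  · refine Groth.Agent.Lib.EtSite.Stalk.sections_ext F _ _ fun v => ?_
    obtain ⟨V', φ', v', hφ', hv'⟩ := h ⟨v, rfl⟩
    obtain ⟨T, a, b, t, hab, ht⟩ := Groth.Agent.Lib.EtSite.Fiber.exists_refine φ φ' v v' hv'.symm
    refine ⟨T, a, ?_, t, ht⟩
    rw [map_zero, ← ConcreteCategory.comp_apply, ← Functor.map_comp, ← op_comp, hab, op_comp,
      Functor.map_comp, ConcreteCategory.comp_apply, hφ', map_zero]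

end Groth.Agent.S0102
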