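import Groth.Statements.S0103
import Groth.Agent.Lib.EtSite.ArtinSchreier
import Groth.Agent.Lib.EtQCoh.GaAssoc
import Mathlib.Algebra.Homology.DerivedCategory.Ext.ExactSequences

set_option autoImplicit false
open CategoryTheory CategoryTheory.Limits AlgebraicGeometry Opposite
universe u
open EtBase

namespace Groth.Agent.S0103

/-- Let S be an affine scheme whose ring of global sections has prime characteristic p. Then the étale
cohomology H^q(S, Z/p) with constant Z/p coefficients vanishes for every q ≥ 2. -/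
theorem result (S : Scheme.{u}) [IsAffine S] (p : ℕ) [Fact p.Prime] [CharP Γ(S, ⊤) p]
    (q : ℕ) (hq : 2 ≤ q) : Subsingleton (EtCoh.H S (EtCoh.const S (ZMod p)) q) := by
  have h0 : (p : Γ(S, ⊤)) = 0 := CharP.cast_eq_zero _ p
  obtain ⟨r, rfl⟩ : ∃ r, q = r + 2 := ⟨q - 2, by omega⟩
  have h1 := Groth.Agent.Lib.EtQCoh.GaAssoc.subsingleton_H_Ga (X := S) (r + 2) (by omega)
  have h2 := Groth.Agent.Lib.EtQCoh.GaAssoc.subsingleton_H_Ga (X := S) (r + 1) (by omega)
  refine subsingleton_of_forall_eq 0 fun x => ?_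
  obtain ⟨y, rfl⟩ := Abelian.Ext.covariant_sequence_exact₁ _
    (Groth.Agent.Lib.EtSite.ArtinSchreier.shortExact (S := S) p h0) x (h1.elim _ _)
    (n₀ := r + 1) rfl
  rw [h2.elim y 0, Abelian.Ext.zero_comp]

end Groth.Agent.S0103
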