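import Groth.Statements.S0105
import Groth.Agent.H88.EtMod.AbBridge

set_option autoImplicit false
open CategoryTheory CategoryTheory.Limits AlgebraicGeometry Opposite
universe u
open EtBase

namespace Groth.Agent.S0105

open Groth.Agent.H88.EtMod

/-- On a connected scheme X, a finite locally constant abelian sheaf F on the small étale site is, étale
locally, constant with one and the same finite group everywhere: there are a finite abelian group M
and an étale covering (U_i) of X such that the restriction of F to every U_i is isomorphic to the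
constant sheaf with value M. (The published statement covers arbitrary locally constant sheaves of
modules; stated here for finite locally constant abelian sheaves.) -/
theorem result {X : Scheme.{u}} [ConnectedSpace X] (F : EtCoh.Ab X) (h : EtCoh.IsFiniteLocallyConstant F) :
    ∃ (M : Type) (_ : AddCommGroup M) (_ : Finite M) (ι : Type u) (U : ι → X.Etale), EtCoh.Covers U ∧
      ∀ i, Nonempty (EtCoh.restr F (U i) ≅
        (constantSheaf (X.smallEtaleTopology.over (U i)) AddCommGrpCat.{u + 1}).obj
          (AddCommGrpCat.of (ULift.{u + 1} M))) := by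
  classical
  obtain ⟨F', ⟨e⟩⟩ := AbBridge.exists_lift F
  have hF := (AbBridge.isFiniteLocallyConstant_iff F').1 (AbBridge.isFiniteLC_of_iso e.symm h)
  choose U hU N i1 i2 i3 φ hφ using hF
  let _ := i1
  let _ := i2
  have := i3
  have hstalk : ∀ (x : X) (z : X), z ∈ Set.range (U x).hom.base →
      Nonempty (N x ≃+ ↥((Scheme.pointSmallEtale (Groth.Agent.Lib.EtSite.Basic.geomPoint X z)).sheafFiber.obj F')) := by
    rintro x z ⟨v, hv⟩
    obtain ⟨p, -⟩ := Groth.Agent.Lib.EtSite.Basic.exists_fiber
      (Groth.Agent.Lib.EtSite.Basic.geomPoint X z) (U x) v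
      (hv.trans (Groth.Agent.Lib.EtSite.Basic.geomPoint_apply z default).symm)
    exact ⟨(LinearEquiv.ofBijective ((LCChart.germ F' (U x) _ p).comp (φ x)) (hφ x _ _ p)).toAddEquiv⟩
  obtain ⟨x₀⟩ := (inferInstance : Nonempty X)
  have hall : ∀ x : X, Nonempty (N x ≃+ N x₀) := by
    have hopen : ∀ x : X, IsOpen (Set.range (U x).hom.base) := fun x => by
      have : Etale (U x).hom := (U x).prop
      exact (U x).hom.isOpenMap.isOpen_range
    have hcl : IsClopen {x : X | Nonempty (N x ≃+ N x₀)} := by
      have hiff : ∀ x z : X, z ∈ Set.range (U x).hom.base → Nonempty (N x ≃+ N z) := fun x z hz => by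
        obtain ⟨e₁⟩ := hstalk x z hz
        obtain ⟨v, hv⟩ := hU z
        obtain ⟨e₂⟩ := hstalk z z ⟨v, hv⟩
        exact ⟨e₁.trans e₂.symm⟩
      constructor
      · rw [← isOpen_compl_iff, isOpen_iff_forall_mem_open]
        intro x hx
        refine ⟨_, fun z hz hz' => hx ?_, hopen x, hU x⟩
        obtain ⟨a⟩ := hiff x z hz
        obtain ⟨b⟩ := hz'
        exact ⟨a.trans b⟩
      · rw [isOpen_iff_forall_mem_open]
        rintro x ⟨b⟩
        refine ⟨_, fun z hz => ?_, hopen x, hU x⟩
        obtain ⟨a⟩ := hiff x z hz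
        exact ⟨a.symm.trans b⟩
    intro x
    have := hcl.eq_univ ⟨x₀, ⟨AddEquiv.refl _⟩⟩
    exact Set.eq_univ_iff_forall.1 this x
  obtain ⟨_⟩ := nonempty_fintype (N x₀)
  have : Small.{0} (N x₀) := Countable.toSmall _
  refine ⟨Shrink.{0} (N x₀), inferInstance, Finite.of_equiv _ (equivShrink.{0} (N x₀)), X, U,
    fun x => ⟨x, hU x⟩, fun x => ?_⟩
  have : Module.Finite AbBridge.Zl.{u} (N x) := Module.Finite.of_finite
  obtain ⟨ε⟩ := (hφ x).nonempty_iso
  obtain ⟨a⟩ := hall x
  exact ⟨((X.smallEtaleTopology.overPullback _ (U x)).mapIso e).symm ≪≫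
    (sheafCompose (X.smallEtaleTopology.over (U x)) AbBridge.fgt.{u}).mapIso ε ≪≫
      AbBridge.constIso (U x) _ ≪≫ (constantSheaf _ _).mapIso (AddEquiv.toAddCommGrpIso
        ((a.trans (Shrink.addEquiv.{0} (α := N x₀)).symm).trans AddEquiv.ulift.symm))⟩

end Groth.Agent.S0105
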