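import Groth.Statements.S0117
import Groth.Agent.H95.TopInv.Hom

set_option autoImplicit false
open CategoryTheory CategoryTheory.Limits AlgebraicGeometry Opposite
universe u
open EtBase

namespace Groth.Agent.S0117

/-- Topological invariance of étale morphisms, first-order form — for X étale over S and any S-scheme Y,
base change to a closed subscheme S₀ with the same underlying space gives a bijection between
S-morphisms Y → X and S₀-morphisms of the base changes. -/
theorem result {S S₀ : Scheme.{u}} (i : S₀ ⟶ S) [IsClosedImmersion i] [Surjective i]
    (X Y : Over S) [AlgebraicGeometry.Etale X.hom] :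
    Function.Bijective (fun φ : Y ⟶ X => (Over.pullback i).map φ) := by
  haveI : IsClosedImmersion (pullback.fst Y.hom i) := inferInstance
  haveI : Surjective (pullback.fst Y.hom i) := inferInstance
  refine ⟨fun φ ψ h => ?_, fun χ => ?_⟩
  · refine Over.OverMorphism.ext (H95.TopInv.hom_ext X.hom (pullback.fst Y.hom i) ?_ ?_)
    · have h2 := congrArg (fun m : (Over.pullback i).obj Y ⟶ (Over.pullback i).obj X =>
        m.left ≫ pullback.fst X.hom i) h
      exact (pullback.lift_fst _ _ _).symm.trans (h2.trans (pullback.lift_fst _ _ _))
    · rw [Over.w φ, Over.w ψ]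
  · obtain ⟨l, h1, h2⟩ := H95.TopInv.exists_hom X.hom (pullback.fst Y.hom i)
      (χ.left ≫ pullback.fst X.hom i) Y.hom (by
        rw [Category.assoc, pullback.condition, pullback.condition (f := X.hom) (g := i)]
        exact (congrArg (· ≫ i) (Over.w χ)).symm.trans (Category.assoc _ _ _))
    refine ⟨Over.homMk l h2, Over.OverMorphism.ext ?_⟩
    apply pullback.hom_ext
    · exact (pullback.lift_fst _ _ _).trans h1
    · exact (pullback.lift_snd _ _ _).trans (Over.w χ).symm

end Groth.Agent.S0117
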