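import Groth.Statements.S0133
import Groth.Agent.H88.EtMod.PBCExtZero
import Groth.Agent.Lib.EtJ.Basic

set_option autoImplicit false
universe u
open CategoryTheory CategoryTheory.Limits AlgebraicGeometry Opposite
open EtPBC

namespace Groth.Agent.S0133

/-- (2): for j : U -> X etale with U and X quasi-compact and quasi-separated and M a finite abelian
group, j_! M is a constructible abelian sheaf on X_et. -/
theorem result (X : Scheme.{u}) [CompactSpace X] [QuasiSeparatedSpace X]
    (U : X.Etale) [CompactSpace U.left] [QuasiSeparatedSpace U.left]
    (M : Type) [AddCommGroup M] [Finite M] :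
    EtPBC.IsConstructible (EtPBC.extZeroConst U M) := by
  haveI : Etale U.hom := U.prop
  exact Groth.Agent.H88.EtMod.PBCExtZero.isConstructible_extZeroConst U M

end Groth.Agent.S0133
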