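import Groth.Statements.S0149
import Groth.Agent.Lib.Cont50.Push
import Groth.Agent.H61.FieldCoh.PushInt
import Groth.Agent.Lib.EtJ.PullExact
import Groth.Agent.H88.EtMod.TorsionCoh
import Mathlib.CategoryTheory.Presentable.Directed

set_option autoImplicit false
universe u
open CategoryTheory CategoryTheory.Limits AlgebraicGeometry Opposite
open EtPBC

set_option linter.style.haveILetI false
set_option backward.isDefEq.respectTransparency false

namespace Groth.Agent.S0149

/-- If X = lim X_i is a cofiltered limit of quasi-compact quasi-separated schemes with affine transition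
morphisms and cd(X_i) <= d for all i, then cd(X) <= d. -/
theorem result {I : Type u} [SmallCategory I] [IsCofiltered I] (D : I ⥤ Scheme.{u})
    [∀ {i j : I} (a : i ⟶ j), IsAffineHom (D.map a)]
    [∀ i, CompactSpace (D.obj i)] [∀ i, QuasiSeparatedSpace (D.obj i)]
    (c : Cone D) (hc : IsLimit c) (d : ℕ) (h : ∀ i, EtCoh.CohDimLE (D.obj i) d) :
    EtCoh.CohDimLE c.pt d := by
  obtain ⟨α, _, _, _, Φ, hΦ⟩ := IsFiltered.exists_directed Iᵒᵖ
  let L : αᵒᵖ ⥤ I := Φ.leftOp
  haveI : L.Initial := inferInstance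
  haveI : IsFiltered α := inferInstance
  haveI : IsCofiltered αᵒᵖ := inferInstance
  let c' := c.whisker L
  have hc' : IsLimit c' := (Functor.Initial.isLimitWhiskerEquiv L c).symm hc
  haveI : ∀ {a b : αᵒᵖ} (f : a ⟶ b), IsAffineHom ((L ⋙ D).map f) :=
    fun f => inferInstanceAs (IsAffineHom (D.map (L.map f)))
  haveI : ∀ a, CompactSpace ↥((L ⋙ D).obj a) := fun a => inferInstanceAs (CompactSpace ↥(D.obj (L.obj a)))
  haveI : ∀ a, QuasiSeparatedSpace ↥((L ⋙ D).obj a) :=
    fun a => inferInstanceAs (QuasiSeparatedSpace ↥(D.obj (L.obj a)))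
  intro F hF q hq
  refine subsingleton_of_forall_eq 0 fun x => ?_
  obtain ⟨j, y, rfl⟩ := (Lib.Cont50.Push.cont (c := c') hc' q F).1 x
  haveI : IsAffineHom (c'.π.app j) := Lib.Lim.Basic.isAffineHom_π hc' j
  haveI : CompactSpace ↥c.pt := (Lib.Lim.Basic.compactSpace_pt (c := c') hc' j : CompactSpace ↥c'.pt)
  haveI : QuasiSeparatedSpace ↥c.pt := (Lib.Lim.Basic.quasiSeparatedSpace_pt (c := c') hc' j : QuasiSeparatedSpace ↥c'.pt)
  haveI : CompactSpace ↥c'.pt := ‹CompactSpace ↥c.pt›
  haveI : QuasiSeparatedSpace ↥c'.pt := ‹QuasiSeparatedSpace ↥c.pt›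
  haveI : PreservesFiniteLimits (EtCoh.push (c'.π.app j)) :=
    ((EtCoh.pullPushAdj (c'.π.app j)).rightAdjoint_preservesLimits :
      PreservesLimitsOfSize.{0, 0} (EtCoh.push (c'.π.app j))).preservesFiniteLimits
  have hT : EtCoh.IsTorsion ((EtCoh.push (c'.π.app j)).obj F) :=
    H88.EtMod.TorsionCoh.isTorsion_of_iso ((EtCoh.push (c'.π.app j)).rightDerivedZeroIsoSelf.app F)
      (H88.EtMod.TorsionCoh.isTorsion_rpush (c'.π.app j) F hF 0)
  have hy : y = 0 := @Subsingleton.elim _ (h (L.obj j) _ hT q hq) y 0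
  exact (congrArg _ hy).trans (map_zero _)

end Groth.Agent.S0149
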