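import Groth.Statements.S0148
import Groth.Agent.H61.CdTrans.Main
import Groth.Agent.S0149

set_option autoImplicit false
universe u
open CategoryTheory CategoryTheory.Limits AlgebraicGeometry Opposite
open EtPBC

namespace Groth.Agent.S0148

/-- For a field extension L/K with cd(K) <= e and transcendence degree <= n one has cd(L) <= e + n. -/
theorem result (K L : Type u) [Field K] [Field L] [Algebra K L]
    (e n : ℕ) (hK : EtCoh.CohDimLE (Spec (CommRingCat.of K)) e) (htr : Algebra.trdeg K L ≤ n) :
    EtCoh.CohDimLE (Spec (CommRingCat.of L)) (e + n) := by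
  haveI : IsFiltered (H61.CdTrans.FGSub K L) := isFiltered_of_directed_le_nonempty (H61.CdTrans.FGSub K L)
  obtain ⟨hcol⟩ := H61.CdTrans.nonempty_isColimit_fgCocone K L
  let D : (H61.CdTrans.FGSub K L)ᵒᵖ ⥤ Scheme.{u} := (H61.CdTrans.fgFunctor K L).op ⋙ Scheme.Spec
  haveI : ∀ {i j : (H61.CdTrans.FGSub K L)ᵒᵖ} (a : i ⟶ j), IsAffineHom (D.map a) := fun a =>
    inferInstanceAs (IsAffineHom (Spec.map _))
  haveI : ∀ i, CompactSpace (D.obj i) := fun i => inferInstanceAs (CompactSpace (Spec _))
  haveI : ∀ i, QuasiSeparatedSpace (D.obj i) := fun i => inferInstanceAs (QuasiSeparatedSpace (Spec _))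
  refine Groth.Agent.S0149.result D _ (isLimitOfPreserves Scheme.Spec hcol.op) (e + n) fun i => ?_
  let E := i.unop.1
  obtain ⟨t, ht⟩ := i.unop.2
  intro F hF q hq
  refine subsingleton_of_forall_eq 0 fun x => ?_
  obtain ⟨G, ι, m, x', hm, hG, rfl⟩ := H61.CdTrans.exists_killed (K := E) F hF q x
  have hb : H61.CdTrans.Bound (H61.FieldCoh.S K) m e := fun G hG q hq y =>
    @Subsingleton.elim _ (hK G (H61.FieldCoh.isTorsion_of_nsmul_id hm hG) q hq) y 0
  have hfg : ∃ s : Finset E, IntermediateField.adjoin K (s : Set E) = ⊤ := by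
    classical
    refine ⟨t.preimage (Subtype.val : E → L) Subtype.val_injective.injOn, ?_⟩
    apply IntermediateField.map_injective E.val
    rw [IntermediateField.adjoin_map, ← AlgHom.fieldRange_eq_map, IntermediateField.fieldRange_val,
      Finset.coe_preimage, IntermediateField.coe_val, Set.image_preimage_eq_inter_range,
      Subtype.range_coe_subtype]
    refine Eq.trans ?_ ht
    congr 1
    exact Set.inter_eq_left.2 fun y hy => show y ∈ i.unop.1 from (SetLike.le_def.1 (le_of_eq ht)) (IntermediateField.subset_adjoin K _ hy)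
  rw [H61.CdTrans.bound_fg hfg hm ((trdeg_le_of_injective E.val E.val.injective).trans htr) hb G hG q hq x']
  exact Abelian.Ext.zero_comp ..

end Groth.Agent.S0148
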