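import Groth.Statements.S0155
import Groth.Agent.Lib.PBC50.Stalk

set_option autoImplicit false
universe u
open CategoryTheory CategoryTheory.Limits AlgebraicGeometry Opposite
open EtPBC

namespace Groth.Agent.S0155

/-- Let f : X ⟶ Y be a proper morphism of schemes, ȳ : Spec Ω ⟶ Y a geometric point (Ω a separably
closed field) and F an abelian sheaf on the small étale site of X. Then the stalk (f_* F)_ȳ is
isomorphic to the group of global sections Γ(X_ȳ, F|X_ȳ) of the pullback of F to the geometric fibre
X_ȳ = X ×_Y Spec Ω. The published statement is stronger: it asserts that the canonical map is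
bijective (for sheaves of sets as well); only the existence of an isomorphism of abelian groups is
asserted here. -/
theorem result {X Y : Scheme.{u}} (f : X ⟶ Y) [IsProper f] [EtCoh.BCCont f]
    {Ω : Type u} [Field Ω] [IsSepClosed Ω] (ξ : Spec (CommRingCat.of Ω) ⟶ Y)
    [EtCoh.BCCont (pullback.fst f ξ)] (F : EtCoh.Ab X) :
    Nonempty ((EtCoh.stalk ξ).obj ((EtCoh.push f).obj F) ≅
      ((EtCoh.pull (pullback.fst f ξ)).obj F).obj.obj (op (EtCoh.top (pullback f ξ)))) := by
  have h := IsPullback.of_hasPullback f ξ
  exact ⟨((AddEquiv.ofBijective _ (Groth.Agent.Lib.PBC50.Stalk.bijective_toSect (F := F) h)).trans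
    (Groth.Agent.Lib.EtGerm.Compare.equiv F (Over.mk (pullback.fst f ξ))).symm).toAddCommGrpIso⟩

end Groth.Agent.S0155
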