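import Groth.Statements.S0160
import Groth.Agent.Lib.EtSite.TorsionInj
import Groth.Agent.H88.EtMod.FieldAcy
import Groth.Agent.Lib.PBC50.BC
import Groth.Agent.Lib.CohDelta.AcycHomology
import Groth.Agent.Lib.EtSite.Pull

set_option autoImplicit false
universe u
set_option linter.style.haveILetI false
open CategoryTheory CategoryTheory.Limits AlgebraicGeometry Opposite
open EtPBC

namespace Groth.Agent.S0160

open CategoryTheory.Abelian Groth.Agent.H88.EtMod Groth.Agent.H88.EtMod.ExtColim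
open Groth.Agent.Lib.CohDelta.AcycHomology (epi_map_g)

noncomputable section

/-- Two objects corepresenting the same sections are isomorphic. -/
theorem sect_iso {X : Scheme.{u}} {U : X.Etale} (S T : Sect U) : Nonempty (S.Z ≅ T.Z) := by
  have key : ∀ S T : Sect U, ∃ a : S.Z ⟶ T.Z,
      S.e T.Z (Ext.mk₀ a) = T.e T.Z (Ext.mk₀ (𝟙 T.Z)) := fun S T => by
    obtain ⟨a, ha⟩ := (Ext.mk₀_bijective _ _).2 ((S.e T.Z).symm (T.e T.Z (Ext.mk₀ (𝟙 _))))
    exact ⟨a, by rw [ha, AddEquiv.apply_symm_apply]⟩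
  have inv : ∀ (S T : Sect U) (a : S.Z ⟶ T.Z) (b : T.Z ⟶ S.Z),
      S.e T.Z (Ext.mk₀ a) = T.e T.Z (Ext.mk₀ (𝟙 T.Z)) →
      T.e S.Z (Ext.mk₀ b) = S.e S.Z (Ext.mk₀ (𝟙 S.Z)) → a ≫ b = 𝟙 _ := fun S T a b ha hb => by
    apply (Ext.mk₀_bijective _ _).1
    apply (S.e S.Z).injective
    rw [← Ext.mk₀_comp_mk₀, ← S.natural, ha, T.natural, Ext.mk₀_comp_mk₀, Category.id_comp, hb]
  obtain ⟨a, ha⟩ := key S T
  obtain ⟨b, hb⟩ := key T S
  exact ⟨⟨a, b, inv S T a b ha hb, inv T S b a hb ha⟩⟩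

/-- Transport along an isomorphism of étale schemes. -/
def sectOfIso {X : Scheme.{u}} {U V : X.Etale} (i : U ≅ V) (S : Sect U) : Sect V where
  Z := S.Z
  e F := (S.e F).trans (F.obj.mapIso i.op).symm.addCommGroupIsoToAddEquiv
  natural {F G} φ x := by
    change φ.hom.app (op V) (F.obj.map i.inv.op (S.e F x)) = G.obj.map i.inv.op (S.e G _)
    rw [← S.natural]
    exact NatTrans.naturality_apply φ.hom i.inv.op _

/-- No higher classes over quasi-compact quasi-separated étale schemes. -/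
def Ac {X : Scheme.{u}} (F : EtCoh.Ab X) : Prop :=
  ∀ (W : X.Etale), CompactSpace W.left → QuasiSeparatedSpace W.left →
    ∀ (n : ℕ) (e : Ext (local' W).Z F (n + 1)), e = 0

theorem isLTorsion_univ {X : Scheme.{u}} {F : EtCoh.Ab X} (h : EtCoh.IsTorsion F) :
    EtAcyc.IsLTorsion Set.univ F := fun U s x => by
  obtain ⟨V, g, hv, hg⟩ := h U s x
  obtain ⟨m, hm, h0⟩ := isOfFinAddOrder_iff_nsmul_eq_zero.1 hg
  exact ⟨V, g, m, hv, ⟨hm, fun _ _ _ => trivial⟩, h0⟩

theorem isTorsion_of_univ {X : Scheme.{u}} {F : EtCoh.Ab X} (h : EtAcyc.IsLTorsion Set.univ F) :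
    EtCoh.IsTorsion F := fun U s x => by
  obtain ⟨V, g, m, hv, hm, h0⟩ := h U s x
  exact ⟨V, g, hv, isOfFinAddOrder_iff_nsmul_eq_zero.2 ⟨m, hm.1, h0⟩⟩

theorem exists_ses {X : Scheme.{u}} (F : EtCoh.Ab X) (hF : EtCoh.IsTorsion F) :
    ∃ S : ShortComplex (EtCoh.Ab X), S.ShortExact ∧ S.X₁ = F ∧
      EtCoh.IsTorsion S.X₂ ∧ EtCoh.IsTorsion S.X₃ ∧ Ac S.X₂ := by
  obtain ⟨G, u, hu, hG, hQ, hH⟩ :=
    Groth.Agent.Lib.EtSite.TorsionInj.exists_embedding Set.univ F (isLTorsion_univ hF)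
  refine ⟨ShortComplex.mk u (cokernel.π u) (cokernel.condition u), ?_, rfl, isTorsion_of_univ hG,
    isTorsion_of_univ hQ, ?_⟩
  · exact { exact := ShortComplex.exact_of_g_is_cokernel _ (cokernelIsCokernel u) }
  intro W _ _ n e
  haveI : Etale W.hom := W.prop
  let ι : Groth.Agent.H61.FieldCoh.obj W.hom ≅ W := MorphismProperty.Over.isoMk (Iso.refl _) (by
    change 𝟙 W.left ≫ W.hom = 𝟙 W.left ≫ W.hom; rfl)
  obtain ⟨i⟩ := sect_iso (sectOfIso ι (Groth.Agent.Lib.EtSite.TorsionInj.sect W.hom)) (local' W)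
  haveI : Subsingleton (Ext.{u + 1} (Groth.Agent.H61.FieldCoh.free W.hom) G (n + 1)) :=
    @Equiv.subsingleton _ _ (Groth.Agent.H61.FieldCoh.Φ W.hom G (n + 1)).toEquiv
      (hH W.left W.hom n)
  have h0 : (Ext.mk₀ i.hom).comp e (zero_add _) = 0 := Subsingleton.elim
    (α := Ext.{u + 1} (Groth.Agent.H61.FieldCoh.free W.hom) G (n + 1)) _ _
  have := congrArg (fun y => (Ext.mk₀ i.inv).comp y (zero_add (n + 1))) h0
  simpa using this

theorem isZero_rpush_of_ac {X Y : Scheme.{u}} (f : X ⟶ Y) [QuasiCompact f] [QuasiSeparated f]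
    [EtCoh.BCCont f] {F : EtCoh.Ab X} (hF : Ac F) (n : ℕ) :
    IsZero ((EtCoh.Rpush f (n + 1)).obj F) :=
  FieldAcy.isZero_rpush_succ f F n fun W hW e => by
    haveI := hW
    obtain ⟨h₁, h₂⟩ := TorsionCoh.qcqs_bc f W
    exact hF _ h₁ h₂ n e

theorem qcqs_bc' {X Y : Scheme.{u}} (f : X ⟶ Y) [QuasiCompact f] [QuasiSeparated f]
    (V : Y.Etale) [CompactSpace V.left] [QuasiSeparatedSpace V.left] :
    CompactSpace ((EtCoh.bc f).obj V).left ∧ QuasiSeparatedSpace ((EtCoh.bc f).obj V).left := by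
  let v : V.left ⟶ Y := V.hom
  haveI := MorphismProperty.pullback_fst (P := @QuasiCompact) v f ‹QuasiCompact f›
  haveI := MorphismProperty.pullback_fst (P := @QuasiSeparated) v f ‹QuasiSeparated f›
  haveI : CompactSpace ↥(pullback v f) := QuasiCompact.compactSpace_of_compactSpace (pullback.fst v f)
  haveI : QuasiSeparatedSpace ↥(pullback v f) :=
    quasiSeparatedSpace_of_quasiSeparated (pullback.fst v f)
  exact ⟨‹CompactSpace ↥(pullback v f)›, ‹QuasiSeparatedSpace ↥(pullback v f)›⟩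

theorem ac_push {X Y : Scheme.{u}} (f : X ⟶ Y) [QuasiCompact f] [QuasiSeparated f]
    [EtCoh.BCCont f] {F : EtCoh.Ab X} (hF : Ac F) : Ac ((EtCoh.push f).obj F) := by
  haveI : PreservesLimitsOfSize.{0, 0} (EtCoh.push f) :=
    (EtCoh.pullPushAdj f).rightAdjoint_preservesLimits
  intro W hW₁ hW₂ n
  haveI := hW₁
  haveI := hW₂
  obtain ⟨h₁, h₂⟩ := qcqs_bc' f W
  induction n generalizing F with
  | zero =>
    intro e
    let S := ShortComplex.mk (Injective.ι F) (cokernel.π (Injective.ι F)) (cokernel.condition _)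
    have hS : S.ShortExact := { exact := ShortComplex.exact_of_g_is_cokernel _ (cokernelIsCokernel _) }
    haveI : Epi ((EtCoh.push f).map S.g) := epi_map_g _ hS (isZero_rpush_of_ac f hF 0)
    have hS' : (S.map (EtCoh.push f)).ShortExact :=
      { exact := hS.exact.map_of_mono_of_preservesKernel _ hS.mono_f inferInstance
        mono_f := inferInstanceAs (Mono ((EtCoh.push f).map (Injective.ι F)))
        epi_g := ‹_› }
    haveI : Injective (S.map (EtCoh.push f)).X₂ :=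
      inferInstanceAs (Injective ((EtCoh.push f).obj (Injective.under F)))
    obtain ⟨y, rfl⟩ := Ext.covariant_sequence_exact₁ (local' W).Z hS' e
      (Ext.eq_zero_of_injective _) (n₀ := 0) (zero_add 1)
    let U := (EtCoh.bc f).obj W
    let s : S.X₃.obj.obj (op U) := (local' W).e _ y
    have h0 : (((local' U).e S.X₃).symm s).comp hS.extClass (zero_add 1) = 0 := hF U h₁ h₂ 0 _
    obtain ⟨x, hx⟩ := Ext.covariant_sequence_exact₃ (local' U).Z hS _ (zero_add 1) h0
    let t : ((EtCoh.push f).obj S.X₂).obj.obj (op W) := (local' U).e _ x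
    have ht : ((EtCoh.push f).map S.g).hom.app (op W) t = s := by
      change S.g.hom.app (op U) ((local' U).e _ x) = s
      rw [(local' U).natural, hx, AddEquiv.apply_symm_apply]
    have hy : y = (((local' W).e _).symm t).comp (Ext.mk₀ (S.map (EtCoh.push f)).g) (add_zero 0) := by
      apply ((local' W).e _).injective
      rw [← (local' W).natural, AddEquiv.apply_symm_apply]
      exact ht.symm
    rw [hy]
    erw [Ext.comp_assoc_of_second_deg_zero, hS'.comp_extClass, Ext.comp_zero]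
    rfl
  | succ n ih =>
    intro e
    let S := ShortComplex.mk (Injective.ι F) (cokernel.π (Injective.ι F)) (cokernel.condition _)
    have hS : S.ShortExact := { exact := ShortComplex.exact_of_g_is_cokernel _ (cokernelIsCokernel _) }
    haveI : Epi ((EtCoh.push f).map S.g) := epi_map_g _ hS (isZero_rpush_of_ac f hF 0)
    have hS' : (S.map (EtCoh.push f)).ShortExact :=
      { exact := hS.exact.map_of_mono_of_preservesKernel _ hS.mono_f inferInstance
        mono_f := inferInstanceAs (Mono ((EtCoh.push f).map (Injective.ι F)))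
        epi_g := ‹_› }
    haveI : Injective (S.map (EtCoh.push f)).X₂ :=
      inferInstanceAs (Injective ((EtCoh.push f).obj (Injective.under F)))
    obtain ⟨y, rfl⟩ := Ext.covariant_sequence_exact₁ (local' W).Z hS' e
      (Ext.eq_zero_of_injective _) (n₀ := n + 1) rfl
    have hQ : Ac S.X₃ := fun V hV₁ hV₂ m z => by
      obtain ⟨x, hx⟩ := Ext.covariant_sequence_exact₃ (local' V).Z hS z (n₁ := m + 2) rfl
        (hF V hV₁ hV₂ (m + 1) _)
      rw [← hx, Ext.eq_zero_of_injective x, Ext.zero_comp]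
    rw [show y = 0 from ih hQ y, Ext.zero_comp]
    rfl

variable {X Y Z : Scheme.{u}}

/-- The composite of acyclic direct images is acyclic. -/
theorem isZero_rpush_comp (f : X ⟶ Y) (g : Y ⟶ Z)
    [EtCoh.BCCont f] [EtCoh.BCCont g] [EtCoh.BCCont (f ≫ g)] (F : EtCoh.Ab X)
    (hf : ∀ n, IsZero ((EtCoh.Rpush f (n + 1)).obj F))
    (hg : ∀ n, IsZero ((EtCoh.Rpush g (n + 1)).obj ((EtCoh.push f).obj F))) (n : ℕ) :
    IsZero ((EtCoh.Rpush (f ≫ g) (n + 1)).obj F) := by
  haveI : PreservesLimitsOfSize.{0, 0} (EtCoh.push f) :=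
    (EtCoh.pullPushAdj f).rightAdjoint_preservesLimits
  haveI : PreservesLimitsOfSize.{0, 0} (EtCoh.push g) :=
    (EtCoh.pullPushAdj g).rightAdjoint_preservesLimits
  haveI : PreservesLimitsOfSize.{0, 0} (EtCoh.push (f ≫ g)) :=
    (EtCoh.pullPushAdj (f ≫ g)).rightAdjoint_preservesLimits
  obtain ⟨Δf⟩ := Groth.Agent.Lib.RDer.Connecting.nonempty_derivedLES (EtCoh.push f)
  obtain ⟨Δg⟩ := Groth.Agent.Lib.RDer.Connecting.nonempty_derivedLES (EtCoh.push g)
  obtain ⟨Δ⟩ := Groth.Agent.Lib.RDer.Connecting.nonempty_derivedLES (EtCoh.push (f ≫ g))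
  induction n generalizing F with
  | zero =>
    let S := ShortComplex.mk (Injective.ι F) (cokernel.π (Injective.ι F)) (cokernel.condition _)
    have hS : S.ShortExact := { exact := ShortComplex.exact_of_g_is_cokernel _ (cokernelIsCokernel _) }
    haveI : Injective S.X₂ := inferInstanceAs (Injective (Injective.under F))
    have hI : ∀ m, IsZero ((EtCoh.Rpush (f ≫ g) (m + 1)).obj S.X₂) := fun m =>
      (EtCoh.push (f ≫ g)).isZero_rightDerived_obj_injective_succ m _
    haveI : Epi ((EtCoh.push f).map S.g) := epi_map_g _ hS (hf 0)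
    have hS' : (S.map (EtCoh.push f)).ShortExact :=
      { exact := hS.exact.map_of_mono_of_preservesKernel _ hS.mono_f inferInstance
        mono_f := inferInstanceAs (Mono ((EtCoh.push f).map (Injective.ι F)))
        epi_g := ‹_› }
    haveI : Epi ((EtCoh.push g).map ((EtCoh.push f).map S.g)) := epi_map_g _ hS' (hg 0)
    haveI : Epi ((EtCoh.push (f ≫ g)).map S.g) := by
      rw [show (EtCoh.push (f ≫ g)).map S.g = (EtCoh.pushComp g f).inv.app S.X₂ ≫
        (EtCoh.push g).map ((EtCoh.push f).map S.g) ≫ (EtCoh.pushComp g f).hom.app S.X₃ by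
          rw [← Functor.comp_map, (EtCoh.pushComp g f).hom.naturality, Iso.inv_hom_id_app_assoc]]
      infer_instance
    let z := (EtCoh.push (f ≫ g)).rightDerivedZeroIsoSelf
    haveI : Epi (((EtCoh.push (f ≫ g)).rightDerived 0).map S.g) := by
      rw [show ((EtCoh.push (f ≫ g)).rightDerived 0).map S.g =
        z.hom.app _ ≫ (EtCoh.push (f ≫ g)).map S.g ≫ z.inv.app _ by
          rw [← z.hom.naturality_assoc, Iso.hom_inv_id_app, Category.comp_id]]
      infer_instance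
    have hδ : Δ.δ S hS 0 1 rfl = 0 := by
      rw [← cancel_epi (((EtCoh.push (f ≫ g)).rightDerived 0).map S.g), Δ.comp_δ, comp_zero]
    exact (Δ.exact₁ S hS 0 1 rfl).isZero_of_both_zeros hδ ((hI 0).eq_of_tgt _ _)
  | succ n ih =>
    let S := ShortComplex.mk (Injective.ι F) (cokernel.π (Injective.ι F)) (cokernel.condition _)
    have hS : S.ShortExact := { exact := ShortComplex.exact_of_g_is_cokernel _ (cokernelIsCokernel _) }
    haveI : Injective S.X₂ := inferInstanceAs (Injective (Injective.under F))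
    have hI : ∀ m, IsZero ((EtCoh.Rpush (f ≫ g) (m + 1)).obj S.X₂) := fun m =>
      (EtCoh.push (f ≫ g)).isZero_rightDerived_obj_injective_succ m _
    haveI : Injective ((EtCoh.push f).obj S.X₂) :=
      inferInstanceAs (Injective ((EtCoh.push f).obj (Injective.under F)))
    haveI : Epi ((EtCoh.push f).map S.g) := epi_map_g _ hS (hf 0)
    have hS' : (S.map (EtCoh.push f)).ShortExact :=
      { exact := hS.exact.map_of_mono_of_preservesKernel _ hS.mono_f inferInstance
        mono_f := inferInstanceAs (Mono ((EtCoh.push f).map (Injective.ι F)))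
        epi_g := ‹_› }
    have hQ := ih S.X₃
      (fun m => (Δf.exact₃ S hS (m + 1) (m + 2) rfl).isZero_of_both_zeros
        (((EtCoh.push f).isZero_rightDerived_obj_injective_succ m S.X₂).eq_of_src _ _)
        ((hf (m + 1)).eq_of_tgt _ _))
      (fun m => (Δg.exact₃ _ hS' (m + 1) (m + 2) rfl).isZero_of_both_zeros
        (((EtCoh.push g).isZero_rightDerived_obj_injective_succ m ((EtCoh.push f).obj S.X₂)).eq_of_src _ _)
        ((hg (m + 1)).eq_of_tgt _ _))
    exact (Δ.exact₁ S hS (n + 1) (n + 2) rfl).isZero_of_both_zeros (hQ.eq_of_src _ _)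
      ((hI (n + 1)).eq_of_tgt _ _)

variable {X' Z' : Scheme.{u}}

theorem baseChange0_naturality (h : X ⟶ Z) (k : Z' ⟶ Z) (h' : X' ⟶ Z') (a : X' ⟶ X)
    [EtCoh.BCCont h] [EtCoh.BCCont k] [EtCoh.BCCont h'] [EtCoh.BCCont a]
    (w : a ≫ h = h' ≫ k) {F G : EtCoh.Ab X} (φ : F ⟶ G) :
    (EtCoh.pull k).map ((EtCoh.push h).map φ) ≫ EtCoh.baseChange0 h k h' a w G =
      EtCoh.baseChange0 h k h' a w F ≫ (EtCoh.push h').map ((EtCoh.pull a).map φ) := by
  rw [EtCoh.baseChange0, EtCoh.baseChange0, ← Adjunction.homEquiv_naturality_left_symm,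
    ← Adjunction.homEquiv_naturality_right_symm]
  congr 1
  rw [← Functor.map_comp_assoc]
  erw [(EtCoh.pullPushAdj a).unit.naturality φ]
  simp only [Functor.map_comp, Category.assoc, Functor.comp_map]
  congr 1
  erw [(EtCoh.pushComp h a).hom.naturality_assoc, (EtCoh.pushCongr w).hom.naturality_assoc,
    (EtCoh.pushComp k h').inv.naturality]
  rfl

theorem nonempty_iso_of_acyclic (h : X ⟶ Z) (k : Z' ⟶ Z) (h' : X' ⟶ Z') (a : X' ⟶ X) [IsProper h]
    [EtCoh.BCCont h] [EtCoh.BCCont k] [EtCoh.BCCont h'] [EtCoh.BCCont a] (sq : IsPullback a h' h k)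
    (H : ∀ (G : EtCoh.Ab X), EtCoh.IsTorsion G → Ac G → ∀ n,
      IsZero ((EtCoh.Rpush h' (n + 1)).obj ((EtCoh.pull a).obj G))) (q : ℕ) :
    ∀ F : EtCoh.Ab X, EtCoh.IsTorsion F → Nonempty ((EtCoh.pull k).obj ((EtCoh.Rpush h q).obj F) ≅
      (EtCoh.Rpush h' q).obj ((EtCoh.pull a).obj F)) := by
  haveI : PreservesLimitsOfSize.{0, 0} (EtCoh.push h) :=
    (EtCoh.pullPushAdj h).rightAdjoint_preservesLimits
  haveI : PreservesLimitsOfSize.{0, 0} (EtCoh.push h') :=
    (EtCoh.pullPushAdj h').rightAdjoint_preservesLimits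
  haveI : ∀ F, IsIso (EtCoh.baseChange0 h k h' a sq.w F) := fun F =>
    Groth.Agent.Lib.PBC50.BC.isIso_baseChange0 sq F
  let z := (EtCoh.push h).rightDerivedZeroIsoSelf
  let z' := (EtCoh.push h').rightDerivedZeroIsoSelf
  obtain ⟨Δ⟩ := Groth.Agent.Lib.RDer.Connecting.nonempty_derivedLES (EtCoh.push h)
  obtain ⟨Δ'⟩ := Groth.Agent.Lib.RDer.Connecting.nonempty_derivedLES (EtCoh.push h')
  induction q with
  | zero =>
    intro F _
    exact ⟨(EtCoh.pull k).mapIso (z.app F) ≪≫ asIso (EtCoh.baseChange0 h k h' a sq.w F) ≪≫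
      (z'.app _).symm⟩
  | succ q ih =>
    intro F hF
    obtain ⟨S, hS, rfl, hG, hQ, hac⟩ := exists_ses F hF
    have hS' : (S.map (EtCoh.pull a)).ShortExact := hS.map_of_exact _
    have h1 : ∀ n, IsZero ((EtCoh.Rpush h (n + 1)).obj S.X₂) := isZero_rpush_of_ac h hac
    have h2 := H S.X₂ hG hac
    haveI := (Δ.exact₁ S hS q (q + 1) rfl).epi_f ((h1 q).eq_of_tgt _ _)
    haveI := (Δ'.exact₁ _ hS' q (q + 1) rfl).epi_f ((h2 q).eq_of_tgt _ _)
    cases q with
    | zero =>
      have cok : ∀ {W V : Scheme.{u}} (p : W ⟶ V) [EtCoh.BCCont p]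
          (Δ : RDer.DerivedLES (EtCoh.push p)) (T : ShortComplex (EtCoh.Ab W)) (hT : T.ShortExact)
          [PreservesFiniteLimits (EtCoh.push p)] [Epi (Δ.δ T hT 0 1 rfl)],
          Nonempty ((EtCoh.Rpush p 1).obj T.X₁ ≅ cokernel ((EtCoh.push p).map T.g)) := by
        intro W V p _ Δ T hT _ _
        let z := (EtCoh.push p).rightDerivedZeroIsoSelf
        exact ⟨((Δ.exact₃ T hT 0 1 rfl).gIsCokernel.coconePointUniqueUpToIso
          (cokernelIsCokernel _)) ≪≫ cokernel.mapIso _ _ (z.app T.X₂) (z.app T.X₃)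
            (z.hom.naturality T.g)⟩
      obtain ⟨e⟩ := cok h Δ S hS
      obtain ⟨e'⟩ := cok h' Δ' _ hS'
      exact ⟨(EtCoh.pull k).mapIso e ≪≫ PreservesCokernel.iso (EtCoh.pull k) _ ≪≫
        cokernel.mapIso _ _ (asIso (EtCoh.baseChange0 h k h' a sq.w S.X₂))
          (asIso (EtCoh.baseChange0 h k h' a sq.w S.X₃)) (baseChange0_naturality h k h' a sq.w S.g) ≪≫
        e'.symm⟩
    | succ q =>
      haveI := (Δ.exact₃ S hS (q + 1) (q + 2) rfl).mono_g ((h1 q).eq_of_src _ _)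
      haveI := (Δ'.exact₃ _ hS' (q + 1) (q + 2) rfl).mono_g ((h2 q).eq_of_src _ _)
      haveI := isIso_of_mono_of_epi (Δ.δ S hS (q + 1) (q + 2) rfl)
      haveI : Epi (Δ'.δ _ hS' (q + 1) (q + 2) rfl) :=
        (Δ'.exact₁ _ hS' (q + 1) (q + 2) rfl).epi_f ((h2 (q + 1)).eq_of_tgt _ _)
      haveI : Mono (Δ'.δ _ hS' (q + 1) (q + 2) rfl) :=
        (Δ'.exact₃ _ hS' (q + 1) (q + 2) rfl).mono_g ((h2 q).eq_of_src _ _)
      have hiso : IsIso (Δ'.δ (S.map (EtCoh.pull a)) hS' (q + 1) (q + 2) rfl) := isIso_of_mono_of_epi _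
      obtain ⟨e⟩ := ih S.X₃ hQ
      exact ⟨(EtCoh.pull k).mapIso (asIso (Δ.δ S hS (q + 1) (q + 2) rfl)).symm ≪≫ e ≪≫
        @asIso _ _ _ _ (Δ'.δ (S.map (EtCoh.pull a)) hS' (q + 1) (q + 2) rfl) hiso⟩

end

/-- Let f : X -> Y and g : Y -> Z be proper. If cohomology commutes with base change (abstract form) for
f and for g then it does for g ∘ f. -/
theorem result {X Y Z : Scheme.{u}} (f : X ⟶ Y) (g : Y ⟶ Z) [IsProper f] [IsProper g]
    [EtCoh.BCCont f] [EtCoh.BCCont g] [EtCoh.BCCont (f ≫ g)]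
    (hf : EtPBC.CohCommutesWithBC f) (hg : EtPBC.CohCommutesWithBC g) :
    EtPBC.CohCommutesWithBC (f ≫ g) := by
  intro X' Z' h' a k _ _ _ sq F hF q
  refine nonempty_iso_of_acyclic (f ≫ g) k h' a sq (fun G hG hac n => ?_) q F hF
  obtain ⟨b, hba, hb⟩ : ∃ b : X' ⟶ pullback g k,
      b ≫ pullback.fst g k = a ≫ f ∧ b ≫ pullback.snd g k = h' :=
    ⟨pullback.lift (a ≫ f) h' (by rw [Category.assoc]; exact sq.w), pullback.lift_fst _ _ _,
      pullback.lift_snd _ _ _⟩
  have sq₂ : IsPullback (pullback.fst g k) (pullback.snd g k) g k := IsPullback.of_hasPullback g k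
  have sq₁ : IsPullback a b f (pullback.fst g k) :=
    IsPullback.of_bot (by rw [hb]; exact sq) hba.symm sq₂
  subst hb
  haveI : PreservesLimitsOfSize.{0, 0} (EtCoh.push f) :=
    (EtCoh.pullPushAdj f).rightAdjoint_preservesLimits
  haveI := Groth.Agent.Lib.PBC50.BC.isIso_baseChange0 sq₁ G
  have hfG : EtCoh.IsTorsion ((EtCoh.push f).obj G) := TorsionCoh.isTorsion_of_iso
    ((EtCoh.push f).rightDerivedZeroIsoSelf.app G) (TorsionCoh.isTorsion_rpush f G hG 0)
  refine isZero_rpush_comp b (pullback.snd g k) _ (fun m => ?_) (fun m => ?_) n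
  · exact ((EtCoh.pull _).map_isZero (isZero_rpush_of_ac f hac m)).of_iso
      (hf b a (pullback.fst g k) sq₁ G hG (m + 1)).some.symm
  · refine IsZero.of_iso ?_ ((EtCoh.Rpush _ (m + 1)).mapIso
      (asIso (EtCoh.baseChange0 f (pullback.fst g k) b a sq₁.w G))).symm
    exact ((EtCoh.pull _).map_isZero (isZero_rpush_of_ac g (ac_push f hac) m)).of_iso
      (hg (pullback.snd g k) (pullback.fst g k) k sq₂ _ hfG (m + 1)).some.symm

end Groth.Agent.S0160
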