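import Groth.Statements.S0159
import Groth.Agent.S0160
import Groth.Agent.S3513
import Groth.Agent.Lib.EtSite.BCSeq

set_option autoImplicit false
set_option linter.style.haveILetI false
universe u
open CategoryTheory CategoryTheory.Limits AlgebraicGeometry Opposite
open EtPBC

namespace Groth.Agent.S0159

open CategoryTheory.Abelian Groth.Agent.H88.EtMod Groth.Agent.H88.EtMod.ExtColim
open Groth.Agent.Lib.CohDelta.AcycHomology (epi_map_g)
open Groth.Agent.Lib.EtSite Groth.Agent.Lib.EtSite.Stalk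
open Groth.Agent.S0160 (Ac)

noncomputable section

variable {X Y Z : Scheme.{u}}

/-- The unit along a surjective morphism is a monomorphism. -/
theorem mono_unit (f : X ⟶ Y) (hf : Function.Surjective f.base) (F : EtCoh.Ab Y) :
    Mono ((EtCoh.pullPushAdj f).unit.app F) := by
  refine mono_of_stalks _ fun y => ?_
  obtain ⟨x, rfl⟩ := hf y
  refine ⟨_, inferInstance, inferInstance, Push.algPoint X x ≫ f, ?_, fun a b h => ?_⟩
  · rw [Scheme.Hom.comp_apply, Push.algPoint_apply]
  · have := UnitStalk.isIso_unitStalk f (Push.algPoint X x) AddCommGrpCat.{u + 1} F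
    refine ((ConcreteCategory.isIso_iff_bijective
      (UnitStalk.unitStalk f (Push.algPoint X x) AddCommGrpCat.{u + 1} F)).1 this).1 ?_
    exact (ConcreteCategory.comp_apply _ _ _).trans ((congrArg _ h).trans
      (ConcreteCategory.comp_apply _ _ _).symm)

/-- If `R^{>0} f_* F` and `R^{>0} (f ≫ g)_* F` vanish then so does `R^{>0} g_* (f_* F)`. -/
theorem isZero_rpush_of_comp (f : X ⟶ Y) (g : Y ⟶ Z)
    [EtCoh.BCCont f] [EtCoh.BCCont g] [EtCoh.BCCont (f ≫ g)] (F : EtCoh.Ab X)
    (hf : ∀ n, IsZero ((EtCoh.Rpush f (n + 1)).obj F))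
    (hfg : ∀ n, IsZero ((EtCoh.Rpush (f ≫ g) (n + 1)).obj F)) (n : ℕ) :
    IsZero ((EtCoh.Rpush g (n + 1)).obj ((EtCoh.push f).obj F)) := by
  haveI : PreservesLimitsOfSize.{0, 0} (EtCoh.push f) :=
    (EtCoh.pullPushAdj f).rightAdjoint_preservesLimits
  haveI : PreservesLimitsOfSize.{0, 0} (EtCoh.push g) :=
    (EtCoh.pullPushAdj g).rightAdjoint_preservesLimits
  haveI : PreservesLimitsOfSize.{0, 0} (EtCoh.push (f ≫ g)) :=
    (EtCoh.pullPushAdj (f ≫ g)).rightAdjoint_preservesLimits
  obtain ⟨Δf⟩ := Groth.Agent.Lib.RDer.Connecting.nonempty_derivedLES (EtCoh.push f)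
  obtain ⟨Δg⟩ := Groth.Agent.Lib.RDer.Connecting.nonempty_derivedLES (EtCoh.push g)
  obtain ⟨Δ⟩ := Groth.Agent.Lib.RDer.Connecting.nonempty_derivedLES (EtCoh.push (f ≫ g))
  induction n generalizing F with
  | zero =>
    let S := ShortComplex.mk (Injective.ι F) (cokernel.π (Injective.ι F)) (cokernel.condition _)
    have hS : S.ShortExact := { exact := ShortComplex.exact_of_g_is_cokernel _ (cokernelIsCokernel _) }
    haveI : Epi ((EtCoh.push f).map S.g) := epi_map_g _ hS (hf 0)
    have hS' : (S.map (EtCoh.push f)).ShortExact :=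
      { exact := hS.exact.map_of_mono_of_preservesKernel _ hS.mono_f inferInstance
        mono_f := inferInstanceAs (Mono ((EtCoh.push f).map (Injective.ι F)))
        epi_g := ‹_› }
    haveI : Injective ((EtCoh.push f).obj S.X₂) :=
      inferInstanceAs (Injective ((EtCoh.push f).obj (Injective.under F)))
    haveI : Epi ((EtCoh.push (f ≫ g)).map S.g) := epi_map_g _ hS (hfg 0)
    haveI : Epi ((EtCoh.push g).map ((EtCoh.push f).map S.g)) := by
      rw [show (EtCoh.push g).map ((EtCoh.push f).map S.g) = (EtCoh.pushComp g f).hom.app S.X₂ ≫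
        (EtCoh.push (f ≫ g)).map S.g ≫ (EtCoh.pushComp g f).inv.app S.X₃ by
          rw [← (EtCoh.pushComp g f).hom.naturality_assoc, Iso.hom_inv_id_app, Category.comp_id]; rfl]
      infer_instance
    let z := (EtCoh.push g).rightDerivedZeroIsoSelf
    haveI : Epi (((EtCoh.push g).rightDerived 0).map (S.map (EtCoh.push f)).g) :=
      ((MorphismProperty.epimorphisms _).arrow_mk_iso_iff
        (Arrow.isoMk (z.app _) (z.app _) (z.hom.naturality _).symm)).2 ‹_›
    have hδ : Δg.δ _ hS' 0 1 rfl = 0 := by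
      rw [← cancel_epi (((EtCoh.push g).rightDerived 0).map (S.map (EtCoh.push f)).g), Δg.comp_δ,
        comp_zero]
    exact (Δg.exact₁ _ hS' 0 1 rfl).isZero_of_both_zeros hδ
      (((EtCoh.push g).isZero_rightDerived_obj_injective_succ 0 ((EtCoh.push f).obj S.X₂)).eq_of_tgt _ _)
  | succ n ih =>
    let S := ShortComplex.mk (Injective.ι F) (cokernel.π (Injective.ι F)) (cokernel.condition _)
    have hS : S.ShortExact := { exact := ShortComplex.exact_of_g_is_cokernel _ (cokernelIsCokernel _) }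
    haveI : Injective S.X₂ := inferInstanceAs (Injective (Injective.under F))
    haveI : Injective ((EtCoh.push f).obj S.X₂) :=
      inferInstanceAs (Injective ((EtCoh.push f).obj (Injective.under F)))
    haveI : Epi ((EtCoh.push f).map S.g) := epi_map_g _ hS (hf 0)
    have hS' : (S.map (EtCoh.push f)).ShortExact :=
      { exact := hS.exact.map_of_mono_of_preservesKernel _ hS.mono_f inferInstance
        mono_f := inferInstanceAs (Mono ((EtCoh.push f).map (Injective.ι F)))
        epi_g := ‹_› }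
    have hQ := ih S.X₃
      (fun m => (Δf.exact₃ S hS (m + 1) (m + 2) rfl).isZero_of_both_zeros
        (((EtCoh.push f).isZero_rightDerived_obj_injective_succ m S.X₂).eq_of_src _ _)
        ((hf (m + 1)).eq_of_tgt _ _))
      (fun m => (Δ.exact₃ S hS (m + 1) (m + 2) rfl).isZero_of_both_zeros
        (((EtCoh.push (f ≫ g)).isZero_rightDerived_obj_injective_succ m S.X₂).eq_of_src _ _)
        ((hfg (m + 1)).eq_of_tgt _ _))
    exact (Δg.exact₁ _ hS' (n + 1) (n + 2) rfl).isZero_of_both_zeros (hQ.eq_of_src _ _)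
      (((EtCoh.push g).isZero_rightDerived_obj_injective_succ (n + 1)
        ((EtCoh.push f).obj S.X₂)).eq_of_tgt _ _)

/-- Embedding of an acyclic torsion sheaf on `Y` into a direct image from `X`. -/
theorem exists_ses_push (f : X ⟶ Y) [IsProper f] [Surjective f] [EtCoh.BCCont f] (G : EtCoh.Ab Y)
    (hG : EtCoh.IsTorsion G) (hac : Ac G) :
    ∃ (M : EtCoh.Ab X) (S : ShortComplex (EtCoh.Ab Y)), S.ShortExact ∧ S.X₁ = G ∧
      S.X₂ = (EtCoh.push f).obj M ∧ EtCoh.IsTorsion M ∧ Ac M ∧
      EtCoh.IsTorsion S.X₃ ∧ Ac S.X₃ := by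
  haveI : PreservesLimitsOfSize.{0, 0} (EtCoh.push f) :=
    (EtCoh.pullPushAdj f).rightAdjoint_preservesLimits
  have hfG : EtCoh.IsTorsion ((EtCoh.pull f).obj G) :=
    S0160.isTorsion_of_univ (Groth.Agent.S3513.isLTorsion_pull f Set.univ G (S0160.isLTorsion_univ hG))
  obtain ⟨T, hT, hT₁, hM, -, hacM⟩ := S0160.exists_ses _ hfG
  haveI : Mono T.f := hT.mono_f
  let M := T.X₂
  let u : (EtCoh.pull f).obj G ⟶ M := eqToHom hT₁.symm ≫ T.f
  haveI : Mono u := mono_comp _ _
  haveI := mono_unit f f.surjective G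
  let φ : G ⟶ (EtCoh.push f).obj M := (EtCoh.pullPushAdj f).unit.app G ≫ (EtCoh.push f).map u
  haveI : Mono φ := mono_comp _ _
  let S := ShortComplex.mk φ (cokernel.π φ) (cokernel.condition φ)
  have hS : S.ShortExact := { exact := ShortComplex.exact_of_g_is_cokernel _ (cokernelIsCokernel φ) }
  have hfM : EtCoh.IsTorsion ((EtCoh.push f).obj M) := TorsionCoh.isTorsion_of_iso
    ((EtCoh.push f).rightDerivedZeroIsoSelf.app M) (TorsionCoh.isTorsion_rpush f M hM 0)
  refine ⟨M, S, hS, rfl, rfl, hM, hacM, S0160.isTorsion_of_univ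
    (Groth.Agent.Lib.EtSite.TorsionInj.isLTorsion_of_epi (cokernel.π φ) (S0160.isLTorsion_univ hfM)),
    fun V hV₁ hV₂ m z => ?_⟩
  obtain ⟨x, hx⟩ := Ext.covariant_sequence_exact₃ (local' V).Z hS z (n₁ := m + 2) rfl
    (hac V hV₁ hV₂ (m + 1) _)
  rw [← hx, S0160.ac_push f hacM V hV₁ hV₂ m x, Ext.zero_comp]

end

/-- Let f : X -> Y and g : Y -> Z be proper with f surjective. If cohomology commutes with base change
(abstract form) for f and for g ∘ f then it does for g. -/
theorem result {X Y Z : Scheme.{u}} (f : X ⟶ Y) (g : Y ⟶ Z) [IsProper f] [IsProper g]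
    [Surjective f] [EtCoh.BCCont f] [EtCoh.BCCont g] [EtCoh.BCCont (f ≫ g)]
    (hf : EtPBC.CohCommutesWithBC f) (hgf : EtPBC.CohCommutesWithBC (f ≫ g)) :
    EtPBC.CohCommutesWithBC g := by
  intro Y' Z' g' a k _ _ _ sq F hF q
  refine S0160.nonempty_iso_of_acyclic g k g' a sq (fun G hG hac n => ?_) q F hF
  haveI : IsProper g' := MorphismProperty.of_isPullback sq ‹IsProper g›
  haveI : PreservesLimitsOfSize.{0, 0} (EtCoh.push g) :=
    (EtCoh.pullPushAdj g).rightAdjoint_preservesLimits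
  haveI : PreservesLimitsOfSize.{0, 0} (EtCoh.push g') :=
    (EtCoh.pullPushAdj g').rightAdjoint_preservesLimits
  haveI : ∀ F, IsIso (EtCoh.baseChange0 g k g' a sq.w F) := fun F =>
    Groth.Agent.Lib.PBC50.BC.isIso_baseChange0 sq F
  obtain ⟨Δ⟩ := Groth.Agent.Lib.RDer.Connecting.nonempty_derivedLES (EtCoh.push g')
  have sq₁ : IsPullback (pullback.fst f a) (pullback.snd f a) f a := IsPullback.of_hasPullback f a
  have sq₂ := sq₁.paste_vert sq
  haveI : IsProper (pullback.snd f a) := MorphismProperty.of_isPullback sq₁ ‹IsProper f›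
  have hpush : ∀ M : EtCoh.Ab X, EtCoh.IsTorsion M → Ac M → ∀ m,
      IsZero ((EtCoh.Rpush g' (m + 1)).obj ((EtCoh.pull a).obj ((EtCoh.push f).obj M))) := by
    intro M hM hacM m
    haveI := Groth.Agent.Lib.PBC50.BC.isIso_baseChange0 sq₁ M
    refine IsZero.of_iso ?_ ((EtCoh.Rpush g' (m + 1)).mapIso
      (asIso (EtCoh.baseChange0 f a (pullback.snd f a) (pullback.fst f a) sq₁.w M)))
    refine isZero_rpush_of_comp (pullback.snd f a) g' _ (fun j => ?_) (fun j => ?_) m
    · exact ((EtCoh.pull _).map_isZero (S0160.isZero_rpush_of_ac f hacM j)).of_iso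
        (hf (pullback.snd f a) (pullback.fst f a) a sq₁ M hM (j + 1)).some.symm
    · exact ((EtCoh.pull _).map_isZero (S0160.isZero_rpush_of_ac (f ≫ g) hacM j)).of_iso
        (hgf (pullback.snd f a ≫ g') (pullback.fst f a) k sq₂ M hM (j + 1)).some.symm
  induction n generalizing G with
  | zero =>
    obtain ⟨M, S, hS, rfl, h₂, hM, hacM, -, -⟩ := exists_ses_push f G hG hac
    have hS' : (S.map (EtCoh.pull a)).ShortExact := hS.map_of_exact _
    have h0 : IsZero ((EtCoh.Rpush g' 1).obj ((EtCoh.pull a).obj S.X₂)) := h₂ ▸ hpush M hM hacM 0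
    haveI : Epi ((EtCoh.push g).map S.g) := epi_map_g _ hS (S0160.isZero_rpush_of_ac g hac 0)
    haveI : Epi ((EtCoh.push g').map ((EtCoh.pull a).map S.g)) := by
      haveI : Epi ((EtCoh.pull k).map ((EtCoh.push g).map S.g) ≫
          EtCoh.baseChange0 g k g' a sq.w S.X₃) := inferInstance
      rw [S0160.baseChange0_naturality g k g' a sq.w S.g] at this
      exact epi_of_epi (EtCoh.baseChange0 g k g' a sq.w S.X₂) _
    let z := (EtCoh.push g').rightDerivedZeroIsoSelf
    haveI : Epi (((EtCoh.push g').rightDerived 0).map (S.map (EtCoh.pull a)).g) :=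
      ((MorphismProperty.epimorphisms _).arrow_mk_iso_iff
        (Arrow.isoMk (z.app _) (z.app _) (z.hom.naturality _).symm)).2 ‹_›
    have hδ : Δ.δ _ hS' 0 1 rfl = 0 := by
      rw [← cancel_epi (((EtCoh.push g').rightDerived 0).map (S.map (EtCoh.pull a)).g), Δ.comp_δ,
        comp_zero]
    exact (Δ.exact₁ _ hS' 0 1 rfl).isZero_of_both_zeros hδ (h0.eq_of_tgt _ _)
  | succ n ih =>
    obtain ⟨M, S, hS, rfl, h₂, hM, hacM, hQ, hacQ⟩ := exists_ses_push f G hG hac
    have hS' : (S.map (EtCoh.pull a)).ShortExact := hS.map_of_exact _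
    have h0 : IsZero ((EtCoh.Rpush g' (n + 2)).obj ((EtCoh.pull a).obj S.X₂)) :=
      h₂ ▸ hpush M hM hacM (n + 1)
    exact (Δ.exact₁ _ hS' (n + 1) (n + 2) rfl).isZero_of_both_zeros
      ((ih S.X₃ hQ hacQ).eq_of_src _ _) (h0.eq_of_tgt _ _)

end Groth.Agent.S0159
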