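import Groth.Statements.S0169
import Groth.Agent.H88.Strata.Finite

set_option autoImplicit false
universe u
open CategoryTheory CategoryTheory.Limits AlgebraicGeometry Opposite
open EtPBC

namespace Groth.Agent.S0169

/-- For j : U -> X an etale morphism of quasi-compact quasi-separated schemes there are finitely many
immersions T_i -> X with pairwise disjoint constructible images covering X such that U x_X T_i ->
T_i is finite (etale) for each i. -/
theorem result {U X : Scheme.{u}} [CompactSpace U] [QuasiSeparatedSpace U]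
    [CompactSpace X] [QuasiSeparatedSpace X] (j : U ⟶ X) [Etale j] :
    ∃ (n : ℕ) (T : Fin n → Scheme.{u}) (g : ∀ i, T i ⟶ X),
      (∀ i, IsImmersion (g i)) ∧ (∀ i, Topology.IsConstructible (Set.range (g i))) ∧
      Pairwise (fun i i' => Disjoint (Set.range (g i)) (Set.range (g i'))) ∧
      (⋃ i, Set.range (g i)) = Set.univ ∧ ∀ i, IsFinite (pullback.snd j (g i)) := by
  classical
  obtain ⟨s, hs⟩ := isCompact_univ.elim_finite_subcover (fun V : U.affineOpens => (V.1 : Set U))
    (fun V => V.1.2) (fun x _ => by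
      obtain ⟨_, ⟨V, hV, rfl⟩, hxV, -⟩ :=
        U.isBasis_affineOpens.exists_subset_of_mem_open (Set.mem_univ x) isOpen_univ
      exact Set.mem_iUnion.mpr ⟨⟨V, hV⟩, hxV⟩)
  let O : Fin s.card → U.Opens := fun i => (s.equivFin.symm i).1.1
  have hO : ∀ i, IsAffineOpen (O i) := fun i => (s.equivFin.symm i).1.2
  have hOtop : ⨆ i, O i = ⊤ := eq_top_iff.2 fun x _ => by
    obtain ⟨V, hV, hx⟩ := Set.mem_iUnion₂.1 (hs (Set.mem_univ x))
    refine TopologicalSpace.Opens.mem_iSup.2 ⟨s.equivFin ⟨V, hV⟩, ?_⟩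
    simpa [O] using hx
  let W : Fin s.card × Fin s.card → X.Etale := fun k => Scheme.Etale.mk ((O k.1 ⊓ O k.2).ι ≫ j)
  have hsep : ∀ k, IsSeparated (W k).hom := fun k => by
    haveI : IsAffine (O k.1 : Scheme.{u}) := hO k.1
    change IsSeparated ((O k.1 ⊓ O k.2).ι ≫ j)
    rw [← U.homOfLE_ι (inf_le_left : O k.1 ⊓ O k.2 ≤ O k.1), Category.assoc]
    infer_instance
  have hqc : ∀ k, QuasiCompact (W k).hom := fun k => by
    haveI : CompactSpace ((O k.1 ⊓ O k.2 : U.Opens) : Scheme.{u}) :=
      isCompact_iff_compactSpace.1 ((hO k.1).isCompact.inter_of_isOpen (hO k.2).isCompact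
        (O k.1).2 (O k.2).2)
    change QuasiCompact ((O k.1 ⊓ O k.2).ι ≫ j)
    infer_instance
  haveI : CompactSpace ((⊤ : X.Opens) : Scheme.{u}) := isCompact_iff_compactSpace.1 isCompact_univ
  haveI : QuasiSeparatedSpace ((⊤ : X.Opens) : Scheme.{u}) :=
    quasiSeparatedSpace_of_quasiSeparated (⊤ : X.Opens).ι
  obtain ⟨n, T, g, hg, hcons, hdisj, hcov, hfin⟩ := H88.Strata.exists_partition (⊤ : X.Opens)
    (fun {T} g => ∀ k, IsFinite (pullback.snd (W k).hom g))
    (fun h g _ hP k => by
      haveI := hP k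
      exact H88.Strata.Finite.isFinite_precomp _ g h)
    (fun y => by
      obtain ⟨_, ⟨(Y : X.Opens), hY, rfl⟩, hyY, -⟩ :=
        X.isBasis_affineOpens.exists_subset_of_mem_open (Set.mem_univ y.1) isOpen_univ
      obtain ⟨C, T, g, hC, hyC, hg, hCg, hP⟩ := H88.Strata.Finite.exists_common_stratum hY
        ⟨y.1, hyY⟩ W hsep hqc Finset.univ
      refine ⟨Subtype.val ⁻¹' (Subtype.val '' C), T, g, ?_, ⟨⟨y.1, hyY⟩, hyC, rfl⟩, hg, ?_,
        fun k => hP k (Finset.mem_univ k)⟩
      · exact (Lib.Spectral.Constructible.image_val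
          ((hY.isCompact.isRetrocompact Y.2).isConstructible Y.2) hC).preimage_of_isOpenEmbedding
          (⊤ : X.Opens).2.isOpenEmbedding_subtypeVal
      · rintro _ ⟨z, hz, rfl⟩
        exact hCg hz)
  refine ⟨n, T, g, hg, fun i => ?_, hdisj, hcov, fun i => ?_⟩
  · have h := (hcons i).image_of_isOpenEmbedding (⊤ : X.Opens).2.isOpenEmbedding_subtypeVal
      (by simp)
    convert h using 1
    ext x
    exact ⟨fun hx => ⟨⟨x, trivial⟩, hx, rfl⟩, by rintro ⟨z, hz, rfl⟩; exact hz⟩
  · have key : ∀ P : U.Opens, IsFinite (pullback.snd (P.ι ≫ j) (g i)) →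
        IsFinite ((pullback.fst j (g i) ⁻¹ᵁ P).ι ≫ pullback.snd j (g i)) := by
      intro P hP
      have sq := ((isPullback_morphismRestrict (pullback.fst j (g i)) P).paste_vert
        (IsPullback.of_hasPullback j (g i)))
      rw [← sq.isoPullback_hom_snd]
      exact (MorphismProperty.cancel_left_of_respectsIso @IsFinite _ _).2 hP
    refine H88.Strata.Finite.isFinite_of_cover _ (fun k => pullback.fst j (g i) ⁻¹ᵁ O k) ?_ ?_ ?_
    · rw [← Scheme.Hom.preimage_iSup, hOtop, Scheme.Hom.preimage_top]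
    · intro k
      have := key (O k ⊓ O k) (hfin i (k, k))
      rwa [inf_idem] at this
    · exact fun k k' => key (O k ⊓ O k') (hfin i (k, k'))

end Groth.Agent.S0169
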