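import Groth.Statements.S0170
import Groth.Agent.Lib.QFSplit44.Product

set_option autoImplicit false
universe u
open CategoryTheory CategoryTheory.Limits AlgebraicGeometry Opposite
open EtPBC

namespace Groth.Agent.S0170

open CategoryTheory.Limits TensorProduct

/-- For f : Y -> X quasi-finite and of finite presentation with X and Y affine, one can find an affine
X' mapping onto X such that the base change Y' = X' x_X Y contains a closed subscheme Z' with the
same underlying space (a thickening) for which the composite Z' -> Y' -> X' is finite etale. -/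
theorem result {Y X : Scheme.{u}} [IsAffine X] [IsAffine Y] (f : Y ⟶ X)
    [LocallyQuasiFinite f] [LocallyOfFinitePresentation f] :
    ∃ (X' : Scheme.{u}) (_ : IsAffine X') (a : X' ⟶ X) (_ : Surjective a) (Z' : Scheme.{u})
      (c : Z' ⟶ pullback a f) (_ : IsClosedImmersion c) (_ : Surjective c),
      IsFinite (c ≫ pullback.fst a f) ∧ Etale (c ≫ pullback.fst a f) := by
  let φ : Γ(X, ⊤) ⟶ Γ(Y, ⊤) := f.appTop
  let : Algebra Γ(X, ⊤) Γ(Y, ⊤) := φ.hom.toAlgebra
  have hnat : f ≫ X.isoSpec.hom = Y.isoSpec.hom ≫ Spec.map φ := (Scheme.isoSpec_hom_naturality f).symm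
  have hQ : Algebra.QuasiFinite Γ(X, ⊤) Γ(Y, ⊤) :=
    HasRingHomProperty.iff_of_isAffine (P := @LocallyQuasiFinite) (f := f) |>.mp inferInstance
  have hFP : Algebra.FinitePresentation Γ(X, ⊤) Γ(Y, ⊤) :=
    HasRingHomProperty.iff_of_isAffine (P := @LocallyOfFinitePresentation) (f := f) |>.mp inferInstance
  -- the product of the algebraic closures of all residue fields
  let K : PrimeSpectrum Γ(X, ⊤) → Type u := fun p => AlgebraicClosure p.asIdeal.ResidueField
  let A := ∀ p, K p
  let T := A ⊗[Γ(X, ⊤)] Γ(Y, ⊤)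
  obtain ⟨Z, _, _, ψ, hψ, hnil, hfin, het⟩ :=
    Groth.Agent.Lib.QFSplit44.Product.exists_etale_quotient (K := K) T
  let ρ : Γ(X, ⊤) ⟶ CommRingCat.of A := CommRingCat.ofHom (algebraMap Γ(X, ⊤) A)
  let a : Spec (CommRingCat.of A) ⟶ X := Spec.map ρ ≫ X.isoSpec.inv
  have hsurj : Surjective a := by
    have : Surjective (Spec.map ρ) := ⟨fun (p : PrimeSpectrum Γ(X, ⊤)) => by
      let q : PrimeSpectrum A := PrimeSpectrum.comap (Pi.evalRingHom K p) ⊥
      refine ⟨q, PrimeSpectrum.ext (Ideal.ext fun r => ?_)⟩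
      show Pi.evalRingHom K p (algebraMap Γ(X, ⊤) A r) ∈ (⊥ : PrimeSpectrum (K p)).asIdeal ↔ r ∈ p.asIdeal
      rw [PrimeSpectrum.asIdeal_bot, Ideal.mem_bot]
      change algebraMap Γ(X, ⊤) (K p) r = 0 ↔ _
      rw [IsScalarTower.algebraMap_apply Γ(X, ⊤) p.asIdeal.ResidueField (K p),
        _root_.map_eq_zero, Ideal.algebraMap_residueField_eq_zero]⟩
    infer_instance
  have hpb : IsPullback (Spec.map (CommRingCat.ofHom (algebraMap A T)))
      (Spec.map (CommRingCat.ofHom (Algebra.TensorProduct.includeRight : Γ(Y, ⊤) →ₐ[Γ(X, ⊤)] T).toRingHom) ≫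
        Y.isoSpec.inv) a f := by
    have h0 : IsPullback (Spec.map (CommRingCat.ofHom (algebraMap A T)))
        (Spec.map (CommRingCat.ofHom (Algebra.TensorProduct.includeRight : Γ(Y, ⊤) →ₐ[Γ(X, ⊤)] T).toRingHom))
        (Spec.map ρ) (Spec.map φ) :=
      isPullback_SpecMap_of_isPushout _ _ _ _ (CommRingCat.isPushout_tensorProduct Γ(X, ⊤) A Γ(Y, ⊤))
    refine h0.of_iso (Iso.refl _) (Iso.refl _) Y.isoSpec.symm X.isoSpec.symm ?_ ?_ ?_ ?_
    · simp
    · simp
    · simp [a]
    · change Spec.map φ ≫ X.isoSpec.inv = Y.isoSpec.inv ≫ f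
      rw [Iso.comp_inv_eq, Category.assoc, hnat, Iso.inv_hom_id_assoc]
  let c : Spec (CommRingCat.of Z) ⟶ pullback a f :=
    Spec.map (CommRingCat.ofHom ψ.toRingHom) ≫ hpb.isoPullback.hom
  have hc1 : IsClosedImmersion (Spec.map (CommRingCat.ofHom ψ.toRingHom)) :=
    IsClosedImmersion.spec_of_surjective _ hψ
  have hc2 : Surjective (Spec.map (CommRingCat.ofHom ψ.toRingHom)) := ⟨fun (q : PrimeSpectrum T) => by
    have hq : q ∈ Set.range (PrimeSpectrum.comap ψ.toRingHom) := by
      rw [range_comap_of_surjective _ _ hψ]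
      exact fun t ht => q.isPrime.mem_of_pow_mem _ ((hnil t ht).choose_spec ▸ q.asIdeal.zero_mem)
    exact hq⟩
  have hcf : c ≫ pullback.fst a f = Spec.map (CommRingCat.ofHom (algebraMap A Z)) := by
    simp only [c, Category.assoc, IsPullback.isoPullback_hom_fst, ← Spec.map_comp, ← CommRingCat.ofHom_comp]
    congr 2
    exact ψ.comp_algebraMap
  refine ⟨_, inferInstance, a, hsurj, _, c, inferInstance, inferInstance, ?_, ?_⟩
  · rw [hcf, IsFinite.SpecMap_iff]
    exact RingHom.finite_algebraMap.mpr hfin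
  · rw [hcf, HasRingHomProperty.Spec_iff (P := @Etale)]
    exact RingHom.etale_algebraMap.mpr het

end Groth.Agent.S0170
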