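import Groth.Statements.S0173
import Groth.Agent.H88.EtMod.TorsionSupp

set_option autoImplicit false
universe u
open CategoryTheory CategoryTheory.Limits AlgebraicGeometry Opposite
open EtPBC

namespace Groth.Agent.S0173

/-- (1), for X irreducible: X quasi-compact, quasi-separated and irreducible with generic point η, F a
torsion abelian sheaf on X_et whose stalk over η vanishes. Then F is a filtered colimit of
constructible abelian sheaves each supported in a closed subset not containing η. (The source allows
η to be the generic point of any irreducible component.) -/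
theorem result (X : Scheme.{u}) [CompactSpace X] [QuasiSeparatedSpace X]
    [IrreducibleSpace X] (F : EtCoh.Ab X) (hF : EtCoh.IsTorsion F) (hη : genericPoint X ∉ EtPBC.supp F) :
    ∃ (J : Type (u + 1)) (_ : SmallCategory J) (_ : IsFiltered J) (D : J ⥤ EtCoh.Ab X)
      (c : Cocone D) (_ : IsColimit c), Nonempty (c.pt ≅ F) ∧
      ∀ j, EtPBC.IsConstructible (D.obj j) ∧
        ∃ Z : Set X, IsClosed Z ∧ genericPoint X ∉ Z ∧ EtPBC.supp (D.obj j) ⊆ Z := Groth.Agent.H88.EtMod.TorsionSupp.exists_colimit_supp F hF (genericPoint X ∉ ·) fun F' h G hG a =>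
  Groth.Agent.H88.EtMod.TorsionSupp.exists_of_generic (genericPoint X)
    (fun y hy => (hy.antisymm (genericPoint_specializes y)).eq) F' (h ▸ hη) G hG a

end Groth.Agent.S0173
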