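import Groth.Statements.S0175
import Groth.Agent.Lib.EtRad.Push
import Groth.Agent.Lib.EtSite.UnitStalk
import Groth.Agent.Lib.EtShriek50.Exact
import Groth.Agent.Lib.EtSite.Pull
-- import your own Groth.Agent.* helpers here

set_option autoImplicit false
universe u
open CategoryTheory CategoryTheory.Limits AlgebraicGeometry Opposite
open EtPBC

namespace Groth.Agent.S0175

/-- Let i : Z → X be a closed immersion of schemes with open complement j : U → X, and I an injective
abelian sheaf on X_ét. Then the subsheaf H_Z(I) of sections supported on Z (the kernel of I → j_*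
j^* I), viewed on Z_ét via i^*, is an injective abelian sheaf on Z_ét. -/
theorem result {Z X U : Scheme.{u}} (i : Z ⟶ X) [IsClosedImmersion i]
    (j : U ⟶ X) [IsOpenImmersion j] (hZU : Set.range j = (Set.range i)ᶜ)
    [EtCoh.BCCont i] [EtCoh.BCCont j] (I : EtCoh.Ab X) [Injective I] :
    Injective ((EtCoh.pull i).obj (kernel ((EtCoh.pullPushAdj j).unit.app I))) := by
  let u := (EtCoh.pullPushAdj j).unit.app I
  let K := kernel u
  have hsupp : EtPBC.supp K ⊆ Set.range i.base := by
    rintro x ⟨Ω, _, _, ξ, hξ, hne⟩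
    by_contra hx
    apply hne
    have hxU : x ∈ Set.range j.base := by rw [hZU]; exact hx
    have hr : Set.range ξ.base ⊆ Set.range j.base := hξ ▸ Set.singleton_subset_iff.2 hxU
    obtain ⟨ξ', rfl⟩ : ∃ ξ', ξ' ≫ j = ξ :=
      ⟨IsOpenImmersion.lift j ξ hr, IsOpenImmersion.lift_fac _ _ _⟩
    let S := (Scheme.pointSmallEtale (ξ' ≫ j)).sheafFiber (A := AddCommGrpCat.{u + 1})
    have h1 : IsIso (Groth.Agent.Lib.EtSite.UnitStalk.unitStalk j ξ' AddCommGrpCat.{u + 1} I) :=
      Groth.Agent.Lib.EtSite.UnitStalk.isIso_unitStalk j ξ' AddCommGrpCat.{u + 1} I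
    have hmono : Mono (S.map u) :=
      have : IsIso (S.map u ≫ _) := h1
      mono_of_mono (S.map u) ((Groth.Agent.Lib.EtSite.PushStalk.germTo j AddCommGrpCat.{u + 1}
        (rfl : ξ' ≫ j = ξ' ≫ j)).app _)
    have : Mono (S.map (kernel.ι u)) := inferInstance
    refine IsZero.of_mono_eq_zero (S.map (kernel.ι u)) ((cancel_mono (S.map u)).1 ?_)
    rw [← S.map_comp, kernel.condition, Functor.map_zero, zero_comp]
  have := Groth.Agent.Lib.EtRad.Push.isIso_unit i K hsupp
  have := Groth.Agent.Lib.EtSite.Push.preservesEpimorphisms_push i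
  refine ⟨fun {A B} g m _ => ?_⟩
  have : PreservesLimitsOfSize.{0, 0} (EtCoh.push i) :=
    (EtCoh.pullPushAdj i).rightAdjoint_preservesLimits
  let g' : (EtCoh.push i).obj A ⟶ I :=
    (EtCoh.push i).map g ≫ inv ((EtCoh.pullPushAdj i).unit.app K) ≫ kernel.ι u
  let h := Injective.factorThru g' ((EtCoh.push i).map m)
  have hh : (EtCoh.push i).map m ≫ h = g' := Injective.comp_factorThru _ _
  have hz : h ≫ u = 0 := by
    have hS : EtPBC.supp ((EtCoh.push i).obj B) ⊆ Set.range i.base :=
      Groth.Agent.Lib.EtRad.Push.supp_subset i _ ⟨B, ⟨Iso.refl _⟩⟩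
    refine ((EtCoh.pullPushAdj j).homEquiv _ _).symm.injective ?_
    refine IsZero.eq_of_src ?_ _ _
    refine Groth.Agent.Lib.EtShriek50.Exact.isZero_of_stalks _ fun x => ?_
    let ξ := Groth.Agent.Lib.EtSite.Push.algPoint U x
    have hz' : IsZero ((EtCoh.stalk (ξ ≫ j)).obj ((EtCoh.push i).obj B)) := by
      by_contra hne
      have hm : j.base x ∈ Set.range i.base := hS ⟨_, inferInstance, inferInstance, ξ ≫ j,
        (Groth.Agent.Lib.EtJ.Supp.range_eq _).trans (congrArg (fun y => ({j.base y} : Set X))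
          (Groth.Agent.Lib.EtSite.Push.algPoint_apply _ _ _)), hne⟩
      have : j.base x ∈ Set.range j.base := ⟨x, rfl⟩
      rw [hZU] at this
      exact this hm
    exact hz'.of_iso ((Groth.Agent.Lib.EtSite.Pull.stalkPull j ξ).app _)
  have : IsIso (EtCoh.pullPushAdj i).counit :=
    have := Groth.Agent.Lib.EtRad.Push.isIso_counit i
    NatIso.isIso_of_isIso_app _
  refine ⟨((EtCoh.pullPushAdj i).fullyFaithfulROfIsIsoCounit).preimage
    (kernel.lift u h hz ≫ (EtCoh.pullPushAdj i).unit.app K), ?_⟩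
  · have := (Groth.Agent.Lib.EtRad.Push.push_full_faithful i).2
    apply (EtCoh.push i).map_injective
    rw [Functor.map_comp, Functor.FullyFaithful.map_preimage, ← Category.assoc,
      show (EtCoh.push i).map m ≫ kernel.lift u h hz =
        (EtCoh.push i).map g ≫ inv ((EtCoh.pullPushAdj i).unit.app K) from
      (cancel_mono (kernel.ι u)).1 (by rw [Category.assoc, kernel.lift_ι, hh, Category.assoc]),
      Category.assoc, IsIso.inv_hom_id, Category.comp_id]

end Groth.Agent.S0175
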