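import Groth.Statements.S0182
import Groth.Agent.H88.EtMod.Support

set_option autoImplicit false
universe u
open CategoryTheory CategoryTheory.Limits AlgebraicGeometry Opposite
open EtPBC

namespace Groth.Agent.S0182

/-- (1), surjectivity case, for abelian sheaves: X quasi-compact and quasi-separated, F -> G a map of
constructible abelian sheaves on X_et; the set of points x of X such that F -> G is surjective on
stalks at (every) geometric point over x is constructible. The source states this for constructible
sheaves of sets; an abelian constructible sheaf is one, with the same stalks. -/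
theorem result (X : Scheme.{u}) [CompactSpace X] [QuasiSeparatedSpace X]
    {F G : EtCoh.Ab X} (φ : F ⟶ G) (hF : EtPBC.IsConstructible F) (hG : EtPBC.IsConstructible G) :
    Topology.IsConstructible {x : X | ∀ (Ω : Type u) [Field Ω] [IsSepClosed Ω]
      (ξ : Spec (CommRingCat.of Ω) ⟶ X), Set.range ξ = {x} →
        Function.Surjective ((EtCoh.stalk ξ).map φ)} := by
  have hQ := (Groth.Agent.H88.EtMod.PBCOps.isConstructible_kernel_cokernel φ hF hG).2
  have h := (Groth.Agent.H88.EtMod.Support.isLocallyConstructible_supp hQ).isConstructible.compl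
  have key : ∀ (Ω : Type u) [Field Ω] [IsSepClosed Ω] (ξ : Spec (CommRingCat.of Ω) ⟶ X),
      Function.Surjective ((EtCoh.stalk ξ).map φ) ↔ IsZero ((EtCoh.stalk ξ).obj (cokernel φ)) := by
    intro Ω _ _ ξ
    haveI : PreservesColimit (parallelPair φ 0) (EtCoh.stalk ξ) := inferInstance
    rw [← AddCommGrpCat.epi_iff_surjective, (PreservesCokernel.iso (EtCoh.stalk ξ) φ).isZero_iff]
    exact ⟨fun _ => isZero_cokernel_of_epi _, fun h => Preadditive.epi_of_isZero_cokernel _ h⟩
  convert h using 1
  ext x
  constructor
  · rintro hx ⟨Ω, _, _, ξ, hξ, hnz⟩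
    exact hnz ((key Ω ξ).1 (hx Ω ξ hξ))
  · intro hx Ω _ _ ξ hξ
    exact (key Ω ξ).2 (by_contra fun hnz => hx ⟨Ω, _, _, ξ, hξ, hnz⟩)

end Groth.Agent.S0182
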