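import Groth.Statements.S0183
import Groth.Agent.Lib.WLocal.Glue
import Groth.Agent.Lib.WLocal.Cons

set_option autoImplicit false
universe u
open CategoryTheory CategoryTheory.Limits AlgebraicGeometry Opposite
open EtPBC

namespace Groth.Agent.S0183

/-- Suppose A -> B identifies local rings (A_p -> B_q bijective for every prime q of B over p). Then B
can be enlarged along a faithfully flat ind-Zariski extension B' so that B' is already ind-Zariski
over A; ind-Zariski means: a filtered colimit of local isomorphisms in the sense of Mathlib's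
Algebra.IsLocalIso (Zariski-locally on the source a standard open immersion). -/
theorem result (A B : Type u) [CommRing A] [CommRing B] [Algebra A B]
    (h : EtPBC.IdentifiesLocalRings A B) :
    ∃ (B' : Type u) (_ : CommRing B') (_ : Algebra B B') (_ : Algebra A B') (_ : IsScalarTower A B B'),
      Module.FaithfullyFlat B B' ∧ EtPBC.IsIndZariski B B' ∧ EtPBC.IsIndZariski A B' := by
  have := Lib.WLocal.Cons.totallySeparatedSpace B
  let h := Lib.WLocal.Cons.h B
  have hh := Lib.WLocal.Cons.consContinuous_h B
  have : IsScalarTower A B (Lib.WLocal.AW.Ring h) :=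
    IsScalarTower.of_algebraMap_eq (R := A) (S := B) (A := Lib.WLocal.AW.Ring h) fun a => by
      rw [IsScalarTower.algebraMap_apply A (LocallyConstant (Lib.WLocal.Cons.T B) B)
          (Lib.WLocal.AW.Ring h) a,
        IsScalarTower.algebraMap_apply B (LocallyConstant (Lib.WLocal.Cons.T B) B)
          (Lib.WLocal.AW.Ring h) (algebraMap A B a)]
      rfl
  refine ⟨Lib.WLocal.AW.Ring h, inferInstance, inferInstance, inferInstance, inferInstance,
    Lib.WLocal.AW.faithfullyFlat (Lib.WLocal.Cons.bijective_h B).2, Lib.WLocal.AW.isIndZariski,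
    Lib.WLocal.Glue.isIndZariski_of_identAt (Lib.WLocal.AW.isWLocal hh) fun Q => ?_⟩
  exact Lib.IndEtale.Ident.comp (B := B)
    ((Lib.IndEtale.Ident.identifiesLocalRings_iff.mp ‹EtPBC.IdentifiesLocalRings A B›)
      (PrimeSpectrum.comap (algebraMap B _) Q.1))
    (Lib.IndEtale.Ident.of_factorsZar (Lib.WLocal.LCSpec.factorsZar_loc _) _)

end Groth.Agent.S0183
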