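import Groth.Statements.S0194
import Groth.Agent.Lib.CSA.Centralizer
import Mathlib.LinearAlgebra.FiniteDimensional.Lemmas

set_option autoImplicit false
universe u v w
open scoped TensorProduct
open Curves

namespace Groth.Agent.S0194

/-- A central simple subalgebra B of a finite central simple algebra A, together with its centralizer C,
decomposes A as B ⊗ C. -/
theorem result (k : Type u) [Field k] (A : Type v) [Ring A] [Algebra k A]
    [Algebra.IsCentral k A] [IsSimpleRing A] [FiniteDimensional k A]
    (B : Subalgebra k A) [IsSimpleRing B] [Algebra.IsCentral k B] :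
    Function.Bijective (Algebra.TensorProduct.lift B.val (Subalgebra.centralizer k (B : Set A)).val
      (fun x y => y.2 x.1 x.2)) := by
  set C := Subalgebra.centralizer k (B : Set A) with hCdef
  have hC : IsSimpleRing C := by
    have h := Groth.Agent.Lib.CSA.Centralizer.isSimpleRing_centralizer B.val
    rwa [Subalgebra.range_val] at h
  have : IsSimpleRing (B ⊗[k] C) := Groth.Agent.Lib.CSA.Tensor.isSimpleRing_tensor'
  have hd := Groth.Agent.Lib.CSA.Centralizer.finrank_mul_centralizer B.val
  rw [Subalgebra.range_val, ← Module.finrank_tensorProduct (R := k)] at hd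
  let F := Algebra.TensorProduct.lift B.val C.val (fun x y => y.2 x.1 x.2)
  have hinj : Function.Injective F := RingHom.injective F.toRingHom
  exact ⟨hinj, (LinearMap.injective_iff_surjective_of_finrank_eq_finrank hd (f := F.toLinearMap)).mp hinj⟩

end Groth.Agent.S0194
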