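import Groth.Statements.S0197
import Groth.Agent.Lib.CSA.SplittingModule

set_option autoImplicit false
universe u v w
open scoped TensorProduct
open Curves

namespace Groth.Agent.S0197

/-- If a finite central skew field D has dimension d^2, the degree of any finite splitting field of D is
divisible by d. -/
theorem result (k : Type u) [Field k]
    (D : Type u) [DivisionRing D] [Algebra k D] [Algebra.IsCentral k D] [FiniteDimensional k D]
    (d : ℕ) (hd : Module.finrank k D = d ^ 2)
    (k' : Type u) [Field k'] [Algebra k k'] [FiniteDimensional k k'] (hs : Curves.Splits k D k') :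
    d ∣ Module.finrank k k' := by
  obtain ⟨d', m, -, -, -, hdD, hdL⟩ := Groth.Agent.Lib.CSA.SplittingModule.exists_degree hs
  obtain rfl : d = d' := Nat.mul_self_inj.mp (by rw [← hdD, hd, pow_two])
  exact Dvd.intro_left m hdL.symm

end Groth.Agent.S0197
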