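import Groth.Statements.S0207
import Groth.Agent.Lib.EtSite.ArtinSchreier
import Groth.Agent.Lib.EtQCoh.GaEnd
import Groth.Agent.S0469

set_option autoImplicit false
universe u
open CategoryTheory CategoryTheory.Limits AlgebraicGeometry
open Curves

namespace Groth.Agent.S0207

/-- On a quasi-compact quasi-separated scheme of dimension d on which the prime p is zero, étale
cohomology with Z/p coefficients vanishes from degree d+2 on. -/
theorem result (p : ℕ) [Fact p.Prime] (S : Scheme.{u}) [CompactSpace S] [QuasiSeparatedSpace S]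
    (hp : (p : Γ(S, ⊤)) = 0) (d : ℕ) (hd : topologicalKrullDim S = d) (q : ℕ) (hq : 2 + d ≤ q) :
    Subsingleton (EtCoh.H S (EtCoh.const S (ZMod p)) q) := by
  haveI : SpectralSpace S := {}
  open Groth.Agent.Lib CategoryTheory.Abelian in
  have hGa : ∀ n, d + 1 ≤ n → Subsingleton (EtCoh.H S (EtCoh.Ga S) n) := fun n hn => by
    haveI : Subsingleton (Coh.HH S (Coh.structureModule S) n) :=
      Groth.Agent.S0469.result d hd.le (Coh.toAb (Coh.structureModule S)) n hn
    obtain ⟨e, -⟩ := EtQCoh.GaEnd.exists_equiv (X := S) n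
    exact e.toEquiv.subsingleton
  open Groth.Agent.Lib CategoryTheory.Abelian in
  obtain ⟨n, rfl⟩ : ∃ n, q = n + 1 := ⟨q - 1, by omega⟩
  haveI := hGa n (by omega)
  haveI := hGa (n + 1) (by omega)
  open Groth.Agent.Lib CategoryTheory.Abelian in
  exact subsingleton_of_forall_eq 0 fun x => by
    obtain ⟨y, rfl⟩ := Ext.covariant_sequence_exact₁ _ (EtSite.ArtinSchreier.shortExact p hp) x
      (Subsingleton.elim (α := EtCoh.H S (EtCoh.Ga S) (n + 1)) _ _) (n₀ := n) rfl
    rw [Subsingleton.elim (α := EtCoh.H S (EtCoh.Ga S) n) y 0, Ext.zero_comp]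

end Groth.Agent.S0207
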