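import Groth.Statements.S0217
import Groth.Agent.H97.FiniteAffine

set_option autoImplicit false
universe u
open CategoryTheory CategoryTheory.Limits AlgebraicGeometry TopologicalSpace
open Curves

namespace Groth.Agent.S0217

/-- On a separated scheme whose quasi-compact opens have finitely many irreducible components, any
finite set of points with Noetherian local rings of dimension at most one lies in a common affine
open. -/
theorem result (X : Scheme.{u}) [X.IsSeparated]
    (hirr : ∀ U : X.Opens, IsCompact (U : Set X) → (irreducibleComponents (U : Set X)).Finite)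
    (s : Finset X) (hs : ∀ x ∈ s, IsNoetherianRing (X.presheaf.stalk x) ∧ ringKrullDim (X.presheaf.stalk x) ≤ 1) :
    ∃ U : X.Opens, IsAffineOpen U ∧ ∀ x ∈ s, x ∈ U := by
  classical
  choose U hU hxU _h using fun x : X => exists_isAffineOpen_mem_and_subset (x := x) (U := (⊤ : X.Opens)) trivial
  let W : X.Opens := s.sup U
  have hW : IsCompact (W : Set X) := by
    rw [show (W : Set X) = ⋃ x ∈ (s : Set X), (U x : Set X) from by simp [W, Finset.sup_eq_iSup]]
    exact s.finite_toSet.isCompact_biUnion fun x _ => (hU x).isCompact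
  have hsW : ∀ x ∈ s, x ∈ W := fun x hx => (Finset.le_sup (f := U) hx) (hxU x)
  haveI : (W : Scheme.{u}).IsSeparated := ⟨by rw [← Limits.terminal.comp_from W.ι]; infer_instance⟩
  let T : Finset (W : Scheme.{u}) := (s.finite_toSet.preimage W.ι.isOpenEmbedding.injective.injOn).toFinset
  have hT : ∀ z, z ∈ T ↔ W.ι z ∈ s := fun z => Set.Finite.mem_toFinset _
  obtain ⟨V, hV, hTV⟩ := Groth.Agent.H97.FiniteAffine.exists_affineOpen' (X := (W : Scheme.{u})) (hirr W hW) T
    (fun z hz => haveI := (hs _ ((hT z).1 hz)).1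
      isNoetherianRing_of_surjective _ _ _ (W.ι.stalkMap_surjective z))
    (fun z hz => (ringKrullDim_le_of_surjective _ (W.ι.stalkMap_surjective z)).trans (hs _ ((hT z).1 hz)).2)
  exact ⟨W.ι ''ᵁ V, hV.image_of_isOpenImmersion W.ι, fun x hx =>
    ⟨⟨x, hsW x hx⟩, hTV ⟨x, hsW x hx⟩ ((hT ⟨x, hsW x hx⟩).2 hx), rfl⟩⟩

end Groth.Agent.S0217
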