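import Groth.Statements.S0218
import Mathlib.FieldTheory.IsAlgClosed.Basic
import Mathlib.RingTheory.IntegralClosure.IsIntegralClosure.Basic
import Mathlib.LinearAlgebra.FiniteDimensional.Lemmas
import Mathlib.Algebra.DualNumber

set_option autoImplicit false
universe u
open Curves

namespace Groth.Agent.S0218

/-- Over an algebraically closed field k, a commutative k-algebra with exactly two k-subalgebras is
isomorphic to k × k or to the dual numbers over k. -/
theorem result (k : Type u) [Field k] [IsAlgClosed k] (A : Type u) [CommRing A] [Algebra k A]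
    (h : Nat.card (Subalgebra k A) = 2) :
    Nonempty (A ≃ₐ[k] (k × k)) ∨ Nonempty (A ≃ₐ[k] DualNumber k) := by
  classical
  have hfin : Finite (Subalgebra k A) := Nat.finite_of_card_ne_zero (by omega)
  obtain ⟨T₁, T₂, hT, huniv⟩ := Nat.card_eq_two_iff.mp h
  have hnt : (⊥ : Subalgebra k A) ≠ ⊤ := by
    intro hbt
    exact hT ((eq_bot_iff.mpr (hbt ▸ le_top) : T₁ = ⊥).trans (eq_bot_iff.mpr (hbt ▸ le_top) : T₂ = ⊥).symm)
  have hdich : ∀ S : Subalgebra k A, S = ⊥ ∨ S = ⊤ := by
    intro S
    have hS : ∀ T : Subalgebra k A, T = T₁ ∨ T = T₂ := fun T => by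
      have := Set.eq_univ_iff_forall.mp huniv T
      simpa using this
    rcases hS S with rfl | rfl <;> rcases hS ⊥ with hb | hb <;> rcases hS ⊤ with ht | ht
    all_goals first
      | exact Or.inl hb.symm
      | exact Or.inr ht.symm
      | exact absurd (hb.trans ht.symm) hnt
  have : Nontrivial A := by
    by_contra hn
    rw [not_nontrivial_iff_subsingleton] at hn
    exact hnt (SetLike.ext fun x => by
      simp only [Algebra.mem_top, iff_true]
      exact (Subsingleton.elim (0 : A) x) ▸ (⊥ : Subalgebra k A).zero_mem)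
  obtain ⟨x, hx⟩ : ∃ x : A, x ∉ (⊥ : Subalgebra k A) := by
    by_contra! hall
    exact hnt (eq_top_iff.mpr fun x _ => hall x)
  have hgen : Algebra.adjoin k ({x} : Set A) = ⊤ :=
    (hdich _).resolve_left fun hb => hx (hb ▸ Algebra.subset_adjoin rfl)
  have hint : IsIntegral k x := by
    rw [← isAlgebraic_iff_isIntegral]
    rcases hdich (Algebra.adjoin k ({x ^ 2} : Set A)) with hb | ht
    · obtain ⟨c, hc⟩ := Algebra.mem_bot.mp (hb ▸ Algebra.subset_adjoin rfl : x ^ 2 ∈ (⊥ : Subalgebra k A))
      exact ⟨Polynomial.X ^ 2 - Polynomial.C c, Polynomial.X_pow_sub_C_ne_zero (by norm_num) c, by simp [hc]⟩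
    · have hxm : x ∈ Algebra.adjoin k ({x ^ 2} : Set A) := ht ▸ Algebra.mem_top
      rw [Algebra.adjoin_singleton_eq_range_aeval] at hxm
      obtain ⟨p, hp⟩ := hxm
      refine ⟨p.comp (Polynomial.X ^ 2) - Polynomial.X, fun h0 => ?_, by simpa [Polynomial.aeval_comp, sub_eq_zero] using hp⟩
      have := congr_arg Polynomial.natDegree (sub_eq_zero.mp h0)
      rw [Polynomial.natDegree_comp, Polynomial.natDegree_X_pow, Polynomial.natDegree_X] at this
      omega
  have : Module.Finite k A := by
    have hfg := hint.fg_adjoin_singleton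
    rw [hgen] at hfg
    exact ⟨by simpa using hfg⟩
  -- every nonzero proper ideal is a line
  have hJ : ∀ J : Ideal A, J ≠ ⊤ → J ≠ ⊥ → ∀ a : A, ∃ c : k, a - algebraMap k A c ∈ J := by
    intro J hJt hJb
    let S : Subalgebra k A :=
      { carrier := {a | ∃ c : k, a - algebraMap k A c ∈ J}
        mul_mem' := by
          rintro a b ⟨c, hc⟩ ⟨d, hd⟩
          refine ⟨c * d, ?_⟩
          have : a * b - algebraMap k A (c * d) =
              (a - algebraMap k A c) * b + algebraMap k A c * (b - algebraMap k A d) := by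
            rw [map_mul]; ring
          rw [this]
          exact J.add_mem (J.mul_mem_right _ hc) (J.mul_mem_left _ hd)
        add_mem' := by
          rintro a b ⟨c, hc⟩ ⟨d, hd⟩
          exact ⟨c + d, by rw [map_add, add_sub_add_comm]; exact J.add_mem hc hd⟩
        algebraMap_mem' := fun c => ⟨c, by rw [sub_self]; exact J.zero_mem⟩ }
    rcases hdich S with hS | hS
    · obtain ⟨a, ha, ha0⟩ := Submodule.exists_mem_ne_zero_of_ne_bot hJb
      obtain ⟨c, rfl⟩ := Algebra.mem_bot.mp (hS ▸ ⟨0, by simpa using ha⟩ : a ∈ (⊥ : Subalgebra k A))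
      exact absurd (Ideal.eq_top_of_isUnit_mem J ha ((IsUnit.mk0 c fun h0 => ha0 (by simp [h0])).map _)) hJt
    · exact fun a => (hS ▸ Algebra.mem_top : a ∈ S)
  obtain ⟨J, hJt, hJb⟩ : ∃ J : Ideal A, J ≠ ⊤ ∧ J ≠ ⊥ := by
    by_contra! hall
    have hF : IsField A := by
      rw [Ring.isField_iff_isSimpleOrder_ideal]
      exact ⟨fun J => (em (J = ⊤)).symm.imp (hall J) id⟩
    letI := hF.toField
    exact hx (Algebra.mem_bot.mpr (IsAlgClosed.algebraMap_bijective_of_isIntegral.2 x))
  obtain ⟨a, ha, ha0⟩ := Submodule.exists_mem_ne_zero_of_ne_bot hJb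
  have hsc : ∀ (J' : Ideal A) (t : k), J' ≠ ⊤ → algebraMap k A t ∈ J' → t = 0 := fun J' t h' ht =>
    by_contra fun hne => h' (Ideal.eq_top_of_isUnit_mem J' ht ((IsUnit.mk0 t hne).map _))
  -- the line `k · a` is an ideal equal to `J`
  have haann : ∀ b : A, ∃ c : k, b * a = algebraMap k A c * a := by
    intro b
    let Q : Ideal A := LinearMap.ker (LinearMap.toSpanSingleton A A a)
    have hQt : Q ≠ ⊤ := fun hQ => ha0 (by simpa [Q] using (hQ ▸ Submodule.mem_top : (1 : A) ∈ Q))
    by_cases hQb : Q = ⊥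
    · exfalso
      have hinj : Function.Injective (LinearMap.mulRight k a) := fun u v huv => by
        have : u - v ∈ Q := by
          simp only [Q, LinearMap.mem_ker, LinearMap.toSpanSingleton_apply, smul_eq_mul, sub_mul]
          exact sub_eq_zero.mpr huv
        rw [hQb] at this
        exact sub_eq_zero.mp this
      obtain ⟨u, hu⟩ := LinearMap.injective_iff_surjective.mp hinj 1
      exact hJt ((Ideal.eq_top_iff_one J).mpr (hu ▸ J.mul_mem_left u ha))
    · obtain ⟨c, hc⟩ := hJ Q hQt hQb b
      refine ⟨c, ?_⟩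
      simp only [Q, LinearMap.mem_ker, LinearMap.toSpanSingleton_apply, smul_eq_mul, sub_mul] at hc
      exact sub_eq_zero.mp hc
  let L : Ideal A := Ideal.span {a}
  have hL : ∀ z ∈ L, ∃ c : k, z = algebraMap k A c * a := fun z hz => by
    obtain ⟨b, rfl⟩ := Ideal.mem_span_singleton'.mp hz
    exact haann b
  have hLt : L ≠ ⊤ := fun hLt => hJt (top_le_iff.mp (hLt ▸ (Ideal.span_le.mpr (by simpa using ha))))
  have hLb : L ≠ ⊥ := fun hLb => ha0 (by simpa [L] using hLb)
  obtain ⟨γ, hγ⟩ := haann a
  -- coordinates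
  have hcoord : ∀ z : A, ∃! p : k × k, z = algebraMap k A p.1 + algebraMap k A p.2 * a := by
    intro z
    obtain ⟨c, hc⟩ := hJ L hLt hLb z
    obtain ⟨d, hd⟩ := hL _ hc
    refine ⟨(c, d), by simp [← hd], ?_⟩
    rintro ⟨c', d'⟩ hp
    have hcc : c' = c := by
      refine sub_eq_zero.mp (hsc L _ hLt ?_)
      have : algebraMap k A (c' - c) = algebraMap k A d * a - algebraMap k A d' * a := by
        rw [map_sub, ← hd]
        linear_combination -hp
      rw [this]
      exact L.sub_mem (L.mul_mem_left _ (Ideal.subset_span rfl)) (L.mul_mem_left _ (Ideal.subset_span rfl))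
    subst hcc
    simp only [Prod.mk.injEq, true_and]
    have h0 : algebraMap k A (d' - d) * a = 0 := by
      rw [map_sub]
      linear_combination -hp + hd
    by_contra hne
    exact ha0 ((((IsUnit.mk0 (d' - d) (sub_ne_zero.mpr hne)).map (algebraMap k A)).mul_right_eq_zero).mp h0)
  by_cases hγ0 : γ = 0
  · right
    have haa : a * a = 0 := by simp [hγ, hγ0]
    let φ : DualNumber k →ₐ[k] A := DualNumber.lift ⟨(Algebra.ofId k A, a), haa, fun c => Commute.all _ _⟩
    have hφ : ∀ z : DualNumber k, φ z = algebraMap k A z.fst + algebraMap k A z.snd * a := fun z => by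
      simp [φ, DualNumber.lift_apply_apply, Algebra.ofId_apply]
    refine ⟨(AlgEquiv.ofBijective φ ⟨fun u v huv => ?_, fun z => ?_⟩).symm⟩
    · obtain ⟨p, -, hp⟩ := hcoord (φ u)
      have h1 := hp (u.fst, u.snd) (hφ u)
      have h2 := hp (v.fst, v.snd) (huv.trans (hφ v))
      have h3 := h1.trans h2.symm
      exact TrivSqZeroExt.ext (congr_arg Prod.fst h3) (congr_arg Prod.snd h3)
    · obtain ⟨p, hp, -⟩ := hcoord z
      exact ⟨TrivSqZeroExt.inl p.1 + TrivSqZeroExt.inr p.2, by rw [hφ]; simpa using hp.symm⟩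
  · left
    set e := algebraMap k A γ⁻¹ * a with he
    have hγ1 : algebraMap k A γ⁻¹ * algebraMap k A γ = 1 := by rw [← map_mul, inv_mul_cancel₀ hγ0, map_one]
    have hee : e * e = e := by
      rw [he]
      linear_combination (algebraMap k A γ⁻¹) ^ 2 * hγ + algebraMap k A γ⁻¹ * a * hγ1
    let ψ : k × k →ₐ[k] A :=
      { toFun := fun p => algebraMap k A p.1 * e + algebraMap k A p.2 * (1 - e)
        map_one' := by simp
        map_zero' := by simp
        map_add' := fun p q => by simp only [Prod.fst_add, Prod.snd_add, map_add]; ring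
        map_mul' := fun p q => by
          simp only [Prod.fst_mul, Prod.snd_mul, map_mul]
          linear_combination -((algebraMap k A p.1 - algebraMap k A p.2) * (algebraMap k A q.1 - algebraMap k A q.2)) * hee
        commutes' := fun c => by
          show algebraMap k A c * e + algebraMap k A c * (1 - e) = _
          ring }
    have hψ : ∀ p : k × k, ψ p = algebraMap k A p.2 + algebraMap k A ((p.1 - p.2) * γ⁻¹) * a := fun p => by
      show algebraMap k A p.1 * e + algebraMap k A p.2 * (1 - e) = _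
      rw [he, map_mul, map_sub]; ring
    refine ⟨(AlgEquiv.ofBijective ψ ⟨fun u v huv => ?_, fun z => ?_⟩).symm⟩
    · obtain ⟨p, -, hp⟩ := hcoord (ψ u)
      have h1 := hp (u.2, (u.1 - u.2) * γ⁻¹) (hψ u)
      have h2 := hp (v.2, (v.1 - v.2) * γ⁻¹) (huv.trans (hψ v))
      obtain ⟨h3, h4⟩ := Prod.mk.inj (h1.trans h2.symm)
      have h5 := mul_right_cancel₀ (inv_ne_zero hγ0) h4
      rw [h3] at h5
      exact Prod.ext (sub_left_injective h5) h3
    · obtain ⟨p, hp, -⟩ := hcoord z
      refine ⟨(p.2 * γ + p.1, p.1), ?_⟩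
      rw [hψ, hp, add_sub_cancel_right, mul_assoc, mul_inv_cancel₀ hγ0, mul_one]

end Groth.Agent.S0218
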