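import Groth.Statements.S0221
import Groth.Agent.Lib.LangSep98.EtFix
import Groth.Agent.S0222
-- import your own Groth.Agent.* helpers here

set_option autoImplicit false
universe u
open CategoryTheory CategoryTheory.Limits AlgebraicGeometry
open Curves

namespace Groth.Agent.S0221

/-- For a separated finite type scheme of dimension d over an algebraically closed field of
characteristic p, étale cohomology with Z/p coefficients vanishes above degree d. -/
theorem result (k : Type u) [Field k] [IsAlgClosed k] (p : ℕ) [Fact p.Prime] [CharP k p]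
    (X : Scheme.{u}) (f : X ⟶ Spec (CommRingCat.of k)) [IsSeparated f] [LocallyOfFiniteType f] [QuasiCompact f]
    (d : ℕ) (hd : topologicalKrullDim X = d) (q : ℕ) (hq : d + 1 ≤ q) :
    Subsingleton (EtCoh.H X (EtCoh.const X (ZMod p)) q) := by
  open Groth.Agent.Lib.LangSep98 Groth.Agent.Lib.EtQCoh Groth.Agent.Lib.EtSite CategoryTheory.Abelian in
  letI : X.Over (Spec (CommRingCat.of k)) := ⟨f⟩
  have : IsSeparated (X ↘ Spec (CommRingCat.of k)) := ‹IsSeparated f›
  have : LocallyOfFiniteType (X ↘ Spec (CommRingCat.of k)) := ‹LocallyOfFiniteType f›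
  have : QuasiCompact (X ↘ Spec (CommRingCat.of k)) := ‹QuasiCompact f›
  have h0 : (p : Γ(X, ⊤)) = 0 := by
    have h : ((p : ℕ) : Coh.Γtop X) = 0 := by
      rw [← map_natCast (Coh.toGlobal f), CharP.cast_eq_zero k p, map_zero]
    exact h
  have : IsLocallyNoetherian X := LocallyOfFiniteType.isLocallyNoetherian f
  have : CompactSpace X := QuasiCompact.compactSpace_of_compactSpace f
  have : IsNoetherian X := {}
  obtain ⟨n, rfl⟩ : ∃ n, q = n + 1 := ⟨q - 1, by omega⟩
  haveI : Subsingleton (Coh.HH X (Coh.structureModule X) (n + 1)) :=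
    Groth.Agent.S0458.result d hd.le (Coh.toAb (Coh.structureModule X)) (n + 1) hq
  obtain ⟨e₁, -⟩ := GaEnd.exists_equiv (X := X) (n + 1)
  haveI : Subsingleton (EtCoh.H X (EtCoh.Ga X) (n + 1)) := e₁.toEquiv.subsingleton
  letI := GaEnd.moduleGa (Coh.toGlobal f) n
  obtain ⟨e, he⟩ := GaEnd.exists_equiv (X := X) n
  let L : EtCoh.H X (EtCoh.Ga X) n ≃ₗ[k] Coh.HH X (Coh.structureModule X) n :=
    { e with map_smul' := fun c x => he (Coh.toGlobal f c) x }
  haveI : Module.Finite k (Coh.HH X (Coh.structureModule X) n) := by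
    rcases (show d ≤ n by omega).eq_or_lt with rfl | hlt
    · exact Groth.Agent.S0222.result k X (Coh.structureModule X)
        (Groth.Agent.Lib.Snapper.Twist.isCoh_structureModule X) d hd
    · haveI : Subsingleton (Coh.HH X (Coh.structureModule X) n) :=
        Groth.Agent.S0458.result d hd.le (Coh.toAb (Coh.structureModule X)) n hlt
      infer_instance
  haveI : Module.Finite k (EtCoh.H X (EtCoh.Ga X) n) := Module.Finite.equiv L.symm
  have hS := ArtinSchreier.shortExact p h0
  refine subsingleton_of_forall_eq 0 fun x => ?_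
  obtain ⟨y, rfl⟩ := Ext.covariant_sequence_exact₁ _ hS x (Subsingleton.elim _ _) (n₀ := n) rfl
  have hF : ∀ (c : k) (v : EtCoh.H X (EtCoh.Ga X) n),
      EtFix.F p h0 n (c • v) = c ^ p • EtFix.F p h0 n v := fun c v => by
    change Ext.comp (Ext.comp v (Ext.mk₀ (GaEnd.mulC (Coh.toGlobal f c))) (add_zero n))
      (Ext.mk₀ (ArtinSchreier.frobSub p h0 + 𝟙 _)) (add_zero n) =
      Ext.comp (Ext.comp v (Ext.mk₀ (ArtinSchreier.frobSub p h0 + 𝟙 _)) (add_zero n))
      (Ext.mk₀ (GaEnd.mulC (Coh.toGlobal f (c ^ p)))) (add_zero n)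
    rw [Ext.comp_assoc_of_third_deg_zero, Ext.comp_assoc_of_third_deg_zero, Ext.mk₀_comp_mk₀,
      Ext.mk₀_comp_mk₀, map_pow]
    exact congrArg (fun m => Ext.comp v (Ext.mk₀ m) (add_zero n)) (ASProper.mulC_frob p h0 _)
  obtain ⟨z, hz⟩ := Basic.sub_id_surjective (k := k) (V := EtCoh.H X (EtCoh.Ga X) n) p (EtFix.F p h0 n) hF y
  rw [← hz]
  dsimp only
  rw [EtFix.F_apply, add_sub_cancel_right]
  exact (Ext.comp_assoc_of_second_deg_zero _ _ _ _).trans (by rw [hS.comp_extClass, Ext.comp_zero])

end Groth.Agent.S0221
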