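import Groth.Statements.S0226
import Groth.Agent.Lib.Regular.UFD
import Groth.Agent.Lib.Regular.Quotient
import Mathlib.RingTheory.Ideal.MinimalPrime.Noetherian

set_option autoImplicit false
universe u
open Curves

namespace Groth.Agent.S0226

/-- In a regular local ring of dimension two, an ideal inside the maximal ideal with reduced quotient is
zero, the maximal ideal, or principal. -/
theorem result (A : Type u) [CommRing A] [IsRegularLocalRing A] (hdim : ringKrullDim A = 2)
    (I : Ideal A) (hI : I ≤ IsLocalRing.maximalIdeal A) [IsReduced (A ⧸ I)] :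
    I = ⊥ ∨ I = IsLocalRing.maximalIdeal A ∨ ∃ f ∈ IsLocalRing.maximalIdeal A, f ≠ 0 ∧ I = Ideal.span {f} := by
  classical
  have := Groth.Agent.Lib.Regular.Quotient.isDomain A
  have := Groth.Agent.Lib.Regular.UFD.uniqueFactorizationMonoid A
  have hrad : I.IsRadical := Ideal.isRadical_iff_quotient_reduced I |>.mpr inferInstance
  by_cases hm : IsLocalRing.maximalIdeal A ∈ I.minimalPrimes
  · right; left
    conv_lhs => rw [← hrad.radical, ← Ideal.sInf_minimalPrimes]
    refine le_antisymm (sInf_le hm) (le_sInf fun P hP => ?_)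
    exact hm.2 hP.1 (IsLocalRing.le_maximalIdeal hP.1.1.ne_top)
  by_cases h0 : (⊥ : Ideal A) ∈ I.minimalPrimes
  · exact Or.inl (le_bot_iff.mp h0.1.2)
  right; right
  have hfin : I.minimalPrimes.Finite := I.finite_minimalPrimes_of_isNoetherianRing A
  have hprinc : ∀ P ∈ I.minimalPrimes, ∃ p : A, Prime p ∧ P = Ideal.span {p} := by
    intro P hP
    have := hP.1.1
    have hP0 : P ≠ ⊥ := fun h => h0 (h ▸ hP)
    obtain ⟨p, hpP, hp⟩ := Ideal.IsPrime.exists_mem_prime_of_ne_bot hP.1.1 hP0
    refine ⟨p, hp, ?_⟩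
    by_contra hne
    have hlt : Ideal.span {p} < P := lt_of_le_of_ne ((Ideal.span_singleton_le_iff_mem _).mpr hpP) (Ne.symm hne)
    have hPm : P < IsLocalRing.maximalIdeal A := lt_of_le_of_ne (IsLocalRing.le_maximalIdeal hP.1.1.ne_top)
      fun h => hm (h ▸ hP)
    have hpprime : (Ideal.span {p}).IsPrime := (Ideal.span_singleton_prime hp.ne_zero).mpr hp
    let s : LTSeries (PrimeSpectrum A) :=
      ⟨3, ![⟨⊥, Ideal.isPrime_bot⟩, ⟨Ideal.span {p}, hpprime⟩, ⟨P, hP.1.1⟩, ⟨IsLocalRing.maximalIdeal A, inferInstance⟩],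
        fun i => by
          fin_cases i
          · exact show (⊥ : Ideal A) < Ideal.span {p} from bot_lt_iff_ne_bot.mpr (by simpa using hp.ne_zero)
          · exact show Ideal.span {p} < P from hlt
          · exact show P < IsLocalRing.maximalIdeal A from hPm⟩
    have h3 : ((3 : ℕ) : WithBot ℕ∞) ≤ ringKrullDim A := Order.LTSeries.length_le_krullDim s
    rw [hdim] at h3
    exact absurd h3 (by decide)
  choose! p hp hpP using hprinc
  let f := ∏ P ∈ hfin.toFinset, p P
  have hI' : I = Ideal.span {f} := by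
    conv_lhs => rw [← hrad.radical, ← Ideal.sInf_minimalPrimes]
    apply le_antisymm
    · intro x hx
      rw [Ideal.mem_span_singleton]
      refine Finset.prod_dvd_of_isRelPrime (fun P hP Q hQ hPQ => ?_) fun P hP => ?_
      · have hP' := hfin.mem_toFinset.mp hP
        have hQ' := hfin.mem_toFinset.mp hQ
        refine (hp P hP').irreducible.isRelPrime_iff_not_dvd.mpr fun hdvd => hPQ ?_
        have hle : Q ≤ P := by
          rw [hpP P hP', hpP Q hQ', Ideal.span_singleton_le_span_singleton]; exact hdvd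
        exact le_antisymm (hP'.2 hQ'.1 hle) hle
      · rw [← Ideal.mem_span_singleton, ← hpP P (hfin.mem_toFinset.mp hP)]
        exact (sInf_le (hfin.mem_toFinset.mp hP) : sInf I.minimalPrimes ≤ P) hx
    · refine le_sInf fun P hP => ?_
      rw [hpP P hP, Ideal.span_singleton_le_iff_mem, Ideal.mem_span_singleton]
      exact Finset.dvd_prod_of_mem p (hfin.mem_toFinset.mpr hP)
  have hf0 : f ≠ 0 := Finset.prod_ne_zero_iff.mpr fun P hP => (hp P (hfin.mem_toFinset.mp hP)).ne_zero
  exact ⟨f, hI (show f ∈ I by rw [hI']; exact Ideal.mem_span_singleton_self f), hf0, hI'⟩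

end Groth.Agent.S0226
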