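import Groth.Statements.S0229
import Groth.Agent.H61.FieldCoh.TrivialBr
import Groth.Agent.S0214
import Groth.Agent.S0213
import Groth.Agent.S0212
-- import your own Groth.Agent.* helpers here

set_option autoImplicit false
universe u
open CategoryTheory CategoryTheory.Limits AlgebraicGeometry
open Curves

namespace Groth.Agent.S0229

/-- For a field K of transcendence degree one over an algebraically closed field, G_m on the small étale
site of Spec K has no cohomology in positive degrees. -/
theorem result (k : Type u) [Field k] [IsAlgClosed k] (K : Type u) [Field K] [Algebra k K]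
    (hK : Algebra.trdeg k K = 1) (q : ℕ) (hq : 1 ≤ q) :
    Subsingleton (EtCoh.H (Spec (CommRingCat.of K)) (EtCoh.Gm (Spec (CommRingCat.of K))) q) := by
  have hC : Curves.IsCr K 1 := by
    intro n d f hf hd hdn
    obtain ⟨a, ha, h⟩ := Groth.Agent.S0212.result k K 1 (by rw [hK]; norm_num) 1 n (fun _ => f) (fun _ => d)
      (fun _ => hf) (fun _ => hd) (by simpa using hdn)
    exact ⟨a, ha, h 0⟩
  exact Groth.Agent.H61.FieldCoh.subsingleton_H_Gm (fun p hp => by
    haveI := Fact.mk hp
    exact Groth.Agent.H61.FieldCoh.normSurj_of_br (fun K' _ _ _ D _ _ _ _ =>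
      Groth.Agent.S0214.result K' (Groth.Agent.S0213.result K K' hC) D) p) hq

end Groth.Agent.S0229
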