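import Groth.Statements.S0232
import Groth.Agent.Lib.PicFieldExt.Cyclic
import Groth.Agent.Lib.PicFieldExt.Sections
import Groth.Agent.Lib.RefHull.Group
import Groth.Agent.Lib.Curves.GlobalSections

set_option autoImplicit false
universe u
open CategoryTheory CategoryTheory.Limits AlgebraicGeometry
open Curves
open scoped TensorProduct
open Groth.Agent.Lib

namespace Groth.Agent.S0232

/-- For a quasi-compact quasi-separated scheme X over a field k with finite-dimensional H^0(X, O_X), an
invertible module on X that becomes trivial after base change to a field extension k' is already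
trivial (injectivity of Pic(X) → Pic(X_{k'}), stated on classes without a group structure). The base
change is given as any pullback square. -/
theorem result (k : Type u) [Field k] (X : Scheme.{u}) [X.Over (Spec (CommRingCat.of k))]
    [CompactSpace X] [QuasiSeparatedSpace X]
    (hfin : Module.Finite k (Coh.HH X (Coh.structureModule X) 0))
    (k' : Type u) [Field k'] [Algebra k k'] (X' : Scheme.{u}) (g : X' ⟶ X) (q : X' ⟶ Spec (CommRingCat.of k'))
    (hpb : IsPullback g q (X ↘ Spec (CommRingCat.of k)) (Spec.map (CommRingCat.ofHom (algebraMap k k'))))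
    (L : X.Modules) (hL : PicF.IsInvertible L) (htriv : PicF.IsTrivialCl (PicF.pullCl g (PicF.cl L))) :
    PicF.IsTrivialCl (PicF.cl L) := by
  obtain ⟨i⟩ := RefHull.Group.iso_of_cl_eq htriv
  open Groth.Agent.Lib TensorMod.Gen TensorMod.Pullback Ample.GenLocus in
  suffices hmain : ∃ s : Coh.structureModule X ⟶ L, CohB1.genLocus L s = ⊤ by
    obtain ⟨s, hs⟩ := hmain
    haveI : IsIso s := Groth.Agent.Lib.Modules.Local.isIso_of_restrict
      (U := fun U : {U : X.Opens // IsIso ((TensorMod.LocIso.rU U).map s)} => U.1)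
      (by
        rw [eq_top_iff, ← hs]
        refine sSup_le fun U hU => ?_
        exact le_iSup (fun U : {U : X.Opens // IsIso ((TensorMod.LocIso.rU U).map s)} => U.1) ⟨U, hU⟩)
      s fun U => U.2
    exact RefHull.Group.cl_eq_of_iso ⟨(asIso s).symm⟩
  let p := X ↘ Spec (CommRingCat.of k)
  haveI : L.IsQuasicoherent := TensorMod.QCohInv.isQCoh_of_isInvertible hL
  haveI : (Coh.structureModule X).IsQuasicoherent := TensorMod.QCohInv.isQCoh_structureModule X
  letI : Algebra k Γ(X, ⊤) := (ZarCoh.FlatBC.Main.baseMap p (⊤ : X.Opens)).toAlgebra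
  letI : Module k Γ(L, ⊤) := Module.compHom _ (ZarCoh.FlatBC.Main.baseMap p (⊤ : X.Opens))
  haveI : IsScalarTower k Γ(X, ⊤) Γ(L, ⊤) := IsScalarTower.of_algebraMap_smul fun _ _ => rfl
  haveI : Module.Finite k Γ(X, ⊤) := by
    let E := Curves.GlobalSections.h0Equiv (Coh.structureModule X)
    haveI := hfin
    let El : Coh.HH X (Coh.structureModule X) 0 →ₗ[k] Γ(X, ⊤) :=
      { toFun := fun z => (show Γ(X, ⊤) from E z)
        map_add' := fun a b => map_add E a b
        map_smul' := fun a z => ?_ }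
    · exact Module.Finite.of_surjective El E.surjective
    refine (Curves.GlobalSections.h0Equiv_smul _ (Coh.toGlobal p a) z).trans ?_
    show Coh.toGlobal p a * _ = _ * _
    congr 1
    show _ = (X.presheaf.map _).hom (Coh.toGlobal p a)
    rw [show (homOfLE (le_top (a := (⊤ : X.Opens)))).op = 𝟙 _ from rfl, X.presheaf.map_id]
    rfl
  obtain ⟨ΨL, hΨL, hΨLt⟩ := Groth.Agent.Lib.PicFieldExt.exists_sections_bijection hpb L
  obtain ⟨ΨO, hΨO, hΨOt⟩ :=
    Groth.Agent.Lib.PicFieldExt.exists_sections_bijection hpb (Coh.structureModule X)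
  let V' : X'.Opens := g ⁻¹ᵁ ⊤
  let bm := ZarCoh.FlatBC.Main.baseMap q V'
  have hgen1 := isGen_unitSec_one g (⊤ : X.Opens)
  have hspan : ∀ c : Γ(X', V'), ∃ (n : ℕ) (b : Fin n → k') (r : Fin n → Γ(X, ⊤)),
      c = ∑ l, bm (b l) * g.app ⊤ (r l) := by
    intro c
    obtain ⟨z, hz⟩ := hΨO.2 (c • unitSec g (Coh.structureModule X) (one X ⊤))
    letI : Module k Γ(Coh.structureModule X, ⊤) := Module.compHom _ (ZarCoh.FlatBC.Main.baseMap p (⊤ : X.Opens))
    obtain ⟨n, b, r, rfl⟩ := TensorProduct.exists_sum_tmul_eq z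
    refine ⟨n, b, r, (hgen1 V' le_rfl).1 ?_⟩
    simp only [TensorMod.Dual.rs_self, Finset.sum_smul]
    rw [← hz, map_sum]
    refine Finset.sum_congr rfl fun l _ => ?_
    rw [hΨOt, mul_smul, ← unitSec_smul]
    congr 2
    exact (mul_one (show Γ(X, ⊤) from r l)).symm
  let x : Γ((Scheme.Modules.pullback g).obj L, V') := i.inv.app V' (one X' V')
  have hx : IsGen _ V' x := isGen_of_isIso_over (isIso_over_of_iso i.symm V') (isGen_one V')
  obtain ⟨e, he⟩ := hΨL.2 x
  have hmul : ∀ (b : k') (z : k' ⊗[k] Γ(L, ⊤)), ΨL (b • z) = bm b • ΨL z := by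
    intro b z
    induction z using TensorProduct.induction_on with
    | zero => rw [smul_zero]; exact (map_zero ΨL).trans (((congrArg _ (map_zero ΨL)).trans (smul_zero _)).symm)
    | tmul b' n =>
      rw [TensorProduct.smul_tmul', hΨLt, hΨLt, smul_eq_mul, map_mul, mul_smul]
    | add u v hu hv =>
      rw [smul_add]
      refine (map_add ΨL _ _).trans ?_
      rw [hu, hv, ← smul_add]
      exact congrArg _ (map_add ΨL u v).symm
  have hsm : ∀ (r : Γ(X, ⊤)) (z : k' ⊗[k] Γ(L, ⊤)),
      ΨL ((Algebra.lsmul k k Γ(L, ⊤) r).baseChange k' z) = g.app ⊤ r • ΨL z := by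
    intro r z
    induction z using TensorProduct.induction_on with
    | zero => rw [map_zero]; exact (map_zero ΨL).trans (((congrArg _ (map_zero ΨL)).trans (smul_zero _)).symm)
    | tmul b' n =>
      rw [LinearMap.baseChange_tmul, Algebra.lsmul_coe, hΨLt, hΨLt, unitSec_smul, smul_comm]
    | add u v hu hv =>
      rw [map_add]
      refine (map_add ΨL _ _).trans ?_
      rw [hu, hv, ← smul_add]
      exact congrArg _ (map_add ΨL u v).symm
  obtain ⟨v, hv⟩ := Groth.Agent.Lib.PicFieldExt.exists_span_singleton_eq_top (R := Γ(X, ⊤)) e (by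
    rw [eq_top_iff]
    rintro z -
    obtain ⟨c, hc⟩ := exists_coord hx (ΨL z)
    obtain ⟨n, b, r, rfl⟩ := hspan c
    have : z = ∑ l, b l • (Algebra.lsmul k k Γ(L, ⊤) (r l)).baseChange k' e := by
      apply hΨL.1
      rw [hc, map_sum, Finset.sum_smul]
      refine Finset.sum_congr rfl fun l _ => ?_
      rw [hmul, hsm, he, mul_smul]
    rw [this]
    exact Submodule.sum_mem _ fun l _ => Submodule.smul_mem _ _ (Submodule.subset_span ⟨r l, rfl⟩))
  obtain ⟨a, ha⟩ := exists_coord hx (unitSec g L v)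
  have hau : IsUnit a := by
    have hall : ∀ z : k' ⊗[k] Γ(L, ⊤), ∃ c : Γ(X', V'), ΨL z = c • unitSec g L v := by
      intro z
      induction z using TensorProduct.induction_on with
      | zero => exact ⟨0, (map_zero ΨL).trans (zero_smul _ _).symm⟩
      | tmul b' n =>
        obtain ⟨r, rfl⟩ := Submodule.mem_span_singleton.mp (hv ▸ Submodule.mem_top (x := n))
        exact ⟨bm b' * g.app ⊤ r, by rw [hΨLt, unitSec_smul, mul_smul]⟩
      | add u w hu hw =>
        obtain ⟨c, hc⟩ := hu; obtain ⟨d, hd⟩ := hw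
        refine ⟨c + d, (map_add ΨL u w).trans ?_⟩
        rw [hc, hd, add_smul]
    obtain ⟨c, hc⟩ := hall e
    refine IsUnit.of_mul_eq_one c ((hx V' le_rfl).1 ?_)
    simp only [TensorMod.Dual.rs_self]
    rw [one_smul, mul_comm, mul_smul, ← ha, ← hc, he]
  refine ⟨Modules.Free.unitHom L v, ?_⟩
  have hsv : sv (Modules.Free.unitHom L v) ⊤ = v := Modules.Free.unitHom_app_one L v
  have h1 := genLocus_pullback g hL (Modules.Free.unitHom L v) (PicLoc.pullbackStructureIso g).symm
  have h2 : V' ≤ CohB1.genLocus _ ((PicLoc.pullbackStructureIso g).inv ≫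
      (pb g).map (Modules.Free.unitHom L v)) := by
    refine le_genLocus ?_
    rw [sv_pullback, hsv, ha]
    exact IsGen_smul_isUnit hx hau
  haveI : Surjective g := MorphismProperty.of_isPullback (P := @Surjective) hpb.flip
    ⟨fun y => ⟨Classical.arbitrary _, Subsingleton.elim _ _⟩⟩
  refine top_le_iff.1 fun y _ => ?_
  obtain ⟨y', rfl⟩ := g.surjective y
  show y' ∈ g ⁻¹ᵁ CohB1.genLocus L (Modules.Free.unitHom L v)
  rw [← h1]
  exact h2 trivial

end Groth.Agent.S0232
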