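import Groth.Statements.S0235
import Groth.Agent.Lib.TensorMod.FibreTriv

set_option autoImplicit false
universe u
open CategoryTheory CategoryTheory.Limits AlgebraicGeometry
open Curves

namespace Groth.Agent.S0235

/-- For a finite morphism π : X → Y and an invertible module L on X, every point y of Y has an open
neighbourhood V such that L is trivial on the preimage of V. -/
theorem result {X Y : Scheme.{u}} (π : X ⟶ Y) [IsFinite π]
    (L : X.Modules) (hL : PicF.IsInvertible L) (y : Y) :
    ∃ V : Y.Opens, y ∈ V ∧ Nonempty (L.restrict (π ⁻¹ᵁ V).ι ≅ Coh.structureModule (↑(π ⁻¹ᵁ V))) := by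
  obtain ⟨V, hy, ⟨i⟩⟩ := Groth.Agent.Lib.TensorMod.FibreTriv.exists_free_preimage π
    (Groth.Agent.Lib.TensorMod.LocFree.of_isInvertible hL) y
  exact ⟨V, hy, ⟨i ≪≫ Groth.Agent.Lib.TensorMod.LocFree.freeModOneIso _⟩⟩

end Groth.Agent.S0235
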