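import Groth.Statements.S0237
import Mathlib.AlgebraicGeometry.PullbackCarrier
import Groth.Agent.Lib.FEt.Basic

set_option autoImplicit false
universe u
open Pi1

namespace Groth.Agent.S0237

open AlgebraicGeometry CategoryTheory in
/-- If a morphism of schemes has dense image, pulling back finite etale covers along it is faithful. -/
theorem result {X Y : Scheme.{u}} (f : X ⟶ Y)
    (h : DenseRange f.base) : (FEt.restrict f).Faithful := by
  open Groth.Agent.Lib.FEt in
  refine ⟨fun {Z W φ ψ} hφψ => MorphismProperty.Over.Hom.ext ?_⟩
  have hd : DenseRange (Limits.pullback.fst Z.hom f).base := by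
    rw [DenseRange, Scheme.Pullback.range_fst]
    exact h.preimage Z.hom.isOpenMap
  exact Basic.eq_of_denseRange W.hom φ.left ψ.left ((Over.w φ.hom).trans (Over.w ψ.hom).symm) _ hd
    (Basic.fst_comp_eq_of_restrict_map_eq f hφψ)

end Groth.Agent.S0237
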