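import Groth.Statements.S0243
import Mathlib.AlgebraicGeometry.PullbackCarrier
import Groth.Agent.Lib.FEt.Basic

set_option autoImplicit false
universe u
open Pi1

namespace Groth.Agent.S0243

open AlgebraicGeometry CategoryTheory CategoryTheory.Limits in
/-- If a closed subscheme meets every connected component of the ambient scheme, restricting finite
etale covers to it is a faithful functor. -/
theorem result {X Y : Scheme.{u}} (i : Y ⟶ X) [IsClosedImmersion i]
    (h : ∀ x : X, (connectedComponent x ∩ Set.range i.base).Nonempty) :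
    (FEt.restrict i).Faithful := by
  open Groth.Agent.Lib.FEt in
  refine ⟨fun {Z W φ ψ} hφψ => MorphismProperty.Over.Hom.ext ?_⟩
  have hw : φ.left ≫ W.hom = ψ.left ≫ W.hom := (Over.w φ.hom).trans (Over.w ψ.hom).symm
  refine Basic.eq_of_eqSet_eq_univ W.hom φ.left ψ.left hw ?_
  have hcl := Basic.isClopen_eqSet W.hom φ.left ψ.left hw
  have himg := Basic.isClopen_image Z.hom hcl.compl
  refine Set.eq_univ_iff_forall.mpr fun z => by_contra fun hz => ?_
  obtain ⟨x, hx, y, rfl⟩ := h (Z.hom.base z)
  obtain ⟨w, hw', hwx⟩ := himg.connectedComponent_subset ⟨z, hz, rfl⟩ hx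
  have hmem : w ∈ Set.range (pullback.fst Z.hom i).base := by
    rw [Scheme.Pullback.range_fst]
    exact ⟨y, hwx.symm⟩
  obtain ⟨t, rfl⟩ := hmem
  exact hw' (Basic.mem_eqSet_of_agree W.hom φ.left ψ.left hw _
    (Basic.fst_comp_eq_of_restrict_map_eq i hφψ) t)

end Groth.Agent.S0243
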