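import Groth.Statements.S0262
import Groth.Agent.H80.Extend.FormalCompl
import Groth.Agent.H80.Extend.Stage
import Groth.Agent.H80.UnivHomeo.Steps

set_option autoImplicit false
set_option backward.isDefEq.respectTransparency false
universe u
open Pi1

namespace Groth.Agent.S0262

open AlgebraicGeometry CategoryTheory CategoryTheory.Limits in
/-- Let A be a Noetherian local ring with completion A^, U the punctured spectrum of A and U' its base
change to Spec A^. A finite etale cover V of U is the restriction of a finite etale cover of Spec A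
if and only if the base change of V to U' is the restriction of a finite etale cover of Spec A^. -/
theorem result (A : Type u) [CommRing A] [IsNoetherianRing A] [IsLocalRing A]
    (V : FEt.Cat (FEt.puncturedSpec A : Scheme.{u})) :
    (∃ Y : FEt.Cat (Spec (CommRingCat.of A)),
      Nonempty ((FEt.restrict (FEt.puncturedSpec A).ι).obj Y ≅ V)) ↔
    (∃ Y' : FEt.Cat (Spec (CommRingCat.of (AdicCompletion (IsLocalRing.maximalIdeal A) A))),
      Nonempty ((FEt.restrict (pullback.snd (FEt.puncturedSpec A).ι
        (Spec.map (CommRingCat.ofHom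
          (algebraMap A (AdicCompletion (IsLocalRing.maximalIdeal A) A)))))).obj Y' ≅
        (FEt.restrict (pullback.fst (FEt.puncturedSpec A).ι
        (Spec.map (CommRingCat.ofHom
          (algebraMap A (AdicCompletion (IsLocalRing.maximalIdeal A) A)))))).obj V)) := by
  let g := Spec.map (CommRingCat.ofHom (algebraMap A (AdicCompletion (IsLocalRing.maximalIdeal A) A)))
  let ι := (FEt.puncturedSpec A).ι
  constructor
  · rintro ⟨Y, ⟨e⟩⟩
    exact ⟨(FEt.restrict g).obj Y, ⟨((Groth.Agent.H80.UnivHomeo.restrictComp _ g).app Y).symm ≪≫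
      eqToIso (congrArg (fun f => (FEt.restrict f).obj Y)
        (pullback.condition (f := ι) (g := g)).symm) ≪≫
      (Groth.Agent.H80.UnivHomeo.restrictComp _ ι).app Y ≪≫
      (FEt.restrict (pullback.fst ι g)).mapIso e⟩⟩
  · rintro ⟨Y', ⟨e⟩⟩
    obtain ⟨Z₂, z₂, P, a, b, c, hz₂, h1, hcz, h2⟩ := Groth.Agent.H80.Extend.Ext.of_iso ι g V Y' e
    let q : V.left ⟶ (FEt.puncturedSpec A : Scheme.{u}) := V.hom
    have : IsFinite q := V.prop.1
    have : IsFinite z₂ := hz₂.1
    have : IsAffine Z₂ := isAffine_of_isAffineHom z₂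
    obtain ⟨Z, z, j, θ, hθ, hj⟩ :=
      Groth.Agent.H80.Extend.exists_glue_completion A q z₂ a b c h1 hcz h2
    have := Groth.Agent.H80.Extend.faithfullyFlat_completion A
    have hfs : (@Surjective ⊓ @Flat ⊓ @QuasiCompact : MorphismProperty Scheme.{u}) g :=
      ⟨⟨⟨PrimeSpectrum.comap_surjective_of_faithfullyFlat⟩,
        Flat.SpecMap_iff.mpr (RingHom.flat_algebraMap_iff.mpr inferInstance)⟩, inferInstance⟩
    have hz : FEt.prop.{u} z :=
      ⟨MorphismProperty.of_isPullback_of_descendsAlong (P := @IsFinite) hθ.flip hfs hz₂.1,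
        MorphismProperty.of_isPullback_of_descendsAlong (P := @Etale) hθ.flip hfs hz₂.2⟩
    exact ⟨MorphismProperty.Over.mk ⊤ z hz,
      Groth.Agent.H80.UnivHomeo.nonempty_iso_of_isPullback ι V (MorphismProperty.Over.mk ⊤ z hz) j hj⟩

end Groth.Agent.S0262
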