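import Groth.Statements.S0263
import Groth.Agent.Lib.FEt.DepthTwoSections

set_option autoImplicit false
universe u
open Pi1

namespace Groth.Agent.S0263

open AlgebraicGeometry CategoryTheory CategoryTheory.Limits in
/-- Let A be a Noetherian local ring of depth at least 2 and V a finite étale cover of the punctured
spectrum of A which is isomorphic to the restriction of some finite étale cover of Spec A. Then the
ring of global sections Γ(V, O_V) is finite and étale over A, via the ring map A → Γ(V, O_V) induced
by the composite V → Spec A. (Only this implication of the published statement is asserted here; its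
converse is not.) -/
theorem result (A : Type u) [CommRing A] [IsNoetherianRing A] [IsLocalRing A] (hA : (2 : ℕ∞) ≤ LocCoh.depth A A)
    (V : FEt.Cat (FEt.puncturedSpec A : Scheme.{u}))
    (hV : ∃ Y : FEt.Cat (Spec (CommRingCat.of A)),
      Nonempty ((FEt.restrict (FEt.puncturedSpec A).ι).obj Y ≅ V)) :
    ((Scheme.ΓSpecIso (CommRingCat.of A)).inv ≫ (V.hom ≫ (FEt.puncturedSpec A).ι).appTop).hom.Finite ∧
    ((Scheme.ΓSpecIso (CommRingCat.of A)).inv ≫ (V.hom ≫ (FEt.puncturedSpec A).ι).appTop).hom.Etale := by
  obtain ⟨Y, ⟨e⟩⟩ := hV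
  have : IsFinite Y.hom := Y.prop.1
  have : Etale Y.hom := Y.prop.2
  let g : Y.left ⟶ Spec (CommRingCat.of A) := Y.hom
  have : IsFinite g := Y.prop.1
  have : Etale g := Y.prop.2
  have : IsAffine Y.left := isAffine_of_isAffineHom g
  let W := g ⁻¹ᵁ FEt.puncturedSpec A
  have hres := Groth.Agent.Lib.FEt.DepthTwo.isIso_restriction_punctured hA g
  have hW : IsIso W.ι.appTop := by
    have key : ∀ (U' : Y.left.Opens) (h : U' ≤ ⊤), U' = W → IsIso (Y.left.presheaf.map (homOfLE h).op) := by
      rintro _ _ rfl; exact hres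
    rw [Scheme.Opens.ι_appTop]
    exact key _ _ W.ι_image_top
  let i : V.left ⟶ pullback g (FEt.puncturedSpec A).ι := e.inv.left
  let j : V.left ⟶ Y.left := i ≫ pullback.fst g (FEt.puncturedSpec A).ι
  have hj : j ≫ g = V.hom ≫ (FEt.puncturedSpec A).ι := by
    change (i ≫ pullback.fst g (FEt.puncturedSpec A).ι) ≫ g = _
    rw [Category.assoc, pullback.condition, ← Category.assoc]
    exact congrArg (· ≫ (FEt.puncturedSpec A).ι) (Over.w e.inv.hom)
  have : IsIso j.appTop := by
    have h1 : IsIso (pullback.fst g (FEt.puncturedSpec A).ι).appTop := by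
      rw [← pullbackRestrictIsoRestrict_hom_ι, Scheme.Hom.comp_appTop]
      exact IsIso.comp_isIso' hW
        (inferInstanceAs (IsIso (Scheme.Γ.map (pullbackRestrictIsoRestrict g _).hom.op)))
    have h2 : IsIso i :=
      inferInstanceAs (IsIso ((MorphismProperty.Over.forget _ _ _ ⋙ Over.forget _).map e.inv))
    rw [Scheme.Hom.comp_appTop]
    exact IsIso.comp_isIso' h1 (inferInstanceAs (IsIso (Scheme.Γ.map i.op)))
  rw [← hj, Scheme.Hom.comp_appTop, ← Category.assoc, CommRingCat.hom_comp]
  have hb := ConcreteCategory.bijective_of_isIso j.appTop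
  have hi := ConcreteCategory.bijective_of_isIso (Scheme.ΓSpecIso (CommRingCat.of A)).inv
  have hgf : g.appTop.hom.Finite := IsFinite.finite_app g ⊤ (isAffineOpen_top _)
  have hge : g.appTop.hom.Etale := HasRingHomProperty.appTop (P := @Etale) g inferInstance
  rw [CommRingCat.hom_comp]
  exact ⟨(RingHom.Finite.of_surjective _ hb.2).comp (hgf.comp (RingHom.Finite.of_surjective _ hi.2)),
    RingHom.Etale.stableUnderComposition _ _
      (RingHom.Etale.stableUnderComposition _ _ (RingHom.Etale.of_bijective hi) hge)
      (RingHom.Etale.of_bijective hb)⟩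

end Groth.Agent.S0263
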