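import Groth.Statements.S0265
import Groth.Agent.H34.Stein.FiniteEtale
import Groth.Agent.H34.Stein.Connected
import Groth.Agent.S7179
import Groth.Agent.Lib.FEt.ConnFibres
import Groth.Agent.Lib.FEt.Conservative


set_option autoImplicit false
universe u
open Pi1

namespace Groth.Agent.S0265

open AlgebraicGeometry CategoryTheory CategoryTheory.Limits in
/-- (Exactness of the homotopy sequence of etale fundamental groups at the middle term, in functor
form.) Let f : X -> S be flat, proper and of finite presentation with connected reduced geometric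
fibres, S connected. If Y is a connected finite etale cover of X which admits a section over some
geometric fibre of f, then Y is isomorphic to the pullback along f of a finite etale cover of S. -/
theorem result {X S : Scheme.{u}} (f : X ⟶ S) [IsProper f] [Flat f] [LocallyOfFinitePresentation f]
    [ConnectedSpace S]
    (hfib : ∀ (Ω : Type u) [Field Ω] [IsAlgClosed Ω] (s : Spec (CommRingCat.of Ω) ⟶ S),
      ConnectedSpace ↥(pullback f s) ∧ IsReduced (pullback f s))
    (Y : FEt.Cat X) [ConnectedSpace Y.left] (Ω : Type u) [Field Ω] [IsAlgClosed Ω]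
    (s : Spec (CommRingCat.of Ω) ⟶ S) (σ : pullback f s ⟶ Y.left)
    (hσ : σ ≫ Y.hom = pullback.fst f s) :
    (FEt.restrict f).essImage Y := by
  open Groth.Agent.Lib.FEt in
  let h : Y.left ⟶ S := Y.hom ≫ f
  have : IsFinite Y.hom := Y.prop.1
  have : Etale Y.hom := Y.prop.2
  have : GeometricallyReduced h := by
    refine Groth.Agent.H34.Stein.geometricallyReduced_of_isAlgClosed h fun K _ _ x => ?_
    have := (hfib K x).2
    have : IsReduced (pullback Y.hom (pullback.fst f x)) :=
      Groth.Agent.S7179.result (pullback.snd Y.hom (pullback.fst f x))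
    exact isReduced_of_isOpenImmersion (pullbackRightPullbackFstIso f x Y.hom).inv
  obtain ⟨hT1, hT2⟩ := Groth.Agent.H34.Stein.finite_etale_fromNormalization h
  let T : FEt.Cat S := MorphismProperty.Over.mk ⊤ h.fromNormalization ⟨hT1, hT2⟩
  let b : Y.left ⟶ T.left := h.toNormalization
  have hb : b ≫ T.hom = Y.hom ≫ f := h.toNormalization_fromNormalization
  have : GeometricallyConnected b := Groth.Agent.H34.Stein.geometricallyConnected_toNormalization h
  have : PreconnectedSpace T.left := b.denseRange.preconnectedSpace b.continuous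
  have : Surjective f := ConnFibres.surjective_of_geomFibres f fun K _ _ x => (hfib K x).1.toNonempty
  -- the product is connected
  have : Surjective (pullback.fst T.hom f) := MorphismProperty.pullback_fst (P := @Surjective) _ _ ‹_›
  have : PreconnectedSpace ↥(pullback T.hom f) := preconnectedSpace_iff_clopen.mpr fun C hC => by
    obtain ⟨D, hD, rfl⟩ := ConnFibres.exists_isClopen_preimage (pullback.fst T.hom f).continuous
      (pullback.fst T.hom f).isClosedMap (pullback.fst T.hom f).surjective
      (fun w => ConnFibres.isPreconnected_fibre f T.hom w (hfib _ _).1.toPreconnectedSpace) hC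
    rcases (isClopen_iff (α := ↥T.left)).mp hD with rfl | rfl
    · exact Or.inl Set.preimage_empty
    · exact Or.inr Set.preimage_univ
  -- a geometric point of the fibre
  have := (hfib Ω s).1
  let P := pullback f s
  let z₀ : P := Classical.arbitrary _
  let Ω' := AlgebraicClosure (P.residueField z₀)
  let z : Spec (CommRingCat.of Ω') ⟶ P := Spec.map (CommRingCat.ofHom
    (algebraMap (P.residueField z₀) Ω')) ≫ P.fromSpecResidueField z₀
  let η := z ≫ pullback.fst f s
  let t : Spec (CommRingCat.of Ω') ⟶ T.left := z ≫ σ ≫ b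
  have ht : t ≫ T.hom = η ≫ f := by
    simp only [t, η, Category.assoc, hb]
    rw [← Category.assoc σ, hσ]
  -- the unique point of `Y` over `η` and `t`
  have key : ∀ y : Spec (CommRingCat.of Ω') ⟶ Y.left, y ≫ Y.hom = η → y ≫ b = t → y = z ≫ σ := by
    intro y hy1 hy2
    let P' := pullback f (η ≫ f)
    let e : P' ⟶ P := pullback.lift (pullback.fst f (η ≫ f))
      (pullback.snd f (η ≫ f) ≫ z ≫ pullback.snd f s) (by
        rw [pullback.condition]
        simp only [η, Category.assoc, pullback.condition])
    let F := pullback b t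
    let q : F ⟶ P' := pullback.lift (pullback.fst b t ≫ Y.hom) (pullback.snd b t) (by
      rw [Category.assoc, ← hb, ← Category.assoc, pullback.condition, Category.assoc, ht])
    let w : Spec (CommRingCat.of Ω') ⟶ P' := pullback.lift η (𝟙 _) (Category.id_comp _).symm
    have hwe : w ≫ e = z := by
      apply pullback.hom_ext
      · simp only [w, e, η, Category.assoc, pullback.lift_fst]
      · simp only [w, e, Category.assoc, pullback.lift_snd, pullback.lift_snd_assoc,
          Category.id_comp]
    have hq : ∀ (y : Spec (CommRingCat.of Ω') ⟶ Y.left) (hy1 : y ≫ Y.hom = η) (hy2 : y ≫ b = t),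
        pullback.lift y (𝟙 _) (hy2.trans (Category.id_comp t).symm) ≫ q = w := by
      intro y hy1 hy2
      apply pullback.hom_ext
      · simp only [q, w, Category.assoc, pullback.lift_fst, pullback.lift_fst_assoc, hy1]
      · simp only [q, w, Category.assoc, pullback.lift_snd]
    have hz : (z ≫ σ) ≫ Y.hom = η := by simp only [η, Category.assoc, hσ]
    have hzb : (z ≫ σ) ≫ b = t := Category.assoc _ _ _
    have : Nonempty ↥(Spec (CommRingCat.of Ω')) := inferInstanceAs (Nonempty (PrimeSpectrum Ω'))
    have hb' : GeometricallyConnected b := ‹_›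
    have : ConnectedSpace ↥F :=
      geometrically_iff_of_isClosedUnderIsomorphisms.mp hb'.geometrically_connectedSpace Ω' t
    have heq : pullback.fst b t = q ≫ e ≫ σ := by
      refine Basic.eq_of_preconnected Y.hom _ _ ?_
        (pullback.lift (z ≫ σ) (𝟙 _) (hzb.trans (Category.id_comp t).symm)) ?_
      · rw [Category.assoc, Category.assoc, hσ]
        simp only [q, e, pullback.lift_fst]
      · rw [pullback.lift_fst, ← Category.assoc, hq _ hz hzb, ← Category.assoc, hwe]
    have := congrArg (pullback.lift y (𝟙 _) (hy2.trans (Category.id_comp t).symm) ≫ ·) heq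
    simp only [pullback.lift_fst] at this
    rw [this, ← Category.assoc, hq _ hy1 hy2, ← Category.assoc, hwe]
  let φl : Y.left ⟶ pullback T.hom f := pullback.lift b Y.hom hb
  have hφ : φl ≫ pullback.snd T.hom f = Y.hom := pullback.lift_snd _ _ _
  have : IsFinite (pullback.snd T.hom f) := MorphismProperty.pullback_snd (P := @IsFinite) _ _ hT1
  have : Etale (pullback.snd T.hom f) := MorphismProperty.pullback_snd (P := @Etale) _ _ hT2
  have : IsFinite (φl ≫ pullback.snd T.hom f) := hφ.symm ▸ inferInstance
  have : Etale (φl ≫ pullback.snd T.hom f) := hφ.symm ▸ inferInstance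
  let Y₁ : FEt.Cat (pullback T.hom f) := MorphismProperty.Over.mk ⊤ φl
    ⟨IsFinite.of_comp φl (pullback.snd T.hom f), Etale.of_comp φl (pullback.snd T.hom f)⟩
  let E : FEt.Cat (pullback T.hom f) :=
    MorphismProperty.Over.mk ⊤ (𝟙 _) ⟨inferInstance, inferInstance⟩
  let φ₁ : Y₁ ⟶ E := MorphismProperty.Over.homMk φl (Category.comp_id _) trivial
  let ξ : Spec (CommRingCat.of Ω') ⟶ pullback T.hom f := pullback.lift t η ht
  have hbij : Function.Bijective ((FEt.fiber ξ).map φ₁) := by
    have hu : ∀ y : FEt.fiberObj ξ Y₁, y.1 = z ≫ σ := fun y => by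
      have hy : y.1 ≫ φl = ξ := y.2
      refine key y.1 ?_ ?_
      · exact ((congrArg (y.1 ≫ ·) hφ.symm).trans (Category.assoc _ _ _).symm).trans
          ((congrArg (· ≫ _) hy).trans (pullback.lift_snd _ _ _))
      · refine ((congrArg (y.1 ≫ ·) (pullback.lift_fst b Y.hom hb).symm).trans
          (Category.assoc _ _ _).symm).trans ?_
        exact (congrArg (· ≫ _) hy).trans (pullback.lift_fst _ _ _)
    refine ⟨fun a b _ => Subtype.ext ((hu a).trans (hu b).symm), fun r => ⟨⟨z ≫ σ, ?_⟩, ?_⟩⟩
    · show (z ≫ σ) ≫ φl = ξ
      apply pullback.hom_ext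
      · simp only [φl, ξ, t, Category.assoc, pullback.lift_fst]
      · simp only [φl, ξ, η, Category.assoc, pullback.lift_snd, hσ]
    · refine Subtype.ext ?_
      have hr : r.1 ≫ 𝟙 _ = ξ := r.2
      rw [Category.comp_id] at hr
      rw [hr]
      show (z ≫ σ) ≫ φl = ξ
      apply pullback.hom_ext
      · simp only [φl, ξ, t, Category.assoc, pullback.lift_fst]
      · simp only [φl, ξ, η, Category.assoc, pullback.lift_snd, hσ]
  have : IsIso φ₁ := Conservative.isIso_of_bijective_one ξ φ₁ hbij
  have hiso : IsIso φl :=
    inferInstanceAs (IsIso ((MorphismProperty.Over.forget _ _ _ ⋙ Over.forget _).map φ₁))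
  exact ⟨T, ⟨(MorphismProperty.Over.isoMk (@asIso _ _ Y.left (pullback T.hom f) φl hiso) hφ : Y ≅ (FEt.restrict f).obj T).symm⟩⟩

end Groth.Agent.S0265
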