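import Groth.Statements.S0266
import Groth.Agent.H80.GaloisUnique

set_option autoImplicit false
universe u v w
open Pi1

namespace Groth.Agent.S0266

open CategoryTheory CategoryTheory.Limits in
/-- Transported along the equivalence of a Galois category with finite continuous G-sets : on a Galois
category in Mathlib's sense, every functor to finite sets that preserves finite limits and finite
colimits is isomorphic to the fibre functor. In particular two fibre functors are isomorphic. -/
theorem result {C : Type u} [Category.{v} C] [GaloisCategory C]
    (F : C ⥤ FintypeCat.{w}) [PreGaloisCategory.FiberFunctor F] (F' : C ⥤ FintypeCat.{w})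
    [PreservesFiniteLimits F'] [PreservesFiniteColimits F'] : Nonempty (F' ≅ F) := by
  refine Groth.Agent.H80.GaloisUnique.nonempty_natIso F F' fun X hX => ?_
  by_contra hni
  obtain ⟨x⟩ := (PreGaloisCategory.not_initial_iff_fiber_nonempty F X).mp fun hi => hni ⟨hi⟩
  obtain ⟨Y, i, y, -, hY, -⟩ := PreGaloisCategory.fiber_in_connected_component F X x
  have hc : PreGaloisCategory.IsConnected (⊤_ C) := by
    have := Groth.Agent.H80.Galois.nonempty_fiber_terminal F
    have : MulAction.IsPretransitive (Aut F) (F.obj (⊤_ C)) :=
      ⟨fun a b => ⟨1, (Groth.Agent.H80.Galois.subsingleton_fiber_terminal F).elim _ _⟩⟩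
    exact Groth.Agent.H80.Galois.isConnected_of_isPretransitive F _
  have : Nonempty (F.obj Y) := ⟨y⟩
  have : Epi (terminal.from Y) := PreGaloisCategory.epi_of_nonempty_of_isConnected F _
  let h : IsTerminal (F'.obj (⊤_ C)) := IsTerminal.isTerminalObj F' _ terminalIsTerminal
  have hs : Function.Surjective (F'.map (terminal.from Y)) :=
    surjective_of_epi (FintypeCat.incl.map (F'.map (terminal.from Y)))
  obtain ⟨z, -⟩ := hs (h.from (FintypeCat.of PUnit.{w + 1}) PUnit.unit)
  exact hX.false (F'.map i z)

end Groth.Agent.S0266
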