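import Groth.Statements.S1187
import Groth.Agent.H80.Galois

set_option autoImplicit false
universe u v w
open CategoryTheory PreGaloisCategory
open Pi1

namespace Groth.Agent.S1187

/-- Let H : C ⥤ C' be an exact functor between Galois categories and F' a fibre functor on C' such that
F' ∘ H is a fibre functor on C; write h : π_1(C', F') → π_1(C, F' ∘ H) for the induced homomorphism
of fundamental groups. Then h is surjective if and only if H is fully faithful. -/
theorem result {C C' : Type u} [Category.{v} C] [Category.{v} C'] [GaloisCategory C] [GaloisCategory C']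
    (H : C ⥤ C') [Limits.PreservesFiniteLimits H] [Limits.PreservesFiniteColimits H]
    (F' : C' ⥤ FintypeCat.{w}) [FiberFunctor F'] [FiberFunctor (H ⋙ F')] :
    Function.Surjective (Pi1X.autWhisker H F') ↔ (H.Full ∧ H.Faithful) := by
  open Groth.Agent.H80 in
  constructor
  · intro hs
    have hfaith : H.Faithful := Functor.Faithful.of_comp H F'
    refine ⟨⟨fun {X Y} f => ?_⟩, hfaith⟩
    obtain ⟨g, hg⟩ := Galois.exists_hom_of_equivariant (H ⋙ F')
      (fun x : (H ⋙ F').obj X => (show (H ⋙ F').obj Y from F'.map f x)) (fun σ x => by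
        obtain ⟨τ, rfl⟩ := hs σ
        exact Galois.map_smul F' f τ x)
    refine ⟨g, F'.map_injective ?_⟩
    ext x
    exact hg x
  · rintro ⟨_, _⟩
    rw [← MonoidHom.range_eq_top]
    refine Groth.Agent.H80.Profinite.eq_top_of_forall_open
      (Galois.isClosed_range_autWhisker H F') fun U hU => ?_
    obtain ⟨X, a, hX, hst⟩ := Galois.exists_connected_stabilizer (H ⋙ F') U
    obtain ⟨s, hs⟩ := (Galois.fixed_iff_exists_section F' (show F'.obj (H.obj X) from a)).mp
      ((Galois.range_le_stabilizer_iff H F' a).mp (hst ▸ hU))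
    let s' : ⊤_ C ⟶ X := H.preimage ((Limits.PreservesTerminal.iso H).hom ≫ s)
    have hfix : ∀ σ : Aut (H ⋙ F'), σ • a = a := by
      refine (Galois.fixed_iff_exists_section (H ⋙ F') a).mpr ⟨s', fun t => ?_⟩
      change F'.map (H.map s') t = a
      rw [Functor.map_preimage, Functor.map_comp, FintypeCat.comp_apply]
      exact hs _
    rw [← hst]
    exact eq_top_iff.mpr fun σ _ => hfix σ

end Groth.Agent.S1187
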