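import Groth.Statements.S0267
import Groth.Agent.H80.Galois
import Groth.Agent.S1187

set_option autoImplicit false
universe u v
open Pi1

namespace Groth.Agent.S0267

open CategoryTheory CategoryTheory.Limits in
/-- For an exact functor H between Galois categories, H is fully faithful exactly when it carries
connected objects to connected objects (both are equivalent to surjectivity of the induced map on
fundamental groups). -/
theorem result {C : Type u} [Category.{v} C]
    [GaloisCategory C] {D : Type u} [Category.{v} D] [GaloisCategory D]
    (H : C ⥤ D) [PreservesFiniteLimits H] [PreservesFiniteColimits H] :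
    (H.Full ∧ H.Faithful) ↔
      ∀ X : C, PreGaloisCategory.IsConnected X → PreGaloisCategory.IsConnected (H.obj X) := by
  open Groth.Agent.H80 CategoryTheory.PreGaloisCategory in
  let F' := CategoryTheory.PreGaloisCategory.GaloisCategory.getFiberFunctor D
  obtain ⟨inst⟩ := Galois.nonempty_fiberFunctor_comp H F'
  constructor
  · rintro ⟨_, _⟩ X hX
    have hs := (Groth.Agent.S1187.result H F').mpr ⟨inferInstance, inferInstance⟩
    have hne : Nonempty (F'.obj (H.obj X)) :=
      nonempty_fiber_of_isConnected (H ⋙ F') X
    have : MulAction.IsPretransitive (Aut F') (F'.obj (H.obj X)) := by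
      refine ⟨fun x y => ?_⟩
      obtain ⟨σ, hσ⟩ := MulAction.exists_smul_eq (Aut (H ⋙ F'))
        (show (H ⋙ F').obj X from x) (show (H ⋙ F').obj X from y)
      obtain ⟨τ, rfl⟩ := hs σ
      exact ⟨τ, hσ⟩
    exact Galois.isConnected_of_isPretransitive F' _
  · intro h
    apply (Groth.Agent.S1187.result H F').mp
    rw [← MonoidHom.range_eq_top]
    refine Groth.Agent.H80.Profinite.eq_top_of_forall_open
      (Galois.isClosed_range_autWhisker H F') fun U hU => ?_
    obtain ⟨X, a, hX, hst⟩ := Galois.exists_connected_stabilizer (H ⋙ F') U
    rw [← hst] at hU ⊢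
    have := h X hX
    refine eq_top_iff.mpr fun σ _ => ?_
    obtain ⟨τ, hτ⟩ := MulAction.exists_smul_eq (Aut F') (show F'.obj (H.obj X) from a)
      (show F'.obj (H.obj X) from σ • a)
    rw [(Galois.range_le_stabilizer_iff H F' a).mp hU τ] at hτ
    exact hτ.symm

end Groth.Agent.S0267
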