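import Groth.Statements.S0269
import Groth.Agent.Lib.FEt.FieldDescent


set_option autoImplicit false
universe u
open Pi1

namespace Groth.Agent.S0269

open AlgebraicGeometry CategoryTheory CategoryTheory.Limits in
/-- Functor form of the injectivity of pi_1(X_{kbar}) -> pi_1(X): Let X be quasi-compact and
quasi-separated over a field k with X_{kbar} connected. Every finite etale cover of X_{kbar} admits
an open and closed immersion, over X_{kbar}, into the base change of some finite etale cover of X. -/
theorem result (k : Type u) [Field k] {X : Scheme.{u}} (f : X ⟶ Spec (CommRingCat.of k)) [CompactSpace X]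
    [QuasiSeparatedSpace X]
    [ConnectedSpace ↥(pullback f (Spec.map (CommRingCat.ofHom (algebraMap k (AlgebraicClosure k)))))]
    (V : FEt.Cat (pullback f (Spec.map (CommRingCat.ofHom (algebraMap k (AlgebraicClosure k)))))) :
    ∃ (U : FEt.Cat X) (ι : V ⟶ (FEt.restrict (pullback.fst f (Spec.map (CommRingCat.ofHom (algebraMap k (AlgebraicClosure k)))))).obj U),
      IsOpenImmersion ι.left ∧ IsClosedImmersion ι.left := by
  open Groth.Agent.Lib.FEt.FieldDescent in
  obtain ⟨L, W, ⟨e⟩⟩ := exists_cover k f V
  let A := subCover k L
  have hfin : IsFinite (pullback.snd A.hom f) := MorphismProperty.pullback_snd (P := @IsFinite) _ _ A.prop.1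
  have het : Etale (pullback.snd A.hom f) := MorphismProperty.pullback_snd (P := @Etale) _ _ A.prop.2
  let h := toStage k f L
  have hW : FEt.prop (W.hom ≫ pullback.snd A.hom f) :=
    MorphismProperty.comp_mem FEt.prop W.hom (pullback.snd A.hom f) W.prop ⟨hfin, het⟩
  let U : FEt.Cat X := MorphismProperty.Over.mk ⊤ (W.hom ≫ pullback.snd A.hom f) hW
  let m := pullback.mapDesc W.hom h (pullback.snd A.hom f)
  have hm1 : IsOpenImmersion m :=
    MorphismProperty.of_isPullback (pullback_map_diagonal_isPullback W.hom h (pullback.snd A.hom f))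
      (inferInstanceAs (IsOpenImmersion (pullback.diagonal (pullback.snd A.hom f))))
  have hm2 : IsClosedImmersion m :=
    MorphismProperty.of_isPullback (pullback_map_diagonal_isPullback W.hom h (pullback.snd A.hom f))
      (inferInstanceAs (IsClosedImmersion (pullback.diagonal (pullback.snd A.hom f))))
  let c := pullback.congrHom (rfl : W.hom ≫ pullback.snd A.hom f = _) (toStage_snd k f L)
  let d : V.left ≅ pullback W.hom h :=
    (MorphismProperty.Over.forget _ _ _ ⋙ Over.forget _).mapIso e.symm
  have hd : d.hom ≫ pullback.snd W.hom h = V.hom := Over.w e.inv.hom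
  let ι : V.left ⟶ pullback U.hom (pullback.fst f _) := d.hom ≫ m ≫ c.hom
  have hι : ι ≫ pullback.snd U.hom (pullback.fst f _) = V.hom := by
    show (d.hom ≫ m ≫ c.hom) ≫ pullback.snd (W.hom ≫ pullback.snd A.hom f) (pullback.fst f _) = _
    rw [← hd]
    simp only [Category.assoc, c, m, pullback.mapDesc, pullback.congrHom_hom, pullback.map,
      pullback.lift_snd, Category.comp_id]
    exact congrArg (d.hom ≫ ·) (pullback.lift_snd _ _ _)
  have i1 : IsOpenImmersion ι := inferInstance
  have i2 : IsClosedImmersion ι := inferInstance
  exact ⟨U, MorphismProperty.Over.homMk ι hι trivial, i1, i2⟩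

end Groth.Agent.S0269
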