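import Groth.Statements.S0270
import Groth.Agent.Lib.FEt.FieldDescent
import Groth.Agent.Lib.FEt.GaloisCat


set_option autoImplicit false
universe u
open Pi1

namespace Groth.Agent.S0270

open AlgebraicGeometry CategoryTheory CategoryTheory.Limits in
/-- (Exactness of the homotopy sequence of etale fundamental groups at pi_1(X), in functor form.) Let X
be quasi-compact and quasi-separated over a field k with X_{kbar} connected, kbar an algebraic
closure of k. If a finite etale cover U of X becomes completely split (a disjoint union of copies of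
X_{kbar}) after base change to kbar, then there are a finite etale k-scheme V and an X-morphism from
V x_k X to U which is surjective. -/
theorem result (k : Type u) [Field k] {X : Scheme.{u}} (f : X ⟶ Spec (CommRingCat.of k)) [CompactSpace X]
    [QuasiSeparatedSpace X]
    [ConnectedSpace ↥(pullback f (Spec.map (CommRingCat.ofHom (algebraMap k (AlgebraicClosure k)))))]
    (U : FEt.Cat X) (hU : Pi1.IsSplit ((FEt.restrict (pullback.fst f (Spec.map (CommRingCat.ofHom (algebraMap k (AlgebraicClosure k)))))).obj U)) :
    ∃ (V : FEt.Cat (Spec (CommRingCat.of k))) (e : (FEt.restrict f).obj V ⟶ U), Surjective e.left := by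
  open Groth.Agent.Lib.FEt.FieldDescent in
  obtain ⟨ι, _, e, he⟩ := hU
  let p := pullback.fst f (Spec.map (CommRingCat.ofHom (algebraMap k (AlgebraicClosure k))))
  let e' : pullback U.hom p ≅ ∐ fun _ : ι =>
      pullback f (Spec.map (CommRingCat.ofHom (algebraMap k (AlgebraicClosure k)))) := e
  let σ : ι → (pullback f (Spec.map (CommRingCat.ofHom (algebraMap k (AlgebraicClosure k)))) ⟶ U.left) :=
    fun i => Sigma.ι (fun _ : ι =>
      pullback f (Spec.map (CommRingCat.ofHom (algebraMap k (AlgebraicClosure k))))) i ≫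
        e'.inv ≫ pullback.fst U.hom p
  have hσ : ∀ i, σ i ≫ U.hom = p := fun i => by
    have h : Sigma.ι (fun _ : ι =>
      pullback f (Spec.map (CommRingCat.ofHom (algebraMap k (AlgebraicClosure k))))) i ≫
        e'.inv ≫ pullback.snd U.hom p = 𝟙 _ := he i
    simp only [σ, Category.assoc, pullback.condition]
    exact (by simpa using congrArg (· ≫ p) h)
  obtain ⟨L, g, hg⟩ := exists_sections k f U σ hσ
  let A : ι → FEt.Cat (Spec (CommRingCat.of k)) := fun _ => subCover k L
  have hc := isColimitOfPreserves (FEt.restrict f) (coproductIsCoproduct A)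
  let s : Cocone (Discrete.functor A ⋙ FEt.restrict f) :=
    ⟨U, Discrete.natTrans fun i => g i.as⟩
  refine ⟨∐ A, hc.desc s, ⟨fun u => ?_⟩⟩
  have hk : Surjective (Spec.map (CommRingCat.ofHom (algebraMap k (AlgebraicClosure k)))) :=
    ⟨fun _ => ⟨@Classical.arbitrary _ (inferInstanceAs (Nonempty (PrimeSpectrum (AlgebraicClosure k)))),
      @Subsingleton.elim _ (inferInstanceAs (Subsingleton (PrimeSpectrum k))) _ _⟩⟩
  have hp : Surjective p := MorphismProperty.pullback_fst (P := @Surjective) _ _ hk
  have hfst : Surjective (pullback.fst U.hom p) := MorphismProperty.pullback_fst (P := @Surjective) _ _ hp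
  obtain ⟨z, rfl⟩ := hfst.surj u
  obtain ⟨⟨i, y⟩, hy⟩ := (sigmaMk (fun _ : ι =>
    pullback f (Spec.map (CommRingCat.ofHom (algebraMap k (AlgebraicClosure k)))))).surjective (e'.hom z)
  rw [sigmaMk_mk] at hy
  have h1 : pullback.fst U.hom p z = σ i y := by
    simp only [σ, Scheme.Hom.comp_apply, hy]
    rw [← Scheme.Hom.comp_apply e'.hom e'.inv, Iso.hom_inv_id]
    rfl
  rw [h1, ← hg i]
  refine ⟨((FEt.restrict f).map (Sigma.ι A i)).left (toStage k f L y), ?_⟩
  have h2 : ((FEt.restrict f).map (Sigma.ι A i)).left ≫ (hc.desc s).left = (g i).left :=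
    congrArg (fun t => t.left) (hc.fac s ⟨i⟩)
  rw [← h2]
  rfl

end Groth.Agent.S0270
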