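import Groth.Statements.S0273
import Groth.Agent.H80.Clopen.SmoothPurity

set_option autoImplicit false
set_option backward.isDefEq.respectTransparency false
universe u
open Pi1

namespace Groth.Agent.S0273

open AlgebraicGeometry CategoryTheory CategoryTheory.Limits in
/-- Let f : X -> S be smooth with S Noetherian and U an open of X such that U contains the whole fibre
over every point of S whose local ring has depth at most 1, and U is dense in every fibre. Then
restricting finite etale covers from X to U is an equivalence of categories. -/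
theorem result {X S : Scheme.{u}} (f : X ⟶ S) [Smooth f] [IsNoetherian S] (U : X.Opens)
    (h3 : ∀ s : S, LocCoh.depth (S.presheaf.stalk s) (S.presheaf.stalk s) ≤ 1 → f.base ⁻¹' {s} ⊆ (U : Set X))
    (h4 : ∀ s : S, f.base ⁻¹' {s} ⊆ closure ((U : Set X) ∩ f.base ⁻¹' {s})) :
    (FEt.restrict U.ι).IsEquivalence := by
  have : IsLocallyNoetherian X := LocallyOfFiniteType.isLocallyNoetherian f
  have hdepth : ∀ x : X, x ∉ U →
      (2 : ℕ∞) ≤ LocCoh.depth (X.presheaf.stalk x) (X.presheaf.stalk x) := fun x hx => by
    refine Lib.FEt.DepthTwo.two_le_depth_of_flat f x ?_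
    rw [show (2 : ℕ∞) = 1 + 1 from rfl, ENat.add_one_le_iff ENat.one_ne_top]
    exact lt_of_not_ge fun hle => hx (h3 _ hle rfl)
  obtain ⟨_, _⟩ := Lib.FEt.DepthTwo.restrict_full_and_faithful U hdepth
  have := H80.Clopen.essSurj_of_purity U hdepth fun x hx => by
    obtain ⟨z, hzU, hzx, hfib⟩ := H80.Clopen.exists_generization_in_fibre f U (h4 (f.base x) rfl)
    exact H80.Clopen.purityHolds_stalk_of_smooth f hzx (fun h => hx (h ▸ hzU)) hfib (hdepth x hx)
  exact { faithful := ‹_›, full := ‹_›, essSurj := this }

end Groth.Agent.S0273
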