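import Groth.Statements.S0283
import Groth.Agent.Lib.FEt.FullyFaithful
import Groth.Agent.Lib.UnivHomeo.Basic

set_option autoImplicit false
universe u
open Pi1

namespace Groth.Agent.S0283

open AlgebraicGeometry CategoryTheory CategoryTheory.Limits in
/-- Let f : X → Y be a morphism of schemes which is integral, universally injective and surjective (that
is, a universal homeomorphism). Then base change along f, from finite étale covers of Y to finite
étale covers of X, is a full and faithful functor. -/
theorem result {X Y : Scheme.{u}} (f : X ⟶ Y) [IsIntegralHom f] [UniversallyInjective f] [Surjective f] :
    (FEt.restrict f).Full ∧ (FEt.restrict f).Faithful := by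
  exact Groth.Agent.Lib.FEt.FullyFaithful.of_isHomeomorph f fun W =>
    have : UniversallyInjective (Limits.pullback.fst W.hom f) :=
      MorphismProperty.pullback_fst _ _ inferInstance
    have : Surjective (Limits.pullback.fst W.hom f) :=
      MorphismProperty.pullback_fst _ _ inferInstance
    have : IsIntegralHom (Limits.pullback.fst W.hom f) :=
      MorphismProperty.pullback_fst _ _ inferInstance
    Groth.Agent.Lib.UnivHomeo.Basic.isHomeomorph_of_universallyClosed_injective_surjective _
      (Scheme.Hom.injective _)

end Groth.Agent.S0283
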