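import Groth.Statements.S0286
import Groth.Agent.S0289
import Mathlib.FieldTheory.PerfectClosure

set_option autoImplicit false
universe u
open Pi1

namespace Groth.Agent.S0286

open AlgebraicGeometry CategoryTheory CategoryTheory.Limits in
/-- For a scheme X over a field k of characteristic p (p a prime), pulling back finite étale covers
along the projection X ×_{Spec k} Spec(k^perf) → X, where k^perf is the perfect closure of k, is an
equivalence of categories. -/
theorem result (k : Type u) [Field k] (p : ℕ) [Fact p.Prime] [CharP k p] {X : Scheme.{u}}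
    (f : X ⟶ Spec (CommRingCat.of k)) :
    (FEt.restrict (pullback.fst f
      (Spec.map (CommRingCat.ofHom (PerfectClosure.of k p))))).IsEquivalence := by
  let φ := PerfectClosure.of k p
  have hz : ∀ z : PerfectClosure k p, ∃ (n : ℕ) (x : k), z ^ p ^ n = φ x := fun z => by
    induction z using PerfectClosure.induction_on with
    | _ q =>
      refine ⟨q.1, q.2, ?_⟩
      rw [← iterate_frobenius]
      exact PerfectClosure.iterate_frobenius_mk k p q.1 q.2
  have h1 : φ.IsIntegral := fun z => by
    obtain ⟨n, x, hx⟩ := hz z
    refine ⟨Polynomial.X ^ p ^ n - Polynomial.C x,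
      Polynomial.monic_X_pow_sub_C x (pow_ne_zero _ (Fact.out : p.Prime).ne_zero), ?_⟩
    simp [φ, hx]
  have h2 : Groth.Agent.H75.UH.Radicial φ := fun P hP z => by
    obtain ⟨n, x, hx⟩ := hz z
    refine Or.inr ⟨p, Fact.out, by rw [CharP.cast_eq_zero]; exact zero_mem _, n, ?_⟩
    rw [hx]
    exact Groth.Agent.H75.UH.ures_of_range (hp := hP) x
  have h3 : RingHom.ker φ ≤ nilradical k := by
    rw [(RingHom.injective_iff_ker_eq_bot _).mp φ.injective]
    exact bot_le
  obtain ⟨i1, i2, i3⟩ := Groth.Agent.H80.UnivHomeo.univHomeo_specMap φ h1 h2 h3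
  have : IsIntegralHom (pullback.fst f (Spec.map (CommRingCat.ofHom φ))) :=
    MorphismProperty.of_isPullback (IsPullback.of_hasPullback f _).flip i1
  have : UniversallyInjective (pullback.fst f (Spec.map (CommRingCat.ofHom φ))) :=
    MorphismProperty.of_isPullback (IsPullback.of_hasPullback f _).flip i2
  have : Surjective (pullback.fst f (Spec.map (CommRingCat.ofHom φ))) :=
    MorphismProperty.of_isPullback (IsPullback.of_hasPullback f _).flip i3
  exact Groth.Agent.S0289.result _

end Groth.Agent.S0286
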