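import Groth.Statements.S0287
import Groth.Agent.H80.Extend.Chain
import Groth.Agent.H80.Extend.DimOne
import Groth.Agent.S0247

set_option autoImplicit false
set_option backward.isDefEq.respectTransparency false
universe u
open Pi1

namespace Groth.Agent.S0287

open AlgebraicGeometry CategoryTheory CategoryTheory.Limits in
/-- Let X be locally Noetherian, U a dense open, Y a finite etale cover of U such that the local rings
of X at points outside U are regular and, at each such point of dimension one, the restriction of Y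
to the punctured local scheme extends over the local scheme (Y is unramified over X in codimension
1). Then Y extends to a finite etale cover of X. -/
theorem result {X : Scheme.{u}} [IsLocallyNoetherian X] (U : X.Opens) (hU : Dense (U : Set X))
    (Y : FEt.Cat (U : Scheme.{u}))
    (hreg : ∀ x : X, x ∉ U → IsRegularLocalRing (X.presheaf.stalk x))
    (hunr : ∀ ξ : X, ξ ∉ U → ringKrullDim (X.presheaf.stalk ξ) = 1 →
      ∃ Yξ : FEt.Cat (Spec (X.presheaf.stalk ξ)),
        Nonempty ((FEt.restrict (pullback.snd U.ι (X.fromSpecStalk ξ))).obj Yξ ≅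
          (FEt.restrict (pullback.fst U.ι (X.fromSpecStalk ξ))).obj Y)) :
    ∃ Y' : FEt.Cat X, Nonempty ((FEt.restrict U.ι).obj Y' ≅ Y) := by
  obtain ⟨m, hm⟩ := Groth.Agent.H80.Extend.exists_maximal (q := Y.hom) hU Y.prop
  let mY : FEt.Cat (m.O : Scheme.{u}) := MorphismProperty.Over.mk ⊤ m.z m.prop
  by_cases htop : m.O = ⊤
  · have : IsIso m.O.ι := by rw [htop]; exact X.topIso.isIso_hom
    let Z : FEt.Cat X := MorphismProperty.Over.mk ⊤ (m.z ≫ m.O.ι)
      ((MorphismProperty.cancel_right_of_respectsIso FEt.prop.{u} m.z _).mpr m.prop)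
    refine ⟨Z, Groth.Agent.H80.UnivHomeo.nonempty_iso_of_isPullback U.ι Y Z m.j ?_⟩
    have h2 : IsPullback (𝟙 m.Z) m.z (m.z ≫ m.O.ι) m.O.ι :=
      IsPullback.of_horiz_isIso ⟨Category.id_comp _⟩
    have h3 := m.pb.paste_horiz h2
    rw [Category.comp_id] at h3
    have e : X.homOfLE m.le ≫ m.O.ι = U.ι := Scheme.homOfLE_ι _ _
    exact e ▸ h3
  exfalso
  obtain ⟨η, hη, hgen⟩ := Groth.Agent.H80.Extend.exists_generic m.O htop
  have hηU : η ∉ U := fun h => hη (m.le h)
  have : IsRegularLocalRing (X.presheaf.stalk η) := hreg η hηU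
  have hext : Groth.Agent.H80.Extend.Ext m.z m.O.ι (X.fromSpecStalk η) := by
    rcases Groth.Agent.H80.Extend.dim_cases hU hηU with h1 | h2
    · obtain ⟨Yξ, ⟨e⟩⟩ := hunr η hηU h1
      exact Groth.Agent.H80.Extend.ext_of_dim_one hU m.le hη hgen h1 Y mY m.j m.pb Yξ e
    · exact Groth.Agent.H80.Extend.ext_of_purity m.O mY hη hgen
        (Groth.Agent.S0247.result _ h2)
  obtain ⟨T, hlt, Y', j, hj⟩ := Groth.Agent.H80.Extend.exists_bigger m.O mY hη hext
  let m' : Groth.Agent.H80.Extend.Part U Y.hom :=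
    { O := T
      le := m.le.trans hlt.le
      Z := Y'.left
      z := Y'.hom
      prop := Y'.prop
      j := m.j ≫ j
      pb := Scheme.homOfLE_homOfLE X m.le hlt.le ▸ m.pb.paste_horiz hj }
  exact hlt.not_ge (hm m' ⟨hlt.le, j, hj, rfl⟩).1

end Groth.Agent.S0287
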