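import Groth.Statements.S0288
import Groth.Agent.Lib.Unram.UnibranchEtale
import Groth.Agent.Lib.Unram.OneBranch

set_option autoImplicit false
universe u
open Pi1

namespace Groth.Agent.S0288

open AlgebraicGeometry CategoryTheory CategoryTheory.Limits in
/-- Let X be a normal integral scheme with function field K, L a finite field extension of K and Y -> X
the normalization of X in Spec L. If Y -> X is unramified (formally unramified and locally of finite
type), then it is etale, and finite. -/
theorem result {X : Scheme.{u}} [IsIntegral X] (hX : Pi1.IsNormalScheme X) (L : Type u) [Field L]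
    [Algebra X.functionField L] [FiniteDimensional X.functionField L]
    [QuasiCompact (Spec.map (CommRingCat.ofHom (algebraMap X.functionField L)) ≫ X.fromSpecStalk (genericPoint X))]
    [QuasiSeparated (Spec.map (CommRingCat.ofHom (algebraMap X.functionField L)) ≫ X.fromSpecStalk (genericPoint X))]
    [FormallyUnramified (Spec.map (CommRingCat.ofHom (algebraMap X.functionField L)) ≫ X.fromSpecStalk (genericPoint X)).fromNormalization]
    [LocallyOfFiniteType (Spec.map (CommRingCat.ofHom (algebraMap X.functionField L)) ≫ X.fromSpecStalk (genericPoint X)).fromNormalization] :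
    Etale (Spec.map (CommRingCat.ofHom (algebraMap X.functionField L)) ≫ X.fromSpecStalk (genericPoint X)).fromNormalization ∧
    IsFinite (Spec.map (CommRingCat.ofHom (algebraMap X.functionField L)) ≫ X.fromSpecStalk (genericPoint X)).fromNormalization := by
  let φ := Spec.map (CommRingCat.ofHom (algebraMap X.functionField L)) ≫ X.fromSpecStalk (genericPoint X)
  refine ⟨?_, (IsFinite.iff_isIntegralHom_and_locallyOfFiniteType _).mpr ⟨inferInstance, inferInstance⟩⟩
  haveI : IsIntegral φ.normalization := inferInstance
  have hY : ∀ y : X, CAlg2.IsGeomUnibranch (X.presheaf.stalk y) := fun y => by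
    haveI := (hX y).1
    haveI := (hX y).2
    exact Groth.Agent.Lib.Unram.OneBranch.isGeomUnibranch_of_isIntegrallyClosed _
  let z : Spec (CommRingCat.of L) := ⟨⊥, Ideal.isPrime_bot⟩
  refine (Groth.Agent.Lib.Unram.UnibranchEtale.etale_and_isIntegral φ.fromNormalization hY
    ⟨φ.toNormalization z, ?_⟩).1
  rw [← Scheme.Hom.comp_apply, Scheme.Hom.toNormalization_fromNormalization]
  show X.fromSpecStalk (genericPoint X) (Spec.map (CommRingCat.ofHom (algebraMap X.functionField L)) z) = _
  have : Subsingleton (Spec (X.functionField)) := inferInstanceAs (Subsingleton (PrimeSpectrum X.functionField))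
  rw [Subsingleton.elim (Spec.map (CommRingCat.ofHom (algebraMap X.functionField L)) z)
    (IsLocalRing.closedPoint (X.functionField : Type u)), Scheme.fromSpecStalk_closedPoint]

end Groth.Agent.S0288
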