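import Groth.Statements.S0291
import Groth.Agent.Lib.FEt.DepthTwoSections

set_option autoImplicit false
universe u
open Pi1

namespace Groth.Agent.S0291

open AlgebraicGeometry CategoryTheory CategoryTheory.Limits in
/-- Let A be a Noetherian local ring and B a finite A-algebra such that the local rings of Spec B at all
closed points have depth at least 2. Then restriction from global sections of Spec B to sections
over the preimage of the punctured spectrum of A is an isomorphism. -/
theorem result (A B : Type u) [CommRing A] [IsNoetherianRing A] [IsLocalRing A] [CommRing B] [Algebra A B]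
    [Module.Finite A B]
    (h : ∀ (m : Ideal B) (_ : m.IsMaximal), (2 : ℕ∞) ≤ LocCoh.depth (Localization.AtPrime m) (Localization.AtPrime m)) :
    IsIso ((Spec (CommRingCat.of B)).presheaf.map (homOfLE (le_top :
      Spec.map (CommRingCat.ofHom (algebraMap A B)) ⁻¹ᵁ FEt.puncturedSpec A ≤ ⊤)).op) := by
  classical
  let J : Ideal B := (IsLocalRing.maximalIdeal A).map (algebraMap A B)
  have : IsNoetherianRing B := IsNoetherianRing.of_finite A B
  have hpair : ∃ a ∈ J, ∃ b ∈ J, IsSMulRegular B a ∧ ∀ x, a ∣ b * x → a ∣ x := by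
    by_cases hJ : J = ⊤
    · exact ⟨1, hJ ▸ trivial, 1, hJ ▸ trivial, IsSMulRegular.one B, fun x _ => by simp⟩
    have hJ' : J • (⊤ : Submodule B B) ≠ ⊤ := by
      rwa [smul_eq_mul, Ideal.mul_top]
    have h2 : (2 : ℕ∞) ≤ LocCoh.idealDepth J B := by
      rw [Groth.Agent.Lib.Depth.Local.idealDepth_eq_iInf]
      refine le_iInf₂ fun p hp => ?_
      have hq : (p.asIdeal.comap (algebraMap A B)) = IsLocalRing.maximalIdeal A :=
        ((IsLocalRing.maximalIdeal.isMaximal A).eq_of_le (Ideal.IsPrime.ne_top inferInstance)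
          (Ideal.map_le_iff_le_comap.mp hp)).symm
      have : p.asIdeal.IsMaximal :=
        Ideal.isMaximal_of_isIntegral_of_isMaximal_comap p.asIdeal
          (hq ▸ IsLocalRing.maximalIdeal.isMaximal A)
      exact h p.asIdeal this
    obtain ⟨a, ha, hareg, h1⟩ :=
      Groth.Agent.Lib.Depth.Basic.exists_isSMulRegular_of_succ_le hJ' (n := 1) (by exact_mod_cast h2)
    obtain ⟨b, hb, hbreg⟩ := (Groth.Agent.Lib.Depth.Basic.one_le_idealDepth_iff.mp
        (by exact_mod_cast h1)).resolve_left
      (mt (Groth.Agent.Lib.Depth.SES.smul_top_quotSMulTop_eq_top_iff ha).mp hJ')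
    refine ⟨a, ha, b, hb, hareg, fun x hx => ?_⟩
    have hmem : open Pointwise in ∀ t : B, t ∈ a • (⊤ : Submodule B B) ↔ a ∣ t := fun t => by
      rw [← Submodule.ideal_span_singleton_smul, smul_eq_mul, Ideal.mul_top,
        Ideal.mem_span_singleton]
    rw [← hmem, ← Submodule.Quotient.mk_eq_zero]
    refine hbreg ?_
    change b • _ = b • (0 : QuotSMulTop a B)
    rw [smul_zero, ← Submodule.Quotient.mk_smul, Submodule.Quotient.mk_eq_zero, hmem, smul_eq_mul]
    exact hx
  obtain ⟨a, ha, b, hb, hareg, hbreg⟩ := hpair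
  let e : B ≃+* Γ(Spec (CommRingCat.of B), ⊤) :=
    (Scheme.ΓSpecIso (CommRingCat.of B)).symm.commRingCatIsoToRingEquiv
  have hmap : ∀ c ∈ J, (Spec (CommRingCat.of B)).basicOpen (e c) ≤
      Spec.map (CommRingCat.ofHom (algebraMap A B)) ⁻¹ᵁ FEt.puncturedSpec A := by
    intro c hc q hq
    have hq' : c ∉ (q : PrimeSpectrum B).asIdeal := by
      rw [show (Spec (CommRingCat.of B)).basicOpen (e c) = PrimeSpectrum.basicOpen c from
        basicOpen_eq_of_affine (R := CommRingCat.of B) c] at hq
      exact hq
    intro hpt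
    refine hq' ((Ideal.map_le_iff_le_comap (f := algebraMap A B)).mpr ?_ hc)
    exact (congrArg PrimeSpectrum.asIdeal hpt).ge
  refine Groth.Agent.Lib.FEt.DepthTwo.isIso_restriction_of_regular_pair _ _ (e a) (e b) ?_ ?_
    (hmap a ha) (hmap b hb)
  · intro x y hxy
    refine e.symm.injective (hareg ?_)
    simpa [smul_eq_mul, map_mul] using congrArg e.symm hxy
  · intro x hx
    have := hbreg (e.symm x) (by simpa [map_mul] using map_dvd e.symm hx)
    simpa using map_dvd e this

end Groth.Agent.S0291
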