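import Groth.Statements.S0295
import Groth.Agent.Lib.FEt.GaloisCat

set_option autoImplicit false
universe u
open Pi1

namespace Groth.Agent.S0295

open AlgebraicGeometry CategoryTheory CategoryTheory.Limits in
/-- In terms of Mathlib's axioms for Galois categories: if X is a connected scheme and xi a geometric
point (with values in an algebraically closed field), then the category of finite etale covers of X
is a pre-Galois category and the fibre functor at xi, viewed with values in finite sets, is a fibre
functor. -/
theorem result {X : Scheme.{u}} [ConnectedSpace X] {Ω : Type u} [Field Ω]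
    [IsAlgClosed Ω] (ξ : Spec (CommRingCat.of Ω) ⟶ X) :
    ∃ (_ : PreGaloisCategory (FEt.Cat X)) (F : FEt.Cat X ⥤ FintypeCat.{u}),
      PreGaloisCategory.FiberFunctor F ∧ Nonempty (F ⋙ FintypeCat.incl ≅ FEt.fiber ξ) := by
  exact ⟨inferInstance, Groth.Agent.Lib.FEt.FiberFunctor.fintypeFiber ξ,
    Groth.Agent.Lib.FEt.GaloisCat.fiberFunctor ξ,
    ⟨Groth.Agent.Lib.FEt.FiberFunctor.fintypeFiberIso ξ⟩⟩

end Groth.Agent.S0295
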