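import Groth.Statements.S0301
import Groth.Agent.Lib.LocalCoh.Torsion
-- import your own Groth.Agent.* helpers here

set_option autoImplicit false
universe u v
open InjHull

namespace Groth.Agent.S0301

/-- Over a Noetherian ring, the submodule of an injective module consisting of the elements killed by
some power of a given ideal is again injective. -/
theorem result (R : Type u) [CommRing R] [IsNoetherianRing R] (I : Type u) [AddCommGroup I] [Module R I] (hI : Module.Injective R I) (J : Ideal R) : Module.Injective R ↥(⨆ n : ℕ, Submodule.torsionBySet R I ((J ^ n : Ideal R) : Set R)) := by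
  have h := Groth.Agent.Lib.LocalCoh.injective_torsionSub (R := R) J I
  have e : (⨆ n : ℕ, Submodule.torsionBySet R I ((J ^ n : Ideal R) : Set R)) =
      DRing.torsionSub J I := by
    refine le_antisymm (iSup_le fun n x hx => ⟨n, fun a ha => ?_⟩) fun x ⟨n, hn⟩ => ?_
    · exact (Submodule.mem_torsionBySet_iff _ _).mp hx ⟨a, ha⟩
    · exact le_iSup (fun n : ℕ => Submodule.torsionBySet R I ((J ^ n : Ideal R) : Set R)) n
        ((Submodule.mem_torsionBySet_iff _ _).mpr fun ⟨a, ha⟩ => hn a ha)
  rw [e]
  exact h


end Groth.Agent.S0301
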