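import Groth.Statements.S0312
import Groth.Agent.Lib.InjHull.BaseChange
-- import your own Groth.Agent.* helpers here

set_option autoImplicit false
universe u v
open Matlis

namespace Groth.Agent.S0312

/-- For a flat local homomorphism A → B of Noetherian local rings with m_A B equal to the maximal ideal
of B, tensoring an injective hull of the residue field of A with B gives an injective hull of the
residue field of B. -/
theorem result (A : Type u) [CommRing A] [IsLocalRing A] [IsNoetherianRing A] (B : Type u) [CommRing B] [IsLocalRing B] [IsNoetherianRing B] [Algebra A B] [IsLocalHom (algebraMap A B)] [Module.Flat A B] (hm : (IsLocalRing.maximalIdeal A).map (algebraMap A B) = IsLocalRing.maximalIdeal B) (E : Type u) [AddCommGroup E] [Module A E] (f : IsLocalRing.ResidueField A →ₗ[A] E) (hf : InjHull.IsInjectiveHull f) : ∃ g : IsLocalRing.ResidueField B →ₗ[B] TensorProduct A B E, InjHull.IsInjectiveHull g := by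
  open Groth.Agent.Lib.InjHull in
  obtain ⟨e⟩ := BaseChange.socle_simple_of_fibre (B := B) (m := IsLocalRing.maximalIdeal A) hf.toIsEssentialInj
  rw [hm] at e
  refine BaseChange.exists_isInjectiveHull_baseChange (m := IsLocalRing.maximalIdeal A) hf
    (by rw [hm]; exact Ideal.le_radical) ?_
  have : IsSimpleModule B (B ⧸ IsLocalRing.maximalIdeal B) :=
    Matlis.isSimpleModule_quotient (m := IsLocalRing.maximalIdeal B)
  exact IsSimpleModule.congr ((BaseChange.homQuotientEquiv _ _).trans e.symm)


end Groth.Agent.S0312
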