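import Groth.Statements.S0322
import Groth.Agent.Lib.Depth.Local
-- import your own Groth.Agent.* helpers here

set_option autoImplicit false
universe u v
open LocCoh

namespace Groth.Agent.S0322

open Pointwise in
theorem aux (R : Type u) [CommRing R] [IsLocalRing R] [IsNoetherianRing R] (I : Ideal R) (hI : I ≠ ⊤)
    (M : Type u) [AddCommGroup M] [Module R M] [Module.Finite R M]
    (hM : LocCoh.IsCohenMacaulayModule R M) :
    Module.supportDim R M = Module.supportDim R (M ⧸ (I • (⊤ : Submodule R M))) +
      ((LocCoh.idealDepth I M : ℕ∞) : WithBot ℕ∞) := by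
  have := Groth.Agent.Lib.Depth.CM.nontrivial_of_isCohenMacaulayModule hM
  have hne := Groth.Agent.Lib.Depth.Basic.smul_top_ne_top (M := M) hI
  obtain ⟨n, hn⟩ := Groth.Agent.Lib.Depth.Local.exists_nat_eq_idealDepth I M hne
  induction n generalizing M with
  | zero =>
    rw [hn, Nat.cast_zero, WithBot.coe_zero, add_zero]
    refine le_antisymm ?_ (Module.supportDim_le_of_surjective _ (Submodule.mkQ_surjective _))
    obtain ⟨p, hp, hle⟩ :=
      (Groth.Agent.Lib.Depth.Assoc.idealDepth_eq_zero_iff I M hne).mp (by simpa using hn)
    have hpp := IsAssociatedPrime.isPrime hp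
    rw [← Groth.Agent.Lib.Depth.CM.ringKrullDim_quotient_eq hM hp,
      Module.supportDim_eq_ringKrullDim_quotient_annihilator R
        (M ⧸ (I • (⊤ : Submodule R M)))]
    have hann : Module.annihilator R (M ⧸ (I • (⊤ : Submodule R M))) ≤ p := by
      refine Module.annihilator_le_of_mem_support (p := ⟨p, hpp⟩) ?_
      rw [Module.support_quotient]
      refine ⟨?_, hle⟩
      have h1 := IsAssociatedPrime.annihilator_le hp
      rw [Submodule.annihilator_top] at h1
      exact Module.mem_support_iff_of_finite.mpr h1
    exact ringKrullDim_le_of_surjective (Ideal.Quotient.factor hann)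
      (Ideal.Quotient.factor_surjective hann)
  | succ n ih =>
    obtain ⟨x, hx, hreg, hI', hn'⟩ :=
      Groth.Agent.Lib.Depth.Local.exists_regular_of_idealDepth_eq_succ hn
    have hxm : x ∈ IsLocalRing.maximalIdeal R := IsLocalRing.le_maximalIdeal hI hx
    have hCM := (Groth.Agent.Lib.Depth.CM.isCohenMacaulayModule_quotSMulTop_iff hxm hreg).mpr hM
    have hs : Module.support R (QuotSMulTop x M ⧸ I • (⊤ : Submodule R (QuotSMulTop x M))) =
        Module.support R (M ⧸ I • (⊤ : Submodule R M)) := by
      rw [Module.support_quotient, Module.support_quotient, Module.support_quotSMulTop,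
        Set.inter_assoc]
      congr 1
      refine Set.inter_eq_right.mpr fun q hq => ?_
      exact Set.singleton_subset_iff.mpr (hq hx)
    rw [← Module.supportDim_quotSMulTop_succ_eq_supportDim hreg hxm,
      ih (QuotSMulTop x M) hCM (Groth.Agent.Lib.Depth.CM.nontrivial_of_isCohenMacaulayModule hCM)
        hI' hn', hn, hn', Nat.cast_succ, WithBot.coe_add, add_assoc]
    have hd : Module.supportDim R (QuotSMulTop x M ⧸ I • (⊤ : Submodule R (QuotSMulTop x M))) =
        Module.supportDim R (M ⧸ I • (⊤ : Submodule R M)) := by
      unfold Module.supportDim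
      exact congrArg (fun s : Set (PrimeSpectrum R) => Order.krullDim s) hs
    rw [hd]
    rfl

/-- For a finite Cohen–Macaulay module M over a Noetherian local ring and a proper ideal I, the I-depth
of M equals dim Supp(M) minus dim Supp(M/IM); stated additively. -/
theorem result (R : Type u) [CommRing R] [IsLocalRing R] [IsNoetherianRing R] (I : Ideal R) (hI : I ≠ ⊤) (M : Type u) [AddCommGroup M] [Module R M] [Module.Finite R M] (hM : LocCoh.IsCohenMacaulayModule R M) : Module.supportDim R M = Module.supportDim R (M ⧸ (I • (⊤ : Submodule R M))) + ((LocCoh.idealDepth I M : ℕ∞) : WithBot ℕ∞) := by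
  exact Groth.Agent.S0322.aux R I hI M hM


end Groth.Agent.S0322
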