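import Groth.Statements.S0323
import Groth.Agent.Lib.LocalCoh.Transfer
import Groth.Agent.Lib.LocalCoh.Basic
-- import your own Groth.Agent.* helpers here

set_option autoImplicit false
universe u v
open LocCoh

namespace Groth.Agent.S0323

/-- Noetherian case, torsion part: let R be a Noetherian ring, I an ideal and N an R-module every
element of which is killed by a power of I. Then the local cohomology of N with support in I is N in
degree 0 (there is an R-linear isomorphism H⁰_I(N) ≅ N) and vanishes in positive degrees. (The
comparison between a module M and M modulo its I-power torsion is not stated; Noetherian rings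
only.) -/
theorem result (R : Type u) [CommRing R] [IsNoetherianRing R] (I : Ideal R) (N : Type u) [AddCommGroup N] [Module R N] (hN : LocCoh.IsPowerTorsion I N) : Nonempty (LocCoh.H I 0 N ≃ₗ[R] N) ∧ ∀ p : ℕ, 0 < p → Subsingleton (LocCoh.H I p N) := by
  open Groth.Agent.Lib.LocalCoh in
  refine ⟨?_, fun p hp => ?_⟩
  · exact ⟨((lcZeroIso I).app (ModuleCat.of R N)).toLinearEquiv.trans
      (LinearEquiv.ofTop _ (SetLike.ext fun m => ⟨fun _ => trivial, fun _ => hN m⟩))⟩
  · obtain ⟨k, rfl⟩ := Nat.exists_eq_succ_of_ne_zero hp.ne'
    exact lc_subsingleton_of_isPowerTorsion I k (ModuleCat.of R N) hN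


end Groth.Agent.S0323
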