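import Groth.Statements.S0328
import Groth.Agent.Lib.LCFin.Top
-- import your own Groth.Agent.* helpers here

set_option autoImplicit false
universe u v
open LocCoh

namespace Groth.Agent.S0328

/-- In a Noetherian local ring, if a prime p and a proper ideal I together have radical the maximal
ideal and dim R/p = d ≥ 1, then local cohomology with support in I does not vanish in all degrees ≥
d. -/
theorem result (R : Type u) [CommRing R] [IsLocalRing R] [IsNoetherianRing R] (I : Ideal R) (hI : I ≠ ⊤) (p : Ideal R) [p.IsPrime] (hpI : (p ⊔ I).radical = IsLocalRing.maximalIdeal R) (d : ℕ) (hd : ringKrullDim (R ⧸ p) = d) (hd1 : 1 ≤ d) : ¬ LocCoh.CdLE R I (d - 1) := by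
  intro hcd
  have := Ideal.Quotient.nontrivial_iff.2 (Ideal.IsPrime.ne_top ‹p.IsPrime›)
  have : IsLocalRing (R ⧸ p) :=
    IsLocalRing.of_surjective' (Ideal.Quotient.mk p) Ideal.Quotient.mk_surjective
  have h := Groth.Agent.Lib.LCFin.Cd.cdLE_map (B := R ⧸ p) hcd (R ⧸ p) d (by omega)
  refine @not_subsingleton _ (Groth.Agent.Lib.LCFin.Top.not_cdLE_of_radical_eq _ ?_ d hd) h
  rw [Ideal.Quotient.algebraMap_eq]
  have hm : (IsLocalRing.maximalIdeal R).map (Ideal.Quotient.mk p) =
      IsLocalRing.maximalIdeal (R ⧸ p) :=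
    IsLocalRing.map_maximalIdeal_of_surjective _ Ideal.Quotient.mk_surjective
  refine le_antisymm ?_ ?_
  · refine (IsLocalRing.maximalIdeal.isMaximal (R ⧸ p)).isPrime.radical_le_iff.2 ?_
    rw [← hm]
    exact Ideal.map_mono (IsLocalRing.le_maximalIdeal hI)
  · rw [← hm, ← hpI]
    refine (Ideal.map_radical_le _).trans (le_of_eq ?_)
    rw [Ideal.map_sup, Ideal.map_quotient_self, bot_sup_eq]


end Groth.Agent.S0328
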