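import Groth.Statements.S0331
import Groth.Agent.Lib.LCFin.Faltings
import Groth.Agent.Lib.LCFin.Kill
-- import your own Groth.Agent.* helpers here

set_option autoImplicit false
universe u v
open LocCoh

namespace Groth.Agent.S0331

/-- Over a Noetherian ring, if H^i_I(R) is finitely generated for i ≤ n, then so is H^i_I(M) for i ≤ n
for every finite module M that becomes finite projective after inverting any single element of I. -/
theorem result (R : Type u) [CommRing R] [IsNoetherianRing R] (I : Ideal R) (n : ℕ) (hR : ∀ i : ℕ, i ≤ n → Module.Finite R (LocCoh.H I i R)) (M : Type u) [AddCommGroup M] [Module R M] [Module.Finite R M] (hM : ∀ f ∈ I, Module.Projective (Localization.Away f) (LocalizedModule (Submonoid.powers f) M)) (i : ℕ) (hi : i ≤ n) : Module.Finite R (LocCoh.H I i M) := by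
  obtain ⟨k, hk⟩ := Groth.Agent.Lib.LCFin.Faltings.exists_annihilating I R n hR
  refine Groth.Agent.Lib.LCFin.Faltings.finite_of_annihilated I n M
    (I ^ k * Groth.Agent.Lib.LCFin.Kill.freeIdeal M) ?_ (fun j hj a ha x => ?_) i hi
  · intro f hf
    obtain ⟨s, ⟨l, rfl⟩, hs⟩ :=
      Groth.Agent.Lib.LCFin.Kill.exists_mem_freeIdeal (Submonoid.powers f) (hM f hf)
    exact ⟨k + l, by rw [pow_add]; exact Ideal.mul_mem_mul (Ideal.pow_mem_pow hf k) hs⟩
  · refine Submodule.mul_induction_on ha (fun b hb c hc => ?_) fun a b ha hb => by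
      rw [add_smul, ha, hb, add_zero]
    exact Groth.Agent.Lib.LCFin.Kill.smul_eq_zero_of_mem_freeIdeal I j hc (fun z => hk j hj b hb z) x


end Groth.Agent.S0331
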