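import Groth.Statements.S0332
import Groth.Agent.Lib.LCFin.HLVT2
import Groth.Agent.Lib.LCFin.CanonCompletion
-- import your own Groth.Agent.* helpers here

set_option autoImplicit false
universe u v
open LocCoh

namespace Groth.Agent.S0332

/-- Let R be Noetherian local of dimension d with completion R^; suppose that for every minimal prime p
of R^ with dim R^/p = d the quotient of R^ by I R^ + p has Krull dimension at least 1 (i.e. some
prime containing I R^ + p is not maximal). Then local cohomology with support in I vanishes in all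
degrees ≥ d for every module. -/
theorem result (R : Type u) [CommRing R] [IsLocalRing R] [IsNoetherianRing R] (I : Ideal R) (d : ℕ) (hd : ringKrullDim R = d) (h : ∀ p ∈ minimalPrimes (AdicCompletion (IsLocalRing.maximalIdeal R) R), ringKrullDim (AdicCompletion (IsLocalRing.maximalIdeal R) R ⧸ p) = d → 1 ≤ ringKrullDim (AdicCompletion (IsLocalRing.maximalIdeal R) R ⧸ (I.map (algebraMap R (AdicCompletion (IsLocalRing.maximalIdeal R) R)) ⊔ p))) (M : Type u) [AddCommGroup M] [Module R M] (i : ℕ) (hi : d ≤ i) : Subsingleton (LocCoh.H I i M) := by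
  classical
  set S := AdicCompletion (IsLocalRing.maximalIdeal R) R with hS
  have hdS : ringKrullDim S = d :=
    (Lib.Regular.Completion.ringKrullDim_eq _ Ideal.IsPrime.ne_top').trans hd
  have hminmax : ∀ p : Ideal S, p.IsPrime → ringKrullDim (S ⧸ p) = d → p ∈ minimalPrimes S := by
    intro p hp hdim
    refine ⟨⟨hp, bot_le⟩, fun q ⟨hq, _⟩ hqp => ?_⟩
    by_contra hne
    have h1 := (Lib.Depth.Assoc.ringKrullDim_quotient_add_one_le_of_lt
      (lt_of_le_not_ge hqp hne)).trans (ringKrullDim_quotient_le q)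
    rw [hdim, hdS] at h1
    exact absurd h1 (not_le.2 (by exact_mod_cast d.lt_succ_self))
  have hvan : Subsingleton (LocCoh.H (I.map (algebraMap R S)) d S) := by
    obtain ⟨E, _, _, f, hf⟩ := Lib.InjHull.Basic.exists_hull (R := S) (IsLocalRing.ResidueField S)
    refine subsingleton_of_forall_eq 0 fun z => Lib.InjHull.Matlis.eq_zero_of_forall_dual hf fun φ => ?_
    by_contra hφ
    have : Nontrivial (LocCoh.H (I.map (algebraMap R S)) d S →ₗ[S] E) :=
      nontrivial_of_ne φ 0 fun h0 => hφ (by rw [h0, LinearMap.zero_apply])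
    obtain ⟨p, hp⟩ := associatedPrimes.nonempty S (LocCoh.H (I.map (algebraMap R S)) d S →ₗ[S] E)
    rw [Lib.LCFin.HLVT.associatedPrimes_dual_eq hf _
      ((Module.supportDim_self_eq_ringKrullDim S).trans hdS).le] at hp
    obtain ⟨hprime, -, hdim, hrad⟩ := hp
    have h1 := h p (hminmax p hprime hdim) hdim
    set J := I.map (algebraMap R S) ⊔ p
    let : Field (S ⧸ IsLocalRing.maximalIdeal S) := Ideal.Quotient.field _
    have h2 : ringKrullDim (S ⧸ J) ≤ 0 := by
      rw [ringKrullDim_quotient]
      refine Order.krullDim_nonpos_iff_forall_isMax.2 ?_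
      rintro ⟨⟨a, ha⟩, haJ⟩ ⟨⟨b, hb⟩, hbJ⟩ -
      show b ≤ a
      exact (IsLocalRing.le_maximalIdeal hb.ne_top).trans
        (hrad.ge.trans (ha.radical_le_iff.2 haJ))
    exact absurd (h1.trans h2) (by decide)
  cases d with
  | zero =>
    obtain ⟨p, hp⟩ := (Ideal.nonempty_minimalPrimes (I := (⊥ : Ideal S)) bot_ne_top)
    have hle : ringKrullDim (S ⧸ p) ≤ (0 : ℕ) := (ringKrullDim_quotient_le p).trans hdS.le
    have := hp.1.1
    have h0 : ringKrullDim (S ⧸ p) = (0 : ℕ) :=
      le_antisymm hle (by rw [Nat.cast_zero]; exact ringKrullDim_nonneg_of_nontrivial)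
    have h1 := (h p hp h0).trans (ringKrullDim_le_of_surjective
      (Ideal.Quotient.factor (le_sup_right : p ≤ I.map (algebraMap R S) ⊔ p))
      (Ideal.Quotient.factor_surjective _))
    rw [h0] at h1
    exact absurd h1 (by decide)
  | succ e =>
    have hcd : LocCoh.CdLE S (I.map (algebraMap R S)) e :=
      Lib.LCFin.Cd.cdLE_of_subsingleton_self _ e fun j hj => by
        rcases eq_or_lt_of_le (Nat.succ_le_of_lt hj) with rfl | hj'
        · exact hvan
        · exact Lib.LCFin.Cd.cdLE_of_ringKrullDim _ (e + 1) hdS.le S j hj'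
    have : Module.FaithfullyFlat R S := Module.FaithfullyFlat.of_flat_of_isLocalHom
    exact Lib.LCFin.Cd.cdLE_of_map hcd M i (by omega)


end Groth.Agent.S0332
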