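import Groth.Statements.S0333
import Groth.Agent.Lib.LCFin.Top2
-- import your own Groth.Agent.* helpers here

set_option autoImplicit false
universe u v
open LocCoh

namespace Groth.Agent.S0333

/-- Over a Noetherian ring of dimension d, if H^d_I(M) = 0 for one finite module M whose support
contains every minimal prime p with dim R/p = d, then H^i_I vanishes in degrees ≥ d on all modules. -/
theorem result (R : Type u) [CommRing R] [IsNoetherianRing R] (I : Ideal R) (d : ℕ) (hd : ringKrullDim R = d) (M : Type u) [AddCommGroup M] [Module R M] [Module.Finite R M] (hsupp : ∀ p ∈ minimalPrimes R, ringKrullDim (R ⧸ p) = d → ∀ hp : p.IsPrime, (⟨p, hp⟩ : PrimeSpectrum R) ∈ Module.support R M) (hvan : Subsingleton (LocCoh.H I d M)) (N : Type u) [AddCommGroup N] [Module R N] (i : ℕ) (hi : d ≤ i) : Subsingleton (LocCoh.H I i N) := by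
  classical
  rcases hi.lt_or_eq with hi' | hi'
  · exact Groth.Agent.Lib.LCFin.Cd.cdLE_of_ringKrullDim I d hd.le N i hi'
  subst hi'
  have hcd := Groth.Agent.Lib.LCFin.Cd.cdLE_of_ringKrullDim I d hd.le
  have hsmall : ∀ (T : Type u) [AddCommGroup T] [Module R T],
      Module.supportDim R T < (d : WithBot ℕ∞) → Subsingleton (LocCoh.H I d T) :=
    fun T _ _ h => Groth.Agent.Lib.LocalCoh.lc_subsingleton_of_supportDim_lt d R I T h
  -- the top dimensional primes
  have htop : ∀ p ∈ minimalPrimes R, ringKrullDim (R ⧸ p) = d →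
      Subsingleton (LocCoh.H I d (R ⧸ p)) := by
    intro p hp hpd
    have : p.IsPrime := hp.1.1
    have hpM : (⟨p, this⟩ : PrimeSpectrum R) ∈ Module.support R M := hsupp p hp hpd this
    -- a nonzero map to `R ⧸ p`
    let M' := M ⧸ p • (⊤ : Submodule R M)
    obtain ⟨g, hg⟩ : ∃ g : M →ₗ[R] R ⧸ p, g ≠ 0 :=
      Groth.Agent.Lib.LCFin.Top2.exists_hom_ne_zero p hpM
    have hJ : Subsingleton (LocCoh.H I d (LinearMap.range g)) :=
      (Groth.Agent.Lib.LCFin.Top.Hmap_surjective hcd g.surjective_rangeRestrict).subsingleton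
    refine Groth.Agent.Lib.LCFin.Seq.subsingleton_mid I (Submodule.injective_subtype _)
      (Submodule.mkQ_surjective _) (LinearMap.exact_subtype_mkQ (LinearMap.range g)) d hJ
      (hsmall _ (Groth.Agent.Lib.LCFin.Top2.supportDim_quot_lt p hpd _ (fun h => hg
        (LinearMap.range_eq_bot.1 h))))
  refine Groth.Agent.Lib.LCFin.Seq.subsingleton_of_forall_fg I d fun T _ _ _ => ?_
  induction ‹Module.Finite R T› using IsNoetherianRing.induction_on_isQuotientEquivQuotientPrime R with
  | subsingleton T =>
    exact ModuleCat.subsingleton_of_isZero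
      ((localCohomology I d).map_isZero (ModuleCat.isZero_of_subsingleton (ModuleCat.of R T)))
  | quotient T q f =>
    have hq : Subsingleton (LocCoh.H I d (R ⧸ q.1)) := by
      have hle : ringKrullDim (R ⧸ q.1) ≤ d := (ringKrullDim_quotient_le q.1).trans hd.le
      rcases hle.lt_or_eq with h | h
      · exact hsmall _ ((Module.supportDim_quotient_eq_ringKrullDim q.1).trans_lt h)
      · exact htop q.1 (Groth.Agent.Lib.LCFin.Top2.mem_minimalPrimes_of_dim q.1 hd.le h) h
    exact (Groth.Agent.Lib.LocalCoh.lcLinearEquiv I d f).toEquiv.subsingleton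
  | exact T₁ T₂ T₃ f g hf hg h h₁ h₃ =>
    exact Groth.Agent.Lib.LCFin.Seq.subsingleton_mid I hf hg h d h₁ h₃


end Groth.Agent.S0333
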