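import Groth.Statements.S0334
import Groth.Agent.Lib.LCFin.Cd
-- import your own Groth.Agent.* helpers here

set_option autoImplicit false
universe u v
open LocCoh

namespace Groth.Agent.S0334

/-- Over a Noetherian local ring of dimension d, multiplication by an element lying in no minimal prime
p with dim R/p = d is surjective on H^d_I(M) for every finite module M and every ideal I. -/
theorem result (R : Type u) [CommRing R] [IsLocalRing R] [IsNoetherianRing R] (I : Ideal R) (d : ℕ) (hd : ringKrullDim R = d) (f : R) (hf : ∀ p ∈ minimalPrimes R, ringKrullDim (R ⧸ p) = d → f ∉ p) (M : Type u) [AddCommGroup M] [Module R M] [Module.Finite R M] : Function.Surjective (fun x : LocCoh.H I d M => f • x) := by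
  classical
  intro z
  -- `M → fM` and `fM → M` are both surjective in degree `d`
  let m := LinearMap.lsmul R M f
  let g := m.rangeRestrict
  let i := (LinearMap.range m).subtype
  have hex1 : Function.Exact (LinearMap.ker g).subtype g := LinearMap.exact_subtype_ker_map g
  have hex2 : Function.Exact i (LinearMap.range m).mkQ := LinearMap.exact_subtype_mkQ _
  have h1 : Subsingleton (LocCoh.H I (d + 1) (LinearMap.ker g)) :=
    Groth.Agent.Lib.LCFin.Cd.cdLE_of_ringKrullDim I d hd.le _ _ d.lt_succ_self
  have hdim : Module.supportDim R (M ⧸ LinearMap.range m) < (d : WithBot ℕ∞) := by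
    have hmem : ∀ p ∈ Module.support R (M ⧸ LinearMap.range m), f ∈ p.asIdeal := by
      intro p hp
      obtain ⟨x, hx⟩ := Module.mem_support_iff'.1 hp
      by_contra hfp
      obtain ⟨y, rfl⟩ := (LinearMap.range m).mkQ_surjective x
      exact hx f hfp ((Submodule.Quotient.mk_eq_zero _).2 ⟨y, rfl⟩)
    have key : ∀ s : LTSeries (Module.support R (M ⧸ LinearMap.range m)), s.length + 1 ≤ d := by
      intro s
      let t : LTSeries (PrimeSpectrum R) := s.map (fun q => q.1) fun a b h => h
      have hlen : (t.length : WithBot ℕ∞) ≤ d := hd ▸ Order.LTSeries.length_le_krullDim t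
      have hlen' : s.length ≤ d := by
        have : t.length ≤ d := by exact_mod_cast hlen
        exact this
      by_contra hc
      have hsd : s.length = d := by omega
      let p := t.head.asIdeal
      have hfp : f ∈ p := hmem _ s.head.2
      have hpmin : p ∈ minimalPrimes R := by
        rw [← PrimeSpectrum.isMin_iff]
        intro q hq
        by_contra hne
        have hlen2 := Order.LTSeries.length_le_krullDim (t.cons q (lt_of_le_not_ge hq hne))
        rw [RelSeries.cons_length] at hlen2
        have hlen3 := hlen2.trans hd.le
        rw [Nat.cast_le] at hlen3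
        have : t.length = d := hsd
        omega
      refine hf p hpmin (le_antisymm ?_ ?_) hfp
      · exact (ringKrullDim_quotient_le p).trans hd.le
      · rw [ringKrullDim_quotient]
        let u : LTSeries (PrimeSpectrum.zeroLocus (p : Set R)) :=
          ⟨t.length, fun j => ⟨t j, fun x hx => (show t.head ≤ t j from
            LTSeries.monotone t (Fin.zero_le j)) hx⟩, fun j => t.step j⟩
        have := Order.LTSeries.length_le_krullDim u
        have hu : u.length = d := hsd
        rwa [hu] at this
    cases d with
    | zero =>
      have : IsEmpty (Module.support R (M ⧸ LinearMap.range m)) :=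
        ⟨fun q => absurd (key (RelSeries.singleton _ q)) (by omega)⟩
      rw [Module.supportDim, Order.krullDim_eq_bot]
      exact WithBot.bot_lt_coe _
    | succ e =>
      refine lt_of_le_of_lt (b := ((e : ℕ) : WithBot ℕ∞)) ?_ (by exact_mod_cast e.lt_succ_self)
      refine iSup_le fun s => ?_
      have := key s
      exact_mod_cast (Nat.le_of_succ_le_succ this)
  have h2 : Subsingleton (LocCoh.H I d (M ⧸ LinearMap.range m)) :=
    Groth.Agent.Lib.LocalCoh.lc_subsingleton_of_supportDim_lt d R I _ hdim
  obtain ⟨y, hy⟩ := (Groth.Agent.Lib.LCFin.Seq.exact_map_map I (Submodule.injective_subtype _)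
    (Submodule.mkQ_surjective _) hex2 d z).1 (h2.elim _ _)
  obtain ⟨x, hx⟩ := (Groth.Agent.Lib.LCFin.Seq.exact_map_δ I (Submodule.injective_subtype _)
    m.surjective_rangeRestrict hex1 d y).1 (h1.elim _ _)
  refine ⟨x, ?_⟩
  show f • x = z
  rw [← Groth.Agent.Lib.LCFin.Seq.Hmap_lsmul, ← hy, ← hx, ← LinearMap.comp_apply,
    ← Groth.Agent.Lib.LCFin.Seq.Hmap_comp]
  rfl


end Groth.Agent.S0334
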