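import Groth.Statements.S0335
import Groth.Agent.Lib.FEt.DepthTwo

set_option autoImplicit false
universe u v
open LocCoh

namespace Groth.Agent.S0335

/-- For the ring itself; Hartshorne's connectedness: if a Noetherian local ring has depth at least 2
then its punctured spectrum is connected. -/
theorem result (R : Type u) [CommRing R] [IsLocalRing R] [IsNoetherianRing R] (h : 2 ≤ LocCoh.depth R R) : IsConnected {x : PrimeSpectrum R | x.asIdeal ≠ IsLocalRing.maximalIdeal R} := by
  exact Groth.Agent.Lib.FEt.DepthTwo.isConnected_punctured h

end Groth.Agent.S0335
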