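import Groth.Statements.S0346
import Mathlib.CategoryTheory.Limits.Constructions.Over.Connected
import Mathlib.CategoryTheory.Monoidal.Cartesian.Grp
import Mathlib.AlgebraicGeometry.Morphisms.ClosedImmersion
import Mathlib.AlgebraicGeometry.Morphisms.QuasiSeparated
import Mathlib.AlgebraicGeometry.Morphisms.Separated
import Mathlib.CategoryTheory.Limits.Shapes.Diagonal
import Mathlib.CategoryTheory.Limits.Shapes.Pullback.IsPullback.Basic
-- import your own Groth.Agent.* helpers here

set_option autoImplicit false
universe u v
open CategoryTheory MonoidalCategory CartesianMonoidalCategory MonObj GrpObj AlgebraicGeometry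
open GrpSch

namespace Groth.Agent.S0346
open CategoryTheory.Limits

/-- A group scheme over any base scheme is separated over the base exactly when its unit section is a
closed immersion, and quasi-separated exactly when the unit section is quasi-compact. -/
theorem result (S : Scheme.{u}) (G : Over S) [GrpObj G] : (IsSeparated G.hom ↔ IsClosedImmersion η[G].left) ∧ (QuasiSeparated G.hom ↔ QuasiCompact η[G].left) := by
  have hsec : η[G].left ≫ G.hom = 𝟙 S := Over.w η[G]
  let σ : G ⊗ G ⟶ G := fst G G * (snd G G)⁻¹
  have pb : IsPullback (lift (𝟙 G) (𝟙 G)) (toUnit G) σ η[G] := by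
    refine ⟨⟨by simp [σ, MonObj.comp_mul, GrpObj.comp_inv, Hom.one_def]⟩,
      ⟨PullbackCone.IsLimit.mk _ (fun c => c.fst ≫ fst G G) ?_ ?_ ?_⟩⟩
    · intro c
      have h : (c.fst ≫ fst G G) * (c.fst ≫ snd G G)⁻¹ = 1 := by
        rw [← GrpObj.comp_inv, ← MonObj.comp_mul]
        exact c.condition.trans (by rw [Hom.one_def, toUnit_unique c.snd (toUnit _)])
      have := mul_inv_eq_one.1 h
      apply CartesianMonoidalCategory.hom_ext
      · simp
      · simp [this]
    · intro c; exact toUnit_unique _ _
    · intro c m h₁ _; simp [← h₁]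
  have pbl : IsPullback (pullback.diagonal G.hom) (toUnit G).left σ.left η[G].left :=
    pb.map (Over.forget S)
  refine ⟨⟨fun h => ?_, fun h => ⟨MorphismProperty.of_isPullback (P := @IsClosedImmersion) pbl.flip h⟩⟩,
    ⟨fun h => ?_, fun h => ⟨MorphismProperty.of_isPullback (P := @QuasiCompact) pbl.flip h⟩⟩⟩
  · have : IsClosedImmersion (η[G].left ≫ G.hom) := by rw [hsec]; exact inferInstanceAs (IsClosedImmersion (𝟙 S))
    exact IsClosedImmersion.of_comp η[G].left G.hom
  · have : QuasiCompact (η[G].left ≫ G.hom) := by rw [hsec]; exact inferInstanceAs (QuasiCompact (𝟙 S))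
    exact QuasiCompact.of_comp η[G].left G.hom

end Groth.Agent.S0346
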