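import Groth.Statements.S0349
import Groth.Agent.H63.GrpConnected
import Groth.Agent.H63.GrpComponent
import Groth.Agent.H63.GrpIrred
-- import your own Groth.Agent.* helpers here

set_option autoImplicit false
universe u v
open CategoryTheory MonoidalCategory CartesianMonoidalCategory MonObj GrpObj AlgebraicGeometry
open GrpSch

namespace Groth.Agent.S0349
open Groth.Agent.H63.GrpIrred
open Groth.Agent.H63.GrpComponent
open Groth.Agent.H63.GrpConnected

/-- An irreducible group scheme over a field is quasi-compact. -/
theorem result (K : Type u) [Field K] (G : Over (Spec (CommRingCat.of K))) [GrpObj G] [IrreducibleSpace G.left] : CompactSpace G.left := by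
  have h : comp0 G = Set.univ :=
    (_root_.eq_irreducibleComponent PreirreducibleSpace.isPreirreducible_univ (Set.subset_univ _)).symm
  exact ⟨h ▸ isCompact_comp0 G⟩

end Groth.Agent.S0349
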