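import Groth.Statements.S0350
import Groth.Agent.H63.GrpIrred
-- import your own Groth.Agent.* helpers here

set_option autoImplicit false
universe u v
open CategoryTheory MonoidalCategory CartesianMonoidalCategory MonObj GrpObj AlgebraicGeometry
open GrpSch

namespace Groth.Agent.S0350
open Groth.Agent.H63.GrpIrred

/-- Let G be a group scheme over a field K. Then for every point x of G the local ring O_{G,x} has at
most one (hence exactly one) minimal prime, and there is exactly one irreducible component of G
passing through the identity point. The published statement also asserts that this component is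
geometrically irreducible, which is not asserted here. -/
theorem result (K : Type u) [Field K] (G : Over (Spec (CommRingCat.of K))) [GrpObj G] : (∀ x : G.left, (minimalPrimes (G.left.presheaf.stalk x)).Subsingleton) ∧ ∃! Z : Set G.left, Z ∈ irreducibleComponents (G.left : Type u) ∧ η[G].left (IsLocalRing.closedPoint K) ∈ Z := by
  constructor
  · intro x p hp q hq
    have hemb : Topology.IsInducing (G.left.fromSpecStalk x) :=
      (G.left.fromSpecStalk x).isEmbedding.isInducing
    let p' : ↑(Spec (G.left.presheaf.stalk x)) := ⟨p, hp.1.1⟩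
    let q' : ↑(Spec (G.left.presheaf.stalk x)) := ⟨q, hq.1.1⟩
    have hp' : G.left.fromSpecStalk x p' ⤳ x := Scheme.range_fromSpecStalk.subset ⟨p', rfl⟩
    have hq' : G.left.fromSpecStalk x q' ⤳ x := Scheme.range_fromSpecStalk.subset ⟨q', rfl⟩
    obtain ⟨z, hz1, hz2⟩ := common_gen G hp' hq'
    obtain ⟨z', rfl⟩ := Scheme.range_fromSpecStalk.symm.subset (hz1.trans hp')
    have h1 : z'.asIdeal ≤ p := (PrimeSpectrum.le_iff_specializes z' p').2 (hemb.specializes_iff.1 hz1)
    have h2 : z'.asIdeal ≤ q := (PrimeSpectrum.le_iff_specializes z' q').2 (hemb.specializes_iff.1 hz2)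
    rw [← (h1.antisymm (hp.2 ⟨z'.isPrime, bot_le⟩ h1)), h2.antisymm (hq.2 ⟨z'.isPrime, bot_le⟩ h2)]
  · exact ⟨irreducibleComponent (η[G].left (IsLocalRing.closedPoint K)),
      ⟨irreducibleComponent_mem_irreducibleComponents _, mem_irreducibleComponent⟩,
      fun Z hZ => eq_irreducibleComponent G hZ.1 hZ.2⟩

end Groth.Agent.S0350
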