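import Groth.Statements.S0357
import Groth.Agent.H23.Lichtenbaum.Final

set_option autoImplicit false
universe u v
open CategoryTheory AlgebraicGeometry
open Dual

namespace Groth.Agent.S0357

/-- (1)⇔(3): let X be nonempty, separated and of finite type over a field, of dimension d. Then H^d(X,
F) vanishes for every coherent F exactly when no irreducible closed subscheme of X of dimension d is
proper over the field. ((3) is phrased with irreducible closed subschemes of dimension d, which are
the same as irreducible components of dimension d.) -/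
theorem result (k : Type u) [Field k] (X : Scheme.{u}) (f : X ⟶ Spec (CommRingCat.of k)) [IsSeparated f] [LocallyOfFiniteType f] [QuasiCompact f] [Nonempty X] (d : ℕ) (hd : topologicalKrullDim X = d) : (∀ M : X.Modules, Coh.IsCoh M → Subsingleton (Coh.HH X M d)) ↔ ∀ (Z : Scheme.{u}) (i : Z ⟶ X) [IsClosedImmersion i] [IrreducibleSpace Z], topologicalKrullDim Z = d → ¬ IsProper (i ≫ f) := by

  haveI : IsLocallyNoetherian X := LocallyOfFiniteType.isLocallyNoetherian f
  constructor
  · intro hvan Z i _ _ hdZ hp
    haveI := hp
    haveI : IsLocallyNoetherian Z := LocallyOfFiniteType.isLocallyNoetherian i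
    obtain ⟨W, r, hr, hW, hrange, -⟩ :=
      Groth.Agent.Lib.CohDelta.DevApps.exists_integral (genericPoint Z)
    haveI := hr
    haveI := hW
    have hsurj : Function.Surjective r := by
      rw [← Set.range_eq_univ, hrange]
      exact genericPoint_spec Z
    haveI : IsProper (r ≫ i ≫ f) := inferInstance
    have hdW : topologicalKrullDim W = (d : WithBot ℕ∞) := by
      rw [← hdZ]
      exact IsHomeomorph.topologicalKrullDim_eq _
        (r.isClosedEmbedding.isEmbedding.toHomeomorphOfSurjective hsurj).isHomeomorph
    obtain ⟨G, hG, hGn⟩ :=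
      Groth.Agent.H23.Lichtenbaum.Proper.exists_coh_not_subsingleton (r ≫ i ≫ f) hdW
    haveI := hG.1
    haveI := hvan _ (Groth.Agent.Lib.Cyc.Dev.SchemeEquiv.isCoh_push (r ≫ i) hG)
    exact hGn (Groth.Agent.Lib.ZarCoh.Morph.affineEquiv (r ≫ i) G d).symm.toEquiv.subsingleton
  · intro h M hM
    exact Groth.Agent.H23.Lichtenbaum.Final.subsingleton_HH_of_components f hd.le
      (fun Z i _ _ => h Z i) M hM
end Groth.Agent.S0357
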