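import Groth.Statements.S0359
import Groth.Agent.Lib.LCFin.DepthSemicont
-- import your own Groth.Agent.* helpers here

set_option autoImplicit false
universe u v
open LocCoh

namespace Groth.Agent.S0359

/-- For a finite module M over a Noetherian ring and a prime p with depth(M_p) = e finite, there is a
basic open neighbourhood of p in V(p) on which the depth of the localizations of M is at least e,
and it exceeds e at all but finitely many of those primes. -/
theorem result (R : Type u) [CommRing R] [IsNoetherianRing R] (M : Type u) [AddCommGroup M] [Module R M] [Module.Finite R M] (p : Ideal R) [p.IsPrime] (e : ℕ) (he : LocCoh.depth (Localization.AtPrime p) (LocalizedModule p.primeCompl M) = e) : ∃ f : R, f ∉ p ∧ (∀ (q : Ideal R) [q.IsPrime], p ≤ q → f ∉ q → (e : ℕ∞) ≤ LocCoh.depth (Localization.AtPrime q) (LocalizedModule q.primeCompl M)) ∧ {q : PrimeSpectrum R | p ≤ q.asIdeal ∧ f ∉ q.asIdeal ∧ LocCoh.depth (Localization.AtPrime q.asIdeal) (LocalizedModule q.asIdeal.primeCompl M) = e}.Finite := by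
  have he' : (e : ℕ∞) ≤ LocCoh.idealDepth (p.map (algebraMap R (Localization.AtPrime p)))
      (LocalizedModule p.primeCompl M) := by
    rw [Localization.AtPrime.map_eq_maximalIdeal]
    exact he.ge
  obtain ⟨f, hf, F, hF, hFq⟩ := Groth.Agent.Lib.LCFin.DepthSemicont.exists_open p p le_rfl e M he'
  refine ⟨f, hf, fun q hq hpq hfq => ?_, ?_⟩
  · refine (hFq q hfq hpq).1.trans ?_
    have := Module.Finite.of_isLocalizedModule q.primeCompl (Rₚ := Localization.AtPrime q)
      (LocalizedModule.mkLinearMap q.primeCompl M)
    by_cases hs : Subsingleton (LocalizedModule q.primeCompl M)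
    · have htop : LocCoh.idealDepth (IsLocalRing.maximalIdeal (Localization.AtPrime q))
          (LocalizedModule q.primeCompl M) = ⊤ := Groth.Agent.Lib.Depth.Basic.idealDepth_subsingleton
      rw [LocCoh.depth, htop]
      exact (le_top : _ ≤ (⊤ : ℕ∞))
    · rw [not_subsingleton_iff_nontrivial] at hs
      have hne : (IsLocalRing.maximalIdeal (Localization.AtPrime q)) ≠ ⊤ := Ideal.IsPrime.ne_top'
      refine Groth.Agent.Lib.Depth.Basic.idealDepth_mono ?_
        (Groth.Agent.Lib.Depth.Basic.smul_top_ne_top hne)
      rw [← Localization.AtPrime.map_eq_maximalIdeal]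
      exact Ideal.map_mono hpq
  · refine (hF.preimage (f := PrimeSpectrum.asIdeal) fun a _ b _ h => PrimeSpectrum.ext h).subset ?_
    rintro q ⟨hpq, hfq, hd⟩
    exact (hFq q.asIdeal hfq hpq).2 hd


end Groth.Agent.S0359
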