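import Groth.Statements.S0366
import Groth.Agent.Lib.DMod.LocalCase

set_option autoImplicit false
universe u v
open CategoryTheory
attribute [local instance] HasDerivedCategory.standard
open Dual

namespace Groth.Agent.S0366

open Groth.Agent.Lib.DMod

/-- Let A be a Noetherian local ring with a normalized dualizing complex ω and M a finite A-module whose
support has dimension d. Then for every integer i the A-module Ext^i(M, ω) = Hom_{D(A)}(M, ω[i]) is
nonzero only if −d ≤ i ≤ 0, and its support has dimension at most −i (read as 0 when i > 0). -/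
theorem result (A : Type u) [CommRing A] [IsLocalRing A] [IsNoetherianRing A] (ω : Dual.D A) (hω : Dual.IsDualizing A ω) (hn : Dual.IsNormalized A ω) (M : Type u) [AddCommGroup M] [Module A M] [Module.Finite A M] (d : ℕ) (hd : Module.supportDim A M = d) (i : ℤ) : (Nontrivial (Dual.inD A M ⟶ ω⟦i⟧) → (-(d : ℤ) ≤ i ∧ i ≤ 0)) ∧ Module.supportDim A (Dual.inD A M ⟶ ω⟦i⟧) ≤ ((-i).toNat : WithBot ℕ∞) := by
  have : Nontrivial M := (Module.supportDim_ne_bot_iff_nontrivial A M).1 (by rw [hd]; simp)
  obtain ⟨q₀, -, hdeg, hmin⟩ := LocalCase.exists_min_deg_local hω hn M d hd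
  constructor
  · intro h
    refine ⟨?_, ?_⟩ <;> by_contra hc
    · refine absurd (LocalCase.nontrivial_iff_closedPoint_mem (A := A) _ |>.1 h)
        (Degree.notMem_support_hom_of_outside hω _ M i (Or.inr fun q _ hq => ?_))
      have := hmin q hq
      lia
    · have := LocalCase.subsingleton_hom_of_pos hω hn M (i := i) (by lia)
      exact not_nontrivial _ h
  · rcases isEmpty_or_nonempty (Module.support A (Dual.inD A M ⟶ ω⟦i⟧)) with he | hne
    · exact le_trans (le_of_eq Order.krullDim_eq_bot) bot_le
    obtain ⟨⟨p, hp⟩⟩ := hne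
    obtain ⟨q, hqp, hq, hmin'⟩ := DimDegree.exists_min_deg hω (IsLocalRing.closedPoint A)
      (Dual.inD A M ⟶ ω⟦i⟧) (Module.mem_support_mono (IsLocalRing.le_maximalIdeal p.isPrime.ne_top) hp)
    rw [DimDegree.supportDim_local_eq hω q _ hq
      fun r hr => hmin' r hr (IsLocalRing.le_maximalIdeal r.isPrime.ne_top),
      LocalCase.deg_closedPoint_eq_zero hω hn]
    have : i ≤ Degree.deg hω q := by
      by_contra hc
      exact Degree.notMem_support_hom_of_outside hω q M i (Or.inl (by lia)) hq
    exact_mod_cast (show (0 - Degree.deg hω q).toNat ≤ (-i).toNat by lia)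

end Groth.Agent.S0366
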