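import Groth.Statements.S0369
import Groth.Agent.Lib.DMod.Bottom

set_option autoImplicit false
universe u v
open CategoryTheory
attribute [local instance] HasDerivedCategory.standard
open Dual

namespace Groth.Agent.S0369

/-- For a Noetherian local ring of dimension d with normalized dualizing complex ω, the module ω_A =
H^{−d}(ω) has support equal to the union of those irreducible components of Spec A whose dimension
is d, and satisfies Serre's condition (S_2). -/
theorem result (A : Type u) [CommRing A] [IsLocalRing A] [IsNoetherianRing A] (ω : Dual.D A) (hω : Dual.IsDualizing A ω) (hn : Dual.IsNormalized A ω) (d : ℕ) (hd : ringKrullDim A = d) : Module.support A (Dual.HD A ω (-(d : ℤ))) = {p : PrimeSpectrum A | ∃ q ∈ minimalPrimes A, q ≤ p.asIdeal ∧ ringKrullDim (A ⧸ q) = d} ∧ LocCoh.HasSk 2 A (Dual.HD A ω (-(d : ℤ))) := by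

  open Groth.Agent.Lib.DMod in
  have hbot : ∀ q, q ∈ Module.support A A → -(d : ℤ) ≤ Degree.deg hω q :=
    fun q _ => Bottom.neg_dim_le_deg hω hn d hd q
  open Groth.Agent.Lib.DMod in
  refine ⟨Set.ext fun p => ?_, Bottom.hasSk_two_bottom hω (Basic.homUnitShiftEquiv ω _).symm hbot⟩
  rw [Groth.Agent.Lib.DMod.Bottom.mem_support_bottom_iff hω
    (Groth.Agent.Lib.DMod.Basic.homUnitShiftEquiv ω _).symm hbot p]
  constructor
  · rintro ⟨q, -, hqp, hq⟩
    exact ⟨q.asIdeal, Groth.Agent.Lib.DMod.Bottom.mem_minimalPrimes_of_deg_eq hω hn d hd q hq, hqp,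
      (Groth.Agent.Lib.DMod.Bottom.deg_eq_neg_dim_iff hω hn d hd q).1 hq⟩
  · rintro ⟨q, hq, hqp, hdim⟩
    let q' : PrimeSpectrum A := ⟨q, hq.1.1⟩
    have hs : q' ∈ Module.support A A := by
      rw [Module.support_eq_zeroLocus]
      exact fun a ha => by
        have h0 : a * 1 = 0 := Module.mem_annihilator.mp ha 1
        simp only [mul_one] at h0
        simp [h0]
    exact ⟨q', hs, hqp, (Groth.Agent.Lib.DMod.Bottom.deg_eq_neg_dim_iff hω hn d hd q').2 hdim⟩

end Groth.Agent.S0369
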