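import Groth.Statements.S0370
import Groth.Agent.Lib.DMod.DepthLocal
import Groth.Agent.Lib.DMod.SkCriterion

set_option autoImplicit false
universe u v
open CategoryTheory
attribute [local instance] HasDerivedCategory.standard
open Dual

namespace Groth.Agent.S0370

open Groth.Agent.Lib.DMod

/-- A Noetherian ring admitting a finite module which, placed in degree 0, is a dualizing complex, is
Cohen–Macaulay. -/
theorem result (A : Type u) [CommRing A] [IsNoetherianRing A] (W : Type u) [AddCommGroup W] [Module A W] [Module.Finite A W] (h : Dual.IsDualizing A (Dual.inD A W)) : LocCoh.IsCohenMacaulayRing A := by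
  refine { isCohenMacaulayLocalRing_localization := fun p hp => ?_ }
  have hsupp : (⟨p, hp⟩ : PrimeSpectrum A) ∈ Module.support A A := by
    rw [Module.support_eq_zeroLocus, Module.annihilator_eq_bot.mpr inferInstance]
    simp
  refine (SkCriterion.isCohenMacaulayLocalRing_iff (A := A) ⟨p, hp⟩).2 ?_
  refine (SkCriterion.isCohenMacaulay_at_iff h ⟨p, hp⟩ A hsupp).2 fun i j hi hj => ?_
  have key : ∀ i : ℤ, (⟨p, hp⟩ : PrimeSpectrum A) ∈
      Module.support A (Dual.inD A A ⟶ (Dual.inD A W)⟦i⟧) → i = 0 := fun i hi => by
    by_contra hne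
    have := Basic.subsingleton_HD_inD (A := A) W hne
    have := (Basic.homUnitShiftEquiv (Dual.inD A W) i).toEquiv.subsingleton
    simp [Module.support_eq_empty] at hi
  rw [key i hi, key j hj]

end Groth.Agent.S0370
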