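import Groth.Statements.S0372
import Groth.Agent.Lib.DMod.DepthLocal
import Groth.Agent.Lib.DMod.SkCriterion

set_option autoImplicit false
universe u v
open CategoryTheory
attribute [local instance] HasDerivedCategory.standard
open Dual

namespace Groth.Agent.S0372

open Groth.Agent.Lib.DMod

/-- If a Noetherian ring has a dualizing complex then the set of primes at which the localization is
Cohen–Macaulay is open and dense in the prime spectrum. -/
theorem result (A : Type u) [CommRing A] [IsNoetherianRing A] (ω : Dual.D A) (hω : Dual.IsDualizing A ω) : IsOpen {p : PrimeSpectrum A | LocCoh.IsCohenMacaulayLocalRing (Localization.AtPrime p.asIdeal)} ∧ Dense {p : PrimeSpectrum A | LocCoh.IsCohenMacaulayLocalRing (Localization.AtPrime p.asIdeal)} := by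
  have hsupp : Module.support A A = Set.univ := by
    rw [Module.support_eq_zeroLocus, Module.annihilator_eq_bot.mpr inferInstance,
      Submodule.bot_coe, PrimeSpectrum.zeroLocus_singleton_zero]
  constructor
  · convert SkCriterion.isOpen_cohenMacaulay hω A using 1
    ext p
    rw [Set.mem_ofPred_eq, Set.mem_ofPred_eq, SkCriterion.isCohenMacaulayLocalRing_iff]
    refine ⟨Or.inr, fun h => h.resolve_left fun hs => ?_⟩
    exact Module.notMem_support_iff.2 hs (hsupp ▸ Set.mem_univ p)
  · intro p
    refine closure_mono (fun q hq => ?_)
      (SkCriterion.support_subset_closure_cohenMacaulay hω A (hsupp ▸ Set.mem_univ p))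
    exact (SkCriterion.isCohenMacaulayLocalRing_iff q).2 hq.1

end Groth.Agent.S0372
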