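import Groth.Statements.S0375
import Groth.Agent.Lib.DMod.LocalDuality
import Mathlib.RingTheory.HopkinsLevitzki

set_option autoImplicit false
universe u v
open CategoryTheory
attribute [local instance] HasDerivedCategory.standard
open Dual

namespace Groth.Agent.S0375

/-- Over a Noetherian local ring of dimension 0, a normalized dualizing complex is isomorphic in D(A) to
an injective hull of the residue field placed in degree 0. -/
theorem result (A : Type u) [CommRing A] [IsLocalRing A] [IsNoetherianRing A] (h0 : ringKrullDim A = 0) (ω : Dual.D A) (hω : Dual.IsDualizing A ω) (hn : Dual.IsNormalized A ω) (E : Type u) [AddCommGroup E] [Module A E] (f : IsLocalRing.ResidueField A →ₗ[A] E) (hf : InjHull.IsInjectiveHull f) : Nonempty (ω ≅ Dual.inD A E) := by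

  open Groth.Agent.Lib.DMod in
  have hart : IsArtinianRing A := by
    have : Ring.KrullDimLE 0 A := (ringKrullDimZero_iff_ringKrullDim_eq_zero).2 h0
    exact IsNoetherianRing.isArtinianRing_of_krullDimLE_zero
  have hfl : IsFiniteLength A A := isFiniteLength_iff_isNoetherian_isArtinian.mpr ⟨inferInstance, inferInstance⟩
  obtain ⟨hz, ⟨e⟩⟩ := Groth.Agent.Lib.DMod.LocalDuality.finiteLength_duality hω hn hf A hfl
  have hHD : ∀ i : ℤ, i ≠ 0 → Subsingleton (Dual.HD A ω i) := fun i hi => by
    have := hz i hi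
    exact (Groth.Agent.Lib.DMod.Basic.homUnitShiftEquiv ω i).symm.toEquiv.subsingleton
  have : ω.IsGE 0 := (Groth.Agent.Lib.DMod.Basic.isGE_iff ω 0).2 fun i hi => hHD i hi.ne
  have : ω.IsLE 0 := (Groth.Agent.Lib.DMod.Basic.isLE_iff ω 0).2 fun i hi => hHD i hi.ne'
  obtain ⟨e'⟩ := Groth.Agent.Lib.DMod.Devissage.exists_iso_inD_shift ω 0
  let eE : Dual.HD A ω 0 ≃ₗ[A] E :=
    (Groth.Agent.Lib.DMod.Basic.homUnitEquiv ω).symm.trans (e.trans (LinearMap.ringLmapEquivSelf A A E))
  exact ⟨e' ≪≫ (shiftFunctorZero' (Dual.D A) (-0 : ℤ) (by simp)).app _ ≪≫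
    (DerivedCategory.singleFunctor (ModuleCat.{u} A) 0).mapIso eE.toModuleIso⟩

end Groth.Agent.S0375
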