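import Groth.Statements.S0376
import Groth.Agent.Lib.DMod.FiniteRing
import Groth.Agent.Lib.DMod.Gorenstein
import Groth.Agent.Lib.Cohen.Presentation
import Groth.Agent.Lib.Goren.Basic

set_option autoImplicit false
universe u v
open CategoryTheory
attribute [local instance] HasDerivedCategory.standard
open Dual

namespace Groth.Agent.S0376

/-- A complete Noetherian local ring has a dualizing complex. -/
theorem result (A : Type u) [CommRing A] [IsLocalRing A] [IsNoetherianRing A] [IsAdicComplete (IsLocalRing.maximalIdeal A) A] : ∃ ω : Dual.D A, Dual.IsDualizing A ω := by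
  obtain ⟨Λ, _, n, g, -, hreg, hg⟩ :=
    Groth.Agent.Lib.Cohen.Presentation.exists_surjective_mvPowerSeries A
  obtain ⟨k, hk⟩ := (Groth.Agent.Lib.Goren.Basic.isGorensteinLocalRing_of_isRegular
    (MvPowerSeries (Fin n) Λ)).exists_hasInjectiveDimensionLT
  exact Groth.Agent.Lib.DMod.FiniteRing.exists_isDualizing g (RingHom.Finite.of_surjective g hg)
    (Groth.Agent.Lib.DMod.Gorenstein.isDualizing_self hk)

end Groth.Agent.S0376
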