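import Groth.Statements.S0382
import Groth.Agent.H2.Rigid.MulEtale
import Groth.Agent.Lib.GrpSch.ConnFibre

set_option autoImplicit false
universe u v
open CategoryTheory MonoidalCategory CartesianMonoidalCategory MonObj GrpObj AlgebraicGeometry
open GrpSch

namespace Groth.Agent.S0382

/-- On an abelian variety of positive dimension over a field K (a proper, geometrically integral group
scheme over K), multiplication by an integer d is étale exactly when d is nonzero in K.
Multiplication by d is written as the d-th power of the identity morphism in the group Hom(A, A),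
whose multiplication is pointwise, induced by the group structure of A. -/
theorem result (K : Type u) [Field K] (A : Over (Spec (CommRingCat.of K))) [GrpObj A] [IsProper A.hom] [GeometricallyIntegral A.hom] (hA : 0 < topologicalKrullDim A.left) (d : ℤ) : Etale ((𝟙 A ^ d).left) ↔ ((d : K) ≠ 0) := by
  haveI : GeometricallyConnected A.hom := Groth.Agent.H2.Rigid.geometricallyConnected_of_integral A.hom
  haveI := Groth.Agent.S7785.result A
  haveI : Smooth A.hom := (Groth.Agent.H2.Rigid.smooth_and_H0 A).1
  refine ⟨fun he hd => ?_, fun hd => ?_⟩
  · let f : A ⟶ A := 𝟙 A ^ d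
    haveI : Etale f.left := he
    -- every tangent vector at the origin dies
    have hinj : Groth.Agent.H4.TangentUnram.TangentInjective (toUnit A) := by
      intro L _ b v w hz _
      let u := v * w⁻¹
      suffices hu : u = 1 from mul_inv_eq_one.1 hu
      have hu0 : _root_.LieS.zeroSec L b ≫ u = 1 := by
        rw [MonObj.comp_mul, GrpObj.comp_inv, hz, mul_inv_cancel]
      have hdL : (d.natAbs : L) = 0 := by
        have h1 : (d.natAbs : K) = 0 := by
          rcases Int.natAbs_eq d with h | h <;> rw [h] at hd <;> simpa using hd
        simpa using congrArg (Spec.preimage b).hom h1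
      have e0 : ((d.natAbs : DualNumber L) * DualNumber.eps) * ((d.natAbs : DualNumber L) * DualNumber.eps) = 0 := by
        linear_combination ((d.natAbs : DualNumber L) ^ 2) * _root_.LieS.eps_sq L
      have hpow : u ^ d.natAbs = 1 := by
        rw [← Groth.Agent.H4.NPowUnram.ev_natCast hu0 d.natAbs e0]
        exact Groth.Agent.Lib.LieS.Points.ev_zero hu0 _ _ _ (by
          rw [← map_natCast (algebraMap L (DualNumber L)), hdL, map_zero, zero_mul])
      have huf : u ≫ f = 1 := by
        rw [GrpObj.comp_zpow, Category.comp_id]
        rcases Int.natAbs_eq d with h | h <;> conv_lhs => rw [h]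
        · rw [zpow_natCast, hpow]
        · rw [zpow_neg, zpow_natCast, hpow, inv_one]
      have h1 : (1 : _root_.LieS.dpt L b ⟶ A) ≫ f = 1 := by
        rw [GrpObj.comp_zpow, Category.comp_id, one_zpow]
      haveI : LocallyOfFiniteType f.left := inferInstance
      have hagree : u.left ≫ f.left = (1 : _root_.LieS.dpt L b ⟶ A).left ≫ f.left :=
        congrArg CommaMorphism.left (huf.trans h1.symm)
      have hz' : (_root_.LieS.zeroSec L b).left ≫ u.left =
          (_root_.LieS.zeroSec L b).left ≫ (1 : _root_.LieS.dpt L b ⟶ A).left :=
        congrArg CommaMorphism.left (hu0.trans (MonObj.comp_one _).symm)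
      ext1
      refine (Category.id_comp _).symm.trans (((Groth.Agent.Lib.GrpSch.comp_eq_iff_forall_mem_diagonal
        f.left u.left (1 : _root_.LieS.dpt L b ⟶ A).left hagree (𝟙 _)).2 fun z => ?_).trans (Category.id_comp _))
      obtain ⟨y, hy⟩ : ∃ y, (_root_.LieS.zeroSec L b).left y = z :=
        (Groth.Agent.Lib.LieS.Points.isHomeomorph_fstHom L).surjective z
      have := (Groth.Agent.Lib.GrpSch.comp_eq_iff_forall_mem_diagonal f.left u.left
        (1 : _root_.LieS.dpt L b ⟶ A).left hagree (_root_.LieS.zeroSec L b).left).1 hz' y
      rw [hy] at this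
      exact this
    haveI : LocallyOfFiniteType (toUnit A).left := inferInstanceAs (LocallyOfFiniteType A.hom)
    haveI : FormallyUnramified A.hom :=
      Groth.Agent.H4.TangentUnram.formallyUnramified_of_tangentInjective (toUnit A) hinj
    haveI := Groth.Agent.H4.NPowEtale.locallyQuasiFinite_of_formallyUnramified A.hom
    have hdisc := locallyQuasiFinite_iff_isDiscrete_preimage_singleton.1
      (inferInstance : LocallyQuasiFinite A.hom) (IsLocalRing.closedPoint K)
    have hdisc' : _root_.IsDiscrete (Set.univ : Set A.left) :=
      hdisc.mono fun x _ => Subsingleton.elim (α := PrimeSpectrum K) _ _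
    haveI : DiscreteTopology (Set.univ : Set A.left) := hdisc'.to_subtype
    haveI : DiscreteTopology A.left :=
      (Homeomorph.Set.univ A.left).symm.isEmbedding.discreteTopology
    exact absurd (hA.trans_le (topologicalKrullDim_zero_of_discreteTopology A.left)) (lt_irrefl _)
  · have hu : IsUnit (d : Γ(Spec (CommRingCat.of K), ⊤)) := by
      have := (isUnit_iff_ne_zero.2 hd).map (Scheme.ΓSpecIso (CommRingCat.of K)).inv.hom
      rwa [map_intCast] at this
    exact Groth.Agent.H2.Rigid.etale_zpow A d hu

end Groth.Agent.S0382
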