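import Groth.Statements.S0394
import Groth.Agent.Lib.LocalFlat.InjMod
import Groth.Agent.Lib.LocalFlat.SmulTop
import Mathlib.RingTheory.Nakayama
import Mathlib.LinearAlgebra.FreeModule.Finite.Basic
import Mathlib.RingTheory.Flat.Basic

set_option autoImplicit false
universe u
open FlatMor

namespace Groth.Agent.S0394

open TensorProduct in
/-- For a local homomorphism R → S of Noetherian local rings and a nonzero finite S-module M flat over R
whose fibre M/mM is free over S/mS (m the maximal ideal of R), M is free over S and S is flat over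
R. -/
theorem result {R S M : Type u} [CommRing R] [CommRing S] [IsLocalRing R] [IsLocalRing S] [IsNoetherianRing R] [IsNoetherianRing S] [Algebra R S] [IsLocalHom (algebraMap R S)]
    [AddCommGroup M] [Module R M] [Module S M] [IsScalarTower R S M] [Module.Finite S M] [Nontrivial M] [Module.Flat R M]
    (h : Module.Free (S ⧸ ((IsLocalRing.maximalIdeal R).map (algebraMap R S))) ((S ⧸ ((IsLocalRing.maximalIdeal R).map (algebraMap R S))) ⊗[S] M)) :
    Module.Free S M ∧ Module.Flat R S := by
  open Groth.Agent.Lib.LocalFlat in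
  let J : Ideal S := (IsLocalRing.maximalIdeal R).map (algebraMap R S)
  have hJ : J ≤ IsLocalRing.maximalIdeal S := IsLocalRing.map_maximalIdeal_le (algebraMap R S)
  have : Nontrivial (S ⧸ J) := Ideal.Quotient.nontrivial_iff.2 fun e =>
    (IsLocalRing.maximalIdeal.isMaximal S).ne_top (top_le_iff.1 (e ▸ hJ))
  have : Module.Free (S ⧸ J) ((S ⧸ J) ⊗[S] M) := h
  let w := Module.Free.chooseBasis (S ⧸ J) ((S ⧸ J) ⊗[S] M)
  have ⟨v, eq⟩ := (TensorProduct.mk_surjective S M (S ⧸ J) Ideal.Quotient.mk_surjective).comp_left w
  let u : (Module.Free.ChooseBasisIndex (S ⧸ J) ((S ⧸ J) ⊗[S] M) →₀ S) →ₗ[S] M :=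
    Finsupp.linearCombination S v
  have hsurj : Function.Surjective (u.baseChange (S ⧸ J)) := by
    rw [← LinearMap.range_eq_top, ← top_le_iff, ← w.span_eq, Submodule.span_le]
    rintro _ ⟨i, rfl⟩
    exact ⟨1 ⊗ₜ Finsupp.single i 1, by simp [u, ← congrFun eq i]⟩
  have hu : Function.Surjective u := by
    rw [← LinearMap.range_eq_top, ← top_le_iff]
    refine Submodule.le_of_le_smul_of_le_jacobson_bot (Module.Finite.fg_top) ((hJ.trans
      (IsLocalRing.jacobson_eq_maximalIdeal ⊥ bot_ne_top).ge)) ?_
    intro y _
    obtain ⟨z, hz⟩ := hsurj ((1 : S ⧸ J) ⊗ₜ y)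
    obtain ⟨x, rfl⟩ := TensorProduct.mk_surjective S _ (S ⧸ J) Ideal.Quotient.mk_surjective z
    have hmem : y - u x ∈ J • (⊤ : Submodule S M) := by
      rw [← SmulTop.one_tmul_eq_zero_iff, TensorProduct.tmul_sub]
      rw [TensorProduct.mk_apply, LinearMap.baseChange_tmul] at hz
      rw [hz, sub_self]
    rw [show y = u x + (y - u x) by abel]
    exact Submodule.add_mem_sup ⟨x, rfl⟩ hmem
  -- injectivity modulo `J`
  have hinjJ : ∀ x, u x ∈ J • (⊤ : Submodule S M) →
      x ∈ J • (⊤ : Submodule S (Module.Free.ChooseBasisIndex (S ⧸ J) ((S ⧸ J) ⊗[S] M) →₀ S)) := by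
    intro x hx
    rw [← SmulTop.one_tmul_eq_zero_iff] at hx
    have h1 : (Finsupp.mapRange (Ideal.Quotient.mk J) (map_zero _) x) = 0 := by
      apply w.repr.symm.injective
      rw [map_zero, ← hx]
      induction x using Finsupp.induction_linear with
      | zero => simp
      | add a b ha hb =>
        clear hx
        rw [Finsupp.mapRange_add (fun x y => map_add _ x y), map_add]
        simp only [map_add, TensorProduct.tmul_add] at *
        have e : ∀ x, w.repr.symm (Finsupp.mapRange (Ideal.Quotient.mk J) (map_zero _) x) =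
            (1 : S ⧸ J) ⊗ₜ[S] u x := by
          intro x
          induction x using Finsupp.induction_linear with
          | zero => simp
          | add a b ha hb => rw [Finsupp.mapRange_add (fun x y => map_add _ x y), map_add, ha, hb, map_add, TensorProduct.tmul_add]
          | single i s =>
            simp [u, ← congrFun eq i, Algebra.smul_def, TensorProduct.smul_tmul']
        rw [e, e]
      | single i s =>
        simp [u, ← congrFun eq i, Algebra.smul_def, TensorProduct.smul_tmul']
    have h2 : ∀ i, x i ∈ J := fun i => Ideal.Quotient.eq_zero_iff_mem.1 (by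
      simpa using DFunLike.congr_fun h1 i)
    rw [← Finsupp.sum_single x]
    refine Submodule.sum_mem _ fun i _ => ?_
    rw [show Finsupp.single i (x i) = x i • Finsupp.single i (1 : S) by simp]
    exact Submodule.smul_mem_smul (h2 i) Submodule.mem_top
  have hk : Function.Injective ((u.restrictScalars R).lTensor (IsLocalRing.ResidueField R)) := by
    refine (SmulTop.lTensor_quotient_injective_iff _ _).2 fun x hx => ?_
    have h1 : u x ∈ J • (⊤ : Submodule S M) :=
      Submodule.smul_induction_on hx (fun r hr y _ => by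
        rw [← algebraMap_smul S r y]
        exact Submodule.smul_mem_smul (Ideal.mem_map_of_mem _ hr) Submodule.mem_top)
        fun a b => add_mem
    exact (Ideal.smul_restrictScalars (IsLocalRing.maximalIdeal R) (⊤ : Submodule S _)).le (hinjJ x h1)
  have hinj : Function.Injective u :=
    InjMod.injective_of_injective_mod (u.restrictScalars R) hk S
  let e : (Module.Free.ChooseBasisIndex (S ⧸ J) ((S ⧸ J) ⊗[S] M) →₀ S) ≃ₗ[S] M :=
    LinearEquiv.ofBijective u ⟨hinj, hu⟩
  refine ⟨Module.Free.of_equiv e, ?_⟩
  obtain ⟨i⟩ : Nonempty (Module.Free.ChooseBasisIndex (S ⧸ J) ((S ⧸ J) ⊗[S] M)) := by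
    by_contra hne
    rw [not_nonempty_iff] at hne
    exact not_subsingleton M (e.symm.injective.subsingleton)
  exact Module.Flat.of_retract (e.restrictScalars R ∘ₗ
      ((Finsupp.lsingle i : S →ₗ[S] _).restrictScalars R))
    (((Finsupp.lapply i : (_ →₀ S) →ₗ[S] S).restrictScalars R) ∘ₗ (e.symm.restrictScalars R).toLinearMap)
    (LinearMap.ext fun s => by simp)


end Groth.Agent.S0394
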