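import Groth.Statements.S0395
import Groth.Agent.Lib.LocalFlat.InjMod
import Groth.Agent.Lib.LocalFlat.SmulTop

set_option autoImplicit false
universe u
open FlatMor

namespace Groth.Agent.S0395

open TensorProduct nonZeroDivisors in
/-- For a flat local homomorphism R → S of Noetherian local rings and an element f of S that is regular
on the fibre ring S/mS, the quotient of S by f is again R-flat and f is regular on S. -/
theorem result {R S : Type u} [CommRing R] [CommRing S] [IsLocalRing R] [IsLocalRing S] [IsNoetherianRing R] [IsNoetherianRing S] [Algebra R S] [IsLocalHom (algebraMap R S)] [Module.Flat R S]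
    (f : S) (hf : Ideal.Quotient.mk ((IsLocalRing.maximalIdeal R).map (algebraMap R S)) f ∈ nonZeroDivisors (S ⧸ ((IsLocalRing.maximalIdeal R).map (algebraMap R S)))) :
    Module.Flat R (S ⧸ Ideal.span {f}) ∧ f ∈ nonZeroDivisors S := by
  open Groth.Agent.Lib.LocalFlat in
  let u : S →ₗ[R] S := LinearMap.mulLeft R f
  let J : Ideal S := (IsLocalRing.maximalIdeal R).map (algebraMap R S)
  have heq : ∀ x : S, x ∈ IsLocalRing.maximalIdeal R • (⊤ : Submodule R S) ↔ x ∈ J := fun x => by
    rw [Ideal.smul_top_eq_map]; rfl
  have hk : Function.Injective (u.lTensor (IsLocalRing.ResidueField R)) := by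
    refine (SmulTop.lTensor_quotient_injective_iff _ _).2 fun x hx => (heq x).2 ?_
    have h1 : Ideal.Quotient.mk J x * Ideal.Quotient.mk J f = 0 := by
      rw [← map_mul, Ideal.Quotient.eq_zero_iff_mem, mul_comm]
      exact (heq _).1 hx
    exact Ideal.Quotient.eq_zero_iff_mem.1 ((mem_nonZeroDivisors_iff.1 hf).2 _ h1)
  refine ⟨?_, ?_⟩
  · have := InjMod.flat_coker u hk S
    have e : LinearMap.range u = (Ideal.span {f} : Ideal S).restrictScalars R := by
      ext x
      simp [u, Ideal.mem_span_singleton', mul_comm f, eq_comm]
    exact Module.Flat.of_linearEquiv ((Submodule.quotEquivOfEq _ _ e).trans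
      (Submodule.Quotient.restrictScalarsEquiv R (Ideal.span {f} : Ideal S))).symm
  · have hi := InjMod.injective_of_injective_mod u hk S
    exact mem_nonZeroDivisors_iff.2 ⟨fun y hy => hi (by simpa [u] using hy),
      fun y hy => hi (by simpa [u, mul_comm] using hy)⟩


end Groth.Agent.S0395
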