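import Groth.Statements.S0396
import Groth.Agent.Lib.LocalFlat.Localized
import Mathlib.RingTheory.Localization.Finiteness
import Mathlib.RingTheory.Localization.Submodule

set_option autoImplicit false
universe u
open FlatMor

namespace Groth.Agent.S0396

open TensorProduct in
/-- For a map of Noetherian rings R → S, an ideal I of R and a finite S-module M such that M/IⁿM is flat
over R/Iⁿ for every n ≥ 1, the localization of M at any prime of S containing IS is flat over R. -/
theorem result {R S M : Type u} [CommRing R] [CommRing S] [IsNoetherianRing R] [IsNoetherianRing S] [Algebra R S]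
    [AddCommGroup M] [Module R M] [Module S M] [IsScalarTower R S M] [Module.Finite S M] (I : Ideal R)
    (h : ∀ n : ℕ, 0 < n → Module.Flat (R ⧸ I ^ n) ((R ⧸ I ^ n) ⊗[R] M))
    (q : Ideal S) [q.IsPrime] (hq : I.map (algebraMap R S) ≤ q) :
    Module.Flat R (LocalizedModule q.primeCompl M) := by
  open Groth.Agent.Lib.LocalFlat in
  let Sq := Localization q.primeCompl
  have : IsNoetherianRing Sq := IsLocalization.isNoetherianRing q.primeCompl Sq inferInstance
  have : Module.Finite Sq (LocalizedModule q.primeCompl M) :=
    Module.Finite.of_isLocalizedModule q.primeCompl (LocalizedModule.mkLinearMap q.primeCompl M)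
  refine Criterion.flat_of_forall_pow Sq I ?_ fun n p => ?_
  · rw [IsLocalRing.jacobson_eq_maximalIdeal ⊥ bot_ne_top, IsScalarTower.algebraMap_eq R S Sq,
      ← Ideal.map_map, ← Localization.AtPrime.map_eq_maximalIdeal]
    exact Ideal.map_mono hq
  · rcases n.eq_zero_or_pos with rfl | hn
    · have : Subsingleton (R ⧸ I ^ 0) := Ideal.Quotient.subsingleton_iff.2 (by simp)
      have hz : ∀ x : LocalizedModule q.primeCompl M ⊗[R] p, x = 0 := by
        intro x
        induction x using TensorProduct.induction_on with
        | zero => rfl
        | add a b ha hb => rw [ha, hb, add_zero]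
        | tmul m a => rw [Subsingleton.elim a 0, TensorProduct.tmul_zero]
      intro x y _
      rw [hz x, hz y]
    · have := h n hn
      exact Localized.lTensor_injective_of_isLocalizedModule q.primeCompl
        (LocalizedModule.mkLinearMap q.primeCompl M) p.subtype
        (Basic.lTensor_subtype_injective_of_flat_quotient (I := I ^ n) p)

end Groth.Agent.S0396
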