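import Groth.Statements.S0397
import Groth.Agent.Lib.LocalFlat.SmulTop
import Mathlib.RingTheory.LocalRing.Module

set_option autoImplicit false
universe u
open FlatMor

namespace Groth.Agent.S0397

/-- Over a local ring whose maximal ideal is nilpotent, every flat module (not necessarily finitely
generated) is free. -/
theorem result {R M : Type u} [CommRing R] [IsLocalRing R] (hR : IsNilpotent (IsLocalRing.maximalIdeal R))
    [AddCommGroup M] [Module R M] [Module.Flat R M] : Module.Free R M := by
  let k := IsLocalRing.ResidueField R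
  let w := Module.Free.chooseBasis k (TensorProduct R k M)
  have ⟨v, eq⟩ := (TensorProduct.mk_surjective R M k Ideal.Quotient.mk_surjective).comp_left w
  refine Module.Free.of_basis (Module.Basis.mk (Module.IsLocalRing.linearIndependent_of_flat v
    (by
      convert w.linearIndependent using 1)) ?_)
  rw [← Finsupp.range_linearCombination]
  refine (LinearMap.range_eq_top.2 ?_).ge
  refine Groth.Agent.Lib.LocalFlat.SmulTop.surjective_of_nilpotent hR _ fun y => ?_
  obtain ⟨r, hr⟩ := Finsupp.mapRange_surjective (IsLocalRing.residue R : R → k)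
    (map_zero _) IsLocalRing.residue_surjective (w.repr ((1 : k) ⊗ₜ[R] y))
  refine ⟨r, (Groth.Agent.Lib.LocalFlat.SmulTop.one_tmul_eq_zero_iff _ _).1 ?_⟩
  show (1 : k) ⊗ₜ[R] (y - Finsupp.linearCombination R v r) = 0
  rw [TensorProduct.tmul_sub, sub_eq_zero]
  conv_lhs => rw [← w.linearCombination_repr ((1 : k) ⊗ₜ[R] y), ← hr]
  rw [Finsupp.linearCombination_apply, Finsupp.sum_mapRange_index (fun i => zero_smul k (w i)),
    Finsupp.linearCombination_apply, Finsupp.sum, Finsupp.sum, TensorProduct.tmul_sum]
  refine Finset.sum_congr rfl fun i _ => ?_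
  rw [TensorProduct.tmul_smul, ← congrFun eq i]
  rfl


end Groth.Agent.S0397
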