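import Groth.Statements.S0398
import Groth.Agent.Lib.LocalFlat.SmulTop
import Mathlib.RingTheory.Artinian.Module
import Mathlib.RingTheory.Artinian.Ring
import Mathlib.RingTheory.LocalRing.Module
import Mathlib.RingTheory.Flat.Localization
import Mathlib.RingTheory.Flat.Stability
import Mathlib.RingTheory.Localization.BaseChange
import Mathlib.LinearAlgebra.FreeModule.Basic

set_option autoImplicit false
universe u
open FlatMor

namespace Groth.Agent.S0398

open TensorProduct in
theorem free_of_local {R S M : Type u} [CommRing R] [IsLocalRing R] [CommRing S] [Algebra R S]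
    (hm : IsNilpotent (IsLocalRing.maximalIdeal R)) (hinj : Function.Injective (algebraMap R S))
    [AddCommGroup M] [Module R M] [Module.Flat S (S ⊗[R] M)] : Module.Free R M := by
  open Groth.Agent.Lib.LocalFlat in
  let w := Module.Free.chooseBasis (IsLocalRing.ResidueField R) (IsLocalRing.ResidueField R ⊗[R] M)
  have ⟨v, eq⟩ := (TensorProduct.mk_surjective R M (IsLocalRing.ResidueField R) Ideal.Quotient.mk_surjective).comp_left w
  let u : (Module.Free.ChooseBasisIndex (IsLocalRing.ResidueField R) (IsLocalRing.ResidueField R ⊗[R] M) →₀ R) →ₗ[R] M :=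
    Finsupp.linearCombination R v
  have he : ∀ x, (1 : IsLocalRing.ResidueField R) ⊗ₜ[R] u x =
      w.repr.symm (Finsupp.mapRange (IsLocalRing.residue R) (map_zero _) x) := by
    intro x
    induction x using Finsupp.induction_linear with
    | zero => simp
    | add a b ha hb => rw [Finsupp.mapRange_add (fun x y => map_add _ x y), map_add, map_add, TensorProduct.tmul_add, ha, hb]
    | single i s => simp [u, ← congrFun eq i, Algebra.smul_def, TensorProduct.smul_tmul']
  have hsurj : Function.Surjective u := by
    refine SmulTop.surjective_of_nilpotent hm u fun y => ?_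
    obtain ⟨r, hr⟩ := Finsupp.mapRange_surjective (IsLocalRing.residue R : R → IsLocalRing.ResidueField R)
      (map_zero _) IsLocalRing.residue_surjective (w.repr ((1 : IsLocalRing.ResidueField R) ⊗ₜ[R] y))
    refine ⟨r, (SmulTop.one_tmul_eq_zero_iff _ _).1 ?_⟩
    show (1 : IsLocalRing.ResidueField R) ⊗ₜ[R] (y - u r) = 0
    rw [TensorProduct.tmul_sub, he, hr, LinearEquiv.symm_apply_apply, sub_self]
  have hker : ∀ x, u x = 0 → x ∈ IsLocalRing.maximalIdeal R •
      (⊤ : Submodule R (Module.Free.ChooseBasisIndex (IsLocalRing.ResidueField R) (IsLocalRing.ResidueField R ⊗[R] M) →₀ R)) := by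
    intro x hx
    have h1 : Finsupp.mapRange (IsLocalRing.residue R) (map_zero _) x = 0 := by
      apply w.repr.symm.injective
      rw [← he, hx, TensorProduct.tmul_zero, map_zero]
    rw [← Finsupp.sum_single x]
    refine Submodule.sum_mem _ fun i _ => ?_
    rw [show Finsupp.single i (x i) = x i • Finsupp.single i (1 : R) by simp]
    refine Submodule.smul_mem_smul ((IsLocalRing.residue_eq_zero_iff _).1 ?_) Submodule.mem_top
    simpa using DFunLike.congr_fun h1 i
  have hmS : IsNilpotent ((IsLocalRing.maximalIdeal R).map (algebraMap R S)) := by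
    obtain ⟨n, hn⟩ := hm
    exact ⟨n, by rw [← Ideal.map_pow, hn]; exact Ideal.map_bot⟩
  have hS : Function.Surjective (u.baseChange S) := LinearMap.lTensor_surjective S hsurj
  have hSinj : Function.Injective (u.baseChange S) := by
    refine SmulTop.injective_of_nilpotent hmS (u.baseChange S) hS fun x hx => ?_
    obtain ⟨y, rfl⟩ := ((lTensor_exact (M := ↥(LinearMap.ker u)) S (LinearMap.exact_subtype_ker_map u) hsurj) x).1 hx
    clear hx
    induction y using TensorProduct.induction_on with
    | zero => rw [map_zero]; exact Submodule.zero_mem _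
    | add a b ha hb => rw [map_add]; exact Submodule.add_mem _ ha hb
    | tmul b k =>
      rw [LinearMap.lTensor_tmul]
      refine Submodule.smul_induction_on (p := fun z => b ⊗ₜ[R] z ∈
        (IsLocalRing.maximalIdeal R).map (algebraMap R S) • (⊤ : Submodule S (S ⊗[R] _))) (hker k.1 k.2) ?_ ?_
      · intro r hr z _
        rw [TensorProduct.tmul_smul, ← algebraMap_smul S r]
        exact Submodule.smul_mem_smul (Ideal.mem_map_of_mem _ hr) Submodule.mem_top
      · intro a b ha hb
        rw [TensorProduct.tmul_add]
        exact Submodule.add_mem _ ha hb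
  have : FaithfulSMul R S := (faithfulSMul_iff_algebraMap_injective R S).2 hinj
  have hu : Function.Injective u := by
    intro x y hxy
    apply Module.Flat.tensorProduct_mk_injective (R := R) (S := S)
      (M := Module.Free.ChooseBasisIndex (IsLocalRing.ResidueField R) (IsLocalRing.ResidueField R ⊗[R] M) →₀ R)
    apply hSinj
    show u.baseChange S ((1 : S) ⊗ₜ x) = u.baseChange S ((1 : S) ⊗ₜ y)
    rw [LinearMap.baseChange_tmul, LinearMap.baseChange_tmul, hxy]
  exact Module.Free.of_equiv (LinearEquiv.ofBijective u ⟨hu, hsurj⟩)


open TensorProduct in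
/-- For an injective ring map R → S with R Artinian and an R-module M, if S ⊗ M is flat over S then M is
flat over R. -/
theorem result {R S M : Type u} [CommRing R] [CommRing S] [IsArtinianRing R] [Algebra R S] (hinj : Function.Injective (algebraMap R S))
    [AddCommGroup M] [Module R M] [Module.Flat S (S ⊗[R] M)] : Module.Flat R M := by
  refine Module.flat_of_localized_maximal (R := R) (M := M) fun P hP => ?_
  let RP := Localization.AtPrime P
  let W := Algebra.algebraMapSubmonoid S P.primeCompl
  let SP := Localization W
  have hRS : Function.Injective (algebraMap RP SP) :=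
    localizationAlgebra_injective (Rₘ := RP) (Sₘ := SP) hinj
  have : Module.Flat SP (SP ⊗[RP] (RP ⊗[R] M)) :=
    Module.Flat.of_linearEquiv
      ((TensorProduct.AlgebraTensorModule.cancelBaseChange R RP SP SP M).trans
        (TensorProduct.AlgebraTensorModule.cancelBaseChange R S SP SP M).symm)
  have hm : IsNilpotent (IsLocalRing.maximalIdeal RP) := by
    have : IsArtinianRing RP := inferInstance
    rw [← IsLocalRing.jacobson_eq_maximalIdeal (⊥ : Ideal RP) bot_ne_top]
    exact IsArtinianRing.isNilpotent_jacobson_bot
  have : Module.Free RP (RP ⊗[R] M) := free_of_local hm hRS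
  have : Module.Flat R RP := IsLocalization.flat RP P.primeCompl
  have : Module.Flat R (RP ⊗[R] M) := Module.Flat.trans R RP _
  have : IsLocalizedModule P.primeCompl (TensorProduct.mk R RP M 1) :=
    (isLocalizedModule_iff_isBaseChange P.primeCompl RP _).2 (TensorProduct.isBaseChange R M RP)
  exact Module.Flat.of_linearEquiv (IsLocalizedModule.linearEquiv P.primeCompl
    (LocalizedModule.mkLinearMap P.primeCompl M) (TensorProduct.mk R RP M 1))

end Groth.Agent.S0398
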