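import Groth.Statements.S0399
import Groth.Agent.Lib.LocalFlat.Basic
import Mathlib.RingTheory.Flat.Localization
import Mathlib.RingTheory.Localization.BaseChange

set_option autoImplicit false
universe u
open FlatMor

namespace Groth.Agent.S0399

open TensorProduct in
/-- For a ring A, a module M and an element f that is a nonzerodivisor on A and on M, if M_f is flat
over A_f and M/fM is flat over A/fA then M is flat over A (the source's companion statement for
faithful flatness is not stated). -/
theorem result {A M : Type u} [CommRing A] [AddCommGroup M] [Module A M] (f : A) (hA : f ∈ nonZeroDivisors A) (hM : IsSMulRegular M f)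
    [Module.Flat (Localization.Away f) (LocalizedModule (Submonoid.powers f) M)]
    [Module.Flat (A ⧸ Ideal.span {f}) ((A ⧸ Ideal.span {f}) ⊗[A] M)] : Module.Flat A M := by
  open Groth.Agent.Lib.LocalFlat.Basic in
  rw [Module.Flat.iff_lTensor_injective]
  intro J _
  have hI : Function.Injective ((Ideal.span {f}).subtype.lTensor M) := by
    have hsurj : ∀ y : M ⊗[A] (Ideal.span {f}), ∃ m : M,
        m ⊗ₜ[A] (⟨f, Ideal.mem_span_singleton_self f⟩ : ↥(Ideal.span {f})) = y := by
      intro y
      induction y using TensorProduct.induction_on with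
      | zero => exact ⟨0, zero_tmul _ _⟩
      | add a b ha hb =>
        obtain ⟨a, rfl⟩ := ha; obtain ⟨b, rfl⟩ := hb
        exact ⟨a + b, add_tmul _ _ _⟩
      | tmul m z =>
        obtain ⟨z, hz⟩ := z
        obtain ⟨a, rfl⟩ := Ideal.mem_span_singleton'.1 hz
        exact ⟨a • m, by rw [smul_tmul]; rfl⟩
    rw [injective_iff_map_eq_zero]
    intro y hy
    obtain ⟨m, rfl⟩ := hsurj y
    have h0 : f • m = 0 := by
      have := congrArg (TensorProduct.rid A M) hy
      simpa using this
    rw [hM (h0.trans (smul_zero f).symm), zero_tmul]
  -- multiplication by `f` on `M ⊗ J` is injective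
  have hreg : Function.Injective ((LinearMap.lsmul A J f).lTensor M) := by
    refine Groth.Agent.Lib.LocalFlat.Basic.Tor1Zero.of_smul_eq_zero (I := Ideal.span {f}) hI
      (Q := J ⧸ LinearMap.range (LinearMap.lsmul A J f)) ?_ _ _ _
      (LinearMap.range (LinearMap.lsmul A J f)).mkQ ?_ (LinearMap.exact_map_mkQ_range _)
      (Submodule.mkQ_surjective _)
    · intro r hr x
      obtain ⟨a, rfl⟩ := Ideal.mem_span_singleton'.1 hr
      obtain ⟨x, rfl⟩ := Submodule.mkQ_surjective _ x
      rw [← map_smul, Submodule.mkQ_apply, Submodule.Quotient.mk_eq_zero]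
      exact ⟨a • x, by simp [mul_smul, smul_comm f a]⟩
    · intro x y hxy
      apply Subtype.ext
      have := congrArg Subtype.val hxy
      simp only [LinearMap.lsmul_apply, Submodule.coe_smul, smul_eq_mul] at this
      exact IsRegular.left (isRegular_iff_mem_nonZeroDivisors.2 hA) this
  have hregn : ∀ (n : ℕ) (x : M ⊗[A] J), f ^ n • x = 0 → x = 0 := by
    intro n
    induction n with
    | zero => simp
    | succ n ih =>
      intro x hx
      refine ih x (hreg ?_)
      rw [map_zero, ← hx, pow_succ', mul_smul]
      generalize f ^ n • x = y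
      induction y using TensorProduct.induction_on with
      | zero => simp
      | add a b ha hb => simp only [map_add, ha, hb, smul_add]
      | tmul a b => simp [smul_tmul']
  rw [injective_iff_map_eq_zero]
  intro x hx
  -- after localization at `f`
  let Af := Localization.Away f
  let Mf := LocalizedModule (Submonoid.powers f) M
  let ι := LocalizedModule.mkLinearMap (Submonoid.powers f) M
  have : Module.Flat A Af := IsLocalization.flat Af (Submonoid.powers f)
  have : Module.Flat A Mf := Module.Flat.trans A Af Mf
  have h1 : ι.rTensor J x = 0 := by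
    apply Module.Flat.lTensor_preserves_injective_linearMap (R := A) (M := Mf) _ J.injective_subtype
    rw [map_zero, ← LinearMap.comp_apply, LinearMap.lTensor_comp_rTensor,
      ← LinearMap.rTensor_comp_lTensor, LinearMap.comp_apply, hx, map_zero]
  have hloc : IsLocalizedModule (Submonoid.powers f) (ι.rTensor J) :=
    (IsLocalizedModule.rTensor (Submonoid.powers f) (R := A) (A := A) (N := J) ι :)
  obtain ⟨⟨_, n, rfl⟩, hn⟩ := (IsLocalizedModule.eq_zero_iff (Submonoid.powers f) (ι.rTensor J)).1 h1
  exact hregn n x hn


end Groth.Agent.S0399
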