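import Groth.Statements.S0401
import Mathlib.RingTheory.QuasiFinite.Basic
import Mathlib.RingTheory.KrullDimension.Basic

set_option autoImplicit false
universe u
open FlatMor

namespace Groth.Agent.S0401

/-- For a finite type ring map R → S quasi-finite at a prime q lying over p, the dimension of S_q is at
most the dimension of R_p. -/
theorem result {R S : Type u} [CommRing R] [CommRing S] [Algebra R S] [Algebra.FiniteType R S] (q : Ideal S) [q.IsPrime] [Algebra.QuasiFiniteAt R q] :
    ringKrullDim (Localization.AtPrime q) ≤ ringKrullDim (Localization.AtPrime (q.under R)) := by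
  let p := q.under R
  let f : Localization.AtPrime p →+* Localization.AtPrime q :=
    Localization.localRingHom p q (algebraMap R S) rfl
  refine Order.krullDim_le_of_strictMono (fun P => PrimeSpectrum.comap f P) ?_
  intro P Q hPQ
  refine lt_of_le_of_ne (Ideal.comap_mono hPQ.le) fun heq => hPQ.ne ?_
  let e := algebraMap S (Localization.AtPrime q)
  have hPq : ∀ X : PrimeSpectrum (Localization.AtPrime q), X.asIdeal.comap e ≤ q := fun X => by
    refine le_trans (Ideal.comap_mono (IsLocalRing.le_maximalIdeal X.2.ne_top)) ?_
    rw [show (IsLocalRing.maximalIdeal (Localization.AtPrime q)).comap e = q from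
      IsLocalization.AtPrime.comap_maximalIdeal _ q]
  have := Algebra.QuasiFiniteAt.of_le (R := R) (hPq Q)
  have hcomm : f.comp (algebraMap R (Localization.AtPrime p)) = e.comp (algebraMap R S) :=
    RingHom.ext fun r => Localization.localRingHom_to_map p q (algebraMap R S) rfl r
  have h1 : P.asIdeal.comap e = Q.asIdeal.comap e := by
    refine Algebra.QuasiFiniteAt.eq_of_le_of_under_eq (R := R) (Ideal.comap_mono hPQ.le) ?_
    show (P.asIdeal.comap e).comap (algebraMap R S) = (Q.asIdeal.comap e).comap (algebraMap R S)
    rw [Ideal.comap_comap, Ideal.comap_comap, ← hcomm, ← Ideal.comap_comap, ← Ideal.comap_comap]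
    exact congrArg (Ideal.comap _) (congrArg PrimeSpectrum.asIdeal heq)
  apply PrimeSpectrum.ext
  rw [← IsLocalization.map_comap q.primeCompl (Localization.AtPrime q) P.asIdeal,
    ← IsLocalization.map_comap q.primeCompl (Localization.AtPrime q) Q.asIdeal]
  exact congrArg (Ideal.map e) h1

end Groth.Agent.S0401
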