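import Groth.Statements.S0404
import Groth.Agent.Lib.Flat55.FibreDimFlat

set_option autoImplicit false
universe u
open FlatMor

namespace Groth.Agent.S0404

open AlgebraicGeometry CategoryTheory Limits in
/-- For a flat morphism of finite presentation (here: flat, quasi-compact, quasi-separated and locally
of finite presentation) the dimension of the fibre is a lower semicontinuous function on the target. -/
theorem result {X S : Scheme.{u}} (f : X ⟶ S) [Flat f] [LocallyOfFinitePresentation f] [QuasiCompact f] [QuasiSeparated f] (c : WithBot ℕ∞) :
    IsOpen {s : S | c < topologicalKrullDim (f.fiber s)} := by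
  have key := Groth.Agent.Lib.Flat55.FibreDimFlat.isOpen_setOf_le_fibre_dim f
  cases c with
  | bot =>
    convert key 0 using 1
    ext s
    simp only [Set.mem_ofPred_eq]
    cases topologicalKrullDim ↥(f.fiber s) with
    | bot => simp
    | coe a => simpa using (WithBot.bot_lt_coe a : (⊥ : WithBot ℕ∞) < a)
  | coe c =>
    induction c using ENat.recTopCoe with
    | top =>
      convert isOpen_empty
      rw [Set.eq_empty_iff_forall_notMem]
      exact fun s hs => not_top_lt (α := WithBot ℕ∞) hs
    | coe m =>
      convert key (m + 1) using 1
      ext s
      simp only [Set.mem_ofPred_eq]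
      cases topologicalKrullDim ↥(f.fiber s) with
      | bot => simp
      | coe a =>
        rw [WithBot.coe_lt_coe, show ((m + 1 : ℕ) : WithBot ℕ∞) = (((m + 1 : ℕ) : ℕ∞) : WithBot ℕ∞)
          from rfl, WithBot.coe_le_coe, Nat.cast_add, Nat.cast_one, ENat.add_one_le_iff]
        simp

end Groth.Agent.S0404
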