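import Groth.Statements.S0407
import Groth.Agent.H10.UInj.Base
import Groth.Agent.H10.UInj.Flat
import Groth.Agent.H10.UInj.Inj
import Groth.Agent.H10.UInj.Pure
import Groth.Agent.Lib.LocalFlat.SmulTop
import Groth.Agent.Lib.RG57.HenselML
import Groth.Agent.Lib.RG.DevChain
-- import your own Groth.Agent.* helpers here

set_option autoImplicit false
universe u
open FlatMor
open Groth.Agent.H10.UInj.Base

namespace Groth.Agent.S0407

open TensorProduct in
/-- For a local homomorphism A → B essentially of finite type, a flat A-module M, a finite B-module N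
and an A-linear map u from N to M that is injective modulo the maximal ideal of A: u is universally
injective over A, N is finitely presented over B and N is flat over A (no Noetherian hypothesis). -/
theorem result {A B M N : Type u} [CommRing A] [CommRing B] [IsLocalRing A] [IsLocalRing B] [Algebra A B] [IsLocalHom (algebraMap A B)] [Algebra.EssFiniteType A B]
    [AddCommGroup M] [Module A M] [Module.Flat A M]
    [AddCommGroup N] [Module A N] [Module B N] [IsScalarTower A B N] [Module.Finite B N]
    (u : N →ₗ[A] M) (h : Function.Injective (LinearMap.lTensor (IsLocalRing.ResidueField A) u)) :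
    (∀ (Q : Type u) [AddCommGroup Q] [Module A Q], Function.Injective (LinearMap.rTensor Q u)) ∧
      Module.FinitePresentation B N ∧ Module.Flat A N := by
  classical
  let m := IsLocalRing.maximalIdeal A
  have hm : ∀ x, u x ∈ m • (⊤ : Submodule A M) → x ∈ m • (⊤ : Submodule A N) :=
    (Lib.LocalFlat.SmulTop.lTensor_quotient_injective_iff m u).1 h
  let S₀ := Algebra.EssFiniteType.subalgebra A B
  obtain ⟨n, π, hπ⟩ := Algebra.FiniteType.iff_quotient_mvPolynomial''.1 (inferInstance : Algebra.FiniteType A S₀)
  let P := MvPolynomial (Fin n) A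
  letI : Algebra P B := (S₀.val.comp π).toRingHom.toAlgebra
  haveI : IsScalarTower A P B := IsScalarTower.of_algebraMap_eq fun a => ((S₀.val.comp π).commutes a).symm
  let q : Ideal P := (IsLocalRing.maximalIdeal B).comap (algebraMap P B)
  have hunit : ∀ s, s ∉ q → IsUnit (algebraMap P B s) := fun s hs => by
    by_contra hu
    exact hs ((IsLocalRing.mem_maximalIdeal _).2 hu)
  have hq : ∀ a ∈ m, (MvPolynomial.C a : P) ∈ q := fun a ha => by
    show algebraMap P B (algebraMap A P a) ∈ IsLocalRing.maximalIdeal B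
    rw [← IsScalarTower.algebraMap_apply]
    exact (IsLocalRing.mem_maximalIdeal _).2 fun hu =>
      (IsLocalRing.mem_maximalIdeal _).1 ha (isUnit_of_map_unit _ _ hu)
  have hfracB : ∀ b : B, ∃ s ∉ q, ∃ c, algebraMap P B s * b = algebraMap P B c := fun b => by
    obtain ⟨⟨x, ⟨y, hy⟩⟩, hxy⟩ := IsLocalization.surj (Algebra.EssFiniteType.submonoid A B) b
    obtain ⟨s, rfl⟩ := hπ y
    obtain ⟨c, rfl⟩ := hπ x
    exact ⟨s, fun hs => (IsLocalRing.mem_maximalIdeal _).1 hs hy, c, (mul_comm _ _).trans hxy⟩
  letI : Module P N := Module.compHom N (algebraMap P B)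
  haveI : IsScalarTower P B N := IsScalarTower.of_algebraMap_smul fun _ _ => rfl
  haveI : IsScalarTower A P N := IsScalarTower.of_algebraMap_smul fun a x => by
    rw [← algebraMap_smul B (algebraMap A P a) x, ← IsScalarTower.algebraMap_apply, algebraMap_smul]
  obtain ⟨N₁, hN₁, hloc⟩ := Lib.RG57.HenselML.exists_finite_sub q hunit hfracB N
  haveI := hN₁
  haveI := hloc
  obtain ⟨r, π₁, hπ₁⟩ := Module.Finite.exists_fin' P N₁
  let φ : Vec A n r →ₗ[P] N := N₁.subtype.comp π₁
  have hφ : IsPres q (LinearMap.ker π₁ : Set (Vec A n r)) φ :=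
    H10.UInj.Flat.isPres_comp q _ π₁ hπ₁ (fun v => by rw [Submodule.span_eq, LinearMap.mem_ker]) N₁.subtype
  -- finitely many relations which generate all relations modulo `m`
  let res : A →+* IsLocalRing.ResidueField A := IsLocalRing.residue A
  let K' : Submodule (MvPolynomial (Fin n) (IsLocalRing.ResidueField A))
      (Vec (IsLocalRing.ResidueField A) n r) := Submodule.span _ (mapV res '' (LinearMap.ker π₁ : Set (Vec A n r)))
  obtain ⟨T, hT, hTK⟩ := (Submodule.fg_span_iff_fg_span_finset_subset _).1
    (IsNoetherian.noetherian K')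
  choose g₀ hg₀ hg₀T using fun y : (T : Set (Vec (IsLocalRing.ResidueField A) n r)) => hT y.2
  let R : Set (Vec A n r) := Set.range g₀
  have hR : R.Finite := Set.finite_range g₀
  have hRK : Submodule.span P R ≤ LinearMap.ker π₁ := Submodule.span_le.2 (by
    rintro _ ⟨y, rfl⟩; exact hg₀ y)
  have hK : LinearMap.ker π₁ ≤ Submodule.span P R ⊔ jv m := by
    intro v hv
    have h1 : mapV res v ∈ Submodule.span (MvPolynomial (Fin n) (IsLocalRing.ResidueField A)) (T : Set (Vec (IsLocalRing.ResidueField A) n r)) := by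
      rw [← hTK]; exact Submodule.subset_span ⟨v, hv, rfl⟩
    have h2 : ∀ y ∈ Submodule.span (MvPolynomial (Fin n) (IsLocalRing.ResidueField A))
        (T : Set (Vec (IsLocalRing.ResidueField A) n r)), ∃ w ∈ Submodule.span P R, mapV res w = y := by
      intro y hy
      induction hy using Submodule.span_induction with
      | mem x hx => exact ⟨g₀ ⟨x, hx⟩, Submodule.subset_span ⟨_, rfl⟩, hg₀T ⟨x, hx⟩⟩
      | zero => exact ⟨0, zero_mem _, mapV_zero res⟩
      | add a b _ _ ha hb =>
        obtain ⟨a, ha, rfl⟩ := ha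
        obtain ⟨b, hb, rfl⟩ := hb
        exact ⟨a + b, add_mem ha hb, mapV_add res a b⟩
      | smul c a _ ha =>
        obtain ⟨a, ha, rfl⟩ := ha
        obtain ⟨c, rfl⟩ := MvPolynomial.map_surjective res Ideal.Quotient.mk_surjective c
        exact ⟨c • a, Submodule.smul_mem _ _ ha, mapV_smul res c a⟩
    obtain ⟨w, hw, hwv⟩ := h2 _ h1
    refine Submodule.mem_sup.2 ⟨w, hw, v - w, ?_, add_sub_cancel _ _⟩
    have h3 : v - w ∈ jv (RingHom.ker res) := (mapV_eq_zero res).1 (by rw [mapV_sub, hwv, sub_self])
    rwa [show RingHom.ker res = m from IsLocalRing.ker_residue] at h3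
  -- the finitely presented module
  let N₂ := Vec A n r ⧸ Submodule.span P R
  let L := LocalizedModule q.primeCompl N₂
  let l : N₂ →ₗ[P] L := LocalizedModule.mkLinearMap q.primeCompl N₂
  let ψ : N₂ →ₗ[P] N := (Submodule.span P R).liftQ φ fun v hv => by
    show (π₁ v : N) = 0
    rw [LinearMap.mem_ker.1 (hRK hv)]; rfl
  let gl : L →ₗ[P] N := IsLocalizedModule.lift q.primeCompl l ψ (IsLocalizedModule.map_units N₁.subtype)
  have hgl : ∀ z, gl (l z) = ψ z := fun z => LinearMap.congr_fun
    (IsLocalizedModule.lift_comp q.primeCompl l ψ (IsLocalizedModule.map_units N₁.subtype)) z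
  let fR : Vec A n r →ₗ[P] L := l.comp (Submodule.span P R).mkQ
  have hfR : IsPres q R fR := isPres_of_isLocalizedModule l
  have hglR : ∀ v, gl (fR v) = φ v := fun v => hgl _
  have hgs : Function.Surjective gl := fun y => by
    obtain ⟨v, s, hs, hsy⟩ := hφ.surj y
    obtain ⟨y', hy'⟩ := (hfR.bij s hs).2 (fR v)
    refine ⟨y', (hφ.bij s hs).1 ?_⟩
    show s • gl y' = s • y
    rw [← map_smul, show s • y' = fR v from hy', hglR, hsy]
  let u' : L →ₗ[A] M := u.comp (gl.restrictScalars A)
  have hu' : ∀ y, u' y ∈ m • (⊤ : Submodule A M) → y ∈ m • (⊤ : Submodule A L) := by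
    intro y hy
    obtain ⟨v, s, hs, hsy⟩ := hfR.surj y
    have h1 : φ v ∈ m • (⊤ : Submodule A N) := by
      rw [← hglR, ← hsy, map_smul]
      exact smul_mem_of_mem s (hm _ hy)
    obtain ⟨t, ht, htv⟩ := (map_mem_smul_iff hφ).1 h1
    have h2 : Mem q R m v := ⟨t, ht, by
      rw [Submodule.span_eq] at htv
      exact (sup_le hK le_sup_right : LinearMap.ker π₁ ⊔ jv m ≤ _) htv⟩
    have h3 := (map_mem_smul_iff hfR).2 h2
    rw [← hsy] at h3
    exact hfR.mem_of_smul_mem hs h3
  haveI hLflat : Module.Flat A L := H10.UInj.Flat.flat_of_injective_mod q hq R hR l u' hu'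
  have hIL : ∀ (I : Ideal A) (y : L), u' y ∈ I • (⊤ : Submodule A M) → y ∈ I • (⊤ : Submodule A L) :=
    H10.UInj.Inj.mem_smul_of_map_mem q hq R hR fR hfR u' hu'
  have hu'inj : Function.Injective u' := (injective_iff_map_eq_zero u').2 fun y hy => by
    simpa using hIL ⊥ y (by simp [hy])
  have hgi : Function.Injective gl := fun a b hab => hu'inj (congrArg u hab)
  let e : L ≃ₗ[P] N := LinearEquiv.ofBijective gl ⟨hgi, hgs⟩
  haveI hNflat : Module.Flat A N := Module.Flat.of_linearEquiv (e.restrictScalars A).symm
  refine ⟨fun Q _ _ => H10.UInj.Pure.rTensor_injective u (fun I x hx => ?_) Q, ?_, hNflat⟩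
  · obtain ⟨y, rfl⟩ := hgs x
    have h1 : (I • (⊤ : Submodule A L)).map (gl.restrictScalars A) ≤ I • (⊤ : Submodule A N) := by
      rw [Submodule.map_smul'']; exact Submodule.smul_mono le_rfl le_top
    exact h1 ⟨y, hIL I y hx, rfl⟩
  letI : Algebra (Localization.AtPrime q) B := (IsLocalization.lift (M := q.primeCompl) (g := algebraMap P B)
    fun s => hunit s s.2).toAlgebra
  haveI : IsScalarTower P (Localization.AtPrime q) B := IsScalarTower.of_algebraMap_eq fun c =>
    (IsLocalization.lift_eq _ c).symm
  have hsurj : Function.Surjective (algebraMap (Localization.AtPrime q) B) := fun b => by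
    obtain ⟨s, hs, c, hc⟩ := hfracB b
    refine ⟨IsLocalization.mk' _ c (⟨s, hs⟩ : q.primeCompl), ?_⟩
    rw [RingHom.algebraMap_toAlgebra, IsLocalization.lift_mk'_spec]
    exact hc.symm
  haveI : Module.Finite (Localization.AtPrime q) B :=
    Module.Finite.of_surjective (Algebra.linearMap (Localization.AtPrime q) B) hsurj
  letI : Module (Localization.AtPrime q) N := Module.compHom N (algebraMap (Localization.AtPrime q) B)
  haveI : IsScalarTower (Localization.AtPrime q) B N := IsScalarTower.of_algebraMap_smul fun _ _ => rfl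
  haveI : IsScalarTower P (Localization.AtPrime q) N := IsScalarTower.of_algebraMap_smul fun c x => by
    rw [← algebraMap_smul B (algebraMap P (Localization.AtPrime q) c) x, ← IsScalarTower.algebraMap_apply,
      algebraMap_smul]
  haveI : Module.FinitePresentation P N₂ := Module.finitePresentation_of_surjective
    (Submodule.span P R).mkQ (Submodule.mkQ_surjective _) (by rw [Submodule.ker_mkQ]; exact Submodule.fg_span hR)
  haveI : Module.FinitePresentation (Localization.AtPrime q) N :=
    Module.FinitePresentation.of_equiv (M := L) (R := Localization.AtPrime q)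
      (LinearEquiv.ofBijective (gl.extendScalarsOfIsLocalization q.primeCompl (Localization.AtPrime q))
        ⟨hgi, hgs⟩)
  exact Lib.RG.DevChain.finitePresentation_up (B := Localization.AtPrime q)

end Groth.Agent.S0407
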