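import Groth.Statements.S1378
import Groth.Agent.Lib.QFRefine.Scheme
import Groth.Agent.H34.AbsInt.Normalize

set_option autoImplicit false
universe u
open FlatMor

namespace Groth.Agent.S1378

open Groth.Agent.H34 Groth.Agent.Lib CategoryTheory CategoryTheory.Limits AlgebraicGeometry

open AlgebraicGeometry CategoryTheory Limits in
/-- Let S' → S be flat, locally of finite presentation and surjective (an fppf cover by one morphism).
Then there is a surjective integral morphism T → S which factors through S' Zariski locally on T. -/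
theorem result {S' S : Scheme.{u}} (g : S' ⟶ S) [Flat g] [LocallyOfFinitePresentation g] [Surjective g] :
    ∃ (T : Scheme.{u}) (π : T ⟶ S), Surjective π ∧ IsIntegralHom π ∧
      ∀ t : ↑T, ∃ (V : T.Opens) (r : ↑V ⟶ S'), t ∈ V ∧ r ≫ g = V.ι ≫ π := by
  refine ⟨AbsInt.T S, AbsInt.π S, inferInstance, inferInstance, fun t => ?_⟩
  obtain ⟨U, hU, htU, -⟩ :=
    exists_isAffineOpen_mem_and_subset (X := S) (U := ⊤) (x := AbsInt.π S t) trivial
  let C := integralClosure Γ(S, U) (AbsInt.W S U)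
  let c : Spec (CommRingCat.of C) ⟶ AbsInt.T S := AbsInt.chart S ⟨U, hU⟩
  have : IsOpenImmersion c := inferInstanceAs (IsOpenImmersion (AbsInt.chart S ⟨U, hU⟩))
  obtain ⟨P, rfl⟩ : t ∈ Set.range c := by
    have h : t ∈ AbsInt.π S ⁻¹ᵁ U := htU
    rw [AbsInt.preimage_π S ⟨U, hU⟩] at h
    exact h
  let P : PrimeSpectrum C := P
  obtain ⟨x, hx⟩ := (inferInstance : Surjective (pullback.fst (c ≫ AbsInt.π S) g)).surj P
  obtain ⟨Z, hZ, i, z, h1, h2, h3, h4⟩ :=
    QFRefine.Scheme.exists_qf (pullback.fst (c ≫ AbsInt.π S) g) x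
  have : IsAffine Z := hZ
  let α : CommRingCat.of C ⟶ Γ(Z, ⊤) :=
    Spec.preimage (Z.isoSpec.inv ≫ i ≫ pullback.fst (c ≫ AbsInt.π S) g)
  have hα : Spec.map α = Z.isoSpec.inv ≫ i ≫ pullback.fst (c ≫ AbsInt.π S) g :=
    Spec.map_preimage _
  have q1 : α.hom.Flat := (HasRingHomProperty.Spec_iff (P := @Flat)).1 (hα ▸ inferInstance)
  have q2 : α.hom.FinitePresentation :=
    (HasRingHomProperty.Spec_iff (P := @LocallyOfFinitePresentation)).1 (hα ▸ inferInstance)
  have q3 : α.hom.QuasiFinite :=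
    (HasRingHomProperty.Spec_iff (P := @LocallyQuasiFinite)).1 (hα ▸ inferInstance)
  let : Algebra C Γ(Z, ⊤) := α.hom.toAlgebra
  have : Module.Flat C Γ(Z, ⊤) := RingHom.flat_algebraMap_iff.1 q1
  have : Algebra.FinitePresentation C Γ(Z, ⊤) := RingHom.finitePresentation_algebraMap.1 q2
  have : Algebra.QuasiFinite C Γ(Z, ⊤) := RingHom.quasiFinite_algebraMap.1 q3
  have : IsIntegrallyClosedIn C (AbsInt.W S U) := AbsInt.isIntegrallyClosedIn S U
  let q : PrimeSpectrum Γ(Z, ⊤) := Z.isoSpec.hom z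
  have hq : (Spec.map α) q = P := by
    rw [hα]
    change (Z.isoSpec.inv ≫ i ≫ pullback.fst (c ≫ AbsInt.π S) g) (Z.isoSpec.hom z) = _
    rw [← Scheme.Hom.comp_apply, Iso.hom_inv_id_assoc]
    exact h4.trans hx
  obtain ⟨r, hr, ⟨θ⟩⟩ := AbsInt.exists_section (fun η : AbsInt.M S U => AbsInt.K S η.1) P.asIdeal
    q.asIdeal (congrArg PrimeSpectrum.asIdeal hq)
  let Cr := CommRingCat.of (Localization.Away r)
  let l : Spec Cr ⟶ Spec (CommRingCat.of C) := Spec.map (CommRingCat.ofHom (algebraMap C _))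
  have : IsOpenImmersion l := IsOpenImmersion.of_isLocalization r
  let j := l ≫ c
  refine ⟨j.opensRange, j.isoOpensRange.inv ≫ Spec.map (CommRingCat.ofHom θ.toRingHom) ≫
    Z.isoSpec.inv ≫ i ≫ pullback.snd (c ≫ AbsInt.π S) g, ?_, ?_⟩
  · have hP : P ∈ Set.range l := by
      rw [show Set.range l = _ from PrimeSpectrum.localization_away_comap_range (Localization.Away r) r]
      exact hr
    obtain ⟨w, hw⟩ := hP
    exact ⟨w, congrArg c hw⟩
  · have e : Spec.map (CommRingCat.ofHom θ.toRingHom) ≫ Spec.map α = l := by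
      rw [← Spec.map_comp]
      exact congrArg Spec.map (CommRingCat.hom_ext (RingHom.ext θ.commutes))
    simp only [Category.assoc]
    rw [← pullback.condition, ← reassoc_of% hα, reassoc_of% e,
      ← j.isoOpensRange_inv_comp, Category.assoc, Category.assoc]

end Groth.Agent.S1378
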