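import Groth.Statements.S0441
import Groth.Agent.S1378
import Groth.Agent.Lib.Lim.Approx.Integral
import Mathlib.AlgebraicGeometry.AffineTransitionLimit

set_option autoImplicit false
universe u
open CategoryTheory CategoryTheory.Limits AlgebraicGeometry TopologicalSpace
open FlatMor

namespace Groth.Agent.S0441

set_option linter.style.haveILetI false

open AlgebraicGeometry CategoryTheory Limits in
/-- For a surjective, flat morphism locally of finite presentation U → S (an fppf cover by one morphism)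
with S quasi-compact and quasi-separated, there is a surjective finite morphism of finite
presentation S' → S that factors through U locally on S'. -/
theorem result {U S : Scheme.{u}} (g : U ⟶ S) [Flat g] [LocallyOfFinitePresentation g] [Surjective g] [CompactSpace ↑S] [QuasiSeparatedSpace ↑S] :
    ∃ (S' : Scheme.{u}) (π : S' ⟶ S), Surjective π ∧ IsFinite π ∧ LocallyOfFinitePresentation π ∧
      ∀ y : ↑S', ∃ (V : S'.Opens) (h : ↑V ⟶ U), y ∈ V ∧ h ≫ g = V.ι ≫ π := by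
  classical
  obtain ⟨T, π, hπs, hπi, hloc⟩ := Groth.Agent.S1378.result g
  haveI := hπs
  haveI := hπi
  obtain ⟨R, hfin⟩ := Groth.Agent.Lib.Lim.Approx.Integral.exists_finiteApprox π
  haveI : CompactSpace T := QuasiCompact.compactSpace_of_compactSpace π
  have hc : IsLimit R.cone := R.isLimit
  haveI : ∀ {i j : R.Kᵒᵖ} (a : i ⟶ j), IsAffineHom (R.D.map a) := fun a => R.affine a
  have hV : ∀ x : T, ∃ V : T.Opens, x ∈ V ∧ IsCompact (V : Set T) ∧ ∃ r : ↑V ⟶ U, r ≫ g = V.ι ≫ π := by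
    intro x
    obtain ⟨V, r, hxV, hr⟩ := hloc x
    obtain ⟨V', hV', hxV', hle⟩ := exists_isAffineOpen_mem_and_subset hxV
    exact ⟨V', hxV', hV'.isCompact, T.homOfLE hle ≫ r, by
      rw [Category.assoc, hr, ← Category.assoc]
      exact congrArg (· ≫ π) (T.homOfLE_ι hle)⟩
  choose V hxV hVc r hr using hV
  obtain ⟨s, hs⟩ := isCompact_univ.elim_finite_subcover (fun x => (V x : Set T)) (fun x => (V x).isOpen)
    fun x _ => Set.mem_iUnion.2 ⟨x, hxV x⟩
  choose i W hWc hW using fun x : s => exists_preimage_eq R.D R.cone hc (V x.1) (hVc x.1)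
  obtain ⟨k₀, hk₀⟩ := IsCofiltered.inf_objs_exists (Finset.univ.image i)
  let fk : ∀ x : s, k₀ ⟶ i x := fun x => (hk₀ (Finset.mem_image_of_mem i (Finset.mem_univ x))).some
  let W' : s → (R.D.obj k₀).Opens := fun x => R.D.map (fk x) ⁻¹ᵁ W x
  have hW' : ∀ x : s, R.cone.π.app k₀ ⁻¹ᵁ W' x = V x.1 := fun x => by
    rw [← Scheme.Hom.comp_preimage, R.cone.w]
    exact hW x
  have hstage : ∀ x : s, ∃ (j : R.Kᵒᵖ) (a : j ⟶ k₀) (h : ↑(R.D.map a ⁻¹ᵁ W' x) ⟶ U),
      h ≫ g = (R.D.map a ⁻¹ᵁ W' x).ι ≫ R.t.app j := by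
    intro x
    haveI : ∀ j : Over k₀, CompactSpace ↥((opensDiagram R.D k₀ (W' x)).obj j) := fun j =>
      isCompact_iff_compactSpace.mp ((R.D.map j.hom).isCompact_preimage
        ((R.D.map (fk x)).isCompact_preimage (hWc x)))
    haveI : ∀ j : Over k₀, QuasiSeparatedSpace ↥((opensDiagram R.D k₀ (W' x)).obj j) := fun j =>
      (R.D.map j.hom ⁻¹ᵁ W' x).ι.isOpenEmbedding.quasiSeparatedSpace
    let e : (R.cone.π.app k₀ ⁻¹ᵁ W' x : T.Opens).toScheme ⟶ (V x.1).toScheme := T.homOfLE (hW' x).le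
    obtain ⟨j, h, -, hh⟩ := Scheme.exists_π_app_comp_eq_of_locallyOfFinitePresentation
      (opensDiagram R.D k₀ (W' x)) (opensDiagramι _ _ _ ≫ (Over.forget k₀).whiskerLeft R.t) g _
      (isLimitOpensCone R.D R.cone hc k₀ (W' x)) (e ≫ r x.1) (by
        ext j : 2
        show (opensCone R.D R.cone k₀ (W' x)).π.app j ≫ (opensDiagramι R.D k₀ (W' x)).app j ≫ R.t.app j.left =
          (e ≫ r x.1) ≫ g
        rw [Category.assoc, hr, Scheme.homOfLE_ι_assoc]
        simp [opensCone, opensDiagramι, e]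
        exact (Scheme.Hom.resLE_comp_ι_assoc _ _ _).trans (congrArg (_ ≫ ·) (R.w j.left)))
    exact ⟨j.left, j.hom, h, hh⟩
  choose j a h hh using hstage
  obtain ⟨k₁, hk₁⟩ := IsCofiltered.inf_objs_exists (insert k₀ (Finset.univ.image j))
  let m : ∀ x : s, k₁ ⟶ j x := fun x => (hk₁ (Finset.mem_insert_of_mem (Finset.mem_image_of_mem j (Finset.mem_univ x)))).some
  let m₀ : k₁ ⟶ k₀ := (hk₁ (Finset.mem_insert_self _ _)).some
  let W₁ : s → (R.D.obj k₁).Opens := fun x => R.D.map (m x) ⁻¹ᵁ R.D.map (a x) ⁻¹ᵁ W' x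
  have htop : R.cone.π.app k₁ ⁻¹ᵁ (⨆ x, W₁ x) = ⊤ := by
    rw [Scheme.Hom.preimage_iSup, eq_top_iff]
    intro y _
    obtain ⟨x, hxs, hyx⟩ := Set.mem_iUnion₂.1 (hs (Set.mem_univ y))
    refine Opens.mem_iSup.2 ⟨⟨x, hxs⟩, ?_⟩
    show y ∈ R.cone.π.app k₁ ⁻¹ᵁ (R.D.map (m ⟨x, hxs⟩) ⁻¹ᵁ R.D.map (a ⟨x, hxs⟩) ⁻¹ᵁ W' ⟨x, hxs⟩)
    rw [← Scheme.Hom.comp_preimage, R.cone.w, ← Scheme.Hom.comp_preimage, R.cone.w, hW']
    exact hyx
  obtain ⟨k, b, hb⟩ := exists_map_eq_top R.D R.cone hc _ htop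
  refine ⟨R.D.obj k, R.t.app k, ?_, hfin k, R.lfp k, fun y => ?_⟩
  · haveI : Surjective (R.π.app k ≫ R.t.app k) := by rw [R.w]; infer_instance
    exact Surjective.of_comp (R.π.app k) (R.t.app k)
  · have hy : y ∈ R.D.map b ⁻¹ᵁ ⨆ x, W₁ x := by rw [hb]; trivial
    rw [Scheme.Hom.preimage_iSup] at hy
    obtain ⟨x, hx⟩ := Opens.mem_iSup.1 hy
    have hle : R.D.map b ⁻¹ᵁ W₁ x ≤ R.D.map (b ≫ m x) ⁻¹ᵁ (R.D.map (a x) ⁻¹ᵁ W' x) := by
      rw [Functor.map_comp, Scheme.Hom.comp_preimage]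
    refine ⟨R.D.map b ⁻¹ᵁ W₁ x, (R.D.map (b ≫ m x)).resLE _ _ hle ≫ h x, hx, ?_⟩
    rw [Category.assoc, hh x, Scheme.Hom.resLE_comp_ι_assoc]
    have := R.t.naturality (b ≫ m x)
    simp only [Functor.const_obj_obj, Functor.const_obj_map, Category.comp_id] at this
    rw [this]

end Groth.Agent.S0441
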