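import Groth.Statements.S0411
import Mathlib.AlgebraicGeometry.ZariskisMainTheorem

set_option autoImplicit false
universe u
open FlatMor

namespace Groth.Agent.S0411

open AlgebraicGeometry CategoryTheory Limits in
/-- For a separated, locally quasi-finite morphism (locally of finite type with discrete fibres) to an
affine scheme, every finite set of points of the source lies in an affine open. -/
theorem result {X Y : Scheme.{u}} (f : X ⟶ Y) [IsAffine Y] [IsSeparated f] [LocallyQuasiFinite f] [LocallyOfFiniteType f] (T : Finset ↑X) :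
    ∃ U : X.Opens, IsAffineOpen U ∧ ∀ x ∈ T, x ∈ U := by
  classical
  choose W hW hxW using fun x : X => exists_isAffineOpen_mem_and_subset (X := X) (x := x)
    (U := ⊤) trivial
  let X₀ : X.Opens := T.sup W
  have hc : CompactSpace (X₀ : Scheme.{u}) := by
    refine isCompact_iff_compactSpace.mp ?_
    have : (X₀ : Set X) = ⋃ x ∈ T, (W x : Set X) := by simp [X₀]
    rw [this]
    exact T.isCompact_biUnion fun x _ => (hW x).isCompact
  have hmem : ∀ x ∈ T, x ∈ X₀ := fun x hx => Finset.le_sup (f := W) hx (hxW x).1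
  suffices h : ∀ (X₀' : Scheme.{u}) (f₀ : X₀' ⟶ Y) [QuasiCompact f₀] [IsSeparated f₀]
      [LocallyQuasiFinite f₀] [LocallyOfFiniteType f₀] (E : Finset X₀'),
      ∃ U : X₀'.Opens, IsAffineOpen U ∧ ∀ x ∈ E, x ∈ U by
    have : QuasiCompact (X₀.ι ≫ f) := by
      rw [quasiCompact_iff_compactSpace]; exact hc
    let e : {x // x ∈ T} → (X₀ : Scheme.{u}) := fun x => ⟨x.1, hmem x.1 x.2⟩
    obtain ⟨U, hU, hU'⟩ := h _ (X₀.ι ≫ f) (T.attach.image e)
    exact ⟨X₀.ι ''ᵁ U, hU.image_of_isOpenImmersion _, fun x hx => ⟨⟨x, hmem x hx⟩,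
      hU' _ (Finset.mem_image.mpr ⟨⟨x, hx⟩, Finset.mem_attach _ _, rfl⟩), rfl⟩⟩
  intro X₀' f₀ _ _ _ _ E
  have : IsAffine f₀.normalization := isAffine_of_isAffineHom f₀.fromNormalization
  let j := f₀.toNormalization ≫ f₀.normalization.isoSpec.hom
  obtain ⟨g, hg, hgE⟩ : ∃ g : Γ(f₀.normalization, ⊤),
      (PrimeSpectrum.basicOpen g : Set (PrimeSpectrum Γ(f₀.normalization, ⊤))) ⊆ Set.range j ∧
      ∀ x ∈ E, (j x).asIdeal ∈ {I : Ideal Γ(f₀.normalization, ⊤) | g ∉ I} := by
    obtain ⟨J, hJ⟩ := (PrimeSpectrum.isClosed_iff_zeroLocus_ideal _).mp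
      j.isOpenEmbedding.isOpen_range.isClosed_compl
    have hsub : ¬ (J : Set Γ(f₀.normalization, ⊤)) ⊆ ⋃ x ∈ (E : Set X₀'), ((j x).asIdeal : Set _) := by
      intro hJE
      rcases E.eq_empty_or_nonempty with rfl | ⟨x₀, hx₀⟩
      · simpa using hJE J.zero_mem
      have := (Ideal.subset_union_prime (s := E) (f := fun x => (j x).asIdeal) (R := Γ(f₀.normalization, ⊤))
        x₀ x₀ (fun x _ _ _ => (j x).isPrime)).mp hJE
      obtain ⟨x, hx, hle⟩ := this
      have : j x ∈ (Set.range j)ᶜ := by rw [hJ]; exact hle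
      exact this ⟨x, rfl⟩
    obtain ⟨g, hgJ, hgE⟩ := Set.not_subset.mp hsub
    refine ⟨g, ?_, fun x hx hgx => hgE (Set.mem_biUnion hx hgx)⟩
    intro y hy
    by_contra hy'
    have : y ∈ (Set.range j)ᶜ := hy'
    rw [hJ] at this
    exact hy (this hgJ)
  refine ⟨j ⁻¹ᵁ PrimeSpectrum.basicOpen g, ?_, fun x hx => hgE x hx⟩
  exact (IsAffineOpen.Spec_basicOpen g).preimage_of_isOpenImmersion j hg

end Groth.Agent.S0411
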