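import Groth.Statements.S0417
import Groth.Agent.Lib.UnivHomeo.Basic
import Mathlib.RingTheory.Nakayama

set_option autoImplicit false
universe u
open FlatMor

namespace Groth.Agent.S0417

open AlgebraicGeometry CategoryTheory Limits

open scoped TensorProduct
lemma surjective_of_finite {A B : Type u} [CommRing A] [CommRing B] [Algebra A B]
    [Module.Finite A B] (I : Ideal A) (hI : I ≤ Ideal.jacobson ⊥)
    (h : Function.Surjective
      (Algebra.TensorProduct.includeRight : (A ⧸ I) →ₐ[A] B ⊗[A] (A ⧸ I))) :
    Function.Surjective (algebraMap A B) := by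
  let J : Ideal B := I.map (algebraMap A B)
  let r : (A ⧸ I) →ₐ[A] B ⧸ J :=
    Ideal.Quotient.liftₐ I (Algebra.ofId A (B ⧸ J)) fun a ha => by
      change Ideal.Quotient.mk J (algebraMap A B a) = 0
      exact Ideal.Quotient.eq_zero_iff_mem.mpr (Ideal.mem_map_of_mem _ ha)
  let g : B ⊗[A] (A ⧸ I) →ₐ[A] B ⧸ J :=
    Algebra.TensorProduct.lift (Ideal.Quotient.mkₐ A J) r fun _ _ => Commute.all _ _
  have key : (⊤ : Submodule A B) ≤ LinearMap.range (Algebra.linearMap A B) := by
    refine Submodule.le_of_le_smul_of_le_jacobson_bot Module.Finite.fg_top hI fun b _ => ?_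
    obtain ⟨c, hc⟩ := h (b ⊗ₜ 1)
    obtain ⟨a, rfl⟩ := Ideal.Quotient.mk_surjective c
    have e := congr(g $hc)
    simp only [Algebra.TensorProduct.includeRight_apply, g, Algebra.TensorProduct.lift_tmul,
      map_one, one_mul, mul_one] at e
    have e' : Ideal.Quotient.mk J (algebraMap A B a) = Ideal.Quotient.mk J b := e
    rw [Ideal.Quotient.eq] at e'
    refine Submodule.mem_sup.mpr ⟨algebraMap A B a, ⟨a, rfl⟩, b - algebraMap A B a, ?_, by ring⟩
    have := neg_sub (algebraMap A B a) b ▸ neg_mem e'
    rw [Ideal.smul_top_eq_map]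
    exact this
  intro b
  exact key (Submodule.mem_top (x := b))

lemma isClosedImmersion_of_affine {X S' : Scheme.{u}} {R : CommRingCat.{u}} (f : X ⟶ Spec R)
    (i : S' ⟶ Spec R) [IsClosedImmersion i] [Surjective i] [IsFinite f]
    [hsnd : IsClosedImmersion (pullback.snd f i)] : IsClosedImmersion f := by
  obtain ⟨I, e, rfl⟩ := IsClosedImmersion.Spec_iff.mp ‹IsClosedImmersion i›
  set i₀ := Spec.map (CommRingCat.ofHom (Ideal.Quotient.mk I)) with hi₀
  have : IsAffine X := isAffine_of_isAffineHom f
  obtain ⟨φ, hφ⟩ := Spec.map_surjective (X.isoSpec.inv ≫ f)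
  have hf : f = X.isoSpec.hom ≫ Spec.map φ := by rw [hφ, Iso.hom_inv_id_assoc]
  have hfin : φ.hom.Finite := by
    rw [← IsFinite.SpecMap_iff, hφ]
    infer_instance
  suffices IsClosedImmersion (Spec.map φ) by rw [hf]; infer_instance
  letI := φ.hom.toAlgebra
  have : Module.Finite R Γ(X, ⊤) := hfin
  suffices Function.Surjective (algebraMap R Γ(X, ⊤)) from IsClosedImmersion.spec_of_surjective φ this
  refine surjective_of_finite I ?_ ?_
  · intro a ha
    refine Ideal.radical_le_jacobson ?_
    have : ∀ p : PrimeSpectrum R, I ≤ p.asIdeal := fun p => by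
      obtain ⟨q', hq'⟩ := (e.hom ≫ i₀).surjective p
      obtain ⟨q, hq⟩ : ∃ q, i₀ q = p := ⟨e.hom q', by rw [← hq']; rfl⟩
      intro b hb
      rw [← hq]
      show Ideal.Quotient.mk I b ∈ q.asIdeal
      simp [Ideal.Quotient.eq_zero_iff_mem.mpr hb]
    rw [Ideal.radical_eq_sInf]
    exact Submodule.mem_sInf.mpr fun p hp => this ⟨p, hp.2⟩ ha
  · have h1 : IsClosedImmersion (pullback.snd (Spec.map φ) i₀) := by
      let m : pullback (Spec.map φ) i₀ ⟶ pullback f (e.hom ≫ i₀) :=
        pullback.map _ _ _ _ X.isoSpec.inv e.inv (𝟙 _)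
          (by rw [Category.comp_id, hφ]) (by simp)
      have h2 : pullback.snd (Spec.map φ) i₀ = m ≫ pullback.snd _ _ ≫ e.hom := by
        simp only [m, pullback.map, pullback.lift_snd_assoc, Category.assoc, Iso.inv_hom_id,
          Category.comp_id]
      rw [h2]
      infer_instance
    have h3 := pullbackSpecIso_inv_snd R Γ(X, ⊤) (R ⧸ I)
    have h4 : IsClosedImmersion
        ((pullbackSpecIso R Γ(X, ⊤) (R ⧸ I)).inv ≫ pullback.snd (Spec.map φ) i₀) :=
      inferInstance
    have h5 := h3 ▸ h4
    obtain ⟨J, e', he'⟩ := IsClosedImmersion.Spec_iff.mp h5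
    have h6 := (@IsClosedImmersion.isAffine_surjective_of_isAffine _ _ _ _ h5).2
    intro x
    obtain ⟨y, hy⟩ := h6 ((Scheme.ΓSpecIso _).inv x)
    refine ⟨(Scheme.ΓSpecIso _).hom y, ?_⟩
    have := congr((Scheme.ΓSpecIso _).hom $hy)
    rw [← CommRingCat.comp_apply, Scheme.ΓSpecIso_naturality, CommRingCat.comp_apply] at this
    exact this.trans ((Scheme.ΓSpecIso (.of (Γ(X, ⊤) ⊗[R] (R ⧸ I)))).inv_hom_id_apply x)

open AlgebraicGeometry CategoryTheory Limits in
/-- Let i : S' → S be a closed immersion that is bijective on points and f : X → S a morphism of finite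
type (locally of finite type and quasi-compact) whose base change X ×_S S' → S' is a closed
immersion. Then f is a closed immersion. The published statement alternatively allows S' → S of
finite presentation in place of the finite-type hypothesis on f; only the first alternative is
stated. -/
theorem result {X S S' : Scheme.{u}} (f : X ⟶ S) (i : S' ⟶ S) [IsClosedImmersion i] (hi : Function.Bijective i)
    [LocallyOfFiniteType f] [QuasiCompact f] [IsClosedImmersion (pullback.snd f i)] : IsClosedImmersion f := by
  have : Surjective i := ⟨hi.surjective⟩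
  have hiu := Lib.UnivHomeo.Basic.of_isClosedImmersion_surjective i
  have hfst := MorphismProperty.of_isPullback (IsPullback.of_hasPullback f i).flip hiu
  have hh : IsHomeomorph (pullback.fst f i) := Lib.UnivHomeo.Basic.isHomeomorph hfst
  have hemb : Topology.IsClosedEmbedding f := by
    have h2 : Topology.IsClosedEmbedding (pullback.snd f i ≫ i) :=
      (pullback.snd f i ≫ i).isClosedEmbedding
    rw [← pullback.condition] at h2
    have : (f : X → S) = (pullback.fst f i ≫ f) ∘ hh.homeomorph.symm := by
      ext y
      conv_lhs => rw [← hh.homeomorph.apply_symm_apply y]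
      rfl
    rw [this]
    exact h2.comp hh.homeomorph.symm.isClosedEmbedding
  have : IsAffineHom f := isAffineHom_of_isInducing f hemb.isInducing hemb.isClosed_range
  have : UniversallyClosed f := by
    have : Surjective (pullback.fst f i) := Lib.UnivHomeo.Basic.surjective hfst
    have : UniversallyClosed (pullback.fst f i ≫ f) := by rw [pullback.condition]; infer_instance
    exact UniversallyClosed.of_comp_surjective (pullback.fst f i) f
  have : IsFinite f := (IsFinite.iff_isIntegralHom_and_locallyOfFiniteType _).mpr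
    ⟨IsIntegralHom.iff_universallyClosed_and_isAffineHom.mpr ⟨‹_›, ‹_›⟩, ‹_›⟩
  rw [IsZariskiLocalAtTarget.iff_of_openCover (P := @IsClosedImmersion) S.affineCover]
  intro j
  let g := S.affineCover.f j
  have : IsClosedImmersion (pullback.snd (pullback.snd f g) (pullback.snd i g)) := by
    have H := (IsPullback.of_hasPullback (pullback.snd f g) (pullback.snd i g)).paste_horiz
      (IsPullback.of_hasPullback f g)
    rw [← pullback.condition] at H
    let m := pullback.lift (f := f) (g := i)
      (pullback.fst (pullback.snd f g) (pullback.snd i g) ≫ pullback.fst f g)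
      (pullback.snd (pullback.snd f g) (pullback.snd i g) ≫ pullback.fst i g) H.w
    have H' : IsPullback m (pullback.snd (pullback.snd f g) (pullback.snd i g))
        (pullback.snd f i) (pullback.fst i g) := by
      refine IsPullback.of_right ?_ (pullback.lift_snd _ _ _) (IsPullback.of_hasPullback f i)
      exact (pullback.lift_fst (f := f) (g := i) _ _ _).symm ▸ H
    exact MorphismProperty.of_isPullback H' ‹_›
  have hc : IsClosedImmersion (pullback.snd i g) := MorphismProperty.of_isPullback (IsPullback.of_hasPullback i g) ‹_›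
  have hs : Surjective (pullback.snd i g) := MorphismProperty.of_isPullback (IsPullback.of_hasPullback i g) ‹_›
  exact @isClosedImmersion_of_affine _ _ _ (pullback.snd f g) (pullback.snd i g) hc hs (MorphismProperty.of_isPullback (IsPullback.of_hasPullback f g) ‹_›) this

end Groth.Agent.S0417
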