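import Groth.Statements.S0418
import Groth.Agent.H75.UH.Descend
import Groth.Agent.H75.UH.Core


set_option autoImplicit false
universe u
open FlatMor

namespace Groth.Agent.S0418

open Groth.Agent.H75.UH

theorem pow_dvd_choose {p : ℕ} (hp : p.Prime) {n K i : ℕ} (hi : ¬ p ^ n ∣ i) :
    p ^ K ∣ Nat.choose (p ^ (n + K)) i := by
  obtain ⟨i, rfl⟩ : ∃ j, i = j + 1 := ⟨i - 1, by
    have : i ≠ 0 := fun h => hi (h ▸ dvd_zero _)
    omega⟩
  obtain ⟨a, m, hm, e⟩ := Nat.exists_eq_pow_mul_and_not_dvd (Nat.succ_ne_zero i) p hp.ne_one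
  rw [Nat.succ_eq_add_one] at e
  have ha : a < n := by
    by_contra hle
    exact hi (e ▸ (pow_dvd_pow p (not_lt.mp hle)).mul_right m)
  have hP : 0 < p ^ (n + K) := pow_pos hp.pos _
  have h1 : p ^ (n + K) ∣ Nat.choose (p ^ (n + K)) (i + 1) * (i + 1) := by
    refine ⟨Nat.choose (p ^ (n + K) - 1) i, ?_⟩
    have := Nat.add_one_mul_choose_eq (p ^ (n + K) - 1) i
    rw [Nat.sub_add_cancel hP] at this
    exact this.symm
  have h2 : p ^ (a + K) ∣ Nat.choose (p ^ (n + K)) (i + 1) * (i + 1) :=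
    (pow_dvd_pow p (by omega)).trans h1
  rw [e, pow_add, mul_left_comm] at h2
  have h3 : p ^ K ∣ Nat.choose (p ^ (n + K)) (p ^ a * m) * m :=
    Nat.dvd_of_mul_dvd_mul_left (pow_pos hp.pos a) h2
  rw [e]
  exact (((Nat.Prime.coprime_iff_not_dvd hp).mpr hm).pow_left K).dvd_of_dvd_mul_right h3

variable {B : Type u} [CommRing B]

/-- If multiples by `p`-powers lie in `R`, then having a `p`-power in `R` is additive. -/
theorem add_pow_mem (R : Subring B) {p : ℕ} (hp : p.Prime) {x y : B} {n k : ℕ}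
    (hx : x ^ p ^ n ∈ R) (hy : y ^ p ^ n ∈ R) (hxk : (p : B) ^ k * x ∈ R)
    (hyk : (p : B) ^ k * y ∈ R) : ∃ N, (x + y) ^ p ^ N ∈ R := by
  refine ⟨n + 2 * k * p ^ n, ?_⟩
  set K := 2 * k * p ^ n with hK
  rw [add_pow]
  refine sum_mem fun i hi => ?_
  have hi' : i ≤ p ^ (n + K) := Nat.lt_succ_iff.mp (Finset.mem_range.mp hi)
  by_cases hd : p ^ n ∣ i
  · obtain ⟨j, hj⟩ : p ^ n ∣ p ^ (n + K) - i :=
      Nat.dvd_sub (pow_dvd_pow p (by omega)) hd
    obtain ⟨q, rfl⟩ := hd
    rw [hj, pow_mul, pow_mul]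
    exact mul_mem (mul_mem (pow_mem hx q) (pow_mem hy j)) (natCast_mem R _)
  · obtain ⟨c, hc⟩ := pow_dvd_choose hp (K := K) hd
    rw [hc, Nat.cast_mul, Nat.cast_pow, ← Nat.mod_add_div i (p ^ n),
      ← Nat.mod_add_div (p ^ (n + K) - (i % p ^ n + p ^ n * (i / p ^ n))) (p ^ n)]
    set r := i % p ^ n
    set q := i / p ^ n
    set s := (p ^ (n + K) - (r + p ^ n * q)) % p ^ n
    set j := (p ^ (n + K) - (r + p ^ n * q)) / p ^ n
    have hr : r < p ^ n := Nat.mod_lt _ (pow_pos hp.pos n)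
    have hs : s < p ^ n := Nat.mod_lt _ (pow_pos hp.pos n)
    obtain ⟨d, hd⟩ : ∃ d, K = k * r + k * s + d :=
      Nat.exists_eq_add_of_le (by rw [hK]; nlinarith)
    have key : x ^ (r + p ^ n * q) * y ^ (s + p ^ n * j) * ((p : B) ^ K * (c : B)) =
        (((p : B) ^ k * x) ^ r * ((p : B) ^ k * y) ^ s) *
          ((x ^ p ^ n) ^ q * (y ^ p ^ n) ^ j * ((p : B) ^ d * (c : B))) := by
      rw [hd]; ring
    rw [key]
    exact mul_mem (mul_mem (pow_mem hxk r) (pow_mem hyk s))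
      (mul_mem (mul_mem (pow_mem hx q) (pow_mem hy j))
        (mul_mem (pow_mem (natCast_mem R p) d) (natCast_mem R c)))

theorem exists_pow_mul_mem {A B : Type u} [CommRing A] [CommRing B] (φ : A →+* B) (p : ℕ)
    (h : Function.Surjective (Localization.awayMap φ (p : A))) (b : B) :
    ∃ k, (p : B) ^ k * b ∈ φ.range := by
  obtain ⟨z, hz⟩ := h (algebraMap B (Localization.Away (φ (p : A))) b)
  obtain ⟨a, ⟨_, j, rfl⟩, rfl⟩ := IsLocalization.exists_mk'_eq (Submonoid.powers (p : A)) z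
  rw [Localization.awayMap, IsLocalization.Away.map, IsLocalization.map_mk',
    IsLocalization.mk'_eq_iff_eq_mul, ← map_mul, IsLocalization.eq_iff_exists (Submonoid.powers (φ (p : A)))] at hz
  obtain ⟨⟨_, i, rfl⟩, hi⟩ := hz
  simp only [map_pow, map_natCast] at hi
  refine ⟨i + j, (p : A) ^ i * a, ?_⟩
  rw [map_mul, map_pow, map_natCast, hi]
  ring

/-- The algebraic criterion. -/
theorem mem_good_of_pow (A B : Type u) [CommRing A] [CommRing B] [Algebra A B] (p : ℕ)
    (hp : p.Prime) (b : B) {n : ℕ} (h1 : (p : B) ^ n * b ∈ (algebraMap A B).range)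
    (h2 : b ^ p ^ n ∈ (algebraMap A B).range) : b ∈ good A B := by
  refine ⟨?_, fun P hP => ?_⟩
  · obtain ⟨a, ha⟩ := h2
    exact IsIntegral.of_pow (pow_pos hp.pos n) (ha ▸ isIntegral_algebraMap)
  · by_cases hPp : (p : A) ∈ P
    · obtain ⟨a, ha⟩ := h2
      exact Or.inr ⟨p, hp, hPp, n, ha ▸ ures_of_range (hp := hP) a⟩
    · obtain ⟨a, ha⟩ := h1
      refine Or.inl (URes.of_natCast_mul (n := p ^ n) ?_ ?_)
      · rw [Nat.cast_pow]
        exact fun h => hPp (hP.mem_of_pow_mem n h)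
      · rw [Nat.cast_pow, ← ha]
        exact ures_of_range (hp := hP) a

theorem exists_pow_mem (A B : Type u) [CommRing A] [CommRing B] [Algebra A B] (p : ℕ)
    (hp : p.Prime) (hk : ∀ b : B, ∃ k, (p : B) ^ k * b ∈ (algebraMap A B).range)
    (hgood : good A B = ⊤) (b : B) : ∃ n, b ^ p ^ n ∈ (algebraMap A B).range := by
  set R := (algebraMap A B).range
  let S : Subalgebra A B :=
    { carrier := {b | ∃ n, b ^ p ^ n ∈ R}
      mul_mem' := fun {x y} ⟨n, hn⟩ ⟨m, hm⟩ => ⟨n + m, by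
        rw [mul_pow]
        refine mul_mem ?_ ?_
        · rw [pow_add, pow_mul]; exact pow_mem hn _
        · rw [add_comm, pow_add, pow_mul]; exact pow_mem hm _⟩
      add_mem' := fun {x y} ⟨n, hn⟩ ⟨m, hm⟩ => by
        obtain ⟨k, hk1⟩ := hk x
        obtain ⟨l, hl1⟩ := hk y
        refine add_pow_mem R hp (n := n + m) (k := k + l) ?_ ?_ ?_ ?_
        · rw [pow_add, pow_mul]; exact pow_mem hn _
        · rw [add_comm, pow_add, pow_mul]; exact pow_mem hm _
        · rw [add_comm, pow_add, mul_assoc]; exact mul_mem (pow_mem (natCast_mem R p) _) hk1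
        · rw [pow_add, mul_assoc]; exact mul_mem (pow_mem (natCast_mem R p) _) hl1
      algebraMap_mem' := fun a => ⟨0, by rw [pow_zero, pow_one]; exact ⟨a, rfl⟩⟩ }
  have hS : StepClosed PStep S := by
    intro b hb
    rcases hb with ⟨⟨n, hn⟩, ⟨m, hm⟩⟩ | ⟨l, hl, ⟨n, hn⟩, ⟨m, hm⟩⟩
    · refine ⟨n + m + 1, ?_⟩
      have hc2 : (b ^ p ^ (n + m)) ^ 2 ∈ R := by
        rw [pow_right_comm, pow_add, pow_mul]; exact pow_mem hn _
      have hc3 : (b ^ p ^ (n + m)) ^ 3 ∈ R := by
        rw [pow_right_comm, add_comm, pow_add, pow_mul]; exact pow_mem hm _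
      rw [pow_succ, pow_mul]
      obtain ⟨u, hu⟩ : ∃ u, p = 2 * u + 3 * (p % 2) := ⟨(p - 3 * (p % 2)) / 2, by
        have := hp.two_le; omega⟩
      generalize b ^ p ^ (n + m) = c at hc2 hc3 ⊢
      rw [hu, pow_add, pow_mul, pow_mul]
      exact mul_mem (pow_mem hc2 u) (pow_mem hc3 _)
    · rcases eq_or_ne l p with rfl | hne
      · exact ⟨m + 1, by rw [pow_succ', pow_mul]; exact hm⟩
      · refine ⟨n, ?_⟩
        obtain ⟨k, hk1⟩ := hk (b ^ p ^ n)
        have hco : IsCoprime ((l ^ p ^ n : ℕ) : ℤ) ((p ^ k : ℕ) : ℤ) :=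
          Nat.Coprime.isCoprime (((Nat.coprime_primes hl hp).mpr hne).pow _ _)
        obtain ⟨u, v, huv⟩ := hco
        have huv' : (u : B) * (l : B) ^ p ^ n + (v : B) * (p : B) ^ k = 1 := by
          have := congrArg (Int.cast : ℤ → B) huv
          push_cast at this
          exact this
        rw [mul_pow] at hn
        have : b ^ p ^ n = (u : B) * ((l : B) ^ p ^ n * b ^ p ^ n) +
            (v : B) * ((p : B) ^ k * b ^ p ^ n) := by
          linear_combination -(b ^ p ^ n) * huv'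
        rw [this]
        exact add_mem (mul_mem (intCast_mem R u) hn) (mul_mem (intCast_mem R v) hk1)
  exact (eq_top_of_stepClosed hgood hS ▸ Algebra.mem_top : b ∈ S)

end Groth.Agent.S0418

namespace Groth.Agent.S0418

open AlgebraicGeometry in
/-- For a prime number p and a ring map A → B that becomes an isomorphism after inverting p, Spec B →
Spec A is a universal homeomorphism if and only if the kernel consists of nilpotents and every
element of B has some p-power multiple and p-power power in the image. -/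
theorem result {A B : Type u} [CommRing A] [CommRing B] (φ : A →+* B) (p : ℕ) (hp : p.Prime)
    (h : Function.Bijective (Localization.awayMap φ (p : A))) :
    FlatMor.IsUnivHomeo (Spec.map (CommRingCat.ofHom φ)) ↔
      (∀ a ∈ RingHom.ker φ, IsNilpotent a) ∧ ∀ b : B, ∃ n : ℕ, (p ^ n : B) * b ∈ φ.range ∧ b ^ (p ^ n) ∈ φ.range := by
  let := φ.toAlgebra
  have hk := exists_pow_mul_mem φ p h.2
  refine (Groth.Agent.H75.UH.isUnivHomeo_algebraMap_iff (A := A) (B := B)).trans ⟨?_, ?_⟩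
  · rintro ⟨hker, hgood⟩
    refine ⟨fun a ha => hker ha, fun b => ?_⟩
    obtain ⟨n, hn⟩ := exists_pow_mem A B p hp hk hgood b
    obtain ⟨k, hk'⟩ := hk b
    refine ⟨n + k, ?_, ?_⟩
    · rw [pow_add, mul_assoc]
      exact mul_mem (pow_mem (natCast_mem _ p) _) hk'
    · rw [pow_add, pow_mul]
      exact pow_mem hn _
  · rintro ⟨hker, hb⟩
    refine ⟨fun a ha => hker a ha, eq_top_iff.mpr fun b _ => ?_⟩
    obtain ⟨n, h1, h2⟩ := hb b
    exact mem_good_of_pow A B p hp b h1 h2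


end Groth.Agent.S0418
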