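import Groth.Statements.S0428
import Groth.Agent.Lib.RG.NearFlat
import Mathlib.RingTheory.Finiteness.ModuleFinitePresentation
-- import your own Groth.Agent.* helpers here

set_option autoImplicit false
universe u
open FlatMor

namespace Groth.Agent.S0428

/-- Let R be a domain, S an R-algebra of finite type and M a finite S-module. Then the set of primes q
of S such that the localization M_q is flat over R is open in Spec S. (The published statement
assumes only that R has finitely many weakly associated primes, which a domain has, and also
describes the module over principal opens inside this set; neither refinement is stated here.) -/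
theorem result {R S M : Type u} [CommRing R] [IsDomain R] [CommRing S] [Algebra R S] [Algebra.FiniteType R S]
    [AddCommGroup M] [Module S M] [Module R M] [IsScalarTower R S M] [Module.Finite S M] :
    IsOpen {q : PrimeSpectrum S | Module.Flat R (LocalizedModule q.asIdeal.primeCompl M)} := by
  classical
  obtain ⟨n, ψ, hψ⟩ := Algebra.FiniteType.iff_quotient_mvPolynomial''.1 (inferInstance : Algebra.FiniteType R S)
  let P := MvPolynomial (Fin n) R
  letI : Algebra P S := ψ.toRingHom.toAlgebra
  haveI : IsScalarTower R P S := IsScalarTower.of_algebraMap_eq' ψ.comp_algebraMap.symm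
  letI : Module P M := Module.compHom M (algebraMap P S)
  haveI : IsScalarTower P S M := IsScalarTower.of_algebraMap_smul fun _ _ => rfl
  haveI : IsScalarTower R P M := IsScalarTower.of_algebraMap_smul fun r x => by
    show algebraMap P S (algebraMap R P r) • x = r • x
    rw [← IsScalarTower.algebraMap_apply, algebraMap_smul]
  haveI : Module.Finite P S := Module.Finite.of_surjective (Algebra.linearMap P S) hψ
  haveI : Module.Finite P M := Module.Finite.trans S M
  have hR : (FlatCA.weakAss R R).Finite := (Set.finite_singleton ⊥).subset fun p hp => by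
    obtain ⟨r, hr⟩ := hp
    rcases eq_or_ne r 0 with rfl | hr0
    · exact absurd (hr.1.2 ((Submodule.mem_annihilator_span_singleton _ _).2 (smul_zero (1 : R))))
        fun h => hr.1.1.ne_top ((Ideal.eq_top_iff_one p).2 h)
    · have h0 : (Submodule.span R {r}).annihilator = ⊥ := (Submodule.eq_bot_iff _).2 fun a ha =>
        (mul_eq_zero.1 ((Submodule.mem_annihilator_span_singleton _ _).1 ha)).resolve_right hr0
      exact le_antisymm (hr.2 ⟨Ideal.isPrime_bot, h0.le⟩ bot_le) bot_le
  have hiff : ∀ (q : Ideal S) [q.IsPrime], Module.Flat R (LocalizedModule q.primeCompl M) ↔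
      Module.Flat R (LocalizedModule (q.comap (algebraMap P S)).primeCompl M) := fun q _ =>
    (Lib.RG.NearFlat.flatAt_restrict M (q := q.comap (algebraMap P S)) (q' := q) (fun c => by
      obtain ⟨a, ha⟩ := hψ c
      exact ⟨1, fun h => Ideal.IsPrime.ne_top inferInstance ((Ideal.eq_top_iff_one _).2 h), a, by
        rw [map_one, one_mul]; exact ha.symm⟩) rfl).symm
  obtain ⟨k, π, hπ⟩ := Module.Finite.exists_fin' P M
  refine isOpen_iff_forall_mem_open.2 fun x hx => ?_
  obtain ⟨g, hg, T, -, -, -, hflat⟩ := Lib.RG.NearFlat.exists_good hR π hπ _ ((hiff x.asIdeal).1 hx)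
  exact ⟨PrimeSpectrum.basicOpen (algebraMap P S g),
    fun Q hQ => (hiff Q.asIdeal).2 (Lib.RG.OpenFlat.flatAt_of_away g _ hQ hflat),
    (PrimeSpectrum.basicOpen (algebraMap P S g)).isOpen, hg⟩

end Groth.Agent.S0428
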