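import Groth.Statements.S0429
import Groth.Agent.S0406


set_option autoImplicit false
universe u
open FlatMor

namespace Groth.Agent.S0429

open AlgebraicGeometry CategoryTheory Limits in
/-- A flat morphism locally of finite type to an integral scheme is locally of finite presentation. -/
theorem result {X S : Scheme.{u}} (f : X ⟶ S) [IsIntegral S] [Flat f] [LocallyOfFiniteType f] : LocallyOfFinitePresentation f := by
  rw [HasRingHomProperty.iff_appLE (P := @LocallyOfFinitePresentation)]
  intro U V e
  have hft : (f.appLE U.1 V.1 e).hom.FiniteType :=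
    HasRingHomProperty.appLE (P := @LocallyOfFiniteType) f inferInstance U V e
  have hfl : (f.appLE U.1 V.1 e).hom.Flat :=
    HasRingHomProperty.appLE (P := @Flat) f inferInstance U V e
  rcases isEmpty_or_nonempty U.1 with hU | hU
  · haveI : Subsingleton Γ(S, U.1) := by
      rw [show U.1 = ⊥ from le_bot_iff.1 fun x hx => (hU.false ⟨x, hx⟩).elim]
      infer_instance
    haveI : Subsingleton Γ(X, V.1) := by
      rw [show V.1 = ⊥ from le_bot_iff.1 fun x hx => (hU.false ⟨f.base x, e hx⟩).elim]
      infer_instance
    exact RingHom.FinitePresentation.of_bijective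
      ⟨fun a b _ => Subsingleton.elim a b, fun b => ⟨0, Subsingleton.elim _ _⟩⟩
  · letI := (f.appLE U.1 V.1 e).hom.toAlgebra
    haveI : Algebra.FiniteType Γ(S, U.1) Γ(X, V.1) := hft
    haveI : Module.Flat Γ(S, U.1) Γ(X, V.1) := hfl
    exact S0406.result

end Groth.Agent.S0429
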