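import Groth.Statements.S0431
import Groth.Agent.Lib.Ferrand.Pairs
import Groth.Agent.Lib.Lim.Thickening

set_option autoImplicit false
universe u
open FlatMor

namespace Groth.Agent.S0431

open AlgebraicGeometry CategoryTheory Limits in
/-- For a thickening X → X' (a surjective closed immersion) and an affine morphism X → Y, the pushout Y'
of X' and Y along X exists in schemes, Y → Y' is again a thickening and X is the fibre product of Y
and X' over Y' (the source's description of the structure sheaf of the pushout as a fibre product of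
sheaves is not restated). -/
theorem result {X X' Y : Scheme.{u}} (t : X ⟶ X') [IsClosedImmersion t] (ht : Function.Surjective t) (f : X ⟶ Y) [IsAffineHom f] :
    ∃ (Y' : Scheme.{u}) (f' : X' ⟶ Y') (b : Y ⟶ Y'), IsPushout t f f' b ∧ IsPullback t f f' b ∧
      IsClosedImmersion b ∧ Function.Surjective b := by
  have ht' : Surjective t := ⟨ht⟩
  have hcov : ∀ y : Y, ∃ k : Groth.Agent.Lib.Ferrand.AffPair t f, y ∈ k.V := by
    intro y
    obtain ⟨V, hV, hyV, -⟩ := exists_isAffineOpen_mem_and_subset (x := y) (U := ⊤) trivial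
    have hopen : IsOpen (t '' (f ⁻¹ᵁ V : Set X)) :=
      (t.isClosedEmbedding.toIsEmbedding.toHomeomorphOfSurjective ht).isOpenMap _ (f ⁻¹ᵁ V).2
    let U : X'.Opens := ⟨_, hopen⟩
    have hU : t ⁻¹ᵁ U = f ⁻¹ᵁ V := by
      ext x
      exact ⟨fun ⟨z, hz, hzx⟩ => t.isClosedEmbedding.injective hzx ▸ hz, fun hx => ⟨x, hx, rfl⟩⟩
    have hUaff : IsAffineOpen U := by
      have : IsAffine (t ⁻¹ᵁ U).toScheme := by rw [hU]; exact hV.preimage f
      have : IsClosedImmersion (t ∣_ U) :=
        MorphismProperty.of_isPullback (isPullback_morphismRestrict t U).flip inferInstance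
      have : Surjective (t ∣_ U) :=
        MorphismProperty.of_isPullback (isPullback_morphismRestrict t U).flip ht'
      exact Groth.Agent.Lib.Lim.Thickening.isAffine_of_surjective (t ∣_ U)
    exact ⟨⟨U, V, hUaff, hV, hU⟩, hyV⟩
  obtain ⟨P, a, b, hg⟩ := Groth.Agent.Lib.Ferrand.exists_gluedBy hcov
  refine ⟨P, a, b, hg.isPushout, hg.isPullback, hg.isClosedImmersion_right, fun p => ?_⟩
  rcases hg.surj p with ⟨x, rfl⟩ | ⟨y, rfl⟩
  · obtain ⟨z, rfl⟩ := ht x
    exact ⟨f z, by rw [← Scheme.Hom.comp_apply, ← hg.isPushout.w, Scheme.Hom.comp_apply]⟩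
  · exact ⟨y, rfl⟩

end Groth.Agent.S0431
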