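import Groth.Statements.S0435
import Groth.Agent.H69.FibreLoci.GR
import Groth.Agent.H46.NoethModel
-- import your own Groth.Agent.* helpers here

set_option autoImplicit false
universe u
open FlatMor

namespace Groth.Agent.S0435
open CategoryTheory CategoryTheory.Limits
set_option backward.isDefEq.respectTransparency false

open AlgebraicGeometry CategoryTheory Limits in
/-- For a flat proper morphism of finite presentation, the points of the target whose fibre is
geometrically reduced form an open subset. -/
theorem result {X Y : Scheme.{u}} (f : X ⟶ Y) [Flat f] [IsProper f] [LocallyOfFinitePresentation f] :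
    IsOpen {y : ↑Y | GeometricallyReduced (f.fiberToSpecResidueField y)} := by
  have key : {y : ↑Y | GeometricallyReduced (f.fiberToSpecResidueField y)} =
      (⇑f '' {x | (f.stalkMap x).hom.Flat ∧ Groth.Agent.H46.GRAt.GRAt f x}ᶜ)ᶜ := by
    ext y
    refine (Groth.Agent.H69.FibreLoci.GR.geometricallyReduced_fiber_iff f y).trans ?_
    constructor
    · rintro h ⟨x, hx, hxy⟩
      exact hx ⟨Flat.stalkMap f x, h x hxy⟩
    · intro h x hxy
      by_contra hx
      exact h ⟨x, fun hh => hx hh.2, hxy⟩
  rw [key]
  exact (f.isClosedMap _
    (Groth.Agent.H46.NoethModel.isOpen_flat_grAt f).isClosed_compl).isOpen_compl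

end Groth.Agent.S0435
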