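import Groth.Statements.S1457
import Groth.Agent.Lib.RG.ElemExist
import Groth.Agent.Lib.FibreDim.Chart

set_option autoImplicit false
universe u
open FlatMor

namespace Groth.Agent.S1457

open scoped TensorProduct in
theorem eq_fiberIdeal {R S : Type u} [CommRing R] [CommRing S] [Algebra R S] (p : Ideal R) [p.IsPrime]
    (q : Ideal S) (Q : Ideal (p.Fiber S))
    (hQ : Q.comap (Algebra.TensorProduct.includeRight : S →ₐ[R] p.Fiber S).toRingHom = q) :
    Q = _root_.FlatCA.fiberIdeal p q := by
  refine le_antisymm (fun w hw => ?_) (Ideal.map_le_iff_le_comap.2 hQ.ge)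
  obtain ⟨s, hs, b, hb⟩ := Ideal.Fiber.exists_smul_eq_one_tmul p w
  have hu : IsUnit (algebraMap R (p.Fiber S) s) := by
    rw [IsScalarTower.algebraMap_apply R p.ResidueField (p.Fiber S)]
    exact (isUnit_iff_ne_zero.2 fun h0 => hs (Ideal.algebraMap_residueField_eq_zero.1 h0)).map _
  rw [← Ideal.unit_mul_mem_iff_mem _ hu, ← Algebra.smul_def, hb]
  refine Ideal.mem_map_of_mem _ ?_
  rw [← hQ]
  show (1 : p.ResidueField) ⊗ₜ[R] b ∈ Q
  rw [← hb, Algebra.smul_def]
  exact Q.mul_mem_left _ hw

open AlgebraicGeometry CategoryTheory Limits in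
/-- Omitting the assertion on pure transcendence of a residue field and the addendum on finite
presentation of π: let f : X → S be locally of finite type, x a point with image s and n the local
dimension of the fibre at x. Then there are affine schemes S', Y', X', an elementary étale
neighbourhood e : (S', s') → (S, s), a morphism h : Y' → S' smooth of relative dimension n with
geometrically integral fibres, a finite morphism π : X' → Y' and an elementary étale neighbourhood g
: (X', x') → (X, x) with g ≫ f = π ≫ h ≫ e, such that x' is the only point of X' over y' = π x' and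
h y' = s'. -/
theorem result {X S : Scheme.{u}} (f : X ⟶ S) [LocallyOfFiniteType f] (x : X) (n : ℕ) (hn : FlatMor.fibreDimAt f x = n) :
    ∃ (S' Y' X' : Scheme.{u}) (e : S' ⟶ S) (h : Y' ⟶ S') (π : X' ⟶ Y') (g : X' ⟶ X) (s' : S') (x' : X'),
      IsAffine S' ∧ IsAffine Y' ∧ IsAffine X' ∧ Hens2.IsEtaleNbhd e s' (f x) ∧ Hens2.IsEtaleNbhd g x' x ∧
      g ≫ f = π ≫ h ≫ e ∧ SmoothOfRelativeDimension n h ∧ GeometricallyIntegral h ∧ IsFinite π ∧ h (π x') = s' ∧
      ∀ z : X', π z = π x' → z = x' := by
  obtain ⟨R, A, _, _, _, _, v, w, hv, hw', P, hw, hP, -⟩ :=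
    Groth.Agent.Lib.FibreDim.Chart.exists_chart f x ⊤ trivial
  subst hP
  haveI := hv; haveI := hw'
  let p := (PrimeSpectrum.comap (algebraMap R A) P).asIdeal
  haveI : P.asIdeal.LiesOver p := ⟨rfl⟩
  let x₁ : PrimeSpectrum (p.Fiber A) :=
    PrimeSpectrum.preimageHomeomorphFiber R A (PrimeSpectrum.comap (algebraMap R A) P) ⟨P, rfl⟩
  have hxq : x₁.asIdeal = _root_.FlatCA.fiberIdeal p P.asIdeal :=
    eq_fiberIdeal p P.asIdeal x₁.asIdeal
      (congrArg (fun z => z.1.asIdeal) ((PrimeSpectrum.preimageHomeomorphFiber R A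
        (PrimeSpectrum.comap (algebraMap R A) P)).symm_apply_apply ⟨P, rfl⟩))
  have hsupp : Module.support (p.Fiber A) (_root_.FlatCA.fiberMod p A A) = Set.univ :=
    Set.eq_univ_of_forall fun Q => by
      letI := (Algebra.TensorProduct.rightAlgebra : Algebra A (p.Fiber A))
      show Q ∈ Module.support (p.Fiber A) (TensorProduct A (p.Fiber A) A)
      rw [LinearEquiv.support_eq (TensorProduct.AlgebraTensorModule.rid A (p.Fiber A) (p.Fiber A)),
        Module.mem_support_iff_exists_annihilator]
      exact ⟨1, fun r hr => by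
        rw [Submodule.mem_annihilator_span_singleton, smul_eq_mul, mul_one] at hr
        rw [hr]; exact Q.asIdeal.zero_mem⟩
  have hloc : FlatMor.localDim (Module.support (p.Fiber A) (_root_.FlatCA.fiberMod p A A))
      ⟨x₁, hsupp ▸ Set.mem_univ _⟩ = n := by
    rw [← hn, Groth.Agent.Lib.FibreDim.Chart.fibreDimAt_eq_localDim f v w hw P]
    exact (Groth.Agent.Lib.FibreDim.Basic.localDim_eq_of_homeomorph
      ((Homeomorph.setCongr hsupp).trans (Homeomorph.Set.univ _)) _).symm
  obtain ⟨E⟩ := Groth.Agent.Lib.RG.ElemExist.exists_elemDevissage A p P.asIdeal n x₁ hxq _ hloc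
  have hinj : Function.Injective (algebraMap E.S' E.C) := by
    let ε := E.isBaseChange.equiv.symm.trans (TensorProduct.AlgebraTensorModule.rid A E.S' E.S')
    rw [injective_iff_map_eq_zero]
    intro a ha
    have hzero : ∀ m : E.N', a • m = 0 := fun m => E.iso.injective (by
      rw [map_smul, map_zero, ← algebraMap_smul E.C a, ha, zero_smul])
    have h1 := congrArg ε (hzero (ε.symm 1))
    rw [map_smul, LinearEquiv.apply_symm_apply, map_zero, smul_eq_mul, mul_one] at h1
    exact h1
  let ec : E.S' ≃+* E.C := RingEquiv.ofBijective (algebraMap E.S' E.C) ⟨hinj, E.surjC⟩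
  let φ : E.D →+* E.S' := ec.symm.toRingHom.comp (algebraMap E.D E.C)
  have hφR : φ.comp (algebraMap E.R' E.D) = algebraMap E.R' E.S' := by
    ext r
    show ec.symm (algebraMap E.D E.C (algebraMap E.R' E.D r)) = _
    rw [RingEquiv.symm_apply_eq, ← IsScalarTower.algebraMap_apply]
    exact IsScalarTower.algebraMap_apply E.R' E.S' E.C r
  have hzq : E.q' = E.z.comap (algebraMap E.S' E.C) := E.zOver.over
  let s' : Spec (CommRingCat.of E.R') := ⟨E.p', E.hp'⟩
  let x' : Spec (CommRingCat.of E.S') := ⟨E.q', E.hq'⟩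
  have hy : E.q'.comap φ = E.y := by
    rw [hzq, Ideal.comap_comap, show (algebraMap E.S' E.C).comp φ = algebraMap E.D E.C from
      RingHom.ext fun d => ec.apply_symm_apply _]
    exact (E.zOverY.over).symm
  have bij : ∀ {R A : Type u} [CommRing R] [CommRing A] [Algebra R A] (p : Ideal R) [p.IsPrime]
      (q : PrimeSpectrum A), _root_.FlatCA.IsEtaleNhd R A p q.asIdeal →
      ∀ (Z : Scheme.{u}) (j : Spec (CommRingCat.of R) ⟶ Z) [IsOpenImmersion j],
      Hens2.IsEtaleNbhd (Spec.map (CommRingCat.ofHom (algebraMap R A)) ≫ j) q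
        (j (⟨p, ‹p.IsPrime›⟩ : PrimeSpectrum R)) := by
    intro R A _ _ _ p _ q hq Z j _
    obtain ⟨het, hover, hbij⟩ := hq
    haveI : Etale (Spec.map (CommRingCat.ofHom (algebraMap R A))) :=
      (HasRingHomProperty.Spec_iff (P := @Etale)).2 (RingHom.etale_algebraMap.2 het)
    have hpt : (Spec.map (CommRingCat.ofHom (algebraMap R A))) q = (⟨p, ‹p.IsPrime›⟩ : PrimeSpectrum R) :=
      PrimeSpectrum.ext hover.over.symm
    refine ⟨MorphismProperty.comp_mem @Etale _ _ inferInstance inferInstance, ?_, ?_⟩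
    · rw [Scheme.Hom.comp_apply, hpt]
    · rw [Scheme.residueFieldMap_comp]
      haveI : IsIso ((Spec.map (CommRingCat.ofHom (algebraMap R A))).residueFieldMap q) :=
        (ConcreteCategory.isIso_iff_bijective _).2
          ((Groth.Agent.Lib.RG.GeomRing.bijective_mapₐ_iff q p).1 hbij)
      have hj : IsIso (j.residueFieldMap ((Spec.map (CommRingCat.ofHom (algebraMap R A))) q)) :=
        (ConcreteCategory.isIso_iff_bijective _).2 ⟨RingHom.injective _,
          Groth.Agent.H56.EtaleNbhd.residueFieldMap_surjective_of_isPreimmersion j _⟩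
      exact (ConcreteCategory.isIso_iff_bijective _).1 (IsIso.comp_isIso' hj ‹_›)
  refine ⟨Spec (CommRingCat.of E.R'), Spec (CommRingCat.of E.D), Spec (CommRingCat.of E.S'),
    Spec.map (CommRingCat.ofHom (algebraMap R E.R')) ≫ v,
    Spec.map (CommRingCat.ofHom (algebraMap E.R' E.D)), Spec.map (CommRingCat.ofHom φ),
    Spec.map (CommRingCat.ofHom (algebraMap A E.S')) ≫ w, s', x', inferInstance, inferInstance, inferInstance,
    ?_, ?_, ?_, E.smooth, E.geomInt, ?_, ?_, ?_⟩
  · have := bij p (⟨E.p', E.hp'⟩ : PrimeSpectrum E.R') E.etaleR S v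
    rwa [show v (⟨p, _⟩ : PrimeSpectrum R) = f (w P) from
      (Groth.Agent.Lib.FibreDim.Chart.apply_eq f v w hw P).symm] at this
  · exact bij P.asIdeal (⟨E.q', E.hq'⟩ : PrimeSpectrum E.S') E.etaleS X w
  · rw [Category.assoc, ← hw, ← Category.assoc, ← Category.assoc, ← Category.assoc, ← Spec.map_comp,
      ← Spec.map_comp, ← Spec.map_comp, ← CommRingCat.ofHom_comp, ← CommRingCat.ofHom_comp,
      ← CommRingCat.ofHom_comp, hφR, ← IsScalarTower.algebraMap_eq,
      ← IsScalarTower.algebraMap_eq]
  · rw [IsFinite.SpecMap_iff]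
    exact (RingHom.Finite.of_surjective ec.symm.toRingHom ec.symm.surjective).comp
      (RingHom.finite_algebraMap.2 E.finiteDC)
  · apply PrimeSpectrum.ext
    show (E.q'.comap φ).comap (algebraMap E.R' E.D) = E.p'
    rw [hy]
    exact E.yOver.over.symm
  · intro z hz
    apply PrimeSpectrum.ext
    haveI : (z.asIdeal.comap ec.symm.toRingHom).IsPrime := Ideal.comap_isPrime _ _
    have h := E.uniq (z.asIdeal.comap ec.symm.toRingHom) ⟨by
      rw [Ideal.under_def, Ideal.comap_comap]
      exact hy.symm.trans (congrArg PrimeSpectrum.asIdeal hz).symm⟩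
    show z.asIdeal = E.q'
    rw [hzq, ← h, Ideal.comap_comap, show ec.symm.toRingHom.comp (algebraMap E.S' E.C) = RingHom.id _ from
      RingHom.ext fun a => ec.symm_apply_apply a, Ideal.comap_id]

end Groth.Agent.S1457
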