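import Groth.Statements.S0443
import Mathlib.AlgebraicGeometry.Morphisms.Finite
import Mathlib.RingTheory.Localization.Finiteness

set_option autoImplicit false
universe u
open FlatMor

namespace Groth.Agent.S0443

open AlgebraicGeometry CategoryTheory Limits in
/-- For a finite morphism π : X → Y and a point x of X that is the only point of its fibre, the induced
homomorphism of local rings O_{Y,π(x)} → O_{X,x} is finite. (The published lemma has further parts,
not stated here.) -/
theorem result {X Y : Scheme.{u}} (π : X ⟶ Y) [IsFinite π] (x : X) (hx : ∀ x' : ↑X, π x' = π x → x' = x) :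
    (π.stalkMap x).hom.Finite := by
  obtain ⟨_, ⟨V, hV, rfl⟩, hxV, -⟩ := Y.isBasis_affineOpens.exists_subset_of_mem_open
    (Set.mem_univ (π x)) isOpen_univ
  let W : X.Opens := π ⁻¹ᵁ V
  have hW : IsAffineOpen W := hV.preimage π
  let φ : Γ(Y, V) →+* Γ(X, W) := (π.app V).hom
  let i := φ.toAlgebra
  have : Module.Finite Γ(Y, V) Γ(X, W) := π.finite_app V hV
  let iy := TopCat.Presheaf.algebra_section_stalk Y.presheaf ⟨π x, hxV⟩
  let ix := TopCat.Presheaf.algebra_section_stalk X.presheaf (U := W) ⟨x, hxV⟩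
  let j := (π.stalkMap x).hom.toAlgebra
  let k : Algebra Γ(Y, V) (X.presheaf.stalk x) :=
    ((algebraMap Γ(X, W) (X.presheaf.stalk x)).comp φ).toAlgebra
  have : IsScalarTower Γ(Y, V) Γ(X, W) (X.presheaf.stalk x) := .of_algebraMap_eq' rfl
  have : IsScalarTower Γ(Y, V) (Y.presheaf.stalk (π x)) (X.presheaf.stalk x) :=
    .of_algebraMap_eq' (congr(($(π.germ_stalkMap V x hxV)).hom)).symm
  have hly : IsLocalization (hV.primeIdealOf ⟨π x, hxV⟩).asIdeal.primeCompl
      (Y.presheaf.stalk (π x)) := hV.isLocalization_stalk ⟨π x, hxV⟩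
  have hlx : IsLocalization (hW.primeIdealOf ⟨x, hxV⟩).asIdeal.primeCompl
      (X.presheaf.stalk x) := hW.isLocalization_stalk ⟨x, hxV⟩
  set p := (hV.primeIdealOf ⟨π x, hxV⟩).asIdeal
  set q := (hW.primeIdealOf ⟨x, hxV⟩).asIdeal
  have hmy : ∀ a : Γ(Y, V), a ∈ p.primeCompl ↔ π x ∈ Y.basicOpen a := fun a => by
    rw [← IsLocalization.AtPrime.isUnit_to_map_iff (Y.presheaf.stalk (π x)) p a]
    exact (Y.mem_basicOpen a (π x) hxV).symm
  have hmx : ∀ b : Γ(X, W), b ∈ q.primeCompl ↔ x ∈ X.basicOpen b := fun b => by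
    rw [← IsLocalization.AtPrime.isUnit_to_map_iff (X.presheaf.stalk x) q b]
    exact (X.mem_basicOpen b x hxV).symm
  have hle : ∀ a ∈ p.primeCompl, φ a ∈ q.primeCompl := fun a ha => by
    rw [hmx, ← Scheme.preimage_basicOpen]
    exact (hmy a).mp ha
  have key : ∀ b ∈ q.primeCompl, ∃ n ∈ Algebra.algebraMapSubmonoid Γ(X, W) p.primeCompl, b ∣ n := by
    intro b hb
    let C : Set Y := π '' (X.basicOpen b : Set X)ᶜ
    have hC : IsClosed C := π.isClosedMap _ (X.basicOpen b).isOpen.isClosed_compl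
    have hyC : π x ∉ C := by
      rintro ⟨x', hx', e⟩
      rw [hx x' e] at hx'
      exact hx' ((hmx b).mp hb)
    obtain ⟨a, ha, hya⟩ := hV.exists_basicOpen_le
      (V := (⟨Cᶜ, hC.isOpen_compl⟩ : Y.Opens)) ⟨π x, hyC⟩ hxV
    have hab : X.basicOpen (φ a) ≤ X.basicOpen b := by
      intro x' hx'
      rw [← Scheme.preimage_basicOpen] at hx'
      by_contra hcon
      exact ha hx' ⟨x', hcon, rfl⟩
    have hab' : PrimeSpectrum.basicOpen (φ a) ≤ PrimeSpectrum.basicOpen b := by
      rw [← hW.fromSpec_preimage_basicOpen, ← hW.fromSpec_preimage_basicOpen]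
      exact fun z hz => hab hz
    rw [PrimeSpectrum.basicOpen_le_basicOpen_iff, Ideal.mem_radical_iff] at hab'
    obtain ⟨n, hn⟩ := hab'
    exact ⟨φ a ^ n, ⟨a ^ n, pow_mem ((hmy a).mpr hya) n, map_pow φ a n⟩,
      Ideal.mem_span_singleton.mp hn⟩
  have hsub : Algebra.algebraMapSubmonoid Γ(X, W) p.primeCompl ≤ q.primeCompl := by
    rintro _ ⟨a, ha, rfl⟩; exact hle a ha
  have : IsLocalization (Algebra.algebraMapSubmonoid Γ(X, W) p.primeCompl)
      (X.presheaf.stalk x) := by
    refine { map_units := fun n => IsLocalization.map_units _ (⟨n.1, hsub n.2⟩ : q.primeCompl)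
             surj := fun s => ?_
             exists_of_eq := fun {a b} h => ?_ }
    · obtain ⟨⟨a, d, hd⟩, h⟩ := IsLocalization.surj q.primeCompl s
      obtain ⟨n, hn, c, rfl⟩ := key d hd
      refine ⟨⟨a * c, d * c, hn⟩, ?_⟩
      simp only [map_mul, ← mul_assoc]
      rw [h]
    · obtain ⟨d, hd⟩ := (IsLocalization.eq_iff_exists q.primeCompl _).mp h
      obtain ⟨n, hn, c, hc⟩ := key d.1 d.2
      exact ⟨⟨n, hn⟩, by simp only [hc]; linear_combination c * hd⟩
  exact Module.Finite.of_isLocalization Γ(Y, V) Γ(X, W) p.primeCompl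

end Groth.Agent.S0443
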