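import Groth.Statements.S0445
import Mathlib.AlgebraicGeometry.Morphisms.FormallyUnramified

set_option autoImplicit false
universe u
open FlatMor

namespace Groth.Agent.S0445

open AlgebraicGeometry CategoryTheory Limits in
/-- Two morphisms over S into an S-scheme unramified over S which agree at a point and induce the same
map on residue fields there agree on an open neighbourhood of that point. -/
theorem result {X Y S : Scheme.{u}} (p : Y ⟶ S) [FormallyUnramified p] [LocallyOfFiniteType p] (f g : X ⟶ Y) (hfg : f ≫ p = g ≫ p)
    (x : X) (h1 : f x = g x) (h2 : f.residueFieldMap x = (Y.residueFieldCongr h1).hom ≫ g.residueFieldMap x) :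
    ∃ U : X.Opens, x ∈ U ∧ U.ι ≫ f = U.ι ≫ g := by
  let d := pullback.lift f g hfg
  refine ⟨d ⁻¹ᵁ (pullback.diagonal p).opensRange, ?_, ?_⟩
  · show d x ∈ Set.range (pullback.diagonal p)
    have key : X.fromSpecResidueField x ≫ f = X.fromSpecResidueField x ≫ g := by
      rw [← f.SpecMap_residueFieldMap_fromSpecResidueField x,
        ← g.SpecMap_residueFieldMap_fromSpecResidueField x, h2, Spec.map_comp, Category.assoc,
        Scheme.residueFieldCongr_fromSpecResidueField]
    have : X.fromSpecResidueField x ≫ d =
        (X.fromSpecResidueField x ≫ f) ≫ pullback.diagonal p :=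
      pullback.hom_ext
        (by simp only [d, Category.assoc, pullback.diagonal_fst, Category.comp_id]
            exact congr(X.fromSpecResidueField x ≫ $(pullback.lift_fst f g hfg)))
        (by simp only [d, Category.assoc, pullback.diagonal_snd, Category.comp_id]
            exact (congr(X.fromSpecResidueField x ≫ $(pullback.lift_snd f g hfg))).trans key.symm)
    refine ⟨f x, ?_⟩
    let pt : Spec (X.residueField x) := IsLocalRing.closedPoint _
    have h3 := congr($this pt)
    simpa [Scheme.fromSpecResidueField_apply] using h3.symm
  · set U := d ⁻¹ᵁ (pullback.diagonal p).opensRange with hU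
    have hr : Set.range (U.ι ≫ d) ⊆ Set.range (pullback.diagonal p) := by
      rintro _ ⟨y, rfl⟩
      exact y.2
    have e := IsOpenImmersion.lift_fac (pullback.diagonal p) (U.ι ≫ d) hr
    have e1 := congr($e ≫ pullback.fst p p)
    have e2 := congr($e ≫ pullback.snd p p)
    simp only [d, Category.assoc, pullback.diagonal_fst, pullback.diagonal_snd, pullback.lift_fst,
      pullback.lift_snd, Category.comp_id] at e1 e2
    rw [← e1, ← e2]

end Groth.Agent.S0445
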