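import Groth.Statements.S1202
import Groth.Agent.Lib.RG.OpenApply
-- import your own Groth.Agent.* helpers here

set_option autoImplicit false
universe u
open FlatMor

attribute [local instance] Algebra.TensorProduct.rightAlgebra

namespace Groth.Agent.S1202

open Lib.RG Lib.RG.NhdPoint Lib.RG.OpenApply

open TensorProduct in
/-- Ring form, X = Spec S and S = Spec R affine: let S be a finitely presented R-algebra, N a finitely
presented S-module and q a prime of S over p such that N_q is flat over R. Then there are an étale
R-algebra R' with a prime p' over p having the same residue field, an étale S-algebra S' with a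
prime q' over q having the same residue field, and a compatible R'-algebra structure on S' with q'
over p', such that S' ⊗_S N is a projective R'-module. -/
theorem result {R S : Type u} [CommRing R] [CommRing S] [Algebra R S] [Algebra.FinitePresentation R S]
    (N : Type u) [AddCommGroup N] [Module S N] [Module R N] [IsScalarTower R S N] [Module.FinitePresentation S N]
    (p : Ideal R) [p.IsPrime] (q : Ideal S) [q.IsPrime] [q.LiesOver p] (hflat : FlatCA.FlatAt R q N) :
    ∃ (R' S' : Type u) (_ : CommRing R') (_ : CommRing S') (_ : Algebra R R') (_ : Algebra S S') (_ : Algebra R' S')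
      (_ : Algebra R S') (_ : IsScalarTower R R' S') (_ : IsScalarTower R S S')
      (p' : Ideal R') (q' : Ideal S') (_ : p'.IsPrime) (_ : q'.IsPrime),
      FlatCA.IsEtaleNhd R R' p p' ∧ FlatCA.IsEtaleNhd S S' q q' ∧ q'.LiesOver p' ∧
      Module.Projective R' (RestrictScalars R' S' (S' ⊗[S] N)) := by
  obtain ⟨R', cR', aR', p', hp', hnhd, u, hu, hproj, -⟩ := OpenMain.exists_chart p q hflat
  let X := S ⊗[R] R'
  let C := Localization.Away u
  obtain ⟨P, hP, hPS, hPR⟩ := exists_point p p' q hnhd
  haveI := hP
  obtain ⟨hq', hn⟩ := Lib.FlatCA.FiniteCriterion.isEtaleNhd_away P (hu P hP hPS hPR)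
  haveI := hn.2.choose
  refine ⟨R', C, cR', inferInstance, aR', inferInstance, inferInstance, inferInstance, inferInstance, inferInstance,
    p', P.map (algebraMap X C), hp', hq', hnhd,
    NhdPoint.trans (NhdPoint.isEtaleNhd p p' q hnhd P hPS hPR) hn, ⟨?_⟩, ?_⟩
  · rw [Ideal.under_def, IsScalarTower.algebraMap_eq R' X C, ← Ideal.comap_comap, ← Ideal.under_def (A := X),
      ← (P.map (algebraMap X C)).over_def P]
    exact hPR.symm
  · haveI : Module.Projective R' (C ⊗[S] N) := hproj
    exact Module.Projective.of_equiv (rsEquiv R' C _)

end Groth.Agent.S1202
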