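import Groth.Statements.S0446
import Groth.Agent.S1202
import Groth.Agent.Lib.RG.PureTrans
import Groth.Agent.Lib.Unram.Radicial
-- import your own Groth.Agent.* helpers here

set_option autoImplicit false
universe u
open FlatMor

namespace Groth.Agent.S0446

open AlgebraicGeometry CategoryTheory in
theorem point_map {R A : Type u} [CommRing R] [CommRing A] [Algebra R A] {p : Ideal R} [p.IsPrime] {p' : Ideal A}
    [p'.IsPrime] (h : _root_.FlatCA.IsEtaleNhd R A p p') {X : Scheme.{u}}
    (j : Spec (CommRingCat.of R) ⟶ X) [IsOpenImmersion j] :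
    (Spec.map (CommRingCat.ofHom (algebraMap R A)) ≫ j) (⟨p', inferInstance⟩ : PrimeSpectrum A) =
        j (⟨p, inferInstance⟩ : PrimeSpectrum R) ∧
      Function.Surjective ((Spec.map (CommRingCat.ofHom (algebraMap R A)) ≫ j).residueFieldMap
        (⟨p', inferInstance⟩ : PrimeSpectrum A)) := by
  obtain ⟨-, hover, hbij⟩ := h
  obtain rfl : p = p'.under R := hover.over
  let s := Spec.map (CommRingCat.ofHom (algebraMap R A))
  let x : PrimeSpectrum A := ⟨p', inferInstance⟩
  refine ⟨rfl, fun y => ?_⟩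
  obtain ⟨z, hz⟩ := hbij.2 ((Scheme.Spec.residueFieldIso (CommRingCat.of A) x).hom y)
  obtain ⟨w, hw⟩ := (Lib.Unram.Radicial.bijective_residueFieldMap j (s x)).2
    ((Scheme.Spec.residueFieldIso (CommRingCat.of R) (s x)).inv z)
  refine ⟨w, ?_⟩
  rw [Scheme.residueFieldMap_comp]
  show s.residueFieldMap x ((j.residueFieldMap (s x)).hom w) = y
  rw [hw]
  have h0 := ConcreteCategory.congr_hom (Lib.RG.PureTrans.residueFieldMap_eq x (p'.under R) rfl) z
  refine h0.trans ?_
  show (Scheme.Spec.residueFieldIso (CommRingCat.of A) x).inv _ = y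
  erw [hz]
  exact Iso.hom_inv_id_apply (Scheme.Spec.residueFieldIso (CommRingCat.of A) x) y

open AlgebraicGeometry CategoryTheory Limits in
/-- For a morphism locally of finite presentation which is flat at a point x, there are affine étale
neighbourhoods (X', x') of (X, x) and (S', s') of (S, f x) with trivial residue field extensions and
a compatible morphism X' → S' such that the ring of global sections of X' is a projective module
over that of S'. -/
theorem result {X S : Scheme.{u}} (f : X ⟶ S) [LocallyOfFinitePresentation f] (x : X) (hx : (f.stalkMap x).hom.Flat) :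
    ∃ (X' S' : Scheme.{u}) (g : X' ⟶ X) (e : S' ⟶ S) (f' : X' ⟶ S') (x' : X'),
      IsAffine X' ∧ IsAffine S' ∧ Etale g ∧ Etale e ∧ g ≫ f = f' ≫ e ∧ g x' = x ∧ e (f' x') = f x ∧
      Function.Surjective (g.residueFieldMap x') ∧ Function.Surjective (e.residueFieldMap (f' x')) ∧
      @Module.Projective Γ(S', ⊤) _ Γ(X', ⊤) _ (f'.appTop).hom.toAlgebra.toModule := by
  obtain ⟨_, ⟨U, hU, rfl⟩, hxU, -⟩ :=
    S.isBasis_affineOpens.exists_subset_of_mem_open (Set.mem_univ (f x)) isOpen_univ
  obtain ⟨_, ⟨V, hV, rfl⟩, hxV, hVU⟩ :=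
    X.isBasis_affineOpens.exists_subset_of_mem_open hxU (U.2.preimage f.continuous)
  have := f.finitePresentation_appLE hU hV hVU
  algebraize [(f.appLE U V hVU).hom]
  let p := (hU.primeIdealOf ⟨f x, hVU hxV⟩).asIdeal
  let q := (hV.primeIdealOf ⟨x, hxV⟩).asIdeal
  haveI hqp : q.LiesOver p :=
    ⟨congr($(IsAffineOpen.comap_primeIdealOf_appLE U hU V hV hVU hxV).1).symm⟩
  let A₁ := Γ(S, U)
  let B₁ := Γ(X, V)
  let := Localization.AtPrime.algebraOfLiesOver p q
  have hflat : Module.Flat A₁ (Localization.AtPrime q) := by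
    have e := IsAffineOpen.arrowStalkMapIso f U hU V hV hVU hxV
    have : Module.Flat (Localization.AtPrime p) (Localization.AtPrime q) := by
      rw [← RingHom.flat_algebraMap_iff]
      exact (RingHom.Flat.respectsIso.arrow_mk_iso_iff e).mp hx
    exact Module.Flat.trans A₁ (Localization.AtPrime p) _
  have hN : _root_.FlatCA.FlatAt A₁ q B₁ := by
    haveI := hflat
    exact Module.Flat.of_linearEquiv
      ((IsLocalizedModule.iso q.primeCompl (Algebra.linearMap B₁ (Localization.AtPrime q))).restrictScalars A₁)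
  obtain ⟨R', S', cR', cS', aR, aS, aRS, aRS', t1, t2, p', q', hp', hq', hnR, hnS, hover, hproj⟩ :=
    Groth.Agent.S1202.result (R := A₁) B₁ p q hN
  haveI := hnR.1
  haveI := hnS.1
  haveI := hover
  let jU : Spec (CommRingCat.of A₁) ⟶ S := hU.fromSpec
  let jV : Spec (CommRingCat.of B₁) ⟶ X := hV.fromSpec
  haveI : IsOpenImmersion jU := inferInstanceAs (IsOpenImmersion hU.fromSpec)
  haveI : IsOpenImmersion jV := inferInstanceAs (IsOpenImmersion hV.fromSpec)
  haveI : Etale (Spec.map (CommRingCat.ofHom (algebraMap A₁ R'))) :=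
    (HasRingHomProperty.Spec_iff (P := @Etale)).2 (RingHom.etale_algebraMap.2 inferInstance)
  haveI : Etale (Spec.map (CommRingCat.ofHom (algebraMap B₁ S'))) :=
    (HasRingHomProperty.Spec_iff (P := @Etale)).2 (RingHom.etale_algebraMap.2 inferInstance)
  let g := Spec.map (CommRingCat.ofHom (algebraMap B₁ S')) ≫ jV
  let e := Spec.map (CommRingCat.ofHom (algebraMap A₁ R')) ≫ jU
  let f' := Spec.map (CommRingCat.ofHom (algebraMap R' S'))
  let x' : Spec (CommRingCat.of S') := ⟨q', hq'⟩
  let s' : Spec (CommRingCat.of R') := ⟨p', hp'⟩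
  obtain ⟨hgx, hgs⟩ := point_map hnS jV
  obtain ⟨hex, hes⟩ := point_map hnR jU
  have hs' : f' x' = s' := PrimeSpectrum.ext (hover.over.symm)
  have hjV : jV (⟨q, inferInstance⟩ : PrimeSpectrum B₁) = x := hV.fromSpec_primeIdealOf ⟨x, hxV⟩
  have hjU : jU (⟨p, inferInstance⟩ : PrimeSpectrum A₁) = f x := hU.fromSpec_primeIdealOf ⟨f x, hVU hxV⟩
  refine ⟨Spec (CommRingCat.of S'), Spec (CommRingCat.of R'), g, e, f', x', inferInstance, inferInstance,
    inferInstance, inferInstance, ?_, hgx.trans hjV, (congrArg (fun t => e t) hs').trans (hex.trans hjU),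
    hgs, ?_, ?_⟩
  · show (_ ≫ jV) ≫ f = Spec.map _ ≫ _ ≫ jU
    rw [Category.assoc, show jV ≫ f = Spec.map (CommRingCat.ofHom (algebraMap A₁ B₁)) ≫ jU from
      (IsAffineOpen.SpecMap_appLE_fromSpec f hU hV hVU).symm, ← Spec.map_comp_assoc, ← Spec.map_comp_assoc,
      ← CommRingCat.ofHom_comp, ← CommRingCat.ofHom_comp, ← IsScalarTower.algebraMap_eq,
      ← IsScalarTower.algebraMap_eq]
  · rw [hs']
    exact hes
  · haveI := hproj
    let M := RestrictScalars R' S' (TensorProduct B₁ S' B₁)
    let E : M ≃+ S' := (RestrictScalars.addEquiv R' S' (TensorProduct B₁ S' B₁)).trans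
      (TensorProduct.AlgebraTensorModule.rid B₁ S' S').toAddEquiv
    have hsmul : ∀ (a : R') (m : M), E (a • m) = a • E m := fun a m => by
      show TensorProduct.AlgebraTensorModule.rid B₁ S' S'
        (algebraMap R' S' a • (RestrictScalars.addEquiv R' S' (TensorProduct B₁ S' B₁)) m) = _
      rw [map_smul, algebraMap_smul]
      rfl
    haveI : Module.Projective R' S' := Module.Projective.of_equiv ({ E with map_smul' := hsmul } : M ≃ₗ[R'] S')
    let φR : R' ≃+* Γ(Spec (CommRingCat.of R'), ⊤) := (Scheme.ΓSpecIso (CommRingCat.of R')).symm.commRingCatIsoToRingEquiv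
    let φS : S' ≃+* Γ(Spec (CommRingCat.of S'), ⊤) := (Scheme.ΓSpecIso (CommRingCat.of S')).symm.commRingCatIsoToRingEquiv
    letI := f'.appTop.hom.toAlgebra
    let σ : R' →+* Γ(Spec (CommRingCat.of R'), ⊤) := φR.toRingHom
    let σ' : Γ(Spec (CommRingCat.of R'), ⊤) →+* R' := φR.symm.toRingHom
    haveI : RingHomInvPair σ σ' := ⟨RingHom.ext φR.symm_apply_apply, RingHom.ext φR.apply_symm_apply⟩
    haveI : RingHomInvPair σ' σ := ⟨RingHom.ext φR.apply_symm_apply, RingHom.ext φR.symm_apply_apply⟩
    let E2 : S' ≃ₛₗ[σ] Γ(Spec (CommRingCat.of S'), ⊤) :=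
      { φS.toAddEquiv with
        map_smul' := fun a m => by
          show φS (a • m) = f'.appTop.hom (φR a) * φS m
          rw [Algebra.smul_def, map_mul]
          congr 1
          exact ConcreteCategory.congr_hom (Scheme.ΓSpecIso_inv_naturality (CommRingCat.ofHom (algebraMap R' S'))) a }
    exact Module.Projective.of_equiv E2

end Groth.Agent.S0446
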