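import Groth.Statements.S0449
import Groth.Agent.H56.FlatMono
import Groth.Agent.Lib.SchDense.Basic

set_option autoImplicit false
universe u
open FlatMor

namespace Groth.Agent.S0449

open AlgebraicGeometry CategoryTheory Limits in
set_option backward.isDefEq.respectTransparency false in
/-- A separated, flat morphism locally of finite type that is an isomorphism over a quasi-compact,
scheme-theoretically dense open of the target is an open immersion. -/
theorem result {X S : Scheme.{u}} (f : X ⟶ S) [IsSeparated f] [LocallyOfFiniteType f] [Flat f] (U : S.Opens)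
    [QuasiCompact U.ι] [IsSchemeTheoreticallyDominant U.ι] [IsIso (f ∣_ U)] : IsOpenImmersion f := by
  -- `f` is a monomorphism
  have hmono : Mono f := by
    have hP : pullback.fst f f = pullback.snd f f := by
      refine Groth.Agent.Lib.SchDense.Basic.ext_of_std f pullback.condition
        (pullback.fst (pullback.fst f f ≫ f) U.ι) ?_
      let d := pullback.fst (pullback.fst f f ≫ f) U.ι
      have lift : ∀ m : pullback f f ⟶ X, m ≫ f = pullback.fst f f ≫ f →
          ∃ u : pullback (pullback.fst f f ≫ f) U.ι ⟶ (f ⁻¹ᵁ U).toScheme,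
            u ≫ (f ⁻¹ᵁ U).ι = d ≫ m ∧ u ≫ (f ∣_ U) = pullback.snd _ _ := by
        intro m hm
        have hu : (d ≫ m) ≫ f = pullback.snd _ _ ≫ U.ι := by
          rw [Category.assoc]
          exact (congrArg (d ≫ ·) hm).trans pullback.condition
        refine ⟨(isPullback_morphismRestrict f U).lift (pullback.snd _ _) (d ≫ m) hu.symm,
          IsPullback.lift_snd _ _ _ _, IsPullback.lift_fst _ _ _ _⟩
      obtain ⟨u₁, h₁, h₁'⟩ := lift _ rfl
      obtain ⟨u₂, h₂, h₂'⟩ := lift _ pullback.condition.symm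
      rw [← h₁, ← h₂, show u₁ = u₂ from (cancel_mono (f ∣_ U)).mp (h₁'.trans h₂'.symm)]
    refine ⟨fun a b hab => ?_⟩
    rw [← pullback.lift_fst a b hab, hP, pullback.lift_snd]
  refine IsOpenImmersion.of_forall_source_exists f f.injective fun x => ?_
  obtain ⟨V, hV, hxV, -⟩ := exists_isAffineOpen_mem_and_subset (x := f x) (U := ⊤) trivial
  obtain ⟨X₁, hX₁, hxX₁, hX₁V⟩ := exists_isAffineOpen_mem_and_subset (x := x) (U := f ⁻¹ᵁ V) hxV
  have : IsAffine X₁.toScheme := hX₁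
  let e := hV.fromSpec
  let f₁ : X₁.toScheme ⟶ Spec Γ(S, V) := f.resLE V X₁ hX₁V ≫ hV.isoSpec.hom
  have he : f₁ ≫ e = X₁.ι ≫ f := by
    simp [f₁, e]
  have : Flat (f.resLE V X₁ hX₁V) := by
    unfold Scheme.Hom.resLE; infer_instance
  have : LocallyOfFiniteType (f.resLE V X₁ hX₁V) := by
    unfold Scheme.Hom.resLE; infer_instance
  have : Mono f₁ := by
    have : Mono (f₁ ≫ e) := by rw [he]; infer_instance
    exact mono_of_mono f₁ e
  have hsq := isPullback_morphismRestrict e U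
  have : QuasiCompact (e ⁻¹ᵁ U).ι := MorphismProperty.of_isPullback hsq inferInstance
  have : CompactSpace (e ⁻¹ᵁ U).toScheme :=
    QuasiCompact.compactSpace_of_compactSpace (e ⁻¹ᵁ U).ι
  have : IsSchemeTheoreticallyDominant (e ⁻¹ᵁ U).ι :=
    IsSchemeTheoreticallyDominant.of_isPullback hsq
  have : IsOpenImmersion (f₁ ∣_ e ⁻¹ᵁ U) := by
    let m := (f₁ ⁻¹ᵁ (e ⁻¹ᵁ U)).ι ≫ X₁.ι
    have hm : Set.range m ⊆ Set.range (f ⁻¹ᵁ U).ι := by
      rintro _ ⟨z, rfl⟩
      rw [Scheme.Opens.range_ι]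
      show (m ≫ f) z ∈ U
      rw [Category.assoc, ← he, Scheme.Hom.comp_apply, Scheme.Hom.comp_apply]
      exact z.2
    have : IsOpenImmersion (IsOpenImmersion.lift (f ⁻¹ᵁ U).ι m hm ≫ (f ⁻¹ᵁ U).ι) := by
      rw [IsOpenImmersion.lift_fac]; infer_instance
    have := IsOpenImmersion.of_comp (IsOpenImmersion.lift (f ⁻¹ᵁ U).ι m hm) (f ⁻¹ᵁ U).ι
    have : IsOpenImmersion (((f₁ ∣_ e ⁻¹ᵁ U) ≫ (e ⁻¹ᵁ U).ι) ≫ e) := by
      rw [morphismRestrict_ι, Category.assoc, he, ← Category.assoc,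
        show (f₁ ⁻¹ᵁ (e ⁻¹ᵁ U)).ι ≫ X₁.ι = IsOpenImmersion.lift (f ⁻¹ᵁ U).ι m hm ≫ (f ⁻¹ᵁ U).ι
          from (IsOpenImmersion.lift_fac _ _ _).symm, Category.assoc, ← morphismRestrict_ι]
      infer_instance
    rw [Category.assoc] at this
    exact IsOpenImmersion.of_comp _ ((e ⁻¹ᵁ U).ι ≫ e)
  obtain ⟨W, hxW, hW⟩ := Groth.Agent.H56.FlatMono.exists_open_affine f₁ (e ⁻¹ᵁ U)
    (isCompact_iff_compactSpace.mpr ‹CompactSpace (e ⁻¹ᵁ U).toScheme›) ⟨x, hxX₁⟩
  refine ⟨_, W.ι ≫ X₁.ι, inferInstance, ⟨⟨⟨x, hxX₁⟩, hxW⟩, rfl⟩, ?_⟩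
  rw [Category.assoc, ← he, ← Category.assoc]
  infer_instance

end Groth.Agent.S0449
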