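import Groth.Statements.S0450
import Groth.Agent.Lib.Flat55.FibreDimVal
import Groth.Agent.Lib.Flat55.FlatEquidim

set_option autoImplicit false
universe u
open FlatMor

namespace Groth.Agent.S0450

open AlgebraicGeometry CategoryTheory Limits in
/-- A flat proper morphism locally of finite presentation that is finite over a dense open subset of the
target is finite (the source alternatively allows the open to be retrocompact instead of assuming
finite presentation; only this alternative is stated). -/
theorem result {X S : Scheme.{u}} (f : X ⟶ S) [Flat f] [IsProper f] [LocallyOfFinitePresentation f] (U : S.Opens)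
    (hU : Dense (U : Set ↑S)) [IsFinite (f ∣_ U)] : IsFinite f := by
  have hle : ∀ x : X, FlatMor.fibreDimAt f x ≤ ((0 : ℕ) : WithBot ℕ∞) := by
    refine Groth.Agent.Lib.Flat55.FibreDimVal.fibreDimAt_le_of_dense f U hU _ (fun x hx => ?_)
      (Or.inl ‹_›)
    have h2 := Groth.Agent.H2.FibreDimPullback.fibreDimAt_of_isPullback
      (isPullback_morphismRestrict f U).flip (⟨x, hx⟩ : (f ⁻¹ᵁ U).toScheme)
    rw [show (f ⁻¹ᵁ U).ι (⟨x, hx⟩ : (f ⁻¹ᵁ U).toScheme) = x from rfl] at h2
    rw [← h2]
    exact Groth.Agent.Lib.Flat55.FlatEquidim.fibreDimAt_le_zero (f ∣_ U) _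
  have := Groth.Agent.Lib.Flat55.FlatEquidim.locallyQuasiFinite_of_fibreDimAt_le_zero f hle
  exact IsFinite.of_isProper_of_locallyQuasiFinite f

end Groth.Agent.S0450
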