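import Groth.Statements.S1239
import Groth.Agent.Lib.RG.NearFlat
import Mathlib.LinearAlgebra.TensorProduct.Pi
-- import your own Groth.Agent.* helpers here

set_option autoImplicit false
universe u
open FlatMor

namespace Groth.Agent.S1239

/-- Ring form, X = Spec B, S = Spec A affine; a retrocompact open of Spec A is a finite union of basic
opens: let B be a finitely presented A-algebra and N a finite B-module which is flat over A. Let
f_1, …, f_n be elements of A such that the map from A to the product of the localizations A_{f_i} is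
injective (the open D(f_1) ∪ … ∪ D(f_n) is scheme-theoretically dense). If each localization N_{f_i}
is finitely presented over B_{f_i}, then N is finitely presented over B. -/
theorem result {A B : Type u} [CommRing A] [CommRing B] [Algebra A B] [Algebra.FinitePresentation A B]
    (N : Type u) [AddCommGroup N] [Module B N] [Module A N] [IsScalarTower A B N] [Module.Finite B N] [Module.Flat A N]
    {n : ℕ} (f : Fin n → A)
    (hdense : Function.Injective (RingHom.pi (fun i => algebraMap A (Localization.Away (f i)))))
    (hfp : ∀ i, Module.FinitePresentation (Localization.Away (algebraMap A B (f i)))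
      (LocalizedModule (Submonoid.powers (algebraMap A B (f i))) N)) :
    Module.FinitePresentation B N := by
  classical
  obtain ⟨k, π, hπ⟩ := Module.Finite.exists_fin' B N
  refine Lib.RG.NearFlat.finitePresentation_of_good π hπ fun q hq => ?_
  haveI := hq
  obtain ⟨T, hT, hgen, g₀, hg₀, hflat₀⟩ := Lib.RG.NearFlat.exists_near (R := A) π hπ q
    (H19.FlatLocus.Model.flat_localized q.primeCompl (LocalizedModule.mkLinearMap q.primeCompl N))
  let L := Submodule.span B (T : Set (Fin k → B))
  have hU : ∀ i, ∃ U : Finset (Fin k → B), (∀ u ∈ U, π u = 0) ∧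
      ∀ x, π x = 0 → ∃ w ∈ Submonoid.powers (algebraMap A B (f i)), w • x ∈ Submodule.span B (U : Set (Fin k → B)) :=
    fun i => haveI := hfp i; Lib.RG.NearFlat.exists_gen _ π hπ
  choose U hU0 hUgen using hU
  let V := Finset.univ.biUnion U
  have hw : ∀ u ∈ V, ∃ w, w ∉ q ∧ w • u ∈ L := fun u hu => by
    obtain ⟨i, -, hi⟩ := Finset.mem_biUnion.1 hu
    obtain ⟨w, hw, hwu⟩ := hgen u (hU0 i u hi)
    exact ⟨w, hw, hwu⟩
  choose! w hwq hwu using hw
  let g := g₀ * ∏ u ∈ V, w u
  have hgq : g ∉ q := by
    intro h
    rcases hq.mem_or_mem h with h | h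
    · exact hg₀ h
    · obtain ⟨u, hu, hu'⟩ := (Ideal.IsPrime.prod_mem_iff (p := q)).1 h
      exact hwq u hu hu'
  refine ⟨g, hgq, T, hT, fun x hx => ?_⟩
  haveI : Module.Flat A (LocalizedModule (Submonoid.powers g) ((Fin k → B) ⧸ L)) :=
    Lib.RG.OpenFlat.flat_away_of_forall g fun P _ hP => Lib.RG.OpenFlat.flatAt_of_away g₀ P
      (fun h => hP (Ideal.mul_mem_right _ _ h)) hflat₀
  let z : LocalizedModule (Submonoid.powers g) ((Fin k → B) ⧸ L) := LocalizedModule.mk (Submodule.Quotient.mk x) 1
  have hz : ∀ i, ∃ m : ℕ, f i ^ m • z = 0 := fun i => by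
    obtain ⟨_, ⟨m, rfl⟩, hmx⟩ := hUgen i x hx
    refine ⟨m, ?_⟩
    have h1 : g • ((algebraMap A B (f i)) ^ m • x) ∈ L := by
      have : Submodule.span B (U i : Set (Fin k → B)) ≤ L.comap (LinearMap.lsmul B (Fin k → B) g) :=
        Submodule.span_le.2 fun u hu => by
          have huV : u ∈ V := Finset.mem_biUnion.2 ⟨i, Finset.mem_univ i, hu⟩
          obtain ⟨d, hd⟩ : w u ∣ g := dvd_mul_of_dvd_right (Finset.dvd_prod_of_mem w huV) _
          show g • u ∈ L
          rw [hd, mul_comm, mul_smul]
          exact L.smul_mem d (hwu u huV)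
      exact this hmx
    rw [← algebraMap_smul B, map_pow, LocalizedModule.smul'_mk, ← Submodule.Quotient.mk_smul,
      ← LocalizedModule.zero_mk (1 : Submonoid.powers g), LocalizedModule.mk_eq]
    refine ⟨⟨g, Submonoid.mem_powers g⟩, ?_⟩
    simp only [one_smul, smul_zero, Submonoid.smul_def]
    rw [← Submodule.Quotient.mk_smul, Submodule.Quotient.mk_eq_zero]
    exact h1
  have hz0 : z = 0 := by
    let P := ∀ i, Localization.Away (f i)
    let ι : A →ₗ[A] P := LinearMap.pi fun i => Algebra.linearMap A (Localization.Away (f i))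
    have hι : Function.Injective ι := hdense
    have h1 := Module.Flat.lTensor_preserves_injective_linearMap
      (M := LocalizedModule (Submonoid.powers g) ((Fin k → B) ⧸ L)) ι hι
    apply (TensorProduct.rid A (LocalizedModule (Submonoid.powers g) ((Fin k → B) ⧸ L))).symm.injective
    rw [TensorProduct.rid_symm_apply, map_zero]
    apply h1
    rw [LinearMap.lTensor_tmul, map_zero]
    apply (TensorProduct.piRight A A _ fun i => Localization.Away (f i)).injective
    rw [map_zero]
    funext i
    rw [TensorProduct.piRight_apply, TensorProduct.piRightHom_tmul, Pi.zero_apply]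
    show z ⊗ₜ[A] algebraMap A (Localization.Away (f i)) 1 = 0
    obtain ⟨m, hm⟩ := hz i
    obtain ⟨u, hu⟩ := IsLocalization.map_units (Localization.Away (f i))
      (⟨f i ^ m, m, rfl⟩ : Submonoid.powers (f i))
    rw [map_one, ← u.mul_inv, hu, ← Algebra.smul_def, TensorProduct.tmul_smul, TensorProduct.smul_tmul', hm,
      TensorProduct.zero_tmul]
  rw [← LocalizedModule.zero_mk (1 : Submonoid.powers g), LocalizedModule.mk_eq] at hz0
  obtain ⟨⟨_, m, rfl⟩, hc⟩ := hz0
  simp only [one_smul, smul_zero, Submonoid.smul_def] at hc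
  exact ⟨m, by rwa [← Submodule.Quotient.mk_smul, Submodule.Quotient.mk_eq_zero] at hc⟩

end Groth.Agent.S1239
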