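import Groth.Statements.S0451
import Groth.Agent.S1239


set_option autoImplicit false
set_option maxHeartbeats 1000000
set_option linter.all false
universe u
open FlatMor

namespace Groth.Agent.S0451

theorem alg {A B : Type u} [CommRing A] [CommRing B] [Algebra A B] [Algebra.FiniteType A B] [Module.Flat A B]
    {n : ℕ} (f : Fin n → A)
    (hdense : Function.Injective (RingHom.pi (fun i => algebraMap A (Localization.Away (f i)))))
    (hfp : ∀ i, Algebra.FinitePresentation A (Localization.Away (algebraMap A B (f i)))) :
    Algebra.FinitePresentation A B := by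
  classical
  obtain ⟨k, π, hπ⟩ := Algebra.FiniteType.iff_quotient_mvPolynomial''.1 (inferInstance : Algebra.FiniteType A B)
  let P := MvPolynomial (Fin k) A
  letI : Algebra P B := π.toRingHom.toAlgebra
  haveI : IsScalarTower A P B := IsScalarTower.of_algebraMap_eq' π.comp_algebraMap.symm
  haveI : Module.Finite P B := Module.Finite.of_surjective (Algebra.linearMap P B) hπ
  haveI : Module.FinitePresentation P B := by
    refine S1239.result B f hdense fun i => ?_
    let g := algebraMap A P (f i)
    let R := Localization.Away g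
    let Q := Localization.Away (algebraMap A B (f i))
    have hg : algebraMap P B g = algebraMap A B (f i) := (IsScalarTower.algebraMap_apply A P B _).symm
    haveI : IsLocalization (Algebra.algebraMapSubmonoid B (Submonoid.powers g)) Q := by
      rw [Algebra.algebraMapSubmonoid_powers, hg]; infer_instance
    letI : Algebra R Q := localizationAlgebra (Submonoid.powers g) B
    haveI : IsScalarTower P R Q := IsScalarTower.of_algebraMap_eq' (IsLocalization.map_comp _).symm
    haveI : IsScalarTower A R Q := IsScalarTower.to₁₃₄ A P R Q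
    haveI : Algebra.FinitePresentation P R := IsLocalization.Away.finitePresentation g
    haveI : Algebra.FinitePresentation A R := Algebra.FinitePresentation.trans A P R
    haveI : Algebra.FinitePresentation A Q := hfp i
    have hs : Function.Surjective (algebraMap R Q) := by
      intro q
      obtain ⟨⟨b, ⟨_, p, ⟨m, rfl⟩, rfl⟩⟩, hb⟩ :=
        IsLocalization.surj (Algebra.algebraMapSubmonoid B (Submonoid.powers g)) q
      obtain ⟨a, ha⟩ := hπ b
      refine ⟨IsLocalization.mk' R a (⟨g ^ m, m, rfl⟩ : Submonoid.powers g), ?_⟩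
      have h1 : IsUnit (algebraMap R Q (algebraMap P R (g ^ m))) :=
        (IsLocalization.map_units R (⟨g ^ m, m, rfl⟩ : Submonoid.powers g)).map _
      apply h1.mul_right_cancel
      rw [← map_mul, IsLocalization.mk'_spec R a (⟨g ^ m, m, rfl⟩ : Submonoid.powers g), ← IsScalarTower.algebraMap_apply,
        ← IsScalarTower.algebraMap_apply, IsScalarTower.algebraMap_apply P B Q a,
        IsScalarTower.algebraMap_apply P B Q (g ^ m)]
      rw [show algebraMap P B a = b from ha]
      exact hb.symm
    have hk := Algebra.FinitePresentation.ker_fG_of_surjective (IsScalarTower.toAlgHom A R Q) hs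
    haveI hQ : Module.FinitePresentation R Q :=
      Module.finitePresentation_of_surjective (Algebra.linearMap R Q) hs hk
    haveI : IsLocalizedModule (Submonoid.powers g) (IsScalarTower.toAlgHom P B Q).toLinearMap :=
      isLocalizedModule_iff_isLocalization.2 inferInstance
    exact Module.finitePresentation_of_surjective
      ((IsLocalizedModule.linearEquiv (Submonoid.powers g) (IsScalarTower.toAlgHom P B Q).toLinearMap
        (LocalizedModule.mkLinearMap (Submonoid.powers g) B)).extendScalarsOfIsLocalization
          (Submonoid.powers g) R).toLinearMap (LinearEquiv.surjective _) (by rw [LinearEquiv.ker]; exact Submodule.fg_bot)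
  exact Algebra.FinitePresentation.of_surjective (f := π) hπ
    (Module.FinitePresentation.fg_ker (Algebra.linearMap P B) hπ)

open AlgebraicGeometry CategoryTheory Limits in
/-- A flat morphism locally of finite type which is locally of finite presentation over a quasi-compact
scheme-theoretically dense open of the target is locally of finite presentation. -/
theorem result {X S : Scheme.{u}} (f : X ⟶ S) [LocallyOfFiniteType f] [Flat f] (U : S.Opens)
    [QuasiCompact U.ι] [IsSchemeTheoreticallyDominant U.ι] [LocallyOfFinitePresentation (f ∣_ U)] : LocallyOfFinitePresentation f := by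
  rw [HasRingHomProperty.iff_appLE (P := @LocallyOfFinitePresentation)]
  intro W V e
  set φ := (f.appLE W.1 V.1 e).hom with hφ
  have hft : φ.FiniteType := HasRingHomProperty.appLE (P := @LocallyOfFiniteType) f inferInstance W V e
  have hfl : φ.Flat := HasRingHomProperty.appLE (P := @Flat) f inferInstance W V e
  -- cover W ∩ U by basic opens
  have hqc : IsCompact (U.ι ⁻¹ᵁ W.1 : Set (↑U : Scheme.{u})) :=
    QuasiCompact.isCompact_preimage (f := U.ι) _ W.1.2 W.2.isCompact
  have hc : IsCompact ((W.1 ⊓ U : S.Opens) : Set S) := by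
    have := hqc.image U.ι.continuous
    convert this using 1
    ext x
    exact ⟨fun h => ⟨⟨x, h.2⟩, h.1, rfl⟩, fun ⟨y, hy, hyx⟩ => hyx ▸ ⟨hy, y.2⟩⟩
  have hbasis : ∀ x : ((W.1 ⊓ U : S.Opens) : Set S), ∃ a : Γ(S, W.1), S.basicOpen a ≤ U ∧ x.1 ∈ S.basicOpen a :=
    fun x => W.2.exists_basicOpen_le ⟨x.1, x.2.2⟩ x.2.1
  choose a haU hax using hbasis
  obtain ⟨t, ht⟩ := hc.elim_finite_subcover (fun x => (S.basicOpen (a x) : Set S))
    (fun x => (S.basicOpen (a x)).2) (fun x hx => Set.mem_iUnion.2 ⟨⟨x, hx⟩, hax _⟩)
  let F : Fin t.card → Γ(S, W.1) := fun i => a (t.equivFin.symm i).1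
  letI := φ.toAlgebra
  haveI : Algebra.FiniteType Γ(S, W.1) Γ(X, V.1) := hft
  haveI : Module.Flat Γ(S, W.1) Γ(X, V.1) := hfl
  refine alg F ?_ fun i => ?_
  · rw [injective_iff_map_eq_zero]
    intro x hx
    have h1 : ∀ i, x |_ (S.basicOpen (F i)) = 0 := by
      intro i
      haveI := W.2.isLocalization_basicOpen (F i)
      obtain ⟨⟨_, m, rfl⟩, hm⟩ := (IsLocalization.map_eq_zero_iff (Submonoid.powers (F i))
        (Localization.Away (F i)) x).1 (congrFun hx i)
      exact (IsLocalization.map_eq_zero_iff (Submonoid.powers (F i)) Γ(S, S.basicOpen (F i)) x).2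
        ⟨⟨_, m, rfl⟩, hm⟩
    apply U.ι.app_injective W.1
    rw [map_zero, Scheme.Opens.ι_app]
    refine TopCat.Sheaf.eq_of_locally_eq' S.sheaf (fun i => S.basicOpen (F i)) _
      (fun i => homOfLE ?_) ?_ _ 0 fun i => ?_
    · intro y hy
      exact ⟨⟨y, haU _ hy⟩, S.basicOpen_le _ hy, rfl⟩
    · rintro _ ⟨y, hy, rfl⟩
      obtain ⟨z, hz, hz'⟩ := Set.mem_iUnion₂.1 (ht (show y.1 ∈ ((W.1 ⊓ U : S.Opens) : Set S) from ⟨hy, y.2⟩))
      exact TopologicalSpace.Opens.mem_iSup.2 ⟨t.equivFin ⟨z, hz⟩, by simpa [F] using hz'⟩
    · refine Eq.trans ?_ (map_zero _).symm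
      refine Eq.trans ?_ (h1 i)
      exact (TopCat.Presheaf.restrict_restrict _ _ x).trans rfl
  · -- finite presentation over each basic open
    let b := φ (F i)
    have hV'U : X.basicOpen b ≤ f ⁻¹ᵁ U := by
      intro y hy
      have : y ∈ X.basicOpen ((f.app W.1) (F i)) := by
        rw [show b = (f.appLE W.1 V.1 e) (F i) from rfl, Scheme.Hom.appLE, CommRingCat.comp_apply,
          Scheme.basicOpen_res] at hy
        exact hy.2
      rw [← Scheme.preimage_basicOpen] at this
      exact haU _ this
    let g : (X.basicOpen b : Scheme.{u}) ⟶ S := (X.basicOpen b).ι ≫ f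
    haveI : LocallyOfFinitePresentation g := by
      have : g = X.homOfLE hV'U ≫ (f ∣_ U) ≫ U.ι := by
        rw [morphismRestrict_ι, ← Category.assoc, Scheme.homOfLE_ι]
      rw [this]; infer_instance
    haveI : IsAffine (X.basicOpen b : Scheme.{u}) := V.2.basicOpen b
    have e' : (⊤ : (X.basicOpen b : Scheme.{u}).Opens) ≤ g ⁻¹ᵁ W.1 :=
      fun y _ => e (X.basicOpen_le b y.2)
    have h2 := HasRingHomProperty.appLE (P := @LocallyOfFinitePresentation) g inferInstance W ⟨⊤, isAffineOpen_top _⟩ e'
    have hle : X.basicOpen b ≤ f ⁻¹ᵁ W.1 := (X.basicOpen_le b).trans e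
    have key : g.appLE W.1 ⊤ e' = f.appLE W.1 (X.basicOpen b) hle ≫ (X.basicOpen b).topIso.inv := by
      rw [Scheme.Hom.comp_appLE, Scheme.Opens.ι_appLE, Scheme.Hom.appLE, Category.assoc,
        Scheme.Opens.topIso_inv]
      exact congrArg (f.app W.1 ≫ ·) (X.presheaf.map_comp _ _)
    have h3 : (f.appLE W.1 (X.basicOpen b) hle).hom.FinitePresentation := by
      rw [key, CommRingCat.hom_comp] at h2
      have := RingHom.finitePresentation_respectsIso.left _ (X.basicOpen b).topIso.commRingCatIsoToRingEquiv h2
      convert this using 1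
      ext z
      exact ((X.basicOpen b).topIso.commRingCatIsoToRingEquiv.apply_symm_apply _).symm
    haveI := V.2.isLocalization_basicOpen b
    let ε := (IsLocalization.algEquiv (Submonoid.powers b) Γ(X, X.basicOpen b) (Localization.Away b)).toRingEquiv
    have h4 := RingHom.finitePresentation_respectsIso.left _ ε h3
    rw [← RingHom.finitePresentation_algebraMap]
    suffices hh : algebraMap Γ(S, W.1) (Localization.Away b) =
        ε.toRingHom.comp (f.appLE W.1 (X.basicOpen b) hle).hom by exact hh ▸ h4
    refine RingHom.ext fun z => ?_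
    rw [IsScalarTower.algebraMap_apply Γ(S, W.1) Γ(X, V.1) (Localization.Away b), RingHom.comp_apply]
    refine ((IsLocalization.algEquiv (Submonoid.powers b) Γ(X, X.basicOpen b) (Localization.Away b)).commutes _).symm.trans (congrArg _ ?_)
    exact (CommRingCat.comp_apply _ _ z).symm.trans (congrArg (fun q : Γ(S, W.1) ⟶ Γ(X, X.basicOpen b) => q z)
      (Scheme.Hom.appLE_map _ _ _))

end Groth.Agent.S0451
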