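import Groth.Statements.S0457
import Groth.Agent.Lib.ZarCoh.Basic
import Mathlib.Topology.Sheaves.Stalks

set_option autoImplicit false
universe u
open CategoryTheory
open CohTop

namespace Groth.Agent.S0457

open TopologicalSpace Opposite in
/-- On an irreducible space the constant sheaves are flasque. -/
lemma isFlasque_const {X : TopCat.{u}} [IrreducibleSpace X] (A : Type u) [AddCommGroup A] :
    TopCat.Sheaf.IsFlasque (CohTop.const X A) where
  epi {U V} i := by
    rw [AddCommGrpCat.epi_iff_surjective]
    intro s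
    let P : (Opens X)ᵒᵖ ⥤ AddCommGrpCat.{u} := (Functor.const _).obj (AddCommGrpCat.of A)
    let η : P ⟶ (CohTop.const X A).obj := toSheafify (Opens.grothendieckTopology X) P
    have hη : ∀ {W W' : (Opens X)ᵒᵖ} (j : W ⟶ W') (a : A),
        (CohTop.const X A).obj.map j (η.app W a) = η.app W' a := fun {W W'} j a =>
      (congr($(η.naturality j) a)).symm
    rcases Set.eq_empty_or_nonempty (V.unop : Set X) with hV | ⟨x₀, hx₀⟩
    · refine ⟨0, TopCat.Presheaf.section_ext (CohTop.const X A) V.unop _ _ fun x hx => ?_⟩
      exact absurd hx (by simp [← SetLike.mem_coe, hV])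
    have hloc := (TopCat.Presheaf.isLocallySurjective_iff η).1
      (inferInstanceAs (Presheaf.IsLocallySurjective (Opens.grothendieckTopology X)
        (toSheafify (Opens.grothendieckTopology X) P))) V.unop s
    obtain ⟨W₀, hW₀, ⟨a₀, ha₀⟩, hx₀W⟩ := hloc x₀ hx₀
    refine ⟨η.app U a₀, TopCat.Presheaf.section_ext (CohTop.const X A) V.unop _ _ fun x hx => ?_⟩
    obtain ⟨W, hW, ⟨a, ha⟩, hxW⟩ := hloc x hx
    -- the two constants agree
    have hae : a = a₀ := by
      obtain ⟨y, -, hy, hy₀⟩ := (IrreducibleSpace.isIrreducible_univ X).2 W W₀ W.2 W₀.2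
        ⟨x, trivial, hxW⟩ ⟨x₀, trivial, hx₀W⟩
      let W' : Opens X := W ⊓ W₀
      have heq : η.app (op W') a = η.app (op W') a₀ := by
        rw [← hη (homOfLE inf_le_left : W' ⟶ W).op a, ← hη (homOfLE inf_le_right : W' ⟶ W₀).op a₀]
        erw [ha, ha₀]
        change ((CohTop.const X A).obj.map _ ≫ _) s = ((CohTop.const X A).obj.map _ ≫ _) s
        rw [← Functor.map_comp, ← Functor.map_comp]
        rfl
      haveI : Presheaf.IsLocallyInjective (Opens.grothendieckTopology X) η :=
        inferInstanceAs (Presheaf.IsLocallyInjective (Opens.grothendieckTopology X)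
          (toSheafify (Opens.grothendieckTopology X) P))
      obtain ⟨W'', j, hj, hyW''⟩ := Presheaf.equalizerSieve_mem (Opens.grothendieckTopology X) η
        (X := op W') a a₀ heq y ⟨hy, hy₀⟩
      exact hj
    rw [hη]
    rw [← TopCat.Presheaf.germ_res_apply (CohTop.const X A).obj (homOfLE hW) x hxW s,
      ← TopCat.Presheaf.germ_res_apply (CohTop.const X A).obj (homOfLE hW) x hxW (η.app V a₀)]
    congr 1
    rw [hη, ← hae]
    exact ha

/-- If X is an irreducible topological space and A an abelian group, then H^(p+1)(X, A) = 0 for the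
constant sheaf with value A. -/
theorem result {X : TopCat.{u}} [IrreducibleSpace X]
    (A : Type u) [AddCommGroup A] (p : ℕ) : Subsingleton (CohTop.H (CohTop.const X A) (p + 1)) := by
  haveI := isFlasque_const (X := X) A
  exact Lib.ZarCoh.Basic.H_flasque _ p

end Groth.Agent.S0457
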