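import Groth.Statements.S0463
import Groth.Agent.Lib.ZarCoh.Compare

set_option autoImplicit false
universe u
open CategoryTheory
open CohTop

namespace Groth.Agent.S0463

open TopologicalSpace in
/-- For an abelian sheaf F on X and an open U, H^n(U, F) (derived functors of sections over U) is
isomorphic to H^n(U, F|_U) computed on the space U. -/
theorem result {X : TopCat.{u}} (F : CohTop.Ab X) (U : Opens X) (n : ℕ) :
    Nonempty (CohTop.HU F n U ≃+ CohTop.H (CohTop.restr F U) n) := by
  have h := Groth.Agent.Lib.ZarCoh.Compare.restrEquiv (Opens.isOpenEmbedding U) ⊤ n F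
  rw [Opens.isOpenEmbedding_obj_top] at h
  exact ⟨h.trans (Groth.Agent.Lib.ZarCoh.Compare.hTop _ n).symm⟩

end Groth.Agent.S0463
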