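import Groth.Statements.S0466
import Groth.Agent.H30.CechTop

set_option autoImplicit false
universe u
open CategoryTheory
open CohTop

namespace Groth.Agent.S0466

open TopologicalSpace Opposite in
/-- Consider a short exact sequence of abelian sheaves with kernel F, middle term G and quotient H, and
an open U. If every open covering of U admits a refinement on which the first Cech cohomology of F
vanishes, then sections of G over U map onto sections of H over U. -/
theorem result {X : TopCat.{u}}
    (S : CategoryTheory.ShortComplex (CohTop.Ab X)) (hS : S.ShortExact) (U : Opens X)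
    (h : ∀ (ι : Type u) (V : ι → Opens X), iSup V = U →
      ∃ (κ : Type u) (W : κ → Opens X) (r : κ → ι), iSup W = U ∧ (∀ k, W k ≤ V (r k)) ∧
        CategoryTheory.Limits.IsZero (CohTop.cechH S.X₁.obj W 1)) :
    Function.Surjective (S.g.hom.app (op U)) := by
  refine Groth.Agent.Lib.Cech.Criterion.app_surjective_of_exactSucc hS U fun V hV => ?_
  obtain ⟨κ, W, r, hW, hle, hz⟩ := h (U : Set X) (fun x => V x ⊓ U)
    (le_antisymm (iSup_le fun x => inf_le_right)
      fun x hx => TopologicalSpace.Opens.mem_iSup.2 ⟨⟨x, hx⟩, hV _, hx⟩)
  exact ⟨κ, W, hW, fun k => ⟨r k, (hle k).trans inf_le_left⟩,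
    (Groth.Agent.Lib.Cech.Complex.isZero_homology_succ_iff W S.X₁.obj 0).1 hz⟩

end Groth.Agent.S0466
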