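import Groth.Statements.S0471
import Groth.Agent.H52.Profinite

set_option autoImplicit false
universe u
open CategoryTheory
open CohTop

namespace Groth.Agent.S0471

/-- If X is profinite (compact, Hausdorff, totally disconnected), then H^(p+1)(X, F) = 0 for every
abelian sheaf F. -/
theorem result {X : TopCat.{u}} [CompactSpace X] [T2Space X] [TotallyDisconnectedSpace X]
    (F : CohTop.Ab X) (p : ℕ) : Subsingleton (CohTop.H F (p + 1)) := by
  let R := Groth.Agent.H30.RightAcyc.ofRes (CategoryTheory.injectiveResolution F)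
  refine (Groth.Agent.Lib.ZarCoh.Compare.hTop F (p + 1)).toEquiv.subsingleton_congr.2 ⟨fun a b => ?_⟩
  have key : ∀ a, a = (0 : CategoryTheory.Abelian.Ext.{u} (Groth.Agent.Lib.ZarCoh.Basic.Zs.obj (⊤ : TopologicalSpace.Opens X)) F (p + 1)) := by
    intro a
    obtain ⟨s, rfl⟩ := Groth.Agent.H30.TopCoh.toHU_surjective R (p + 1) ⊤ a
    haveI : Epi (R.p p) := (R.shortExact p).epi_g
    exact (Groth.Agent.H30.TopCoh.toHU_succ_eq_zero_iff R p ⊤ s).2 (Groth.Agent.H52.Profinite.surjective_app_top (R.p p) s)
  rw [key a, key b]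

end Groth.Agent.S0471
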