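import Groth.Statements.S0481
import Groth.Agent.Lib.DerCat.DerAdj

set_option autoImplicit false
universe v u
open CategoryTheory
open CohDer

namespace Groth.Agent.S0481

open CategoryTheory.Limits in
theorem aux {A : Type u} [Category.{v} A] [Abelian A] {B : Type u} [Category.{v} B] [Abelian B]
    {u : A ⥤ B} {w : B ⥤ A} [u.Additive] [w.Additive] (adj : w ⊣ u) [PreservesFiniteLimits w]
    [PreservesFiniteColimits w] (I : CochainComplex A ℤ) [I.IsKInjective] {K : CochainComplex B ℤ}
    (f : K ⟶ (u.mapHomologicalComplex (ComplexShape.up ℤ)).obj I) (hK : K.Acyclic) :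
    Nonempty (Homotopy f 0) := by
  let a := Lib.DerCat.DerAdj.adjC adj (ComplexShape.up ℤ)
  have hwK : ((w.mapHomologicalComplex (ComplexShape.up ℤ)).obj K).Acyclic := fun n =>
    (ShortComplex.exact_iff_of_iso (Iso.refl _)).1 ((hK n).map w)
  let h := CochainComplex.IsKInjective.homotopyZero ((a.homEquiv _ _).symm f) hwK
  refine ⟨(Homotopy.ofEq ?_).trans (((u.mapHomotopy h).compLeft (a.unit.app K)).trans
    (Homotopy.ofEq ?_))⟩
  · exact ((a.homEquiv _ _).apply_symm_apply f).symm.trans rfl
  · simp

open CategoryTheory.Limits in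
/-- Let u : A ⥤ B be right adjoint to an exact additive functor w : B ⥤ A between abelian categories.
Then u applied termwise sends K-injective complexes to K-injective complexes. -/
theorem result {A : Type u} [Category.{v} A] [Abelian A]
    {B : Type u} [Category.{v} B] [Abelian B] (u : A ⥤ B) (w : B ⥤ A) (adj : w ⊣ u)
    [u.Additive] [w.Additive] [PreservesFiniteLimits w] [PreservesFiniteColimits w]
    (I : CochainComplex A ℤ) (h : I.IsKInjective) :
    CochainComplex.IsKInjective ((u.mapHomologicalComplex (ComplexShape.up ℤ)).obj I) := by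
  exact ⟨fun f hK => aux adj I f hK⟩

end Groth.Agent.S0481
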