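import Groth.Statements.S0487
import Groth.Agent.Lib.SiteCoh.CohPresheaf
-- import your own Groth.Agent.* helpers here

set_option autoImplicit false
universe u
open CategoryTheory
open CohSite

namespace Groth.Agent.S0487

/-- Let u : D ⥤ C be a continuous functor between small sites (e.g. underlying a morphism of sites f),
with direct image f_* F = F ∘ u; only continuity is used. Then R^i f_* F is isomorphic to the
sheafification of the presheaf V ↦ H^i(u(V), F) (existence of an isomorphism of sheaves). -/
theorem result {C D : Type u} [SmallCategory C] [SmallCategory D]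
    (J : GrothendieckTopology C) (K : GrothendieckTopology D) (u : D ⥤ C) [u.IsContinuous K J]
    (F : Sheaf J AddCommGrpCat.{u}) (i : ℕ) :
    Nonempty ((CohSite.Rpush J K u i).obj F ≅
      (presheafToSheaf K AddCommGrpCat.{u}).obj (u.op ⋙ F.cohomologyPresheaf i)) := by
  let R := injectiveResolution F
  let W : (Cᵒᵖ ⥤ AddCommGrpCat.{u}) ⥤ Sheaf K AddCommGrpCat.{u} :=
    (Functor.whiskeringLeft _ _ _).obj u.op ⋙ presheafToSheaf K AddCommGrpCat.{u}
  have : W.Additive := inferInstanceAs ((Functor.whiskeringLeft _ _ _).obj u.op ⋙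
    presheafToSheaf K AddCommGrpCat.{u}).Additive
  let e : CohSite.push J K u ≅ sheafToPresheaf J AddCommGrpCat.{u} ⋙ W :=
    (Functor.isoWhiskerLeft (CohSite.push J K u)
      (asIso (sheafificationAdjunction K AddCommGrpCat.{u}).counit)).symm
  exact ⟨R.isoRightDerivedObj (CohSite.push J K u) i ≪≫
    (HomologicalComplex.homologyFunctor _ _ i).mapIso
      ((NatIso.mapHomologicalComplex e _).app R.cocomplex) ≪≫
    ((Lib.SiteCoh.CohPresheaf.presheafCx R).sc i).mapHomologyIso W ≪≫
    W.mapIso (@asIso _ _ _ _ _ (Lib.SiteCoh.CohPresheaf.isIso_homologyMap R i))⟩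

end Groth.Agent.S0487
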