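import Groth.Statements.S0490
import Groth.Agent.Lib.DerCat.Orth
import Mathlib.CategoryTheory.Adjunction.Basic

set_option autoImplicit false
universe v u
open CategoryTheory
open CohDer

namespace Groth.Agent.S0490

open CategoryTheory.Pretriangulated Groth.Agent.Lib.DerCat.Orth

open CategoryTheory.Pretriangulated in
/-- Let A be a full triangulated subcategory of a pretriangulated category D (an object property
containing zero, stable under shifts and closed under extensions). The inclusion A → D is a left
adjoint (i.e. has a right adjoint) if and only if every object X of D fits in a distinguished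
triangle A → X → B → A[1] with A in the subcategory and B right orthogonal to it. (The source's
further conclusions about saturation are not asserted.) -/
theorem result {D : Type u} [Category.{v} D] [Preadditive D] [Limits.HasZeroObject D] [HasShift D ℤ]
    [∀ n : ℤ, (shiftFunctor D n).Additive] [Pretriangulated D]
    (P : ObjectProperty D) [P.IsTriangulated] :
    P.ι.IsLeftAdjoint ↔ ∀ X : D, ∃ (A B : D) (f : A ⟶ X) (g : X ⟶ B) (h : B ⟶ (shiftFunctor D (1 : ℤ)).obj A),
      Triangle.mk f g h ∈ distinguishedTriangles ∧ P A ∧ P.rightOrthogonal B := by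
  constructor
  · intro h X
    let adj := Adjunction.ofIsLeftAdjoint P.ι
    obtain ⟨B, g, k, hT⟩ := Pretriangulated.distinguished_cocone_triangle (adj.counit.app X)
    refine ⟨_, B, _, g, k, hT, (P.ι.rightAdjoint.obj X).property, ?_⟩
    refine (rightOrthogonal₃_iff (P := P) _ hT).2 fun A hA => ?_
    let A' : P.FullSubcategory := ⟨A, hA⟩
    have e : (fun u : A ⟶ (P.ι.rightAdjoint.obj X).obj => u ≫ adj.counit.app X) =
        (adj.homEquiv A' X).symm ∘ (fun u => P.fullyFaithfulι.preimage u) := by
      funext u
      simp only [Function.comp_apply, Adjunction.homEquiv_counit]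
      rfl
    change Function.Bijective (fun u : A ⟶ (P.ι.rightAdjoint.obj X).obj => u ≫ adj.counit.app X)
    rw [e]
    exact (adj.homEquiv A' X).symm.bijective.comp (P.fullyFaithfulι.homEquiv (X := A')).symm.bijective
  · intro h
    choose A B f g k hT hA hB using h
    have hloc : ∀ X, IsLocalIsoR P (f X) := fun X => (rightOrthogonal₃_iff (P := P) _ (hT X)).1 (hB X)
    let G : D → P.FullSubcategory := fun X => ⟨A X, hA X⟩
    let e : ∀ (Z : P.FullSubcategory) (X : D), (P.ι.obj Z ⟶ X) ≃ (Z ⟶ G X) := fun Z X =>
      (Equiv.ofBijective _ (hloc X Z.obj Z.property)).symm.trans (P.fullyFaithfulι.homEquiv (X := Z) (Y := G X)).symm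
    refine ⟨_, ⟨Adjunction.adjunctionOfEquivRight e fun Z' Z X a b => ?_⟩⟩
    apply P.fullyFaithfulι.homEquiv.injective
    apply (hloc X Z'.obj Z'.property).1
    simp only [e, Equiv.trans_apply, Equiv.apply_symm_apply]
    erw [Equiv.ofBijective_apply_symm_apply (fun u : Z'.obj ⟶ A X => u ≫ f X) (hloc X Z'.obj Z'.property)]
    simp only [Functor.FullyFaithful.homEquiv_apply, Functor.map_comp]
    erw [Category.assoc]
    congr 1
    exact (Equiv.ofBijective_apply_symm_apply (fun u : Z.obj ⟶ A X => u ≫ f X) (hloc X Z.obj Z.property) b).symm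

end Groth.Agent.S0490
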