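import Groth.Statements.S0491
import Groth.Agent.H52.RingTA
import Groth.Agent.Lib.ExtHH.Basic
import Groth.Agent.Lib.DerivedOX.Grothendieck

set_option autoImplicit false
universe u
open CategoryTheory
open CohSite

namespace Groth.Agent.S0491

open CategoryTheory.Limits in
/-- Sections of a presheaf as maps out of the constant presheaf `ℤ`. -/
noncomputable def constSections {C : Type u} [SmallCategory C] (P : Cᵒᵖ ⥤ AddCommGrpCat.{u}) :
    ((Functor.const Cᵒᵖ).obj (AddCommGrpCat.of (ULift.{u} ℤ)) ⟶ P) ≃ (P ⋙ forget AddCommGrpCat.{u}).sections where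
  toFun a := ⟨fun X => a.app X (ULift.up (1 : ℤ)), fun {X Y} g =>
    (congr($(a.naturality g) (ULift.up (1 : ℤ)))).symm⟩
  invFun s := { app := fun X => AddCommGrpCat.ofHom ((zmultiplesHom _ (s.1 X)).comp AddEquiv.ulift.toAddMonoidHom)
                naturality := fun X Y g => by
                  ext n
                  obtain ⟨n⟩ := n
                  change n • s.1 Y = P.map g (n • s.1 X)
                  refine Eq.trans ?_ (map_zsmul (P.map g).hom n _).symm
                  exact congrArg (n • ·) (s.2 g).symm }
  left_inv a := by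
    ext X n
    obtain ⟨n⟩ := n
    change n • a.app X (ULift.up (1 : ℤ)) = a.app X (ULift.up n)
    rw [← map_zsmul]
    congr 1
    exact ULift.ext _ _ (by simp)
  right_inv s := Subtype.ext (funext fun X => one_zsmul _)

variable {C : Type u} [SmallCategory C] (J : GrothendieckTopology C) (R : Sheaf J RingCat.{u})

open CategoryTheory.Limits in
theorem subsingleton_ext_injective (I : SheafOfModules.{u} R) [Injective I] (n : ℕ) :
    Subsingleton (Abelian.Ext ((constantSheaf J AddCommGrpCat.{u}).obj (AddCommGrpCat.of (ULift.{u} ℤ)))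
      ((SheafOfModules.toSheaf R).obj I) (n + 1)) := by
  let K : Sheaf J (Type u) :=
    ⟨(Functor.const Cᵒᵖ).obj PUnit.{u + 1}, Presheaf.isSheaf_of_isTerminal J Types.isTerminalPUnit⟩
  let α : K.obj ⋙ AddCommGrpCat.free.{u} ≅ (Functor.const Cᵒᵖ).obj (AddCommGrpCat.of (ULift.{u} ℤ)) :=
    NatIso.ofComponents (fun _ => ((FreeAbelianGroup.uniqueEquiv PUnit.{u+1}).trans AddEquiv.ulift.symm).toAddCommGrpIso)
      (fun {X Y} g => by
        change AddCommGrpCat.free.map (𝟙 PUnit.{u+1}) ≫ _ = _ ≫ 𝟙 _
        rw [CategoryTheory.Functor.map_id, Category.id_comp, Category.comp_id])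
  let β := (presheafToSheaf J AddCommGrpCat.{u}).mapIso α
  haveI h := H52.RingTA.isTotallyAcyclic_injective R I K n
  refine ⟨fun x y => ?_⟩
  have key : ∀ z : Abelian.Ext ((constantSheaf J AddCommGrpCat.{u}).obj (AddCommGrpCat.of (ULift.{u} ℤ)))
      ((SheafOfModules.toSheaf R).obj I) (n + 1), z = 0 := fun z => by
    have h1 : (Abelian.Ext.mk₀ β.hom).comp z (zero_add _) = 0 := @Subsingleton.elim _ h _ _
    have h2 := congrArg (fun w => (Abelian.Ext.mk₀ β.inv).comp w (zero_add _)) h1
    simp at h2
    exact h2
  rw [key x, key y]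


/-- For a sheaf of rings O on a small site and an O-module M, the Ext groups Ext^n_O(O, M) in the
category of O-modules (= H^n(C, M) computed with O-module injective resolutions) are isomorphic to
H^n of the underlying abelian sheaf of M (existence of a group isomorphism). The Ext instance on
O-modules is taken as a hypothesis. -/
theorem result {C : Type u} [SmallCategory C] (J : GrothendieckTopology C)
    (R : Sheaf J RingCat.{u}) [HasExt.{u} (SheafOfModules.{u} R)] (M : SheafOfModules.{u} R) (n : ℕ) :
    Nonempty (Abelian.Ext (SheafOfModules.unit R) M n ≃+ Sheaf.H.{u} ((SheafOfModules.toSheaf R).obj M) n) := by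
  haveI := Lib.DerivedOX.Grothendieck.isGrothendieckAbelian_sheafOfModules R
  haveI : EnoughInjectives (SheafOfModules.{u} R) := inferInstance
  let G := SheafOfModules.toSheaf.{u} R
  let A := sheafificationAdjunction J AddCommGrpCat.{u}
  let η : (constantSheaf J AddCommGrpCat.{u}).obj (AddCommGrpCat.of (ULift.{u} ℤ)) ⟶ G.obj (SheafOfModules.unit R) :=
    (A.homEquiv _ _).symm ((constSections _).symm
      ((SheafOfModules.unit R).unitHomEquiv (𝟙 _)))
  have h₀ : ∀ N : SheafOfModules.{u} R, Function.Bijective fun f : SheafOfModules.unit R ⟶ N => η ≫ G.map f := by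
    intro N
    have e : (fun f : SheafOfModules.unit R ⟶ N => η ≫ G.map f) =
        (A.homEquiv _ _).symm ∘ (constSections _).symm ∘ N.unitHomEquiv := by
      funext f
      apply (A.homEquiv _ _).injective
      rw [Function.comp_apply, Function.comp_apply, Equiv.apply_symm_apply]
      refine (Adjunction.homEquiv_naturality_right A η (G.map f)).trans ?_
      rw [show A.homEquiv _ _ η = _ from Equiv.apply_symm_apply _ _]
      apply (constSections _).injective
      rw [Equiv.apply_symm_apply]
      refine Subtype.ext (funext fun X => ?_)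
      exact congrArg (f.val.app X) (one_zsmul _)
    rw [e]
    exact ((A.homEquiv _ _).symm.bijective.comp ((constSections _).symm.bijective.comp N.unitHomEquiv.bijective))
  exact ⟨AddEquiv.ofBijective (Lib.ExtHH.Basic.comp G η M n)
    (Lib.ExtHH.Basic.comp_bijective G η h₀ (fun I hI k => by haveI := hI; exact subsingleton_ext_injective J R I k) M n)⟩

end Groth.Agent.S0491
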