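import Groth.Statements.S0492
import Mathlib.CategoryTheory.Sites.EpiMono
import Mathlib.CategoryTheory.Abelian.Exact
import Mathlib.CategoryTheory.Abelian.FunctorCategory
import Mathlib.CategoryTheory.Preadditive.AdditiveFunctor
import Mathlib.CategoryTheory.Sites.Abelian

set_option autoImplicit false
universe u
open CategoryTheory
open CohSite

namespace Groth.Agent.S0492

open CategoryTheory.Limits in
/-- Part (4), for sheaves of abelian groups: let B be a set of weakly contractible objects of a small
site such that every object admits a covering family by members of B. Then products in the category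
of abelian sheaves are exact (Grothendieck's AB4*). -/
theorem result {C : Type u} [SmallCategory C] (J : GrothendieckTopology C)
    (B : Set C) (hB : ∀ U ∈ B, CohSite.IsWeaklyContractible J U)
    (hcov : ∀ V : C, ∃ (ι : Type u) (U : ι → C) (f : ∀ i, U i ⟶ V), (∀ i, U i ∈ B) ∧ Sieve.ofArrows U f ∈ J V) :
    AB4Star (Sheaf J AddCommGrpCat.{u}) := by
  refine ⟨fun α => ⟨?_⟩⟩
  let L : (Discrete α ⥤ Sheaf J AddCommGrpCat.{u}) ⥤ Sheaf J AddCommGrpCat.{u} := Limits.lim
  haveI : L.PreservesEpimorphisms := by
    constructor
    intro F G φ hφ
    have hlift : ∀ (U : C), U ∈ B → Function.Surjective ((L.map φ).hom.app (Opposite.op U)) := by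
      intro U hU x
      let E : Sheaf J AddCommGrpCat.{u} ⥤ Type u :=
        sheafToPresheaf J AddCommGrpCat.{u} ⋙ (evaluation Cᵒᵖ AddCommGrpCat.{u}).obj (Opposite.op U) ⋙ forget AddCommGrpCat.{u}
      have hj : ∀ j, Function.Surjective ((φ.app j).hom.app (Opposite.op U)) := by
        intro j
        haveI := (Sheaf.isLocallySurjective_iff_epi' (φ := φ.app j)).2 inferInstance
        exact hB U hU _ _ ((sheafCompose J (forget AddCommGrpCat.{u})).map (φ.app j))
          (Sheaf.epi_of_isLocallySurjective' _)
      choose y hy using fun j => hj j ((Limits.limit.π G j).hom.app (Opposite.op U) x)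
      obtain ⟨z, hz, -⟩ := (Limits.Types.isLimit_iff _).1
        ⟨Limits.isLimitOfPreserves E (Limits.limit.isLimit F)⟩ y (fun {i j} f => by
          obtain rfl : i = j := Discrete.ext (Discrete.eq_of_hom f)
          rw [show f = 𝟙 i from Subsingleton.elim _ _, CategoryTheory.Functor.map_id]
          rfl)
      refine ⟨z, ?_⟩
      have hinj := (Limits.Types.isLimit_iff _).1 ⟨Limits.isLimitOfPreserves E (Limits.limit.isLimit G)⟩
        (fun j => E.map (Limits.limit.π G j) x) (fun {i j} f => by
          obtain rfl : i = j := Discrete.ext (Discrete.eq_of_hom f)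
          rw [show f = 𝟙 i from Subsingleton.elim _ _, CategoryTheory.Functor.map_id]
          rfl)
      refine hinj.unique (fun j => ?_) (fun j => rfl)
      have h := ConcreteCategory.congr_hom (E.congr_map (Limits.limMap_π φ j)) z
      rw [CategoryTheory.Functor.map_comp, CategoryTheory.Functor.map_comp] at h
      exact h.trans ((congrArg _ (hz j)).trans (hy j))
    haveI : Sheaf.IsLocallySurjective (L.map φ) := by
      constructor
      intro V k
      obtain ⟨ι, U, f, hUB, hcover⟩ := hcov V
      refine J.superset_covering ?_ hcover
      intro W g hg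
      obtain ⟨W', a, b, hb, rfl⟩ := hg
      obtain ⟨i⟩ := hb
      obtain ⟨x, hx⟩ := hlift _ (hUB i) ((L.obj G).obj.map (f i).op k)
      refine ⟨(L.obj F).obj.map a.op x, ?_⟩
      refine (NatTrans.naturality_apply (L.map φ).hom a.op x).trans ((congrArg _ hx).trans ?_)
      exact (ConcreteCategory.congr_hom ((L.obj G).obj.map_comp (f i).op a.op) k).symm
    infer_instance
  haveI : L.IsRightAdjoint := Limits.constLimAdj.isRightAdjoint
  haveI : L.Additive := L.additive_of_preserves_binary_products
  haveI : L.PreservesHomology := L.preservesHomology_of_preservesEpis_and_kernels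
  exact L.preservesFiniteColimits_of_preservesHomology

end Groth.Agent.S0492
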