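import Groth.Statements.S0495
import Groth.Agent.Lib.Henselian.LocalRing
import Mathlib.RingTheory.KrullDimension.Zero

set_option autoImplicit false
universe u
open Hensel

namespace Groth.Agent.S0495

open Groth.Agent.Lib.Henselian.Basic Groth.Agent.Lib.Henselian.Etale Groth.Agent.Lib.Henselian.Pair


/-- A local ring whose Krull dimension is zero is henselian. -/
theorem result (R : Type u) [CommRing R] [IsLocalRing R]
    (h : ringKrullDim R = 0) : HenselianLocalRing R := by
  have : Ring.KrullDimLE 0 R := Ring.krullDimLE_iff.mpr (by simp [h])
  have : HenselianRing R (IsLocalRing.maximalIdeal R) :=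
    henselianRing_of_nil fun x hx => Ring.KrullDimLE.isNilpotent_iff_mem_maximalIdeal.mpr hx
  exact Groth.Agent.Lib.Henselian.LocalRing.henselianLocalRing_of_henselianRing

end Groth.Agent.S0495
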