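import Groth.Statements.S0502
import Groth.Agent.Lib.Henselian.EtaleHom

set_option autoImplicit false
universe u
open Hensel

namespace Groth.Agent.S0502

open Polynomial

/-- A local ring `R` is henselian as soon as every étale `R`-algebra having a prime over the maximal
ideal with trivial residue field extension admits an `R`-algebra retraction to `R`. -/
theorem result (R : Type u) [CommRing R] [IsLocalRing R]
    (h : ∀ (S : Type u) [CommRing S] [Algebra R S] [Algebra.Etale R S] (q : Ideal S) [q.IsPrime],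
      q.LiesOver (IsLocalRing.maximalIdeal R) → Function.Surjective (algebraMap R q.ResidueField) →
      Nonempty (S →ₐ[R] R)) :
    HenselianLocalRing R := by
  refine { is_henselian := fun f hf a₀ h₁ h₂ => ?_ }
  set m := IsLocalRing.maximalIdeal R
  set q₀ : R[X] := f /ₘ (X - C a₀) with hq₀
  have hfq : C (f.eval a₀) + (X - C a₀) * q₀ = f := by
    rw [hq₀, ← modByMonic_X_sub_C_eq_C_eval]; exact modByMonic_add_div f _
  have hd : f.derivative.eval a₀ = q₀.eval a₀ := by
    conv_lhs => rw [← hfq]
    simp [derivative_mul]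
  let P : StandardEtalePair R :=
    ⟨f, hf, derivative f * q₀, ⟨q₀, 0, 1, by simp⟩⟩
  have hP : P.HasMap (IsLocalRing.residue R a₀) := by
    constructor
    · rw [← IsLocalRing.ResidueField.algebraMap_eq, aeval_algebraMap_apply_eq_algebraMap_eval]
      exact (IsLocalRing.residue_eq_zero_iff _).mpr h₁
    · rw [← IsLocalRing.ResidueField.algebraMap_eq, aeval_algebraMap_apply_eq_algebraMap_eval]
      refine RingHom.isUnit_map _ ?_
      rw [eval_mul, ← hd]
      exact h₂.mul h₂
  let σ := P.lift _ hP
  have hσ : Function.Surjective σ := fun y => by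
    obtain ⟨r, rfl⟩ := IsLocalRing.residue_surjective y
    exact ⟨algebraMap R P.Ring r, σ.commutes r⟩
  let q : Ideal P.Ring := RingHom.ker σ
  have hq : q.IsMaximal := RingHom.ker_isMaximal_of_surjective σ hσ
  have hlo : q.LiesOver m := ⟨by
    ext r
    rw [Ideal.under_def, Ideal.mem_comap, RingHom.mem_ker, σ.commutes,
      IsLocalRing.ResidueField.algebraMap_eq, IsLocalRing.residue_eq_zero_iff]⟩
  have hsurj : Function.Surjective (algebraMap R q.ResidueField) := fun y => by
    obtain ⟨z, rfl⟩ := (Ideal.bijective_algebraMap_quotient_residueField q).2 y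
    obtain ⟨x, rfl⟩ := Ideal.Quotient.mk_surjective z
    obtain ⟨r, hr⟩ := IsLocalRing.residue_surjective (σ x)
    refine ⟨r, ?_⟩
    rw [IsScalarTower.algebraMap_apply R (P.Ring ⧸ q) q.ResidueField]
    congr 1
    show Ideal.Quotient.mk q (algebraMap R P.Ring r) = _
    rw [Ideal.Quotient.eq, RingHom.mem_ker, map_sub, σ.commutes, ← hr,
      IsLocalRing.ResidueField.algebraMap_eq, sub_self]
  obtain ⟨τ⟩ := h P.Ring q hlo hsurj
  obtain ⟨hroot, hunit⟩ := P.hasMap_X.map τ
  rw [coe_aeval_eq_eval] at hroot hunit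
  change f.eval (τ P.X) = 0 at hroot
  change IsUnit ((derivative f * q₀).eval (τ P.X)) at hunit
  rw [eval_mul] at hunit
  refine ⟨τ P.X, hroot, ?_⟩
  have h3 : f.eval a₀ + (τ P.X - a₀) * q₀.eval (τ P.X) = 0 := by
    rw [← hroot]
    conv_rhs => rw [← hfq]
    simp
  have h4 : (τ P.X - a₀) * q₀.eval (τ P.X) ∈ m := by
    rw [show (τ P.X - a₀) * q₀.eval (τ P.X) = -f.eval a₀ by linear_combination h3]
    exact m.neg_mem h₁
  exact ((IsLocalRing.maximalIdeal.isMaximal R).isPrime.mem_or_mem h4).resolve_right
    fun h5 => IsLocalRing.mem_maximalIdeal _ |>.mp h5 (isUnit_of_mul_isUnit_right hunit)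

end Groth.Agent.S0502
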