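import Groth.Statements.S0515
import Groth.Agent.Lib.Henselian.Normal

set_option autoImplicit false
universe u
open Hensel

namespace Groth.Agent.S0515

/-- A local ring is an integrally closed domain exactly when its henselization is. -/
theorem result (R : Type u) [CommRing R] [IsLocalRing R] (S : Type u) [CommRing S] [IsLocalRing S]
    [Algebra R S] [IsLocalHom (algebraMap R S)] [Hensel.IsHenselization R S] :
    (IsDomain R ∧ IsIntegrallyClosed R) ↔ (IsDomain S ∧ IsIntegrallyClosed S) := by
  constructor
  · intro ⟨_, _⟩
    have := Groth.Agent.Lib.Henselian.Henselization.faithfullyFlat R (Groth.Agent.Lib.Henselian.Henselization.Henselization R)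
    have : ∀ i : Groth.Agent.Lib.Henselian.Pointed.Pt R (IsLocalRing.ResidueField R), IsLocalRing i.Loc := fun i =>
      RingHom.domain_isLocalRing (i.α : i.Loc →+* IsLocalRing.ResidueField R)
    have : IsDomain (Groth.Agent.Lib.Henselian.Henselization.Henselization R) := Groth.Agent.Lib.Henselian.Normal.isDomain_lim
    have : IsIntegrallyClosed (Groth.Agent.Lib.Henselian.Henselization.Henselization R) := Groth.Agent.Lib.Henselian.Normal.isIntegrallyClosed_lim
    let e := Groth.Agent.Lib.Henselian.Henselization.equivOfIsHenselization R S
    exact ⟨e.symm.injective.isDomain, IsIntegrallyClosed.of_equiv e.toRingEquiv⟩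
  · intro ⟨_, _⟩
    have := Groth.Agent.Lib.Henselian.Henselization.faithfullyFlat R S
    exact Groth.Agent.Lib.Henselian.Normal.isDomain_and_isIntegrallyClosed_of_faithfullyFlat R S

end Groth.Agent.S0515
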