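import Groth.Statements.S0517
import Groth.Agent.Lib.Henselian.EtaleHom

set_option autoImplicit false
universe u
open Hensel

namespace Groth.Agent.S0517

open scoped TensorProduct

/-- Given strictly henselian local rings `R` and `S`, a local ring map `φ` between them, and a square
system of `n` polynomial equations in `n` unknowns over `R` whose quotient algebra is étale over
`R`, applying `φ` coordinatewise matches the solutions of the system in `Rⁿ` bijectively with the
solutions of the transported system in `Sⁿ`. -/
theorem result (R : Type u) [CommRing R]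
    [HenselianLocalRing R] [IsSepClosed (IsLocalRing.ResidueField R)] (S : Type u) [CommRing S]
    [HenselianLocalRing S] [IsSepClosed (IsLocalRing.ResidueField S)] (φ : R →+* S) [IsLocalHom φ] (n : ℕ)
    (P : Fin n → MvPolynomial (Fin n) R)
    [Algebra.Etale R (MvPolynomial (Fin n) R ⧸ Ideal.span (Set.range P))] :
    Set.BijOn (fun r : Fin n → R => φ ∘ r)
      {r : Fin n → R | ∀ i, MvPolynomial.eval r (P i) = 0}
      {s : Fin n → S | ∀ i, MvPolynomial.eval s (MvPolynomial.map φ (P i)) = 0} := by
  classical
  have := Groth.Agent.Lib.Henselian.LocalRing.henselianLocalRing_iff_henselianRing.mp ‹HenselianLocalRing R›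
  let J := Ideal.span (Set.range P)
  let E := MvPolynomial (Fin n) R ⧸ J
  let : Algebra R S := φ.toAlgebra
  let x : Fin n → E := fun i => Ideal.Quotient.mk J (MvPolynomial.X i)
  have hext : ∀ {T : Type u} [CommRing T] [Algebra R T] (α β : E →ₐ[R] T),
      (∀ i, α (x i) = β (x i)) → α = β := fun α β h =>
    Ideal.Quotient.algHom_ext R (MvPolynomial.algHom_ext h)
  have hx : ∀ {T : Type u} [CommRing T] [Algebra R T] (α : E →ₐ[R] T) (i : Fin n),
      MvPolynomial.aeval (fun j => α (x j)) (P i) = 0 := fun α i => by
    rw [show (MvPolynomial.aeval fun j => α (x j)) = α.comp (Ideal.Quotient.mkₐ R J) from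
      MvPolynomial.algHom_ext fun j => by rw [MvPolynomial.aeval_X]; rfl]
    show α (Ideal.Quotient.mk J (P i)) = 0
    rw [Ideal.Quotient.eq_zero_iff_mem.mpr (Ideal.subset_span (Set.mem_range_self i)), map_zero]
  have hlift : ∀ {T : Type u} [CommRing T] [Algebra R T] (t : Fin n → T),
      (∀ i, MvPolynomial.aeval t (P i) = 0) → ∃ α : E →ₐ[R] T, ∀ i, α (x i) = t i := fun t ht =>
    ⟨Ideal.Quotient.liftₐ J (MvPolynomial.aeval t) (fun a ha => by
      refine (Ideal.span_le.mpr ?_ : J ≤ RingHom.ker (MvPolynomial.aeval t)) ha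
      rintro _ ⟨i, rfl⟩; exact ht i), fun i => MvPolynomial.aeval_X t i⟩
  have heval : ∀ (r : Fin n → R) p, MvPolynomial.eval r p = MvPolynomial.aeval r p :=
    fun r p => by rw [MvPolynomial.aeval_def]; rfl
  have heval' : ∀ (s : Fin n → S) p,
      MvPolynomial.eval s (MvPolynomial.map φ p) = MvPolynomial.aeval s p := fun s p => by
    rw [MvPolynomial.eval_map, MvPolynomial.aeval_def]; rfl
  refine ⟨fun r hr i => ?_, fun r hr r' hr' hrr => ?_, fun s hs => ?_⟩
  · obtain ⟨α, hα⟩ := hlift r fun i => (heval r (P i)).symm.trans (hr i)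
    rw [heval']
    have := hx ((Algebra.ofId R S).comp α) i
    simp only [AlgHom.comp_apply, hα] at this
    exact this
  · obtain ⟨α, hα⟩ := hlift r fun i => (heval r (P i)).symm.trans (hr i)
    obtain ⟨β, hβ⟩ := hlift r' fun i => (heval r' (P i)).symm.trans (hr' i)
    have key : (Algebra.ofId R S).comp α = (Algebra.ofId R S).comp β := hext _ _ fun i => by
      simp only [AlgHom.comp_apply, hα, hβ]
      exact congrFun hrr i
    have : IsLocalHom (Algebra.ofId R S).toRingHom := ‹IsLocalHom φ›
    have h2 := Groth.Agent.Lib.Henselian.Etale.algHom_ext_of_isLocalHom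
      (Algebra.ofId R S).toRingHom α β (AlgHom.congr_fun key)
    funext i
    rw [← hα, ← hβ, h2]
  · obtain ⟨γ, hγ⟩ := hlift s fun i => (heval' s (P i)).symm.trans (hs i)
    let k := IsLocalRing.ResidueField R
    let K := IsLocalRing.ResidueField S
    let : Algebra k K := (IsLocalRing.ResidueField.map φ).toAlgebra
    have : IsScalarTower R k K := IsScalarTower.of_algebraMap_eq fun r => rfl
    let γK : E →ₐ[R] K := (IsScalarTower.toAlgHom R S K).comp γ
    let σ : TensorProduct R k E →ₐ[k] K :=
      Algebra.TensorProduct.lift (Algebra.ofId k K) γK fun _ _ => Commute.all _ _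
    have hrat := fun y => Groth.Agent.Lib.Henselian.EtaleHom.mem_range_of_isSepClosed (E := TensorProduct R k E) σ y
    choose c hc using fun i => hrat (1 ⊗ₜ x i)
    have hσx : ∀ i, σ (1 ⊗ₜ x i) = γK (x i) := fun i => by simp [σ]
    obtain ⟨α₀, hα₀⟩ := hlift (T := k) c fun i => by
      apply (algebraMap k K).injective
      rw [map_zero, ← MvPolynomial.aeval_algebraMap_apply,
        show (algebraMap k K ∘ c) = fun j => γK (x j) from
          funext fun j => (hc j).trans (hσx j)]
      exact hx γK i
    obtain ⟨α, hα, -⟩ := Groth.Agent.Lib.Henselian.Etale.existsUnique_algHom_lift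
      (IsLocalRing.maximalIdeal R) (R := R) α₀
    refine ⟨fun i => α (x i), fun i => (heval _ _).trans (hx α i), ?_⟩
    have key : (Algebra.ofId R S).comp α = γ := by
      refine Groth.Agent.Lib.Henselian.Etale.algHom_ext_of_le_jacobson
        (IsLocalRing.maximalIdeal_le_jacobson (R := S) ⊥) _ _ fun e => ?_
      rw [← IsLocalRing.residue_eq_zero_iff, map_sub, sub_eq_zero]
      have : (IsScalarTower.toAlgHom R k K).comp α₀ = γK := hext _ _ fun i => by
        simp only [AlgHom.comp_apply, hα₀]
        exact (hc i).trans (hσx i)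
      show _ = γK e
      rw [← this, ← hα]
      exact (IsLocalRing.ResidueField.map_residue φ (α e)).symm
    funext i
    rw [← hγ i, ← key]
    rfl

end Groth.Agent.S0517
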