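import Groth.Statements.S0520
import Groth.Agent.Lib.Henselian.Pair

set_option autoImplicit false
universe u
open Hensel

namespace Groth.Agent.S0520

open Groth.Agent.Lib.Henselian.Basic Groth.Agent.Lib.Henselian.Etale Groth.Agent.Lib.Henselian.Pair


/-- A ring `A` is Henselian at an ideal `I` in Mathlib's sense (simple roots lift) exactly when `I` lies
in the Jacobson radical and every factorization of the reduction of a monic polynomial into two
comaximal monic factors over `A/I` lifts to a factorization into monic polynomials over `A`. -/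
theorem result (A : Type u) [CommRing A] (I : Ideal A) :
    HenselianRing A I ↔ (I ≤ Ideal.jacobson ⊥ ∧
      ∀ f : Polynomial A, f.Monic → ∀ g₀ h₀ : Polynomial (A ⧸ I), g₀.Monic → h₀.Monic →
        IsCoprime g₀ h₀ → Polynomial.map (Ideal.Quotient.mk I) f = g₀ * h₀ →
        ∃ g h : Polynomial A, g.Monic ∧ h.Monic ∧ f = g * h ∧
          Polynomial.map (Ideal.Quotient.mk I) g = g₀ ∧ Polynomial.map (Ideal.Quotient.mk I) h = h₀) := by
  refine ⟨fun _ => ⟨HenselianRing.jac, fun f hf g₀ h₀ hg hh hc he => ?_⟩, fun ⟨hI, hfac⟩ => ?_⟩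
  · obtain ⟨g, h, h1, h2, -, h3, h4, h5⟩ := exists_monic_factor_lift I hf hg hh hc he
    exact ⟨g, h, h1, h2, h3, h4, h5⟩
  · refine henselianRing_of_weakFactorLift hI fun f hf g₀ h₀ hg hh hc he => ?_
    obtain ⟨g, h, -, -, h3, h4, h5⟩ := hfac f hf g₀ h₀ hg hh hc he
    exact ⟨g, h, h3, h4, h5⟩

end Groth.Agent.S0520
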