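import Groth.Statements.S0524
import Groth.Agent.Lib.Henselian.Etale

set_option autoImplicit false
universe u
open Hensel

namespace Groth.Agent.S0524

open Groth.Agent.Lib.Henselian.Basic Groth.Agent.Lib.Henselian.Etale


/-- (1) iff (5) with the uniqueness complement: `A` is Henselian at `I` exactly when `I` lies in the
Jacobson radical and, for every `n ≥ 1` and every polynomial `p` of degree at most `n` with all
coefficients in `I`, the polynomial `Tⁿ(T-1) + p` has exactly one root congruent to `1` modulo `I`. -/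
theorem result (A : Type u) [CommRing A] (I : Ideal A) :
    HenselianRing A I ↔ (I ≤ Ideal.jacobson ⊥ ∧
      ∀ (n : ℕ), 0 < n → ∀ p : Polynomial A, p.natDegree ≤ n → (∀ i, p.coeff i ∈ I) →
        ∃! α : A, α - 1 ∈ I ∧
          Polynomial.IsRoot (Polynomial.X ^ n * (Polynomial.X - 1) + p) α) := by
  refine ⟨fun _ => ⟨HenselianRing.jac, fun n hn p hp hc => ?_⟩, fun ⟨hI, h⟩ => ?_⟩
  · obtain ⟨α, hα1, hα⟩ := gabberRoot_of_henselianRing I n hn p hp hc
    refine ⟨α, ⟨hα1, hα⟩, fun β ⟨hβ1, hβ⟩ => ?_⟩
    refine root_unique HenselianRing.jac _ hα hβ (by simpa using I.sub_mem hβ1 hα1) ?_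
    rw [← Polynomial.eval₂_at_apply, ← Polynomial.eval_map, ← Polynomial.derivative_map,
      gabber_map_mk n hc, Ideal.Quotient.eq.mpr hα1, map_one]
    simp [Polynomial.derivative_mul]
  · exact henselianRing_of_gabberRoot hI fun n hn p hp hc => (h n hn p hp hc).exists

end Groth.Agent.S0524
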