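import Groth.Statements.S0529
import Groth.Agent.Lib.Henselian.Pair
import Mathlib.Algebra.Group.Pi.Units

set_option autoImplicit false
universe u
open Hensel

namespace Groth.Agent.S0529

open Groth.Agent.Lib.Henselian.Basic Groth.Agent.Lib.Henselian.Etale Groth.Agent.Lib.Henselian.Pair


/-- A product of rings, with the product ideal, is Henselian exactly when every factor is Henselian at
its ideal. -/
theorem result (J : Type u) (A : J → Type u) [∀ j, CommRing (A j)]
    (I : ∀ j, Ideal (A j)) :
    HenselianRing (∀ j, A j) (⨅ j, Ideal.comap (Pi.evalRingHom A j) (I j)) ↔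
      ∀ j, HenselianRing (A j) (I j) := by
  classical
  set I' : Ideal (∀ j, A j) := ⨅ j, Ideal.comap (Pi.evalRingHom A j) (I j) with hI'
  have hmem : ∀ x, x ∈ I' ↔ ∀ j, x j ∈ I j := fun x => by simp [hI', Ideal.mem_iInf]
  constructor
  · intro _ j
    let : Algebra (∀ i, A i) (A j) := (Pi.evalRingHom A j).toAlgebra
    have hsurj : Function.Surjective (algebraMap (∀ i, A i) (A j)) :=
      fun x => ⟨Pi.single j x, Pi.single_eq_same j x⟩
    have : Module.Finite (∀ i, A i) (A j) :=
      Module.Finite.of_surjective (Algebra.linearMap _ _) hsurj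
    have := henselianRing_of_isIntegral I' (A j)
    convert this using 1
    refine le_antisymm (fun x hx => ?_) (Ideal.map_le_iff_le_comap.mpr fun y hy => (hmem y).mp hy j)
    rw [← show algebraMap (∀ i, A i) (A j) (Pi.single j x) = x from Pi.single_eq_same j x]
    refine Ideal.mem_map_of_mem _ ((hmem _).mpr fun i => ?_)
    by_cases hi : i = j
    · subst hi; rwa [Pi.single_eq_same]
    · rw [Pi.single_eq_of_ne hi]; exact zero_mem _
  · intro h
    refine ⟨le_jacobson_bot_of_isUnit_add_one fun x hx => Pi.isUnit_iff.mpr fun j =>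
      isUnit_of_sub_one_mem (h j).jac (by simpa using (hmem x).mp hx j), fun f hf a₀ h₁ h₂ => ?_⟩
    obtain ⟨b, hb⟩ := isUnit_iff_exists_inv.mp h₂
    obtain ⟨b, rfl⟩ := Ideal.Quotient.mk_surjective b
    rw [← map_mul, ← map_one (Ideal.Quotient.mk _), Ideal.Quotient.eq, hmem] at hb
    rw [hmem] at h₁
    have hev : ∀ (g : Polynomial (∀ i, A i)) (x : ∀ i, A i) (j : J),
        Polynomial.eval (x j) (g.map (Pi.evalRingHom A j)) = g.eval x j := fun g x j => by
      rw [Polynomial.eval_map]
      exact Polynomial.eval₂_at_apply (Pi.evalRingHom A j) x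
    have hroot : ∀ j, ∃ a : A j, (f.map (Pi.evalRingHom A j)).IsRoot a ∧ a - a₀ j ∈ I j := fun j => by
      have := h j
      refine HenselianRing.is_henselian _ (hf.map _) (a₀ j) (by rw [hev]; exact h₁ j) ?_
      rw [Polynomial.derivative_map, hev]
      refine IsUnit.of_mul_eq_one (Ideal.Quotient.mk (I j) (b j)) ?_
      rw [← map_mul, ← map_one (Ideal.Quotient.mk (I j)), Ideal.Quotient.eq]
      exact hb j
    choose a ha haI using hroot
    exact ⟨a, funext fun j => (hev f a j).symm.trans (ha j), (hmem _).mpr haI⟩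

end Groth.Agent.S0529
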