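import Groth.Statements.S0530
import Groth.Agent.Lib.Henselian.Pair
import Mathlib.RingTheory.Spectrum.Prime.Topology

set_option autoImplicit false
universe u
open Hensel

namespace Groth.Agent.S0530

open Groth.Agent.Lib.Henselian.Basic Groth.Agent.Lib.Henselian.Etale Groth.Agent.Lib.Henselian.Pair


/-- If `A` is Henselian at `I` and `p` is a prime ideal of `A`, then the spectrum of `A/(p + I)` is
connected. -/
theorem result (A : Type u) [CommRing A] (I : Ideal A) [HenselianRing A I]
    (p : Ideal A) [p.IsPrime] : ConnectedSpace (PrimeSpectrum (A ⧸ p ⊔ I)) := by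
  have : Algebra.IsIntegral A (A ⧸ p) := inferInstance
  have hne : p ⊔ I ≠ ⊤ := by
    intro h
    obtain ⟨x, hx, y, hy, hxy⟩ := Submodule.mem_sup.mp ((Ideal.eq_top_iff_one _).mp h)
    have hu : IsUnit x := by
      rw [← neg_neg x, IsUnit.neg_iff]
      refine isUnit_of_sub_mem (I := I) HenselianRing.jac (isUnit_one.neg) ?_
      rw [show -x - -1 = y by linear_combination -hxy]
      exact hy
    exact Ideal.IsPrime.ne_top inferInstance (Ideal.eq_top_of_isUnit_mem _ hx hu)
  have : Nontrivial (A ⧸ p ⊔ I) := Ideal.Quotient.nontrivial_iff.mpr hne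
  have key : ∀ ε : A ⧸ p ⊔ I, IsIdempotentElem ε → ε = 0 ∨ ε = 1 := by
    intro ε hε
    obtain ⟨a, rfl⟩ := Ideal.Quotient.mk_surjective ε
    have hmem : a * a - a ∈ p ⊔ I := Ideal.Quotient.eq.mp (by rw [map_mul]; exact hε)
    have : Ideal.Quotient.mk p a * Ideal.Quotient.mk p a - Ideal.Quotient.mk p a ∈
        I.map (algebraMap A (A ⧸ p)) := by
      have h := Ideal.mem_map_of_mem (Ideal.Quotient.mk p) hmem
      rwa [Ideal.map_sup, Ideal.map_quotient_self, bot_sup_eq, map_sub, map_mul] at h
    obtain ⟨e, he, heb⟩ := exists_isIdempotentElem_lift I this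
    obtain ⟨e, rfl⟩ := Ideal.Quotient.mk_surjective e
    have h1 : Ideal.Quotient.mk (p ⊔ I) e = Ideal.Quotient.mk (p ⊔ I) a := by
      rw [← map_sub, Ideal.Quotient.algebraMap_eq,
        Ideal.mem_quotient_iff_mem_sup] at heb
      rw [Ideal.Quotient.eq, sup_comm]
      exact heb
    rw [← h1]
    rcases IsIdempotentElem.iff_eq_zero_or_one.mp he with h | h
    · left
      rw [Ideal.Quotient.eq_zero_iff_mem] at h ⊢
      exact Ideal.mem_sup_left h
    · right
      rw [← map_one (Ideal.Quotient.mk p), Ideal.Quotient.eq] at h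
      rw [← map_one (Ideal.Quotient.mk (p ⊔ I)), Ideal.Quotient.eq]
      exact Ideal.mem_sup_left h
  have : PreconnectedSpace (PrimeSpectrum (A ⧸ p ⊔ I)) := by
    rw [preconnectedSpace_iff_clopen]
    intro s hs
    obtain ⟨ε, hε, rfl⟩ := PrimeSpectrum.isClopen_iff.mp hs
    rcases key ε hε with rfl | rfl
    · left; simp
    · right; simp
  exact ⟨inferInstance⟩

end Groth.Agent.S0530
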