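import Groth.Statements.S0531
import Groth.Agent.Lib.Henselian.Pair

set_option autoImplicit false
universe u
open Hensel

namespace Groth.Agent.S0531

open Groth.Agent.Lib.Henselian.Basic Groth.Agent.Lib.Henselian.Etale Groth.Agent.Lib.Henselian.Pair


/-- Every ring has a largest ideal at which it is Henselian. -/
theorem result (A : Type u) [CommRing A] :
    ∃ I : Ideal A, HenselianRing A I ∧ ∀ J : Ideal A, HenselianRing A J → J ≤ I := by
  set 𝒮 := {J : Ideal A | HenselianRing A J}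
  have hbot : (⊥ : Ideal A) ∈ 𝒮 := henselianRing_of_nil fun x hx => by
    rw [Ideal.mem_bot.mp hx]; exact IsNilpotent.zero
  have hdir : DirectedOn (· ≤ ·) 𝒮 := fun J hJ K hK => by
    simp only [𝒮, Set.mem_setOf_eq] at hJ hK
    exact ⟨J ⊔ K, henselianRing_sup J K, le_sup_left, le_sup_right⟩
  have hmem : ∀ x, x ∈ sSup 𝒮 ↔ ∃ J ∈ 𝒮, x ∈ J := fun x =>
    Submodule.mem_sSup_of_directed ⟨⊥, hbot⟩ hdir
  refine ⟨sSup 𝒮, ⟨?_, fun f hf a₀ h₁ h₂ => ?_⟩, fun J hJ => le_sSup hJ⟩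
  · exact sSup_le fun J hJ => HenselianRing.jac (self := hJ)
  · obtain ⟨b, hb⟩ := isUnit_iff_exists_inv.mp h₂
    obtain ⟨b, rfl⟩ := Ideal.Quotient.mk_surjective b
    rw [← map_mul, ← map_one (Ideal.Quotient.mk _), Ideal.Quotient.eq, hmem] at hb
    obtain ⟨J, hJ, hb⟩ := hb
    obtain ⟨K, hK, h₁⟩ := (hmem _).mp h₁
    obtain ⟨L, hL, hJL, hKL⟩ := hdir J hJ K hK
    obtain ⟨a, ha, haL⟩ := HenselianRing.is_henselian (self := hL) f hf a₀ (hKL h₁)
      (IsUnit.of_mul_eq_one (Ideal.Quotient.mk L b) (by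
        rw [← map_mul, ← map_one (Ideal.Quotient.mk L), Ideal.Quotient.eq]; exact hJL hb))
    exact ⟨a, ha, (hmem _).mpr ⟨L, hL, haL⟩⟩

end Groth.Agent.S0531
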