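import Groth.Statements.S0533
import Groth.Agent.Lib.Henselian.EtaleHom

set_option autoImplicit false
universe u
open Hensel

namespace Groth.Agent.S0533

/-- If `A` is Henselian at `I`, base change to `A/I` gives a bijection between `A`-algebra maps of two
finite étale `A`-algebras and `A/I`-algebra maps of their reductions. -/
theorem result (A : Type u) [CommRing A] (I : Ideal A) [HenselianRing A I]
    (B₁ B₂ : Type u) [CommRing B₁] [CommRing B₂] [Algebra A B₁] [Algebra A B₂]
    [Module.Finite A B₁] [Algebra.Etale A B₁] [Module.Finite A B₂] [Algebra.Etale A B₂] :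
    Function.Bijective (fun φ : B₁ →ₐ[A] B₂ =>
      Algebra.TensorProduct.map (AlgHom.id (A ⧸ I) (A ⧸ I)) φ) := Groth.Agent.Lib.Henselian.EtaleHom.bijective_tensorProduct_map I Ideal.Quotient.mk_surjective
    (by rw [Ideal.Quotient.algebraMap_eq, Ideal.mk_ker]) B₁ B₂

end Groth.Agent.S0533
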