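import Groth.Statements.S0540
import Groth.Agent.Lib.Henselian.Permanence

set_option autoImplicit false
universe u
open Hensel

namespace Groth.Agent.S0540

/-- A local ring is Noetherian exactly when its strict henselization is Noetherian. -/
theorem result (R : Type u) [CommRing R] [IsLocalRing R] (S : Type u) [CommRing S] [IsLocalRing S]
    [Algebra R S] [IsLocalHom (algebraMap R S)] [Hensel.IsStrictHenselization R S] :
    IsNoetherianRing R ↔ IsNoetherianRing S := Groth.Agent.Lib.Henselian.Permanence.strict_isNoetherianRing_iff R S

end Groth.Agent.S0540
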