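import Groth.Statements.S0545
import Mathlib
import Groth.Agent.Lib.Adic.Complete

set_option autoImplicit false
universe u
open CAlg

namespace Groth.Agent.S0545

/-- For a Noetherian ring `A` with two ideals `I` and `J`, completeness of `A` along `I` together with
completeness of the quotient `A/I` along the image of `J` forces completeness of `A` along `J`. -/
theorem result (A : Type u) [CommRing A] [IsNoetherianRing A]
    (I J : Ideal A) [IsAdicComplete I A]
    [IsAdicComplete (Ideal.map (Ideal.Quotient.mk I) J) (A ⧸ I)] : IsAdicComplete J A := by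
  classical
  have hI : I ≤ Ideal.jacobson ⊥ := IsAdicComplete.le_jacobson_bot I
  have hJ : J ≤ Ideal.jacobson (⊥ : Ideal A) := by
    intro x hx
    rw [Ideal.mem_jacobson_bot]
    intro y
    have h1 := IsAdicComplete.le_jacobson_bot (R := A ⧸ I) (J.map (Ideal.Quotient.mk I))
      (Ideal.mem_map_of_mem _ hx)
    obtain ⟨v, hv⟩ := Ideal.Quotient.mk_surjective
      (↑((Ideal.mem_jacobson_bot.mp h1 (Ideal.Quotient.mk I y)).unit⁻¹) : A ⧸ I)
    have h2 : (x * y + 1) * v - 1 ∈ I := by
      rw [← Ideal.Quotient.eq, map_mul, map_add, map_mul, map_one, hv]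
      exact IsUnit.mul_val_inv _
    have h3 := Ideal.mem_jacobson_bot.mp (hI h2) 1
    rw [mul_one, sub_add_cancel] at h3
    exact isUnit_of_mul_isUnit_left h3
  haveI hH : IsHausdorff J A := IsHausdorff.of_le_jacobson J A hJ
  refine { toIsHausdorff := hH, prec' := fun f hf => ?_ }
  have hf' : ∀ {m n}, m ≤ n → f m - f n ∈ J ^ m := fun {m n} h => by
    simpa [SModEq.sub_mem] using hf h
  -- limit of a J-adic Cauchy sequence modulo I
  have hquot : ∀ g : ℕ → A, (∀ {m n}, m ≤ n → g m - g n ∈ J ^ m ⊔ I) →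
      ∃ L, ∀ k, g k - L ∈ J ^ k ⊔ I := by
    intro g hg
    obtain ⟨L, hL⟩ := IsPrecomplete.prec (I := J.map (Ideal.Quotient.mk I))
      (M := A ⧸ I) inferInstance (f := fun k => Ideal.Quotient.mk I (g k)) (fun {m n} h => by
        rw [SModEq.sub_mem, smul_eq_mul, Ideal.mul_top, ← Ideal.map_pow, ← map_sub]
        rw [← Ideal.mem_comap, Ideal.comap_map_of_surjective _ Ideal.Quotient.mk_surjective,
          ← RingHom.ker_eq_comap_bot, Ideal.mk_ker]
        exact hg h)
    obtain ⟨L, rfl⟩ := Ideal.Quotient.mk_surjective L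
    refine ⟨L, fun k => ?_⟩
    have := hL k
    rwa [SModEq.sub_mem, smul_eq_mul, Ideal.mul_top, ← Ideal.map_pow, ← map_sub,
      ← Ideal.mem_comap, Ideal.comap_map_of_surjective _ Ideal.Quotient.mk_surjective,
      ← RingHom.ker_eq_comap_bot, Ideal.mk_ker] at this
  -- limits modulo powers of I
  have key : ∀ n, ∃ L, ∀ k, f k - L ∈ J ^ k ⊔ I ^ n := by
    intro n
    induction n with
    | zero => exact ⟨0, fun k => by simp [Ideal.one_eq_top]⟩
    | succ n ih =>
      obtain ⟨L, hL⟩ := ih
      obtain ⟨r, e, he⟩ := Submodule.fg_iff_exists_fin_generating_family.mp (IsNoetherian.noetherian (I ^ n))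
      obtain ⟨c, hc⟩ := Ideal.exists_pow_inf_eq_pow_smul J (I ^ n : Ideal A)
      have hinf : ∀ k, J ^ k ⊓ I ^ n ≤ J ^ (k - c) * I ^ n := by
        intro k
        rcases le_or_gt c k with h | h
        · have := hc k h
          simp only [smul_eq_mul, Ideal.mul_top] at this
          rw [this]
          exact Ideal.mul_mono_right inf_le_right
        · rw [show k - c = 0 by omega, pow_zero, one_mul]; exact inf_le_right
      -- representatives in I^n
      have hrep : ∀ k, ∃ a ∈ I ^ n, f k - L - a ∈ J ^ k := fun k => by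
        obtain ⟨j, hj, a, ha, hja⟩ := Submodule.mem_sup.mp (hL k)
        exact ⟨a, ha, by rwa [← hja, add_sub_cancel_right]⟩
      choose a ha haJ using hrep
      have hb : ∀ k, ∃ b : Fin r → A, (a (k + 1) - a k = ∑ i, b i * e i) ∧ ∀ i, b i ∈ J ^ (k - c) := by
        intro k
        have h1 : a (k + 1) - a k ∈ J ^ k ⊓ I ^ n := by
          refine ⟨(?_ : a (k + 1) - a k ∈ J ^ k), sub_mem (ha _) (ha _)⟩
          have := sub_mem (sub_mem (haJ k) (Ideal.pow_le_pow_right (Nat.le_add_right k 1) (haJ (k + 1))))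
            (hf' (Nat.le_add_right k 1))
          convert this using 1
          ring
        have h2 : a (k + 1) - a k ∈ J ^ (k - c) • Submodule.span A (Set.range e) := by
          rw [he]; exact hinf k h1
        rw [← Ideal.range_finsuppTotal] at h2
        obtain ⟨b, hb⟩ := h2
        rw [Ideal.finsuppTotal_apply_eq_of_fintype] at hb
        exact ⟨fun i => (b i : A), hb.symm, fun i => (b i).2⟩
      choose b hb hbJ using hb
      obtain ⟨b0, hb0⟩ := (Submodule.mem_span_range_iff_exists_fun A).mp (show a 0 ∈ Submodule.span A (Set.range e) from he ▸ ha 0)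
      let g : ℕ → Fin r → A := fun k i => b0 i + ∑ m ∈ Finset.range k, b m i
      have hg : ∀ k, a k = ∑ i, g k i * e i := by
        intro k
        induction k with
        | zero => simpa [g, smul_eq_mul] using hb0.symm
        | succ k ih =>
          rw [← sub_add_cancel (a (k + 1)) (a k), hb, ih, ← Finset.sum_add_distrib]
          refine Finset.sum_congr rfl fun i _ => ?_
          simp only [g, Finset.sum_range_succ]; ring
      have hgc : ∀ i {m m'}, m ≤ m' → g (m + c) i - g (m' + c) i ∈ J ^ m := by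
        intro i m m' h
        induction m', h using Nat.le_induction with
        | base => simp
        | succ m' hm ih =>
          have h2 : g (m' + 1 + c) i = g (m' + c) i + b (m' + c) i := by
            simp only [g, show m' + 1 + c = m' + c + 1 by omega, Finset.sum_range_succ]; ring
          rw [h2, ← sub_sub]
          refine sub_mem ih (Ideal.pow_le_pow_right hm ?_)
          have := hbJ (m' + c) i
          rwa [Nat.add_sub_cancel] at this
      choose l hl using fun i => hquot (fun k => g (k + c) i) (fun h => Ideal.mem_sup_left (hgc i h))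
      refine ⟨L + ∑ i, l i * e i, fun k => ?_⟩
      have h1 : a (k + c) - ∑ i, l i * e i ∈ J ^ k ⊔ I ^ (n + 1) := by
        rw [hg, ← Finset.sum_sub_distrib]
        refine sum_mem fun i _ => ?_
        obtain ⟨j, hj, z, hz, hjz⟩ := Submodule.mem_sup.mp (hl i k)
        rw [← sub_mul, ← hjz, add_mul]
        refine add_mem (Ideal.mem_sup_left (Ideal.mul_mem_right _ _ hj)) (Ideal.mem_sup_right ?_)
        rw [pow_succ']
        exact Ideal.mul_mem_mul hz (he ▸ Submodule.subset_span ⟨i, rfl⟩)
      have h2 := Ideal.mem_sup_left (T := I ^ (n + 1)) (add_mem (hf' (Nat.le_add_right k c))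
        (Ideal.pow_le_pow_right (Nat.le_add_right k c) (haJ (k + c))))
      have := add_mem h1 h2
      convert this using 1
      ring
  choose L hL using key
  have hclosed : ∀ (n : ℕ) (x : A), (∀ k, x ∈ J ^ k ⊔ I ^ n) → x ∈ I ^ n := by
    intro n x hx
    haveI : IsHausdorff J (A ⧸ I ^ n) := IsHausdorff.of_le_jacobson J _ hJ
    rw [← Ideal.Quotient.eq_zero_iff_mem]
    refine IsHausdorff.haus (inferInstance : IsHausdorff J (A ⧸ I ^ n)) _ fun k => ?_
    rw [SModEq.zero, Ideal.smul_top_eq_map]
    obtain ⟨j, hj, z, hz, hjz⟩ := Submodule.mem_sup.mp (hx k)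
    rw [← hjz, map_add, Ideal.Quotient.eq_zero_iff_mem.mpr hz, add_zero]
    exact Ideal.mem_map_of_mem _ hj
  obtain ⟨Lim, hLim⟩ := IsPrecomplete.prec (I := I) (M := A) inferInstance (f := L) (fun {m n} h => by
    rw [SModEq.sub_mem, smul_eq_mul, Ideal.mul_top]
    refine hclosed m _ fun k => ?_
    have h1 := sub_mem (((sup_le_sup_left (Ideal.pow_le_pow_right (I := I) h) (J ^ k) : J ^ k ⊔ I ^ n ≤ J ^ k ⊔ I ^ m) (hL n k))) (hL m k)
    convert h1 using 1
    ring)
  refine ⟨Lim, fun k => ?_⟩
  rw [SModEq.sub_mem, smul_eq_mul, Ideal.mul_top]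
  haveI : IsHausdorff I (A ⧸ J ^ k) := IsHausdorff.of_le_jacobson I _ hI
  rw [← Ideal.Quotient.eq_zero_iff_mem]
  refine IsHausdorff.haus (inferInstance : IsHausdorff I (A ⧸ J ^ k)) _ fun n => ?_
  rw [SModEq.zero, Ideal.smul_top_eq_map]
  have h1 := hLim n
  rw [SModEq.sub_mem, smul_eq_mul, Ideal.mul_top] at h1
  obtain ⟨j, hj, z, hz, hjz⟩ := Submodule.mem_sup.mp (hL n k)
  have : f k - Lim = j + (z + (L n - Lim)) := by rw [← add_assoc, hjz]; ring
  rw [this, map_add, Ideal.Quotient.eq_zero_iff_mem.mpr hj, zero_add]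
  exact Ideal.mem_map_of_mem _ (add_mem hz h1)

end Groth.Agent.S0545
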