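import Groth.Statements.S0550
import Mathlib
import Groth.Agent.Lib.Adic.Complete

set_option autoImplicit false
universe u
open CAlg

namespace Groth.Agent.S0550

open Submodule in
theorem pow_smul_inf_le {R M : Type u} [CommRing R] [IsNoetherianRing R] [AddCommGroup M] [Module R M]
    [Module.Finite R M] (I : Ideal R) (N : Submodule R M) :
    ∃ c : ℕ, ∀ n, I ^ n • (⊤ : Submodule R M) ⊓ N ≤ I ^ (n - c) • N := by
  obtain ⟨c, hc⟩ := Ideal.exists_pow_inf_eq_pow_smul I N
  refine ⟨c, fun n => ?_⟩
  rcases le_or_gt c n with h | h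
  · rw [hc n h]; exact smul_mono_right _ inf_le_right
  · rw [show n - c = 0 by omega, pow_zero, Ideal.one_eq_top, top_smul]; exact inf_le_right

theorem mem_smul_top_finsupp_iff {R α : Type u} [CommRing R] (J : Ideal R) (x : α →₀ R) :
    x ∈ J • (⊤ : Submodule R (α →₀ R)) ↔ ∀ a, x a ∈ J := by
  constructor
  · intro hx a
    induction hx using Submodule.smul_induction_on' with
    | smul r hr y _ => simpa using J.mul_mem_right _ hr
    | add a _ b _ ha hb => simpa using J.add_mem ha hb
  · intro h
    rw [← Finsupp.sum_single x]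
    refine Submodule.sum_mem _ fun a _ => ?_
    rw [show Finsupp.single a (x a) = x a • Finsupp.single a (1 : R) by simp]
    exact Submodule.smul_mem_smul (h a) Submodule.mem_top


/-- Over a Noetherian ring `R` with an ideal `I`, the `I`-adic completion of a free module (on any index
set) is a flat `R`-module. -/
theorem result (R : Type u) [CommRing R] [IsNoetherianRing R]
    (I : Ideal R) (α : Type u) : Module.Flat R (AdicCompletion I (α →₀ R)) := by
  classical
  rw [Module.Flat.iff_forall_isTrivialRelation]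
  intro l f x hfx
  choose X hX using fun i => AdicCompletion.mk_surjective I (α →₀ R) (x i)
  let φ : (Fin l → R) →ₗ[R] R := Fintype.linearCombination R f
  have hφ : ∀ v, φ v = ∑ i, v i * f i := fun v => by simp [φ, Fintype.linearCombination_apply]
  obtain ⟨c₁, hc₁⟩ := pow_smul_inf_le I (LinearMap.range φ)
  obtain ⟨c₂, hc₂⟩ := pow_smul_inf_le I (LinearMap.ker φ)
  obtain ⟨r, s, hs⟩ := Submodule.fg_iff_exists_fin_generating_family.mp
    (IsNoetherian.noetherian (LinearMap.ker φ))
  have hrel : ∀ n a, φ (fun i => (X i).val n a) ∈ I ^ n := by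
    intro n a
    have h := congrArg (fun z => AdicCompletion.eval I (α →₀ R) n z) hfx
    simp only [map_sum, map_smul, map_zero, ← hX, AdicCompletion.eval_apply] at h
    have h' : (Submodule.mkQ (I ^ n • ⊤ : Submodule R (α →₀ R))) (∑ i, f i • (X i).val n) = 0 := by
      rw [map_sum]; simp only [map_smul]; exact h
    rw [Submodule.mkQ_apply, Submodule.Quotient.mk_eq_zero, mem_smul_top_finsupp_iff] at h'
    rw [hφ]
    simpa [mul_comm, Finsupp.finsetSum_apply] using h' a
  have hz : ∀ n a, ∃ w : Fin l → R, φ w = 0 ∧ (∀ i, w i - (X i).val n a ∈ I ^ (n - c₁)) ∧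
      ((∀ i, (X i).val n a = 0) → w = 0) := by
    intro n a
    by_cases h0 : ∀ i, (X i).val n a = 0
    · exact ⟨0, map_zero _, fun i => by simp [h0 i], fun _ => rfl⟩
    · have h1 : φ (fun i => (X i).val n a) ∈ I ^ (n - c₁) • LinearMap.range φ :=
        hc₁ n ⟨by simpa using hrel n a, ⟨_, rfl⟩⟩
      rw [LinearMap.range_eq_map, ← Submodule.map_smul''] at h1
      obtain ⟨z, hz, hzφ⟩ := h1
      refine ⟨(fun i => (X i).val n a) - z, by rw [map_sub, hzφ, sub_self], fun i => ?_,
        fun h => absurd h h0⟩
      simpa using Groth.Agent.Lib.Adic.Complete.mem_of_mem_smul_top_pi hz i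
  choose w hw hwX hw0 using hz
  let c := c₁ + c₂
  have hd0 : ∀ a, ∃ d : Fin r → R, w 0 a = ∑ j, d j • s j ∧ (w 0 a = 0 → d = 0) := by
    intro a
    by_cases h : w 0 a = 0
    · exact ⟨0, by simp [h], fun _ => rfl⟩
    · have : w 0 a ∈ Submodule.span R (Set.range s) := hs ▸ hw 0 a
      obtain ⟨d, hd⟩ := (Submodule.mem_span_range_iff_exists_fun R).mp this
      exact ⟨d, hd.symm, fun h' => absurd h' h⟩
  have hd : ∀ n a, ∃ d : Fin r → R, w (n + 1) a - w n a = ∑ j, d j • s j ∧ (∀ j, d j ∈ I ^ (n - c)) ∧
      (w (n + 1) a - w n a = 0 → d = 0) := by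
    intro n a
    by_cases h : w (n + 1) a - w n a = 0
    · exact ⟨0, by simp [h], fun _ => zero_mem _, fun _ => rfl⟩
    · have hmem : w (n + 1) a - w n a ∈ I ^ (n - c) • Submodule.span R (Set.range s) := by
        rw [hs]
        have hle : I ^ (n - c₁ - c₂) • LinearMap.ker φ ≤ I ^ (n - c) • LinearMap.ker φ := by
          rw [show n - c = n - c₁ - c₂ by omega]
        refine hle (hc₂ (n - c₁) ⟨Groth.Agent.Lib.Adic.Complete.mem_smul_top_pi fun i => ?_,
          by simp [hw]⟩)
        have h3 : (X i).val (n + 1) a - (X i).val n a ∈ I ^ n := by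
          have := (X i).property (Nat.le_succ n)
          rw [SModEq.sub_mem, mem_smul_top_finsupp_iff] at this
          simpa using neg_mem (this a)
        have h1 := Ideal.pow_le_pow_right (by omega : n - c₁ ≤ n + 1 - c₁) (hwX (n + 1) a i)
        have h2 := hwX n a i
        have := add_mem (sub_mem h1 h2) (Ideal.pow_le_pow_right (Nat.sub_le n c₁) h3)
        convert this using 1
        simp only [Pi.sub_apply]; ring
      rw [← Ideal.range_finsuppTotal] at hmem
      obtain ⟨d, hd'⟩ := hmem
      rw [Ideal.finsuppTotal_apply_eq_of_fintype] at hd'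
      exact ⟨fun j => (d j : R), hd'.symm, fun j => (d j).2, fun h' => absurd h' h⟩
  choose d0 hd0 hd0z using hd0
  choose d hd hdI hdz using hd
  let Y : ℕ → Fin r → α → R := fun n j a => d0 a j + ∑ m ∈ Finset.range n, d m a j
  have hY : ∀ n a, w n a = ∑ j, Y n j a • s j := by
    intro n a
    induction n with
    | zero => simpa [Y] using hd0 a
    | succ n ih =>
      rw [← sub_add_cancel (w (n + 1) a) (w n a), hd, ih, ← Finset.sum_add_distrib]
      refine Finset.sum_congr rfl fun j _ => ?_
      simp only [Y, Finset.sum_range_succ, ← add_smul]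
      congr 1; ring
  let supp : ℕ → Finset α := fun n => Finset.univ.biUnion fun i => ((X i).val n).support
  have hsupp : ∀ n a, a ∉ supp n → w n a = 0 := by
    intro n a ha
    refine hw0 n a fun i => ?_
    by_contra h
    exact ha (Finset.mem_biUnion.mpr ⟨i, Finset.mem_univ _, Finsupp.mem_support_iff.mpr h⟩)
  let Yf : ℕ → Fin r → (α →₀ R) := fun n j =>
    Finsupp.onFinset ((Finset.range (n + 1)).biUnion supp) (Y n j) (by
      intro a ha
      by_contra hmem
      apply ha
      have hz' : ∀ m ≤ n, w m a = 0 := fun m hm => hsupp m a fun h =>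
        hmem (Finset.mem_biUnion.mpr ⟨m, Finset.mem_range.mpr (by omega), h⟩)
      simp only [Y, hd0z a (hz' 0 (Nat.zero_le n)), Pi.zero_apply, zero_add]
      refine Finset.sum_eq_zero fun m hm => ?_
      rw [Finset.mem_range] at hm
      rw [hdz m a (by rw [hz' (m + 1) (by omega), hz' m (by omega), sub_self]), Pi.zero_apply])
  have hYc : ∀ n j, Yf (n + c) j ≡ Yf (n + 1 + c) j [SMOD (I ^ n • ⊤ : Submodule R (α →₀ R))] := by
    intro n j
    rw [SModEq.sub_mem, mem_smul_top_finsupp_iff]
    intro a
    have h : Y (n + 1 + c) j a = Y (n + c) j a + d (n + c) a j := by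
      simp only [Y, show n + 1 + c = n + c + 1 by omega, Finset.sum_range_succ]; ring
    simp only [Finsupp.coe_sub, Pi.sub_apply, Yf, Finsupp.onFinset_apply, h, sub_add_cancel_left]
    refine neg_mem ?_
    have := hdI (n + c) a j
    rwa [Nat.add_sub_cancel] at this
  refine ⟨r, fun i j => s j i, fun j => AdicCompletion.mk I _ (AdicCompletion.AdicCauchySequence.mk I _ (fun n => Yf (n + c) j) (fun n => hYc n j)),
    fun i => ?_, fun j => ?_⟩
  · rw [← hX i]
    apply AdicCompletion.ext
    intro n
    simp only [AdicCompletion.val_sum_apply, AdicCompletion.val_smul_apply, AdicCompletion.mk_apply_coe]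
    simp only [← map_smul, ← map_sum]
    rw [Submodule.mkQ_apply, Submodule.mkQ_apply, Submodule.Quotient.eq, mem_smul_top_finsupp_iff]
    intro a
    have h1 : (∑ j, s j i • Yf (n + c) j) a = w (n + c) a i := by
      rw [hY, Finsupp.finsetSum_apply, Finset.sum_apply]
      exact Finset.sum_congr rfl fun j _ => by simp [Yf, mul_comm]
    have h2 : (X i).val n a - (X i).val (n + c) a ∈ I ^ n := by
      have := (X i).property (Nat.le_add_right n c)
      rw [SModEq.sub_mem, mem_smul_top_finsupp_iff] at this
      simpa using this a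
    have h3 := Ideal.pow_le_pow_right (by omega : n ≤ n + c - c₁) (hwX (n + c) a i)
    show ((X i).val n - ∑ j, s j i • (AdicCompletion.AdicCauchySequence.mk I _ (fun n => Yf (n + c) j) (fun n => hYc n j)).val n) a ∈ I ^ n
    rw [Finsupp.coe_sub, Pi.sub_apply]
    rw [show (∑ j, s j i • (AdicCompletion.AdicCauchySequence.mk I _ (fun n => Yf (n + c) j) (fun n => hYc n j)).val n) a = w (n + c) a i from h1]
    have := sub_mem h2 h3
    convert this using 1
    ring
  · have : φ (s j) = 0 := (hs.le (Submodule.subset_span ⟨j, rfl⟩) :)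
    rw [hφ] at this
    simpa [mul_comm] using this

end Groth.Agent.S0550
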