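import Groth.Statements.S0556
import Groth.Agent.Lib.SemiLocalDimOne.KrullAkizuki
import Mathlib.FieldTheory.IntermediateField.Adjoin.Algebra
import Mathlib.RingTheory.Algebraic.Integral
import Mathlib.RingTheory.DedekindDomain.Basic
import Mathlib.LinearAlgebra.Dimension.Finite
import Mathlib.RingTheory.Adjoin.Tower

set_option autoImplicit false
universe u
open CAlg

namespace Groth.Agent.S0556

/-- Any domain `A` sandwiched between a one-dimensional Noetherian domain `R` and a field `L` of finite
degree over the fraction field of `R` is itself Noetherian. -/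
theorem result (R : Type u) [CommRing R]
    [IsDomain R] [IsNoetherianRing R] (hdim : ringKrullDim R = 1) (K L : Type u) [Field K] [Field L]
    [Algebra R K] [IsFractionRing R K] [Algebra K L] [FiniteDimensional K L] [Algebra R L]
    [IsScalarTower R K L] (A : Type u) [CommRing A] [Algebra R A] [Algebra A L]
    [IsScalarTower R A L] (hA : Function.Injective (algebraMap A L)) :
    IsNoetherianRing A := by
  classical
  haveI : Ring.KrullDimLE 1 R := Ring.krullDimLE_iff.2 hdim.le
  haveI : Ring.DimensionLEOne R :=
    ⟨fun {P} h hp => Ring.krullDimLE_one_iff_of_noZeroDivisors.1 ‹_› P h hp⟩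
  haveI : FaithfulSMul R L := (faithfulSMul_iff_algebraMap_injective R L).2 (by
    rw [IsScalarTower.algebraMap_eq R K L]
    exact (algebraMap K L).injective.comp (IsFractionRing.injective R K))
  let T : Set L := Set.range (algebraMap A L)
  obtain ⟨b, hbT, hspan, hli⟩ := exists_linearIndependent K T
  have hbfin : b.Finite := hli.setFinite
  have hint : ∀ x ∈ b, ∃ r : R, r ≠ 0 ∧ IsIntegral R (r • x) := by
    intro x _
    haveI : Algebra.IsAlgebraic K L := Algebra.IsAlgebraic.of_finite K L
    have : IsAlgebraic R x :=
      (IsFractionRing.isAlgebraic_iff R K L).2 (Algebra.IsAlgebraic.isAlgebraic x)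
    exact this.exists_integral_multiple
  choose! r hr hrint using hint
  let s : Set L := (fun x => r x • x) '' b
  let R' : Subalgebra R L := Algebra.adjoin R s
  have hs : ∀ x ∈ s, IsIntegral R x := by rintro _ ⟨x, hx, rfl⟩; exact hrint x hx
  haveI : Module.Finite R R' := Module.Finite.iff_fg.2
    (fg_adjoin_of_finite (hbfin.image _) hs)
  haveI : IsNoetherianRing R' := isNoetherian_of_tower R (isNoetherian_of_isNoetherianRing_of_finite R R')
  haveI : Algebra.IsIntegral R R' := Algebra.IsIntegral.of_finite R R'
  haveI : Ring.DimensionLEOne R' := Ring.DimensionLEOne.of_isIntegral R R'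
  let AL : Subalgebra R L := (IsScalarTower.toAlgHom R A L).range
  have hR'A : R' ≤ AL := by
    refine Algebra.adjoin_le ?_
    rintro _ ⟨x, hx, rfl⟩
    exact AL.smul_mem (show x ∈ AL from hbT hx) _
  let F : IntermediateField K L := IntermediateField.adjoin K T
  have hFspan : ∀ x : L, x ∈ F → x ∈ Submodule.span K T := by
    intro x hx
    have h1 : x ∈ Algebra.adjoin K T :=
      (IntermediateField.adjoin_toSubalgebra_of_isAlgebraic
        (fun y (_ : y ∈ T) => Algebra.IsAlgebraic.isAlgebraic (R := K) y)).le hx
    have h2 : Subalgebra.toSubmodule (Algebra.adjoin K T) = Submodule.span K T := by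
      rw [Algebra.adjoin_eq_span]
      congr 1
      exact le_antisymm ((Submonoid.closure_le (S := MonoidHom.mrange (algebraMap A L).toMonoidHom)).2
        (fun y hy => hy)) Submonoid.subset_closure
    exact h2.le h1
  have hAF : ∀ x ∈ AL, x ∈ F := fun x hx => IntermediateField.subset_adjoin K T hx
  letI : Algebra R' F := (R'.toSubring.subtype.codRestrict F.toSubfield
    (fun x => hAF _ (hR'A x.2))).toAlgebra
  have hval : ∀ x : R', ((algebraMap R' F x : F) : L) = x := fun x => rfl
  haveI : FaithfulSMul R' F := (faithfulSMul_iff_algebraMap_injective R' F).2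
    (fun x y h => Subtype.ext ((congrArg (fun z : F => (z : L)) h) :))
  haveI : IsFractionRing R' F := by
    refine IsFractionRing.of_field R' F fun z => ?_
    have key : ∀ x ∈ Submodule.span K T, ∃ q : R, q ≠ 0 ∧ q • x ∈ R' := by
      intro x hx
      rw [← hspan] at hx
      induction hx using Submodule.span_induction with
      | mem y hy => exact ⟨r y, hr y hy, Algebra.subset_adjoin ⟨y, hy, rfl⟩⟩
      | zero => exact ⟨1, one_ne_zero, by simp⟩
      | add y y' _ _ h h' =>
        obtain ⟨q, hq, hy⟩ := h
        obtain ⟨q', hq', hy'⟩ := h'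
        refine ⟨q * q', mul_ne_zero hq hq', ?_⟩
        rw [smul_add]
        refine R'.add_mem ?_ ?_
        · rw [mul_comm, mul_smul]; exact R'.smul_mem hy q'
        · rw [mul_smul]; exact R'.smul_mem hy' q
      | smul c y _ h =>
        obtain ⟨q, hq, hy⟩ := h
        obtain ⟨⟨m, n⟩, hmn⟩ := IsLocalization.surj (nonZeroDivisors R) c
        refine ⟨n * q, mul_ne_zero (nonZeroDivisors.ne_zero n.2) hq, ?_⟩
        have hc : (n : R) • c = algebraMap R K m := by
          rw [Algebra.smul_def, mul_comm]; exact hmn
        have : ((n : R) * q) • (c • y) = m • (q • y) := by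
          rw [mul_smul, smul_comm q c y, ← smul_assoc (n : R) c (q • y), hc, algebraMap_smul]
        rw [this]
        exact R'.smul_mem hy m
    obtain ⟨q, hq, hqz⟩ := key z (hFspan z z.2)
    refine ⟨⟨q • (z : L), hqz⟩, algebraMap R R' q, ?_⟩
    apply Subtype.ext
    rw [IntermediateField.coe_div, hval, hval]
    have hne : algebraMap R L q ≠ 0 :=
      (map_ne_zero_iff _ (FaithfulSMul.algebraMap_injective R L)).2 hq
    show (z : L) = (q • (z : L)) / algebraMap R L q
    rw [Algebra.smul_def, mul_div_cancel_left₀ _ hne]
  let f : A →+* F := (algebraMap A L).codRestrict F.toSubfield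
    (fun a => hAF _ ⟨a, rfl⟩)
  let A' : Subalgebra R' F :=
    { f.range.toSubsemiring with
      algebraMap_mem' := fun x => by
        obtain ⟨a, ha⟩ := hR'A x.2
        exact ⟨a, Subtype.ext ha⟩ }
  haveI := Groth.Agent.Lib.SemiLocalDimOne.KrullAkizuki.isNoetherianRing_subalgebra A'
  let g : A →+* A' := f.codRestrict A' (fun a => ⟨a, rfl⟩)
  refine isNoetherianRing_of_ringEquiv A' (RingEquiv.ofBijective g ⟨fun a a' h => ?_, ?_⟩).symm
  · exact hA (congrArg (fun x : A' => ((x : F) : L)) h)
  · rintro ⟨x, a, rfl⟩
    exact ⟨a, rfl⟩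

end Groth.Agent.S0556
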