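import Groth.Statements.S0571
import Groth.Agent.Lib.Cohen.LocalN1

set_option autoImplicit false
set_option linter.style.haveILetI false
universe u
open CAlg

namespace Groth.Agent.S0571

/-- A Noetherian domain `R` is N-1 exactly when (a) `R_f` is integrally closed for some nonzero `f`, and
(b) the localization of `R` at every maximal ideal is N-1. -/
theorem result (R : Type u) [CommRing R] [IsDomain R]
    [IsNoetherianRing R] :
    CAlg.IsN1 R ↔ ((∃ f : R, f ≠ 0 ∧ IsIntegrallyClosed (Localization.Away f)) ∧
      ∀ (m : Ideal R) [m.IsMaximal], CAlg.IsN1 (Localization.AtPrime m)) := by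
  refine ⟨fun h => ⟨?_, fun m _ => ?_⟩, fun h => ?_⟩
  · haveI : Module.Finite R (integralClosure R (FractionRing R)) := h
    haveI : IsIntegrallyClosed (integralClosure R (FractionRing R)) :=
      integralClosure.isIntegrallyClosedOfFiniteExtension (FractionRing R)
    haveI : FaithfulSMul R (integralClosure R (FractionRing R)) :=
      (faithfulSMul_iff_algebraMap_injective _ _).2
        fun a b h => IsFractionRing.injective R (FractionRing R) (congrArg Subtype.val h)
    exact Groth.Agent.Lib.Excellent.GenericNormal.genNor_of_finite
      (S := integralClosure R (FractionRing R)) ⟨1, one_ne_zero, isIntegrallyClosed_of_isLocalization _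
        (Submonoid.powers (1 : integralClosure R (FractionRing R)))
        (powers_le_nonZeroDivisors_of_noZeroDivisors one_ne_zero)⟩
  · haveI : IsDomain (Localization.AtPrime m) :=
      IsLocalization.isDomain_localization m.primeCompl_le_nonZeroDivisors
    exact Groth.Agent.H18.N1.isN1_of_isLocalization m.primeCompl h
  · obtain ⟨⟨f, hf, hn⟩, hloc⟩ := h
    exact Groth.Agent.Lib.Cohen.LocalN1.isN1_of_local R hf hn hloc

end Groth.Agent.S0571
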