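import Groth.Statements.S0573
import Groth.Agent.Lib.Cohen.NagataFiniteType
import Groth.Agent.S6333

set_option autoImplicit false
set_option linter.style.haveILetI false
universe u
open CAlg

namespace Groth.Agent.S0573

/-- Stated for finite type rather than essentially finite type algebras: if `R` is a Nagata ring and `S`
a reduced `R`-algebra of finite type, then the integral closure of `R` in `S` is a finitely
generated `R`-module. -/
theorem result (R : Type u) [CommRing R] (hR : CAlg.IsNagata R)
    (S : Type u) [CommRing S] [IsReduced S] [Algebra R S] [Algebra.FiniteType R S] :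
    Module.Finite R (integralClosure R S) := by
  classical
  haveI := hR.1
  haveI : IsNoetherianRing S := Algebra.FiniteType.isNoetherianRing R S
  let ι := {Q : Ideal S // Q ∈ minimalPrimes S}
  haveI : Finite ι := (minimalPrimes.finite_of_isNoetherianRing S).to_subtype
  haveI : Fintype ι := Fintype.ofFinite ι
  haveI hprime : ∀ Q : ι, Q.1.IsPrime := fun Q => Q.2.1.1
  have hfin : ∀ Q : ι, Module.Finite R (integralClosure R Q.1.ResidueField) := by
    intro Q
    let F := Q.1.ResidueField
    let P := RingHom.ker (algebraMap R F)
    haveI : P.IsPrime := RingHom.ker_isPrime _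
    haveI : IsDomain (R ⧸ P) := Ideal.Quotient.isDomain P
    letI : Algebra (R ⧸ P) F := (RingHom.kerLift (algebraMap R F)).toAlgebra
    haveI : IsScalarTower R (R ⧸ P) F := IsScalarTower.of_algebraMap_eq fun _ => rfl
    haveI : FaithfulSMul (R ⧸ P) F :=
      (faithfulSMul_iff_algebraMap_injective _ _).2 (RingHom.kerLift_injective _)
    let κ := FractionRing (R ⧸ P)
    letI : Algebra κ F := FractionRing.liftAlgebra (R ⧸ P) _
    haveI : IsScalarTower R κ F := IsScalarTower.of_algebraMap_eq fun c => by
      rw [IsScalarTower.algebraMap_apply R (R ⧸ P) κ, ← IsScalarTower.algebraMap_apply (R ⧸ P) κ F]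
      rfl
    haveI : Algebra.EssFiniteType κ F := by
      haveI : Algebra.EssFiniteType R F := Algebra.EssFiniteType.comp R S F
      exact Algebra.EssFiniteType.of_comp R κ F
    let E := algebraicClosure κ F
    haveI : FiniteDimensional κ E := Groth.Agent.S6333.result (IntermediateField.fg_top_iff.2 inferInstance)
    haveI : IsScalarTower (R ⧸ P) κ F := IsScalarTower.of_algebraMap_eq fun c =>
      (IsFractionRing.lift_algebraMap (FaithfulSMul.algebraMap_injective (R ⧸ P) F) c).symm
    haveI : IsScalarTower (R ⧸ P) κ E := inferInstance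
    haveI : IsScalarTower (R ⧸ P) E F := IsScalarTower.of_algebraMap_eq fun c => by
      rw [IsScalarTower.algebraMap_apply (R ⧸ P) κ E, ← IsScalarTower.algebraMap_apply κ E F,
        ← IsScalarTower.algebraMap_apply (R ⧸ P) κ F]
    haveI : IsScalarTower R (R ⧸ P) E := IsScalarTower.of_algebraMap_eq fun c => by
      apply Subtype.ext
      change algebraMap E F (algebraMap R E c) = algebraMap E F (algebraMap (R ⧸ P) E (algebraMap R (R ⧸ P) c))
      rw [← IsScalarTower.algebraMap_apply (R ⧸ P) E F, ← IsScalarTower.algebraMap_apply R (R ⧸ P) F]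
      rfl
    haveI := Groth.Agent.Lib.Excellent.Nagata.finite_integralClosure_of_isN2 (hR.2 P) κ E
    haveI : Module.Finite R (integralClosure (R ⧸ P) E) := Module.Finite.trans (R ⧸ P) _
    have hmem : ∀ a : integralClosure R F, (a : F) ∈ E := fun a =>
      mem_algebraicClosure_iff.2 ((a.2.tower_top (A := κ)).isAlgebraic)
    have hint : ∀ a : integralClosure R F, (⟨a.1, hmem a⟩ : E) ∈ integralClosure (R ⧸ P) E := fun a =>
      (isIntegral_algHom_iff (IsScalarTower.toAlgHom (R ⧸ P) E F) Subtype.val_injective).1
        (a.2.tower_top)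
    let f : integralClosure R F →ₗ[R] integralClosure (R ⧸ P) E :=
      { toFun := fun a => ⟨⟨a.1, hmem a⟩, hint a⟩
        map_add' := fun _ _ => rfl
        map_smul' := fun _ _ => rfl }
    exact Module.Finite.of_injective f fun a b h => Subtype.ext (congrArg (fun z => z.1.1) h :)
  haveI := hfin
  let π : ∀ Q : ι, S →ₐ[R] Q.1.ResidueField := fun Q => IsScalarTower.toAlgHom R S Q.1.ResidueField
  let g : integralClosure R S →ₗ[R] ∀ Q : ι, integralClosure R Q.1.ResidueField :=
    LinearMap.pi fun Q => (((π Q).comp (integralClosure R S).val).codRestrict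
      (integralClosure R Q.1.ResidueField) fun a => a.2.map (π Q)).toLinearMap
  refine Module.Finite.of_injective g ((injective_iff_map_eq_zero g).2 fun x hx => ?_)
  have : (x : S) ∈ nilradical S := by
    rw [nilradical, ← Ideal.sInf_minimalPrimes, Submodule.mem_sInf]
    intro Q hQ
    haveI := hprime ⟨Q, hQ⟩
    have h1 : algebraMap S (Ideal.ResidueField Q) x = 0 := congrArg Subtype.val (congrFun hx ⟨Q, hQ⟩)
    exact Ideal.algebraMap_residueField_eq_zero.1 h1
  rw [nilradical_eq_zero] at this
  exact Subtype.ext this

end Groth.Agent.S0573
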