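import Groth.Statements.S0577
import Groth.Agent.Lib.Cohen.NagataUnramified
import Mathlib.RingTheory.AdjoinRoot
import Mathlib.FieldTheory.KummerPolynomial
import Mathlib.RingTheory.Flat.FaithfullyFlat.Algebra
import Mathlib.RingTheory.Polynomial.GaussLemma
import Mathlib.RingTheory.AdicCompletion.AsTensorProduct

set_option autoImplicit false
set_option linter.style.haveILetI false
universe u
open CAlg

namespace Groth.Agent.S0577

/-- Let `A` be a Noetherian local domain of prime characteristic `p` which is a Nagata ring. If `a ∈ A`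
has a `p`-th root in the completion of `A`, then it has a `p`-th root in `A`. -/
theorem result (A : Type u) [CommRing A] [IsDomain A]
    [IsLocalRing A] (hA : CAlg.IsNagata A) (p : ℕ) [Fact p.Prime] [CharP A p] (a : A)
    (h : ∃ α : AdicCompletion (IsLocalRing.maximalIdeal A) A,
      α ^ p = algebraMap A (AdicCompletion (IsLocalRing.maximalIdeal A) A) a) :
    ∃ b : A, b ^ p = a := by
  classical
  haveI := hA.1
  obtain ⟨α, hα⟩ := h
  let C := AdicCompletion (IsLocalRing.maximalIdeal A) A
  let K := FractionRing A
  haveI : Module.FaithfullyFlat A C := Module.FaithfullyFlat.of_flat_of_isLocalHom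
  haveI : Module.Free A A := inferInstance
  have hp : p.Prime := Fact.out
  haveI : CharP C p := charP_of_injective_algebraMap
    (FaithfulSMul.algebraMap_injective A C) p
  by_cases hK : ∃ z : K, z ^ p = algebraMap A K a
  · obtain ⟨z, hz⟩ := hK
    obtain ⟨u, v, hv, rfl⟩ := IsFractionRing.div_surjective A z
    have hv0 : algebraMap A K v ≠ 0 := IsFractionRing.to_map_ne_zero_of_mem_nonZeroDivisors hv
    have huv : u ^ p = a * v ^ p := IsFractionRing.injective A K (by
      rw [map_mul, map_pow, map_pow, ← hz, div_pow, div_mul_cancel₀ _ (pow_ne_zero _ hv0)])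
    have hred : IsReduced C := by
      haveI := Groth.Agent.Lib.Cohen.NagataUnramified.isReduced_tensor_of_isNagata A hA A
      exact isReduced_of_injective (Algebra.TensorProduct.lid A C).symm.toRingEquiv (RingEquiv.injective _)
    have hαu : algebraMap A C u = α * algebraMap A C v := by
      haveI : ExpChar C p := ExpChar.prime hp
      refine frobenius_inj C p ?_
      rw [frobenius_def, frobenius_def, mul_pow, hα, ← map_pow, ← map_pow, huv, map_mul]
    have hmem : u ∈ Ideal.span {v} := by
      rw [← Ideal.comap_map_eq_self_of_faithfullyFlat (B := C) (Ideal.span {v}), Ideal.mem_comap,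
        Ideal.map_span, Set.image_singleton, hαu]
      exact Ideal.mul_mem_left _ _ (Ideal.mem_span_singleton_self _)
    obtain ⟨c, rfl⟩ := Ideal.mem_span_singleton'.1 hmem
    exact ⟨c, mul_right_cancel₀ (pow_ne_zero p (nonZeroDivisors.ne_zero hv)) (by rw [← mul_pow, huv])⟩
  · exfalso
    push Not at hK
    let f : Polynomial A := Polynomial.X ^ p - Polynomial.C a
    have hfm : f.Monic := Polynomial.monic_X_pow_sub_C a hp.ne_zero
    have hirr : Irreducible (f.map (algebraMap A K)) := by
      rw [Polynomial.map_sub, Polynomial.map_pow, Polynomial.map_X, Polynomial.map_C]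
      exact X_pow_sub_C_irreducible_of_prime hp hK
    let B := AdjoinRoot f
    haveI : Module.Finite A B := hfm.finite_adjoinRoot
    let T := TensorProduct A B C
    haveI : IsDomain B := by
      let L := AdjoinRoot (f.map (algebraMap A K))
      haveI : Fact (Irreducible (f.map (algebraMap A K))) := ⟨hirr⟩
      let i : B →+* L := AdjoinRoot.lift ((AdjoinRoot.of _).comp (algebraMap A K)) (AdjoinRoot.root _)
        (by rw [← Polynomial.eval₂_map]; exact AdjoinRoot.eval₂_root _)
      refine (Function.Injective.isDomain i ?_ : IsDomain B)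
      rw [injective_iff_map_eq_zero]
      intro x hx
      obtain ⟨g, rfl⟩ := AdjoinRoot.mk_surjective x
      rw [AdjoinRoot.lift_mk, ← Polynomial.eval₂_map] at hx
      rw [AdjoinRoot.mk_eq_zero]
      have h1 : f.map (algebraMap A K) ∣ g.map (algebraMap A K) := by
        rw [← AdjoinRoot.mk_eq_zero, ← AdjoinRoot.aeval_eq, Polynomial.aeval_def]
        exact hx
      exact Polynomial.map_dvd_map (algebraMap A K) (IsFractionRing.injective A K) hfm |>.1 h1
    haveI := Groth.Agent.Lib.Cohen.NagataUnramified.isReduced_tensor_of_isNagata A hA B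
    let t : T := TensorProduct.tmul A (AdjoinRoot.root f) (1 : C) - TensorProduct.tmul A (1 : B) α
    haveI : Module.Flat A B := by
      haveI : Module.Free A B := Module.Free.of_basis (AdjoinRoot.powerBasis' hfm).basis
      infer_instance
    haveI : Nontrivial T := by
      haveI : Nonempty (Fin (AdjoinRoot.powerBasis' hfm).dim) := ⟨⟨0, (AdjoinRoot.powerBasis' hfm).dim_pos⟩⟩
      haveI : Nontrivial (TensorProduct A C B) :=
        (Algebra.TensorProduct.basis C (AdjoinRoot.powerBasis' hfm).basis).repr.toEquiv.nontrivial
      exact (Algebra.TensorProduct.comm A B C).toEquiv.nontrivial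
    haveI : CharP T p := by
      refine (CharP.charP_iff_prime_eq_zero hp).2 ?_
      rw [← map_natCast (algebraMap A T), CharP.cast_eq_zero, map_zero]
    have ht : t ^ p = 0 := by
      rw [sub_pow_char, Algebra.TensorProduct.tmul_pow, Algebra.TensorProduct.tmul_pow, one_pow, one_pow]
      have hroot : (AdjoinRoot.root f) ^ p = algebraMap A B a := by
        have := AdjoinRoot.eval₂_root f
        simp only [f, Polynomial.eval₂_sub, Polynomial.eval₂_X_pow, Polynomial.eval₂_C, sub_eq_zero] at this
        exact this
      rw [hroot, hα, Algebra.algebraMap_eq_smul_one, TensorProduct.smul_tmul,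
        ← Algebra.algebraMap_eq_smul_one, sub_self]
    have ht0 : t = 0 := eq_zero_of_pow_eq_zero ht
    let pb := AdjoinRoot.powerBasis' hfm
    let bas := (Algebra.TensorProduct.basis C pb.basis)
    have hcomm := congrArg (Algebra.TensorProduct.comm A B C) ht0
    rw [map_sub, map_zero, Algebra.TensorProduct.comm_tmul, Algebra.TensorProduct.comm_tmul, sub_eq_zero] at hcomm
    have hdim : pb.dim = p := by
      change f.natDegree = p
      exact Polynomial.natDegree_X_pow_sub_C
    have h1 : (1 : ℕ) < pb.dim := hdim ▸ hp.one_lt
    have hb1 : bas ⟨1, h1⟩ = TensorProduct.tmul A (1 : C) (AdjoinRoot.root f) := by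
      rw [Algebra.TensorProduct.basis_apply, pb.basis_eq_pow, pow_one, AdjoinRoot.powerBasis'_gen]
    have hb0 : TensorProduct.tmul A α (1 : B) = α • bas ⟨0, h1.trans' Nat.zero_lt_one⟩ := by
      rw [Algebra.TensorProduct.basis_apply, pb.basis_eq_pow, pow_zero, TensorProduct.smul_tmul',
        smul_eq_mul, mul_one]
    rw [← hb1, hb0] at hcomm
    have := congrArg (fun w => bas.repr w ⟨1, h1⟩) hcomm
    simp at this

end Groth.Agent.S0577
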