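import Groth.Statements.S0578
import Groth.Agent.Lib.Cohen.Exists

set_option autoImplicit false
set_option linter.style.haveILetI false
universe u
open CAlg

namespace Groth.Agent.S0578

/-- For every prime `p` and every field `k` of characteristic `p` there is a Cohen ring (a complete
discrete valuation ring with uniformizer `p`) whose residue field is isomorphic to `k`. -/
theorem result (p : ℕ) [Fact p.Prime] (k : Type u) [Field k] [CharP k p] :
    ∃ (Λ : Type u) (_ : CommRing Λ) (_ : IsLocalRing Λ), CAlg.IsCohenRing Λ ∧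
      Nonempty (IsLocalRing.ResidueField Λ ≃+* k) := by
  have hm : IsLocalRing.maximalIdeal k = ⊥ := IsLocalRing.maximalIdeal_eq_bot
  haveI : IsAdicComplete (IsLocalRing.maximalIdeal k) k := by rw [hm]; infer_instance
  obtain ⟨Λ, _, hloc, hΛ, -, f, hf, hsurj⟩ :=
    Groth.Agent.Lib.Cohen.Exists.exists_cohenRing_hom k p (by simp [hm, CharP.cast_eq_zero k p])
  have hker : RingHom.ker f = IsLocalRing.maximalIdeal Λ := by
    ext x
    rw [RingHom.mem_ker, hf, hm, Ideal.mem_bot]
  have hfs : Function.Surjective f := fun z => by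
    obtain ⟨x, hx⟩ := hsurj (IsLocalRing.residue k z)
    exact ⟨x, (IsLocalRing.residue k).injective hx⟩
  exact ⟨Λ, inferInstance, hloc, hΛ,
    ⟨(Ideal.quotEquivOfEq hker.symm).trans (RingHom.quotientKerEquivOfSurjective hfs)⟩⟩

end Groth.Agent.S0578
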