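import Groth.Statements.S0579
import Mathlib.RingTheory.Smooth.AdicCompletion
import Mathlib.RingTheory.Smooth.Field
import Mathlib.RingTheory.Localization.FractionRing

set_option autoImplicit false
universe u
open CAlg

namespace Groth.Agent.S0579

/-- A local ring which is complete with respect to its maximal ideal and whose residue field has
characteristic zero admits a coefficient field: there is a ring homomorphism from the residue field
to the ring which is a section of the residue map. -/
theorem result (R : Type u) [CommRing R] [IsLocalRing R]
    [IsAdicComplete (IsLocalRing.maximalIdeal R) R] [CharZero (IsLocalRing.ResidueField R)] :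
    ∃ s : IsLocalRing.ResidueField R →+* R, (IsLocalRing.residue R).comp s = RingHom.id _ := by
  have hunit : ∀ z : nonZeroDivisors ℤ, IsUnit (Int.castRingHom R (z : ℤ)) := by
    intro z
    by_contra hu
    have h0 : IsLocalRing.residue R (Int.castRingHom R (z : ℤ)) = 0 :=
      (IsLocalRing.residue_eq_zero_iff _).mpr hu
    rw [eq_intCast, map_intCast, Int.cast_eq_zero] at h0
    exact nonZeroDivisors.coe_ne_zero z h0
  letI algR : Algebra ℚ R := (IsLocalization.lift (S := ℚ) hunit).toAlgebra
  have halg : Algebra.FormallySmooth ℚ (IsLocalRing.ResidueField R) := by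
    obtain ⟨ι, v, hv⟩ := exists_isTranscendenceBasis' ℚ (IsLocalRing.ResidueField R)
    have := hv.isAlgebraic_field
    have : Algebra.IsSeparable (IntermediateField.adjoin ℚ (Set.range v)) (IsLocalRing.ResidueField R) :=
      inferInstance
    exact Algebra.FormallySmooth.of_algebraicIndependent_of_isSeparable hv.1
  let f : IsLocalRing.ResidueField R →ₐ[ℚ] R ⧸ IsLocalRing.maximalIdeal R :=
    { RingHom.id (IsLocalRing.ResidueField R) with
      commutes' := fun q => RingHom.congr_fun (Subsingleton.elim
        (algebraMap ℚ (IsLocalRing.ResidueField R)) (algebraMap ℚ (R ⧸ IsLocalRing.maximalIdeal R))) q }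
  obtain ⟨g, hg⟩ := Algebra.FormallySmooth.exists_mkₐ_comp_eq_of_isAdicComplete f
  exact ⟨g.toRingHom, RingHom.ext fun x => congr($hg x)⟩

end Groth.Agent.S0579
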