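import Groth.Statements.S0580
import Groth.Agent.Lib.Cohen.Presentation

set_option autoImplicit false
set_option linter.style.haveILetI false
universe u
open CAlg

namespace Groth.Agent.S0580

/-- A local ring complete with respect to a finitely generated maximal ideal is a quotient of a power
series ring in finitely many variables over a ring which is either a field or a Cohen ring. -/
theorem result (R : Type u) [CommRing R]
    [IsLocalRing R] [IsAdicComplete (IsLocalRing.maximalIdeal R) R]
    (hfg : (IsLocalRing.maximalIdeal R).FG) :
    ∃ (Λ : Type u) (_ : CommRing Λ) (n : ℕ) (f : MvPowerSeries (Fin n) Λ →+* R),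
      (IsField Λ ∨ CAlg.IsCohenRing Λ) ∧ Function.Surjective f := by
  haveI : IsNoetherianRing R := by
    haveI : IsNoetherianRing (R ⧸ IsLocalRing.maximalIdeal R)  := by
      letI := Ideal.Quotient.field (IsLocalRing.maximalIdeal R)
      infer_instance
    exact Groth.Agent.Lib.Adic.Complete.isNoetherianRing_of_fg hfg
  obtain ⟨Λ, _, n, g, hΛ, -, hg⟩ :=
    Groth.Agent.Lib.Cohen.Presentation.exists_surjective_mvPowerSeries R
  exact ⟨Λ, inferInstance, n, g, hΛ, hg⟩

end Groth.Agent.S0580
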