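import Groth.Statements.S0583
import Groth.Agent.Lib.Pure.UI
import Groth.Agent.Lib.Pure.Kaplansky

set_option autoImplicit false
universe u
open scoped Classical
open CAlg
open Groth.Agent.Lib.Pure

namespace Groth.Agent.S0583

/-- If a module is an internal direct sum of countably generated submodules, then any direct summand of
it is again an internal direct sum of countably generated submodules. -/
theorem result (R : Type u) [CommRing R] (M : Type u)
    [AddCommGroup M] [Module R M] (ι : Type u) (N : ι → Submodule R M) (hN : DirectSum.IsInternal N)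
    (hc : ∀ i, CAlg.IsCountablyGenerated R (N i)) (P Q : Submodule R M) (hPQ : IsCompl P Q) :
    ∃ (κ : Type u) (L : κ → Submodule R P), DirectSum.IsInternal L ∧
      ∀ k, CAlg.IsCountablyGenerated R (L k) := by
  obtain ⟨𝓛, h1, h2, h3⟩ := Kaplansky.summand N hN hc (P.projection Q hPQ)
    (fun x => Submodule.projection_apply_left hPQ ⟨_, Submodule.projection_apply_mem hPQ x⟩)
  have hP : sSup 𝓛 = P := by rw [h2, Submodule.range_projection hPQ]
  obtain ⟨h4, h5⟩ := Kaplansky.internal_comap P 𝓛 h1 hP h3
  refine ⟨↥𝓛, fun L => Submodule.comap P.subtype L.1, ?_, h5⟩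
  convert h4

end Groth.Agent.S0583
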