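import Groth.Statements.S0587
import Mathlib.LinearAlgebra.TensorProduct.Pi
import Mathlib.LinearAlgebra.TensorProduct.Finiteness
import Mathlib.RingTheory.Finiteness.Basic

set_option autoImplicit false
universe u
open CAlg

namespace Groth.Agent.S0587

/-- A module `M` is finitely generated exactly when for every family of modules `(Qᵢ)` the natural map
from `M ⊗ ∏ Qᵢ` to `∏ (M ⊗ Qᵢ)` is surjective. -/
theorem result (R : Type u) [CommRing R] (M : Type u)
    [AddCommGroup M] [Module R M] :
    Module.Finite R M ↔ ∀ (ι : Type u) (Q : ι → Type u) [∀ i, AddCommGroup (Q i)]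
      [∀ i, Module R (Q i)], Function.Surjective (TensorProduct.piRightHom R R M Q) := by
  classical
  constructor
  · intro hM ι Q _ _ y
    obtain ⟨n, g, hg⟩ := Module.Finite.exists_fin (R := R) (M := M)
    have key : ∀ i, ∃ q : Fin n → Q i, y i = ∑ k, g k ⊗ₜ[R] q k := by
      intro i
      generalize y i = z
      induction z using TensorProduct.induction_on with
      | zero => exact ⟨0, by simp⟩
      | tmul m q =>
        obtain ⟨c, hc⟩ := (Submodule.mem_span_range_iff_exists_fun R).1
          (hg ▸ Submodule.mem_top : m ∈ Submodule.span R (Set.range g))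
        exact ⟨fun k => c k • q, by rw [← hc, TensorProduct.sum_tmul]; simp [TensorProduct.smul_tmul]⟩
      | add a b ha hb =>
        obtain ⟨p, hp⟩ := ha
        obtain ⟨q, hq⟩ := hb
        exact ⟨p + q, by simp [hp, hq, TensorProduct.tmul_add, Finset.sum_add_distrib]⟩
    choose q hq using key
    refine ⟨∑ k, g k ⊗ₜ[R] (fun i => q i k), funext fun i => ?_⟩
    rw [map_sum, Finset.sum_apply, hq]
    simp
  · intro H
    obtain ⟨z, hz⟩ := H M (fun _ => R) (fun m => m ⊗ₜ[R] (1 : R))
    obtain ⟨S, hS⟩ := TensorProduct.exists_finset z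
    refine ⟨⟨S.image Prod.fst, top_le_iff.1 fun m _ => ?_⟩⟩
    have h := congrArg (TensorProduct.rid R M) (congrFun hz m)
    rw [TensorProduct.rid_tmul, one_smul, hS, map_sum, Finset.sum_apply, map_sum] at h
    rw [← h]
    refine Submodule.sum_mem _ fun p hp => ?_
    simp only [TensorProduct.piRightHom_tmul, TensorProduct.rid_tmul]
    exact Submodule.smul_mem _ _ (Submodule.subset_span (Finset.mem_coe.2 (Finset.mem_image_of_mem _ hp)))

end Groth.Agent.S0587
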