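import Groth.Statements.S0588
import Groth.Agent.S0587
import Mathlib.Algebra.Module.FinitePresentation
import Mathlib.LinearAlgebra.TensorProduct.RightExactness
import Mathlib.LinearAlgebra.TensorProduct.Pi

set_option autoImplicit false
universe u
open CAlg

namespace Groth.Agent.S0588

/-- A module `M` is finitely presented exactly when for every family of modules `(Qᵢ)` the natural map
from `M ⊗ ∏ Qᵢ` to `∏ (M ⊗ Qᵢ)` is bijective. -/
theorem result (R : Type u) [CommRing R] (M : Type u)
    [AddCommGroup M] [Module R M] :
    Module.FinitePresentation R M ↔ ∀ (ι : Type u) (Q : ι → Type u) [∀ i, AddCommGroup (Q i)]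
      [∀ i, Module R (Q i)], Function.Bijective (TensorProduct.piRightHom R R M Q) := by
  classical
  have hcoord : ∀ (n : ℕ) (X : Type u) [AddCommGroup X] [Module R X] (z w : TensorProduct R (Fin n → R) X),
      (∀ k, TensorProduct.lid R X ((LinearMap.proj k).rTensor X z) = TensorProduct.lid R X ((LinearMap.proj k).rTensor X w)) → z = w := by
    intro n X _ _ z w h
    let e := (TensorProduct.comm R (Fin n → R) X).trans (TensorProduct.piScalarRight R R X (Fin n))
    have he : ∀ z k, e z k = TensorProduct.lid R X ((LinearMap.proj k).rTensor X z) := by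
      intro z k
      induction z with
      | zero => simp
      | add a b ha hb => simp only [map_add, Pi.add_apply, ha, hb]
      | tmul v x => simp [e]
    exact e.injective (funext fun k => by rw [he, he, h k])
  constructor
  · intro hfp ι Q _ _
    obtain ⟨n, m, f, g, hf, hfg⟩ := Module.FinitePresentation.exists_fin' R M
    haveI : Module.Finite R M := Module.Finite.of_surjective f hf
    refine ⟨?_, (Groth.Agent.S0587.result R M).mp inferInstance ι Q⟩
    rw [injective_iff_map_eq_zero]
    intro x hx
    obtain ⟨z, rfl⟩ := LinearMap.rTensor_surjective (∀ i, Q i) hf x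
    have hnat : ∀ {A B : Type u} [AddCommGroup A] [Module R A] [AddCommGroup B] [Module R B] (h : A →ₗ[R] B)
        (z : TensorProduct R A (∀ i, Q i)) (i : ι),
        TensorProduct.piRightHom R R B Q (h.rTensor _ z) i = h.rTensor (Q i) (TensorProduct.piRightHom R R A Q z i) := by
      intro A B _ _ _ _ h z i
      induction z with
      | zero => simp
      | add a b ha hb => simp only [map_add, Pi.add_apply, ha, hb]
      | tmul v x => simp
    have hex : ∀ i, ∃ y, g.rTensor (Q i) y = TensorProduct.piRightHom R R (Fin n → R) Q z i := fun i =>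
      (rTensor_exact (Q i) hfg hf _).mp (by rw [← hnat, hx]; rfl)
    choose y hy using hex
    obtain ⟨w, hw⟩ := (Groth.Agent.S0587.result R (Fin m → R)).mp inferInstance ι Q y
    have hzw : z = g.rTensor _ w := by
      refine hcoord n _ _ _ fun k => funext fun i => ?_
      have h1 : ∀ u : TensorProduct R (Fin n → R) (∀ i, Q i), TensorProduct.lid R _ ((LinearMap.proj k).rTensor _ u) i =
          TensorProduct.lid R (Q i) ((LinearMap.proj k).rTensor (Q i) (TensorProduct.piRightHom R R (Fin n → R) Q u i)) := by
        intro u
        induction u with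
        | zero => simp
        | add a b ha hb => simp only [map_add, Pi.add_apply, ha, hb]
        | tmul v x => simp
      rw [h1, h1, hnat, hw, hy]
    rw [hzw, ← LinearMap.rTensor_comp_apply, show f.comp g = 0 from LinearMap.ext hfg.apply_apply_eq_zero,
      LinearMap.rTensor_zero, LinearMap.zero_apply]
  · intro H
    haveI hfin : Module.Finite R M := (Groth.Agent.S0587.result R M).mpr fun ι Q _ _ => (H ι Q).2
    obtain ⟨n, f, hf⟩ := Module.Finite.exists_fin' R M
    refine Module.finitePresentation_of_surjective f hf ?_
    let K := LinearMap.ker f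
    let z : TensorProduct R (Fin n → R) (K → R) := ∑ k, (Pi.single k (1 : R) : Fin n → R) ⊗ₜ[R] (fun x : K => (x : Fin n → R) k)
    have hz : f.rTensor (K → R) z = 0 := by
      refine (H K fun _ => R).1 ?_
      rw [map_zero]
      funext x
      simp only [z, map_sum, LinearMap.rTensor_tmul, Finset.sum_apply, TensorProduct.piRightHom_tmul, Pi.zero_apply]
      refine (TensorProduct.rid R M).injective ?_
      simp only [map_sum, TensorProduct.rid_tmul, map_zero, ← map_smul]
      rw [← map_sum, show (∑ k, (x : Fin n → R) k • (Pi.single k (1 : R) : Fin n → R)) = (x : Fin n → R) from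
        (pi_eq_sum_univ' _).symm]
      exact x.2
    obtain ⟨y, hy⟩ := (rTensor_exact (K → R) (LinearMap.exact_subtype_ker_map f) hf z).mp hz
    obtain ⟨S, hS⟩ := TensorProduct.exists_finset y
    refine ⟨S.image fun p => (p.1 : Fin n → R), le_antisymm (Submodule.span_le.mpr ?_) fun x hx => ?_⟩
    · intro v hv
      obtain ⟨p, -, rfl⟩ := Finset.mem_image.mp (Finset.mem_coe.mp hv)
      exact p.1.2
    · have h := congrArg (fun u => TensorProduct.rid R (Fin n → R) ((LinearMap.proj (⟨x, hx⟩ : K) : (K → R) →ₗ[R] R).lTensor _ u)) hy
      simp only [hS, z, map_sum, LinearMap.rTensor_tmul, LinearMap.lTensor_tmul, TensorProduct.rid_tmul,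
        LinearMap.proj_apply, Submodule.subtype_apply] at h
      rw [show x = ∑ k, x k • (Pi.single k (1 : R) : Fin n → R) from pi_eq_sum_univ' _, ← h]
      exact sum_mem fun p hp => Submodule.smul_mem _ _ (Submodule.subset_span (Finset.mem_coe.mpr (Finset.mem_image_of_mem _ hp)))

end Groth.Agent.S0588
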