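import Groth.Statements.S0589
import Groth.Agent.H80.MLSummand
import Mathlib

set_option autoImplicit false
set_option backward.isDefEq.respectTransparency false
universe u
open scoped Classical
open CAlg

namespace Groth.Agent.S0589

open Groth.Agent.Lib.Pure

theorem exists_step (R : Type u) [CommRing R] [HenselianLocalRing R] (M : Type u) [AddCommGroup M] [Module R M]
    (hc : CAlg.IsCountablyGenerated R M) (hML : CAlg.IsMittagLeffler R M) (P : M →ₗ[R] M) (hP : IsIdempotentElem P) (x : M) :
    ∃ q : M →ₗ[R] M, IsIdempotentElem q ∧ q * P = q ∧ P * q = q ∧ q (P x) = P x ∧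
      Module.FinitePresentation R (LinearMap.range q) := by
  let N := LinearMap.range P
  let π : M →ₗ[R] N := P.rangeRestrict
  have hπ : ∀ n : N, π n = n := fun n => by
    obtain ⟨_, y, rfl⟩ := n
    exact Subtype.ext (LinearMap.congr_fun hP y)
  have hN : CAlg.IsMittagLeffler R N :=
    ML.of_ui N.subtype (UI.of_leftInverse (g := π) (LinearMap.ext hπ)) hML
  have hcN : CAlg.IsCountablyGenerated R N := by
    obtain ⟨s, hs, hspan⟩ := hc
    refine ⟨π '' s, hs.image _, ?_⟩
    rw [← Submodule.map_span, hspan, Submodule.map_top, LinearMap.range_eq_top]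
    exact fun n => ⟨n, hπ n⟩
  obtain ⟨p, hp, hpx, hfp⟩ := Groth.Agent.H80.MLSummand.exists_projector hcN hN (π x)
  refine ⟨N.subtype ∘ₗ p ∘ₗ π, ?_, ?_, ?_, ?_, ?_⟩
  · ext y
    show (p (π ((p (π y) : N) : M)) : M) = (p (π y) : M)
    rw [hπ]
    exact congrArg Subtype.val (LinearMap.congr_fun hp (π y))
  · ext y
    show (p (π (P y)) : M) = (p (π y) : M)
    rw [show π (P y) = π y from Subtype.ext (LinearMap.congr_fun hP y)]
  · ext y
    show P (p (π y) : M) = (p (π y) : M)
    exact congrArg Subtype.val (hπ (p (π y)))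
  · show (p (π (P x)) : M) = P x
    rw [show π (P x) = π x from Subtype.ext (LinearMap.congr_fun hP x), hpx]
    rfl
  · haveI := hfp
    refine Module.FinitePresentation.of_equiv ((Submodule.equivMapOfInjective N.subtype Subtype.val_injective
      (LinearMap.range p)).trans (LinearEquiv.ofEq _ _ ?_))
    rw [LinearMap.range_comp, LinearMap.range_comp,
      show LinearMap.range π = ⊤ from LinearMap.range_eq_top.mpr (fun n : N => ⟨n, hπ n⟩), Submodule.map_top]

/-- Over a henselian local ring, a countably generated Mittag-Leffler module is an internal direct sum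
of finitely presented submodules. -/
theorem result (R : Type u) [CommRing R]
    [HenselianLocalRing R] (M : Type u) [AddCommGroup M] [Module R M] (hc : CAlg.IsCountablyGenerated R M)
    (hML : CAlg.IsMittagLeffler R M) :
    ∃ (ι : Type u) (N : ι → Submodule R M), DirectSum.IsInternal N ∧
      ∀ i, Module.FinitePresentation R (N i) := by
  classical
  obtain ⟨x, hx⟩ : ∃ x : ℕ → M, Submodule.span R (Set.range x) = ⊤ := by
    obtain ⟨s, hs, hspan⟩ := hc
    rcases s.eq_empty_or_nonempty with rfl | hne
    · exact ⟨fun _ => 0, by rw [eq_top_iff, ← hspan]; exact Submodule.span_mono (by simp)⟩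
    · obtain ⟨x, rfl⟩ := hs.exists_eq_range hne
      exact ⟨x, hspan⟩
  choose! g hg1 hg2 hg3 hg4 hg5 using exists_step R M hc hML
  let P : ℕ → (M →ₗ[R] M) := Nat.rec 1 (fun n Pn => Pn - g Pn (x n))
  have hPs : ∀ n, P (n + 1) = P n - g (P n) (x n) := fun n => rfl
  have hP : ∀ n, IsIdempotentElem (P n) := by
    intro n
    induction n with
    | zero => exact IsIdempotentElem.one
    | succ n ih =>
      rw [hPs]
      show _ * _ = _
      rw [sub_mul, mul_sub, mul_sub, ih.eq, (hg1 _ ih _).eq, hg2 _ ih _, hg3 _ ih _, sub_self, sub_zero]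
  let q : ℕ → (M →ₗ[R] M) := fun n => g (P n) (x n)
  have hq1 : ∀ n, q n * q n = q n := fun n => hg1 _ (hP n) _
  have hqP : ∀ n, q n * P n = q n := fun n => hg2 _ (hP n) _
  have hPq : ∀ n, P n * q n = q n := fun n => hg3 _ (hP n) _
  have hmono : ∀ m n, m ≤ n → P n * P m = P n ∧ P m * P n = P n := by
    intro m n h
    induction n, h using Nat.le_induction with
    | base => exact ⟨hP m, hP m⟩
    | succ n _ ih =>
      rw [hPs]
      refine ⟨?_, ?_⟩
      · rw [sub_mul, ih.1, show g (P n) (x n) * P m = q n from ?_]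
        calc q n * P m = q n * P n * P m := by rw [hqP]
          _ = q n := by rw [mul_assoc, ih.1, hqP]
      · rw [mul_sub, ih.2, show P m * g (P n) (x n) = q n from ?_]
        calc P m * q n = P m * (P n * q n) := by rw [hPq]
          _ = q n := by rw [← mul_assoc, ih.2, hPq]
  have horth : ∀ m n, m ≠ n → q m * q n = 0 := by
    intro m n hmn
    rcases lt_or_gt_of_ne hmn with h | h
    · -- `m < n`
      have h1 : q m * P (m + 1) = 0 := by rw [hPs, mul_sub, hqP, show q m * g (P m) (x m) = q m from hq1 m, sub_self]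
      calc q m * q n = q m * (P (m + 1) * P n * q n) := by rw [(hmono (m + 1) n h).2, hPq]
        _ = 0 := by rw [← mul_assoc, ← mul_assoc, h1, zero_mul, zero_mul]
    · have h1 : P (n + 1) * q n = 0 := by rw [hPs, sub_mul, hPq, show g (P n) (x n) * q n = q n from hq1 n, sub_self]
      calc q m * q n = q m * (P m * P (n + 1)) * q n := by rw [(hmono (n + 1) m h).1, hqP]
        _ = 0 := by rw [mul_assoc, mul_assoc, h1, mul_zero, mul_zero]
  refine ⟨ULift.{u} ℕ, fun i => LinearMap.range (q i.down), ?_, fun i => hg5 _ (hP _) _⟩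
  convert (DirectSum.isInternal_submodule_iff_iSupIndep_and_iSup_eq_top
    (fun i : ULift.{u} ℕ => LinearMap.range (q i.down))).mpr ⟨?_, ?_⟩
  · intro i
    rw [Submodule.disjoint_def]
    rintro y ⟨z, rfl⟩ hy
    have h0 : ∀ y ∈ ⨆ j, ⨆ (_ : j ≠ i), LinearMap.range (q j.down), q i.down y = 0 := by
      intro y hy
      induction hy using Submodule.iSup_induction' with
      | mem j y hy =>
        by_cases hne : j = i
        · rw [iSup_neg (fun h => h hne), Submodule.mem_bot] at hy
          rw [hy, map_zero]
        · rw [iSup_pos hne] at hy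
          obtain ⟨w, rfl⟩ := hy
          exact LinearMap.congr_fun (horth _ _ (fun h => hne (ULift.down_injective h).symm)) w
      | zero => exact map_zero _
      | add a b _ _ ha hb => rw [map_add, ha, hb, add_zero]
    have := h0 _ hy
    rwa [← Module.End.mul_apply, hq1] at this
  · rw [eq_top_iff, ← hx, Submodule.span_le]
    rintro _ ⟨n, rfl⟩
    have hmemP : ∀ m y, y - P m y ∈ ⨆ i : ULift.{u} ℕ, LinearMap.range (q i.down) := by
      intro m y
      induction m with
      | zero => rw [show P 0 y = y from rfl, sub_self]; exact zero_mem _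
      | succ m ih =>
        rw [hPs, LinearMap.sub_apply, show y - (P m y - g (P m) (x m) y) = (y - P m y) + q m y by
          show _ = _ + g (P m) (x m) y
          abel]
        exact add_mem ih (Submodule.mem_iSup_of_mem (ULift.up m) ⟨y, rfl⟩)
    have hzero : P (n + 1) (x n) = 0 := by
      rw [hPs, LinearMap.sub_apply, sub_eq_zero]
      conv_rhs => rw [← hg2 _ (hP n) (x n)]
      exact (hg4 _ (hP n) (x n)).symm
    have := hmemP (n + 1) (x n)
    rwa [hzero, sub_zero] at this

end Groth.Agent.S0589
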