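import Groth.Statements.S0597
import Groth.Agent.H21.PopescuApprox

set_option autoImplicit false
universe u
open CAlg

namespace Groth.Agent.S0597

/-- Let `A` be Noetherian and Henselian at `I`, and suppose the map to the `I`-adic completion is
regular. Any solution in the completion of a finite system of polynomial equations over `A` can be
approximated to any `I`-adic order by a solution in `A`. -/
theorem result (A : Type u) [CommRing A] [IsNoetherianRing A]
    (I : Ideal A) [HenselianRing A I] (hreg : CAlg.IsRegularHom A (AdicCompletion I A)) (n m : ℕ)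
    (F : Fin m → MvPolynomial (Fin n) A) (a : Fin n → (AdicCompletion I A))
    (ha : ∀ j, MvPolynomial.eval a (MvPolynomial.map (algebraMap A (AdicCompletion I A)) (F j)) = 0) (N : ℕ) :
    ∃ b : Fin n → A, (∀ j, MvPolynomial.eval b (F j) = 0) ∧
      ∀ i, a i - algebraMap A (AdicCompletion I A) (b i) ∈ (I ^ N).map (algebraMap A (AdicCompletion I A)) := by
  classical
  let J := Ideal.span (Set.range F)
  haveI : Algebra.FinitePresentation A (MvPolynomial (Fin n) A ⧸ J) :=
    Algebra.FinitePresentation.quotient (Submodule.fg_span (Set.finite_range F))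
  let φ : (MvPolynomial (Fin n) A ⧸ J) →ₐ[A] AdicCompletion I A :=
    Ideal.Quotient.liftₐ J (MvPolynomial.aeval a) fun z hz => by
      refine (Ideal.span_le (I := RingHom.ker (MvPolynomial.aeval a))).mpr ?_ hz
      rintro _ ⟨j, rfl⟩
      show MvPolynomial.aeval a (F j) = 0
      rw [← ha j, MvPolynomial.eval_map, MvPolynomial.aeval_def]
  obtain ⟨τ, hτ⟩ := Groth.Agent.H21.PopescuApprox.exists_algHom I hreg _ φ N
  refine ⟨fun i => τ (Ideal.Quotient.mk J (MvPolynomial.X i)), fun j => ?_, fun i => ?_⟩
  · have h := AlgHom.congr_fun (MvPolynomial.algHom_ext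
      (f := MvPolynomial.aeval fun i => τ (Ideal.Quotient.mk J (MvPolynomial.X i)))
      (g := τ.comp (Ideal.Quotient.mkₐ A J)) fun i => by simp) (F j)
    simp only [AlgHom.comp_apply, Ideal.Quotient.mkₐ_eq_mk] at h
    rw [Ideal.Quotient.eq_zero_iff_mem.mpr (Ideal.subset_span ⟨j, rfl⟩ : F j ∈ J), map_zero] at h
    exact h
  · refine Groth.Agent.H21.PopescuApprox.ker_evalₐ_le I N _ ?_
    rw [map_sub, AlgHom.commutes, Ideal.Quotient.algebraMap_eq, hτ, sub_eq_zero]
    show _ = AdicCompletion.evalₐ I N (MvPolynomial.aeval a (MvPolynomial.X i))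
    rw [MvPolynomial.aeval_X]

end Groth.Agent.S0597
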