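import Groth.Statements.S0602
import Groth.Agent.H18.SerreCrit

set_option autoImplicit false
universe u
open CAlg

namespace Groth.Agent.S0602

/-- A Noetherian ring is reduced exactly when it satisfies the conditions R₀ and S₁. -/
theorem result (R : Type u) [CommRing R] [IsNoetherianRing R] :
    IsReduced R ↔ (LocCoh.HasRk 0 R ∧ LocCoh.HasSk 1 R R) := by
  exact Groth.Agent.H18.SerreCrit.isReduced_iff

end Groth.Agent.S0602
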