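import Groth.Statements.S0605
import Groth.Agent.H18.AB

set_option autoImplicit false
universe u
open CAlg

namespace Groth.Agent.S0605

/-- Over a regular local ring, a finitely generated module whose depth equals the dimension of the ring
(a maximal Cohen–Macaulay module) is free. -/
theorem result (R : Type u) [CommRing R]
    [IsRegularLocalRing R] (M : Type u) [AddCommGroup M] [Module R M] [Module.Finite R M]
    (h : ((LocCoh.depth R M : ℕ∞) : WithBot ℕ∞) = ringKrullDim R) : Module.Free R M := by
  obtain ⟨j, hj⟩ : ∃ j : ℕ, LocCoh.depth R M = j := by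
    cases hd : LocCoh.depth R M with
    | top =>
      rw [hd] at h
      exact absurd h.symm (ne_of_lt ringKrullDim_lt_top)
    | coe j => exact ⟨j, rfl⟩
  have : Nontrivial M := by
    rw [← not_subsingleton_iff_nontrivial]
    intro hs
    rw [LocCoh.depth, Groth.Agent.Lib.Depth.Basic.idealDepth_subsingleton] at hj
    simp at hj
  have hd : (IsLocalRing.maximalIdeal R).spanFinrank = j := by
    have := (isRegularLocalRing_iff R).mp ‹_›
    rw [← this, hj] at h
    exact (Nat.cast_inj (R := WithBot ℕ∞)).mp h.symm
  have hp := (Groth.Agent.H20.PDDepth.pdle_iff_aux (R := R) j M hj 0).mpr (by omega)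
  have : Module.Projective R M := Groth.Agent.Lib.Regular.PD.pdle_zero_iff.mp hp
  exact Module.free_of_flat_of_isLocalRing

end Groth.Agent.S0605
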