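import Groth.Statements.S0608
import Groth.Agent.H19.LinearType

set_option autoImplicit false
universe u
open RRAlg

namespace Groth.Agent.S0608

/-- Let a_1, …, a_n be a weakly regular sequence in a commutative ring A (each a_i is a non-zero-divisor
modulo (a_1, …, a_(i−1)); the a_i are allowed to generate the unit ideal). Then the kernel of the
A-algebra map A[X_1, …, X_n] → A[T] sending X_i to a_i·T, whose image is the Rees algebra of the
ideal (a_1, …, a_n), is the ideal generated by the elements a_i X_j − a_j X_i. (The published
statement assumes a regular sequence; only weak regularity is assumed here.) -/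
theorem result {A : Type u} [CommRing A] {n : ℕ} (a : Fin n → A)
    (ha : RingTheory.Sequence.IsWeaklyRegular A (List.ofFn a)) :
    RingHom.ker (MvPolynomial.aeval (R := A)
      (fun i : Fin n => Polynomial.C (a i) * (Polynomial.X : Polynomial A))) =
      Ideal.span {q : MvPolynomial (Fin n) A | ∃ i j : Fin n,
        q = MvPolynomial.C (a i) * MvPolynomial.X j - MvPolynomial.C (a j) * MvPolynomial.X i} := by
  apply le_antisymm
  · intro f hf
    rw [RingHom.mem_ker] at hf
    have hcomp : ∀ (d : ℕ) (p : MvPolynomial (Fin n) A), p.IsHomogeneous d →
        MvPolynomial.aeval (R := A)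
          (fun i : Fin n => Polynomial.C (a i) * (Polynomial.X : Polynomial A)) p =
          Polynomial.C (MvPolynomial.eval a p) * Polynomial.X ^ d := by
      intro d p hp
      rw [MvPolynomial.aeval_def, MvPolynomial.eval₂_eq, MvPolynomial.eval_eq, map_sum,
        Finset.sum_mul]
      refine Finset.sum_congr rfl fun s hs => ?_
      rw [hp.degree_eq_sum_deg_support hs]
      simp only [mul_pow, Finset.prod_mul_distrib, map_mul, map_prod, map_pow,
        Finset.prod_pow_eq_pow_sum, Polynomial.algebraMap_eq, mul_assoc]
    rw [← MvPolynomial.sum_homogeneousComponent f]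
    refine Ideal.sum_mem _ fun d hd => ?_
    refine Groth.Agent.H19.LinearType.mem_relIdeal_of_eval_eq_zero a ha
      (MvPolynomial.homogeneousComponent_isHomogeneous d f) ?_
    have h := congrArg (fun p : Polynomial A => p.coeff d) hf
    rw [← MvPolynomial.sum_homogeneousComponent f] at h
    simp only [map_sum, Polynomial.finsetSum_coeff, Polynomial.coeff_zero] at h
    rw [Finset.sum_eq_single d] at h
    · rw [hcomp d _ (MvPolynomial.homogeneousComponent_isHomogeneous d f)] at h
      simpa using h
    · intro e _ he
      rw [hcomp e _ (MvPolynomial.homogeneousComponent_isHomogeneous e f)]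
      simp [Polynomial.coeff_X_pow, he.symm]
    · intro h'; exact absurd hd h'
  · rw [Ideal.span_le]
    rintro q ⟨i, j, rfl⟩
    simp only [SetLike.mem_coe, RingHom.mem_ker, map_sub, map_mul, MvPolynomial.aeval_C,
      MvPolynomial.aeval_X, Polynomial.algebraMap_eq]
    ring


end Groth.Agent.S0608
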