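import Groth.Statements.S0610
import Groth.Agent.Lib.CurveZeta.Basic
import Groth.Agent.Lib.FunFld.Zeta.Roots
import Groth.Agent.S13050

set_option autoImplicit false
universe u
open AlgebraicGeometry CategoryTheory
open Zeta

namespace Groth.Agent.S0610

/-- Weil conjectures for curves, in elementary form (rationality of the zeta function with numerator of
degree 2g, the functional equation and the Riemann hypothesis, packaged as a point-count formula):
let k be a finite field with q elements and C a smooth, proper, geometrically irreducible curve over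
k of genus g, the genus being pinned down by #H¹(C, O_C) = q^g (equivalent to dim_k H¹(C, O_C) = g).
Then there are complex numbers α_1, …, α_{2g}, each an algebraic integer with |α_i|² = q, and a
permutation σ of the indices with α_{σ(i)} · α_i = q for all i, such that for every finite extension
k' of k the number of k'-points of C equals q^{[k':k]} + 1 − Σ_i α_i^{[k':k]}. -/
theorem result {k : Type u} [Field k] [Finite k] {C : Scheme.{u}}
    (f : C ⟶ Spec (CommRingCat.of k)) (hC : Curve.IsSmoothProperCurve k C f)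
    [GeometricallyIrreducible f] (g : ℕ)
    (hg : Nat.card (Coh.HH C (Coh.structureModule C) 1) = Nat.card k ^ g) :
    ∃ α : Fin (2 * g) → ℂ, (∀ i, IsIntegral ℤ (α i)) ∧ (∀ i, ‖α i‖ ^ 2 = Nat.card k) ∧
      (∃ σ : Equiv.Perm (Fin (2 * g)), ∀ i, α (σ i) * α i = Nat.card k) ∧
      ∀ (k' : Type u) [Field k'] [Algebra k k'] [Finite k'],
        (SgaExt.pointCount f k' : ℂ) =
          (Nat.card k : ℂ) ^ Module.finrank k k' + 1 - ∑ i, α i ^ Module.finrank k k' :=  by
  letI : C.Over (Spec (CommRingCat.of k)) := ⟨f⟩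
  obtain ⟨hp, hs, hi, hdim⟩ := hC
  haveI : IsProper (C ↘ Spec (CommRingCat.of k)) := hp
  haveI : Smooth (C ↘ Spec (CommRingCat.of k)) := hs
  haveI : GeometricallyIrreducible (C ↘ Spec (CommRingCat.of k)) := ‹GeometricallyIrreducible f›
  letI : Algebra k C.functionField := Curv2.stalkAlgebra k C (genericPoint C)
  obtain ⟨h, h0⟩ := Groth.Agent.Lib.CurveZeta.hyps (k := k) (X := C) hdim
  have hK := Groth.Agent.Lib.CurveFF.isFunctionField h h0
  have hgen := Groth.Agent.Lib.CurveFF.genus_eq h h0
  have hgg : Curv2.genus k C = g := by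
    haveI : Finite (Coh.HH C (Coh.structureModule C) 1) := Nat.finite_of_card_ne_zero (by
      rw [hg]; exact pow_ne_zero _ Nat.card_pos.ne')
    haveI : Module.Finite k (Coh.HH C (Coh.structureModule C) 1) := Module.Finite.of_finite
    have h1 := Module.natCard_eq_pow_finrank (K := k) (V := Coh.HH C (Coh.structureModule C) 1)
    rw [hg] at h1
    exact (Nat.pow_right_injective Finite.one_lt_card h1).symm
  obtain rfl : FunFld.genus k C.functionField = g := hgen.symm.trans hgg
  obtain ⟨α, hint, hα, hpair⟩ : ∃ α : Fin (2 * FunFld.genus k C.functionField) → ℂ,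
      (∀ i, ‖α i‖ ^ 2 = Nat.card k ∧ IsIntegral ℤ (α i)) ∧
      PowerSeries.map (Int.castRingHom ℂ) (FunFld.numerZ k C.functionField) =
        ((∏ i, (1 - Polynomial.C (α i) * Polynomial.X) : Polynomial ℂ) : PowerSeries ℂ) ∧
      ∀ i, α i * α (Fin.rev i) = (Nat.card k : ℂ) := by
    obtain ⟨α, h1, h2⟩ := Groth.Agent.Lib.FunFld.Zeta.Roots.exists_paired hK
    have hmem : ∀ i, α i ∈ Groth.Agent.Lib.FunFld.Zeta.Roots.M k C.functionField := fun i =>
      h1 ▸ Multiset.mem_coe.mpr (List.mem_ofFn.mpr ⟨i, rfl⟩)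
    refine ⟨α, fun i => ⟨?_, Groth.Agent.Lib.FunFld.Zeta.Roots.isIntegral_of_mem hK (hmem i)⟩,
      Groth.Agent.Lib.FunFld.Zeta.Roots.map_numerZ_fin hK α h1, h2⟩
    rw [Groth.Agent.Lib.FunFld.Zeta.Roots.norm_eq hK (hmem i), Real.sq_sqrt (Nat.cast_nonneg _)]
  refine ⟨α, fun i => (hint i).2, fun i => (hint i).1, ⟨Fin.revPerm, fun i => ?_⟩, fun k' _ _ _ => ?_⟩
  · rw [Fin.revPerm_apply, mul_comm]; exact hpair i
  have hm : 0 < Module.finrank k k' := by
    haveI : Module.Finite k k' := Module.Finite.of_finite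
    exact Module.finrank_pos
  have hN : SgaExt.pointCount f k' =
      Groth.Agent.Lib.FunFld.Zeta.Points.Npts k C.functionField (Module.finrank k k') :=
    (Groth.Agent.S13050.result (C ↘ Spec (CommRingCat.of k)) k').trans
      (Groth.Agent.Lib.CurveZeta.nPts_eq h hK hm)
  rw [hN, Groth.Agent.Lib.FunFld.Zeta.Newton.npts_eq_sum hK α hα hm]
  ring

end Groth.Agent.S0610
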