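import Groth.Statements.S0614
import Groth.Agent.H48.FSExtAux
import Groth.Agent.H48.DomVal
import Mathlib.AlgebraicGeometry.EllipticCurve.IsomOfJ
-- import your own Groth.Agent.* helpers here

set_option autoImplicit false
universe u
open Neron

namespace Groth.Agent.S0614

open WeierstrassCurve Polynomial

lemma j_mul_Δ {F : Type*} [Field F] (W : WeierstrassCurve F) [W.IsElliptic] :
    W.j * W.Δ = W.c₄ ^ 3 := by
  rw [WeierstrassCurve.j, ← W.coe_Δ', mul_right_comm, Units.inv_mul, one_mul]

lemma isIntegral_ofNat {R Ω : Type*} [CommRing R] [CommRing Ω] [Algebra R Ω] (n : ℕ)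
    [n.AtLeastTwo] : IsIntegral R (OfNat.ofNat n : Ω) := by
  rw [← map_ofNat (algebraMap R Ω) n]; exact isIntegral_algebraMap

lemma aeval_monic_root {R Ω : Type*} [CommRing R] [Nontrivial R] [Field Ω] [IsAlgClosed Ω]
    [Algebra R Ω] (P : R[X]) (hP : P.Monic) (hd : 0 < P.natDegree) :
    ∃ a : Ω, aeval a P = 0 ∧ IsIntegral R a := by
  obtain ⟨a, ha⟩ := IsAlgClosed.exists_root (P.map (algebraMap R Ω)) (by
    rw [hP.degree_map (algebraMap R Ω), degree_eq_natDegree hP.ne_zero]
    exact_mod_cast hd.ne')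
  have : aeval a P = 0 := by rwa [IsRoot, eval_map, ← aeval_def] at ha
  exact ⟨a, this, P, hP, this⟩

/-- A Deuring or Legendre model with prescribed integral `j`. -/
lemma exists_model {R Ω : Type*} [CommRing R] [IsDomain R] [IsLocalRing R] [Field Ω]
    [IsAlgClosed Ω] [Algebra R Ω] (r : R) :
    ∃ E : WeierstrassCurve Ω, IsIntegral R E.a₁ ∧ IsIntegral R E.a₂ ∧ IsIntegral R E.a₃ ∧
      IsIntegral R E.a₄ ∧ IsIntegral R E.a₆ ∧ E.c₄ ^ 3 = algebraMap R Ω r * E.Δ ∧
      ∀ V : ValuationSubring Ω, (∀ a : R, algebraMap R Ω a ∈ V) →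
        (∀ x : Ω, IsIntegral R x → x ∈ V) → ¬ V.valuation E.Δ < 1 := by
  by_cases h3 : IsUnit (3 : R)
  · obtain ⟨A, hA, hAi⟩ := aeval_monic_root (Ω := Ω)
      (X * (X - C 24) ^ 3 - C r * (X - C 27)) (by monicity!) (by
        have : (X * (X - C 24) ^ 3 - C r * (X - C 27) : R[X]).natDegree = 4 := by compute_degree!
        omega)
    simp only [map_sub, map_mul, map_pow, aeval_X, aeval_C, map_ofNat] at hA
    obtain ⟨α, hα⟩ := IsAlgClosed.exists_pow_nat_eq A three_pos
    have hαi : IsIntegral R α := IsIntegral.of_pow three_pos (hα ▸ hAi)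
    refine ⟨⟨α, 0, 1, 0, 0⟩, hαi, isIntegral_zero, isIntegral_one, isIntegral_zero,
      isIntegral_zero, ?_, fun V hV hi hlt => ?_⟩
    · simp only [WeierstrassCurve.c₄, WeierstrassCurve.Δ, WeierstrassCurve.b₂,
        WeierstrassCurve.b₄, WeierstrassCurve.b₆, WeierstrassCurve.b₈]
      rw [← hα] at hA
      linear_combination hA
    · have hΔ : (⟨α, 0, 1, 0, 0⟩ : WeierstrassCurve Ω).Δ = A - 27 := by
        simp only [WeierstrassCurve.Δ, WeierstrassCurve.b₂, WeierstrassCurve.b₄,
          WeierstrassCurve.b₆, WeierstrassCurve.b₈]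
        rw [← hα]; ring
      rw [hΔ] at hlt
      obtain ⟨c, hc⟩ := h3.exists_right_inv
      have hc' : (3 : Ω) * algebraMap R Ω c = 1 := by
        rw [← map_ofNat (algebraMap R Ω) 3, ← map_mul, hc, map_one]
      -- `729 = (A - 27) * (r - polynomial in A)`
      obtain ⟨q, hq, hqe⟩ : ∃ q ∈ V, (729 : Ω) = (A - 27) * q :=
        ⟨algebraMap R Ω r - A ^ 3 + 45 * A ^ 2 - 513 * A - 27,
          hi _ ((((isIntegral_algebraMap.sub (hAi.pow 3)).add
            ((isIntegral_ofNat 45).mul (hAi.pow 2))).sub ((isIntegral_ofNat 513).mul hAi)).sub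
            (isIntegral_ofNat 27)),
          by linear_combination hA⟩
      have h729 : V.valuation (729 : Ω) < 1 := by
        rw [hqe, map_mul]
        exact mul_lt_one_of_lt_of_le hlt ((V.valuation_le_one_iff _).2 hq)
      have h1 : (1 : Ω) = 729 * algebraMap R Ω (c ^ 6) := by
        rw [map_pow, ← one_pow 6, ← hc']; ring
      have := congrArg V.valuation h1
      rw [map_one, map_mul] at this
      exact absurd this.symm (mul_lt_one_of_lt_of_le h729
        ((V.valuation_le_one_iff _).2 (hV _))).ne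
  · have h2 : IsUnit (2 : R) := by
      rw [← IsLocalRing.notMem_maximalIdeal]
      intro h2
      have h3' : (3 : R) ∈ IsLocalRing.maximalIdeal R := h3
      exact (IsLocalRing.maximalIdeal.isMaximal R).ne_top ((Ideal.eq_top_iff_one _).2
        (by have := sub_mem h3' h2; norm_num at this))
    obtain ⟨c, hc⟩ := (h2.pow 8).exists_right_inv
    obtain ⟨l, hl, hli⟩ := aeval_monic_root (Ω := Ω)
      ((X ^ 2 - X + C 1) ^ 3 - C (c * r) * (X ^ 2 * (X - C 1) ^ 2)) (by monicity!) (by
        have : ((X ^ 2 - X + C 1) ^ 3 - C (c * r) * (X ^ 2 * (X - C 1) ^ 2) : R[X]).natDegree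
            = 6 := by compute_degree!
        omega)
    simp only [map_sub, map_mul, map_pow, map_add, aeval_X, aeval_C, map_one] at hl
    have hc' : (256 : Ω) * algebraMap R Ω c = 1 := by
      rw [show (256 : Ω) = 2 ^ 8 by norm_num, ← map_ofNat (algebraMap R Ω) 2, ← map_pow,
        ← map_mul, hc, map_one]
    refine ⟨⟨0, -(1 + l), 0, l, 0⟩, isIntegral_zero, (isIntegral_one.add hli).neg,
      isIntegral_zero, hli, isIntegral_zero, ?_, fun V hV hi hlt => ?_⟩
    · simp only [WeierstrassCurve.c₄, WeierstrassCurve.Δ, WeierstrassCurve.b₂,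
        WeierstrassCurve.b₄, WeierstrassCurve.b₆, WeierstrassCurve.b₈]
      linear_combination 4096 * hl + 16 * algebraMap R Ω r * l ^ 2 * (l - 1) ^ 2 * hc'
    · have hΔ : (⟨0, -(1 + l), 0, l, 0⟩ : WeierstrassCurve Ω).Δ = 16 * (l * (l - 1)) ^ 2 := by
        simp only [WeierstrassCurve.Δ, WeierstrassCurve.b₂, WeierstrassCurve.b₄,
          WeierstrassCurve.b₆, WeierstrassCurve.b₈]
        ring
      rw [hΔ] at hlt
      set d := l * (l - 1) with hd
      have hcv : V.valuation (algebraMap R Ω c) ≤ 1 := (V.valuation_le_one_iff _).2 (hV _)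
      have h16 : ¬ V.valuation (16 : Ω) < 1 := fun h => by
        have := congrArg V.valuation (show (1 : Ω) = 16 * (16 * algebraMap R Ω c) by
          rw [← hc']; ring)
        rw [map_one, map_mul] at this
        refine absurd this.symm (mul_lt_one_of_lt_of_le h ?_).ne
        rw [map_mul]
        exact (mul_le_of_le_one_left' h.le).trans hcv
      have hdi : IsIntegral R d := hli.mul (hli.sub isIntegral_one)
      have hdlt : V.valuation d < 1 := by
        by_contra hge
        rw [map_mul, map_pow] at hlt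
        exact h16 (lt_of_le_of_lt (le_mul_of_one_le_right' (one_le_pow₀ (not_lt.1 hge))) hlt)
      obtain ⟨q, hq, hqe⟩ : ∃ q ∈ V, (1 : Ω) = d * q :=
        ⟨algebraMap R Ω (c * r) * d - (d ^ 2 + 3 * d + 3),
          hi _ ((isIntegral_algebraMap.mul hdi).sub (((hdi.pow 2).add
            ((isIntegral_ofNat 3).mul hdi)).add (isIntegral_ofNat 3))), by
          rw [hd, map_mul]; linear_combination hl⟩
      have := congrArg V.valuation hqe
      rw [map_one, map_mul] at this
      exact absurd this.symm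
        (mul_lt_one_of_lt_of_le hdlt ((V.valuation_le_one_iff _).2 hq)).ne

/-- (c) (the base Dedekind scheme taken local): an elliptic curve E over the fraction field K of a
discrete valuation ring R has integral j-invariant if and only if it has potential good reduction
(stated here with a finite extension: there are a finite extension L of K and a discrete valuation
ring R_L of L dominating R over which a minimal Weierstrass equation of E_L has good reduction). -/
theorem result {R : Type u} [CommRing R] [IsDomain R]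
    [IsDiscreteValuationRing R] {K : Type u} [Field K] [Algebra R K] [IsFractionRing R K]
    (W : WeierstrassCurve K) [W.IsElliptic] :
    (∃ r : R, algebraMap R K r = W.j) ↔
      ∃ (L : Type u) (_ : Field L) (_ : Algebra K L) (_ : FiniteDimensional K L) (RL : Type u)
        (_ : CommRing RL) (_ : IsDomain RL) (_ : IsDiscreteValuationRing RL) (_ : Algebra RL L)
        (_ : IsFractionRing RL L) (φ : R →+* RL), IsLocalHom φ ∧
        (∀ r : R, algebraMap K L (algebraMap R K r) = algebraMap RL L (φ r)) ∧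
        ((W.baseChange L).minimal RL).HasGoodReduction RL := by
  constructor
  · rintro ⟨r, hr⟩
    classical
    let Ω := AlgebraicClosure K
    obtain ⟨E, i1, i2, i3, i4, i6, hjE, hunit⟩ := exists_model (Ω := Ω) r
    -- a valuation subring of `Ω` dominating `R`
    let V₀ : ValuationSubring K :=
      { (algebraMap R K).range with
        mem_or_inv_mem' := fun y => ValuationRing.isInteger_or_isInteger _ y }
    obtain ⟨V, hV⟩ := Groth.Agent.H48.DomVal.exists_comap_eq (algebraMap K Ω) V₀
    have hVR : ∀ a : R, algebraMap R Ω a ∈ V := fun a => by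
      have h : algebraMap R K a ∈ V₀ := ⟨a, rfl⟩
      rw [← hV] at h; exact h
    have hdom : ∀ a : R, a ∈ IsLocalRing.maximalIdeal R →
        V.valuation (algebraMap R Ω a) < 1 := by
      intro a ha
      by_contra hge
      rcases eq_or_ne a 0 with rfl | ha0
      · simp at hge
      have hinv : (algebraMap R K a)⁻¹ ∈ V₀ := by
        rw [← hV]
        show algebraMap K Ω (algebraMap R K a)⁻¹ ∈ V
        rw [map_inv₀, ← V.valuation_le_one_iff, map_inv₀]
        exact inv_le_one_of_one_le₀ (not_lt.1 hge)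
      obtain ⟨b, hb⟩ := hinv
      refine (IsLocalRing.mem_maximalIdeal _).1 ha (IsUnit.of_mul_eq_one b
        (IsFractionRing.injective R K ?_))
      rw [map_mul, map_one, hb, mul_inv_cancel₀
        ((map_ne_zero_iff _ (IsFractionRing.injective R K)).2 ha0)]
    have hint : ∀ x : Ω, IsIntegral R x → x ∈ V := by
      intro x hx
      letI : Algebra R V := ((algebraMap R Ω).codRestrict V hVR).toAlgebra
      haveI : IsScalarTower R V Ω := IsScalarTower.of_algebraMap_eq fun _ => rfl
      obtain ⟨y, hy⟩ := IsIntegrallyClosed.isIntegral_iff.1 (hx.tower_top (A := V))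
      rw [← hy]; exact y.2
    have hΔ : ¬ V.valuation E.Δ < 1 := hunit V hVR hint
    have hΔ0 : E.Δ ≠ 0 := fun h => hΔ (by simp [h])
    have : E.IsElliptic := ⟨isUnit_iff_ne_zero.2 hΔ0⟩
    have hEj : E.j = algebraMap R Ω r :=
      mul_right_cancel₀ hΔ0 (by rw [j_mul_Δ, hjE])
    haveI : (W.baseChange Ω).IsElliptic := by unfold WeierstrassCurve.baseChange; infer_instance
    have hWj : (W.baseChange Ω).j = algebraMap R Ω r := by
      show (W.map (algebraMap K Ω)).j = _
      rw [WeierstrassCurve.map_j, ← hr]; rfl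
    obtain ⟨C, hC⟩ := WeierstrassCurve.exists_variableChange_of_j_eq (W.baseChange Ω) E
      (hWj.trans hEj.symm)
    let S : Set Ω := {E.a₁, E.a₂, E.a₃, E.a₄, E.a₆, (C.u : Ω), C.r, C.s, C.t}
    let L := IntermediateField.adjoin K S
    have : FiniteDimensional K L := IntermediateField.finiteDimensional_adjoin
      fun x _ => Algebra.IsIntegral.isIntegral x
    have mem : ∀ x ∈ S, x ∈ L := fun x hx => IntermediateField.subset_adjoin K S hx
    let VL : ValuationSubring L := V.comap (algebraMap L Ω)
    have hdomL : EtRam.Dominates R ((algebraMap K L).comp (algebraMap R K)) VL := by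
      refine ⟨fun a => hVR a, fun a ha => ?_⟩
      by_contra hge
      rcases eq_or_ne a 0 with rfl | ha0
      · simp at hge
      have hi : ((algebraMap K L).comp (algebraMap R K) a)⁻¹ ∈ VL := by
        rw [← VL.valuation_le_one_iff, map_inv₀]
        exact inv_le_one_of_one_le₀ (not_lt.1 hge)
      have hi' : (algebraMap R Ω a)⁻¹ ∈ V := by
        have : algebraMap L Ω ((algebraMap K L).comp (algebraMap R K) a)⁻¹ ∈ V := hi
        rwa [map_inv₀] at this
      rw [← V.valuation_le_one_iff, map_inv₀] at hi'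
      refine absurd hi' (not_le.2 ((one_lt_inv₀ (zero_lt_iff.2 ?_)).2 (hdom a ha)))
      exact (map_ne_zero V.valuation).2 ((map_ne_zero (algebraMap K Ω)).2
        ((map_ne_zero_iff _ (IsFractionRing.injective R K)).2 ha0))
    have : IsDiscreteValuationRing VL := Groth.Agent.H48.FSExt.isDVR VL hdomL
    let φ : R →+* VL :=
      ((algebraMap K L).comp (algebraMap R K)).codRestrict VL hdomL.1
    have hloc : IsLocalHom φ := ⟨fun a ha => by
      by_contra hna
      have := hdomL.2 a hna
      exact ((VL.valuation_lt_one_iff (φ a)).2 this :) ha⟩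
    refine ⟨L, inferInstance, inferInstance, inferInstance, VL, inferInstance, inferInstance,
      inferInstance, inferInstance, inferInstance, φ, hloc, fun a => rfl, ?_⟩
    let EL : WeierstrassCurve L := ⟨⟨E.a₁, mem _ (by simp [S])⟩, ⟨E.a₂, mem _ (by simp [S])⟩,
      ⟨E.a₃, mem _ (by simp [S])⟩, ⟨E.a₄, mem _ (by simp [S])⟩, ⟨E.a₆, mem _ (by simp [S])⟩⟩
    have hEL : EL.map (algebraMap L Ω) = E := rfl
    let CL : VariableChange L :=
      ⟨Units.mk0 ⟨(C.u : Ω), mem _ (by simp [S])⟩ (fun h => C.u.ne_zero (congrArg Subtype.val h)),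
        ⟨C.r, mem _ (by simp [S])⟩, ⟨C.s, mem _ (by simp [S])⟩, ⟨C.t, mem _ (by simp [S])⟩⟩
    have hCL : CL.map (algebraMap L Ω) = C := by
      ext <;> rfl
    have hCW : CL • (W.baseChange L) = EL := by
      refine WeierstrassCurve.map_injective (f := algebraMap L Ω) Subtype.val_injective ?_
      show (CL • W.baseChange L).map _ = EL.map _
      rw [← WeierstrassCurve.map_variableChange, hCL, hEL]
      exact hC
    have hELi : WeierstrassCurve.IsIntegral VL EL :=
      WeierstrassCurve.isIntegral_of_exists_lift VL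
        ⟨⟨EL.a₁, (hint _ i1 :)⟩, rfl⟩ ⟨⟨EL.a₂, (hint _ i2 :)⟩, rfl⟩
        ⟨⟨EL.a₃, (hint _ i3 :)⟩, rfl⟩ ⟨⟨EL.a₄, (hint _ i4 :)⟩, rfl⟩
        ⟨⟨EL.a₆, (hint _ i6 :)⟩, rfl⟩
    let v := (IsDiscreteValuationRing.maximalIdeal VL).valuation L
    have hELv : v EL.Δ = 1 := by
      obtain ⟨d, hd⟩ := WeierstrassCurve.Δ_integral_of_isIntegral VL EL
      rw [← hd]
      refine le_antisymm (IsDedekindDomain.HeightOneSpectrum.valuation_le_one _ _) (not_lt.1 ?_)
      intro hlt
      have hdm := (IsDedekindDomain.HeightOneSpectrum.valuation_lt_one_iff_mem _ d).1 hlt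
      have hdi : (E.Δ)⁻¹ ∈ V := by
        rw [← V.valuation_le_one_iff, map_inv₀]
        exact inv_le_one_of_one_le₀ (not_lt.1 hΔ)
      have hdΔ : algebraMap L Ω (d : L) = E.Δ := by
        show algebraMap L Ω (algebraMap VL L d) = _
        rw [hd, ← WeierstrassCurve.map_Δ, hEL]
      refine (IsLocalRing.mem_maximalIdeal _).1 hdm (IsUnit.of_mul_eq_one
        ⟨(d : L)⁻¹, by show algebraMap L Ω (d : L)⁻¹ ∈ V; rwa [map_inv₀, hdΔ]⟩ (Subtype.ext ?_))
      show (d : L) * (d : L)⁻¹ = 1
      refine mul_inv_cancel₀ fun h => hΔ0 ?_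
      rw [← hdΔ, h, map_zero]
    set M := (W.baseChange L).minimal VL with hM
    obtain ⟨C₀, hC₀⟩ : ∃ C₀ : VariableChange L, M = C₀ • W.baseChange L := ⟨_, rfl⟩
    haveI : WeierstrassCurve.IsMinimal VL M := by rw [hM]; infer_instance
    refine (WeierstrassCurve.hasGoodReduction_iff VL M).2 ⟨inferInstance, ?_⟩
    have hTM : (CL * C₀⁻¹) • M = EL := by rw [hC₀, mul_smul, inv_smul_smul, hCW]
    have hmax := (WeierstrassCurve.IsMinimal.val_Δ_maximal (R := VL) (W := M)).2
      (j := CL * C₀⁻¹) (by show WeierstrassCurve.IsIntegral VL ((CL * C₀⁻¹) • M); rw [hTM]; exact hELi)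
    simp only [hTM, ← Subtype.coe_le_coe, WeierstrassCurve.valuation_Δ_aux_eq_of_isIntegral,
      one_smul] at hmax
    obtain ⟨d, hd⟩ := WeierstrassCurve.Δ_integral_of_isIntegral VL M
    have hle : v M.Δ ≤ 1 := by
      rw [← hd]; exact IsDedekindDomain.HeightOneSpectrum.valuation_le_one _ _
    refine le_antisymm hle ?_
    have := hmax (hle.trans hELv.ge)
    exact hELv.ge.trans this
  · rintro ⟨L, _, _, _, RL, _, _, _, _, _, φ, hφ, hcomm, hgood⟩
    set M := (W.baseChange L).minimal RL with hM
    obtain ⟨C₀, hC₀⟩ : ∃ C₀ : VariableChange L, M = C₀ • W.baseChange L := ⟨_, rfl⟩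
    haveI : (W.baseChange L).IsElliptic := by unfold WeierstrassCurve.baseChange; infer_instance
    haveI : M.IsElliptic := by rw [hC₀]; infer_instance
    haveI := hgood.toIsMinimal
    set Mi := WeierstrassCurve.integralModel RL M
    have hu : IsUnit Mi.Δ := by
      rw [← IsLocalRing.notMem_maximalIdeal]
      intro h
      have := (IsDedekindDomain.HeightOneSpectrum.valuation_lt_one_iff_mem (K := L)
        (IsDiscreteValuationRing.maximalIdeal RL) Mi.Δ).2 h
      have h' : (IsDiscreteValuationRing.maximalIdeal RL).valuation L (algebraMap RL L Mi.Δ) < 1 :=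
        this
      rw [WeierstrassCurve.integralModel_Δ_eq] at h'
      exact h'.ne hgood.goodReduction
    obtain ⟨d, hd⟩ := hu.exists_right_inv
    have hjM : M.j = algebraMap K L W.j := by
      simp only [hC₀, WeierstrassCurve.variableChange_j]
      exact WeierstrassCurve.map_j W (algebraMap K L)
    have hs : algebraMap RL L (Mi.c₄ ^ 3 * d) = algebraMap K L W.j := by
      rw [← hjM, map_mul, map_pow, WeierstrassCurve.integralModel_c₄_eq, ← j_mul_Δ, mul_assoc,
        ← WeierstrassCurve.integralModel_Δ_eq RL M, ← map_mul, hd, map_one, mul_one]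
    rcases ValuationRing.isInteger_or_isInteger R W.j with ⟨r, hr⟩ | ⟨a, ha⟩
    · exact ⟨r, hr⟩
    · rcases eq_or_ne W.j 0 with h0 | h0
      · exact ⟨0, by rw [map_zero, h0]⟩
      have : φ a * (Mi.c₄ ^ 3 * d) = 1 := by
        refine IsFractionRing.injective RL L ?_
        rw [map_mul, ← hcomm, hs, ha, ← map_mul, inv_mul_cancel₀ h0, map_one, map_one]
      obtain ⟨b, hb⟩ := (IsUnit.of_mul_eq_one _ this).of_map φ a |>.exists_right_inv
      refine ⟨b, eq_inv_of_mul_eq_one_right (a := W.j⁻¹) ?_ |>.trans (inv_inv _)⟩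
      rw [← ha, ← map_mul, hb, map_one]

end Groth.Agent.S0614
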