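import Groth.Statements.S0615
import Groth.Agent.H19.LinearType

set_option autoImplicit false
universe u
open RRAlg

namespace Groth.Agent.S0615

/-- Let A be a commutative ring and a_0, a_1, …, a_n a weakly regular sequence in A (for each i, a_i is
a non-zero-divisor on A/(a_0, …, a_{i−1}); the sequence is indexed here by Fin (n+1)). Then the
kernel of the A-algebra homomorphism A[T_1, …, T_n] → A[1/a_0] sending T_i to a_i/a_0 is the ideal
generated by the elements a_0 T_i − a_i for 1 ≤ i ≤ n (a presentation of the affine blow-up algebra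
A[a_1/a_0, …, a_n/a_0]). -/
theorem result {A : Type u} [CommRing A] {n : ℕ}
    (a : Fin (n + 1) → A) (ha : RingTheory.Sequence.IsWeaklyRegular A (List.ofFn a)) :
    RingHom.ker (MvPolynomial.aeval (R := A) (S₁ := Localization.Away (a 0))
      (fun i : Fin n => IsLocalization.mk' (Localization.Away (a 0)) (a i.succ)
        (⟨a 0, Submonoid.mem_powers (a 0)⟩ : Submonoid.powers (a 0)))) =
      Ideal.span (Set.range fun i : Fin n =>
        MvPolynomial.C (a 0) * MvPolynomial.X i - MvPolynomial.C (a i.succ)) := by
  apply le_antisymm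
  · intro f hf
    rw [RingHom.mem_ker] at hf
    set L := Localization.Away (a 0)
    set φ : MvPolynomial (Fin (n + 1)) A →ₐ[A] MvPolynomial (Fin n) A :=
      MvPolynomial.aeval (Fin.cons 1 MvPolynomial.X) with hφ
    set ψ : MvPolynomial (Fin (n + 1)) A →ₐ[A] L :=
      MvPolynomial.aeval (fun i => algebraMap A L (a i)) with hψ
    set θ : MvPolynomial (Fin n) A →ₐ[A] L :=
      MvPolynomial.aeval (fun i : Fin n => IsLocalization.mk' L (a i.succ)
        (⟨a 0, Submonoid.mem_powers (a 0)⟩ : Submonoid.powers (a 0))) with hθ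
    set M := f.totalDegree
    let hom : ∀ _s : Fin n →₀ ℕ, MvPolynomial (Fin (n + 1)) A := fun s =>
      MvPolynomial.X 0 ^ (M - s.degree) * MvPolynomial.rename Fin.succ (MvPolynomial.monomial s (f.coeff s))
    set F := ∑ s ∈ f.support, hom s with hFdef
    have hFhom : F.IsHomogeneous M := by
      refine MvPolynomial.IsHomogeneous.sum _ _ _ fun s hs => ?_
      have hle : s.degree ≤ M := MvPolynomial.le_totalDegree hs
      have h := (MvPolynomial.isHomogeneous_X_pow (R := A) (0 : Fin (n + 1)) (M - s.degree)).mul
        ((MvPolynomial.isHomogeneous_monomial (f.coeff s) (rfl : s.degree = s.degree)).rename_isHomogeneous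
          (f := Fin.succ))
      rwa [Nat.sub_add_cancel hle] at h
    have hφF : φ F = f := by
      conv_rhs => rw [← MvPolynomial.support_sum_monomial_coeff f]
      rw [hFdef, map_sum]
      refine Finset.sum_congr rfl fun s _ => ?_
      simp only [hom, hφ, map_mul, map_pow, MvPolynomial.aeval_X, MvPolynomial.aeval_rename,
        Fin.cons_zero, one_pow, one_mul]
      have : (Fin.cons 1 MvPolynomial.X : Fin (n + 1) → MvPolynomial (Fin n) A) ∘ Fin.succ =
          MvPolynomial.X := by
        ext i; simp
      rw [this, MvPolynomial.aeval_X_left_apply]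
    have hψF : ψ F = algebraMap A L (a 0) ^ M * θ f := by
      conv_rhs => rw [← MvPolynomial.support_sum_monomial_coeff f, map_sum, Finset.mul_sum]
      rw [hFdef, map_sum]
      refine Finset.sum_congr rfl fun s hs => ?_
      have hle : s.degree ≤ M := MvPolynomial.le_totalDegree hs
      simp only [hom, hψ, hθ, map_mul, map_pow, MvPolynomial.aeval_X, MvPolynomial.aeval_rename,
        MvPolynomial.aeval_monomial, Function.comp_def]
      rw [show M = (M - s.degree) + s.degree from (Nat.sub_add_cancel hle).symm, pow_add,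
        Nat.add_sub_cancel_right, mul_assoc]
      congr 1
      rw [mul_left_comm]
      congr 1
      rw [Finsupp.degree_apply, ← Finset.prod_pow_eq_pow_sum, Finsupp.prod, Finsupp.prod,
        ← Finset.prod_mul_distrib]
      refine Finset.prod_congr rfl fun i _ => ?_
      rw [← mul_pow, mul_comm, IsLocalization.mk'_spec]
    have hreg : IsSMulRegular A (a 0) := by
      have h := ha
      rw [List.ofFn_succ, RingTheory.Sequence.isWeaklyRegular_cons_iff] at h
      exact h.1
    have hev : MvPolynomial.eval a F = 0 := by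
      rw [hf, mul_zero] at hψF
      have he : ψ F = algebraMap A L (MvPolynomial.eval a F) := by
        rw [hψ, ← MvPolynomial.aeval_eq_eval, ← Algebra.ofId_apply L,
          MvPolynomial.comp_aeval_apply]
        rfl
      rw [he, IsLocalization.map_eq_zero_iff (Submonoid.powers (a 0))] at hψF
      obtain ⟨⟨_, k, rfl⟩, hk⟩ := hψF
      exact (hreg.pow k) (by simpa using hk)
    have hmem := Groth.Agent.H19.LinearType.mem_relIdeal_of_eval_eq_zero a ha hFhom hev
    rw [← hφF]
    refine (?_ : Ideal.map φ (Groth.Agent.H19.LinearType.relIdeal a) ≤ _)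
      (Ideal.mem_map_of_mem φ hmem)
    rw [Groth.Agent.H19.LinearType.relIdeal, Ideal.map_span, Ideal.span_le]
    rintro _ ⟨_, ⟨i, j, rfl⟩, rfl⟩
    simp only [hφ, map_sub, map_mul, MvPolynomial.aeval_C, MvPolynomial.algebraMap_eq,
      MvPolynomial.aeval_X, SetLike.mem_coe]
    set K := Ideal.span (Set.range fun i : Fin n =>
      MvPolynomial.C (a 0) * MvPolynomial.X i - MvPolynomial.C (a i.succ)) with hK
    have hgen : ∀ i : Fin (n + 1), MvPolynomial.C (a 0) *
        (Fin.cons 1 MvPolynomial.X : Fin (n + 1) → MvPolynomial (Fin n) A) i -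
          MvPolynomial.C (a i) ∈ K := by
      intro i
      refine Fin.cases ?_ (fun i => ?_) i
      · simp
      · rw [Fin.cons_succ]; exact Ideal.subset_span ⟨i, rfl⟩
    have h1 := sub_mem
      (Ideal.mul_mem_left K ((Fin.cons 1 MvPolynomial.X : Fin (n + 1) → MvPolynomial (Fin n) A) i) (hgen j))
      (Ideal.mul_mem_left K ((Fin.cons 1 MvPolynomial.X : Fin (n + 1) → MvPolynomial (Fin n) A) j) (hgen i))
    convert h1 using 1
    ring
  · rw [Ideal.span_le]
    rintro _ ⟨i, rfl⟩
    simp only [SetLike.mem_coe, RingHom.mem_ker, map_sub, map_mul, MvPolynomial.aeval_C,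
      MvPolynomial.aeval_X]
    rw [sub_eq_zero]
    exact IsLocalization.mk'_spec' (M := Submonoid.powers (a 0)) (Localization.Away (a 0)) _ _


end Groth.Agent.S0615
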