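import Groth.Statements.S0619
import Groth.Agent.Lib.CurveZeta.Basic
import Groth.Agent.Lib.FunFld.Zeta.Roots
import Groth.Agent.S13050

set_option autoImplicit false
universe u
open AlgebraicGeometry CategoryTheory
open Zeta

namespace Groth.Agent.S0619

/-- For a geometrically connected smooth proper curve of genus g over a finite field k with q elements
and a finite extension k' of degree n, |#C(k') − (qⁿ + 1)| ≤ 2g·q^(n/2). -/
theorem result {k : Type u} [Field k] [Finite k] {C : Scheme.{u}}
    (f : C ⟶ Spec (CommRingCat.of k)) (hC : Curve.IsSmoothProperCurve k C f)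
    [GeometricallyIrreducible f] (g : ℕ)
    (hg : Nat.card (Coh.HH C (Coh.structureModule C) 1) = Nat.card k ^ g)
    (k' : Type u) [Field k'] [Algebra k k'] [Finite k'] :
    |(SgaExt.pointCount f k' : ℝ) - ((Nat.card k : ℝ) ^ Module.finrank k k' + 1)| ≤
      2 * g * (Nat.card k : ℝ) ^ ((Module.finrank k k' : ℝ) / 2) :=  by
  letI : C.Over (Spec (CommRingCat.of k)) := ⟨f⟩
  obtain ⟨hp, hs, hi, hdim⟩ := hC
  haveI : IsProper (C ↘ Spec (CommRingCat.of k)) := hp
  haveI : Smooth (C ↘ Spec (CommRingCat.of k)) := hs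
  haveI : GeometricallyIrreducible (C ↘ Spec (CommRingCat.of k)) := ‹GeometricallyIrreducible f›
  letI : Algebra k C.functionField := Curv2.stalkAlgebra k C (genericPoint C)
  obtain ⟨h, h0⟩ := Groth.Agent.Lib.CurveZeta.hyps (k := k) (X := C) hdim
  have hK := Groth.Agent.Lib.CurveFF.isFunctionField h h0
  have hgen := Groth.Agent.Lib.CurveFF.genus_eq h h0
  have hgg : Curv2.genus k C = g := by
    haveI : Finite (Coh.HH C (Coh.structureModule C) 1) := Nat.finite_of_card_ne_zero (by
      rw [hg]; exact pow_ne_zero _ Nat.card_pos.ne')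
    haveI : Module.Finite k (Coh.HH C (Coh.structureModule C) 1) := Module.Finite.of_finite
    have h1 := Module.natCard_eq_pow_finrank (K := k) (V := Coh.HH C (Coh.structureModule C) 1)
    rw [hg] at h1
    exact (Nat.pow_right_injective Finite.one_lt_card h1).symm
  have hm : 0 < Module.finrank k k' := by
    haveI : Module.Finite k k' := Module.Finite.of_finite
    exact Module.finrank_pos
  have hN : SgaExt.pointCount f k' =
      Groth.Agent.Lib.FunFld.Zeta.Points.Npts k C.functionField (Module.finrank k k') :=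
    (Groth.Agent.S13050.result (C ↘ Spec (CommRingCat.of k)) k').trans
      (Groth.Agent.Lib.CurveZeta.nPts_eq h hK hm)
  have h2 := Groth.Agent.Lib.FunFld.Zeta.Roots.abs_npts_sub_le hK hm
  rw [← hgen, hgg] at h2
  rw [hN, ← sub_sub]
  refine h2.trans (le_of_eq ?_)
  rw [Real.sqrt_eq_rpow, ← Real.rpow_natCast, ← Real.rpow_mul (Nat.cast_nonneg _)]
  congr 2
  ring

end Groth.Agent.S0619
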