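import Groth.Statements.S0622
import Groth.Agent.Lib.EtSite.Stalk
import Groth.Agent.Lib.EtSite.Pull
import Mathlib.Algebra.Homology.ShortComplex.PreservesHomology
import Mathlib.CategoryTheory.Preadditive.AdditiveFunctor

set_option autoImplicit false
open CategoryTheory CategoryTheory.Limits AlgebraicGeometry Opposite
universe u
open EtCore

namespace Groth.Agent.S0622

/-- Exactness of a three-term complex of abelian etale sheaves can be tested on stalks at all geometric
points; likewise a morphism of abelian etale sheaves is a monomorphism, respectively an epimorphism,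
exactly when every geometric stalk map is injective, respectively surjective. -/
theorem result {X : Scheme.{u}} (S : ShortComplex (EtCoh.Ab X)) {F G : EtCoh.Ab X} (a : F ⟶ G) :
    (S.Exact ↔ ∀ (Ω : Type u) [Field Ω] [IsSepClosed Ω] (ξ : Spec (CommRingCat.of Ω) ⟶ X),
      (S.map (EtCoh.stalk ξ)).Exact) ∧
    (Mono a ↔ ∀ (Ω : Type u) [Field Ω] [IsSepClosed Ω] (ξ : Spec (CommRingCat.of Ω) ⟶ X),
      Function.Injective ((EtCoh.stalk ξ).map a)) ∧
    (Epi a ↔ ∀ (Ω : Type u) [Field Ω] [IsSepClosed Ω] (ξ : Spec (CommRingCat.of Ω) ⟶ X),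
      Function.Surjective ((EtCoh.stalk ξ).map a)) := by
  have hfl : ∀ (Ω : Type u) [Field Ω] [IsSepClosed Ω] (ξ : Spec (CommRingCat.of Ω) ⟶ X),
      PreservesFiniteLimits (EtCoh.stalk ξ) ∧ PreservesFiniteColimits (EtCoh.stalk ξ) :=
    fun Ω _ _ ξ => ⟨inferInstance, inferInstance⟩
  have hmono : ∀ {A B : EtCoh.Ab X} (φ : A ⟶ B), (∀ (Ω : Type u) [Field Ω] [IsSepClosed Ω]
      (ξ : Spec (CommRingCat.of Ω) ⟶ X), Function.Injective ((EtCoh.stalk ξ).map φ)) → Mono φ :=
    fun φ h => Groth.Agent.Lib.EtSite.Stalk.mono_of_stalks φ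
      (Groth.Agent.Lib.EtSite.Stalk.enoughPts_pt fun x => h _ _)
  refine ⟨⟨fun h Ω _ _ ξ => ?_, fun h => ?_⟩, ⟨fun _ Ω _ _ ξ => ?_, hmono a⟩,
    ⟨fun _ Ω _ _ ξ => ?_, fun h => Groth.Agent.Lib.EtSite.Stalk.epi_of_stalks a
      (Groth.Agent.Lib.EtSite.Stalk.enoughPts_pt fun x => h _ _)⟩⟩
  · haveI := (hfl Ω ξ).1; haveI := (hfl Ω ξ).2
    haveI : (EtCoh.stalk ξ).Additive := Functor.additive_of_preserves_binary_products _
    exact h.map _
  · rw [ShortComplex.exact_iff_isZero_homology, IsZero.iff_id_eq_zero]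
    have : Mono (0 : S.homology ⟶ S.homology) := hmono _ fun Ω _ _ ξ => by
      haveI := (hfl Ω ξ).1; haveI := (hfl Ω ξ).2
      haveI : (EtCoh.stalk ξ).Additive := Functor.additive_of_preserves_binary_products _
      have hz : IsZero ((EtCoh.stalk ξ).obj S.homology) :=
        ((S.map (EtCoh.stalk ξ)).exact_iff_isZero_homology.1 (h Ω ξ)).of_iso
          (S.mapHomologyIso (EtCoh.stalk ξ)).symm
      intro x y _
      exact @Subsingleton.elim _ (AddCommGrpCat.subsingleton_of_isZero hz) x y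
    rw [← cancel_mono (0 : S.homology ⟶ S.homology), comp_zero, comp_zero]
  · haveI := (hfl Ω ξ).1
    exact (AddCommGrpCat.mono_iff_injective _).1 inferInstance
  · haveI := (hfl Ω ξ).2
    exact (AddCommGrpCat.epi_iff_surjective _).1 inferInstance

end Groth.Agent.S0622
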