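import Groth.Statements.S0626
import Groth.Agent.H88.EtMod.ConstNormal

set_option autoImplicit false
open CategoryTheory CategoryTheory.Limits AlgebraicGeometry Opposite
universe u
open EtCore

namespace Groth.Agent.S0626

/-- Let X be an integral normal scheme (all local rings integrally closed) with generic point η, let g :
Spec O_{X,η} → X be the canonical morphism, and let M be an abelian group. Then the adjunction unit
from the constant étale sheaf with value M on X to g_* of its pullback is an isomorphism. (Since the
pullback of a constant sheaf is constant, this says that g_* of the constant sheaf M on the spectrum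
of the function field is the constant sheaf M on X.) -/
theorem result (X : Scheme.{u}) [IsIntegral X]
    (hN : ∀ x : X, IsIntegrallyClosed (X.presheaf.stalk x)) (M : Type) [AddCommGroup M] :
    IsIso ((EtCoh.pullPushAdj (X.fromSpecStalk (genericPoint X))).unit.app (EtCoh.const X M)) := by
  haveI : QuasiCompact (X.fromSpecStalk (genericPoint X)) := by
    haveI : Subsingleton ↥(Spec (X.presheaf.stalk (genericPoint X))) := ⟨fun a b => by
      refine (X.fromSpecStalk (genericPoint X)).isEmbedding.injective ?_
      have h : ∀ c, (X.fromSpecStalk (genericPoint X)).base c = genericPoint X := fun c => by
        have hc : (X.fromSpecStalk (genericPoint X)).base c ⤳ genericPoint X := by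
          have := Set.mem_range_self (f := (X.fromSpecStalk (genericPoint X)).base) c
          rwa [Scheme.range_fromSpecStalk] at this
        exact (hc.antisymm (genericPoint_specializes _)).eq
      exact (h a).trans (h b).symm⟩
    exact ⟨fun U _ _ => Set.Subsingleton.isCompact (Set.subsingleton_of_subsingleton)⟩
  refine Groth.Agent.H88.EtMod.ConstNormal.isIso_unit M _ (fun x => ⟨inferInstance, hN x⟩) fun y hy => ?_
  rw [← hy _ (genericPoint_specializes y), Scheme.range_fromSpecStalk]
  exact specializes_rfl

end Groth.Agent.S0626
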