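import Groth.Statements.S0627
import Groth.Agent.H88.EtMod.ConstNormal
import Mathlib.AlgebraicGeometry.Morphisms.OpenImmersion

set_option autoImplicit false
open CategoryTheory CategoryTheory.Limits AlgebraicGeometry Opposite
universe u
open EtCore

namespace Groth.Agent.S0627

/-- Let X be an integral normal scheme (every local ring integrally closed), U a nonempty open subscheme
with inclusion j : U → X, and M an abelian group. Then the adjunction unit from the constant étale
sheaf with value M on X to j_* of its pullback to U is an isomorphism. -/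
theorem result (X : Scheme.{u}) [IsIntegral X]
    (hN : ∀ x : X, IsIntegrallyClosed (X.presheaf.stalk x)) (U : X.Opens) (hU : (U : Set X).Nonempty)
    (M : Type) [AddCommGroup M] :
    IsIso ((EtCoh.pullPushAdj U.ι).unit.app (EtCoh.const X M)) := by
  let η := genericPoint X
  have hη : η ∈ U := by
    obtain ⟨z, hz⟩ := hU
    exact (genericPoint_specializes z).mem_open U.2 hz
  let g := X.fromSpecStalk η
  have hg : ∀ c, g.base c = η := fun c => by
    have hc : g.base c ⤳ η := by
      have := Set.mem_range_self (f := g.base) c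
      rwa [Scheme.range_fromSpecStalk] at this
    exact (hc.antisymm (genericPoint_specializes _)).eq
  haveI hsub : Subsingleton ↥(Spec (X.presheaf.stalk η)) :=
    ⟨fun a b => g.isEmbedding.injective ((hg a).trans (hg b).symm)⟩
  haveI : QuasiCompact g := ⟨fun _ _ _ => Set.Subsingleton.isCompact Set.subsingleton_of_subsingleton⟩
  let g' : Spec (X.presheaf.stalk η) ⟶ U := IsOpenImmersion.lift U.ι g (by
    rintro - ⟨c, rfl⟩
    rw [hg c, Scheme.Opens.range_ι]
    exact hη)
  have hgg : g' ≫ U.ι = g := IsOpenImmersion.lift_fac _ _ _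
  haveI : IsPreimmersion (g' ≫ U.ι) := hgg ▸ inferInstance
  haveI : IsPreimmersion g' := IsPreimmersion.of_comp g' U.ι
  haveI : QuasiCompact g' := ⟨fun _ _ _ => Set.Subsingleton.isCompact Set.subsingleton_of_subsingleton⟩
  -- normality of U
  have hUn : Pi1.IsNormalScheme (U : Scheme.{u}) := fun x => by
    let e := (asIso (U.ι.stalkMap x)).commRingCatIsoToRingEquiv
    haveI := hN (U.ι.base x)
    exact ⟨MulEquiv.isDomain (X.presheaf.stalk (U.ι.base x)) e.symm.toMulEquiv,
      IsIntegrallyClosed.of_equiv e⟩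
  have h' : IsIso ((EtCoh.pullPushAdj g').unit.app (EtCoh.const (U : Scheme.{u}) M)) := by
    refine Groth.Agent.H88.EtMod.ConstNormal.isIso_unit M _ hUn fun y hy => ?_
    have hy' : U.ι.base y = η := by
      obtain ⟨w, hw⟩ : ∃ w : ↥(U : Scheme.{u}), U.ι.base w = η := ⟨⟨η, hη⟩, rfl⟩
      have hwy : w ⤳ y := U.ι.isEmbedding.isInducing.specializes_iff.1 (hw ▸ genericPoint_specializes _)
      exact (congrArg U.ι.base (hy w hwy)).symm.trans hw
    refine ⟨IsLocalRing.closedPoint (X.presheaf.stalk η), U.ι.isEmbedding.injective ?_⟩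
    rw [← Scheme.Hom.comp_apply, hgg, hg, hy']
  haveI : IsIso ((EtCoh.pullPushAdj (g' ≫ U.ι)).unit.app (EtCoh.const X M)) := by
    rw [hgg]
    exact Groth.Agent.H88.EtMod.ConstNormal.isIso_unit M g (fun x => ⟨inferInstance, hN x⟩) fun y hy => by
      rw [← hy _ (genericPoint_specializes y), Scheme.range_fromSpecStalk]
      exact specializes_rfl
  have e := CategoryTheory.Adjunction.unit_leftAdjointUniq_hom_app (EtCoh.pullPushAdj (g' ≫ U.ι))
    (((EtCoh.pullPushAdj U.ι).comp (EtCoh.pullPushAdj g')).ofNatIsoRight (EtCoh.pushComp U.ι g'))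
    (EtCoh.const X M)
  haveI : IsIso ((EtCoh.pullPushAdj g').unit.app ((EtCoh.pull U.ι).obj (EtCoh.const X M))) :=
    (NatTrans.isIso_app_iff_of_iso _
      ((EtCore.pullConstIso U.ι).app (AddCommGrpCat.of (ULift.{u + 1} M)))).2 h'
  haveI : IsIso (((EtCoh.pullPushAdj U.ι).unit.app (EtCoh.const X M)) ≫
      (EtCoh.push U.ι).map ((EtCoh.pullPushAdj g').unit.app ((EtCoh.pull U.ι).obj (EtCoh.const X M))) ≫
      (EtCoh.pushComp U.ι g').hom.app _) := by
    have e' : _ ≫ _ = (EtCoh.pullPushAdj U.ι).unit.app (EtCoh.const X M) ≫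
        (EtCoh.push U.ι).map ((EtCoh.pullPushAdj g').unit.app ((EtCoh.pull U.ι).obj (EtCoh.const X M))) ≫
        (EtCoh.pushComp U.ι g').hom.app _ := e.trans (by simp [Adjunction.ofNatIsoRight])
    rw [← e']
    infer_instance
  exact IsIso.of_isIso_comp_right _ ((EtCoh.push U.ι).map ((EtCoh.pullPushAdj g').unit.app
    ((EtCoh.pull U.ι).obj (EtCoh.const X M))) ≫ (EtCoh.pushComp U.ι g').hom.app _)

end Groth.Agent.S0627
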