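import Groth.Statements.S0628
import Groth.Agent.H88.EtMod.SepClosedPoint
import Groth.Agent.H88.EtMod.ConstNormal

set_option autoImplicit false
open CategoryTheory CategoryTheory.Limits AlgebraicGeometry Opposite
universe u
open EtCore

namespace Groth.Agent.S0628

/-- Let f : X -> Y be a morphism of schemes with X integral and normal and with separably closed
function field. Then the higher direct images R^q f_* of a constant sheaf vanish for q > 0. -/
theorem result {X Y : Scheme.{u}} (f : X ⟶ Y) [IsIntegral X]
    (hN : ∀ x : X, IsIntegrallyClosed (X.presheaf.stalk x)) [IsSepClosed X.functionField]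
    (M : Type) [AddCommGroup M] (q : ℕ) (hq : 1 ≤ q) :
    IsZero ((EtCoh.Rpush f q).obj (EtCoh.const X M)) := by
  let g : Spec (CommRingCat.of X.functionField) ⟶ X := X.fromSpecStalk (genericPoint X)
  haveI : IsPreimmersion g := inferInstanceAs (IsPreimmersion (X.fromSpecStalk (genericPoint X)))
  haveI : QuasiCompact g := ⟨fun _ _ _ => Set.Subsingleton.isCompact Set.subsingleton_of_subsingleton⟩
  haveI := Groth.Agent.H88.EtMod.ConstNormal.isIso_unit M g (fun x => ⟨inferInstance, hN x⟩) fun y hy => by
    rw [← hy _ (genericPoint_specializes y)]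
    exact ⟨IsLocalRing.closedPoint _, Scheme.fromSpecStalk_closedPoint⟩
  refine IsZero.of_iso ?_ ((EtCoh.Rpush f q).mapIso
    (asIso ((EtCoh.pullPushAdj g).unit.app (EtCoh.const X M))))
  exact Groth.Agent.H88.EtMod.SepClosedPoint.isZero_rpush_push g f _ q hq

end Groth.Agent.S0628
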