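import Groth.Statements.S0632
import Groth.Agent.Lib.EtRad.EtaleLift
-- import your own Groth.Agent.* helpers here

set_option autoImplicit false
open CategoryTheory CategoryTheory.Limits AlgebraicGeometry Opposite
universe u
open EtCore

namespace Groth.Agent.S0632

theorem mem_range_of_chart {X Y : Scheme.{u}} (f : X ⟶ Y) {W : Y.Etale} {U : X.Etale}
    (g : pullback W.hom f ⟶ U.left) (hg : g ≫ U.hom = pullback.snd W.hom f) (u : U.left)
    (hu : u ∈ Set.range g.base) : ∃ w : W.left, W.hom.base w = f.base (U.hom.base u) := by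
  obtain ⟨z, rfl⟩ := hu
  refine ⟨(pullback.fst W.hom f).base z, ?_⟩
  refine (congrArg (fun m => m.base z) (pullback.condition (f := W.hom) (g := f))).trans ?_
  change f.base ((pullback.snd W.hom f).base z) = f.base (U.hom.base (g.base z))
  rw [← hg]
  rfl

/-- Let X -> Y be a closed immersion and U_i -> X (i in ι) a jointly surjective family of etale
morphisms. Then one can find a jointly surjective family of etale Y-schemes V_j each of which either
has empty preimage over X or, after base change to X, maps into one of the U_i over X. -/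
theorem result {X Y : Scheme.{u}} (f : X ⟶ Y) [IsClosedImmersion f]
    {ι : Type u} (U : ι → X.Etale) (hU : EtCoh.Covers U) :
    ∃ (κ : Type u) (V : κ → Y.Etale), EtCoh.Covers V ∧
      ∀ j, IsEmpty ↥(pullback (V j).hom f) ∨
        ∃ (i : ι) (h : pullback (V j).hom f ⟶ (U i).left), h ≫ (U i).hom = pullback.snd (V j).hom f := by
  choose V h h₁ _ h₃ using fun (p : Σ i, (U i).left) =>
    Groth.Agent.Lib.EtRad.EtaleLift.exists_chart f (U p.1) p.2
  let O : Y.Opens := ⟨(Set.range f.base)ᶜ, f.isClosedEmbedding.isClosed_range.isOpen_compl⟩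
  refine ⟨Option (Σ i, (U i).left), fun j => j.elim (Scheme.Etale.mk O.ι) V, fun y => ?_, ?_⟩
  · by_cases hy : y ∈ Set.range f.base
    · obtain ⟨x, rfl⟩ := hy
      obtain ⟨i, z, hz⟩ := hU x
      obtain ⟨w, hw⟩ := mem_range_of_chart f (h ⟨i, z⟩) (h₁ _) z (h₃ _)
      exact ⟨some ⟨i, z⟩, w, hw.trans (congrArg f.base hz)⟩
    · exact ⟨none, ⟨y, hy⟩, rfl⟩
  · rintro (_ | p)
    · refine Or.inl ⟨fun z => ?_⟩
      let w : (O : Scheme.{u}) := (pullback.fst O.ι f).base z
      exact w.2 ⟨(pullback.snd O.ι f).base z,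
        (congrArg (fun m => m.base z) (pullback.condition (f := O.ι) (g := f))).symm⟩
    · exact Or.inr ⟨p.1, h p, h₁ p⟩

end Groth.Agent.S0632
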