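import Groth.Statements.S0634
import Groth.Agent.Lib.EtJ.PullGerm

set_option autoImplicit false
open CategoryTheory CategoryTheory.Limits AlgebraicGeometry Opposite
universe u
open EtCore

namespace Groth.Agent.S0634

/-- For an abelian sheaf F on the small etale site of S and two global sections s, t there is an open W
of S such that a morphism f : T -> S has image inside W if and only if the pullbacks of s and t
along f (images under the adjunction unit, as sections of the pullback sheaf over T) coincide. -/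
theorem result {S : Scheme.{u}} (F : EtCoh.Ab S) (s t : EtCoh.sect F (EtCoh.top S)) :
    ∃ W : S.Opens, ∀ (T : Scheme.{u}) (f : T ⟶ S),
      Set.range f.base ⊆ (W : Set S) ↔
        ((EtCoh.pullPushAdj f).unit.app F).hom.app (op (EtCoh.top S)) s =
          ((EtCoh.pullPushAdj f).unit.app F).hom.app (op (EtCoh.top S)) t := by
  let r := s - t
  refine ⟨⟨(EtShriek.sectSupp F (EtCoh.top S) r)ᶜ,
    (Groth.Agent.Lib.EtJ.Supp.isClosed_sectSupp F _ r).isOpen_compl⟩, fun T f => ?_⟩
  let η : EtCoh.sect F (EtCoh.top S) →+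
      EtCoh.sect ((EtCoh.pull f).obj F) ((EtCoh.bc f).obj (EtCoh.top S)) :=
    (((EtCoh.pullPushAdj f).unit.app F).hom.app (op (EtCoh.top S))).hom
  have key : ∀ (Ω : Type u) [Field Ω] [IsSepClosed Ω] (ξ : Spec (CommRingCat.of Ω) ⟶ T)
      (p : (Scheme.pointSmallEtale (ξ ≫ f)).fiber.obj (EtCoh.top S)),
      Groth.Agent.Lib.EtJ.Supp.germ ((EtCoh.pull f).obj F) ((EtCoh.bc f).obj (EtCoh.top S))
        ((Groth.Agent.Lib.EtSite.Pull.fiberBcIso f ξ).inv.app _ p) (η r) = 0 ↔
      f.base (ξ.base default) ∉ EtShriek.sectSupp F (EtCoh.top S) r := by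
    intro Ω _ _ ξ p
    have h := ConcreteCategory.congr_hom
      (Groth.Agent.Lib.EtJ.PullGerm.stalkPull_germ f ξ F (EtCoh.top S) p) r
    simp only [ConcreteCategory.comp_apply] at h
    have hinj : Function.Injective ((Groth.Agent.Lib.EtSite.Pull.stalkPull f ξ).hom.app F) :=
      ((ConcreteCategory.isIso_iff_bijective _).1 inferInstance).1
    rw [← map_eq_zero_iff _ hinj]
    erw [h]
    rw [Groth.Agent.Lib.EtJ.Supp.germ_eq_zero_iff_notMem]
    have : Groth.Agent.Lib.EtSite.Basic.fiberPt p = f.base (ξ.base default) :=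
      Groth.Agent.Lib.EtSite.Basic.hom_fiberPt p
    rw [this]
    exact Iff.rfl
  have hst : η s = η t ↔ η r = 0 := by rw [map_sub, sub_eq_zero]
  have key' : ∀ (Ω : Type u) [Field Ω] [IsSepClosed Ω] (ξ : Spec (CommRingCat.of Ω) ⟶ T)
      (q : (Scheme.pointSmallEtale ξ).fiber.obj ((EtCoh.bc f).obj (EtCoh.top S))),
      Groth.Agent.Lib.EtJ.Supp.germ ((EtCoh.pull f).obj F) ((EtCoh.bc f).obj (EtCoh.top S))
        q (η r) = 0 ↔ f.base (ξ.base default) ∉ EtShriek.sectSupp F (EtCoh.top S) r := by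
    intro Ω _ _ ξ q
    obtain ⟨p, rfl⟩ := ((ConcreteCategory.isIso_iff_bijective
      ((Groth.Agent.Lib.EtSite.Pull.fiberBcIso f ξ).inv.app (EtCoh.top S))).1 inferInstance).2 q
    exact key Ω ξ p
  clear key
  refine Iff.trans ?_ (show η s = η t ↔ _ from Iff.rfl)
  rw [hst]
  clear_value η
  constructor
  · intro hW
    refine Groth.Agent.Lib.EtSite.Stalk.sections_ext_of_germ ((EtCoh.pull f).obj F) (η r) 0
      (Groth.Agent.Lib.EtSite.Stalk.enoughPts_pt fun x q => ?_)
    exact ((key' _ _ q).2 (hW ⟨_, rfl⟩)).trans (map_zero _).symm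
  · rintro h _ ⟨x, rfl⟩
    obtain ⟨q, -⟩ := Groth.Agent.Lib.EtSite.Basic.exists_fiber
      (Groth.Agent.Lib.EtSite.Basic.geomPoint T x) ((EtCoh.bc f).obj (EtCoh.top S))
      ((pullback.lift (f := 𝟙 S) (g := f) f (𝟙 T) (by simp) :
        T ⟶ ((EtCoh.bc f).obj (EtCoh.top S)).left).base x) (by
        rw [Groth.Agent.Lib.EtSite.Basic.geomPoint_apply]
        change ((pullback.lift (f := 𝟙 S) (g := f) f (𝟙 T) (by simp)) ≫ pullback.snd (𝟙 S) f).base x = x
        rw [pullback.lift_snd]; rfl)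
    have := (key' _ _ q).1 (by rw [h]; exact map_zero _)
    rw [Groth.Agent.Lib.EtSite.Basic.geomPoint_apply] at this
    exact this

end Groth.Agent.S0634
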