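import Groth.Statements.S0641
import Groth.Agent.Lib.SepClosedSplit.H1Cover
import Groth.Agent.Lib.EtFiltr50.Step
import Groth.Agent.Lib.Gabber50.Proper
import Groth.Agent.Lib.EtSite.BaseChange
import Groth.Agent.Lib.EtSite.HensClosed
import Groth.Agent.Lib.EtSite.Push
import Groth.Agent.Lib.EtJ.PullExact
import Groth.Agent.Lib.EtH1Gm.HofPush
import Groth.Agent.Lib.Henselian.LocalRing
import Groth.Agent.H61.HpullFunct
import Groth.Agent.S14451
import Groth.Agent.S0240

set_option autoImplicit false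
open CategoryTheory CategoryTheory.Limits AlgebraicGeometry Opposite
universe u
open EtCore

namespace Groth.Agent.S0641

open CategoryTheory.Abelian

section

variable {A : Type u} [CommRing A] [HenselianLocalRing A] {X : Scheme.{u}}
  (f : X ⟶ Spec (CommRingCat.of A)) [IsProper f]

/-- The closed fibre. -/
noncomputable abbrev cf : pullback f (Spec.map (CommRingCat.ofHom (IsLocalRing.residue A))) ⟶ X :=
  pullback.fst f (Spec.map (CommRingCat.ofHom (IsLocalRing.residue A)))

theorem unit_bijective (F : EtCoh.Ab X) :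
    Function.Bijective (Groth.Agent.Lib.EtSite.HensClosed.unitAt (cf f) F (EtCoh.top X)) :=
  haveI : HenselianRing A (IsLocalRing.maximalIdeal A) :=
    Groth.Agent.Lib.Henselian.LocalRing.henselianLocalRing_iff_henselianRing.mp inferInstance
  Groth.Agent.Lib.Gabber50.Proper.bijective_pullback (IsLocalRing.maximalIdeal A) f F

theorem hom_bijective (F : EtCoh.Ab X) :
    Function.Bijective fun φ : EtCoh.const X ℤ ⟶ F => (EtCore.pullConst (cf f) ℤ).inv ≫ (EtCoh.pull (cf f)).map φ := by
  refine (Function.Bijective.of_comp_iff' (Groth.Agent.Lib.EtJ.PullSec.elem _ _).bijective _).1 ?_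
  have h : (Groth.Agent.Lib.EtJ.PullSec.elem _ _) ∘ (fun φ : EtCoh.const X ℤ ⟶ F =>
      (EtCore.pullConst (cf f) ℤ).inv ≫ (EtCoh.pull (cf f)).map φ) =
    (fun s => ((EtCoh.pull (cf f)).obj F).obj.map ((EtCore.bcTopIsTerminal (cf f)).from (EtCoh.top _)).op
      (Groth.Agent.Lib.EtSite.HensClosed.unitAt (cf f) F (EtCoh.top X) s)) ∘
      Groth.Agent.Lib.EtJ.PullSec.elem X F :=
    funext fun φ => Groth.Agent.Lib.EtJ.PullSec.elem_pull (cf f) F φ
  rw [h]
  haveI : IsIso ((EtCore.bcTopIsTerminal (cf f)).from (EtCoh.top _)) :=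
    ⟨(EtCore.topIsTerminal _).from _, (EtCore.topIsTerminal _).hom_ext _ _,
      (EtCore.bcTopIsTerminal (cf f)).hom_ext _ _⟩
  exact ((ConcreteCategory.bijective_of_isIso
    (((EtCoh.pull (cf f)).obj F).obj.map ((EtCore.bcTopIsTerminal (cf f)).from (EtCoh.top _)).op)).comp
      (unit_bijective f F)).comp (Groth.Agent.Lib.EtJ.PullSec.elem X F).bijective

theorem surjective_of_finiteEtale {Y : Scheme.{u}} (π : Y ⟶ X) [IsFinite π] [Etale π]
    (h : Set.range (cf f).base ⊆ Set.range π.base) : Surjective π := by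
  refine ⟨fun x => ?_⟩
  have hclosed : IsClosed (f.base '' closure {x}) := f.isClosedMap _ isClosed_closure
  obtain ⟨y, hy, hfy⟩ := Groth.Agent.Lib.EtSite.HensClosed.closedPoint_mem_of_isClosed (A := A) hclosed
    ⟨_, x, subset_closure rfl, rfl⟩
  obtain ⟨z, hz, -⟩ := Scheme.Pullback.exists_preimage_pullback (f := f)
    (g := Spec.map (CommRingCat.ofHom (IsLocalRing.residue A))) y (IsLocalRing.closedPoint (IsLocalRing.ResidueField A))
    (hfy.trans (by
      refine (Set.eq_of_mem_singleton ?_).symm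
      exact (Groth.Agent.Lib.EtSite.HensClosed.range_closedPoint (A := A)) ▸ Set.mem_range_self _))
  have hx : x ⤳ y := specializes_iff_mem_closure.2 hy
  exact hx.mem_open π.isOpenMap.isOpen_range (h ⟨z, hz⟩)

theorem lift_cover {Y₀ : Scheme.{u}} (π₀ : Y₀ ⟶ pullback f (Spec.map (CommRingCat.ofHom (IsLocalRing.residue A))))
    [IsFinite π₀] [Etale π₀] [Surjective π₀] :
    ∃ (Y : Scheme.{u}) (π : Y ⟶ X) (_ : IsFinite π) (_ : Etale π) (_ : Surjective π)
      (a : pullback π (cf f) ⟶ Y₀), a ≫ π₀ = pullback.snd π (cf f) := by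
  haveI := Groth.Agent.S0240.result A f
  let Y₀' : FEt.Cat _ := MorphismProperty.Over.mk ⊤ π₀ ⟨inferInstance, inferInstance⟩
  let Y := (FEt.restrict (cf f)).objPreimage Y₀'
  let e := (FEt.restrict (cf f)).objObjPreimageIso Y₀'
  haveI : IsFinite Y.hom := Y.prop.1
  haveI : Etale Y.hom := Y.prop.2
  refine ⟨Y.left, Y.hom, inferInstance, inferInstance, ?_, e.hom.left, MorphismProperty.Over.w e.hom⟩
  refine surjective_of_finiteEtale f Y.hom ?_
  rintro _ ⟨z, rfl⟩
  obtain ⟨w, hw⟩ := π₀.surjective z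
  have hinv : e.inv.left ≫ pullback.snd Y.hom (cf f) = π₀ := MorphismProperty.Over.w e.inv
  refine ⟨(pullback.fst Y.hom (cf f)).base (e.inv.left.base w), ?_⟩
  refine (congrArg (fun m => m.base (e.inv.left.base w)) (pullback.condition (f := Y.hom) (g := cf f))).trans ?_
  exact congrArg (cf f).base ((congrArg (fun m => m.base w) hinv).trans hw)

variable [PreservesFiniteLimits (EtCoh.pull (cf f))]

theorem Hpull_δ {S : ShortComplex (EtCoh.Ab X)} (hS : S.ShortExact) (φ : EtCoh.const X ℤ ⟶ S.X₃) :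
    EtCore.Hpull (cf f) S.X₁ 1 ((Ext.mk₀ φ).comp hS.extClass (zero_add 1)) =
      (Ext.mk₀ ((EtCore.pullConst (cf f) ℤ).inv ≫ (EtCoh.pull (cf f)).map φ)).comp
        (hS.map_of_exact (EtCoh.pull (cf f))).extClass (zero_add 1) := by
  change (Ext.mk₀ (EtCore.pullConst (cf f) ℤ).inv).comp
    ((EtCoh.pull (cf f)).mapExtAddHom _ _ 1 ((Ext.mk₀ φ).comp hS.extClass (zero_add 1))) (zero_add 1) = _
  simp only [Functor.mapExtAddHom_coe, Ext.mapExactFunctor_comp, Ext.mapExactFunctor_mk₀,
    Ext.mapExactFunctor_extClass]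
  exact (Ext.comp_assoc_of_second_deg_zero _ _ _ _).symm.trans
    (congrArg (fun t => Ext.comp t _ (zero_add 1)) (Ext.mk₀_comp_mk₀ _ _))

theorem Hpull_one_bijective (F : EtCoh.Ab X)
    (hF : EtCoh.IsFiniteLocallyConstant ((EtCoh.pull (cf f)).obj F)) :
    Function.Bijective (EtCore.Hpull (cf f) F 1) := by
  let S : ShortComplex (EtCoh.Ab X) :=
    ShortComplex.mk (Injective.ι F) (cokernel.π (Injective.ι F)) (cokernel.condition _)
  have hS : S.ShortExact :=
    { exact := ShortComplex.exact_of_g_is_cokernel _ (cokernelIsCokernel _)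
      mono_f := inferInstanceAs (Mono (Injective.ι F))
      epi_g := inferInstanceAs (Epi (cokernel.π (Injective.ι F))) }
  haveI : Injective S.X₂ := inferInstanceAs (Injective (Injective.under F))
  have hS' := hS.map_of_exact (EtCoh.pull (cf f))
  refine ⟨(injective_iff_map_eq_zero _).2 fun x hx => ?_, fun x₀ => ?_⟩
  · obtain ⟨y, rfl⟩ := Ext.covariant_sequence_exact₁ _ hS x (Ext.eq_zero_of_injective _) (zero_add 1)
    obtain ⟨φ, rfl⟩ := (Ext.mk₀_bijective _ _).2 y
    erw [Hpull_δ f hS φ] at hx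
    obtain ⟨b, hb⟩ := Ext.covariant_sequence_exact₃ _ hS' _ (zero_add 1) hx
    obtain ⟨ψ₀, rfl⟩ := (Ext.mk₀_bijective _ _).2 b
    obtain ⟨ψ, rfl⟩ := (hom_bijective f S.X₂).2 ψ₀
    replace hb := (Ext.mk₀_comp_mk₀ _ _).symm.trans hb
    have h2 : φ = ψ ≫ S.g := (hom_bijective f S.X₃).1 (by
      refine ((Ext.mk₀_bijective _ _).1 hb).symm.trans ?_
      refine (Category.assoc _ _ _).trans ?_
      exact congrArg ((EtCore.pullConst (cf f) ℤ).inv ≫ ·) ((EtCoh.pull (cf f)).map_comp ψ S.g).symm)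
    rw [h2, ← Ext.mk₀_comp_mk₀, Ext.comp_assoc_of_second_deg_zero, hS.comp_extClass, Ext.comp_zero]
  · obtain ⟨Y₀, π₀, hfin, het, hsurj, hkill⟩ :=
      Groth.Agent.Lib.SepClosedSplit.H1Cover.exists_cover_killing _ hF x₀
    obtain ⟨Y, π, _, _, _, a, ha⟩ := lift_cover f π₀
    let π' := pullback.snd π (cf f)
    let z := x₀.comp (Ext.mk₀ ((EtCoh.pull (cf f)).map S.f)) (add_zero 1)
    have h0 : EtCore.Hpull π' _ 1 x₀ = 0 := by
      rw [← Groth.Agent.H61.HpullFunct.HpullVia_Hpull a π₀ π' ha, hkill, map_zero]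
    have hz0 : EtCore.Hpull π' _ 1 z = 0 :=
      (Groth.Agent.H61.HpullFunct.Hpull_map (f := π') ((EtCoh.pull (cf f)).map S.f) 1 x₀).trans
        ((congrArg _ h0).trans (map_zero _))
    haveI hmono : Mono ((EtCoh.pullPushAdj π).unit.app S.X₂) :=
      Groth.Agent.Lib.EtSite.HensClosed.mono_unit_of_surjective π π.surjective S.X₂
    let r := Injective.factorThru (𝟙 S.X₂) ((EtCoh.pullPushAdj π).unit.app S.X₂)
    haveI : IsIso (EtCoh.baseChange0 π (cf f) π' (pullback.fst π (cf f))
        (IsPullback.of_hasPullback π (cf f)).w ((EtCoh.pull π).obj S.X₂)) :=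
      Groth.Agent.Lib.EtSite.BaseChange.isIso_baseChange0 (IsPullback.of_hasPullback π (cf f)) _
    let e := asIso (EtCoh.baseChange0 π (cf f) π' (pullback.fst π (cf f))
        (IsPullback.of_hasPullback π (cf f)).w ((EtCoh.pull π).obj S.X₂))
    let c : (EtCoh.pull (cf f)).obj S.X₂ ⟶
        (EtCoh.push π').obj ((EtCoh.pull (pullback.fst π (cf f))).obj ((EtCoh.pull π).obj S.X₂)) :=
      (EtCoh.pull (cf f)).map ((EtCoh.pullPushAdj π).unit.app S.X₂) ≫ e.hom
    have hc : c ≫ e.inv ≫ (EtCoh.pull (cf f)).map r = 𝟙 _ := by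
      refine (Category.assoc _ _ _).trans
        ((congrArg ((EtCoh.pull (cf f)).map ((EtCoh.pullPushAdj π).unit.app S.X₂) ≫ ·)
          (e.hom_inv_id_assoc _)).trans ?_)
      refine ((EtCoh.pull (cf f)).map_comp _ _).symm.trans
        ((congrArg (EtCoh.pull (cf f)).map (Injective.comp_factorThru _ _)).trans ?_)
      exact CategoryTheory.Functor.map_id _ _
    have hη : z.comp (Ext.mk₀ ((EtCoh.pullPushAdj π').unit.app _)) (add_zero 1) = 0 := by
      refine (Groth.Agent.S14451.result π' _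
        (fun q hq => Groth.Agent.Lib.EtSite.Push.isZero_Rpush π' _ q hq) 1).1 ?_
      rw [map_zero]
      show ((EtCoh.HF _ 1).map _).hom (EtCore.Hpull π' _ 1 _) = 0
      erw [Groth.Agent.H61.HpullFunct.Hpull_map (f := π') ((EtCoh.pullPushAdj π').unit.app _) 1 z, hz0,
        map_zero, map_zero]
    have hfac : c = (EtCoh.pullPushAdj π').unit.app _ ≫
        (EtCoh.push π').map (((EtCoh.pullPushAdj π').homEquiv _ _).symm c) := by
      exact (Equiv.apply_symm_apply ((EtCoh.pullPushAdj π').homEquiv _ _) c).symm.trans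
        ((EtCoh.pullPushAdj π').homEquiv_unit _ _ _)
    have hz : z = 0 := by
      have h1 : z.comp (Ext.mk₀ c) (add_zero 1) = 0 := by
        refine (congrArg (fun t => z.comp (Ext.mk₀ t) (add_zero 1)) hfac).trans ?_
        refine (congrArg (fun t => z.comp t (add_zero 1)) (Ext.mk₀_comp_mk₀ _ _).symm).trans ?_
        refine (Ext.comp_assoc_of_third_deg_zero _ _ _ _).symm.trans ?_
        exact (congrArg (fun t => Ext.comp t _ (add_zero 1)) hη).trans (Ext.zero_comp ..)
      have h2 := congrArg (fun t => Ext.comp t (Ext.mk₀ (e.inv ≫ (EtCoh.pull (cf f)).map r)) (add_zero 1)) h1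
      rw [Ext.comp_assoc_of_third_deg_zero, Ext.mk₀_comp_mk₀, hc, Ext.comp_mk₀_id, Ext.zero_comp] at h2
      exact h2
    obtain ⟨y, hy⟩ := Ext.covariant_sequence_exact₁ _ hS' x₀ hz (zero_add 1)
    obtain ⟨φ₀, rfl⟩ := (Ext.mk₀_bijective _ _).2 y
    obtain ⟨φ, rfl⟩ := (hom_bijective f S.X₃).2 φ₀
    exact ⟨(Ext.mk₀ φ).comp hS.extClass (zero_add 1), (Hpull_δ f hS φ).trans hy⟩

end


/-- Let A be a henselian local ring, X proper over Spec A, X_0 the closed fibre (base change to the
residue field) and M a finite abelian group. Then the pullback map from H^1(X, M) to H^1 of X_0 with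
coefficients in the pullback of the constant sheaf M is bijective. (Exactness of pullback of abelian
sheaves, which always holds, is carried as an instance hypothesis.) -/
theorem result (A : Type u) [CommRing A] [HenselianLocalRing A]
    (X : Scheme.{u}) (f : X ⟶ Spec (CommRingCat.of A)) [IsProper f] (M : Type) [AddCommGroup M] [Finite M]
    [PreservesFiniteLimits (EtCoh.pull (pullback.fst f
      (Spec.map (CommRingCat.ofHom (IsLocalRing.residue A)))))] :
    Function.Bijective (EtCore.Hpull (pullback.fst f (Spec.map (CommRingCat.ofHom (IsLocalRing.residue A))))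
      (EtCoh.const X M) 1) := by
  exact Hpull_one_bijective f _ (Groth.Agent.Lib.EtFiltr50.Step.flc_of_iso (EtCore.pullConst _ M).symm
    (Groth.Agent.Lib.EtFiltr50.Step.flc_const M))

end Groth.Agent.S0641
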