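import Groth.Statements.S0643
import Mathlib.Algebra.Polynomial.Monic
import Mathlib.Tactic.Ring
import Mathlib.Algebra.Ring.GeomSum
import Mathlib.Algebra.Polynomial.BigOperators

set_option autoImplicit false
universe u
open EtCore

namespace Groth.Agent.S0643

open Polynomial in
/-- Let A be a ring, assumed nonzero here (the published statement does not say so; over the zero ring
no polynomial has positive degree in Lean's sense), and a, b elements generating the unit ideal such
that some positive power of a is congruent to 1 modulo b. Then there is a monic polynomial P of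
positive degree over A such that in B = A[y]/(P) the element a - b y is a unit. -/
theorem result (A : Type u) [CommRing A] [Nontrivial A] (a b : A) (hab : IsCoprime a b)
    (hroot : ∃ n : ℕ, 0 < n ∧ a ^ n - 1 ∈ Ideal.span ({b} : Set A)) :
    ∃ P : A[X], P.Monic ∧ 0 < P.natDegree ∧
      IsUnit (algebraMap A (AdjoinRoot P) a - algebraMap A (AdjoinRoot P) b * AdjoinRoot.root P) := by
  obtain ⟨n, hn, hroot⟩ := hroot
  obtain ⟨c, hc⟩ := Ideal.mem_span_singleton'.1 hroot
  obtain ⟨x, y, hxy⟩ := hab
  let p : ℕ → A := fun i => -(c * ((n-1).choose i : A) * x ^ i * y ^ (n - 1 - i))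
  let Q : A[X] := ∑ i ∈ Finset.range n, C (p i) * X ^ i
  have hQ : Q.degree < n := degree_sum_fin_lt (fun i : Fin n => p i) |> fun h => by
    simpa [Q, Finset.sum_range] using h
  refine ⟨X ^ n + Q, monic_X_pow_add hQ, ?_, ?_⟩
  · have : (X ^ n + Q).natDegree = n := by
      rw [natDegree_add_eq_left_of_degree_lt, natDegree_X_pow]
      rwa [degree_X_pow]
    omega
  · set B := AdjoinRoot (X ^ n + Q)
    set φ := algebraMap A B
    set t : B := AdjoinRoot.root (X ^ n + Q)
    have h0 : t ^ n + ∑ i ∈ Finset.range n, φ (p i) * t ^ i = 0 := by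
      have := AdjoinRoot.eval₂_root (X ^ n + Q)
      simpa [Q, eval₂_add, eval₂_finsetSum, AdjoinRoot.algebraMap_eq, φ, t, B] using this
    have h1 : a ^ n + ∑ i ∈ Finset.range n, p i * a ^ i * b ^ (n - i) = 1 := by
      have hbin : (∑ i ∈ Finset.range n, p i * a ^ i * b ^ (n - i)) = -(c * b) * (x * a + y * b) ^ (n - 1) := by
        rw [add_pow, show n - 1 + 1 = n by omega, Finset.mul_sum]
        refine Finset.sum_congr rfl fun i hi => ?_
        have : n - i = (n - 1 - i) + 1 := by
          have := Finset.mem_range.1 hi
          omega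
        simp only [p, this, mul_pow, pow_succ]
        ring
      rw [hbin, hxy, one_pow, hc]
      ring
    have h2 : (φ b * t) ^ n + ∑ i ∈ Finset.range n, φ (p i) * (φ b * t) ^ i * (φ b) ^ (n - i) = 0 := by
      have : φ b ^ n * (t ^ n + ∑ i ∈ Finset.range n, φ (p i) * t ^ i) = 0 := by rw [h0, mul_zero]
      rw [mul_add, Finset.mul_sum] at this
      rw [← this, mul_pow]
      congr 1
      refine Finset.sum_congr rfl fun i hi => ?_
      have : n = i + (n - i) := by
        have := Finset.mem_range.1 hi
        omega
      have e : φ b ^ n = φ b ^ i * φ b ^ (n - i) := by rw [← pow_add, ← this]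
      rw [e]
      rw [mul_pow]
      ring
    have h1' := congrArg φ h1
    simp only [map_add, map_sum, map_mul, map_pow, map_one] at h1'
    refine isUnit_of_dvd_one ?_
    rw [← h1', ← sub_zero (φ a ^ n + _), ← h2, add_sub_add_comm, ← Finset.sum_sub_distrib]
    refine dvd_add (sub_dvd_pow_sub_pow _ _ _) (Finset.dvd_sum fun i _ => ?_)
    rw [← sub_mul, ← mul_sub]
    exact ((sub_dvd_pow_sub_pow _ _ _).mul_left _).mul_right _

end Groth.Agent.S0643
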