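import Groth.Statements.S0644
import Groth.Agent.Lib.EtSite.Basic
import Mathlib.AlgebraicGeometry.Morphisms.UniversallyOpen
import Mathlib.AlgebraicGeometry.Morphisms.Etale
-- import your own Groth.Agent.* helpers here

set_option autoImplicit false
open CategoryTheory CategoryTheory.Limits AlgebraicGeometry Opposite
universe u
open EtCore

namespace Groth.Agent.S0644

variable {S : Scheme.{u}}

theorem hom_subsingleton (W : S.Opens) (U : S.Etale) :
    Subsingleton (U ⟶ Scheme.Etale.mk W.ι) := by
  refine ⟨fun a b => ?_⟩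
  apply MorphismProperty.Over.Hom.ext
  refine (cancel_mono W.ι).1 ?_
  exact (MorphismProperty.Over.w a).trans (MorphismProperty.Over.w b).symm

theorem hom_nonempty_iff (W : S.Opens) (U : S.Etale) :
    Nonempty (U ⟶ Scheme.Etale.mk W.ι) ↔ ∀ u, U.hom.base u ∈ W := by
  constructor
  · rintro ⟨a⟩ u
    let aw : U.left ⟶ (W : Scheme.{u}) := a.left
    have h : aw ≫ W.ι = U.hom := MorphismProperty.Over.w a
    rw [← h]
    exact (aw.base u).2
  · intro h
    have hr : Set.range U.hom.base ⊆ Set.range W.ι.base := by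
      rintro _ ⟨w, rfl⟩
      rw [Scheme.Opens.range_ι]
      exact h w
    let l : U.left ⟶ (W : Scheme.{u}) := IsOpenImmersion.lift W.ι U.hom hr
    have hl : l ≫ W.ι = U.hom := IsOpenImmersion.lift_fac _ _ _
    exact ⟨MorphismProperty.Over.homMk l hl⟩

/-- The open set over which a subsheaf of the final sheaf has sections. -/
def suppOpen (F : S.Etaleᵒᵖ ⥤ Type u) : S.Opens :=
  ⟨⋃ (U : S.Etale) (_ : Nonempty (F.obj (op U))), Set.range U.hom.base,
    isOpen_iUnion fun U => isOpen_iUnion fun _ =>
      have : Etale U.hom := U.prop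
      U.hom.isOpenMap.isOpen_range⟩

theorem mem_suppOpen (F : S.Etaleᵒᵖ ⥤ Type u) (x : S) :
    x ∈ suppOpen F ↔ ∃ U : S.Etale, Nonempty (F.obj (op U)) ∧ x ∈ Set.range U.hom.base := by
  change x ∈ (⋃ (U : S.Etale) (_ : Nonempty (F.obj (op U))), Set.range U.hom.base) ↔ _
  simp only [Set.mem_iUnion, exists_prop]

theorem nonempty_iff (F : Sheaf S.smallEtaleTopology (Type u))
    (hF : ∀ U : S.Etale, Subsingleton (F.obj.obj (op U))) (U : S.Etale) :
    Nonempty (F.obj.obj (op U)) ↔ ∀ u, U.hom.base u ∈ suppOpen F.obj := by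
  constructor
  · intro h u
    exact (mem_suppOpen _ _).2 ⟨U, h, u, rfl⟩
  · intro h
    let Sv : Sieve U :=
      { arrows := fun V g => Nonempty (F.obj.obj (op V))
        downward_closed := fun {V V' f} hV k => ⟨F.obj.map k.op hV.some⟩ }
    have hcov : Sv ∈ S.smallEtaleTopology U := by
      refine (Groth.Agent.Lib.EtSite.Basic.mem_topology_iff _).2 fun u => ?_
      obtain ⟨U', hU', u', hu'⟩ := (mem_suppOpen _ _).1 (h u)
      have : Etale U.hom := U.prop
      have : Etale U'.hom := U'.prop
      let P : S.Etale := Scheme.Etale.mk (pullback.fst U.hom U'.hom ≫ U.hom)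
      obtain ⟨z, hz, -⟩ := Scheme.Pullback.exists_preimage_pullback u u' hu'.symm
      let q : P ⟶ U' := MorphismProperty.Over.homMk (pullback.snd U.hom U'.hom) pullback.condition.symm
      exact ⟨P, MorphismProperty.Over.homMk (pullback.fst U.hom U'.hom) rfl,
        ⟨F.obj.map q.op hU'.some⟩, z, hz⟩
    have hsh := (isSheaf_iff_isSheaf_of_type _ _).1 F.property Sv hcov
    let x : Presieve.FamilyOfElements F.obj Sv.arrows := fun V g hg => hg.some
    have hx : x.Compatible := fun {V₁ V₂ Z} _ _ _ _ _ _ _ => @Subsingleton.elim _ (hF Z) _ _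
    exact ⟨hsh.amalgamate x hx⟩

/-- Let F be a sheaf of sets on the small etale site of S which is a subsheaf of the final sheaf, i.e.
every set of sections has at most one element. Then there is exactly one open W of S such that F is
isomorphic to the sheaf represented by W (viewed as a scheme etale over S). -/
theorem result (S : Scheme.{u}) (F : Sheaf S.smallEtaleTopology (Type u))
    (hF : ∀ U : S.Etale, Subsingleton (F.obj.obj (op U))) :
    ∃! W : S.Opens, Nonempty (F.obj ≅ yoneda.obj (Scheme.Etale.mk W.ι)) := by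
  have key := fun U : S.Etale => nonempty_iff F hF U
  refine ⟨suppOpen F.obj, ⟨NatIso.ofComponents (fun U => ?_) ?_⟩, ?_⟩
  · haveI := hF U.unop
    haveI := hom_subsingleton (suppOpen F.obj) U.unop
    exact Equiv.toIso
      { toFun := fun s => ((hom_nonempty_iff _ _).2 ((key _).1 ⟨s⟩)).some
        invFun := fun a => ((key _).2 ((hom_nonempty_iff _ _).1 ⟨a⟩)).some
        left_inv := fun _ => Subsingleton.elim _ _
        right_inv := fun _ => @Subsingleton.elim _ (hom_subsingleton _ _) _ _ }
  · intro U V g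
    ext s
    exact @Subsingleton.elim _ (hom_subsingleton _ _) _ _
  · rintro W ⟨e⟩
    have hW : ∀ U : S.Etale, Nonempty (F.obj.obj (op U)) ↔ ∀ u, U.hom.base u ∈ W := fun U =>
      ⟨fun ⟨s⟩ => (hom_nonempty_iff _ _).1 ⟨e.hom.app (op U) s⟩,
        fun h => ⟨e.inv.app (op U) ((hom_nonempty_iff _ _).2 h).some⟩⟩
    have hle : ∀ A B : S.Opens,
        ((∀ u, (Scheme.Etale.mk A.ι).hom.base u ∈ B)) → A ≤ B := fun A B h x hx => h ⟨x, hx⟩
    apply le_antisymm
    · exact hle _ _ ((key _).1 ((hW _).2 fun u => u.2))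
    · exact hle _ _ ((hW _).1 ((key _).2 fun u => u.2))

end Groth.Agent.S0644
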