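import Groth.Statements.S0649
import Groth.Agent.Lib.EtJ.Basic
-- import your own Groth.Agent.* helpers here

set_option autoImplicit false
open CategoryTheory CategoryTheory.Limits AlgebraicGeometry Opposite
universe u
open EtCore

namespace Groth.Agent.S0649

section

variable {V' V Y X : Scheme.{u}} (j : V ⟶ X) [AlgebraicGeometry.Etale j]
  (f : Y ⟶ X) (j' : V' ⟶ Y) [AlgebraicGeometry.Etale j'] (f' : V' ⟶ V) (h : IsPullback j' f' f j)

omit [AlgebraicGeometry.Etale j] [AlgebraicGeometry.Etale j'] in
include h in
theorem isPullback_paste (W : V.Etale) :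
    IsPullback (pullback.fst W.hom f') (pullback.snd W.hom f' ≫ j') (W.hom ≫ j) f :=
  (IsPullback.of_hasPullback W.hom f').paste_vert h.flip

/-- Composition with `j` and base change commute. -/
noncomputable def siteIsoApp (W : V.Etale) :
    (EtShriek.compEtale j ⋙ EtCoh.bc f).obj W ≅ (EtCoh.bc f' ⋙ EtShriek.compEtale j').obj W :=
  MorphismProperty.Over.isoMk ((isPullback_paste j f j' f' h W).isoPullback).symm
    ((isPullback_paste j f j' f' h W).isoPullback_inv_snd)

/-- Composition with `j` and base change commute. -/
noncomputable def siteIso :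
    EtShriek.compEtale j ⋙ EtCoh.bc f ≅ EtCoh.bc f' ⋙ EtShriek.compEtale j' :=
  NatIso.ofComponents (siteIsoApp j f j' f' h) fun {W W'} a => by
    apply MorphismProperty.Over.Hom.ext
    change pullback.lift (pullback.fst (W.hom ≫ j) f ≫ a.left) (pullback.snd (W.hom ≫ j) f) _ ≫
        (isPullback_paste j f j' f' h W').isoPullback.inv =
      (isPullback_paste j f j' f' h W).isoPullback.inv ≫
        pullback.lift (pullback.fst W.hom f' ≫ a.left) (pullback.snd W.hom f') _
    apply (isPullback_paste j f j' f' h W').hom_ext
    · rw [Category.assoc, Category.assoc, IsPullback.isoPullback_inv_fst]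
      exact (pullback.lift_fst _ _ _).trans ((congrArg
        ((isPullback_paste j f j' f' h W).isoPullback.inv ≫ ·) (pullback.lift_fst _ _ _)).trans
        ((Category.assoc _ _ _).symm.trans (congrArg (· ≫ a.left)
          (isPullback_paste j f j' f' h W).isoPullback_inv_fst))).symm
    · rw [Category.assoc, Category.assoc, IsPullback.isoPullback_inv_snd]
      exact (pullback.lift_snd _ _ _).trans ((congrArg
        ((isPullback_paste j f j' f' h W).isoPullback.inv ≫ ·)
        (((Category.assoc _ _ _).symm.trans (congrArg (· ≫ j') (pullback.lift_snd _ _ _))))).trans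
        (isPullback_paste j f j' f' h W).isoPullback_inv_snd).symm

variable [EtShriek.JCont j] [EtShriek.JCont j']

/-- Restriction and direct image commute. -/
noncomputable def restrPushIso :
    EtCoh.push f ⋙ EtShriek.restrAlong j ≅ EtShriek.restrAlong j' ⋙ EtCoh.push f' :=
  letI := Functor.isContinuous_comp (EtShriek.compEtale j) (EtCoh.bc f) V.smallEtaleTopology
    X.smallEtaleTopology Y.smallEtaleTopology
  letI := Functor.isContinuous_comp (EtCoh.bc f') (EtShriek.compEtale j') V.smallEtaleTopology
    V'.smallEtaleTopology Y.smallEtaleTopology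
  Functor.sheafPushforwardContinuousComp (EtShriek.compEtale j) (EtCoh.bc f) AddCommGrpCat.{u + 1}
      V.smallEtaleTopology X.smallEtaleTopology Y.smallEtaleTopology ≪≫
    Functor.sheafPushforwardContinuousIso (siteIso j f j' f' h) AddCommGrpCat.{u + 1}
      V.smallEtaleTopology Y.smallEtaleTopology ≪≫
    (Functor.sheafPushforwardContinuousComp (EtCoh.bc f') (EtShriek.compEtale j')
      AddCommGrpCat.{u + 1} V.smallEtaleTopology V'.smallEtaleTopology Y.smallEtaleTopology).symm

end


/-- Extension by zero commutes with pullback, for abelian sheaves. Let f : Y → X be a morphism of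
schemes and j : V → X étale, and let V' = Y ×_X V with projections j' : V' → Y and f' : V' → V. Then
the functors j'_! ∘ f'^(-1) and f^(-1) ∘ j_! from abelian sheaves on V_ét to abelian sheaves on Y_ét
are isomorphic. Only the existence of an isomorphism of functors is asserted; the published
statement gives the canonical one. (Continuity of the composition functor of étale sites, which
always holds, is carried as an instance hypothesis.) -/
theorem result {V' V Y X : Scheme.{u}} (j : V ⟶ X) [AlgebraicGeometry.Etale j] [EtShriek.JCont j]
    (f : Y ⟶ X) (j' : V' ⟶ Y) [AlgebraicGeometry.Etale j'] [EtShriek.JCont j'] (f' : V' ⟶ V)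
    (h : IsPullback j' f' f j) :
    Nonempty (EtCoh.pull f' ⋙ EtShriek.extZero j' ≅ EtShriek.extZero j ⋙ EtCoh.pull f) := by
  exact ⟨((conjugateIsoEquiv ((EtShriek.extZeroAdj j).comp (EtCoh.pullPushAdj f))
    ((EtCoh.pullPushAdj f').comp (EtShriek.extZeroAdj j'))).symm (restrPushIso j f j' f' h))⟩

end Groth.Agent.S0649
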