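import Groth.Statements.S0650
import Groth.Agent.Lib.EtShriek50.ExtZero
-- import your own Groth.Agent.* helpers here

set_option autoImplicit false
open CategoryTheory CategoryTheory.Limits AlgebraicGeometry Opposite
universe u
open EtCore

namespace Groth.Agent.S0650

/-- For a separated étale morphism j : U → X there is a natural transformation from extension by zero
j_! to direct image j_*, on abelian sheaves, whose component at every abelian sheaf on the small
étale site of U is a monomorphism. (Only the existence of such a natural injective comparison map is
stated; the published statement constructs a specific one.) (Continuity of the composition functor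
of étale sites, which always holds, is carried as an instance hypothesis.) -/
theorem result {U X : Scheme.{u}} (j : U ⟶ X) [AlgebraicGeometry.Etale j]
    [IsSeparated j] [EtShriek.JCont j] :
    ∃ τ : EtShriek.extZero j ⟶ EtCoh.push j, ∀ F : EtCoh.Ab U, Mono (τ.app F) := by
  let ρ : EtShriek.extZero j ⟶ EtCoh.push j :=
    (Groth.Agent.Lib.EtShriek50.ExtZero.iso j ≪≫ Groth.Agent.Lib.EtShriek50.Pre.lowerShriekIso j).hom ≫
      Groth.Agent.Lib.EtShriek50.Pre.shι j
  refine ⟨ρ, fun F => ?_⟩
  have : Mono ((Groth.Agent.Lib.EtShriek50.Pre.shι j).app F) :=
    Sheaf.mono_of_injective _ fun V a b h => Subtype.ext h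
  exact mono_comp _ _

end Groth.Agent.S0650
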