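import Groth.Statements.S0651
import Groth.Agent.Lib.EtJ.Basic
import Mathlib.CategoryTheory.Adjunction.FullyFaithful

set_option autoImplicit false
open CategoryTheory CategoryTheory.Limits AlgebraicGeometry Opposite
universe u
open EtCore

namespace Groth.Agent.S0651

/-- For an open immersion j : U -> X and an abelian sheaf F on the small etale site of U, the counit
j^{-1} j_* F -> F of the pullback/direct image adjunction and the unit F -> j^{-1} j_! F of the
extension-by-zero/restriction adjunction are isomorphisms. (Continuity of the composition functor of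
etale sites, which always holds, is carried as an instance hypothesis.) -/
theorem result {U X : Scheme.{u}} (j : U ⟶ X) [IsOpenImmersion j]
    [AlgebraicGeometry.Etale j] [EtShriek.JCont j] (F : EtCoh.Ab U) :
    IsIso ((EtCoh.pullPushAdj j).counit.app F) ∧ IsIso ((EtShriek.extZeroAdj j).unit.app F) := by
  let adj := Groth.Agent.Lib.EtJ.Basic.restrPushAdj j
  have hiso : ∀ G : EtCoh.Ab U, IsIso (adj.counit.app G) := by
    intro G
    have hc : ∀ V : U.Etale, IsIso ((Groth.Agent.Lib.EtJ.Basic.compEtaleAdj j).unit.app V) := by
      have : (EtShriek.compEtale j).Full := inferInstance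
      intro V; infer_instance
    have : ∀ V, IsIso (((sheafToPresheaf _ _).map (adj.counit.app G)).app V) := by
      intro V
      have := hc V.unop
      change IsIso (G.obj.map ((Groth.Agent.Lib.EtJ.Basic.compEtaleAdj j).unit.app V.unop).op)
      infer_instance
    have : IsIso ((sheafToPresheaf _ _).map (adj.counit.app G)) := NatIso.isIso_of_isIso_app _
    exact isIso_of_reflects_iso _ (sheafToPresheaf _ _)
  have : IsIso adj.counit := NatIso.isIso_of_isIso_app _
  have : (EtCoh.push j).Full := adj.fullyFaithfulROfIsIsoCounit.full
  have : (EtCoh.push j).Faithful := adj.fullyFaithfulROfIsIsoCounit.faithful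
  refine ⟨inferInstance, ?_⟩
  let T : Adjunction.Triple (EtShriek.extZero j) (EtShriek.restrAlong j) (EtCoh.push j) :=
    { adj₁ := EtShriek.extZeroAdj j, adj₂ := adj }
  have hff : (EtShriek.extZero j).FullyFaithful :=
    T.fullyFaithfulEquiv.symm (Functor.FullyFaithful.ofFullyFaithful _)
  have := hff.full
  have := hff.faithful
  infer_instance

end Groth.Agent.S0651
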