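import Groth.Statements.S0658
import Mathlib.AlgebraicGeometry.Morphisms.Etale
import Mathlib.AlgebraicGeometry.Artinian
import Mathlib.AlgebraicGeometry.Limits
import Mathlib.RingTheory.Etale.Field
import Mathlib.RingTheory.Unramified.Finite
-- import your own Groth.Agent.* helpers here

set_option autoImplicit false
open CategoryTheory CategoryTheory.Limits AlgebraicGeometry Opposite
universe u
open EtCore

namespace Groth.Agent.S0658

theorem isField_of_subsingleton {R : Type u} [CommRing R] [Nontrivial R] [IsReduced R]
    [Subsingleton (PrimeSpectrum R)] : IsField R := by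
  obtain ⟨m, hm⟩ := Ideal.exists_maximal R
  have hm0 : m = ⊥ := by
    refine eq_bot_iff.2 fun a ha => ?_
    have : a ∈ nilradical R := by
      rw [nilradical_eq_sInf, Ideal.mem_sInf]
      intro P hP
      have hP' : P.IsPrime := hP
      have : (⟨P, hP'⟩ : PrimeSpectrum R) = ⟨m, hm.isPrime⟩ := Subsingleton.elim _ _
      rw [show P = m from congrArg PrimeSpectrum.asIdeal this]
      exact ha
    rwa [nilradical_eq_zero] at this
  exact Ring.isField_iff_maximal_bot.2 (hm0 ▸ hm)

variable (k : Type u) [Field k] {U : Scheme.{u}} (φ : U ⟶ Spec (CommRingCat.of k))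

/-- The structure map on sections over an affine open. -/
noncomputable def str (W : U.Opens) (hW : IsAffineOpen W) : CommRingCat.of k ⟶ Γ(U, W) :=
  Spec.preimage (hW.fromSpec ≫ φ)

theorem str_spec (W : U.Opens) (hW : IsAffineOpen W) :
    Spec.map (str k φ W hW) = hW.fromSpec ≫ φ := Spec.map_preimage _

theorem str_etale [AlgebraicGeometry.Etale φ] (W : U.Opens) (hW : IsAffineOpen W) :
    @Algebra.Etale k Γ(U, W) _ _ (str k φ W hW).hom.toAlgebra := by
  have : IsOpenImmersion hW.fromSpec := hW.isOpenImmersion_fromSpec
  have h : AlgebraicGeometry.Etale (Spec.map (str k φ W hW)) := by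
    rw [str_spec]
    infer_instance
  exact (HasRingHomProperty.Spec_iff (P := @AlgebraicGeometry.Etale.{u})).1 h

theorem discreteTopology [AlgebraicGeometry.Etale φ] : DiscreteTopology U := by
  refine discreteTopology_iff_isOpen_singleton.mpr fun x => ?_
  obtain ⟨W, hW, hxW, -⟩ :=
    exists_isAffineOpen_mem_and_subset (TopologicalSpace.Opens.mem_top x)
  algebraize [(str k φ W hW).hom]
  have : Algebra.Etale k Γ(U, W) := str_etale k φ W hW
  have : Module.Finite k Γ(U, W) := Algebra.FormallyUnramified.finite_of_free k Γ(U, W)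
  have : IsArtinianRing Γ(U, W) := IsArtinianRing.of_finite k Γ(U, W)
  have : DiscreteTopology (Spec Γ(U, W)) := inferInstanceAs (DiscreteTopology (PrimeSpectrum _))
  have : DiscreteTopology W := hW.isoSpec.hom.homeomorph.symm.discreteTopology
  have h1 : IsOpen (Subtype.val '' ({⟨x, hxW⟩} : Set W)) :=
    (isOpen_discrete ({⟨x, hxW⟩} : Set W)).trans W.2
  exact (congrArg IsOpen (Set.image_singleton (f := Subtype.val) (a := (⟨x, hxW⟩ : W)))).mp h1

/-- Let k be a field and φ : U → Spec k a morphism of schemes. Then φ is étale if and only if U is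
isomorphic over k to a disjoint union ∐ Spec K_i with each K_i a finite separable field extension of
k. -/
theorem result (k : Type u) [Field k] (U : Scheme.{u}) (φ : U ⟶ Spec (CommRingCat.of k)) :
    AlgebraicGeometry.Etale φ ↔
      ∃ (ι : Type u) (K : ι → Type u) (_ : ∀ i, Field (K i)) (_ : ∀ i, Algebra k (K i))
        (_ : ∀ i, FiniteDimensional k (K i)) (_ : ∀ i, Algebra.IsSeparable k (K i))
        (e : (∐ fun i => Spec (CommRingCat.of (K i))) ≅ U),
        ∀ i, Sigma.ι (fun i => Spec (CommRingCat.of (K i))) i ≫ e.hom ≫ φ =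
          Spec.map (CommRingCat.ofHom (algebraMap k (K i))) := by
  constructor
  · intro hφ
    have := discreteTopology k φ
    let W : U → U.Opens := fun x => ⟨{x}, isOpen_discrete _⟩
    have hW : ∀ x, IsAffineOpen (W x) := fun x => by
      have : Subsingleton (W x : Scheme.{u}) := inferInstanceAs (Subsingleton ({x} : Set U))
      have : Finite (W x : Scheme.{u}) := Finite.of_subsingleton
      have : DiscreteTopology (W x : Scheme.{u}) := inferInstanceAs (DiscreteTopology ({x} : Set U))
      exact (inferInstance : IsAffine (W x : Scheme.{u}))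
    let alg : ∀ x, Algebra k Γ(U, W x) := fun x => (str k φ (W x) (hW x)).hom.toAlgebra
    have het : ∀ x, Algebra.Etale k Γ(U, W x) := fun x => str_etale k φ (W x) (hW x)
    have hfld : ∀ x, IsField Γ(U, W x) := fun x => by
      have : Subsingleton (PrimeSpectrum Γ(U, W x)) := by
        have : Subsingleton (W x : Scheme.{u}) := inferInstanceAs (Subsingleton ({x} : Set U))
        exact ((hW x).isoSpec.hom.homeomorph.toEquiv.subsingleton_congr).1 this
      have : Nonempty (PrimeSpectrum Γ(U, W x)) :=
        ⟨(hW x).isoSpec.hom.base (⟨x, rfl⟩ : (W x : Scheme.{u}))⟩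
      have : Nontrivial Γ(U, W x) := PrimeSpectrum.nonempty_iff_nontrivial.1 this
      have : IsReduced Γ(U, W x) := Algebra.FormallyUnramified.isReduced_of_field k Γ(U, W x)
      exact isField_of_subsingleton
    let f : ∀ x, Spec (CommRingCat.of Γ(U, W x)) ⟶ U := fun x => (hW x).fromSpec
    have : ∀ x, IsOpenImmersion (f x) := fun x => (hW x).isOpenImmersion_fromSpec
    have hr : ∀ x, (f x).opensRange = W x := fun x => (hW x).opensRange_fromSpec
    obtain ⟨hc⟩ := nonempty_isColimit_cofanMk_of f
      (by
        refine TopologicalSpace.Opens.ext (Set.eq_univ_of_forall fun x => ?_)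
        exact TopologicalSpace.Opens.mem_iSup.2 ⟨x, by rw [hr]; rfl⟩)
      (by
        intro x y hxy
        simp only [hr]
        change Disjoint (W x) (W y)
        rw [disjoint_iff]
        refine TopologicalSpace.Opens.ext (Set.eq_empty_iff_forall_notMem.2 ?_)
        rintro z ⟨hzx, hzy⟩
        exact hxy ((Set.mem_singleton_iff.1 hzx).symm.trans (Set.mem_singleton_iff.1 hzy)))
    refine ⟨U, fun x => Γ(U, W x), fun x => (hfld x).toField, alg, fun x => ?_, fun x => ?_,
      (coproductIsCoproduct _).coconePointUniqueUpToIso hc, fun x => ?_⟩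
    · exact Algebra.FormallyUnramified.finite_of_free k Γ(U, W x)
    · letI := (hfld x).toField
      exact (Algebra.FormallyEtale.iff_isSeparable k Γ(U, W x)).1 inferInstance
    · refine (Category.assoc _ _ _).symm.trans ?_
      refine (congrArg (· ≫ φ)
        ((coproductIsCoproduct _).comp_coconePointUniqueUpToIso_hom hc ⟨x⟩)).trans ?_
      exact (str_spec k φ (W x) (hW x)).symm
  · rintro ⟨ι, K, _, _, _, _, e, he⟩
    suffices h : AlgebraicGeometry.Etale (e.hom ≫ φ) by
      rw [← Iso.inv_hom_id_assoc e φ]
      infer_instance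
    have hsi : ∀ i : ι, AlgebraicGeometry.Etale
        (Sigma.ι (fun i => Spec (CommRingCat.of (K i))) i ≫ e.hom ≫ φ) := fun i => by
      rw [he, HasRingHomProperty.Spec_iff (P := @AlgebraicGeometry.Etale.{u})]
      refine RingHom.etale_algebraMap.2 ?_
      have : Algebra.FormallyEtale k (K i) :=
        (Algebra.FormallyEtale.iff_isSeparable k (K i)).2 inferInstance
      have : Algebra.FinitePresentation k (K i) :=
        Algebra.FinitePresentation.of_finiteType.1 inferInstance
      exact ⟨inferInstance, inferInstance⟩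
    let 𝒰 := sigmaOpenCover fun i => Spec (CommRingCat.of (K i))
    have haff : ∀ i : ι, IsAffine (Spec (CommRingCat.of (K i))) := fun i => inferInstance
    have : ∀ i, IsAffine (𝒰.X i) := haff
    exact (HasRingHomProperty.iff_of_source_openCover (P := @AlgebraicGeometry.Etale.{u}) 𝒰).2
      fun i => (HasRingHomProperty.iff_of_isAffine (P := @AlgebraicGeometry.Etale.{u})).1 (hsi i)

end Groth.Agent.S0658
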