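import Groth.Statements.S0660
import Mathlib.AlgebraicGeometry.Morphisms.FlatMono
-- import your own Groth.Agent.* helpers here

set_option autoImplicit false
open CategoryTheory CategoryTheory.Limits AlgebraicGeometry Opposite
universe u
open EtCore

namespace Groth.Agent.S0660

/-- Let i : Z -> X be a closed immersion, U and U' schemes etale over X, and h a Z-morphism from U x_X Z
to U' x_X Z. Then there are an etale X-scheme W and X-morphisms a : W -> U, b : W -> U' such that
the base change of a to Z is an isomorphism and h is the base change of b composed with the inverse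
of the base change of a. -/
theorem result {Z X : Scheme.{u}} (i : Z ⟶ X) [IsClosedImmersion i] (U U' : X.Etale)
    (h : (EtCoh.bc i).obj U ⟶ (EtCoh.bc i).obj U') :
    ∃ (W : X.Etale) (a : W ⟶ U) (b : W ⟶ U'), IsIso ((EtCoh.bc i).map a) ∧ (EtCoh.bc i).map a ≫ h = (EtCoh.bc i).map b := by
  have : Etale U.hom := U.prop
  have : Etale U'.hom := U'.prop
  let P : X.Etale := MorphismProperty.Over.mk ⊤ (pullback.fst U.hom U'.hom ≫ U.hom)
    (show Etale _ from inferInstance)
  let pa : P ⟶ U := MorphismProperty.Over.homMk (pullback.fst U.hom U'.hom) rfl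
  let pb : P ⟶ U' := MorphismProperty.Over.homMk (pullback.snd U.hom U'.hom) pullback.condition.symm
  let φ : ((EtCoh.bc i).obj U).left ⟶ U'.left := h.left ≫ pullback.fst U'.hom i
  have hh : h.left ≫ pullback.snd U'.hom i = pullback.snd U.hom i := MorphismProperty.Over.w h
  have hφ : pullback.fst U.hom i ≫ U.hom = φ ≫ U'.hom :=
    pullback.condition.trans ((congrArg (· ≫ i) hh.symm).trans ((Category.assoc _ _ _).trans
      ((congrArg (h.left ≫ ·) pullback.condition.symm).trans (Category.assoc _ _ _).symm)))
  let γ : (EtCoh.bc i).obj U ⟶ (EtCoh.bc i).obj P := MorphismProperty.Over.homMk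
    (pullback.lift (pullback.lift (pullback.fst U.hom i) φ hφ) (pullback.snd U.hom i) (by
      refine Eq.trans ?_ (pullback.condition (f := U.hom) (g := i))
      exact (pullback.lift_fst_assoc _ _ _ _)))
    (pullback.lift_snd _ _ _)
  have hγa : γ ≫ (EtCoh.bc i).map pa = 𝟙 _ := by
    apply MorphismProperty.Over.Hom.ext
    apply pullback.hom_ext
    · refine (Category.assoc _ _ _).trans ((congrArg (γ.left ≫ ·) (pullback.lift_fst _ _ _)).trans ?_)
      refine (Category.assoc _ _ _).symm.trans ((congrArg (· ≫ pa.left) (pullback.lift_fst _ _ _)).trans ?_)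
      exact (pullback.lift_fst _ _ _).trans (Category.id_comp _).symm
    · refine (Category.assoc _ _ _).trans ((congrArg (γ.left ≫ ·) (pullback.lift_snd _ _ _)).trans ?_)
      exact (pullback.lift_snd _ _ _).trans (Category.id_comp _).symm
  have hγb : γ ≫ (EtCoh.bc i).map pb = h := by
    apply MorphismProperty.Over.Hom.ext
    apply pullback.hom_ext
    · refine (Category.assoc _ _ _).trans ((congrArg (γ.left ≫ ·) (pullback.lift_fst _ _ _)).trans ?_)
      refine (Category.assoc _ _ _).symm.trans ((congrArg (· ≫ pb.left) (pullback.lift_fst _ _ _)).trans ?_)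
      exact pullback.lift_snd _ _ _
    · refine (Category.assoc _ _ _).trans ((congrArg (γ.left ≫ ·) (pullback.lift_snd _ _ _)).trans ?_)
      exact (pullback.lift_snd _ _ _).trans hh.symm
  have hγl : γ.left ≫ ((EtCoh.bc i).map pa).left = 𝟙 _ := congrArg (fun m => m.left) hγa
  have hγo : IsOpenImmersion γ.left := by
    have : Mono γ.left := @SplitMono.mono _ _ _ _ _ ⟨((EtCoh.bc i).map pa).left, hγl⟩
    have : Etale ((EtCoh.bc i).obj U).hom := ((EtCoh.bc i).obj U).prop
    have : Etale ((EtCoh.bc i).obj P).hom := ((EtCoh.bc i).obj P).prop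
    have : Etale (γ.left ≫ ((EtCoh.bc i).obj P).hom) :=
      (MorphismProperty.Over.w γ).symm ▸ ((EtCoh.bc i).obj U).prop
    have : Etale γ.left := Etale.of_comp γ.left ((EtCoh.bc i).obj P).hom
    exact IsOpenImmersion.of_flat_of_mono _
  let π : ((EtCoh.bc i).obj P).left ⟶ P.left := pullback.fst P.hom i
  have : IsClosedImmersion π := inferInstanceAs (IsClosedImmersion (pullback.fst P.hom i))
  let G : Set ((EtCoh.bc i).obj P).left := Set.range γ.left.base
  let V : P.left.Opens := ⟨(π.base '' Gᶜ)ᶜ,
    (π.isClosedEmbedding.isClosedMap _ γ.left.isOpenEmbedding.isOpen_range.isClosed_compl).isOpen_compl⟩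
  have : Etale P.hom := P.prop
  let o : (V : Scheme.{u}) ⟶ P.left := Scheme.Opens.ι V
  let W : X.Etale := MorphismProperty.Over.mk ⊤ (o ≫ P.hom)
    (show Etale _ from (inferInstanceAs (Etale (Scheme.Opens.ι V ≫ P.hom))))
  let incl : W ⟶ P := MorphismProperty.Over.homMk o rfl
  have hpb := EtCoh.isPullback_bc_map i incl
  have hmo : IsOpenImmersion ((EtCoh.bc i).map incl).left :=
    MorphismProperty.of_isPullback hpb.flip (inferInstanceAs (IsOpenImmersion (Scheme.Opens.ι V)))
  have hrange : Set.range ((EtCoh.bc i).map incl).left.base = G := by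
    ext x
    constructor
    · rintro ⟨z, rfl⟩
      by_contra hn
      have h1 : π.base (((EtCoh.bc i).map incl).left.base z) =
          (Scheme.Opens.ι V).base ((pullback.fst W.hom i).base z) :=
        congrArg (fun m => m.base z) hpb.w
      exact ((pullback.fst W.hom i).base z).2 (show _ ∈ π.base '' Gᶜ from ⟨_, hn, h1⟩)
    · intro hx
      have hv : π.base x ∈ V := fun ⟨y, hy, he⟩ => hy (π.isClosedEmbedding.injective he ▸ hx)
      obtain ⟨w, hw, -⟩ := Scheme.exists_preimage_of_isPullback hpb x ⟨π.base x, hv⟩ rfl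
      exact ⟨w, by assumption⟩
  let e := IsOpenImmersion.isoOfRangeEq ((EtCoh.bc i).map incl).left γ.left hrange
  have he : e.hom ≫ γ.left = ((EtCoh.bc i).map incl).left := IsOpenImmersion.isoOfRangeEq_hom_fac _ _ _
  have hea : ((EtCoh.bc i).map (incl ≫ pa)).left = e.hom := by
    refine (congrArg (fun m => m.left) ((EtCoh.bc i).map_comp incl pa)).trans ?_
    change ((EtCoh.bc i).map incl).left ≫ ((EtCoh.bc i).map pa).left = e.hom
    rw [← he, Category.assoc]
    exact (congrArg (e.hom ≫ ·) hγl).trans (Category.comp_id _)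
  refine ⟨W, incl ≫ pa, incl ≫ pb, ?_, ?_⟩
  · have : IsIso ((EtCoh.bc i).map (incl ≫ pa)).left := hea ▸ inferInstance
    let j : (EtCoh.bc i).obj W ≅ (EtCoh.bc i).obj U :=
      MorphismProperty.Over.isoMk (asIso ((EtCoh.bc i).map (incl ≫ pa)).left)
        (MorphismProperty.Over.w _)
    exact (inferInstance : IsIso j.hom)
  · apply MorphismProperty.Over.Hom.ext
    change ((EtCoh.bc i).map (incl ≫ pa)).left ≫ h.left = ((EtCoh.bc i).map (incl ≫ pb)).left
    rw [hea, ← hγb]
    refine Eq.trans ?_ (congrArg (fun m => m.left) ((EtCoh.bc i).map_comp incl pb)).symm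
    change e.hom ≫ γ.left ≫ ((EtCoh.bc i).map pb).left =
      ((EtCoh.bc i).map incl).left ≫ ((EtCoh.bc i).map pb).left
    rw [← Category.assoc, he]

end Groth.Agent.S0660
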