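import Groth.Statements.S0661
import Groth.Agent.Lib.GabberCrit50.Main
import Groth.Agent.Lib.EtSite.Pull
import Groth.Agent.Lib.EtSite.Sections
import Mathlib.AlgebraicGeometry.StructureSheaf


set_option autoImplicit false
open CategoryTheory CategoryTheory.Limits AlgebraicGeometry Opposite
universe u
open EtCore

namespace Groth.Agent.S0661

set_option backward.isDefEq.respectTransparency false
set_option linter.style.haveILetI false

/-- Let R be a ring such that the localization at every prime is strictly henselian, and F an abelian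
sheaf on the small etale site of X = Spec R. Suppose that for all global functions f, g on X the map
from H^1 of the basic open D(f+g) (with coefficients in the restriction of F) to the product of H^1
of D(f(f+g)) and H^1 of D(g(f+g)) has zero kernel. Then H^q(X, F) vanishes for all q > 0. (Global
functions on Spec R are used in place of elements of R; the two rings are canonically isomorphic.)
(Exactness of pullback of abelian sheaves, which always holds, is carried as an instance
hypothesis.) -/
theorem result (R : Type u) [CommRing R]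
    (hR : ∀ p : PrimeSpectrum R, EtCoh.IsStrictlyHenselianLocalRing (Localization.AtPrime p.asIdeal))
    (F : EtCoh.Ab (Spec (CommRingCat.of R)))
    (hker : ∀ (f g : Γ((Spec (CommRingCat.of R)), ⊤))
      [PreservesFiniteLimits (EtCoh.pull ((Spec (CommRingCat.of R)).homOfLE (((Spec (CommRingCat.of R)).basicOpen_mul f (f + g)).trans_le inf_le_right)))]
      [PreservesFiniteLimits (EtCoh.pull ((Spec (CommRingCat.of R)).homOfLE (((Spec (CommRingCat.of R)).basicOpen_mul g (f + g)).trans_le inf_le_right)))]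
      (ξ : EtCoh.H ↑((Spec (CommRingCat.of R)).basicOpen (f + g)) ((EtCoh.pull ((Spec (CommRingCat.of R)).basicOpen (f + g)).ι).obj F) 1),
      EtCore.HpullVia ((Spec (CommRingCat.of R)).homOfLE (((Spec (CommRingCat.of R)).basicOpen_mul f (f + g)).trans_le inf_le_right)) ((Spec (CommRingCat.of R)).basicOpen (f + g)).ι ((Spec (CommRingCat.of R)).basicOpen (f * (f + g))).ι ((Spec (CommRingCat.of R)).homOfLE_ι (((Spec (CommRingCat.of R)).basicOpen_mul f (f + g)).trans_le inf_le_right)) F 1 ξ = 0 →
      EtCore.HpullVia ((Spec (CommRingCat.of R)).homOfLE (((Spec (CommRingCat.of R)).basicOpen_mul g (f + g)).trans_le inf_le_right)) ((Spec (CommRingCat.of R)).basicOpen (f + g)).ι ((Spec (CommRingCat.of R)).basicOpen (g * (f + g))).ι ((Spec (CommRingCat.of R)).homOfLE_ι (((Spec (CommRingCat.of R)).basicOpen_mul g (f + g)).trans_le inf_le_right)) F 1 ξ = 0 →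
      ξ = 0)
    (q : ℕ) (hq : 1 ≤ q) : Subsingleton (EtCoh.H (Spec (CommRingCat.of R)) F q) := by
  let Z := Spec (CommRingCat.of R)
  have hZ : ∀ x : Z, EtCoh.IsStrictlyHenselianLocalRing (Z.presheaf.stalk x) := fun x => by
    obtain ⟨h₁, h₂⟩ := hR x
    let e : Localization.AtPrime x.asIdeal ≃+* Z.presheaf.stalk x :=
      (StructureSheaf.stalkIso R x).toRingEquiv
    haveI := h₁
    haveI := h₂
    refine ⟨Groth.Agent.Lib.EtQCoh.ZarStrict.henselianLocalRing_of_ringEquiv e,
      Groth.Agent.Lib.EtSite.Sections.isSepClosed_of_ringEquiv (IsLocalRing.ResidueField.mapEquiv e)⟩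
  obtain ⟨n, rfl⟩ : ∃ n, q = n + 1 := ⟨q - 1, by omega⟩
  have h1 : ∀ (f g : Γ(Z, ⊤)) (hA : Z.basicOpen (f * (f + g)) ≤ Z.basicOpen (f + g))
      (hB : Z.basicOpen (g * (f + g)) ≤ Z.basicOpen (f + g))
      (w : Abelian.Ext.{u + 1} (Groth.Agent.H61.FieldCoh.free (Z.basicOpen (f + g)).ι) F 1),
      Groth.Agent.Lib.GabberCrit50.Main.K hA w → Groth.Agent.Lib.GabberCrit50.Main.K hB w → w = 0 := by
    intro f g hA hB w ha hb
    let jP := (Z.basicOpen (f + g)).ι
    haveI : PreservesFiniteLimits (EtCoh.pull (Z.homOfLE hA)) := inferInstance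
    haveI : PreservesFiniteLimits (EtCoh.pull (Z.homOfLE hB)) := inferInstance
    have key : ∀ {A : Z.Opens} (h : A ≤ Z.basicOpen (f + g)) [PreservesFiniteLimits (EtCoh.pull (Z.homOfLE h))],
        Groth.Agent.Lib.GabberCrit50.Main.K h w →
          EtCore.HpullVia (Z.homOfLE h) jP A.ι (Z.homOfLE_ι h) F 1
            (Groth.Agent.Lib.EtJ.MayerVietoris.Φ jP F 1 w) = 0 := by
      intro A h _ hk
      refine (Groth.Agent.Lib.EtJ.MayerVietoris.HpullVia_eq jP A.ι (Z.homOfLE h) (Z.homOfLE_ι h) F 1 w).trans ?_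
      rw [← Groth.Agent.Lib.GabberCrit50.Main.res_eq jP A.ι (Z.homOfLE h) (Z.homOfLE_ι h)
        (Groth.Agent.Lib.SepClosedSplit.OpenMV.le' h)]
      exact (congrArg (Groth.Agent.Lib.EtJ.MayerVietoris.Φ A.ι F 1) hk).trans (map_zero _)
    exact (Groth.Agent.Lib.EtJ.MayerVietoris.Φ jP F 1).map_eq_zero_iff.1
      (hker f g _ (key hA ha) (key hB hb))
  refine subsingleton_of_forall_eq 0 fun e => ?_
  refine Groth.Agent.Lib.SepClosedSplit.OpenMV.eq_zero_of_kills_top
    (Groth.Agent.Lib.SepClosedSplit.OpenMV.Kills.of_le (Scheme.basicOpen_of_isUnit Z isUnit_one).ge ?_)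
  haveI := Groth.Agent.Lib.GabberCrit50.Main.subsingleton hZ h1 n (1 : Γ(Z, ⊤))
  exact Subsingleton.elim (α := Abelian.Ext.{u + 1} (Groth.Agent.H61.FieldCoh.free (Z.basicOpen (1 : Γ(Z, ⊤))).ι) F (n + 1)) _ _

end Groth.Agent.S0661
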