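import Groth.Statements.S0666
import Groth.Agent.Lib.EffDelta.Basic
import Groth.Agent.Lib.CechPsh.LongExact

set_option autoImplicit false
open CategoryTheory CategoryTheory.Limits Opposite
universe w v
open EtCore

set_option backward.isDefEq.respectTransparency false

namespace Groth.Agent.S0666

open Groth.Agent.Lib.CechPsh.Vanish Groth.Agent.Lib.CechPsh.LongExact

section
variable {C : Type w} [Category.{v} C] {U : C} [HasFiniteProducts (Over U)] {ι : Type w}
  (Uf : ι → Over U)

/-- The Cech complex functor on presheaves. -/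
noncomputable abbrev cechG : (Cᵒᵖ ⥤ AddCommGrpCat.{w}) ⥤ CochainComplex AddCommGrpCat.{w} ℕ :=
  (Functor.whiskeringLeft (Over U)ᵒᵖ Cᵒᵖ AddCommGrpCat.{w}).obj (Over.forget U).op ⋙
    cechComplexFunctor Uf

instance : (cechG (C := C) Uf).PreservesZeroMorphisms where
  map_zero P Q := by
    ext n x
    refine cochain_ext Uf Q n fun i => ?_
    exact (proj_cxMap Uf (0 : P ⟶ Q) n i x).trans (map_zero (proj Uf Q n i).hom).symm

theorem cechG_shortExact (S : ShortComplex (Cᵒᵖ ⥤ AddCommGrpCat.{w})) (hS : S.ShortExact) :
    (S.map (cechG Uf)).ShortExact := by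
  have hW := fun W => hS.map_of_exact ((evaluation Cᵒᵖ AddCommGrpCat.{w}).obj W)
  refine HomologicalComplex.shortExact_of_degreewise_shortExact _ fun n => ?_
  refine { exact := ?_, mono_f := ?_, epi_g := ?_ }
  · rw [ShortComplex.ab_exact_iff]
    intro x hx
    choose a ha using fun i : Fin (n + 1) → ι => (ShortComplex.ab_exact_iff _).1
      (hW (op (prd Uf i).left)).exact (proj Uf S.X₂ n i x)
      ((proj_cxMap Uf S.g n i x).symm.trans ((congrArg (proj Uf S.X₃ n i) hx).trans (map_zero _)))
    obtain ⟨y, hy⟩ := exists_cochain Uf S.X₁ n a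
    exact ⟨y, cochain_ext Uf S.X₂ n fun i => (proj_cxMap Uf S.f n i y).trans
      ((congrArg _ (hy i)).trans (ha i))⟩
  · refine (AddCommGrpCat.mono_iff_injective _).2 fun x y h => cochain_ext Uf S.X₁ n fun i => ?_
    exact (AddCommGrpCat.mono_iff_injective _).1 (hW (op (prd Uf i).left)).mono_f
      ((proj_cxMap Uf S.f n i x).symm.trans
        ((congrArg (proj Uf S.X₂ n i) h).trans (proj_cxMap Uf S.f n i y)))
  · refine (AddCommGrpCat.epi_iff_surjective _).2 fun z => ?_
    choose t ht using fun i : Fin (n + 1) → ι =>
      (AddCommGrpCat.epi_iff_surjective _).1 (hW (op (prd Uf i).left)).epi_g (proj Uf S.X₃ n i z)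
    obtain ⟨y, hy⟩ := exists_cochain Uf S.X₂ n t
    exact ⟨y, cochain_ext Uf S.X₃ n fun i => (proj_cxMap Uf S.g n i y).trans
      ((congrArg _ (hy i)).trans (ht i))⟩

end

/-- With C, U and the family (U_i -> U) as in the definition of the Cech complex, on the abelian
category of abelian presheaves on C the p-th Cech cohomology functor is isomorphic to the p-th right
derived functor of the zeroth Cech cohomology functor (assuming, as binders, that the latter is
additive and that abelian presheaves have injective resolutions, which hold because C is taken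
essentially small relative to the coefficient universe). -/
theorem result {C : Type w} [Category.{v} C] [EssentiallySmall.{w} C] {U : C} [HasFiniteProducts (Over U)]
    {ι : Type w} (Uf : ι → Over U) [(EtCech.cechHFunctor (C := C) Uf 0).Additive]
    [HasInjectiveResolutions (Cᵒᵖ ⥤ AddCommGrpCat.{w})] (p : ℕ) :
    Nonempty (EtCech.cechHFunctor (C := C) Uf p ≅ (EtCech.cechHFunctor (C := C) Uf 0).rightDerived p) := by
  haveI : LocallySmall.{w} C := inferInstance
  haveI : (Groth.Agent.Lib.EffDelta.Basic.Hn (cechG (C := C) Uf) 0).Additive :=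
    ‹(EtCech.cechHFunctor (C := C) Uf 0).Additive›
  exact Groth.Agent.Lib.EffDelta.Basic.main (cechG (C := C) Uf) (cechG_shortExact Uf)
    (fun P hP q => isZero_cechH Uf P q) p

end Groth.Agent.S0666
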