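import Groth.Statements.S0667
import Groth.Agent.Lib.CechPsh.Vanish
import Groth.Agent.Lib.EtJ.PullExact
-- import your own Groth.Agent.* helpers here

set_option autoImplicit false
open CategoryTheory CategoryTheory.Limits AlgebraicGeometry Opposite
universe u
open EtCore

namespace Groth.Agent.S0667

/-- Let f : X -> Y be a morphism of schemes, I an injective abelian sheaf on the small etale site of X,
V an etale Y-scheme and (V_j -> V) an etale covering of V, i.e. a jointly surjective family of
morphisms of etale Y-schemes (finite products in the over category, i.e. fibre products over V,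
assumed as a binder). Then the Cech cohomology of the presheaf underlying f_* I with respect to this
covering vanishes in positive degrees. -/
theorem result {X Y : Scheme.{u}} (f : X ⟶ Y) (I : EtCoh.Ab X) [Injective I]
    (V : Y.Etale) [HasFiniteProducts (Over V)] {κ : Type (u + 1)} (Vf : κ → Over V)
    (hV : ∀ v : V.left, ∃ (j : κ) (y : (Vf j).left.left), (Vf j).hom.left.base y = v) (p : ℕ) :
    IsZero (EtCech.cechH Vf ((EtCoh.push f).obj I).obj (p + 1)) := by
  haveI : PreservesFiniteLimits (EtCoh.pull f) := Groth.Agent.Lib.EtJ.PullExact.pull_preservesFiniteLimits f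
  have : Injective ((EtCoh.push f).obj I) :=
    Injective.injective_of_adjoint (EtCoh.pullPushAdj f) I
  have : Injective ((EtCoh.push f).obj I).obj :=
    Injective.injective_of_adjoint
      (sheafificationAdjunction Y.smallEtaleTopology AddCommGrpCat.{u + 1}) ((EtCoh.push f).obj I)
  exact Groth.Agent.Lib.CechPsh.Vanish.isZero_cechH Vf _ p

end Groth.Agent.S0667
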