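import Groth.Statements.S0674
import Groth.Agent.Lib.EtSite.LocBC
import Groth.Agent.Lib.EtSite.LocFlat

set_option autoImplicit false
open CategoryTheory CategoryTheory.Limits AlgebraicGeometry Opposite
universe u
open EtCore

namespace Groth.Agent.S0674

/-- Let f : X -> S be flat and assume that for every point x of X and all strict henselizations R_S of
the local ring of S at f(x) and R_X of the local ring of X at x, every local homomorphism R_S -> R_X
compatible with the map of local rings induces a morphism Spec R_X -> Spec R_S with connected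
geometric fibres. Then for every cartesian square Y = X x_S T with g : T -> S quasi-compact and
quasi-separated and projections h : Y -> X, e : Y -> T, the base change map from f^{-1} g_* F to h_*
e^{-1} F is an isomorphism for every abelian sheaf F on the small etale site of T. -/
theorem result {X S : Scheme.{u}} (f : X ⟶ S) [Flat f]
    (hconn : ∀ (x : X) (RS : Type u) [CommRing RS] [IsLocalRing RS] [Algebra (S.presheaf.stalk (f.base x)) RS]
      [IsLocalHom (algebraMap (S.presheaf.stalk (f.base x)) RS)]
      [Hensel.IsStrictHenselization (S.presheaf.stalk (f.base x)) RS]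
      (RX : Type u) [CommRing RX] [IsLocalRing RX] [Algebra (X.presheaf.stalk x) RX]
      [IsLocalHom (algebraMap (X.presheaf.stalk x) RX)] [Hensel.IsStrictHenselization (X.presheaf.stalk x) RX]
      (ψ : RS →+* RX) [IsLocalHom ψ],
      ψ.comp (algebraMap (S.presheaf.stalk (f.base x)) RS) = (algebraMap (X.presheaf.stalk x) RX).comp (f.stalkMap x).hom →
      ∀ (Ω : Type u) [Field Ω] [IsAlgClosed Ω] (η : Spec (CommRingCat.of Ω) ⟶ Spec (CommRingCat.of RS)),
        ConnectedSpace ↥(pullback (Spec.map (CommRingCat.ofHom ψ)) η))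
    {Y T : Scheme.{u}} (g : T ⟶ S) [QuasiCompact g] [QuasiSeparated g] (h : Y ⟶ X) (e : Y ⟶ T)
    (hsq : IsPullback e h g f) (F : EtCoh.Ab T) :
    IsIso (EtCoh.baseChange0 g f h e hsq.w F) := by
  refine Groth.Agent.Lib.EtSite.LocBC.isIso_baseChange0 hsq F
    (fun Ω _ _ η => @Groth.Agent.Lib.EtSite.LocBC.gen_of_flat _ _ _
      (Groth.Agent.Lib.EtSite.LocFlat.flat_specMap_funct f η)) ?_
  intro Ω _ _ η Ω' _ _ s
  open Groth.Agent.Lib.EtSite.LocMap in
  obtain ⟨aS, lS, hS, sS⟩ := exists_algebra (η ≫ f)
  obtain ⟨aX, lX, hX, sX⟩ := Groth.Agent.Lib.EtSite.LocMap.exists_algebra η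
  exact @hconn (η.base default) (EtBase.etaleLocalRing (η ≫ f)) _ _ aS lS sS
    (EtBase.etaleLocalRing η) _ _ aX lX sX (Groth.Agent.Lib.EtSite.LocMap.funct f η).hom
    (Groth.Agent.Lib.EtSite.LocMap.isLocalHom_funct f η)
    (Groth.Agent.Lib.EtSite.LocFlat.funct_comp_algebraMap f η aS aX hS hX) Ω' _ _ s

end Groth.Agent.S0674
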