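import Groth.Statements.S0678
import Groth.Agent.Lib.WLocal.Cover

set_option autoImplicit false
open CategoryTheory CategoryTheory.Limits AlgebraicGeometry Opposite Topology
universe u
open ProEtW

namespace Groth.Agent.S0678

/-- For a ring A, every faithfully flat ind-Zariski A-algebra (filtered colimit of local isomorphisms)
has an A-algebra retraction if and only if Spec A is w-local and the space of connected components
of Spec A is extremally disconnected. -/
theorem result (A : Type u) [CommRing A] :
    ProEtW.HasIndZariskiRetractions A ↔
      (ProEtW.IsWLocal (PrimeSpectrum A) ∧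
        ExtremallyDisconnected (_root_.ConnectedComponents (PrimeSpectrum A))) := by
  constructor
  · intro H
    obtain ⟨hed, _, f, hf, hsurj⟩ := Lib.WLocal.Cons.exists_cover A
    obtain ⟨r⟩ := H (Lib.WLocal.AW.Ring f) (Lib.WLocal.AW.faithfullyFlat hsurj)
      Lib.WLocal.AW.isIndZariski
    have hr : Function.Surjective r.toRingHom := fun a => ⟨algebraMap A _ a, r.commutes a⟩
    refine ⟨Lib.WLocal.Cover.isWLocal_of_surjective _ hr (Lib.WLocal.AW.isWLocal hf), ?_⟩
    obtain ⟨e, -⟩ := Lib.WLocal.AW.exists_pi0_homeomorph hf
    have := Lib.WLocal.Components.t2Space_connectedComponents (X := PrimeSpectrum A)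
    have : CompactSpace (_root_.ConnectedComponents (PrimeSpectrum A)) :=
      Function.Surjective.compactSpace _root_.ConnectedComponents.continuous_coe
        _root_.ConnectedComponents.surjective_coe
    let i := e ∘ (PrimeSpectrum.continuous_comap r.toRingHom).connectedComponentsMap
    let j := (PrimeSpectrum.continuous_comap (algebraMap A (Lib.WLocal.AW.Ring f))).connectedComponentsMap
      ∘ e.symm
    have hji : ∀ c, j (i c) = c := fun c => by
      obtain ⟨P, rfl⟩ := _root_.ConnectedComponents.surjective_coe c
      simp only [i, j, Function.comp_apply, Homeomorph.symm_apply_apply,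
        Continuous.connectedComponentsMap_mk]
      congr 1
      rw [← PrimeSpectrum.comap_comp_apply,
        show r.toRingHom.comp (algebraMap A (Lib.WLocal.AW.Ring f)) = RingHom.id A from
          RingHom.ext r.commutes]
      rfl
    refine CompactT2.Projective.extremallyDisconnected ?_
    intro Y Z _ _ _ _ _ _ φ g hφ hg hgs
    obtain ⟨ℓ, hℓ, hgℓ⟩ := CompactT2.ExtremallyDisconnected.projective
      (A := Lib.WLocal.Cons.P A)
      (hφ.comp ((PrimeSpectrum.continuous_comap _).connectedComponentsMap_continuous.comp
        e.symm.continuous)) hg hgs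
    refine ⟨ℓ ∘ i, hℓ.comp (e.continuous.comp
      (PrimeSpectrum.continuous_comap _).connectedComponentsMap_continuous), ?_⟩
    funext c
    exact (congr_fun hgℓ (i c)).trans (congr_arg φ (hji c))
  · rintro ⟨hA, hed⟩ B _ _ hff hB
    exact Lib.WLocal.Cover.exists_retraction hA hed
      PrimeSpectrum.comap_surjective_of_faithfullyFlat
      fun q hq _ => Lib.IndEtale.Ident.of_factorsZar (Lib.IndEtale.Zariski.factors hB) q

end Groth.Agent.S0678
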