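import Groth.Statements.S0689
import Groth.Agent.Lib.EtShriek50.Coprod
import Mathlib.CategoryTheory.Adjunction.AdjointFunctorTheorems
import Mathlib.CategoryTheory.Limits.Preserves.Filtered
import Mathlib.CategoryTheory.Abelian.GrothendieckCategory.Basic
-- import your own Groth.Agent.* helpers here

set_option autoImplicit false
open CategoryTheory CategoryTheory.Limits AlgebraicGeometry Opposite
universe u
open EtShriek

namespace Groth.Agent.S0689

/-- Suppose f : X → Y is a separated morphism of schemes that is locally of finite type and locally
quasi-finite. Then the functor f_! of direct image with proper support on abelian étale sheaves (for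
separated f, a subsheaf of the ordinary direct image) admits a right adjoint; that is, f_! is a left
adjoint. -/
theorem result {X Y : Scheme.{u}} (f : X ⟶ Y) [IsSeparated f]
    [LocallyOfFiniteType f] [LocallyQuasiFinite f] :
    (EtShriek.lowerShriek f).IsLeftAdjoint := by
  have := (Groth.Agent.Lib.EtShriek50.Exact.preserves f).2
  have : ∀ ι : Type (u + 1), PreservesColimitsOfShape (Discrete ι) (EtShriek.lowerShriek f) :=
    Groth.Agent.Lib.EtShriek50.Coprod.preserves' f
  have : PreservesColimitsOfSize.{u + 1, u + 1} (EtShriek.lowerShriek f) :=
    preservesColimits_of_preservesCoequalizers_and_coproducts _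
  haveI : WellPowered.{u + 1} (EtCoh.Ab X) := IsGrothendieckAbelian.wellPowered _
  haveI : WellPowered.{u + 1} (EtCoh.Ab X)ᵒᵖ := CategoryTheory.Abelian.wellPowered_opposite
  exact isLeftAdjoint_of_preservesColimits_of_isSeparating (isSeparator_separator (EtCoh.Ab X)) _

end Groth.Agent.S0689
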