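import Groth.Statements.S0694
import Groth.Agent.Lib.WLocal.Cons

set_option autoImplicit false
open CategoryTheory CategoryTheory.Limits AlgebraicGeometry Opposite Topology
universe u
open ProEtW

namespace Groth.Agent.S0694

/-- For every ring A there is a faithfully flat ind-Zariski A-algebra A_w whose spectrum is w-local, the
closed points of Spec A_w mapping bijectively onto Spec A. (Part (4), reducedness of the particular
closed subscheme structure of the construction, is not stated.) -/
theorem result (A : Type u) [CommRing A] :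
    ∃ (Aw : Type u) (_ : CommRing Aw) (_ : Algebra A Aw),
      Module.FaithfullyFlat A Aw ∧ EtPBC.IsIndZariski A Aw ∧ ProEtW.IsWLocal (PrimeSpectrum Aw) ∧
      Set.BijOn (PrimeSpectrum.comap (algebraMap A Aw)) (ProEtW.closedPoints (PrimeSpectrum Aw))
        Set.univ := by
  have := Lib.WLocal.Cons.totallySeparatedSpace A
  have hh := Lib.WLocal.Cons.consContinuous_h A
  refine ⟨Lib.WLocal.AW.Ring (Lib.WLocal.Cons.h A), inferInstance, inferInstance,
    Lib.WLocal.AW.faithfullyFlat (Lib.WLocal.Cons.bijective_h A).2,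
    Lib.WLocal.AW.isIndZariski, Lib.WLocal.AW.isWLocal hh, fun _ _ => trivial, ?_, ?_⟩
  · intro P hP Q hQ hPQ
    have h1 := (Lib.WLocal.AW.isClosed_singleton_iff hh P).mp hP
    have h2 := (Lib.WLocal.AW.isClosed_singleton_iff hh Q).mp hQ
    rw [← Lib.WLocal.LCSpec.fst_toProd, ← Lib.WLocal.LCSpec.fst_toProd] at hPQ
    refine (Lib.WLocal.LCSpec.isEmbedding_toProd _).injective (Prod.ext hPQ ?_)
    exact (Lib.WLocal.Cons.bijective_h A).1 (h1.symm.trans (hPQ.trans h2))
  · intro x _
    obtain ⟨t, rfl⟩ := (Lib.WLocal.Cons.bijective_h A).2 x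
    exact ⟨Lib.WLocal.AW.closedPt t, Lib.WLocal.AW.isClosed_closedPt hh t,
      Lib.WLocal.AW.comap_closedPt t⟩

end Groth.Agent.S0694
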