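import Groth.Statements.S0695
import Groth.Agent.Lib.WLocal.Cover

set_option autoImplicit false
open CategoryTheory CategoryTheory.Limits AlgebraicGeometry Opposite Topology
universe u
open ProEtW

namespace Groth.Agent.S0695

/-- For every ring A there is a faithfully flat ind-Zariski A-algebra A_w with w-local spectrum such
that for every A-algebra B whose spectrum is w-local there is exactly one A-algebra map A_w -> B for
which Spec B -> Spec A_w is w-local. -/
theorem result (A : Type u) [CommRing A] :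
    ∃ (Aw : Type u) (_ : CommRing Aw) (_ : Algebra A Aw),
      Module.FaithfullyFlat A Aw ∧ EtPBC.IsIndZariski A Aw ∧ ProEtW.IsWLocal (PrimeSpectrum Aw) ∧
      ∀ (B : Type u) [CommRing B] [Algebra A B], ProEtW.IsWLocal (PrimeSpectrum B) →
        ∃! φ : Aw →ₐ[A] B, ProEtW.IsWLocalMap (PrimeSpectrum.comap φ.toRingHom) := by
  have := Lib.WLocal.Cons.totallySeparatedSpace A
  let h := Lib.WLocal.Cons.h A
  have hh := Lib.WLocal.Cons.consContinuous_h A
  refine ⟨Lib.WLocal.AW.Ring h, inferInstance, inferInstance,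
    Lib.WLocal.AW.faithfullyFlat (Lib.WLocal.Cons.bijective_h A).2, Lib.WLocal.AW.isIndZariski,
    Lib.WLocal.AW.isWLocal hh, ?_⟩
  intro B _ _ hB
  obtain ⟨_, _, _⟩ := Lib.WLocal.Glue.profinite_clPts hB
  let κ : Lib.WLocal.Glue.ClPts B → Lib.WLocal.Cons.T A := fun Q =>
    WithTopology.toTopology _ (PrimeSpectrum.comap (algebraMap A B) Q.1)
  have hκ : Continuous κ :=
    Lib.WLocal.Cover.continuous_toTopology (Lib.WLocal.Glue.consContinuous_comap hB)
  have hκh : ∀ Q, h (κ Q) = PrimeSpectrum.comap (algebraMap A B) Q.1 := fun Q => rfl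
  refine ⟨Lib.WLocal.Glue.toWLocal hB hκ hκh, ⟨Lib.WLocal.Cover.isSpectralMap_comap _,
    fun Q hQ => ?_⟩, fun ψ hψ => ?_⟩
  · rw [Lib.WLocal.Glue.comap_toWLocal hB hκ hκh ⟨Q, hQ⟩]
    exact Lib.WLocal.AW.isClosed_closedPt hh _
  · refine IsLocalization.algHom_ext (Lib.WLocal.LCSpec.sub (Lib.WLocal.AW.graph h))
      (AlgHom.ext fun f => ?_)
    change ψ (algebraMap _ _ f) = Lib.WLocal.Glue.toWLocal hB hκ hκh (algebraMap _ _ f)
    rw [Lib.WLocal.Glue.toWLocal_apply]
    refine Lib.WLocal.Glue.rep_unique (κ := κ) (f := f) (fun Q => ?_)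
      (Lib.WLocal.Glue.rep_lcMap hB hκ f)
    -- the image of `Q` is the closed point over `κ Q`
    set P := PrimeSpectrum.comap ψ.toRingHom Q.1 with hP
    have hPcl := (Lib.WLocal.AW.isClosed_singleton_iff hh P).mp (hψ.2 Q.1 Q.2)
    have hsnd : (Lib.WLocal.LCSpec.toProd (Lib.WLocal.AW.graph h) P).2 = κ Q := by
      refine (Lib.WLocal.Cons.bijective_h A).1 (hPcl.symm.trans ?_)
      rw [Lib.WLocal.LCSpec.fst_toProd, hP, ← PrimeSpectrum.comap_comp_apply]
      exact congr_arg (fun g => PrimeSpectrum.comap g Q.1) (RingHom.ext ψ.commutes)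
    have hU := f.isLocallyConstant.isClopen_fiber (f (κ Q))
    let χ := LocallyConstant.charFn A hU
    refine ⟨ψ (algebraMap _ _ χ), fun hmem => ?_, ?_⟩
    · have : χ ∈ (Lib.WLocal.LCSpec.pt A _
          (Lib.WLocal.LCSpec.toProd (Lib.WLocal.AW.graph h) P)).asIdeal := by
        rw [Lib.WLocal.LCSpec.pt_toProd]
        exact hmem
      rw [Lib.WLocal.LCSpec.mem_pt, hsnd,
        Lib.WLocal.LCSpec.charFn_apply_of_mem hU (show κ Q ∈ {t | f t = f (κ Q)} from rfl)] at this
      exact ((Lib.WLocal.LCSpec.toProd _ P).1).2.ne_top ((Ideal.eq_top_iff_one _).mpr this)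
    · have h0 : χ * (f - algebraMap A _ (f (κ Q))) = 0 := by
        ext t
        rw [LocallyConstant.mul_apply, LocallyConstant.sub_apply,
          Lib.WLocal.LCSpec.algebraMap_apply', LocallyConstant.zero_apply]
        by_cases ht : f t = f (κ Q)
        · rw [ht, sub_self, mul_zero]
        · rw [Lib.WLocal.LCSpec.charFn_apply_of_notMem hU (show t ∉ {s | f s = f (κ Q)} from ht),
            zero_mul]
      have := congr_arg (fun z => ψ (algebraMap _ (Lib.WLocal.AW.Ring h) z)) h0
      simp only [map_mul, map_sub, map_zero, ← IsScalarTower.algebraMap_apply,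
        AlgHom.commutes] at this
      exact this

end Groth.Agent.S0695
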