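import Groth.Statements.S0697
import Groth.Agent.Lib.WLocal.LCSpec

set_option autoImplicit false
open CategoryTheory CategoryTheory.Limits AlgebraicGeometry Opposite Topology
universe u
open ProEtW

namespace Groth.Agent.S0697

/-- Let A be a ring, X = Spec A, T a profinite space and g : T -> pi_0(X) continuous. Then there is an
ind-Zariski A-algebra B, with Y = Spec B, and a homeomorphism e : pi_0(Y) -> T over pi_0(X) such
that Y -> X x T, y |-> (image of y, e [y]) is a topological embedding with image the fibre product
of X and T over pi_0(X); that is, the square Y -> pi_0(Y) = T, Y -> X is cartesian in topological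
spaces. -/
theorem result (A : Type u) [CommRing A] (T : Type u)
    [TopologicalSpace T] [CompactSpace T] [T2Space T] [TotallyDisconnectedSpace T]
    (g : C(T, _root_.ConnectedComponents (PrimeSpectrum A))) :
    ∃ (B : Type u) (_ : CommRing B) (_ : Algebra A B) (e : _root_.ConnectedComponents (PrimeSpectrum B) ≃ₜ T),
      EtPBC.IsIndZariski A B ∧
      (∀ y : PrimeSpectrum B,
        g (e (_root_.ConnectedComponents.mk y)) = _root_.ConnectedComponents.mk (PrimeSpectrum.comap (algebraMap A B) y)) ∧
      Topology.IsEmbedding (fun y : PrimeSpectrum B =>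
        (PrimeSpectrum.comap (algebraMap A B) y, e (_root_.ConnectedComponents.mk y))) ∧
      Set.range (fun y : PrimeSpectrum B =>
        (PrimeSpectrum.comap (algebraMap A B) y, e (_root_.ConnectedComponents.mk y))) =
        {p : PrimeSpectrum A × T | _root_.ConnectedComponents.mk p.1 = g p.2} := by
  let W : Set (PrimeSpectrum A × T) := {p | _root_.ConnectedComponents.mk p.1 = g p.2}
  have hrange : Set.range (Lib.WLocal.LCSpec.toProd W) = W := by
    refine subset_antisymm ?_ (Lib.WLocal.LCSpec.subset_range_toProd W)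
    rw [Lib.WLocal.LCSpec.range_toProd]
    rintro ⟨x, t⟩ hx
    by_contra hne
    obtain ⟨y, hy⟩ := _root_.ConnectedComponents.surjective_coe (g t)
    obtain ⟨s, hs, hys, hxs⟩ := Lib.WLocal.Components.exists_isClopen_separating (x := y) (y := x)
      (fun hc => hne ((_root_.ConnectedComponents.coe_eq_coe'.mpr hc).trans hy))
    obtain ⟨e, -, he⟩ := PrimeSpectrum.exists_idempotent_basicOpen_eq_of_isClopen hs
    let V : Set T := g ⁻¹' (_root_.ConnectedComponents.mk '' s)
    have hV : IsClopen V := (Lib.WLocal.Components.isClopen_image_mk hs).preimage g.continuous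
    have htV : t ∈ V := ⟨y, hys, hy⟩
    refine hx (Lib.WLocal.LCSpec.atOn hV e) ?_ ?_
    · rintro ⟨z, r⟩ (hzr : _root_.ConnectedComponents.mk z = g r)
      by_cases hr : r ∈ V
      · have hzs : z ∈ s := by
          rw [← Lib.WLocal.Components.preimage_image_mk hs, Set.mem_preimage, hzr]
          exact hr
        rw [Lib.WLocal.LCSpec.atOn_of_mem hV e hr]
        exact (he ▸ hzs : z ∈ (PrimeSpectrum.basicOpen e : Set _))
      · rw [Lib.WLocal.LCSpec.atOn_of_notMem hV e hr]
        exact fun h1 => z.2.ne_top ((Ideal.eq_top_iff_one _).mpr h1)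
    · rw [Lib.WLocal.LCSpec.atOn_of_mem hV e htV]
      by_contra hex
      exact hxs (he ▸ (show x ∈ (PrimeSpectrum.basicOpen e : Set _) from hex))
  let φ : PrimeSpectrum (Lib.WLocal.LCSpec.Loc W) ≃ₜ
      Lib.WLocal.Basic.Pb g :=
    ((Lib.WLocal.LCSpec.isEmbedding_toProd W).toHomeomorph).trans (Homeomorph.setCongr hrange)
  have hφ : ∀ P, (φ P).1 = Lib.WLocal.LCSpec.toProd W P := fun P => rfl
  obtain ⟨e, he⟩ := Lib.WLocal.Basic.exists_pi0_homeomorph g
  let Φ : _root_.ConnectedComponents (PrimeSpectrum (Lib.WLocal.LCSpec.Loc W)) ≃ₜ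
      _root_.ConnectedComponents (Lib.WLocal.Basic.Pb g) :=
    { toFun := φ.continuous.connectedComponentsMap
      invFun := φ.symm.continuous.connectedComponentsMap
      left_inv := fun a => by
        obtain ⟨P, rfl⟩ := _root_.ConnectedComponents.surjective_coe a
        simp [Continuous.connectedComponentsMap_mk]
      right_inv := fun a => by
        obtain ⟨P, rfl⟩ := _root_.ConnectedComponents.surjective_coe a
        simp [Continuous.connectedComponentsMap_mk]
      continuous_toFun := φ.continuous.connectedComponentsMap_continuous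
      continuous_invFun := φ.symm.continuous.connectedComponentsMap_continuous }
  have hΦ : ∀ P, (Φ.trans e) (_root_.ConnectedComponents.mk P) =
      (Lib.WLocal.LCSpec.toProd W P).2 := fun P => by
    rw [Homeomorph.trans_apply, ← hφ, ← he (φ P)]
    rfl
  refine ⟨Lib.WLocal.LCSpec.Loc W, inferInstance, inferInstance, Φ.trans e,
    Lib.IndEtale.Zariski.of_factors (Lib.WLocal.LCSpec.factorsZar_loc W), fun y => ?_, ?_, ?_⟩
  · rw [hΦ, ← Lib.WLocal.LCSpec.fst_toProd]
    exact ((φ y).2 : _).symm
  all_goals
    have hfun : (fun y : PrimeSpectrum (Lib.WLocal.LCSpec.Loc W) =>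
        (PrimeSpectrum.comap (algebraMap A (Lib.WLocal.LCSpec.Loc W)) y,
          (Φ.trans e) (_root_.ConnectedComponents.mk y))) = Lib.WLocal.LCSpec.toProd W := by
      funext y
      rw [hΦ, ← Lib.WLocal.LCSpec.fst_toProd]
    rw [hfun]
  · exact Lib.WLocal.LCSpec.isEmbedding_toProd W
  · exact hrange

end Groth.Agent.S0697
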