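import Groth.Statements.S0698
import Groth.Agent.Lib.IndEtale.Zariski
import Groth.Agent.Lib.WLocal.Components

set_option autoImplicit false
open CategoryTheory CategoryTheory.Limits AlgebraicGeometry Opposite Topology
universe u
open ProEtW

namespace Groth.Agent.S0698

/-- Let A be a ring, X = Spec A and T a closed subset of pi_0(X). Then A has an ind-Zariski quotient
ring B (the map A -> B is surjective) whose spectrum maps homeomorphically onto the preimage of T in
X. -/
theorem result (A : Type u) [CommRing A]
    (T : Set (_root_.ConnectedComponents (PrimeSpectrum A))) (hT : IsClosed T) :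
    ∃ (B : Type u) (_ : CommRing B) (_ : Algebra A B),
      EtPBC.IsIndZariski A B ∧ Function.Surjective (algebraMap A B) ∧
      Topology.IsEmbedding (PrimeSpectrum.comap (algebraMap A B)) ∧
      Set.range (PrimeSpectrum.comap (algebraMap A B)) = _root_.ConnectedComponents.mk ⁻¹' T := by
  let mk' : PrimeSpectrum A → _root_.ConnectedComponents (PrimeSpectrum A) :=
    _root_.ConnectedComponents.mk
  let S : Submonoid A :=
    { carrier := {e | IsIdempotentElem e ∧ ∀ x, mk' x ∈ T → e ∉ x.asIdeal}
      one_mem' := ⟨IsIdempotentElem.one, fun x _ h =>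
        x.2.ne_top ((Ideal.eq_top_iff_one _).mpr h)⟩
      mul_mem' := fun {a b} ha hb => ⟨ha.1.mul hb.1, fun x hx h =>
        (x.2.mem_or_mem h).elim (ha.2 x hx) (hb.2 x hx)⟩ }
  refine ⟨Localization S, inferInstance, inferInstance,
    Lib.IndEtale.Zariski.of_factors (Lib.IndEtale.Zariski.factors_localization
      (Lib.IndEtale.Zariski.impliesFP A) Lib.IndEtale.Zariski.stableAway_zar
      (Lib.IndEtale.Crit.Factors.of_prop (P := Lib.IndEtale.Zariski.zarProp A)
        (inferInstance : Algebra.IsLocalIso A A)) S (Localization S)),
    fun y => ?_, PrimeSpectrum.localization_comap_isEmbedding (Localization S) S, ?_⟩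
  · obtain ⟨a, s, rfl⟩ := IsLocalization.exists_mk'_eq S y
    refine ⟨a * s, (IsLocalization.eq_mk'_iff_mul_eq).mpr ?_⟩
    rw [← map_mul, mul_assoc, s.2.1.eq, map_mul]
    have h1 : algebraMap A (Localization S) s = 1 :=
      (IsLocalization.map_units (Localization S) s).mul_right_cancel
        (by rw [← map_mul, s.2.1.eq, one_mul])
    rw [h1, mul_one]
  · rw [PrimeSpectrum.localization_comap_range (Localization S) S]
    ext x
    refine ⟨fun hx => ?_, fun hx => Set.disjoint_left.mpr fun e he hex => he.2 x hx hex⟩
    by_contra hne
    have := Lib.WLocal.Components.totallySeparatedSpace_connectedComponents (X := PrimeSpectrum A)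
    have : CompactSpace (_root_.ConnectedComponents (PrimeSpectrum A)) :=
      Function.Surjective.compactSpace _root_.ConnectedComponents.continuous_coe
        _root_.ConnectedComponents.surjective_coe
    obtain ⟨V, hV, hxV, hVT⟩ := compact_exists_isClopen_in_isOpen hT.isOpen_compl hne
    obtain ⟨e, he, heV⟩ := PrimeSpectrum.exists_idempotent_basicOpen_eq_of_isClopen
      (hV.compl.preimage _root_.ConnectedComponents.continuous_coe)
    refine Set.disjoint_left.mp hx (show e ∈ (S : Set A) from ⟨he, fun y hy => ?_⟩) ?_
    · have : y ∈ _root_.ConnectedComponents.mk ⁻¹' Vᶜ := fun h => hVT h hy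
      rw [heV] at this
      exact this
    · by_contra hex
      have : x ∈ _root_.ConnectedComponents.mk ⁻¹' Vᶜ := by
        rw [heV]
        exact hex
      exact this hxV

end Groth.Agent.S0698
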