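import Groth.Statements.S0699
import Groth.Agent.Lib.WLocal.Glue

set_option autoImplicit false
open CategoryTheory CategoryTheory.Limits AlgebraicGeometry Opposite Topology
universe u
open ProEtW

namespace Groth.Agent.S0699

/-- Let A -> B identify local rings, with Spec A and Spec B w-local, Spec B -> Spec A w-local, and
pi_0(Spec B) -> pi_0(Spec A) bijective. Then A -> B is bijective. -/
theorem result (A B : Type u) [CommRing A] [CommRing B]
    [Algebra A B] (h1 : EtPBC.IdentifiesLocalRings A B) (h2 : ProEtW.IsWLocal (PrimeSpectrum A))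
    (h3 : ProEtW.IsWLocal (PrimeSpectrum B))
    (h4 : ProEtW.IsWLocalMap (PrimeSpectrum.comap (algebraMap A B)))
    (h5 : Function.Bijective
      (PrimeSpectrum.continuous_comap (algebraMap A B)).connectedComponentsMap) :
    Function.Bijective (algebraMap A B) := by
  have bA := Lib.WLocal.Components.bijective_mk_closedPoints h2.2.1 h2.2.2
  have := h3.1
  have bB := Lib.WLocal.Components.bijective_mk_closedPoints h3.2.1 h3.2.2
  refine Lib.WLocal.Glue.bijective_of_identAt h2 h3 (fun Q => h4.2 Q.1 Q.2) ?_
    fun Q => (Lib.IndEtale.Ident.identifiesLocalRings_iff.mp h1) Q.1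
  have hcomm : ∀ Q : Lib.WLocal.Glue.ClPts B,
      (PrimeSpectrum.continuous_comap (algebraMap A B)).connectedComponentsMap
        (_root_.ConnectedComponents.mk Q.1) =
      _root_.ConnectedComponents.mk (PrimeSpectrum.comap (algebraMap A B) Q.1) := fun Q =>
    Continuous.connectedComponentsMap_mk _ _
  refine ⟨fun Q Q' hQ => bB.1 (h5.1 ?_), fun P => ?_⟩
  · rw [hcomm, hcomm]
    exact congr_arg (fun z : Lib.WLocal.Glue.ClPts A => _root_.ConnectedComponents.mk z.1) hQ
  · obtain ⟨c, hc⟩ := h5.2 (_root_.ConnectedComponents.mk P.1)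
    obtain ⟨Q, rfl⟩ := bB.2 c
    exact ⟨Q, bA.1 ((hcomm Q).symm.trans hc)⟩

end Groth.Agent.S0699
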