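import Groth.Statements.S0701
import Groth.Agent.Lib.WLocal.Basic

set_option autoImplicit false
open CategoryTheory CategoryTheory.Limits AlgebraicGeometry Opposite Topology
universe u
open ProEtW

namespace Groth.Agent.S0701

/-- Let Spec A be profinite (quasi-compact, Hausdorff, totally disconnected) and A -> B a ring map such
that two distinct primes of B over the same prime of A are never comparable. Then Spec B is
profinite. -/
theorem result (A B : Type u) [CommRing A] [CommRing B]
    [Algebra A B] [T2Space (PrimeSpectrum A)] [TotallyDisconnectedSpace (PrimeSpectrum A)]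
    (h : ∀ q q' : PrimeSpectrum B, q.asIdeal.comap (algebraMap A B) = q'.asIdeal.comap (algebraMap A B) →
      q.asIdeal ≤ q'.asIdeal → q = q') :
    ProEtW.IsProfinite (PrimeSpectrum B) := by
  have hT1 : T1Space (PrimeSpectrum B) := ⟨fun q => by
    rw [Lib.WLocal.Basic.isClosed_singleton_iff_forall_specializes]
    intro q' hq'
    have h1 : PrimeSpectrum.comap (algebraMap A B) q = PrimeSpectrum.comap (algebraMap A B) q' :=
      specializes_iff_eq.mp (hq'.map (PrimeSpectrum.continuous_comap _))
    exact (h q q' congr($(h1).asIdeal) (PrimeSpectrum.le_iff_specializes q q' |>.mpr hq')).symm⟩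
  have := Lib.WLocal.Components.totallySeparatedSpace_of_t1 (X := PrimeSpectrum B)
  exact ⟨inferInstance, inferInstance, inferInstance⟩

end Groth.Agent.S0701
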