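import Groth.Statements.S0702
import Groth.Agent.Lib.WLocal.Basic

set_option autoImplicit false
open CategoryTheory CategoryTheory.Limits AlgebraicGeometry Opposite Topology
universe u
open ProEtW

namespace Groth.Agent.S0702

/-- Let Spec A be profinite and A -> B induce algebraic extensions of residue fields at all primes. Then
Spec B is profinite. -/
theorem result (A B : Type u) [CommRing A] [CommRing B]
    [Algebra A B] [T2Space (PrimeSpectrum A)] [TotallyDisconnectedSpace (PrimeSpectrum A)]
    (h : ProEtW.AlgebraicResidueExtensions A B) :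
    ProEtW.IsProfinite (PrimeSpectrum B) := by
  have h : ∀ q q' : PrimeSpectrum B,
      q.asIdeal.comap (algebraMap A B) = q'.asIdeal.comap (algebraMap A B) →
      q.asIdeal ≤ q'.asIdeal → q = q' := by
    intro q q' hc hle
    refine PrimeSpectrum.ext (le_antisymm hle fun b hb => ?_)
    by_contra hbq
    have hne : (Ideal.Quotient.mk q.asIdeal b) ∈ nonZeroDivisors (B ⧸ q.asIdeal) :=
      mem_nonZeroDivisors_of_ne_zero (by simpa [Ideal.Quotient.eq_zero_iff_mem] using hbq)
    obtain ⟨r, hr0, hdvd⟩ := ((h q.asIdeal).isAlgebraic _).exists_nonzero_dvd hne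
    obtain ⟨a, rfl⟩ := Ideal.Quotient.mk_surjective r
    refine hr0 (Ideal.Quotient.eq_zero_iff_mem.mpr ?_)
    rw [hc, Ideal.mem_comap]
    obtain ⟨c, hc'⟩ := hdvd
    obtain ⟨c, rfl⟩ := Ideal.Quotient.mk_surjective c
    have : algebraMap A B a - b * c ∈ q.asIdeal := by
      rw [← Ideal.Quotient.eq_zero_iff_mem, map_sub, map_mul, sub_eq_zero]
      exact hc'
    have := q'.asIdeal.add_mem (hle this) (q'.asIdeal.mul_mem_right c hb)
    simpa using this
  have hT1 : T1Space (PrimeSpectrum B) := ⟨fun q => by
    rw [Lib.WLocal.Basic.isClosed_singleton_iff_forall_specializes]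
    intro q' hq'
    have h1 : PrimeSpectrum.comap (algebraMap A B) q = PrimeSpectrum.comap (algebraMap A B) q' :=
      specializes_iff_eq.mp (hq'.map (PrimeSpectrum.continuous_comap _))
    exact (h q q' congr($(h1).asIdeal) (PrimeSpectrum.le_iff_specializes q q' |>.mpr hq')).symm⟩
  have := Lib.WLocal.Components.totallySeparatedSpace_of_t1 (X := PrimeSpectrum B)
  exact ⟨inferInstance, inferInstance, inferInstance⟩

end Groth.Agent.S0702
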