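import Groth.Statements.S0705
import Groth.Agent.Lib.WLocal.AW

set_option autoImplicit false
open CategoryTheory CategoryTheory.Limits AlgebraicGeometry Opposite Topology
universe u
open ProEtW

namespace Groth.Agent.S0705

lemma eq_sum_charFn {A X : Type u} [CommRing A] [TopologicalSpace X] (f : LocallyConstant X A)
    (hfin : (Set.range f).Finite) :
    f = ∑ r ∈ hfin.toFinset, algebraMap A (LocallyConstant X A) r *
      LocallyConstant.charFn A (f.isLocallyConstant.isClopen_fiber r) := by
  classical
  ext t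
  rw [← LocallyConstant.evalRingHom_apply t (∑ r ∈ hfin.toFinset, _), map_sum,
    Finset.sum_eq_single (f t)]
  · simp [Lib.WLocal.LCSpec.charFn_apply_of_mem (f.isLocallyConstant.isClopen_fiber (f t))
      (show t ∈ {x | f x = f t} from rfl), Lib.WLocal.LCSpec.algebraMap_apply']
  · intro r _ hr
    simp [Lib.WLocal.LCSpec.charFn_apply_of_notMem
      (f.isLocallyConstant.isClopen_fiber r) (fun e : f t = r => hr e.symm)]
  · simp

/-- Let I be an ideal of A such that V(I) is a profinite space. Then some ind-Zariski A-algebra B has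
w-local spectrum whose closed points are exactly V(IB), with A/I -> B/IB bijective. -/
theorem result (A : Type u) [CommRing A] (I : Ideal A)
    (hI : ProEtW.IsProfinite (PrimeSpectrum.zeroLocus (R := A) I)) :
    ∃ (B : Type u) (_ : CommRing B) (_ : Algebra A B),
      EtPBC.IsIndZariski A B ∧ ProEtW.IsWLocal (PrimeSpectrum B) ∧
      ProEtW.closedPoints (PrimeSpectrum B) = PrimeSpectrum.zeroLocus (I.map (algebraMap A B)) ∧
      Function.Bijective (Ideal.quotientMap (I.map (algebraMap A B)) (algebraMap A B)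
        Ideal.le_comap_map) := by
  classical
  obtain ⟨hc, ht2, htd⟩ := hI
  set T := ↥(PrimeSpectrum.zeroLocus (R := A) I) with hT
  let h : T → PrimeSpectrum A := Subtype.val
  have hh : Lib.WLocal.AW.ConsContinuous h := fun a => by
    have hcl : IsClosed {t : T | a ∈ (h t).asIdeal} := by
      have : {t : T | a ∈ (h t).asIdeal} = h ⁻¹' (PrimeSpectrum.basicOpen a : Set _)ᶜ := by
        ext t; simp [h]
      rw [this]
      exact (PrimeSpectrum.basicOpen a).2.isClosed_compl.preimage continuous_subtype_val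
    refine ⟨hcl, ?_⟩
    have hop : IsCompact {t : T | a ∈ (h t).asIdeal}ᶜ := by
      rw [IsEmbedding.subtypeVal.isCompact_iff]
      have : Subtype.val '' {t : T | a ∈ (h t).asIdeal}ᶜ =
          (PrimeSpectrum.basicOpen a : Set (PrimeSpectrum A)) ∩
            PrimeSpectrum.zeroLocus (R := A) I := by
        ext x
        simp only [h, Set.mem_image, Set.mem_compl_iff, Set.mem_ofPred_eq, Set.mem_inter_iff,
          SetLike.mem_coe, PrimeSpectrum.mem_basicOpen]
        exact ⟨fun ⟨t, ht, e⟩ => e ▸ ⟨ht, t.2⟩, fun ⟨hx, hz⟩ => ⟨⟨x, hz⟩, hx, rfl⟩⟩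
      rw [this]
      exact (PrimeSpectrum.isCompact_basicOpen a).inter_right (PrimeSpectrum.isClosed_zeroLocus _)
    simpa using hop.isClosed.isOpen_compl
  let W := Lib.WLocal.AW.graph h
  let J : Ideal (Lib.WLocal.AW.Ring h) := I.map (algebraMap A (Lib.WLocal.AW.Ring h))
  have hJP : ∀ P : PrimeSpectrum (Lib.WLocal.AW.Ring h), J ≤ P.asIdeal ↔
      (Lib.WLocal.LCSpec.toProd W P).1 ∈ PrimeSpectrum.zeroLocus (R := A) I := fun P => by
    rw [Lib.WLocal.LCSpec.fst_toProd, Ideal.map_le_iff_le_comap]
    rfl
  have hcp : ProEtW.closedPoints (PrimeSpectrum (Lib.WLocal.AW.Ring h)) = PrimeSpectrum.zeroLocus (J : Set (Lib.WLocal.AW.Ring h)) := by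
    ext P
    change IsClosed ({P} : Set _) ↔ J ≤ P.asIdeal
    rw [Lib.WLocal.AW.isClosed_singleton_iff hh, hJP]
    constructor
    · intro e
      rw [e]
      exact (Lib.WLocal.LCSpec.toProd W P).2.2
    · intro hP
      have hs : (⟨_, hP⟩ : T) ⤳ (Lib.WLocal.LCSpec.toProd W P).2 :=
        (subtype_specializes_iff _ _).mpr (Lib.WLocal.AW.specializes_toProd hh P)
      exact congr_arg Subtype.val hs.eq
  refine ⟨(Lib.WLocal.AW.Ring h), inferInstance, inferInstance, Lib.WLocal.AW.isIndZariski,
    Lib.WLocal.AW.isWLocal hh, hcp, ?_, ?_⟩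
  · -- injectivity
    rw [injective_iff_map_eq_zero]
    intro x hx
    obtain ⟨a, rfl⟩ := Ideal.Quotient.mk_surjective x
    rw [Ideal.quotientMap_mk, Ideal.Quotient.eq_zero_iff_mem,
      IsScalarTower.algebraMap_eq A (LocallyConstant T A) (Lib.WLocal.AW.Ring h), ← Ideal.map_map,
      IsLocalization.mem_map_algebraMap_iff (Lib.WLocal.LCSpec.sub W)] at hx
    obtain ⟨⟨⟨y, hy⟩, s⟩, hys⟩ := hx
    rw [RingHom.comp_apply, ← map_mul, IsLocalization.eq_iff_exists (Lib.WLocal.LCSpec.sub W)] at hys
    obtain ⟨c, hc'⟩ := hys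
    have hval : ∀ f ∈ I.map (algebraMap A (LocallyConstant T A)), ∀ t : T, f t ∈ I := fun f hf t => by
      have := Ideal.mem_map_of_mem (LocallyConstant.evalRingHom t) hf
      rw [Ideal.map_map] at this
      exact (Ideal.map_id I).le (this : f t ∈ I.map (RingHom.id A))
    rw [Ideal.Quotient.eq_zero_iff_mem]
    by_contra ha
    obtain ⟨m, hm, hle⟩ := Ideal.exists_le_maximal (I.colon {a}) (by
      intro htop
      apply ha
      have h1 : (1 : A) ∈ I.colon {a} := htop ▸ Submodule.mem_top
      simpa [Submodule.mem_colon_singleton] using h1)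
    have hIm : I ≤ m := fun i hi => hle (Submodule.mem_colon_singleton.mpr
      (by simpa using I.mul_mem_right a hi))
    let t : T := ⟨⟨m, hm.isPrime⟩, hIm⟩
    have hcs : (c : (LocallyConstant T A)) * (s : (LocallyConstant T A)) ∈ Lib.WLocal.LCSpec.sub W := mul_mem c.2 s.2
    refine hcs (h t, t) ⟨t, rfl⟩ (hle (Submodule.mem_colon_singleton.mpr ?_))
    have hmem : (c : (LocallyConstant T A)) * (algebraMap A (LocallyConstant T A) a * s) ∈ I.map (algebraMap A (LocallyConstant T A)) := by
      rw [hc']
      exact Ideal.mul_mem_left _ _ hy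
    have := hval _ hmem t
    simpa [Lib.WLocal.LCSpec.algebraMap_apply', mul_assoc, mul_left_comm, mul_comm] using this
  · -- surjectivity
    have hpiece : ∀ f : (LocallyConstant T A), (∀ t, f t ∈ I) → f ∈ I.map (algebraMap A (LocallyConstant T A)) := fun f hf => by
      have hfin : (Set.range f).Finite := f.range_finite
      have := eq_sum_charFn f hfin
      rw [this]
      refine Ideal.sum_mem _ fun r hr => Ideal.mul_mem_right _ _ (Ideal.mem_map_of_mem _ ?_)
      obtain ⟨t, rfl⟩ := hfin.mem_toFinset.mp hr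
      exact hf t
    let R : Subring ((Lib.WLocal.AW.Ring h) ⧸ J) := (Ideal.quotientMap J (algebraMap A (Lib.WLocal.AW.Ring h)) Ideal.le_comap_map).range
    let q : (LocallyConstant T A) →+* (Lib.WLocal.AW.Ring h) ⧸ J := (Ideal.Quotient.mk J).comp (algebraMap (LocallyConstant T A) (Lib.WLocal.AW.Ring h))
    have hchar : ∀ {U : Set T} (hU : IsClopen U), q (LocallyConstant.charFn A hU) ∈ R := by
      intro U hU
      let π := Ideal.Quotient.mk I
      let z : PrimeSpectrum (A ⧸ I) → T := fun x => ⟨PrimeSpectrum.comap π x, fun i hi => by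
        change π i ∈ x.asIdeal
        rw [Ideal.Quotient.eq_zero_iff_mem.mpr hi]
        exact x.asIdeal.zero_mem⟩
      have hz : Continuous z := (PrimeSpectrum.continuous_comap π).subtype_mk _
      obtain ⟨e', he', heU⟩ :=
        PrimeSpectrum.exists_idempotent_basicOpen_eq_of_isClopen (hU.preimage hz)
      obtain ⟨e, rfl⟩ := Ideal.Quotient.mk_surjective e'
      have hee : e * (1 - e) ∈ I := by
        rw [← Ideal.Quotient.eq_zero_iff_mem, map_mul, map_sub, map_one, mul_sub, mul_one, he'.eq,
          sub_self]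
      have het : ∀ t : T, e ∈ (h t).asIdeal ↔ t ∉ U := fun t => by
        obtain ⟨x, hx⟩ : ∃ x, z x = t := by
          have : t.1 ∈ Set.range (PrimeSpectrum.comap π) := by
            rw [range_comap_of_surjective _ π Ideal.Quotient.mk_surjective,
              Ideal.mk_ker]
            exact t.2
          obtain ⟨x, hx⟩ := this
          exact ⟨x, Subtype.ext hx⟩
        have := Set.ext_iff.mp heU x
        rw [← hx]
        change e ∈ (PrimeSpectrum.comap π x).asIdeal ↔ _
        rw [PrimeSpectrum.comap_asIdeal, Ideal.mem_comap]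
        simpa [not_iff_not] using (not_congr this).symm
      let g : (LocallyConstant T A) := Lib.WLocal.LCSpec.atOn hU e * Lib.WLocal.LCSpec.atOn hU.compl (1 - e)
      have hg : g ∈ Lib.WLocal.LCSpec.sub W := by
        rintro _ ⟨t, rfl⟩
        by_cases ht : t ∈ U
        · simp [g, Lib.WLocal.LCSpec.atOn_of_mem hU e ht,
            Lib.WLocal.LCSpec.atOn_of_notMem hU.compl (1 - e) (show t ∉ Uᶜ by simpa using ht),
            het t, ht]
        · simp only [g, LocallyConstant.mul_apply, Lib.WLocal.LCSpec.atOn_of_notMem hU e ht,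
            Lib.WLocal.LCSpec.atOn_of_mem hU.compl (1 - e) (show t ∈ Uᶜ from ht), one_mul]
          intro hmem
          have := (h t).asIdeal.add_mem hmem ((het t).mpr ht)
          rw [sub_add_cancel] at this
          exact (h t).2.ne_top ((Ideal.eq_top_iff_one _).mpr this)
      have hmem : (LocallyConstant.charFn A hU - algebraMap A (LocallyConstant T A) e) * g ∈
          I.map (algebraMap A (LocallyConstant T A)) := by
        refine hpiece _ fun t => ?_
        by_cases ht : t ∈ U
        · simp only [g, LocallyConstant.mul_apply, LocallyConstant.sub_apply,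
            Lib.WLocal.LCSpec.algebraMap_apply', Lib.WLocal.LCSpec.charFn_apply_of_mem hU ht,
            Lib.WLocal.LCSpec.atOn_of_mem hU e ht,
            Lib.WLocal.LCSpec.atOn_of_notMem hU.compl (1 - e) (show t ∉ Uᶜ by simpa using ht)]
          rw [mul_one, mul_comm]
          exact hee
        · simp only [g, LocallyConstant.mul_apply, LocallyConstant.sub_apply,
            Lib.WLocal.LCSpec.algebraMap_apply', Lib.WLocal.LCSpec.charFn_apply_of_notMem hU ht,
            Lib.WLocal.LCSpec.atOn_of_notMem hU e ht,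
            Lib.WLocal.LCSpec.atOn_of_mem hU.compl (1 - e) (show t ∈ Uᶜ from ht)]
          rw [one_mul, zero_sub, neg_mul]
          exact I.neg_mem hee
      refine ⟨Ideal.Quotient.mk I e, ?_⟩
      have h2 : algebraMap (LocallyConstant T A) (Lib.WLocal.AW.Ring h) ((LocallyConstant.charFn A hU - algebraMap A (LocallyConstant T A) e) * g) ∈ J := by
        have := Ideal.mem_map_of_mem (algebraMap (LocallyConstant T A) (Lib.WLocal.AW.Ring h)) hmem
        rwa [Ideal.map_map, ← IsScalarTower.algebraMap_eq] at this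
      rw [map_mul, Ideal.mul_unit_mem_iff_mem _ (IsLocalization.map_units (Lib.WLocal.AW.Ring h) ⟨g, hg⟩), map_sub,
        ← IsScalarTower.algebraMap_apply A (LocallyConstant T A) (Lib.WLocal.AW.Ring h)] at h2
      rw [Ideal.quotientMap_mk]
      exact (Ideal.Quotient.eq.mpr h2).symm
    have hq : ∀ f : (LocallyConstant T A), q f ∈ R := fun f => by
      have hfin : (Set.range f).Finite := f.range_finite
      have := eq_sum_charFn f hfin
      rw [this, map_sum]
      refine sum_mem fun r _ => ?_
      rw [map_mul]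
      refine mul_mem ⟨Ideal.Quotient.mk I r, ?_⟩ (hchar _)
      simp only [q, RingHom.comp_apply, Ideal.quotientMap_mk, ← IsScalarTower.algebraMap_apply]
    intro y
    obtain ⟨b, rfl⟩ := Ideal.Quotient.mk_surjective y
    obtain ⟨f, s, rfl⟩ := IsLocalization.exists_mk'_eq (Lib.WLocal.LCSpec.sub W) b
    obtain ⟨x, hx⟩ := hq f
    obtain ⟨y, hy⟩ := hq s
    obtain ⟨c, rfl⟩ := Ideal.Quotient.mk_surjective y
    have hcu : IsUnit (Ideal.Quotient.mk I c) := by
      by_contra hnu
      obtain ⟨m, hm, hcm⟩ := exists_max_ideal_of_mem_nonunits hnu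
      have := Ideal.comap_isMaximal_of_surjective _ Ideal.Quotient.mk_surjective (K := m)
      let t : T := ⟨⟨m.comap (Ideal.Quotient.mk I), this.isPrime⟩, fun i hi => by
        change Ideal.Quotient.mk I i ∈ m
        rw [Ideal.Quotient.eq_zero_iff_mem.mpr hi]
        exact m.zero_mem⟩
      let P : PrimeSpectrum (Lib.WLocal.AW.Ring h) := Lib.WLocal.AW.closedPt t
      have hJt : J ≤ P.asIdeal := (hJP P).mpr (by rw [Lib.WLocal.AW.toProd_closedPt]; exact t.2)
      have hcP : algebraMap A (Lib.WLocal.AW.Ring h) c ∈ P.asIdeal := by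
        change c ∈ (PrimeSpectrum.comap (algebraMap A (Lib.WLocal.AW.Ring h)) P).asIdeal
        rw [Lib.WLocal.AW.comap_closedPt]
        exact hcm
      rw [Ideal.quotientMap_mk] at hy
      have hs : algebraMap (LocallyConstant T A) (Lib.WLocal.AW.Ring h) s ∈ P.asIdeal := by
        have h3 := hJt (Ideal.Quotient.eq.mp hy)
        exact (P.asIdeal.sub_mem_iff_right hcP).mp h3
      exact P.2.ne_top (Ideal.eq_top_of_isUnit_mem _ hs (IsLocalization.map_units (Lib.WLocal.AW.Ring h) s))
    obtain ⟨d, hd⟩ := hcu.exists_right_inv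
    refine ⟨x * d, ?_⟩
    let φ := Ideal.quotientMap J (algebraMap A (Lib.WLocal.AW.Ring h)) Ideal.le_comap_map
    have hf : Ideal.Quotient.mk J (IsLocalization.mk' (Lib.WLocal.AW.Ring h) f s) * q s = q f := by
      simp only [q, RingHom.comp_apply, ← map_mul, IsLocalization.mk'_spec]
    calc φ (x * d) = q f * φ d := by rw [map_mul, hx]
      _ = Ideal.Quotient.mk J (IsLocalization.mk' (Lib.WLocal.AW.Ring h) f s) * (φ (Ideal.Quotient.mk I c) * φ d) := by
        rw [← hf, ← hy, mul_assoc]
      _ = Ideal.Quotient.mk J (IsLocalization.mk' (Lib.WLocal.AW.Ring h) f s) := by rw [← map_mul, hd, map_one]; exact mul_one (_ : Lib.WLocal.AW.Ring h ⧸ J)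

end Groth.Agent.S0705
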