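import Groth.Statements.S0706


set_option autoImplicit false
open CategoryTheory CategoryTheory.Limits AlgebraicGeometry Opposite Topology
universe u
open ProEtW

namespace Groth.Agent.S0706

/-- Let f be an element and I an ideal of A, and Z the intersection of D(f) and V(I) in Spec A. There is
a multiplicative subset S of A for which the image of Spec(S^{-1}A) in Spec A consists precisely of
the points having a specialization in Z. -/
theorem result (A : Type u) [CommRing A] (f : A) (I : Ideal A) :
    ∃ S : Submonoid A,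
      Set.range (PrimeSpectrum.comap (algebraMap A (Localization S))) =
        {x | ∃ z : PrimeSpectrum A,
          z ∈ (PrimeSpectrum.basicOpen f : Set (PrimeSpectrum A)) ∩ PrimeSpectrum.zeroLocus I ∧ x ⤳ z} := by
  let Z : Set (PrimeSpectrum A) :=
    (PrimeSpectrum.basicOpen f : Set (PrimeSpectrum A)) ∩ PrimeSpectrum.zeroLocus I
  let S : Submonoid A :=
    { carrier := {a | ∀ z ∈ Z, a ∉ z.asIdeal}
      one_mem' := fun z _ h => z.2.ne_top ((Ideal.eq_top_iff_one _).mpr h)
      mul_mem' := fun {a b} ha hb z hz h => (z.2.mem_or_mem h).elim (ha z hz) (hb z hz) }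
  refine ⟨S, ?_⟩
  rw [PrimeSpectrum.localization_comap_range (Localization S) S]
  ext p
  simp only [Set.mem_ofPred_eq]
  constructor
  · intro hp
    have key : ∀ n : ℕ, f ^ n ∉ p.asIdeal ⊔ I := by
      intro n hn
      obtain ⟨a, ha, i, hi, e⟩ := Submodule.mem_sup.mp hn
      refine Set.disjoint_left.mp hp (show a ∈ (S : Set A) from fun z hz haz => ?_) ha
      refine hz.1 (z.2.mem_of_pow_mem n ?_)
      rw [← e]
      exact z.asIdeal.add_mem haz (hz.2 hi)
    obtain ⟨q, hq, hle, hdis⟩ := Ideal.exists_le_prime_disjoint (p.asIdeal ⊔ I) (Submonoid.powers f)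
      (Set.disjoint_left.mpr fun x hx hx' => by
        obtain ⟨n, rfl⟩ := hx'
        exact key n hx)
    refine ⟨⟨q, hq⟩, ⟨fun h => Set.disjoint_left.mp hdis h ⟨1, pow_one f⟩,
      fun i hi => hle (Ideal.mem_sup_right hi)⟩, ?_⟩
    rw [← PrimeSpectrum.le_iff_specializes]
    exact fun a ha => hle (Ideal.mem_sup_left ha)
  · rintro ⟨z, hz, hpz⟩
    rw [← PrimeSpectrum.le_iff_specializes] at hpz
    exact Set.disjoint_left.mpr fun a ha hap => ha z hz (hpz hap)

end Groth.Agent.S0706
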