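import Groth.Statements.S0714
import Groth.Agent.Lib.ProEt.Covers
-- import your own Groth.Agent.* helpers here

set_option autoImplicit false
open CategoryTheory CategoryTheory.Limits AlgebraicGeometry Opposite
universe u
open ProEtS

namespace Groth.Agent.S0714

/-- In the small pro-étale site X_proét of a scheme X, every object U whose underlying scheme is
quasi-compact admits a covering {V → U} by a single object V which is affine and weakly
contractible. -/
theorem result {X : Scheme.{u}} (U : X.ProEt)
    [CompactSpace ↥U.left] :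
    ∃ (V : X.ProEt) (g : V ⟶ U),
      Sieve.generate (Presieve.singleton g) ∈ Scheme.ProEt.topology X U ∧ IsAffine V.left ∧
        ProEtS.IsWC V := by
  obtain ⟨t, ht⟩ := isCompact_univ.elim_finite_subcover
    (fun W : U.left.affineOpens => (W.1 : Set ↥U.left)) (fun W => W.1.2)
    (fun x _ => by
      obtain ⟨W, hW⟩ := TopologicalSpace.Opens.mem_iSup.mp
        ((iSup_affineOpens_eq_top U.left).ge (trivial : x ∈ (⊤ : U.left.Opens)))
      exact Set.mem_iUnion.mpr ⟨W, hW⟩)
  obtain ⟨P, g, hP, -, -, hmem, hwc⟩ := Groth.Agent.Lib.ProEt.Covers.exists_cover U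
    (fun W : t => W.1.1) (fun W => W.1.2) (top_le_iff.mp fun x _ => by
      obtain ⟨W, hWt, hxW⟩ := Set.mem_iUnion₂.mp (ht (Set.mem_univ x))
      exact TopologicalSpace.Opens.mem_iSup.mpr ⟨⟨W, hWt⟩, hxW⟩)
  haveI := hP
  exact ⟨_, _, hmem, (inferInstance : IsAffine (∐ fun i => (P i).left)), hwc⟩

end Groth.Agent.S0714
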