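import Groth.Statements.S0721
import Groth.Agent.Lib.ProEt.FinitePush

set_option autoImplicit false
open CategoryTheory CategoryTheory.Limits AlgebraicGeometry Opposite
universe u
open ProEtS

namespace Groth.Agent.S0721

/-- For f : Z -> X finite and locally of finite presentation, f_{proet,*} on abelian sheaves is exact
(preserves finite limits and colimits; continuity of base change assumed as a binder). -/
theorem result {Z X : Scheme.{u}} (f : Z ⟶ X) [IsFinite f]
    [LocallyOfFinitePresentation f] [ProEtS.PCont f] :
    PreservesFiniteLimits (ProEtS.pushP f) ∧ PreservesFiniteColimits (ProEtS.pushP f) :=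
  Groth.Agent.Lib.ProEt.FinitePush.exact_of_isWC f fun V _ hV =>
    Groth.Agent.Lib.ProEt.FinitePush.isWC_bcP f V hV

end Groth.Agent.S0721
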