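import Groth.Statements.S0724
import Groth.Agent.Lib.ProEt.Coprod
import Groth.Agent.Lib.ProEt.EpsCoh
import Mathlib.Algebra.BigOperators.Finprod

set_option autoImplicit false
set_option backward.isDefEq.respectTransparency.types false
open CategoryTheory CategoryTheory.Limits AlgebraicGeometry Opposite
universe u
open ProEtS

namespace Groth.Agent.S0724

open Groth.Agent.Lib.ProEt

set_option maxHeartbeats 800000 in
/-- Cohomology preserves direct sums. -/
theorem preservesColimit {X : Scheme.{u}} [CompactSpace ↥X] [QuasiSeparatedSpace ↥X] (n : ℕ)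
    {ι : Type u} (F : ι → ProEtS.AbP X) : PreservesColimit (Discrete.functor F) (ProEtS.HPF X n) := by
  classical
  have hB : Coprod.Qcqs ((ProEtS.eps X).obj (EtCoh.top X)) :=
    ⟨(inferInstance : CompactSpace ↥X), (inferInstance : QuasiSeparatedSpace ↥X)⟩
  have hgen := fun x => Coprod.exists_sum_H (EpsCoh.topIsTerminal X) hB n F x
  have hpi : ∀ (i j : ι) (y : Sheaf.H (F i) n),
      Sheaf.H.map (Coprod.proj F j) n (Sheaf.H.map (Sigma.ι F i) n y) =
        if h : i = j then h ▸ y else 0 := by
    intro i j y
    rw [← Sheaf.H.map_comp_apply]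
    by_cases h : i = j
    · subst h
      rw [dif_pos rfl, Coprod.ι_proj_self, Sheaf.H.map_id_apply]
    · rw [dif_neg h, Coprod.ι_proj_ne F h, Sheaf.H.map_apply, Abelian.Ext.mk₀_zero,
        Abelian.Ext.comp_zero]
  have hsupp : ∀ (x : Sheaf.H (∐ F) n) (s : Cofan fun i => (ProEtS.HPF X n).obj (F i)),
      (Function.support fun i => s.inj i (Sheaf.H.map (Coprod.proj F i) n x)).Finite := by
    intro x s
    obtain ⟨S, y, hy⟩ := hgen x
    refine S.finite_toSet.subset fun j hj => ?_
    by_contra hjS
    refine hj ?_
    have : Sheaf.H.map (Coprod.proj F j) n x = 0 := by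
      rw [hy, map_sum]
      refine Finset.sum_eq_zero fun i hi => ?_
      rw [hpi, dif_neg (fun h : i = j => hjS (h ▸ hi))]
    exact (congrArg (s.inj j) this).trans (map_zero _)
  have hcol : IsColimit (Cofan.mk ((ProEtS.HPF X n).obj (∐ F))
      fun i => (ProEtS.HPF X n).map (Sigma.ι F i)) := by
    refine mkCofanColimit _
      (fun s => AddCommGrpCat.ofHom (AddMonoidHom.mk'
        (fun x => ∑ᶠ i, s.inj i (Sheaf.H.map (Coprod.proj F i) n x)) fun x y => ?_))
      (fun s i => ?_) (fun s m hm => ?_)
    · exact (finsum_congr fun i =>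
        (congrArg (s.inj i) (map_add _ x y)).trans (map_add _ _ _)).trans
        (finsum_add_distrib (hsupp x s) (hsupp y s))
    · ext y
      change (∑ᶠ j, s.inj j (Sheaf.H.map (Coprod.proj F j) n (Sheaf.H.map (Sigma.ι F i) n y))) = _
      rw [finsum_eq_single _ i fun j hj => ?_]
      · rw [hpi, dif_pos rfl]
      · rw [hpi, dif_neg hj.symm]
        exact map_zero _
    · ext x
      obtain ⟨S, y, hy⟩ := hgen x
      change m x = ∑ᶠ i, s.inj i (Sheaf.H.map (Coprod.proj F i) n x)
      have hz : ∀ j, Sheaf.H.map (Coprod.proj F j) n x = if j ∈ S then y j else 0 := by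
        intro j
        rw [hy, map_sum]
        split_ifs with hj
        · rw [Finset.sum_eq_single j (fun i _ hij => by rw [hpi, dif_neg hij])
            (fun h => absurd hj h), hpi, dif_pos rfl]
        · exact Finset.sum_eq_zero fun i hi => by rw [hpi, dif_neg (fun h : i = j => hj (h ▸ hi))]
      rw [finsum_eq_sum_of_support_subset _ (s := S) (fun j hj => by
        by_contra hjS
        exact hj ((congrArg (s.inj j) ((hz j).trans (if_neg fun h => hjS (Finset.mem_coe.mpr h)))).trans (map_zero _)))]
      refine (congrArg m hy).trans ((map_sum m.hom _ _).trans (Finset.sum_congr rfl fun i hi => ?_))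
      have hzi : Sheaf.H.map (Coprod.proj F i) n x = y i := (hz i).trans (if_pos hi)
      rw [hzi]
      have := ConcreteCategory.congr_hom (hm i) (y i)
      exact this
  exact preservesColimit_of_preserves_colimit_cocone (coproductIsCoproduct F)
    ((isColimitMapCoconeCofanMkEquiv (ProEtS.HPF X n) F (fun i => Sigma.ι F i)).symm hcol)

/-- Applied to abelian sheaves (complexes in degree 0) and read on cohomology groups: for X
quasi-compact and quasi-separated and every n, the functor F |-> H^n(X_proet, F) commutes with
direct sums indexed by any small type. -/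
theorem result (X : Scheme.{u}) [CompactSpace ↥X]
    [QuasiSeparatedSpace ↥X] (n : ℕ) (ι : Type u) :
    PreservesColimitsOfShape (Discrete ι) (ProEtS.HPF X n) :=
  haveI : ∀ F : ι → ProEtS.AbP X, PreservesColimit (Discrete.functor F) (ProEtS.HPF X n) :=
    fun F => preservesColimit n F
  preservesColimitsOfShape_of_discrete _

end Groth.Agent.S0724
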