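import Groth.Statements.S0739
import Groth.Agent.Lib.ProEt.Basic
import Groth.Agent.Lib.WeaklyEt.OverField
-- import your own Groth.Agent.* helpers here

set_option autoImplicit false
open CategoryTheory CategoryTheory.Limits AlgebraicGeometry Opposite
universe u
open ProEtS

namespace Groth.Agent.S0739

set_option backward.isDefEq.respectTransparency.types false

/-- A nonzero weakly etale algebra over a separably closed field has a point. -/
lemma exists_algHom (k : Type u) [Field k] [IsSepClosed k] (B : Type u) [CommRing B] [Nontrivial B]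
    [Algebra k B] [Algebra.WeaklyEtale k B] : Nonempty (B →ₐ[k] k) := by
  obtain ⟨m, hm⟩ := Ideal.exists_maximal B
  haveI := Groth.Agent.Lib.WeaklyEt.OverField.isSeparable_quotient k m
  letI := Ideal.Quotient.field m
  let e : k ≃ₐ[k] B ⧸ m := AlgEquiv.ofBijective (Algebra.ofId k (B ⧸ m))
    (IsSepClosed.algebraMap_bijective k (B ⧸ m))
  exact ⟨e.symm.toAlgHom.comp (Ideal.Quotient.mkₐ k m)⟩

/-- A nonempty scheme weakly etale over a separably closed field has a rational point. -/
lemma exists_section {k : Type u} [Field k] [IsSepClosed k] {P : Scheme.{u}} (p₀ : P)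
    (q : P ⟶ Spec (CommRingCat.of k)) [WeaklyEtale q] :
    ∃ s : Spec (CommRingCat.of k) ⟶ P, s ≫ q = 𝟙 _ := by
  obtain ⟨_, ⟨⟨W, hW, rfl⟩, hx, -⟩⟩ :=
    P.isBasis_affineOpens.exists_subset_of_mem_open (Set.mem_univ p₀) isOpen_univ
  haveI : Nontrivial ↥Γ(P, W) := by
    have h1 : Nonempty (PrimeSpectrum ↥Γ(P, W)) := ⟨hW.primeIdealOf ⟨p₀, hx⟩⟩
    exact PrimeSpectrum.nonempty_iff_nontrivial.mp h1
  obtain ⟨φ, hφ⟩ : ∃ φ, Spec.map φ = hW.fromSpec ≫ q := ⟨_, Spec.map_preimage _⟩
  letI := φ.hom.toAlgebra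
  have hwe : WeaklyEtale (Spec.map φ) := hφ ▸ inferInstance
  haveI : Algebra.WeaklyEtale k ↥Γ(P, W) :=
    (Groth.Agent.Lib.ProEt.Basic.weaklyEtale_SpecMap_iff' φ).mp hwe
  obtain ⟨σ⟩ := exists_algHom k ↥Γ(P, W)
  refine ⟨Spec.map (CommRingCat.ofHom σ.toRingHom) ≫ hW.fromSpec, ?_⟩
  rw [Category.assoc, ← hφ, ← Spec.map_comp, ← Spec.map_id]
  congr 1
  exact CommRingCat.hom_ext (RingHom.ext σ.commutes)

/-- Let U be an object of X_proet, R a covering sieve on U, and xi : Spec k -> U a geometric point (k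
separably closed). Then there is a morphism V -> U in R and a geometric point of V with the same
field mapping to xi. -/
theorem result {X : Scheme.{u}} (U : X.ProEt) (R : Sieve U)
    (hR : R ∈ Scheme.ProEt.topology X U) {k : Type u} [Field k] [IsSepClosed k]
    (ξ : Spec (CommRingCat.of k) ⟶ U.left) :
    ∃ (V : X.ProEt) (g : V ⟶ U) (ξ' : Spec (CommRingCat.of k) ⟶ V.left), R g ∧ ξ' ≫ g.left = ξ := by
  obtain ⟨T, hT, hTR⟩ := Groth.Agent.Lib.ProEt.Basic.mem_topology_iff.mp hR
  obtain ⟨ι, Y, f, rfl⟩ := T.exists_eq_ofArrows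
  have hT' : Presieve.ofArrows (fun i => (Y i).left) (fun i => (f i).left) ∈
      Scheme.proetalePrecoverage U.left := by
    have h1 : (Presieve.ofArrows Y f).map (Scheme.ProEt.forget X ⋙ Over.forget X) ∈
      Scheme.proetalePrecoverage _ := hT
    rwa [Presieve.map_ofArrows] at h1
  obtain ⟨i, y, hy⟩ := ((Scheme.ofArrows_mem_precoverage_iff _).mp hT'.2).1
    (ξ (default : ↥(Spec (CommRingCat.of k))))
  obtain ⟨p₀, -, -⟩ := Scheme.Pullback.exists_preimage_pullback (f := (f i).left) (g := ξ) y _ hy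
  obtain ⟨s, hs⟩ := exists_section p₀ (pullback.snd (f i).left ξ)
  refine ⟨Y i, f i, s ≫ pullback.fst (f i).left ξ, hTR _ _ (Presieve.ofArrows.mk i), ?_⟩
  calc (s ≫ pullback.fst (f i).left ξ) ≫ (f i).left = (s ≫ pullback.snd (f i).left ξ) ≫ ξ := by
        rw [Category.assoc, Category.assoc, pullback.condition]
    _ = ξ := by rw [hs, Category.id_comp]

end Groth.Agent.S0739
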