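import Groth.Statements.S0742
import Mathlib.CategoryTheory.Adjunction.Triple
import Mathlib.CategoryTheory.Monad.Adjunction

set_option autoImplicit false
open CategoryTheory CategoryTheory.Limits AlgebraicGeometry Opposite
universe u
open ProEtS

namespace Groth.Agent.S0742

set_option backward.isDefEq.respectTransparency.types false in
lemma compP_faithful {U X : Scheme.{u}} (j : U ⟶ X) [WeaklyEtale j] : (compP j).Faithful where
  map_injective {A B} a b h := by
    apply MorphismProperty.Over.Hom.ext
    exact congrArg (fun (t : (compP j).obj A ⟶ (compP j).obj B) => t.left) h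

set_option backward.isDefEq.respectTransparency.types false in
lemma compP_full {U X : Scheme.{u}} (j : U ⟶ X) [WeaklyEtale j] [Mono j] : (compP j).Full where
  map_surjective {A B} g := by
    have hw : g.left ≫ B.hom = A.hom := by
      rw [← cancel_mono j, Category.assoc]
      exact MorphismProperty.Over.w g
    refine ⟨MorphismProperty.Over.homMk g.left hw trivial, ?_⟩
    apply MorphismProperty.Over.Hom.ext
    rfl

set_option backward.isDefEq.respectTransparency.types false in
/-- For an open immersion j : U -> X, the unit F -> j^{-1} j_! F and the counit j^{-1} j_* G -> G are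
isomorphisms on abelian pro-etale sheaves (so j_! and j_* are fully faithful; continuity binders
assumed). -/
theorem result {U X : Scheme.{u}} (j : U ⟶ X) [IsOpenImmersion j]
    [ProEtS.JPCont j] [ProEtS.PCont j] (F G : ProEtS.AbP U) :
    IsIso ((ProEtS.extZeroPAdj j).unit.app F) ∧ IsIso ((ProEtS.pullPushAdjP j).counit.app G) := by
  have hj : WeaklyEtale j := inferInstance
  haveI hm : MorphismProperty.IsStableUnderComposition @WeaklyEtale := inferInstanceAs (MorphismProperty.IsStableUnderComposition (@WeaklyEtale.{u}))
  let adj : compP j ⊣ bcP j := MorphismProperty.Over.mapPullbackAdj @WeaklyEtale ⊤ j hj trivial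
  haveI := compP_full j
  haveI := compP_faithful j
  haveI : IsIso adj.unit := inferInstance
  let adj₂ : restrP j ⊣ pushP j :=
    adj.sheafPushforwardContinuous (E := AddCommGrpCat.{u + 1}) (Scheme.ProEt.topology U)
      (Scheme.ProEt.topology X)
  let e : pushP j ⋙ restrP j ≅ 𝟭 _ :=
    Functor.sheafPushforwardContinuousComp' (asIso adj.unit).symm _ _ _ _ ≪≫
      Functor.sheafPushforwardContinuousId _ _
  haveI : IsIso adj₂.counit := adj₂.isIso_counit_of_iso e
  haveI h1 : IsIso (extZeroPAdj j).unit :=
    (Adjunction.Triple.mk (extZeroPAdj j) adj₂).isIso_unit_iff_isIso_counit.mpr inferInstance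
  haveI : (pushP j).Full := adj₂.fullyFaithfulROfIsIsoCounit.full
  haveI : (pushP j).Faithful := adj₂.fullyFaithfulROfIsIsoCounit.faithful
  exact ⟨inferInstance, inferInstance⟩

end Groth.Agent.S0742
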