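import Groth.Statements.S0756
import Groth.Agent.Lib.EtGerm.Compare

set_option autoImplicit false
open CategoryTheory CategoryTheory.Limits AlgebraicGeometry Opposite
universe u
open EtFppf

namespace Groth.Agent.S0756

/-- Description of the pullback to the big fppf site: for a sheaf F on S_et and an S-scheme f : T -> S,
the value of a^{-1} F at T is the group of global sections of f_small^{-1} F on T_et (existence of
an isomorphism of groups; continuity binder assumed). -/
theorem result (S : Scheme.{u}) [EtFppf.ACont S] (F : EtCoh.Ab S)
    {T : Scheme.{u}} (f : T ⟶ S) :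
    Nonempty (((EtFppf.aPull S).obj F).obj.obj (op (Over.mk f)) ≅
      ((EtCoh.pull f).obj F).obj.obj (op (EtCoh.top T))) := by
  haveI : BigSite.AEtCont Scheme.fppfPrecoverage S := ‹EtFppf.ACont S›
  exact Groth.Agent.Lib.EtGerm.Compare.nonempty_iso F (Over.mk f) Scheme.fppfPrecoverage
    BigSite.etalePrecoverage_le_fppfPrecoverage Scheme.fppfPrecoverage_le_fpqcPrecoverage

end Groth.Agent.S0756
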