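import Groth.Statements.S0760
import Groth.Agent.Lib.LCStrict50.Bij
import Groth.Agent.H88.EtMod.LCAb
import Groth.Agent.Lib.EtSite.Pull


set_option autoImplicit false
open CategoryTheory CategoryTheory.Limits AlgebraicGeometry Opposite
open scoped TensorProduct
universe u
open EtRest

namespace Groth.Agent.S0760

set_option backward.isDefEq.respectTransparency false
set_option linter.style.haveILetI false

/-- Let f : X -> S be locally acyclic and F a locally constant abelian sheaf on X_et all of whose
geometric stalks are torsion groups whose elements have order prime to the residue characteristic.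
Then f is locally acyclic relative to F: for every point x, strict henselizations R_S -> R_X of the
local rings at f(x) and x (compatible with f), separably closed field Om under R_S, and every q,
pulling back along the variety of vanishing cycles Spec(R_X (x)_{R_S} Om) -> Spec R_X induces a
bijection H^q(Spec R_X, F|) -> H^q(Spec(R_X (x) Om), F|). (Left exactness of the pullback functor
carried as a binder.) -/
theorem result {X S : Scheme.{u}} (f : X ⟶ S)
    (hf : EtRest.IsLocallyAcyclic f) (F : EtCoh.Ab X) (hF : EtRest.IsLocallyConstant F)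
    (htor : ∀ (Ω : Type u) [Field Ω] [IsSepClosed Ω] (ξ : Spec (CommRingCat.of Ω) ⟶ X)
      (s : (EtCoh.stalk ξ).obj F), ∃ n : ℕ, 0 < n ∧ (n : Ω) ≠ 0 ∧ n • s = 0)
    (x : ↥X) (RS RX : Type u) [CommRing RS] [CommRing RX] [IsLocalRing RS] [IsLocalRing RX]
    [Algebra (S.presheaf.stalk (f.base x)) RS] [IsLocalHom (algebraMap (S.presheaf.stalk (f.base x)) RS)]
    [Hensel.IsStrictHenselization (S.presheaf.stalk (f.base x)) RS]
    [Algebra (X.presheaf.stalk x) RX] [IsLocalHom (algebraMap (X.presheaf.stalk x) RX)]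
    [Hensel.IsStrictHenselization (X.presheaf.stalk x) RX]
    [Algebra RS RX] [IsLocalHom (algebraMap RS RX)]
    (hc : (algebraMap RS RX).comp (algebraMap (S.presheaf.stalk (f.base x)) RS) =
      (algebraMap (X.presheaf.stalk x) RX).comp (f.stalkMap x).hom)
    (Ω : Type u) [Field Ω] [IsSepClosed Ω] [Algebra RS Ω]
    [PreservesFiniteLimits (EtCoh.pull
      (Spec.map (CommRingCat.ofHom (algebraMap RX (EtRest.vcRing RS RX Ω)))))] (q : ℕ) :
    Function.Bijective (EtCore.HpullVia
      (Spec.map (CommRingCat.ofHom (algebraMap RX (EtRest.vcRing RS RX Ω)))) (Hens2.specOf X x RX)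
      (Spec.map (CommRingCat.ofHom (algebraMap RX (EtRest.vcRing RS RX Ω))) ≫ Hens2.specOf X x RX)
      rfl F q) := by
  haveI : HenselianLocalRing RX := Hensel.IsStrictHenselization.henselian (X.presheaf.stalk x)
  haveI : IsSepClosed (IsLocalRing.ResidueField RX) :=
    (Hensel.IsStrictHenselization.isSepClosure (R := X.presheaf.stalk x) (S := RX)).sep_closed
  let t := Hens2.specOf X x RX
  let T := Spec (CommRingCat.of RX)
  let G := (EtCoh.pull t).obj F
  obtain ⟨e⟩ := Groth.Agent.Lib.LCStrict50.Const.nonempty_iso RX G (Groth.Agent.H88.EtMod.LCAb.isLC_pull t hF)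
  let E := (Groth.Agent.Lib.EtSite.Pull.stalkPull t (Groth.Agent.Lib.EtSite.StrictHens.cpt RX)).app F
  have hg := Groth.Agent.Lib.LCStrict50.Const.germ_top_bijective RX G
  have hM : Groth.Agent.Lib.LCStrict50.Bij.Tors RX (EtCoh.sect G (EtCoh.top T)) := fun m => by
    obtain ⟨k, hk, hk', h⟩ := htor (IsLocalRing.ResidueField RX) (Groth.Agent.Lib.EtSite.StrictHens.cpt RX ≫ t)
      (E.hom (Groth.Agent.Lib.EtGerm.Basic.germ G _ (EtCoh.top T) (Groth.Agent.Lib.EtSite.StrictHens.topPt RX) m))
    refine ⟨k, hk, hk', hg.1 ?_⟩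
    rw [map_zero, map_nsmul]
    exact E.addCommGroupIsoToAddEquiv.injective ((map_nsmul _ _ _).trans (h.trans (map_zero _).symm))
  let a := Spec.map (CommRingCat.ofHom (algebraMap RX (EtRest.vcRing RS RX Ω)))
  have hyp : ∀ n : ℕ, (n : IsLocalRing.ResidueField RX) ≠ 0 → (n : X.residueField x) ≠ 0 := fun n hn h => hn (by
    have := congrArg (IsLocalRing.ResidueField.map (algebraMap (X.presheaf.stalk x) RX)) h
    rwa [map_natCast, map_zero] at this)
  have hb : Function.Bijective (EtCore.Hpull a G q) :=
    Groth.Agent.Lib.LCStrict50.Bij.of_iso a e q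
      (Groth.Agent.Lib.LCStrict50.Bij.P_torsion RX a (fun n hn => hf x RS RX hc Ω n (hyp n hn)) _ hM q)
  exact ((((EtCoh.HF _ q).mapIso (((EtCore.pullComp a t).symm ≪≫
    EtCore.pullCongr (rfl : a ≫ t = a ≫ t)).app F)).addCommGroupIsoToAddEquiv.bijective).comp hb :)

end Groth.Agent.S0760
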