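import Groth.Statements.S0781
import Mathlib.AlgebraicGeometry.Morphisms.Etale

set_option autoImplicit false
set_option backward.isDefEq.respectTransparency false
set_option backward.isDefEq.respectTransparency.types false
open CategoryTheory CategoryTheory.Limits AlgebraicGeometry Opposite
universe u
open Desc

namespace Groth.Agent.S0781

/-- If p : X → S is a surjective morphism of schemes, then for schemes U₁, U₂ étale over S, two
S-morphisms U₁ → U₂ whose base changes to X agree, as morphisms of canonical descent data relative
to p, are equal; that is, the canonical-descent-datum functor is faithful on schemes étale over S.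
(Descent data are taken in functor-of-points form, equivalent by the Yoneda lemma to an isomorphism
over X ×_S X satisfying the cocycle condition.) -/
theorem result {X S : Scheme.{u}} (p : X ⟶ S) [Surjective p] (U₁ U₂ : Over S)
    [Etale U₁.hom] [Etale U₂.hom] : Function.Injective ((Desc.toDD p).map : (U₁ ⟶ U₂) → _) := by
  intro a b hab
  have h : pullback.snd p U₁.hom ≫ a.left = pullback.snd p U₁.hom ≫ b.left := by
    have := congrArg (fun c ↦ c.hom.left ≫ pullback.snd p U₂.hom) hab
    simpa [Desc.toDD, Desc.canonicalDD] using this
  let d := pullback.diagonal U₂.hom
  let m : U₁.left ⟶ pullback U₂.hom U₂.hom :=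
    pullback.lift a.left b.left ((Over.w a).trans (Over.w b).symm)
  let k : pullback p U₁.hom ⟶ pullback m d :=
    pullback.lift (pullback.snd _ _) (pullback.snd p U₁.hom ≫ a.left)
      (by apply pullback.hom_ext <;> simp [m, d, h])
  have hk : k ≫ pullback.fst m d = pullback.snd p U₁.hom := pullback.lift_fst _ _ _
  have : Surjective (pullback.fst m d) := by
    have : Surjective (k ≫ pullback.fst m d) := by rw [hk]; infer_instance
    exact Surjective.of_comp k (pullback.fst m d)
  have : IsIso (pullback.fst m d) := isIso_iff_isOpenImmersion_and_epi_base _|>.2
    ⟨inferInstance, (TopCat.epi_iff_surjective _).2 (pullback.fst m d).surjective⟩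
  ext : 1
  rw [← cancel_epi (pullback.fst m d)]
  have h1 := congrArg (· ≫ pullback.fst _ _) (pullback.condition (f := m) (g := d))
  have h2 := congrArg (· ≫ pullback.snd _ _) (pullback.condition (f := m) (g := d))
  simp [m, d] at h1 h2
  rw [h1, h2]

end Groth.Agent.S0781
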