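import Groth.Statements.S0782
import Mathlib.AlgebraicGeometry.Morphisms.FlatMono
import Mathlib.AlgebraicGeometry.Morphisms.Etale
import Mathlib.AlgebraicGeometry.Morphisms.UniversallyInjective
import Mathlib.AlgebraicGeometry.PullbackCarrier

set_option autoImplicit false
open CategoryTheory CategoryTheory.Limits AlgebraicGeometry Opposite
universe u
open Desc

namespace Groth.Agent.S0782

set_option backward.isDefEq.respectTransparency false

/-- A morphism invariant under the fibre product descends along a universally submersive morphism. -/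
theorem descend {X S : Scheme.{u}} (p : X ⟶ S)
    (hp : ∀ U : Over S, Etale U.hom → Topology.IsQuotientMap (pullback.snd p U.hom).base)
    (U₁ U₂ : Over S) [Etale U₁.hom] [Etale U₂.hom] (ψ : pullback p U₁.hom ⟶ U₂.left)
    (hψ : ψ ≫ U₂.hom = pullback.snd p U₁.hom ≫ U₁.hom)
    (hinv : ∀ {T : Scheme.{u}} (v v' : T ⟶ pullback p U₁.hom),
      v ≫ pullback.snd p U₁.hom = v' ≫ pullback.snd p U₁.hom → v ≫ ψ = v' ≫ ψ) :
    ∃ g : U₁.left ⟶ U₂.left, g ≫ U₂.hom = U₁.hom ∧ pullback.snd p U₁.hom ≫ g = ψ := by
  let P : Over S := Over.mk (pullback.fst U₁.hom U₂.hom ≫ U₁.hom)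
  let γ : pullback p U₁.hom ⟶ P.left :=
    pullback.lift (pullback.snd p U₁.hom) ψ hψ.symm
  have hγ1 : γ ≫ pullback.fst U₁.hom U₂.hom = pullback.snd p U₁.hom := pullback.lift_fst _ _ _
  have hγ2 : γ ≫ pullback.snd U₁.hom U₂.hom = ψ := pullback.lift_snd _ _ _
  haveI : Etale (pullback.fst U₁.hom U₂.hom) := MorphismProperty.of_isPullback (P := @Etale)
    (IsPullback.of_hasPullback U₁.hom U₂.hom).flip inferInstance
  haveI : Etale P.hom := inferInstanceAs (Etale (pullback.fst U₁.hom U₂.hom ≫ U₁.hom))
  have hq : Topology.IsQuotientMap (pullback.snd p P.hom).base := hp P inferInstance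
  let Γ' : pullback p U₁.hom ⟶ pullback p P.hom := pullback.lift (pullback.fst p U₁.hom) γ (by
    change _ = γ ≫ pullback.fst U₁.hom U₂.hom ≫ U₁.hom
    rw [reassoc_of% hγ1, pullback.condition])
  have hΓ1 : Γ' ≫ pullback.fst p P.hom = pullback.fst p U₁.hom := pullback.lift_fst _ _ _
  have hΓ2 : Γ' ≫ pullback.snd p P.hom = γ := pullback.lift_snd _ _ _
  let π1 : pullback p P.hom ⟶ pullback p U₁.hom := pullback.lift (pullback.fst p P.hom)
    (pullback.snd p P.hom ≫ pullback.fst U₁.hom U₂.hom) (by
      rw [Category.assoc]; exact pullback.condition)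
  have hπ1 : Γ' ≫ π1 = 𝟙 _ := by
    apply pullback.hom_ext
    · rw [Category.assoc, pullback.lift_fst, hΓ1, Category.id_comp]
    · rw [Category.assoc, pullback.lift_snd, reassoc_of% hΓ2, hγ1, Category.id_comp]
  haveI : Etale π1 := by
    have h0 : IsPullback π1 (pullback.snd p P.hom) (pullback.snd p U₁.hom)
        (pullback.fst U₁.hom U₂.hom) := by
      refine IsPullback.of_right ?_ (pullback.lift_snd _ _ _) (IsPullback.of_hasPullback p U₁.hom)
      simpa [π1, P] using IsPullback.of_hasPullback p P.hom
    exact MorphismProperty.of_isPullback (P := @Etale) h0.flip ‹Etale (pullback.fst U₁.hom U₂.hom)›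
  haveI : Etale (Γ' ≫ π1) := by rw [hπ1]; infer_instance
  haveI : Etale Γ' := Etale.of_comp Γ' π1
  haveI : Mono Γ' := mono_of_mono_fac hπ1
  haveI : IsOpenImmersion Γ' := IsOpenImmersion.of_flat_of_mono Γ'
  let O : P.left.Opens := ⟨Set.range γ.base, by
    rw [← hq.isOpen_preimage]
    have : (pullback.snd p P.hom).base ⁻¹' Set.range γ.base = Set.range Γ'.base := by
      ext z
      constructor
      · rintro ⟨w, hw⟩
        obtain ⟨t, ht1, -⟩ := Scheme.Pullback.exists_preimage_pullback
          (f := pullback.snd p P.hom) (g := γ) z w hw.symm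
        let a := pullback.fst (pullback.snd p P.hom) γ
        let v' := pullback.snd (pullback.snd p P.hom) γ
        have hc : a ≫ pullback.snd p P.hom = v' ≫ γ := pullback.condition
        let v := a ≫ π1
        have hv : v ≫ pullback.snd p U₁.hom = v' ≫ pullback.snd p U₁.hom := by
          simp only [v, π1, Category.assoc, pullback.lift_snd]
          rw [reassoc_of% hc, hγ1]
        have hva : v ≫ Γ' = a := by
          apply pullback.hom_ext
          · rw [Category.assoc, hΓ1, Category.assoc, pullback.lift_fst]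
          · rw [Category.assoc, hΓ2, hc]
            apply pullback.hom_ext
            · simpa [hγ1] using hv
            · simpa [hγ2] using hinv v v' hv
        refine ⟨v t, ?_⟩
        rw [← ht1]
        exact (Scheme.Hom.comp_apply _ _ _).symm.trans (congr($hva t))
      · rintro ⟨w, rfl⟩
        exact ⟨w, by rw [← hΓ2]; rfl⟩
    rw [this]
    exact Γ'.isOpenEmbedding.isOpen_range⟩
  let c : pullback p U₁.hom ⟶ (O : Scheme.{u}) := IsOpenImmersion.lift O.ι γ (by
    rw [Scheme.Opens.range_ι]; exact subset_rfl)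
  have hc : c ≫ O.ι = γ := IsOpenImmersion.lift_fac _ _ _
  haveI : Surjective c := ⟨fun o => by
    obtain ⟨t, ht⟩ := o.2
    refine ⟨t, Subtype.ext ?_⟩
    rw [← ht]
    exact congr($hc t)⟩
  let π : (O : Scheme.{u}) ⟶ U₁.left := O.ι ≫ pullback.fst U₁.hom U₂.hom
  have hcπ : c ≫ π = pullback.snd p U₁.hom := by rw [reassoc_of% hc, hγ1]
  haveI : Surjective π := by
    haveI : Surjective (c ≫ π) := by
      rw [hcπ]; exact ⟨(hp U₁ inferInstance).surjective⟩
    exact Surjective.of_comp c π
  haveI : Surjective (pullback.diagonal π) := ⟨fun t => by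
    let a := pullback.fst π π
    let b := pullback.snd π π
    obtain ⟨w, hw⟩ := (pullback.fst a c).surjective t
    obtain ⟨s, hs⟩ := (pullback.fst (pullback.fst a c ≫ b) c).surjective w
    let τ := pullback.fst (pullback.fst a c ≫ b) c ≫ pullback.fst a c
    let v := pullback.fst (pullback.fst a c ≫ b) c ≫ pullback.snd a c
    let v' := pullback.snd (pullback.fst a c ≫ b) c
    have hτa : τ ≫ a = v ≫ c := by simp only [τ, v, Category.assoc, pullback.condition]
    have hτb : τ ≫ b = v' ≫ c := by simp only [τ, v', Category.assoc, pullback.condition]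
    have hv : v ≫ pullback.snd p U₁.hom = v' ≫ pullback.snd p U₁.hom := by
      rw [← hcπ, ← reassoc_of% hτa, ← reassoc_of% hτb]
      simp only [a, b, pullback.condition]
    have hab : τ ≫ a = τ ≫ b := by
      rw [hτa, hτb, ← cancel_mono O.ι, Category.assoc, Category.assoc, hc]
      apply pullback.hom_ext
      · simp only [Category.assoc, reassoc_of% hc, hγ1] at hv ⊢; simpa only [v, Category.assoc] using hv
      · simp only [Category.assoc, reassoc_of% hc, hγ2]
        simpa only [v, Category.assoc] using hinv v v' hv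
    have hfac : τ = (τ ≫ a) ≫ pullback.diagonal π := by
      apply pullback.hom_ext
      · simp [a]
      · conv_rhs => rw [Category.assoc, pullback.diagonal_snd, Category.comp_id]
        exact hab.symm
    refine ⟨(τ ≫ a) s, ?_⟩
    rw [← hw, ← hs]
    exact (Scheme.Hom.comp_apply _ _ _).symm.trans (congr($hfac.symm s))⟩
  haveI : IsIso (pullback.diagonal π) := (isIso_iff_isOpenImmersion_and_surjective _).2 ⟨inferInstance, inferInstance⟩
  haveI : Mono π := (pullback.isIso_diagonal_iff π).1 ‹_›
  haveI : IsOpenImmersion π := IsOpenImmersion.of_flat_of_mono π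
  haveI : IsIso π := (isIso_iff_isOpenImmersion_and_surjective _).2 ⟨inferInstance, inferInstance⟩
  refine ⟨inv π ≫ O.ι ≫ pullback.snd U₁.hom U₂.hom, ?_, ?_⟩
  · simp only [Category.assoc]
    rw [← pullback.condition, IsIso.inv_comp_eq]
    simp [π]
  · rw [← hcπ, Category.assoc, IsIso.hom_inv_id_assoc, reassoc_of% hc, hγ2]


/-- Let p : X ⟶ S be a morphism such that for every scheme U étale over S the projection X ×_S U ⟶ U is
a quotient map of topological spaces (submersive; U = S is allowed). Then for U₁, U₂ étale over S,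
every morphism between their canonical descent data relative to p comes from an S-morphism U₁ ⟶ U₂:
the canonical-descent-datum functor is full on schemes étale over S (injectivity of this assignment
is a companion statement). (Descent data are taken in functor-of-points form, equivalent by the
Yoneda lemma to the usual form of an isomorphism over X ×_S X satisfying the cocycle condition.) -/
theorem result {X S : Scheme.{u}} (p : X ⟶ S)
    (hp : ∀ U : Over S, Etale U.hom → Topology.IsQuotientMap (pullback.snd p U.hom).base) (U₁ U₂ : Over S)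
    [Etale U₁.hom] [Etale U₂.hom] : Function.Surjective ((Desc.toDD p).map : (U₁ ⟶ U₂) → _) := by
  intro φ
  let ψ : pullback p U₁.hom ⟶ U₂.left := φ.hom.left ≫ pullback.snd p U₂.hom
  have hwφ : φ.hom.left ≫ pullback.fst p U₂.hom = pullback.fst p U₁.hom := Over.w φ.hom
  have hψ : ψ ≫ U₂.hom = pullback.snd p U₁.hom ≫ U₁.hom := by
    calc (φ.hom.left ≫ pullback.snd p U₂.hom) ≫ U₂.hom
        = φ.hom.left ≫ pullback.fst p U₂.hom ≫ p := by
          exact (Category.assoc _ _ _).trans (congrArg (φ.hom.left ≫ ·) pullback.condition.symm)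
      _ = pullback.fst p U₁.hom ≫ p :=
          (Category.assoc _ _ _).symm.trans (congrArg (· ≫ p) hwφ)
      _ = _ := pullback.condition
  have hinv : ∀ {T : Scheme.{u}} (v v' : T ⟶ pullback p U₁.hom),
      v ≫ pullback.snd p U₁.hom = v' ≫ pullback.snd p U₁.hom → v ≫ ψ = v' ≫ ψ := by
    intro T v v' hv
    have hx : (v ≫ pullback.fst p U₁.hom) ≫ p = (v' ≫ pullback.fst p U₁.hom) ≫ p := by
      simp only [Category.assoc, pullback.condition]
      rw [reassoc_of% hv]
    have := φ.comm (v ≫ pullback.fst p U₁.hom) (v' ≫ pullback.fst p U₁.hom) hx ⟨v, rfl⟩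
      ⟨v ≫ φ.hom.left, (Category.assoc _ _ _).trans (congrArg (v ≫ ·) hwφ)⟩ rfl
    have e : (Desc.canMap p U₁ (v ≫ pullback.fst p U₁.hom) (v' ≫ pullback.fst p U₁.hom) hx
        ⟨v, rfl⟩).1 = v' := by
      rw [Desc.canMap_val]
      apply pullback.hom_ext
      · rw [pullback.lift_fst]
      · rw [pullback.lift_snd]; exact hv
    have e2 : ∀ w : Desc.Lifts (Over.mk (pullback.fst p U₂.hom)) (v ≫ pullback.fst p U₁.hom),
        (Desc.canMap p U₂ (v ≫ pullback.fst p U₁.hom) (v' ≫ pullback.fst p U₁.hom) hx w).1 ≫
          pullback.snd p U₂.hom = w.1 ≫ pullback.snd p U₂.hom := fun w => by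
      rw [Desc.canMap_val, pullback.lift_snd]
    refine Eq.trans ?_ ((congrArg (fun z => z ≫ pullback.snd p U₂.hom) (this.trans
      (congrArg (fun z : T ⟶ pullback p U₁.hom => z ≫ φ.hom.left) e))).trans (Category.assoc _ _ _))
    exact ((e2 _).trans (Category.assoc _ _ _)).symm
  obtain ⟨g, hg, hgψ⟩ := descend p hp U₁ U₂ ψ hψ hinv
  refine ⟨Over.homMk g hg, ?_⟩
  refine Desc.SchDD.hom_ext (Over.OverMorphism.ext ?_)
  apply pullback.hom_ext
  · exact ((pullback.lift_fst _ _ _).trans (Category.comp_id _)).trans hwφ.symm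
  · exact (pullback.lift_snd _ _ _).trans hgψ

end Groth.Agent.S0782
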