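import Groth.Statements.S1366
import Groth.Agent.H34.Hens.ClopenLift
-- import your own Groth.Agent.* helpers here

set_option autoImplicit false
universe u
open FlatMor

namespace Groth.Agent.S1366

open AlgebraicGeometry CategoryTheory Limits in
/-- Let (A, I) be a henselian pair and X a separated scheme of finite type over Spec A, with X_0 its
base change to Spec (A/I). If Y is an open and closed subset of X_0 which (as an open subscheme) is
proper over Spec (A/I), then there is an open and closed subset W of X, proper over Spec A as an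
open subscheme, whose preimage in X_0 is exactly Y. -/
theorem result {A : Type u} [CommRing A] (I : Ideal A) [HenselianRing A I]
    {X : Scheme.{u}} (f : X ⟶ Spec (CommRingCat.of A)) [IsSeparated f] [LocallyOfFiniteType f] [QuasiCompact f]
    (Y : (pullback f (Spec.map (CommRingCat.ofHom (Ideal.Quotient.mk I)))).Opens) (hYc : IsClosed (Y : Set ↑(pullback f (Spec.map (CommRingCat.ofHom (Ideal.Quotient.mk I))))))
    (hYp : IsProper (Y.ι ≫ pullback.snd f (Spec.map (CommRingCat.ofHom (Ideal.Quotient.mk I))))) :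
    ∃ W : X.Opens, IsClosed (W : Set ↑X) ∧ IsProper (W.ι ≫ f) ∧
      pullback.fst f (Spec.map (CommRingCat.ofHom (Ideal.Quotient.mk I))) ⁻¹ᵁ W = Y := by
  haveI : IsClosedImmersion (Spec.map (CommRingCat.ofHom (Ideal.Quotient.mk I))) :=
    IsClosedImmersion.spec_of_surjective _ Ideal.Quotient.mk_surjective
  let i := pullback.fst f (Spec.map (CommRingCat.ofHom (Ideal.Quotient.mk I)))
  have hi : Set.range i.base = f.base ⁻¹' PrimeSpectrum.zeroLocus (I : Set A) :=
    Groth.Agent.Lib.Henselian.ProperClopen.range_fst_quotient I f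
  have hie : Function.Injective i.base := i.isClosedEmbedding.injective
  have hr : Set.range (Y.ι ≫ i).base = i.base '' (Y : Set _) := by
    rw [Scheme.Hom.comp_base, TopCat.coe_comp, Set.range_comp, Scheme.Opens.range_ι]
  obtain ⟨W, hWc, hWp, hW⟩ := Groth.Agent.H34.Hens.exists_clopen_lift I f (Y.ι ≫ i)
    (by rw [Category.assoc, pullback.condition, ← Category.assoc]; infer_instance)
    (by rw [hr, ← hi]; exact Set.image_subset_range _ _)
    (by
      obtain ⟨O, hO, hOY⟩ := i.isClosedEmbedding.isInducing.isOpen_iff.1 Y.2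
      rw [hr]
      refine isOpen_induced_iff.2 ⟨O, hO, ?_⟩
      ext ⟨x, hx⟩
      obtain ⟨z, rfl⟩ := hi.ge hx
      exact ⟨fun h => ⟨z, hOY.le h, rfl⟩, fun ⟨w, hw, h⟩ => hie h ▸ hOY.ge hw⟩)
  refine ⟨W, hWc, hWp, TopologicalSpace.Opens.ext (Set.ext fun z => ?_)⟩
  rw [hr, ← hi] at hW
  refine ⟨fun h => ?_, fun h => (hW.ge ⟨z, h, rfl⟩).1⟩
  obtain ⟨w, hw, h'⟩ := hW.le ⟨h, z, rfl⟩
  exact hie h' ▸ hw

end Groth.Agent.S1366
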