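import Groth.Statements.S0784
import Groth.Agent.S1366
import Groth.Agent.Lib.Unram.FibreCount

set_option autoImplicit false
open CategoryTheory CategoryTheory.Limits AlgebraicGeometry Opposite
universe u
open Desc

namespace Groth.Agent.S0784

/-- Let (A, I) be a henselian pair and g : U ⟶ Spec A quasi-compact, separated and etale such that the
base change of U to Spec(A/I) is finite over Spec(A/I). Then U is the disjoint union of an open and
closed subscheme finite over Spec A and an open and closed subscheme with no points lying over V(I). -/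
theorem result (A : Type u) [CommRing A] (I : Ideal A) [HenselianRing A I]
    {U : Scheme.{u}} (g : U ⟶ Spec (CommRingCat.of A)) [QuasiCompact g] [IsSeparated g] [Etale g]
    (hfin : IsFinite (pullback.snd g (Spec.map (CommRingCat.ofHom (Ideal.Quotient.mk I))))) :
    ∃ W : U.Opens, IsClosed (W : Set U) ∧ IsFinite (W.ι ≫ g) ∧
      ∀ u : U, u ∉ W → ¬ I ≤ (g.base u : PrimeSpectrum A).asIdeal := by
  let i := Spec.map (CommRingCat.ofHom (Ideal.Quotient.mk I))
  haveI := hfin
  haveI : IsClosedImmersion i := IsClosedImmersion.spec_of_surjective _ Ideal.Quotient.mk_surjective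
  haveI : IsIso (⊤ : (pullback g i).Opens).ι := by rw [← Scheme.topIso_hom]; infer_instance
  haveI : IsFinite ((⊤ : (pullback g i).Opens).ι ≫ pullback.snd g i) := inferInstance
  obtain ⟨W, hWc, hWp, hW⟩ := Groth.Agent.S1366.result I g ⊤ isClosed_univ inferInstance
  haveI := hWp
  haveI : LocallyQuasiFinite (W.ι ≫ g) := inferInstance
  refine ⟨W, hWc, IsFinite.of_isProper_of_locallyQuasiFinite _, fun u hu hle => hu ?_⟩
  have hr := Groth.Agent.Lib.Henselian.ProperClopen.range_fst_quotient I g
  have hu' : u ∈ Set.range (pullback.fst g i).base := by rw [hr]; exact hle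
  obtain ⟨z, rfl⟩ := hu'
  have : z ∈ pullback.fst g i ⁻¹ᵁ W := by rw [hW]; trivial
  exact this

end Groth.Agent.S0784
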