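import Groth.Statements.S0794
import Groth.Agent.Lib.ZarCoh.ProperOver
import Groth.Agent.Lib.ZarCoh.SupportPullback

set_option autoImplicit false
universe u
open Coherent

namespace Groth.Agent.S0794

open CategoryTheory AlgebraicGeometry in
/-- Consider a cartesian square with X' = X ×_S S', projections g' : X' → X and f' : X' → S', where f :
X → S is locally of finite type. If F is a quasi-coherent O_X-module of finite type whose support is
proper over S, then the support of the pullback (g')^* F is proper over S'. -/
theorem result {X S X' S' : Scheme.{u}} (f : X ⟶ S) [LocallyOfFiniteType f]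
    (g : S' ⟶ S) (g' : X' ⟶ X) (f' : X' ⟶ S') (sq : IsPullback g' f' f g)
    (F : X.Modules) (hq : Coh.IsQCoh F) (hft : CohB1.IsFT F)
    (hF : ClSub.IsProperOver f (CohB1.support F)) :
    ClSub.IsProperOver f' (CohB1.support ((Scheme.Modules.pullback g').obj F)) := by
  have := hft
  have : LocallyOfFiniteType f' := MorphismProperty.of_isPullback sq inferInstance
  refine ZarCoh.ProperOver.isProperOver_of_subset f' ?_ (ZarCoh.SupportPullback.isClosed_support_pullback g' F)
    (ZarCoh.SupportPullback.support_pullback_subset g' F)
  refine ZarCoh.ProperOver.isProperOver_preimage f g' f' hF fun {T} i _ => ?_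
  exact MorphismProperty.of_isPullback
    ((IsPullback.of_hasPullback g' i).flip.paste_vert sq) inferInstance

end Groth.Agent.S0794
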