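import Groth.Statements.S0796
import Groth.Agent.Lib.ZarCoh.ProperOver
import Groth.Agent.Lib.Modules.Support

set_option autoImplicit false
universe u
open Coherent

namespace Groth.Agent.S0796

open CategoryTheory AlgebraicGeometry in
/-- Part (2), through the usual criterion for Serre subcategories. Let S be locally Noetherian and f : X
→ S locally of finite type. For a short exact sequence 0 → F₁ → F₂ → F₃ → 0 of coherent O_X-modules,
the support of F₂ is proper over S if and only if the supports of F₁ and F₃ are. -/
theorem result {X S : Scheme.{u}} (f : X ⟶ S) [LocallyOfFiniteType f]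
    [IsLocallyNoetherian S] (E : ShortComplex X.Modules) (hE : E.ShortExact)
    (h₁ : Coh.IsCoh E.X₁) (h₂ : Coh.IsCoh E.X₂) (h₃ : Coh.IsCoh E.X₃) :
    ClSub.IsProperOver f (CohB1.support E.X₂) ↔
      ClSub.IsProperOver f (CohB1.support E.X₁) ∧ ClSub.IsProperOver f (CohB1.support E.X₃) := by
  have := h₁.2
  have := h₃.2
  have hu := Groth.Agent.Lib.Modules.Support.support_eq_union_of_shortExact hE
  constructor
  · intro h
    exact ⟨ZarCoh.ProperOver.isProperOver_of_subset f h (Groth.Agent.Lib.Modules.Support.isClosed_support _)
        (hu ▸ Set.subset_union_left),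
      ZarCoh.ProperOver.isProperOver_of_subset f h (Groth.Agent.Lib.Modules.Support.isClosed_support _)
        (hu ▸ Set.subset_union_right)⟩
  · rintro ⟨ha, hb⟩
    rw [hu]
    refine ZarCoh.ProperOver.isProperOver_of_subset_iUnion f
      (fun b : Bool => cond b (CohB1.support E.X₁) (CohB1.support E.X₃))
      (fun b => by cases b <;> assumption) (ha.1.union hb.1) ?_
    rw [Set.union_eq_iUnion]

end Groth.Agent.S0796
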