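import Groth.Statements.S0800
import Groth.Agent.Lib.SchColim29.Opens
import Groth.Agent.Lib.CohomColim.RpushCover

set_option autoImplicit false
universe u
open Coherent

namespace Groth.Agent.S0800

open CategoryTheory CategoryTheory.Limits AlgebraicGeometry Opposite TopologicalSpace CategoryTheory.Abelian
open Groth.Agent.Lib Groth.Agent.Lib.SiteCoh Groth.Agent.Lib.SchColim29.Opens Groth.TFin
set_option linter.style.haveILetI false

variable {X : Scheme.{u}}

theorem colimAcyclic_eps {V : X.Opens} (hV : IsCompact (V : Set X)) (hV' : IsQuasiSeparated (V : Set X))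
    (Λ : Type u) [SmallCategory Λ] [IsFiltered Λ] :
    Groth.Agent.Lib.ToposFin.ExtColim.ColimAcyclic Λ ((FreeSheaf.freeSh (Jz X)).obj (ToposFin.eps (Jz X) V)) := by
  have hmem : ToposFin.eps (Jz X) V ∈ qcqsSet X := ⟨V, hV, hV', rfl⟩
  have hgen := gen_of_generating (SchColim29.Opens.isGenerating (X := X)) SchColim29.Opens.isQC_of_mem
  have hK : ToposFin.IsCoherent (ToposFin.eps (Jz X) V) :=
    ⟨isQC_eps hV, qs_of_closed SchColim29.Opens.isGenerating SchColim29.Opens.isQC_of_mem
      SchColim29.Opens.closedUnderPullbacks _ hmem⟩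
  refine ⟨fun D => ⟨fun x => ?_, fun i y hy => ?_⟩, fun E hE' n => ?_⟩
  · obtain ⟨s, rfl⟩ := (Ext.mk₀_bijective _ _).2 x
    obtain ⟨i, y, hy⟩ := Groth.Agent.Lib.ToposFin.Cohom.exists_stage D hgen hK s
    exact ⟨i, Ext.mk₀ y, by rw [Groth.Agent.Lib.ToposFin.ExtColim.push, Ext.mk₀_comp_mk₀, hy]⟩
  · obtain ⟨t, rfl⟩ := (Ext.mk₀_bijective _ _).2 y
    rw [Groth.Agent.Lib.ToposFin.ExtColim.push, Ext.mk₀_comp_mk₀, ← Ext.mk₀_zero] at hy
    obtain ⟨k, a, ha⟩ := Groth.Agent.Lib.ToposFin.Cohom.eventually_zero D hK.1 t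
      ((Ext.mk₀_bijective _ _).1 hy)
    exact ⟨k, a, by rw [Groth.Agent.Lib.ToposFin.ExtColim.push, Ext.mk₀_comp_mk₀, ha, Ext.mk₀_zero]⟩
  · exact Groth.Agent.Lib.ToposFin.SAcyclic.acyclic_colimit SchColim29.Opens.isQC_of_mem
      SchColim29.Opens.isGenerating SchColim29.Opens.closedUnderPullbacks E
      (fun i L _ q => haveI := hE' i
        Groth.Agent.Lib.ToposFin.Cohom.acyclicOn_injective (Q := fun _ => True) (E.obj i) L trivial q)
      _ hmem n

open CategoryTheory CategoryTheory.Limits AlgebraicGeometry in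
/-- Let f : X → S be quasi-compact and quasi-separated. Then for every p the higher direct image functor
R^p f_* on abelian sheaves (on the underlying spaces) preserves filtered colimits. -/
theorem result {X S : Scheme.{u}} (f : X ⟶ S) [QuasiCompact f]
    [QuasiSeparated f] (p : ℕ) (J : Type u) [SmallCategory J] [IsFiltered J] :
    PreservesColimitsOfShape J (Coh.RpushAb f p) := by
  let u := TopologicalSpace.Opens.map f.base
  suffices h : PreservesColimitsOfShape J
      (CohSite.Rpush (Jz X) (Jz S) u p) from h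
  refine ⟨fun {F} => Groth.Agent.Lib.CohomColim.RpushCover.preservesColimit u F p fun V => ?_⟩
  let κ := {W : S.Opens // IsAffineOpen W ∧ W ≤ V}
  refine ⟨κ, fun k => k.1, fun k => homOfLE k.2.2, fun x hx => ?_, fun k => ?_⟩
  · obtain ⟨W, hW, hxW, hWV⟩ := exists_isAffineOpen_mem_and_subset (X := S) hx
    exact ⟨W, homOfLE hWV, Sieve.ofArrows_mk (fun k : κ => k.1) (fun k => homOfLE k.2.2)
      ⟨W, hW, hWV⟩, hxW⟩
  · haveI := (Groth.Agent.Lib.ToposFin.CohomTop.colimAcyclic_of_iso
      (FreeSheaf.freeShRepIso (Jz X) (u.obj k.1))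
      (colimAcyclic_eps (V := f ⁻¹ᵁ k.1) (f.isCompact_preimage k.2.1.isCompact)
        (f.isQuasiSeparated_preimage k.2.1.isQuasiSeparated) J)).preservesColimitsOfShape p
    haveI : PreservesColimitsOfShape J
        ((Sheaf.cohomologyPresheafFunctor (Jz X) p).flip.obj (op (u.obj k.1))) :=
      preservesColimitsOfShape_of_natIso
        (F := (extFunctor.{u} p).obj (op (CohCx.freeSheaf (Jz X) (u.obj k.1))))
        (NatIso.ofComponents (fun F => Iso.refl _) (fun f => rfl))
    exact PreservesColimitsOfShape.preservesColimit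

end Groth.Agent.S0800
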