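import Groth.Statements.S0802
import Groth.Agent.H2.FormalColimMain

set_option autoImplicit false
universe u
open Formal2

namespace Groth.Agent.S0802

open AlgebraicGeometry in
/-- Let A be a Noetherian ring, f an element of an ideal 𝔞, and M a finite A-module on which f acts as a
nonzerodivisor; suppose A is complete for the f-adic topology and H^1_𝔞(M/fM) is a finite A-module.
Then, with U the complement of V(𝔞), the canonical map from the colimit of the sections of M~ over
the opens V ⊆ U containing U ∩ V(f) to the limit of the sections of (M/f^nM)~ over U is bijective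
(in the elementwise formulation of the prelude, degree-0 cohomology standing for sections). -/
theorem result (A : Type u) [CommRing A] [IsNoetherianRing A]
    (𝔞 : Ideal A) (f : A) (hf : f ∈ 𝔞) [IsAdicComplete (Ideal.span {f}) A]
    (M : Type u) [AddCommGroup M] [Module A M] [Module.Finite A M] (hreg : IsSMulRegular M f)
    (hfin : Module.Finite A (LocCoh.H 𝔞 1 (M ⧸ (Ideal.span {f} • (⊤ : Submodule A M))))) :
    Formal2.FormalCohColimBijective A (Ideal.span {f}) M 0 (LocCoh.puncturedOpen A 𝔞) := by
  haveI := Groth.Agent.H2.SectLim.finite_sections 𝔞 (M ⧸ (Ideal.span {f} • (⊤ : Submodule A M))) hfin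
  let U := LocCoh.puncturedOpen A 𝔞
  refine ⟨fun V hV x hx => ?_, fun y hy => ?_⟩
  · obtain ⟨V', hV', h⟩ := Groth.Agent.H2.FormalColimMain.inj_part hV
      (Groth.Agent.H2.FormalColimMain.ev M V x) fun n => by
        rw [← Groth.Agent.H2.FormalColimMain.ev_map]
        exact (congrArg _ (hx n)).trans (map_zero _)
    refine ⟨V', hV', (Groth.Agent.H2.FormalColimMain.ev M V').injective ?_⟩
    rw [Groth.Agent.H2.FormalColimMain.ev_res, map_zero]
    exact h
  · let z : Groth.Agent.H2.FormalColim.lim M f U :=
      ⟨fun n => Groth.Agent.H2.FormalColimMain.ev (Groth.Agent.H2.FormalColim.Q M f n) U (y n), fun n => by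
        rw [← Groth.Agent.H2.FormalColimMain.ev_map]
        exact congrArg _ (hy n)⟩
    obtain ⟨V, hV, X, hX⟩ := Groth.Agent.H2.FormalColimMain.surj_part 𝔞 hreg z
    refine ⟨V, hV, (Groth.Agent.H2.FormalColimMain.ev M V).symm X, fun n => ?_⟩
    refine (Groth.Agent.H2.FormalColimMain.ev _ V).injective ?_
    rw [Groth.Agent.H2.FormalColimMain.ev_res, Groth.Agent.H2.FormalColimMain.ev_map,
      AddEquiv.apply_symm_apply]
    exact hX n

end Groth.Agent.S0802
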