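import Groth.Statements.S0810
import Groth.Agent.H80.Divisor.CI
import Groth.Agent.H80.Divisor.Bridge
import Groth.Agent.Lib.Depth.Local
import Groth.Agent.Lib.ParaF.Local
import Groth.Agent.H78.ParaF.Punctured

set_option autoImplicit false
set_option backward.isDefEq.respectTransparency false
universe u
open Formal2

namespace Groth.Agent.S0810

open CategoryTheory AlgebraicGeometry in
/-- Let A be a Noetherian local ring which is a complete intersection (its completion is a regular local
ring modulo a regular sequence) of dimension at least 4. Then every invertible module on the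
punctured spectrum of A is trivial. -/
theorem result (A : Type u) [CommRing A] [IsNoetherianRing A]
    [IsLocalRing A] (hci : Pi1.IsCompleteIntersection A) (hdim : (4 : WithBot ℕ∞) ≤ ringKrullDim A) :
    Formal2.PicTrivial (↑(FEt.puncturedSpec A) : Scheme.{u}) := by
  obtain ⟨B, _, _, rs, hmem, hreg, ⟨e⟩⟩ := hci
  let m := IsLocalRing.maximalIdeal A
  let A' := AdicCompletion m A
  have hm : m ≠ ⊤ := Ideal.IsMaximal.ne_top inferInstance
  have := Lib.Regular.Completion.isLocalRing m hm
  have := Lib.Excellent.CompletionNoetherian.isNoetherianRing_adicCompletion m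
  have := H80.Extend.faithfullyFlat_completion A
  have hmap := Lib.Regular.Completion.map_maximalIdeal m hm
  have := H80.Divisor.isLocalRing_ci rs hmem
  have e' : (B ⧸ Ideal.ofList rs) ≃+* A' := e.symm
  have hdim' : (4 : WithBot ℕ∞) ≤ ringKrullDim A' := by
    rwa [Lib.Regular.Completion.ringKrullDim_eq m hm]
  have hpara : H80.Divisor.IdealPara A := H80.Divisor.IdealPara.of_flat hmap
    (H80.Divisor.IdealPara.of_ringEquiv e' (H80.Divisor.idealPara_ci _ B rs rfl hmem
      hreg.toIsWeaklyRegular (by rwa [ringKrullDim_eq_of_ringEquiv e'])))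
  have hcm := H80.Divisor.isCohenMacaulay_ci rs hmem hreg.toIsWeaklyRegular
  have := Lib.Excellent.Transport.isCohenMacaulayLocalRing_of_ringEquiv e'
  have hd : (2 : ℕ∞) ≤ LocCoh.depth A A := by
    rw [Lib.Depth.CM.ringKrullDim_eq_depth] at hdim'
    have h2 : (2 : ℕ∞) ≤ LocCoh.depth A' A' := le_trans (by norm_num) (WithBot.coe_le_coe.mp hdim')
    have h3 := Lib.Depth.Local.idealDepth_baseChange_eq (B := A') (M := A) (I := m)
    rw [Lib.Depth.Basic.idealDepth_congr _ (TensorProduct.AlgebraTensorModule.rid A A' A'), hmap] at h3
    exact h2.trans h3.le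
  exact H80.Divisor.picTrivial_of_idealPara hd hpara

end Groth.Agent.S0810
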