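import Groth.Statements.S0813
import Groth.Agent.H73.ZarPair.Iso
import Groth.Agent.Lib.Ample.GG
import Groth.Agent.Lib.Snapper.Twist
import Groth.Prelude.Def_PicLoc


set_option autoImplicit false
universe u
open Formal2

namespace Groth.Agent.S0813

open CategoryTheory AlgebraicGeometry in
/-- Let (A, 𝔪) be a Noetherian local ring of depth at least 2, A^ its 𝔪-adic completion, U the punctured
spectrum of A and U^ its preimage in Spec A^ (the punctured spectrum of A^). Then an invertible
O_U-module whose pullback to U^ is trivial is trivial. -/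
theorem result (A : Type u) [CommRing A] [IsNoetherianRing A]
    [IsLocalRing A] (hdepth : (2 : ℕ∞) ≤ LocCoh.depth A A) :
    Formal2.PicPullbackInjective
      (Spec.map (CommRingCat.ofHom (algebraMap A (AdicCompletion (IsLocalRing.maximalIdeal A) A))) ∣_
        FEt.puncturedSpec A) := by
  intro L hL ⟨e⟩
  let m := IsLocalRing.maximalIdeal A
  haveI := Lib.Excellent.CompletionNoetherian.isNoetherianRing_adicCompletion m
  haveI : IsNoetherianRing (CommRingCat.of A) := ‹IsNoetherianRing A›
  refine H73.ZarPair.iso_of_baseChange_iso (A' := AdicCompletion m A)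
    (H73.ZarPair.sameCompl_completion m (IsLocalRing.maximalIdeal_le_jacobson _))
    (FEt.puncturedSpec A) (fun p hp => ?_) L (Coh.structureModule _)
    (Lib.Ample.GG.isCoh_of_isInvertible hL) (Lib.Snapper.Twist.isCoh_structureModule _) (e ≪≫ ?_)
  · intro h
    exact hp (le_of_eq (congrArg PrimeSpectrum.asIdeal (Set.mem_singleton_iff.1 h)).symm)
  · exact (PicLoc.pullbackStructureIso _).symm

end Groth.Agent.S0813
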