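import Groth.Statements.S0815
import Groth.Agent.S0814
import Groth.Agent.S0376
import Groth.Agent.Lib.LCFin.ConnBound
import Groth.Agent.Lib.LCFin.Bootstrap
import Groth.Agent.H22.Completion
import Mathlib.RingTheory.Noetherian.Basic

set_option autoImplicit false
universe u
open Formal2

namespace Groth.Agent.S0815

open CategoryTheory AlgebraicGeometry in
/-- Let (A, 𝔪) be a complete Noetherian local ring, I a proper ideal, e a bound for the cohomological
dimension of I, and Z ⊆ V(I) a closed subset of Spec A. Assume that dim Z + e + 1 < dim A/𝔭 for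
every minimal prime 𝔭 of A, and that dim Z + e < dim Z' for every closed subset Z' of Spec A whose
complement is not connected (the empty complement counts as not connected). Then V(I) ∖ Z is
connected, in particular nonempty. -/
theorem result (A : Type u) [CommRing A] [IsNoetherianRing A] [IsLocalRing A]
    [IsAdicComplete (IsLocalRing.maximalIdeal A) A] (I : Ideal A) (hI : I ≠ ⊤) (e : ℕ) (he : LocCoh.CdLE A I e)
    (Z : Set (PrimeSpectrum A)) (hZ : IsClosed Z) (hZI : Z ⊆ PrimeSpectrum.zeroLocus (I : Set A))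
    (hdim : ∀ p ∈ minimalPrimes A, topologicalKrullDim Z + ((e + 1 : ℕ) : WithBot ℕ∞) < ringKrullDim (A ⧸ p))
    (hc : ∀ Z' : Set (PrimeSpectrum A), IsClosed Z' → ¬ _root_.IsConnected Z'ᶜ →
      topologicalKrullDim Z + ((e : ℕ) : WithBot ℕ∞) < topologicalKrullDim Z') :
    _root_.IsConnected (PrimeSpectrum.zeroLocus (I : Set A) \ Z) := by
  classical
  obtain ⟨ω, hω⟩ := Groth.Agent.S0376.result A
  have hIm : I ≤ IsLocalRing.maximalIdeal A := IsLocalRing.le_maximalIdeal hI
  have hcomp : IsAdicComplete I A :=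
    Groth.Agent.H22.Completion.isAdicComplete_of_le_of_fg (M := A) I (J := IsLocalRing.maximalIdeal A) hIm (IsNoetherian.noetherian I)
  obtain ⟨J, hJ⟩ := (PrimeSpectrum.isClosed_iff_zeroLocus_ideal Z).1 hZ
  let 𝔞 := I ⊔ J
  have hZa : Z = PrimeSpectrum.zeroLocus (𝔞 : Set A) := by
    rw [PrimeSpectrum.zeroLocus_sup, ← hJ, Set.inter_eq_right.2 hZI]
  have hI' : I ≤ 𝔞 := le_sup_left
  have hfull : ∀ p : PrimeSpectrum A, Formal2.dimBetween A p.asIdeal (IsLocalRing.maximalIdeal A) =
      ringKrullDim (A ⧸ p.asIdeal) := fun p => by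
    let e : A ≃+* Localization.AtPrime (IsLocalRing.maximalIdeal A) := RingEquiv.ofBijective
      (algebraMap A (Localization.AtPrime (IsLocalRing.maximalIdeal A)))
      (IsLocalization.atUnits A (IsLocalRing.maximalIdeal A).primeCompl
        (S := Localization.AtPrime (IsLocalRing.maximalIdeal A))
        (fun x hx => not_not.1 fun h => hx ((IsLocalRing.mem_maximalIdeal x).2 h))).bijective
    exact ringKrullDim_eq_of_ringEquiv (Ideal.quotientEquiv p.asIdeal _ e rfl).symm
  have key : ∀ q : Ideal A, q.IsPrime → ∀ (z : ℕ), (∀ r : PrimeSpectrum A, q ≤ r.asIdeal →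
      I ≤ r.asIdeal → 𝔞 ≤ r.asIdeal) → ringKrullDim (A ⧸ 𝔞) ≤ z →
      ringKrullDim (A ⧸ q) ≤ ((z + e : ℕ) : WithBot ℕ∞) := fun q hq z hsub hz => by
    refine Groth.Agent.Lib.LCFin.ConnBound.dim_prime_le hI he ?_
    rw [← Module.supportDim_quotient_eq_ringKrullDim (R := A) (q ⊔ I)]
    refine Groth.Agent.Lib.LCFin.CanonBasic.supportDim_le_of_primes fun r hr hann => ?_
    rw [Ideal.annihilator_quotient] at hann
    exact (ringKrullDim_le_of_surjective
      (Ideal.Quotient.factor (hsub ⟨r, hr⟩ (le_sup_left.trans hann) (le_sup_right.trans hann)))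
      (Ideal.Quotient.factor_surjective _)).trans hz
  have hdimZ : topologicalKrullDim ↥Z = ringKrullDim (A ⧸ 𝔞) := by
    rw [hZa, Groth.Agent.Lib.LocalCoh.ConnDim.dim_zeroLocus]
  have hne : (PrimeSpectrum.zeroLocus (I : Set A) \ Z).Nonempty := by
    by_contra hcon
    rw [Set.not_nonempty_iff_eq_empty, Set.sdiff_eq_empty] at hcon
    have ha : 𝔞 ≠ ⊤ := fun h => by
      have := hcon (show IsLocalRing.closedPoint A ∈ PrimeSpectrum.zeroLocus (I : Set A) from hIm)
      rw [hZa, h, Submodule.top_coe, PrimeSpectrum.zeroLocus_univ] at this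
      exact this
    obtain ⟨P, hP⟩ := Ideal.nonempty_minimalPrimes (show (⊥ : Ideal A) ≠ ⊤ from bot_ne_top)
    obtain ⟨z, hz⟩ := Groth.Agent.Lib.LCFin.Connected.exists_dim_eq 𝔞 ha
    have h1 := key P hP.1.1 z (fun r _ hr => by
      have := hcon (show r ∈ PrimeSpectrum.zeroLocus (I : Set A) from hr)
      rw [hZa] at this
      exact this) hz.le
    have h2 := (hdim P hP).trans_le h1
    rw [hdimZ, hz, ← Nat.cast_add] at h2
    have h3 : z + (e + 1) < z + e := by exact_mod_cast h2
    omega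
  refine ⟨hne, ?_⟩
  rw [hZa]
  refine Groth.Agent.S0814.result A I 𝔞 hI' ⟨ω, hω⟩ e he (fun p hp _ q _ hpq hq => ?_)
    fun V hV _ hsub => ?_
  · have : p.IsPrime := hp.1.1
    let P : PrimeSpectrum A := ⟨p, hp.1.1⟩
    let Q : PrimeSpectrum A := ⟨q, inferInstance⟩
    obtain ⟨z, hz⟩ := Groth.Agent.Lib.LCFin.Connected.exists_dim_eq 𝔞 (fun h =>
      Q.isPrime.ne_top (top_le_iff.1 (h ▸ hq)))
    have hle : ringKrullDim (A ⧸ q) ≤ z := hz ▸ ringKrullDim_le_of_surjective
      (Ideal.Quotient.factor hq) (Ideal.Quotient.factor_surjective _)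
    have hlt := hdim p hp
    rw [hdimZ, hz] at hlt
    have eP := hfull P
    have eQ := hfull Q
    have hm : ∀ R : PrimeSpectrum A, R ≤ IsLocalRing.closedPoint A := fun R =>
      IsLocalRing.le_maximalIdeal R.isPrime.ne_top
    rw [show Formal2.dimBetween A P.asIdeal (IsLocalRing.maximalIdeal A) = _ from
      Groth.Agent.Lib.LCFin.Bootstrap.dimBetween_eq hω P (IsLocalRing.closedPoint A) (hm P)] at eP
    rw [show Formal2.dimBetween A Q.asIdeal (IsLocalRing.maximalIdeal A) = _ from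
      Groth.Agent.Lib.LCFin.Bootstrap.dimBetween_eq hω Q (IsLocalRing.closedPoint A) (hm Q)] at eQ
    rw [show Formal2.dimBetween A p q = _ from
      Groth.Agent.Lib.LCFin.Bootstrap.dimBetween_eq hω P Q hpq]
    change _ = ringKrullDim (A ⧸ p) at eP
    change _ = ringKrullDim (A ⧸ q) at eQ
    rw [← eP, ← Nat.cast_add] at hlt
    rw [← eQ] at hle
    have h1 := Groth.Agent.Lib.DMod.Degree.deg_le hω (show P ≤ Q from hpq)
    have h2 := Groth.Agent.Lib.DMod.Degree.deg_le hω (hm Q)
    have h3 : (Groth.Agent.Lib.DMod.Degree.deg hω (IsLocalRing.closedPoint A) -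
        Groth.Agent.Lib.DMod.Degree.deg hω Q).toNat ≤ z := by exact_mod_cast hle
    have h4 : z + (e + 1) < (Groth.Agent.Lib.DMod.Degree.deg hω (IsLocalRing.closedPoint A) -
        Groth.Agent.Lib.DMod.Degree.deg hω P).toNat := by exact_mod_cast hlt
    exact_mod_cast (show e + 1 < (Groth.Agent.Lib.DMod.Degree.deg hω Q -
      Groth.Agent.Lib.DMod.Degree.deg hω P).toNat by omega)
  · by_contra hV'
    have hlt := hc Vᶜ hV.isClosed_compl (by rw [compl_compl]; exact hV')
    obtain ⟨J', hJ'⟩ := (PrimeSpectrum.isClosed_iff_zeroLocus_ideal Vᶜ).1 hV.isClosed_compl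
    have hsub' : ∀ r : PrimeSpectrum A, J' ≤ r.asIdeal → I ≤ r.asIdeal → 𝔞 ≤ r.asIdeal :=
      fun r hr hr' => by
      by_contra h
      exact ((show r ∈ Vᶜ from hJ' ▸ hr) (hsub ⟨hr', h⟩))
    rw [hdimZ, hJ', Groth.Agent.Lib.LocalCoh.ConnDim.dim_zeroLocus] at hlt
    rcases eq_or_ne J' ⊤ with hJt | hJt
    · have : Subsingleton (A ⧸ J') := Ideal.Quotient.subsingleton_iff.2 hJt
      rw [ringKrullDim_eq_bot_of_subsingleton (R := A ⧸ J')] at hlt
      exact not_lt_bot hlt
    have ha : 𝔞 ≠ ⊤ := fun h => (IsLocalRing.maximalIdeal.isMaximal A).ne_top (top_le_iff.1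
      (h ▸ hsub' (IsLocalRing.closedPoint A) (IsLocalRing.le_maximalIdeal hJt) hIm))
    obtain ⟨z, hz⟩ := Groth.Agent.Lib.LCFin.Connected.exists_dim_eq 𝔞 ha
    refine (not_le.2 hlt) ?_
    rw [hz, ← Nat.cast_add, ← Module.supportDim_quotient_eq_ringKrullDim]
    refine Groth.Agent.Lib.LCFin.CanonBasic.supportDim_le_of_primes fun q hq hann => ?_
    rw [Ideal.annihilator_quotient] at hann
    exact key q hq z (fun r hr => hsub' r (hann.trans hr)) hz.le

end Groth.Agent.S0815
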