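import Groth.Statements.S0816
import Groth.Agent.Lib.CohDelta.IdealMul.Main
import Groth.Agent.Lib.CohDelta.IdealMul.DevExt
import Groth.Agent.Lib.ZarCoh.AnnIdeal

set_option autoImplicit false
set_option linter.style.haveILetI false
set_option linter.style.longLine false
universe u
open Coherent

namespace Groth.Agent.S0816


open CategoryTheory CategoryTheory.Limits AlgebraicGeometry Opposite TopologicalSpace
open Groth.Agent.Lib Groth.Agent.Lib.Modules.StalkModule Groth.Agent.Lib.CohDelta.IdealMul.Sec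

/-- Multiply successively by the annihilator of the intersection with `N`: the process stops, and
the intersection is then zero. -/
theorem algebra {R M : Type u} [CommRing R] [IsNoetherianRing R] [AddCommGroup M] [Module R M]
    [Module.Finite R M] (N : Submodule R M) (A J : ℕ → Ideal R)
    (hA : ∀ n, A (n + 1) = A n * J n)
    (hJ : ∀ n, J n = ((A n • ⊤ : Submodule R M) ⊓ N).annihilator) :
    ∃ n₀, ∀ n, n₀ ≤ n → A n = A n₀ ∧ (A n • ⊤ : Submodule R M) ⊓ N = ⊥ := by
  have hanti : Antitone A := antitone_nat_of_succ_le fun n => by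
    rw [hA]
    exact Ideal.mul_le_left
  have hJm : Monotone J := monotone_nat_of_le_succ fun n => by
    rw [hJ, hJ]
    exact Submodule.annihilator_mono (inf_le_inf_right _ (Submodule.smul_mono_left (hanti n.le_succ)))
  obtain ⟨n₁, hn₁⟩ := monotone_stabilizes_iff_noetherian.mpr ‹IsNoetherianRing R› ⟨J, hJm⟩
  have hpow : ∀ k, A (n₁ + k) = A n₁ * J n₁ ^ k := by
    intro k
    induction k with
    | zero => simp
    | succ k ih =>
      rw [← add_assoc, hA, ih, pow_succ, mul_assoc,
        show J (n₁ + k) = J n₁ from (hn₁ (n₁ + k) (by omega)).symm]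
  let S : Submodule R M := A n₁ • ⊤
  haveI : IsNoetherian R M := isNoetherian_of_isNoetherianRing_of_finite R M
  obtain ⟨c, hc⟩ := Ideal.exists_pow_inf_eq_pow_smul (J n₁) (N.comap S.subtype)
  have hkill : J n₁ • (S ⊓ N) = (⊥ : Submodule R M) := by
    refine eq_bot_iff.mpr (Submodule.smul_le.mpr fun a ha m hm => ?_)
    rw [hJ] at ha
    exact (Submodule.mem_bot R).mpr (Submodule.mem_annihilator.mp ha m hm)
  have h0 : (A (n₁ + (c + 1)) • ⊤ : Submodule R M) ⊓ N = ⊥ := by
    refine eq_bot_iff.mpr fun m hm => ?_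
    rw [hpow, mul_comm, Submodule.mul_smul] at hm
    obtain ⟨hm1, hm2⟩ := hm
    have h1 : (J n₁ ^ (c + 1) • ⊤ : Submodule R S).map S.subtype = J n₁ ^ (c + 1) • S := by
      rw [Submodule.map_smul'', Submodule.map_subtype_top]
    obtain ⟨z, hz, rfl⟩ := h1.symm ▸ hm1
    have hz' : z ∈ (J n₁ ^ (c + 1) • ⊤ : Submodule R S) ⊓ N.comap S.subtype := ⟨hz, hm2⟩
    rw [hc (c + 1) (Nat.le_succ c), Nat.add_sub_cancel_left, pow_one] at hz'
    have h2 : S.subtype z ∈ J n₁ • (S ⊓ N) := by
      have h3 := Submodule.mem_map_of_mem (f := S.subtype) hz'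
      rw [Submodule.map_smul''] at h3
      refine Submodule.smul_mono le_rfl ?_ h3
      rintro _ ⟨w, ⟨-, hw⟩, rfl⟩
      exact ⟨w.2, hw⟩
    rwa [hkill] at h2
  have htop : J n₁ = ⊤ := by
    rw [show J n₁ = J (n₁ + (c + 1)) from hn₁ (n₁ + (c + 1)) (by omega), hJ, h0,
      Submodule.annihilator_bot]
  have hconst : ∀ n, n₁ ≤ n → A n = A n₁ := fun n hn => by
    obtain ⟨k, rfl⟩ := Nat.exists_eq_add_of_le hn
    rw [hpow, htop, ← Ideal.one_eq_top, one_pow, mul_one]
  refine ⟨n₁, fun n hn => ⟨hconst n hn, ?_⟩⟩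
  rw [hconst n hn, ← hconst (n₁ + (c + 1)) (Nat.le_add_right _ _)]
  exact h0

/-- Maps out of a left adjoint are determined by their transposes. -/
theorem map_eq_of_comp_eq {C D : Type*} [Category C] [Category D] {L : C ⥤ D} {R : D ⥤ C}
    (adj : L ⊣ R) {F G F' : C} (φ : L.obj F ⟶ L.obj G) (i : F' ⟶ F) (g : F' ⟶ G)
    (h : i ≫ adj.homEquiv F (L.obj G) φ = g ≫ adj.unit.app G) : L.map g = L.map i ≫ φ := by
  apply (adj.homEquiv _ _).injective
  rw [adj.homEquiv_naturality_left, h, adj.homEquiv_unit]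
  exact (adj.unit.naturality g).symm

variable {X : Scheme.{u}} [IsLocallyNoetherian X]

/-- An ideal sheaf trivial on `U` moving a coherent module away from the kernel of `q`. -/
theorem exists_ideal {P F : X.Modules} (hP : Coh.IsCoh P) (hF : Coh.IsCoh F) (q : P ⟶ F)
    (U : X.Opens) (hU : ∀ x ∈ U, Function.Injective (stalkMapₗ q x)) :
    ∃ L : X.IdealSheafData, Mono (Dual3.idealMulι L P ≫ q) ∧
      ∀ x ∈ U, x ∉ (L.support : Set X) := by
  haveI := hP.1
  haveI := hF.1
  let K : X.IdealSheafData → X.Modules := fun I => kernel (Dual3.idealMulι I P ≫ q)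
  have hK : ∀ I, Coh.IsCoh (K I) := fun I =>
    CohBasics.Closure.isCoh_kernel _ (isCoh_idealMul I hP) inferInstance
  let J : X.IdealSheafData → X.IdealSheafData := fun I =>
    @ZarCoh.AnnIdeal.annIdeal X (K I) (hK I).1 (hK I).2
  have hJ : ∀ I (W : X.affineOpens), (J I).ideal W =
      ((I.ideal W • ⊤ : Submodule Γ(X, W.1) Γ(P, W.1)) ⊓ LinearMap.ker (appL q W.1)).annihilator := by
    intro I W
    have hinj : Function.Injective (appL (kernel.ι (Dual3.idealMulι I P ≫ q) ≫ Dual3.idealMulι I P) W.1) :=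
      appL_injective _ _
    have hr : LinearMap.range (appL (kernel.ι (Dual3.idealMulι I P ≫ q) ≫ Dual3.idealMulι I P) W.1) =
        (I.ideal W • ⊤ : Submodule Γ(X, W.1) Γ(P, W.1)) ⊓ LinearMap.ker (appL q W.1) := by
      rw [appL_comp, LinearMap.range_comp, ← ker_appL, appL_comp, LinearMap.ker_comp,
        Submodule.map_comap_eq, range_ι]
    exact ((LinearEquiv.ofInjective _ hinj).trans (LinearEquiv.ofEq _ _ hr)).annihilator_eq
  let A : ℕ → X.IdealSheafData := fun n => n.rec ⊤ fun _ I => I * J I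
  have hA : ∀ n, A (n + 1) = A n * J (A n) := fun _ => rfl
  have hAi : ∀ n (W : X.affineOpens), (A (n + 1)).ideal W = (A n).ideal W * (J (A n)).ideal W :=
    fun _ _ => rfl
  have hst : ∀ W : X.affineOpens, ∃ n₀, ∀ n, n₀ ≤ n → (A n).ideal W = (A n₀).ideal W ∧
      ((A n).ideal W • ⊤ : Submodule Γ(X, W.1) Γ(P, W.1)) ⊓ LinearMap.ker (appL q W.1) = ⊥ := by
    intro W
    haveI := IsLocallyNoetherian.component_noetherian W
    haveI := CohBasics.Closure.finite_sections hP W.2
    exact algebra (LinearMap.ker (appL q W.1)) (fun n => (A n).ideal W)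
      (fun n => (J (A n)).ideal W) (fun n => hAi n W) (fun n => hJ (A n) W)
  choose N hN using hst
  have hinf : ∀ (W : X.affineOpens) n, N W ≤ n → (⨅ m, (A m).ideal W) = (A n).ideal W := by
    intro W n hn
    have hanti : Antitone fun m => (A m).ideal W := antitone_nat_of_succ_le fun m => by
      show (A (m + 1)).ideal W ≤ (A m).ideal W
      rw [hAi]
      exact Ideal.mul_le_left
    refine le_antisymm (iInf_le _ _) (le_iInf fun m => ?_)
    rw [(hN W n hn).1, ← (hN W (max m (N W)) (le_max_right _ _)).1]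
    exact hanti (le_max_left _ _)
  let L : X.IdealSheafData :=
    { ideal := fun W => ⨅ n, (A n).ideal W
      map_ideal_basicOpen := fun W f => by
        let n := max (N W) (N (X.affineBasicOpen f))
        show (⨅ n, (A n).ideal W).map _ = ⨅ n, (A n).ideal (X.affineBasicOpen f)
        rw [hinf W n (le_max_left _ _), hinf (X.affineBasicOpen f) n (le_max_right _ _)]
        exact (A n).map_ideal_basicOpen W f }
  have hLN : ∀ W : X.affineOpens, L.ideal W = (A (N W)).ideal W := fun W => hinf W _ le_rfl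
  refine ⟨L, ?_, fun x hx => ?_⟩
  · haveI : (kernel (Dual3.idealMulι L P ≫ q)).IsQuasicoherent := QCoh.Closure.isQCoh_kernel _
    refine Preadditive.mono_of_kernel_zero (eq_zero_of_cover _ fun x => ?_)
    obtain ⟨W, hW, hx, -⟩ := exists_isAffineOpen_mem_and_subset (U := (⊤ : X.Opens)) (x := x) trivial
    refine ⟨W, hW, hx, fun s => appL_injective (Dual3.idealMulι L P) W ?_⟩
    rw [map_zero]
    have h1 : appL (Dual3.idealMulι L P) W (appL (kernel.ι (Dual3.idealMulι L P ≫ q)) W s) ∈
        ((A (N ⟨W, hW⟩)).ideal ⟨W, hW⟩ • ⊤ : Submodule Γ(X, W) Γ(P, W)) ⊓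
          LinearMap.ker (appL q W) := by
      constructor
      · rw [← hLN ⟨W, hW⟩, ← range_ι L P ⟨W, hW⟩]
        exact LinearMap.mem_range_self _ _
      · show appL q W (appL (Dual3.idealMulι L P) W _) = 0
        rw [← LinearMap.comp_apply, ← appL_comp, ← LinearMap.comp_apply, ← appL_comp,
          kernel.condition]
        rfl
    rw [(hN ⟨W, hW⟩ _ le_rfl).2] at h1
    exact (Submodule.mem_bot _).mp h1
  · obtain ⟨W, hW, hxW, hWU⟩ := exists_isAffineOpen_mem_and_subset (U := U) (x := x) hx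
    have hker : LinearMap.ker (appL q W) = ⊥ := by
      refine LinearMap.ker_eq_bot.mpr ?_
      refine (injective_iff_map_eq_zero _).mpr fun s hs => ?_
      refine TopCat.Presheaf.section_ext ⟨P.presheaf, P.isSheaf⟩ W s 0 fun y hy => ?_
      refine hU y (hWU hy) ?_
      rw [map_zero, map_zero, stalkMapₗ_germ]
      exact (congrArg (F.presheaf.germ W y hy) hs).trans (map_zero _)
    have htop : ∀ n, (A n).ideal ⟨W, hW⟩ = ⊤ := by
      intro n
      induction n with
      | zero => rfl
      | succ n ih =>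
        rw [hAi, ih, hJ, hker, inf_bot_eq, Submodule.annihilator_bot, Ideal.top_mul]
    rw [SetLike.mem_coe, Scheme.IdealSheafData.mem_support_iff_of_mem (U := ⟨W, hW⟩) hxW,
      Scheme.mem_zeroLocus_iff]
    intro h
    refine h 1 ?_ ?_
    · show (1 : Γ(X, W)) ∈ L.ideal ⟨W, hW⟩
      rw [hLN, htop]
      trivial
    · rw [Scheme.basicOpen_of_isUnit _ isUnit_one]
      exact hxW


open CategoryTheory AlgebraicGeometry in
/-- Let X be locally Noetherian, F and G coherent O_X-modules, U ⊆ X open and φ : F|_U → G|_U a map of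
O_U-modules. Then there are a coherent submodule F' ⊆ F whose inclusion is an isomorphism over U and
a map φ' : F' → G whose restriction to U is φ (composed with that isomorphism). -/
theorem result (X : Scheme.{u}) [IsLocallyNoetherian X] (F G : X.Modules)
    (hF : Coh.IsCoh F) (hG : Coh.IsCoh G) (U : X.Opens)
    (φ : (Scheme.Modules.restrictFunctor U.ι).obj F ⟶ (Scheme.Modules.restrictFunctor U.ι).obj G) :
    ∃ (F' : X.Modules) (ι : F' ⟶ F) (φ' : F' ⟶ G), Mono ι ∧ Coh.IsCoh F' ∧
      IsIso ((Scheme.Modules.restrictFunctor U.ι).map ι) ∧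
      (Scheme.Modules.restrictFunctor U.ι).map φ' = (Scheme.Modules.restrictFunctor U.ι).map ι ≫ φ := by
  haveI := hF.1
  haveI := hG.1
  haveI : QuasiCompact U.ι := inferInstance
  let adj := Scheme.Modules.restrictAdjunction U.ι
  let R := (Scheme.Modules.pushforward U.ι).obj ((Scheme.Modules.restrictFunctor U.ι).obj G)
  haveI : R.IsQuasicoherent := by
    haveI : ((Scheme.Modules.restrictFunctor U.ι).obj G).IsQuasicoherent :=
      inferInstanceAs (G.restrict U.ι).IsQuasicoherent
    exact QCoh.Pushforward.isQCoh_pushforward U.ι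
  let a : F ⟶ R := adj.homEquiv _ _ φ
  let b : G ⟶ R := adj.unit.app G
  let P := kernel (biprod.desc a (-b))
  have hP : Coh.IsCoh P :=
    CohBasics.Closure.isCoh_kernel _ (CohBasics.Closure.isCoh_biprod hF hG) inferInstance
  let p : P ⟶ F := kernel.ι _ ≫ biprod.fst
  let r : P ⟶ G := kernel.ι _ ≫ biprod.snd
  have hpr : p ≫ a = r ≫ b := by
    refine sub_eq_zero.mp ?_
    have e : biprod.fst ≫ a - biprod.snd ≫ b = biprod.desc a (-b) :=
      biprod.hom_ext' _ _ (by simp) (by simp)
    refine Eq.trans ?_ (kernel.condition (biprod.desc a (-b)))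
    exact (congrArg₂ (· - ·) (Category.assoc _ _ _) (Category.assoc _ _ _)).trans
      ((Preadditive.comp_sub _ _ _).symm.trans (congrArg (kernel.ι (biprod.desc a (-b)) ≫ ·) e))
  have hb : ∀ x ∈ U, Function.Bijective (stalkMapₗ b x) := fun x hx => by
    haveI : IsIso ((Scheme.Modules.restrictFunctor U.ι).map b) := by
      have := adj.left_triangle_components G
      exact IsIso.of_isIso_fac_right this
    exact CohDelta.IdealMul.Main.stalkMap_bijective b hx
  have hp : ∀ x ∈ U, Function.Bijective (stalkMapₗ p x) := fun x hx => by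
    refine ⟨(injective_iff_map_eq_zero _).mpr fun v hv => ?_, fun f => ?_⟩
    · have hrv : stalkMapₗ r x v = 0 := (hb x hx).1 (by
        rw [map_zero, ← LinearMap.comp_apply, ← stalkMapₗ_comp, ← hpr, stalkMapₗ_comp,
          LinearMap.comp_apply, hv, map_zero])
      refine (mono_iff_stalkMapₗ_injective (kernel.ι (biprod.desc a (-b)))).mp inferInstance x ?_
      rw [map_zero]
      rw [← LinearMap.id_apply (R := X.presheaf.stalk x) (stalkMapₗ (kernel.ι _) x v), ← stalkMapₗ_id,
        ← biprod.total, stalkMapₗ_add, LinearMap.add_apply, stalkMapₗ_comp, stalkMapₗ_comp,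
        LinearMap.comp_apply, LinearMap.comp_apply]
      have hv' : stalkMapₗ biprod.fst x (stalkMapₗ (kernel.ι (biprod.desc a (-b))) x v) = 0 := by
        rw [← LinearMap.comp_apply, ← stalkMapₗ_comp]
        exact hv
      have hrv' : stalkMapₗ biprod.snd x (stalkMapₗ (kernel.ι (biprod.desc a (-b))) x v) = 0 := by
        rw [← LinearMap.comp_apply, ← stalkMapₗ_comp]
        exact hrv
      rw [hv', hrv', map_zero, map_zero, add_zero]
    · obtain ⟨g, hg⟩ := (hb x hx).2 (stalkMapₗ a x f)
      let w := stalkMapₗ (biprod.inl : F ⟶ F ⊞ G) x f + stalkMapₗ (biprod.inr : G ⟶ F ⊞ G) x g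
      have hw : stalkMapₗ (biprod.desc a (-b)) x w = 0 := by
        rw [map_add, ← LinearMap.comp_apply, ← stalkMapₗ_comp, ← LinearMap.comp_apply,
          ← stalkMapₗ_comp, biprod.inl_desc, biprod.inr_desc]
        have hn : stalkMapₗ (-b) x g + stalkMapₗ b x g = 0 := by
          rw [← LinearMap.add_apply, ← stalkMapₗ_add, neg_add_cancel, stalkMapₗ_zero,
            LinearMap.zero_apply]
        rw [← hg, add_comm]
        exact hn
      obtain ⟨k, hk⟩ := H52.DevSummand.eq_stalk_kernel (biprod.desc a (-b)) w hw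
      refine ⟨k, ?_⟩
      rw [stalkMapₗ_comp, LinearMap.comp_apply, hk, map_add, ← LinearMap.comp_apply,
        ← stalkMapₗ_comp, ← LinearMap.comp_apply, ← stalkMapₗ_comp, biprod.inl_fst, biprod.inr_fst,
        stalkMapₗ_id, stalkMapₗ_zero, LinearMap.id_apply, LinearMap.zero_apply, add_zero]
  obtain ⟨L, hmono, hL⟩ := exists_ideal hP hF p U fun x hx => (hp x hx).1
  haveI := hP.1
  refine ⟨(Dual3.idealMul L).obj P, Dual3.idealMulι L P ≫ p, Dual3.idealMulι L P ≫ r, hmono,
    isCoh_idealMul L hP, CohDelta.IdealMul.DevExt.isIso_restrict _ fun x hx => ?_, ?_⟩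
  · rw [stalkMapₗ_comp, LinearMap.coe_comp]
    have h1 := CohDelta.IdealMul.DevExt.stalk_ι_bijective L P 1 (hL x hx)
    rw [pow_one] at h1
    exact (hp x hx).comp h1
  · refine map_eq_of_comp_eq adj φ _ _ ?_
    exact (Category.assoc _ _ _).trans
      ((congrArg (Dual3.idealMulι L P ≫ ·) hpr).trans (Category.assoc _ _ _).symm)

end Groth.Agent.S0816
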