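import Groth.Statements.S0817
import Groth.Agent.Lib.LCFin.Artinian
-- import your own Groth.Agent.* helpers here

set_option autoImplicit false
universe u
open LocCoh

namespace Groth.Agent.S0817

/-- Take a Noetherian local ring (A, 𝔪) and a finitely generated A-module M. For each i, the local
cohomology module H^i_𝔪(M) is Artinian over A (its submodules satisfy the descending chain
condition). (Part (2), about cohomology on the punctured spectrum, is not stated.) -/
theorem result (A : Type u) [CommRing A] [IsNoetherianRing A]
    [IsLocalRing A] (M : Type u) [AddCommGroup M] [Module A M] [Module.Finite A M] (i : ℕ) :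
    IsArtinian A (LocCoh.H (IsLocalRing.maximalIdeal A) i M) := by
  exact Groth.Agent.Lib.LCFin.Artinian.isArtinian_H (R := A) i M


end Groth.Agent.S0817
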