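import Groth.Statements.S0820
import Groth.Agent.Lib.CohDelta.IdealMul.FinPush

set_option autoImplicit false
set_option linter.style.haveILetI false
universe u
open Coherent

namespace Groth.Agent.S0820

open CategoryTheory AlgebraicGeometry in
/-- Let f : Y → X be finite and surjective with X locally Noetherian, and let i : Z → X be a closed
immersion from an integral scheme, ξ the image of the generic point of Z. Then some coherent
O_Y-module F has f_* F supported exactly on i(Z), with the stalk of f_* F at ξ killed by every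
element of 𝔪_{X,ξ}, the maximal ideal of O_{X,ξ}. -/
theorem result {Y X : Scheme.{u}} (f : Y ⟶ X) [IsFinite f]
    [Surjective f] [IsLocallyNoetherian X] (Z : Scheme.{u}) (i : Z ⟶ X) [IsClosedImmersion i] [IsIntegral Z] :
    ∃ F : Y.Modules, Coh.IsCoh F ∧ CohB1.support ((Coh.push f).obj F) = Set.range ⇑i ∧
      ∀ a ∈ IsLocalRing.maximalIdeal (X.presheaf.stalk (i (genericPoint Z))),
        ∀ m : ↑(((Coh.push f).obj F).presheaf.stalk (i (genericPoint Z))), a • m = 0 := by
  let ξ := i (genericPoint Z)
  obtain ⟨y, hy⟩ := f.surjective ξ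
  obtain ⟨hint, hgp⟩ := Groth.Agent.Lib.CohDelta.DevApps.isIntegral_ptIdeal y
  haveI := hint
  let j := (IntMult.ptIdeal y).subschemeι
  haveI : IsLocallyNoetherian Y := LocallyOfFiniteType.isLocallyNoetherian f
  haveI : IsFinite (j ≫ f) := inferInstance
  refine ⟨Cyc.closureStructureSheaf y,
    Groth.Agent.Lib.Devissage.Closure.isCoh_closureStructureSheaf y, ?_⟩
  let e : (Coh.push f).obj (Cyc.closureStructureSheaf y) ≅
      (Coh.push (j ≫ f)).obj (Coh.structureModule _) :=
    (Scheme.Modules.pushforwardComp j f).app _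
  have hξ : (j ≫ f) (genericPoint (IntMult.ptIdeal y).subscheme) = ξ := by
    show f (j (genericPoint _)) = ξ
    rw [hgp, hy]
  refine ⟨?_, fun a ha m => ?_⟩
  · rw [Groth.Agent.Lib.Modules.Support.support_congr e,
      Groth.Agent.Lib.CohDelta.IdealMul.FinPush.support_eq, hξ]
    exact (Groth.Agent.Lib.CohDelta.IdealMul.DevTools.range_eq_closure i).symm
  · have key : ∀ (x : X), x = ξ → ∀ (a : X.presheaf.stalk x), ¬ IsUnit a →
        ∀ v : ((Coh.push (j ≫ f)).obj (Coh.structureModule _)).presheaf.stalk x, a • v = 0 := by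
      rintro x rfl
      rw [← hξ]
      exact Groth.Agent.Lib.CohDelta.IdealMul.FinPush.killed (j ≫ f)
    apply (Groth.Agent.Lib.Modules.StalkModule.stalkLinearEquiv e ξ).injective
    rw [map_smul, map_zero]
    exact key ξ rfl a ((IsLocalRing.mem_maximalIdeal a).mp ha) _

end Groth.Agent.S0820
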