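import Groth.Statements.S0821
import Groth.Agent.H78.PrincipalAlg.FinalDepth

set_option autoImplicit false
universe u
open CategoryTheory
attribute [local instance] HasDerivedCategory.standard
open Formal2

namespace Groth.Agent.S0821

open AlgebraicGeometry Opposite in
/-- In the form of its final sentence (A complete). Let (A, 𝔪) be a Noetherian local ring with a
dualizing complex, f ∈ 𝔪 a nonzerodivisor with A f-adically complete, and U the punctured spectrum.
Let (F_n) be a coherent formal module on U for the ideal (f) (indices shifted by one) with each F_n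
finite locally free over O_U/f^nO_U. Assume depth (A/fA)_𝔭 + dim A/𝔭 > 1 for every non-maximal prime
𝔭 containing f, and depth A_𝔭 + dim A/𝔭 > 3 for every prime 𝔭 not containing f such that some
non-maximal prime contains 𝔭 and f. Then (F_n) is isomorphic to the system (F/f^nF) of a coherent
O_U-module F. -/
theorem result (A : Type u) [CommRing A]
    [IsNoetherianRing A] [IsLocalRing A] (hω : ∃ ω : Dual.D A, Dual.IsDualizing A ω) (f : A)
    (hf : f ∈ IsLocalRing.maximalIdeal A) (hnzd : f ∈ nonZeroDivisors A) [IsAdicComplete (Ideal.span {f}) A]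
    (G : ℕᵒᵖ ⥤ (↑(FEt.puncturedSpec A) : Scheme.{u}).Modules) (hG : Formal.IsCohFormal (Ideal.span {f}) G)
    (hfree : ∀ n : ℕ, Formal2.IsFinLocFreeMod (Ideal.span {f}) (n + 1) (G.obj (op n)))
    (h₅ : ∀ (p : Ideal A) [p.IsPrime], f ∈ p → p ≠ IsLocalRing.maximalIdeal A →
      (1 : WithBot ℕ∞) < ((LocCoh.depth (Localization.AtPrime p)
          (LocalizedModule p.primeCompl (A ⧸ Ideal.span {f})) : ℕ∞) : WithBot ℕ∞) + ringKrullDim (A ⧸ p))
    (h₆ : ∀ (p : Ideal A) [p.IsPrime], f ∉ p →
      (∃ r : Ideal A, r.IsPrime ∧ p ≤ r ∧ f ∈ r ∧ r ≠ IsLocalRing.maximalIdeal A) →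
      (3 : WithBot ℕ∞) < ((LocCoh.depth (Localization.AtPrime p) (Localization.AtPrime p) : ℕ∞) : WithBot ℕ∞) +
        ringKrullDim (A ⧸ p)) :
    ∃ F : (↑(FEt.puncturedSpec A) : Scheme.{u}).Modules, Coh.IsCoh F ∧
      Nonempty (Formal.completion (Ideal.span {f}) F ≅ G) := by
  refine Groth.Agent.H78.PrincipalAlg.FinalDepth.exists_completion_iso_depth hω hf hnzd
    (FEt.puncturedSpec A) ?_ G hG hfree h₅ h₆
  refine TopologicalSpace.Opens.ext ?_
  show ({IsLocalRing.closedPoint A}ᶜ : Set (PrimeSpectrum A)) =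
    (PrimeSpectrum.zeroLocus (R := A) (IsLocalRing.maximalIdeal A : Set A))ᶜ
  rw [PrimeSpectrum.zeroLocus_eq_singleton]
  rfl

end Groth.Agent.S0821
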