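import Groth.Statements.S0825
import Groth.Agent.Lib.LocalCoh.TransformExact
import Groth.Agent.Lib.LocalCoh.TransformDerived
-- import your own Groth.Agent.* helpers here

set_option autoImplicit false
universe u
open scoped BigOperators
open CategoryTheory CategoryTheory.Limits Opposite
open LocCoh

namespace Groth.Agent.S0825

/-- Let A be a Noetherian ring and I the ideal generated by f_1, …, f_r, with cohomological dimension
exactly 1. Then there are c ≥ 1 and A-linear maps φ_j : I^c → A such that x = Σ_j f_j φ_j(x) for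
every x ∈ I^c. -/
theorem result (A : Type u) [CommRing A] [IsNoetherianRing A] (r : ℕ) (f : Fin r → A)
    (h₁ : LocCoh.CdLE A (Ideal.span (Set.range f)) 1) (h₀ : ¬ LocCoh.CdLE A (Ideal.span (Set.range f)) 0) :
    ∃ (c : ℕ) (φ : Fin r → (↥(Ideal.span (Set.range f) ^ (c + 1)) →ₗ[A] A)),
      ∀ x : ↥(Ideal.span (Set.range f) ^ (c + 1)), (x : A) = ∑ j, f j * φ j x := by
  classical
  open Groth.Agent.Lib.LocalCoh in
  set I := Ideal.span (Set.range f) with hI
  have hex := (transform_exact_iff I).2 h₁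
  have htop := TransformExact.smul_top_of_exact I hex
  -- `1` is a combination of the generators in the transform
  obtain ⟨w, hw⟩ : ∃ w : Fin r → LocCoh.DT I A, LocCoh.toDT I A 1 = ∑ j, f j • w j := by
    suffices hall : ∀ z ∈ I • (⊤ : Submodule A (LocCoh.DT I A)), ∃ w : Fin r → LocCoh.DT I A, z = ∑ j, f j • w j from
      hall _ (by rw [htop]; trivial)
    intro z h1
    induction h1 using Submodule.smul_induction_on' with
    | smul a ha v _ =>
      obtain ⟨c, rfl⟩ := (Submodule.mem_span_range_iff_exists_fun A).1 ha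
      exact ⟨fun j => c j • v, by
        rw [Finset.sum_smul]
        exact Finset.sum_congr rfl fun j _ => by rw [smul_eq_mul, mul_comm, mul_smul]⟩
    | add x _ y _ hx hy =>
      obtain ⟨u, hu⟩ := hx
      obtain ⟨v, hv⟩ := hy
      exact ⟨u + v, by simp only [Pi.add_apply, smul_add, Finset.sum_add_distrib, hu, hv]⟩
  choose k φ hφ using fun j => exists_tι I (ModuleCat.of A A) (w j)
  let n : ℕ := (Finset.univ.sup fun j => (k j).unop.unop) + 1
  have hk : ∀ j, (k j).unop.unop ≤ n := fun j =>
    (Finset.le_sup (f := fun j => (k j).unop.unop) (Finset.mem_univ j)).trans (Nat.le_succ _)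
  let g : ∀ j, k j ⟶ op (op n) := fun j => (homOfLE (hk j)).op.op
  let ψ : Fin r → (((powSys I).obj (op (op n))).unop ⟶ ModuleCat.of A A) :=
    fun j => ((powSys I).map (g j)).unop ≫ φ j
  let T : (((powSys I).obj (op (op n))).unop ⟶ ModuleCat.of A A) →ₗ[A] LocCoh.DT I A :=
    ((colimit.ι (LocCoh.transformDiagram I) (op (op n))).app (ModuleCat.of A A)).hom
  have hT : ∀ j, T (ψ j) = w j := fun j => (tι_w I (g j) (ModuleCat.of A A) (φ j)).trans (hφ j)
  have hzero : T (∑ j, f j • ψ j - smulMap I (op (op n)) (ModuleCat.of A A) 1) = 0 := by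
    rw [map_sub, map_sum]
    simp only [map_smul, hT]
    rw [sub_eq_zero, ← hw]
    exact toDT_eq_tι I (ModuleCat.of A A) (op (op n)) 1
  obtain ⟨k', g', hg'⟩ := (tι_eq_zero_iff I (op (op n)) (ModuleCat.of A A) _).1 hzero
  obtain ⟨⟨m⟩⟩ := k'
  have hnm : n ≤ m := leOfHom g'.unop.unop
  obtain ⟨c, rfl⟩ : ∃ c, m = c + 1 := ⟨m - 1, by omega⟩
  refine ⟨c, fun j => (((powSys I).map g').unop ≫ ψ j).hom, fun x => ?_⟩
  let y : ((powSys I).obj (op (op n))).unop :=
    ((powSys I).map g').unop.hom (show ((powSys I).obj (op (op (c + 1)))).unop from x)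
  have h : (∑ j, f j • ψ j - smulMap I (op (op n)) (ModuleCat.of A A) 1).hom y = 0 :=
    ConcreteCategory.congr_hom hg' (show ((powSys I).obj (op (op (c + 1)))).unop from x)
  rw [ModuleCat.hom_sub, LinearMap.sub_apply, ModuleCat.hom_sum, LinearMap.sum_apply, sub_eq_zero] at h
  refine Eq.trans ?_ h.symm
  show (x : A) = (x : A) • (1 : A)
  rw [smul_eq_mul, mul_one]


end Groth.Agent.S0825
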