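import Groth.Statements.S0826
import Groth.Agent.S0870
import Groth.Agent.Lib.DerCat.ModGen
import Groth.Agent.Lib.DerCat.ProdPlus
import Groth.Agent.H78.Formal.LimSect
import Groth.Agent.Lib.SiteMod.Basic
import Groth.Agent.Lib.ZarCoh.Morph

set_option autoImplicit false
universe u
open Formal2

namespace Groth.Agent.S0826
open CategoryTheory CategoryTheory.Limits AlgebraicGeometry Opposite TopologicalSpace

lemma limOne_of_surjective (A : ℕ → Type u) [∀ n, AddCommGroup (A n)]
    (t : ∀ n, A (n + 1) →+ A n) (h : ∀ n, Function.Surjective (t n)) : CohCx.LimOneIsZero A t := by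
  intro a
  let b : ∀ n, A n := fun n => Nat.rec (motive := A) 0
    (fun m bm => Function.surjInv (h m) (bm - a m)) n
  exact ⟨b, funext fun n => by
    show b n - t n (Function.surjInv (h n) (b n - a n)) = a n
    rw [Function.surjInv_eq (h n)]; abel⟩

variable {A : Type u} [CommRing A] (I : Ideal A) {X : Scheme.{u}} [X.Over (Spec (CommRingCat.of A))]
  (G : ℕᵒᵖ ⥤ X.Modules) (hG : Formal2.IsQCohFormal I G)

/-- The underlying abelian sheaves of a system. -/
noncomputable abbrev absys : ℕᵒᵖ ⥤ CohTop.Ab (X : TopCat.{u}) := G ⋙ SheafOfModules.toSheaf _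

include hG in
theorem limit_acyclic (U : X.Opens) (hU : IsAffineOpen U) (p : ℕ) :
    Subsingleton (CohTop.HU (Coh.toAb (limit G)) (p + 1) U) := by
  letI : HasDerivedCategory.{u} (CohTop.Ab (X : TopCat.{u})) :=
    Groth.Agent.Lib.DerCat.ModGen.hasDerivedCategory
  let F : ℕ → CohTop.Ab (X : TopCat.{u}) := fun n => (absys G).obj (op n)
  let t : ∀ n, F (n + 1) ⟶ F n := fun n => (absys G).map (homOfLE (Nat.le_succ n)).op
  haveI : ∀ n, (G.obj (op n)).IsQuasicoherent := hG.1
  haveI : HasProduct fun n => (DerivedCategory.singleFunctor (CohTop.Ab (X : TopCat.{u})) 0).obj (F n) :=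
    Groth.Agent.Lib.DerCat.ProdPlus.hasProduct_of_isGE _ fun n => ⟨0, inferInstance⟩
  have h := (Groth.Agent.S0870.result F t {W | IsAffineOpen (W : X.Opens)}
    (Scheme.isBasis_affineOpens X)
    (fun W hW p n => Groth.Agent.Lib.ZarCoh.Affine.HU_subsingleton (G.obj (op n)) hW p)
    (fun W hW => limOne_of_surjective _ _ fun n =>
      (Groth.Agent.H78.Formal.LimSect.isSys hG hW).hf n)).2 U hU p
  let e : CohCx.opSequence F t ≅ absys G :=
    NatIso.ofComponents (fun n => Iso.refl _) (fun {a b} f => by
      have hnat := (NatTrans.ofOpSequence (F := CohCx.opSequence F t) (G := absys G)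
        (fun n => 𝟙 _) (fun n => by
          simp only [t, Functor.ofOpSequence_map_homOfLE_succ]
          exact (Category.comp_id _).trans (Category.id_comp _).symm)).naturality f
      exact hnat)
  haveI : PreservesLimitsOfSize.{0, 0} (SheafOfModules.toSheaf.{u} X.ringCatSheaf) :=
    preservesSmallestLimits_of_preservesLimits _
  haveI hps : PreservesLimitsOfShape ℕᵒᵖ (SheafOfModules.toSheaf.{u} X.ringCatSheaf) :=
    PreservesLimitsOfSize.preservesLimitsOfShape
  let T : X.Modules ⥤ CohTop.Ab (X : TopCat.{u}) := SheafOfModules.toSheaf _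
  haveI : PreservesLimit G T := @PreservesLimitsOfShape.preservesLimit _ _ _ _ _ _ _ hps G
  let e' : limit (CohCx.opSequence F t) ≅ Coh.toAb (limit G) :=
    HasLimit.isoOfNatIso e ≪≫ (preservesLimitIso T G).symm
  exact Equiv.subsingleton
    ((Sheaf.cohomologyPresheafFunctor _ (p + 1)).mapIso e'.symm |>.app (op U)).addCommGroupIsoToAddEquiv.toEquiv


open CategoryTheory CategoryTheory.Limits AlgebraicGeometry in
/-- Part (2), for the ideal sheaf generated by an ideal I of a base ring A. Let X be a scheme over Spec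
A and (G_n) an inverse system of quasi-coherent O_X-modules with G_n killed by I^(n+1) and G_n =
G_{n+1}/I^(n+1)G_{n+1} (indices shifted by one). Then the limit O_X-module lim G_n has vanishing
cohomology in positive degrees over every affine open of X. -/
theorem result (A : Type u) [CommRing A] (I : Ideal A) (X : Scheme.{u})
    [X.Over (Spec (CommRingCat.of A))] (G : ℕᵒᵖ ⥤ X.Modules) (hG : Formal2.IsQCohFormal I G)
    (U : X.Opens) (hU : IsAffineOpen U) (p : ℕ) (hp : 0 < p) :
    Subsingleton (Coh.HHon X (limit G) U p) := by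
  obtain ⟨q, rfl⟩ : ∃ q, p = q + 1 := ⟨p - 1, by omega⟩
  haveI := limit_acyclic I G hG U hU q
  exact (Groth.Agent.Lib.ZarCoh.Morph.nonempty_HHon_equiv (limit G) U (q + 1)).some.toEquiv.subsingleton

end Groth.Agent.S0826
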