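import Groth.Statements.S0827
import Groth.Agent.Lib.TowerExt.Opens
import Groth.Agent.H78.Formal.LimSect
import Groth.Agent.Lib.SiteMod.Basic
import Groth.Agent.Lib.ZarCoh.Affine

set_option autoImplicit false
universe u
open Formal2

namespace Groth.Agent.S0827
open CategoryTheory CategoryTheory.Limits AlgebraicGeometry Opposite TopologicalSpace CategoryTheory.Abelian
open Groth.Agent.Lib

variable {C : Type (u + 1)} [Category.{u} C] [Abelian C] [HasExt.{u} C]

lemma pushExt_comp {F G H : C} (f : F ⟶ G) (g : G ⟶ H) (P : C) (n : ℕ) (x : Ext.{u} P F n) :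
    (Ext.mk₀ (f ≫ g)).postcomp P (add_zero n) x =
      (Ext.mk₀ g).postcomp P (add_zero n) ((Ext.mk₀ f).postcomp P (add_zero n) x) := by
  change x.comp (Ext.mk₀ (f ≫ g)) (add_zero n) =
    (x.comp (Ext.mk₀ f) (add_zero n)).comp (Ext.mk₀ g) (add_zero n)
  rw [Ext.comp_assoc_of_second_deg_zero, Ext.mk₀_comp_mk₀]

lemma pushExt_id {F : C} (P : C) (n : ℕ) (x : Ext.{u} P F n) :
    (Ext.mk₀ (𝟙 F)).postcomp P (add_zero n) x = x := Ext.comp_mk₀_id x

/-- The general form: the sequence for cohomology of a limit. -/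
theorem ses {F : ℕᵒᵖ ⥤ C} [HasLimitsOfShape ℕᵒᵖ C]
    [HasLimitsOfShape (Discrete ℕ) C] {L : C} (e : L ≅ limit F) (π : ∀ n, L ⟶ F.obj (op n))
    (he : ∀ n, e.hom ≫ limit.π F (op n) = π n) (P : C) (p : ℕ)
    (hex : ∀ ξ : ∀ n, Ext.{u} P (TowerExt.obj F n) (p + 1),
      (∀ n, (Ext.mk₀ (TowerExt.trans F n)).postcomp P (add_zero _) (ξ (n + 1)) = ξ n) →
        ∃ η : Ext.{u} P (limit F) (p + 1), TowerExt.limCompare F P (p + 1) η = ξ)
    (hcmp : ∀ η n, TowerExt.limCompare F P (p + 1) η n =
      (Ext.mk₀ (limit.π F (op n))).postcomp P (add_zero _) η)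
    (hker : Nonempty ((TowerExt.limCompare F P (p + 1)).ker ≃+
      Formal2.limOne (fun n => Ext.{u} P (TowerExt.obj F n) p)
        (fun n => (Ext.mk₀ (TowerExt.trans F n)).postcomp P (add_zero p)))) :
    ∃ (α : Formal2.limOne (fun n => Ext.{u} P (F.obj (op n)) p)
          (fun n => (Ext.mk₀ (F.map (homOfLE (Nat.le_succ n)).op)).postcomp P (add_zero p)) →+
        Ext.{u} P L (p + 1))
      (β : Ext.{u} P L (p + 1) →+
        Formal2.limZero (fun n => Ext.{u} P (F.obj (op n)) (p + 1))
          (fun n => (Ext.mk₀ (F.map (homOfLE (Nat.le_succ n)).op)).postcomp P (add_zero _))),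
      Function.Injective α ∧ Function.Surjective β ∧ α.range = β.ker ∧
      ∀ (x : Ext.{u} P L (p + 1)) (n : ℕ),
        (β x : ∀ n, Ext.{u} P (F.obj (op n)) (p + 1)) n =
          (Ext.mk₀ (π n)).postcomp P (add_zero _) x := by
  obtain ⟨k⟩ := hker
  have hw : ∀ n, π (n + 1) ≫ F.map (homOfLE (Nat.le_succ n)).op = π n := fun n => by
    rw [← he, ← he, Category.assoc, limit.w]
  let β : Ext.{u} P L (p + 1) →+ Formal2.limZero (fun n => Ext.{u} P (F.obj (op n)) (p + 1))
      (fun n => (Ext.mk₀ (F.map (homOfLE (Nat.le_succ n)).op)).postcomp P (add_zero _)) :=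
    (AddMonoidHom.pi fun n => (Ext.mk₀ (π n)).postcomp P (add_zero _)).codRestrict _ fun x => by
      refine AddMonoidHom.mem_ker.2 (funext fun n => ?_)
      show _ - _ = (0 : Ext.{u} P (F.obj (op n)) (p + 1))
      simp only [AddMonoidHom.pi_apply]
      rw [← pushExt_comp, hw, sub_self]
  let push : Ext.{u} P (limit F) (p + 1) →+ Ext.{u} P L (p + 1) :=
    (Ext.mk₀ e.inv).postcomp P (add_zero _)
  have hβ : ∀ η n, (β (push η) : ∀ n, Ext.{u} P (F.obj (op n)) (p + 1)) n =
      TowerExt.limCompare F P (p + 1) η n := fun η n => by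
    rw [hcmp]
    show (Ext.mk₀ (π n)).postcomp P (add_zero _) ((Ext.mk₀ e.inv).postcomp P (add_zero _) η) = _
    rw [← pushExt_comp, ← he, Iso.inv_hom_id_assoc]
  have hpush : Function.Bijective push := by
    refine Function.bijective_iff_has_inverse.2
      ⟨(Ext.mk₀ e.hom).postcomp P (add_zero _), fun x => ?_, fun x => ?_⟩ <;>
    · dsimp only [push]
      rw [← pushExt_comp]
      simp [pushExt_id]
  refine ⟨push.comp ((AddSubgroup.subtype _).comp k.symm.toAddMonoidHom), β,
    hpush.1.comp (Subtype.val_injective.comp k.symm.injective), fun ξ => ?_, ?_, fun x n => rfl⟩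
  · obtain ⟨η, hη⟩ := hex ξ.1 fun n => by
      have := congrFun (AddMonoidHom.mem_ker.1 ξ.2) n
      exact (sub_eq_zero.1 this).symm
    exact ⟨push η, Subtype.ext (funext fun n => (hβ η n).trans (congrFun hη n))⟩
  · ext x
    constructor
    · rintro ⟨y, rfl⟩
      refine AddMonoidHom.mem_ker.2 (Subtype.ext (funext fun n => (hβ _ n).trans ?_))
      exact congrFun (AddMonoidHom.mem_ker.1 (k.symm y).2) n
    · intro hx
      obtain ⟨η, rfl⟩ := hpush.2 x
      have hmem : η ∈ (TowerExt.limCompare F P (p + 1)).ker := AddMonoidHom.mem_ker.2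
        (funext fun n => (hβ η n).symm.trans
          (congrFun (congrArg Subtype.val (AddMonoidHom.mem_ker.1 hx)) n))
      exact ⟨k ⟨η, hmem⟩, by simp⟩


set_option maxHeartbeats 1600000 in
open CategoryTheory CategoryTheory.Limits AlgebraicGeometry Opposite in
/-- Part (3), for the ideal sheaf generated by an ideal I of a base ring A. Let X be a scheme over Spec
A and (G_n) an inverse system of quasi-coherent O_X-modules with G_n killed by I^(n+1) and G_n =
G_{n+1}/I^(n+1)G_{n+1}. Then for every p there is a short exact sequence 0 → R^1 lim_n H^p(X, G_n) →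
H^(p+1)(X, lim G_n) → lim_n H^(p+1)(X, G_n) → 0 of abelian groups, the second map being induced by
the projections lim G_n → G_n (the degree-0 statement is not restated). -/
theorem result (A : Type u) [CommRing A] (I : Ideal A) (X : Scheme.{u})
    [X.Over (Spec (CommRingCat.of A))] (G : ℕᵒᵖ ⥤ X.Modules) (hG : Formal2.IsQCohFormal I G) (p : ℕ) :
    ∃ (α : Formal2.limOne (fun n => Coh.HH X (G.obj (op n)) p) (Formal2.HHsysMap G p) →+
        Coh.HH X (limit G) (p + 1))
      (β : Coh.HH X (limit G) (p + 1) →+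
        Formal2.limZero (fun n => Coh.HH X (G.obj (op n)) (p + 1)) (Formal2.HHsysMap G (p + 1))),
      Function.Injective α ∧ Function.Surjective β ∧ α.range = β.ker ∧
      ∀ (x : Coh.HH X (limit G) (p + 1)) (n : ℕ),
        (β x : ∀ n, Coh.HH X (G.obj (op n)) (p + 1)) n =
          Sheaf.H.map ((SheafOfModules.toSheaf _).map (limit.π G (op n))) (p + 1) x := by
  haveI : ∀ n, (G.obj (op n)).IsQuasicoherent := hG.1
  let T : X.Modules ⥤ CohTop.Ab (X : TopCat.{u}) := SheafOfModules.toSheaf _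
  haveI hps : PreservesLimitsOfShape ℕᵒᵖ (SheafOfModules.toSheaf.{u} X.ringCatSheaf) :=
    (preservesSmallestLimits_of_preservesLimits (SheafOfModules.toSheaf.{u} X.ringCatSheaf)).preservesLimitsOfShape
  haveI : PreservesLimit G T := @PreservesLimitsOfShape.preservesLimit _ _ _ _ _ _ _ hps G
  let B : Set (Opens X) := {W | IsAffineOpen (W : X.Opens)}
  have hd : TowerExt.Detects (TowerExt.Opens.gen (X := (X : TopCat.{u})) B) := TowerExt.Opens.detects B (Scheme.isBasis_affineOpens X)
  have ha := TowerExt.Opens.acyclic B (G ⋙ T) fun W hW n i hi => by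
    obtain ⟨q, rfl⟩ : ∃ q, i = q + 1 := ⟨i - 1, by omega⟩
    exact ZarCoh.Affine.HU_subsingleton (G.obj (op n)) hW q
  have hl := TowerExt.Opens.lift_trans B (G ⋙ T) fun W hW n =>
    (Groth.Agent.H78.Formal.LimSect.isSys hG hW).hf n
  let P : CohTop.Ab (X : TopCat.{u}) := (constantSheaf (Opens.grothendieckTopology X)
    AddCommGrpCat.{u}).obj (AddCommGrpCat.of (ULift.{u} ℤ))
  exact ses (preservesLimitIso T G) (fun n => T.map (limit.π G (op n)))
    (fun n => preservesLimitIso_hom_π T G (op n)) P p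
    (fun ξ hξ => TowerExt.exists_limCompare_eq (G ⋙ T) hd ha hl P (p + 1) ξ hξ)
    (fun η n => rfl)
    (TowerExt.nonempty_ker_equiv (G ⋙ T) hd ha hl P (p + 1) p rfl)

end Groth.Agent.S0827
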