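import Groth.Statements.S0828
import Groth.Agent.S0605
import Groth.Agent.Lib.RefHull.LocFree
import Groth.Agent.Lib.Depth.CM
import Groth.Agent.Lib.JacCrit.FlatRegular
import Groth.Agent.Lib.QCoh.Stalk
import Groth.Agent.Lib.Regular.Quotient
import Mathlib

set_option autoImplicit false
universe u
open Coherent

namespace Groth.Agent.S0828
open CategoryTheory AlgebraicGeometry Groth.Agent.Lib

theorem cm_of_free (R : Type u) [CommRing R] [IsRegularLocalRing R] (M : Type u) [AddCommGroup M]
    [Module R M] [Module.Finite R M] [Module.Free R M] [Nontrivial M] :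
    LocCoh.IsCohenMacaulayModule R M := by
  haveI := JacCrit.FlatRegular.isCohenMacaulayLocalRing R
  rw [Depth.CM.isCohenMacaulayModule_iff_le]
  obtain ⟨d, hd⟩ := Depth.CM.supportDim_eq_nat (R := R) R
  have hdR : LocCoh.depth R R = (d : ℕ∞) :=
    WithBot.coe_injective ((LocCoh.IsCohenMacaulayLocalRing.supportDim_eq_depth (R := R)).symm.trans hd)
  refine (Module.supportDim_le_ringKrullDim R M).trans ?_
  rw [← Module.supportDim_self_eq_ringKrullDim, hd, WithBot.coe_le_coe]
  obtain ⟨rs, h1, h2, h3⟩ := ((Depth.Basic.le_depth_iff (R := R) (M := R) d).mp hdR.ge)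
  refine (Depth.Basic.le_idealDepth_iff d).mpr (Or.inr ⟨rs, h1, h2, ?_⟩)
  exact (TensorProduct.rid R M).isWeaklyRegular_congr rs |>.mp (h3.toIsWeaklyRegular.isWeaklyRegular_lTensor (M₂ := M))

theorem annihilator_stalk_eq_bot {X : Scheme.{u}} [IsReduced X] (F : X.Modules) [F.IsQuasicoherent]
    (hft : ∀ U : X.Opens, IsAffineOpen U → Module.Finite Γ(X, U) Γ(F, U))
    (hsupp : CohB1.support F = Set.univ) (x : X) :
    Module.annihilator (X.presheaf.stalk x) (F.presheaf.stalk x) = ⊥ := by
  classical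
  refine eq_bot_iff.mpr fun a ha => ?_
  rw [Module.mem_annihilator] at ha
  obtain ⟨U, hU, hxU, -⟩ := exists_isAffineOpen_mem_and_subset (X := X) (x := x) (U := ⊤) trivial
  letI := TopCat.Presheaf.algebra_section_stalk X.presheaf ⟨x, hxU⟩
  haveI : IsLocalization.AtPrime (X.presheaf.stalk x) (hU.primeIdealOf ⟨x, hxU⟩).asIdeal :=
    hU.isLocalization_stalk ⟨x, hxU⟩
  obtain ⟨⟨f, w⟩, hfw⟩ := IsLocalization.surj (hU.primeIdealOf ⟨x, hxU⟩).asIdeal.primeCompl a
  have hw : IsUnit (X.presheaf.germ U x hxU w.1) := IsLocalization.map_units (X.presheaf.stalk x) w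
  replace hfw : a * X.presheaf.germ U x hxU w.1 = X.presheaf.germ U x hxU f := hfw
  obtain ⟨T, hT⟩ := (hft U hU).fg_top
  have hkill : ∀ t : Γ(F, U), ∃ g : Γ(X, U), x ∈ X.basicOpen g ∧ g • (f • t) = 0 := fun t => by
    refine (QCoh.Stalk.germ_eq_zero_iff F hU hxU _).mp ?_
    rw [Modules.StalkModule.germ_smul, ← hfw, mul_smul, ha]
  choose g hg hg0 using hkill
  let G := ∏ t ∈ T, g t
  have hGx : IsUnit (X.presheaf.germ U x hxU G) := by
    simp only [G, map_prod]
    exact IsUnit.prod_iff.mpr fun t _ => (RingedSpace.mem_basicOpen _ (g t) x hxU).mp (hg t)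
  have hGf : ∀ t : Γ(F, U), (G * f) • t = 0 := by
    intro t
    have ht : t ∈ Submodule.span Γ(X, U) (T : Set Γ(F, U)) := hT ▸ Submodule.mem_top
    induction ht using Submodule.span_induction with
    | mem t ht =>
      obtain ⟨c, hc⟩ := Finset.dvd_prod_of_mem g ht
      simp only [G]
      rw [hc, show g t * c * f = c * (g t * f) by ring, mul_smul, mul_smul, hg0, smul_zero]
    | zero => exact smul_zero _
    | add a b _ _ h1 h2 => rw [smul_add, h1, h2, add_zero]
    | smul r a _ h1 => rw [smul_comm, h1, smul_zero]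
  have hbot : X.basicOpen (G * f) = ⊥ := by
    refine TopologicalSpace.Opens.ext (Set.eq_empty_iff_forall_notMem.mpr fun y hy => ?_)
    have hyU : y ∈ U := X.basicOpen_le _ hy
    have hy' : IsUnit (X.presheaf.germ U y hyU (G * f)) := (RingedSpace.mem_basicOpen _ _ y hyU).mp hy
    have hmem : y ∈ CohB1.support F := hsupp ▸ Set.mem_univ y
    refine hmem (subsingleton_of_forall_eq 0 fun z => ?_)
    obtain ⟨u, t, hu, hz⟩ := QCoh.Stalk.exists_smul_eq_germ F hU hyU z
    have h1 : X.presheaf.germ U y hyU (G * f) • F.presheaf.germ U y hyU t = 0 := by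
      rw [← Modules.StalkModule.germ_smul, hGf, map_zero]
    rw [← hz, smul_smul] at h1
    exact (hy'.mul ((RingedSpace.mem_basicOpen _ u y hyU).mp hu)).smul_eq_zero.mp h1
  have h0 : G * f = 0 := (AlgebraicGeometry.basicOpen_eq_bot_iff _).mp hbot
  have h2 : X.presheaf.germ U x hxU G * X.presheaf.germ U x hxU f = 0 := by rw [← map_mul, h0, map_zero]
  rw [hGx.mul_right_eq_zero] at h2
  rw [h2] at hfw
  exact (hw.mul_left_eq_zero).mp hfw


open CategoryTheory AlgebraicGeometry in
/-- Let X be a regular scheme (locally Noetherian with regular local rings) and F a coherent O_X-module.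
Then F has support all of X and Cohen–Macaulay stalks if and only if F is finite locally free of
positive rank near every point. -/
theorem result (X : Scheme.{u}) [IsLocallyNoetherian X]
    (hreg : ∀ x : X, IsRegularLocalRing (X.presheaf.stalk x)) (F : X.Modules) (hF : Coh.IsCoh F) :
    (CohB1.support F = Set.univ ∧
        ∀ x : X, LocCoh.IsCohenMacaulayModule (X.presheaf.stalk x) ↑(F.presheaf.stalk x)) ↔
      ∀ x : X, ∃ (U : X.Opens) (n : ℕ), x ∈ U ∧ 0 < n ∧
        Nonempty (F.restrict U.ι ≅ FlatMod.freeMod (↑U) n) := by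
  have hdom : ∀ x : X, IsDomain (X.presheaf.stalk x) := fun x => by
    haveI := hreg x
    exact Groth.Agent.Lib.Regular.Quotient.isDomain _
  haveI : ∀ x : X, _root_.IsReduced (X.presheaf.stalk x) := fun x => by
    haveI := hdom x
    infer_instance
  haveI : AlgebraicGeometry.IsReduced X := isReduced_of_isReduced_stalk X
  haveI : F.IsQuasicoherent := hF.1
  constructor
  · rintro ⟨hs, hcm⟩ x
    have hfree : ∀ y : X, Module.Free (X.presheaf.stalk y) (F.presheaf.stalk y) := fun y => by
      haveI := hreg y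
      haveI := RefHull.LocFree.finite_stalk hF y
      refine Groth.Agent.S0605.result _ _ ?_
      rw [← hcm y, Module.supportDim_eq_ringKrullDim_quotient_annihilator,
        annihilator_stalk_eq_bot F (fun U hU => CohBasics.Closure.finite_sections hF hU) hs y]
      exact ringKrullDim_eq_of_ringEquiv (RingEquiv.quotientBot _)
    obtain ⟨U, n, hxU, ⟨i⟩⟩ := RefHull.LocFree.isFinLocFree hF hfree x
    refine ⟨U, n, hxU, Nat.pos_of_ne_zero fun hn => ?_, ⟨i⟩⟩
    subst hn
    obtain ⟨s, hb⟩ := CurveBundle.Coherent.exists_basis_sections i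
    have : x ∈ CohB1.support F := hs ▸ Set.mem_univ x
    exact this (Module.Basis.mk (hb x hxU).1 (hb x hxU).2.ge).repr.toEquiv.subsingleton
  · intro h
    have hb : ∀ y : X, ∃ n : ℕ, 0 < n ∧ Nonempty (Module.Basis (Fin n) (X.presheaf.stalk y) (F.presheaf.stalk y)) := by
      intro y
      obtain ⟨U, n, hyU, hn, ⟨i⟩⟩ := h y
      obtain ⟨s, hb⟩ := CurveBundle.Coherent.exists_basis_sections i
      exact ⟨n, hn, ⟨Module.Basis.mk (hb y hyU).1 (hb y hyU).2.ge⟩⟩
    have hnt : ∀ y : X, Nontrivial (F.presheaf.stalk y) := fun y => by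
      obtain ⟨n, hn, ⟨b⟩⟩ := hb y
      haveI : Nonempty (Fin n) := Fin.pos_iff_nonempty.mp hn
      exact b.repr.toEquiv.nontrivial
    refine ⟨Set.eq_univ_of_forall fun y => not_subsingleton_iff_nontrivial.mpr (hnt y), fun y => ?_⟩
    haveI := hreg y
    haveI := hnt y
    obtain ⟨n, hn, ⟨b⟩⟩ := hb y
    haveI := Module.Free.of_basis b
    haveI := Module.Finite.of_basis b
    exact cm_of_free _ _

end Groth.Agent.S0828
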