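import Groth.Statements.S0834
import Groth.Agent.H78.Formal.Kernel

set_option autoImplicit false
universe u
open Formal2

namespace Groth.Agent.S0834

open CategoryTheory CategoryTheory.Limits AlgebraicGeometry in
/-- Let A be a ring, I ⊆ A an ideal and X a Noetherian scheme over Spec A. Then the full subcategory of
inverse systems of 𝒪_X-modules formed by the coherent formal modules for the ideal sheaf I·𝒪_X has
kernels. (This is the kernel half of the statement that this category is abelian; cokernels are
componentwise, and abelianness itself is not asserted here.) -/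
theorem result (A : Type u) [CommRing A] (I : Ideal A) (X : Scheme.{u})
    [X.Over (Spec (CommRingCat.of A))] [IsNoetherian X] : HasKernels (Formal2.CohFormalCat I X) := by
  refine ⟨fun {F G} φ => ?_⟩
  obtain ⟨k, hk⟩ := Groth.Agent.H78.Formal.Uniform.exists_kernel_bound F.property G.property φ.hom
  let K : Formal2.CohFormalCat I X :=
    ⟨_, Groth.Agent.H78.Formal.Kernel.isCohFormal φ.hom k F.property G.property hk⟩
  let i : K ⟶ F := ObjectProperty.homMk (Groth.Agent.H78.Formal.Kernel.ι φ.hom k F.property G.property)
  have hi : i ≫ φ = 0 := by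
    apply ObjectProperty.hom_ext
    exact Groth.Agent.H78.Formal.Kernel.ι_comp φ.hom k F.property G.property
  have h : ∀ {Z : Formal2.CohFormalCat I X} (g : Z ⟶ F), g ≫ φ = 0 → ∃! γ : Z ⟶ K, γ ≫ i = g := by
    intro Z g hg
    obtain ⟨γ, hγ, huniq⟩ := Groth.Agent.H78.Formal.Kernel.existsUnique_lift φ.hom k F.property
      G.property Z.property g.hom (congrArg (fun χ => χ.hom) hg)
    refine ⟨ObjectProperty.homMk γ, ObjectProperty.hom_ext _ hγ, fun γ' hγ' => ?_⟩
    exact ObjectProperty.hom_ext _ (huniq γ'.hom (congrArg (fun χ => χ.hom) hγ'))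
  exact ⟨⟨KernelFork.ofι i hi, KernelFork.IsLimit.ofι i hi (fun g hg => (h g hg).choose)
    (fun g hg => (h g hg).choose_spec.1) fun g hg m hm => (h g hg).choose_spec.2 m hm⟩⟩

end Groth.Agent.S0834
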