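import Groth.Statements.S0842
import Groth.Agent.S0825
import Groth.Agent.S0827
import Groth.Agent.H2.FormalLimit.PowMap
import Groth.Agent.H2.FormalLimit.Coeff
import Groth.Agent.Lib.Curves.GlobalSections

set_option autoImplicit false
universe u
open scoped BigOperators
open Formal2

namespace Groth.Agent.S0842

open CategoryTheory CategoryTheory.Limits AlgebraicGeometry Opposite TopologicalSpace
open Groth.Agent.H78.FormalFun.Basic Groth.Agent.H2.FormalLimit.PowMap
open Groth.Agent.Lib.Curves.LES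

variable {A : Type u} [CommRing A] {X : Scheme.{u}} [X.Over (Spec (CommRingCat.of A))]

theorem cokernel_π_factors {C : Type*} [Category C] [Abelian C] {P M Q : C} (s : P ⟶ M) (t : M ⟶ Q)
    (h : s ≫ t = 0) (hi : IsIso (cokernel.desc s t h)) :
    ∃ χ : Q ⟶ cokernel s, cokernel.π s = t ≫ χ :=
  ⟨inv (cokernel.desc s t h), by rw [IsIso.eq_comp_inv, cokernel.π_desc]⟩

theorem H_add (p : ℕ) {M N : X.Modules} (φ ψ : M ⟶ N) (x : Coh.HH X M p) :
    H (A := A) p (φ + ψ) x = H (A := A) p φ x + H (A := A) p ψ x := by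
  have h0 : toAbMap (φ + ψ) = toAbMap φ + toAbMap ψ := (F X).map_add
  show Sheaf.H.map (toAbMap (φ + ψ)) p x = Sheaf.H.map (toAbMap φ) p x + Sheaf.H.map (toAbMap ψ) p x
  rw [h0, Sheaf.H.map_apply, Sheaf.H.map_apply, Sheaf.H.map_apply, Abelian.Ext.mk₀_add, Abelian.Ext.comp_add]

theorem H_sum (p : ℕ) {M N : X.Modules} {ι : Type*} (s : Finset ι) (φ : ι → (M ⟶ N)) (x : Coh.HH X M p) :
    H (A := A) p (∑ i ∈ s, φ i) x = ∑ i ∈ s, H (A := A) p (φ i) x := by
  classical
  induction s using Finset.induction_on with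
  | empty => rw [Finset.sum_empty, Finset.sum_empty, H_zero]
  | insert i s hi ih => rw [Finset.sum_insert hi, Finset.sum_insert hi, H_add, ih]

variable [IsNoetherian X] [IsNoetherianRing A]

/-- Classes coming from `I^N F` lie in `I^m H(F)`. -/
theorem exists_image_le (I : Ideal A) {r : ℕ} (f : Fin r → A) (hf : ∀ j, f j ∈ I) (c : ℕ)
    (φ : Fin r → (↥(I ^ c) →ₗ[A] A)) (hφ : ∀ x : ↥(I ^ c), (x : A) = ∑ j, f j * φ j x)
    (M : X.Modules) {k : ℕ} (hTF : TF I k M) (p : ℕ) (m : ℕ) :
    ∃ N, ∀ w : Coh.HH X (Formal2.idealPowMod I N M) p,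
      H (A := A) p (Formal2.idealPowModι I N M) w ∈ I ^ m • (⊤ : Submodule A (Coh.HH X M p)) := by
  classical
  induction m with
  | zero => exact ⟨0, fun w => by rw [pow_zero, Ideal.one_eq_top, Submodule.top_smul]; trivial⟩
  | succ m ih =>
    obtain ⟨N, hN⟩ := ih
    let N' := N + k + c
    have hc : c ≤ N' := Nat.le_add_left _ _
    let C : Fin r → A → A := fun j g =>
      if hg : g ∈ I ^ N' then φ j ⟨g, Ideal.pow_le_pow_right hc hg⟩ else 0
    have hC : ∀ (j : Fin r) (g : A) (hg : g ∈ I ^ N'),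
        C j g = φ j ⟨g, Ideal.pow_le_pow_right hc hg⟩ := fun j g hg => dif_pos hg
    have hmem : ∀ (j : Fin r) (g : A), g ∈ I ^ N' → C j g ∈ I ^ (N + k) := fun j g hg => by
      rw [hC j g hg]
      exact Groth.Agent.H2.FormalLimit.Coeff.apply_mem (φ j) (N + k) hg _
    choose ψ hψ using fun j => exists_component (n := N') hTF (C j) (fun g hg h hh => by
      rw [hC j g hg, hC j h hh, ← smul_eq_mul, ← smul_eq_mul, ← map_smul, ← map_smul]
      congr 1
      exact Subtype.ext (mul_comm _ _))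
      (Or.inl fun g hg => Ideal.pow_le_pow_right (Nat.le_add_left _ _) (hmem j g hg))
    have hι : Formal2.idealPowModι I N' M = ∑ j, ψ j ≫ _root_.Formal.smulMod A M (f j) := by
      refine hom_ext_gens fun g => ?_
      rw [ι_gens, Preadditive.comp_sum]
      have e : ((g : A)) = ∑ j, C j g * f j := by
        exact (hφ ⟨g, Ideal.pow_le_pow_right hc g.2⟩).trans
          (Finset.sum_congr rfl fun j _ => by rw [hC j g g.2, mul_comm])
      conv_lhs => rw [e, smulMod_sum]
      refine Finset.sum_congr rfl fun j _ => ?_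
      rw [← Category.assoc, hψ j g, Groth.Agent.H78.Formal.Principal.smulMod_mul]
    refine ⟨N', fun w => ?_⟩
    rw [hι, H_sum]
    refine Submodule.sum_mem _ fun j _ => ?_
    rw [H_comp, H_smulMod, pow_succ', Submodule.mul_smul]
    refine Submodule.smul_mem_smul (hf j) ?_
    have hπ : ψ j ≫ _root_.Formal.modPowπ I N M = 0 :=
      component_π (C j) (fun g hg => Ideal.pow_le_pow_right (Nat.le_add_right _ _) (hmem j g hg)) (ψ j) (hψ j)
    rw [← kernel.lift_ι _ (ψ j) hπ, H_comp]
    exact hN _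

/-- Compatible families of classes lift to the limit. -/
theorem exists_lift {I : Ideal A} {G : ℕᵒᵖ ⥤ X.Modules} (hG : _root_.Formal.IsCohFormal I G) (p : ℕ)
    (x : ∀ n, Coh.HH X (G.obj (op n)) p) (hx : ∀ n, Formal2.HHsysMap G p n (x (n + 1)) = x n) :
    ∃ ξ : Coh.HH X (limit G) p, ∀ n, H (A := A) p (limit.π G (op n)) ξ = x n := by
  cases p with
  | succ p =>
    obtain ⟨α, β, -, hβ, -, hβπ⟩ :=
      Groth.Agent.S0827.result A I X G (isQCohFormal hG) p
    obtain ⟨ξ, hξ⟩ := hβ ⟨x, funext fun n => sub_eq_zero.2 (hx n).symm⟩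
    exact ⟨ξ, fun n => (hβπ ξ n).symm.trans (congrFun (congrArg Subtype.val hξ) n)⟩
  | zero =>
    have hnat : ∀ {M N : X.Modules} (φ : M ⟶ N) (y : Coh.HH X M 0),
        φ.app ⊤ (Groth.Agent.Lib.Curves.GlobalSections.h0Equiv M y) =
          Groth.Agent.Lib.Curves.GlobalSections.h0Equiv N (H (A := A) 0 φ y) := fun φ y =>
      Sheaf.H.equiv₀_naturality (f := toAbMap φ) _ y
    obtain ⟨s, hs⟩ := Groth.Agent.H78.Formal.LimSect.exists_section G (U := ⊤)
      (fun n => Groth.Agent.Lib.Curves.GlobalSections.h0Equiv (G.obj (op n)) (x n)) fun n => by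
        refine (hnat (G.map (homOfLE (Nat.le_succ n)).op) (x (n + 1))).trans ?_
        exact congrArg _ (hx n)
    refine ⟨(Groth.Agent.Lib.Curves.GlobalSections.h0Equiv (limit G)).symm s, fun n => ?_⟩
    apply (Groth.Agent.Lib.Curves.GlobalSections.h0Equiv (G.obj (op n))).injective
    rw [← hnat]
    exact (congrArg _ ((Groth.Agent.Lib.Curves.GlobalSections.h0Equiv (limit G)).apply_symm_apply s)).trans (hs n)

end Groth.Agent.S0842

namespace Groth.Agent.S0842

open CategoryTheory CategoryTheory.Limits AlgebraicGeometry Opposite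

open CategoryTheory AlgebraicGeometry Opposite in
/-- Let A be a Noetherian ring and I an ideal of cohomological dimension exactly 1, X a Noetherian
scheme over Spec A, and (F_n) a coherent formal module for I (coherent terms with F_n =
F_{n+1}/I^nF_{n+1}; indices shifted by one). Then for every p and m there is c such that every
compatible family x = (x_n) in the product of the H^p(X, F_n) whose component x_c vanishes is a
finite sum of products a · y with a ∈ I^m and y a compatible family. (The reverse inclusion, that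
I^m times the limit dies in H^p(X, F_n) for n small, is immediate and not stated.) -/
theorem result (A : Type u) [CommRing A] [IsNoetherianRing A] (I : Ideal A)
    (h₁ : LocCoh.CdLE A I 1) (h₀ : ¬ LocCoh.CdLE A I 0) (X : Scheme.{u}) [X.Over (Spec (CommRingCat.of A))]
    [IsNoetherian X] (G : ℕᵒᵖ ⥤ X.Modules) (hG : Formal.IsCohFormal I G) (p m : ℕ) :
    ∃ c : ℕ, ∀ x : ∀ n, Coh.HH X (G.obj (op n)) p,
      (∀ n, Formal2.HHsysMap G p n (x (n + 1)) = x n) → x c = 0 →
        ∃ (k : ℕ) (a : Fin k → A) (y : Fin k → ∀ n, Coh.HH X (G.obj (op n)) p),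
          (∀ i, a i ∈ I ^ m ∧ ∀ n, Formal2.HHsysMap G p n (y i (n + 1)) = y i n) ∧ x = ∑ i, a i • y i := by
  classical
  obtain ⟨r, f, hf⟩ := Submodule.fg_iff_exists_fin_generating_family.1 (IsNoetherian.noetherian I)
  replace hf : Ideal.span (Set.range f) = I := hf
  subst hf
  obtain ⟨c₀, φ, hφ⟩ := Groth.Agent.S0825.result A r f h₁ h₀
  obtain ⟨k, hTF⟩ := Groth.Agent.H2.FormalLimit.PowMap.exists_TF hG
  obtain ⟨N, hN⟩ := exists_image_le (Ideal.span (Set.range f)) f (fun j => Ideal.subset_span ⟨j, rfl⟩) (c₀ + 1)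
    φ hφ (limit G) hTF p m
  refine ⟨N, fun x hx h0 => ?_⟩
  obtain ⟨ξ, hξ⟩ := exists_lift hG p x hx
  have hmem : ξ ∈ Ideal.span (Set.range f) ^ m • (⊤ : Submodule A (Coh.HH X (limit G) p)) := by
    obtain ⟨hd, hiso⟩ := Groth.Agent.H78.Formal.LimSect.exists_isIso_desc
      (IsNoetherian.noetherian _) (Groth.Agent.H2.FormalLimit.PowMap.isQCohFormal hG) N
    have h1 : Groth.Agent.H78.FormalFun.Basic.H (A := A) p
        (Formal.modPowπ (Ideal.span (Set.range f)) (N + 1) (limit G)) ξ = 0 := by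
      obtain ⟨χ, hχ⟩ := cokernel_π_factors _ _ hd hiso
      have e : Formal.modPowπ (Ideal.span (Set.range f)) (N + 1) (limit G) = limit.π G (op N) ≫ χ := hχ
      exact (congrArg (fun φ => Groth.Agent.H78.FormalFun.Basic.H (A := A) p φ ξ) e).trans
        ((Groth.Agent.H78.FormalFun.Basic.H_comp p _ χ ξ).trans
          ((congrArg _ ((hξ N).trans h0)).trans (map_zero _)))
    let S : ShortComplex X.Modules := ShortComplex.mk
      (Formal2.idealPowModι (Ideal.span (Set.range f)) (N + 1) (limit G))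
      (Formal.modPowπ (Ideal.span (Set.range f)) (N + 1) (limit G)) (kernel.condition _)
    have hS : S.ShortExact :=
      { exact := ShortComplex.exact_of_f_is_kernel _ (kernelIsKernel _) }
    obtain ⟨w, hw⟩ := (Groth.Agent.Lib.Curves.LES.exactK₂ A hS p ξ).1 h1
    rw [← hw]
    have hle : Formal2.idealPowModι (Ideal.span (Set.range f)) (N + 1) (limit G) =
        Formal2.idealPowIncl (Ideal.span (Set.range f)) (Nat.le_succ N) (limit G) ≫
          Formal2.idealPowModι (Ideal.span (Set.range f)) N (limit G) := (kernel.lift_ι _ _ _).symm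
    show Groth.Agent.H78.FormalFun.Basic.H (A := A) p (Formal2.idealPowModι (Ideal.span (Set.range f)) (N + 1) (limit G)) w ∈ _
    rw [hle, Groth.Agent.H78.FormalFun.Basic.H_comp]
    exact hN _
  obtain ⟨l, a, y, hal, hsum⟩ : ∃ (l : ℕ) (a : Fin l → A) (y : Fin l → Coh.HH X (limit G) p),
      (∀ i, a i ∈ Ideal.span (Set.range f) ^ m) ∧ ξ = ∑ i, a i • y i := by
    refine Submodule.smul_induction_on hmem (fun a ha y _ => ⟨1, ![a], ![y], by simpa using ha, by simp⟩) ?_
    rintro _ _ ⟨l, a, y, ha, rfl⟩ ⟨l', a', y', ha', rfl⟩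
    exact ⟨l + l', Fin.append a a', Fin.append y y', (Fin.forall_fin_add _).2 ⟨by simpa using ha, by simpa using ha'⟩,
      by simp [Fin.sum_univ_add]⟩
  refine ⟨l, a, fun i n => Groth.Agent.H78.FormalFun.Basic.H (A := A) p (limit.π G (op n)) (y i),
    fun i => ⟨hal i, fun n => ?_⟩, funext fun n => ?_⟩
  · show Groth.Agent.H78.FormalFun.Basic.H (A := A) p (G.map (homOfLE (Nat.le_succ n)).op) _ = _
    rw [← Groth.Agent.H78.FormalFun.Basic.H_comp, limit.w]
  · rw [← hξ, hsum, map_sum, Finset.sum_apply]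
    exact Finset.sum_congr rfl fun i _ => map_smul _ _ _

end Groth.Agent.S0842
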