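import Groth.Statements.S0847
import Groth.Agent.H95.ProjQuot.Coherent
import Groth.Agent.S0846
import Groth.Agent.H78.Existence.AmpleVanish
import Groth.Agent.Lib.ProjKoszul.Chase

set_option autoImplicit false
universe u
open Coherent

namespace Groth.Agent.S0847

section

open CategoryTheory CategoryTheory.Limits AlgebraicGeometry
open Groth.Agent.Lib Groth.Agent.Lib.TensorMod.Basic

variable {R A : Type u} [CommRing R] [CommRing A] [Algebra R A]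

theorem aux (𝒜 : ℕ → Submodule R A) [GradedAlgebra 𝒜] [IsNoetherianRing A] (F : (Proj 𝒜).Modules)
    (hF : Coh.IsCoh F) (p : ℕ) (hp : 0 < p) :
    ∃ d₀ : ℤ, ∀ d : ℤ, d₀ ≤ d → Subsingleton (Coh.HH (Proj 𝒜) (Twist.twistBy 𝒜 F d) p) := by
  haveI := H95.ProjQuot.Coherent.finiteType_zero (𝒜 := 𝒜)
  letI : (Proj 𝒜).Over (Spec (CommRingCat.of (𝒜 0))) := ⟨Proj.toSpecZero 𝒜⟩
  haveI : IsProper (Proj 𝒜 ↘ Spec (CommRingCat.of (𝒜 0))) := inferInstanceAs (IsProper (Proj.toSpecZero 𝒜))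
  obtain ⟨D, hD, hcov, hcomp⟩ := S0846.exists_covers 𝒜
  haveI := hcomp
  have hL := ZeroCyc99.Twist.isAmple_of_covers hD hcov
  have hG : ∀ r : ℕ, Coh.IsCoh (CohB1.tensorMod F (Twist.twist 𝒜 (r : ℤ))) := fun r => by
    haveI : F.IsQuasicoherent := hF.1
    haveI : SheafOfModules.IsFiniteType (R := (Proj 𝒜).ringCatSheaf) F := hF.2
    haveI := ProjTilde.QCoh.twist_isQCoh (𝒜 := 𝒜) (r : ℤ)
    haveI : (Twist.twist 𝒜 (r : ℤ)).IsQuasicoherent := ProjTilde.QCoh.twist_isQCoh (𝒜 := 𝒜) (r : ℤ)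
    haveI := H95.ProjQuot.Coherent.isFT_twist (𝒜 := 𝒜) r
    exact ⟨TensorMod.TensorQCoh.isQCoh_tensorMod _ _, TensorMod.TensorQCoh.isFiniteType_tensorMod _ _⟩
  choose n₀ hn₀ using fun r : ℕ => H78.Existence.AmpleVanish.exists_subsingleton (𝒜 0) hL (hG r)
  refine ⟨(((Finset.range D).sup n₀ * D + D : ℕ) : ℤ), fun d hd => ?_⟩
  obtain ⟨m, rfl⟩ : ∃ m : ℕ, d = (m : ℤ) := ⟨d.toNat, by omega⟩
  have hm : (Finset.range D).sup n₀ * D + D ≤ m := by exact_mod_cast hd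
  have hq : n₀ (m % D) ≤ m / D := by
    refine (Finset.le_sup (f := n₀) (Finset.mem_range.2 (Nat.mod_lt m hD))).trans
      ((Nat.le_div_iff_mul_le hD).2 ?_)
    omega
  obtain ⟨q, rfl⟩ : ∃ q, p = q + 1 := ⟨p - 1, by omega⟩
  obtain ⟨e₁⟩ := S0846.tensorPow_twist hcov (m / D)
  obtain ⟨e₂⟩ := S0846.tensor_twist hcov ((m % D : ℕ) : ℤ) ((m / D : ℕ) : ℤ)
  have hmD : ((m % D : ℕ) : ℤ) + ((m / D : ℕ) : ℤ) * (D : ℤ) = (m : ℤ) := by
    exact_mod_cast Nat.mod_add_div' m D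
  exact ProjKoszul.Chase.subsingleton_of_iso (𝒜 0)
    (assoc F _ _ ≪≫ tensorIso (Iso.refl F) (tensorIso (Iso.refl _) e₁ ≪≫ e₂ ≪≫ eqToIso (by rw [hmD])))
    (hn₀ (m % D) (m / D) hq q)

end

open CategoryTheory AlgebraicGeometry in
/-- Let A be a Noetherian graded ring (graded by ℕ as an R-algebra), X = Proj A, F a coherent O_X-module
and p > 0. Then the twists F(d) = F ⊗ O_X(d) have vanishing H^p for every sufficiently large d. -/
theorem result {R A : Type u} [CommRing R] [CommRing A] [Algebra R A]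
    (𝒜 : ℕ → Submodule R A) [GradedAlgebra 𝒜] [IsNoetherianRing A] (F : (Proj 𝒜).Modules) (hF : Coh.IsCoh F)
    (p : ℕ) (hp : 0 < p) :
    ∃ d₀ : ℤ, ∀ d : ℤ, d₀ ≤ d → Subsingleton (Coh.HH (Proj 𝒜) (Twist.twistBy 𝒜 F d) p) := by
  exact aux 𝒜 F hF p hp

end Groth.Agent.S0847
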