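import Groth.Statements.S0848
import Groth.Agent.H78.Existence.Vanish
import Groth.Agent.H78.Existence.KerSys

set_option autoImplicit false
universe u
open Coherent

namespace Groth.Agent.S0848

open CategoryTheory CategoryTheory.Limits AlgebraicGeometry in
/-- Let A be a Noetherian ring, I an ideal of A, X a scheme proper over Spec A carrying an ample
invertible O_X-module L, and (F_n)_{n ≥ 0} a coherent formal module for I on X (F_n coherent and
killed by I^(n+1), with F_n = F_(n+1)/I^(n+1)F_(n+1)). Then there is d₀ such that H^1(X, Ker(F_(n+1)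
→ F_n) ⊗ L^⊗d) = 0 for every n ≥ 0 and every d ≥ d₀. (Indices are shifted by one relative to the
published statement, which indexes from 1 and also covers the first term itself as the kernel of F_1
→ F_0 = 0; here only the kernels of the transition maps appear, so the first term is not among
them.) -/
theorem result (A : Type u) [CommRing A] [IsNoetherianRing A] (I : Ideal A)
    (X : Scheme.{u}) [X.Over (Spec (CommRingCat.of A))] [IsProper (X ↘ Spec (CommRingCat.of A))]
    (L : X.Modules) (hL : CohB1.IsAmple L) (G : ℕᵒᵖ ⥤ X.Modules) (hG : Formal.IsCohFormal I G) :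
    ∃ d₀ : ℕ, ∀ (n d : ℕ), d₀ ≤ d →
      Subsingleton (Coh.HH X (CohB1.tensorMod (kernel (G.map (homOfLE (Nat.le_succ n)).op))
        (CohB1.tensorPow L d)) 1) := by
  haveI := Groth.Agent.H78.Existence.AmpleVanish.isNoetherian_of_proper A (X := X)
  obtain ⟨r, f, hI⟩ := Submodule.fg_iff_exists_fin_generating_family.mp ((isNoetherianRing_iff_ideal_fg A).mp ‹_› I)
  have hf : ∀ i, f i ∈ I := fun i => hI ▸ Submodule.subset_span ⟨i, rfl⟩
  obtain ⟨d₀, hd⟩ := Groth.Agent.H78.Existence.Vanish.exists_vanish A hL
    (Groth.Agent.H78.Existence.KerSys.sys hG f hf)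
    (Groth.Agent.H78.Existence.KerSys.gen_sys hG f hf hI.symm)
  exact ⟨d₀, fun n d h => hd n d h 0⟩

end Groth.Agent.S0848
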