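import Groth.Statements.S0851
import Groth.Agent.H78.Formal.EasyRight

set_option autoImplicit false
universe u
open Formal2

namespace Groth.Agent.S0851

open CategoryTheory CategoryTheory.Limits AlgebraicGeometry Opposite in
/-- Part (2), existence, for the ideal sheaf I·O_X of an ideal I of a base ring A (position n of a
system holds the quotient by I^(n+1)). Let X be a Noetherian scheme over Spec A, G a coherent
O_X-module and (F_n) a coherent formal module for I. Suppose α : (G/I^nG) → (F_n) is a map of
systems such that one fixed power of I kills the kernel and the cokernel of every component. Then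
there are a coherent O_X-module F, a map a : G → F with I-power-torsion kernel and cokernel, and an
isomorphism β : (F/I^nF) ≅ (F_n) under which α becomes the map induced by a. -/
theorem result (A : Type u) [CommRing A] (I : Ideal A) (X : Scheme.{u})
    [X.Over (Spec (CommRingCat.of A))] [IsNoetherian X] (G : X.Modules) (hG : Coh.IsCoh G)
    (F : ℕᵒᵖ ⥤ X.Modules) (hF : Formal.IsCohFormal I F) (α : Formal.completion I G ⟶ F)
    (hα : Formal2.KerCokerKilledByIPow I α) :
    ∃ (F' : X.Modules) (a : G ⟶ F') (β : Formal.completion I F' ≅ F), Coh.IsCoh F' ∧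
      Formal2.KerCokerKilledByIPowHom I a ∧
      ∀ n : ℕ, Formal.modPowπ I (n + 1) G ≫ α.app (op n) = a ≫ Formal.modPowπ I (n + 1) F' ≫ β.hom.app (op n) := by
  obtain ⟨t, ht⟩ := hα
  obtain ⟨G', p, v, k, hG', hp, hkerp, hpv, hv, hrange, hinj⟩ :=
    Groth.Agent.H78.Formal.Inject.exists_injective hG hF α (fun n => (ht n).1) (fun n => (ht n).2)
  obtain ⟨F', b, β, hF', hkerb, hcokb, hb⟩ :=
    Groth.Agent.H78.Formal.EasyRight.exists_extension hG' hF v hv hrange hinj
  haveI := hG.1
  haveI := hG'.1
  haveI := hF'.1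
  refine ⟨F', p ≫ b, β, hF', ⟨t + 1 + t, ?_, ?_⟩, fun n => ?_⟩
  · refine Groth.Agent.H78.Formal.Elem.killedBy_kernel_affine _ fun a ha U hU s hs => ?_
    have hmem : Groth.Agent.H78.Formal.Sections.sMap A U a ∈
        Groth.Agent.H78.Formal.Sections.sIdeal (I ^ (t + 1)) U *
          Groth.Agent.H78.Formal.Sections.sIdeal (I ^ (t + 1)) U := by
      rw [Groth.Agent.H78.Formal.Sections.sIdeal_pow, ← pow_add,
        ← Groth.Agent.H78.Formal.Sections.sIdeal_pow]
      exact Groth.Agent.H78.Formal.Sections.mem_sIdeal ha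
    refine Submodule.mul_induction_on (C := fun r => r • s = 0) hmem (fun r₁ h₁ r₂ h₂ => ?_)
      fun r₁ r₂ e₁ e₂ => by rw [add_smul, e₁, e₂, add_zero]
    rw [mul_smul]
    refine Groth.Agent.H78.Formal.Elem.smul_eq_zero_of_forall (fun q hq =>
      Groth.Agent.H78.Formal.Elem.mem_ker_of_killedBy_kernel p hkerp hq _ ?_) h₁
    rw [p.app_smul]
    exact Groth.Agent.H78.Formal.Elem.smul_eq_zero_of_forall (fun q hq =>
      Groth.Agent.H78.Formal.Elem.mem_ker_of_killedBy_kernel b hkerb hq _ hs) h₂
  · refine Groth.Agent.H78.Formal.EasyRight.killedBy_cokernel_cover _ fun x => ?_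
    obtain ⟨U, hU, hx⟩ := Groth.Agent.H78.Formal.Sections.exists_affine x
    refine ⟨U, hU, hx, fun a ha s => ?_⟩
    rw [show t + 1 + t + 1 = t + 1 + (t + 1) by omega] at ha
    obtain ⟨y, hy⟩ := Groth.Agent.H78.Formal.Elem.range_of_killedBy_cokernel b hcokb hU
      (Submodule.smul_mem_smul (Groth.Agent.H78.Formal.Sections.mem_sIdeal ha)
        (Submodule.mem_top (x := s)))
    obtain ⟨z, rfl⟩ := Groth.Agent.Lib.QCoh.Closure.sections_surjective_of_epi p hU y
    exact ⟨z, hy⟩
  · rw [Category.assoc]
    refine (hpv n).symm.trans ?_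
    rw [← hb n]
    rfl

end Groth.Agent.S0851
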