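import Groth.Statements.S0856
import Mathlib.Algebra.Category.ModuleCat.Presheaf.Generator
import Mathlib.Algebra.Category.ModuleCat.Presheaf.EpiMono
import Mathlib.Algebra.Category.ModuleCat.Sheaf.Abelian
import Mathlib.Algebra.Category.ModuleCat.Presheaf.Sheafification
import Mathlib.CategoryTheory.Preadditive.Injective.Basic
-- import your own Groth.Agent.* helpers here

set_option autoImplicit false
universe u
open CategoryTheory
open CohSite

namespace Groth.Agent.S0856

open Opposite in
/-- Let (C, O) be a ringed site, a : U' -> U a monomorphism of C and I an injective sheaf of O-modules.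
Then the restriction map I(U) -> I(U') is surjective. -/
theorem result {C : Type u} [SmallCategory C]
    {J : GrothendieckTopology C} (O : Sheaf J RingCat.{u}) (I : SheafOfModules.{u} O) [Injective I]
    {U U' : C} (a : U' ⟶ U) [Mono a] : Function.Surjective (I.val.map a.op) := by
  intro s
  let ψ := (PresheafOfModules.free O.obj).map (yoneda.map a)
  have : Mono ψ := PresheafOfModules.mono_of_injective (fun X => by
    intro x y h
    have hinj : Function.Injective ((yoneda.map a).app X) := fun p q hpq => by
      exact (cancel_mono a).1 hpq
    exact Finsupp.mapDomain_injective hinj h)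
  let adj := PresheafOfModules.sheafificationAdjunction.{u} (𝟙 O.obj)
  let φ := (PresheafOfModules.sheafification (𝟙 O.obj)).map ψ
  have : Mono φ := inferInstanceAs (Mono ((PresheafOfModules.sheafification (𝟙 O.obj)).map ψ))
  let f : (PresheafOfModules.free O.obj).obj (yoneda.obj U') ⟶ I.val :=
    PresheafOfModules.freeYonedaEquiv.symm s
  let g := Injective.factorThru ((adj.homEquiv _ _).symm f) φ
  let h : (PresheafOfModules.free O.obj).obj (yoneda.obj U) ⟶ I.val := adj.homEquiv _ _ g
  have hfac : ψ ≫ h = f := by
    show ψ ≫ adj.homEquiv _ _ g = f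
    rw [← adj.homEquiv_naturality_left]
    exact (congrArg (adj.homEquiv _ _) (Injective.comp_factorThru _ _)).trans
      (Equiv.apply_symm_apply _ _)
  refine ⟨PresheafOfModules.freeYonedaEquiv h, ?_⟩
  have key := PresheafOfModules.naturality_apply h a.op (ModuleCat.freeMk (𝟙 U))
  refine key.symm.trans ?_
  have hs : PresheafOfModules.freeYonedaEquiv (ψ ≫ h) = s := by
    rw [hfac]; exact Equiv.apply_symm_apply _ _
  refine Eq.trans ?_ hs
  have e1 : ((PresheafOfModules.free O.obj).obj (yoneda.obj U)).map a.op (ModuleCat.freeMk (𝟙 U)) =
      ψ.app (op U') (ModuleCat.freeMk (𝟙 U')) := by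
    erw [ModuleCat.freeDesc_apply, ModuleCat.free_map_apply]
    exact congrArg ModuleCat.freeMk ((Category.comp_id a).trans (Category.id_comp a).symm)
  exact congrArg (fun z => h.app (op U') z) e1

end Groth.Agent.S0856
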