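import Groth.Statements.S0861
import Groth.Agent.Lib.CechPsh.LongExact
import Groth.Agent.Lib.SiteCoh.Acyclic
-- import your own Groth.Agent.* helpers here

set_option autoImplicit false
universe u
open CategoryTheory
open CohSite

namespace Groth.Agent.S0861

open CategoryTheory.Limits in
/-- Let C be a site with fibre products, B a class of objects and Cov a class of covering families
(indexed families of objects over a member of B). Assume: (1) for a family in Cov over U, U and all
iterated fibre products U_{i_0} x_U ... x_U U_{i_p} lie in B; (2) every covering sieve of a member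
of B contains a family from Cov; (3) the abelian sheaf F has vanishing Cech cohomology in positive
degrees for every family in Cov. Then H^p(U, F) = 0 for all p > 0 and U in B. -/
theorem result {C : Type u} [SmallCategory C] [HasPullbacks C]
    (J : GrothendieckTopology C) (B : Set C) (Cov : ∀ (U : C) (ι : Type u), (ι → Over U) → Prop)
    (h1 : ∀ (U : C) (ι : Type u) (Y : ι → Over U), Cov U ι Y → U ∈ B ∧
      Sieve.ofArrows (fun i => (Y i).left) (fun i => (Y i).hom) ∈ J U ∧
      ∀ (p : ℕ) (a : Fin (p + 1) → ι), (∏ᶜ fun k => Y (a k)).left ∈ B)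
    (h2 : ∀ U ∈ B, ∀ T ∈ J U, ∃ (ι : Type u) (Y : ι → Over U), Cov U ι Y ∧ ∀ i, T.arrows (Y i).hom)
    (F : Sheaf J AddCommGrpCat.{u})
    (h3 : ∀ (U : C) (ι : Type u) (Y : ι → Over U), Cov U ι Y → ∀ p : ℕ, IsZero (CohCx.cechH F.obj Y (p + 1)))
    (U : C) (hU : U ∈ B) (p : ℕ) : Subsingleton (CohSite.HU F (p + 1) U) := by
  have hsurj : ∀ (S : ShortComplex (Sheaf J AddCommGrpCat.{u})), S.ShortExact →
      (∀ (V : C) (ι : Type u) (Y : ι → Over V), Cov V ι Y → ∀ p : ℕ,
        IsZero (CohCx.cechH S.X₁.obj Y (p + 1))) →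
      ∀ V ∈ B, Function.Surjective (S.g.hom.app (Opposite.op V)) := by
    intro S hS h V hV s
    have := hS.epi_g
    obtain ⟨ι, Y, hY, hYT⟩ :=
      h2 V hV _ (Groth.Agent.Lib.SiteCoh.Kill.exists_local_lift S.g s)
    have hl := fun W => Groth.Agent.Lib.CechPsh.ShortExact.app_left_exact hS W
    exact Groth.Agent.Lib.CechPsh.Surj.exists_lift Y J S.f.hom S.g.hom S.X₂.property S.X₃.property
      (fun W => (hl W).1) (fun W => (hl W).2.1) (fun W => (hl W).2.2) (h1 V ι Y hY).2.1
      (h V ι Y hY 0) s hYT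
  induction p generalizing F U with
  | zero =>
    exact (Groth.Agent.Lib.SiteCoh.Basic.subsingleton_hu_iff F _ U).2 fun x =>
      Groth.Agent.Lib.SiteCoh.Acyclic.ext_one_eq_zero
        (Groth.Agent.Lib.SiteCoh.Kill.embSES_shortExact F)
        (hsurj _ (Groth.Agent.Lib.SiteCoh.Kill.embSES_shortExact F) h3 U hU) x
        (CategoryTheory.Abelian.Ext.eq_zero_of_injective _)
  | succ n ih =>
    refine (Groth.Agent.Lib.SiteCoh.Basic.subsingleton_hu_iff F _ U).2 fun x => ?_
    obtain ⟨y, rfl⟩ := Groth.Agent.Lib.SiteCoh.Kill.exists_eq_comp_extClass F x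
    let S := Groth.Agent.Lib.SiteCoh.Kill.embSES F
    have hS : S.ShortExact := Groth.Agent.Lib.SiteCoh.Kill.embSES_shortExact F
    have hI : Injective S.X₂.obj :=
      Injective.injective_of_adjoint (sheafificationAdjunction J AddCommGrpCat.{u}) S.X₂
    have hl := fun W => Groth.Agent.Lib.CechPsh.ShortExact.app_left_exact hS W
    have hG : ∀ (V : C) (ι : Type u) (Y : ι → Over V), Cov V ι Y → ∀ p : ℕ,
        IsZero (CohCx.cechH S.X₃.obj Y (p + 1)) := fun V ι Y hY p =>
      Groth.Agent.Lib.CechPsh.LongExact.isZero_cechH_right Y S.f.hom S.g.hom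
        (fun W => (hl W).2.1) (fun W => (hl W).1) (fun W => (hl W).2.2)
        (fun m i => hsurj S hS h3 _ ((h1 V ι Y hY).2.2 m i)) (p + 1)
        (Groth.Agent.Lib.CechPsh.Vanish.isZero_cechH Y S.X₂.obj p) (h3 V ι Y hY (p + 1))
    rw [(Groth.Agent.Lib.SiteCoh.Basic.subsingleton_hu_iff S.X₃ _ U).1 (ih _ hG U hU) y,
      CategoryTheory.Abelian.Ext.zero_comp]
    rfl

end Groth.Agent.S0861
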