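import Groth.Statements.S0860
import Groth.Agent.S0861
import Groth.Agent.Lib.CechPsh.Comap
-- import your own Groth.Agent.* helpers here

set_option autoImplicit false
universe u
open CategoryTheory
open CohSite

namespace Groth.Agent.S0860

open CategoryTheory.Limits in
/-- Let u : C -> D be a functor between sites with fibre products which sends coverings to coverings,
commutes with fibre products, and is continuous and cocontinuous, and let I be an injective abelian
sheaf on D. Then the sheaf V ↦ I(u(V)) on C (which is the pullback of I along the morphism of topoi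
attached to u) has H^p(U, -) = 0 for all p > 0 and all objects U of C. -/
theorem result {C D : Type u} [SmallCategory C]
    [SmallCategory D] [HasPullbacks C] [HasPullbacks D]
    (J : GrothendieckTopology C) (K : GrothendieckTopology D) (u : C ⥤ D)
    (hu : CoverPreserving J K u) [PreservesLimitsOfShape WalkingCospan u]
    [u.IsContinuous J K] [u.IsCocontinuous J K]
    (I : Sheaf K AddCommGrpCat.{u}) [Injective I] (U : C) (p : ℕ) :
    Subsingleton (CohSite.HU ((CohSite.push K J u).obj I) (p + 1) U) := by
  have hpost := fun U : C => Groth.Agent.Lib.CechPsh.Comap.preservesFiniteProducts_post u (U := U)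
  refine Groth.Agent.S0861.result J Set.univ
    (fun U ι Y => Sieve.ofArrows (fun i => (Y i).left) (fun i => (Y i).hom) ∈ J U)
    (fun U ι Y hY => ⟨trivial, hY, fun _ _ => trivial⟩)
    (fun U _ T hT => ⟨Σ V : C, {f : V ⟶ U // T f}, fun a => Over.mk a.2.1, ?_, fun a => a.2.2⟩)
    ((CohSite.push K J u).obj I) (fun U ι Y _ q => ?_) U trivial p
  · refine J.superset_covering (fun V f hf => ?_) hT
    exact Sieve.ofArrows_mk (fun a : Σ V : C, {f : V ⟶ U // T f} => a.1) (fun a => a.2.1) ⟨V, f, hf⟩
  · have := hpost U
    have : Injective I.obj :=
      Injective.injective_of_adjoint (sheafificationAdjunction K AddCommGrpCat.{u}) I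
    exact Groth.Agent.Lib.CechPsh.Comap.isZero_cechH u Y I.obj q
      (Groth.Agent.Lib.CechPsh.Vanish.isZero_cechH _ I.obj q)

end Groth.Agent.S0860
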