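import Groth.Statements.S0866
import Mathlib.Topology.Sheaves.Skyscraper
import Mathlib.Topology.Category.TopCat.Adjunctions
import Groth.Agent.Lib.Modules.Stalk

set_option autoImplicit false
universe u
open CategoryTheory
open CohTop

namespace Groth.Agent.S0866

open TopologicalSpace Opposite in
theorem isFlasque_of_discrete {D : TopCat.{u}} [DiscreteTopology D] (G : CohTop.Ab D) :
    TopCat.Sheaf.IsFlasque G where
  epi {U V} i := by
    classical
    rw [AddCommGrpCat.epi_iff_surjective]
    intro s
    have hVU : V.unop ≤ U.unop := leOfHom i.unop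
    let W : Opens D := ⟨(U.unop : Set D) \ V.unop, isOpen_discrete _⟩
    let A : ULift.{u} Bool → Opens D := fun b => if b.down then V.unop else W
    have hb : ∀ b, A b ≤ U.unop := fun ⟨b⟩ => by
      cases b
      exacts [fun x hx => hx.1, hVU]
    have hsub : ∀ B : Opens D, B = ⊥ → Subsingleton (G.obj.obj (op B)) := fun B hB => by
      subst hB
      exact AddCommGrpCat.subsingleton_of_isZero
        (TopCat.Sheaf.isTerminalOfEmpty G).isZero
    have hdisj : ∀ b c : ULift.{u} Bool, b.down ≠ c.down → A b ⊓ A c = ⊥ := by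
      rintro ⟨b⟩ ⟨c⟩ h
      refine le_bot_iff.1 fun x hx => ?_
      cases b <;> cases c
      exacts [(h rfl).elim, hx.1.2 hx.2, hx.2.2 hx.1, (h rfl).elim]
    let sf : ∀ b, G.obj.obj (op (A b)) := fun b => match b with
      | ⟨true⟩ => (show G.obj.obj (op V.unop) from s)
      | ⟨false⟩ => 0
    have hcov : U.unop ≤ iSup A := fun x hx => by
      by_cases h : x ∈ V.unop
      · exact Opens.mem_iSup.2 ⟨⟨true⟩, h⟩
      · exact Opens.mem_iSup.2 ⟨⟨false⟩, hx, h⟩
    obtain ⟨e, he, -⟩ := TopCat.Sheaf.existsUnique_gluing' G A U.unop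
      (fun b => homOfLE (hb b)) hcov sf fun b c => by
        by_cases h : b.down = c.down
        · obtain rfl : b = c := ULift.ext _ _ h
          rfl
        · exact @Subsingleton.elim _ (hsub _ (hdisj b c h)) _ _
    refine ⟨e, ?_⟩
    exact (congrArg (fun k => G.obj.map k e) (Subsingleton.elim i (homOfLE hVU).op)).trans
      (he ⟨true⟩)

instance discreteTopology_discrete (T : Type u) : DiscreteTopology (TopCat.discrete.obj T) := ⟨rfl⟩

open TopologicalSpace Opposite in
theorem mono_unit {X D : TopCat.{u}} (f : D ⟶ X) (hf : Function.Surjective f) (F : CohTop.Ab X) :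
    Mono ((TopCat.Sheaf.pullbackPushforwardAdjunction AddCommGrpCat.{u} f).unit.app F) := by
  classical
  let adj := TopCat.Sheaf.pullbackPushforwardAdjunction AddCommGrpCat.{u} f
  have key : ∀ (U : Opens X) (s : F.obj.obj (op U)),
      (adj.unit.app F).hom.app (op U) s = 0 → s = 0 := by
    intro U s hs
    refine TopCat.Presheaf.section_ext F U s 0 fun x hx => ?_
    obtain ⟨d, rfl⟩ := hf x
    rw [map_zero]
    let sky : CohTop.Ab D := skyscraperSheaf d (TopCat.Presheaf.stalk F.obj (f d))
    let a : F.obj ⟶ skyscraperPresheaf (f d) (TopCat.Presheaf.stalk F.obj (f d)) :=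
      StalkSkyscraperPresheafAdjunctionAuxs.toSkyscraperPresheaf (f d) (𝟙 _)
    let α : F ⟶ (CohTop.push f).obj sky := ⟨a⟩
    have hu : adj.unit.app F ≫ (CohTop.push f).map ((adj.homEquiv _ _).symm α) = α := by
      have := (adj.homEquiv F sky).apply_symm_apply α
      rwa [Adjunction.homEquiv_unit] at this
    have h1 : α.hom.app (op U) s = 0 := by
      rw [← hu]
      exact (congrArg (((CohTop.push f).map ((adj.homEquiv _ _).symm α)).hom.app (op U)).hom hs).trans
        (map_zero _)
    have h2 := StalkSkyscraperPresheafAdjunctionAuxs.germ_fromStalk (f d) a U hx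
    rw [show StalkSkyscraperPresheafAdjunctionAuxs.fromStalk (f d) a = 𝟙 _ from
      StalkSkyscraperPresheafAdjunctionAuxs.fromStalk_to_skyscraper (f d) _, Category.comp_id] at h2
    rw [h2]
    let e : (skyscraperPresheaf (f d) (TopCat.Presheaf.stalk F.obj (f d))).obj (op U) ⟶
        TopCat.Presheaf.stalk F.obj (f d) := eqToHom (if_pos hx)
    show e (a.app (op U) s) = 0
    rw [show a.app (op U) s = 0 from h1]
    exact map_zero e.hom
  haveI : ∀ U, Mono ((adj.unit.app F).hom.app U) := fun U => by
    rw [AddCommGrpCat.mono_iff_injective]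
    intro a b hab
    refine sub_eq_zero.1 (key U.unop _ ?_)
    exact (map_sub _ a b).trans (sub_eq_zero.2 hab)
  haveI : Mono (adj.unit.app F).hom := NatTrans.mono_of_mono_app _
  exact (sheafToPresheaf _ _).mono_of_mono_map (f := adj.unit.app F) ‹_›

/-- The first step of the Godement resolution, for abelian sheaves: let f : X_disc -> X be the identity
map from X with the discrete topology. For an abelian sheaf F on X, the adjunction unit F -> f_*
f^{-1} F is a monomorphism and f_* f^{-1} F is a flasque sheaf. (The source builds the whole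
functorial flasque resolution by iterating f_* f^{-1} and proves it is a stalkwise homotopy
equivalence; only this first step is asserted here.) -/
theorem result {X : TopCat.{u}} (F : CohTop.Ab X) :
    Mono ((TopCat.Sheaf.pullbackPushforwardAdjunction AddCommGrpCat.{u}
      (TopCat.adj₁.counit.app X)).unit.app F) ∧
    TopCat.Sheaf.IsFlasque ((CohTop.push (TopCat.adj₁.counit.app X)).obj
      ((CohTop.pull (TopCat.adj₁.counit.app X)).obj F)) := by
  refine ⟨mono_unit (TopCat.adj₁.counit.app X) (fun x => ⟨x, rfl⟩) F, ?_⟩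
  haveI : TopCat.Sheaf.IsFlasque
      ((CohTop.pull (TopCat.adj₁.counit.app X)).obj F) :=
    @isFlasque_of_discrete _ (discreteTopology_discrete _) _
  exact @TopCat.Presheaf.IsFlasque.pushforward_isFlasque _ _ _
    ((CohTop.pull (TopCat.adj₁.counit.app X)).obj F).obj _ this _

end Groth.Agent.S0866
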