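import Groth.Statements.S0867
import Groth.Agent.S0866
import Groth.Agent.Lib.H70.StepResolution
import Groth.Agent.Lib.SiteKFlat.RelResInt
import Mathlib.Algebra.Homology.Embedding.ExtendHomotopy
import Mathlib.CategoryTheory.Preadditive.AdditiveFunctor

set_option autoImplicit false
universe u
open CategoryTheory
open CohTop

namespace Groth.Agent.S0867

open Limits HomologicalComplex TopologicalSpace Opposite Lib.H70

variable {X : TopCat.{u}}

/-- The stalk functor on abelian sheaves. -/
noncomputable abbrev St' (x : X) : CohTop.Ab X ⥤ AddCommGrpCat.{u} :=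
  sheafToPresheaf (Opens.grothendieckTopology X) AddCommGrpCat.{u} ⋙
    TopCat.Presheaf.stalkFunctor AddCommGrpCat.{u} x

instance st_preservesFiniteLimits (x : X) : PreservesFiniteLimits (St' x) :=
  inferInstanceAs (PreservesFiniteLimits
    (TopCat.Sheaf.forget AddCommGrpCat.{u} X ⋙ TopCat.Presheaf.stalkFunctor _ x))

instance st_preservesFiniteColimits (x : X) : PreservesFiniteColimits (St' x) := by
  classical
  haveI : (St' x).IsLeftAdjoint :=
    (stalkSkyscraperSheafAdjunction x (C := AddCommGrpCat.{u})).isLeftAdjoint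
  exact PreservesColimits.preservesFiniteColimits _

instance st_additive (x : X) : (St' x).Additive := Functor.additive_of_preserves_binary_products _

/-- The functor `f_* f^{-1}` on objects, `f` being the identity from the discrete space. -/
noncomputable abbrev T (E : CohTop.Ab X) : CohTop.Ab X :=
  (CohTop.push (TopCat.adj₁.counit.app X)).obj ((CohTop.pull (TopCat.adj₁.counit.app X)).obj E)

/-- The unit `E ⟶ f_* f^{-1} E`. -/
noncomputable abbrev η (E : CohTop.Ab X) : E ⟶ T E :=
  (TopCat.Sheaf.pullbackPushforwardAdjunction AddCommGrpCat.{u}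
    (TopCat.adj₁.counit.app X)).unit.app E

lemma exists_retraction {D : TopCat.{u}} (f : D ⟶ X) (d : D) (E : CohTop.Ab X) :
    ∃ r : (St' (f d)).obj ((CohTop.push f).obj ((CohTop.pull f).obj E)) ⟶ (St' (f d)).obj E,
      (St' (f d)).map ((TopCat.Sheaf.pullbackPushforwardAdjunction AddCommGrpCat.{u} f).unit.app E)
        ≫ r = 𝟙 _ := by
  classical
  let adj := TopCat.Sheaf.pullbackPushforwardAdjunction AddCommGrpCat.{u} f
  let sky : CohTop.Ab D := skyscraperSheaf d (TopCat.Presheaf.stalk E.obj (f d))
  let a : E.obj ⟶ skyscraperPresheaf (f d) (TopCat.Presheaf.stalk E.obj (f d)) :=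
    StalkSkyscraperPresheafAdjunctionAuxs.toSkyscraperPresheaf (f d) (𝟙 _)
  let α : E ⟶ (CohTop.push f).obj sky := ⟨a⟩
  have hu : adj.unit.app E ≫ (CohTop.push f).map ((adj.homEquiv _ _).symm α) = α := by
    have := (adj.homEquiv E sky).apply_symm_apply α
    rwa [Adjunction.homEquiv_unit] at this
  let β : ((CohTop.push f).obj ((CohTop.pull f).obj E)).obj ⟶
      skyscraperPresheaf (f d) (TopCat.Presheaf.stalk E.obj (f d)) :=
    ((CohTop.push f).map ((adj.homEquiv _ _).symm α)).hom
  refine ⟨StalkSkyscraperPresheafAdjunctionAuxs.fromStalk (f d) β, ?_⟩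
  refine TopCat.Presheaf.stalk_hom_ext _ fun U hU => ?_
  refine (TopCat.Presheaf.stalkFunctor_map_germ_assoc U (f d) hU (adj.unit.app E).hom _).trans ?_
  refine (congrArg ((adj.unit.app E).hom.app (op U) ≫ ·)
    (StalkSkyscraperPresheafAdjunctionAuxs.germ_fromStalk (f d) β U hU)).trans ?_
  refine (Category.assoc _ _ _).symm.trans ?_
  have h1 : (adj.unit.app E).hom.app (op U) ≫ β.app (op U) = a.app (op U) :=
    congrArg (fun g : E ⟶ (CohTop.push f).obj sky => g.hom.app (op U)) hu
  refine (congrArg (· ≫ eqToHom (if_pos hU)) h1).trans ?_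
  refine (StalkSkyscraperPresheafAdjunctionAuxs.germ_fromStalk (f d) a U hU).symm.trans ?_
  rw [StalkSkyscraperPresheafAdjunctionAuxs.fromStalk_to_skyscraper]
  rfl

lemma exists_retraction' (x : X) (E : CohTop.Ab X) :
    ∃ r : (St' x).obj (T E) ⟶ (St' x).obj E, (St' x).map (η E) ≫ r = 𝟙 _ :=
  exists_retraction (TopCat.adj₁.counit.app X) x E

lemma quasiIso_of_stalks {F G : CochainComplex (CohTop.Ab X) ℤ} (φ : F ⟶ G)
    (h : ∀ x : X, QuasiIso ((CohCx.stalkCx x).map φ)) : QuasiIso φ := by
  refine ⟨fun i => ?_⟩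
  rw [quasiIsoAt_iff_isIso_homologyMap]
  haveI : ∀ x : X, IsIso ((TopCat.Presheaf.stalkFunctor AddCommGrpCat.{u} x).map
      (homologyMap φ i).hom) := fun x => by
    haveI := (quasiIsoAt_iff_isIso_homologyMap ((CohCx.stalkCx x).map φ) i).1 ((h x).quasiIsoAt i)
    have e := ShortComplex.mapHomologyIso_hom_naturality
      ((shortComplexFunctor _ _ i).map φ) (St' x)
    have e' : IsIso ((St' x).map (homologyMap φ i)) := by
      have : (St' x).map (homologyMap φ i) =
          (((F.sc i).mapHomologyIso (St' x)).inv ≫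
            homologyMap ((CohCx.stalkCx x).map φ) i) ≫
            ((G.sc i).mapHomologyIso (St' x)).hom := by
        rw [Category.assoc]
        refine Eq.trans ?_ (congrArg (((F.sc i).mapHomologyIso (St' x)).inv ≫ ·) e).symm
        exact (Iso.inv_hom_id_assoc _ _).symm
      rw [this]
      exact IsIso.comp_isIso' (IsIso.comp_isIso' inferInstance ‹_›) inferInstance
    exact e'
  exact TopCat.Presheaf.isIso_of_stalkFunctor_map_iso (C := AddCommGrpCat.{u}) (X := X)
    (homologyMap φ i)

/-- For a complex F of abelian sheaves on X with F^n = 0 for n < a there are a complex G with G^n = 0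
for n < a whose terms are all flasque and a morphism F -> G which is a quasi-isomorphism and which
induces, at every point x, a homotopy equivalence between the complexes of stalks F_x -> G_x. -/
theorem result {X : TopCat.{u}} (F : CochainComplex (CohTop.Ab X) ℤ)
    (a : ℤ) (hF : F.IsStrictlyGE a) :
    ∃ (G : CochainComplex (CohTop.Ab X) ℤ) (φ : F ⟶ G), G.IsStrictlyGE a ∧ QuasiIso φ ∧
      (∀ n : ℤ, TopCat.Sheaf.IsFlasque (G.X n)) ∧
      ∀ x : X, ∃ e : HomotopyEquiv ((CohCx.stalkCx x).obj F) ((CohCx.stalkCx x).obj G),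
        e.hom = (CohCx.stalkCx x).map φ := by
  let e := ComplexShape.embeddingUpIntGE a
  haveI : F.IsStrictlySupported e := hF
  let F' : CochainComplex (CohTop.Ab X) ℕ := F.restriction e
  let G' := StepResolution.G T η F'
  let φ' := StepResolution.φ T η F'
  let G : CochainComplex (CohTop.Ab X) ℤ := G'.extend e
  let φ : F ⟶ G := (Lib.SiteKFlat.RelResInt.supportIso e F).hom ≫ extendMap φ' e
  have hsto : ∀ x : X, ∃ h : HomotopyEquiv ((CohCx.stalkCx x).obj F) ((CohCx.stalkCx x).obj G),
      h.hom = (CohCx.stalkCx x).map φ := fun x => by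
    let S := St' x
    let M := S.mapHomologicalComplex (ComplexShape.up ℤ)
    choose r hr using exists_retraction' x
    let E₀ := StepResolution.homotopyEquiv T η F' S r hr
    -- the restriction of the stalk complex of `G`
    let w : (M.obj G).restriction e ≅ (S.mapHomologicalComplex _).obj G' :=
      Hom.isoOfComponents (fun i => S.mapIso (G'.extendXIso e rfl)) fun i j _ => by
        show S.map _ ≫ S.map _ = S.map ((G'.extend e).d (e.f i) (e.f j)) ≫ S.map _
        rw [← S.map_comp, ← S.map_comp, G'.extend_d_eq e rfl rfl, Category.assoc,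
          Category.assoc, Iso.inv_hom_id, Category.comp_id]
    haveI : (M.obj F).IsStrictlySupported e :=
      ⟨fun i' hi' => S.map_isZero (F.isZero_X_of_isStrictlySupported e i' hi')⟩
    haveI : (M.obj G).IsStrictlySupported e :=
      ⟨fun i' hi' => S.map_isZero (G.isZero_X_of_isStrictlySupported e i' hi')⟩
    let E₁ : HomotopyEquiv ((M.obj F).restriction e) ((M.obj G).restriction e) :=
      HomotopyEquiv.trans (E₀ : HomotopyEquiv ((M.obj F).restriction e) _)
        (HomotopyEquiv.ofIso w.symm)
    let E₂ : HomotopyEquiv (((M.obj F).restriction e).extend e)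
        (((M.obj G).restriction e).extend e) :=
      { hom := extendMap E₁.hom e
        inv := extendMap E₁.inv e
        homotopyHomInvId := (Homotopy.ofEq (extendMap_comp _ _ e).symm).trans
          ((E₁.homotopyHomInvId.extend e).trans (Homotopy.ofEq (extendMap_id _ e)))
        homotopyInvHomId := (Homotopy.ofEq (extendMap_comp _ _ e).symm).trans
          ((E₁.homotopyInvHomId.extend e).trans (Homotopy.ofEq (extendMap_id _ e))) }
    let sF := Lib.SiteKFlat.RelResInt.supportIso e (M.obj F)
    let sG := Lib.SiteKFlat.RelResInt.supportIso e (M.obj G)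
    refine ⟨((HomotopyEquiv.ofIso sF).trans E₂).trans (HomotopyEquiv.ofIso sG.symm), ?_⟩
    change (sF.hom ≫ extendMap E₁.hom e) ≫ sG.inv = M.map φ
    rw [Iso.comp_inv_eq]
    refine HomologicalComplex.hom_ext _ _ fun n => ?_
    by_cases hn : ∃ i, e.f i = n
    · obtain ⟨i, rfl⟩ := hn
      simp only [comp_f, sF, sG, Lib.SiteKFlat.RelResInt.supportIso_hom_f _ _ rfl,
        extendMap_f _ _ rfl]
      show ((_ ≫ _) ≫ _ ≫ (S.map (φ'.f i) ≫ S.map (G'.extendXIso e rfl).inv) ≫ _) =
        S.map ((Lib.SiteKFlat.RelResInt.supportIso e F).hom.f (e.f i) ≫ (extendMap φ' e).f (e.f i))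
          ≫ _
      rw [Lib.SiteKFlat.RelResInt.supportIso_hom_f _ _ rfl, extendMap_f _ _ rfl]
      simp only [restrictionXIso, eqToIso.inv, Category.assoc, S.map_comp]
      erw [eqToHom_refl, eqToHom_refl, S.map_id, Category.id_comp, Category.id_comp,
        Iso.inv_hom_id_assoc, eqToHom_refl, Category.id_comp]
      refine Eq.symm ((Category.assoc _ _ _).symm.trans ?_)
      erw [← S.map_comp, (F'.extendXIso e rfl).inv_hom_id, S.map_id]
      exact Category.id_comp _
    · exact ((M.obj F).isZero_X_of_isStrictlySupported e n fun i hi => hn ⟨i, hi⟩).eq_of_src _ _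
  refine ⟨G, φ, inferInstanceAs ((G'.extend e).IsStrictlySupported e), ?_, fun n => ?_, hsto⟩
  · refine quasiIso_of_stalks φ fun x => ?_
    obtain ⟨h, hh⟩ := hsto x
    rw [← hh]
    infer_instance
  · by_cases hn : ∃ i, e.f i = n
    · obtain ⟨i, rfl⟩ := hn
      haveI : TopCat.Sheaf.IsFlasque (G'.X i) := (Groth.Agent.S0866.result _).2
      let c : (G.X (e.f i)).obj ≅ (G'.X i).obj :=
        (sheafToPresheaf _ _).mapIso (G'.extendXIso e rfl)
      refine ⟨fun {U V} j => ?_⟩
      have : Epi ((G'.X i).obj.map j) := TopCat.Presheaf.IsFlasque.epi (F := (G'.X i).obj) j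
      rw [(NatIso.naturality_2 c j).symm]
      infer_instance
    · have hz := (G'.isZero_extend_X e n fun i hi => hn ⟨i, hi⟩)
      refine ⟨fun {U V} j => ?_⟩
      have : IsZero ((G.X n).obj.obj V) :=
        Functor.map_isZero (sheafToPresheaf _ _ ⋙ (CategoryTheory.evaluation _ _).obj V) hz
      exact ⟨fun g h _ => this.eq_of_src g h⟩

end Groth.Agent.S0867
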