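import Groth.Statements.S0876
import Groth.Agent.Lib.SiteCmp29.TriMV

set_option autoImplicit false
set_option maxHeartbeats 400000
universe u
open CategoryTheory
open CohSite

namespace Groth.Agent.S0876

open CategoryTheory.Limits in
/-- As a long exact sequence of cohomology groups rather than a triangle of complexes: let S be a
Mayer-Vietoris square of a site, with corners X₁ (playing the role of the intersection), X₂, X₃ and
X₄ (the union). For every object K of the derived category of abelian sheaves there are connecting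
homomorphisms H^n(X₁, K) -> H^{n+1}(X₄, K) which together with the restriction maps (sum into
H^n(X₂, K) ⊕ H^n(X₃, K), difference out of it) form a long exact sequence ... -> H^n(X₄, K) ->
H^n(X₂, K) ⊕ H^n(X₃, K) -> H^n(X₁, K) -> H^{n+1}(X₄, K) -> .... Here H^n(U, K) is the group of maps
from the free abelian sheaf on U to K[n]. -/
theorem result {C : Type u} [SmallCategory C] {J : GrothendieckTopology C}
    [HasWeakSheafify J (Type u)] [HasDerivedCategory.{u} (Sheaf J AddCommGrpCat.{u})]
    (S : J.MayerVietorisSquare) (K : DerivedCategory (Sheaf J AddCommGrpCat.{u})) :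
    ∃ δ : ∀ n : ℤ, CohCx.HDU K n S.X₁ →+ CohCx.HDU K (n + 1) S.X₄,
      ∀ n : ℤ,
        (ComposableArrows.mk₂
          (AddCommGrpCat.ofHom ((CohCx.HDUres K n S.f₂₄).prod (CohCx.HDUres K n S.f₃₄)))
          (AddCommGrpCat.ofHom ((CohCx.HDUres K n S.f₁₂).coprod (-(CohCx.HDUres K n S.f₁₃))))).Exact ∧
        (ComposableArrows.mk₂
          (AddCommGrpCat.ofHom ((CohCx.HDUres K n S.f₁₂).coprod (-(CohCx.HDUres K n S.f₁₃))))
          (AddCommGrpCat.ofHom (δ n))).Exact ∧
        (ComposableArrows.mk₂ (AddCommGrpCat.ofHom (δ n))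
          (AddCommGrpCat.ofHom ((CohCx.HDUres K (n + 1) S.f₂₄).prod (CohCx.HDUres K (n + 1) S.f₃₄)))).Exact := by
  have H := fun n => Groth.Agent.Lib.SiteCmp29.TriMV.exists_exact
    (DerivedCategory.singleFunctor (Sheaf J AddCommGrpCat.{u}) 0)
    (CohCx.freeSheafMap J S.f₁₂) (CohCx.freeSheafMap J S.f₁₃)
    (CohCx.freeSheafMap J S.f₂₄) (CohCx.freeSheafMap J S.f₃₄)
    S.shortComplex.zero S.shortComplex_shortExact.singleδ
    S.shortComplex_shortExact.singleTriangle_distinguished
    ((shiftFunctor (DerivedCategory (Sheaf J AddCommGrpCat.{u})) n).obj K)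
    ((shiftFunctor (DerivedCategory (Sheaf J AddCommGrpCat.{u})) (n + 1)).obj K)
    ((shiftFunctorAdd' _ n 1 (n + 1) rfl).app K).symm
  choose δ _ h₁ h₂ h₃ using H
  refine ⟨δ, fun n => ⟨?_, ?_, ?_⟩⟩
  · exact ComposableArrows.exact₂_mk _ (AddCommGrpCat.ext fun x => (h₁ n).apply_apply_eq_zero x)
      ((ShortComplex.ab_exact_iff_function_exact _).2 (h₁ n))
  · exact ComposableArrows.exact₂_mk _ (AddCommGrpCat.ext fun x => (h₂ n).apply_apply_eq_zero x)
      ((ShortComplex.ab_exact_iff_function_exact _).2 (h₂ n))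
  · exact ComposableArrows.exact₂_mk _ (AddCommGrpCat.ext fun x => (h₃ n).apply_apply_eq_zero x)
      ((ShortComplex.ab_exact_iff_function_exact _).2 (h₃ n))

end Groth.Agent.S0876
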