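import Groth.Statements.S0883
import Groth.Agent.H30.DHom.Retract
import Groth.Agent.Lib.DerCat.KInjExists

set_option autoImplicit false
universe u
open CategoryTheory
open CohTop

namespace Groth.Agent.S0883

theorem exists_kinj {X : TopCat.{u}} [HasDerivedCategory.{u} (CohTop.Ab X)]
    (K : DerivedCategory (CohTop.Ab X)) :
    ∃ (I : CochainComplex (CohTop.Ab X) ℤ), I.IsKInjective ∧
      Nonempty (K ≅ DerivedCategory.Q.obj I) := by
  obtain ⟨K0, ⟨e⟩⟩ : ∃ K0, Nonempty (DerivedCategory.Q.obj K0 ≅ K) :=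
    ⟨_, ⟨DerivedCategory.Q.objObjPreimageIso K⟩⟩
  obtain ⟨I, g, hI, hg⟩ := Lib.DerCat.KInjExists.hasKInjRes K0
  exact ⟨I, hI, ⟨e.symm ≪≫ asIso (DerivedCategory.Q.map g)⟩⟩

open TopologicalSpace in
/-- Part (1) (abelian sheaves; the assertion about Rf_* K is not included): given a continuous map f : X
-> Y, a basis B of opens of Y and an object K of the derived category of abelian sheaves on X such
that H^i(f^{-1}V, K) = 0 for all i < 0 and V in B. Then H^i(f^{-1}V, K) = 0 for i < 0 and every open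
V of Y, and the presheaf V ↦ H^0(f^{-1}V, K) is a sheaf on Y. -/
theorem result {X Y : TopCat.{u}} (f : X ⟶ Y)
    [HasDerivedCategory.{u} (CohTop.Ab X)] (B : Set (Opens Y)) (hB : Opens.IsBasis B)
    (K : DerivedCategory (CohTop.Ab X))
    (h : ∀ V ∈ B, ∀ i : ℤ, i < 0 → Subsingleton (CohCx.HDU K i ((Opens.map f).obj V))) :
    (∀ (V : Opens Y) (i : ℤ), i < 0 → Subsingleton (CohCx.HDU K i ((Opens.map f).obj V))) ∧
    Presheaf.IsSheaf (Opens.grothendieckTopology Y) ((Opens.map f).op ⋙ CohCx.HDUPresheaf K 0) := by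
  obtain ⟨I, hI, ⟨e⟩⟩ := exists_kinj K
  let J (i : ℤ) := ((CohTop.push f).mapHomologicalComplex (ComplexShape.up ℤ)).obj (I⟦i⟧)
  let J0 := ((CohTop.push f).mapHomologicalComplex (ComplexShape.up ℤ)).obj I
  have hJK : ∀ i, CochainComplex.IsKInjective (J i) := fun i => H30.DHom.isKInjective_push f _
  let eP (i : ℤ) : (H30.DHom.secCx (J i)).homology 0 ≅
      (Opens.map f).op ⋙ CohCx.HDUPresheaf K i :=
    H30.DHom.pushHomologyIso f (I⟦i⟧) 0 ≪≫ Functor.isoWhiskerLeft _
      (H30.DHom.iso (I⟦i⟧) ≪≫ Functor.isoWhiskerLeft _ (preadditiveYoneda.mapIso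
        ((shiftFunctor _ i).mapIso e ≪≫ (DerivedCategory.Q.commShiftIso i).symm.app I).symm))
  let eH (i j k : ℤ) (hk : i + j = k) : (J i).homology j ≅ J0.homology k :=
    (HomologicalComplex.homologyFunctor _ _ j).mapIso
        ((((CohTop.push f).mapHomologicalComplex (ComplexShape.up ℤ)).commShiftIso i).app I) ≪≫
      (CochainComplex.ShiftSequence.shiftIso _ i j k hk).app J0
  have hneg : ∀ k : ℤ, k < 0 → Limits.IsZero (J0.homology k) := fun k hk => by
    refine Limits.IsZero.of_iso ?_ (eH k 0 k (add_zero k)).symm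
    refine (HomologicalComplex.exactAt_iff_isZero_homology _ _).1
      (H30.DHom.exactAt_of_basis (J k) 0 B hB fun V hV => ?_)
    have : Subsingleton (((Opens.map f).op ⋙ CohCx.HDUPresheaf K k).obj (Opposite.op V)) :=
      h V hV k hk
    exact Limits.IsZero.of_iso (AddCommGrpCat.isZero_of_subsingleton _) ((eP k).app (Opposite.op V))
  have hex : ∀ i j : ℤ, i + j < 0 → (J i).ExactAt j := fun i j hij =>
    (HomologicalComplex.exactAt_iff_isZero_homology _ _).2
      (Limits.IsZero.of_iso (hneg _ hij) (eH i j _ rfl))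
  refine ⟨fun V i hi => ?_, ?_⟩
  · obtain ⟨R⟩ := H30.DHom.exists_retract_homology (J i) 1 fun j hj => hex i j (by lia)
    have hT := H30.DHom.isZero_homology_of_gt (CochainComplex.truncGE (J i) 1) 1 (i := 0) Int.zero_lt_one
    have h0 : Limits.IsZero ((H30.DHom.secCx (J i)).homology 0) := by
      rw [Limits.IsZero.iff_id_eq_zero, ← R.retract, hT.eq_of_tgt R.i 0, Limits.zero_comp]
    exact AddCommGrpCat.subsingleton_of_isZero
      (Limits.IsZero.of_iso (h0.obj (Opposite.op V)) ((eP i).app (Opposite.op V)).symm)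
  · obtain ⟨R⟩ := H30.DHom.exists_retract_homology (J 0) 0 fun j hj => hex 0 j (by lia)
    obtain ⟨F, ⟨eF⟩⟩ := H30.DHom.exists_sheaf_homology_zero (CochainComplex.truncGE (J 0) 0)
    exact H30.DHom.isSheaf_of_retract F
      ((Retract.ofIso (eP 0).symm).trans (R.trans (Retract.ofIso eF)))

end Groth.Agent.S0883
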