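import Groth.Statements.S0893
import Groth.Agent.Lib.SchColim29.CompactFinCd

set_option autoImplicit false
universe u
open CategoryTheory
attribute [local instance] HasDerivedCategory.standard
open DCoh

namespace Groth.Agent.S0893

open AlgebraicGeometry CategoryTheory.Limits in
/-- Schemes; a quasi-compact quasi-separated scheme satisfies the topological hypotheses of the source:
for a perfect object K of D(O_X) on a quasi-compact quasi-separated scheme X: (a) For every family
(M_i) of objects of D(O_X) which are uniformly bounded below and whose direct sum exists, the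
canonical map ⊕_i Hom(K, M_i) -> Hom(K, ⊕_i M_i) is bijective. (b) If moreover there is d with
H^i(X, F) = 0 for all i > d and all O_X-modules F, the same holds for every family whose direct sum
exists. (Index types are lifted one universe because morphism sets of this model of D(O_X) live one
universe up.) -/
theorem result {X : Scheme.{u}} [CompactSpace X] [QuasiSeparatedSpace X]
    (K : DCoh.D X) (hK : DCoh.IsPerfect K) :
    (∀ (I : Type u) (M : I → DCoh.D X) [HasCoproduct fun i : ULift.{u + 1} I => M i.down] (a : ℤ),
      (∀ i, (M i).IsGE a) →
      Function.Bijective (CohDer.homSumToHomCoprod K (fun i : ULift.{u + 1} I => M i.down))) ∧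
    ((∃ d : ℕ, ∀ (F : X.Modules) (i : ℕ), d < i → Subsingleton (Coh.HH X F i)) →
      ∀ (I : Type u) (M : I → DCoh.D X) [HasCoproduct fun i : ULift.{u + 1} I => M i.down],
      Function.Bijective (CohDer.homSumToHomCoprod K (fun i : ULift.{u + 1} I => M i.down))) := by
  refine ⟨fun I M _ a ha => ⟨Groth.Agent.Lib.DerCat.Compact.homSum_injective _, fun f => ?_⟩,
    fun ⟨d, hd⟩ I M _ => ⟨Groth.Agent.Lib.DerCat.Compact.homSum_injective _, fun f => ?_⟩⟩
  · exact Groth.Agent.Lib.SchColim29.CompactLocal.cptB_of_isPerfect K hK I
      (fun i : ULift.{u + 1} I => M i.down) a (fun i => ha i.down) f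
  · exact Groth.Agent.Lib.SchColim29.CompactFinCd.surjective_of_finCd K hK d hd I
      (fun i : ULift.{u + 1} I => M i.down) f

end Groth.Agent.S0893
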