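import Groth.Statements.S0894
import Groth.Agent.Lib.Hypercov.Conditions
-- import your own Groth.Agent.* helpers here

set_option autoImplicit false
universe u
open CategoryTheory
open Hyper

namespace Groth.Agent.S0894

open Opposite in
/-- For a hypercovering K of an object X of a site with fibre products (a simplicial semi-representable
object over X; coskeleta are assumed to exist): (1) for each n the family K_n is a covering of X,
and (2) every face map d_i : K_{n+1} -> K_n is a covering morphism of semi-representable objects. -/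
theorem result {C : Type u} [SmallCategory C] [Limits.HasPullbacks C]
    (J : GrothendieckTopology C) (X : C) (K : SimplicialObject (Limits.FormalCoproduct.{u} (Over X)))
    [∀ (n : ℕ) (F : (SimplexCategory.Truncated n)ᵒᵖ ⥤ Limits.FormalCoproduct.{u} (Over X)),
      (SimplexCategory.Truncated.inclusion n).op.HasRightKanExtension F]
    (hK : Hyper.IsHypercovering J X K) :
    (∀ n : ℕ, Sieve.ofArrows (fun i => ((K.obj (op (SimplexCategory.mk n))).obj i).left)
      (fun i => ((K.obj (op (SimplexCategory.mk n))).obj i).hom) ∈ J X) ∧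
    ∀ (n : ℕ) (i : Fin (n + 2)), Hyper.IsSRCovering (J.over X) (K.δ i) := by
  refine ⟨fun n => J.superset_covering ?_ hK.1, fun n i => ?_⟩
  · rw [Sieve.ofArrows, Sieve.generate_le_iff]
    rintro _ _ ⟨i₀⟩
    let s := K.map (SimplexCategory.const (SimplexCategory.mk n) (SimplexCategory.mk 0) 0).op
    exact (Sieve.mem_ofArrows_iff _ _ _).2 ⟨s.f i₀, (s.φ i₀).left, (Over.w (s.φ i₀)).symm⟩
  · obtain ⟨s, hs⟩ : ∃ s, s ≫ K.δ i = 𝟙 _ := by
      induction i using Fin.lastCases with
      | last => exact ⟨K.σ (Fin.last n), K.δ_comp_σ_succ' (Fin.succ_last n).symm⟩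
      | cast i => exact ⟨K.σ i, K.δ_comp_σ_self⟩
    exact Lib.Hypercov.Conditions.isSRCovering_of_isLocallySurjective _ ⟨fun {U} y => by
      refine GrothendieckTopology.superset_covering _ ?_ ((J.over X).top_mem _)
      intro V g _
      exact ⟨((Lib.Hypercov.Sigma.hom.obj _).map g.op y) ≫ s,
        (Category.assoc _ _ _).trans ((congrArg _ hs).trans (Category.comp_id _))⟩⟩

end Groth.Agent.S0894
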