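import Groth.Statements.S0898
import Groth.Agent.Lib.Hypercov.Conditions
-- import your own Groth.Agent.* helpers here

set_option autoImplicit false
universe u
open CategoryTheory
open Hyper

namespace Groth.Agent.S0898

open CategoryTheory.Limits in
/-- Parts (1) and (2), about covering morphisms between semi-representable objects (formal coproducts)
of a site: (1) the composite of two covering morphisms is a covering, and (2) for a site with fibre
products, the base change of a covering K -> L along any L' -> L (which exists) is a covering L' x_L
K -> L'. -/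
theorem result {C : Type u} [SmallCategory C] (J : GrothendieckTopology C) :
    (∀ {K L M : FormalCoproduct.{u} C} (f : K ⟶ L) (g : L ⟶ M),
      Hyper.IsSRCovering J f → Hyper.IsSRCovering J g → Hyper.IsSRCovering J (f ≫ g)) ∧
    (∀ [HasPullbacks C] {K L L' : FormalCoproduct.{u} C} (f : K ⟶ L) (g : L' ⟶ L),
      Hyper.IsSRCovering J f → HasPullback g f ∧ ∀ [HasPullback g f], Hyper.IsSRCovering J (pullback.fst g f)) := by
  refine ⟨fun {K L M} f g hf hg => ?_, fun [HasPullbacks C] {K L L'} f g hf => ⟨inferInstance, fun [HasPullback g f] => ?_⟩⟩
  · have := Lib.Hypercov.Sigma.isLocallySurjective_of_isSRCovering f hf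
    have := Lib.Hypercov.Sigma.isLocallySurjective_of_isSRCovering g hg
    refine Lib.Hypercov.Conditions.isSRCovering_of_isLocallySurjective _ ?_
    rw [Functor.map_comp]
    exact Presheaf.isLocallySurjective_comp J _ _
  · have hs := Lib.Hypercov.Sigma.isLocallySurjective_of_isSRCovering f hf
    refine Lib.Hypercov.Conditions.isSRCovering_of_isLocallySurjective _ ⟨fun {U} y => ?_⟩
    refine J.superset_covering ?_ (hs.imageSieve_mem ((Lib.Hypercov.Sigma.hom.map g).app (Opposite.op U) y))
    rintro V v ⟨k, hk⟩
    let z : (FormalCoproduct.incl C).obj V ⟶ L' := (Lib.Hypercov.Sigma.hom.obj L').map v.op y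
    have hz : z ≫ g = k ≫ f := (Category.assoc _ _ _).trans hk.symm
    refine ⟨pullback.lift z k hz, ?_⟩
    change pullback.lift z k hz ≫ pullback.fst g f = z
    exact pullback.lift_fst _ _ _

end Groth.Agent.S0898
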