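import Groth.Statements.S0905
import Groth.Agent.Lib.SiteCoh.Acyclic
-- import your own Groth.Agent.* helpers here

set_option autoImplicit false
universe u
open CategoryTheory
open CohSite

namespace Groth.Agent.S0905

open Opposite CategoryTheory.Limits in
/-- Parts (1) and (2), for a weakly contractible object U of a site (one over which every epimorphism of
sheaves of sets is surjective on sections): (1) the functor F ↦ F(U) from abelian sheaves to abelian
groups preserves finite colimits (it is exact, finite limits being automatic), and (2) H^p(U, F) = 0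
for every abelian sheaf F and every p > 0. (Part (3) about torsors is not included.) -/
theorem result {C : Type u} [SmallCategory C] (J : GrothendieckTopology C)
    (U : C) (hU : CohSite.IsWeaklyContractible J U) :
    PreservesFiniteColimits (sheafToPresheaf J AddCommGrpCat.{u} ⋙ (evaluation Cᵒᵖ AddCommGrpCat.{u}).obj (op U)) ∧
    ∀ (F : Sheaf J AddCommGrpCat.{u}) (p : ℕ), Subsingleton (CohSite.HU F (p + 1) U) := by
  have hsurj : ∀ {F G : Sheaf J AddCommGrpCat.{u}} (φ : F ⟶ G), Epi φ →
      Function.Surjective (φ.hom.app (op U)) := by
    intro F G φ hφ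
    have : Sheaf.IsLocallySurjective φ := (Sheaf.isLocallySurjective_iff_epi' _ φ).2 hφ
    let ψ := (sheafCompose J (forget AddCommGrpCat.{u})).map φ
    have : Sheaf.IsLocallySurjective ψ :=
      (Presheaf.isLocallySurjective_iff_whisker_forget J φ.hom).1 this
    exact hU _ _ ψ ((Sheaf.isLocallySurjective_iff_epi ψ).1 this)
  refine ⟨?_, fun F p => Lib.SiteCoh.Acyclic.subsingleton_hu_of_surjective hsurj p F⟩
  let Γ := sheafToPresheaf J AddCommGrpCat.{u} ⋙ (evaluation Cᵒᵖ AddCommGrpCat.{u}).obj (op U)
  have : Γ.PreservesEpimorphisms := ⟨fun φ _ => (AddCommGrpCat.epi_iff_surjective _).2 (hsurj φ inferInstance)⟩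
  have : PreservesFiniteLimits Γ := inferInstance
  have : Γ.Additive := inferInstance
  have : Γ.PreservesHomology :=
    Functor.preservesHomology_of_preservesEpis_and_kernels Γ
  exact Functor.preservesFiniteColimits_of_preservesHomology Γ

end Groth.Agent.S0905
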