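import Groth.Agent.Lib.Hypercov.Fillable
import Groth.Statements.S0907
-- import your own Groth.Agent.* helpers here

set_option autoImplicit false
universe u
open CategoryTheory
open Hyper

namespace Groth.Agent.S0907

open TopologicalSpace Opposite CategoryTheory.Limits in
/-- Phrased in the site of opens of X, with X the top open: let B be a basis for the topology of X. Then
there is a hypercovering K of X such that every open occurring in every K_n belongs to B. -/
theorem result {X : TopCat.{u}} (B : Set (Opens X)) (hB : Opens.IsBasis B)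
    [∀ (n : ℕ) (F : (SimplexCategory.Truncated n)ᵒᵖ ⥤ Limits.FormalCoproduct.{u} (Over (⊤ : Opens X))),
      (SimplexCategory.Truncated.inclusion n).op.HasRightKanExtension F] :
    ∃ K : SimplicialObject (FormalCoproduct.{u} (Over (⊤ : Opens X))),
      Hyper.IsHypercovering (Opens.grothendieckTopology X) ⊤ K ∧
      ∀ (n : ℕ) (i : (K.obj (op (SimplexCategory.mk n))).I),
        ((K.obj (op (SimplexCategory.mk n))).obj i).left ∈ B := by
  have hc : Lib.Hypercov.Exist.Covers (Opens.grothendieckTopology X) B := by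
    refine Lib.Hypercov.Exist.covers_of_families _ fun W =>
      ⟨{Z : Opens X // Z ∈ B ∧ Z ≤ W}, Subtype.val, fun Z => homOfLE Z.2.2, ?_, fun Z => Z.2.1⟩
    intro x hx
    obtain ⟨Z, hZ, hxZ, hZW⟩ := Opens.isBasis_iff_nbhd.1 hB hx
    exact ⟨Z, homOfLE hZW, Sieve.ofArrows_mk _ _ (⟨Z, hZ, hZW⟩ : {Z : Opens X // Z ∈ B ∧ Z ≤ W}), hxZ⟩
  exact ⟨_, Lib.Hypercov.Exist.isHypercovering (Lib.Hypercov.Fillable.covers_over hc)
    (Lib.Hypercov.Fillable.locFill_pt _)
    (Lib.Hypercov.Fillable.isLocallySurjective_id _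
      ((Lib.Hypercov.Fillable.pt (Over (⊤ : Opens X))).obj (op (SimplexCategory.mk 0)))),
    fun n i => Lib.Hypercov.Exist.obj_mem _ (op (SimplexCategory.mk n)) i⟩

end Groth.Agent.S0907
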