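import Groth.Statements.S0909
import Mathlib
-- import your own Groth.Agent.* helpers here

set_option autoImplicit false
universe u
open CategoryTheory
open CohDer

namespace Groth.Agent.S0909

open CategoryTheory.Limits Opposite

variable {A : Type u} [SmallCategory A] [Abelian A] [Preregular A]

noncomputable def emb (A : Type u) [SmallCategory A] [Abelian A] :
    A ⥤ ModuleCat.{u} (Abelian.FreydMitchell.EmbeddingRing A) :=
  Abelian.FreydMitchell.functor A

noncomputable def fib (X : A) : A ⥤ Type u :=
  emb A ⋙ forget _ ⋙ coyoneda.obj (op ((forget _).obj ((emb A).obj X)))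

instance (X : A) : PreservesFiniteLimits (fib X) := by
  have : PreservesFiniteLimits (emb A) := by unfold emb; infer_instance
  unfold fib; infer_instance

lemma emb_surj {X Y : A} (f : X ⟶ Y) [Epi f] :
    Function.Surjective ((emb A).map f) := by
  have : PreservesFiniteColimits (emb A) := by unfold emb; infer_instance
  rw [← ModuleCat.epi_iff_surjective]
  infer_instance

noncomputable def point (X : A) : GrothendieckTopology.Point.{u} (regularTopology A) where
  fiber := fib X
  isCofiltered := Functor.isCofiltered_elements _
  initiallySmall := initiallySmall_of_essentiallySmall _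
  jointly_surjective := by
    intro Y R hR x
    obtain ⟨Z, π, hπ, hRπ⟩ := (regularTopology.mem_sieves_iff_hasEffectiveEpi R).1 hR
    let x' : (forget _).obj ((emb A).obj X) ⟶ (forget _).obj ((emb A).obj Y) := x
    refine ⟨Z, π, hRπ, ↾(fun t => (emb_surj π (x' t)).choose), ?_⟩
    apply ConcreteCategory.hom_ext
    intro t
    exact (emb_surj π (x' t)).choose_spec

lemma effectiveEpi_of_epi {X Y : A} (g : X ⟶ Y) [Epi g] : EffectiveEpi g :=
  have : IsRegularEpi g := IsRegularEpiCategory.regularEpiOfEpi g
  inferInstance

lemma hasEnoughPoints :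
    GrothendieckTopology.HasEnoughPoints.{u, u, u} (regularTopology A) := by
  refine ⟨ObjectProperty.ofObj (point (A := A)), inferInstance, ?_⟩
  apply ObjectProperty.IsConservativeFamilyOfPoints.mk'
  intro X S hS
  obtain ⟨Y, g, hg, y, hy⟩ := hS ⟨point X, ⟨X⟩⟩ (𝟙 _)
  apply regularTopology.mem_sieves_of_hasEffectiveEpi
  refine ⟨Y, g, ?_, hg⟩
  have : (emb A).Faithful := by unfold emb; infer_instance
  have : Epi ((emb A).map g) := by
    rw [ModuleCat.epi_iff_surjective]
    intro t
    let y' : (forget _).obj ((emb A).obj X) ⟶ (forget _).obj ((emb A).obj Y) := y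
    have hy' : y' ≫ (forget _).map ((emb A).map g) = 𝟙 _ := hy
    exact ⟨y' t, ConcreteCategory.congr_hom hy' t⟩
  have : Epi g := (emb A).epi_of_epi_map this
  exact effectiveEpi_of_epi g

lemma isSheaf_preadditiveYoneda (W : A) :
    Presheaf.IsSheaf (regularTopology A) (preadditiveYoneda.obj W) := by
  rw [Presheaf.isSheaf_iff_isSheaf_forget (regularTopology A) _ (forget AddCommGrpCat.{u}),
    isSheaf_iff_isSheaf_of_type]
  exact regularTopology.isSheaf_yoneda_obj W

variable (A) in
noncomputable def ySheaf : A ⥤ Sheaf (regularTopology A) AddCommGrpCat.{u} :=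
  ObjectProperty.lift _ preadditiveYoneda isSheaf_preadditiveYoneda

variable (A) in
noncomputable def ySheafIso :
    preadditiveYoneda ⋙ presheafToSheaf (regularTopology A) AddCommGrpCat.{u} ≅ ySheaf A :=
  Functor.isoWhiskerLeft (ySheaf A)
      (asIso (sheafificationAdjunction (regularTopology A) AddCommGrpCat.{u}).counit) ≪≫
    (ySheaf A).rightUnitor

noncomputable def ySheafFF : (ySheaf A).FullyFaithful :=
  Functor.FullyFaithful.ofCompFaithful (G := sheafToPresheaf _ _)
    (Functor.FullyFaithful.ofFullyFaithful (preadditiveYoneda (C := A)))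

instance : PreservesFiniteLimits (preadditiveYoneda (C := A)) where
  preservesFiniteLimits J _ _ := by
    refine preservesLimitsOfShape_of_evaluation _ _ (fun Z => ?_)
    exact inferInstanceAs (PreservesLimitsOfShape J (preadditiveCoyoneda.obj Z))

instance : PreservesFiniteLimits (ySheaf A) := by
  have : PreservesFiniteLimits (ySheaf A ⋙ sheafToPresheaf _ _) :=
    inferInstanceAs (PreservesFiniteLimits (preadditiveYoneda (C := A)))
  refine ⟨fun J _ _ => ?_⟩
  exact preservesLimitsOfShape_of_reflects_of_preserves (ySheaf A) (sheafToPresheaf _ _)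

instance : (ySheaf A).Additive where
  map_add := by
    intro X Y f g
    apply (sheafToPresheaf _ _).map_injective
    refine NatTrans.ext ?_
    funext Z
    apply AddCommGrpCat.ext
    intro t
    exact Preadditive.comp_add _ _ _ _ _ _

lemma ySheaf_epi {X Y : A} (g : X ⟶ Y) [Epi g] : Epi ((ySheaf A).map g) := by
  suffices Sheaf.IsLocallySurjective ((ySheaf A).map g) by infer_instance
  refine ⟨fun {Z} s => ?_⟩
  apply regularTopology.mem_sieves_of_hasEffectiveEpi
  refine ⟨pullback (s : Z ⟶ Y) g, pullback.fst _ _, effectiveEpi_of_epi _, pullback.snd _ _, ?_⟩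
  exact pullback.condition.symm

instance : PreservesFiniteColimits (ySheaf A) := by
  have h : ∀ S : ShortComplex A, S.ShortExact → (S.map (ySheaf A)).ShortExact := by
    intro S hS
    have := hS.mono_f
    have := hS.epi_g
    have key : PreservesFiniteLimits (ySheaf A) ↔
        ∀ (S : ShortComplex A), S.ShortExact → (S.map (ySheaf A)).Exact ∧ Mono ((ySheaf A).map S.f) :=
      (Functor.preservesFiniteLimits_tfae (ySheaf A)).out 3 0
    obtain ⟨h1, h2⟩ := key.1 inferInstance S hS
    have : Mono (S.map (ySheaf A)).f := h2
    have : Epi (S.map (ySheaf A)).g := ySheaf_epi S.g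
    exact ⟨h1⟩
  have key : (∀ S : ShortComplex A, S.ShortExact → (S.map (ySheaf A)).ShortExact) ↔
      PreservesFiniteLimits (ySheaf A) ∧ PreservesFiniteColimits (ySheaf A) :=
    (Functor.exact_tfae (ySheaf A)).out 0 3
  exact (key.1 h).2

open CategoryTheory.Limits in
/-- Let A be a small abelian category, made into a site by declaring the single epimorphisms to be
coverings (Mathlib's regular topology; the regularity instance is assumed). Then the functor X ↦
h_X, viewed in abelian sheaves (here: additive Yoneda followed by sheafification, which does not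
change h_X since representables are sheaves), is fully faithful and exact, and the site has enough
points (a small conservative family of points, with fibre functors valued in Type u). -/
theorem result {A : Type u} [SmallCategory A] [Abelian A] [Preregular A] :
    (preadditiveYoneda ⋙ presheafToSheaf (regularTopology A) AddCommGrpCat.{u}).Full ∧
    (preadditiveYoneda ⋙ presheafToSheaf (regularTopology A) AddCommGrpCat.{u}).Faithful ∧
    PreservesFiniteLimits (preadditiveYoneda ⋙ presheafToSheaf (regularTopology A) AddCommGrpCat.{u}) ∧
    PreservesFiniteColimits (preadditiveYoneda ⋙ presheafToSheaf (regularTopology A) AddCommGrpCat.{u}) ∧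
    GrothendieckTopology.HasEnoughPoints.{u, u, u} (regularTopology A) := by
  have e := ySheafIso A
  have := (ySheafFF (A := A)).full
  have := (ySheafFF (A := A)).faithful
  exact ⟨Functor.Full.of_iso e.symm, Functor.Faithful.of_iso e.symm,
    preservesFiniteLimits_of_natIso e.symm, preservesFiniteColimits_of_natIso e.symm,
    hasEnoughPoints⟩

end Groth.Agent.S0909
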