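import Groth.Agent.Lib.DerCat.KInjFunctor
-- Template for statement S0918 (row 918; see the milestone table for weights).
-- Copy to Groth/Agent/S0918.lean and replace the sorry. The statement below is byte-identical to the frozen
-- statement CohDer.GrothFrozen.S0918 (Groth/Statements/S0918.lean; the theorem CohDer.exists_functorial_injective_hull_of_complexes);
-- the grader kernel-checks Groth.Agent.S0918.result against that frozen type. Keep the theorem IN THIS FILE
-- (a `result` declared elsewhere and merely imported here is not credited); helpers may live anywhere
-- under Groth/Agent/.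
import Groth.Statements.S0918
-- import your own Groth.Agent.* helpers here

set_option autoImplicit false
universe v u
open CategoryTheory
open CohDer

namespace Groth.Agent.S0918

/-- Let A be a Grothendieck abelian category. There are an endofunctor N of the category of cochain
complexes and a natural transformation j from the identity to N such that for every complex M: j_M
is a termwise monomorphism and a quasi-isomorphism, and for every n the map M^n -> N(M)^n factors
through a monomorphism I -> N(M)^n from an injective object I. -/
theorem result {A : Type u} [Category.{v} A] [Abelian A]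
    [IsGrothendieckAbelian.{v} A] :
    ∃ (N : CochainComplex A ℤ ⥤ CochainComplex A ℤ) (j : 𝟭 _ ⟶ N),
      ∀ M : CochainComplex A ℤ, (∀ n : ℤ, Mono ((j.app M).f n)) ∧ QuasiIso (j.app M) ∧
        ∀ n : ℤ, ∃ (I : A) (_ : Injective I) (a : M.X n ⟶ I) (b : I ⟶ (N.obj M).X n),
          Mono b ∧ a ≫ b = (j.app M).f n := by
  refine ⟨Groth.Agent.Lib.DerCat.KInjFunctor.R A, Groth.Agent.Lib.DerCat.KInjFunctor.j A,
    fun M => ⟨Groth.Agent.Lib.DerCat.KInjFunctor.mono_j_f M,
      Groth.Agent.Lib.DerCat.KInjFunctor.quasiIso_j M, fun n => ?_⟩⟩
  exact ⟨_, (Groth.Agent.Lib.DerCat.KInjFunctor.kinj_R M).2 n, _, 𝟙 _, inferInstance,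
    Category.comp_id _⟩

end Groth.Agent.S0918
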