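import Groth.Statements.S0919
-- import your own Groth.Agent.* helpers here

set_option autoImplicit false
universe v u
open CategoryTheory
open CohDer

namespace Groth.Agent.S0919

open CategoryTheory.Limits in
/-- Let A be a Grothendieck abelian category and F a contravariant functor from A to sets (a functor on
the opposite category). Then F is representable if and only if F turns all small colimits of A into
limits, i.e. preserves small limits as a functor on the opposite category. -/
theorem result {A : Type u} [Category.{v} A] [Abelian A]
    [IsGrothendieckAbelian.{v} A] (F : Aᵒᵖ ⥤ Type v) :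
    F.IsRepresentable ↔ PreservesLimitsOfSize.{v, v} F := by
  constructor
  · intro h
    exact preservesLimits_of_natIso F.reprW
  · intro h
    have : HasSeparator A := inferInstance
    have hR : F.IsRightAdjoint :=
      isRightAdjoint_of_preservesLimits_of_isCoseparating
        ((isCoseparator_op_iff _).2 (isSeparator_separator A)) F
    let adj := Adjunction.ofIsRightAdjoint F
    refine Functor.RepresentableBy.isRepresentable (Y := (F.leftAdjoint.obj PUnit.{v + 1}).unop)
      { homEquiv := fun {Y} =>
          Quiver.Hom.opEquiv.trans
            ((adj.homEquiv PUnit.{v + 1} (Opposite.op Y)).trans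
              ((CategoryTheory.ConcreteCategory.homEquiv (C := Type v)).trans { toFun := fun h => h PUnit.unit, invFun := fun x => TypeCat.Fun.mk fun _ => x, left_inv := fun h => by ext ⟨⟩; rfl, right_inv := fun x => rfl }))
        homEquiv_comp := ?_ }
    intro Y Y' f g
    simp [adj.homEquiv_unit]
    change _ = (adj.unit.app PUnit.{v + 1} ≫ F.map g.op ≫ F.map f.op) PUnit.unit
    rw [← F.map_comp]
    rfl

end Groth.Agent.S0919
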