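import Groth.Statements.S0923
import Groth.Agent.Lib.Perfect.EulerChar

set_option autoImplicit false
universe u
open CategoryTheory
attribute [local instance] HasDerivedCategory.standard
open DCoh

namespace Groth.Agent.S0923

open AlgebraicGeometry CategoryTheory.Limits in
/-- On a scheme X, an object E of D(𝒪_X) is perfect if and only if every point has an open neighbourhood
V such that the restriction to V of any complex representing E is isomorphic in D(𝒪_V) to a bounded
complex each of whose terms is isomorphic to a finite free 𝒪_V-module. (The published statement is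
for ringed spaces whose stalks are local rings and lists further equivalent conditions; here X is a
scheme and only this equivalence is stated.) -/
theorem result {X : Scheme.{u}} (E : DCoh.D X) :
    DCoh.IsPerfect E ↔ ∀ x : X, ∃ V : X.Opens, x ∈ V ∧
      ∀ F : CochainComplex X.Modules ℤ, Nonempty (DCoh.toD X F ≅ E) →
        ∃ (P : CochainComplex (V : Scheme.{u}).Modules ℤ) (a b : ℤ), DCoh.VanishesOutside P a b ∧
          (∀ i : ℤ, ∃ n : ℕ, Nonempty (P.X i ≅ FlatMod.freeMod (V : Scheme.{u}) n)) ∧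
          Nonempty (DerivedCategory.Q.obj ((DCoh.restrictCx V).obj F) ≅ DerivedCategory.Q.obj P) := by
  open Groth.Agent.Lib Groth.Agent.Lib.Perfect.Basic Groth.Agent.Lib.Perfect.Triangle in
  constructor
  · intro h x
    obtain ⟨U, j, _, y, E₀, rfl, hE₀, ⟨i⟩⟩ := (isPerfect_iff E).1 h x
    obtain ⟨V, n, hy, -, he⟩ := Perfect.EulerChar.exists_free_terms hE₀ y
    let k := (V.ι ≫ j).isoOpensRange.inv
    refine ⟨(V.ι ≫ j).opensRange, ⟨⟨y, hy⟩, rfl⟩, fun F ⟨e⟩ => ?_⟩
    let P := (rC k).obj ((rC V.ι).obj E₀)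
    obtain ⟨⟨a, b, hv⟩, -⟩ := isStrictlyPerfect_map k (isStrictlyPerfect_map V.ι hE₀)
    refine ⟨P, a, b, hv, fun l => ⟨n l, ⟨(Scheme.Modules.restrictFunctor k).mapIso (he l).some ≪≫
      Modules.Free.restrictFreeIso k (n l)⟩⟩, ⟨?_⟩⟩
    exact (RDQ (V.ι ≫ j).opensRange.ι F).symm ≪≫ (RD (V.ι ≫ j).opensRange.ι).mapIso e ≪≫
      RDCongr (Scheme.Hom.isoOpensRange_inv_comp (V.ι ≫ j)).symm E ≪≫ RDComp _ (V.ι ≫ j) E ≪≫
      (RD k).mapIso (RDComp V.ι j E ≪≫ (RD V.ι).mapIso i ≪≫ RDQ V.ι E₀) ≪≫ RDQ k _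
  · intro h x
    obtain ⟨V, hx, hV⟩ := h x
    refine ⟨V, hx, fun F hF => ?_⟩
    obtain ⟨P, a, b, hv, hfree, hP⟩ := hV F hF
    exact ⟨P, ⟨⟨a, b, hv⟩, fun l => TensorMod.LocFree.of_iso (hfree l).choose_spec.some.symm
      (TensorMod.LocFree.of_rank (TensorMod.LocFree.isFinLocFree_freeMod _ _))⟩, hP⟩

end Groth.Agent.S0923
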