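import Groth.Statements.S0930
import Groth.Agent.H88.Hom.DerivedComp
import Groth.Agent.Lib.ZarCoh.Compare


set_option autoImplicit false
universe u
open CategoryTheory
attribute [local instance] HasDerivedCategory.standard
open CohTop

namespace Groth.Agent.S0930

/-- For continuous maps f : X -> Y and g : Y -> Z, the composite of the right derived functors Rf_* :
D^+(X) -> D^+(Y) and Rg_* : D^+(Y) -> D^+(Z) is isomorphic to R(g ∘ f)_* (existence of an
isomorphism of functors between bounded below derived categories). -/
theorem result {X Y Z : TopCat.{u}} (f : X ⟶ Y) (g : Y ⟶ Z) :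
    Nonempty ((CohTop.push f).rightDerivedFunctorPlus ⋙ (CohTop.push g).rightDerivedFunctorPlus ≅
      (CohTop.push (f ≫ g)).rightDerivedFunctorPlus) := by
  haveI : (CohTop.push f).PreservesInjectiveObjects :=
    haveI : Limits.PreservesLimitsOfShape Limits.WalkingCospan (CohTop.pull f) := inferInstance
    haveI : (CohTop.pull f).PreservesMonomorphisms := inferInstance
    Functor.preservesInjectiveObjects_of_adjunction_of_preservesMonomorphisms
      (TopCat.Sheaf.pullbackPushforwardAdjunction AddCommGrpCat.{u} f)
  let θ : CohTop.push (f ≫ g) ≅ CohTop.push f ⋙ CohTop.push g := Iso.refl _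
  haveI := H88.Hom.DerivedComp.isIso_rPlusDesc₂ θ.hom
  exact ⟨(asIso (EtSix.rPlusDesc₂ θ.hom)).symm⟩

end Groth.Agent.S0930
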