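import Groth.Statements.S0934
import Groth.Agent.Lib.Modules.Free

set_option autoImplicit false
universe u
open CategoryTheory
open Coh

namespace Groth.Agent.S0934

open AlgebraicGeometry in
/-- Schemes; E finite locally free, which on a scheme is locally the same as a direct summand of a
finite free module: let p : G -> F be an epimorphism of O_X-modules and φ : E -> F a morphism with E
finite locally free. Then every point has an open neighbourhood V and a morphism ψ : E|_V -> G|_V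
with ψ ≫ p|_V = φ|_V. -/
theorem result {X : Scheme.{u}} {E F G : X.Modules} (p : G ⟶ F) [Epi p] (φ : E ⟶ F)
    (hE : FlatMod.IsFinLocFree E) (x : X) :
    ∃ (V : X.Opens) (ψ : E.restrict V.ι ⟶ G.restrict V.ι), x ∈ V ∧
      ψ ≫ (Scheme.Modules.restrictFunctor V.ι).map p = (Scheme.Modules.restrictFunctor V.ι).map φ := by
  obtain ⟨U, n, hxU, ⟨e⟩⟩ := hE x
  haveI : Epi ((Scheme.Modules.restrictFunctor U.ι).map p) := inferInstance
  obtain ⟨W, hxW, hW⟩ := Groth.Agent.Lib.Modules.Free.exists_lift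
    ((Scheme.Modules.restrictFunctor U.ι).map p)
    (e.inv ≫ (Scheme.Modules.restrictFunctor U.ι).map φ) ⟨x, hxU⟩
  have hle : U.ι ''ᵁ W ≤ U := U.ι_image_le W
  have hf : X.homOfLE hle ''ᵁ ⊤ ≤ W := by
    rintro _ ⟨z, -, rfl⟩
    obtain ⟨w, hw, hwz⟩ := z.2
    have hz : U.ι (X.homOfLE hle z) = U.ι w :=
      ((Scheme.Hom.comp_apply _ _ _).symm.trans (by rw [X.homOfLE_ι]; rfl)).trans hwz.symm
    have := U.ι.isOpenEmbedding.injective hz
    exact this ▸ hw
  obtain ⟨ψ, hψ⟩ := hW (X.homOfLE hle) hf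
  let c := (Scheme.Modules.restrictFunctorCongr (X.homOfLE_ι hle).symm) ≪≫
    (Scheme.Modules.restrictFunctorComp (X.homOfLE hle) U.ι)
  refine ⟨U.ι ''ᵁ W, c.hom.app E ≫ (Scheme.Modules.restrictFunctor (X.homOfLE hle)).map e.hom ≫
    ψ ≫ c.inv.app G, ⟨⟨x, hxU⟩, hxW, rfl⟩, ?_⟩
  simp only [Category.assoc]
  rw [← c.inv.naturality p, Functor.comp_map, reassoc_of% hψ, ← Functor.map_comp_assoc,
    e.hom_inv_id_assoc, ← Functor.comp_map]
  exact NatIso.naturality_2 c φ

end Groth.Agent.S0934
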