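import Groth.Statements.S0938
import Groth.Agent.Lib.Modules.Free
import Mathlib.CategoryTheory.Idempotents.Basic
import Mathlib.RingTheory.Finiteness.Projective
import Mathlib.Algebra.Category.ModuleCat.Sheaf.Limits

set_option autoImplicit false
universe u
open CategoryTheory
open Coh

namespace Groth.Agent.S0938

open Groth.Agent.Lib.Modules.Free
open AlgebraicGeometry CategoryTheory.Limits

variable {X : Scheme.{u}}

/-- Global sections. -/
noncomputable abbrev G (X : Scheme.{u}) : X.Modules ⥤ ModuleCat.{u} Γ(X, ⊤) :=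
  SheafOfModules.evaluation X.ringCatSheaf (Opposite.op ⊤)

/-- The linear map on global sections. -/
noncomputable abbrev gl {M N : X.Modules} (φ : M ⟶ N) : Γ(M, ⊤) →ₗ[Γ(X, ⊤)] Γ(N, ⊤) := ((G X).map φ).hom

lemma gl_comp {M N K : X.Modules} (φ : M ⟶ N) (ψ : N ⟶ K) (s : Γ(M, ⊤)) : gl (φ ≫ ψ) s = gl ψ (gl φ s) := rfl

lemma exists_coords {n : ℕ} (s : Γ(FlatMod.freeMod X n, ⊤)) :
    ∃ a : Fin n → Γ(X, ⊤), s = ∑ i, a i • gen X i := by
  classical
  let p : Fin n → (FlatMod.freeMod X n ⟶ Coh.structureModule X) := fun i =>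
    Sigma.desc fun j => if j = i then 𝟙 _ else 0
  have h : 𝟙 (FlatMod.freeMod X n) = ∑ i, p i ≫ unitHom _ (gen X i) := by
    refine Sigma.hom_ext _ _ fun j => ?_
    rw [Preadditive.comp_sum, Finset.sum_eq_single j]
    · simp only [p, Sigma.ι_desc_assoc, if_pos, Category.id_comp, Category.comp_id]
      refine unitHom_ext ?_
      rw [unitHom_app_one]
      rfl
    · intro i _ hij
      simp only [p, Sigma.ι_desc_assoc, if_neg (Ne.symm hij), zero_comp]
    · simp
  refine ⟨fun i => (show Γ(X, ⊤) from (p i).app ⊤ s), ?_⟩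
  have this : gl (𝟙 (FlatMod.freeMod X n)) s = gl (∑ i, p i ≫ unitHom _ (gen X i)) s :=
    congrArg (fun k => gl k s) h
  let ev : (FlatMod.freeMod X n ⟶ FlatMod.freeMod X n) →+ Γ(FlatMod.freeMod X n, ⊤) :=
    { toFun := fun k => gl k s, map_zero' := rfl, map_add' := fun _ _ => rfl }
  replace this := this.trans (map_sum ev _ _)
  refine this.trans (Finset.sum_congr rfl fun i _ => ?_)
  refine (unitHom_app _ _ ⊤ _).trans ?_
  exact congrArg (fun v : Γ(FlatMod.freeMod X n, ⊤) => (show Γ(X, ⊤) from (p i).app ⊤ s) • v) (map_top_top _ _ _)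

lemma gl_freeHom {M : X.Modules} {n : ℕ} (s : Fin n → Γ(M, ⊤)) (a : Fin n → Γ(X, ⊤)) :
    gl (freeHom s) (∑ i, a i • gen X i) = ∑ i, a i • s i := by
  rw [map_sum]
  refine Finset.sum_congr rfl fun i _ => ?_
  rw [map_smul]
  exact congrArg (a i • ·) (freeHom_app_gen s i)

/-- Retracts of free modules. -/
def IsSummand (X : Scheme.{u}) : ObjectProperty X.Modules := fun M =>
  ∃ (n : ℕ) (i : M ⟶ FlatMod.freeMod X n) (r : FlatMod.freeMod X n ⟶ M), i ≫ r = 𝟙 M

/-- Finite projective modules. -/
def IsFP (X : Scheme.{u}) : ObjectProperty (ModuleCat.{u} Γ(X, ⊤)) := fun N =>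
  Module.Finite Γ(X, ⊤) N ∧ Module.Projective Γ(X, ⊤) N

lemma linearIndependent_gen (n : ℕ) (a : Fin n → Γ(X, ⊤))
    (h : ∑ i, a i • gen X i = 0) (j : Fin n) : a j = 0 := by
  classical
  let q : FlatMod.freeMod X n ⟶ Coh.structureModule X :=
    freeHom fun i => (if i = j then (1 : Γ(X, ⊤)) else 0)
  have h1 := congrArg (gl q) h
  rw [gl_freeHom, map_zero] at h1
  have h2 : (∑ i, a i • (if i = j then (1 : Γ(X, ⊤)) else 0) : Γ(X, ⊤)) = 0 := h1
  simpa using h2

/-- The global sections of a free module. -/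
noncomputable def coord (X : Scheme.{u}) (n : ℕ) :
    (Fin n → Γ(X, ⊤)) ≃ₗ[Γ(X, ⊤)] Γ(FlatMod.freeMod X n, ⊤) :=
  LinearEquiv.ofBijective (Fintype.linearCombination Γ(X, ⊤) (gen X (n := n)))
    ⟨(injective_iff_map_eq_zero _).mpr fun a ha => funext fun j =>
        linearIndependent_gen n a ((Fintype.linearCombination_apply _ _ _).symm.trans ha) j,
      fun s => by
        obtain ⟨a, rfl⟩ := exists_coords s
        exact ⟨a, Fintype.linearCombination_apply _ _ _⟩⟩

lemma coord_apply (n : ℕ) (a : Fin n → Γ(X, ⊤)) : coord X n a = ∑ i, a i • gen X i :=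
  Fintype.linearCombination_apply _ _ _

lemma isFP_of_isSummand {M : X.Modules} (h : IsSummand X M) : IsFP X ((G X).obj M) := by
  obtain ⟨n, i, r, hir⟩ := h
  have hr : ∀ s, gl r (gl i s) = s := fun s => by rw [← gl_comp, hir]; rfl
  refine ⟨Module.Finite.of_surjective ((gl r).comp (coord X n).toLinearMap) fun s =>
    ⟨(coord X n).symm (gl i s), (congrArg (gl r) ((coord X n).apply_symm_apply _)).trans (hr s)⟩, ?_⟩
  refine Module.Projective.of_split ((coord X n).symm.toLinearMap.comp (gl i))
    ((gl r).comp (coord X n).toLinearMap) (LinearMap.ext fun s => ?_)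
  exact (congrArg (gl r) ((coord X n).apply_symm_apply _)).trans (hr s)

/-- Global sections between the two subcategories. -/
noncomputable def GF (X : Scheme.{u}) : (IsSummand X).FullSubcategory ⥤ (IsFP X).FullSubcategory :=
  ObjectProperty.lift _ ((IsSummand X).ι ⋙ G X) fun M => isFP_of_isSummand M.2

instance : (GF X).Faithful where
  map_injective {M N} f g h := by
    obtain ⟨n, i, r, hir⟩ := M.2
    refine ObjectProperty.hom_ext _ ?_
    have h' : gl f.hom = gl g.hom :=
      congrArg (fun k : (GF X).obj M ⟶ (GF X).obj N => k.hom.hom) h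
    have : r ≫ f.hom = r ≫ g.hom := freeHom_ext fun j => congrArg (fun k => k ((gl r) (gen X j))) h'
    calc f.hom = (i ≫ r) ≫ f.hom := by rw [hir]; exact (Category.id_comp _).symm
      _ = (i ≫ r) ≫ g.hom := by rw [Category.assoc, this, ← Category.assoc]
      _ = g.hom := by rw [hir]; exact Category.id_comp _

instance : (GF X).Full where
  map_surjective {M N} ψ := by
    obtain ⟨n, i, r, hir⟩ := M.2
    refine ⟨ObjectProperty.homMk (i ≫ freeHom fun j => ψ.hom.hom (gl r (gen X j))),
      ObjectProperty.hom_ext _ (ModuleCat.hom_ext (LinearMap.ext fun s => ?_))⟩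
    show gl (i ≫ freeHom _) s = ψ.hom.hom s
    obtain ⟨a, ha⟩ := exists_coords (gl i s)
    have hs : s = ∑ j, a j • gl r (gen X j) := by
      have := congrArg (gl r) ha
      rw [← gl_comp, hir, map_sum] at this
      refine (show s = gl (𝟙 M.obj) s from rfl).trans (this.trans (Finset.sum_congr rfl fun j _ => ?_))
      exact map_smul (gl r) _ _
    rw [gl_comp, ha, gl_freeHom]
    refine Eq.trans ?_ (congrArg ψ.hom.hom hs).symm
    exact ((map_sum ψ.hom.hom _ _).trans (Finset.sum_congr rfl fun j _ => map_smul ψ.hom.hom _ _)).symm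

instance : (GF X).EssSurj where
  mem_essImage P := by
    haveI := P.2.1
    haveI := P.2.2
    obtain ⟨n, f, g, hf, -, hfg⟩ := Module.Finite.exists_comp_eq_id_of_projective Γ(X, ⊤) P.obj
    let b : Fin n → Fin n → Γ(X, ⊤) := fun j => g (f (Pi.single j 1))
    let E : FlatMod.freeMod X n ⟶ FlatMod.freeMod X n := freeHom fun j => coord X n (b j)
    have hE : ∀ a, gl E (coord X n a) = coord X n (g (f a)) := fun a => by
      rw [coord_apply n a, gl_freeHom]
      conv_rhs => rw [pi_eq_sum_univ' a]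
      simp only [b, map_sum, map_smul]
    have hgf : ∀ y, f (g y) = y := fun y => LinearMap.congr_fun hfg y
    have hEE : E ≫ E = E := by
      refine freeHom_ext fun j => ?_
      show gl E (gl E (gen X j)) = gl E (gen X j)
      obtain ⟨a, ha⟩ := (coord X n).surjective (gen X j)
      rw [← ha, hE, hE, hgf]
    obtain ⟨Y, i, e, hie, hei⟩ := IsIdempotentComplete.idempotents_split _ E hEE
    have hY : IsSummand X Y := ⟨n, i, e, hie⟩
    refine ⟨⟨Y, hY⟩, ⟨(IsFP X).isoMk ?_⟩⟩
    refine LinearEquiv.toModuleIso ?_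
    let α : Γ(Y, ⊤) →ₗ[Γ(X, ⊤)] P.obj := f.comp ((coord X n).symm.toLinearMap.comp (gl i))
    let β : P.obj →ₗ[Γ(X, ⊤)] Γ(Y, ⊤) := (gl e).comp ((coord X n).toLinearMap.comp g)
    have hei' : ∀ v, gl i (gl e v) = gl E v := fun v => by rw [← gl_comp, hei]
    refine LinearEquiv.ofLinearMap α β (LinearMap.ext fun y => ?_) (LinearMap.ext fun s => ?_)
    · show f ((coord X n).symm (gl i (gl e (coord X n (g y))))) = y
      rw [hei', hE, LinearEquiv.symm_apply_apply, hgf, hgf]
    · have h1 : ∀ v, gl e (gl i v) = v := fun v => by rw [← gl_comp, hie]; rfl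
      show gl e (coord X n (g (f ((coord X n).symm (gl i s))))) = s
      refine (congrArg (gl e) ((hE _).symm.trans (congrArg (gl E) ((coord X n).apply_symm_apply _)))).trans ?_
      exact (congrArg (gl e) (hei' (gl i s)).symm).trans ((h1 _).trans (h1 s))


open AlgebraicGeometry CategoryTheory.Limits in
/-- For a scheme X with R = Γ(X, O_X), the full subcategory of O_X-modules which are retracts of a
finite free O_X-module is equivalent to the full subcategory of R-modules which are finite and
projective (existence of an equivalence of categories). The published statement is for ringed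
spaces; stated here for schemes. -/
theorem result {X : Scheme.{u}} :
    Nonempty ((ObjectProperty.FullSubcategory fun M : X.Modules =>
        ∃ (n : ℕ) (i : M ⟶ FlatMod.freeMod X n) (r : FlatMod.freeMod X n ⟶ M), i ≫ r = 𝟙 M) ≌
      (ObjectProperty.FullSubcategory fun N : ModuleCat.{u} (Γ(X, ⊤)) =>
        Module.Finite (Γ(X, ⊤)) N ∧ Module.Projective (Γ(X, ⊤)) N)) := by
  haveI : (GF X).IsEquivalence := { }
  exact ⟨(GF X).asEquivalence⟩

end Groth.Agent.S0938
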