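import Groth.Statements.S6697
import Groth.Agent.Lib.BigEt.Basic
import Mathlib.Algebra.Homology.Homotopy
import Mathlib.Algebra.Homology.Additive
import Mathlib.Algebra.Homology.HomotopyCategory.KInjective

set_option autoImplicit false
universe u
open CategoryTheory CategoryTheory.Limits AlgebraicGeometry Opposite
open BigSite

namespace Groth.Agent.S6697

section

universe v v' u₁ u₂

variable {C : Type u₁} [Category.{v} C] [Abelian C] {D : Type u₂} [Category.{v'} D] [Abelian D]
  {L : D ⥤ C} [L.Additive] [PreservesFiniteLimits L] {R : C ⥤ D} [R.Additive]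

theorem isKInjective_map (adj : L ⊣ R) (I : CochainComplex C ℤ) [CochainComplex.IsKInjective I] :
    CochainComplex.IsKInjective ((R.mapHomologicalComplex (ComplexShape.up ℤ)).obj I) where
  nonempty_homotopy_zero {K} f hK := by
    haveI : PreservesColimitsOfSize.{0, 0} L := adj.leftAdjoint_preservesColimits
    haveI : PreservesFiniteColimits L := PreservesColimitsOfSize.preservesFiniteColimits _
    let f' : (L.mapHomologicalComplex (ComplexShape.up ℤ)).obj K ⟶ I :=
      { f := fun i => L.map (f.f i) ≫ adj.counit.app (I.X i)
        comm' := fun i j _ => by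
          change (L.map (f.f i) ≫ adj.counit.app (I.X i)) ≫ I.d i j =
            L.map (K.d i j) ≫ L.map (f.f j) ≫ adj.counit.app (I.X j)
          refine (Category.assoc _ _ _).trans ?_
          refine (congrArg (L.map (f.f i) ≫ ·) (adj.counit.naturality (I.d i j)).symm).trans ?_
          refine (Category.assoc _ _ _).symm.trans (Eq.trans ?_ (Category.assoc _ _ _))
          refine congrArg (· ≫ adj.counit.app (I.X j)) ?_
          exact ((L.map_comp _ _).symm.trans (congrArg L.map (f.comm i j))).trans (L.map_comp _ _) }
    let η : K ⟶ (R.mapHomologicalComplex (ComplexShape.up ℤ)).obj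
        ((L.mapHomologicalComplex (ComplexShape.up ℤ)).obj K) :=
      { f := fun i => adj.unit.app (K.X i)
        comm' := fun i j _ => adj.unit_naturality (K.d i j) }
    have hLK : ((L.mapHomologicalComplex (ComplexShape.up ℤ)).obj K).Acyclic := fun n =>
      (hK n).map L
    let h := ((R.mapHomotopy (CochainComplex.IsKInjective.homotopyZero f' hLK)).compLeft η)
    refine ⟨((Homotopy.ofEq ?_).trans h).trans (Homotopy.ofEq (by simp))⟩
    ext i
    change f.f i = adj.unit.app (K.X i) ≫ R.map (L.map (f.f i) ≫ adj.counit.app (I.X i))
    exact (((adj.homEquiv _ _).apply_symm_apply (f.f i)).symm.trans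
      ((congrArg (adj.homEquiv _ _) (adj.homEquiv_counit _ _ (f.f i))).trans
        (adj.homEquiv_unit _ _ _)))

end


/-- Let S be a scheme, I a K-injective complex of abelian sheaves on the big etale site of S (every
morphism from an acyclic complex to I is null-homotopic) and f : T → S a scheme over S. Then (b) the
termwise restriction I|_{S_et} to the small etale site of S is K-injective, and (a) the termwise
restriction i_f⁻¹ I to the small etale site of T is K-injective. -/
theorem result (S : Scheme.{u})
    (I : CochainComplex (BigSite.Ab Scheme.etalePrecoverage S) ℤ) [I.IsKInjective] {T : Scheme.{u}} (f : T ⟶ S) :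
    CochainComplex.IsKInjective (((BigSite.resEt Scheme.etalePrecoverage S).mapHomologicalComplex (ComplexShape.up ℤ)).obj I) ∧
      CochainComplex.IsKInjective (((BigSite.resEtAlong Scheme.etalePrecoverage f).mapHomologicalComplex (ComplexShape.up ℤ)).obj I) := by
  haveI : (BigSite.piEtPull Scheme.etalePrecoverage S).Additive :=
    (BigSite.piEtAdj Scheme.etalePrecoverage S).left_adjoint_additive
  haveI : PreservesFiniteLimits
      (BigSite.piEtPull Scheme.etalePrecoverage T ⋙ BigSite.shriekAb Scheme.etalePrecoverage f) :=
    comp_preservesFiniteLimits _ _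
  haveI : (BigSite.resEtAlong Scheme.etalePrecoverage f).Additive :=
    Functor.additive_of_preserves_binary_products _
  haveI : (BigSite.piEtPull Scheme.etalePrecoverage T ⋙
      BigSite.shriekAb Scheme.etalePrecoverage f).Additive :=
    ((BigSite.piEtAdj Scheme.etalePrecoverage T).comp
      (BigSite.shriekAbAdj Scheme.etalePrecoverage f)).left_adjoint_additive
  exact ⟨isKInjective_map (BigSite.piEtAdj Scheme.etalePrecoverage S) I,
    isKInjective_map ((BigSite.piEtAdj Scheme.etalePrecoverage T).comp
      (BigSite.shriekAbAdj Scheme.etalePrecoverage f)) I⟩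

end Groth.Agent.S6697
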