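import Groth.Statements.S0945
import Groth.Agent.Lib.Gen43.Glue

set_option autoImplicit false
universe u
open CategoryTheory
attribute [local instance] HasDerivedCategory.standard
open DCoh

namespace Groth.Agent.S0945

open AlgebraicGeometry CategoryTheory.Limits in
/-- Schemes; existence part only — the compatibility of the glued object with the given isomorphism on U
∩ V and the extension of morphisms are not asserted: let X = U ∪ V be a union of two opens, A an
object of D(O_U) and B an object of D(O_V) whose restrictions to U ∩ V are isomorphic. Then there is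
an object F of D(O_X) with F|_U ≅ A and F|_V ≅ B. Restrictions on derived categories are defs2's
restrictD along the open immersions, each under its exactness binder. -/
theorem result {X : Scheme.{u}} (U V : X.Opens) (hUV : U ⊔ V = ⊤)
    [PreservesFiniteLimits (Scheme.Modules.restrictFunctor U.ι)]
    [PreservesFiniteLimits (Scheme.Modules.restrictFunctor V.ι)]
    [PreservesFiniteLimits (Scheme.Modules.restrictFunctor (X.homOfLE (inf_le_left : U ⊓ V ≤ U)))]
    [PreservesFiniteLimits (Scheme.Modules.restrictFunctor (X.homOfLE (inf_le_right : U ⊓ V ≤ V)))]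
    (A : DCoh.D (U : Scheme.{u})) (B : DCoh.D (V : Scheme.{u}))
    (c : (DCoh.restrictD (X.homOfLE (inf_le_left : U ⊓ V ≤ U))).obj A ≅
      (DCoh.restrictD (X.homOfLE (inf_le_right : U ⊓ V ≤ V))).obj B) :
    ∃ F : DCoh.D X, Nonempty ((DCoh.restrictD U.ι).obj F ≅ A) ∧ Nonempty ((DCoh.restrictD V.ι).obj F ≅ B) := by
  let M := (Groth.Agent.Lib.Gen43.Glue.ez U.ι).obj A
  let W : (V : Scheme.{u}).Opens := V.ι ⁻¹ᵁ U
  let g : (W : Scheme.{u}) ⟶ (U ⊓ V : X.Opens) := IsOpenImmersion.lift (U ⊓ V).ι (W.ι ≫ V.ι) (by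
    rintro _ ⟨w, rfl⟩
    rw [Scheme.Opens.range_ι]
    exact ⟨w.2, w.1.2⟩)
  have hg : g ≫ (U ⊓ V).ι = W.ι ≫ V.ι := IsOpenImmersion.lift_fac _ _ _
  have h₁ : g ≫ X.homOfLE (inf_le_right : U ⊓ V ≤ V) = W.ι := by
    rw [← cancel_mono V.ι, Category.assoc, X.homOfLE_ι, hg]
  have h₂ : (g ≫ X.homOfLE (inf_le_left : U ⊓ V ≤ U)) ≫ U.ι = W.ι ≫ V.ι := by
    rw [Category.assoc, X.homOfLE_ι, hg]
  haveI : IsOpenImmersion (g ≫ X.homOfLE (inf_le_right : U ⊓ V ≤ V)) := by rw [h₁]; infer_instance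
  haveI hg' : IsOpenImmersion g := IsOpenImmersion.of_comp g (X.homOfLE (inf_le_right : U ⊓ V ≤ V))
  have hM : IsIso ((Groth.Agent.Lib.Gen43.Glue.adjEz (Groth.Agent.Lib.Gen43.Glue.k U V)).counit.app
      ((DCoh.restrictD V.ι).obj M)) := by
    have h := Groth.Agent.Lib.Gen43.Glue.isIso_counit_of_ez U.ι V A
    rw [Scheme.Opens.opensRange_ι] at h
    exact h
  let c' : (DCoh.restrictD W.ι).obj B ≅ (DCoh.restrictD W.ι).obj ((DCoh.restrictD V.ι).obj M) :=
    ((Groth.Agent.Lib.Gen43.Restrict.compIso' g (X.homOfLE (inf_le_right : U ⊓ V ≤ V)) h₁).app B).symm ≪≫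
      (DCoh.restrictD g).mapIso c.symm ≪≫
      (Groth.Agent.Lib.Gen43.Restrict.compIso g (X.homOfLE (inf_le_left : U ⊓ V ≤ U))).symm.app A ≪≫
      (DCoh.restrictD _).mapIso (asIso ((Groth.Agent.Lib.Gen43.Glue.adjEz U.ι).unit.app A)) ≪≫
      (Groth.Agent.Lib.Gen43.Restrict.compIso' _ U.ι h₂).app M ≪≫
      (Groth.Agent.Lib.Gen43.Restrict.compIso W.ι V.ι).app M
  obtain ⟨R, a, eV, ha, -⟩ := Groth.Agent.Lib.Gen43.Glue.exists_glue hM B c'
  exact ⟨R, ⟨(asIso ((DCoh.restrictD U.ι).map a)).symm ≪≫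
    (asIso ((Groth.Agent.Lib.Gen43.Glue.adjEz U.ι).unit.app A)).symm⟩, ⟨eV⟩⟩

end Groth.Agent.S0945
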