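import Groth.Statements.S0946
import Groth.Agent.H30.Gode.GermH

set_option autoImplicit false
universe u
open CategoryTheory
open CohTop

namespace Groth.Agent.S0946

open TopologicalSpace Opposite CategoryTheory.Limits in
/-- Take a quasi-compact subset Z of a topological space X whose points are pairwise separated by
disjoint opens of X, and an abelian sheaf F on X. For every p the group H^p(Z, F|_Z) (cohomology of
the pullback of F to the subspace Z) is isomorphic to the colimit of the groups H^p(U, F) over the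
open neighbourhoods U of Z (existence of an isomorphism with the colimit of the cohomology presheaf
restricted to the opens containing Z). -/
theorem result {X : TopCat.{u}} (Z : Set X) (hZ : IsCompact Z)
    (hsep : ∀ x ∈ Z, ∀ y ∈ Z, x ≠ y → ∃ U V : Opens X, x ∈ U ∧ y ∈ V ∧ Disjoint U V)
    (F : CohTop.Ab X) (p : ℕ) :
    Nonempty ((colimit (ObjectProperty.ι (fun U : (Opens X)ᵒᵖ => Z ⊆ (U.unop : Set X)) ⋙
        (Sheaf.cohomologyPresheafFunctor (Opens.grothendieckTopology X) p).obj F) : AddCommGrpCat.{u}) ≃+
      CohTop.H ((CohTop.pull (TopCat.ofHom ⟨Subtype.val, continuous_subtype_val⟩ : TopCat.of Z ⟶ X)).obj F) p) := by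
  let i : TopCat.of Z ⟶ X := TopCat.ofHom ⟨Subtype.val, continuous_subtype_val⟩
  have : CompactSpace (TopCat.of Z) := isCompact_iff_compactSpace.1 hZ
  have hs : H30.Gode.RelSep (i : TopCat.of Z → X) := fun a b hab => by
    obtain ⟨U, V, ha, hb, hd⟩ := hsep a.1 a.2 b.1 b.2 fun e => hab (Subtype.ext e)
    refine ⟨U, V, U.isOpen, V.isOpen, ha, hb, ?_⟩
    rw [Set.disjoint_iff_inter_eq_empty]
    simpa using congrArg (fun W : Opens X => (W : Set X)) (disjoint_iff.1 hd)
  let P : ObjectProperty (Opens X)ᵒᵖ := fun U => Z ⊆ (U.unop : Set X)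
  have : Nonempty P.FullSubcategory := ⟨⟨op ⊤, fun _ _ => trivial⟩⟩
  have : IsFilteredOrEmpty P.FullSubcategory :=
    { cocone_objs := fun a b =>
        ⟨⟨op (a.obj.unop ⊓ b.obj.unop), fun z hz => ⟨a.property hz, b.property hz⟩⟩,
          ObjectProperty.homMk (homOfLE inf_le_left).op,
          ObjectProperty.homMk (homOfLE inf_le_right).op, trivial⟩
      cocone_maps := fun a b f g => ⟨b, 𝟙 b, ObjectProperty.hom_ext _ (Quiver.Hom.unop_inj (Subsingleton.elim _ _))⟩ }
  have : IsFiltered P.FullSubcategory := {}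
  let D : P.FullSubcategory ⥤ AddCommGrpCat.{u} :=
    P.ι ⋙ (Sheaf.cohomologyPresheafFunctor (Opens.grothendieckTopology X) p).obj F
  let T : AddCommGrpCat.{u} := AddCommGrpCat.of (CohTop.H ((CohTop.pull i).obj F) p)
  let c : Cocone D :=
    { pt := T
      ι :=
        { app := fun U => AddCommGrpCat.ofHom
            (H30.Gode.resZ (F := F) i U.obj.unop (fun z => U.property z.2) p)
          naturality := fun U V f => by
            ext x
            exact H30.Gode.resZ_res (F := F) i U.obj.unop _ p f.hom.unop (fun z => V.property z.2) x } }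
  have hbij : Function.Bijective (colimit.desc D c) := by
    constructor
    · refine (injective_iff_map_eq_zero _).2 fun x hx => ?_
      obtain ⟨U, y, rfl⟩ := Concrete.colimit_exists_rep D x
      have h0 : H30.Gode.resZ (F := F) i U.obj.unop (fun z => U.property z.2) p y = 0 :=
        (ConcreteCategory.congr_hom (colimit.ι_desc c U) y).symm.trans hx
      obtain ⟨V, j, hV, hy⟩ := H30.Gode.resZ_eq_zero (F := F) i U.obj.unop _ p hs y h0
      let f : U ⟶ (⟨op V, fun z hz => hV ⟨z, hz⟩⟩ : P.FullSubcategory) := ObjectProperty.homMk j.op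
      rw [← colimit.w D f, ConcreteCategory.comp_apply]
      exact (congrArg _ (show D.map f y = 0 from hy)).trans (map_zero _)
    · intro x
      obtain ⟨U, hU, y, rfl⟩ := H30.Gode.exists_resZ_eq (F := F) i p hs x
      refine ⟨colimit.ι D ⟨op U, fun z hz => hU ⟨z, hz⟩⟩ y, ?_⟩
      exact ConcreteCategory.congr_hom (colimit.ι_desc c ⟨op U, fun z hz => hU ⟨z, hz⟩⟩) y
  exact ⟨AddEquiv.ofBijective (colimit.desc D c).hom hbij⟩

end Groth.Agent.S0946
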