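import Groth.Statements.S0947
import Groth.Agent.H30.Gode.GermHS

set_option autoImplicit false
universe u
open CategoryTheory
open CohTop

namespace Groth.Agent.S0947

open TopologicalSpace Opposite CategoryTheory.Limits in
/-- Let X be a spectral space, F an abelian sheaf on X, E ⊆ X a quasi-compact subset and W the set of
points of X specializing to some point of E. Then for every p the group H^p(W, F|_W) (cohomology of
the pullback of F to the subspace W) is isomorphic to the colimit of the groups H^p(U, F) over the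
quasi-compact open neighbourhoods U of E (existence of an isomorphism). -/
theorem result {X : TopCat.{u}} [SpectralSpace X] (E : Set X)
    (hE : IsCompact E) (F : CohTop.Ab X) (p : ℕ) :
    Nonempty ((colimit (ObjectProperty.ι (fun U : (Opens X)ᵒᵖ => E ⊆ (U.unop : Set X) ∧ IsCompact (U.unop : Set X)) ⋙
        (Sheaf.cohomologyPresheafFunctor (Opens.grothendieckTopology X) p).obj F) : AddCommGrpCat.{u}) ≃+
      CohTop.H ((CohTop.pull (TopCat.ofHom ⟨Subtype.val, continuous_subtype_val⟩ :
        TopCat.of {x : X | ∃ e ∈ E, e ∈ closure {x}} ⟶ X)).obj F) p) := by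
  classical
  let i : TopCat.of {x : X | ∃ e ∈ E, e ∈ closure {x}} ⟶ X :=
    TopCat.ofHom ⟨Subtype.val, continuous_subtype_val⟩
  let G : H30.Gode.GlueClass (i : TopCat.of {x : X | ∃ e ∈ E, e ∈ closure {x}} → X) :=
    H30.Gode.genClass hE _ Topology.IsEmbedding.subtypeVal (by
      change Set.range Subtype.val = _
      rw [Subtype.range_coe]; rfl)
  let P : ObjectProperty (Opens X)ᵒᵖ := fun U => E ⊆ (U.unop : Set X) ∧ IsCompact (U.unop : Set X)
  have : Nonempty P.FullSubcategory := ⟨⟨op ⊤, fun _ _ => trivial, CompactSpace.isCompact_univ⟩⟩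
  have : IsFilteredOrEmpty P.FullSubcategory :=
    { cocone_objs := fun a b =>
        ⟨⟨op (a.obj.unop ⊓ b.obj.unop), fun z hz => ⟨a.property.1 hz, b.property.1 hz⟩,
            QuasiSeparatedSpace.inter_isCompact _ _ a.obj.unop.2 a.property.2 b.obj.unop.2 b.property.2⟩,
          ObjectProperty.homMk (homOfLE inf_le_left).op,
          ObjectProperty.homMk (homOfLE inf_le_right).op, trivial⟩
      cocone_maps := fun a b f g => ⟨b, 𝟙 b, ObjectProperty.hom_ext _ (Quiver.Hom.unop_inj (Subsingleton.elim _ _))⟩ }
  have : IsFiltered P.FullSubcategory := {}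
  have hsub : ∀ (U : Opens X), E ⊆ (U : Set X) → ∀ z, i z ∈ U := fun U hU z =>
    H30.Gode.gen_subset_of_isOpen U.2 hU z.2
  let D : P.FullSubcategory ⥤ AddCommGrpCat.{u} :=
    P.ι ⋙ (Sheaf.cohomologyPresheafFunctor (Opens.grothendieckTopology X) p).obj F
  let T : AddCommGrpCat.{u} := AddCommGrpCat.of (CohTop.H ((CohTop.pull i).obj F) p)
  let c : Cocone D :=
    { pt := T
      ι :=
        { app := fun U => AddCommGrpCat.ofHom
            (H30.Gode.resZ (F := F) i U.obj.unop (hsub _ U.property.1) p)
          naturality := fun U V f => by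
            ext x
            exact H30.Gode.resZ_res (F := F) i U.obj.unop _ p f.hom.unop (hsub _ V.property.1) x } }
  have shrink : ∀ (U : Opens X), (∀ z, i z ∈ U) → ∃ U' : Opens X, U' ≤ U ∧ P (op U') := fun U hU => by
    obtain ⟨W, hWc, hWo, hEW, hWU⟩ := PrespectralSpace.exists_isCompact_and_isOpen_between hE U.2
      (fun e he => hU ⟨e, H30.Gode.subset_gen E he⟩)
    exact ⟨⟨W, hWo⟩, hWU, hEW, hWc⟩
  have hbij : Function.Bijective (colimit.desc D c) := by
    constructor
    · refine (injective_iff_map_eq_zero _).2 fun x hx => ?_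
      obtain ⟨U, y, rfl⟩ := Concrete.colimit_exists_rep D x
      have h0 : H30.Gode.resZ (F := F) i U.obj.unop (hsub _ U.property.1) p y = 0 :=
        (ConcreteCategory.congr_hom (colimit.ι_desc c U) y).symm.trans hx
      obtain ⟨V, j, hV, hy⟩ := H30.Gode.GH.resZ_eq_zero (F := F) i U.obj.unop _ p G y h0
      obtain ⟨V', hV', hP⟩ := shrink V hV
      let f : U ⟶ (⟨op V', hP⟩ : P.FullSubcategory) :=
        ObjectProperty.homMk (homOfLE hV' ≫ j).op
      rw [← colimit.w D f, ConcreteCategory.comp_apply]
      refine (congrArg _ (show D.map f y = 0 from ?_)).trans (map_zero _)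
      show ((Sheaf.cohomologyPresheafFunctor (Opens.grothendieckTopology X) p).obj F).map
        (homOfLE hV' ≫ j).op y = 0
      rw [op_comp, Functor.map_comp, ConcreteCategory.comp_apply]
      exact (congrArg _ hy).trans (map_zero _)
    · intro x
      obtain ⟨U, hU, y, rfl⟩ := H30.Gode.GH.exists_resZ_eq (F := F) i p G x
      obtain ⟨U', hU', hP⟩ := shrink U hU
      refine ⟨colimit.ι D ⟨op U', hP⟩ (CohTop.res F p hU' y), ?_⟩
      exact (ConcreteCategory.congr_hom (colimit.ι_desc c ⟨op U', hP⟩) _).trans
        (H30.Gode.resZ_res (F := F) i U hU p (homOfLE hU') (hsub _ hP.1) y)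
  exact ⟨AddEquiv.ofBijective (colimit.desc D c).hom hbij⟩

end Groth.Agent.S0947
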