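import Groth.Statements.S0953
import Groth.Agent.Lib.DerivedOX.KFlatStalk
import Groth.Agent.Lib.TensorCx.Vanish

set_option autoImplicit false
universe u
open CategoryTheory
attribute [local instance] HasDerivedCategory.standard
open DCoh

namespace Groth.Agent.S0953

open AlgebraicGeometry in
/-- A bounded above complex of O_X-modules all of whose terms are flat (stalkwise) is K-flat. -/
theorem result {X : Scheme.{u}} (K : CochainComplex X.Modules ℤ) (b : ℤ) (hb : K.IsStrictlyLE b)
    (hflat : ∀ n : ℤ, FlatMod.IsFlat (K.X n)) : DCoh.IsKFlat K := by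
  refine (Groth.Agent.Lib.DerivedOX.KFlatStalk.isKFlat_iff_stalk K).2 fun x => ?_
  refine (Groth.Agent.Lib.DerivedOX.StalkCx.isKFlat_iff_left _).2 fun M hM q => ?_
  refine (HomologicalComplex.exactAt_iff_isZero_homology _ _).2
    (Groth.Agent.Lib.TensorCx.Vanish.isZero_homology_of_acyclic
      (L := ((Groth.Agent.Lib.Modules.StalkModule.stalkModFunctor X x).mapHomologicalComplex
        (ComplexShape.up ℤ)).obj K) (fun i => hflat i x) b (fun i hi => ?_) hM q)
  have := hb
  exact CategoryTheory.Functor.map_isZero (Groth.Agent.Lib.Modules.StalkModule.stalkModFunctor X x)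
    (K.isZero_of_isStrictlyLE b i hi)

end Groth.Agent.S0953
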