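import Groth.Statements.S0967
import Groth.Agent.Lib.DerivedOX.DualBidualPerfect
import Groth.Agent.Lib.DerivedOX.DualHomExists
import Groth.Agent.S12510
-- import your own Groth.Agent.* helpers here

set_option autoImplicit false
universe u
open CategoryTheory
attribute [local instance] HasDerivedCategory.standard
open DCoh

namespace Groth.Agent.S0967

open AlgebraicGeometry in
/-- Schemes; K and L given by complexes with K K-flat and perfect, and RHom(K, L) represented by a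
K-flat complex D: for every M in D(O_X) there is an isomorphism RHom(L, M) ⊗^L K ≅ RHom(D, M). The
derived tensor functors and internal RHom functors are taken under their existence binders. -/
theorem result {X : Scheme.{u}} (K L : CochainComplex X.Modules ℤ) (hK : DCoh.IsKFlat K)
    (hKp : DCoh.IsPerfect (DerivedCategory.Q.obj K))
    [DCoh.HasLTensorCx K] [DCoh.HasRSheafHom K] [DCoh.HasLTensorCx L] [DCoh.HasRSheafHom L]
    (D : CochainComplex X.Modules ℤ) (hD : DCoh.IsKFlat D)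
    (hDrep : Nonempty (DerivedCategory.Q.obj D ≅ (DCoh.RSheafHom K).obj (DerivedCategory.Q.obj L)))
    [DCoh.HasLTensorCx D] [DCoh.HasRSheafHom D] (M : DCoh.D X) :
    Nonempty ((DCoh.LTensorCx K).obj ((DCoh.RSheafHom L).obj M) ≅ (DCoh.RSheafHom D).obj M) := by
  obtain ⟨J₀, hp, ⟨e₀⟩⟩ := Groth.Agent.Lib.DerivedOX.DualMain.exists_dual hK (𝟙 K) hKp
  let K' := (Groth.Agent.Lib.DerivedOX.KFlat.res X).obj
    ((Groth.Agent.Lib.DerivedOX.DualHom.Hc K).obj J₀)
  haveI : QuasiIso ((Groth.Agent.Lib.DerivedOX.KFlat.aug X).app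
      ((Groth.Agent.Lib.DerivedOX.DualHom.Hc K).obj J₀)) :=
    Groth.Agent.Lib.DerivedOX.KFlat.quasiIso_aug _
  let r' : K' ⟶ (Groth.Agent.Lib.DerivedOX.DualHom.Hc K).obj J₀ :=
    (Groth.Agent.Lib.DerivedOX.KFlat.aug X).app _
  have hK' : DCoh.IsKFlat K' := Groth.Agent.Lib.DerivedOX.KFlat.isKFlat_res _
  have hK'p : DCoh.IsPerfect (DerivedCategory.Q.obj K') :=
    Groth.Agent.Lib.Perfect.Triangle.isPerfect_of_iso (asIso (DerivedCategory.Q.map r')).symm hp
  let e' : DerivedCategory.Q.obj K' ≅ _ := asIso (DerivedCategory.Q.map r') ≪≫ e₀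
  haveI := Groth.Agent.Lib.DerivedOX.LeftExists.hasLTensorCx K'
  haveI := Groth.Agent.Lib.DerivedOX.DualHomExists.hasRSheafHom K'
  let L' := (Groth.Agent.Lib.DerivedOX.KFlat.res X).obj L
  haveI : QuasiIso ((Groth.Agent.Lib.DerivedOX.KFlat.aug X).app L) :=
    Groth.Agent.Lib.DerivedOX.KFlat.quasiIso_aug L
  have hL' : DCoh.IsKFlat L' := Groth.Agent.Lib.DerivedOX.KFlat.isKFlat_res L
  let eL : DerivedCategory.Q.obj L' ≅ DerivedCategory.Q.obj L :=
    asIso (DerivedCategory.Q.map ((Groth.Agent.Lib.DerivedOX.KFlat.aug X).app L))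
  haveI := Groth.Agent.Lib.DerivedOX.LeftExists.hasLTensorCx L'
  haveI := Groth.Agent.Lib.DerivedOX.DualHomExists.hasRSheafHom L'
  let Z := (DCoh.tensorCx.obj K').obj L'
  haveI := Groth.Agent.Lib.DerivedOX.LeftExists.hasLTensorCx Z
  haveI := Groth.Agent.Lib.DerivedOX.DualHomExists.hasRSheafHom Z
  obtain ⟨eD⟩ := hDrep
  obtain ⟨a⟩ := Groth.Agent.Lib.DerivedOX.DualMain.nonempty_LTensorCx_iso_RSheafHom hK (𝟙 K) hKp K' e'
    (DerivedCategory.Q.obj L)
  obtain ⟨t⟩ := Groth.Agent.Lib.DerivedOX.QCohLocal.nonempty_LTensorCx_iso K' hL'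
  let eZ : DerivedCategory.Q.obj D ≅ DerivedCategory.Q.obj Z :=
    eD ≪≫ a.symm ≪≫ (DCoh.LTensorCx K').mapIso eL.symm ≪≫ t ≪≫
      DerivedCategory.Q.mapIso (Groth.Agent.Lib.DerivedOX.DualBidual.commCx L' K')
  obtain ⟨r₁⟩ := Groth.Agent.Lib.DerivedOX.DualHomExists.nonempty_RSheafHom_congr eZ
  obtain ⟨r₂⟩ := Groth.Agent.S12510.result K' L' hL'
  obtain ⟨r₃⟩ := Groth.Agent.Lib.DerivedOX.DualHomExists.nonempty_RSheafHom_congr eL
  obtain ⟨b⟩ := Groth.Agent.Lib.DerivedOX.DualBidualPerfect.nonempty_dual_dual hK' hKp e'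
  obtain ⟨c⟩ := Groth.Agent.Lib.DerivedOX.DualMain.nonempty_LTensorCx_iso_RSheafHom hK' (𝟙 K') hK'p K
    b.symm ((DCoh.RSheafHom L).obj M)
  exact ⟨c ≪≫ (DCoh.RSheafHom K').mapIso (r₃.app M).symm ≪≫ (r₂.app M).symm ≪≫ (r₁.app M).symm⟩

end Groth.Agent.S0967
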