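import Groth.Statements.S0976
import Groth.Agent.Lib.DerCat.Orth

set_option autoImplicit false
universe v u
open CategoryTheory
open CohDer

namespace Groth.Agent.S0976

open CategoryTheory.Pretriangulated Groth.Agent.Lib.DerCat.Orth CategoryTheory.Limits

open CategoryTheory.Pretriangulated in
/-- Let P be a triangulated subcategory of a triangulated category D (an object property containing
zero, stable under shifts, closed under extensions). Consider the class of objects X sitting in a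
distinguished triangle A → X → B → A[1] with P A and B right orthogonal to P. This class is again
stable under shifts and closed under extensions, i.e. satisfies two-out-of-three in distinguished
triangles. -/
theorem result {D : Type u} [Category.{v} D] [Preadditive D] [Limits.HasZeroObject D] [HasShift D ℤ]
    [∀ n : ℤ, (shiftFunctor D n).Additive] [Pretriangulated D] [IsTriangulated D]
    (P : ObjectProperty D) [P.IsTriangulated] :
    ObjectProperty.IsTriangulated (fun X : D => ∃ (A B : D) (f : A ⟶ X) (g : X ⟶ B) (h : B ⟶ (shiftFunctor D (1 : ℤ)).obj A),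
      Triangle.mk f g h ∈ distinguishedTriangles ∧ P A ∧ P.rightOrthogonal B) := by
  refine
    { exists_zero := ⟨_, Limits.isZero_zero D, ?_⟩
      isStableUnderShiftBy := fun n => ⟨?_⟩
      toIsTriangulatedClosed₂ := ⟨?_⟩ }
  · obtain ⟨Z, hZ, hPZ⟩ := P.exists_prop_of_containsZero
    refine ⟨Z, _, 0, 𝟙 _, 0, (Triangle.distinguished_iff_of_isZero₁ _ hZ).2 ?_, hPZ, ?_⟩
    · change IsIso (𝟙 _); infer_instance
    · exact fun _ f _ => (Limits.isZero_zero D).eq_of_tgt _ _
  · rintro X ⟨A, B, f, g, h, hT, hA, hB⟩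
    exact ⟨_, _, _, _, _, (Triangle.mk f g h).shift_distinguished hT n, P.le_shift n _ hA,
      P.rightOrthogonal.le_shift n _ hB⟩
  · rintro T hT ⟨A₁, B₁, f₁, g₁, k₁, hT₁, hA₁, hB₁⟩ ⟨A₃, B₃, f₃, g₃, k₃, hT₃, hA₃, hB₃⟩
    refine ObjectProperty.le_isoClosure _ _ ?_
    have l₁ : IsLocalIsoR P f₁ := (rightOrthogonal₃_iff (P := P) _ hT₁).1 hB₁
    have l₃ : IsLocalIsoR P f₃ := (rightOrthogonal₃_iff (P := P) _ hT₃).1 hB₃
    obtain ⟨a, ha⟩ := (l₁.shift 1 A₃ hA₃).2 (f₃ ≫ T.mor₃)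
    change a ≫ f₁⟦(1 : ℤ)⟧' = f₃ ≫ T.mor₃ at ha
    obtain ⟨A₂, m₁, m₂, hA⟩ := distinguished_cocone_triangle₂ a
    obtain ⟨A₂', hA₂', ⟨e⟩⟩ := P.ext_of_isTriangulatedClosed₂' _ hA hA₁ hA₃
    obtain ⟨φ, c₁, c₂⟩ := complete_distinguished_triangle_morphism₂ _ _ hA hT f₁ f₃ ha
    have l₂ : IsLocalIsoR P φ := isLocalIsoR₂
      (Triangle.homMk (Triangle.mk m₁ m₂ a) T f₁ φ f₃ c₁ c₂ ha) hA hT l₁ l₃
    obtain ⟨B₂, g₂, k₂, hT₂⟩ := Pretriangulated.distinguished_cocone_triangle (e.inv ≫ φ)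
    refine ⟨A₂', B₂, _, g₂, k₂, hT₂, hA₂', (rightOrthogonal₃_iff (P := P) _ hT₂).2 fun A hA => ?_⟩
    have he : (fun u : A ⟶ A₂' => u ≫ e.inv ≫ φ) = (fun u => u ≫ φ) ∘ (fun u => u ≫ e.inv) := by
      funext u; exact (Category.assoc _ _ _).symm
    change Function.Bijective (fun u : A ⟶ A₂' => u ≫ e.inv ≫ φ)
    rw [he]
    exact (l₂ A hA).comp ⟨fun a b hab => (cancel_mono _).1 hab, fun b => ⟨b ≫ e.hom, by simp⟩⟩

end Groth.Agent.S0976
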