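import Groth.Statements.S0981
import Groth.Agent.H2.Rigid.PushFlat

set_option autoImplicit false
universe u
open CategoryTheory AlgebraicGeometry
open Perf Groth.Agent.H2.Rigid

namespace Groth.Agent.S0981

open CategoryTheory.Limits in
/-- Let f : X ⟶ S be proper, flat and of finite presentation, and assume that for every algebraically
closed field K and every point Spec K ⟶ S the fibre X ×_S Spec K is a reduced, connected (in
particular nonempty) scheme. Then O_S ⟶ f_*O_X is an isomorphism: for every open V of S the map
O_S(V) ⟶ O_X(f⁻¹V) is an isomorphism. (The source adds that this persists after any base change.) -/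
theorem result {X S : Scheme.{u}} (f : X ⟶ S)
    [IsProper f] [Flat f] [LocallyOfFinitePresentation f]
    (h : ∀ (K : Type u) [Field K] [IsAlgClosed K] (g : Spec (CommRingCat.of K) ⟶ S),
      IsReduced (pullback f g) ∧ ConnectedSpace ↥(pullback f g))
    (V : S.Opens) : IsIso (f.app V) := by
  have hK : ∀ (K : Type u) [Field K] [IsAlgClosed K] (g : Spec (CommRingCat.of K) ⟶ S),
      Function.Surjective (pullback.snd f g).appTop.hom := by
    intro K _ _ g
    obtain ⟨hr, hc⟩ := h K g
    set p₂ := pullback.snd f g
    have : LocallyOfFiniteType p₂ := inferInstanceAs (LocallyOfFiniteType (pullback.snd f g))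
    have : UniversallyClosed p₂ := inferInstanceAs (UniversallyClosed (pullback.snd f g))
    have : IsSeparated p₂ := inferInstanceAs (IsSeparated (pullback.snd f g))
    have : JacobsonSpace ↥(pullback f g) := LocallyOfFiniteType.jacobsonSpace p₂
    obtain ⟨x, -, hx⟩ := nonempty_inter_closedPoints (Z := (Set.univ : Set ↥(pullback f g)))
      Set.univ_nonempty isClosed_univ.isLocallyClosed
    exact appTop_surjective_of_section p₂ (pointOfClosedPoint p₂ x hx)
      (pointOfClosedPoint_comp p₂ x hx)
  have hH : H0 f := by
    intro t
    let L := AlgebraicClosure (S.residueField t)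
    let b := Spec.map (CommRingCat.ofHom (algebraMap (S.residueField t) L))
    have : QuasiCompact (f.fiberToSpecResidueField t) :=
      inferInstanceAs (QuasiCompact (pullback.snd f (S.fromSpecResidueField t)))
    have : QuasiSeparated (f.fiberToSpecResidueField t) :=
      inferInstanceAs (QuasiSeparated (pullback.snd f (S.fromSpecResidueField t)))
    have h1 := (IsPullback.of_hasPullback f (b ≫ S.fromSpecResidueField t))
    have sq := IsPullback.of_hasPullback f (S.fromSpecResidueField t)
    have h2 : IsPullback (sq.lift (pullback.fst f (b ≫ S.fromSpecResidueField t))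
        (pullback.snd f (b ≫ S.fromSpecResidueField t) ≫ b)
        (by rw [Category.assoc]; exact h1.w)) (pullback.snd f (b ≫ S.fromSpecResidueField t))
        (f.fiberToSpecResidueField t) b :=
      IsPullback.of_right (by rw [sq.lift_fst]; exact h1) (sq.lift_snd _ _ _) sq
    exact surjective_of_baseChange (k := S.residueField t) (L := L) _ h2 (hK L _)
  have : Surjective f := ⟨fun t => by
    let L := AlgebraicClosure (S.residueField t)
    let g := Spec.map (CommRingCat.ofHom (algebraMap (S.residueField t) L)) ≫ S.fromSpecResidueField t
    obtain ⟨-, hc⟩ := h L g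
    obtain ⟨z⟩ := hc.toNonempty
    refine ⟨(pullback.fst f g).base z, ?_⟩
    have e : f.base ((pullback.fst f g).base z) = g.base ((pullback.snd f g).base z) :=
      by rw [← Scheme.Hom.comp_apply, pullback.condition]; rfl
    rw [e]
    exact S.range_fromSpecResidueField t |>.subset ⟨_, rfl⟩⟩
  exact (ConcreteCategory.isIso_iff_bijective (f.app V)).2 (PushFlat.push_of_flat_fp f hH V)


end Groth.Agent.S0981
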