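import Groth.Statements.S0983
-- import your own Groth.Agent.* helpers here

set_option autoImplicit false
universe v u
open CategoryTheory
open CohDer

namespace Groth.Agent.S0983

open CategoryTheory.Pretriangulated in
lemma oct {D : Type u} [Category.{v} D] [Preadditive D] [Limits.HasZeroObject D] [HasShift D ℤ]
    [∀ n : ℤ, (shiftFunctor D n).Additive] [Pretriangulated D] [IsTriangulated D]
    {X₁ X₂ X₃ Z₁₂ Z₂₃ Z₁₃ : D} {u₁₂ : X₁ ⟶ X₂} {u₂₃ : X₂ ⟶ X₃} {u₁₃ : X₁ ⟶ X₃}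
    (comm : u₁₂ ≫ u₂₃ = u₁₃)
    {v₁₂ : X₂ ⟶ Z₁₂} {w₁₂ : Z₁₂ ⟶ X₁⟦(1 : ℤ)⟧} (h₁₂ : Triangle.mk u₁₂ v₁₂ w₁₂ ∈ distinguishedTriangles)
    {v₂₃ : X₃ ⟶ Z₂₃} {w₂₃ : Z₂₃ ⟶ X₂⟦(1 : ℤ)⟧} (h₂₃ : Triangle.mk u₂₃ v₂₃ w₂₃ ∈ distinguishedTriangles)
    {v₁₃ : X₃ ⟶ Z₁₃} {w₁₃ : Z₁₃ ⟶ X₁⟦(1 : ℤ)⟧} (h₁₃ : Triangle.mk u₁₃ v₁₃ w₁₃ ∈ distinguishedTriangles) :
    ∃ (m₁ : Z₁₂ ⟶ Z₁₃) (m₃ : Z₁₃ ⟶ Z₂₃),
      v₁₂ ≫ m₁ = u₂₃ ≫ v₁₃ ∧ m₁ ≫ w₁₃ = w₁₂ ∧ v₁₃ ≫ m₃ = v₂₃ ∧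
      w₁₃ ≫ u₁₂⟦(1 : ℤ)⟧' = m₃ ≫ w₂₃ ∧
      Triangle.mk m₁ m₃ (w₂₃ ≫ v₁₂⟦(1 : ℤ)⟧') ∈ distinguishedTriangles :=
  let O := CategoryTheory.Triangulated.someOctahedron comm h₁₂ h₂₃ h₁₃
  ⟨O.m₁, O.m₃, O.comm₁, O.comm₂, O.comm₃, O.comm₄, O.mem⟩

open CategoryTheory.Pretriangulated in
/-- In a triangulated category, a commutative square f ≫ v = u ≫ f' (with f : X ⟶ Y, f' : X' ⟶ Y', u : X
⟶ X', v : Y ⟶ Y') extends to a diagram with three distinguished rows (X, Y, Z), (X', Y', Z'), (X'',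
Y'', Z'') and three distinguished columns (X, X', X''), (Y, Y', Y''), (Z, Z', Z''), in which all
squares commute except the one formed by the third morphisms of the last row and last column, which
anticommutes; the fourth row and column are the shifts of the first ones. -/
theorem result {D : Type u} [Category.{v} D] [Preadditive D] [Limits.HasZeroObject D] [HasShift D ℤ]
    [∀ n : ℤ, (shiftFunctor D n).Additive] [Pretriangulated D] [IsTriangulated D]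
    {X Y X' Y' : D} (f : X ⟶ Y) (f' : X' ⟶ Y') (u : X ⟶ X') (v : Y ⟶ Y') (comm : f ≫ v = u ≫ f') :
    ∃ (Z Z' X'' Y'' Z'' : D) (g : Y ⟶ Z) (h : Z ⟶ (shiftFunctor D (1 : ℤ)).obj X)
      (g' : Y' ⟶ Z') (h' : Z' ⟶ (shiftFunctor D (1 : ℤ)).obj X')
      (f'' : X'' ⟶ Y'') (g'' : Y'' ⟶ Z'') (h'' : Z'' ⟶ (shiftFunctor D (1 : ℤ)).obj X'')
      (u' : X' ⟶ X'') (u'' : X'' ⟶ (shiftFunctor D (1 : ℤ)).obj X)
      (v' : Y' ⟶ Y'') (v'' : Y'' ⟶ (shiftFunctor D (1 : ℤ)).obj Y)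
      (w : Z ⟶ Z') (w' : Z' ⟶ Z'') (w'' : Z'' ⟶ (shiftFunctor D (1 : ℤ)).obj Z),
      Triangle.mk f g h ∈ distinguishedTriangles ∧ Triangle.mk f' g' h' ∈ distinguishedTriangles ∧
      Triangle.mk f'' g'' h'' ∈ distinguishedTriangles ∧
      Triangle.mk u u' u'' ∈ distinguishedTriangles ∧ Triangle.mk v v' v'' ∈ distinguishedTriangles ∧
      Triangle.mk w w' w'' ∈ distinguishedTriangles ∧
      g ≫ w = v ≫ g' ∧ h ≫ (shiftFunctor D (1 : ℤ)).map u = w ≫ h' ∧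
      f' ≫ v' = u' ≫ f'' ∧ g' ≫ w' = v' ≫ g'' ∧ h' ≫ (shiftFunctor D (1 : ℤ)).map u' = w' ≫ h'' ∧
      f'' ≫ v'' = u'' ≫ (shiftFunctor D (1 : ℤ)).map f ∧ g'' ≫ w'' = v'' ≫ (shiftFunctor D (1 : ℤ)).map g ∧
      h'' ≫ (shiftFunctor D (1 : ℤ)).map u'' = -(w'' ≫ (shiftFunctor D (1 : ℤ)).map h) := by
  obtain ⟨Z, g, h, hf⟩ := distinguished_cocone_triangle f
  obtain ⟨Z', g', h', hf'⟩ := distinguished_cocone_triangle f'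
  obtain ⟨X'', u', u'', hu⟩ := distinguished_cocone_triangle u
  obtain ⟨Y'', v', v'', hv⟩ := distinguished_cocone_triangle v
  obtain ⟨C, a, b, hd⟩ := distinguished_cocone_triangle (f ≫ v)
  obtain ⟨m₁, m₃, a₁, a₂, a₃, a₄, hm⟩ := oct rfl hf hv hd
  obtain ⟨n₁, n₃, b₁, b₂, b₃, b₄, hn⟩ := oct comm.symm hu hf' hd
  obtain ⟨Z'', g'', h'', hf''⟩ := distinguished_cocone_triangle (n₁ ≫ m₃)
  have hm' : Triangle.mk m₃ (v'' ≫ g⟦(1 : ℤ)⟧') (-(m₁⟦(1 : ℤ)⟧')) ∈ distinguishedTriangles :=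
    rot_of_distTriang _ hm
  obtain ⟨p₁, p₃, c₁, c₂, c₃, c₄, hp⟩ := oct rfl hn hm' hf''
  refine ⟨Z, Z', X'', Y'', Z'', g, h, g', h', n₁ ≫ m₃, g'', h'', u', u'', v', v'',
    m₁ ≫ n₃, p₁, p₃, hf, hf', hf'', hu, hv, ?_, ?_, ?_, ?_, ?_, ?_, ?_, ?_, ?_⟩
  · rw [rotate_distinguished_triangle]
    exact isomorphic_distinguished _ hp _
      (Triangle.isoMk _ _ (Iso.refl _) (Iso.refl _) (Iso.refl _)
      ((Category.comp_id _).trans (Category.id_comp _).symm)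
      ((Category.comp_id _).trans (Category.id_comp _).symm) (by
        change (-(shiftFunctor D (1 : ℤ)).map (m₁ ≫ n₃)) ≫ (shiftFunctor D (1 : ℤ)).map (𝟙 Z') =
          𝟙 _ ≫ (-(shiftFunctor D (1 : ℤ)).map m₁) ≫ (shiftFunctor D (1 : ℤ)).map n₃
        simp [Functor.map_comp]))
  · rw [reassoc_of% a₁, b₃]
  · rw [← a₂, Category.assoc, Category.assoc, b₄]
  · rw [← a₃, reassoc_of% b₁]
  · rw [← b₃, ← a₃, Category.assoc, Category.assoc, c₁]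
  · exact c₂.symm
  · rw [Category.assoc, ← a₄, reassoc_of% b₂]
  · exact c₃
  · rw [← b₂, Functor.map_comp, reassoc_of% c₄, ← a₂]
    simp

end Groth.Agent.S0983
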