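import Groth.Statements.S0985
import Groth.Agent.Lib.DerCat.SeqColim
import Mathlib.Algebra.Homology.GrothendieckAbelian
import Mathlib.Algebra.Homology.DerivedCategory.ShortExact

set_option autoImplicit false
universe w v u
open CategoryTheory CategoryTheory.Limits
open DerLim

namespace Groth.Agent.S0985

/-- Let A be an abelian category in which colimits of sequences ℕ ⥤ A exist and are exact, and let L : ℕ
⥤ CochainComplex A ℤ be a sequence of complexes. Then the image in the derived category of the
termwise colimit of L, with the canonical maps from the Lₙ, is a homotopy colimit of the images of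
the Lₙ — assuming the termwise direct sum of the Lₙ exists and is preserved by the localization
functor to D(A) (a known result, carried here as a hypothesis rather than proved), and that the
direct sum of the images exists in D(A). -/
theorem result {A : Type u} [Category.{v} A] [Abelian A] [HasDerivedCategory.{w} A]
    [HasColimitsOfShape ℕ A] [HasExactColimitsOfShape ℕ A]
    (L : ℕ ⥤ CochainComplex A ℤ) [HasCoproduct L.obj] [PreservesColimit (Discrete.functor L.obj) (DerivedCategory.Q (C := A))]
    [HasCoproduct (fun n => DerivedCategory.Q.obj (L.obj n))] :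
    DerLim.IsHocolim (fun n => DerivedCategory.Q.obj (L.obj n)) (fun n => DerivedCategory.Q.map (L.map (homOfLE (Nat.le_succ n))))
      (DerivedCategory.Q.obj (colimit L)) (fun n => DerivedCategory.Q.map (colimit.ι L n)) := by
  obtain ⟨h0, hS⟩ := Lib.DerCat.SeqColim.shortExact_coproduct_colimit L
  let e := PreservesCoproduct.iso (DerivedCategory.Q (C := A)) L.obj
  let δ := DerivedCategory.triangleOfSESδ hS
  have hι : ∀ n, Sigma.ι (fun n => DerivedCategory.Q.obj (L.obj n)) n ≫ e.inv =
      DerivedCategory.Q.map (Sigma.ι L.obj n) := fun n => by simp [e]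
  have h1 : (𝟙 _ - DerLim.shiftMap (fun n => DerivedCategory.Q.obj (L.obj n))
        (fun n => DerivedCategory.Q.map (L.map (homOfLE (Nat.le_succ n))))) ≫ e.inv =
      e.inv ≫ DerivedCategory.Q.map (𝟙 _ - Lib.DerCat.SeqColim.sh L) := by
    apply Sigma.hom_ext
    intro n
    rw [Preadditive.sub_comp, Preadditive.comp_sub, ← Category.assoc, ← Category.assoc (f := Sigma.ι _ n) (g := DerLim.shiftMap _ _),
      ← Category.assoc (g := e.inv)]
    simp [DerLim.shiftMap, hι, Lib.DerCat.SeqColim.sh, ← Functor.map_comp, Preadditive.comp_sub]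
  have h2 : Sigma.desc (fun n => DerivedCategory.Q.map (colimit.ι L n)) =
      e.inv ≫ DerivedCategory.Q.map (Sigma.desc fun n => colimit.ι L n) := by
    apply Sigma.hom_ext
    intro n
    rw [Sigma.ι_desc, ← Category.assoc, hι, ← Functor.map_comp, Sigma.ι_desc]
  refine ⟨δ ≫ e.hom⟦(1 : ℤ)⟧', Pretriangulated.isomorphic_distinguished _
    (DerivedCategory.triangleOfSES_distinguished hS) _
    (Pretriangulated.Triangle.isoMk _ _ e.symm e.symm (Iso.refl _) h1
      ((Category.comp_id _).trans h2) ?_)⟩
  refine Eq.trans ?_ (Category.id_comp _).symm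
  change (δ ≫ e.hom⟦(1 : ℤ)⟧') ≫ e.inv⟦(1 : ℤ)⟧' = δ
  rw [Category.assoc, ← Functor.map_comp, e.hom_inv_id, CategoryTheory.Functor.map_id,
    Category.comp_id]

end Groth.Agent.S0985
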