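import Groth.Statements.S0987
import Groth.Agent.Lib.KRes.KDb

set_option autoImplicit false
universe w v u
open CategoryTheory CategoryTheory.Limits
open KZero

namespace Groth.Agent.S0987

/-- For an abelian category A there is an isomorphism between K₀(A) and K₀ of the bounded derived
category D^b(A) (objects of D(A) with bounded cohomology, with the distinguished triangles of D(A))
which sends the class of an object X to the class of X placed in degree 0. -/
theorem result (A : Type u) [Category.{v} A] [Abelian A] [HasDerivedCategory.{w} A] :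
    ∃ φ : KZero.K0 A ≃+ KZero.K0tr (fun X : DerivedCategory A => ∃ a b : ℤ, X.IsGE a ∧ X.IsLE b),
      ∀ X : A, φ (KZero.cl X) =
        KZero.clTr (fun X : DerivedCategory A => ∃ a b : ℤ, X.IsGE a ∧ X.IsLE b) ((DerivedCategory.singleFunctor A 0).obj X) := by
  open Groth.Agent.Lib.KRes in
  let a : KZero.K0 A →+ KZero.K0sub (⊤ : ObjectProperty A) :=
    QuotientAddGroup.map _ _ (FreeAbelianGroup.map fun X => ⟨X, trivial⟩) <| by
      rw [KZero.relAb, AddSubgroup.closure_le]
      rintro x ⟨S, hS, rfl⟩
      exact AddSubgroup.subset_closure ⟨S, trivial, trivial, trivial, hS, by simp⟩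
  let b : KZero.K0sub (⊤ : ObjectProperty A) →+ KZero.K0 A :=
    QuotientAddGroup.map _ _ (FreeAbelianGroup.map Subtype.val) <| by
      rw [KZero.relSub, AddSubgroup.closure_le]
      rintro x ⟨S, _, _, _, hS, rfl⟩
      exact AddSubgroup.subset_closure ⟨S, hS, by simp⟩
  have hab : b.comp a = AddMonoidHom.id _ :=
    QuotientAddGroup.addMonoidHom_ext _ (FreeAbelianGroup.lift_ext _ _ fun _ => rfl)
  have hba : a.comp b = AddMonoidHom.id _ :=
    QuotientAddGroup.addMonoidHom_ext _ (FreeAbelianGroup.lift_ext _ _ fun _ => rfl)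
  obtain ⟨φ, hφ⟩ := Groth.Agent.Lib.KRes.KDb.exists_equiv (P := (⊤ : ObjectProperty A))
    (Q := fun X : DerivedCategory A => ∃ a b : ℤ, X.IsGE a ∧ X.IsLE b)
    (fun _ => ⟨fun h => ⟨fun _ => trivial, h⟩, fun h => h.2⟩)
  exact ⟨(AddMonoidHom.toAddEquiv a b hab hba).trans φ, fun X =>
    (congrArg φ (Groth.Agent.Lib.KRes.KSub.clSub_pos (P := (⊤ : ObjectProperty A)) (X := X) trivial).symm).trans
      (hφ X trivial)⟩

end Groth.Agent.S0987
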