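import Groth.Statements.S0989
import Groth.Agent.Lib.DerCat.TStruct

set_option autoImplicit false
universe w v u
open CategoryTheory CategoryTheory.Limits
open CohDer

namespace Groth.Agent.S0989

open DerivedCategory CategoryTheory.Pretriangulated CategoryTheory.Limits

/-- Let P be a weak Serre class in an abelian category A: P is closed under isomorphisms, holds for a
zero object, and whenever X₀ → X₁ → X₂ → X₃ → X₄ is exact with P holding for X₀, X₁, X₃, X₄ it holds
for X₂. Then the class of objects of the derived category all of whose cohomology objects satisfy P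
is a triangulated subcategory (contains zero, stable under shifts, closed under extensions) which is
moreover closed under retracts (saturated). -/
theorem result {A : Type u} [Category.{v} A] [Abelian A] [HasDerivedCategory.{w} A]
    (P : ObjectProperty A) [P.IsClosedUnderIsomorphisms] (h0 : ∃ Z : A, IsZero Z ∧ P Z)
    (hP : ∀ S : ComposableArrows A 4, S.Exact → P (S.obj 0) → P (S.obj 1) → P (S.obj 3) → P (S.obj 4) → P (S.obj 2)) :
    ObjectProperty.IsTriangulated (fun X : DerivedCategory A => ∀ n : ℤ, P ((DerivedCategory.homologyFunctor A n).obj X)) ∧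
    ObjectProperty.IsStableUnderRetracts (fun X : DerivedCategory A => ∀ n : ℤ, P ((DerivedCategory.homologyFunctor A n).obj X)) := by
  obtain ⟨Z, hZ, hPZ⟩ := h0
  have hzero : ∀ Y : A, IsZero Y → P Y := fun Y hY => P.prop_of_iso (hZ.iso hY) hPZ
  refine ⟨{ exists_zero := ⟨_, isZero_zero _, fun n => hzero _ ((homologyFunctor A n).map_isZero (isZero_zero _))⟩
            isStableUnderShiftBy := fun a => ⟨fun X hX n => ?_⟩
            toIsTriangulatedClosed₂ := ⟨fun T hT h₁ h₃ => ObjectProperty.le_isoClosure _ _ fun n => ?_⟩ }, ⟨fun {Y X} r hX n => ?_⟩⟩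
  · exact P.prop_of_iso (((homologyFunctor A 0).shiftIso a n (a + n) rfl).app X).symm (hX (a + n))
  · let S : ComposableArrows A 4 := ComposableArrows.mk₄
      (HomologySequence.δ T (n - 1) n (by omega)) ((homologyFunctor A n).map T.mor₁)
      ((homologyFunctor A n).map T.mor₂) (HomologySequence.δ T n (n + 1) rfl)
    have hS : S.Exact :=
      ComposableArrows.exact_of_δ₀ (HomologySequence.exact₁ T hT (n - 1) n (by omega)).exact_toComposableArrows
        (ComposableArrows.exact_of_δ₀ (HomologySequence.exact₂ T hT n).exact_toComposableArrows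
          (HomologySequence.exact₃ T hT n (n + 1) rfl).exact_toComposableArrows)
    exact hP S hS (h₃ (n - 1)) (h₁ n) (h₃ n) (h₁ (n + 1))
  · let G := homologyFunctor A n
    let e : G.obj X ⟶ G.obj X := 𝟙 _ - G.map r.r ≫ G.map r.i
    have hri : G.map r.i ≫ G.map r.r = 𝟙 _ := by rw [← G.map_comp, r.retract, G.map_id]
    have w : e ≫ G.map r.r = 0 := by
      simp [e, Preadditive.sub_comp, hri]
    have h1 : (ShortComplex.mk e (G.map r.r) w).Exact := by
      rw [ShortComplex.exact_iff_exact_up_to_refinements]
      intro W x hx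
      exact ⟨W, 𝟙 _, inferInstance, x, by
        dsimp only at hx ⊢
        simp [e, Preadditive.comp_sub, ← Category.assoc, hx]⟩
    have : Epi (G.map r.r) := SplitEpi.epi ⟨G.map r.i, hri⟩
    have h2 : (ShortComplex.mk (G.map r.r) (0 : G.obj Y ⟶ Z) comp_zero).Exact :=
      (ShortComplex.exact_iff_epi _ rfl).2 inferInstance
    have h3 : (ShortComplex.mk (0 : G.obj Y ⟶ Z) (0 : Z ⟶ Z) comp_zero).Exact :=
      ShortComplex.exact_of_isZero_X₂ _ hZ
    let S : ComposableArrows A 4 := ComposableArrows.mk₄ e (G.map r.r) (0 : G.obj Y ⟶ Z) (0 : Z ⟶ Z)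
    have hS : S.Exact :=
      ComposableArrows.exact_of_δ₀ h1.exact_toComposableArrows
        (ComposableArrows.exact_of_δ₀ h2.exact_toComposableArrows h3.exact_toComposableArrows)
    exact hP S hS (hX n) (hX n) hPZ hPZ

end Groth.Agent.S0989
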