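import Groth.Statements.S10000
import Groth.Agent.Lib.AlgSpDecent.GeoSections
import Groth.Agent.Lib.AlgSpMor.LocP
import Groth.Agent.Lib.AlgSpStalk.Lifts
import Groth.Agent.Lib.AlgSpace.Props
import Groth.Agent.Lib.Unram.SepDegreeEtale
import Groth.Agent.Lib.AlgSpDecent.ExtendEmbedding

set_option autoImplicit false
universe u
open CategoryTheory CategoryTheory.Limits AlgebraicGeometry
open AlgSp

namespace Groth.Agent.S10000

open Groth.Agent.Lib.AlgSpace Groth.Agent.Lib.AlgSpDecent

/-- For a morphism X ⟶ Y of algebraic spaces and an algebraically closed field k over S that is large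
compared with X, X(k) surjects onto |X| ×_{|Y|} Y(k): every pair of a point x of |X| and a k-valued
point of Y with the same image in |Y| comes from a k-valued point of X. (The published statement
measures largeness by a cardinal attached to X that bounds the residue fields of an etale atlas;
this row asks directly that every residue field of one surjective etale chart U of X have
cardinality smaller than that of k, which is how the bound enters the argument.) -/
theorem result {S : Scheme.{u}} {X Y : AlgSp.Space S} (f : X ⟶ Y)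
    {U : Over S} (a : (AlgSp.yon S).obj U ⟶ X.obj) (ha : AlgSp.RepWith @Etale a) (has : AlgSp.RepWith @Surjective a)
    (ybar : AlgSp.FieldPt Y.obj) (hy : ybar.IsGeometric)
    (hk : ∀ u : ↥U.left, Cardinal.mk ↥(U.left.residueField u) < Cardinal.mk ybar.K)
    (x : AlgSp.Points X.obj) (hx : AlgSp.Points.map f.hom x = AlgSp.Points.mk ybar) :
    ∃ xbar : (AlgSp.yon S).obj ybar.pt ⟶ X.obj, xbar ≫ f.hom = ybar.toHom ∧
      AlgSp.Points.ofPt xbar (IsLocalRing.closedPoint ybar.K) = x := by
  obtain ⟨V, b, hb, hbs⟩ := Y.property.atlas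
  obtain ⟨W, p, q, sq⟩ := exists_isPullback_yon Y.property.diag (a ≫ f.hom) b
  obtain ⟨u, hu⟩ := Core.surjective_ofPt has x
  have : Etale p.left := repWith_property hb sq.flip
  have : Surjective p.left := repWith_property hbs sq.flip
  obtain ⟨w, hwu⟩ := p.left.surjective u
  have hqw : Points.ofPt b (q.left w) = Points.ofPt ybar.toHom (IsLocalRing.closedPoint ybar.K) := by
    rw [Points.ofPt_toHom]
    have h := congrArg (fun φ => Points.ofPt φ w) sq.w
    simp only [Core.ofPt_map_comp, hwu] at h
    rw [← h, ← hx, ← hu, Points.map_ofPt]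
  obtain ⟨t, ht, -⟩ := Core.exists_point_of_scheme_isPullback (hb.rep.isPullback' ybar.toHom) _ _ hqw
  obtain ⟨σ, -, hσ⟩ := GeoSections.exists_equiv hb ybar hy
  obtain ⟨⟨s, hs⟩, hst⟩ : ∃ s : GeoSections.Sec b ybar,
      s.1.left (IsLocalRing.closedPoint ybar.K) = q.left w := ⟨σ t, (hσ t).trans ht⟩
  obtain ⟨φ, hφ⟩ : ∃ φ : V.left.residueField (q.left w) ⟶ CommRingCat.of ybar.K,
      s.left = Spec.map φ ≫ V.left.fromSpecResidueField (q.left w) := by
    rw [← hst]
    exact ⟨_, ((Scheme.SpecToEquivOfField ybar.K V.left).symm_apply_apply s.left).symm⟩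
  have : IsAlgClosed ybar.K := hy
  let _ : Algebra (V.left.residueField (q.left w)) (W.left.residueField w) :=
    (q.left.residueFieldMap w).hom.toAlgebra
  let _ : Algebra (V.left.residueField (q.left w)) ybar.K := φ.hom.toAlgebra
  have hcard : Cardinal.mk (W.left.residueField w) < Cardinal.mk ybar.K := by
    have := locallyQuasiFinite_of_etale p.left
    exact ExtendEmbedding.mk_lt_of_finite (p.left.residueFieldMap w).hom
      (Groth.Agent.Lib.Unram.SepDegreeEtale.residueFieldMap_finite_of_quasiFiniteAt p.left w
        (p.left.quasiFiniteAt w)) (hk _)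
  obtain ⟨χ⟩ := ExtendEmbedding.exists_extension (F := V.left.residueField (q.left w)) hcard
  let m : Spec (CommRingCat.of ybar.K) ⟶ W.left :=
    Spec.map (CommRingCat.ofHom χ.toRingHom) ≫ W.left.fromSpecResidueField w
  have hm : m ≫ q.left = s.left := by
    have e : q.left.residueFieldMap w ≫ CommRingCat.ofHom χ.toRingHom = φ :=
      CommRingCat.hom_ext (RingHom.ext χ.commutes)
    rw [hφ, ← e, Spec.map_comp]
    simp [m]
    rfl
  let M : ybar.pt ⟶ W := Over.homMk m (by
    show m ≫ W.hom = ybar.pt.hom
    rw [← Over.w q, ← Category.assoc, hm, Over.w s])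
  have hM : M ≫ q = s := Over.OverMorphism.ext hm
  refine ⟨(AlgSp.yon S).map (M ≫ p) ≫ a, ?_, ?_⟩
  · rw [Functor.map_comp, Category.assoc, Category.assoc, sq.w, ← Functor.map_comp_assoc, hM, hs]
  · rw [Core.ofPt_map_comp, Over.comp_left, Scheme.Hom.comp_apply]
    have : M.left (IsLocalRing.closedPoint ybar.K) = w := by
      show (Spec.map _ ≫ W.left.fromSpecResidueField w) _ = w
      rw [Scheme.Hom.comp_apply]
      exact Scheme.fromSpecResidueField_apply _ _
    exact ((congrArg (fun z => Points.ofPt a (p.left z)) this).trans (congrArg _ hwu)).trans hu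

end Groth.Agent.S10000
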