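import Groth.Statements.S10003
import Groth.Agent.Lib.AlgSpMor.SchImage.Family
-- import your own Groth.Agent.* helpers here

set_option autoImplicit false
universe u
open CategoryTheory CategoryTheory.Limits AlgebraicGeometry Opposite
open AlgSp

open AlgSp (yon RepWith)
open Groth.Agent.Lib.AlgSpace Groth.Agent.Lib.AlgSpMor Groth.Agent.Lib.AlgSpMor.SchImage

namespace Groth.Agent.S10003

/-- For a quasi-compact morphism f : X ⟶ Y of algebraic spaces that is representable by schemes, the
sheaf of ideals Ker(O_Y ⟶ f_* O_X) (the kernel family on affine etale charts of Y) is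
quasi-coherent, and the scheme theoretic image of f is exactly the closed subspace it cuts out. (The
published statement is for an arbitrary quasi-compact morphism of algebraic spaces; f_* O_X on the
small etale site with scheme charts is available only for representable f, the case stated.) -/
theorem result {S : Scheme.{u}} {X Y : AlgSp.Space S} (f : X ⟶ Y)
    (hf : AlgSp.Representable f.hom) (hqc : AlgSp.IsQuasiCompactMor f.hom) :
    (AlgSp.idealOfRep hf).IsQCoh ∧
      ∀ (Z : AlgSp.Space S) (i : Z ⟶ Y), AlgSp.IsSchImage f.hom i.hom ↔ AlgSp.IsCutOutBy (AlgSp.idealOfRep hf) i.hom := by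
  have key : ∀ (T T' : Over S) (ξ : (AlgSp.yon S).obj T ⟶ Y.obj) (q : T' ⟶ T), IsAffine T.left →
      IsAffine T'.left → Flat q.left →
      (kerAt f.hom ξ).comap q.left = kerAt f.hom ((AlgSp.yon S).map q ≫ ξ) :=
    fun T T' ξ q hT hT' hq ↦ comap_kerAt_eq X.property Y.property hqc hT hT' ξ q hq
  refine ⟨fun E E' g hE hE' ↦ ?_, fun Z i ↦ ⟨fun h ↦ ⟨h.1, AlgSp.IdealEt.ext ?_⟩, ?_⟩⟩
  · haveI := hE; haveI := hE'
    haveI := AlgSp.EtOver.etale_left g
    rw [← ofIdealTop_le_iff, ← comap_ofIdealTop, ofIdealTop_idealOfRep, ofIdealTop_idealOfRep,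
      key _ _ _ _ hE hE' inferInstance, AlgSp.EtOver.w g]
  · funext E hE
    haveI := hE
    refine (Scheme.IdealSheafData.equivOfIsAffine (X := E.obj.left.left)).symm.injective ?_
    show Scheme.IdealSheafData.ofIdealTop _ = Scheme.IdealSheafData.ofIdealTop _
    rw [ofIdealTop_idealOfRep, ofIdealTop_idealOfRep]
    exact (cut_kerAt_self h.1 _).unique (cut_kerAt X.property Y.property hqc Z.property h hE
      (LocP.locP_of_repWith Groth.Agent.Lib.SourceDescent.Scheme.flat
        (repWith_mono E.property fun _ _ g (_ : Etale g) ↦ (inferInstance : Flat g))))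
  · rintro ⟨hi, he⟩
    refine isSchImage_of_affine Y.property hi fun T hT ξ hξ ↦ ?_
    haveI := hT
    let E := AlgSp.EtOver.mk ξ hξ
    have h1 : kerAt i.hom ξ = kerAt f.hom ξ := by
      rw [show ξ = E.obj.hom from rfl, ← ofIdealTop_idealOfRep hi.1 E hT,
        ← ofIdealTop_idealOfRep hf E hT, he]
    rw [← h1]
    exact cut_kerAt_self hi ξ

end Groth.Agent.S10003
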