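import Groth.Statements.S10004
import Groth.Agent.Lib.SpLimit.Basic

set_option autoImplicit false
universe u
open CategoryTheory CategoryTheory.Limits AlgebraicGeometry
open AlgSp

namespace Groth.Agent.S10004

/-- Let `(X_i)` be a cofiltered system of algebraic spaces over `S` (indexed by a small cofiltered
category, e.g. a directed inverse system) with affine transition morphisms, and let `X` be a limit
of the system in the category of fppf sheaves of sets over `S`. Then `X` is an algebraic space over
`S` and each projection `X ⟶ X_i` is affine. (The published statement also asserts that for `T ⟶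
X_i` the fibre product `X ×_{X_i} T` is the limit of the `X_{i'} ×_{X_i} T`; this row omits that
formal clause.) -/
theorem result (S : Scheme.{u}) {I : Type u} [SmallCategory I] [IsCofiltered I]
    (D : I ⥤ AlgSp.Sp S) (hD : ∀ i, AlgSp.IsAlgSpace (D.obj i))
    (hDa : ∀ (i j : I) (φ : i ⟶ j), AlgSp.IsAffineMor (D.map φ))
    (c : Cone D) (hc : IsLimit c) :
    AlgSp.IsAlgSpace c.pt ∧ ∀ i, AlgSp.IsAffineMor (c.π.app i) := by
  have h := fun i => Groth.Agent.Lib.SpLimit.repWith_π D
    (fun φ => Groth.Agent.Lib.AlgSpMor.AffineDescent.repWith_of_isAffineMor (hDa _ _ φ)) hc i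
  obtain ⟨i⟩ := (IsCofiltered.nonempty : Nonempty I)
  exact ⟨Groth.Agent.Lib.AlgSpace.isAlgSpace_of_representable (h i).rep (hD i),
    fun j => Groth.Agent.Lib.AlgSpMor.AffineDescent.isAffineMor_iff.2 (h j)⟩


end Groth.Agent.S10004
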