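import Groth.Statements.S10031
import Groth.Agent.S9208
import Groth.Agent.Lib.AlgSpLimit.Lifting
-- import your own Groth.Agent.* helpers here

set_option autoImplicit false
universe u
open CategoryTheory CategoryTheory.Limits AlgebraicGeometry
open AlgSp

open Groth.Agent.Lib.AlgSpace Groth.Agent.Lib.AlgSpLimit

namespace Groth.Agent.S10031

/-- A morphism `f : X ⟶ Y` of algebraic spaces over `S` is locally of finite presentation provided that,
whenever an affine scheme `T` over `S` is a cofiltered (e.g. directed) limit of affine schemes `T_i`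
over `S`, each `T`-point of `X` lying over a `T_i`-point of `Y` comes, compatibly with both, from a
`T_{i'}`-point of `X` for some `i'` mapping to `i` (that is, the map from `colim X(T_i)` to `X(T)
×_{Y(T)} colim Y(T_i)` is surjective). -/
theorem result (S : Scheme.{u}) {X Y : AlgSp.Space S} (f : X ⟶ Y)
    (h : ∀ ⦃I : Type u⦄ [SmallCategory I] [IsCofiltered I] (D : I ⥤ Over S) (c : Cone D),
      IsLimit ((Over.forget S).mapCone c) → (∀ i, IsAffine (D.obj i).left) → IsAffine c.pt.left →
      ∀ (x : (AlgSp.yon S).obj c.pt ⟶ X.obj) (i : I) (y : (AlgSp.yon S).obj (D.obj i) ⟶ Y.obj),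
        x ≫ f.hom = (AlgSp.yon S).map (c.π.app i) ≫ y →
        ∃ (i' : I) (φ : i' ⟶ i) (x' : (AlgSp.yon S).obj (D.obj i') ⟶ X.obj),
          (AlgSp.yon S).map (c.π.app i') ≫ x' = x ∧ x' ≫ f.hom = (AlgSp.yon S).map (D.map φ) ≫ y) :
    AlgSp.LocP @LocallyOfFinitePresentation f.hom := by
  intro U V a b g ha hb sq
  refine Groth.Agent.S9208.result g.left fun J _ _ _ D t c hc hD j₀ z hz => ?_
  let E : Jᵒᵖ ⥤ Over S :=
    { obj := fun j ↦ CategoryTheory.Over.mk (t.app j ≫ V.hom)
      map := fun {i j} φ ↦ CategoryTheory.Over.homMk (D.map φ) (by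
        show D.map φ ≫ t.app j ≫ V.hom = t.app i ≫ V.hom
        rw [← Category.assoc, t.naturality φ, Functor.const_obj_map]
        exact congrArg (· ≫ V.hom) (Category.comp_id _))
      map_id := fun j ↦ CategoryTheory.Over.OverMorphism.ext (D.map_id j)
      map_comp := fun φ ψ ↦ CategoryTheory.Over.OverMorphism.ext (D.map_comp φ ψ) }
  have hconst : ∀ i : Jᵒᵖ, c.π.app i ≫ t.app i = c.π.app j₀ ≫ t.app j₀ := by
    have key : ∀ {k i : Jᵒᵖ} (φ : k ⟶ i), c.π.app k ≫ t.app k = c.π.app i ≫ t.app i := by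
      intro k i φ
      have h1 : D.map φ ≫ t.app i = t.app k :=
        (t.naturality φ).trans (Category.comp_id _)
      rw [← h1, ← Category.assoc, c.w φ]
    intro i
    rw [← key (IsCofiltered.minToLeft i j₀), key (IsCofiltered.minToRight i j₀)]
  let e : Cone E :=
    { pt := CategoryTheory.Over.mk (z ≫ U.hom)
      π :=
        { app := fun j ↦ CategoryTheory.Over.homMk (c.π.app j) (by
            show c.π.app j ≫ t.app j ≫ V.hom = z ≫ U.hom
            rw [← Category.assoc, hconst, ← hz, Category.assoc, CategoryTheory.Over.w g])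
          naturality := fun i j φ ↦ CategoryTheory.Over.OverMorphism.ext (c.π.naturality φ) } }
  have hE : IsLimit ((CategoryTheory.Over.forget S).mapCone e) := hc
  haveI : ∀ j, IsAffine (D.obj j) := hD
  haveI hpt : IsAffine c.pt := Scheme.isAffine_of_isLimit _ hc
  let τ : ∀ j, E.obj j ⟶ V := fun j ↦ CategoryTheory.Over.homMk (t.app j) rfl
  let zO : e.pt ⟶ U := CategoryTheory.Over.homMk z rfl
  have hz' : zO ≫ g = e.π.app j₀ ≫ τ j₀ := CategoryTheory.Over.OverMorphism.ext hz
  obtain ⟨j₁, φ, x', hx', hxy⟩ := h E e hE hD hpt ((yon S).map zO ≫ a) j₀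
    ((yon S).map (τ j₀) ≫ b) (by
      rw [Category.assoc, sq, ← Category.assoc, ← (yon S).map_comp, hz', (yon S).map_comp,
        Category.assoc])
  have hτ : E.map φ ≫ τ j₀ = τ j₁ :=
    CategoryTheory.Over.OverMorphism.ext ((t.naturality φ).trans (Category.comp_id _))
  rw [← Category.assoc, ← (yon S).map_comp, hτ] at hxy
  -- the chart pulled back along `x'`
  obtain ⟨W, p, q, sqW⟩ := exists_isPullback_yon X.property.diag a x'
  haveI : Etale q.left := ha.property x' ((yon S).map p) q sqW
  let w : e.pt ⟶ W := (yon S).preimage (sqW.lift ((yon S).map zO) ((yon S).map (e.π.app j₁)) hx'.symm)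
  have hwp : w ≫ p = zO := (yon S).map_injective (by simp [w])
  have hwq : w ≫ q = e.π.app j₁ := (yon S).map_injective (by simp [w])
  obtain ⟨j₂, ψ, s, hs, hsw⟩ := exists_lift_stage E hE hD q w hwq
  -- compare the two maps to `V`
  have hb' : (yon S).map (s ≫ p ≫ g) ≫ b = (yon S).map (τ j₂) ≫ b := by
    have hτ₂ : E.map ψ ≫ τ j₁ = τ j₂ :=
      CategoryTheory.Over.OverMorphism.ext ((t.naturality ψ).trans (Category.comp_id _))
    rw [← hτ₂, (yon S).map_comp, (yon S).map_comp, (yon S).map_comp, Category.assoc, Category.assoc,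
      Category.assoc, ← sq, ← Category.assoc ((yon S).map p), sqW.w, Category.assoc, hxy,
      ← Category.assoc ((yon S).map s), ← (yon S).map_comp, hs]
  have hagree : e.π.app j₂ ≫ s ≫ p ≫ g = e.π.app j₂ ≫ τ j₂ := by
    rw [← Category.assoc, hsw, ← Category.assoc, hwp, hz']
    exact CategoryTheory.Over.OverMorphism.ext
      ((hconst j₀).trans ((hconst j₂).symm))
  obtain ⟨j₃, χ, hχ⟩ := exists_eq_stage E Y.property.diag hE hD hb hb' hagree
  refine ⟨j₃, (E.map χ ≫ s ≫ p).left, ?_, ?_⟩
  · have := congrArg (fun f ↦ CategoryTheory.Over.Hom.left f) hχ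
    refine Eq.trans ?_ (t.naturality χ |>.trans (Category.comp_id _))
    simpa [τ, E] using this
  · show (e.π.app j₃ ≫ E.map χ ≫ s ≫ p).left = zO.left
    rw [← Category.assoc, e.w χ, ← Category.assoc, hsw, hwp]

end Groth.Agent.S10031
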