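import Groth.Statements.S10024
import Groth.Agent.S10031
import Groth.Agent.Lib.AlgSpLimit.LfpLift
-- import your own Groth.Agent.* helpers here

set_option autoImplicit false
universe u
open CategoryTheory CategoryTheory.Limits AlgebraicGeometry
open AlgSp

open Groth.Agent.Lib.AlgSpace Groth.Agent.Lib.AlgSpLimit Groth.Agent.Lib.AlgSpRelLP

namespace Groth.Agent.S10024

/-- A morphism `f : X ⟶ Y` of algebraic spaces over `S` is locally of finite presentation if and only if
it is limit preserving as a transformation of functors (relatively limit preserving: every fibre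
functor over a scheme turns directed limits of affine schemes into colimits). -/
theorem result (S : Scheme.{u}) {X Y : AlgSp.Space S} (f : X ⟶ Y) :
    AlgSp.LocP @LocallyOfFinitePresentation f.hom ↔ AlgSp.IsRelLimitPreserving f.hom.hom := by
  constructor
  · intro hf
    refine rel_of_stage fun I _ _ D c hc hD hT => ⟨fun i y x hx => ?_, fun i x₁ x₂ hx h₁₂ => ?_⟩
    · obtain ⟨j, v, x', h₁, h₂⟩ := exists_hom_lift_stage D X.property Y.property hf hc hD hT
        (i := i) ((secEquiv c.pt).symm x) ((secEquiv (D.obj i)).symm y) ((secEquiv c.pt).injective (by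
          rw [secEquiv_comp, Equiv.apply_symm_apply, secEquiv_map, Equiv.apply_symm_apply]
          exact hx))
      refine ⟨j, v, secEquiv (D.obj j) x', ?_, ?_⟩
      · show f.hom.hom.app _ (secEquiv (D.obj j) x') = _
        rw [← secEquiv_comp, h₁, secEquiv_map, Equiv.apply_symm_apply]
      · show X.obj.obj.map _ (secEquiv (D.obj j) x') = _
        rw [← secEquiv_map, h₂, Equiv.apply_symm_apply]
    · obtain ⟨j, v, hv⟩ := exists_hom_eq_stage D X.property Y.property (f := f.hom)
        (fun _ _ a' b' h' ha' hb' w' => by
          haveI : LocallyOfFinitePresentation h'.left := hf a' b' h' ha' hb' w'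
          exact (inferInstance : LocallyOfFiniteType h'.left))
        hc hD (i := i) (u := (secEquiv (D.obj i)).symm x₁) (v := (secEquiv (D.obj i)).symm x₂)
        ((secEquiv (D.obj i)).injective (by
          rw [secEquiv_comp, secEquiv_comp, Equiv.apply_symm_apply, Equiv.apply_symm_apply]
          exact hx))
        ((secEquiv _).injective (by
          rw [secEquiv_map, secEquiv_map, Equiv.apply_symm_apply, Equiv.apply_symm_apply]
          exact h₁₂))
      refine ⟨j, v, ?_⟩
      have := congrArg (secEquiv (D.obj j)) hv
      rwa [secEquiv_map, secEquiv_map, Equiv.apply_symm_apply, Equiv.apply_symm_apply] at this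
  · intro h
    refine Groth.Agent.S10031.result S f fun I _ _ D c hc hD hT x i y hxy => ?_
    have hx : f.hom.hom.app _ (secEquiv c.pt x) = Y.obj.obj.map (pr c i).op (secEquiv (D.obj i) y) := by
      rw [← secEquiv_comp, hxy, secEquiv_map]
    obtain ⟨j, v, x', h₁, h₂⟩ := (stage_of_rel h D c hc hD hT).1 i _ (secEquiv c.pt x) hx
    refine ⟨j, v, (secEquiv (D.obj j)).symm x', ?_, ?_⟩
    · apply (secEquiv _).injective
      rw [secEquiv_map, Equiv.apply_symm_apply]
      exact h₂
    · apply (secEquiv (D.obj j)).injective
      rw [secEquiv_comp, secEquiv_map, Equiv.apply_symm_apply]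
      exact h₁

end Groth.Agent.S10024
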