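-- Proof of statement S10028.
import Groth.Statements.S10028
import Groth.Agent.Lib.AlgSpRelLP.Sheafify

set_option autoImplicit false
universe u
open CategoryTheory CategoryTheory.Limits AlgebraicGeometry
open AlgSp

namespace Groth.Agent.S10028

open Groth.Agent.Lib.AlgSpRelLP in
/-- A presheaf over one with a single section on each scheme is limit preserving if the map is
relatively so. -/
theorem isLimitPreserving_of_stage {S : Scheme.{u}} {F G : AlgSp.PSp S} (a : F ⟶ G)
    (hG : ∀ T : Over S, Subsingleton (G.obj (Opposite.op T)))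
    (hG' : ∀ T : Over S, Nonempty (G.obj (Opposite.op T))) (ha : Stage a) :
    AlgSp.IsLimitPreserving F := by
  intro I _ _ D c hc hD hT
  obtain ⟨hs, hi⟩ := ha D c hc hD hT
  refine ⟨Types.FilteredColimit.isColimitOf' _ _ (fun x ↦ ?_) fun i x₁ x₂ h₁₂ ↦ ?_⟩
  · obtain ⟨i⟩ := IsCofiltered.nonempty (C := I)
    obtain ⟨j, v, x', -, hx⟩ := hs i (hG' _).some x ((hG _).elim _ _)
    exact ⟨Opposite.op j, x', hx.symm⟩
  · obtain ⟨j, v, hv⟩ := hi i.unop x₁ x₂ ((hG _).elim _ _) h₁₂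
    exact ⟨Opposite.op j, v.op, hv⟩

open Groth.Agent.Lib.AlgSpRelLP in
/-- A limit preserving presheaf is relatively limit preserving over one with single sections. -/
theorem stage_of_isLimitPreserving {S : Scheme.{u}} {F G : AlgSp.PSp S} (a : F ⟶ G)
    (hG : ∀ T : Over S, Subsingleton (G.obj (Opposite.op T))) (hF : AlgSp.IsLimitPreserving F) :
    Stage a := by
  intro I _ _ D c hc hD hT
  obtain ⟨hcol⟩ := hF D c hc hD hT
  refine ⟨fun i y x _ ↦ ?_, fun i x₁ x₂ _ h₁₂ ↦ ?_⟩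
  · obtain ⟨j, x', hx'⟩ := Types.jointly_surjective _ hcol x
    refine ⟨IsCofiltered.min i j.unop, IsCofiltered.minToLeft i j.unop,
      rs F (D.map (IsCofiltered.minToRight i j.unop)) x', (hG _).elim _ _, ?_⟩
    rw [rs_rs, pr_w]
    exact hx'
  · obtain ⟨⟨k⟩, g, hg⟩ := (Types.FilteredColimit.isColimit_eq_iff' hcol
      (i := Opposite.op i) x₁ x₂).1 h₁₂
    exact ⟨k, g.unop, hg⟩


/-- If a presheaf of sets `F` on schemes over `S` is limit preserving, then so is (the underlying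
presheaf of) its fppf sheafification. -/
theorem result (S : Scheme.{u}) (F : AlgSp.PSp S) (hF : AlgSp.IsLimitPreserving F) :
    AlgSp.IsLimitPreserving ((presheafToSheaf (AlgSp.J S) (Type (u + 1))).obj F).obj := by
  let G : AlgSp.PSp S := (Functor.const _).obj PUnit
  let a : F ⟶ G := { app := fun T ↦ ↾fun _ ↦ PUnit.unit }
  have hG : ∀ T : Over S, Subsingleton (G.obj (Opposite.op T)) := fun T ↦
    inferInstanceAs (Subsingleton PUnit)
  refine isLimitPreserving_of_stage (Groth.Agent.Lib.AlgSpRelLP.shMap a) (fun T ↦ ⟨fun s t ↦ ?_⟩)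
    (fun T ↦ ⟨Groth.Agent.Lib.AlgSpRelLP.ap (Groth.Agent.Lib.AlgSpRelLP.η G) PUnit.unit⟩)
    (stage_of_isLimitPreserving a hG hF).sheafify
  have hR := (AlgSp.J S).intersection_covering (Groth.Agent.Lib.AlgSpRelLP.image_mem s)
    (Groth.Agent.Lib.AlgSpRelLP.image_mem t)
  refine ((((isSheaf_iff_isSheaf_of_type _ _).1
    (Groth.Agent.Lib.AlgSpRelLP.isSheaf_sh G)).isSeparated _ hR)).ext fun Z f hf ↦ ?_
  obtain ⟨⟨u, hu⟩, ⟨v, hv⟩⟩ := hf
  rw [← hu, ← hv, (hG Z).elim u v]

end Groth.Agent.S10028
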