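import Groth.Statements.S1003
import Groth.Agent.Lib.Gen43.Compact

set_option autoImplicit false
universe u
open CategoryTheory CategoryTheory.Limits AlgebraicGeometry
attribute [local instance] HasDerivedCategory.standard
open Perf

namespace Groth.Agent.S1003

/-- Let the scheme X be quasi-compact and quasi-separated and K an object of D_QCoh(O_X). Then K is
compact in D_QCoh(O_X) (maps from K into any small direct sum of objects of D_QCoh(O_X) are uniquely
finite sums of maps into the summands) if and only if K is perfect. -/
theorem result (X : Scheme.{u}) [CompactSpace ↥X] [QuasiSeparatedSpace ↥X]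
    (K : DCoh.D X) (hK : DCoh.IsQCohD K) :
    PerfAux.IsCompactObjRel.{u} (fun L : DCoh.D X => DCoh.IsQCohD L) K ↔ DCoh.IsPerfect K := by
  refine (Groth.Agent.Lib.Gen43.Compact.isCompactObjRel_iff (fun L => DCoh.IsQCohD L) K).trans
    ⟨fun h => ?_, fun h => Groth.Agent.Lib.Gen43.Compact.goodP X K h⟩
  exact Groth.Agent.Lib.Gen43.Compact.isPerfect_of_fix (T' := ⊥)
    (by rw [TopologicalSpace.Opens.coe_bot]; exact isCompact_empty) hK
    (Groth.Agent.Lib.Gen43.Restrict.van_bot K) (fun ι L _ hL f => h ι L (fun i => (hL i).1) f)

end Groth.Agent.S1003
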