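-- Proof of statement S10030.
import Groth.Statements.S10030
import Groth.Agent.Lib.AlgSpRelLP.Sheafify

set_option autoImplicit false
set_option backward.isDefEq.respectTransparency false
set_option backward.isDefEq.respectTransparency.types false
universe u
open CategoryTheory CategoryTheory.Limits AlgebraicGeometry
open AlgSp

namespace Groth.Agent.S10030

open Groth.Agent.Lib.AlgSpRelLP Opposite

variable {S : Scheme.{u}} {F : AlgSp.PSp S}

/-- Sections over the limit of a system lying over a scheme on which `F` is limit preserving come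
from a stage, uniquely up to enlarging it. -/
theorem over_scheme {U : Over S}
    (h : AlgSp.IsLimitPreserving (S := U.left) ((Over.map U.hom).op ⋙ F))
    {J : Type u} [SmallCategory J] [IsCofiltered J] (E : J ⥤ Over S) (c : Cone E)
    (hc : IsLimit ((Over.forget S).mapCone c)) (hE : ∀ k, IsAffine (E.obj k).left)
    (hT : IsAffine c.pt.left) (e : ∀ k, E.obj k ⟶ U)
    (he : ∀ {k l : J} (v : k ⟶ l), E.map v ≫ e l = e k) :
    (∀ x : F.obj (op c.pt), ∃ (k : J) (x' : F.obj (op (E.obj k))), rs F (pr c k) x' = x) ∧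
      ∀ (i : J) (x₁ x₂ : F.obj (op (E.obj i))), rs F (pr c i) x₁ = rs F (pr c i) x₂ →
        ∃ (j : J) (v : j ⟶ i), rs F (E.map v) x₁ = rs F (E.map v) x₂ := by
  obtain ⟨k₀⟩ := IsCofiltered.nonempty (C := J)
  have hpr : ∀ k, pr c k ≫ e k = pr c k₀ ≫ e k₀ := fun k ↦ by
    rw [← pr_w c (IsCofiltered.minToLeft k k₀), ← pr_w c (IsCofiltered.minToRight k k₀),
      Category.assoc, Category.assoc, he, he]
  let E' : J ⥤ Over U.left :=
    { obj := fun k ↦ Over.mk (e k).left
      map := fun v ↦ Over.homMk (E.map v).left (congrArg (fun q ↦ Over.Hom.left q) (he v)) }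
  let c' : Cone E' :=
    { pt := Over.mk (pr c k₀ ≫ e k₀).left
      π :=
        { app := fun k ↦ Over.homMk (pr c k).left (congrArg (fun q ↦ Over.Hom.left q) (hpr k))
          naturality := fun k l v ↦ by
            ext
            change 𝟙 _ ≫ (pr c l).left = (pr c k).left ≫ (E.map v).left
            rw [← Over.comp_left, pr_w, Category.id_comp] } }
  obtain ⟨hcol⟩ := h E' c' hc hE hT
  let ι : ∀ k, (Over.map U.hom).obj (E'.obj k) ≅ E.obj k := fun k ↦
    Over.isoMk (Iso.refl _) (by simp [E'])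
  let ι₀ : (Over.map U.hom).obj c'.pt ≅ c.pt := Over.isoMk (Iso.refl _) (by simp [c'])
  have hπ : ∀ k, (Over.map U.hom).map (c'.π.app k) ≫ (ι k).hom = ι₀.hom ≫ pr c k := fun k ↦ by
    ext; simp [ι, ι₀, c']
  refine ⟨fun x ↦ ?_, fun i x₁ x₂ h₁₂ ↦ ?_⟩
  · obtain ⟨⟨k⟩, z, hz⟩ := Types.jointly_surjective _ hcol (rs F ι₀.hom x)
    refine ⟨k, rs F (ι k).inv z, ?_⟩
    have h1 := congrArg (rs F ι₀.inv) (show rs F ((Over.map U.hom).map (c'.π.app k)) z = _ from hz)
    rw [rs_rs, rs_rs, Iso.inv_hom_id, rs_id] at h1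
    rw [← h1, rs_rs]
    congr 1
  · obtain ⟨⟨j⟩, g, hg⟩ := (Types.FilteredColimit.isColimit_eq_iff' hcol (i := op i)
      (rs F (ι i).hom x₁) (rs F (ι i).hom x₂)).1 (by
        change rs F ((Over.map U.hom).map (c'.π.app i)) (rs F (ι i).hom x₁) =
          rs F ((Over.map U.hom).map (c'.π.app i)) (rs F (ι i).hom x₂)
        rw [rs_rs, rs_rs, hπ]
        change rs F (ι₀.hom ≫ pr c i) x₁ = rs F (ι₀.hom ≫ pr c i) x₂
        rw [← rs_rs, ← rs_rs, h₁₂])
    have h1 := congrArg (rs F (ι j).inv) (show rs F ((Over.map U.hom).map (E'.map g.unop))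
      (rs F (ι i).hom x₁) = rs F ((Over.map U.hom).map (E'.map g.unop)) (rs F (ι i).hom x₂) from hg)
    refine ⟨j, g.unop, ?_⟩
    rw [rs_rs, rs_rs, rs_rs, rs_rs] at h1
    have h2 : ((ι j).inv ≫ (Over.map U.hom).map (E'.map g.unop)) ≫ (ι i).hom = E.map g.unop := by
      ext; simp [ι, E']
    rwa [h2] at h1

/-- An affine scheme over `S` has a finite affine covering with pieces over members of a covering of
the base. -/
theorem exists_cover_over {ι : Type u} (U : ι → Over S) (hfl : ∀ j, Flat (U j).hom)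
    (hfp : ∀ j, LocallyOfFinitePresentation (U j).hom)
    (hsurj : ∀ s : ↥S, ∃ (j : ι) (x : ↥(U j).left), (U j).hom.base x = s)
    (T : Over S) [IsAffine T.left] :
    ∃ (κ : Type u) (W : κ → Over S) (g : ∀ l, W l ⟶ T), AffCover W g ∧
      ∀ l, ∃ j, Nonempty (W l ⟶ U j) := by
  let V : ι → Over S := fun j ↦ Over.mk (pullback.fst T.hom (U j).hom ≫ T.hom)
  let p : ∀ j, V j ⟶ T := fun j ↦ Over.homMk (pullback.fst T.hom (U j).hom)
  have hmem : Sieve.ofArrows V p ∈ AlgSp.J S T := by
    refine Groth.Agent.Lib.AlgSpace.ofArrows_mem_J V p (fun j ↦ ?_) (fun j ↦ ?_) fun t ↦ ?_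
    · exact MorphismProperty.of_isPullback (P := @Flat)
        (IsPullback.of_hasPullback T.hom (U j).hom).flip (hfl j)
    · exact MorphismProperty.of_isPullback (P := @LocallyOfFinitePresentation)
        (IsPullback.of_hasPullback T.hom (U j).hom).flip (hfp j)
    · obtain ⟨j, x, hx⟩ := hsurj (T.hom t)
      obtain ⟨z, hz, -⟩ := Scheme.Pullback.exists_preimage_pullback
        (f := T.hom) (g := (U j).hom) t x hx.symm
      exact ⟨j, z, hz⟩
  obtain ⟨κ, W, g, hg, hR⟩ := exists_affCover hmem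
  refine ⟨κ, W, g, hg, fun l ↦ ?_⟩
  obtain ⟨_, u, _, ⟨j⟩, -⟩ := hR l
  exact ⟨j, ⟨u ≫ Over.homMk (pullback.snd T.hom (U j).hom) pullback.condition.symm⟩⟩

/-- Let `F` be an fppf sheaf of sets on schemes over `S` and `{U_j ⟶ S}` an fppf covering (flat
morphisms locally of finite presentation, jointly surjective). If the restriction of `F` to schemes
over each `U_j` is limit preserving, then `F` is limit preserving. -/
theorem result (S : Scheme.{u}) (F : AlgSp.PSp S)
    (hF : Presheaf.IsSheaf (AlgSp.J S) F) {ι : Type u} (U : ι → Over S)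
    (hfl : ∀ j, Flat (U j).hom) (hfp : ∀ j, LocallyOfFinitePresentation (U j).hom)
    (hsurj : ∀ s : ↥S, ∃ (j : ι) (x : ↥(U j).left), (U j).hom.base x = s)
    (hloc : ∀ j, AlgSp.IsLimitPreserving (S := (U j).left) ((Over.map (U j).hom).op ⋙ F)) :
    AlgSp.IsLimitPreserving F := by
  -- the pieces of a covering of a stage
  have piece : ∀ {I : Type u} [SmallCategory I] [IsCofiltered I] {D : I ⥤ Over S} {c : Cone D},
      IsLimit ((Over.forget S).mapCone c) → (∀ i, IsAffine (D.obj i).left) →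
      IsAffine c.pt.left → ∀ {i : I} {W : Over S} (g : W ⟶ D.obj i), IsAffine W.left →
      (∃ j, Nonempty (W ⟶ U j)) →
      (∀ x : F.obj (op (bcC D g c).pt), ∃ (k : Over i) (x' : F.obj (op ((bcD D g).obj k))),
        rs F (pr (bcC D g c) k) x' = x) ∧
      ∀ (k : Over i) (x₁ x₂ : F.obj (op ((bcD D g).obj k))),
        rs F (pr (bcC D g c) k) x₁ = rs F (pr (bcC D g c) k) x₂ →
        ∃ (j : Over i) (v : j ⟶ k), rs F ((bcD D g).map v) x₁ = rs F ((bcD D g).map v) x₂ := by
    intro I _ _ D c hc hD hT i W g hW ⟨j, ⟨l⟩⟩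
    obtain ⟨hl⟩ := nonempty_isLimit_bcC g hc
    exact over_scheme (hloc j) _ _ hl (fun k ↦ isAffine_bcD g hD k) (isAffine_bcC g hD hT)
      (fun k ↦ pullback.fst g (D.map k.hom) ≫ l)
      (fun v ↦ by rw [← Category.assoc, bcD_fst])
  -- injectivity for all systems
  have inj : ∀ {I : Type u} [SmallCategory I] [IsCofiltered I] {D : I ⥤ Over S} {c : Cone D},
      IsLimit ((Over.forget S).mapCone c) → (∀ i, IsAffine (D.obj i).left) →
      IsAffine c.pt.left → ∀ (i : I) (x₁ x₂ : F.obj (op (D.obj i))),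
      rs F (pr c i) x₁ = rs F (pr c i) x₂ →
      ∃ (k : I) (v : k ⟶ i), rs F (D.map v) x₁ = rs F (D.map v) x₂ := by
    intro I _ _ D c hc hD hT i x₁ x₂ h
    have := hD i
    obtain ⟨κ, W, g, hg, hgU⟩ := exists_cover_over U hfl hfp hsurj (D.obj i)
    refine eq_of_pieces hF hD hg x₁ x₂ fun l ↦ ?_
    obtain ⟨k, v, hv⟩ := (piece hc hD hT (g l) (hg.2.1 l) (hgU l)).2 (Over.mk (𝟙 i))
      (rs F (pullback.fst (g l) (D.map (𝟙 i)) ≫ g l) x₁)
      (rs F (pullback.fst (g l) (D.map (𝟙 i)) ≫ g l) x₂) (by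
        rw [rs_rs, rs_rs, ← Category.assoc]
        have e : (pr (bcC D (g l) c) (Over.mk (𝟙 i)) ≫ pullback.fst (g l) (D.map (𝟙 i))) ≫ g l =
            pullback.snd (g l) (pr c i) ≫ pr c i :=
          (congrArg (· ≫ g l) (pr_bcC_fst D (g l) c (Over.mk (𝟙 i)))).trans pullback.condition
        rw [e, ← rs_rs, ← rs_rs, h])
    refine ⟨k, ?_⟩
    simp only [rs_rs] at hv ⊢
    have e := bcD_fst D (g l) v
    dsimp only [Over.mk_hom] at e
    rwa [← Category.assoc, e] at hv
  intro I _ _ D c hc hD hT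
  refine ⟨Types.FilteredColimit.isColimitOf' _ _ (fun x ↦ ?_) fun i x₁ x₂ h₁₂ ↦ ?_⟩
  swap
  · obtain ⟨j, v, hv⟩ := inj hc hD hT i.unop x₁ x₂ h₁₂
    exact ⟨op j, v.op, hv⟩
  classical
  obtain ⟨i⟩ := IsCofiltered.nonempty (C := I)
  have := hD i; haveI := hT
  obtain ⟨κ, W, g, hg, hgU⟩ := exists_cover_over U hfl hfp hsurj (D.obj i)
  choose n t ht using fun l ↦ (piece hc hD hT (g l) (hg.2.1 l) (hgU l)).1
    (rs F (pullback.snd (g l) (pr c i)) x)
  haveI := hg.1
  cases nonempty_fintype κ
  obtain ⟨m, hm⟩ := IsCofiltered.inf_objs_exists (Finset.univ.image n)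
  let φ : ∀ l, m ⟶ n l := fun l ↦ (hm (Finset.mem_image_of_mem n (Finset.mem_univ l))).some
  have := hD m.left
  have hgm := hg.baseChange (D.map m.hom)
  let gm := fun l ↦ pullback.snd (g l) (D.map m.hom)
  obtain ⟨tm, htm₀⟩ : ∃ tm : ∀ l, F.obj (op (pullback (g l) (D.map m.hom))),
      ∀ l, tm l = rs F ((bcD D (g l)).map (φ l)) (t l) := ⟨_, fun _ ↦ rfl⟩
  have htm : ∀ l, rs F (pullback.fst (gm l) (pr c m.left)) (tm l) =
      rs F (pullback.snd (gm l) (pr c m.left)) x := by
    intro l
    let e : pullback (gm l) (pr c m.left) ⟶ pullback (g l) (pr c i) :=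
      pullback.lift (pullback.fst _ _ ≫ pullback.fst (g l) (D.map m.hom)) (pullback.snd _ _) (by
        rw [Category.assoc, pullback.condition, pullback.condition_assoc, pr_w])
    have he : pullback.fst (gm l) (pr c m.left) = e ≫ pr (bcC D (g l) c) m := by
      apply pullback.hom_ext
      · rw [Category.assoc, pr_bcC_fst, pullback.lift_fst]
      · rw [Category.assoc, pr_bcC_snd, pullback.lift_snd_assoc, pullback.condition]
    rw [htm₀, rs_rs, he, Category.assoc, pr_w, ← rs_rs, ht, rs_rs, pullback.lift_snd]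
  have hov : ∀ j l, ∃ k : Over m.left,
      rs F (pullback.fst (pullback.fst (gm j) (gm l) ≫ gm j) (D.map k.hom) ≫
          pullback.fst (gm j) (gm l)) (tm j) =
        rs F (pullback.fst (pullback.fst (gm j) (gm l) ≫ gm j) (D.map k.hom) ≫
          pullback.snd (gm j) (gm l)) (tm l) := by
    intro j l
    have := hgm.2.1 j; have := hgm.2.1 l
    have := isAffine_pullback (gm j) (gm l)
    let h := pullback.fst (gm j) (gm l) ≫ gm j
    obtain ⟨hl⟩ := nonempty_isLimit_bcC h hc
    let o : Over m.left := Over.mk (𝟙 m.left)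
    obtain ⟨k, w, hk⟩ := inj hl (fun _ ↦ isAffine_bcD h hD _) (isAffine_bcC h hD hT) o
      (rs F (pullback.fst h (D.map (𝟙 m.left)) ≫ pullback.fst (gm j) (gm l)) (tm j))
      (rs F (pullback.fst h (D.map (𝟙 m.left)) ≫ pullback.snd (gm j) (gm l)) (tm l))
      (by
        rw [rs_rs, rs_rs, ← Category.assoc, ← Category.assoc]
        let a₁ : (bcC D h c).pt ⟶ pullback (gm j) (pr c m.left) :=
          pullback.lift (pullback.fst h (pr c m.left) ≫ pullback.fst (gm j) (gm l))
            (pullback.snd _ _) (by rw [Category.assoc]; exact pullback.condition)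
        let a₂ : (bcC D h c).pt ⟶ pullback (gm l) (pr c m.left) :=
          pullback.lift (pullback.fst h (pr c m.left) ≫ pullback.snd (gm j) (gm l))
            (pullback.snd _ _) (by
              rw [Category.assoc, ← pullback.condition (f := gm j)]; exact pullback.condition)
        have e₁ : (pr (bcC D h c) o ≫ pullback.fst h (D.map (𝟙 m.left))) ≫
            pullback.fst (gm j) (gm l) = a₁ ≫ pullback.fst (gm j) (pr c m.left) := by
          rw [pullback.lift_fst]
          exact congrArg (· ≫ _) (pr_bcC_fst D h c o)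
        have e₂ : (pr (bcC D h c) o ≫ pullback.fst h (D.map (𝟙 m.left))) ≫
            pullback.snd (gm j) (gm l) = a₂ ≫ pullback.fst (gm l) (pr c m.left) := by
          rw [pullback.lift_fst]
          exact congrArg (· ≫ _) (pr_bcC_fst D h c o)
        rw [e₁, e₂, ← rs_rs, ← rs_rs, htm, htm, rs_rs, rs_rs, pullback.lift_snd,
          pullback.lift_snd])
    refine ⟨k, ?_⟩
    simp only [rs_rs] at hk
    have e := bcD_fst D h w
    dsimp only [Over.mk_hom, o] at e
    rwa [← Category.assoc, ← Category.assoc, e] at hk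
  choose k hk using hov
  obtain ⟨p, hp⟩ := IsCofiltered.inf_objs_exists
    ((Finset.univ : Finset (κ × κ)).image fun q ↦ k q.1 q.2)
  have := hD p.left
  have hgp := hgm.baseChange (D.map p.hom)
  obtain ⟨t', ht'⟩ := hgp.glue hF
    (fun j ↦ rs F (pullback.fst (gm j) (D.map p.hom)) (tm j)) fun j l ↦ by
      let h := pullback.fst (gm j) (gm l) ≫ gm j
      let ψ : p ⟶ k j l := (hp (Finset.mem_image_of_mem (fun q : κ × κ ↦ k q.1 q.2)
        (Finset.mem_univ (j, l)))).some
      let a₁ := pullback.fst (pullback.snd (gm j) (D.map p.hom)) (pullback.snd (gm l) (D.map p.hom))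
      let a₂ := pullback.snd (pullback.snd (gm j) (D.map p.hom)) (pullback.snd (gm l) (D.map p.hom))
      have hw : (a₁ ≫ pullback.fst (gm j) (D.map p.hom)) ≫ gm j =
          (a₂ ≫ pullback.fst (gm l) (D.map p.hom)) ≫ gm l := by
        rw [Category.assoc, Category.assoc, pullback.condition, pullback.condition,
          ← Category.assoc, ← Category.assoc, pullback.condition]
      let r : _ ⟶ pullback h (D.map p.hom) :=
        pullback.lift (pullback.lift _ _ hw) (a₁ ≫ pullback.snd (gm j) (D.map p.hom)) (by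
          change _ ≫ pullback.fst (gm j) (gm l) ≫ gm j = _
          rw [pullback.lift_fst_assoc, Category.assoc, pullback.condition, Category.assoc])
      have := congrArg (rs F (r ≫ (bcD D h).map ψ)) (hk j l)
      simp only [rs_rs] at this ⊢
      rw [Category.assoc, ← Category.assoc ((bcD D h).map ψ), bcD_fst, Category.assoc,
        ← Category.assoc r, pullback.lift_fst, pullback.lift_fst,
        ← Category.assoc ((bcD D h).map ψ), bcD_fst,
        ← Category.assoc r, pullback.lift_fst, pullback.lift_snd] at this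
      exact this
  refine ⟨op p.left, t', ((hgm.baseChange (pr c m.left)).ext hF fun j ↦ ?_).symm⟩
  rw [← htm]
  change rs F _ (rs F (pr c p.left) t') = _
  rw [rs_rs]
  let r : pullback (gm j) (pr c m.left) ⟶ pullback (gm j) (D.map p.hom) :=
    pullback.lift (pullback.fst _ _) (pullback.snd _ _ ≫ pr c p.left)
      (by rw [Category.assoc, pr_w, pullback.condition])
  rw [show pullback.snd (gm j) (pr c m.left) ≫ pr c p.left =
      r ≫ pullback.snd (gm j) (D.map p.hom) from (pullback.lift_snd _ _ _).symm,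
    ← rs_rs, ht', rs_rs, pullback.lift_fst]

end Groth.Agent.S10030
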