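import Groth.Statements.S10035
import Groth.Agent.H8.ClosedLim.Main
import Groth.Agent.H8.ClosedLim.Index
import Groth.Agent.Lib.AlgSpDecent.MinimalNonScheme

set_option autoImplicit false
set_option backward.isDefEq.respectTransparency false
universe u
open CategoryTheory CategoryTheory.Limits AlgebraicGeometry
open AlgSp Groth.Agent.Lib.EtMod Groth.Agent.Lib.EtMod.SubFam Groth.Agent.H8.ClosedLim.Ideal
open Groth.Agent.H8.ClosedLim

namespace Groth.Agent.S10035

/-- Let `Y` be an algebraic space, quasi-compact and quasi-separated over the scheme `S`, and `f : X ⟶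
Y` a closed immersion from another algebraic space. Then `X` is the limit of a directed system of
closed subspaces `X_i ⟶ Y` of finite presentation whose transition maps are closed immersions (limit
in fppf sheaves, indexed by a nonempty directed preorder, compatible with `f`). (The published
statement allows any base scheme and uses absolute quasi-separatedness; this row assumes the base
quasi-separated, over which quasi-separatedness relative to the base is the absolute notion.) -/
theorem result (S : Scheme.{u}) [QuasiSeparatedSpace S]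
    {X Y : AlgSp.Space S} (f : X ⟶ Y) (hf : AlgSp.RepWith @IsClosedImmersion f.hom) (hYqc : AlgSp.IsQuasiCompactSp Y.obj) (hYqs : AlgSp.IsQuasiSeparatedSp Y.obj) :
    ∃ (I : Type u) (_ : Preorder I) (_ : IsDirected I (fun a b => a ≤ b)) (_ : Nonempty I) (D : Iᵒᵖ ⥤ AlgSp.Sp S)
      (t : D ⟶ (Functor.const Iᵒᵖ).obj Y.obj) (c : Cone D) (_ : IsLimit c) (e : c.pt ≅ X.obj),
      (∀ i, AlgSp.IsAlgSpace (D.obj i)) ∧ (∀ (i j : Iᵒᵖ) (φ : i ⟶ j), AlgSp.RepWith @IsClosedImmersion (D.map φ)) ∧
      (∀ i, AlgSp.RepWith @IsClosedImmersion (t.app i) ∧ AlgSp.IsFinitePresentationMor (t.app i)) ∧ (∀ i, e.inv ≫ c.π.app i ≫ t.app i = f.hom) := by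
  have hJ : (AlgSp.idealOfRep hf.1).IsQCoh :=
    Groth.Agent.Lib.AlgSpDecent.MinimalNonScheme.isQCoh_idealOfRep hf
  haveI := Groth.Agent.Lib.AlgSpMor.QC.compactSpace_points hYqc
  obtain ⟨U, p, hU, hp, hps⟩ := Groth.Agent.Lib.AlgSpMor.QC.exists_affine_atlas Y.property
  obtain ⟨I, i1, i2, i3, N, hmono, hsup⟩ :=
    Index.exists_index hYqc hYqs hJ (EtOver.mk p hp) hU
      (Groth.Agent.Lib.AlgSpDecent.Core.surjective_ofPt hps)
  choose Z z hz using fun a : I => Groth.Agent.S9988.result Y (toIdeal (N a)) (isQCoh_toIdeal _)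
  obtain ⟨D, t, c, hc, e, ht, hD, he⟩ := Main.exists_limit f hf I (fun a => toIdeal (N a)) hmono
    (fun a => toIdeal_le _) hsup Z z hz
  have halg : ∀ i, IsAlgSpace (D.obj i) := fun i => by
    obtain ⟨h, -⟩ := ht i
    rw [h]
    exact (Z i.unop).property
  have hmain : ∀ i, RepWith @IsClosedImmersion (t.app i) ∧ IsFinitePresentationMor (t.app i) := fun i => by
    obtain ⟨h, hti⟩ := ht i
    have hci : RepWith @IsClosedImmersion (t.app i) := by
      rw [hti]
      exact (Groth.Agent.Lib.AlgSpace.repWith_iso_comp_iff _ _ _).2 (hz i.unop).1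
    refine ⟨hci, ?_⟩
    rw [hti]
    exact Index.fp_of_eq h _ (Fp.isFinitePresentationMor (E := EtOver.mk p hp) (hE := hU)
      (Z i.unop).property Y.property (hz i.unop).1 hps (by rw [(hz i.unop).2]; exact fg_toIdeal _ hU))
  exact ⟨I, i1, i2, i3, D, t, c, hc, e, halg, hD, hmain, he⟩

end Groth.Agent.S10035
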