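import Groth.Statements.S10047
import Groth.Agent.S10594
import Groth.Agent.Lib.AlgSpThick.Cart
import Groth.Agent.Lib.AlgSpace.OpenSubExists

set_option autoImplicit false
universe u
open CategoryTheory CategoryTheory.Limits AlgebraicGeometry
open AlgSp

namespace Groth.Agent.S10047

/-- A surjective closed immersion locally of finite presentation is cut out by nilpotent ideals. -/
lemma isNilpotent_ker_app {X Y : Scheme.{u}} (i : X ⟶ Y) [IsClosedImmersion i] [Surjective i]
    [LocallyOfFinitePresentation i] (U : Y.Opens) (hU : IsAffineOpen U) :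
    IsNilpotent (RingHom.ker (i.app U).hom) := by
  refine (Ideal.FG.isNilpotent_iff_le_nilradical ?_).2
    (Groth.Agent.H54.ThickLocal.le_nilradical_of_surjective i hU)
  have h := i.finitePresentation_appLE hU (hU.preimage i) le_rfl
  rw [← Scheme.Hom.app_eq_appLE] at h
  algebraize [(i.app U).hom]
  exact Algebra.FinitePresentation.ker_fG_of_surjective (R := Γ(Y, U)) (Algebra.ofId Γ(Y, U) Γ(X, i ⁻¹ᵁ U))
    (i.app_surjective U hU)

/-- Let `f : X ⟶ B` and `g : B' ⟶ B` be morphisms of algebraic spaces over `S` with `g` a closed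
immersion inducing a bijection on points, and suppose the base change `X ×_B B' ⟶ B'` is a closed
immersion. If `f` is of finite type or `g` is of finite presentation, then `f` is a closed
immersion. -/
theorem result (S : Scheme.{u}) {X B B' : AlgSp.Space S}
    (f : X ⟶ B) (g : B' ⟶ B) (hg : AlgSp.RepWith @IsClosedImmersion g.hom)
    (hbij : Function.Bijective (AlgSp.Points.map g.hom))
    (X' : AlgSp.Sp S) (fst : X' ⟶ X.obj) (snd : X' ⟶ B'.obj) (hX' : IsPullback fst snd f.hom g.hom)
    (hsnd : AlgSp.RepWith @IsClosedImmersion snd)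
    (hor : AlgSp.IsFiniteTypeMor f.hom ∨ AlgSp.IsFinitePresentationMor g.hom) :
    AlgSp.RepWith @IsClosedImmersion f.hom := by
  have hX := X.property
  have hB := B.property
  have hB' := B'.property
  have hg' : AlgSp.IsThickMor g.hom := by
    have hs := Groth.Agent.Lib.AlgSpace.repWith_surjective_of_points hg.1 hbij.2
    exact ⟨hg.1, fun U V ξ a b sq => ⟨hg.2 ξ a b sq, hs.2 ξ a b sq⟩⟩
  have hfst : AlgSp.IsThickMor fst := Groth.Agent.Lib.AlgSpace.repWith_baseChange hX'.flip hg'
  have hX'alg : AlgSp.IsAlgSpace X' :=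
    Groth.Agent.Lib.AlgSpace.isAlgSpace_of_isPullback hX' hB.diag hX hB'
  have hlsnd : AlgSp.LocP @LocallyOfFiniteType snd :=
    Groth.Agent.Lib.AlgSpMor.LocP.locP_of_repWith
      Groth.Agent.Lib.SourceDescent.Scheme.locallyOfFiniteType
      (Groth.Agent.Lib.AlgSpace.repWith_mono hsnd fun _ _ j (_ : IsClosedImmersion j) => inferInstance)
  have hlf : AlgSp.LocP @LocallyOfFiniteType f.hom := by
    rcases hor with h | h
    · exact h.1
    · refine Groth.Agent.Lib.AlgSpThick.Cart.locP_of_cart hX' hg' hlsnd ?_
      intro U U' V V' iU jV hh hh' a a' b' ha' hb' w' sqa sq hcl hs hft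
      have hlg : AlgSp.RepWith @LocallyOfFinitePresentation g.hom :=
        Groth.Agent.Lib.AlgSpMor.LocP.repWith_of_locP
          Groth.Agent.Lib.SourceDescent.Scheme.locallyOfFinitePresentation hB hg.1 h.1
      have hlfst : AlgSp.RepWith @LocallyOfFinitePresentation fst :=
        Groth.Agent.Lib.AlgSpace.repWith_baseChange hX'.flip hlg
      have : LocallyOfFinitePresentation iU.left := hlfst.2 a' _ _ sqa
      have : IsClosedImmersion iU.left := MorphismProperty.of_isPullback sq.flip hcl
      have : Surjective iU.left := MorphismProperty.of_isPullback sq.flip hs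
      exact Groth.Agent.Lib.AlgSpThick.Cart.locallyOfFiniteType sq (isNilpotent_ker_app iU.left) hft
  exact (S10594.result (X := ⟨X', hX'alg⟩) (X' := X) (Y := B') (Y' := B) ⟨fst⟩ g ⟨snd⟩ f hfst hg'
    (InducedCategory.Hom.ext hX'.w) hX' hlsnd hlf).2.1.1 hsnd

end Groth.Agent.S10047
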