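import Groth.Statements.S10051
import Groth.Agent.H8.LocalBaseRep.Main

set_option autoImplicit false
universe u
open CategoryTheory CategoryTheory.Limits AlgebraicGeometry
open AlgSp

namespace Groth.Agent.S10051

/-- Let `X` be an algebraic space whose structure morphism to the scheme `S` is quasi-compact and
quasi-separated. If for every `x ∈ |X|` with image `s ∈ S` the base change `X ×_S Spec(O_{S,s})` is
a scheme, then `X` is a scheme. -/
theorem result (S : Scheme.{u}) (X : AlgSp.Space S)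
    (q : X.obj ⟶ (AlgSp.yon S).obj (Over.mk (𝟙 S))) (hqc : AlgSp.IsQuasiCompactMor q) (hqs : AlgSp.IsQuasiSeparatedMor q)
    (h : ∀ x : AlgSp.Points X.obj, ∀ (P : AlgSp.Sp S) (fst : P ⟶ X.obj)
      (snd : P ⟶ (AlgSp.yon S).obj (Over.mk (S.fromSpecStalk ((AlgSp.Points.schemeHomeo (Over.mk (𝟙 S))).symm (AlgSp.Points.map q x))))),
      IsPullback fst snd q ((AlgSp.yon S).map (Over.homMk (S.fromSpecStalk _))) → P.obj.IsRepresentable) :
    X.obj.obj.IsRepresentable := by
  have hb : IsTerminal ((AlgSp.yon S).obj (Over.mk (𝟙 S))) :=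
    Over.mkIdTerminal.isTerminalObj (AlgSp.yon S)
  have hb' : AlgSp.IsQuasiSeparatedSp ((AlgSp.yon S).obj (Over.mk (𝟙 S))) := by
    haveI : IsIso (Limits.diag ((AlgSp.yon S).obj (Over.mk (𝟙 S)))) :=
      ⟨Limits.prod.fst, Limits.prod.lift_fst _ _, Limits.prod.hom_ext (hb.hom_ext _ _) (hb.hom_ext _ _)⟩
    exact Groth.Agent.Lib.AlgSpace.repWith_of_isIso _ _
  refine Groth.Agent.H8.LocalBaseRep.Main.isRepresentable X.property q hqc
    (Groth.Agent.Lib.AlgSpMor.Perm.repWith_diag_of_mor @QuasiCompact q hqs hb') fun x => ?_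
  exact h x _ Limits.prod.fst Limits.prod.snd (Groth.Agent.Lib.AlgSpace.isPullback_of_yon (hb.hom_ext _ _)
    (fun U a b h1 h2 => Limits.prod.hom_ext h1 h2)
    fun U a b _ => ⟨Limits.prod.lift a b, Limits.prod.lift_fst _ _, Limits.prod.lift_snd _ _⟩)

end Groth.Agent.S10051
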