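import Groth.Statements.S10052
import Groth.Agent.H8.FieldDescent.Main

set_option autoImplicit false
universe u
open CategoryTheory CategoryTheory.Limits AlgebraicGeometry
open AlgSp

namespace Groth.Agent.S10052

/-- Let `X` be an algebraic space over `Spec A` with quasi-compact and quasi-separated structure
morphism. If `X` is not a scheme, there is an ideal `I ⊂ A` such that `X_{A/I}` is not a scheme but
`X_{A/I'}` is a scheme for every ideal `I'` strictly containing `I`. -/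
theorem result (A : CommRingCat.{u}) (X : AlgSp.Space (Spec A))
    (q : X.obj ⟶ (AlgSp.yon (Spec A)).obj (Over.mk (𝟙 (Spec A))))
    (hqc : AlgSp.IsQuasiCompactMor q) (hqs : AlgSp.IsQuasiSeparatedMor q) (hX : ¬ X.obj.obj.IsRepresentable) :
    ∃ I : Ideal A,
      (∀ (P : AlgSp.Sp (Spec A)) (fst : P ⟶ X.obj)
        (snd : P ⟶ (AlgSp.yon (Spec A)).obj (Over.mk (Spec.map (CommRingCat.ofHom (Ideal.Quotient.mk I))))),
        IsPullback fst snd q ((AlgSp.yon (Spec A)).map (Over.homMk (Spec.map (CommRingCat.ofHom (Ideal.Quotient.mk I))))) →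
          ¬ P.obj.IsRepresentable) ∧
      ∀ I' : Ideal A, I < I' →
        ∀ (P : AlgSp.Sp (Spec A)) (fst : P ⟶ X.obj)
          (snd : P ⟶ (AlgSp.yon (Spec A)).obj (Over.mk (Spec.map (CommRingCat.ofHom (Ideal.Quotient.mk I'))))),
          IsPullback fst snd q ((AlgSp.yon (Spec A)).map (Over.homMk (Spec.map (CommRingCat.ofHom (Ideal.Quotient.mk I'))))) →
            P.obj.IsRepresentable := by
  have hb : IsTerminal ((AlgSp.yon (Spec A)).obj (Over.mk (𝟙 (Spec A)))) :=
    Over.mkIdTerminal.isTerminalObj (AlgSp.yon (Spec A))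
  haveI : IsAffine (Over.mk (𝟙 (Spec A))).left := inferInstanceAs (IsAffine (Spec A))
  haveI : CompactSpace ↥(Over.mk (𝟙 (Spec A))).left := inferInstanceAs (CompactSpace ↥(Spec A))
  haveI := Groth.Agent.Lib.AlgSpMor.QC.compactSpace_yon (T := Over.mk (𝟙 (Spec A)))
  haveI : CompactSpace (AlgSp.Points X.obj) := Groth.Agent.Lib.AlgSpMor.QC.compactSpace_of_isQuasiCompactMor hqc (g := 𝟙 _) (IsPullback.of_horiz_isIso (fst := 𝟙 X.obj) (snd := q) ⟨by simp⟩)
  have hXc := (Groth.Agent.Lib.AlgSpMor.QC.isQuasiCompactSp_iff X.property).2 inferInstance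
  have hb' : AlgSp.IsQuasiSeparatedSp ((AlgSp.yon (Spec A)).obj (Over.mk (𝟙 (Spec A)))) := by
    haveI : Mono (Limits.diag ((AlgSp.yon (Spec A)).obj (Over.mk (𝟙 (Spec A))))) := inferInstance
    haveI : IsIso (Limits.diag ((AlgSp.yon (Spec A)).obj (Over.mk (𝟙 (Spec A))))) :=
      ⟨Limits.prod.fst, Limits.prod.lift_fst _ _, Limits.prod.hom_ext (hb.hom_ext _ _) (hb.hom_ext _ _)⟩
    exact Groth.Agent.Lib.AlgSpace.repWith_of_isIso _ _
  have hXs : AlgSp.IsQuasiSeparatedSp X.obj :=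
    Groth.Agent.Lib.AlgSpMor.Perm.repWith_diag_of_mor @QuasiCompact q hqs hb'
  obtain ⟨I, hI, hI'⟩ := Groth.Agent.H8.FieldDescent.Main.exists_maximal_ideal X.property hXc hXs hX
  have key : ∀ (J : Ideal A) (P : AlgSp.Sp (Spec A)) (fst : P ⟶ X.obj)
      (snd : P ⟶ (AlgSp.yon (Spec A)).obj (Over.mk (Spec.map (CommRingCat.ofHom (Ideal.Quotient.mk J))))),
      IsPullback fst snd q ((AlgSp.yon (Spec A)).map (Over.homMk (Spec.map (CommRingCat.ofHom (Ideal.Quotient.mk J))))) →
      Nonempty (P ≅ Groth.Agent.H8.FieldDescent.Stage.bc X.obj (CommRingCat.ofHom (Ideal.Quotient.mk J))) :=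
    fun J P fst snd sq => ⟨sq.isoIsPullback _ _ (Groth.Agent.Lib.AlgSpace.isPullback_of_yon
      (hb.hom_ext _ _) (fun U a b h1 h2 => Limits.prod.hom_ext h1 h2)
      fun U a b _ => ⟨Limits.prod.lift a b, Limits.prod.lift_fst _ _, Limits.prod.lift_snd _ _⟩)⟩
  refine ⟨I, fun P fst snd sq hP => ?_, fun I' h P fst snd sq => ?_⟩
  · obtain ⟨e⟩ := key I P fst snd sq
    exact hI (Groth.Agent.H8.FieldDescent.Main.isRepresentable_of_iso e hP)
  · obtain ⟨e⟩ := key I' P fst snd sq
    exact Groth.Agent.H8.FieldDescent.Main.isRepresentable_of_iso e.symm (hI' I' h)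

end Groth.Agent.S10052
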