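import Groth.Statements.S10054
import Groth.Agent.Lib.DvrCrit.Basic
import Groth.Agent.Lib.SchTopo.Closure
import Groth.Agent.Lib.AlgSpMor.QC
import Groth.Agent.Lib.AlgSpVal.ChartLift
import Groth.Agent.Lib.AlgSpDecent.Core
import Mathlib.RingTheory.PowerSeries.Inverse
-- import your own Groth.Agent.* helpers here

set_option autoImplicit false
universe u
open CategoryTheory CategoryTheory.Limits AlgebraicGeometry
open AlgSp

open Groth.Agent.Lib.AlgSpace Groth.Agent.Lib.AlgSpMor IsLocalRing

namespace Groth.Agent.S10054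

/-- A specialization out of the image of a finite type map is realized by a discrete valuation
ring together with a point over its generic point. -/
theorem exists_dvr_point {U V : Scheme.{u}} [IsLocallyNoetherian V] (g : U ⟶ V)
    [LocallyOfFiniteType g] (u : U) (v : V) (h : g u ⤳ v) :
    ∃ (A : Type u) (_ : CommRing A) (_ : IsDomain A) (_ : IsDiscreteValuationRing A)
      (φ : Spec (CommRingCat.of A) ⟶ V) (l : Spec (CommRingCat.of (FractionRing A)) ⟶ U),
      l ≫ g = Spec.map (CommRingCat.ofHom (algebraMap A (FractionRing A))) ≫ φ ∧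
        φ (closedPoint A) = v := by
  by_cases hne : g u = v
  · let θ : U.residueField u →+* PowerSeries (U.residueField u) := PowerSeries.C
    refine ⟨PowerSeries (U.residueField u), inferInstance, inferInstance, inferInstance,
      Spec.map (CommRingCat.ofHom θ) ≫ U.fromSpecResidueField u ≫ g,
      Spec.map (CommRingCat.ofHom ((algebraMap (PowerSeries (U.residueField u))
        (FractionRing (PowerSeries (U.residueField u)))).comp θ)) ≫ U.fromSpecResidueField u,
      ?_, ?_⟩
    · rw [CommRingCat.ofHom_comp, Spec.map_comp]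
      simp only [Category.assoc]
    · rw [Scheme.Hom.comp_apply, Lib.DvrCrit.fromSpecResidueField_point, hne]
  · obtain ⟨W, hW, φ, hφ, hgen⟩ := Lib.DvrCrit.exists_dvr_center g u v h hne
    let e : U.residueField u →+* FractionRing W :=
      (FractionRing.algEquiv W (U.residueField u)).symm.toAlgHom.toRingHom
    have he : e.comp W.subtype = algebraMap W (FractionRing W) :=
      RingHom.ext fun w => (FractionRing.algEquiv W (U.residueField u)).symm.commutes w
    refine ⟨W, inferInstance, inferInstance, hW, φ,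
      Spec.map (CommRingCat.ofHom e) ≫ U.fromSpecResidueField u, ?_, hφ⟩
    rw [← he, CommRingCat.ofHom_comp, Spec.map_comp, Category.assoc, Category.assoc]
    exact congrArg (Spec.map (CommRingCat.ofHom e) ≫ ·) hgen.symm

/-- Let `f : X ⟶ Y` be a morphism of finite type of algebraic spaces over `S` with `Y` locally
Noetherian, and `y ∈ |Y|` a point lying in the closure of `f`'s image on points. Then one can find a
discrete valuation ring `A` with fraction field `K` and a commutative square `Spec K ⟶ X`, `Spec A ⟶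
Y` (over `f` and `Spec K ⟶ Spec A`) sending the closed point of `Spec A` to `y`. (The refinement
that the `K`-point may be taken at a codimension-0 point with `K` a residue field of an etale chart
is not included.) -/
theorem result (S : Scheme.{u}) {X Y : AlgSp.Space S} (f : X ⟶ Y)
    (hft : AlgSp.IsFiniteTypeMor f.hom) (hY : AlgSp.IsLocNoethSp Y.obj) (y : AlgSp.Points Y.obj)
    (hy : y ∈ closure (Set.range (AlgSp.Points.map f.hom))) :
    ∃ (A : Type u) (_ : CommRing A) (_ : IsDomain A) (_ : IsDiscreteValuationRing A)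
      (a : Spec (CommRingCat.of A) ⟶ S)
      (α : (AlgSp.yon S).obj (Over.mk a) ⟶ Y.obj)
      (κ : (AlgSp.yon S).obj (Over.mk (Spec.map (CommRingCat.ofHom (algebraMap A (FractionRing A))) ≫ a)) ⟶ X.obj),
      κ ≫ f.hom = (AlgSp.yon S).map (Over.homMk (Spec.map (CommRingCat.ofHom (algebraMap A (FractionRing A))))) ≫ α ∧
      AlgSp.Points.map α (AlgSp.Points.schemeEquiv (Over.mk a) (IsLocalRing.closedPoint A)) = y := by
  obtain ⟨hlft, hqc⟩ := hft
  obtain ⟨V₀, p₀, hp₀, hp₀s, hV₀⟩ := hY
  haveI : IsLocallyNoetherian V₀.left := hV₀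
  obtain ⟨v₀, hv₀⟩ := Lib.AlgSpDecent.Core.surjective_ofPt hp₀s y
  obtain ⟨O, hO, hv₀O, -⟩ := exists_isAffineOpen_mem_and_subset (x := v₀) (U := ⊤) trivial
  let V : Over S := Over.mk (O.ι ≫ V₀.hom)
  let ι : V ⟶ V₀ := Over.homMk O.ι rfl
  haveI : IsAffine V.left := hO
  haveI : IsLocallyNoetherian V.left := isLocallyNoetherian_of_isOpenImmersion O.ι
  let q := (yon S).map ι ≫ p₀
  have hq : RepWith @Etale q :=
    repWith_yon_map_comp (P := @Etale) (inferInstanceAs (Etale O.ι)) hp₀
  let v : V.left := ⟨v₀, hv₀O⟩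
  have hv : Points.ofPt q v = y := by
    rw [← hv₀]
    exact ofPt_yon_map_comp ι p₀ v
  have sqP := IsPullback.of_hasPullback f.hom q
  have hP : IsAlgSpace (pullback f.hom q) :=
    isAlgSpace_of_isPullback sqP Y.property.diag X.property (IsAlgSpace.yon_obj _)
  haveI : CompactSpace (Points (pullback f.hom q)) := QC.compactSpace_of_isQuasiCompactMor hqc sqP
  obtain ⟨U, r, hU, hr, hrs⟩ := QC.exists_affine_atlas hP
  obtain ⟨m, hm⟩ := (yon S).map_surjective (r ≫ pullback.snd f.hom q)
  have hcomp : (r ≫ pullback.fst f.hom q) ≫ f.hom = (yon S).map m ≫ q := by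
    rw [hm, Category.assoc, Category.assoc, sqP.w]
  haveI : LocallyOfFiniteType m.left :=
    hlft (r ≫ pullback.fst f.hom q) q m (repWith_comp hr (repWith_baseChange sqP.flip hq)) hq hcomp
  have hcl : v ∈ closure (Set.range m.left) := by
    have h1 : v ∈ Points.ofPt q ⁻¹' closure (Set.range (Points.map f.hom)) :=
      Set.mem_preimage.2 (hv.symm ▸ hy)
    rw [Lib.AlgSpDecent.Core.preimage_closure hq] at h1
    refine closure_mono ?_ h1
    rintro w ⟨x, hx⟩
    obtain ⟨z, hz₁, hz₂⟩ := Lib.AlgSpDecent.Core.exists_point_of_isPullback sqP x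
      (Points.ofScheme V w) (hx.trans (Lib.AlgSpDecent.Core.map_ofScheme q w).symm)
    obtain ⟨w', rfl⟩ := Lib.AlgSpDecent.Core.surjective_ofPt hrs z
    refine ⟨w', (Points.schemeEquiv V).injective ?_⟩
    show Points.ofScheme V (m.left w') = Points.ofScheme V w
    rw [← hz₂, ← Lib.AlgSpDecent.Core.map_ofScheme r w', ← Points.map_comp, ← hm,
      Lib.AlgSpDecent.Core.map_ofScheme, Lib.AlgSpDecent.Core.ofPt_yon_map]
  haveI : QuasiCompact m.left := inferInstance
  obtain ⟨u, hu⟩ := Lib.SchTopo.Closure.exists_specializes_of_mem_closure_range m.left hcl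
  obtain ⟨A, hA₁, hA₂, hA₃, φ, l, hl, hφ⟩ := exists_dvr_point m.left u v hu
  refine ⟨A, hA₁, hA₂, hA₃, φ ≫ V.hom,
    (yon S).map (Over.homMk φ : Over.mk (φ ≫ V.hom) ⟶ V) ≫ q,
    (yon S).map (Over.homMk l (by
      change l ≫ U.hom = Spec.map _ ≫ φ ≫ V.hom
      rw [← Category.assoc, ← hl, Category.assoc, Over.w m]) :
        Over.mk (Spec.map (CommRingCat.ofHom (algebraMap A (FractionRing A))) ≫ φ ≫ V.hom) ⟶ U) ≫
      r ≫ pullback.fst f.hom q, ?_, ?_⟩
  · simp only [Category.assoc] at hcomp ⊢
    erw [hcomp]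
    refine ((Category.assoc _ _ q).symm.trans ?_).trans (Category.assoc _ _ q)
    refine congrArg (· ≫ q) ?_
    refine ((yon S).map_comp _ _).symm.trans (Eq.trans ?_ ((yon S).map_comp _ _))
    refine congrArg (yon S).map ?_
    exact Over.OverMorphism.ext hl
  · show Points.map _ (Points.ofScheme _ _) = _
    rw [Lib.AlgSpDecent.Core.map_ofScheme, ofPt_yon_map_comp]
    exact (congrArg (Points.ofPt q) hφ).trans hv

end Groth.Agent.S10054
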