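import Groth.Statements.S10065
import Groth.Agent.Lib.AlgSpVal.DvrMain
import Groth.Agent.S10285
import Groth.Agent.S10289

set_option autoImplicit false
universe u
open CategoryTheory CategoryTheory.Limits AlgebraicGeometry
open AlgSp

namespace Groth.Agent.S10065

/-- Let `f : X ⟶ Y` be quasi-separated and of finite type with `Y` locally Noetherian. Then `f` is
proper if and only if every valuative test square for `f` whose valuation ring is a discrete
valuation ring admits exactly one dotted arrow (a lift `Spec A ⟶ X`, with no extension of `A`). (The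
published statement also lists as equivalent conditions the valuative criterion and the same
unique-lift condition over arbitrary valuation rings, and a refinement to squares hitting a
codimension-0 point; this row states only the discrete valuation ring form.) -/
theorem result (S : Scheme.{u}) {X Y : AlgSp.Space S} (f : X ⟶ Y)
    (hqs : AlgSp.IsQuasiSeparatedMor f.hom) (hft : AlgSp.IsFiniteTypeMor f.hom) (hY : AlgSp.IsLocNoethSp Y.obj) :
    AlgSp.IsProperMor f.hom ↔ ∀ sq : AlgSp.ValSq f.hom, IsDiscreteValuationRing sq.A → sq.HasLift ∧ sq.HasUniq := by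
  refine ⟨fun hp sq _ => ⟨?_, Groth.Agent.H9.Val.uniqVC_of_diag hp.1 sq⟩, fun H => ?_⟩
  · exact (Groth.Agent.S10285.result f hp.1).1 (Groth.Agent.S10289.result f hqs hp.2.2) sq
  · have hs : AlgSp.IsSeparatedMor f.hom := Groth.Agent.Lib.AlgSpVal.isSeparatedMor_of_dvr (𝟙 X) f
      hY hft.1 hqs (Groth.Agent.Lib.AlgSpVal.isFiniteTypeMor_id X)
      (Groth.Agent.Lib.AlgSpVal.denseRange_map_id X) fun sq hsq _ => (H sq hsq).2
    exact ⟨hs, hft, Groth.Agent.Lib.AlgSpVal.isUnivClosedMor_of_dvr (𝟙 X) f hY hft hs
      (Groth.Agent.Lib.AlgSpVal.isFiniteTypeMor_id X) (Groth.Agent.Lib.AlgSpVal.denseRange_map_id X)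
      fun sq hsq _ => Groth.Agent.Lib.AlgSpVal.hasLiftExt_of_hasLift sq (H sq hsq).1⟩

end Groth.Agent.S10065
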