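import Groth.Statements.S10069
import Groth.Agent.Lib.AlgSpVal.DvrMain

set_option autoImplicit false
universe u
open CategoryTheory CategoryTheory.Limits AlgebraicGeometry
open AlgSp

namespace Groth.Agent.S10069

/-- Let `h : U ⟶ X`, `f : X ⟶ Y` be morphisms of algebraic spaces over `S` with `Y` locally Noetherian,
`f` separated and of finite type, `h` of finite type and `|h|` with dense image. If every valuative
test square for `h ≫ f` over a discrete valuation ring admits a dotted arrow `Spec A ⟶ X`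
(compatible with `Spec K ⟶ U ⟶ X` and with `Spec A ⟶ Y`), then `f` is proper. -/
theorem result (S : Scheme.{u}) {U X Y : AlgSp.Space S} (h : U ⟶ X) (f : X ⟶ Y) (hY : AlgSp.IsLocNoethSp Y.obj)
    (hfs : AlgSp.IsSeparatedMor f.hom) (hft : AlgSp.IsFiniteTypeMor f.hom) (hh : AlgSp.IsFiniteTypeMor h.hom) (hdense : Dense (Set.range (AlgSp.Points.map h.hom)))
    (hval : ∀ sq : AlgSp.ValSq (h.hom ≫ f.hom), IsDiscreteValuationRing sq.A →
      ∃ l : (AlgSp.yon S).obj sq.ptA ⟶ X.obj, (AlgSp.yon S).map sq.j ≫ l = sq.top ≫ h.hom ∧ l ≫ f.hom = sq.bot) :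
    AlgSp.IsProperMor f.hom := by
  refine ⟨hfs, hft, Groth.Agent.Lib.AlgSpVal.isUnivClosedMor_of_dvr h f hY hft hfs hh hdense ?_⟩
  intro sq hsq ⟨t, ht⟩
  refine Groth.Agent.Lib.AlgSpVal.hasLiftExt_of_hasLift sq ?_
  let sqU : AlgSp.ValSq (h.hom ≫ f.hom) :=
    { A := sq.A, K := sq.K, str := sq.str, top := t, bot := sq.bot
      comm := by rw [← Category.assoc, ht]; exact sq.comm }
  obtain ⟨l, h₁, h₂⟩ := hval sqU hsq
  exact ⟨l, h₁.trans ht, h₂⟩

end Groth.Agent.S10069
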