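import Groth.Statements.S1007
import Groth.Agent.Lib.WayOut.Scheme

set_option autoImplicit false
set_option linter.style.haveILetI false
universe u
open CategoryTheory CategoryTheory.Limits AlgebraicGeometry
attribute [local instance] HasDerivedCategory.standard
open Perf

namespace Groth.Agent.S1007

/-- Let X be a scheme and E an object of D(O_X) with quasi-coherent cohomology sheaves. Then the
canonical map from E to the derived limit of its truncations τ_{≥ -n}E is an isomorphism; concretely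
(granted the countable product of the truncations exists in D(O_X), which holds): the map E ⟶ ∏
τ_{≥-n}E with components the truncation morphisms, followed by 'identity minus transition', extends
to a distinguished triangle E ⟶ ∏ τ_{≥-n}E ⟶ ∏ τ_{≥-n}E ⟶ E[1]. -/
theorem result (X : Scheme.{u}) (E : DCoh.D X) (hE : DCoh.IsQCohD E)
    [HasProduct (fun n : ℕ => ((DerivedCategory.TStructure.t : CategoryTheory.Triangulated.TStructure (DCoh.D X)).truncGE (-(n : ℤ))).obj E)] :
    ∃ c : (∏ᶜ fun n : ℕ => ((DerivedCategory.TStructure.t : CategoryTheory.Triangulated.TStructure (DCoh.D X)).truncGE (-(n : ℤ))).obj E) ⟶ E⟦(1 : ℤ)⟧,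
      CategoryTheory.Pretriangulated.Triangle.mk
        (Pi.lift fun n : ℕ => ((DerivedCategory.TStructure.t : CategoryTheory.Triangulated.TStructure (DCoh.D X)).truncGEπ (-(n : ℤ))).app E)
        (Pi.lift fun n : ℕ => Pi.π (fun n : ℕ => ((DerivedCategory.TStructure.t : CategoryTheory.Triangulated.TStructure (DCoh.D X)).truncGE (-(n : ℤ))).obj E) n -
          Pi.π (fun n : ℕ => ((DerivedCategory.TStructure.t : CategoryTheory.Triangulated.TStructure (DCoh.D X)).truncGE (-(n : ℤ))).obj E) (n + 1) ≫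
            ((DerivedCategory.TStructure.t : CategoryTheory.Triangulated.TStructure (DCoh.D X)).natTransTruncGEOfLE (-((n + 1 : ℕ) : ℤ)) (-(n : ℤ)) (Int.neg_le_neg (Int.ofNat_le.mpr (Nat.le_succ n)))).app E)
        c ∈ CategoryTheory.Pretriangulated.distinguishedTriangles := by
  open Groth.Agent.Lib Groth.Agent.Lib.WayOut Groth.Agent.Lib.WayOut.Holim Groth.Agent.Lib.WayOut.Bounded in
  let t : CategoryTheory.Triangulated.TStructure (DCoh.D X) := DerivedCategory.TStructure.t
  let d : ∏ᶜ Groth.Agent.Lib.WayOut.Holim.tau E ⟶ ∏ᶜ Groth.Agent.Lib.WayOut.Holim.tau E :=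
    Pi.lift fun m => Pi.π (Groth.Agent.Lib.WayOut.Holim.tau E) m -
      Pi.π (Groth.Agent.Lib.WayOut.Holim.tau E) (m + 1) ≫ Groth.Agent.Lib.WayOut.Holim.trans E m
  obtain ⟨J, g, δ, hT⟩ := Pretriangulated.distinguished_cocone_triangle₁ d
  obtain ⟨l, hl⟩ := Pretriangulated.Triangle.coyoneda_exact₂ _ hT
    (Pi.lift (Groth.Agent.Lib.WayOut.Holim.proj E)) (by
    change Pi.lift (Groth.Agent.Lib.WayOut.Holim.proj E) ≫ d = 0
    refine Pi.hom_ext _ _ fun m => ?_
    rw [zero_comp, Category.assoc, show d ≫ Pi.π (Groth.Agent.Lib.WayOut.Holim.tau E) m = _ from Pi.lift_π _ m]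
    rw [Preadditive.comp_sub, Pi.lift_π, Pi.lift_π_assoc, Groth.Agent.Lib.WayOut.Holim.proj_trans, sub_self])
  change E ⟶ J at l
  change Pi.lift (Groth.Agent.Lib.WayOut.Holim.proj E) = l ≫ g at hl
  have hl' : ∀ m, l ≫ g ≫ Pi.π (Groth.Agent.Lib.WayOut.Holim.tau E) m =
      Groth.Agent.Lib.WayOut.Holim.proj E m := fun m => by
    rw [← Category.assoc]
    exact (congrArg (fun φ => φ ≫ Pi.π (Groth.Agent.Lib.WayOut.Holim.tau E) m) hl.symm).trans (Pi.lift_π _ m)
  let h := Groth.Agent.Lib.WayOut.Scheme.detects X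
  have hli : IsIso l := by
    rw [DerivedCategory.isIso_iff]
    intro k
    let j : ℕ := (3 - k).toNat
    have h1 : IsIso ((DerivedCategory.homologyFunctor X.Modules k).map
        (g ≫ Pi.π (Groth.Agent.Lib.WayOut.Holim.tau E) j)) :=
      Groth.Agent.Lib.WayOut.Holim.isIso_homologyMap_of_detects h _ k fun i n hn _ => by
        rw [ConcreteCategory.isIso_iff_bijective]
        exact Groth.Agent.Lib.WayOut.Holim.bijective_RH_proj (h.Φ i) (h.van i) (Y := E) hE
          (c := Fan.mk _ (Pi.π (Groth.Agent.Lib.WayOut.Holim.tau E))) (productIsProduct _) hT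
          (fun m => Pi.lift_π _ m) j n (by omega)
    haveI := Groth.Agent.Lib.WayOut.Bounded.isIso_homologyMap_truncGEπ E (-(j : ℤ)) k (by omega)
    have h2 : IsIso ((DerivedCategory.homologyFunctor X.Modules k).map l ≫
        (DerivedCategory.homologyFunctor X.Modules k).map
          (g ≫ Pi.π (Groth.Agent.Lib.WayOut.Holim.tau E) j)) := by
      rw [← Functor.map_comp, hl']
      infer_instance
    exact @IsIso.of_isIso_comp_right _ _ _ _ _ _ _ h1 h2
  refine ⟨δ ≫ (@inv _ _ _ _ l hli)⟦(1 : ℤ)⟧', Pretriangulated.isomorphic_distinguished _ hT _ ?_⟩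
  refine Pretriangulated.Triangle.isoMk _ _ (@asIso _ _ _ _ l hli) (Iso.refl _) (Iso.refl _) ?_ ?_ ?_
  · exact (Category.comp_id _).trans hl
  · exact (Category.comp_id _).trans (Category.id_comp _).symm
  · change (δ ≫ (@inv _ _ _ _ l hli)⟦(1 : ℤ)⟧') ≫ l⟦(1 : ℤ)⟧' = 𝟙 _ ≫ δ
    rw [Category.assoc, ← Functor.map_comp, @IsIso.inv_hom_id _ _ _ _ l hli, CategoryTheory.Functor.map_id, Category.id_comp]
    exact Category.comp_id δ

end Groth.Agent.S1007
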