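import Groth.Statements.S10073
import Groth.Agent.H8.ImageLimit.Main

set_option autoImplicit false
set_option backward.isDefEq.respectTransparency false
set_option backward.isDefEq.respectTransparency.types false
universe u
open CategoryTheory CategoryTheory.Limits AlgebraicGeometry
open AlgSp

namespace Groth.Agent.S10073

/-- Let `B = lim B_i` be a cofiltered limit (in fppf sheaves over `S`) of Noetherian algebraic spaces
(quasi-compact and quasi-separated over `S`, locally Noetherian) whose transition maps are affine,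
`X ⟶ B` quasi-separated of finite type, and `X ⟶ W` over `B ⟶ B_i` with `W ⟶ B_i` of finite type and
`X ⟶ B ×_{B_i} W` a closed immersion. For `i'` over `i` write `X_{i'}` for the scheme-theoretic
image of `X` in `B_{i'} ×_{B_i} W`, with the induced transition maps. Then `X = lim_{i'} X_{i'}`:
the cone of maps `X ⟶ X_{i'}` is a limit cone. (The published statement allows any base scheme and
uses absolute quasi-separatedness; this row assumes the base quasi-separated, over which
quasi-separatedness relative to the base is the absolute notion.) -/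
theorem result (S : Scheme.{u}) [QuasiSeparatedSpace S] {I : Type u} [SmallCategory I] [IsCofiltered I]
    (D : I ⥤ AlgSp.Sp S) (hD : ∀ i, AlgSp.IsAlgSpace (D.obj i))
    (hDa : ∀ (i j : I) (φ : i ⟶ j), AlgSp.IsAffineMor (D.map φ))
    (hqc : ∀ i, AlgSp.IsQuasiCompactSp (D.obj i)) (hqs : ∀ i, AlgSp.IsQuasiSeparatedSp (D.obj i))
    (c : Cone D) (hc : IsLimit c)
    (hln : ∀ i, AlgSp.IsLocNoethSp (D.obj i))
    (X : AlgSp.Space S) (a : X.obj ⟶ c.pt) (hXqs : AlgSp.IsQuasiSeparatedMor a) (hXft : AlgSp.IsFiniteTypeMor a)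
    (i : I) (W : AlgSp.Space S) (w : W.obj ⟶ D.obj i) (hw : AlgSp.IsFiniteTypeMor w) (b : X.obj ⟶ W.obj)
    (hb : b ≫ w = a ≫ c.π.app i)
    (hci : ∀ (P : AlgSp.Sp S) (fst : P ⟶ c.pt) (snd : P ⟶ W.obj), IsPullback fst snd (c.π.app i) w →
      ∀ k : X.obj ⟶ P, k ≫ fst = a → k ≫ snd = b → AlgSp.RepWith @IsClosedImmersion k)
    (DP : Over i ⥤ AlgSp.Sp S) (π₁ : DP ⟶ Over.forget i ⋙ D) (π₂ : DP ⟶ (Functor.const (Over i)).obj W.obj)
    (hDP : ∀ i' : Over i, IsPullback (π₁.app i') (π₂.app i') (D.map i'.hom) w)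
    (DX : Over i ⥤ AlgSp.Sp S) (hDX : ∀ i', AlgSp.IsAlgSpace (DX.obj i')) (ε : DX ⟶ DP)
    (ξ : (Functor.const (Over i)).obj X.obj ⟶ DX)
    (hξ : ∀ i' : Over i, ξ.app i' ≫ ε.app i' ≫ π₁.app i' = a ≫ c.π.app i'.left ∧ ξ.app i' ≫ ε.app i' ≫ π₂.app i' = b)
    (himg : ∀ i' : Over i, AlgSp.IsSchImage (ξ.app i' ≫ ε.app i') (ε.app i')) :
    Nonempty (IsLimit (Cone.mk X.obj ξ)) := by
  let m : Over i := Over.mk (𝟙 i)
  let τ : ∀ j : Over i, j ⟶ m := fun j => Over.homMk j.hom (Category.comp_id _)
  let hcF : IsLimit (c.whisker (Over.forget i)) := (Functor.Initial.isLimitWhiskerEquiv (Over.forget i) c).symm hc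
  let Z : AlgSp.Sp S := pullback (c.π.app i) w
  have hπ₁ : ∀ {j k : Over i} (φ : j ⟶ k), DP.map φ ≫ π₁.app k = π₁.app j ≫ D.map φ.left :=
    fun φ => π₁.naturality φ
  have hπ₂ : ∀ {j k : Over i} (φ : j ⟶ k), DP.map φ ≫ π₂.app k = π₂.app j := fun φ =>
    (π₂.naturality φ).trans (Category.comp_id _)
  let cP : Cone DP :=
    { pt := Z
      π :=
        { app := fun j => (hDP j).lift (pullback.fst _ _ ≫ c.π.app j.left) (pullback.snd _ _)
            (by rw [Category.assoc, c.w]; exact pullback.condition)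
          naturality := fun j k φ => by
            refine (Category.id_comp _).trans ((hDP k).hom_ext ?_ ?_)
            · rw [(hDP k).lift_fst, Category.assoc, hπ₁, ← Category.assoc, (hDP j).lift_fst,
                Category.assoc, c.w]
            · rw [(hDP k).lift_snd, Category.assoc, hπ₂, (hDP j).lift_snd] } }
  have hs₂ : ∀ (s : Cone DP) (j : Over i), s.π.app j ≫ π₂.app j = s.π.app m ≫ π₂.app m := fun s j => by
    rw [← s.w (τ j), Category.assoc, hπ₂]
  let s₁ : Cone DP → Cone (Over.forget i ⋙ D) := fun s => (Cone.postcompose π₁).obj s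
  have hcPf₁ : ∀ (s : Cone DP) (j : Over i), hcF.lift (s₁ s) ≫ c.π.app j.left = s.π.app j ≫ π₁.app j :=
    fun s j => hcF.fac (s₁ s) j
  let hcP : IsLimit cP :=
    { lift := fun s => pullback.lift (hcF.lift (s₁ s)) (s.π.app m ≫ π₂.app m) (by
        rw [Category.assoc, ← (hDP m).w, ← Category.assoc, ← hcPf₁ s m]
        show hcF.lift (s₁ s) ≫ c.π.app i = (_ ≫ c.π.app i) ≫ D.map (𝟙 i)
        rw [CategoryTheory.Functor.map_id, Category.comp_id])
      fac := fun s j => (hDP j).hom_ext
        (by rw [Category.assoc, (hDP j).lift_fst, ← Category.assoc, pullback.lift_fst]; exact hcPf₁ s j)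
        (by rw [Category.assoc, (hDP j).lift_snd, pullback.lift_snd]; exact (hs₂ s j).symm)
      uniq := fun s l hl => pullback.hom_ext
        (by
          rw [pullback.lift_fst]
          refine hcF.uniq (s₁ s) _ fun j => ?_
          show (l ≫ pullback.fst (c.π.app i) w) ≫ c.π.app j.left = s.π.app j ≫ π₁.app j
          rw [← hl j, Category.assoc, Category.assoc, (hDP j).lift_fst])
        (by rw [pullback.lift_snd, ← hl m, Category.assoc, (hDP m).lift_snd]) }
  have hP : ∀ j, AlgSp.IsAlgSpace (DP.obj j) := fun j =>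
    Groth.Agent.Lib.AlgSpace.isAlgSpace_of_isPullback (hDP j) (hD i).diag (hD j.left) W.property
  have hPa : ∀ j k (φ : j ⟶ k), AlgSp.IsAffineMor (DP.map φ) := fun j k φ =>
    Groth.Agent.Lib.AlgSpMor.Perm.isAffineMor_baseChange
      (IsPullback.of_right (h₁₂ := π₂.app k) (v₁₃ := w) (h₂₂ := D.map k.hom)
        (by rw [hπ₂, ← D.map_comp, Over.w]; exact (hDP j).flip) (hπ₁ φ) (hDP k).flip).flip
      (hDa _ _ φ.left)
  have hqcP : AlgSp.IsQuasiCompactSp (DP.obj m) :=
    hw.2 (hD m.left) (hqc _) (D.map m.hom) _ _ (hDP m).flip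
  exact Groth.Agent.H8.ImageLimit.Main.nonempty_isLimit hP hPa m hqcP hcP X.property
    (pullback.lift a b hb.symm)
    (hci Z _ _ (IsPullback.of_hasPullback _ _) _ (pullback.lift_fst _ _ _) (pullback.lift_snd _ _ _))
    hDX ε ξ
    (fun j => (hDP j).hom_ext
      (by rw [Category.assoc, Category.assoc, (hDP j).lift_fst, ← Category.assoc (pullback.lift a b hb.symm), pullback.lift_fst]; exact (hξ j).1)
      (by rw [Category.assoc, Category.assoc, (hDP j).lift_snd, pullback.lift_snd]; exact (hξ j).2))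
    himg

end Groth.Agent.S10073
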