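import Groth.Statements.S10077
import Groth.Agent.S10031
import Groth.Agent.Lib.AlgSpLimit.SpaceLift
-- import your own Groth.Agent.* helpers here

set_option autoImplicit false
universe u
open CategoryTheory CategoryTheory.Limits AlgebraicGeometry
open AlgSp

open Groth.Agent.Lib.AlgSpace Groth.Agent.Lib.AlgSpMor Groth.Agent.Lib.AlgSpLimit Groth.Agent.Lib.AlgSpRelLP

namespace Groth.Agent.S10077

/-- A morphism `f : X ⟶ Y` of algebraic spaces over `S` is locally of finite presentation if and only if
for every directed limit `T = lim T_i` of algebraic spaces over `S`, each quasi-compact and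
quasi-separated over `S`, with affine transition maps, the square formed by `colim Mor(T_i, X) →
Mor(T, X)`, `colim Mor(T_i, Y) → Mor(T, Y)` and composition with `f` is cartesian in sets. (The
published statement allows any base scheme and uses absolute quasi-separatedness; this row assumes
the base quasi-separated, over which quasi-separatedness relative to the base is the absolute
notion.) -/
theorem result (S : Scheme.{u}) [QuasiSeparatedSpace S]
    {X Y : AlgSp.Space S} (f : X ⟶ Y) :
    AlgSp.LocP @LocallyOfFinitePresentation f.hom ↔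
      ∀ ⦃I : Type u⦄ [SmallCategory I] [IsCofiltered I] (D : I ⥤ AlgSp.Sp S),
        (∀ i, AlgSp.IsAlgSpace (D.obj i)) → (∀ (i j : I) (φ : i ⟶ j), AlgSp.IsAffineMor (D.map φ)) →
        (∀ i, AlgSp.IsQuasiCompactSp (D.obj i)) → (∀ i, AlgSp.IsQuasiSeparatedSp (D.obj i)) →
        ∀ (c : Cone D) (_ : IsLimit c),
          IsPullback (colimMap (Functor.whiskerLeft D.op (yoneda.map f.hom)))
            (colimit.desc (D.op ⋙ yoneda.obj X.obj) ((yoneda.obj X.obj).mapCocone c.op))
            (colimit.desc (D.op ⋙ yoneda.obj Y.obj) ((yoneda.obj Y.obj).mapCocone c.op))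
            ((yoneda.map f.hom).app (Opposite.op c.pt)) := by
  have h1 : ∀ {I : Type u} [SmallCategory I] (D : I ⥤ AlgSp.Sp S) (i : I) (x : D.obj i ⟶ X.obj),
      colimMap (Functor.whiskerLeft D.op (yoneda.map f.hom))
        (colimit.ι (D.op ⋙ yoneda.obj X.obj) (Opposite.op i) x) =
      colimit.ι (D.op ⋙ yoneda.obj Y.obj) (Opposite.op i) (x ≫ f.hom) :=
    fun D i x ↦ ConcreteCategory.congr_hom
      (ι_colimMap (Functor.whiskerLeft D.op (yoneda.map f.hom)) (Opposite.op i)) x
  have h2 : ∀ {I : Type u} [SmallCategory I] (D : I ⥤ AlgSp.Sp S) (c : Cone D) (Z : AlgSp.Sp S)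
      (i : I) (x : D.obj i ⟶ Z),
      colimit.desc (D.op ⋙ yoneda.obj Z) ((yoneda.obj Z).mapCocone c.op)
        (colimit.ι (D.op ⋙ yoneda.obj Z) (Opposite.op i) x) = c.π.app i ≫ x :=
    fun D c Z i x ↦ ConcreteCategory.congr_hom
      (colimit.ι_desc ((yoneda.obj Z).mapCocone c.op) (Opposite.op i)) x
  have hw : ∀ {I : Type u} [SmallCategory I] (D : I ⥤ AlgSp.Sp S) (Z : AlgSp.Sp S) {i j : I}
      (v : j ⟶ i) (x : D.obj i ⟶ Z),
      colimit.ι (D.op ⋙ yoneda.obj Z) (Opposite.op j) (D.map v ≫ x : D.obj j ⟶ Z) =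
        colimit.ι (D.op ⋙ yoneda.obj Z) (Opposite.op i) x :=
    fun D Z i j v x ↦ ConcreteCategory.congr_hom (colimit.w (D.op ⋙ yoneda.obj Z) v.op) x
  constructor
  · intro hf I _ _ D hD hDa hqc hqs c hc
    have hft : AlgSp.LocP @LocallyOfFiniteType f.hom := fun _ _ a' b' h' ha' hb' w' => by
      haveI : LocallyOfFinitePresentation h'.left := hf a' b' h' ha' hb' w'
      exact (inferInstance : LocallyOfFiniteType h'.left)
    rw [Types.isPullback_iff]
    refine ⟨?_, fun A B ⟨hAB, hAB'⟩ => ?_, fun A x hx => ?_⟩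
    · refine colimit.hom_ext fun i => ConcreteCategory.hom_ext _ _ fun x => ?_
      obtain ⟨i⟩ := i
      simp only [ConcreteCategory.comp_apply]
      rw [h1, h2, h2]
      exact (Category.assoc _ _ _).symm
    · obtain ⟨⟨i⟩, a, rfl⟩ := Types.jointly_surjective' A
      obtain ⟨⟨j⟩, b, rfl⟩ := Types.jointly_surjective' B
      rw [h1, h1] at hAB
      rw [h2, h2] at hAB'
      obtain ⟨⟨k⟩, v, w, hvw⟩ := (Types.FilteredColimit.colimit_eq_iff _).1 hAB
      replace hvw : D.map v.unop ≫ a ≫ f.hom = D.map w.unop ≫ b ≫ f.hom := hvw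
      obtain ⟨l, χ, hl⟩ := exists_space_eq_stage hD hDa hqc hc X.property Y.property hft
        (u := D.map v.unop ≫ a) (v := D.map w.unop ≫ b)
        (by rw [Category.assoc, Category.assoc]; exact hvw)
        (by rw [← Category.assoc, ← Category.assoc, c.w, c.w]; exact hAB')
      rw [← Category.assoc, ← Category.assoc, ← D.map_comp, ← D.map_comp] at hl
      rw [← hw D X.obj (χ ≫ v.unop) a, ← hw D X.obj (χ ≫ w.unop) b, hl]
    · obtain ⟨⟨i⟩, y, rfl⟩ := Types.jointly_surjective' A
      rw [h2] at hx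
      obtain ⟨j, v, x', hx₁, hx₂⟩ := exists_space_lift_stage hD hDa hqc hqs hc X.property
        Y.property hf x y hx.symm
      exact ⟨colimit.ι (D.op ⋙ yoneda.obj X.obj) (Opposite.op j) x', by rw [h1, hx₁, hw],
        by rw [h2, hx₂]⟩
  · intro h
    refine Groth.Agent.S10031.result S f fun I _ _ D c hc hA hT x i y hxy => ?_
    haveI : IsConnected I := IsCofiltered.isConnected I
    haveI := preservesLimit_yon D
    have hlim : IsLimit ((AlgSp.yon S).mapCone c) :=
      isLimitOfPreserves (AlgSp.yon S) (isLimitOfReflects (CategoryTheory.Over.forget S) hc)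
    have hp := h (D ⋙ AlgSp.yon S) (fun j => IsAlgSpace.yon_obj _)
      (fun j k φ Z hZ g => by
        haveI := hA j
        haveI := hA k
        haveI := hZ
        obtain ⟨g, rfl⟩ := (AlgSp.yon S).map_surjective g
        exact ⟨pullback (D.map φ) g, pullback.snd _ _, (AlgSp.yon S).map (pullback.fst _ _),
          isPullback_yon (IsPullback.of_hasPullback _ _), isAffine_pullback _ _⟩)
      (fun j => by
        haveI := hA j
        exact QC.isQuasiCompactSp_yon)
      (fun j => by
        haveI := hA j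
        show RepWith @QuasiCompact _
        erw [AlgSp.repWith_diag_yon_iff]
        haveI : QuasiSeparated (D.obj j).hom := inferInstance
        infer_instance)
      _ hlim
    rw [Types.isPullback_iff] at hp
    obtain ⟨A, hA₁, hA₂⟩ := hp.2.2 (colimit.ι ((D ⋙ AlgSp.yon S).op ⋙ yoneda.obj Y.obj)
      (Opposite.op i) y) x (by
        rw [h2]
        exact hxy.symm)
    obtain ⟨⟨j⟩, z, rfl⟩ := Types.jointly_surjective' A
    rw [h1] at hA₁
    rw [h2] at hA₂
    obtain ⟨⟨k⟩, v, w, hvw⟩ := (Types.FilteredColimit.colimit_eq_iff _).1 hA₁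
    replace hvw : (AlgSp.yon S).map (D.map v.unop) ≫ z ≫ f.hom =
      (AlgSp.yon S).map (D.map w.unop) ≫ y := hvw
    refine ⟨k, w.unop, (AlgSp.yon S).map (D.map v.unop) ≫ z, ?_, ?_⟩
    · rw [← Category.assoc, ← Functor.map_comp]
      erw [c.w v.unop]
      exact hA₂
    · rw [Category.assoc, hvw]

end Groth.Agent.S10077
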