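import Groth.Statements.S10082
import Groth.Agent.Lib.AlgSpLimit.Core
import Groth.Agent.H2.FlatDescend.Model
-- import your own Groth.Agent.* helpers here

set_option autoImplicit false
universe u
open CategoryTheory CategoryTheory.Limits AlgebraicGeometry
open AlgSp

open Groth.Agent.Lib.AlgSpace Groth.Agent.Lib.AlgSpMor Groth.Agent.Lib.AlgSpLimit Groth.Agent.Lib.SourceDescent

namespace Groth.Agent.S10082

/-- Let `S` be a quasi-separated scheme and `B` the limit, in fppf sheaves over `S`, of a cofiltered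
system `(B_i)` of algebraic spaces over `S` whose transition maps are affine; fix an index `i₀` such
that `B_{i₀}` is quasi-compact and quasi-separated over `S`, and a morphism `f₀ : X₀ ⟶ Y₀` of
algebraic spaces over `B_{i₀}` whose source and target are quasi-compact and quasi-separated over
`S`. Write `f_i` (for `i` mapping to `i₀`) and `f` for the base changes of `f₀` to `B_i` and to `B`,
given by pullback squares. If `f` is flat and `f₀` locally of finite presentation, then for some `i`
mapping to `i₀` every such base change `f_i` is flat. (The first assertion of the published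
statement, on a quasi-coherent module flat over the base, is not included: flatness of a module
relative to a morphism of algebraic spaces is not available here.) (The published statement allows
any base scheme and uses absolute quasi-separatedness; this row assumes the base quasi-separated,
over which quasi-separatedness relative to the base is the absolute notion.) -/
theorem result (S : Scheme.{u}) [QuasiSeparatedSpace S] {I : Type u} [SmallCategory I] [IsCofiltered I]
    (D : I ⥤ AlgSp.Sp S) (hD : ∀ i, AlgSp.IsAlgSpace (D.obj i))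
    (hDa : ∀ (i j : I) (φ : i ⟶ j), AlgSp.IsAffineMor (D.map φ))
    (c : Cone D) (hc : IsLimit c) (i₀ : I)
    (hBqc : AlgSp.IsQuasiCompactSp (D.obj i₀)) (hBqs : AlgSp.IsQuasiSeparatedSp (D.obj i₀))
    (X₀ Y₀ : AlgSp.Space S) (f₀ : X₀.obj ⟶ Y₀.obj) (b₀ : Y₀.obj ⟶ D.obj i₀)
    (hXqc : AlgSp.IsQuasiCompactSp X₀.obj) (hXqs : AlgSp.IsQuasiSeparatedSp X₀.obj)
    (hYqc : AlgSp.IsQuasiCompactSp Y₀.obj) (hYqs : AlgSp.IsQuasiSeparatedSp Y₀.obj)
    (X Y : AlgSp.Sp S) (f : X ⟶ Y) (pY : Y ⟶ Y₀.obj) (qY : Y ⟶ c.pt)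
    (hY : IsPullback pY qY b₀ (c.π.app i₀)) (pX : X ⟶ X₀.obj) (hX : IsPullback pX f f₀ pY)
    (hf : AlgSp.LocP @Flat f) (hf₀ : AlgSp.LocP @LocallyOfFinitePresentation f₀) :
    ∃ (i : I) (φ : i ⟶ i₀), ∀ (Xi Yi : AlgSp.Sp S) (fi : Xi ⟶ Yi) (pYi : Yi ⟶ Y₀.obj) (qYi : Yi ⟶ D.obj i)
      (_ : IsPullback pYi qYi b₀ (D.map φ)) (pXi : Xi ⟶ X₀.obj) (_ : IsPullback pXi fi f₀ pYi),
      AlgSp.LocP @Flat fi := by
  obtain ⟨i, φ, h⟩ := descend (spDescends_locP (Groth.Agent.Lib.SourceDescent.Scheme.inf Groth.Agent.Lib.SourceDescent.Scheme.flat Groth.Agent.Lib.SourceDescent.Scheme.locallyOfFinitePresentation) Groth.Agent.H2.FlatDescend.flatFp_descends) (chartLocal_locP (Groth.Agent.Lib.SourceDescent.Scheme.inf Groth.Agent.Lib.SourceDescent.Scheme.flat Groth.Agent.Lib.SourceDescent.Scheme.locallyOfFinitePresentation))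
    (fun _ _ _ _ _ _ _ _ hX hY hY' sq h ↦ LocP.locP_of_isPullback (Groth.Agent.Lib.SourceDescent.Scheme.inf Groth.Agent.Lib.SourceDescent.Scheme.flat Groth.Agent.Lib.SourceDescent.Scheme.locallyOfFinitePresentation) hX hY hY' sq h)
    (fun _ _ _ _ _ _ _ _ hX hY hY' sq h ↦ LocP.locP_of_isPullback Groth.Agent.Lib.SourceDescent.Scheme.locallyOfFinitePresentation hX hY hY' sq h)
    D hD hDa c hc i₀ X₀ Y₀ f₀ b₀ hXqc hXqs hYqc hYqs X Y f pY qY hY pX hX hf₀ fun hY' U V a b g ha hb w ↦
      ⟨hf a b g ha hb w, LocP.locP_of_isPullback Groth.Agent.Lib.SourceDescent.Scheme.locallyOfFinitePresentation X₀.property Y₀.property hY' hX hf₀ a b g ha hb w⟩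
  exact ⟨i, φ, fun Xi Yi fi pYi qYi hYi pXi hXi U V a b g ha hb w ↦
    (h Xi Yi fi pYi qYi hYi pXi hXi a b g ha hb w).1⟩

end Groth.Agent.S10082
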