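import Groth.Statements.S10096
import Groth.Agent.Lib.AlgSpMor.LocP
import Groth.Agent.Lib.AlgSpace.Points
import Groth.Agent.Lib.AlgSpace.Local
-- import your own Groth.Agent.* helpers here

set_option autoImplicit false
universe u
open CategoryTheory CategoryTheory.Limits AlgebraicGeometry
open AlgSp

open Groth.Agent.Lib.AlgSpace Groth.Agent.Lib.AlgSpMor

namespace Groth.Agent.S10096

/-- Let `a : F ⟶ G` be a map of fppf sheaves of sets over `S` that is flat, surjective, locally of
finite presentation and representable by algebraic spaces (every base change `h_U ×_G F ⟶ h_U` to a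
scheme is such a morphism of algebraic spaces). Then `a` is surjective as a map of sheaves (an
epimorphism of fppf sheaves). -/
theorem result (S : Scheme.{u}) (F G : AlgSp.Sp S) (a : F ⟶ G)
    (ha : AlgSp.RepBySpWith (AlgSp.IsSurjectiveMor ⊓ AlgSp.LocP @Flat ⊓ AlgSp.LocP @LocallyOfFinitePresentation) a.hom) :
    Epi a := by
  haveI : Sheaf.IsLocallySurjective a := by
    refine isLocallySurjective_of_lift a fun T b ↦ ?_
    have sq := IsPullback.of_hasPullback a b
    obtain ⟨hsh, hA, ⟨hsu, hfl⟩, hfp⟩ :=
      ha b.hom _ _ (sq.map (sheafToPresheaf (AlgSp.J S) (Type (u + 1))))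
    obtain ⟨W, w, hw, hws⟩ := hA.atlas
    obtain ⟨p, hp⟩ := (yon S).map_surjective
      (w ≫ (ObjectProperty.homMk (pullback.snd a b).hom : _ ⟶ (yon S).obj T))
    have hcomm : w ≫ ObjectProperty.homMk (pullback.snd a b).hom = (yon S).map p ≫ 𝟙 _ := by
      rw [Category.comp_id]; exact hp.symm
    have h1 : Flat p.left := hfl w (𝟙 _) p hw (AlgSp.repWith_id _ _) hcomm
    have h2 : LocallyOfFinitePresentation p.left := hfp w (𝟙 _) p hw (AlgSp.repWith_id _ _) hcomm
    have h3 : Surjective p.left := ⟨fun t ↦ by
      obtain ⟨x, hx⟩ := hsu (AlgSp.Points.ofScheme T t)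
      obtain ⟨y, hy⟩ := surjective_map hws x
      have h := congrArg (fun k ↦ AlgSp.Points.map k y) hp
      simp only [AlgSp.Points.map_comp, hy] at h
      erw [hx] at h
      rw [AlgSp.Points.map_yon_map_eq] at h
      exact ⟨(AlgSp.Points.schemeHomeo W).symm y, (AlgSp.Points.schemeHomeo T).injective h⟩⟩
    have := sq.w
    refine ⟨W, p, (show (yon S).obj W ⟶ pullback a b from w) ≫ pullback.fst a b,
      fppfCover_mk p.left, ?_⟩
    rw [Category.assoc, sq.w, ← Category.assoc]
    exact congrArg (· ≫ b) hp.symm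
  infer_instance

end Groth.Agent.S10096
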