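import Groth.Statements.S10097
import Groth.Agent.Lib.AlgSpMor.RepPresheaf
-- import your own Groth.Agent.* helpers here

set_option autoImplicit false
universe u
open CategoryTheory CategoryTheory.Limits AlgebraicGeometry
open AlgSp

open Groth.Agent.Lib.AlgSpMor
attribute [local simp] prod.lift_fst prod.lift_snd prod.lift_fst_assoc prod.lift_snd_assoc prod.map_fst prod.map_snd prod.map_fst_assoc prod.map_snd_assoc pullback.lift_fst pullback.lift_snd pullback.lift_fst_assoc pullback.lift_snd_assoc

namespace Groth.Agent.S10097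

/-- (1) ⇔ (2): for a presheaf of sets `F` on schemes over `S`, the diagonal `F ⟶ F × F` is representable
by algebraic spaces if and only if every map `h_T ⟶ F` from a scheme `T` over `S` is representable
by algebraic spaces. -/
theorem result (S : Scheme.{u}) (F : AlgSp.PSp S) :
    AlgSp.RepBySp (Limits.diag F) ↔
      ∀ (T : Over S) (ξ : (AlgSp.pyon S).obj T ⟶ F), AlgSp.RepBySp ξ := by
  constructor
  · intro h T ξ U ζ F' fst snd sq
    have := RepPresheaf.isAlgSpaceP_pyon (T ⨯ U)
    have hprod : AlgSp.IsAlgSpaceP ((AlgSp.pyon S).obj T ⨯ (AlgSp.pyon S).obj U) :=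
      this.of_iso (Limits.PreservesLimitPair.iso (AlgSp.pyon S) T U)
    have sqF : IsPullback (fst ≫ ξ) (prod.lift fst snd) (Limits.diag F) (prod.map ξ ζ) := by
      refine ⟨⟨by apply prod.hom_ext <;> simp [sq.w]⟩, ⟨PullbackCone.IsLimit.mk _
        (fun s => sq.lift (s.snd ≫ prod.fst) (s.snd ≫ prod.snd) ?_) (fun s => ?_) (fun s => ?_)
        (fun s m hm hn => ?_)⟩⟩
      · have h1 := congrArg (fun m => m ≫ prod.fst) s.condition
        have h2 := congrArg (fun m => m ≫ prod.snd) s.condition
        simp only [Category.assoc, prod.map_fst, prod.map_snd, prod.lift_fst, prod.lift_snd,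
          Category.comp_id] at h1 h2 ⊢
        rw [← h1, ← h2]
      · have h1 := congrArg (fun m => m ≫ prod.fst) s.condition
        simp only [Category.assoc, prod.map_fst, prod.lift_fst, Category.comp_id] at h1
        simp [h1]
      · apply prod.hom_ext <;> simp
      · apply sq.hom_ext <;> simp [← hn]
    exact RepPresheaf.isAlgSpaceP_of_repBySp (RepPresheaf.repBySp_baseChange sqF h) hprod
  · intro h U ξ F' fst snd sq
    have hP : AlgSp.IsAlgSpaceP (pullback (ξ ≫ prod.fst) (ξ ≫ prod.snd)) :=
      h U (ξ ≫ prod.fst) (ξ ≫ prod.snd) _ _ (IsPullback.of_hasPullback _ _)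
    have hd : AlgSp.RepBySp (pullback.diagonal (terminal.from ((AlgSp.pyon S).obj U))) :=
      RepPresheaf.repBySp_of_representable (RepPresheaf.representable_diagonal (fun W c F'' f1 f2 sq1 =>
        ((RepPresheaf.isAlgSpaceP_pyon (U ⨯ W)).of_iso
          (Limits.PreservesLimitPair.iso (AlgSp.pyon S) U W)).of_iso
          ((IsPullback.of_hasBinaryProduct' _ _).isoIsPullback _ _
            (show IsPullback f1 f2 (terminal.from _) (terminal.from _) from
              (Subsingleton.elim c (terminal.from _)) ▸ sq1))))
    let m : pullback (ξ ≫ prod.fst) (ξ ≫ prod.snd) ⟶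
        pullback (terminal.from ((AlgSp.pyon S).obj U)) (terminal.from ((AlgSp.pyon S).obj U)) :=
      pullback.lift (pullback.fst _ _) (pullback.snd _ _) (Subsingleton.elim _ _)
    have hw : fst = snd ≫ ξ ≫ prod.fst ∧ fst = snd ≫ ξ ≫ prod.snd := by
      constructor
      · simpa using congrArg (fun m => m ≫ prod.fst) sq.w
      · simpa using congrArg (fun m => m ≫ prod.snd) sq.w
    let k : F' ⟶ pullback (ξ ≫ prod.fst) (ξ ≫ prod.snd) :=
      pullback.lift snd snd (hw.1.symm.trans hw.2)
    have sqk : IsPullback snd k (pullback.diagonal (terminal.from ((AlgSp.pyon S).obj U))) m := by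
      refine ⟨⟨by apply pullback.hom_ext <;> simp [m, k]⟩, ⟨PullbackCone.IsLimit.mk _
        (fun s => sq.lift (s.fst ≫ ξ ≫ prod.fst) s.fst ?_) (fun s => ?_) (fun s => ?_)
        (fun s p hp hq => ?_)⟩⟩
      · have h1 : s.fst = s.snd ≫ pullback.fst _ _ := by
          simpa [m] using congrArg (fun q => q ≫ pullback.fst _ _) s.condition
        have h2 : s.fst = s.snd ≫ pullback.snd _ _ := by
          simpa [m] using congrArg (fun q => q ≫ pullback.snd _ _) s.condition
        apply prod.hom_ext
        · simp
        · simp only [Category.assoc, prod.lift_snd, Category.comp_id]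
          calc s.fst ≫ ξ ≫ prod.fst = s.snd ≫ pullback.fst _ _ ≫ ξ ≫ prod.fst := by rw [h1, Category.assoc]
            _ = s.snd ≫ pullback.snd _ _ ≫ ξ ≫ prod.snd := by rw [pullback.condition]
            _ = _ := by rw [h2, Category.assoc]
      · simp
      · have h1 : s.fst = s.snd ≫ pullback.fst _ _ := by
          simpa [m] using congrArg (fun q => q ≫ pullback.fst _ _) s.condition
        have h2 : s.fst = s.snd ≫ pullback.snd _ _ := by
          simpa [m] using congrArg (fun q => q ≫ pullback.snd _ _) s.condition
        apply pullback.hom_ext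
        · simp [k, h1]
        · simp [k, h2]
      · apply sq.hom_ext
        · rw [sq.lift_fst, hw.1, ← hp]
          simp
        · simp [hp]
    exact RepPresheaf.isAlgSpaceP_of_repBySp (RepPresheaf.repBySp_baseChange sqk hd) hP

end Groth.Agent.S10097
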