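import Groth.Statements.S10098
import Groth.Agent.Lib.AlgSpMor.RepBySp
-- import your own Groth.Agent.* helpers here

set_option autoImplicit false
universe u
open CategoryTheory CategoryTheory.Limits AlgebraicGeometry
open AlgSp

set_option linter.style.haveILetI false
open CategoryTheory Limits AlgebraicGeometry Groth.Agent.Lib.AlgSpace Groth.Agent.Lib.AlgSpMor

namespace Groth.Agent.S10098

/-- Let `E = H ×_G F` be a cartesian square of fppf sheaves of sets over `S`, with `a : E ⟶ F`, `f : E ⟶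
H`, `g : F ⟶ G`, `b : H ⟶ G`. Suppose that `a` and `g` are both representable by algebraic spaces,
that `g` is flat, surjective and locally of finite presentation, and that `a` is separated and
locally quasi-finite. Under these assumptions `b` is representable by schemes, separated, and
locally quasi-finite. -/
theorem result (S : Scheme.{u}) (E F G H : AlgSp.Sp S)
    (a : E ⟶ F) (f : E ⟶ H) (g : F ⟶ G) (b : H ⟶ G) (sq : IsPullback a f g b)
    (hg : AlgSp.RepBySpWith (AlgSp.IsSurjectiveMor ⊓ AlgSp.LocP @Flat ⊓ AlgSp.LocP @LocallyOfFinitePresentation) g.hom)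
    (ha : AlgSp.RepBySpWith
      (AlgSp.IsSeparatedMor ⊓ AlgSp.LocP (@LocallyQuasiFinite ⊓ @LocallyOfFiniteType)) a.hom) :
    AlgSp.RepWith @IsSeparated b ∧ AlgSp.RepWith (@LocallyQuasiFinite ⊓ @LocallyOfFiniteType) b := by
  haveI := RepBySp.isLocallySurjective_of_fppf hg
  have h0 : RepWith sepLqf a := by
    have hrep : Representable a := fun T ξ ↦ by
      obtain ⟨hP, hs, hq⟩ := RepBySp.exists_chart_of_repBySpWith ha ξ
      obtain ⟨W, ⟨e⟩⟩ := LqfRep.exists_iso hP (pullback.snd a ξ) hq hs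
      obtain ⟨w, hw⟩ := (yon S).map_surjective (e.hom ≫ pullback.snd a ξ)
      exact ⟨W, w, e.hom ≫ pullback.fst a ξ, (IsPullback.of_hasPullback a ξ).of_iso e.symm
        (Iso.refl _) (Iso.refl _) (Iso.refl _) (by simp) (by simp [hw]) (by simp) (by simp)⟩
    refine ⟨hrep, fun T V ξ fst v sqv ↦ ?_⟩
    obtain ⟨-, hs, hq⟩ := (repBySpWith_hom_iff _ a).1 ha ξ _ _ sqv
    have h := locP_yon_map hq
    exact ⟨⟨(isSeparatedMor_yon_map_iff v).1 hs, h.1⟩, h.2⟩
  have h := RepBySp.repWith_sepLqf_of_isLocallySurjective g sq.flip h0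
  exact ⟨Groth.Agent.Lib.AlgSpace.repWith_mono h fun _ _ _ w ↦ w.1.1,
    Groth.Agent.Lib.AlgSpace.repWith_mono h fun _ _ _ w ↦ ⟨w.1.2, w.2⟩⟩

end Groth.Agent.S10098
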