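import Groth.Statements.S10100
import Groth.Agent.Lib.AlgSpMor.RepBySp
-- import your own Groth.Agent.* helpers here

set_option autoImplicit false
universe u
open CategoryTheory CategoryTheory.Limits AlgebraicGeometry
open AlgSp

set_option linter.style.haveILetI false
open CategoryTheory Limits AlgebraicGeometry Groth.Agent.Lib.AlgSpace Groth.Agent.Lib.AlgSpMor

namespace Groth.Agent.S10100

/-- Let `F` be a presheaf of sets on schemes over `S`, `X` a scheme over `S` and `h_X ⟶ F` a map which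
is representable by algebraic spaces and locally quasi-finite. Then `h_X ⟶ F` is representable by
schemes. -/
theorem result (S : Scheme.{u}) (F : AlgSp.PSp S) (X : Over S)
    (p : (AlgSp.pyon S).obj X ⟶ F)
    (hp : AlgSp.RepBySpWith (AlgSp.LocP (@LocallyQuasiFinite ⊓ @LocallyOfFiniteType)) p) :
    (AlgSp.pyon S).relativelyRepresentable p := by
  intro U ξ
  have sqP := IsPullback.of_hasPullback p ξ
  obtain ⟨h, hA, hq⟩ := hp ξ _ _ sqP
  let Pe : Sp S := ⟨Limits.pullback p ξ, h⟩
  let fe : Pe ⟶ (yon S).obj X := ObjectProperty.homMk (pullback.fst p ξ)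
  let se : Pe ⟶ (yon S).obj U := ObjectProperty.homMk (pullback.snd p ξ)
  have hjm : ∀ {Z : Sp S} (a b : Z ⟶ Pe), a ≫ fe = b ≫ fe → a ≫ se = b ≫ se → a = b :=
    fun a b e1 e2 ↦ InducedCategory.hom_ext
      (pullback.hom_ext congr($(e1).hom) congr($(e2).hom))
  haveI : MorphismProperty.ContainsIdentities (@IsClosedImmersion : MorphismProperty Scheme.{u}) :=
    ⟨fun X ↦ inferInstanceAs (IsClosedImmersion (𝟙 X))⟩
  haveI : MorphismProperty.IsStableUnderComposition
      (@IsClosedImmersion : MorphismProperty Scheme.{u}) :=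
    ⟨fun f g (_ : IsClosedImmersion f) (_ : IsClosedImmersion g) ↦
      inferInstanceAs (IsClosedImmersion (f ≫ g))⟩
  haveI : MorphismProperty.IsStableUnderComposition (@Etale : MorphismProperty Scheme.{u}) :=
    ⟨fun f g (_ : Etale f) (_ : Etale g) ↦ inferInstanceAs (Etale (f ≫ g))⟩
  have key : ∀ O : X.left.affineOpens, ∃ (W : Over S) (l : (yon S).obj W ⟶ Pe),
      RepWith @IsOpenImmersion l ∧ ∀ y, Points.map fe y ∈ Points.ofScheme X '' (O.1 : Set X.left) →
        y ∈ Set.range (Points.map l) := by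
    intro O
    let ι : Topo.opensOver O.1 ⟶ X := Topo.opensOverι O.1
    let Q : Sp S := Limits.pullback fe ((yon S).map ι)
    let j : Q ⟶ Pe := pullback.fst fe ((yon S).map ι)
    have sqQ := IsPullback.of_hasPullback fe ((yon S).map ι)
    have hjo : RepWith @IsOpenImmersion j := repWith_baseChange sqQ.flip
      ((repWith_yon_map_iff _ ι).2 (inferInstanceAs (IsOpenImmersion O.1.ι)))
    have hQ : IsAlgSpace Q := isAlgSpace_of_representable hjo.rep hA
    haveI : IsAffine (Topo.opensOver O.1).left := O.2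
    haveI : IsOpenImmersion ι.left := inferInstanceAs (IsOpenImmersion O.1.ι)
    haveI : Mono ι := Over.mono_of_mono_left ι
    haveI : Mono j := inferInstance
    let m : Q ⟶ (yon S).obj (Topo.opensOver O.1 ⨯ U) :=
      prod.lift (pullback.snd fe ((yon S).map ι)) (j ≫ se) ≫ (yonProdIso _ _).inv
    have hm1 : m ≫ (yon S).map prod.fst = pullback.snd fe ((yon S).map ι) := by
      rw [Category.assoc, ← yonProdIso_hom_fst, Iso.inv_hom_id_assoc, prod.lift_fst]
    have hm2 : m ≫ (yon S).map prod.snd = j ≫ se := by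
      rw [Category.assoc, ← yonProdIso_hom_snd, Iso.inv_hom_id_assoc, prod.lift_snd]
    haveI : Mono m := ⟨fun a b e ↦ by
      have e1 := congr($e ≫ (yon S).map prod.fst)
      have e2 := congr($e ≫ (yon S).map prod.snd)
      simp only [Category.assoc, hm1, hm2] at e1 e2
      rw [← cancel_mono j]
      exact hjm _ _ (by rw [Category.assoc, Category.assoc, sqQ.w, reassoc_of% e1])
        (by rw [Category.assoc, Category.assoc, e2])⟩
    have hpr : IsSeparated (prod.snd : Topo.opensOver O.1 ⨯ U ⟶ U).left := by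
      have e : (Over.prodLeftIsoPullback (Topo.opensOver O.1) U).hom ≫
          Limits.pullback.snd _ _ = (prod.snd : Topo.opensOver O.1 ⨯ U ⟶ U).left :=
        Over.prodLeftIsoPullback_hom_snd _ _
      rw [← e]
      infer_instance
    have hsep : IsSeparatedMor (j ≫ se) := by
      show RepWith @IsClosedImmersion (pullback.diagonal (j ≫ se))
      exact Sep.repWith_diagonal_of_eq (Iso.refl _) (Iso.refl _) (by simp [hm2])
        (Proper.repWith_diagonal_comp _ (repWith_of_isIso _ (pullback.diagonal m))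
          ((isSeparatedMor_yon_map_iff _).2 hpr))
    have hje : RepWith @Etale j :=
      Groth.Agent.Lib.AlgSpace.repWith_mono hjo fun _ _ g (_ : IsOpenImmersion g) ↦ inferInstance
    obtain ⟨W, ⟨e⟩⟩ := LqfRep.exists_iso hQ (j ≫ se) (fun A B a b k ha hb w ↦
      hq (a ≫ j) b k (repWith_comp ha hje) hb ((Category.assoc _ _ _).trans w)) hsep
    refine ⟨W, e.hom ≫ j, (repWith_iso_comp_iff _ _ _).2 hjo, ?_⟩
    rintro y ⟨x, hx, hxy⟩
    obtain ⟨z, hz, -⟩ := exists_of_isPullback sqQ y (Points.ofScheme _ (⟨x, hx⟩ : O.1))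
      (hxy.symm.trans ((Points.ofPt_eq_map_ofScheme ((yon S).map ι) (⟨x, hx⟩ : O.1)).symm.trans
        (Groth.Agent.Lib.AlgSpDecent.Core.ofPt_yon_map ι (⟨x, hx⟩ : O.1))).symm)
    exact ⟨Points.map e.inv z, by
      rw [← Points.map_comp, ← Category.assoc, e.inv_hom_id, Category.id_comp, hz]⟩
  choose W l hl hcov using key
  obtain ⟨G, m, hm, hmr⟩ := Groth.Agent.Lib.AlgSpDecent.Glue.exists_union hl hA
  haveI := Groth.Agent.Lib.AlgSpDecent.OpenScheme.isIso_of_surjective hm fun y ↦ by
    obtain ⟨x, hx⟩ := (Points.schemeEquiv X).surjective (Points.map fe y)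
    obtain ⟨O, hO, hxO, -⟩ := exists_isAffineOpen_mem_and_subset (U := ⊤) (Set.mem_univ x)
    exact hmr.symm.subset (Set.mem_iUnion.2 ⟨⟨O, hO⟩, hcov _ y ⟨x, hxO, hx⟩⟩)
  obtain ⟨v, hv⟩ := (yon S).map_surjective (m ≫ se)
  let e : (pyon S).obj G ≅ Limits.pullback p ξ :=
    (sheafToPresheaf (AlgSp.J S) (Type (u + 1))).mapIso (asIso m)
  exact ⟨G, v, e.hom ≫ pullback.fst p ξ, sqP.of_iso e.symm (Iso.refl _) (Iso.refl _) (Iso.refl _)
    (by simp) (by
      rw [Iso.symm_hom, Iso.refl_hom, Category.comp_id, Iso.eq_inv_comp]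
      exact congr($(hv).hom).symm) (by simp) (by simp)⟩

end Groth.Agent.S10100
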