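import Groth.Statements.S10105
import Groth.Agent.Lib.Bootstrap.Descent

set_option autoImplicit false
universe u
open CategoryTheory CategoryTheory.Limits AlgebraicGeometry
open AlgSp

namespace Groth.Agent.S10105

/-- Let `F` be an fppf sheaf of sets over `S` and `{S_i ⟶ S}` an fppf covering. If every `h_{S_i} × F`
is an algebraic space and the coproduct `∐ h_{S_i} × F` (in sheaves) is an algebraic space, then `F`
is an algebraic space: being an algebraic space is fppf local on the base. -/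
theorem result (S : Scheme.{u}) (F : AlgSp.Sp S) {ι : Type u} (Si : ι → Over S)
    (hfl : ∀ i, Flat (Si i).hom) (hfp : ∀ i, LocallyOfFinitePresentation (Si i).hom)
    (hsurj : ∀ x : ↥S, ∃ (i : ι) (y : ↥(Si i).left), (Si i).hom.base y = x)
    (halg : ∀ i, AlgSp.IsAlgSpace ((AlgSp.yon S).obj (Si i) ⨯ F))
    (c : Cofan (fun i => (AlgSp.yon S).obj (Si i) ⨯ F)) (hc : IsColimit c) (hcop : AlgSp.IsAlgSpace c.pt) :
    AlgSp.IsAlgSpace F := by
  have hT : IsTerminal ((AlgSp.yon S).obj (Over.mk (𝟙 S))) :=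
    Over.mkIdTerminal.isTerminalObj (AlgSp.yon S)
  let k : ∀ i, Si i ⟶ Over.mk (𝟙 S) := fun i => Over.homMk (Si i).hom (by simp)
  refine Groth.Agent.Lib.Bootstrap.isAlgSpace_of_fppfCover_family
    (IsAlgSpace.yon_obj (Over.mk (𝟙 S))) (fun i => IsAlgSpace.yon_obj (Si i))
    (g := fun i => (AlgSp.yon S).map (k i)) ⟨fun i => ⟨?_, ?_⟩, fun x => ?_⟩ (hT.from F) fun i => ?_
  · exact Groth.Agent.Lib.AlgSpMor.LocP.locP_of_repWith Groth.Agent.Lib.SourceDescent.Scheme.flat
      ((AlgSp.repWith_yon_map_iff _ (k i)).2 (hfl i))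
  · exact Groth.Agent.Lib.AlgSpMor.LocP.locP_of_repWith
      Groth.Agent.Lib.SourceDescent.Scheme.locallyOfFinitePresentation
      ((AlgSp.repWith_yon_map_iff _ (k i)).2 (hfp i))
  · obtain ⟨z, rfl⟩ := (Points.schemeHomeo (Over.mk (𝟙 S))).surjective x
    obtain ⟨i, y, hy⟩ := hsurj z
    refine ⟨i, Points.schemeHomeo (Si i) y, ?_⟩
    rw [Points.map_yon_map_eq]
    simp [k, ← hy]
  · exact (halg i).of_iso ((prod.braiding _ _) ≪≫
      (IsPullback.of_is_product' (prodIsProd F ((AlgSp.yon S).obj (Si i))) hT).isoPullback ≪≫ pullback.congrHom (hT.hom_ext _ _) (hT.hom_ext _ _))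

end Groth.Agent.S10105
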