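import Groth.Statements.S10106
import Groth.Agent.Lib.Bootstrap.Cover
-- import your own Groth.Agent.* helpers here

set_option autoImplicit false
universe u
open CategoryTheory CategoryTheory.Limits AlgebraicGeometry
open AlgSp

open AlgSp (yon pyon RepWith RepBySp RepBySpWith)
open Groth.Agent.Lib.AlgSpace Groth.Agent.Lib.AlgSpMor

namespace Groth.Agent.S10106

/-- Let `a : F ⟶ G` and `b : G ⟶ H` be maps of fppf sheaves of sets over `S` where `a` is flat,
surjective, locally of finite presentation and representable by algebraic spaces, and the composite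
`a ≫ b` is representable by algebraic spaces. Then so is `b`. -/
theorem result (S : Scheme.{u}) (F G H : AlgSp.Sp S) (a : F ⟶ G) (b : G ⟶ H)
    (ha : AlgSp.RepBySpWith (AlgSp.IsSurjectiveMor ⊓ AlgSp.LocP @Flat ⊓ AlgSp.LocP @LocallyOfFinitePresentation) a.hom) (hab : AlgSp.RepBySp (a ≫ b).hom) :
    AlgSp.RepBySp b.hom := by
  intro U ξ F' fst snd sq
  let ξ' : (yon S).obj U ⟶ H := ObjectProperty.homMk ξ
  let T := sheafToPresheaf (AlgSp.J S) (Type (u + 1))
  have sqP := IsPullback.of_hasPullback b ξ'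
  have sqP' := sqP.map T
  let e : (pullback b ξ').obj ≅ F' := sqP'.isoIsPullback _ _ sq
  have sqF := IsPullback.of_hasPullback a (pullback.fst b ξ')
  have sqFU := (sqF.paste_vert sqP).map T
  obtain ⟨_, hF⟩ := hab ξ _ _ sqFU
  have hp : RepBySpWith (AlgSp.IsSurjectiveMor ⊓ AlgSp.LocP @Flat ⊓
      AlgSp.LocP @LocallyOfFinitePresentation) (pullback.snd a (pullback.fst b ξ')).hom := by
    intro U' η F'' f' s' sq'
    exact ha (η ≫ (pullback.fst b ξ').hom) (f' ≫ (pullback.fst a (pullback.fst b ξ')).hom) s'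
      (sq'.paste_horiz (sqF.map T))
  have := Lib.Bootstrap.isAlgSpace_of_fppf_cover hF hp
  obtain ⟨h, hh⟩ : AlgSp.IsAlgSpaceP (pullback b ξ').obj := ⟨_, this⟩
  have hs : Presheaf.IsSheaf (AlgSp.J S) F' := Presheaf.isSheaf_of_iso_iff e |>.1 h
  exact ⟨hs, hh.of_iso ((sheafToPresheaf (AlgSp.J S) (Type (u + 1))).preimageIso
    (X := ⟨_, h⟩) (Y := ⟨F', hs⟩) e)⟩

end Groth.Agent.S10106
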