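import Groth.Statements.S10108
import Groth.Agent.Lib.AlgSpMor.EtaleSheaf
-- import your own Groth.Agent.* helpers here

set_option autoImplicit false
universe u
open CategoryTheory CategoryTheory.Limits AlgebraicGeometry
open AlgSp

set_option linter.style.haveILetI false
open CategoryTheory Limits AlgebraicGeometry Groth.Agent.Lib.AlgSpace Groth.Agent.Lib.AlgSpMor

namespace Groth.Agent.S10108

/-- A presheaf of sets on schemes over `S` which is a sheaf for the etale topology, has diagonal
representable by schemes, and receives a representable surjective etale map from a scheme over `S`,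
is an algebraic space (in particular an fppf sheaf): algebraic spaces defined with the etale
topology are the same as with the fppf topology. -/
theorem result (S : Scheme.{u}) (F : AlgSp.PSp S)
    (h1 : Presheaf.IsSheaf (QuotSh.J Scheme.etalePrecoverage S) F)
    (h2 : (AlgSp.pyon S).relativelyRepresentable (Limits.diag F))
    (U : Over S) (p : (AlgSp.pyon S).obj U ⟶ F)
    (h3 : (MorphismProperty.inverseImage @Etale (Over.forget S)).relative (AlgSp.pyon S) p ∧
      (MorphismProperty.inverseImage @Surjective (Over.forget S)).relative (AlgSp.pyon S) p) :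
    AlgSp.IsAlgSpaceP F := by
  obtain ⟨h3, h4⟩ := h3
  obtain ⟨t, ht⟩ := (pyon S).map_surjective (h3.rep.fst p)
  have sq := h3.rep.isPullback p
  rw [← ht] at sq
  haveI : Etale (h3.rep.snd p).left := h3.property_snd p
  refine EtaleSheaf.isAlgSpaceP_of_chart h1 p t (h3.rep.snd p) sq fun T ξ ↦ ?_
  obtain ⟨v, hv⟩ := (pyon S).map_surjective (h3.rep.fst ξ)
  exact ⟨h3.rep.pullback ξ, h3.rep.snd ξ, v, h3.property_snd ξ,
    h4.property ξ _ _ (h3.rep.isPullback ξ), by rw [hv, h3.rep.w]⟩

end Groth.Agent.S10108
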