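import Groth.Statements.S10110
import Groth.Agent.Lib.AlgStack.EtaleBoot
open CategoryTheory.Functor
set_option backward.isDefEq.respectTransparency false
set_option backward.isDefEq.respectTransparency.types false

set_option autoImplicit false
universe u
open CategoryTheory CategoryTheory.Limits AlgebraicGeometry
open AlgSp

namespace Groth.Agent.S10110

/-- A presheaf of sets on schemes over `S` which is a sheaf for the etale topology and receives a map
from an algebraic space which is representable by algebraic spaces, surjective and smooth, is an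
algebraic space (in particular an fppf sheaf). In particular this covers a scheme `U` with a
surjective smooth map to `F` when the diagonal of `F` is representable by algebraic spaces, since
every map from a scheme to `F` is then representable by algebraic spaces. -/
theorem result (S : Scheme.{u}) (F : AlgSp.PSp S)
    (h1 : Presheaf.IsSheaf (QuotSh.J Scheme.etalePrecoverage S) F) (U : AlgSp.Space S) (p : U.obj.obj ⟶ F)
    (h2 : AlgSp.RepBySpWith (AlgSp.IsSurjectiveMor ⊓ AlgSp.LocP @Smooth) p) :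
    AlgSp.IsAlgSpaceP F := by
  have hst : Stk.IsStack (QuotSh.J Scheme.etalePrecoverage S) (Stk.ofPsh F) :=
    (Lib.AlgStack.StkBasic.isStack_ofPsh_iff _ _).2 ((isSheaf_iff_isSheaf_of_type _ _).1 h1)
  obtain ⟨V, c, hce, hcs⟩ := U.property.atlas
  have hsm : AlgSt.RepByAlgSpWith (LocP @Smooth) (Stk.ofPshMap p) :=
    Lib.AlgStack.RepPsh1.repByAlgSpWith_ofPshMap fun T ξ F' fst snd sq => by
      obtain ⟨h, hA, -, h'⟩ := h2 ξ fst snd sq; exact ⟨h, hA, h'⟩
  have hsu : AlgSt.RepByAlgSpWith IsSurjectiveMor (Stk.ofPshMap p) :=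
    Lib.AlgStack.RepPsh1.repByAlgSpWith_ofPshMap fun T ξ F' fst snd sq => by
      obtain ⟨h, hA, h', -⟩ := h2 ξ fst snd sq; exact ⟨h, hA, h'⟩
  have hg : FibCat.IsFibGrpd (AlgSt.ofSp U.obj).p := (Lib.AlgStack.StkRep.isStack_ofSp U.obj).1
  let a := BasedFunctor.comp (BasedFunctor.comp (AlgSt.ofOverCat V) (AlgSt.ofSpMap c)) (Stk.ofPshMap p)
  have hat : AlgSt.HasAtlas (LocP @Smooth) (Stk.ofPsh F) :=
    ⟨V, a, Lib.AlgStack.IsAlgFp.comp_locP Lib.SourceDescent.Scheme.smooth
        (Lib.AlgStack.Yoneda.isFibGrpd_overCat V) hg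
        (Lib.AlgStack.IsAlg.repByAlgSpWith_atlas hce hcs fun _ _ q hq _ => Lib.AlgStack.IsAlg.locP_smooth hq) hsm,
      Lib.AlgStack.IsAlgFp.comp_surjective (Lib.AlgStack.Yoneda.isFibGrpd_overCat V) hg
        (Lib.AlgStack.IsAlg.repByAlgSpWith_atlas hce hcs fun _ _ q _ hq => Lib.AlgSpace.surjective_map hq) hsu⟩
  obtain ⟨G, e, he⟩ := Lib.AlgStack.EtaleTop.repByAlgSp_of_setoidal
    (Lib.AlgStack.EtaleBoot.isAlgStack_of_stack_atlas hst hat)
    (fun x θ hθ => Stk.EltObj.hom_ext hθ)
  have := Lib.AlgStack.OfPsh.isIso_pshMap he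
  exact IsAlgSpaceP.of_iso ⟨G.obj.property, G.property⟩ (asIso (Lib.AlgStack.OfPsh.pshMap e))

end Groth.Agent.S10110
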