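-- Proof of statement S10111.
import Groth.Statements.S10111
import Groth.Agent.Lib.AlgSpace.Local

set_option autoImplicit false
set_option backward.isDefEq.respectTransparency false
set_option backward.isDefEq.respectTransparency.types false
universe v u
open CategoryTheory CategoryTheory.Limits AlgebraicGeometry
open AlgSp

namespace Groth.Agent.S10111

open Opposite

variable {S : Scheme.{u}}

theorem map_map (F : AlgSp.PSp S) {A B C : Over S} (g : A ⟶ B) (f : B ⟶ C) (x : F.obj (op C)) :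
    F.map g.op (F.map f.op x) = F.map (g ≫ f).op x := by simp

theorem app_map {F G : AlgSp.PSp S} (m : G ⟶ F) {A B : Over S} (g : A ⟶ B) (y : G.obj (op B)) :
    m.app (op A) (G.map g.op y) = F.map g.op (m.app (op B) y) :=
  NatTrans.naturality_apply m g.op y

theorem injective_app {F G : AlgSp.PSp S} (m : G ⟶ F) [Mono m] (T : Over S) :
    Function.Injective (m.app (op T)) :=
  ((mono_iff_injective (m.app (op T))).1 inferInstance)

/-- Membership in a subfunctor which is representable by sheaves is fppf local. -/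
theorem mem_range_of_cover {F G : AlgSp.PSp S} (m : G ⟶ F) [Mono m] (hb : AlgSp.RepBySp m)
    {V : Over S} (x : F.obj (op V)) {R : Sieve V} (hR : R ∈ AlgSp.J S V)
    (h : ∀ ⦃Z : Over S⦄ (f : Z ⟶ V), R f → F.map f.op x ∈ Set.range (m.app (op Z))) :
    x ∈ Set.range (m.app (op V)) := by
  let ξ : (pyon S).obj V ⟶ F :=
    { app := fun Z ↦ ↾fun f ↦ F.map f.down.op x
      naturality := fun Z Z' g ↦ by
        ext f
        change F.map (g.unop ≫ f.down).op x = F.map g (F.map f.down.op x)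
        simp }
  obtain ⟨hP, -⟩ := hb ξ _ _ (IsPullback.of_hasPullback m ξ)
  have hmem := fun Z ↦ (Types.isPullback_iff _ _ _ _).1
    ((IsPullback.of_hasPullback m ξ).map ((evaluation _ _).obj Z))
  choose y hy using h
  have hex : ∀ ⦃Z : Over S⦄ (f : Z ⟶ V) (hf : R f), ∃ p : (pullback m ξ).obj (op Z),
      (pullback.fst m ξ).app _ p = y f hf ∧ (pullback.snd m ξ).app _ p = ULift.up f := fun Z f hf ↦
    (hmem (op Z)).2.2 (y f hf) (ULift.up f) (hy f hf)
  choose p hp₁ hp₂ using hex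
  have hpc : Presieve.FamilyOfElements.Compatible
      (fun Z f hf ↦ p f hf : Presieve.FamilyOfElements (pullback m ξ) R.arrows) := by
    intro Z₁ Z₂ Z g₁ g₂ f₁ f₂ h₁ h₂ e
    refine (hmem (op Z)).2.1 _ _ ⟨injective_app m Z ?_, ?_⟩
    · change m.app _ ((pullback.fst m ξ).app _ _) = m.app _ ((pullback.fst m ξ).app _ _)
      rw [app_map (pullback.fst m ξ), app_map (pullback.fst m ξ)]
      erw [hp₁, hp₁]
      rw [app_map, app_map, hy, hy, map_map, map_map, e]
    · change (pullback.snd m ξ).app _ _ = (pullback.snd m ξ).app _ _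
      rw [app_map, app_map]
      erw [hp₂, hp₂]
      exact ULift.ext _ _ e
  obtain ⟨q, hq, -⟩ := ((isSheaf_iff_isSheaf_of_type _ _).1 hP) R hR _ hpc
  have hid : ((pullback.snd m ξ).app (op V) q : ((pyon S).obj V).obj (op V)) = ULift.up (𝟙 V) := by
    refine ((((isSheaf_iff_isSheaf_of_type _ _).1
      ((yon S).obj V).property).isSeparated _ hR)).ext fun Z f hf ↦ ?_
    refine (app_map (pullback.snd m ξ) f q).symm.trans ((congrArg _ (hq f hf)).trans ?_)
    rw [hp₂]
    exact ULift.ext _ _ (Category.comp_id f).symm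
  refine ⟨(pullback.fst m ξ).app _ q, ?_⟩
  refine (congrArg (fun k : pullback m ξ ⟶ F ↦ k.app (op V) q)
    (pullback.condition (f := m) (g := ξ))).trans ?_
  change ξ.app _ ((pullback.snd m ξ).app (op V) q) = x
  rw [hid]
  change F.map (𝟙 V).op x = x
  simp

/-- A Zariski covering by opens is a covering of the site. -/
theorem opens_mem {T : Over S} {κ : Type*} (V : κ → Over S) (o : ∀ k, V k ⟶ T)
    (ho : ∀ k, IsOpenImmersion (o k).left) (hs : ∀ t : ↥T.left, ∃ k z, (o k).left z = t) :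
    Sieve.ofArrows V o ∈ QuotSh.J Scheme.zariskiPrecoverage S T := by
  rw [GrothendieckTopology.mem_over_iff, Sieve.overEquiv_ofArrows]
  refine Precoverage.generate_mem_toGrothendieck ?_
  rw [Scheme.zariskiPrecoverage, Scheme.ofArrows_mem_precoverage_iff]
  exact ⟨fun t ↦ ⟨_, _, (hs t).choose_spec.choose_spec⟩, ho⟩

/-- A covering sieve contains a flat family of finite presentation which is jointly surjective. -/
theorem exists_family {T : Over S} {R : Sieve T} (hR : R ∈ AlgSp.J S T) :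
    ∃ (κ : Type u) (W : κ → Over S) (g : ∀ k, W k ⟶ T), (∀ k, R (g k)) ∧
      (∀ k, Flat (g k).left) ∧ (∀ k, LocallyOfFinitePresentation (g k).left) ∧
      ∀ t : ↥T.left, ∃ k z, (g k).left z = t := by
  rw [AlgSp.J_eq, GrothendieckTopology.mem_over_iff] at hR
  haveI : LocallyOfFinitePresentation.{u} (𝟙 S) := inferInstance
  haveI : MorphismProperty.IsMultiplicative @LocallyOfFinitePresentation.{u} :=
    { id_mem := fun X ↦ (inferInstance : LocallyOfFinitePresentation (𝟙 X)) }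
  obtain ⟨𝒰, hle⟩ := Scheme.exists_cover_of_mem_grothendieckTopology
    (P := @Flat ⊓ @LocallyOfFinitePresentation) hR
  exact ⟨𝒰.I₀, fun k ↦ Over.mk (𝒰.f k ≫ T.hom), fun k ↦ Over.homMk (𝒰.f k),
    fun k ↦ (Sieve.overEquiv_iff R _).1 (hle _ _ (Presieve.ofArrows.mk k)),
    fun k ↦ (𝒰.map_prop k).1, fun k ↦ (𝒰.map_prop k).2, fun t ↦ 𝒰.exists_eq t⟩

/-- A flat morphism of finite presentation is an fppf cover of its image. -/
theorem exists_image {T W : Over S} (g : W ⟶ T) [Flat g.left]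
    [LocallyOfFinitePresentation g.left] :
    ∃ (V : Over S) (g' : W ⟶ V) (o : V ⟶ T), g' ≫ o = g ∧ IsOpenImmersion o.left ∧
      AlgebraicGeometry.Flat g'.left ∧ LocallyOfFinitePresentation g'.left ∧ Surjective g'.left ∧
      Set.range o.left = Set.range g.left := by
  let U : T.left.Opens := ⟨Set.range g.left, g.left.isOpenMap.isOpen_range⟩
  let l : W.left ⟶ U := IsOpenImmersion.lift U.ι g.left (by rw [Scheme.Opens.range_ι]; exact subset_rfl)
  have hl : l ≫ U.ι = g.left := IsOpenImmersion.lift_fac _ _ _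
  have sq : IsPullback (𝟙 W.left) l g.left U.ι :=
    ⟨⟨by rw [Category.id_comp, hl]⟩, ⟨PullbackCone.IsLimit.mk _ (fun t ↦ t.fst)
      (fun t ↦ Category.comp_id _)
      (fun t ↦ by rw [← cancel_mono U.ι, Category.assoc, hl, t.condition])
      (fun t m h₁ _ ↦ by simpa using h₁)⟩⟩
  refine ⟨Over.mk (U.ι ≫ T.hom), Over.homMk l (by
      change l ≫ U.ι ≫ T.hom = W.hom
      rw [reassoc_of% hl, Over.w g]),
    Over.homMk U.ι, Over.OverMorphism.ext hl, (inferInstance : IsOpenImmersion U.ι),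
    MorphismProperty.of_isPullback (P := @AlgebraicGeometry.Flat) sq ‹_›,
    MorphismProperty.of_isPullback (P := @LocallyOfFinitePresentation) sq ‹_›, ⟨fun v ↦ ?_⟩, ?_⟩
  · obtain ⟨w, hw⟩ := v.2
    refine ⟨w, Subtype.ext ?_⟩
    refine Eq.trans ?_ hw
    exact (Scheme.Hom.comp_apply l U.ι w).symm.trans (congrArg (fun q ↦ q w) hl)
  · exact U.range_ι

/-- Let `F` be a presheaf of sets on schemes over `S` which is a Zariski sheaf, and `F_i ⊂ F` a family
of subfunctors which are fppf sheaves, whose inclusions are representable by algebraic spaces, and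
such that `∐ F_i ⟶ F` becomes surjective after fppf sheafification (every section of `F` lies fppf
locally in some `F_i`). Then `F` is an fppf sheaf. -/
theorem result (S : Scheme.{u}) (F : AlgSp.PSp S)
    (h1 : Presheaf.IsSheaf (QuotSh.J Scheme.zariskiPrecoverage S) F) {ι : Type v} (Fi : ι → AlgSp.PSp S)
    (m : ∀ i, Fi i ⟶ F) [∀ i, Mono (m i)] (ha : ∀ i, Presheaf.IsSheaf (AlgSp.J S) (Fi i))
    (hb : ∀ i, AlgSp.RepBySp (m i))
    (hc : ∀ (T : Over S) (x : F.obj (Opposite.op T)), ∃ R ∈ (AlgSp.J S) T,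
      ∀ ⦃T' : Over S⦄ (f : T' ⟶ T), R.arrows f → ∃ i, F.map f.op x ∈ Set.range ((m i).app (Opposite.op T'))) :
    Presheaf.IsSheaf (AlgSp.J S) F := by
  rw [isSheaf_iff_isSheaf_of_type] at h1 ⊢
  -- Zariski locally every section lies in some subfunctor
  have loc : ∀ (T : Over S) (x : F.obj (op T)), ∃ (κ : Type u) (V : κ → Over S) (o : ∀ k, V k ⟶ T),
      (∀ k, IsOpenImmersion (o k).left) ∧ (∀ t : ↥T.left, ∃ k z, (o k).left z = t) ∧
      ∀ k, ∃ i, F.map (o k).op x ∈ Set.range ((m i).app (op (V k))) := by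
    intro T x
    obtain ⟨R, hR, hRx⟩ := hc T x
    obtain ⟨κ, W, g, hg, hgf, hgl, hgs⟩ := exists_family hR
    choose i hi using fun k ↦ hRx (g k) (hg k)
    have him := fun k ↦ have := hgf k; have := hgl k; exists_image (g k)
    choose V g' o hgo ho hf' hl' hs' hr using him
    refine ⟨κ, V, o, ho, fun t ↦ ?_, fun k ↦ ⟨i k, ?_⟩⟩
    · obtain ⟨k, z, hz⟩ := hgs t
      exact ⟨k, (hr k).ge ⟨z, hz⟩⟩
    · have := hf' k; have := hl' k; have := hs' k
      refine mem_range_of_cover (m (i k)) (hb (i k)) _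
        (Groth.Agent.Lib.AlgSpace.singleton_mem_J (g' k)
          (Groth.Agent.Lib.AlgSpace.fppfCover_mk (g' k).left)) fun Z f hf ↦ ?_
      obtain ⟨_, u, _, ⟨⟩, rfl⟩ := hf
      obtain ⟨y, hy⟩ := hi k
      refine ⟨(Fi (i k)).map u.op y, ?_⟩
      rw [app_map, hy, map_map, map_map, Category.assoc, hgo]
  -- separatedness
  have sep : ∀ {T : Over S} {R : Sieve T}, R ∈ AlgSp.J S T → ∀ x x' : F.obj (op T),
      (∀ ⦃Z : Over S⦄ (f : Z ⟶ T), R f → F.map f.op x = F.map f.op x') → x = x' := by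
    intro T R hR x x' h
    obtain ⟨κ, V, o, ho, hos, hx⟩ := loc T x
    refine ((h1.isSeparated _ (opens_mem V o ho hos))).ext fun Z f hf ↦ ?_
    obtain ⟨_, u, _, ⟨k⟩, rfl⟩ := hf
    obtain ⟨i, y, hy⟩ := hx k
    have hR' := (AlgSp.J S).pullback_stable (o k) hR
    obtain ⟨y', hy'⟩ : F.map (o k).op x' ∈ Set.range ((m i).app (op (V k))) :=
      mem_range_of_cover (m i) (hb i) _ hR' fun Z f hf ↦ ⟨(Fi i).map f.op y, by
        rw [app_map, hy, map_map, map_map, h _ hf]⟩
    have e : y = y' := (((isSheaf_iff_isSheaf_of_type _ _).1 (ha i)).isSeparated _ hR').ext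
      fun Z f hf ↦ injective_app (m i) Z (by
        rw [app_map, app_map, hy, hy', map_map, map_map, h _ hf])
    rw [← map_map, ← map_map, ← hy, ← hy', e]
  intro T R hR x hx
  obtain ⟨κ, W, g, hg, hgf, hgl, hgs⟩ := exists_family hR
  -- members of a refinement lying in the subfunctors
  have href : ∀ k, ∃ (κ' : Type u) (W' : κ' → Over S) (g₂ : ∀ p, W' p ⟶ W k),
      (∀ p, IsOpenImmersion (g₂ p).left) ∧ (∀ w : ↥(W k).left, ∃ p z, (g₂ p).left z = w) ∧
      ∀ p, ∃ i, F.map (g₂ p).op (x (g k) (hg k)) ∈ Set.range ((m i).app (op (W' p))) :=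
    fun k ↦ loc _ _
  choose κ' W' g₂ hg₂ hg₂s hmem using href
  choose i y hy using hmem
  have him : ∀ q : Σ k, κ' k, ∃ (V : Over S) (g' : W' q.1 q.2 ⟶ V) (o : V ⟶ T),
      g' ≫ o = g₂ q.1 q.2 ≫ g q.1 ∧ IsOpenImmersion o.left ∧
      AlgebraicGeometry.Flat g'.left ∧ LocallyOfFinitePresentation g'.left ∧ Surjective g'.left ∧
      Set.range o.left = Set.range (g₂ q.1 q.2 ≫ g q.1).left := fun q ↦ by
    have := hg₂ q.1 q.2; have := hgf q.1; have := hgl q.1
    have : AlgebraicGeometry.Flat (g₂ q.1 q.2 ≫ g q.1).left :=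
      (inferInstance : AlgebraicGeometry.Flat ((g₂ q.1 q.2).left ≫ (g q.1).left))
    have : LocallyOfFinitePresentation (g₂ q.1 q.2 ≫ g q.1).left :=
      (inferInstance : LocallyOfFinitePresentation ((g₂ q.1 q.2).left ≫ (g q.1).left))
    exact exists_image _
  choose V g' o hgo ho hf' hl' hs' hr using him
  have hcov : ∀ q, Sieve.generate (Presieve.singleton (g' q)) ∈ AlgSp.J S (V q) := fun q ↦ by
    have := hf' q; have := hl' q; have := hs' q
    have h := Groth.Agent.Lib.AlgSpace.singleton_mem_J (g' q)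
      (Groth.Agent.Lib.AlgSpace.fppfCover_mk (g' q).left)
    rwa [Sieve.ofArrows, Presieve.ofArrows_pUnit] at h
  -- sections on the opens
  have hz : ∀ q, ∃ z : (Fi (i q.1 q.2)).obj (op (V q)),
      (Fi (i q.1 q.2)).map (g' q).op z = y q.1 q.2 := by
    intro q
    have h' : Presieve.IsSheafFor (Fi (i q.1 q.2)) (Presieve.singleton (g' q)) :=
      ((isSheaf_iff_isSheaf_of_type _ _).1 (ha _)).isSheafFor _ (hcov q)
    refine ((Presieve.isSheafFor_singleton.1 h') _ fun {Z} r₁ r₂ e ↦ ?_).exists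
    refine injective_app (m _) Z ?_
    rw [app_map, app_map, hy, map_map, map_map]
    exact hx (r₁ ≫ g₂ q.1 q.2) (r₂ ≫ g₂ q.1 q.2) (hg q.1) (hg q.1)
      (by rw [Category.assoc, Category.assoc, ← hgo, reassoc_of% e])
  choose z hz using hz
  -- the sections agree with the given family
  have hprop : ∀ q {Z : Over S} (u : Z ⟶ V q) (hu : R (u ≫ o q)),
      F.map u.op ((m (i q.1 q.2)).app _ (z q)) = x (u ≫ o q) hu := by
    intro q Z u hu
    refine sep ((AlgSp.J S).pullback_stable u (hcov q)) _ _ fun Z' f hf ↦ ?_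
    obtain ⟨_, r, _, ⟨⟩, hr'⟩ := hf
    rw [map_map, ← hr', ← map_map, ← app_map (m _) (g' q), hz, hy, map_map]
    refine hx (r ≫ g₂ q.1 q.2) f (hg q.1) hu ?_
    rw [Category.assoc, ← hgo, reassoc_of% hr']
  have hVs : ∀ t : ↥T.left, ∃ q v, (o q).left v = t := fun t ↦ by
    obtain ⟨k, w, rfl⟩ := hgs t
    obtain ⟨p, w', rfl⟩ := hg₂s k w
    exact ⟨⟨k, p⟩, (hr ⟨k, p⟩).ge ⟨w', Scheme.Hom.comp_apply _ _ w'⟩⟩
  have hV := opens_mem V o ho hVs
  -- glue
  obtain ⟨t, ht, -⟩ := (Presieve.isSheafFor_arrows_iff _ _).1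
    (h1.isSheafFor (Presieve.ofArrows V o) hV) (fun q ↦ (m (i q.1 q.2)).app _ (z q))
    (fun q q' Z w w' e ↦ by
      refine sep ((AlgSp.J S).pullback_stable (w ≫ o q) hR) _ _ fun Z' f hf ↦ ?_
      have hf₁ : R ((f ≫ w) ≫ o q) := by rw [Category.assoc]; exact hf
      have hf₂ : R ((f ≫ w') ≫ o q') := by rw [Category.assoc, ← e]; exact hf
      rw [map_map, map_map, hprop q _ hf₁, hprop q' _ hf₂]
      congr 1
      rw [Category.assoc, Category.assoc, e])
  refine ⟨t, fun Z f hf ↦ ?_, fun t' ht' ↦ ?_⟩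
  · have hVJ : Sieve.ofArrows V o ∈ AlgSp.J S T :=
      Groth.Agent.Lib.AlgSpace.ofArrows_mem_J V o (fun q ↦ have := ho q; inferInstance)
        (fun q ↦ have := ho q; inferInstance) hVs
    refine sep ((AlgSp.J S).pullback_stable f hVJ) _ _ fun Z' f' hf' ↦ ?_
    obtain ⟨_, u, _, ⟨q⟩, e⟩ := hf'
    have hu : R (u ≫ o q) := by rw [e]; exact R.downward_closed hf f'
    rw [map_map, ← e, ← map_map, ht q, hprop q u hu]
    have h' := hx (𝟙 Z') f' hu hf (by rw [Category.id_comp, e])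
    simpa using h'
  · refine sep hR _ _ fun Z f hf ↦ ?_
    rw [ht' f hf]
    have hVJ : Sieve.ofArrows V o ∈ AlgSp.J S T :=
      Groth.Agent.Lib.AlgSpace.ofArrows_mem_J V o (fun q ↦ have := ho q; inferInstance)
        (fun q ↦ have := ho q; inferInstance) hVs
    refine sep ((AlgSp.J S).pullback_stable f hVJ) _ _ fun Z' f' hf' ↦ ?_
    obtain ⟨_, u, _, ⟨q⟩, e⟩ := hf'
    have hu : R (u ≫ o q) := by rw [e]; exact R.downward_closed hf f'
    rw [map_map F f' f, ← e, ← map_map F u (o q), ht q, hprop q u hu]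
    have h' := hx (𝟙 Z') f' hu hf (by rw [Category.id_comp, e])
    simpa using h'.symm

end Groth.Agent.S10111
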