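import Groth.Statements.S10113
import Groth.Agent.Lib.AlgSpace.Local

set_option autoImplicit false
universe u
open CategoryTheory CategoryTheory.Limits AlgebraicGeometry
open AlgSp

namespace Groth.Agent.S10113

/-- Let `s, t : R ⟶ U` be a pre-relation of algebraic spaces, `M` an algebraic space and `U ⟶ M` a
morphism which coequalizes `s, t`, is a surjection of sheaves, and for which `(t, s) : R ⟶ U ×_M U`
is a surjection of sheaves. Then the induced map `U/R ⟶ M` is an isomorphism: `M` represents the
quotient sheaf. -/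
theorem result (S : Scheme.{u}) (R U M : AlgSp.Sp S)
    (hR : AlgSp.IsAlgSpace R) (hU : AlgSp.IsAlgSpace U) (hM : AlgSp.IsAlgSpace M) (s t : R ⟶ U)
    (q : U ⟶ M) (w : s ≫ q = t ≫ q) [Epi q] [Epi (pullback.lift t s w.symm : R ⟶ pullback q q)] :
    IsIso (AlgSp.quotSpDesc q w) := by
  haveI : Sheaf.IsLocallySurjective q :=
    (Sheaf.isLocallySurjective_iff_epi' (Type (u + 1)) q).2 inferInstance
  obtain ⟨l, hl⟩ := Groth.Agent.Lib.AlgSpace.exists_desc q (IsPullback.of_hasPullback q q)
    (AlgSp.quotSpπ s t) (by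
      rw [← cancel_epi (pullback.lift t s w.symm : R ⟶ pullback q q), pullback.lift_fst_assoc,
        pullback.lift_snd_assoc, AlgSp.quotSp_condition])
  haveI : Epi (AlgSp.quotSpπ s t) := coequalizer.π_epi
  refine ⟨l, ?_, ?_⟩
  · rw [← cancel_epi (AlgSp.quotSpπ s t), ← Category.assoc, AlgSp.quotSpπ_desc, hl]
    exact (Category.comp_id _).symm
  · rw [← cancel_epi q, ← Category.assoc, hl, AlgSp.quotSpπ_desc, Category.comp_id]

end Groth.Agent.S10113
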