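import Groth.Statements.S10116
import Groth.Agent.Lib.AlgSpMor.Sep
import Groth.Agent.Lib.AlgSpMor.QC
import Mathlib.CategoryTheory.Monoidal.Cartesian.Grp
import Mathlib.CategoryTheory.Monoidal.Cartesian.Over
-- import your own Groth.Agent.* helpers here

set_option autoImplicit false
universe u
open CategoryTheory CategoryTheory.Limits AlgebraicGeometry MonoidalCategory MonObj
open AlgSp

open Groth.Agent.Lib.AlgSpMor Groth.Agent.Lib.AlgSpace MonoidalCategory CartesianMonoidalCategory MonObj

namespace Groth.Agent.S10116

/-- Let `G` be a group algebraic space over an algebraic space `B` with unit `e : B ⟶ G`. Then `G ⟶ B`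
is separated if and only if `e` is a closed immersion, quasi-separated if and only if `e` is
quasi-compact, and if `G ⟶ B` is locally separated then `e` is an immersion. (The published
statement makes the last part an equivalence as well; this row states only that a locally separated
`G ⟶ B` has `e` an immersion.) -/
theorem result (S : Scheme.{u}) (B : AlgSp.Sp S) (hB : AlgSp.IsAlgSpace B)
    (G : Over B) [GrpObj G] (hG : AlgSp.IsAlgSpace G.left) :
    (AlgSp.IsSeparatedMor G.hom ↔ AlgSp.RepWith @IsClosedImmersion (η[G]).left) ∧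
      (AlgSp.IsQuasiSeparatedMor G.hom ↔ AlgSp.IsQuasiCompactMor (η[G]).left) ∧
      (AlgSp.IsLocallySeparatedMor G.hom → AlgSp.RepWith @IsImmersion (η[G]).left) := by
  let P : Over B := Over.mk (pullback.fst G.hom G.hom ≫ G.hom)
  let x₁ : P ⟶ G := Over.homMk (pullback.fst G.hom G.hom) rfl
  let x₂ : P ⟶ G := Over.homMk (pullback.snd G.hom G.hom) pullback.condition.symm
  let d : pullback G.hom G.hom ⟶ G.left := (x₁ * x₂⁻¹).left
  have hη : (η[G]).left ≫ G.hom = 𝟙 B := Over.w η[G]
  have hsec := Sep.isPullback_section (T := B) G.hom (η[G]).left hη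
  have hd : d ≫ G.hom = pullback.fst G.hom G.hom ≫ G.hom := Over.w (x₁ * x₂⁻¹)
  have sq : IsPullback G.hom (pullback.diagonal G.hom) (η[G]).left d := by
    refine isPullback_of_yon ?_ (fun T c c' _ h ↦ ?_) fun T a b w ↦ ?_
    · let δ : G ⟶ P := Over.homMk (pullback.diagonal G.hom) (by simp [P])
      have e : δ ≫ (x₁ * x₂⁻¹) = 1 := by
        rw [MonObj.comp_mul, GrpObj.comp_inv, show δ ≫ x₁ = δ ≫ x₂ from
          Over.OverMorphism.ext ((pullback.diagonal_fst _).trans (pullback.diagonal_snd _).symm)]
        exact mul_inv_cancel _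
      exact (congr($(e).left)).symm
    · simpa using congr($h ≫ pullback.fst G.hom G.hom)
    · have ha : a = b ≫ pullback.fst G.hom G.hom ≫ G.hom := by
        rw [← hd, ← Category.assoc, ← w, Category.assoc, hη]
        exact (Category.comp_id a).symm
      let T' : Over B := Over.mk a
      let bT : T' ⟶ P := Over.homMk b ha.symm
      have e : bT ≫ (x₁ * x₂⁻¹) = 1 := Over.OverMorphism.ext (by
        rw [Hom.one_def, Over.comp_left, Over.comp_left]
        exact w.symm)
      rw [MonObj.comp_mul, GrpObj.comp_inv, mul_inv_eq_one] at e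
      refine ⟨b ≫ pullback.fst G.hom G.hom, by rw [Category.assoc]; exact ha.symm,
        pullback.hom_ext (by simp) ?_⟩
      rw [Category.assoc, pullback.diagonal_snd, Category.comp_id]
      exact congr($(e).left)
  refine ⟨⟨fun h ↦ repWith_baseChange hsec h, fun h ↦ ?_⟩, ⟨fun h ↦ ?_, fun h ↦ ?_⟩,
    fun h ↦ repWith_baseChange hsec h⟩
  · exact repWith_baseChange sq h
  · exact QC.isQuasiCompactMor_of_repWith (repWith_baseChange hsec h)
  · exact repWith_baseChange sq ((QC.repWith_quasiCompact_iff
      (representable_baseChange hsec (Sep.diagonal_props G.hom hG).1)).2 h)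

end Groth.Agent.S10116
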