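import Groth.Statements.S10118
import Groth.Agent.Lib.SpQuot.PseudoTorsor

set_option autoImplicit false
universe u
open CategoryTheory CategoryTheory.Limits AlgebraicGeometry MonoidalCategory MonObj
open AlgSp AlgSp.GAction

namespace Groth.Agent.S10118

/-- Let `X` be a pseudo-torsor under a group algebraic space `G` over an algebraic space `B`, where both
`G` and `X` are locally of finite type over `B`. Whenever `G ⟶ B` is unramified, `X ⟶ B` is
unramified too; likewise, local quasi-finiteness passes from `G ⟶ B` to `X ⟶ B`. -/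
theorem result (S : Scheme.{u}) (B : AlgSp.Sp S) (hB : AlgSp.IsAlgSpace B)
    (G X : Over B) [GrpObj G] (hG : AlgSp.IsAlgSpace G.left) (hX : AlgSp.IsAlgSpace X.left)
    (a : AlgSp.GAction G X) (ha : a.IsPseudoTorsor)
    (hGt : AlgSp.LocP @LocallyOfFiniteType G.hom) (hXt : AlgSp.LocP @LocallyOfFiniteType X.hom) :
    (AlgSp.LocP (@LocallyOfFiniteType ⊓ @FormallyUnramified) G.hom →
        AlgSp.LocP (@LocallyOfFiniteType ⊓ @FormallyUnramified) X.hom) ∧
      (AlgSp.LocP (@LocallyQuasiFinite ⊓ @LocallyOfFiniteType) G.hom →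
        AlgSp.LocP (@LocallyQuasiFinite ⊓ @LocallyOfFiniteType) X.hom) := by
  have hempty : ∀ {U V : Scheme.{u}} (h : U ⟶ V) (v : V), v ∉ Set.range h →
      IsOpenImmersion (h.fiberToSpecResidueField v) := fun h v hv => by
    have : IsEmpty ↥(h.fiber v) := ⟨fun z => hv ⟨(h.fiberHomeo v z).1, (h.fiberHomeo v z).2⟩⟩
    infer_instance
  constructor
  · intro hP U V p q h hp hq w
    have hlft : LocallyOfFiniteType h.left := hXt p q h hp hq w
    have h2 := Groth.Agent.Lib.SpQuot.prop_snd_of_chart Groth.Agent.Lib.AlgSpMor.LocP.unramified hB hG hX a ha hP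
      hp hq w
    refine ⟨hlft, Groth.Agent.Lib.GrpSch.formallyUnramified_of_fibres h.left fun v => ?_⟩
    by_cases hv : v ∈ Set.range h.left
    · exact Groth.Agent.Lib.SpQuot.fiber_of_snd (P := @FormallyUnramified) h.left h2.2 v hv
    · have := hempty h.left v hv
      infer_instance
  · intro hP U V p q h hp hq w
    have hlft : LocallyOfFiniteType h.left := hXt p q h hp hq w
    have h2 := Groth.Agent.Lib.SpQuot.prop_snd_of_chart Groth.Agent.Lib.AlgSpMor.LocP.lqfLft hB hG hX a ha hP
      hp hq w
    refine ⟨LocallyQuasiFinite.of_fiberToSpecResidueField (f := h.left) fun v => ?_, hlft⟩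
    by_cases hv : v ∈ Set.range h.left
    · have := Groth.Agent.Lib.EtSite.QuasiFiniteDescent.descendsAlong_locallyQuasiFinite
      exact Groth.Agent.Lib.SpQuot.fiber_of_snd (P := @LocallyQuasiFinite) h.left h2.1 v hv
    · have := hempty h.left v hv
      infer_instance


end Groth.Agent.S10118
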