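import Groth.Statements.S10122
import Groth.Agent.Lib.SpRel.Separation
import Groth.Agent.Lib.AlgSpace.Diag

set_option autoImplicit false
universe u
open CategoryTheory CategoryTheory.Limits AlgebraicGeometry
open AlgSp AlgSp.GroupoidSp

namespace Groth.Agent.S10122

/-- Let `(U, R, s, t, c)` be a groupoid in algebraic spaces over `B` with stabilizer `G ⟶ U` and unit
section `e : U ⟶ G`. Then (1) `j : R ⟶ U ×_B U` is separated iff `G ⟶ U` is separated iff `e` is a
closed immersion; (3) `j` is quasi-separated iff `G ⟶ U` is quasi-separated iff `e` is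
quasi-compact; (2) if `j` or `G ⟶ U` is locally separated then `e` is an immersion. The unit section
is written as any morphism `U ⟶ G` lifting the identity `e : U ⟶ R` of the groupoid. (The published
part (2) is a three-way equivalence; this row states only that `j` locally separated, or `G ⟶ U`
locally separated, implies that `e` is an immersion.) -/
theorem result (S : Scheme.{u}) (B : AlgSp.Sp S) (hB : AlgSp.IsAlgSpace B)
    (G : AlgSp.GroupoidSp B) (hU : AlgSp.IsAlgSpace G.U) (hR : AlgSp.IsAlgSpace G.R)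
    (eG : G.U ⟶ G.stabilizer) (heG : eG ≫ G.stabilizerι = G.e) :
    ((AlgSp.IsSeparatedMor G.j ↔ AlgSp.IsSeparatedMor G.stabilizerToU) ∧
        (AlgSp.IsSeparatedMor G.j ↔ AlgSp.RepWith @IsClosedImmersion eG)) ∧
      ((AlgSp.IsQuasiSeparatedMor G.j ↔ AlgSp.IsQuasiSeparatedMor G.stabilizerToU) ∧
        (AlgSp.IsQuasiSeparatedMor G.j ↔ AlgSp.IsQuasiCompactMor eG)) ∧
      ((AlgSp.IsLocallySeparatedMor G.j → AlgSp.RepWith @IsImmersion eG) ∧
        (AlgSp.IsLocallySeparatedMor G.stabilizerToU → AlgSp.RepWith @IsImmersion eG)) := by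
  have hj : ∀ {P : MorphismProperty Scheme.{u}}, RepWith P (pullback.diagonal G.j) →
      RepWith P (pullback.diagonal G.stabilizerToU) := fun h => Groth.Agent.Lib.SpRel.repWith_diagonal_stab G h
  have hs : ∀ {P : MorphismProperty Scheme.{u}}, RepWith P (pullback.diagonal G.stabilizerToU) → RepWith P eG :=
    fun h => Groth.Agent.Lib.SpRel.repWith_eG G heG h
  have he : ∀ {P : MorphismProperty Scheme.{u}}, RepWith P eG → RepWith P (pullback.diagonal G.j) :=
    fun h => Groth.Agent.Lib.SpRel.repWith_diagonal_j G heG h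
  have hUB : AlgSp.IsAlgSpace (pullback G.pU G.pU) :=
    Groth.Agent.Lib.AlgSpace.isAlgSpace_of_isPullback (IsPullback.of_hasPullback _ _) hB.diag hU hU
  have hrep : Representable eG := Groth.Agent.Lib.AlgSpace.representable_baseChange
    (Groth.Agent.Lib.AlgSpMor.Sep.isPullback_section G.stabilizerToU eG (Groth.Agent.Lib.SpRel.eG_comp G heG))
    (Groth.Agent.Lib.AlgSpMor.Sep.representable_diagonal _
      (Groth.Agent.Lib.AlgSpace.isAlgSpace_of_isPullback (IsPullback.of_hasPullback G.j G.diag) hUB.diag hR hU).diag)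
  have hqc := Groth.Agent.Lib.AlgSpMor.QC.repWith_quasiCompact_iff hrep
  exact ⟨⟨⟨hj, fun h => he (hs h)⟩, ⟨fun h => hs (hj h), he⟩⟩,
    ⟨⟨hj, fun h => he (hs h)⟩, ⟨fun h => hqc.1 (hs (hj h)), fun h => he (hqc.2 h)⟩⟩,
    fun h => hs (hj h), hs⟩


end Groth.Agent.S10122
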