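import Groth.Statements.S10123
import Groth.Agent.Lib.SpRel.Grpd
import Groth.Agent.Lib.AlgSpace.Diag
import Groth.Agent.Lib.AlgSpMor.LocP

set_option autoImplicit false
universe u
open CategoryTheory CategoryTheory.Limits AlgebraicGeometry
open AlgSp AlgSp.GroupoidSp

namespace Groth.Agent.S10123

/-- Let `(U', R', s', t', c')` be the restriction of a groupoid in algebraic spaces `(U, R, s, t, c)`
over `B` along `g : U' ⟶ U`. If `s, t, g` are locally of finite type (resp. locally of finite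
presentation, resp. flat) then so are `s', t'`. -/
theorem result (S : Scheme.{u}) (B : AlgSp.Sp S) (hB : AlgSp.IsAlgSpace B)
    (G G' : AlgSp.GroupoidSp B) (hU : AlgSp.IsAlgSpace G.U) (hR : AlgSp.IsAlgSpace G.R)
    (hU' : AlgSp.IsAlgSpace G'.U) (hR' : AlgSp.IsAlgSpace G'.R) (φ : AlgSp.GroupoidSp.Hom G' G)
    (hφ : φ.IsRestriction) :
    (AlgSp.LocP @LocallyOfFiniteType G.s → AlgSp.LocP @LocallyOfFiniteType G.t →
        AlgSp.LocP @LocallyOfFiniteType φ.fU →
        AlgSp.LocP @LocallyOfFiniteType G'.s ∧ AlgSp.LocP @LocallyOfFiniteType G'.t) ∧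
      (AlgSp.LocP @LocallyOfFinitePresentation G.s → AlgSp.LocP @LocallyOfFinitePresentation G.t →
        AlgSp.LocP @LocallyOfFinitePresentation φ.fU →
        AlgSp.LocP @LocallyOfFinitePresentation G'.s ∧ AlgSp.LocP @LocallyOfFinitePresentation G'.t) ∧
      (AlgSp.LocP @Flat G.s → AlgSp.LocP @Flat G.t → AlgSp.LocP @Flat φ.fU →
        AlgSp.LocP @Flat G'.s ∧ AlgSp.LocP @Flat G'.t) := by
  have key : ∀ {P : MorphismProperty Scheme.{u}}, Groth.Agent.Lib.SourceDescent.Scheme.EtaleLocalST P →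
      AlgSp.LocP P G.s → AlgSp.LocP P G.t → AlgSp.LocP P φ.fU → AlgSp.LocP P G'.s ∧ AlgSp.LocP P G'.t := by
    intro P hP hs ht hg
    have hQ : AlgSp.IsAlgSpace (pullback φ.fU G.t) :=
      Groth.Agent.Lib.AlgSpace.isAlgSpace_of_isPullback (IsPullback.of_hasPullback _ _) hU.diag hU' hR
    have h1 : AlgSp.LocP P (pullback.snd φ.fU G.t) :=
      Groth.Agent.Lib.AlgSpMor.LocP.locP_of_isPullback hP hU' hU hR (IsPullback.of_hasPullback _ _) hg
    have h2 : AlgSp.LocP P (pullback.snd φ.fU G.t ≫ G.s) :=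
      Groth.Agent.Lib.AlgSpMor.LocP.locP_comp hP hQ hR hU h1 hs
    have h3 : AlgSp.LocP P G'.s :=
      Groth.Agent.Lib.AlgSpMor.LocP.locP_of_isPullback hP hQ hU hU'
        (Groth.Agent.Lib.SpRel.isPullback_restriction hφ) h2
    refine ⟨h3, ?_⟩
    have sq : IsPullback G'.i G'.t G'.s (𝟙 G'.U) := by
      have hi : G'.i ≫ G'.i = 𝟙 G'.R := by
        have e := Groth.Agent.Lib.SpRel.inv_cmp_cancel G' (G'.i) (𝟙 G'.R)
          (by rw [Category.id_comp, G'.i_s]) (by rw [Groth.Agent.Lib.SpRel.inv_s, G'.comp_t])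
        have e2 := (Groth.Agent.Lib.SpRel.cmp_congr G' (rfl : G'.i ≫ G'.i = _)
          ((G'.i_comp (𝟙 G'.R) |> fun h => (Groth.Agent.Lib.SpRel.cmp_congr G'
            (Category.id_comp G'.i).symm rfl (by rw [Category.id_comp, G'.i_s])).trans h)) _).symm.trans e
        refine Eq.trans ?_ e2
        refine (G'.comp_e (G'.i ≫ G'.i)).symm.trans (Groth.Agent.Lib.SpRel.cmp_congr G' rfl ?_ _)
        rw [Category.id_comp, Category.assoc, reassoc_of% G'.i_s, ← Category.assoc, G'.i_t]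
      have : IsIso G'.i := ⟨G'.i, hi, hi⟩
      exact IsPullback.of_horiz_isIso ⟨by rw [G'.i_s]; exact (Category.comp_id _).symm⟩
    exact Groth.Agent.Lib.AlgSpMor.LocP.locP_of_isPullback hP hR' hU' hU' sq h3
  exact ⟨key Groth.Agent.Lib.SourceDescent.Scheme.locallyOfFiniteType,
    key Groth.Agent.Lib.SourceDescent.Scheme.locallyOfFinitePresentation,
    key Groth.Agent.Lib.SourceDescent.Scheme.flat⟩


end Groth.Agent.S10123
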