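import Groth.Statements.S10124
import Groth.Agent.Lib.SpRel.Grpd

set_option autoImplicit false
universe u
open CategoryTheory CategoryTheory.Limits AlgebraicGeometry
open AlgSp AlgSp.GroupoidSp

namespace Groth.Agent.S10124

open Groth.Agent.Lib.SpRel

variable {S : Scheme.{u}} {B : AlgSp.Sp S} (G : AlgSp.GroupoidSp B) {K : AlgSp.Sp S}

theorem cond₁ (p : K ⟶ G.R) : pullback.snd (p ≫ G.s) G.s ≫ G.s = ((pullback.fst (p ≫ G.s) G.s ≫ p) ≫ G.i) ≫ G.t := by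
  rw [inv_t, Category.assoc, pullback.condition]

theorem cond₂ {p q : K ⟶ G.R} (h : p ≫ G.t = q ≫ G.t) :
    cmp G (pullback.snd (p ≫ G.s) G.s) ((pullback.fst (p ≫ G.s) G.s ≫ p) ≫ G.i) (cond₁ G p) ≫ G.s =
      (pullback.fst (p ≫ G.s) G.s ≫ q) ≫ G.t := by
  rw [G.comp_s, inv_s, Category.assoc, h, Category.assoc]

noncomputable def fibMap {p q : K ⟶ G.R} (h : p ≫ G.t = q ≫ G.t) :
    pullback (p ≫ G.s) G.s ⟶ pullback (q ≫ G.s) G.s :=
  pullback.lift (pullback.fst (p ≫ G.s) G.s)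
    (cmp G (cmp G (pullback.snd (p ≫ G.s) G.s) ((pullback.fst (p ≫ G.s) G.s ≫ p) ≫ G.i) (cond₁ G p))
      (pullback.fst (p ≫ G.s) G.s ≫ q) (cond₂ G h))
    (by rw [G.comp_s, Category.assoc])

theorem fibMap_fst {p q : K ⟶ G.R} (h : p ≫ G.t = q ≫ G.t) :
    fibMap G h ≫ pullback.fst (q ≫ G.s) G.s = pullback.fst (p ≫ G.s) G.s := pullback.lift_fst _ _ _

theorem fibMap_comp {p q : K ⟶ G.R} (h : p ≫ G.t = q ≫ G.t) : fibMap G h ≫ fibMap G h.symm = 𝟙 _ := by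
  refine pullback.hom_ext ?_ ?_
  · rw [Category.assoc, fibMap_fst, fibMap_fst, Category.id_comp]
  · have e1 : fibMap G h ≫ pullback.snd (q ≫ G.s) G.s = _ := pullback.lift_snd _ _ _
    have e2 : fibMap G h.symm ≫ pullback.snd (p ≫ G.s) G.s = _ := pullback.lift_snd _ _ _
    rw [Category.assoc, e2, Category.id_comp, comp_cmp, cmp_congr G (comp_cmp G _ _ _ _) rfl]
    have a1 : fibMap G h ≫ (pullback.fst (q ≫ G.s) G.s ≫ q) ≫ G.i = (pullback.fst (p ≫ G.s) G.s ≫ q) ≫ G.i := by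
      rw [← Category.assoc, ← Category.assoc, fibMap_fst]
    have a2 : fibMap G h ≫ pullback.fst (q ≫ G.s) G.s ≫ p = pullback.fst (p ≫ G.s) G.s ≫ p := by
      rw [← Category.assoc, fibMap_fst]
    rw [cmp_congr G (cmp_congr G e1 a1 _) a2, cmp_congr G (cmp_cmp_inv G _ _ (cond₂ G h) _) rfl]
    exact cmp_inv_cmp G _ _ (cond₁ G p) _

/-- Let `(U, R, s, t, c)` be a groupoid in algebraic spaces over `B`, `K` a field and `r, r' : Spec K ⟶
R` with `t ∘ r = t ∘ r'`; put `u = s ∘ r`, `u' = s ∘ r'`. Then the fibres `Spec K ×_{u, U, s} R` and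
`Spec K ×_{u', U, s} R` are isomorphic as spaces over `Spec K` (existence of an isomorphism over
`Spec K`). -/
theorem result (S : Scheme.{u}) (B : AlgSp.Sp S) (hB : AlgSp.IsAlgSpace B)
    (G : AlgSp.GroupoidSp B) (hU : AlgSp.IsAlgSpace G.U) (hR : AlgSp.IsAlgSpace G.R)
    (K : Type u) [Field K] (σ : Spec (CommRingCat.of K) ⟶ S)
    (r r' : (AlgSp.yon S).obj (Over.mk σ) ⟶ G.R) (h : r ≫ G.t = r' ≫ G.t) :
    Nonempty (Over.mk (pullback.fst (r ≫ G.s) G.s) ≅ Over.mk (pullback.fst (r' ≫ G.s) G.s)) := by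
  exact ⟨Over.isoMk ⟨fibMap G h, fibMap G h.symm, fibMap_comp G h, fibMap_comp G h.symm⟩ (fibMap_fst G h)⟩

end Groth.Agent.S10124
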