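import Groth.Statements.S10128
import Groth.Agent.Lib.AlgSpDecent.DecentSection

set_option autoImplicit false
universe u
open CategoryTheory CategoryTheory.Limits AlgebraicGeometry
open AlgSp AlgSp.GroupoidSp

namespace Groth.Agent.S10128

open Groth.Agent.Lib Groth.Agent.Lib.AlgSpace

/-- Let `(U, R, s, t, c)` be a groupoid in algebraic spaces over `B` whose object space is `U = Spec k`,
with `k` a field, and assume `R` is a decent algebraic space. Then `R` is separated over the base
scheme `S`. (The published statement concludes that `R` is separated in the absolute sense; this row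
concludes that `R` is separated over `S`, which the absolute notion implies.) -/
theorem result (S : Scheme.{u}) (B : AlgSp.Sp S) (hB : AlgSp.IsAlgSpace B)
    (G : AlgSp.GroupoidSp B) (hR : AlgSp.IsAlgSpace G.R) (k : Type u) [Field k]
    (σ : Spec (CommRingCat.of k) ⟶ S) (eU : G.U ≅ (AlgSp.yon S).obj (Over.mk σ)) (hd : AlgSp.IsDecent G.R) :
    AlgSp.IsSeparatedSp G.R := by
  have he : RepWith @IsClosedImmersion G.e := by
    have h := AlgSpDecent.DecentSection.repWith_isClosedImmersion_section hR hd (G.s ≫ eU.hom) (eU.inv ≫ G.e)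
      (by rw [Category.assoc, ← Category.assoc G.e, G.e_s, Category.id_comp, eU.inv_hom_id])
    have sq : IsPullback eU.hom G.e (eU.inv ≫ G.e) (𝟙 G.R) := IsPullback.of_horiz_isIso ⟨by simp⟩
    exact repWith_baseChange sq h
  have hU : RepWith @IsClosedImmersion (Limits.diag G.U) := AlgSpMor.Perm.repWith_diag_of_mor _ eU.hom
    (AlgSpMor.Proper.isSeparatedMor_of_mono_repWith eU.hom) (AlgSpDecent.DecentSection.repWith_diag_yon_field σ)
  refine AlgSpMor.Perm.repWith_diag_of_mor _ G.s ?_ hU
  exact AlgSpDecent.DecentSection.repWith_diagonal_of_shear (IsPullback.of_hasPullback G.s G.t)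
    (AlgSpMor.OverField.isPullback_c G) G.e_s
    (δ := pullback.lift (G.t ≫ G.e) (𝟙 G.R) (by rw [Category.assoc, G.e_s, Category.comp_id, Category.id_comp]))
    (pullback.lift_fst _ _ _) (pullback.lift_snd _ _ _) (by simpa using G.e_comp (𝟙 G.R)) he

end Groth.Agent.S10128
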