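import Groth.Statements.S9969
import Groth.Agent.Lib.AlgSpMor.SchImage.Rep
-- import your own Groth.Agent.* helpers here

set_option autoImplicit false
universe u
open CategoryTheory CategoryTheory.Limits AlgebraicGeometry
open AlgSp

open AlgSp (yon RepWith)
open Groth.Agent.Lib.AlgSpace Groth.Agent.Lib.AlgSpMor Groth.Agent.Lib.AlgSpMor.SchImage

namespace Groth.Agent.S9969

/-- For a quasi-compact open subspace, scheme theoretic density is equivalent to the scheme theoretic
closure being everything. -/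
theorem result {S : Scheme.{u}} {U X : AlgSp.Space S} (j : U ⟶ X)
    (hj : AlgSp.RepWith @IsOpenImmersion j.hom) (hq : AlgSp.IsQuasiCompactMor j.hom) :
    AlgSp.IsSchDense j.hom ↔ AlgSp.IsSchImage j.hom (𝟙 X.obj) := by
  haveI : Mono j.hom := mono_of_repWith
    (fun _ _ g (_ : IsOpenImmersion g) ↦ (inferInstance : Mono g)) hj
  have hqc := (QC.repWith_quasiCompact_iff hj.rep).2 hq
  constructor
  · rintro ⟨-, V, φ, W, fst, he, hs, sq, hW⟩
    refine isSchImage_of_affine X.property (repWith_of_isIso _ _) fun T hT ξ hξ ↦ ?_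
    suffices h : kerAt j.hom ξ = ⊥ by
      rw [h]
      exact fun A b ↦ ⟨fun _ ↦ bot_le, fun _ ↦ ⟨_, Category.comp_id _⟩⟩
    obtain ⟨WT, wT, a, sqT, hwT⟩ := repWith_exists hj ξ
    rw [kerAt_eq_ker sqT]
    haveI : QuasiCompact W.ι := repWith_property hqc sq
    haveI : QuasiCompact wT.left := repWith_property hqc sqT
    obtain ⟨R, r₁, r₂, sqR⟩ := exists_isPullback_yon X.property.diag ξ φ
    haveI : Etale r₁.left := repWith_property he sqR.flip
    haveI : Surjective r₁.left := repWith_property hs sqR.flip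
    haveI : Etale r₂.left := repWith_property hξ sqR
    refine le_bot_iff.1 (le_of_family (ι := PUnit.{u + 1}) (fun _ ↦ r₁) (fun _ ↦ inferInstance)
      (fun x ↦ ⟨⟨⟩, r₁.left.surjective x⟩) fun _ ↦ ?_)
    have sqA := IsPullback.of_hasPullback wT r₁
    have sqB := IsPullback.of_hasPullback
      (Over.homMk W.ι rfl : Over.mk (W.ι ≫ V.hom) ⟶ V) r₂
    rw [← ker_of_isPullback (w := wT.left) (q := r₁.left) (sqA.map (Over.forget S)),
      Scheme.IdealSheafData.comap_bot]
    have h1 := (kerAt_eq_ker ((isPullback_yon sqA).paste_horiz sqT)).symm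
    have h2 := (kerAt_eq_ker ((isPullback_yon sqB).paste_horiz sq)).symm
    rw [← sqR.w, ← h1] at h2
    have h3 := ker_of_isPullback (w := W.ι) (q := r₂.left) (sqB.map (Over.forget S))
    rw [ker_ι_eq_bot hW, Scheme.IdealSheafData.comap_bot] at h3
    exact (h2.symm.trans h3).le
  · intro hI
    obtain ⟨κ, O, π, hO, he, hs⟩ := exists_sigma_atlas X.property
    obtain ⟨V, w, fst, sq, hw⟩ := repWith_exists hj π
    haveI : IsOpenImmersion w.left := hw
    obtain ⟨hqw, hcut⟩ := cut_ker_of_representable U.property X.property hq hj.rep X.property hI hO he sq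
    haveI := hqw
    have hbot : Cut (𝟙 X.obj) π ⊥ := fun A b ↦ ⟨fun _ ↦ bot_le, fun _ ↦ ⟨_, Category.comp_id _⟩⟩
    haveI : IsSchemeTheoreticallyDominant w.left := ⟨hcut.unique hbot⟩
    exact isSchDense_of_chart hj he hs sq (isSchematicallyDense_of_dominant w.left)

end Groth.Agent.S9969
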