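import Groth.Statements.S9972
import Groth.Agent.Lib.AlgSpMor.SchImage.Main
import Groth.Agent.Lib.AlgSpace.Props
-- import your own Groth.Agent.* helpers here

set_option autoImplicit false
universe u
open CategoryTheory CategoryTheory.Limits AlgebraicGeometry
open AlgSp

open AlgSp (yon RepWith)
open Groth.Agent.Lib.AlgSpace Groth.Agent.Lib.AlgSpMor Groth.Agent.Lib.AlgSpMor.SchImage

namespace Groth.Agent.S9972

/-- Two morphisms to an algebraic space separated over B that agree on an open subspace whose scheme
theoretic closure is everything are equal. -/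
theorem result {S : Scheme.{u}} {U X Y B : AlgSp.Space S} (q : Y ⟶ B)
    (hq : AlgSp.IsSeparatedMor q.hom) (f g : X ⟶ Y) (hfg : f ≫ q = g ≫ q) (j : U ⟶ X)
    (hj : AlgSp.RepWith @IsOpenImmersion j.hom) (hcl : AlgSp.IsSchImage j.hom (𝟙 X.obj)) (heq : j ≫ f = j ≫ g) :
    f = g := by
  have w : f.hom ≫ q.hom = g.hom ≫ q.hom := congrArg (·.hom) hfg
  let D := pullback.lift f.hom g.hom w
  have sqE := IsPullback.of_hasPullback (pullback.diagonal q.hom) D
  have hi : RepWith @IsClosedImmersion (pullback.snd (pullback.diagonal q.hom) D) :=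
    repWith_baseChange sqE hq
  have hE : AlgSp.IsAlgSpace (pullback (pullback.diagonal q.hom) D) :=
    isAlgSpace_of_isPullback sqE (isAlgSpace_of_isPullback (IsPullback.of_hasPullback q.hom q.hom)
      B.property.diag Y.property Y.property).diag Y.property X.property
  have heq' : j.hom ≫ f.hom = j.hom ≫ g.hom := congrArg (·.hom) heq
  obtain ⟨k, hk⟩ := hcl.2.2 _ hE hi ⟨pullback.lift (j.hom ≫ f.hom) j.hom (by
    apply pullback.hom_ext <;> simp only [D, Category.assoc, pullback.diagonal_fst, pullback.diagonal_snd, pullback.lift_fst, pullback.lift_snd, Category.comp_id, heq']), pullback.lift_snd _ _ _⟩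
  have h := congrArg (k ≫ ·) (pullback.condition (f := pullback.diagonal q.hom) (g := D))
  rw [reassoc_of% hk] at h
  have h1 := congrArg (· ≫ pullback.fst q.hom q.hom) h
  have h2 := congrArg (· ≫ pullback.snd q.hom q.hom) h
  simp only [Category.assoc, pullback.diagonal_fst, pullback.diagonal_snd, Category.comp_id,
    Category.id_comp, D, pullback.lift_fst, pullback.lift_snd] at h1 h2
  ext : 1
  exact h1.symm.trans h2

end Groth.Agent.S9972
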