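import Groth.Statements.S9973
import Groth.Agent.Lib.AlgSpMor.SchImage.DenseSpace
-- import your own Groth.Agent.* helpers here

set_option autoImplicit false
universe u
open CategoryTheory CategoryTheory.Limits AlgebraicGeometry
open AlgSp

open AlgSp (yon RepWith)
open Groth.Agent.Lib.AlgSpace Groth.Agent.Lib.AlgSpMor Groth.Agent.Lib.AlgSpMor.SchImage

namespace Groth.Agent.S9973

/-- The inverse image of a quasi-compact scheme theoretically dense open under a flat morphism of
algebraic spaces is scheme theoretically dense. -/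
theorem result {S : Scheme.{u}} {X Y V V' : AlgSp.Space S} (f : X ⟶ Y)
    (hf : AlgSp.LocP @Flat f.hom) (j : V ⟶ Y) (hj : AlgSp.IsSchDense j.hom) (hjq : AlgSp.IsQuasiCompactMor j.hom)
    (fst : V' ⟶ V) (jX : V' ⟶ X) (sq : IsPullback fst.hom jX.hom j.hom f.hom) : AlgSp.IsSchDense jX.hom := by
  have hjX : RepWith @IsOpenImmersion jX.hom := repWith_baseChange sq hj.1
  obtain ⟨C, φ₀, W₀, f₀, he₀, hs₀, sq₀, hW₀⟩ := hj.2
  obtain ⟨κ, O, π, -, he, hs⟩ := exists_sigma_atlas X.property
  obtain ⟨R, r, fc, sqR, hr⟩ := repWith_exists he₀ (π ≫ f.hom)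
  obtain ⟨g, rfl⟩ := (yon S).map_surjective fc
  have heR : RepWith @Etale ((yon S).map r ≫ π) :=
    repWith_comp (repWith_baseChange sqR he₀) he
  have hsR : RepWith @Surjective ((yon S).map r ≫ π) :=
    repWith_comp (repWith_baseChange sqR hs₀) hs
  haveI : Flat g.left := hf ((yon S).map r ≫ π) φ₀ g heR he₀ (by rw [Category.assoc, sqR.w])
  haveI : QuasiCompact W₀.ι := repWith_property ((QC.repWith_quasiCompact_iff hj.1.rep).2 hjq) sq₀
  haveI : IsSchemeTheoreticallyDominant W₀.ι := ⟨ker_ι_eq_bot hW₀⟩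
  obtain ⟨Q, l, q, sqQ, hl⟩ := repWith_exists hjX ((yon S).map r ≫ π)
  haveI : IsOpenImmersion l.left := hl
  have sqT : IsPullback (q ≫ fst.hom) ((yon S).map l) j.hom ((yon S).map g ≫ φ₀) := by
    have := sqQ.paste_horiz sq
    rwa [show ((yon S).map r ≫ π) ≫ f.hom = (yon S).map g ≫ φ₀ by
      rw [Category.assoc, sqR.w]] at this
  obtain ⟨k, hk⟩ := (yon S).map_surjective (sq₀.lift (q ≫ fst.hom) ((yon S).map (l ≫ g))
    (by rw [sqT.w, Functor.map_comp, Category.assoc]))
  have sqk : IsPullback ((yon S).map k) ((yon S).map l)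
      ((yon S).map (Over.homMk W₀.ι rfl : Over.mk (W₀.ι ≫ C.hom) ⟶ C)) ((yon S).map g) := by
    refine IsPullback.of_right (h₁₂ := f₀) (h₂₂ := φ₀) ?_ ?_ sq₀
    · rw [hk, sq₀.lift_fst]; exact sqT
    · rw [hk, sq₀.lift_snd, Functor.map_comp]
  have sqS : IsPullback k.left l.left W₀.ι g.left :=
    (IsPullback.of_map_of_faithful (yon S) sqk).map (Over.forget S)
  haveI : QuasiCompact l.left := MorphismProperty.of_isPullback (P := @QuasiCompact) sqS ‹_›
  haveI : IsSchemeTheoreticallyDominant l.left :=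
    IsSchemeTheoreticallyDominant.of_isPullback sqS
  exact isSchDense_of_chart hjX heR hsR sqQ (isSchematicallyDense_of_dominant l.left)

end Groth.Agent.S9973
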