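import Groth.Statements.S10129
import Groth.Agent.S9972
import Groth.Agent.S9973
import Groth.Agent.S9969
import Groth.Agent.Lib.AlgSpFpqc.FppfCover
import Groth.Agent.Lib.AlgSpMor.QC

set_option autoImplicit false
universe u
open CategoryTheory CategoryTheory.Limits AlgebraicGeometry
open AlgSp
set_option linter.style.haveILetI false

namespace Groth.Agent.S10129

/-- Consider morphisms `g : X ⟶ Z` and `f : X ⟶ Y` of algebraic spaces over `B`, with `Y ⟶ B` separated
and `g` surjective, flat and locally of finite presentation, and let `V ⊂ Z` be a scheme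
theoretically dense open subspace with `V ⟶ Z` quasi-compact such that `f` restricted to `g⁻¹(V)`
factors through `g⁻¹(V) ⟶ V`. Then `f` factors through `g`. (The published statement does not ask
the open immersion `V ⟶ Z` to be quasi-compact; the published proof pulls the scheme theoretic
density of `V` back along a flat morphism by a lemma that requires it, so this row assumes it.) -/
theorem result (S : Scheme.{u}) (B : AlgSp.Sp S) (hB : AlgSp.IsAlgSpace B)
    (X Y Z : AlgSp.Space S) (pX : X.obj ⟶ B) (pY : Y.obj ⟶ B) (pZ : Z.obj ⟶ B)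
    (f : X.obj ⟶ Y.obj) (g : X.obj ⟶ Z.obj) (hf : f ≫ pY = pX) (hg : g ≫ pZ = pX)
    (hY : AlgSp.IsSeparatedMor pY)
    (hgs : AlgSp.IsSurjectiveMor g) (hgf : AlgSp.LocP @Flat g) (hgp : AlgSp.LocP @LocallyOfFinitePresentation g)
    (V : AlgSp.Sp S) (v : V ⟶ Z.obj) (hv : AlgSp.IsSchDense v) (hvq : AlgSp.IsQuasiCompactMor v)
    (hfac : ∃ φ : V ⟶ Y.obj, pullback.fst g v ≫ f = pullback.snd g v ≫ φ) :
    ∃ h : Z.obj ⟶ Y.obj, g ≫ h = f := by
  have hV : AlgSp.IsAlgSpace V := Groth.Agent.Lib.AlgSpace.isAlgSpace_of_representable hv.1.1 Z.property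
  haveI : Sheaf.IsLocallySurjective g := by
    refine Groth.Agent.Lib.AlgSpace.isLocallySurjective_of_lift g fun T b => ?_
    obtain ⟨W, e, c, he1, he2, he3, hc⟩ := Groth.Agent.Lib.AlgSpFpqc.FppfCover.exists_scheme_pieces
      (ι := PUnit) (Xi := fun _ => X.obj) (g := fun _ => g)
      ⟨fun _ => ⟨hgf, hgp⟩, fun z => ⟨⟨⟩, hgs z⟩⟩ Z.property (fun _ => X.property) b
    haveI := he1 ⟨⟩
    haveI := he2 ⟨⟩
    haveI : Surjective (e ⟨⟩).left := ⟨fun z => by
      obtain ⟨⟨⟩, w, hw⟩ := he3 z
      exact ⟨w, hw⟩⟩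
    exact ⟨W ⟨⟩, e ⟨⟩, c ⟨⟩, Groth.Agent.Lib.AlgSpace.fppfCover_mk (e ⟨⟩).left, hc ⟨⟩⟩
  have sqR := IsPullback.of_hasPullback g g
  have hR : AlgSp.IsAlgSpace (pullback g g) :=
    Groth.Agent.Lib.AlgSpace.isAlgSpace_of_isPullback sqR Z.property.diag X.property X.property
  let h : pullback g g ⟶ Z.obj := pullback.fst g g ≫ g
  have sqW := IsPullback.of_hasPullback h v
  have hjW : AlgSp.RepWith @IsOpenImmersion (pullback.fst h v) :=
    Groth.Agent.Lib.AlgSpace.repWith_baseChange sqW.flip hv.1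
  have hW : AlgSp.IsAlgSpace (pullback h v) :=
    Groth.Agent.Lib.AlgSpace.isAlgSpace_of_representable hjW.1 hR
  have hflat : AlgSp.LocP @Flat h :=
    Groth.Agent.Lib.AlgSpMor.LocP.locP_comp Groth.Agent.Lib.SourceDescent.Scheme.flat hR X.property Z.property
      (Groth.Agent.Lib.AlgSpMor.LocP.locP_of_isPullback Groth.Agent.Lib.SourceDescent.Scheme.flat X.property Z.property X.property sqR.flip hgf) hgf
  have hd : AlgSp.IsSchDense (pullback.fst h v) :=
    Groth.Agent.S9973.result (X := ⟨_, hR⟩) (Y := Z) (V := ⟨V, hV⟩) (V' := ⟨_, hW⟩)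
      (ObjectProperty.homMk h) hflat (ObjectProperty.homMk v) hv hvq
      (ObjectProperty.homMk (pullback.snd h v)) (ObjectProperty.homMk (pullback.fst h v)) sqW.flip
  have hq : AlgSp.IsQuasiCompactMor (pullback.fst h v) :=
    Groth.Agent.Lib.AlgSpMor.QC.isQuasiCompactMor_of_repWith (Groth.Agent.Lib.AlgSpace.repWith_baseChange sqW.flip
      ((Groth.Agent.Lib.AlgSpMor.QC.repWith_quasiCompact_iff hv.1.1).2 hvq))
  have hcl := (Groth.Agent.S9969.result (U := ⟨_, hW⟩) (X := ⟨_, hR⟩) (ObjectProperty.homMk (pullback.fst h v))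
    hjW hq).1 hd
  obtain ⟨φ, hφ⟩ := hfac
  have key : pullback.fst g g ≫ f = pullback.snd g g ≫ f := by
    have := Groth.Agent.S9972.result (U := ⟨_, hW⟩) (X := ⟨_, hR⟩) (Y := Y) (B := ⟨B, hB⟩)
      (ObjectProperty.homMk pY) hY (ObjectProperty.homMk (pullback.fst g g ≫ f))
      (ObjectProperty.homMk (pullback.snd g g ≫ f))
      (ObjectProperty.hom_ext _ (by
        change (pullback.fst g g ≫ f) ≫ pY = (pullback.snd g g ≫ f) ≫ pY
        rw [Category.assoc, Category.assoc, hf, ← hg, pullback.condition_assoc]))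
      (ObjectProperty.homMk (pullback.fst h v)) hjW hcl
      (ObjectProperty.hom_ext _ (by
        change pullback.fst h v ≫ pullback.fst g g ≫ f = pullback.fst h v ≫ pullback.snd g g ≫ f
        have e1 : (pullback.fst h v ≫ pullback.fst g g) ≫ g = pullback.snd h v ≫ v := by
          rw [Category.assoc]; exact pullback.condition
        have e2 : (pullback.fst h v ≫ pullback.snd g g) ≫ g = pullback.snd h v ≫ v := by
          rw [Category.assoc, ← pullback.condition]; exact pullback.condition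
        have h1 := congrArg (fun k => pullback.lift (f := g) (g := v) _ _ e1 ≫ k) hφ
        have h2 := congrArg (fun k => pullback.lift (f := g) (g := v) _ _ e2 ≫ k) hφ
        simp only [pullback.lift_fst_assoc, pullback.lift_snd_assoc, Category.assoc] at h1 h2
        exact h1.trans h2.symm))
    exact congrArg (fun m => m.hom) this
  exact Groth.Agent.Lib.AlgSpace.exists_desc g sqR f key

end Groth.Agent.S10129
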