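import Groth.Statements.S10130
import Groth.Agent.Lib.SpRel.Points
import Groth.Agent.Lib.SpRel.Grpd
import Groth.Agent.Lib.AlgSpace.OpenSub

set_option autoImplicit false
universe u
open CategoryTheory CategoryTheory.Limits AlgebraicGeometry
open AlgSp AlgSp.GroupoidSp

namespace Groth.Agent.S10130

/-- Let `(U, R, s, t, c)` be a groupoid in algebraic spaces over `B` with `s, t` open. For every open
subspace `W ⊂ U`, the open subspace `s(t⁻¹(W))` of `U` is `R`-invariant. -/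
theorem result (S : Scheme.{u}) (B : AlgSp.Sp S) (hB : AlgSp.IsAlgSpace B)
    (G : AlgSp.GroupoidSp B) (hU : AlgSp.IsAlgSpace G.U) (hR : AlgSp.IsAlgSpace G.R)
    (hs : AlgSp.IsOpenMor G.s) (ht : AlgSp.IsOpenMor G.t)
    (W W' : AlgSp.Sp S) (w : W ⟶ G.U) (w' : W' ⟶ G.U)
    (hw : AlgSp.RepWith @IsOpenImmersion w) (hw' : AlgSp.RepWith @IsOpenImmersion w')
    (himg : Set.range (AlgSp.Points.map w') =
      AlgSp.Points.map G.s '' (AlgSp.Points.map G.t ⁻¹' Set.range (AlgSp.Points.map w))) :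
    G.IsInvariant w' := by
  intro T r
  have E := Groth.Agent.Lib.SpRel.points_rel_equivalence G.s G.t (Groth.Agent.Lib.SpRel.isPreEqvRel G)
  have hA : ∀ y : Points G.U, y ∈ Set.range (Points.map w') ↔ ∃ x ∈ Set.range (Points.map w),
      ∃ ρ, Points.map G.t ρ = x ∧ Points.map G.s ρ = y := by
    intro y
    rw [himg]
    exact ⟨fun ⟨ρ, h₁, h₂⟩ => ⟨_, h₁, ρ, rfl, h₂⟩, fun ⟨x, hx, ρ, h₁, h₂⟩ => ⟨ρ, Set.mem_preimage.2 (h₁.symm ▸ hx : Points.map G.t ρ ∈ Set.range (Points.map w)), h₂⟩⟩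
  have hB : ∀ a : (yon S).obj T ⟶ G.U, (∃ b : (yon S).obj T ⟶ W', b ≫ w' = a) ↔
      ∀ τ : ↥T.left, Points.ofPt a τ ∈ Set.range (Points.map w') := by
    intro a
    refine ⟨?_, fun h => Groth.Agent.Lib.AlgSpace.exists_lift_yon_of_range_subset hw' a (Set.range_subset_iff.2 h)⟩
    rintro ⟨b, rfl⟩ τ
    exact ⟨_, Points.map_ofPt b w' τ⟩
  rw [hB, hB]
  refine forall_congr' fun τ => ?_
  have hr : ∃ ρ, Points.map G.t ρ = Points.ofPt (r ≫ G.t) τ ∧ Points.map G.s ρ = Points.ofPt (r ≫ G.s) τ :=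
    ⟨Points.ofPt r τ, Points.map_ofPt r G.t τ, Points.map_ofPt r G.s τ⟩
  rw [hA, hA]
  exact ⟨fun ⟨x, hx, h⟩ => ⟨x, hx, E.trans h hr⟩, fun ⟨x, hx, h⟩ => ⟨x, hx, E.trans h (E.symm hr)⟩⟩

end Groth.Agent.S10130
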