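import Groth.Statements.S10131
import Groth.Agent.Lib.AlgSpMor.QC
import Groth.Agent.Lib.AlgSpace.OpenSubExists
-- import your own Groth.Agent.* helpers here

set_option autoImplicit false
universe u
open CategoryTheory CategoryTheory.Limits AlgebraicGeometry
open AlgSp AlgSp.GroupoidSp

open Groth.Agent.Lib.AlgSpMor Groth.Agent.Lib.AlgSpace

namespace Groth.Agent.S10131

/-- Let `(U, R, s, t, c)` be a groupoid in algebraic spaces over `B` with `s, t` open and quasi-compact.
Then `U` has an open covering by `R`-invariant quasi-compact open subspaces. -/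
theorem result (S : Scheme.{u}) (B : AlgSp.Sp S) (hB : AlgSp.IsAlgSpace B)
    (G : AlgSp.GroupoidSp B) (hU : AlgSp.IsAlgSpace G.U) (hR : AlgSp.IsAlgSpace G.R)
    (hs : AlgSp.IsOpenMor G.s ∧ AlgSp.IsQuasiCompactMor G.s) (ht : AlgSp.IsOpenMor G.t ∧ AlgSp.IsQuasiCompactMor G.t)
    (x : AlgSp.Points G.U) :
    ∃ (W : AlgSp.Sp S) (w : W ⟶ G.U), AlgSp.RepWith @IsOpenImmersion w ∧ G.IsInvariant w ∧
      AlgSp.IsQuasiCompactSp W ∧ x ∈ Set.range (AlgSp.Points.map w) := by
  obtain ⟨U₀, a, ha, has⟩ := hU.atlas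
  obtain ⟨u, rfl⟩ := surjective_ofPt has x
  obtain ⟨O, hO, huO, -⟩ := exists_isAffineOpen_mem_and_subset (x := u) (U := (⊤ : U₀.left.Opens)) trivial
  let W₀ : Set (Points G.U) := Points.ofPt a '' (O : Set U₀.left)
  have hW₀c : IsCompact W₀ := hO.isCompact.image (Points.continuous_ofPt a)
  obtain ⟨F₀, j, hF₀, hj, (hjr : Set.range (Points.map j) = W₀)⟩ :=
    exists_open_subspace hU (isOpenMap_ofPt ha _ O.2)
  have : CompactSpace (Points F₀) :=
    ⟨(isOpenEmbedding_map hj).isEmbedding.isCompact_iff.2 (by rw [Set.image_univ, hjr]; exact hW₀c)⟩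
  have sq := IsPullback.of_hasPullback G.s j
  have := QC.compactSpace_points (hs.2 hF₀ ((QC.isQuasiCompactSp_iff hF₀).2 this) j _ _ sq)
  have hpre : Points.map G.s ⁻¹' W₀ = Set.range (Points.map (pullback.fst G.s j)) := by
    ext ρ
    constructor
    · intro h
      rw [Set.mem_preimage, ← hjr] at h
      obtain ⟨w, hw⟩ := h
      obtain ⟨z, hz, -⟩ := exists_of_isPullback sq ρ w hw.symm
      exact ⟨z, hz⟩
    · rintro ⟨z, rfl⟩
      rw [Set.mem_preimage, ← hjr, ← Points.map_comp, sq.w, Points.map_comp]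
      exact ⟨_, rfl⟩
  let Ω : Set (Points G.U) := Points.map G.t '' (Points.map G.s ⁻¹' W₀)
  have hΩo : IsOpen Ω :=
    ht.1 _ ((isOpenMap_ofPt ha _ O.2).preimage (Points.continuous_map _))
  have hΩc : IsCompact Ω := by
    refine IsCompact.image ?_ (Points.continuous_map _)
    rw [hpre]
    exact isCompact_range (Points.continuous_map _)
  obtain ⟨W, w, hW, hw, hwr⟩ := exists_open_subspace hU hΩo
  have hc : CompactSpace (Points W) :=
    ⟨(isOpenEmbedding_map hw).isEmbedding.isCompact_iff.2 (by rw [Set.image_univ, hwr]; exact hΩc)⟩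
  have hcomp : ∀ ρ : Points G.R, Points.map G.s ρ ∈ Ω → Points.map G.t ρ ∈ Ω := by
    rintro ρ ⟨ρ', hρ', e⟩
    obtain ⟨z, hz₁, hz₂⟩ :=
      exists_of_isPullback (IsPullback.of_hasPullback G.s G.t) ρ ρ' e.symm
    have el : pullback.lift (pullback.fst G.s G.t) (pullback.snd G.s G.t) pullback.condition =
        𝟙 (pullback G.s G.t) := by
      apply pullback.hom_ext <;> simp [pullback.lift_fst, pullback.lift_snd]
    have hcs := G.comp_s (pullback.fst G.s G.t) (pullback.snd G.s G.t) pullback.condition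
    have hct := G.comp_t (pullback.fst G.s G.t) (pullback.snd G.s G.t) pullback.condition
    rw [el, Category.id_comp] at hcs hct
    refine ⟨Points.map G.c z, ?_, ?_⟩
    · rw [Set.mem_preimage, ← Points.map_comp, hcs, Points.map_comp, hz₂]
      exact hρ'
    · rw [← Points.map_comp, hct, Points.map_comp, hz₁]
  have hiff : ∀ ρ : Points G.R, Points.map G.t ρ ∈ Ω ↔ Points.map G.s ρ ∈ Ω := fun ρ ↦
    ⟨fun h ↦ by
      have := hcomp (Points.map G.i ρ) (by rwa [← Points.map_comp, G.i_s])
      rwa [← Points.map_comp, G.i_t] at this, hcomp ρ⟩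
  refine ⟨W, w, hw, fun T r ↦ ?_, (QC.isQuasiCompactSp_iff hW).2 hc, ?_⟩
  · rw [exists_lift_iff_range_subset hw, exists_lift_iff_range_subset hw, hwr,
      Set.range_subset_iff, Set.range_subset_iff]
    exact forall_congr' fun p ↦ by rw [Points.map_comp, Points.map_comp]; exact hiff _
  · rw [hwr]
    refine ⟨Points.map G.e (Points.ofPt a u), ?_, ?_⟩
    · rw [Set.mem_preimage, ← Points.map_comp, G.e_s, Points.map_id]
      exact ⟨u, huO, rfl⟩
    · rw [← Points.map_comp, G.e_t, Points.map_id]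

end Groth.Agent.S10131
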