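import Groth.Statements.S10132
import Groth.Agent.Lib.SpRel.Grpd
import Groth.Agent.Lib.AlgSpMor.OverField
import Groth.Agent.Lib.AlgSpMor.Perm

set_option autoImplicit false
universe u
open CategoryTheory CategoryTheory.Limits AlgebraicGeometry
open AlgSp AlgSp.GroupoidSp

namespace Groth.Agent.S10132

/-- Let `(U, R, s, t, c)` be a groupoid in algebraic spaces over `B` whose object space is `U = Spec k`,
let `k ⊂ k'` be a field extension and `(U', R', s', t', c')` the restriction along `Spec k' ⟶ Spec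
k`. Then `s, t, s', t'`, `Spec k' ⟶ Spec k` and `R' ⟶ R` are surjective, flat and universally open,
and `R' ⟶ R` is moreover affine. (The published statement lists every arrow of the restriction
diagram; this row omits the six arrows through `R ×_{s,U} U'` and `U' ×_{U,t} R`, each a base change
of `s`, `t` or `Spec k' ⟶ Spec k`.) -/
theorem result (S : Scheme.{u}) (B : AlgSp.Sp S) (hB : AlgSp.IsAlgSpace B)
    (G G' : AlgSp.GroupoidSp B) (hR : AlgSp.IsAlgSpace G.R) (hR' : AlgSp.IsAlgSpace G'.R)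
    (k k' : Type u) [Field k] [Field k'] [Algebra k k'] (σ : Spec (CommRingCat.of k) ⟶ S)
    (eU : G.U ≅ ((AlgSp.yon S).obj (Over.mk σ)))
    (eU' : G'.U ≅ ((AlgSp.yon S).obj (Over.mk (Spec.map (CommRingCat.ofHom (algebraMap k k')) ≫ σ))))
    (φ : AlgSp.GroupoidSp.Hom G' G) (hφ : φ.IsRestriction)
    (hfU : φ.fU = eU'.hom ≫ (AlgSp.yon S).map (Over.homMk (Spec.map (CommRingCat.ofHom (algebraMap k k'))) rfl :
      Over.mk (Spec.map (CommRingCat.ofHom (algebraMap k k')) ≫ σ) ⟶ Over.mk σ) ≫ eU.inv) :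
    (∀ f ∈ [G.s, G.t], AlgSp.IsSurjectiveMor f ∧ AlgSp.LocP @Flat f ∧ AlgSp.IsUnivOpenMor f) ∧
      (∀ f ∈ [G'.s, G'.t], AlgSp.IsSurjectiveMor f ∧ AlgSp.LocP @Flat f ∧ AlgSp.IsUnivOpenMor f) ∧
      (AlgSp.IsSurjectiveMor φ.fU ∧ AlgSp.LocP @Flat φ.fU ∧ AlgSp.IsUnivOpenMor φ.fU) ∧
      (AlgSp.IsSurjectiveMor φ.fR ∧ AlgSp.LocP @Flat φ.fR ∧ AlgSp.IsUnivOpenMor φ.fR ∧ AlgSp.IsAffineMor φ.fR) := by
  have hst : ∀ (H : AlgSp.GroupoidSp B) (k₀ : Type u) [Field k₀] (σ₀ : Spec (CommRingCat.of k₀) ⟶ S)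
      (e₀ : H.U ≅ (AlgSp.yon S).obj (Over.mk σ₀)), AlgSp.IsAlgSpace H.R →
      ∀ f ∈ [H.s, H.t], AlgSp.IsSurjectiveMor f ∧ AlgSp.LocP @Flat f ∧ AlgSp.IsUnivOpenMor f := by
    intro H k₀ _ σ₀ e₀ hR₀ f hf
    obtain ⟨h1, h2⟩ := Groth.Agent.Lib.AlgSpMor.OverField.flat_and_univOpen_of_isPullback hR₀
      ((AlgSp.IsAlgSpace.yon_obj _).of_iso e₀.symm) e₀
      (IsPullback.of_horiz_isIso (fst := 𝟙 H.R) (snd := f) (f := f) (g := 𝟙 H.U) ⟨by simp⟩)
    refine ⟨?_, h1, h2⟩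
    intro y
    refine ⟨AlgSp.Points.map H.e y, ?_⟩
    rw [← AlgSp.Points.map_comp]
    simp only [List.mem_cons, List.not_mem_nil, or_false] at hf
    rcases hf with rfl | rfl
    · rw [H.e_s]; exact AlgSp.Points.map_id y
    · rw [H.e_t]; exact AlgSp.Points.map_id y
  let m : Over.mk (Spec.map (CommRingCat.ofHom (algebraMap k k')) ≫ σ) ⟶ Over.mk σ :=
    Over.homMk (Spec.map (CommRingCat.ofHom (algebraMap k k'))) rfl
  have hU : ∀ (P : MorphismProperty Scheme.{u}) [P.IsStableUnderBaseChange],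
      P (Spec.map (CommRingCat.ofHom (algebraMap k k'))) → AlgSp.RepWith P φ.fU := fun P _ h => by
    rw [hfU, Groth.Agent.Lib.AlgSpace.repWith_iso_comp_iff, Groth.Agent.Lib.AlgSpace.repWith_comp_iso_iff]
    exact (AlgSp.repWith_yon_map_iff P m).2 h
  have hR' : ∀ (P : MorphismProperty Scheme.{u}) [P.IsStableUnderBaseChange] [P.IsStableUnderComposition],
      AlgSp.RepWith P φ.fU → AlgSp.RepWith P φ.fR := fun P _ _ h => by
    have h2 := Groth.Agent.Lib.AlgSpace.repWith_baseChange (IsPullback.of_hasPullback φ.fU G.t) h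
    have h1 := Groth.Agent.Lib.AlgSpace.repWith_baseChange (Groth.Agent.Lib.SpRel.isPullback_restriction hφ).flip h
    have := Groth.Agent.Lib.AlgSpace.repWith_comp h1 h2
    rwa [Limits.pullback.lift_snd] at this
  have c1 : Surjective (Spec.map (CommRingCat.ofHom (algebraMap k k'))) :=
    ⟨fun p => ⟨(default : PrimeSpectrum k'), @Subsingleton.elim (PrimeSpectrum k) _ _ _⟩⟩
  have c2 : Flat (Spec.map (CommRingCat.ofHom (algebraMap k k'))) :=
    Flat.SpecMap_iff.mpr (RingHom.flat_algebraMap_iff.mpr inferInstance)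
  have c3 : UniversallyOpen (Spec.map (CommRingCat.ofHom (algebraMap k k'))) := inferInstance
  have c4 : IsAffineHom (Spec.map (CommRingCat.ofHom (algebraMap k k'))) := inferInstance
  refine ⟨hst G k σ eU hR, hst G' k' _ eU' ‹AlgSp.IsAlgSpace G'.R›, ⟨?_, ?_, ?_⟩, ?_, ?_, ?_, ?_⟩
  · exact Groth.Agent.Lib.AlgSpace.surjective_map (hU _ c1)
  · exact Groth.Agent.Lib.AlgSpMor.LocP.locP_of_repWith Groth.Agent.Lib.SourceDescent.Scheme.flat (hU _ c2)
  · exact Groth.Agent.Lib.AlgSpMor.UnivOpen.isUnivOpenMor_of_precomp (𝟙 _)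
      (fun y => ⟨y, AlgSp.Points.map_id y⟩) (by rw [Category.id_comp]; exact hU _ c3)
  · exact Groth.Agent.Lib.AlgSpace.surjective_map (hR' _ (hU _ c1))
  · exact Groth.Agent.Lib.AlgSpMor.LocP.locP_of_repWith Groth.Agent.Lib.SourceDescent.Scheme.flat (hR' _ (hU _ c2))
  · exact Groth.Agent.Lib.AlgSpMor.UnivOpen.isUnivOpenMor_of_precomp (𝟙 _)
      (fun y => ⟨y, AlgSp.Points.map_id y⟩) (by rw [Category.id_comp]; exact hR' _ (hU _ c3))
  · exact Groth.Agent.Lib.AlgSpMor.Perm.isAffineMor_of_repWith (P := @IsAffineHom) (fun _ _ _ h => h) (hR' _ (hU _ c4))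

end Groth.Agent.S10132
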