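import Groth.Statements.S1014
import Groth.Agent.Lib.Gen43.Extend

set_option autoImplicit false
universe u
open CategoryTheory CategoryTheory.Limits AlgebraicGeometry
attribute [local instance] HasDerivedCategory.standard
open Perf

namespace Groth.Agent.S1014

/-- Let X be an affine scheme, U a quasi-compact open subscheme and F a perfect object of D(O_U). Then F
⊕ F[1] extends to X as a perfect complex: there is a complex G of O_X-modules, perfect as an object
of D(O_X), whose termwise restriction to U is isomorphic in D(O_U) to F ⊕ F[1]. -/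
theorem result (X : Scheme.{u}) [IsAffine X] (U : X.Opens) (hU : IsCompact (U : Set X))
    (F : DCoh.D (U : Scheme.{u})) (hF : DCoh.IsPerfect F) [HasBinaryBiproduct F (F⟦(1 : ℤ)⟧)] :
    ∃ G : CochainComplex X.Modules ℤ, DCoh.IsPerfect (DCoh.toD X G) ∧
      Nonempty (DerivedCategory.Q.obj ((DCoh.restrictCx U).obj G) ≅ F ⊞ F⟦(1 : ℤ)⟧) := by
  obtain ⟨G, hG, -, ⟨e⟩⟩ := Groth.Agent.Lib.Gen43.Extend.exists_extension hU (T' := ⊥)
    (by rw [TopologicalSpace.Opens.coe_bot]; exact isCompact_empty) hF (fun i x hx => hx.elim)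
  obtain ⟨K, ⟨eK⟩⟩ : ∃ K, Nonempty (DerivedCategory.Q.obj K ≅ G) :=
    ⟨_, ⟨DerivedCategory.Q.objObjPreimageIso G⟩⟩
  exact ⟨K, Groth.Agent.Lib.Perfect.Triangle.isPerfect_of_iso eK.symm hG,
    ⟨(Groth.Agent.Lib.Perfect.Basic.RDQ U.ι K).symm ≪≫ (DCoh.restrictD U.ι).mapIso eK ≪≫ e⟩⟩

end Groth.Agent.S1014
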