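import Groth.Statements.S10141
import Groth.Agent.Lib.AlgSpace.QuotGrpd

set_option autoImplicit false
universe u
open CategoryTheory CategoryTheory.Limits AlgebraicGeometry
open AlgSp

namespace Groth.Agent.S10141

open Groth.Agent.Lib Groth.Agent.Lib.AlgSpace

/-- Let `(U, R, s, t, c)` be a groupoid scheme over `S` and `g : U' ⟶ U` a morphism such that the
composite `h : U' ×_{g, U, t} R ⟶ R ⟶ U` of the projection with `s` has open image `W ⊂ U` and `h :
U' ×_{g, U, t} R ⟶ W` is a surjection of fppf sheaves. Then for the restriction `R' = R|_{U'}` the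
map of fppf quotient sheaves `U'/R' ⟶ U/R` is representable and an open immersion. -/
theorem result (S : Scheme.{u}) (G : Grpd.GroupoidScheme S)
    (U' : Scheme.{u}) (g : U' ⟶ G.U) (W : G.U.Opens)
    (hW : (W : Set ↥G.U) = Set.range ⇑(pullback.snd g G.t ≫ G.s))
    (hlift : pullback g G.t ⟶ ↑W) (hh : hlift ≫ W.ι = pullback.snd g G.t ≫ G.s)
    (hsurj : Sheaf.IsLocallySurjective ((AlgSp.yon S).map
      (Over.homMk hlift ((Category.assoc _ _ _).symm.trans (congrArg (· ≫ G.pU) hh)) :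
        Over.mk ((pullback.snd g G.t ≫ G.s) ≫ G.pU) ⟶ Over.mk (W.ι ≫ G.pU))))
    (R' : Over S) (s' t' : R' ⟶ Over.mk (g ≫ G.pU)) (r : R' ⟶ Over.mk G.pR)
    (hsq : IsPullback (prod.lift t' s') r
      (prod.map (Over.homMk g rfl : Over.mk (g ≫ G.pU) ⟶ Over.mk G.pU) (Over.homMk g rfl : Over.mk (g ≫ G.pU) ⟶ Over.mk G.pU))
      (prod.lift (Over.homMk G.t G.t_over : Over.mk G.pR ⟶ Over.mk G.pU) (Over.homMk G.s G.s_over : Over.mk G.pR ⟶ Over.mk G.pU)))
    (ψ : QuotSh.quot Scheme.fppfPrecoverage s' t' ⟶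
      QuotSh.quot Scheme.fppfPrecoverage (Over.homMk G.s G.s_over : Over.mk G.pR ⟶ Over.mk G.pU) (Over.homMk G.t G.t_over : Over.mk G.pR ⟶ Over.mk G.pU))
    (hψ : QuotSh.quotπ Scheme.fppfPrecoverage s' t' ≫ ψ =
      QuotSh.repMap Scheme.fppfPrecoverage (Over.homMk g rfl : Over.mk (g ≫ G.pU) ⟶ Over.mk G.pU) ≫ QuotSh.quotπ Scheme.fppfPrecoverage _ _) :
    AlgSp.RepWith @IsOpenImmersion ψ := by
  let sO : Over.mk G.pR ⟶ Over.mk G.pU := Over.homMk G.s G.s_over
  let tO : Over.mk G.pR ⟶ Over.mk G.pU := Over.homMk G.t G.t_over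
  let gO : Over.mk (g ≫ G.pU) ⟶ Over.mk G.pU := Over.homMk g rfl
  have hrel : ∀ T : Over S, Equivalence fun a b : T ⟶ Over.mk G.pU ↦
      ∃ r : T ⟶ Over.mk G.pR, r ≫ tO = a ∧ r ≫ sO = b := fun T ↦ by
    refine ⟨fun a ↦ ⟨Over.homMk (a.left ≫ G.e) ?_, ?_, ?_⟩, ?_, ?_⟩
    · change (a.left ≫ G.e) ≫ G.pR = T.hom
      rw [← G.s_over, Category.assoc, reassoc_of% G.e_s]
      exact Over.w a
    · ext
      change (a.left ≫ G.e) ≫ G.t = a.left
      rw [Category.assoc, G.e_t]
      exact Category.comp_id _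
    · ext
      change (a.left ≫ G.e) ≫ G.s = a.left
      rw [Category.assoc, G.e_s]
      exact Category.comp_id _
    · rintro a b ⟨r, rfl, rfl⟩
      refine ⟨Over.homMk (r.left ≫ G.i) ?_, ?_, ?_⟩
      · change (r.left ≫ G.i) ≫ G.pR = T.hom
        refine (Category.assoc _ _ _).trans ((congrArg (r.left ≫ ·) ?_).trans (Over.w r))
        exact (congrArg (G.i ≫ ·) G.s_over.symm).trans
          ((Category.assoc _ _ _).symm.trans ((congrArg (· ≫ G.pU) G.i_s).trans G.t_over))
      · ext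
        change (r.left ≫ G.i) ≫ G.t = r.left ≫ G.s
        rw [Category.assoc, G.i_t]
      · ext
        change (r.left ≫ G.i) ≫ G.s = r.left ≫ G.t
        rw [Category.assoc, G.i_s]
    · rintro a b c ⟨r, rfl, rfl⟩ ⟨r', h, rfl⟩
      have h' : r.left ≫ G.s = r'.left ≫ G.t := (congr($(h).left)).symm
      refine ⟨Over.homMk (pullback.lift r.left r'.left h' ≫ G.c) ?_, ?_, ?_⟩
      · change (pullback.lift r.left r'.left h' ≫ G.c) ≫ G.pR = T.hom
        exact (congrArg ((pullback.lift r.left r'.left h' ≫ G.c) ≫ ·) G.s_over.symm).trans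
          ((Category.assoc _ _ _).symm.trans ((congrArg (· ≫ G.pU) (G.comp_s _ _ h')).trans
            ((Category.assoc _ _ _).trans ((congrArg (r'.left ≫ ·) G.s_over).trans (Over.w r')))))
      · ext
        exact G.comp_t _ _ h'
      · ext
        exact G.comp_s _ _ h'
  haveI := isLocallySurjective_quotMap sO tO
  haveI := isLocallySurjective_quotMap s' t'
  haveI := hsurj
  haveI : IsOpenImmersion (Over.Hom.left (Over.homMk W.ι rfl : Over.mk (W.ι ≫ G.pU) ⟶ Over.mk G.pU)) :=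
    inferInstanceAs (IsOpenImmersion W.ι)
  refine repWith_isOpenImmersion_of_restrict' (s := sO) (t := tO) (g := gO) (π := quotMap sO tO)
    (π' := quotMap s' t') (quotMap_condition sO tO)
    (fun T a b h ↦ exists_rel_of_quotMap_eq hrel a b h) (quotMap_condition s' t') hsq ?_
    (a := Over.homMk (U := Over.mk ((pullback.snd g G.t ≫ G.s) ≫ G.pU)) (pullback.fst g G.t) ?_)
    (b := Over.homMk (pullback.snd g G.t) ?_) ?_
    (WO := Over.mk (W.ι ≫ G.pU)) (w := Over.homMk W.ι rfl)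
    (c := Over.homMk hlift ((Category.assoc _ _ _).symm.trans (congrArg (· ≫ G.pU) hh))) ?_
  · simp only [quotMap, Category.assoc, gO, hψ, repIso_inv_repMap_assoc, sO, tO]
  · change pullback.fst g G.t ≫ g ≫ G.pU = (pullback.snd g G.t ≫ G.s) ≫ G.pU
    rw [pullback.condition_assoc, Category.assoc, G.s_over, G.t_over]
  · change pullback.snd g G.t ≫ G.pR = (pullback.snd g G.t ≫ G.s) ≫ G.pU
    rw [Category.assoc, G.s_over]
  · exact IsPullback.of_map (Over.forget S) (Over.OverMorphism.ext pullback.condition)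
      (IsPullback.of_hasPullback g G.t)
  · exact Over.OverMorphism.ext hh

end Groth.Agent.S10141
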