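import Groth.Statements.S10145
import Groth.Agent.Lib.SpRel.Grpd

set_option autoImplicit false
universe u
open CategoryTheory CategoryTheory.Limits AlgebraicGeometry
open AlgSp AlgSp.GroupoidSp

namespace Groth.Agent.S10145

open Groth.Agent.Lib.SpRel

/-- Let `(U, R, s, t, c)` be a groupoid in algebraic spaces over `B` whose object space is `U = Spec k`,
and let `r : Spec k ⟶ R` be such that `s ∘ r` and `t ∘ r` are automorphisms of `Spec k`; write `a =
r ∘ (s ∘ r)⁻¹`, so that `s ∘ a = id` and `t ∘ a` is an automorphism. Then `R ⟶ R`, `f ↦ c(a ∘ t ∘ f,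
f)`, is an automorphism of `R` mapping `e` to `a` (the point `r`). -/
theorem result (S : Scheme.{u}) (B : AlgSp.Sp S) (hB : AlgSp.IsAlgSpace B)
    (G : AlgSp.GroupoidSp B) (hR : AlgSp.IsAlgSpace G.R) (k : Type u) [Field k]
    (σ : Spec (CommRingCat.of k) ⟶ S) (eU : G.U ≅ (AlgSp.yon S).obj (Over.mk σ))
    (a : G.U ⟶ G.R) (ha : a ≫ G.s = 𝟙 G.U) [IsIso (a ≫ G.t)] :
    IsIso (pullback.lift (G.t ≫ a) (𝟙 G.R) (((Category.assoc _ _ _).trans (congrArg (G.t ≫ ·) ha)).trans ((Category.comp_id _).trans (Category.id_comp _).symm)) ≫ G.c) ∧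
      G.e ≫ (pullback.lift (G.t ≫ a) (𝟙 G.R) (((Category.assoc _ _ _).trans (congrArg (G.t ≫ ·) ha)).trans ((Category.comp_id _).trans (Category.id_comp _).symm)) ≫ G.c) = a := by
  have hφ : (G.t ≫ a) ≫ G.s = 𝟙 G.R ≫ G.t := by rw [Category.assoc, ha, Category.comp_id, Category.id_comp]
  change IsIso (cmp G (G.t ≫ a) (𝟙 G.R) hφ) ∧ G.e ≫ cmp G (G.t ≫ a) (𝟙 G.R) hφ = a
  have hψ : ((G.t ≫ inv (a ≫ G.t) ≫ a) ≫ G.i) ≫ G.s = 𝟙 G.R ≫ G.t := by
    rw [inv_s, Category.assoc, Category.assoc, IsIso.inv_hom_id, Category.comp_id, Category.id_comp]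
  refine ⟨⟨cmp G ((G.t ≫ inv (a ≫ G.t) ≫ a) ≫ G.i) (𝟙 G.R) hψ, ?_, ?_⟩, ?_⟩
  · rw [comp_cmp]
    refine (cmp_congr G ?_ (Category.comp_id _) _).trans (inv_cmp_cancel G (G.t ≫ a) (𝟙 G.R) hφ ?_)
    · rw [← Category.assoc, ← Category.assoc, G.comp_t, Category.assoc G.t a G.t, Category.assoc G.t,
        ← Category.assoc (a ≫ G.t), IsIso.hom_inv_id, Category.id_comp]
    · rw [inv_s, G.comp_t]
  · rw [comp_cmp]
    refine (cmp_congr G ?_ (Category.comp_id _) _).trans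
      (cmp_inv_cancel G (G.t ≫ inv (a ≫ G.t) ≫ a) (𝟙 G.R) hψ ?_)
    · rw [← Category.assoc, G.comp_t, inv_t]
      simp only [Category.assoc, ha, Category.comp_id]
    · rw [G.comp_t, inv_t]
  · rw [comp_cmp]
    refine (cmp_congr G ?_ ?_ _).trans (G.comp_e a)
    · rw [← Category.assoc, G.e_t, Category.id_comp]
    · rw [Category.comp_id, ← Category.assoc, ha, Category.id_comp]

end Groth.Agent.S10145
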