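import Groth.Statements.S10146
import Groth.Agent.Lib.BigField.Basic
import Groth.Agent.Lib.SpRel.Grpd
import Groth.Agent.Lib.AlgSpace.Points

set_option autoImplicit false
universe u
open CategoryTheory CategoryTheory.Limits AlgebraicGeometry
open AlgSp AlgSp.GroupoidSp

namespace Groth.Agent.S10146

/-- Let `(U, R, s, t, c)` be a groupoid in algebraic spaces over `B` whose object space is `U = Spec k`.
For every point `r` of `R` there are an algebraically closed field extension `k'` of `k` and, on the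
restriction `(U', R', s', t', c')` along `Spec k' ⟶ Spec k`, a morphism `r' : Spec k' ⟶ R'` mapping
to `r` in `R` such that `s' ∘ r'` and `t' ∘ r'` are automorphisms of `Spec k'`. -/
theorem result (S : Scheme.{u}) (B : AlgSp.Sp S) (hB : AlgSp.IsAlgSpace B)
    (G : AlgSp.GroupoidSp B) (hR : AlgSp.IsAlgSpace G.R) (k : Type u) [Field k]
    (σ : Spec (CommRingCat.of k) ⟶ S) (eU : G.U ≅ (AlgSp.yon S).obj (Over.mk σ)) (r : AlgSp.Points G.R) :
    ∃ (k' : Type u) (_ : Field k') (_ : Algebra k k'), IsAlgClosed k' ∧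
      ∀ (G' : AlgSp.GroupoidSp B) (φ : AlgSp.GroupoidSp.Hom G' G), φ.IsRestriction → AlgSp.IsAlgSpace G'.R →
        ∀ (eU' : G'.U ≅ (AlgSp.yon S).obj (Over.mk (Spec.map (CommRingCat.ofHom (algebraMap k k')) ≫ σ))),
          φ.fU = eU'.hom ≫ (AlgSp.yon S).map (Over.homMk (Spec.map (CommRingCat.ofHom (algebraMap k k'))) rfl :
            Over.mk (Spec.map (CommRingCat.ofHom (algebraMap k k')) ≫ σ) ⟶ Over.mk σ) ≫ eU.inv →
          ∃ r' : G'.U ⟶ G'.R, (∀ x : AlgSp.Points G'.U, AlgSp.Points.map (r' ≫ φ.fR) x = r) ∧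
            IsIso (r' ≫ G'.s) ∧ IsIso (r' ≫ G'.t) := by
  induction r using AlgSp.Points.ind with | h p =>
  let x := Groth.Agent.Lib.AlgSpace.fieldPtHom p
  obtain ⟨α, hα⟩ := (AlgSp.yon S).map_surjective (x ≫ G.s ≫ eU.hom)
  obtain ⟨β, hβ⟩ := (AlgSp.yon S).map_surjective (x ≫ G.t ≫ eU.hom)
  obtain ⟨Ω, hΩf, hΩa, hΩalg, hK, hω⟩ := Groth.Agent.Lib.BigField.exists_big p.K
  let ι : p.K →+* Ω := algebraMap p.K Ω
  let a : k →+* Ω := ι.comp (Spec.preimage α.left).hom
  let b : k →+* Ω := ι.comp (Spec.preimage β.left).hom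
  letI : Algebra k Ω := a.toAlgebra
  obtain ⟨e, he⟩ := Groth.Agent.Lib.BigField.exists_equiv k Ω
    ((Cardinal.mk_le_of_injective (Spec.preimage α.left).hom.injective).trans_lt hK) hω a b
  refine ⟨Ω, hΩf, a.toAlgebra, hΩa, fun G' φ hφ _ eU' hfU => ?_⟩
  let T : Over S := Over.mk (Spec.map (CommRingCat.ofHom a) ≫ σ)
  have hsa : Spec.map (CommRingCat.ofHom ι) ≫ α.left = Spec.map (CommRingCat.ofHom a) := by
    conv_lhs => rw [← Spec.map_preimage α.left]
    rw [← Spec.map_comp]; rfl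
  have hsb : Spec.map (CommRingCat.ofHom ι) ≫ β.left = Spec.map (CommRingCat.ofHom b) := by
    conv_lhs => rw [← Spec.map_preimage β.left]
    rw [← Spec.map_comp]; rfl
  let q : T ⟶ p.pt := Over.homMk (Spec.map (CommRingCat.ofHom ι)) (by
    show Spec.map _ ≫ p.str = Spec.map (CommRingCat.ofHom a) ≫ σ
    rw [← hsa, Category.assoc]
    exact congrArg (_ ≫ ·) (Over.w α).symm)
  have hbσ : Spec.map (CommRingCat.ofHom b) ≫ σ = Spec.map (CommRingCat.ofHom a) ≫ σ := by
    rw [← hsb, Category.assoc]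
    exact (congrArg (_ ≫ ·) (Over.w β)).trans (Over.w q)
  have hea : Spec.map (CommRingCat.ofHom e.toRingHom) ≫ Spec.map (CommRingCat.ofHom a) =
      Spec.map (CommRingCat.ofHom b) := by
    rw [← Spec.map_comp]
    exact congrArg (fun g => Spec.map (CommRingCat.ofHom g)) (RingHom.ext he)
  let τ : T ⟶ T := Over.homMk (Spec.map (CommRingCat.ofHom e.toRingHom)) (by
    show Spec.map _ ≫ Spec.map (CommRingCat.ofHom a) ≫ σ = _
    rw [← Category.assoc, hea, hbσ]; rfl)
  haveI : IsIso τ := by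
    haveI : IsIso ((Over.forget S).map τ) :=
      inferInstanceAs (IsIso (Spec.map e.toCommRingCatIso.hom))
    exact isIso_of_reflects_iso τ (Over.forget S)
  let m : T ⟶ Over.mk σ := Over.homMk (Spec.map (CommRingCat.ofHom a)) rfl
  have hm : φ.fU = eU'.hom ≫ (AlgSp.yon S).map m ≫ eU.inv := hfU
  have hs : ((AlgSp.yon S).map q ≫ x) ≫ G.s = eU'.inv ≫ φ.fU := by
    rw [hm, Iso.inv_hom_id_assoc, Iso.eq_comp_inv, Category.assoc, Category.assoc, ← hα, ← Functor.map_comp]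
    exact congrArg _ (Over.OverMorphism.ext hsa)
  have ht : ((AlgSp.yon S).map q ≫ x) ≫ G.t = ((AlgSp.yon S).map τ ≫ eU'.inv) ≫ φ.fU := by
    rw [hm, Category.assoc _ eU'.inv, Iso.inv_hom_id_assoc, ← Category.assoc ((AlgSp.yon S).map τ),
      Iso.eq_comp_inv, Category.assoc, Category.assoc, ← hβ, ← Functor.map_comp, ← Functor.map_comp]
    exact congrArg _ (Over.OverMorphism.ext (hsb.trans hea.symm))
  obtain ⟨r', h₁, h₂, h₃⟩ := Groth.Agent.Lib.SpRel.exists_restriction_lift hφ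
    ((AlgSp.yon S).map τ ≫ eU'.inv) eU'.inv ((AlgSp.yon S).map q ≫ x) ht hs
  refine ⟨eU'.hom ≫ r', fun z => ?_, ?_, ?_⟩
  · obtain ⟨W, g, w, rfl⟩ := Groth.Agent.Lib.AlgSpace.exists_ofPt_eq z
    obtain ⟨c, hc⟩ := (AlgSp.yon S).map_surjective (g ≫ eU'.hom)
    rw [AlgSp.Points.map_ofPt, Category.assoc, h₃, ← Category.assoc, ← hc,
      Groth.Agent.Lib.AlgSpace.ofPt_yon_map_comp, Groth.Agent.Lib.AlgSpace.ofPt_yon_map_comp]
    exact Groth.Agent.Lib.AlgSpace.ofPt_fieldPtHom p _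
  · rw [Category.assoc, h₂, Iso.hom_inv_id]; infer_instance
  · rw [Category.assoc, h₁]; infer_instance

end Groth.Agent.S10146
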