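import Groth.Statements.S1015
import Groth.Agent.Lib.DerivedOX.RpushQCoh
import Groth.Agent.Lib.DerivedOX.OpenImm
import Groth.Agent.Lib.DerivedOX.Exists
import Groth.Agent.Lib.Perfect.Basic


set_option autoImplicit false
universe u
open CategoryTheory CategoryTheory.Limits AlgebraicGeometry
attribute [local instance] HasDerivedCategory.standard
open Perf

namespace Groth.Agent.S1015

/-- Let U ⊆ X be an open subscheme whose inclusion is quasi-compact. Every object F of D(O_U) with
quasi-coherent cohomology sheaves is the restriction of such an object on X: there is a complex G of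
O_X-modules with quasi-coherent cohomology sheaves whose termwise restriction to U is isomorphic to
F in D(O_U). -/
theorem result (X : Scheme.{u}) (U : X.Opens) [QuasiCompact U.ι]
    (F : DCoh.D (U : Scheme.{u})) (hF : DCoh.IsQCohD F) :
    ∃ G : CochainComplex X.Modules ℤ, DCoh.IsQCohD (DCoh.toD X G) ∧
      Nonempty (DerivedCategory.Q.obj ((DCoh.restrictCx U).obj G) ≅ F) := by
  haveI := Groth.Agent.Lib.DerivedOX.Exists.hasRpush U.ι
  let K : DCoh.D X := (DCoh.Rpush U.ι).obj F
  refine ⟨DerivedCategory.Q.objPreimage K, ?_, ⟨?_⟩⟩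
  · intro i
    exact ObjectProperty.prop_of_iso (SheafOfModules.isQuasicoherent X.ringCatSheaf)
      ((DerivedCategory.homologyFunctor X.Modules i).mapIso (DerivedCategory.Q.objObjPreimageIso K)).symm
      (Groth.Agent.Lib.DerivedOX.RpushQCoh.isQCohD_Rpush U.ι F hF i)
  · exact (Groth.Agent.Lib.Perfect.Basic.RDQ U.ι (DerivedCategory.Q.objPreimage K)).symm ≪≫
      (DCoh.restrictD U.ι).mapIso (DerivedCategory.Q.objObjPreimageIso K) ≪≫
      (Groth.Agent.Lib.DerivedOX.OpenImm.counitIso U.ι).app F

end Groth.Agent.S1015
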