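import Groth.Statements.S10155
import Groth.Agent.Lib.LinTop.Taut
import Groth.Agent.Lib.LinTop.Completion

set_option autoImplicit false
universe u v
open LinTop

namespace Groth.Agent.S10155

/-- Let φ : A → B be a taut homomorphism of linearly topologized rings with dense image. Assume A is
Hausdorff and complete with a countable fundamental system of open ideals and B is Hausdorff. Then φ
is surjective and open, so that B is the quotient of A by the closed ideal ker φ with the quotient
topology, and B is complete. -/
theorem result
    (A : Type u) [CommRing A] [UniformSpace A] [IsUniformAddGroup A] [IsTopologicalRing A]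
    [IsLinearTopology A A] [T2Space A] [CompleteSpace A] (hA : (nhds (0 : A)).IsCountablyGenerated)
    (B : Type v) [CommRing B] [UniformSpace B] [IsUniformAddGroup B] [IsTopologicalRing B]
    [IsLinearTopology B B] [T2Space B]
    (φ : A →+* B) (hφ : LinTop.IsTaut φ) (hd : DenseRange φ) :
    Function.Surjective φ ∧ IsOpenQuotientMap φ ∧ CompleteSpace B := by
  obtain ⟨S, hS, hopen, hsmall⟩ := Lib.LinTop.Completion.exists_antitone_basis (R := A) hA
  have hnear : ∀ n, closure (φ '' (S n : Set A)) ∈ nhds (0 : B) := fun n ↦ by
    rw [← Lib.LinTop.Completion.closure_map_eq φ hd]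
    exact Lib.LinTop.Basic.mem_nhds_zero (Lib.LinTop.Taut.isOpen_closure_map hφ (hopen n))
  obtain ⟨hop, hsurj⟩ := Lib.LinTop.Completion.isOpenMap_and_surjective φ.toAddMonoidHom hφ.1 hd
    (fun n ↦ (S n).toAddSubgroup) (fun i j h ↦ hS h) hopen hsmall hnear
  let g : A →+ UniformSpace.Completion B := UniformSpace.Completion.toCompl.comp φ.toAddMonoidHom
  have hg : Continuous g := (UniformSpace.Completion.continuous_coe B).comp hφ.1
  have hgd : DenseRange g :=
    UniformSpace.Completion.denseRange_coe.comp hd (UniformSpace.Completion.continuous_coe B)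
  obtain ⟨-, hgs⟩ := Lib.LinTop.Completion.isOpenMap_and_surjective g hg hgd
    (fun n ↦ (S n).toAddSubgroup) (fun i j h ↦ hS h) hopen hsmall (fun n ↦ by
      refine Filter.mem_of_superset (Lib.LinTop.Completion.closure_image_mem_nhds (hnear n)) ?_
      refine closure_minimal ?_ isClosed_closure
      refine (image_closure_subset_closure_image (UniformSpace.Completion.continuous_coe B)).trans ?_
      exact closure_mono (Set.image_image _ _ _).subset)
  refine ⟨hsurj, ⟨hsurj, hφ.1, hop⟩, ?_⟩
  rw [completeSpace_iff_isComplete_range (UniformSpace.Completion.isUniformInducing_coe B)]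
  have hr : Set.range ((↑) : B → UniformSpace.Completion B) = Set.univ :=
    Set.eq_univ_of_forall fun y ↦ (hgs y).elim fun a ha ↦ ⟨φ a, ha⟩
  rw [hr]
  exact complete_univ

end Groth.Agent.S10155
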