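import Groth.Statements.S10156
import Groth.Agent.Lib.LinTop.Taut

set_option autoImplicit false
universe u v w
open LinTop

namespace Groth.Agent.S10156

/-- Given pre-adic rings A, B, C and continuous ring maps ψ : B → C and φ : A → B, adicness of the
composite A → C implies that ψ is adic. -/
theorem result
    (A : Type u) [CommRing A] [TopologicalSpace A] [IsTopologicalRing A] (hA : LinTop.IsPreadic A)
    (B : Type v) [CommRing B] [TopologicalSpace B] [IsTopologicalRing B] (hB : LinTop.IsPreadic B)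
    (C : Type w) [CommRing C] [TopologicalSpace C] [IsTopologicalRing C] (hC : LinTop.IsPreadic C)
    (φ : A →+* B) (ψ : B →+* C) (hφ : Continuous φ) (hψ : Continuous ψ)
    (h : LinTop.IsAdicHom (ψ.comp φ)) : LinTop.IsAdicHom ψ := by
  obtain ⟨I, hI, hC'⟩ := h
  obtain ⟨K, hK⟩ := hB
  obtain ⟨hKo, hKb⟩ := isAdic_iff.mp hK
  have hK1 : IsOpen (K : Set B) := by simpa using hKo 1
  obtain ⟨m, -, hm⟩ := hI.2 _ ((hK1.preimage hφ).mem_nhds (by simp : (0 : A) ∈ φ ⁻¹' (K : Set B)))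
  have hpow : ((K ⊔ I.map φ) ^ (m + 1)) ≤ K := by
    rw [add_comm m 1]
    refine Ideal.sup_pow_add_le_pow_sup_pow.trans (sup_le (pow_one K).le ?_)
    rw [← Ideal.map_pow]
    exact Ideal.map_le_iff_le_comap.mpr hm
  refine ⟨K ⊔ I.map φ, ⟨Lib.LinTop.Basic.isOpen_of_le le_sup_left hK1, fun U hU ↦ ?_⟩, ?_⟩
  · obtain ⟨s, hs⟩ := hKb U hU
    refine ⟨(m + 1) * (s + 1), by positivity, fun x hx ↦ hs ?_⟩
    rw [pow_mul] at hx
    exact Ideal.pow_le_pow_right s.le_succ (Ideal.pow_right_mono hpow _ hx)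
  · obtain ⟨hLo, hLb⟩ := isAdic_iff.mp hC'
    refine isAdic_iff.mpr ⟨fun n ↦ Lib.LinTop.Basic.isOpen_of_le (Ideal.pow_right_mono ?_ n) (hLo n),
      fun U hU ↦ ?_⟩
    · rw [← Ideal.map_map]
      exact Ideal.map_mono le_sup_right
    · obtain ⟨n, hn⟩ := hLb U hU
      obtain ⟨s, hs⟩ := hKb _ (((hLo n).preimage hψ).mem_nhds (by simp : (0 : B) ∈ ψ ⁻¹' _))
      refine ⟨(m + 1) * s, fun x hx ↦ hn ?_⟩
      rw [← Ideal.map_pow, pow_mul] at hx
      exact Ideal.map_le_iff_le_comap.mpr (show ((K ⊔ I.map φ) ^ (m + 1)) ^ s ≤ _ from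
        (Ideal.pow_right_mono hpow s).trans fun y hy ↦ hs hy) hx

end Groth.Agent.S10156
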