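import Groth.Statements.S10157
import Groth.Agent.Lib.LinTop.Taut

set_option autoImplicit false
universe u v
open LinTop

namespace Groth.Agent.S10157

/-- A continuous adic homomorphism φ : A → B between pre-adic topological rings is taut. -/
theorem result
    (A : Type u) [CommRing A] [TopologicalSpace A] [IsTopologicalRing A] (hA : LinTop.IsPreadic A)
    (B : Type v) [CommRing B] [TopologicalSpace B] [IsTopologicalRing B] (hB : LinTop.IsPreadic B)
    (φ : A →+* B) (hφ : Continuous φ) (h : LinTop.IsAdicHom φ) : LinTop.IsTaut φ := by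
  obtain ⟨I, hI, hIB⟩ := h
  obtain ⟨hBo, hBb⟩ := isAdic_iff.mp hIB
  obtain ⟨hAo, hAb⟩ := isAdic_iff.mp (Lib.LinTop.Taut.isAdic_of_isIdealOfDefinition hA hI)
  refine ⟨hφ, fun I' hI' ↦ ?_, fun U hU ↦ ?_⟩
  · obtain ⟨n, hn⟩ := hAb _ (Lib.LinTop.Basic.mem_nhds_zero hI')
    refine Lib.LinTop.Basic.isOpen_of_le (J := (I'.map φ).closure)
      (le_trans ?_ (Lib.LinTop.Basic.le_closure _)) (hBo n)
    rw [← Ideal.map_pow]
    exact Ideal.map_mono hn
  · obtain ⟨n, hn⟩ := hBb U hU
    refine ⟨I ^ n, hAo n, subset_trans ?_ hn⟩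
    rw [Ideal.map_pow]
    exact (Lib.LinTop.Basic.isClosed_of_isOpen (hBo n)).closure_subset

end Groth.Agent.S10157
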