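import Groth.Statements.S10159
import Groth.Agent.Lib.LinTop.Taut

set_option autoImplicit false
universe u
open LinTop

namespace Groth.Agent.S10159

/-- For a ring A carrying a linear topology, the following four conditions are equivalent: (1) A is
weakly pre-adic; (2) there exist a pre-adic topological ring A' and a taut continuous ring
homomorphism A' → A (A' is taken in the universe of A, which suffices since A with an adic topology
serves); (3) A has an ideal of definition, and for at least one ideal of definition I every closure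
cl(I^n) with n ≥ 1 is open; (4) A has an ideal of definition, and for each of its ideals of
definition I every closure cl(I^n) with n ≥ 1 is open. -/
theorem result
    (A : Type u) [CommRing A] [TopologicalSpace A] [IsTopologicalRing A] [IsLinearTopology A A] :
    List.TFAE [LinTop.IsWeaklyPreadic A,
      ∃ (A' : Type u) (_ : CommRing A') (_ : TopologicalSpace A') (_ : IsTopologicalRing A')
        (φ : A' →+* A), LinTop.IsPreadic A' ∧ LinTop.IsTaut φ,
      LinTop.IsPreadmissible A ∧ ∃ I : Ideal A, LinTop.IsIdealOfDefinition A I ∧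
        ∀ n : ℕ, 0 < n → IsOpen (closure ((I ^ n : Ideal A) : Set A)),
      LinTop.IsPreadmissible A ∧ ∀ I : Ideal A, LinTop.IsIdealOfDefinition A I →
        ∀ n : ℕ, 0 < n → IsOpen (closure ((I ^ n : Ideal A) : Set A))] := by
  tfae_have 1 → 2 := by
    rintro ⟨hlin, I, hopen, hsmall⟩
    refine ⟨A, inferInstance, I.adicTopology, ?_, RingHom.id A, ⟨I, rfl⟩, ?_⟩
    · letI := I.adicTopology
      exact (I.nonarchimedean).toIsTopologicalRing
    · have hb := I.hasBasis_nhds_zero_adic
      refine ⟨?_, fun J hJ ↦ ?_, fun U hU ↦ ?_⟩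
      · refine @Continuous.mk _ _ I.adicTopology _ _ fun U hU ↦ ?_
        refine (@isOpen_iff_mem_nhds A I.adicTopology _).mpr fun a ha ↦ ?_
        obtain ⟨n, hn⟩ := hsmall ((fun x ↦ a + x) ⁻¹' U)
          ((continuous_const.add continuous_id).continuousAt.preimage_mem_nhds
            (by simpa using hU.mem_nhds ha))
        refine (I.hasBasis_nhds_adic a).mem_iff.mpr ⟨n, trivial, ?_⟩
        rintro _ ⟨x, hx, rfl⟩
        exact hn (subset_closure hx)
      · rw [Ideal.map_id]
        obtain ⟨n, -, hn⟩ := hb.mem_iff.mp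
          (@IsOpen.mem_nhds A I.adicTopology 0 (J : Set A) hJ J.zero_mem)
        exact Lib.LinTop.Basic.isOpen_of_le (I := (I ^ n).closure) (J := J.closure)
          (Lib.LinTop.Basic.closure_mono hn) (hopen n)
      · obtain ⟨n, hn⟩ := hsmall U hU
        refine ⟨I ^ n, (@isAdic_iff A _ I.adicTopology (I.nonarchimedean).toIsTopologicalRing I).mp rfl |>.1 n, ?_⟩
        rw [Ideal.map_id]
        exact hn
  tfae_have 2 → 4 := by
    rintro ⟨A', _, _, _, φ, hA', hφ⟩
    have := Lib.LinTop.Taut.isLinearTopology_of_isPreadic hA'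
    obtain ⟨J, hJ⟩ := hA'
    obtain ⟨hJo, hJb⟩ := isAdic_iff.mp hJ
    have hJ' : LinTop.IsWeaklyPreadic A' := ⟨inferInstance, J, fun n ↦ Lib.LinTop.Basic.isOpen_of_le
      (J := (J ^ n).closure) (Lib.LinTop.Basic.le_closure _) (hJo n), fun U hU ↦ by
        obtain ⟨n, hn⟩ := hJb U hU
        exact ⟨n, (Lib.LinTop.Basic.isClosed_of_isOpen (hJo n)).closure_subset.trans hn⟩⟩
    have hA := Lib.LinTop.Taut.isWeaklyPreadic_of_isTaut hφ hJ'
    exact ⟨Lib.LinTop.Taut.isPreadmissible_of_isWeaklyPreadic hA,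
      fun I hI n _ ↦ Lib.LinTop.Taut.isOpen_closure_pow hA hI.1 n⟩
  tfae_have 4 → 3 := by
    rintro ⟨⟨hlin, I, hI⟩, h⟩
    exact ⟨⟨hlin, I, hI⟩, I, hI, h I hI⟩
  tfae_have 3 → 1 := by
    rintro ⟨-, I, hI, h⟩
    refine ⟨inferInstance, I, fun n ↦ ?_, fun U hU ↦ ?_⟩
    · rcases Nat.eq_zero_or_pos n with rfl | hn
      · simp
      · exact h n hn
    · obtain ⟨J, hJ, hJU⟩ := Lib.LinTop.Basic.exists_open_ideal hU
      obtain ⟨n, hn⟩ := (Lib.LinTop.Basic.isIdealOfDefinition_iff.mp hI).2 J hJ
      exact ⟨n, (closure_minimal hn (Lib.LinTop.Basic.isClosed_of_isOpen hJ)).trans hJU⟩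
  tfae_finish

end Groth.Agent.S10159
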