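import Groth.Statements.S10160
import Groth.Agent.Lib.LinTop.Taut

set_option autoImplicit false
universe u
open LinTop

namespace Groth.Agent.S10160

/-- A weakly adic topological ring is admissible and has a countable fundamental system of open ideals. -/
theorem result
    (A : Type u) [CommRing A] [UniformSpace A] [IsUniformAddGroup A] [IsTopologicalRing A] (hA : LinTop.IsWeaklyAdic A) :
    LinTop.IsAdmissible A ∧ (nhds (0 : A)).IsCountablyGenerated := by
  obtain ⟨h, ht2, hc⟩ := hA
  refine ⟨⟨Lib.LinTop.Taut.isPreadmissible_of_isWeaklyPreadic h, ht2, hc⟩, ?_⟩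
  obtain ⟨-, I, hopen, hsmall⟩ := h
  refine Filter.HasBasis.isCountablyGenerated (p := fun _ : ℕ ↦ True)
    (s := fun n ↦ ((I ^ n).closure : Set A)) ⟨fun U ↦ ⟨fun hU ↦ ?_, ?_⟩⟩
  · exact (hsmall U hU).imp fun n hn ↦ ⟨trivial, hn⟩
  · rintro ⟨n, -, hn⟩
    exact Filter.mem_of_superset (Lib.LinTop.Basic.mem_nhds_zero (hopen n)) hn

end Groth.Agent.S10160
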