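import Groth.Statements.S10164
import Groth.Agent.Lib.LinTop.Taut
import Groth.Agent.Lib.LinTop.Complete

set_option autoImplicit false
universe u
open LinTop

namespace Groth.Agent.S10164

/-- Let A be weakly adic and I an ideal of definition of A with I/I₂ finitely generated, where I₂
denotes the closure of I^2 (here: I maps onto a finitely generated ideal of A/I₂). Then A is adic,
and some finitely generated ideal of A is an ideal of definition. -/
theorem result
    (A : Type u) [CommRing A] [UniformSpace A] [IsUniformAddGroup A] [IsTopologicalRing A] (hA : LinTop.IsWeaklyAdic A)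
    (I : Ideal A) (hI : LinTop.IsIdealOfDefinition A I)
    (hfg : (I.map (Ideal.Quotient.mk ((I ^ 2).closure))).FG) :
    LinTop.IsAdicRing A ∧ ∃ J : Ideal A, LinTop.IsIdealOfDefinition A J ∧ J.FG := by
  obtain ⟨hwp, ht2, hcs⟩ := hA
  have hlin := hwp.1
  have hL : ∀ n, IsOpen ((I ^ n).closure : Set A) := Lib.LinTop.Taut.isOpen_closure_pow hwp hI.1
  obtain ⟨J, hJfg, hJI, hJ⟩ := Lib.LinTop.Taut.exists_fg_le (Ideal.Quotient.mk (I ^ 2).closure) I ⊥
    hfg le_sup_left
  have hIJ : I ≤ J ⊔ (I ^ 2).closure := by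
    rw [sup_bot_eq, Ideal.map_le_iff_le_comap, Ideal.comap_map_of_surjective' _
      Ideal.Quotient.mk_surjective, Ideal.mk_ker] at hJ
    exact hJ
  have hle : ∀ {a b c : ℕ}, c ≤ a + b → (I ^ a).closure * (I ^ b).closure ≤ (I ^ c).closure :=
    fun {a b c} h ↦ (Lib.LinTop.Basic.closure_mul_le _ _).trans
      (Lib.LinTop.Basic.closure_mono (by rw [← pow_add]; exact Ideal.pow_le_pow_right h))
  have hJn : ∀ n, J ^ n ≤ (I ^ n).closure := fun n ↦
    (Ideal.pow_right_mono hJI n).trans (Lib.LinTop.Basic.le_closure _)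
  have h1 : ∀ n, I ^ n ≤ J ^ n ⊔ (I ^ (n + 1)).closure := by
    intro n
    induction n with
    | zero => simp
    | succ n ih =>
      rw [pow_succ I n]
      refine (mul_le_mul' ih hIJ).trans ?_
      rw [Ideal.sup_mul, Ideal.mul_sup, Ideal.mul_sup, ← pow_succ]
      refine sup_le (sup_le le_sup_left (le_sup_of_le_right ?_)) (sup_le (le_sup_of_le_right ?_) (le_sup_of_le_right ?_))
      · exact (mul_le_mul' (hJn n) le_rfl).trans (hle (by omega))
      · refine (mul_le_mul' le_rfl ((pow_one J).symm.le.trans (hJn 1))).trans (hle (by omega))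
      · exact hle (by omega)
  have h2 : ∀ n, (I ^ n).closure ≤ J ^ n ⊔ (I ^ (n + 1)).closure := fun n ↦
    Lib.LinTop.Basic.closure_le_of_isOpen (h1 n)
      (Lib.LinTop.Basic.isOpen_of_le le_sup_right (hL (n + 1)))
  have h3 : ∀ n k, (I ^ n).closure ≤ J ^ n ⊔ (I ^ (n + k)).closure := by
    intro n k
    induction k with
    | zero => exact le_sup_right
    | succ k ih => exact ih.trans (sup_le le_sup_left ((h2 (n + k)).trans
        (sup_le_sup (Ideal.pow_le_pow_right (by omega)) le_rfl)))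
  have hsmallI : ∀ U : Ideal A, IsOpen (U : Set A) → ∃ n, (I ^ n).closure ≤ U := fun U hU ↦ by
    obtain ⟨n, hn⟩ := (Lib.LinTop.Basic.isIdealOfDefinition_iff.mp hI).2 U hU
    exact ⟨n, Lib.LinTop.Basic.closure_le_of_isOpen hn hU⟩
  have h4 : ∀ n, (I ^ n).closure ≤ (J ^ n).closure := fun n x hx ↦
    Lib.LinTop.Basic.mem_closure_iff_forall.mpr fun U hU ↦ by
      obtain ⟨s, hs⟩ := hsmallI U hU
      exact sup_le_sup_left ((Lib.LinTop.Basic.closure_mono
        (Ideal.pow_le_pow_right (Nat.le_add_left s n))).trans hs) (J ^ n) (h3 n s hx)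
  have hsmall : ∀ U ∈ nhds (0 : A), ∃ n : ℕ, closure ((J ^ n : Ideal A) : Set A) ⊆ U := fun U hU ↦ by
    obtain ⟨V, hV, hVU⟩ := Lib.LinTop.Basic.exists_open_ideal hU
    obtain ⟨n, hn⟩ := hsmallI V hV
    exact ⟨n, fun x hx ↦ hVU (hn (Lib.LinTop.Basic.closure_mono (Ideal.pow_right_mono hJI n) hx))⟩
  have hadic : IsAdic J := Lib.LinTop.Complete.isAdic_of_fg hJfg
    (fun n ↦ Lib.LinTop.Basic.isOpen_of_le (J := (J ^ n).closure) (h4 n) (hL n)) hsmall
  refine ⟨⟨⟨J, hadic⟩, ht2, hcs⟩, J, Lib.LinTop.Basic.isIdealOfDefinition_iff.mpr ⟨?_, fun U hU ↦ ?_⟩, hJfg⟩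
  · simpa using (isAdic_iff.mp hadic).1 1
  · exact (isAdic_iff.mp hadic).2 _ (Lib.LinTop.Basic.mem_nhds_zero hU)

end Groth.Agent.S10164
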