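import Groth.Statements.S10166
import Groth.Agent.Lib.LinTop.Taut
import Groth.Agent.Lib.LinTop.Completion

set_option autoImplicit false
universe u v
open LinTop

namespace Groth.Agent.S10166

/-- Let φ : A → B be a taut homomorphism of linearly topologized rings such that for every open ideal I
of A, with J the closure of φ(I)B, the induced map A/I → B/J is faithfully flat. If B has a
countable fundamental system of open ideals, then so does A. -/
theorem result
    (A : Type u) [CommRing A] [TopologicalSpace A] [IsTopologicalRing A] [IsLinearTopology A A]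
    (B : Type v) [CommRing B] [TopologicalSpace B] [IsTopologicalRing B] [IsLinearTopology B B]
    (φ : A →+* B) (hφ : LinTop.IsTautFFlat φ) (hB : (nhds (0 : B)).IsCountablyGenerated) :
    (nhds (0 : A)).IsCountablyGenerated := by
  obtain ⟨V, hV, hopen, hsmall⟩ := Lib.LinTop.Completion.exists_antitone_basis (R := B) hB
  choose I hI hIV using fun n ↦ hφ.1.2.2 _ (Lib.LinTop.Basic.mem_nhds_zero (hopen n))
  refine Filter.HasBasis.isCountablyGenerated (p := fun _ : ℕ ↦ True)
    (s := fun n ↦ (I n : Set A)) ⟨fun U ↦ ⟨fun hU ↦ ?_, ?_⟩⟩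
  · obtain ⟨J, hJ, hJU⟩ := Lib.LinTop.Basic.exists_open_ideal hU
    obtain ⟨n, hn⟩ := hsmall _ (Lib.LinTop.Basic.mem_nhds_zero
      (Lib.LinTop.Taut.isOpen_closure_map hφ.1 hJ))
    refine ⟨n, trivial, fun x hx ↦ hJU (Lib.LinTop.Taut.comap_closure_map hφ hJ (hn ?_))⟩
    exact hIV n (subset_closure (Ideal.mem_map_of_mem φ hx))
  · rintro ⟨n, -, hn⟩
    exact Filter.mem_of_superset (Lib.LinTop.Basic.mem_nhds_zero (hI n)) hn

end Groth.Agent.S10166
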