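import Groth.Statements.S1017
import Groth.Agent.Lib.SchColim29.CohExtend

set_option autoImplicit false
set_option linter.style.haveILetI false
universe u
open CategoryTheory CategoryTheory.Limits AlgebraicGeometry
attribute [local instance] HasDerivedCategory.standard
open Perf
open Groth.Agent.Lib Groth.Agent.Lib.SchColim29

namespace Groth.Agent.S1017

/-- Let X be a Noetherian scheme and U ⊆ X an open subscheme. Every bounded object F of D(O_U) with
coherent cohomology sheaves is the restriction of such an object on X: there is a complex G of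
O_X-modules, bounded with coherent cohomology as an object of D(O_X), whose termwise restriction to
U is isomorphic to F in D(O_U). -/
theorem result (X : Scheme.{u}) [IsNoetherian X] (U : X.Opens)
    (F : DCoh.D (U : Scheme.{u})) (hF : DCoh.IsCohD F) (a b : ℤ) [F.IsGE a] [F.IsLE b] :
    ∃ (G : CochainComplex X.Modules ℤ) (a' b' : ℤ), DCoh.IsCohD (DCoh.toD X G) ∧ (DCoh.toD X G).IsGE a' ∧ (DCoh.toD X G).IsLE b' ∧
      Nonempty (DerivedCategory.Q.obj ((DCoh.restrictCx U).obj G) ≅ F) := by
  haveI : IsNoetherian (U : Scheme.{u}) :=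
    { toIsLocallyNoetherian := isLocallyNoetherian_of_isOpenImmersion U.ι
      toCompactSpace := isCompact_iff_compactSpace.1 (TopologicalSpace.NoetherianSpace.isCompact (U : Set X)) }
  obtain ⟨K₀, hge, hle, hq, ⟨eF⟩⟩ := QCohModel.exists_bounded_model F (fun i => (hF i).1) a b
  haveI := hge
  haveI := hle
  let R := Scheme.Modules.restrictFunctor U.ι
  let P := Scheme.Modules.pushforward U.ι
  let K : CochainComplex X.Modules ℤ := (P.mapHomologicalComplex (ComplexShape.up ℤ)).obj K₀
  haveI : IsIso (Scheme.Modules.restrictAdjunction U.ι).counit := inferInstance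
  let e : (Perfect.Basic.rC U.ι).obj K ≅ K₀ :=
    HomologicalComplex.Hom.isoOfComponents
      (fun n => (asIso (Scheme.Modules.restrictAdjunction U.ι).counit).app (K₀.X n))
      (fun i j _ => ((Scheme.Modules.restrictAdjunction U.ι).counit.naturality (K₀.d i j)).symm)
  haveI : K.IsStrictlyGE a := (CochainComplex.isStrictlyGE_iff _ _).2 fun i hi =>
    P.map_isZero (K₀.isZero_of_isStrictlyGE a i hi)
  haveI : K.IsStrictlyLE b := (CochainComplex.isStrictlyLE_iff _ _).2 fun i hi =>
    P.map_isZero (K₀.isZero_of_isStrictlyLE b i hi)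
  have hKq : ∀ n, (K.X n).IsQuasicoherent := fun n => by
    haveI := hq n
    exact QCoh.Pushforward.isQCoh_pushforward U.ι
  have hKc : ∀ n, Coh.IsCoh (((Perfect.Basic.rC U.ι).obj K).homology n) := fun n =>
    CohBasics.Closure.isCoh_of_iso
      ((DerivedCategory.homologyFunctor _ n).mapIso (eF.symm ≪≫ (DerivedCategory.Q.mapIso e).symm) ≪≫
        (DerivedCategory.homologyFunctorFactors _ n).app _) (hF n)
  obtain ⟨G, hG, hGge, hGle, ⟨eG⟩⟩ := CohExtend.exists_coh_model (U := U) (K := K) (b := b) hKc hKq a
  haveI := hGge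
  haveI := hGle
  haveI : G.IsGE a := inferInstance
  exact ⟨G, a, b + 1, hG, inferInstanceAs ((DerivedCategory.Q.obj G).IsGE a),
    inferInstanceAs ((DerivedCategory.Q.obj G).IsLE (b + 1)),
    ⟨eG ≪≫ DerivedCategory.Q.mapIso e ≪≫ eF⟩⟩

end Groth.Agent.S1017
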