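import Groth.Statements.S10170
import Groth.Agent.Lib.LinTop.Taut
import Groth.Agent.Lib.LinTop.Complete

set_option autoImplicit false
universe u v
open LinTop

namespace Groth.Agent.S10170

/-- Let φ : A → B be a taut homomorphism of linearly topologized rings such that for every open ideal I
of A the induced ring map A/I → B/J, where J denotes the closure of φ(I)B, is faithfully flat.
Suppose A is Hausdorff and complete, and B is adic with some finitely generated ideal of definition.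
Then A is adic, and some finitely generated ideal of A is an ideal of definition. -/
theorem result
    (A : Type u) [CommRing A] [UniformSpace A] [IsUniformAddGroup A] [IsTopologicalRing A] [IsLinearTopology A A] [T2Space A] [CompleteSpace A]
    (B : Type v) [CommRing B] [UniformSpace B] [IsUniformAddGroup B] [IsTopologicalRing B] (hB : LinTop.IsAdicRing B)
    (hJ : ∃ J : Ideal B, LinTop.IsIdealOfDefinition B J ∧ J.FG)
    (φ : A →+* B) (hφ : LinTop.IsTautFFlat φ) :
    LinTop.IsAdicRing A ∧ ∃ I : Ideal A, LinTop.IsIdealOfDefinition A I ∧ I.FG := by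
  obtain ⟨hBp, hBt, hBc⟩ := hB
  have := Lib.LinTop.Taut.isLinearTopology_of_isPreadic hBp
  obtain ⟨K, hK, hKfg⟩ := hJ
  obtain ⟨hKo, hKb⟩ := isAdic_iff.mp (Lib.LinTop.Taut.isAdic_of_isIdealOfDefinition hBp hK)
  obtain ⟨-, I, hI⟩ := Lib.LinTop.Taut.isPreadmissible_of_isTautFFlat hφ ⟨inferInstance, K, hK⟩
  obtain ⟨m, hm⟩ := hKb _ (Lib.LinTop.Basic.mem_nhds_zero
    (Lib.LinTop.Taut.isOpen_closure_map hφ.1 hI.1))
  have hm' : K ^ m ≤ I.map φ ⊔ K ^ (m + 1) := fun x hx ↦
    Lib.LinTop.Basic.closure_le_of_isOpen le_sup_left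
      (Lib.LinTop.Basic.isOpen_of_le le_sup_right (hKo (m + 1))) (hm hx)
  obtain ⟨I', hfg', hle', hsub⟩ := Lib.LinTop.Taut.exists_fg_le φ I (K ^ (m + 1))
    (hKfg.pow (n := m)) hm'
  have hstep : ∀ k, K ^ m ≤ I'.map φ ⊔ K ^ (m + k) := by
    intro k
    induction k with
    | zero => exact le_sup_right
    | succ k ih =>
      refine ih.trans (sup_le le_sup_left ?_)
      rw [pow_add]
      refine (mul_le_mul' hsub le_rfl).trans ?_
      rw [Ideal.sup_mul, ← pow_add]
      exact sup_le (le_sup_of_le_left Ideal.mul_le_left)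
        (le_sup_of_le_right (Ideal.pow_le_pow_right (by omega)))
  have hcl : K ^ m ≤ (I'.map φ).closure := fun x hx ↦
    Lib.LinTop.Basic.mem_closure_iff_forall.mpr fun U hU ↦ by
      obtain ⟨s, hs⟩ := hKb _ (Lib.LinTop.Basic.mem_nhds_zero hU)
      exact sup_le_sup_left (show K ^ (m + s) ≤ U from
        (Ideal.pow_le_pow_right (Nat.le_add_left s m)).trans hs) _ (hstep s hx)
  have hopen : ∀ n, IsOpen ((I' ^ n).closure : Set A) := fun n ↦ by
    refine Lib.LinTop.Taut.isOpen_closure_of hφ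
      (Lib.LinTop.Basic.isOpen_of_le (I := (K ^ m) ^ n) ?_ (by rw [← pow_mul]; exact hKo _))
    rw [Ideal.map_pow]
    exact (Ideal.pow_right_mono hcl n).trans (Lib.LinTop.Basic.closure_pow_le _ n)
  have hsmall : ∀ U ∈ nhds (0 : A), ∃ n : ℕ, closure ((I' ^ n : Ideal A) : Set A) ⊆ U := fun U hU ↦ by
    obtain ⟨V, hV, hVU⟩ := Lib.LinTop.Basic.exists_open_ideal hU
    obtain ⟨n, hn⟩ := (Lib.LinTop.Basic.isIdealOfDefinition_iff.mp hI).2 V hV
    exact ⟨n, fun x hx ↦ hVU (Lib.LinTop.Basic.closure_le_of_isOpen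
      ((Ideal.pow_right_mono hle' n).trans hn) hV hx)⟩
  have hadic : IsAdic I' := Lib.LinTop.Complete.isAdic_of_fg hfg' hopen hsmall
  refine ⟨⟨⟨I', hadic⟩, inferInstance, inferInstance⟩, I',
    Lib.LinTop.Basic.isIdealOfDefinition_iff.mpr ⟨?_, fun U hU ↦ ?_⟩, hfg'⟩
  · simpa using (isAdic_iff.mp hadic).1 1
  · exact (isAdic_iff.mp hadic).2 _ (Lib.LinTop.Basic.mem_nhds_zero hU)

end Groth.Agent.S10170
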