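import Groth.Statements.S10173
import Groth.Agent.Lib.LinTop.AdicModule

set_option autoImplicit false
universe u v
open LinTop

namespace Groth.Agent.S10173

/-- Let R be a commutative ring, I a finitely generated ideal and M a topological R-module (additive
uniform structure, each scalar acting uniformly continuously) having an open submodule M' whose
topology is the I-adic one, i.e. the I^n M' are open in M and form a fundamental system of
neighbourhoods of 0. Then the separated completion M^ has an open submodule whose topology is I-adic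
in the same sense, and for every n ≥ 1 the map M → M^/I^n M^ is surjective with kernel I^n M,
identifying M^/I^n M^ with M/I^n M. -/
theorem result
    {R : Type u} [CommRing R] (I : Ideal R) (hI : I.FG)
    {M : Type v} [AddCommGroup M] [Module R M] [UniformSpace M] [IsUniformAddGroup M]
    [UniformContinuousConstSMul R M]
    (M' : Submodule R M) (hopen : ∀ n : ℕ, IsOpen ((I ^ n • M' : Submodule R M) : Set M))
    (hbasis : ∀ U ∈ nhds (0 : M), ∃ n : ℕ, ((I ^ n • M' : Submodule R M) : Set M) ⊆ U) :
    (∃ M'' : Submodule R (UniformSpace.Completion M),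
        (∀ n : ℕ, IsOpen ((I ^ n • M'' : Submodule R (UniformSpace.Completion M)) :
          Set (UniformSpace.Completion M))) ∧
        ∀ U ∈ nhds (0 : UniformSpace.Completion M), ∃ n : ℕ,
          ((I ^ n • M'' : Submodule R (UniformSpace.Completion M)) :
            Set (UniformSpace.Completion M)) ⊆ U) ∧
      ∀ n : ℕ, 0 < n →
        Function.Surjective ((QuotientAddGroup.mk' (I ^ n • ⊤ : Submodule R (UniformSpace.Completion M)).toAddSubgroup).comp
          (UniformSpace.Completion.toCompl : M →+ UniformSpace.Completion M)) ∧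
        ((QuotientAddGroup.mk' (I ^ n • ⊤ : Submodule R (UniformSpace.Completion M)).toAddSubgroup).comp
          (UniformSpace.Completion.toCompl : M →+ UniformSpace.Completion M)).ker = (I ^ n • ⊤ : Submodule R M).toAddSubgroup := by
  open Lib.LinTop.AdicModule in
  refine ⟨⟨H I M' 0, fun n ↦ ?_, fun U hU ↦ ?_⟩, fun n _ ↦ ⟨fun z ↦ ?_, ?_⟩⟩
  · rw [pow_smul_H_zero I M' hopen hbasis hI n]
    exact AddSubgroup.isOpen_of_mem_nhds (Lib.LinTop.AdicModule.H I M' n).toAddSubgroup
      (H_mem_nhds I M' hopen n)
  · obtain ⟨n, hn⟩ := exists_H_subset I M' hopen hbasis hU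
    exact ⟨n, by rw [pow_smul_H_zero I M' hopen hbasis hI n]; exact hn⟩
  · obtain ⟨y, rfl⟩ := QuotientAddGroup.mk'_surjective _ z
    obtain ⟨m, hm⟩ := exists_sub_mem I M' hopen hbasis hI n y
    exact ⟨m, QuotientAddGroup.eq_iff_sub_mem.mpr hm⟩
  · ext m
    rw [AddMonoidHom.mem_ker, AddMonoidHom.comp_apply, QuotientAddGroup.mk'_apply,
      QuotientAddGroup.eq_zero_iff]
    exact coe_mem_pow_smul_iff I M' hopen n m

end Groth.Agent.S10173
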