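import Groth.Statements.S10180
import Groth.Agent.Lib.AlgSpace.OpenSub
import Mathlib.AlgebraicGeometry.Limits

set_option autoImplicit false
universe u
open CategoryTheory CategoryTheory.Limits AlgebraicGeometry Topology TopologicalSpace
open AlgSp

namespace Groth.Agent.S10180

/-- An algebraic space X over a scheme S is quasi-compact if and only if there exist an affine scheme U
over S and a representable etale, representable surjective map h_U ⟶ X. -/
theorem result {S : Scheme.{u}} (X : AlgSp.Space S) :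
    AlgSp.IsQuasiCompactSp X.obj ↔
      ∃ (U : Over S) (p : (AlgSp.yon S).obj U ⟶ X.obj),
        IsAffine U.left ∧ AlgSp.RepWith @Etale p ∧ AlgSp.RepWith @Surjective p := by
  constructor
  · rintro ⟨U, p, he, hs, (hc : CompactSpace ↥U.left)⟩
    have hcov : ∀ x : ↥U.left, ∃ O : U.left.affineOpens, x ∈ O.1 := fun x ↦ by
      obtain ⟨O, hO, hx, -⟩ := exists_isAffineOpen_mem_and_subset (U := ⊤) (Set.mem_univ x)
      exact ⟨⟨O, hO⟩, hx⟩
    choose O hO using hcov
    obtain ⟨s, hs'⟩ := isCompact_univ.elim_finite_subcover (fun x ↦ ((O x).1 : Set ↥U.left))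
      (fun x ↦ (O x).1.2) (fun x _ ↦ Set.mem_iUnion.2 ⟨x, hO x⟩)
    let O' : ↥s → U.left.Opens := fun x ↦ (O x.1).1
    have : ∀ i, IsAffine (O' i).toScheme := fun i ↦ (O i.1).2
    refine ⟨Groth.Agent.Lib.AlgSpace.opensSigma O', (AlgSp.yon S).map (Groth.Agent.Lib.AlgSpace.opensSigmaMap O') ≫ p,
      inferInstanceAs (IsAffine (∐ fun i ↦ (O' i).toScheme)), ?_, ?_⟩
    · exact Groth.Agent.Lib.AlgSpace.repWith_comp (Groth.Agent.Lib.AlgSpace.repWith_etale_yon_map (Groth.Agent.Lib.AlgSpace.etale_opensSigmaMap O')) he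
    · refine Groth.Agent.Lib.AlgSpace.repWith_comp (Groth.Agent.Lib.AlgSpace.repWith_surjective_yon_map
        (Groth.Agent.Lib.AlgSpace.surjective_opensSigmaMap O' fun x ↦ ?_)) hs
      obtain ⟨i, hi, hx⟩ := Set.mem_iUnion₂.1 (hs' (Set.mem_univ x))
      exact ⟨⟨i, hi⟩, hx⟩
  · rintro ⟨U, p, hU, he, hs⟩
    exact ⟨U, p, he, hs, (inferInstance : CompactSpace ↥U.left)⟩

end Groth.Agent.S10180
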