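import Groth.Statements.S10181
import Groth.Agent.Lib.AlgSpace.DiagProp
import Mathlib.AlgebraicGeometry.Morphisms.Separated

set_option autoImplicit false
universe u
open CategoryTheory CategoryTheory.Limits AlgebraicGeometry Topology TopologicalSpace
open AlgSp

namespace Groth.Agent.S10181

/-- Let X be an algebraic space over a scheme S and a : h_U ⟶ X a representable etale map from a scheme
U over S whose underlying scheme is separated. Then a is (representable and) separated, and the
scheme R = U ×_X U representing the fibre product h_U ×_X h_U is separated. -/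
theorem result {S : Scheme.{u}} (X : AlgSp.Space S) {U : Over S}
    (a : (AlgSp.yon S).obj U ⟶ X.obj) (ha : AlgSp.RepWith @Etale a) [U.left.IsSeparated] :
    AlgSp.RepWith @IsSeparated a ∧
      ∀ (R : Over S) (s t : R ⟶ U), IsPullback ((AlgSp.yon S).map t) ((AlgSp.yon S).map s) a a →
        R.left.IsSeparated := by
  have key : AlgSp.RepWith @IsSeparated a := by
    refine Groth.Agent.Lib.AlgSpace.repWith_of_exists fun T ξ ↦ ?_
    refine ⟨ha.rep.pullback ξ, ha.rep.snd ξ, ha.rep.fst ξ, ha.rep.isPullback ξ, ?_⟩
    let j := prod.lift (ha.rep.fst' ξ) (ha.rep.snd ξ)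
    have sq := Groth.Agent.Lib.AlgSpace.isPullback_diag_yonProd (ha.rep.isPullback' ξ)
    have hj : Mono j.left := Groth.Agent.Lib.AlgSpace.repWith_property
      (Groth.Agent.Lib.AlgSpace.repWith_diag_monomorphisms X.property.diag) sq
    have : IsSeparated U.hom := inferInstance
    have hp : IsSeparated (Limits.prod.snd : U ⨯ T ⟶ T).left := by
      rw [← Over.prodLeftIsoPullback_hom_snd]
      infer_instance
    have : (ha.rep.snd ξ).left = j.left ≫ (Limits.prod.snd : U ⨯ T ⟶ T).left := by
      rw [← Over.comp_left, Limits.prod.lift_snd]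
    rw [this]
    infer_instance
  refine ⟨key, fun R s t sq ↦ ?_⟩
  have : IsSeparated s.left := Groth.Agent.Lib.AlgSpace.repWith_property key sq
  exact ⟨(Limits.terminal.comp_from s.left) ▸
    (inferInstance : IsSeparated (s.left ≫ Limits.terminal.from U.left))⟩

end Groth.Agent.S10181
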