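import Groth.Statements.S10183
import Groth.Agent.Lib.AlgSpace.Points
import Groth.Agent.Lib.AlgSpace.Props

set_option autoImplicit false
universe u
open CategoryTheory CategoryTheory.Limits AlgebraicGeometry Topology TopologicalSpace
open AlgSp

namespace Groth.Agent.S10183

/-- Let X be an algebraic space over a scheme S, a : h_U ⟶ X a representable etale map from a scheme U
over S, and R a scheme over S with h_R = h_U ×_X h_U whose two projections s, t : R ⟶ U are
quasi-compact (for instance if a is quasi-compact). Then the maps |U| → |X| and |R| → |X| have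
finite fibres. -/
theorem result {S : Scheme.{u}} (X : AlgSp.Space S) {R U : Over S}
    (a : (AlgSp.yon S).obj U ⟶ X.obj) (ha : AlgSp.RepWith @Etale a) (s t : R ⟶ U)
    (hR : IsPullback ((AlgSp.yon S).map t) ((AlgSp.yon S).map s) a a)
    [QuasiCompact s.left] [QuasiCompact t.left] (x : AlgSp.Points X.obj) :
    (AlgSp.Points.ofPt a ⁻¹' {x}).Finite ∧
      (AlgSp.Points.ofPt ((AlgSp.yon S).map t ≫ a) ⁻¹' {x}).Finite := by
  have : Etale t.left := Groth.Agent.Lib.AlgSpace.repWith_property ha hR.flip
  have : Etale s.left := Groth.Agent.Lib.AlgSpace.repWith_property ha hR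
  have : LocallyQuasiFinite t.left := Groth.Agent.Lib.AlgSpace.locallyQuasiFinite_of_etale t.left
  have h1 : (AlgSp.Points.ofPt a ⁻¹' {x}).Finite := by
    rcases (AlgSp.Points.ofPt a ⁻¹' {x}).eq_empty_or_nonempty with h | ⟨u, hu⟩
    · rw [h]; exact Set.finite_empty
    · refine ((t.left.finite_preimage_singleton u).image s.left).subset fun v hv ↦ ?_
      obtain ⟨r, hr1, hr2⟩ := (Groth.Agent.Lib.AlgSpace.ofPt_eq_ofPt_iff_of_isPullback hR u v).1
        ((hu : AlgSp.Points.ofPt a u = x).trans (hv : AlgSp.Points.ofPt a v = x).symm)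
      exact ⟨r, hr1, hr2⟩
  refine ⟨h1, ?_⟩
  refine (t.left.finite_preimage h1).subset fun r hr ↦ ?_
  exact (Groth.Agent.Lib.AlgSpace.ofPt_yon_map_comp t a r).symm.trans hr

end Groth.Agent.S10183
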