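import Groth.Statements.S10188
import Groth.Agent.Lib.AlgSpace.Points
import Mathlib.AlgebraicGeometry.Sites.Etale

set_option autoImplicit false
universe u
open CategoryTheory CategoryTheory.Limits AlgebraicGeometry Topology TopologicalSpace
open AlgSp

namespace Groth.Agent.S10188

/-- Let P be a property of schemes that is local in the etale topology (for every scheme V and every
etale covering family of V, V has P if and only if all members have P), and let X be an algebraic
space over a scheme S. Then X has P etale locally (some surjective etale chart from a scheme with P)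
if and only if every scheme admitting a representable etale map to X has P. -/
theorem result {S : Scheme.{u}} (P : Scheme.{u} → Prop)
    (hP : ∀ (V : Scheme.{u}) (𝒰 : Scheme.Cover.{u} (Scheme.precoverage @Etale) V), P V ↔ ∀ i, P (𝒰.X i))
    (X : AlgSp.Space S) :
    AlgSp.EtaleLocally P X.obj ↔
      ∀ (U : Over S) (a : (AlgSp.yon S).obj U ⟶ X.obj), AlgSp.RepWith @Etale a → P U.left := by
  constructor
  · rintro ⟨U, p, he, hs, hP'⟩ V a ha
    obtain ⟨W, f, g, sq⟩ := Groth.Agent.Lib.AlgSpace.exists_isPullback_yon X.property.diag p a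
    have hg : Etale g.left := Groth.Agent.Lib.AlgSpace.repWith_property he sq
    have hgs : Surjective g.left := Groth.Agent.Lib.AlgSpace.repWith_property hs sq
    have hf : Etale f.left := Groth.Agent.Lib.AlgSpace.repWith_property ha sq.flip
    let 𝒰 : Scheme.Cover.{u} (Scheme.precoverage @Etale) U.left :=
      Scheme.Cover.mkOfCovers (Option PUnit.{u + 1}) (fun i ↦ i.elim U.left fun _ ↦ W.left)
        (fun i ↦ match i with | none => 𝟙 _ | some _ => f.left)
        (fun x ↦ ⟨none, x, rfl⟩) (fun i ↦ match i with
          | none => (inferInstance : Etale (𝟙 U.left)) | some _ => hf)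
    have hW : P W.left := (hP _ 𝒰).1 hP' (some PUnit.unit)
    let 𝒱 : Scheme.Cover.{u} (Scheme.precoverage @Etale) V.left :=
      Scheme.Cover.mkOfCovers PUnit.{u + 1} (fun _ ↦ W.left) (fun _ ↦ g.left)
        (fun x ↦ ⟨PUnit.unit, hgs.surj x⟩) (fun _ ↦ hg)
    exact (hP _ 𝒱).2 fun _ ↦ hW
  · intro h
    obtain ⟨U, p, he, hs⟩ := X.property.atlas
    exact ⟨U, p, he, hs, h U p he⟩

end Groth.Agent.S10188
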