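import Groth.Statements.S10190
import Groth.Agent.Lib.AlgSpMor.Codim
import Groth.Agent.Lib.Ideal.Prime

set_option autoImplicit false
universe u
open CategoryTheory CategoryTheory.Limits AlgebraicGeometry Topology TopologicalSpace
open AlgSp

namespace Groth.Agent.S10190

/-- For an algebraic space X over a scheme S, the set of codimension 0 points of X (points x of |X| such
that, for some representable etale h_U ⟶ X from a scheme U and some point u of U mapping to x, the
local ring of U at u has dimension 0) is dense in |X|. -/
theorem result {S : Scheme.{u}} (X : AlgSp.Space S) :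
    Dense {x : AlgSp.Points X.obj |
      AlgSp.HasAt (fun U u => ringKrullDim ↥(U.presheaf.stalk u) = 0) X.obj x} := by
  rw [dense_iff_inter_open]
  intro W hW ⟨x, hx⟩
  obtain ⟨U, a, ha, hs⟩ := X.property.atlas
  obtain ⟨u, rfl⟩ := Groth.Agent.Lib.AlgSpace.surjective_ofPt hs x
  obtain ⟨z, -, hzu, hz⟩ :=
    Groth.Agent.Lib.Ideal.Prime.exists_maximal_generization (A := (Set.univ : Set ↥U.left)) isClosed_univ (Set.mem_univ u)
  exact ⟨Points.ofPt a z, hzu.mem_open (hW.preimage (Points.continuous_ofPt a)) hx,
    (Groth.Agent.Lib.AlgSpMor.Codim.hasAt_dim0_iff X.property ha z).2 fun y hy => hz y trivial hy⟩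

end Groth.Agent.S10190
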