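import Groth.Statements.S10191
import Groth.Agent.Lib.AlgSpace.Points

set_option autoImplicit false
universe u
open CategoryTheory CategoryTheory.Limits AlgebraicGeometry Topology TopologicalSpace
open AlgSp

namespace Groth.Agent.S10191

/-- Let i : Z ⟶ X be an immersion of algebraic spaces over a scheme S (a morphism representable by
immersions of schemes). Then |i| : |Z| → |X| is a homeomorphism onto its image, and this image is a
locally closed subset of |X|. -/
theorem result {S : Scheme.{u}} {Z X : AlgSp.Space S} (i : Z ⟶ X)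
    (hi : AlgSp.RepWith @IsImmersion i.hom) :
    IsEmbedding (AlgSp.Points.map i.hom) ∧ IsLocallyClosed (Set.range (AlgSp.Points.map i.hom)) := by
  obtain ⟨U, a, he, hs⟩ := X.property.atlas
  obtain ⟨V, v, fst, sq, hv⟩ := Groth.Agent.Lib.AlgSpace.repWith_exists hi a
  have hq := Groth.Agent.Lib.AlgSpace.isOpenQuotientMap_ofPt he hs
  have : Mono i.hom := Groth.Agent.Lib.AlgSpace.mono_of_repWith (P := @IsImmersion)
    (fun _ _ g (_ : IsImmersion g) ↦ (inferInstance : Mono g)) hi
  refine ⟨⟨⟨le_antisymm (continuous_iff_le_induced.1 (AlgSp.Points.continuous_map _)) ?_⟩,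
    Groth.Agent.Lib.AlgSpace.injective_map_of_mono i.hom⟩, ?_⟩
  · intro O hO
    obtain ⟨M, hM, hMO⟩ := (v.left.isEmbedding.isInducing.isOpen_iff).1
      (AlgSp.Points.isOpen_iff.1 hO V fst)
    refine ⟨AlgSp.Points.ofPt a '' M, Groth.Agent.Lib.AlgSpace.isOpenMap_ofPt he _ hM, ?_⟩
    ext z
    constructor
    · rintro ⟨m, hm, e⟩
      have : m ∈ AlgSp.Points.ofPt a ⁻¹' (AlgSp.Points.map i.hom '' {z}) := ⟨z, rfl, e.symm⟩
      rw [Groth.Agent.Lib.AlgSpace.preimage_image_map sq] at this
      obtain ⟨w, hw, rfl⟩ := this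
      have hwO : w ∈ AlgSp.Points.ofPt fst ⁻¹' O := hMO ▸ hm
      exact (hw : AlgSp.Points.ofPt fst w = z) ▸ hwO
    · intro hz
      obtain ⟨m, hm⟩ := Groth.Agent.Lib.AlgSpace.surjective_ofPt hs (AlgSp.Points.map i.hom z)
      have : m ∈ AlgSp.Points.ofPt a ⁻¹' (AlgSp.Points.map i.hom '' {z}) := ⟨z, rfl, hm.symm⟩
      rw [Groth.Agent.Lib.AlgSpace.preimage_image_map sq] at this
      obtain ⟨w, hw, rfl⟩ := this
      have hwO : w ∈ AlgSp.Points.ofPt fst ⁻¹' O := by
        change AlgSp.Points.ofPt fst w ∈ O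
        rw [show AlgSp.Points.ofPt fst w = z from hw]
        exact hz
      exact ⟨v.left w, (Set.ext_iff.1 hMO w).2 hwO, hm⟩
  · have h1 := Groth.Agent.Lib.AlgSpace.preimage_image_map sq Set.univ
    rw [Set.image_univ, Set.preimage_univ, Set.image_univ] at h1
    have h2 : IsLocallyClosed (Set.range v.left) := v.left.isLocallyClosed_range
    rw [← h1] at h2
    rw [isLocallyClosed_iff_isOpen_coborder] at h2 ⊢
    rw [← hq.isQuotientMap.isOpen_preimage, ← coborder_preimage hq.isOpenMap hq.continuous]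
    exact h2

end Groth.Agent.S10191
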