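import Groth.Statements.S9872
import Groth.Agent.Lib.AlgSpace.Local

set_option autoImplicit false
universe u
open CategoryTheory CategoryTheory.Limits AlgebraicGeometry
open AlgSp

namespace Groth.Agent.S9872

/-- Let `F` be an algebraic space over `S`, `p : h_U ⟶ F` representable etale and representable
surjective with `U` a scheme over `S`, and let `s, t : R ⟶ U` over `S` be such that `h_R`, with
`h_t` and `h_s`, is the fibre product `h_U ×_F h_U`. Then `s, t` is an etale equivalence relation on
`U` over `S`, and `p` exhibits `F` as the coequalizer of `h_t, h_s : h_R ⟶ h_U` in fppf sheaves of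
sets over `S`. -/
theorem result (S : Scheme.{u}) (F : AlgSp.Sp S) (hF : AlgSp.IsAlgSpace F)
    {R U : Over S} (p : (AlgSp.yon S).obj U ⟶ F) (he : AlgSp.RepWith @Etale p)
    (hs : AlgSp.RepWith @Surjective p) (s t : R ⟶ U)
    (sq : IsPullback ((AlgSp.yon S).map t) ((AlgSp.yon S).map s) p p) :
    AlgSp.IsEtaleEqvRel s t ∧ Nonempty (IsColimit (Cofork.ofπ p sq.w)) := by
  haveI := Groth.Agent.Lib.AlgSpace.isLocallySurjective_of_etale he hs
  refine ⟨⟨⟨fun T x y h1 h2 ↦ ?_, fun T ↦ ⟨fun a ↦ ?_, ?_, ?_⟩⟩, ?_, ?_⟩,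
    ⟨Groth.Agent.Lib.AlgSpace.isColimitCoforkOfIsPullback p sq⟩⟩
  · exact (yon S).map_injective (sq.hom_ext (by rw [← Functor.map_comp, ← Functor.map_comp, h1])
      (by rw [← Functor.map_comp, ← Functor.map_comp, h2]))
  · obtain ⟨x, hx⟩ := (yon S).map_surjective (sq.lift ((yon S).map a) ((yon S).map a) rfl)
    exact ⟨x, (yon S).map_injective (by simp [hx]), (yon S).map_injective (by simp [hx])⟩
  · rintro a b ⟨x, rfl, rfl⟩
    obtain ⟨y, hy⟩ := (yon S).map_surjective (sq.lift ((yon S).map (x ≫ s)) ((yon S).map (x ≫ t))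
      (by simp [sq.w]))
    exact ⟨y, (yon S).map_injective (by simp [hy]), (yon S).map_injective (by simp [hy])⟩
  · rintro a b c ⟨x, rfl, rfl⟩ ⟨y, hy, rfl⟩
    obtain ⟨z, hz⟩ := (yon S).map_surjective (sq.lift ((yon S).map (x ≫ t)) ((yon S).map (y ≫ s))
      (by rw [Functor.map_comp, Category.assoc, sq.w, ← Category.assoc, ← Functor.map_comp, ← hy,
        Functor.map_comp, Category.assoc, sq.w, ← Category.assoc, ← Functor.map_comp]))
    exact ⟨z, (yon S).map_injective (by simp [hz]), (yon S).map_injective (by simp [hz])⟩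
  · exact Groth.Agent.Lib.AlgSpace.repWith_property he sq
  · exact Groth.Agent.Lib.AlgSpace.repWith_property he sq.flip

end Groth.Agent.S9872
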