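import Groth.Statements.S10196
import Groth.Agent.Lib.AlgSpace.OpenSubExists
import Groth.Agent.S9872

set_option autoImplicit false
universe u
open CategoryTheory CategoryTheory.Limits AlgebraicGeometry Topology TopologicalSpace
open AlgSp

namespace Groth.Agent.S10196

open Groth.Agent.Lib Groth.Agent.Lib.AlgSpace

/-- Let X be an algebraic space over a scheme S, a : h_U ⟶ X a representable etale map from a scheme U
over S, and X' ⟶ X the open subspace whose image in |X| is the (open) image of U. Then a factors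
through a representable etale and surjective a' : h_U ⟶ X', and if R is a scheme over S with h_R =
h_U ×_X h_U then also h_R = h_U ×_{X'} h_U and (U, R, a') is a presentation of X'. -/
theorem result {S : Scheme.{u}} {X X' : AlgSp.Space S} {U : Over S}
    (a : (AlgSp.yon S).obj U ⟶ X.obj) (ha : AlgSp.RepWith @Etale a)
    (j : X' ⟶ X) (hj : AlgSp.RepWith @IsOpenImmersion j.hom)
    (himage : Set.range (AlgSp.Points.map j.hom) = Set.range (AlgSp.Points.ofPt a)) :
    ∃ a' : (AlgSp.yon S).obj U ⟶ X'.obj, a' ≫ j.hom = a ∧ AlgSp.RepWith @Etale a' ∧ AlgSp.RepWith @Surjective a' ∧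
      ∀ (R : Over S) (s t : R ⟶ U), IsPullback ((AlgSp.yon S).map t) ((AlgSp.yon S).map s) a a →
        AlgSp.IsPresentation s t a' := by
  obtain ⟨a', ha'⟩ := exists_lift_yon_of_range_subset hj a himage.symm.subset
  haveI : Mono j.hom := mono_of_repWith (P := @IsOpenImmersion)
    (fun _ _ g (_ : IsOpenImmersion g) ↦ (inferInstance : Mono g)) hj
  have he : AlgSp.RepWith @Etale a' :=
    repWith_baseChange (IsPullback.of_horiz_isIso_mono (fst := 𝟙 _) (f := a) (snd := a')
      (g := j.hom) ⟨by rw [Category.id_comp, ha']⟩) ha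
  have hsurj : AlgSp.RepWith @Surjective a' := by
    refine repWith_surjective_of_points he.rep fun x ↦ ?_
    obtain ⟨u, hu⟩ : AlgSp.Points.map j.hom x ∈ Set.range (AlgSp.Points.ofPt a) :=
      himage ▸ ⟨x, rfl⟩
    refine ⟨AlgSp.Points.ofScheme U u, ?_⟩
    apply injective_map_of_mono j.hom
    rw [← AlgSp.Points.ofPt_eq_map_ofScheme, AlgSp.Points.map_ofPt, ha', hu]
  refine ⟨a', ha', he, hsurj, fun R s t sq ↦ ?_⟩
  have sq' : IsPullback ((AlgSp.yon S).map t) ((AlgSp.yon S).map s) a' a' := by
    rw [← ha'] at sq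
    refine ⟨⟨by rw [← cancel_mono j.hom, Category.assoc, Category.assoc, sq.w]⟩,
      ⟨PullbackCone.IsLimit.mk _ (fun c ↦ sq.lift c.fst c.snd (by
        rw [← Category.assoc, ← Category.assoc, c.condition])) (fun c ↦ sq.lift_fst _ _ _)
        (fun c ↦ sq.lift_snd _ _ _) (fun c m h1 h2 ↦ sq.hom_ext (by rw [h1, sq.lift_fst])
          (by rw [h2, sq.lift_snd]))⟩⟩
  exact ⟨(Groth.Agent.S9872.result S X'.obj X'.property a' he hsurj s t sq').1, he, hsurj, sq'⟩

end Groth.Agent.S10196
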