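import Groth.Statements.S10197
import Groth.Agent.Lib.AlgSpDecent.DenseOpen

set_option autoImplicit false
universe u
open CategoryTheory CategoryTheory.Limits AlgebraicGeometry Topology TopologicalSpace
open AlgSp

namespace Groth.Agent.S10197

open Groth.Agent.Lib.AlgSpDecent

/-- An algebraic space X over a scheme S has a largest open subspace which is a scheme: there is an open
subspace X' ⟶ X whose underlying sheaf is representable by a scheme over S, through which every open
subspace of X with representable underlying sheaf factors. -/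
theorem result {S : Scheme.{u}} (X : AlgSp.Space S) :
    ∃ (X' : AlgSp.Space S) (j : X' ⟶ X), AlgSp.RepWith @IsOpenImmersion j.hom ∧ X'.obj.obj.IsRepresentable ∧
      ∀ (X'' : AlgSp.Space S) (j'' : X'' ⟶ X), AlgSp.RepWith @IsOpenImmersion j''.hom →
        X''.obj.obj.IsRepresentable → ∃ k : X'' ⟶ X', k ≫ j = j'' := by
  obtain ⟨G, m, hm, hmax⟩ := DenseOpen.exists_largest X.property
  refine ⟨(AlgSp.ofScheme S).obj G, ObjectProperty.homMk m, hm, OpenScheme.isRepresentable_yon G,
    fun X'' j'' hj'' hrep => ?_⟩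
  obtain ⟨Q, ⟨h⟩⟩ := hrep
  let e := AlgSp.isoOfRepresentableBy h
  have hl : RepWith @IsOpenImmersion (e.hom ≫ j''.hom) :=
    (Groth.Agent.Lib.AlgSpace.repWith_iso_comp_iff @IsOpenImmersion e.hom j''.hom).2 hj''
  have hsub : Set.range (Points.map j''.hom) ⊆ Set.range (Points.map m) := by
    rintro _ ⟨x, rfl⟩
    refine hmax Q _ hl ⟨Points.map e.inv x, ?_⟩
    rw [← Points.map_comp, e.inv_hom_id_assoc]
  obtain ⟨k, hk⟩ := (Groth.Agent.Lib.AlgSpace.exists_lift_iff_range_subset hm j''.hom).2 hsub
  exact ⟨ObjectProperty.homMk k, by ext1; exact hk⟩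

end Groth.Agent.S10197
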