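import Groth.Statements.S10200
import Groth.Agent.Lib.AlgSpDecent.QSCharts

set_option autoImplicit false
universe u
open CategoryTheory CategoryTheory.Limits AlgebraicGeometry Topology TopologicalSpace
open AlgSp

namespace Groth.Agent.S10200

open Groth.Agent.Lib.AlgSpDecent

/-- Let X be an algebraic space over a scheme S that is Zariski locally quasi-separated over S (for
example quasi-separated over S). Then there is a dense open subspace of X which is a scheme; more
precisely there is an open subspace X' ⟶ X with representable underlying sheaf such that |X'| is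
dense in |X| and contains every codimension 0 point of X (every point under which some etale chart
has a zero-dimensional local ring). -/
theorem result {S : Scheme.{u}} (X : AlgSp.Space S)
    (hX : ∃ (ι : Type u) (Xi : ι → AlgSp.Space S) (j : ∀ i, Xi i ⟶ X),
        AlgSp.IsZarCover (fun i => (Xi i).obj) (fun i => (j i).hom) ∧ ∀ i, AlgSp.IsQuasiSeparatedSp (Xi i).obj) :
    ∃ (X' : AlgSp.Space S) (j : X' ⟶ X), AlgSp.RepWith @IsOpenImmersion j.hom ∧ X'.obj.obj.IsRepresentable ∧
      Dense (Set.range (AlgSp.Points.map j.hom)) ∧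
      ∀ x : AlgSp.Points X.obj, AlgSp.HasAt (fun U u => ringKrullDim ↥(U.presheaf.stalk u) = 0) X.obj x →
        x ∈ Set.range (AlgSp.Points.map j.hom) := by
  obtain ⟨ι, Xi, j, ⟨hj, hsurj⟩, hqs⟩ := hX
  have hd : IsDecent X.obj := Criteria.isDecent_of_openCover X.property (fun i => (Xi i).obj)
    (fun i => (j i).hom) hj hsurj fun i => QS.isDecent_of_isQuasiSeparatedSp (Xi i).property (hqs i)
  obtain ⟨G, m, hm, hmax⟩ := DenseOpen.exists_largest X.property
  refine ⟨(AlgSp.ofScheme S).obj G, ObjectProperty.homMk m, hm, OpenScheme.isRepresentable_yon G,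
    dense_iff_inter_open.2 fun W hW hne => ?_, fun x hx => ?_⟩
  · obtain ⟨Q, l, -, hl, ⟨y, hy⟩, hsub⟩ := DenseOpen.exists_open_scheme_in X.property hd hW hne
    exact ⟨y, hsub hy, hmax Q l hl hy⟩
  · obtain ⟨i, hi⟩ := hsurj x
    obtain ⟨U, a, ha, hU, hqc, u, rfl⟩ :=
      QSCharts.exists_qc_chart_of_open X.property (hj i) (hqs i) hi
    obtain ⟨Q, l, -, hl, hx'⟩ :=
      QSCharts.exists_open_scheme_of_codimZero X.property hd ha u hx
    exact hmax Q l hl hx' 

end Groth.Agent.S10200
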