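import Groth.Statements.S10201
import Groth.Agent.Lib.AlgSpDecent.QSCharts
import Groth.Agent.Lib.AlgSpMor.QC
import Groth.Agent.Lib.AlgSpace.DiagProp
import Mathlib.Topology.Spectral.Basic

set_option autoImplicit false
universe u
open CategoryTheory CategoryTheory.Limits AlgebraicGeometry Topology TopologicalSpace
open AlgSp

namespace Groth.Agent.S10201

/-- Let S be a quasi-separated scheme and X a quasi-compact algebraic space over S whose diagonal over S
is quasi-compact. Then |X| is a spectral space. (The published statement assumes X quasi-separated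
in the absolute sense; over a quasi-separated base that is the same as quasi-separated over S, while
for S quasi-compact and not quasi-separated the space h_S is quasi-compact with quasi-compact
diagonal over S and |h_S| = |S| is not spectral.) -/
theorem result {S : Scheme.{u}} [QuasiSeparatedSpace ↥S]
    (X : AlgSp.Space S) (hqc : AlgSp.IsQuasiCompactSp X.obj) (hqs : AlgSp.IsQuasiSeparatedSp X.obj) :
    SpectralSpace (AlgSp.Points X.obj) := by
  have hA := X.property
  have hD := Groth.Agent.Lib.AlgSpDecent.QS.isDecent_of_isQuasiSeparatedSp hA hqs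
  haveI := Groth.Agent.Lib.AlgSpDecent.Decent.t0Space_points hA hD
  haveI := Groth.Agent.Lib.AlgSpDecent.Sober.quasiSober_points hA hD
  haveI := Groth.Agent.Lib.AlgSpMor.QC.compactSpace_points hqc
  obtain ⟨U, a, ha, hs⟩ := hA.atlas
  let b : U.left.affineOpens → Set (AlgSp.Points X.obj) := fun O => AlgSp.Points.ofPt a '' (O.1 : Set ↥U.left)
  have hb : IsTopologicalBasis (Set.range b) := by
    refine isTopologicalBasis_of_isOpen_of_nhds ?_ fun x W hx hW => ?_
    · rintro _ ⟨O, rfl⟩
      exact Groth.Agent.Lib.AlgSpace.isOpenMap_ofPt ha _ O.1.2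
    · obtain ⟨v, rfl⟩ := Groth.Agent.Lib.AlgSpace.surjective_ofPt hs x
      obtain ⟨O, hO, hv, hsub⟩ := U.left.isBasis_affineOpens.exists_subset_of_mem_open
        (show v ∈ AlgSp.Points.ofPt a ⁻¹' W from hx) (hW.preimage (AlgSp.Points.continuous_ofPt a))
      obtain ⟨O, hO', rfl⟩ := hO
      exact ⟨_, ⟨⟨O, hO'⟩, rfl⟩, ⟨v, hv, rfl⟩, Set.image_subset_iff.2 hsub⟩
  have hc : ∀ O, IsCompact (b O) := fun O => O.2.isCompact.image (AlgSp.Points.continuous_ofPt a)
  haveI : PrespectralSpace (AlgSp.Points X.obj) := .of_isTopologicalBasis' hb hc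
  haveI : QuasiSeparatedSpace (AlgSp.Points X.obj) := by
    refine QuasiSeparatedSpace.of_isTopologicalBasis hb fun O O' => ?_
    obtain ⟨E, p, q, sq⟩ := Groth.Agent.Lib.AlgSpace.exists_isPullback_yon hA.diag
      ((AlgSp.yon S).map (Groth.Agent.Lib.AlgSpDecent.Specialize.openIncl O.1) ≫ a)
      ((AlgSp.yon S).map (Groth.Agent.Lib.AlgSpDecent.Specialize.openIncl O'.1) ≫ a)
    haveI : IsAffine (Over.mk (O.1.ι ≫ U.hom)).left := O.2
    haveI : IsAffine (Over.mk (O'.1.ι ≫ U.hom)).left := O'.2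
    haveI : CompactSpace ↥((Over.mk (O.1.ι ≫ U.hom)) ⨯ (Over.mk (O'.1.ι ≫ U.hom))).left := by
      haveI : CompactSpace ↥(O.1 : Scheme.{u}) := inferInstanceAs (CompactSpace ↥(Over.mk (O.1.ι ≫ U.hom)).left)
      haveI : CompactSpace ↥(O'.1 : Scheme.{u}) := inferInstanceAs (CompactSpace ↥(Over.mk (O'.1.ι ≫ U.hom)).left)
      haveI : QuasiCompact (O'.1.ι ≫ U.hom) := inferInstance
      haveI : CompactSpace ↥(Limits.pullback (O.1.ι ≫ U.hom) (O'.1.ι ≫ U.hom)) :=
        QuasiCompact.compactSpace_of_compactSpace (Limits.pullback.fst _ _)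
      exact (Over.prodLeftIsoPullback _ _).symm.schemeIsoToHomeo.compactSpace
    haveI := Groth.Agent.Lib.AlgSpDecent.QS.compactSpace_of_isPullback hqs
      (Groth.Agent.Lib.AlgSpace.isPullback_diag_yonProd sq)
    have e : b O ∩ b O' = Set.range fun w => AlgSp.Points.ofPt a (O.1.ι (p.left w)) := by
      ext x
      constructor
      · rintro ⟨⟨v, hv, rfl⟩, ⟨v', hv', e⟩⟩
        obtain ⟨w, h₁, -⟩ := (Groth.Agent.Lib.AlgSpace.ofPt_eq_ofPt_iff_of_isPullback sq ⟨v, hv⟩ ⟨v', hv'⟩).1
          (by rw [Groth.Agent.Lib.AlgSpace.ofPt_yon_map_comp, Groth.Agent.Lib.AlgSpace.ofPt_yon_map_comp]; exact e.symm)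
        exact ⟨w, by simp only [h₁]; rfl⟩
      · rintro ⟨w, rfl⟩
        refine ⟨⟨_, (p.left w).2, rfl⟩, O'.1.ι (q.left w), (q.left w).2, ?_⟩
        have := (Groth.Agent.Lib.AlgSpace.ofPt_eq_ofPt_iff_of_isPullback sq (p.left w) (q.left w)).2 ⟨w, rfl, rfl⟩
        rw [Groth.Agent.Lib.AlgSpace.ofPt_yon_map_comp, Groth.Agent.Lib.AlgSpace.ofPt_yon_map_comp] at this
        exact this.symm
    rw [e]
    exact isCompact_range ((AlgSp.Points.continuous_ofPt a).comp (O.1.ι.continuous.comp p.left.continuous))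
  exact { }

end Groth.Agent.S10201
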