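import Groth.Statements.S10202
import Groth.Agent.Lib.AlgSpace.Points
import Mathlib.AlgebraicGeometry.Noetherian

set_option autoImplicit false
universe u
open CategoryTheory CategoryTheory.Limits AlgebraicGeometry Topology TopologicalSpace
open AlgSp

namespace Groth.Agent.S10202

/-- If X is a locally Noetherian algebraic space over a scheme S, then the space |X| is locally
Noetherian: every point of |X| has an open neighbourhood which is a Noetherian topological space in
the induced topology. -/
theorem result {S : Scheme.{u}} (X : AlgSp.Space S)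
    (hX : AlgSp.IsLocNoethSp X.obj) (x : AlgSp.Points X.obj) :
    ∃ W : Set (AlgSp.Points X.obj), IsOpen W ∧ x ∈ W ∧ NoetherianSpace ↥W := by
  obtain ⟨U, a, he, hs, (hU : IsLocallyNoetherian U.left)⟩ := hX
  have hnbhd : ∀ x, ∃ W : Set (AlgSp.Points X.obj), IsOpen W ∧ x ∈ W ∧ TopologicalSpace.NoetherianSpace ↥W := by
    intro x
    obtain ⟨u, rfl⟩ := Groth.Agent.Lib.AlgSpace.surjective_ofPt hs x
    obtain ⟨O, hO, huO, -⟩ := exists_isAffineOpen_mem_and_subset (U := ⊤) (Set.mem_univ u)
    haveI := IsLocallyNoetherian.component_noetherian ⟨O, hO⟩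
    have hN : TopologicalSpace.NoetherianSpace ↥(O : Set ↥U.left) := noetherianSpace_of_isAffineOpen O hO
    have hr : Set.range (fun p : ↥O ↦ AlgSp.Points.ofPt a p.1) = AlgSp.Points.ofPt a '' O :=
      (Set.image_eq_range _ _).symm
    refine ⟨AlgSp.Points.ofPt a '' O, Groth.Agent.Lib.AlgSpace.isOpenMap_ofPt he _ O.2, ⟨u, huO, rfl⟩, ?_⟩
    rw [← hr]
    exact TopologicalSpace.NoetherianSpace.range _
      ((AlgSp.Points.continuous_ofPt a).comp continuous_subtype_val)
  exact hnbhd x

end Groth.Agent.S10202
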