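import Groth.Statements.S10203
import Groth.Agent.Lib.AlgSpace.Points
import Mathlib.AlgebraicGeometry.Noetherian

set_option autoImplicit false
universe u
open CategoryTheory CategoryTheory.Limits AlgebraicGeometry Topology TopologicalSpace
open AlgSp

namespace Groth.Agent.S10203

/-- If X is a quasi-compact, locally Noetherian algebraic space over a scheme S, then |X| is a
Noetherian topological space. -/
theorem result {S : Scheme.{u}} (X : AlgSp.Space S)
    (hqc : AlgSp.IsQuasiCompactSp X.obj) (hX : AlgSp.IsLocNoethSp X.obj) :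
    NoetherianSpace (AlgSp.Points X.obj) := by
  obtain ⟨U, a, he, hs, (hU : IsLocallyNoetherian U.left)⟩ := hX
  have hnbhd : ∀ x, ∃ W : Set (AlgSp.Points X.obj), IsOpen W ∧ x ∈ W ∧ TopologicalSpace.NoetherianSpace ↥W := by
    intro x
    obtain ⟨u, rfl⟩ := Groth.Agent.Lib.AlgSpace.surjective_ofPt hs x
    obtain ⟨O, hO, huO, -⟩ := exists_isAffineOpen_mem_and_subset (U := ⊤) (Set.mem_univ u)
    haveI := IsLocallyNoetherian.component_noetherian ⟨O, hO⟩
    have hN : TopologicalSpace.NoetherianSpace ↥(O : Set ↥U.left) := noetherianSpace_of_isAffineOpen O hO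
    have hr : Set.range (fun p : ↥O ↦ AlgSp.Points.ofPt a p.1) = AlgSp.Points.ofPt a '' O :=
      (Set.image_eq_range _ _).symm
    refine ⟨AlgSp.Points.ofPt a '' O, Groth.Agent.Lib.AlgSpace.isOpenMap_ofPt he _ O.2, ⟨u, huO, rfl⟩, ?_⟩
    rw [← hr]
    exact TopologicalSpace.NoetherianSpace.range _
      ((AlgSp.Points.continuous_ofPt a).comp continuous_subtype_val)
  obtain ⟨V, b, -, hbs, (hV : CompactSpace ↥V.left)⟩ := hqc
  choose W hWo hWx hWn using hnbhd
  have hc : IsCompact (Set.univ : Set (AlgSp.Points X.obj)) := by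
    rw [← Set.image_univ_of_surjective (Groth.Agent.Lib.AlgSpace.surjective_ofPt hbs)]
    exact isCompact_univ.image (AlgSp.Points.continuous_ofPt b)
  obtain ⟨s, hs'⟩ := hc.elim_finite_subcover W hWo (fun x _ ↦ Set.mem_iUnion.2 ⟨x, hWx x⟩)
  rw [← TopologicalSpace.noetherian_univ_iff]
  have hu : (Set.univ : Set (AlgSp.Points X.obj)) = ⋃ i : ↥s, W i.1 :=
    (Set.eq_univ_of_univ_subset (hs'.trans (Set.iUnion₂_subset fun i hi ↦
      Set.subset_iUnion_of_subset ⟨i, hi⟩ le_rfl))).symm
  rw [hu]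
  haveI : ∀ i : ↥s, TopologicalSpace.NoetherianSpace ↥(W i.1) := fun i ↦ hWn i.1
  exact TopologicalSpace.NoetherianSpace.iUnion _

end Groth.Agent.S10203
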