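import Groth.Statements.S10204
import Groth.Agent.Lib.AlgSpDecent.DenseOpen
import Groth.Agent.Lib.AlgSpDecent.QSCharts
import Groth.Agent.Lib.AlgSpDecent.DescendMor
import Groth.Agent.S10423

set_option autoImplicit false
universe u
open CategoryTheory CategoryTheory.Limits AlgebraicGeometry Topology TopologicalSpace
open AlgSp

namespace Groth.Agent.S10204

/-- Let X be an algebraic space over a scheme S that admits a map h_U ⟶ X from a quasi-separated scheme
U which is representable finite, etale and surjective. Then X contains an open subspace X' ⟶ X that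
is a scheme (its underlying sheaf is representable), whose points form a dense subset of |X| that
includes every codimension 0 point of X (every point x of |X| such that some etale chart h_V ⟶ X and
some point v of V over x have a zero-dimensional local ring O_{V,v}). -/
theorem result {S : Scheme.{u}} (X : AlgSp.Space S) {U : Over S}
    (a : (AlgSp.yon S).obj U ⟶ X.obj) (hf : AlgSp.RepWith @IsFinite a) (he : AlgSp.RepWith @Etale a)
    (hs : AlgSp.RepWith @Surjective a) [QuasiSeparatedSpace ↥U.left] :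
    ∃ (X' : AlgSp.Space S) (j : X' ⟶ X), AlgSp.RepWith @IsOpenImmersion j.hom ∧ X'.obj.obj.IsRepresentable ∧
      Dense (Set.range (AlgSp.Points.map j.hom)) ∧
      ∀ x : AlgSp.Points X.obj, AlgSp.HasAt (fun U u => ringKrullDim ↥(U.presheaf.stalk u) = 0) X.obj x →
        x ∈ Set.range (AlgSp.Points.map j.hom) := by
  have hA : AlgSp.IsAlgSpace X.obj := X.property
  have haq : AlgSp.RepWith @QuasiCompact a := Lib.AlgSpDecent.Core.repWith_mono (P := @IsFinite)
    (fun g hg => by have := (hg : IsFinite g); infer_instance) hf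
  have hd : AlgSp.IsDecent X.obj := Lib.AlgSpDecent.DescendEtale.isDecent (AlgSp.IsAlgSpace.yon_obj U) hA
    (Lib.AlgSpMor.QC.isQuasiCompactMor_of_repWith haq)
    (Lib.AlgSpDecent.DescendMor.isEtaleMor_of_repWith he) (Lib.AlgSpace.surjective_map hs)
    (Groth.Agent.S10423.isDecent_yon_obj U)
  obtain ⟨G, m, hm, hmax⟩ := Lib.AlgSpDecent.DenseOpen.exists_largest hA
  refine ⟨⟨(AlgSp.yon S).obj G, AlgSp.IsAlgSpace.yon_obj G⟩, ObjectProperty.homMk m, hm,
    Lib.AlgSpDecent.OpenScheme.isRepresentable_yon G, dense_iff_inter_open.2 fun W hW hne => ?_, ?_⟩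
  · obtain ⟨Q, l, -, hl, ⟨y, hy⟩, hsub⟩ :=
      Lib.AlgSpDecent.DenseOpen.exists_open_scheme_in hA hd hW hne
    exact ⟨y, hsub hy, hmax Q l hl hy⟩
  · intro x hx
    obtain ⟨u, hu⟩ := (Lib.AlgSpace.surjective_map hs) x
    obtain ⟨u, rfl⟩ : ∃ v : ↥U.left, AlgSp.Points.ofPt a v = x := by
      have h := Lib.AlgSpDecent.Core.range_points_map_yon a
      have : x ∈ Set.range (AlgSp.Points.ofPt a) := h ▸ ⟨u, hu⟩
      exact this
    obtain ⟨W, hW', huW, -⟩ := exists_isAffineOpen_mem_and_subset (x := u) (U := ⊤) trivial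
    let W' : Over S := Over.mk (W.ι ≫ U.hom)
    let c : W' ⟶ U := Over.homMk W.ι rfl
    have : IsAffine W'.left := hW'
    have hcq : QuasiCompact c.left := quasiCompact_of_compactSpace _
    have hce : Etale c.left := inferInstanceAs (Etale W.ι)
    have hw : AlgSp.RepWith @Etale ((AlgSp.yon S).map c ≫ a) :=
      Lib.AlgSpMor.LocP.repWith_etale_comp c he
    have hwq : AlgSp.RepWith @QuasiCompact ((AlgSp.yon S).map c ≫ a) :=
      (AlgSp.repWith_isMultiplicative @QuasiCompact).comp_mem _ _
        ((AlgSp.repWith_yon_map_iff _ _).2 hcq) haq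
    have : QuasiCompact (hw.rep.snd ((AlgSp.yon S).map c ≫ a)).left :=
      hwq.property _ _ _ (hw.rep.isPullback' _)
    have he' : AlgSp.Points.ofPt ((AlgSp.yon S).map c ≫ a) (⟨u, huW⟩ : W) = AlgSp.Points.ofPt a u :=
      Lib.AlgSpDecent.Core.ofPt_map_comp c a ⟨u, huW⟩
    obtain ⟨Q, l, -, hl, hxl⟩ := Lib.AlgSpDecent.QSCharts.exists_open_scheme_of_codimZero hA hd hw
      (⟨u, huW⟩ : W) (by rw [he']; exact hx)
    exact hmax Q l hl (he' ▸ hxl)

end Groth.Agent.S10204
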