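import Groth.Statements.S10349
import Groth.Agent.Lib.AlgSpDecent.SinglePoint

set_option autoImplicit false
universe u
open CategoryTheory CategoryTheory.Limits AlgebraicGeometry Topology TopologicalSpace
open AlgSp

namespace Groth.Agent.S10349

open Groth.Agent.Lib.AlgSpDecent

/-- Let S be a scheme, X a decent algebraic space over S, k a field over S and p : h_{Spec k} ⟶ X a
surjective etale map. Then X ≅ h_{Spec k'} for a field k' over S, and p corresponds to a finite
etale morphism Spec k ⟶ Spec k' over S, so that k is a finite separable extension of k'. -/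
theorem result {S : Scheme.{u}} (X : AlgSp.Space S)
    (hX : AlgSp.IsDecent X.obj) (k : Type u) [Field k] (str : Spec (CommRingCat.of k) ⟶ S)
    (p : (AlgSp.yon S).obj (Over.mk str) ⟶ X.obj) (hp : AlgSp.RepWith @Etale p) (hs : AlgSp.RepWith @Surjective p) :
    ∃ (k' : Type u) (_ : Field k') (str' : Spec (CommRingCat.of k') ⟶ S)
      (e : (AlgSp.yon S).obj (Over.mk str') ≅ X.obj) (c : Over.mk str ⟶ Over.mk str'),
      (AlgSp.yon S).map c ≫ e.hom = p ∧ IsFinite c.left ∧ Etale c.left := by
  have hsurj := Core.surjective_ofPt hs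
  have : Subsingleton ↥(Over.mk str).left := inferInstanceAs (Subsingleton (PrimeSpectrum k))
  have : Nonempty ↥(Over.mk str).left := inferInstanceAs (Nonempty (PrimeSpectrum k))
  have : Subsingleton (Points X.obj) := hsurj.subsingleton
  have : Nonempty (Points X.obj) := ⟨Points.ofPt p (Classical.arbitrary _)⟩
  have : IsAffine (Over.mk str).left := inferInstanceAs (IsAffine (Spec (CommRingCat.of k)))
  have hred : IsReduced (Over.mk str).left := inferInstanceAs (IsReduced (Spec (CommRingCat.of k)))
  obtain ⟨k', i, str', ⟨e⟩⟩ := SinglePoint.exists_field_iso X.property hX ⟨_, p, hp, hs, hred⟩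
  obtain ⟨c, hc⟩ := (yon S).map_surjective (p ≫ e.inv)
  have : Etale c.left := by
    refine (repWith_yon_map_iff _ _).1 ?_
    rw [hc]
    exact (Groth.Agent.Lib.AlgSpace.repWith_comp_iso_iff @Etale p e.inv).2 hp
  have : IsLocallyArtinian (Over.mk str').left :=
    inferInstanceAs (IsLocallyArtinian (Spec (CommRingCat.of k')))
  have : IsAffine (Over.mk str').left := inferInstanceAs (IsAffine (Spec (CommRingCat.of k')))
  have := Fibre.locallyQuasiFinite_of_etale c.left
  exact ⟨k', i, str', e, c, by rw [hc, Category.assoc, e.inv_hom_id, Category.comp_id],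
    IsFinite.of_locallyQuasiFinite _, inferInstance⟩

end Groth.Agent.S10349
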