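import Groth.Statements.S10450
import Groth.Agent.Lib.AlgSpDecent.QSCharts
import Groth.Agent.Lib.AlgSpDecent.ZeroDim

set_option autoImplicit false
universe u
open CategoryTheory CategoryTheory.Limits AlgebraicGeometry Topology TopologicalSpace
open AlgSp

namespace Groth.Agent.S10450

open Groth.Agent.Lib.AlgSpDecent

/-- Let X be a quasi-separated algebraic space of dimension 0 over a quasi-separated scheme S. Then X is
a separated scheme and every quasi-compact open of X is affine. (The published statement allows any
base scheme S and takes X quasi-separated in the absolute sense; this row asks S to be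
quasi-separated and X quasi-separated over S, which together imply absolute quasi-separatedness.) -/
theorem result {S : Scheme.{u}} [QuasiSeparatedSpace S]
    (X : AlgSp.Space S) (hqs : AlgSp.IsQuasiSeparatedSp X.obj) (hd : AlgSp.dim X.obj = 0) :
    ∃ (U : Over S) (_ : (AlgSp.yon S).obj U ≅ X.obj), U.left.IsSeparated ∧
      ∀ V : U.left.Opens, IsCompact (V : Set ↥U.left) → IsAffineOpen V := by
  have hdim : ∀ (U : Over S) (a : (AlgSp.yon S).obj U ⟶ X.obj), RepWith @Etale a → ∀ u : ↥U.left,
      SpecOrder.cohtPt u = 0 := by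
    intro U a ha u
    have h1 : topologicalKrullDim ↥U.left ≤ 0 := hd ▸ le_iSup₂_of_le U a (le_iSup_of_le ha le_rfl)
    rw [SpecOrder.topologicalKrullDim_eq_iSup] at h1
    have h2 := le_trans (le_iSup (fun v : ↥U.left => (SpecOrder.cohtPt v : WithBot ℕ∞)) u) h1
    exact nonpos_iff_eq_zero.1 (WithBot.coe_le_coe.1 h2)
  obtain ⟨G, m, hm, hmax⟩ := DenseOpen.exists_largest X.property
  have hall : Function.Surjective (Points.map m) := fun x => by
    obtain ⟨U, a, ha, hs⟩ := X.property.atlas
    obtain ⟨u, rfl⟩ := Core.surjective_ofPt hs x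
    obtain ⟨Q, l, -, hl, hx'⟩ := QSCharts.exists_open_scheme_of_qs X.property hqs _
      ⟨U, a, u, ha, rfl, by beta_reduce; rw [DimDecent.ringKrullDim_stalk, hdim U a ha u]; rfl⟩
    exact hmax Q l hl hx'
  have := OpenScheme.isIso_of_surjective hm hall
  have := QSCharts.quasiSeparatedSpace_of_open hqs m hm
  have hme : RepWith @Etale m :=
    Core.repWith_mono (P := @IsOpenImmersion) (fun _ h => by have := h; infer_instance) hm
  have hmin : ∀ x y : ↥G.left, y ⤳ x → y = x := fun x =>
    SpecOrder.cohtPt_eq_zero.1 (hdim G m hme x)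
  exact ⟨G, asIso m, ZeroDim.isSeparated hmin, ZeroDim.isAffineOpen_of_isCompact hmin⟩

end Groth.Agent.S10450
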