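import Groth.Statements.S10206
import Groth.Agent.Lib.Restrict.Slice
import Groth.Agent.S10450
import Groth.Agent.Lib.AlgSpDecent.DiscreteQS
import Groth.Agent.Lib.AlgSpDecent.OpenScheme

set_option autoImplicit false
universe u
open CategoryTheory CategoryTheory.Limits AlgebraicGeometry Topology TopologicalSpace
open AlgSp

namespace Groth.Agent.S10206

/-- Let X be an algebraic space over a scheme S and X ⟶ h_{Spec k} an etale morphism of algebraic spaces
over S, where k is a field and Spec k is given a structure morphism to S. Then X is a scheme (its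
underlying sheaf is representable by a scheme over S). -/
theorem result {S : Scheme.{u}} (X : AlgSp.Space S)
    (k : Type u) [Field k] (str : Spec (CommRingCat.of k) ⟶ S)
    (f : X.obj ⟶ (AlgSp.yon S).obj (Over.mk str)) (hf : AlgSp.IsEtaleMor f) :
    X.obj.obj.IsRepresentable := by
  have sq := IsPullback.of_hasPullback ((Groth.Agent.Lib.Restrict.jinv str).map f) (Groth.Agent.Lib.Restrict.sect str)
  let F : AlgSp.Space (Spec (CommRingCat.of k)) :=
    ⟨_, Groth.Agent.Lib.Restrict.isAlgSpace_fibre sq X.property⟩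
  have := Groth.Agent.Lib.Restrict.isIso_ofRestr sq
  let e : Groth.Agent.Lib.Restrict.ext str F.obj ≅ X.obj := asIso (Groth.Agent.Lib.Restrict.ofRestr
    (pullback.fst ((Groth.Agent.Lib.Restrict.jinv str).map f) (Groth.Agent.Lib.Restrict.sect str)))
  have hπ : e.hom ≫ f = Groth.Agent.Lib.Restrict.proj str F.obj := Groth.Agent.Lib.Restrict.ofRestr_π sq
  have het : ∀ (U : Over (Spec (CommRingCat.of k))) (a : (AlgSp.yon (Spec (CommRingCat.of k))).obj U ⟶ F.obj),
      RepWith @Etale a → Etale U.hom := fun U a ha => by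
    have h1 := hf ((Groth.Agent.Lib.Restrict.extYon str U).hom ≫ Groth.Agent.Lib.Restrict.extMap a ≫ e.hom)
      (MorphismProperty.RespectsIso.precomp _ _ _
        (MorphismProperty.RespectsIso.postcomp _ _ _ (Groth.Agent.Lib.Restrict.repWith_extMap ha)))
    have h2 : ((Groth.Agent.Lib.Restrict.extYon str U).hom ≫ Groth.Agent.Lib.Restrict.extMap a ≫ e.hom) ≫ f =
        (AlgSp.yon S).map (Groth.Agent.Lib.Restrict.str str U) := by
      rw [Category.assoc, Category.assoc, hπ]
      ext T x
      rfl
    rw [h2] at h1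
    exact (AlgSp.repWith_yon_map_iff _ _).1 h1
  have hdisc : ∀ (U : Over (Spec (CommRingCat.of k))) (a : (AlgSp.yon (Spec (CommRingCat.of k))).obj U ⟶ F.obj),
      RepWith @Etale a → DiscreteTopology ↥U.left := fun U a ha => by
    have := het U a ha
    have := Groth.Agent.Lib.AlgSpDecent.Fibre.locallyQuasiFinite_of_etale U.hom
    have : IsLocallyArtinian U.left := IsLocallyArtinian.of_locallyQuasiFinite (f := U.hom)
    infer_instance
  have hqs : AlgSp.IsQuasiSeparatedSp F.obj := by
    obtain ⟨U, a, ha, hs⟩ := F.property.atlas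
    have := het U a ha
    have := hdisc U a ha
    exact Groth.Agent.Lib.AlgSpDecent.DiscreteQS.isQuasiSeparatedSp F.property ha hs
      (topologicalKrullDim_zero_of_discreteTopology _)
  obtain ⟨G, m, hm, hmax⟩ := Groth.Agent.Lib.AlgSpDecent.DenseOpen.exists_largest F.property
  have hall : Function.Surjective (Points.map m) := fun x => by
    obtain ⟨U, a, ha, hs⟩ := F.property.atlas
    obtain ⟨u, rfl⟩ := Groth.Agent.Lib.AlgSpDecent.Core.surjective_ofPt hs x
    obtain ⟨Q, l, -, hl, hx'⟩ := Groth.Agent.Lib.AlgSpDecent.QSCharts.exists_open_scheme_of_qs F.property hqs _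
      ⟨U, a, u, ha, rfl, by
        beta_reduce
        have := hdisc U a ha
        rw [Groth.Agent.Lib.AlgSpDecent.DimDecent.ringKrullDim_stalk,
          Groth.Agent.Lib.AlgSpDecent.SpecOrder.cohtPt_eq_zero.2 fun y hy =>
            hy.mem_open (isOpen_discrete {u}) rfl]
        rfl⟩
    exact hmax Q l hl hx'
  have := Groth.Agent.Lib.AlgSpDecent.OpenScheme.isIso_of_surjective hm hall
  exact Groth.Agent.Lib.AlgSpDecent.OpenScheme.isRepresentable_of_iso
    (Groth.Agent.Lib.Restrict.extYon str G ≪≫
      (Groth.Agent.Lib.Restrict.extFunctor str).mapIso (asIso m) ≪≫ e)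


end Groth.Agent.S10206
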