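-- Proof of statement S10207.
import Groth.Statements.S10207
import Groth.Agent.Lib.AlgSpGabber.Descent
import Groth.Agent.Lib.AlgSpGabber.OverSheaf

set_option autoImplicit false
universe u
open CategoryTheory CategoryTheory.Limits AlgebraicGeometry Topology TopologicalSpace
open AlgSp

namespace Groth.Agent.S10207

open Groth.Agent.Lib.AlgSpace Groth.Agent.Lib.AlgSpGabber

/-- An algebraic space X over a scheme S satisfies the sheaf property for the fpqc topology: its
underlying presheaf on schemes over S is a sheaf for the fpqc topology (restricted from schemes to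
schemes over S). -/
theorem result {S : Scheme.{u}} (X : AlgSp.Space S) :
    Presheaf.IsSheaf (Scheme.fpqcTopology.over S) X.obj.obj := by
  rw [isSheaf_iff_isSheaf_of_type]
  refine OverSheaf.isSheaf_over_of_total _ _
    (GrothendieckTopology.Subcanonical.isSheaf_of_isRepresentable _) ?_
  rw [Scheme.fpqcTopology_eq_propQCTopology, isSheaf_type_propQCTopology_iff]
  refine ⟨?_, fun {R R'} f hf hs ↦ ?_⟩
  · refine OverSheaf.isSheaf_total _ _
      (GrothendieckTopology.Subcanonical.isSheaf_of_isRepresentable _) ?_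
    refine Presieve.isSheaf_of_le _ (fun A R hR ↦ ?_)
      ((isSheaf_iff_isSheaf_of_type _ _).1 X.obj.property)
    rw [GrothendieckTopology.mem_over_iff] at hR ⊢
    exact Precoverage.toGrothendieck_mono Scheme.zariskiPrecoverage_le_fppfPrecoverage _ hR
  · rw [Presieve.isSheafFor_singleton]
    intro p hp
    obtain ⟨t, x⟩ := p
    have : IsRegularEpi (Spec.map f) := isRegularEpi_of_flat_of_surjective_of_isAffine _
    have ht : ∀ {Z : Scheme.{u}} (g₁ g₂ : Z ⟶ Spec R'), g₁ ≫ Spec.map f = g₂ ≫ Spec.map f →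
        g₁ ≫ t = g₂ ≫ t := fun g₁ g₂ h ↦ congrArg Sigma.fst (hp g₁ g₂ h)
    let b : Spec R ⟶ S := EffectiveEpi.desc (Spec.map f) t fun g₁ g₂ h ↦ ht g₁ g₂ h
    have hb : Spec.map f ≫ b = t := EffectiveEpi.fac _ _ _
    let T : Over S := Over.mk b
    let T' : Over S := Over.mk t
    let c : T' ⟶ T := Over.homMk (Spec.map f) hb
    have : IsAffine T.left := inferInstanceAs (IsAffine (Spec R))
    have : IsAffine T'.left := inferInstanceAs (IsAffine (Spec R'))
    have : Flat c.left := hf
    have : Surjective c.left := hs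
    let a : (yon S).obj T' ⟶ X.obj := (secEquiv T').symm x
    have ha : ∀ (Z : Over S) (r₁ r₂ : Z ⟶ T'), r₁ ≫ c = r₂ ≫ c →
        (yon S).map r₁ ≫ a = (yon S).map r₂ ≫ a := by
      intro Z r₁ r₂ h
      rw [yon_map_comp_secEquiv_symm, yon_map_comp_secEquiv_symm]
      congr 1
      have h' := hp r₁.left r₂.left (congrArg CommaMorphism.left h)
      rw [OverSheaf.total_map, OverSheaf.total_map] at h'
      have e₁ : Z.hom = r₁.left ≫ t := (Over.w r₁).symm
      have e₂ : Z.hom = r₂.left ≫ t := (Over.w r₂).symm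
      have key : ∀ (p q : Σ g : Z.left ⟶ S, X.obj.obj.obj (Opposite.op (Over.mk g))), p = q →
          ∀ (a : Z ⟶ Over.mk p.1) (b : Z ⟶ Over.mk q.1), a.left = 𝟙 _ → b.left = 𝟙 _ →
          X.obj.obj.map a.op p.2 = X.obj.obj.map b.op q.2 := by
        rintro p _ rfl a b ha hb
        exact OverSheaf.map_eq_of_left _ _ _ (ha.trans hb.symm) _
      have := key _ _ h' (Over.homMk (𝟙 _) (by simp [e₁])) (Over.homMk (𝟙 _) (by simp [e₂])) rfl rfl
      dsimp only at this
      rw [← Functor.map_comp_apply, ← op_comp, ← Functor.map_comp_apply, ← op_comp] at this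
      refine (OverSheaf.map_eq_of_left _ _ _ ?_ _).trans
        (this.trans (OverSheaf.map_eq_of_left _ _ _ ?_ _))
      · simp
      · simp
    obtain ⟨β, hβ⟩ := Descent.exists_desc X.property c a ha
    refine ⟨⟨b, secEquiv T β⟩, ?_, ?_⟩
    · change (OverSheaf.total X.obj.obj).map (Spec.map f).op ⟨b, secEquiv T β⟩ = ⟨t, x⟩
      rw [OverSheaf.total_map]
      refine OverSheaf.mk_ext _ hb fun r hr ↦ ?_
      dsimp only
      rw [← Functor.map_comp_apply, ← op_comp]
      refine (OverSheaf.map_eq_of_left _ _ c ?_ _).trans ?_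
      · rw [Over.comp_left, hr]
        exact Category.id_comp _
      · rw [← secEquiv_map, hβ]
        exact Equiv.apply_symm_apply _ x
    · rintro ⟨b', y⟩ hy
      change (OverSheaf.total X.obj.obj).map (Spec.map f).op ⟨b', y⟩ = ⟨t, x⟩ at hy
      rw [OverSheaf.total_map] at hy
      obtain rfl : b' = b := (cancel_epi (Spec.map f)).1 ((congrArg Sigma.fst hy).trans hb.symm)
      congr 1
      apply (secEquiv T).symm.injective
      rw [Equiv.symm_apply_apply]
      refine Descent.hom_ext X.property.diag c ⟨⟨‹_›, ‹_›⟩, inferInstance⟩ ?_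
      rw [hβ, yon_map_comp_secEquiv_symm]
      congr 1
      have key : ∀ (p q : Σ g : Spec R' ⟶ S, X.obj.obj.obj (Opposite.op (Over.mk g))), p = q →
          ∀ (r : Over.mk q.1 ⟶ Over.mk p.1), r.left = 𝟙 _ → X.obj.obj.map r.op p.2 = q.2 := by
        rintro p _ rfl r hr
        rw [show r = 𝟙 _ from Over.OverMorphism.ext hr]
        exact Functor.map_id_apply _ _ _
      refine Eq.trans ?_ (key _ _ hy (Over.homMk (𝟙 _) (by simp [hb])) rfl)
      dsimp only
      rw [← Functor.map_comp_apply, ← op_comp]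
      exact OverSheaf.map_eq_of_left _ _ _ (Category.id_comp _).symm _

end Groth.Agent.S10207
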