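import Groth.Statements.S10211
import Groth.Agent.Lib.AlgSpMor.LocP
import Groth.Agent.Lib.AlgSpFormal.Charts
import Groth.Agent.Lib.AlgSpDecent.Core
-- import your own Groth.Agent.* helpers here

set_option autoImplicit false
universe u
open CategoryTheory CategoryTheory.Limits AlgebraicGeometry Topology TopologicalSpace
open AlgSp

open Groth.Agent.Lib Groth.Agent.Lib.AlgSpMor Groth.Agent.Lib.AlgSpace

namespace Groth.Agent.S10211

/-- If f : X ⟶ Y is an etale morphism of algebraic spaces over a scheme S, then the induced map of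
topological spaces |X| → |Y| is open. -/
theorem result {S : Scheme.{u}} {X Y : AlgSp.Space S} (f : X ⟶ Y)
    (hf : AlgSp.IsEtaleMor f.hom) :
    IsOpenMap (AlgSp.Points.map f.hom) := by
  obtain ⟨U, a, ha, has⟩ := X.property.atlas
  intro W hW
  have hc : AlgSp.RepWith @Etale (a ≫ f.hom) := hf a ha
  have e : AlgSp.Points.map f.hom '' W =
      AlgSp.Points.ofPt (a ≫ f.hom) '' (AlgSp.Points.ofPt a ⁻¹' W) := by
    ext y
    constructor
    · rintro ⟨x, hx, rfl⟩
      obtain ⟨t, rfl⟩ := AlgSpDecent.Core.surjective_ofPt has x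
      exact ⟨t, hx, (AlgSp.Points.map_ofPt a f.hom t).symm⟩
    · rintro ⟨t, ht, rfl⟩
      exact ⟨_, ht, AlgSp.Points.map_ofPt a f.hom t⟩
  rw [e]
  exact AlgSpDecent.Core.isOpenMap_ofPt hc _ (hW.preimage (AlgSp.Points.continuous_ofPt a))

end Groth.Agent.S10211
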