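import Groth.Statements.S10212
import Groth.Agent.Lib.AlgSpMor.LocP
import Groth.Agent.Lib.AlgSpFormal.Charts
import Groth.Agent.Lib.AlgSpDecent.Core
-- import your own Groth.Agent.* helpers here

set_option autoImplicit false
universe u
open CategoryTheory CategoryTheory.Limits AlgebraicGeometry Topology TopologicalSpace
open AlgSp

open Groth.Agent.Lib Groth.Agent.Lib.AlgSpMor Groth.Agent.Lib.AlgSpace

namespace Groth.Agent.S10212

/-- Let X be an algebraic space over a scheme S, χ : U ⟶ U' a surjective etale morphism of schemes over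
S and φ' : h_{U'} ⟶ X a map such that the composite h_χ ≫ φ' : h_U ⟶ X is (representable and) etale.
Then φ' is etale. -/
theorem result {S : Scheme.{u}} (X : AlgSp.Space S) {U U' : Over S}
    (χ : U ⟶ U') [Etale χ.left] [Surjective χ.left] (φ' : (AlgSp.yon S).obj U' ⟶ X.obj)
    (h : AlgSp.RepWith @Etale ((AlgSp.yon S).map χ ≫ φ')) :
    AlgSp.RepWith @Etale φ' := by
  have hE := Groth.Agent.Lib.SourceDescent.Scheme.etale.{u}
  refine LocP.repWith_of_locP hE X.property (representable_from_yon X.property.diag φ') ?_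
  exact LocP.locP_of_precomp hE (AlgSp.IsAlgSpace.yon_obj U') X.property
    ((AlgSp.repWith_yon_map_iff _ χ).2 ‹_›) ((AlgSp.repWith_yon_map_iff _ χ).2 ‹_›)
    (LocP.locP_of_repWith hE h)

end Groth.Agent.S10212
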