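import Groth.Statements.S10213
import Groth.Agent.Lib.AlgSpace.OpenSub

set_option autoImplicit false
universe u
open CategoryTheory CategoryTheory.Limits AlgebraicGeometry Topology TopologicalSpace
open AlgSp

namespace Groth.Agent.S10213

/-- For an algebraic space X over a scheme S there is a surjective etale map h_U ⟶ X where U is a
disjoint union of affine schemes, each of which maps into an affine open of S. -/
theorem result {S : Scheme.{u}} (X : AlgSp.Space S) :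
    ∃ (ι : Type u) (V : ι → Scheme.{u}) (_ : ∀ i, IsAffine (V i)) (q : (∐ V) ⟶ S)
      (p : (AlgSp.yon S).obj (Over.mk q) ⟶ X.obj),
      AlgSp.RepWith @Etale p ∧ AlgSp.RepWith @Surjective p ∧
        ∀ i, ∃ W : S.Opens, IsAffineOpen W ∧ ∀ v : ↥(V i), (Sigma.ι V i ≫ q) v ∈ W := by
  obtain ⟨U, a, he, hs⟩ := X.property.atlas
  have hcov : ∀ x : ↥U.left, ∃ (W : S.Opens) (O : U.left.Opens),
      IsAffineOpen W ∧ IsAffineOpen O ∧ x ∈ O ∧ (O : Set ↥U.left) ⊆ U.hom ⁻¹ᵁ W := by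
    intro x
    obtain ⟨W, hW, hxW, -⟩ := exists_isAffineOpen_mem_and_subset (U := ⊤) (Set.mem_univ (U.hom x))
    obtain ⟨O, hO, hxO, hOW⟩ := exists_isAffineOpen_mem_and_subset (U := U.hom ⁻¹ᵁ W) hxW
    exact ⟨W, O, hW, hO, hxO, hOW⟩
  choose W O hW hO hxO hOW using hcov
  refine ⟨↥U.left, fun x ↦ (O x).toScheme, hO, Sigma.desc fun x ↦ (O x).ι ≫ U.hom,
    (AlgSp.yon S).map (Groth.Agent.Lib.AlgSpace.opensSigmaMap O) ≫ a,
    Groth.Agent.Lib.AlgSpace.repWith_comp (Groth.Agent.Lib.AlgSpace.repWith_etale_yon_map (Groth.Agent.Lib.AlgSpace.etale_opensSigmaMap O)) he,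
    Groth.Agent.Lib.AlgSpace.repWith_comp (Groth.Agent.Lib.AlgSpace.repWith_surjective_yon_map
      (Groth.Agent.Lib.AlgSpace.surjective_opensSigmaMap O fun x ↦ ⟨x, hxO x⟩)) hs,
    fun x ↦ ⟨W x, hW x, fun v ↦ ?_⟩⟩
  rw [Sigma.ι_desc]
  exact hOW x v.2

end Groth.Agent.S10213
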