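import Groth.Statements.S10216
import Groth.Agent.Lib.AlgSpace.Points
import Groth.Agent.Lib.AlgSpDecent.GeoSections
import Groth.Agent.Lib.AlgSpDecent.DimIntegral

set_option autoImplicit false
universe u
open CategoryTheory CategoryTheory.Limits AlgebraicGeometry Topology TopologicalSpace
open AlgSp

namespace Groth.Agent.S10216

open CategoryTheory CategoryTheory.Limits AlgebraicGeometry Opposite AlgSp Groth.Agent.Lib.AlgSpDecent Groth.Agent.Lib.AlgSpace

/-- Let φ : U ⟶ X be an etale morphism of algebraic spaces over a scheme S, take a geometric point x̄ :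
Spec k ⟶ X of X whose image in |X| is x, and let u ∈ |U| with φ(u) = x. Then there is a geometric
point ū : Spec k ⟶ U (with the same field k) lying over u and with φ ∘ ū = x̄. -/
theorem result {S : Scheme.{u}} {U X : AlgSp.Space S} (φ : U ⟶ X)
    (hφ : AlgSp.IsEtaleMor φ.hom) (xbar : AlgSp.FieldPt X.obj) (hx : xbar.IsGeometric)
    (u : AlgSp.Points U.obj) (hu : AlgSp.Points.map φ.hom u = AlgSp.Points.mk xbar) :
    ∃ ubar : (AlgSp.yon S).obj xbar.pt ⟶ U.obj,
      ubar ≫ φ.hom = xbar.toHom ∧ AlgSp.Points.ofPt ubar (IsLocalRing.closedPoint xbar.K) = u := by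
  obtain ⟨V, a, v, hV, ha, hv⟩ := DimIntegral.exists_affine_chart_pt U.property u
  have hb : RepWith @Etale (a ≫ φ.hom) := hφ a ha
  let pt : ↥xbar.pt.left := IsLocalRing.closedPoint xbar.K
  have he : Points.ofPt (a ≫ φ.hom) v = Points.ofPt xbar.toHom pt := by
    rw [Core.ofPt_comp, hv, hu, Points.ofPt_toHom]
  obtain ⟨W, p, r, w, hp, hr, hw⟩ := (Groth.Agent.Lib.AlgSpace.ofPt_eq_ofPt_iff _ _ _ _).1 he
  let t := (hb.rep.lift' p r hw).left w
  obtain ⟨σ, hσ, hσt⟩ := GeoSections.exists_equiv hb xbar hx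
  refine ⟨(yon S).map (σ t).1 ≫ a, (Category.assoc _ _ _).trans (σ t).2, ?_⟩
  refine (Core.ofPt_map_comp (σ t).1 a _).trans ?_
  refine (congrArg (Points.ofPt a) ?_).trans hv
  rw [← hp]
  refine (hσt t).trans ?_
  show (hb.rep.lift' p r hw ≫ hb.rep.fst' xbar.toHom).left w = p.left w
  rw [hb.rep.lift'_fst]

end Groth.Agent.S10216
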