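import Groth.Statements.S10218
import Groth.Agent.Lib.AlgSpStalk.Stalks

set_option autoImplicit false
universe u
open CategoryTheory CategoryTheory.Limits AlgebraicGeometry Topology TopologicalSpace
open AlgSp

namespace Groth.Agent.S10218

/-- Let X be an algebraic space over a scheme S, x̄ a geometric point of X, (U, ū) an etale
neighbourhood of x̄ and {U_i ⟶ U} an etale covering of U in the small etale site of X. Then for some
index i the point x̄ lifts to U_i compatibly, that is, (U_i, ū_i) ⟶ (U, ū) is a morphism of etale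
neighbourhoods for a suitable lift ū_i. -/
theorem result {S : Scheme.{u}} (X : AlgSp.Space S) (p : AlgSp.FieldPt X.obj) (hp : p.IsGeometric)
    (N : AlgSp.EtNbhd p) {ι : Type u} (Ui : ι → AlgSp.EtOver X.obj) (g : ∀ i, Ui i ⟶ N.1)
    (hcov : Presieve.ofArrows Ui g ∈ AlgSp.etPre X.obj N.1) :
    ∃ (i : ι) (ui : (AlgSp.FieldPt.liftsTo p).obj (Ui i)), (AlgSp.FieldPt.liftsTo p).map (g i) ui = N.2 := by
  obtain ⟨i, v, hv⟩ := (AlgSp.ofArrows_mem_etPre_iff Ui g).1 hcov
    (N.2.1.left (Groth.Agent.Lib.AlgSpStalk.Lifts.pt₀ p))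
  obtain ⟨ui, hui, -⟩ :=
    Groth.Agent.Lib.AlgSpStalk.Lifts.exists_lift_map p hp (g i) N.2 v hv
  exact ⟨i, ui, hui⟩

end Groth.Agent.S10218
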