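import Groth.Statements.S10219
import Groth.Agent.Lib.AlgSpStalk.Stalks

set_option autoImplicit false
universe u
open CategoryTheory CategoryTheory.Limits AlgebraicGeometry Topology TopologicalSpace
open AlgSp

namespace Groth.Agent.S10219

/-- For an algebraic space X over a scheme S and a geometric point x̄ of X, the stalk functors F ↦ F_x̄
on sheaves of sets and on abelian sheaves on the small etale site of X are exact (they preserve
finite limits and finite colimits). -/
theorem result {S : Scheme.{u}} (X : AlgSp.Space S) (p : AlgSp.FieldPt X.obj) (hp : p.IsGeometric) :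
    (PreservesFiniteLimits (AlgSp.stalkEtFunctor (Type (u + 1)) p) ∧
      PreservesFiniteColimits (AlgSp.stalkEtFunctor (Type (u + 1)) p)) ∧
    (PreservesFiniteLimits (AlgSp.stalkEtFunctor AddCommGrpCat.{u + 1} p) ∧
      PreservesFiniteColimits (AlgSp.stalkEtFunctor AddCommGrpCat.{u + 1} p)) := by
  exact ⟨⟨Groth.Agent.Lib.AlgSpStalk.Stalks.preservesFiniteLimits_type X.property p hp,
      Groth.Agent.Lib.AlgSpStalk.Stalks.preservesFiniteColimits_type X.property p hp⟩,
    ⟨Groth.Agent.Lib.AlgSpStalk.Stalks.preservesFiniteLimits_ab X.property p hp,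
      Groth.Agent.Lib.AlgSpStalk.Stalks.preservesFiniteColimits_ab X.property p hp⟩⟩

end Groth.Agent.S10219
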