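import Groth.Statements.S10225
import Groth.Agent.Lib.AlgSpRed.Stalk
import Groth.Agent.Lib.AlgSpStalk.Point
import Groth.Agent.Lib.AlgSpMor.LocP

set_option autoImplicit false
universe u
open CategoryTheory CategoryTheory.Limits AlgebraicGeometry Topology TopologicalSpace
open AlgSp

namespace Groth.Agent.S10225

open Groth.Agent.Lib.AlgSpStalk Groth.Agent.Lib.AlgSpace

set_option backward.isDefEq.respectTransparency false

variable {S : Scheme.{u}} {X : AlgSp.Sp S}

/-- An open neighbourhood of the point of an etale neighbourhood is a neighbourhood. -/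
theorem exists_open_nbhd (p : AlgSp.FieldPt X) (hp : p.IsGeometric) (N : AlgSp.EtNbhd p)
    (W : N.1.obj.left.left.Opens) (hW : N.2.1.left (Lifts.pt₀ p) ∈ W) :
    ∃ (M : AlgSp.EtNbhd p) (φ : M ⟶ N), Set.range φ.1.hom.left.left ⊆ W := by
  let WS : Over S := Over.mk (W.ι ≫ N.1.obj.left.hom)
  let o : WS ⟶ N.1.obj.left := Over.homMk W.ι rfl
  have : Etale o.left := inferInstanceAs (Etale W.ι)
  let E' : AlgSp.EtOver X := AlgSp.EtOver.mk ((yon S).map o ≫ N.1.obj.hom)
    (Groth.Agent.Lib.AlgSpMor.LocP.repWith_etale_comp o N.1.property)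
  let g : E' ⟶ N.1 := AlgSp.EtOver.homMk o rfl
  obtain ⟨l', hl', -⟩ := Lifts.exists_lift_map p hp g N.2 ⟨_, hW⟩ rfl
  refine ⟨⟨E', l'⟩, CategoryOfElements.homMk ⟨E', l'⟩ N g hl', ?_⟩
  rintro _ ⟨z, rfl⟩
  exact (z : W).2

/-- A section killed in the local ring vanishes after pullback to a small open. -/
theorem exists_appTop_eq_zero {U : Scheme.{u}} (u : ↥U) (c : Γ(U, ⊤))
    (hc : U.presheaf.germ ⊤ u trivial c = 0) :
    ∃ W : U.Opens, u ∈ W ∧
      ∀ {M : Scheme.{u}} (φ : M ⟶ U), Set.range φ ⊆ W → φ.appTop c = 0 := by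
  rw [← map_zero (U.presheaf.germ ⊤ u trivial).hom] at hc
  obtain ⟨W, hW, i₁, i₂, e⟩ := U.presheaf.germ_eq (U := (⊤ : U.Opens)) (V := (⊤ : U.Opens)) u trivial trivial c 0 hc
  refine ⟨W, hW, fun {M} φ hφ => ?_⟩
  have hle : (⊤ : M.Opens) ≤ φ ⁻¹ᵁ W := fun z _ => hφ ⟨z, rfl⟩
  have h2 : φ.app ⊤ = U.presheaf.map i₁.op ≫ φ.appLE W ⊤ hle := by
    rw [Scheme.Hom.map_appLE]
    exact Scheme.Hom.app_eq_appLE φ
  change φ.app ⊤ c = 0
  rw [h2, CommRingCat.comp_apply]
  have : U.presheaf.map i₁.op c = 0 := by rw [← map_zero (U.presheaf.map i₂.op).hom]; exact e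
  rw [this, map_zero]

theorem isReduced_stalk_iff (hX : AlgSp.IsAlgSpace X) (p : AlgSp.FieldPt X) (hp : p.IsGeometric) :
    AlgSp.HasAt (fun U u => _root_.IsReduced ↥(U.presheaf.stalk u)) X (AlgSp.Points.mk p) ↔
      _root_.IsReduced ↥(AlgSp.OEtStalk p) := by
  have := Point.isCofiltered hX p hp
  haveI : PreservesFilteredColimitsOfSize.{u, u + 1} (forget CommRingCat.{u + 1}) :=
    preservesFilteredColimitsOfSize_shrink.{u + 1, u + 1, u, u + 1} _
  let D := AlgSp.stalkEtDiagram p (AlgSp.OEt X)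
  constructor
  · intro h
    refine ⟨fun a ha => ?_⟩
    obtain ⟨n, hn⟩ := ha
    obtain ⟨⟨N⟩, x, rfl⟩ := Concrete.colimit_exists_rep D a
    rw [← map_pow, ← map_zero (colimit.ι D (Opposite.op N)).hom] at hn
    obtain ⟨⟨N'⟩, φ, ψ, hφ⟩ := Concrete.colimit_exists_of_rep_eq D (x ^ n) 0 hn
    rw [map_zero, map_pow] at hφ
    let c : Γ(N'.1.obj.left.left, ⊤) := (D.map φ x).down
    have hc : c ^ n = 0 := congrArg ULift.down hφ
    let u := N'.2.1.left (Lifts.pt₀ p)
    have : _root_.IsReduced ↥(N'.1.obj.left.left.presheaf.stalk u) :=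
      Groth.Agent.Lib.AlgSpRed.Stalk.isReduced_stalk_of_hasAt hX.diag N'.1.property u
        (by rw [Lifts.ofPt_lift]; exact h)
    have hg : N'.1.obj.left.left.presheaf.germ ⊤ u trivial c = 0 :=
      IsReduced.eq_zero _ ⟨n, by rw [← map_pow, hc, map_zero]⟩
    obtain ⟨W, hW, key⟩ := exists_appTop_eq_zero u c hg
    obtain ⟨M, χ, hχ⟩ := exists_open_nbhd p hp N' W hW
    rw [← colimit.w_apply D φ, ← colimit.w_apply D χ.op,
      show D.map χ.op (D.map φ x) = 0 from ULift.ext _ _ (key _ hχ), map_zero]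
  · intro h
    obtain ⟨N⟩ := Point.exists_nbhd hX p hp
    refine ⟨N.1.obj.left, N.1.obj.hom, N.2.1.left (Lifts.pt₀ p), N.1.property, Lifts.ofPt_lift p N.2,
      ⟨fun t ht => ?_⟩⟩
    obtain ⟨n, hn⟩ := ht
    obtain ⟨W, hW, c, rfl⟩ := N.1.obj.left.left.presheaf.exists_germ_eq t
    rw [← map_pow, ← map_zero (N.1.obj.left.left.presheaf.germ W _ hW).hom] at hn
    obtain ⟨W', hW', i₁, i₂, e⟩ := N.1.obj.left.left.presheaf.germ_eq _ hW hW (c ^ n) 0 hn
    rw [map_zero, map_pow] at e
    obtain ⟨M, χ, hχ⟩ := exists_open_nbhd p hp N W' hW'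
    have hle : (⊤ : M.1.obj.left.left.Opens) ≤ χ.1.hom.left.left ⁻¹ᵁ W' := fun z _ => hχ ⟨z, rfl⟩
    let d : Γ(M.1.obj.left.left, ⊤) :=
      χ.1.hom.left.left.appLE W' ⊤ hle (N.1.obj.left.left.presheaf.map i₁.op c)
    have hd : d ^ n = 0 := by simp only [d, ← map_pow, e, map_zero]
    let xd : D.obj (Opposite.op M) := ⟨d⟩
    have h0 : colimit.ι D (Opposite.op M) xd = 0 := IsReduced.eq_zero _ ⟨n, by
      rw [← map_pow, show xd ^ n = 0 from ULift.ext _ _ hd, map_zero]⟩
    rw [← map_zero (colimit.ι D (Opposite.op M)).hom] at h0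
    obtain ⟨⟨K⟩, κ, κ', hκ⟩ := Concrete.colimit_exists_of_rep_eq D xd 0 h0
    rw [map_zero] at hκ
    have hk : κ.unop.1.hom.left.left.appTop d = 0 := congrArg ULift.down hκ
    let f := κ.unop.1.hom.left.left ≫ χ.1.hom.left.left
    let z := K.2.1.left (Lifts.pt₀ p)
    have hfe : Etale f := by
      have := AlgSp.EtOver.etale_left κ.unop.1
      have := AlgSp.EtOver.etale_left χ.1
      exact inferInstance
    have hz : f z = N.2.1.left (Lifts.pt₀ p) := by
      have h1 : κ.unop.1.hom.left.left z = M.2.1.left (Lifts.pt₀ p) :=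
        congrArg (fun v => v.1.left (Lifts.pt₀ p)) κ.unop.2
      have h2 : χ.1.hom.left.left (M.2.1.left (Lifts.pt₀ p)) = N.2.1.left (Lifts.pt₀ p) :=
        congrArg (fun v => v.1.left (Lifts.pt₀ p)) χ.2
      change χ.1.hom.left.left (κ.unop.1.hom.left.left z) = _
      rw [h1, h2]
    have hle' : (⊤ : K.1.obj.left.left.Opens) ≤ f ⁻¹ᵁ W' := fun y _ => hle trivial
    have hWz : f z ∈ W' := hle' trivial
    have hzero : f.stalkMap z
        (N.1.obj.left.left.presheaf.germ W' (f z) hWz (N.1.obj.left.left.presheaf.map i₁.op c)) = 0 := by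
      rw [Scheme.Hom.germ_stalkMap_apply,
        ← TopCat.Presheaf.germ_res_apply K.1.obj.left.left.presheaf (homOfLE hle') z trivial]
      change K.1.obj.left.left.presheaf.germ ⊤ z trivial
        (f.appLE W' ⊤ hle' (N.1.obj.left.left.presheaf.map i₁.op c)) = 0
      rw [← Scheme.Hom.appLE_comp_appLE (g := χ.1.hom.left.left) κ.unop.1.hom.left.left
        (e₁ := hle) (e₂ := le_top), CommRingCat.comp_apply]
      rw [show κ.unop.1.hom.left.left.appLE ⊤ ⊤ le_top = κ.unop.1.hom.left.left.appTop from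
        (Scheme.Hom.app_eq_appLE _).symm]
      change K.1.obj.left.left.presheaf.germ ⊤ z trivial (κ.unop.1.hom.left.left.appTop d) = 0
      rw [hk, map_zero]
    have hinj : Function.Injective (f.stalkMap z).hom := by
      have h0 := Flat.stalkMap f z
      algebraize [(f.stalkMap z).hom]
      have : Module.FaithfullyFlat (N.1.obj.left.left.presheaf.stalk (f z))
          (K.1.obj.left.left.presheaf.stalk z) :=
        @Module.FaithfullyFlat.of_flat_of_isLocalHom _ _ _ _ _ _ _ h0 (f.toLRSHom.prop z)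
      exact ‹RingHom.FaithfullyFlat _›.injective
    have h1 := hinj (hzero.trans (map_zero _).symm)
    rw [TopCat.Presheaf.germ_res_apply] at h1
    have key : ∀ (y : ↥N.1.obj.left.left) (hy : y ∈ W), y = f z →
        N.1.obj.left.left.presheaf.germ W y hy c = 0 := by
      rintro y hy rfl
      exact h1
    exact key _ hW hz.symm

/-- Let X be an algebraic space over a scheme S and x̄ a geometric point of X lying over x ∈ |X|. Then
the local ring of X at x is reduced (for some etale chart h_U ⟶ X and some point u of U over x, the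
local ring of U at u is reduced) if and only if the etale local ring of X at x̄ is reduced; in
particular the latter does not depend on the choice of x̄ over x. -/
theorem result {S : Scheme.{u}} (X : AlgSp.Space S) (p : AlgSp.FieldPt X.obj) (hp : p.IsGeometric) :
    AlgSp.HasAt (fun U u => _root_.IsReduced ↥(U.presheaf.stalk u)) X.obj (AlgSp.Points.mk p) ↔
      _root_.IsReduced ↥(AlgSp.OEtStalk p) := by
  exact isReduced_stalk_iff X.property p hp

end Groth.Agent.S10225
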