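import Groth.Statements.S10227
import Groth.Agent.Lib.AlgSpStalk.Branches

set_option autoImplicit false
universe u
open CategoryTheory CategoryTheory.Limits AlgebraicGeometry Topology TopologicalSpace
open AlgSp
open Groth.Agent.Lib.AlgSpStalk

namespace Groth.Agent.S10227

/-- (1) ⇔ (4) ⇔ (5): let X be an algebraic space over a scheme S and x ∈ |X|. The following are
equivalent: for every scheme U, every etale h_U ⟶ X and every point u of U over x, the local ring of
U at u has a unique minimal prime; for every such (U, u), the local ring of U at u is geometrically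
unibranch; for every geometric point x̄ over x, the etale local ring of X at x̄ has a unique minimal
prime. -/
theorem result {S : Scheme.{u}} (X : AlgSp.Space S) (x : AlgSp.Points X.obj) :
    ((∀ (U : Over S) (a : (AlgSp.yon S).obj U ⟶ X.obj) (u : ↥U.left),
        AlgSp.RepWith @Etale a → AlgSp.Points.ofPt a u = x → CAlgX.HasUniqueMinimalPrime ↥(U.left.presheaf.stalk u)) ↔
      (∀ (U : Over S) (a : (AlgSp.yon S).obj U ⟶ X.obj) (u : ↥U.left),
        AlgSp.RepWith @Etale a → AlgSp.Points.ofPt a u = x → CAlg2.IsGeomUnibranch ↥(U.left.presheaf.stalk u))) ∧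
    ((∀ (U : Over S) (a : (AlgSp.yon S).obj U ⟶ X.obj) (u : ↥U.left),
        AlgSp.RepWith @Etale a → AlgSp.Points.ofPt a u = x → CAlgX.HasUniqueMinimalPrime ↥(U.left.presheaf.stalk u)) ↔
      ∀ p : AlgSp.FieldPt X.obj, p.IsGeometric → AlgSp.Points.mk p = x →
        CAlgX.HasUniqueMinimalPrime ↥(AlgSp.OEtStalk p)) := by
  have hX := X.property
  simp only [Branches.hasUniqueMinimalPrime_iff]
  constructor
  · constructor
    · intro h U a u ha hu
      rw [← Groth.Agent.Lib.Unram.OneBranch.numGeomBranches_eq_one_iff, ← Brnch.numGeomBranchesAt]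
      refine le_antisymm (not_lt.mp fun hlt => ?_) ?_
      · obtain ⟨U', a', u', ha', hu', h'⟩ := Branches.exists_chart a u ha 2
          (le_trans (by norm_num) (Order.add_one_le_of_lt hlt))
        have h2 := h'.trans (h U' a' u' ha' (hu'.trans hu)).le
        norm_num at h2
      · exact (Branches.one_le U.left u).trans (Branches.encard_stalk_le U.left u)
    · intro h U a u ha hu
      have h1 := Branches.encard_stalk_le U.left u
      rw [show Brnch.numGeomBranchesAt U.left u = 1 from
        (Groth.Agent.Lib.Unram.OneBranch.numGeomBranches_eq_one_iff _).mpr (h U a u ha hu)] at h1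
      exact le_antisymm h1 (Branches.one_le U.left u)
  · constructor
    · intro h p hp hpx
      obtain ⟨⟨E, l⟩⟩ := Point.exists_nbhd hX p hp
      have hu := Lifts.ofPt_lift p l
      rw [Branches.encard_OEtStalk hX p hp E.obj.hom _ E.property hu]
      refine le_antisymm (not_lt.mp fun hlt => ?_) ?_
      · obtain ⟨U', a', u', ha', hu', h'⟩ := Branches.exists_chart E.obj.hom _ E.property 2
          (le_trans (by norm_num) (Order.add_one_le_of_lt hlt))
        have h2 := h'.trans (h U' a' u' ha' (hu'.trans (hu.trans hpx))).le
        norm_num at h2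
      · exact (Branches.one_le _ _).trans (Branches.encard_stalk_le _ _)
    · intro h U a u ha hu
      obtain ⟨p, hp, hpx⟩ := Lifts.exists_geometric x
      have h1 := Branches.encard_stalk_le U.left u
      rw [← Branches.encard_OEtStalk hX p hp a u ha (hu.trans hpx.symm), h p hp hpx] at h1
      exact le_antisymm h1 (Branches.one_le U.left u)

end Groth.Agent.S10227
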