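import Groth.Statements.S10228
import Groth.Agent.Lib.AlgSpMor.QC
import Groth.Agent.Lib.AlgSpace.Coprod

set_option autoImplicit false
universe u
open CategoryTheory CategoryTheory.Limits AlgebraicGeometry Topology TopologicalSpace
open AlgSp

namespace Groth.Agent.S10228

/-- An algebraic space that is the coproduct of finitely many quasi-compact algebraic spaces is
quasi-compact: if X_i (i in a finite type) are quasi-compact algebraic spaces over a scheme S and
the underlying sheaf of the algebraic space X is a coproduct of the underlying sheaves of the X_i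
(given by a colimit cofan of fppf sheaves whose cone point is the sheaf of X), then X is
quasi-compact. -/
theorem result {S : Scheme.{u}} {ι : Type u} [Finite ι] (Xi : ι → AlgSp.Space S)
    (X : AlgSp.Space S) (c : Cofan fun i => (Xi i).obj) (hc : IsColimit c) (hX : c.pt = X.obj)
    (hqc : ∀ i, AlgSp.IsQuasiCompactSp (Xi i).obj) :
    AlgSp.IsQuasiCompactSp X.obj := by
  rw [Groth.Agent.Lib.AlgSpMor.QC.isQuasiCompactSp_iff X.property, ← hX]
  haveI := fun i => Groth.Agent.Lib.AlgSpMor.QC.compactSpace_points (hqc i)
  refine ⟨?_⟩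
  have hU : (Set.univ : Set (Points c.pt)) = ⋃ i, Set.range (Points.map (c.inj i)) := by
    symm
    rw [Set.eq_univ_iff_forall]
    intro x
    obtain ⟨T, b, τ, rfl⟩ := Groth.Agent.Lib.AlgSpace.exists_ofPt_eq x
    obtain ⟨V, v, a, -, hs, ha, -⟩ := Groth.Agent.Lib.AlgSpace.exists_decomposition hc b
    obtain ⟨i, y, rfl⟩ := hs τ
    refine Set.mem_iUnion.2 ⟨i, Points.ofPt (a i) y, ?_⟩
    rw [Points.map_ofPt, ha, Groth.Agent.Lib.AlgSpace.ofPt_yon_map_comp]
  rw [hU]
  exact isCompact_iUnion fun i => isCompact_range (Points.continuous_map _)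

end Groth.Agent.S10228
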