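import Groth.Statements.S10229
import Groth.Agent.Lib.AlgSpTopos.Geometric

set_option autoImplicit false
universe u
open CategoryTheory CategoryTheory.Limits AlgebraicGeometry Topology TopologicalSpace
open AlgSp

namespace Groth.Agent.S10229

/-- Let X be an algebraic space over a scheme S and let P be a point of the small etale topos of X,
given as a point of the site X_etale (a fibre functor). Then there is a geometric point x̄ of X such
that the stalk functor of P on sheaves of sets is isomorphic to the stalk functor F ↦ F_x̄. -/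
theorem result {S : Scheme.{u}} (X : AlgSp.Space S)
    (P : GrothendieckTopology.Point.{u} (AlgSp.etTop X.obj)) :
    ∃ p : AlgSp.FieldPt X.obj, p.IsGeometric ∧
      Nonempty (P.sheafFiber (A := Type (u + 1)) ≅ AlgSp.stalkEtFunctor (Type (u + 1)) p) := by
  obtain ⟨p, hp, ⟨e⟩⟩ := Groth.Agent.Lib.AlgSpTopos.exists_fiber_iso X.property P
  let Q := Groth.Agent.Lib.AlgSpStalk.Point.etPoint X.property p hp
  let a : P ⟶ Q := ⟨e.inv⟩
  let b : Q ⟶ P := ⟨e.hom⟩
  have hab : a ≫ b = 𝟙 P := GrothendieckTopology.Point.hom_ext e.hom_inv_id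
  have hba : b ≫ a = 𝟙 Q := GrothendieckTopology.Point.hom_ext e.inv_hom_id
  refine ⟨p, hp, ⟨?_ ≪≫ (Iso.refl _ : Q.sheafFiber (A := Type (u + 1)) ≅ AlgSp.stalkEtFunctor (Type (u + 1)) p)⟩⟩
  exact
    { hom := GrothendieckTopology.Point.Hom.sheafFiber b
      inv := GrothendieckTopology.Point.Hom.sheafFiber a
      hom_inv_id := by
        rw [← GrothendieckTopology.Point.Hom.sheafFiber_comp, hab,
          GrothendieckTopology.Point.Hom.sheafFiber_id]
      inv_hom_id := by
        rw [← GrothendieckTopology.Point.Hom.sheafFiber_comp, hba,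
          GrothendieckTopology.Point.Hom.sheafFiber_id] }

end Groth.Agent.S10229
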