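import Groth.Statements.S10230
import Groth.Agent.Lib.AlgSpStalk.Stalks
import Groth.Agent.Lib.AlgSpace.Points

set_option autoImplicit false
universe u
open CategoryTheory CategoryTheory.Limits AlgebraicGeometry Topology TopologicalSpace
open AlgSp
open Groth.Agent.Lib.AlgSpStalk

namespace Groth.Agent.S10230

/-- Let X be an algebraic space over a scheme S and F a subsheaf of the final object of the small etale
topos of X, i.e. a sheaf of sets all of whose section sets have at most one element. Then there is a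
unique open W of |X| with F = h_W: for every U etale over X, F(U) is nonempty if and only if U ⟶ X
maps |U| into W. -/
theorem result {S : Scheme.{u}} (X : AlgSp.Space S)
    (F : AlgSp.EtSh X.obj (Type (u + 1))) (hF : ∀ E : AlgSp.EtOver X.obj, Subsingleton (F.obj.obj (Opposite.op E))) :
    ∃! W : Set (AlgSp.Points X.obj), IsOpen W ∧
      ∀ E : AlgSp.EtOver X.obj, Nonempty (F.obj.obj (Opposite.op E)) ↔ Set.range (AlgSp.Points.ofPt E.obj.hom) ⊆ W := by
  let W : Set (AlgSp.Points X.obj) := {x | ∃ E : AlgSp.EtOver X.obj,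
    Nonempty (F.obj.obj (Opposite.op E)) ∧ x ∈ Set.range (AlgSp.Points.ofPt E.obj.hom)}
  have hWle : ∀ E : AlgSp.EtOver X.obj, Nonempty (F.obj.obj (Opposite.op E)) →
      Set.range (AlgSp.Points.ofPt E.obj.hom) ⊆ W := fun E hE x hx => ⟨E, hE, hx⟩
  refine ⟨W, ⟨?_, fun E => ⟨hWle E, fun hE => ?_⟩⟩, fun W' hW' => ?_⟩
  · rw [isOpen_iff_forall_mem_open]
    rintro x ⟨E, hE, hx⟩
    exact ⟨_, hWle E hE, Lifts.isOpen_range_ofPt E, hx⟩
  · let R : Sieve E :=
      { arrows := fun V _ => Nonempty (F.obj.obj (Opposite.op V))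
        downward_closed := fun ⟨s⟩ g => ⟨F.obj.map g.op s⟩ }
    have hR : R ∈ AlgSp.etTop X.obj E := Stalks.mem_etTop R fun p hp x => by
      obtain ⟨E', hE', e', he'⟩ := hE (show AlgSp.Points.mk p ∈ _ from ⟨_, Lifts.ofPt_lift p x⟩)
      obtain ⟨l', -⟩ := Lifts.exists_lift p hp E' e' he'
      obtain ⟨l, h₁, -⟩ := Point.exists_lift_prod p x l'
      exact ⟨EtOver.prodObj E E', EtOver.prodFst E E',
        hE'.map (F.obj.map (EtOver.prodSnd E E').op), l, h₁⟩
    have hs := (isSheaf_iff_isSheaf_of_type _ _).1 F.property R hR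
    let x : Presieve.FamilyOfElements F.obj R.arrows := fun V g hg => hg.some
    have hx : x.Compatible := fun Y₁ Y₂ Z g₁ g₂ f₁ f₂ _ _ _ => (hF Z).elim _ _
    exact ⟨hs.amalgamate x hx⟩
  · refine Set.Subset.antisymm (fun x hx => ?_) ?_
    · obtain ⟨p, hp, rfl⟩ := Lifts.exists_geometric x
      obtain ⟨⟨E, l⟩⟩ := Point.exists_nbhd X.property p hp
      let O : E.obj.left.left.Opens :=
        ⟨AlgSp.Points.ofPt E.obj.hom ⁻¹' W', AlgSp.Points.isOpen_iff.1 hW'.1 E.obj.left E.obj.hom⟩
      let V : E.obj.left.left.Etale := MorphismProperty.Over.mk ⊤ O.ι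
        (show Etale _ from inferInstance)
      let G := EtOver.ofChart E.obj.hom E.property
      have hr : Set.range (AlgSp.Points.ofPt (G.obj V).obj.hom) ⊆ W' := by
        rintro _ ⟨v, rfl⟩
        change AlgSp.Points.ofPt ((yon S).map (EtOver.homOfEtale V) ≫ E.obj.hom) v ∈ W'
        rw [Groth.Agent.Lib.AlgSpace.ofPt_yon_map_comp]
        exact (show ↥O.toScheme from v).2
      have hmem : l.1.left (Lifts.pt₀ p) ∈ O := by
        change AlgSp.Points.ofPt E.obj.hom (l.1.left (Lifts.pt₀ p)) ∈ W'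
        rw [Lifts.ofPt_lift]
        exact hx
      refine hWle (G.obj V) ((hW'.2 _).2 hr) ⟨⟨l.1.left (Lifts.pt₀ p), hmem⟩, ?_⟩
      change AlgSp.Points.ofPt ((yon S).map (EtOver.homOfEtale V) ≫ E.obj.hom) _ = _
      rw [Groth.Agent.Lib.AlgSpace.ofPt_yon_map_comp]
      exact Lifts.ofPt_lift p l
    · rintro x ⟨E, hE, hx⟩
      exact (hW'.2 E).1 hE hx

end Groth.Agent.S10230
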