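import Groth.Statements.S10231
import Groth.Agent.Lib.AlgSpStalk.LocalRingApps

set_option autoImplicit false
universe u
open CategoryTheory CategoryTheory.Limits AlgebraicGeometry Topology TopologicalSpace
open AlgSp
open Groth.Agent.Lib.AlgSpStalk

namespace Groth.Agent.S10231

/-- Let X be a locally Noetherian algebraic space over a scheme S. Then X is regular (etale locally a
regular scheme: some surjective etale chart from a locally Noetherian scheme all of whose local
rings are regular) if and only if every etale local ring of X at a geometric point is a regular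
local ring. -/
theorem result {S : Scheme.{u}} (X : AlgSp.Space S) (hX : AlgSp.IsLocNoethSp X.obj) :
    AlgSp.EtaleLocally (fun U => IsLocallyNoetherian U ∧ ∀ u : ↥U, IsRegularLocalRing ↥(U.presheaf.stalk u)) X.obj ↔
      ∀ p : AlgSp.FieldPt X.obj, p.IsGeometric → IsRegularLocalRing ↥(AlgSp.OEtStalk p) := by
  constructor
  · rintro ⟨U, q, hq, hq', hU, hreg⟩ p hp
    have := LocalRingApps.isSepClosed hp
    obtain ⟨l⟩ := LocalRingApps.exists_lift_of_surjective q hq hq' p hp
    have : IsLocallyNoetherian (EtOver.mk q hq).obj.left.left := hU
    exact (LocalRingApps.isRegularLocalRing_iff X.property p hp l).mpr (hreg _)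
  · intro h
    obtain ⟨U, q, hq, hq', hU⟩ := hX
    refine ⟨U, q, hq, hq', hU, fun u => ?_⟩
    obtain ⟨p, hp, hpu⟩ := Lifts.exists_geometric (Points.ofPt q u)
    have := LocalRingApps.isSepClosed hp
    obtain ⟨l, hl⟩ := Lifts.exists_lift p hp (EtOver.mk q hq) u hpu.symm
    have : IsLocallyNoetherian (EtOver.mk q hq).obj.left.left := hU
    have h1 := (LocalRingApps.isRegularLocalRing_iff X.property p hp l).mp (h p hp)
    rw [hl] at h1
    exact h1

end Groth.Agent.S10231
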