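import Groth.Statements.S10232
import Groth.Agent.Lib.AlgSpStalk.LocalRingApps

set_option autoImplicit false
universe u
open CategoryTheory CategoryTheory.Limits AlgebraicGeometry Topology TopologicalSpace
open AlgSp
open Groth.Agent.Lib.AlgSpStalk

namespace Groth.Agent.S10232

/-- Let X be an algebraic space over a scheme S and x ∈ |X|. Then X is regular at x (for some etale
chart h_U ⟶ X and some point u of U over x, the local ring of U at u is regular) if and only if the
etale local ring of X at x̄ is regular for every geometric point x̄ lying over x, if and only if it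
is regular for some geometric point x̄ lying over x. -/
theorem result {S : Scheme.{u}} (X : AlgSp.Space S) (x : AlgSp.Points X.obj) :
    (AlgSp.HasAt (fun U u => IsRegularLocalRing ↥(U.presheaf.stalk u)) X.obj x ↔
      ∀ p : AlgSp.FieldPt X.obj, p.IsGeometric → AlgSp.Points.mk p = x → IsRegularLocalRing ↥(AlgSp.OEtStalk p)) ∧
    (AlgSp.HasAt (fun U u => IsRegularLocalRing ↥(U.presheaf.stalk u)) X.obj x ↔
      ∃ p : AlgSp.FieldPt X.obj, p.IsGeometric ∧ AlgSp.Points.mk p = x ∧ IsRegularLocalRing ↥(AlgSp.OEtStalk p)) := by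
  have key : ∀ p : AlgSp.FieldPt X.obj, p.IsGeometric → AlgSp.Points.mk p = x →
      ∀ (U : Over S) (a : (AlgSp.yon S).obj U ⟶ X.obj) (u : ↥U.left), AlgSp.RepWith @Etale a →
      AlgSp.Points.ofPt a u = x →
      (IsRegularLocalRing ↥(AlgSp.OEtStalk p) ↔ IsRegularLocalRing ↥(U.left.presheaf.stalk u)) := by
    intro p hp hpx U a u ha hu
    have := LocalRingApps.isSepClosed hp
    obtain ⟨l, hl⟩ := Lifts.exists_lift p hp (EtOver.mk a ha) u (hu.trans hpx.symm)
    subst hl
    exact LocalRingApps.isRegularLocalRing_iff X.property p hp l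
  obtain ⟨p₀, hp₀, hx₀⟩ := Lifts.exists_geometric x
  have nb : ∀ p : AlgSp.FieldPt X.obj, p.IsGeometric → AlgSp.Points.mk p = x →
      IsRegularLocalRing ↥(AlgSp.OEtStalk p) →
      AlgSp.HasAt (fun U u => IsRegularLocalRing ↥(U.presheaf.stalk u)) X.obj x := by
    intro p hp hpx hr
    obtain ⟨⟨E, l⟩⟩ := Point.exists_nbhd X.property p hp
    have hu : AlgSp.Points.ofPt E.obj.hom (l.1.left (Lifts.pt₀ p)) = x :=
      (Lifts.ofPt_lift p l).trans hpx
    exact ⟨E.obj.left, E.obj.hom, l.1.left (Lifts.pt₀ p), E.property, hu,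
      (key p hp hpx E.obj.left E.obj.hom _ E.property hu).mp hr⟩
  have h₁ : AlgSp.HasAt (fun U u => IsRegularLocalRing ↥(U.presheaf.stalk u)) X.obj x →
      ∀ p : AlgSp.FieldPt X.obj, p.IsGeometric → AlgSp.Points.mk p = x →
        IsRegularLocalRing ↥(AlgSp.OEtStalk p) := by
    rintro ⟨U, a, u, ha, hu, hr⟩ p hp hpx
    exact (key p hp hpx U a u ha hu).mpr hr
  exact ⟨⟨h₁, fun h => nb p₀ hp₀ hx₀ (h p₀ hp₀ hx₀)⟩,
    ⟨fun h => ⟨p₀, hp₀, hx₀, h₁ h p₀ hp₀ hx₀⟩, fun ⟨p, hp, hpx, hr⟩ => nb p hp hpx hr⟩⟩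

end Groth.Agent.S10232
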