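import Groth.Statements.S10233
import Groth.Agent.Lib.Bootstrap.ImmersionDescent
import Groth.Agent.Lib.AlgSpace.DescendRep

set_option autoImplicit false
universe u
open CategoryTheory CategoryTheory.Limits AlgebraicGeometry Topology TopologicalSpace
open AlgSp

namespace Groth.Agent.S10233

/-- Let X be an algebraic space over a scheme S with a presentation (U, R, s, t, p), and let i' : Z' ⟶ U
be an immersion of schemes that is R-invariant, meaning that one locally closed subscheme R' of R is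
at the same time the inverse image of Z' under s and under t. Then Z' descends to a locally closed
subspace of X: there is a morphism of algebraic spaces i : Z ⟶ X representable by immersions
together with a map h_{Z'} ⟶ Z making h_{Z'} the fibre product Z ×_X h_U; moreover i is a closed
(resp. open) immersion when i' is. -/
theorem result {S : Scheme.{u}} (X : AlgSp.Space S) {R U : Over S} (s t : R ⟶ U)
    (p : (AlgSp.yon S).obj U ⟶ X.obj) (hp : AlgSp.IsPresentation s t p)
    {Z' R' : Scheme.{u}} (i' : Z' ⟶ U.left) [IsImmersion i'] (k : R' ⟶ R.left) (s' t' : R' ⟶ Z')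
    (hs : IsPullback k s' s.left i') (ht : IsPullback k t' t.left i') :
    ∃ (Z : AlgSp.Space S) (i : Z ⟶ X) (q : (AlgSp.yon S).obj (Over.mk (i' ≫ U.hom)) ⟶ Z.obj),
      AlgSp.RepWith @IsImmersion i.hom ∧
      IsPullback q ((AlgSp.yon S).map (Over.homMk i' rfl : Over.mk (i' ≫ U.hom) ⟶ U)) i.hom p ∧
      (IsClosedImmersion i' → AlgSp.RepWith @IsClosedImmersion i.hom) ∧
      (IsOpenImmersion i' → AlgSp.RepWith @IsOpenImmersion i.hom) := by
  let Z₀ : Over S := Over.mk (i' ≫ U.hom)
  let iU : Z₀ ⟶ U := Over.homMk i' rfl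
  let R₀ : Over S := Over.mk (k ≫ R.hom)
  let kR : R₀ ⟶ R := Over.homMk k rfl
  let s₀ : R₀ ⟶ Z₀ := Over.homMk s' (by
    change s' ≫ i' ≫ U.hom = k ≫ R.hom
    rw [← reassoc_of% hs.w, Over.w])
  let t₀ : R₀ ⟶ Z₀ := Over.homMk t' (by
    change t' ≫ i' ≫ U.hom = k ≫ R.hom
    rw [← reassoc_of% ht.w, Over.w])
  have hsO : IsPullback kR s₀ s iU :=
    IsPullback.of_map (Over.forget S) (Over.OverMorphism.ext hs.w) hs
  have htO : t₀ ≫ iU = kR ≫ t := Over.OverMorphism.ext ht.w.symm
  haveI : IsImmersion iU.left := ‹IsImmersion i'›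
  haveI : Mono iU := Over.mono_of_mono_left _
  have hπ := hp.isPullback
  have hinj := hp.eqvRel.injective
  have hex : ∀ {T : Over S} (a : T ⟶ U) (b : T ⟶ Z₀),
      (yon S).map a ≫ p = (yon S).map (b ≫ iU) ≫ p →
        ∃ l : T ⟶ R₀, l ≫ t₀ ≫ iU = a ∧ l ≫ s₀ = b := fun {T} a b e => by
    obtain ⟨r, hr⟩ := (yon S).map_surjective (hπ.lift _ _ e)
    have h1 : r ≫ t = a := (yon S).map_injective (by rw [Functor.map_comp, hr, hπ.lift_fst])
    have h2 : r ≫ s = b ≫ iU := (yon S).map_injective (by rw [Functor.map_comp, hr, hπ.lift_snd])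
    exact ⟨hsO.lift r b h2, by rw [htO, ← Category.assoc, hsO.lift_fst, h1], hsO.lift_snd _ _ _⟩
  have hk : ∀ {T : Over S} (l : T ⟶ R₀),
      (yon S).map (l ≫ t₀ ≫ iU) ≫ p = (yon S).map (l ≫ s₀ ≫ iU) ≫ p := fun l => by
    rw [htO, ← hsO.w]
    simp only [Functor.map_comp, Category.assoc, hπ.w]
  have h' : IsEtaleEqvRel s₀ t₀ := by
    refine ⟨⟨fun T r r' e1 e2 => hsO.hom_ext (hinj T _ _ ?_ ?_) e2, fun T => ?_⟩, ?_, ?_⟩
    · rw [Category.assoc, Category.assoc, ← htO, reassoc_of% e1]
    · rw [Category.assoc, Category.assoc, hsO.w, reassoc_of% e2]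
    · have key : ∀ a b : T ⟶ Z₀, (∃ l : T ⟶ R₀, l ≫ t₀ = a ∧ l ≫ s₀ = b) ↔
          (yon S).map (a ≫ iU) ≫ p = (yon S).map (b ≫ iU) ≫ p := fun a b => by
        constructor
        · rintro ⟨l, rfl, rfl⟩
          simpa only [Category.assoc] using hk l
        · intro e
          obtain ⟨l, h1, h2⟩ := hex _ b e
          exact ⟨l, (cancel_mono iU).1 (by rw [Category.assoc]; exact h1), h2⟩
      exact ⟨fun a => (key a a).2 rfl, fun hab => (key _ _).2 ((key _ _).1 hab).symm,
        fun hab hbc => (key _ _).2 (((key _ _).1 hab).trans ((key _ _).1 hbc))⟩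
    · exact MorphismProperty.of_isPullback (P := @Etale) hs hp.eqvRel.etale_left
    · exact MorphismProperty.of_isPullback (P := @Etale) ht hp.eqvRel.etale_right
  let q := Groth.Agent.Lib.AlgSpace.quotMap s₀ t₀
  have sqq := Groth.Agent.Lib.AlgSpace.isPullback_quot h'.toIsEqvRel
  haveI : Sheaf.IsLocallySurjective q := Groth.Agent.Lib.AlgSpace.isLocallySurjective_quotMap s₀ t₀
  obtain ⟨i, hi⟩ := Groth.Agent.Lib.AlgSpace.exists_desc q sqq ((yon S).map iU ≫ p) (by
    simpa only [Functor.map_comp, Category.assoc, Category.id_comp, CategoryTheory.Functor.map_id]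
      using hk (𝟙 R₀))
  haveI : Sheaf.IsLocallySurjective p :=
    Groth.Agent.Lib.AlgSpace.isLocallySurjective_of_etale hp.etale hp.surjective
  have sq : IsPullback q ((yon S).map iU) i p := by
    refine Groth.Agent.Lib.AlgSpace.isPullback_of_yon hi (fun T a b _ e2 => ?_) fun T z u e => ?_
    · obtain ⟨a, rfl⟩ := (yon S).map_surjective a
      obtain ⟨b, rfl⟩ := (yon S).map_surjective b
      rw [← Functor.map_comp, ← Functor.map_comp] at e2
      rw [(cancel_mono iU).1 ((yon S).map_injective e2)]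
    · obtain ⟨u, rfl⟩ := (yon S).map_surjective u
      obtain ⟨T', c, x, hc, hx⟩ := Groth.Agent.Lib.AlgSpace.exists_lift_of_isLocallySurjective q z
      obtain ⟨x, rfl⟩ := (yon S).map_surjective x
      obtain ⟨l, hl1, hl2⟩ := hex (c ≫ u) x (by
        rw [Functor.map_comp, Functor.map_comp, Category.assoc, Category.assoc, ← e, ← reassoc_of% hx,
          hi])
      haveI := Groth.Agent.Lib.AlgSpace.isLocallySurjective_yon_map c hc
      haveI := Groth.Agent.Lib.AlgSpace.epi_yon_map c hc
      obtain ⟨y, hy⟩ := Groth.Agent.Lib.AlgSpace.exists_desc ((yon S).map c)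
        ((IsPullback.of_hasPullback c c).map (yon S)) ((yon S).map (l ≫ t₀)) (by
          rw [← Functor.map_comp, ← Functor.map_comp]
          congr 1
          rw [← cancel_mono iU]
          simp only [Category.assoc, hl1, pullback.condition_assoc])
      refine ⟨y, ?_, ?_⟩
      · rw [← cancel_epi ((yon S).map c), reassoc_of% hy, ← hx, ← hl2]
        simp only [Functor.map_comp, Category.assoc]
        rw [sqq.w]
      · rw [← cancel_epi ((yon S).map c), reassoc_of% hy, ← Functor.map_comp, ← Functor.map_comp,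
          Category.assoc, hl1]
  haveI : Mono i := Groth.Agent.Lib.AlgSpace.mono_of_yon i fun T a b (e : a ≫ i = b ≫ i) => by
    obtain ⟨T₁, c₁, x, hc₁, hx⟩ := Groth.Agent.Lib.AlgSpace.exists_lift_of_isLocallySurjective q a
    obtain ⟨T₂, c₂, y, hc₂, hy⟩ := Groth.Agent.Lib.AlgSpace.exists_lift_of_isLocallySurjective q
      ((yon S).map c₁ ≫ b)
    obtain ⟨x, rfl⟩ := (yon S).map_surjective x
    obtain ⟨y, rfl⟩ := (yon S).map_surjective y
    obtain ⟨l, hl1, hl2⟩ := hex (c₂ ≫ x ≫ iU) y (by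
      simp only [Functor.map_comp, Category.assoc, ← hi]
      rw [reassoc_of% hx, reassoc_of% hy, e])
    have hl1' : l ≫ t₀ = c₂ ≫ x := (cancel_mono iU).1 (by simpa only [Category.assoc] using hl1)
    haveI := Groth.Agent.Lib.AlgSpace.epi_yon_map c₁ hc₁
    haveI := Groth.Agent.Lib.AlgSpace.epi_yon_map c₂ hc₂
    rw [← cancel_epi ((yon S).map c₁), ← cancel_epi ((yon S).map c₂), ← hx, ← hy,
      ← Functor.map_comp_assoc, ← hl1', ← hl2, Functor.map_comp, Functor.map_comp, Category.assoc,
      Category.assoc, sqq.w]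
  have hrep : Representable i := Groth.Agent.Lib.AlgSpace.representable_of_mono_of_lft p sq
    ((AlgSp.repWith_yon_map_iff _ iU).2 (inferInstanceAs (LocallyOfFiniteType iU.left)))
  refine ⟨⟨_, Groth.Agent.Lib.AlgSpace.isAlgSpace_quot h'⟩, ObjectProperty.homMk i, q, ?_, sq,
    fun hc => ?_, fun ho => ?_⟩
  · haveI := Groth.Agent.Lib.Bootstrap.isLocalAtTarget_fppf_isImmersion.{u}
    exact Groth.Agent.Lib.AlgSpace.repWith_of_isLocallySurjective hrep p sq @IsImmersion
      ((AlgSp.repWith_yon_map_iff _ iU).2 ‹IsImmersion iU.left›)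
  · haveI := Groth.Agent.Lib.AlgSpMor.Sep.isLocalAtTarget_fppf_isClosedImmersion.{u}
    exact Groth.Agent.Lib.AlgSpace.repWith_of_isLocallySurjective hrep p sq @IsClosedImmersion
      ((AlgSp.repWith_yon_map_iff _ iU).2 hc)
  · haveI : MorphismProperty.IsLocalAtTarget @IsOpenImmersion.{u} Scheme.fppfPrecoverage :=
      Groth.Agent.Lib.AlgSpace.isLocalAtTarget_fppf_isOpenImmersion
    exact Groth.Agent.Lib.AlgSpace.repWith_of_isLocallySurjective hrep p sq @IsOpenImmersion
      ((AlgSp.repWith_yon_map_iff _ iU).2 ho)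

end Groth.Agent.S10233
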