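import Groth.Statements.S10234
import Groth.Agent.Lib.AlgSpStalk.Stalks

set_option autoImplicit false
universe u
open CategoryTheory CategoryTheory.Limits AlgebraicGeometry Topology TopologicalSpace
open AlgSp

namespace Groth.Agent.S10234

set_option backward.isDefEq.respectTransparency false in
theorem postcomp_preservesPullback {S : Scheme.{u}} {X Y : AlgSp.Sp S} (f : X ⟶ Y)
    (hf : AlgSp.IsEtaleMor f) {E₁ E₂ E₀ : EtOver X} (g₁ : E₁ ⟶ E₀) (g₂ : E₂ ⟶ E₀) :
    PreservesLimit (cospan g₁ g₂) (EtOver.postcomp f hf) := by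
  refine preservesLimit_of_preserves_limit_cone (EtOver.pullbackIsLimit g₁ g₂)
    ((isLimitMapConePullbackConeEquiv _ _).symm ?_)
  refine PullbackCone.IsLimit.mk _
    (fun s => EtOver.homMk (pullback.lift s.fst.hom.left s.snd.hom.left
      (congrArg (fun k => k.hom.left) s.condition)) ?_)
    (fun s => EtOver.hom_ext _ _ (pullback.lift_fst _ _ _))
    (fun s => EtOver.hom_ext _ _ (pullback.lift_snd _ _ _))
    (fun s m h₁ h₂ => EtOver.hom_ext _ _ (pullback.hom_ext
      ((congrArg (fun k => k.hom.left) h₁).trans (pullback.lift_fst _ _ _).symm)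
      ((congrArg (fun k => k.hom.left) h₂).trans (pullback.lift_snd _ _ _).symm)))
  change (yon S).map _ ≫ ((yon S).map _ ≫ E₁.obj.hom) ≫ f = s.pt.obj.hom
  rw [← Category.assoc, ← Category.assoc, ← Functor.map_comp, pullback.lift_fst, Category.assoc]
  exact EtOver.w s.fst

/-- Suppose f : X ⟶ Y is a morphism of algebraic spaces over a scheme S that is etale. Then the functor
j : X_etale ⟶ Y_etale, (U ⟶ X) ↦ (U ⟶ X ⟶ Y), is continuous and cocontinuous for the etale
topologies. (The identification of the associated morphism of topoi with f_small, and the resulting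
formula for inverse images, are not part of this row.) -/
theorem result {S : Scheme.{u}} {X Y : AlgSp.Space S} (f : X ⟶ Y)
    (hf : AlgSp.IsEtaleMor f.hom) :
    (AlgSp.EtOver.postcomp f.hom hf).IsContinuous (AlgSp.etTop X.obj) (AlgSp.etTop Y.obj) ∧
      (AlgSp.EtOver.postcomp f.hom hf).IsCocontinuous (AlgSp.etTop X.obj) (AlgSp.etTop Y.obj) := by
  constructor
  · have := fun {E₁ E₂ E₀ : EtOver X.obj} (g₁ : E₁ ⟶ E₀) (g₂ : E₂ ⟶ E₀) =>
      postcomp_preservesPullback f.hom hf g₁ g₂
    have : PreservesLimitsOfShape WalkingCospan (EtOver.postcomp f.hom hf) :=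
      ⟨fun {K} => preservesLimit_of_iso_diagram _ (diagramIsoCospan K).symm⟩
    refine Functor.isContinuous_toGrothendieck_of_pullbacksPreservedBy _ _ _ ?_
    intro E R hR
    obtain ⟨ι, Z, g, rfl⟩ := R.exists_eq_ofArrows
    rw [Precoverage.mem_comap_iff, Presieve.map_ofArrows]
    exact (AlgSp.ofArrows_mem_etPre_iff _ _).2 ((AlgSp.ofArrows_mem_etPre_iff Z g).1 hR)
  · refine ⟨fun {E R} hR => ?_⟩
    obtain ⟨R₀, hR₀, hle⟩ :=
      (Precoverage.mem_toGrothendieck_iff_of_isStableUnderComposition (J := etPre Y.obj)).1 hR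
    obtain ⟨ι, Z, g, rfl⟩ := R₀.exists_eq_ofArrows
    have he : ∀ i, RepWith @Etale ((yon S).map (g i).hom.left ≫ E.obj.hom) := fun i =>
      (AlgSp.repWith_isMultiplicative (S := S) @Etale).comp_mem _ _
        ((AlgSp.repWith_yon_map_iff _ _).2 (EtOver.etale_left (g i))) E.property
    let h : ∀ i, EtOver.mk _ (he i) ⟶ E := fun i => EtOver.homMk (g i).hom.left rfl
    refine (etTop X.obj).superset_covering ?_
      (AlgSp.ofArrows_mem_etTop _ h ((AlgSp.ofArrows_mem_etPre_iff Z g).1 hR₀))
    rw [Sieve.generate_le_iff]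
    rintro V k ⟨i⟩
    let k' : (EtOver.postcomp f.hom hf).obj (EtOver.mk _ (he i)) ⟶ Z i :=
      EtOver.homMk (𝟙 _) (by
        refine (congrArg (· ≫ (Z i).obj.hom) ((yon S).map_id _)).trans ?_
        refine (Category.id_comp _).trans ?_
        exact (EtOver.w (g i)).symm.trans (Category.assoc _ _ _).symm)
    have hk : (EtOver.postcomp f.hom hf).map (h i) = k' ≫ g i :=
      EtOver.hom_ext _ _ (Category.id_comp (g i).hom.left).symm
    change R _
    rw [hk]
    exact R.downward_closed (hle _ _ ⟨i⟩) k'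

end Groth.Agent.S10234
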