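import Groth.Statements.S10239
import Groth.Agent.Lib.AlgSpStalk.Branches

set_option autoImplicit false
universe u
open CategoryTheory CategoryTheory.Limits AlgebraicGeometry Topology TopologicalSpace
open AlgSp
open Groth.Agent.Lib.AlgSpStalk

namespace Groth.Agent.S10239

/-- (1) ⇔ (4) ⇔ (5): let X be an algebraic space over a scheme S, x ∈ |X| and n ≥ 1 an integer. The
following are equivalent: (1) for every scheme U, etale h_U ⟶ X and u ∈ U over x the local ring of U
at u has at most n minimal primes, and for some such (U, u) exactly n; (4) for every such (U, u) the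
number of geometric branches of U at u is n; (5) for every geometric point x̄ over x the etale local
ring of X at x̄ has exactly n minimal primes. -/
theorem result {S : Scheme.{u}} (X : AlgSp.Space S) (x : AlgSp.Points X.obj)
    (n : ℕ) (hn : 1 ≤ n) :
    (((∀ (U : Over S) (a : (AlgSp.yon S).obj U ⟶ X.obj) (u : ↥U.left),
        AlgSp.RepWith @Etale a → AlgSp.Points.ofPt a u = x → (minimalPrimes ↥(U.left.presheaf.stalk u)).encard ≤ n) ∧
        AlgSp.HasAt (fun U u => (minimalPrimes ↥(U.presheaf.stalk u)).encard = n) X.obj x) ↔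
      (∀ (U : Over S) (a : (AlgSp.yon S).obj U ⟶ X.obj) (u : ↥U.left),
        AlgSp.RepWith @Etale a → AlgSp.Points.ofPt a u = x → Brnch.numGeomBranchesAt U.left u = n)) ∧
    ((∀ (U : Over S) (a : (AlgSp.yon S).obj U ⟶ X.obj) (u : ↥U.left),
        AlgSp.RepWith @Etale a → AlgSp.Points.ofPt a u = x → Brnch.numGeomBranchesAt U.left u = n) ↔
      ∀ p : AlgSp.FieldPt X.obj, p.IsGeometric → AlgSp.Points.mk p = x →
        (minimalPrimes ↥(AlgSp.OEtStalk p)).encard = n) := by
  have hX := X.property
  constructor
  · constructor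
    · rintro ⟨hle, U₁, a₁, u₁, ha₁, hu₁, h₁⟩ U a u ha hu
      refine le_antisymm (not_lt.mp fun hlt => ?_) ?_
      · obtain ⟨U', a', u', ha', hu', h'⟩ := Branches.exists_chart a u ha (n + 1)
          (by exact_mod_cast Order.add_one_le_of_lt hlt)
        have h2 := h'.trans (hle U' a' u' ha' (hu'.trans hu))
        norm_cast at h2
        omega
      · obtain ⟨p, hp, hpx⟩ := Lifts.exists_geometric x
        have h2 := Branches.encard_stalk_le U₁.left u₁
        rw [h₁, ← Branches.encard_OEtStalk hX p hp a₁ u₁ ha₁ (hu₁.trans hpx.symm),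
          Branches.encard_OEtStalk hX p hp a u ha (hu.trans hpx.symm)] at h2
        exact h2
    · intro hg
      refine ⟨fun U a u ha hu => hg U a u ha hu ▸ Branches.encard_stalk_le U.left u, ?_⟩
      obtain ⟨U, a, u, ha, hu⟩ := Branches.exists_chart_at hX x
      obtain ⟨U', a', u', ha', hu', h'⟩ := Branches.exists_chart a u ha n (hg U a u ha hu).ge
      refine ⟨U', a', u', ha', hu'.trans hu, le_antisymm ?_ h'⟩
      exact hg U' a' u' ha' (hu'.trans hu) ▸ Branches.encard_stalk_le U'.left u'
  · constructor
    · intro hg p hp hpx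
      obtain ⟨⟨E, l⟩⟩ := Point.exists_nbhd hX p hp
      have hu := Lifts.ofPt_lift p l
      rw [Branches.encard_OEtStalk hX p hp E.obj.hom _ E.property hu]
      exact hg _ _ _ E.property (hu.trans hpx)
    · intro h U a u ha hu
      obtain ⟨p, hp, hpx⟩ := Lifts.exists_geometric x
      rw [← Branches.encard_OEtStalk hX p hp a u ha (hu.trans hpx.symm)]
      exact h p hp hpx

end Groth.Agent.S10239
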