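import Mathlib.CategoryTheory.Adjunction.PartialAdjoint
import Mathlib.CategoryTheory.Abelian.Refinements
-- Template for statement S1024 (row 1024; see the milestone table for weights).
-- Copy to Groth/Agent/S1024.lean and replace the sorry. The statement below is byte-identical to the frozen
-- statement CohDer.GrothFrozen.S1024 (Groth/Statements/S1024.lean; the theorem CohDer.isRightAdjoint_of_partially_defined_adjoint);
-- the grader kernel-checks Groth.Agent.S1024.result against that frozen type. Keep the theorem IN THIS FILE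
-- (a `result` declared elsewhere and merely imported here is not credited); helpers may live anywhere
-- under Groth/Agent/.
import Groth.Statements.S1024
-- import your own Groth.Agent.* helpers here

set_option autoImplicit false
universe v u u'
open CategoryTheory Opposite
open CohDer

namespace Groth.Agent.S1024

open CategoryTheory.Limits

/-- Let u : A ⥤ B be a functor between abelian categories and P a family of objects of B such that each
object of B receives an epimorphism from some member of P, and such that for every member Pᵢ there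
is an object Q of A with Hom_A(Q, -) ≅ Hom_B(Pᵢ, u(-)) naturally. Then u is a right adjoint (has a
left adjoint). -/
theorem result {A : Type u} [Category.{v} A] [Abelian A] {B : Type u'} [Category.{v} B] [Abelian B]
    (u : A ⥤ B) {ι : Type*} (P : ι → B)
    (h1 : ∀ X : B, ∃ (i : ι) (π : P i ⟶ X), Epi π)
    (h2 : ∀ i : ι, ∃ Q : A, Nonempty (coyoneda.obj (op Q) ≅ u ⋙ coyoneda.obj (op (P i)))) :
    u.IsRightAdjoint := by
  choose Q hQ using h2
  let e := fun i => ((hQ i).some)
  let φ : ∀ (i : ι) (Y : A), (Q i ⟶ Y) ≃ (P i ⟶ u.obj Y) := fun i Y => ((e i).app Y).toEquiv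
  have hφ : ∀ (i : ι) (Y Y' : A) (f : Q i ⟶ Y) (g : Y ⟶ Y'),
      φ i Y' (f ≫ g) = φ i Y f ≫ u.map g := fun i Y Y' f g =>
    congrArg (fun k => k f) ((e i).hom.naturality g)
  have hz : ∀ Z : A, IsZero Z → IsZero (u.obj Z) := fun Z hZ => by
    obtain ⟨i, π, hπ⟩ := h1 (u.obj Z)
    rw [IsZero.iff_id_eq_zero, ← cancel_epi π]
    exact (φ i Z).symm.injective (hZ.eq_of_tgt _ _)
  have hφ0 : ∀ (i : ι) (Y : A), φ i Y 0 = 0 := fun i Y => by
    obtain ⟨Z, hZ⟩ : ∃ Z : A, IsZero Z := ⟨_, isZero_zero A⟩
    rw [← comp_zero (f := (0 : Q i ⟶ Z)) (Z := Y), hφ]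
    rw [(hz Z hZ).eq_of_tgt (φ i Z 0) 0, zero_comp]
  refine Functor.isRightAdjoint_of_leftAdjointObjIsDefined_eq_top ?_
  ext X
  simp only [Pi.top_apply, Prop.top_eq_true, iff_true]
  obtain ⟨i, π, hπ⟩ := h1 X
  obtain ⟨j, p, hp⟩ := h1 (kernel π)
  let d := p ≫ kernel.ι π
  let q : Q j ⟶ Q i := (φ j (Q i)).symm (d ≫ φ i (Q i) (𝟙 _))
  have key : ∀ (Y : A) (f : Q i ⟶ Y), φ j Y (q ≫ f) = d ≫ φ i Y f := fun Y f => by
    rw [hφ, Equiv.apply_symm_apply, Category.assoc, ← hφ, Category.id_comp]
  let hS : (ShortComplex.mk d π (by simp [d])).Exact :=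
    (ShortComplex.exact_iff_exact_up_to_refinements _).2 fun {T} x hx => by
      obtain ⟨T', r, hr, y, hy⟩ := surjective_up_to_refinements_of_epi p (kernel.lift π x hx)
      exact ⟨T', r, hr, y, by simpa [d] using congrArg (· ≫ kernel.ι π) hy⟩
  have hc := hS.gIsCokernel
  refine Functor.CorepresentableBy.isCorepresentable (X := cokernel q)
    { homEquiv := fun {Y} =>
        { toFun := fun f => Cofork.IsColimit.desc hc (φ i Y (cokernel.π q ≫ f)) (by
            rw [zero_comp]
            change d ≫ _ = 0
            rw [← key, cokernel.condition_assoc, zero_comp, hφ0])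
          invFun := fun g => cokernel.desc q ((φ i Y).symm (π ≫ g)) (Equiv.injective (φ j Y) (by
            rw [key, Equiv.apply_symm_apply, hφ0, ← Category.assoc]
            simp [d]))
          left_inv := fun f => coequalizer.hom_ext (by
            dsimp only
            erw [cokernel.π_desc, Cofork.IsColimit.π_desc' hc]
            exact (φ i Y).symm_apply_apply _)
          right_inv := fun g => Cofork.IsColimit.hom_ext hc (by
            dsimp only
            erw [Cofork.IsColimit.π_desc' hc, cokernel.π_desc]
            exact (φ i Y).apply_symm_apply _) }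
      homEquiv_comp := ?_ }
  intro Y Y' g f
  refine Cofork.IsColimit.hom_ext hc ?_
  change π ≫ Cofork.IsColimit.desc hc _ _ = π ≫ Cofork.IsColimit.desc hc _ _ ≫ u.map g
  erw [Cofork.IsColimit.π_desc' hc, Cofork.IsColimit.π_desc'_assoc hc]
  rw [← Category.assoc, hφ]

end Groth.Agent.S1024
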