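import Groth.Statements.S10240
import Groth.Agent.Lib.EtMod.Ext
import Groth.Agent.Lib.EtMod.Colimit
import Groth.Agent.Lib.EtMod.WeakAss

set_option autoImplicit false
universe u
open CategoryTheory CategoryTheory.Limits AlgebraicGeometry Topology TopologicalSpace
open AlgSp
open Groth.Agent.Lib.EtMod

namespace Groth.Agent.S10240

/-- Let X be an algebraic space over a scheme S. Colimits of quasi-coherent O_X-modules are
quasi-coherent; kernels and cokernels of maps between quasi-coherent O_X-modules are quasi-coherent;
and in a short exact sequence of O_X-modules, if two out of three are quasi-coherent then so is the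
third. -/
theorem result {S : Scheme.{u}} (X : AlgSp.Space S) :
    (∀ (J : Type u) [SmallCategory J] (D : J ⥤ AlgSp.ModEt X.obj) [HasColimit D],
        (∀ j, (D.obj j).IsQuasicoherent) → (colimit D).IsQuasicoherent) ∧
    (∀ (F G : AlgSp.ModEt X.obj) (φ : F ⟶ G), F.IsQuasicoherent → G.IsQuasicoherent →
        (kernel φ).IsQuasicoherent ∧ (cokernel φ).IsQuasicoherent) ∧
    (∀ C : ShortComplex (AlgSp.ModEt X.obj), C.ShortExact →
        (C.X₁.IsQuasicoherent → C.X₂.IsQuasicoherent → C.X₃.IsQuasicoherent) ∧
        (C.X₁.IsQuasicoherent → C.X₃.IsQuasicoherent → C.X₂.IsQuasicoherent) ∧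
        (C.X₂.IsQuasicoherent → C.X₃.IsQuasicoherent → C.X₁.IsQuasicoherent)) := by
  refine ⟨fun J _ D _ hD => isQuasicoherent_of_isCart
      (isCart_colimit D fun j => have := hD j; isCart_of_isQuasicoherent _),
    fun F G φ _ _ => ⟨isQuasicoherent_of_isCart
        (isCart_kernel φ (isCart_of_isQuasicoherent F) (isCart_of_isQuasicoherent G)),
      isQuasicoherent_of_isCart
        (isCart_cokernel φ (isCart_of_isQuasicoherent F) (isCart_of_isQuasicoherent G))⟩,
    fun C hC => ?_⟩
  have : Epi C.g := hC.epi_g
  have hinj := injective_secMap_of_shortExact hC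
  have hex := exact_secMap_of_shortExact hC
  refine ⟨fun h₁ h₂ => isQuasicoherent_of_isCart (isCart_of_exact_epi C.f C.g C.zero hC.exact
      (isCart_of_isQuasicoherent _) (isCart_of_isQuasicoherent _)),
    fun h₁ h₃ => isQuasicoherent_of_isCart (isCart_of_extension C.f C.g hinj hex
      (isCart_of_isQuasicoherent _) (isCart_of_isQuasicoherent _)
      (fun V m => SubSheaf.exists_local_preimage C.g m)),
    fun h₂ h₃ => isQuasicoherent_of_isCart (isCart_of_leftExact C.f C.g hinj hex
      (isCart_of_isQuasicoherent _) (isCart_of_isQuasicoherent _))⟩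

end Groth.Agent.S10240
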