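import Groth.Statements.S10242
import Groth.Agent.Lib.AlgSpRed.Stalk

set_option autoImplicit false
universe u
open CategoryTheory CategoryTheory.Limits AlgebraicGeometry Topology TopologicalSpace
open AlgSp

namespace Groth.Agent.S10242

/-- Let X be a reduced algebraic space over a scheme S. Then the ring of global sections of the
structure sheaf of X (on the small etale site) is reduced, and if a global section f satisfies X =
V(f), meaning that its restriction to every scheme U etale over X has empty non-vanishing locus
D(f|_U), then f = 0. -/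
theorem result {S : Scheme.{u}} (X : AlgSp.Space S) (hX : AlgSp.IsReducedSp X.obj) :
    _root_.IsReduced ↥(AlgSp.gsectEt (AlgSp.OEt X.obj)) ∧
      ∀ f : ↥(AlgSp.gsectEt (AlgSp.OEt X.obj)),
        (∀ E : AlgSp.EtOver X.obj,
            E.obj.left.left.basicOpen ((limit.π (AlgSp.OEt X.obj).obj (Opposite.op E)) f).down = ⊥) →
          f = 0 := by
  have key : ∀ f : ↥(AlgSp.gsectEt (AlgSp.OEt X.obj)),
      (∀ E : AlgSp.EtOver X.obj,
        E.obj.left.left.basicOpen ((limit.π (AlgSp.OEt X.obj).obj (Opposite.op E)) f).down = ⊥) →
      f = 0 := by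
    intro f hf
    refine Concrete.limit_ext _ _ _ fun E => ?_
    have : IsReduced E.unop.obj.left.left :=
      Groth.Agent.Lib.AlgSpRed.Stalk.isReduced_chart X.property.diag hX E.unop.property
    rw [map_zero]
    exact ULift.ext _ _ ((@basicOpen_eq_bot_iff E.unop.obj.left.left _ _ _).1 (hf E.unop))
  refine ⟨⟨fun f hf => key f fun E => ?_⟩, key⟩
  obtain ⟨n, hn⟩ := hf
  have : IsReduced E.obj.left.left :=
    Groth.Agent.Lib.AlgSpRed.Stalk.isReduced_chart X.property.diag hX E.property
  rw [basicOpen_eq_bot_iff]
  refine IsReduced.eq_zero _ ⟨n, ?_⟩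
  have h := congrArg (fun g => (limit.π (AlgSp.OEt X.obj).obj (Opposite.op E)) g) hn
  simp only [map_pow, map_zero] at h
  exact congrArg ULift.down h

end Groth.Agent.S10242
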