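import Groth.Statements.S10246
import Groth.Agent.Lib.AlgSpace.Local
import Groth.Agent.Lib.AlgSpace.Diag

set_option autoImplicit false
universe u
open CategoryTheory CategoryTheory.Limits AlgebraicGeometry Topology TopologicalSpace
open AlgSp

namespace Groth.Agent.S10246

/-- Let X be an algebraic space over a terminal base scheme (so that morphisms over the base are all
morphisms) and T an affine scheme. Then f ↦ f♯ is a bijection from morphisms X ⟶ T to ring maps Γ(T,
O_T) ⟶ Γ(X, O_X), where Γ(X, O_X) is the ring of global sections of the structure sheaf on the small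
etale site and f♯ is characterised by: for every scheme U etale over X, following f♯ by the
restriction Γ(X, O_X) ⟶ Γ(U, O_U) gives the map on global sections of the induced morphism U ⟶ T. -/
theorem result {S : Scheme.{u}} (hS : IsTerminal S) (X : AlgSp.Space S)
    (T : Over S) [IsAffine T.left] (φ : Γ(T.left, ⊤) →+* ↥(AlgSp.gsectEt (AlgSp.OEt X.obj))) :
    ∃! f : X.obj ⟶ (AlgSp.yon S).obj T,
      ∀ (E : AlgSp.EtOver X.obj) (r : Γ(T.left, ⊤)),
        ((limit.π (AlgSp.OEt X.obj).obj (Opposite.op E)) (φ r)).down =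
          ((AlgSp.yon S).preimage (E.obj.hom ≫ f)).left.appTop r := by
  let π : ∀ E : AlgSp.EtOver X.obj, ↥(AlgSp.gsectEt (AlgSp.OEt X.obj)) →+* ULift.{u + 1} Γ(E.obj.left.left, ⊤) :=
    fun E => (limit.π (AlgSp.OEt X.obj).obj (Opposite.op E)).hom
  let φE : ∀ E : AlgSp.EtOver X.obj, Γ(T.left, ⊤) →+* Γ(E.obj.left.left, ⊤) :=
    fun E => ULift.ringEquiv.toRingHom.comp ((π E).comp φ)
  let gs : ∀ E : AlgSp.EtOver X.obj, E.obj.left.left ⟶ T.left :=
    fun E => E.obj.left.left.toSpecΓ ≫ Spec.map (CommRingCat.ofHom (φE E)) ≫ T.left.isoSpec.inv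
  let g : ∀ E : AlgSp.EtOver X.obj, E.obj.left ⟶ T := fun E =>
    Over.homMk (gs E) (hS.hom_ext _ _)
  have hg : ∀ E r, (g E).left.appTop r = φE E r := by
    intro E r
    have h : (gs E).appTop = CommRingCat.ofHom (φE E) := by
      simp [gs, Scheme.toSpecΓ_appTop, Scheme.isoSpec]
      exact congrArg (· ≫ CommRingCat.ofHom (φE E)) (Scheme.toSpecΓ_appTop T.left).symm
    exact congrArg (fun a => a.hom r) h
  have hext : ∀ {A : Over S} (a b : A ⟶ T), (∀ r, a.left.appTop r = b.left.appTop r) → a = b := fun a b h =>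
    Over.OverMorphism.ext (ext_of_isAffine (CommRingCat.hom_ext (RingHom.ext h)))
  have hnat : ∀ {E E' : AlgSp.EtOver X.obj} (m : E ⟶ E'), m.hom.left ≫ g E' = g E := by
    intro E E' m
    refine hext _ _ fun r => ?_
    rw [Over.comp_left, Scheme.Hom.comp_appTop, CommRingCat.comp_apply, hg, hg]
    have h := congrArg (fun a => (a.hom (φ r))) (limit.w (AlgSp.OEt X.obj).obj m.op)
    exact congrArg ULift.down h
  obtain ⟨U, p, hp, hps⟩ := X.property.atlas
  haveI := Groth.Agent.Lib.AlgSpace.isLocallySurjective_of_etale hp hps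
  obtain ⟨R, r₁, r₂, sq⟩ := Groth.Agent.Lib.AlgSpace.exists_isPullback_yon X.property.diag p p
  have hr : AlgSp.RepWith @Etale ((AlgSp.yon S).map r₁ ≫ p) :=
    Groth.Agent.Lib.AlgSpace.repWith_comp (Groth.Agent.Lib.AlgSpace.repWith_baseChange sq.flip hp) hp
  let EU := AlgSp.EtOver.mk p hp
  let ER := AlgSp.EtOver.mk ((AlgSp.yon S).map r₁ ≫ p) hr
  let m₁ : ER ⟶ EU := AlgSp.EtOver.homMk r₁ rfl
  let m₂ : ER ⟶ EU := AlgSp.EtOver.homMk r₂ sq.w.symm
  obtain ⟨f, hf⟩ := Groth.Agent.Lib.AlgSpace.exists_desc p sq ((AlgSp.yon S).map (g EU)) (by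
    rw [← Functor.map_comp, ← Functor.map_comp]
    exact congrArg _ ((hnat m₁).trans (hnat m₂).symm))
  have hfE : ∀ E : AlgSp.EtOver X.obj, E.obj.hom ≫ f = (AlgSp.yon S).map (g E) := by
    intro E
    obtain ⟨W, w₁, w₂, sqW⟩ := Groth.Agent.Lib.AlgSpace.exists_isPullback_yon X.property.diag E.obj.hom p
    have hw : AlgSp.RepWith @Etale ((AlgSp.yon S).map w₁ ≫ E.obj.hom) :=
      Groth.Agent.Lib.AlgSpace.repWith_comp (Groth.Agent.Lib.AlgSpace.repWith_baseChange sqW.flip hp) E.property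
    let EW := AlgSp.EtOver.mk ((AlgSp.yon S).map w₁ ≫ E.obj.hom) hw
    let n₁ : EW ⟶ E := AlgSp.EtOver.homMk w₁ rfl
    let n₂ : EW ⟶ EU := AlgSp.EtOver.homMk w₂ sqW.w.symm
    haveI := Groth.Agent.Lib.AlgSpace.isLocallySurjective_of_etale
      (Groth.Agent.Lib.AlgSpace.repWith_baseChange sqW.flip hp)
      (Groth.Agent.Lib.AlgSpace.repWith_baseChange sqW.flip hps)
    haveI : Epi ((AlgSp.yon S).map w₁) := inferInstance
    rw [← cancel_epi ((AlgSp.yon S).map w₁), ← Category.assoc, sqW.w, Category.assoc, hf, ← Functor.map_comp,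
      ← Functor.map_comp]
    exact congrArg _ ((hnat n₂).trans (hnat n₁).symm)
  refine ⟨f, fun E r => ?_, fun f' hf' => ?_⟩
  · show ((π E) (φ r)).down = ((AlgSp.yon S).preimage (E.obj.hom ≫ f)).left.appTop r
    rw [show (AlgSp.yon S).preimage (E.obj.hom ≫ f) = g E from
      (AlgSp.yon S).map_injective (((AlgSp.yon S).map_preimage _).trans (hfE E)), hg]
    rfl
  · haveI : Epi p := inferInstance
    rw [← cancel_epi p]
    refine ((AlgSp.yon S).map_preimage (p ≫ f')).symm.trans (Eq.trans ?_ hf.symm)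
    refine congrArg _ (hext _ _ fun r => ?_)
    rw [hg]
    exact (hf' EU r).symm

end Groth.Agent.S10246
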