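import Groth.Statements.S10247
import Mathlib.AlgebraicGeometry.Morphisms.Etale

set_option autoImplicit false
universe u
open CategoryTheory CategoryTheory.Limits AlgebraicGeometry Topology TopologicalSpace
open AlgSp Opposite

namespace Groth.Agent.S10247

/-- Let X be an algebraic space over a scheme S. Together with its structure sheaf O_X, the small etale
site of X is a locally ringed site: for every scheme U etale over X and every global function f on U
there is a covering sieve of U in the small etale site along each of whose arrows f or 1 - f pulls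
back to a unit, and whenever 0 = 1 holds in the ring of global functions of U the empty sieve covers
U. -/
theorem result {S : Scheme.{u}} (X : AlgSp.Space S) :
    ModSite.IsLocallyRinged (AlgSp.etTop X.obj) (AlgSp.OEt X.obj) := by
  refine ⟨fun E f => ?_, fun E h0 => ?_⟩
  · let Z := E.obj.left.left
    let f0 : Γ(Z, ⊤) := f.down
    let s : Bool → Γ(Z, ⊤) := fun b => cond b f0 (1 - f0)
    let G := EtOver.ofChart E.obj.hom E.property
    let V : Bool → Z.Etale := fun b => MorphismProperty.Over.mk ⊤ (Z.basicOpen (s b)).ι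
      (show Etale _ from inferInstance)
    let g : ∀ b, G.obj (V b) ⟶ E := fun b => EtOver.homMk (EtOver.homOfEtale (V b)) rfl
    refine ⟨Sieve.ofArrows _ g, AlgSp.ofArrows_mem_etTop _ g fun x => ?_, ?_⟩
    · rcases IsLocalRing.isUnit_or_isUnit_of_add_one
        (a := Z.presheaf.germ ⊤ x trivial f0) (b := Z.presheaf.germ ⊤ x trivial (1 - f0))
        (by rw [← map_add, add_sub_cancel, map_one]) with hu | hu
      · exact ⟨true, ⟨⟨x, (Z.mem_basicOpen f0 x trivial).mpr hu⟩, rfl⟩⟩
      · exact ⟨false, ⟨⟨x, (Z.mem_basicOpen (show Γ(Z, ⊤) from 1 - f0) x trivial).mpr hu⟩, rfl⟩⟩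
    · intro W h hh
      obtain ⟨b, k, rfl⟩ := (Sieve.mem_ofArrows_iff _ _ _).1 hh
      have hunit : IsUnit (((AlgSp.OEt X.obj).obj.map (g b).op).hom ⟨s b⟩) := by
        suffices h' : IsUnit ((Z.basicOpen (s b)).ι.appTop.hom (s b)) by
          obtain ⟨v, hv⟩ := isUnit_iff_exists_inv.mp h'
          exact isUnit_iff_exists_inv.mpr ⟨⟨v⟩, ULift.down_injective hv⟩
        rw [Scheme.Opens.ι_appTop]
        have hle : (Z.basicOpen (s b)).ι ''ᵁ ⊤ ≤ Z.basicOpen (s b) := by
          rintro _ ⟨x, -, rfl⟩
          exact x.2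
        rw [← homOfLE_comp hle (Z.basicOpen_le (s b)), op_comp, Functor.map_comp]
        exact IsUnit.map (Z.presheaf.map (homOfLE hle).op).hom
          (RingedSpace.isUnit_res_basicOpen Z.toLocallyRingedSpace.toRingedSpace (s b))
      rw [op_comp, Functor.map_comp, CommRingCat.hom_comp]
      cases b
      · refine Or.inr ?_
        exact hunit.map ((AlgSp.OEt X.obj).obj.map k.op).hom
      · exact Or.inl (hunit.map ((AlgSp.OEt X.obj).obj.map k.op).hom)
  · have h1 : (0 : Γ(E.obj.left.left, ⊤)) = 1 := congrArg ULift.down h0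
    have hempty : IsEmpty ↥E.obj.left.left := ⟨fun x => zero_ne_one
      (α := E.obj.left.left.presheaf.stalk x) (by
        rw [← map_zero (E.obj.left.left.presheaf.germ ⊤ x trivial).hom, h1, map_one])⟩
    refine GrothendieckTopology.superset_covering _ ?_
      (AlgSp.ofArrows_mem_etTop (fun i : PEmpty.{1} => nomatch i) (fun i => nomatch i)
        (fun x => hempty.elim x) : Sieve.ofArrows (fun i : PEmpty.{1} => nomatch i) _ ∈ AlgSp.etTop X.obj E)
    intro W h hh
    obtain ⟨i, -⟩ := (Sieve.mem_ofArrows_iff _ _ _).1 hh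
    exact nomatch i

end Groth.Agent.S10247
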