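import Groth.Statements.S10249
import Groth.Agent.Lib.AlgSpDecent.DimCharts
import Groth.Agent.Lib.DescAlg.LocalDimEtale
import Groth.Agent.Lib.AlgSpace.Points

set_option autoImplicit false
universe u
open CategoryTheory CategoryTheory.Limits AlgebraicGeometry Topology TopologicalSpace
open AlgSp

namespace Groth.Agent.S10249

/-- Let X and Y be algebraic spaces over a scheme S, f : X ⟶ Y an etale morphism and x ∈ |X| with image
y ∈ |Y|. Then (1) X at x and Y at y have the same dimension: for every d, some etale chart h_U ⟶ X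
from a scheme U and some point u of U over x have local dimension d (of the topological space U at
u) if and only if the same holds for Y at y; and (2) the local rings of X at x and of Y at y have
the same Krull dimension, in the same some-chart sense with the Krull dimension of the local ring of
U at u. -/
theorem result {S : Scheme.{u}} {X Y : AlgSp.Space S} (f : X ⟶ Y)
    (hf : AlgSp.IsEtaleMor f.hom) (x : AlgSp.Points X.obj) :
    (∀ d : WithBot ℕ∞,
        AlgSp.HasAt (fun U u => FlatMor.localDim ↥U u = d) X.obj x ↔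
          AlgSp.HasAt (fun U u => FlatMor.localDim ↥U u = d) Y.obj (AlgSp.Points.map f.hom x)) ∧
    (∀ d : WithBot ℕ∞,
        AlgSp.HasAt (fun U u => ringKrullDim ↥(U.presheaf.stalk u) = d) X.obj x ↔
          AlgSp.HasAt (fun U u => ringKrullDim ↥(U.presheaf.stalk u) = d) Y.obj (AlgSp.Points.map f.hom x)) := by
  have hQ : ∀ Q : ∀ W : Scheme.{u}, ↥W → Prop,
      (∀ {A B : Scheme.{u}} (g : A ⟶ B) [Etale g] (z : A), Q A z ↔ Q B (g z)) →
      (AlgSp.HasAt Q X.obj x ↔ AlgSp.HasAt Q Y.obj (AlgSp.Points.map f.hom x)) := by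
    intro Q hQ
    constructor
    · rintro ⟨U, a, u, ha, rfl, hu⟩
      exact ⟨U, a ≫ f.hom, u, hf a ha, (AlgSp.Points.map_ofPt a f.hom u).symm, hu⟩
    · rintro ⟨V, b, v, hb, e, hv⟩
      obtain ⟨U, a, ha, hsa⟩ := X.property.atlas
      obtain ⟨u, rfl⟩ := Groth.Agent.Lib.AlgSpace.surjective_ofPt hsa x
      refine ⟨U, a, u, ha, rfl, ?_⟩
      obtain ⟨R, p, q, sq⟩ := Groth.Agent.Lib.AlgSpace.exists_isPullback_yon Y.property.diag (a ≫ f.hom) b
      haveI : Etale p.left := Groth.Agent.Lib.AlgSpace.repWith_property hb sq.flip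
      haveI : Etale q.left := Groth.Agent.Lib.AlgSpace.repWith_property (hf a ha) sq
      rw [AlgSp.Points.map_ofPt] at e
      obtain ⟨r, rfl, rfl⟩ := (Groth.Agent.Lib.AlgSpace.ofPt_eq_ofPt_iff_of_isPullback sq u v).1 e.symm
      rw [← hQ p.left, hQ q.left]
      exact hv
  refine ⟨fun d => hQ _ fun {A B} g _ z => ?_, fun d => hQ _ fun {A B} g _ z => ?_⟩
  · rw [Groth.Agent.Lib.DescAlg.LocalDimEtale.localDim_eq_of_etale g z]
  · rw [Groth.Agent.Lib.AlgSpDecent.DimDecent.ringKrullDim_stalk,
      Groth.Agent.Lib.AlgSpDecent.DimDecent.ringKrullDim_stalk,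
      Groth.Agent.Lib.AlgSpDecent.DimCharts.cohtPt_eq_of_etale g z]

end Groth.Agent.S10249
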