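import Groth.Statements.S10250
import Groth.Agent.Lib.AlgSpDecent.DimCharts

set_option autoImplicit false
universe u
open CategoryTheory CategoryTheory.Limits AlgebraicGeometry Topology TopologicalSpace
open AlgSp

namespace Groth.Agent.S10250

open Groth.Agent.Lib.AlgSpDecent

/-- Let f : X ⟶ Y be an etale and surjective morphism of algebraic spaces over a scheme S. Then X and Y
have the same dimension (the dimension of an algebraic space being the supremum of the Krull
dimensions of the schemes etale over it). -/
theorem result {S : Scheme.{u}} {X Y : AlgSp.Space S} (f : X ⟶ Y)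
    (hf : AlgSp.IsEtaleMor f.hom) (hs : AlgSp.IsSurjectiveMor f.hom) :
    AlgSp.dim X.obj = AlgSp.dim Y.obj := by
  refine le_antisymm (DimCharts.dim_le fun U a ha u => DimCharts.cohtPt_le_dim (hf a ha) u)
    (DimCharts.dim_le fun V b hb v => ?_)
  obtain ⟨x, hx⟩ := hs (Points.ofPt b v)
  obtain ⟨U, a, ha, has⟩ := X.property.atlas
  obtain ⟨u, rfl⟩ := Core.surjective_ofPt has x
  rw [← DimCharts.cohtPt_eq_of_charts (hf a ha) hb (u := u) ((Core.ofPt_comp _ _ u).trans hx)]
  exact DimCharts.cohtPt_le_dim ha u

end Groth.Agent.S10250
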