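import Groth.Statements.S10263
import Groth.Agent.Lib.AlgSpMor.Cancel

set_option autoImplicit false
universe u
open CategoryTheory CategoryTheory.Limits AlgebraicGeometry
open AlgSp

namespace Groth.Agent.S10263

/-- If the composite X -> Y -> Z is unramified then X -> Y is unramified. -/
theorem result {S : Scheme.{u}} {X Y Z : AlgSp.Space S} (f : X ⟶ Y) (g : Y ⟶ Z)
    (h : AlgSp.LocP (@LocallyOfFiniteType ⊓ @FormallyUnramified) (f ≫ g).hom) :
    AlgSp.LocP (@LocallyOfFiniteType ⊓ @FormallyUnramified) f.hom := by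
  obtain ⟨W, V, b, c, h₂, hb, hbs, hc, -, w₂⟩ :=
    Groth.Agent.Lib.AlgSpMor.LocP.exists_chart Y.property Z.property g.hom
  obtain ⟨U, a, h₁, ha, has, w₁⟩ :=
    Groth.Agent.Lib.AlgSpMor.LocP.exists_chart_over X.property Y.property f.hom hb hbs
  refine Groth.Agent.Lib.AlgSpMor.LocP.locP_of_chart
    Groth.Agent.Lib.AlgSpMor.LocP.unramified X.property.diag Y.property.diag
    ha has hb w₁ ?_
  obtain ⟨h1, h2⟩ := h a c (h₁ ≫ h₂) ha hc
    (by rw [ObjectProperty.FullSubcategory.comp_hom, reassoc_of% w₁, w₂, Functor.map_comp, Category.assoc])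
  rw [Over.comp_left] at h1 h2
  exact ⟨locallyOfFiniteType_of_comp h₁.left h₂.left, FormallyUnramified.of_comp h₁.left h₂.left⟩

end Groth.Agent.S10263
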