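import Groth.Statements.S10264
import Groth.Agent.Lib.AlgSpMor.Cancel

set_option autoImplicit false
universe u
open CategoryTheory CategoryTheory.Limits AlgebraicGeometry
open AlgSp

namespace Groth.Agent.S10264

/-- An immersion of algebraic spaces is unramified. -/
theorem result {S : Scheme.{u}} {X Y : AlgSp.Space S} (i : X ⟶ Y)
    (hi : AlgSp.RepWith @IsImmersion i.hom) :
    AlgSp.LocP (@LocallyOfFiniteType ⊓ @FormallyUnramified) i.hom := by
  exact Groth.Agent.Lib.AlgSpMor.Cancel.locP_of_repWith_le
    Groth.Agent.Lib.AlgSpMor.LocP.unramified hi fun A B g (_ : IsImmersion g) ↦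
      Groth.Agent.Lib.AlgSpMor.Cancel.formallyUnramified_lft_of_isImmersion g

end Groth.Agent.S10264
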