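import Groth.Statements.S10266
import Groth.Agent.Lib.AlgSpMor.Proper
-- import your own Groth.Agent.* helpers here

set_option autoImplicit false
universe u
open CategoryTheory CategoryTheory.Limits AlgebraicGeometry
open AlgSp

open Groth.Agent.Lib.AlgSpace Groth.Agent.Lib.AlgSpMor Groth.Agent.Lib.SourceDescent.Scheme Topology

namespace Groth.Agent.S10266

/-- A morphism of algebraic spaces that is locally of finite presentation, flat and unramified is etale. -/
theorem result {S : Scheme.{u}} {X Y : AlgSp.Space S} (f : X ⟶ Y)
    (h1 : AlgSp.LocP @LocallyOfFinitePresentation f.hom) (h2 : AlgSp.LocP @Flat f.hom)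
    (h3 : AlgSp.LocP (@LocallyOfFiniteType ⊓ @FormallyUnramified) f.hom) :
    AlgSp.IsEtaleMor f.hom := by
  intro U φ hφ
  have het : AlgSp.LocP @Etale f.hom := fun A B a b k ha hb w ↦ by
    haveI : LocallyOfFinitePresentation k.left := h1 a b k ha hb w
    haveI : Flat k.left := h2 a b k ha hb w
    haveI : FormallyUnramified k.left := (h3 a b k ha hb w).2
    exact Etale.iff_flat_and_formallyUnramified.2 ⟨inferInstance, inferInstance, inferInstance⟩
  exact LocP.repWith_of_locP etale Y.property (representable_from_yon Y.property.diag _)
    (LocP.locP_comp etale (IsAlgSpace.yon_obj U) X.property Y.property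
      (LocP.locP_of_repWith etale hφ) het)

end Groth.Agent.S10266
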