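import Groth.Statements.S10269
import Groth.Agent.Lib.AlgSpMor.AffineDescent
import Groth.Agent.Lib.AlgSpMor.LocP
-- import your own Groth.Agent.* helpers here

set_option autoImplicit false
universe u
open CategoryTheory CategoryTheory.Limits AlgebraicGeometry
open AlgSp

open Groth.Agent.Lib.AlgSpace Groth.Agent.Lib.AlgSpMor

namespace Groth.Agent.S10269

/-- A finite morphism of algebraic spaces is integral; an integral morphism locally of finite type is
finite. -/
theorem result {S : Scheme.{u}} {X Y : AlgSp.Space S} (f : X ⟶ Y) :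
    (AlgSp.IsFiniteMor f.hom → AlgSp.IsIntegralMor f.hom) ∧
    (AlgSp.IsIntegralMor f.hom → AlgSp.LocP @LocallyOfFiniteType f.hom → AlgSp.IsFiniteMor f.hom) := by
  rw [AffineDescent.isFiniteMor_iff, AffineDescent.isIntegralMor_iff]
  refine ⟨fun h ↦ repWith_mono h fun _ _ g (_ : IsFinite g) ↦ (inferInstance : IsIntegralHom g),
    fun h hl ↦ ?_⟩
  rw [IsFinite.eq_inf]
  exact repWith_inf_iff.2 ⟨h, LocP.repWith_of_locP
    Groth.Agent.Lib.SourceDescent.Scheme.locallyOfFiniteType Y.property h.rep hl⟩

end Groth.Agent.S10269
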