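import Groth.Statements.S10270
import Groth.Agent.Lib.AlgSpMor.AffineDescent
import Groth.Agent.Lib.AlgSpMor.Proper
-- import your own Groth.Agent.* helpers here

set_option autoImplicit false
universe u
open CategoryTheory CategoryTheory.Limits AlgebraicGeometry
open AlgSp

open Groth.Agent.Lib.AlgSpace Groth.Agent.Lib.AlgSpMor

namespace Groth.Agent.S10270

/-- A morphism of algebraic spaces is integral if and only if it is affine and universally closed. -/
theorem result {S : Scheme.{u}} {X Y : AlgSp.Space S} (f : X ⟶ Y) :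
    AlgSp.IsIntegralMor f.hom ↔ (AlgSp.IsAffineMor f.hom ∧ AlgSp.IsUnivClosedMor f.hom) := by
  rw [AffineDescent.isIntegralMor_iff, AffineDescent.isAffineMor_iff,
    IsIntegralHom.eq_universallyClosed_inf_isAffineHom, repWith_inf_iff]
  exact ⟨fun h ↦ ⟨h.2, Proper.isUnivClosedMor_of_repWith h.1⟩,
    fun h ↦ ⟨Proper.repWith_universallyClosed_of h.1.rep h.2, h.1⟩⟩

end Groth.Agent.S10270
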