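import Groth.Statements.S9905
import Groth.Agent.Lib.AlgSpMor.Perm
-- import your own Groth.Agent.* helpers here

set_option autoImplicit false
universe u
open CategoryTheory CategoryTheory.Limits AlgebraicGeometry
open AlgSp

open Groth.Agent.Lib.AlgSpace Groth.Agent.Lib.AlgSpMor Topology

namespace Groth.Agent.S9905

/-- For a morphism of algebraic spaces representable by schemes, separated in the diagonal sense agrees
with separated in the representable sense, and likewise for quasi-separated. -/
theorem result {S : Scheme.{u}} {X Y : AlgSp.Space S} (f : X ⟶ Y)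
    (hf : AlgSp.Representable f.hom) :
    (AlgSp.IsSeparatedMor f.hom ↔ AlgSp.RepWith @IsSeparated f.hom) ∧
    (AlgSp.IsQuasiSeparatedMor f.hom ↔ AlgSp.RepWith @QuasiSeparated f.hom) := by
  constructor
  · refine ⟨fun h ↦ repWith_of_exists fun U ξ ↦ ⟨_, hf.snd ξ, hf.fst ξ, hf.isPullback ξ, ?_⟩,
      fun h ↦ Sep.repWith_diagonal_of_affine X.property.diag fun Z _ g Q fst snd sq ↦ ?_⟩
    · exact (AlgSp.isSeparatedMor_yon_map_iff _).1
        (Sep.repWith_diagonal_baseChange (hf.isPullback ξ) h)
    · obtain ⟨V, v, a, sqV, hv⟩ := repWith_exists h g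
      exact Sep.repWith_diagonal_of_eq (sq.isoIsPullback _ _ sqV) (Iso.refl _) (by simp)
        ((AlgSp.isSeparatedMor_yon_map_iff v).2 hv)
  · refine ⟨fun h ↦ repWith_of_exists fun U ξ ↦ ⟨_, hf.snd ξ, hf.fst ξ, hf.isPullback ξ, ?_⟩,
      fun h ↦ Sep.repWith_diagonal_of_affine X.property.diag fun Z _ g Q fst snd sq ↦ ?_⟩
    · exact (AlgSp.isQuasiSeparatedMor_yon_map_iff _).1
        (Sep.repWith_diagonal_baseChange (hf.isPullback ξ) h)
    · obtain ⟨V, v, a, sqV, hv⟩ := repWith_exists h g
      exact Sep.repWith_diagonal_of_eq (sq.isoIsPullback _ _ sqV) (Iso.refl _) (by simp)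
        ((AlgSp.isQuasiSeparatedMor_yon_map_iff v).2 hv)

end Groth.Agent.S9905
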