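import Groth.Statements.S10271
import Groth.Agent.Lib.AlgSpMor.AffineDescent
import Groth.Agent.Lib.AlgSpMor.Proper
import Groth.Agent.S9905
-- import your own Groth.Agent.* helpers here

set_option autoImplicit false
universe u
open CategoryTheory CategoryTheory.Limits AlgebraicGeometry
open AlgSp

open Groth.Agent.Lib.AlgSpace Groth.Agent.Lib.AlgSpMor

namespace Groth.Agent.S10271

/-- A morphism of algebraic spaces is finite if and only if it is affine and proper. -/
theorem result {S : Scheme.{u}} {X Y : AlgSp.Space S} (f : X ⟶ Y) :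
    AlgSp.IsFiniteMor f.hom ↔ (AlgSp.IsAffineMor f.hom ∧ AlgSp.IsProperMor f.hom) := by
  rw [AffineDescent.isFiniteMor_iff, AffineDescent.isAffineMor_iff]
  refine ⟨fun h ↦ ⟨repWith_mono h fun _ _ g (_ : IsFinite g) ↦ (inferInstance : IsAffineHom g),
    (Groth.Agent.S9905.result f h.rep).1.2
      (repWith_mono h fun _ _ g (_ : IsFinite g) ↦ (inferInstance : IsSeparated g)),
    ⟨LocP.locP_of_repWith Groth.Agent.Lib.SourceDescent.Scheme.locallyOfFiniteType
      (repWith_mono h fun _ _ g (_ : IsFinite g) ↦ (inferInstance : LocallyOfFiniteType g)),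
     QC.isQuasiCompactMor_of_repWith
      (repWith_mono h fun _ _ g (_ : IsFinite g) ↦ (inferInstance : QuasiCompact g))⟩,
    Proper.isUnivClosedMor_of_repWith
      (repWith_mono h fun _ _ g (_ : IsFinite g) ↦ (inferInstance : UniversallyClosed g))⟩,
    fun ⟨ha, _, ⟨hl, _⟩, hu⟩ ↦ ?_⟩
  rw [IsFinite.eq_inf, IsIntegralHom.eq_universallyClosed_inf_isAffineHom]
  exact repWith_inf_iff.2 ⟨repWith_inf_iff.2 ⟨Proper.repWith_universallyClosed_of ha.rep hu, ha⟩,
    LocP.repWith_of_locP Groth.Agent.Lib.SourceDescent.Scheme.locallyOfFiniteType Y.property ha.rep hl⟩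

end Groth.Agent.S10271
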