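import Groth.Statements.S10272
import Groth.Agent.Lib.AlgSpMor.AffineDescent
import Groth.Agent.Lib.AlgSpMor.Proper
-- import your own Groth.Agent.* helpers here

set_option autoImplicit false
universe u
open CategoryTheory CategoryTheory.Limits AlgebraicGeometry
open AlgSp

open Groth.Agent.Lib.AlgSpace Groth.Agent.Lib.AlgSpMor

namespace Groth.Agent.S10272

/-- If g is separated and the composite of f and g is finite (resp. integral) then f is finite (resp.
integral). -/
theorem result {S : Scheme.{u}} {X Y Z : AlgSp.Space S} (f : X ⟶ Y) (g : Y ⟶ Z)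
    (hg : AlgSp.IsSeparatedMor g.hom) :
    (AlgSp.IsFiniteMor (f ≫ g).hom → AlgSp.IsFiniteMor f.hom) ∧
    (AlgSp.IsIntegralMor (f ≫ g).hom → AlgSp.IsIntegralMor f.hom) := by
  have hγ := Proper.repWith_closedImmersion_graph f.hom hg
  have sq := IsPullback.of_hasPullback (f.hom ≫ g.hom) g.hom
  refine ⟨fun h ↦ ?_, fun h ↦ ?_⟩
  · rw [AffineDescent.isFiniteMor_iff] at h ⊢
    rw [← Perm.comp_graph f.hom g.hom]
    exact repWith_comp (repWith_mono hγ fun _ _ e (_ : IsClosedImmersion e) ↦
      (inferInstance : IsFinite e)) (repWith_baseChange sq h)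
  · rw [AffineDescent.isIntegralMor_iff] at h ⊢
    rw [← Perm.comp_graph f.hom g.hom]
    exact repWith_comp (repWith_mono hγ fun _ _ e (_ : IsClosedImmersion e) ↦
      (inferInstance : IsIntegralHom e)) (repWith_baseChange sq h)

end Groth.Agent.S10272
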