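import Groth.Statements.S10278
import Groth.Agent.Lib.AlgSpMor.Proper
-- import your own Groth.Agent.* helpers here

set_option autoImplicit false
universe u
open CategoryTheory CategoryTheory.Limits AlgebraicGeometry
open AlgSp

open Groth.Agent.Lib.AlgSpace Groth.Agent.Lib.AlgSpMor Groth.Agent.Lib.SourceDescent.Scheme Topology

namespace Groth.Agent.S10278

/-- Over a separated Y -> B, a morphism X -> Y from a space universally closed (resp. proper) over B is
universally closed with closed image (resp. proper). -/
theorem result {S : Scheme.{u}} {X Y B : AlgSp.Space S} (f : X ⟶ Y) (p : X ⟶ B)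
    (q : Y ⟶ B) (comm : f ≫ q = p) (hq : AlgSp.IsSeparatedMor q.hom) :
    (AlgSp.IsUnivClosedMor p.hom →
      AlgSp.IsUnivClosedMor f.hom ∧ IsClosed (Set.range (AlgSp.Points.map f.hom))) ∧
    (AlgSp.IsProperMor p.hom → AlgSp.IsProperMor f.hom) := by
  have hc : f.hom ≫ q.hom = p.hom := congrArg (fun k ↦ k.hom) comm
  rw [← hc]
  have hu : AlgSp.IsUnivClosedMor (f.hom ≫ q.hom) → AlgSp.IsUnivClosedMor f.hom :=
    fun h ↦ Proper.isUnivClosedMor_of_comp X.property Y.property B.property.diag h hq
  refine ⟨fun h ↦ ⟨hu h, ?_⟩, fun h ↦ ?_⟩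
  · rw [← Set.image_univ]
    exact Proper.isClosedMap_of_isUnivClosedMor Y.property (hu h) _ isClosed_univ
  · have h1 := Proper.isProperMor_of_closedImmersion (Proper.repWith_closedImmersion_graph f.hom hq)
    have sq := IsPullback.of_hasPullback (f.hom ≫ q.hom) q.hom
    have h2 := Proper.isProperMor_baseChange X.property B.property Y.property sq h
    have h3 := Proper.isProperMor_comp X.property
      (isAlgSpace_of_isPullback sq B.property.diag X.property Y.property) Y.property h1 h2
    rwa [Perm.comp_graph] at h3

end Groth.Agent.S10278
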