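import Groth.Statements.S1028
import Groth.Agent.Lib.KRes.KRoof
import Groth.Agent.Lib.Perfect.Top
import Groth.Agent.Lib.Perfect.Triangle
import Groth.Agent.Lib.TensorMod.LocFree
import Groth.Agent.S1036
import Groth.Agent.S1037

set_option autoImplicit false
set_option linter.style.haveILetI false
universe u
open CategoryTheory CategoryTheory.Limits AlgebraicGeometry
attribute [local instance] HasDerivedCategory.standard
open KZero

namespace Groth.Agent.S1028

/-- Let the scheme X be quasi-compact, quasi-separated and have the resolution property. There is an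
isomorphism between K₀(Vect(X)) (free abelian group on finite locally free O_X-modules modulo short
exact sequences of such) and K₀(X) = K₀(D_perf(O_X)) (free abelian group on perfect objects of
D(O_X) modulo distinguished triangles of perfect objects) sending the class of a finite locally free
module E to the class of E placed in degree 0. -/
theorem result (X : Scheme.{u}) [CompactSpace ↥X] [QuasiSeparatedSpace ↥X] (hX : PerfAux.HasResolutionProperty X) :
    ∃ φ : KZero.K0sub (fun M : X.Modules => FlatMod.IsFinLocFree M) ≃+ KZero.K0tr (fun K : DCoh.D X => DCoh.IsPerfect K),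
      ∀ E : X.Modules, FlatMod.IsFinLocFree E →
        φ (KZero.clSub (fun M : X.Modules => FlatMod.IsFinLocFree M) E) = KZero.clTr (fun K : DCoh.D X => DCoh.IsPerfect K) (DCoh.inD X E) := by
  let P : ObjectProperty X.Modules := fun M => FlatMod.IsFinLocFree M
  haveI : P.IsClosedUnderIsomorphisms := ⟨fun e h => Agent.Lib.TensorMod.LocFree.of_iso e h⟩
  haveI : P.ContainsZero := ⟨⟨FlatMod.freeMod X 0, ?_, Agent.Lib.TensorMod.LocFree.of_rank (Agent.Lib.TensorMod.LocFree.isFinLocFree_freeMod X 0)⟩⟩
  · have hsp : ∀ E : CochainComplex X.Modules ℤ, DCoh.IsStrictlyPerfect E →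
        DCoh.IsPerfect (DerivedCategory.Q.obj E) := fun E hE =>
      (Agent.Lib.Perfect.Triangle.isPerfect_iff _).2 fun x =>
        ⟨_, 𝟙 _, inferInstance, x, (Agent.Lib.Perfect.Basic.rC (𝟙 X)).obj E, rfl,
          Agent.Lib.Perfect.Basic.isStrictlyPerfect_map _ hE, ⟨Agent.Lib.Perfect.Basic.RDQ (𝟙 X) E⟩⟩
    obtain ⟨φ, hφ⟩ := Agent.Lib.KRes.KRoof.exists_equiv (P := P) (Q := fun K : DCoh.D X => DCoh.IsPerfect K)
      (fun E F hE hF α => S1037.result X hX E F hE hF α)
      (fun E F p hp hE hF => Agent.Lib.Perfect.Top.isFinLocFree_kernel p hE hF)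
      (fun A B hA hB => Agent.Lib.Perfect.Triangle.isFinLocFree_biprod hA hB)
      (fun K => ⟨fun h => let ⟨E, hE, e⟩ := S1036.result X hX K h; ⟨E, hE, e⟩,
        fun ⟨E, hE, ⟨e⟩⟩ => Agent.Lib.Perfect.Triangle.isPerfect_of_iso e (hsp E hE)⟩)
    exact ⟨φ, fun E hE => hφ E hE⟩
  · exact (IsZero.iff_id_eq_zero _).2 (Limits.Sigma.hom_ext _ _ fun b => Fin.elim0 b)

end Groth.Agent.S1028
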