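import Groth.Statements.S10280
import Groth.Agent.Lib.AlgSpMor.Proper
-- import your own Groth.Agent.* helpers here

set_option autoImplicit false
universe u
open CategoryTheory CategoryTheory.Limits AlgebraicGeometry
open AlgSp

open Groth.Agent.Lib.AlgSpace Groth.Agent.Lib.AlgSpMor Groth.Agent.Lib.SourceDescent.Scheme Topology

namespace Groth.Agent.S10280

/-- F is separated if and only if its diagonal is universally closed, if and only if its diagonal is
proper. -/
theorem result {S : Scheme.{u}} {X Y : AlgSp.Space S} (f : X ⟶ Y) :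
    (AlgSp.IsSeparatedMor f.hom ↔ AlgSp.IsUnivClosedMor (pullback.diagonal f.hom)) ∧
    (AlgSp.IsSeparatedMor f.hom ↔ AlgSp.IsProperMor (pullback.diagonal f.hom)) := by
  obtain ⟨d1, d2, d3, -, -⟩ := Sep.diagonal_props f.hom X.property
  have key : AlgSp.IsUnivClosedMor (pullback.diagonal f.hom) → AlgSp.IsSeparatedMor f.hom := by
    intro h
    show RepWith @IsClosedImmersion (pullback.diagonal f.hom)
    rw [Sep.isClosedImmersion_eq]
    exact repWith_inf_iff.2 ⟨repWith_inf_iff.2 ⟨Proper.repWith_universallyClosed_of d1 h, d2⟩, d3⟩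
  exact ⟨⟨fun h ↦ (Proper.isProperMor_of_closedImmersion h).2.2, key⟩,
    ⟨Proper.isProperMor_of_closedImmersion, fun h ↦ key h.2.2⟩⟩

end Groth.Agent.S10280
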