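import Groth.Statements.S10281
import Groth.Agent.S9965
import Groth.Agent.Lib.AlgSpMor.Proper
import Groth.Agent.Lib.AlgSpMor.Perm
-- import your own Groth.Agent.* helpers here

set_option autoImplicit false
universe u
open CategoryTheory CategoryTheory.Limits AlgebraicGeometry
open AlgSp

open AlgSp (yon RepWith)
open Groth.Agent.Lib.AlgSpace Groth.Agent.Lib.AlgSpMor Groth.Agent.Lib.AlgSpMor.SchImage

namespace Groth.Agent.S10281

/-- The scheme theoretic image of a space proper over B in a space separated and locally of finite type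
over B is proper over B, and the source surjects onto it. -/
theorem result {S : Scheme.{u}} {X Y Z B : AlgSp.Space S} (h : X ⟶ Y) (f : X ⟶ B)
    (g : Y ⟶ B) (comm : h ≫ g = f) (hf : AlgSp.IsProperMor f.hom) (hg : AlgSp.IsSeparatedMor g.hom)
    (hg' : AlgSp.LocP @LocallyOfFiniteType g.hom) (i : Z ⟶ Y) (hZ : AlgSp.IsSchImage h.hom i.hom)
    (h' : X ⟶ Z) (fac : h' ≫ i = h) :
    AlgSp.IsProperMor (i ≫ g).hom ∧ AlgSp.IsSurjectiveMor h'.hom := by
  have comm' : h.hom ≫ g.hom = f.hom := congrArg (·.hom) comm
  have fac' : h'.hom ≫ i.hom = h.hom := congrArg (·.hom) fac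
  have hdiag : RepWith @QuasiCompact (pullback.diagonal g.hom) :=
    repWith_mono hg fun _ _ k (_ : IsClosedImmersion k) ↦ (inferInstance : QuasiCompact k)
  have hhqc : AlgSp.IsQuasiCompactMor h.hom :=
    Perm.isQuasiCompactMor_of_comp X.property Y.property B.property.diag
      (by rw [comm']; exact hf.2.1.2) hdiag
  have hhuc : AlgSp.IsUnivClosedMor h.hom :=
    Proper.isUnivClosedMor_of_comp X.property Y.property B.property.diag
      (by rw [comm']; exact hf.2.2) hg
  have hclosed : IsClosed (Set.range (AlgSp.Points.map h.hom)) := by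
    rw [← Set.image_univ]
    exact Proper.isClosedMap_of_isUnivClosedMor Y.property hhuc _ isClosed_univ
  haveI : Mono i.hom := mono_of_closedImmersion hZ.1
  have hsurj : AlgSp.IsSurjectiveMor h'.hom := fun z ↦ by
    have hz := (S9965.result h i hhqc hZ).2 ⟨z, rfl⟩
    rw [hclosed.closure_eq] at hz
    obtain ⟨x, hx⟩ := hz
    refine ⟨x, injective_map_of_mono i.hom ?_⟩
    rw [← AlgSp.Points.map_comp, fac', hx]
  have hi := Proper.isProperMor_of_closedImmersion hZ.1
  have hsep : AlgSp.IsSeparatedMor (i.hom ≫ g.hom) := Proper.repWith_diagonal_comp _ hi.1 hg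
  show AlgSp.IsProperMor (i.hom ≫ g.hom) ∧ _
  refine ⟨⟨hsep, ⟨LocP.locP_comp Groth.Agent.Lib.SourceDescent.Scheme.locallyOfFiniteType
    Z.property Y.property B.property hi.2.1.1 hg', ?_⟩, ?_⟩, hsurj⟩
  · refine QC.isQuasiCompactMor_of_affine Z.property B.property.diag fun T hT ξ P a b sq ↦ ?_
    have sqX := IsPullback.of_hasPullback f.hom ξ
    haveI := hT
    haveI : CompactSpace (AlgSp.Points (pullback f.hom ξ)) :=
      QC.compactSpace_of_isQuasiCompactMor hf.2.1.2 sqX
    have sqP : IsPullback (pullback.fst f.hom ξ)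
        (sq.lift (pullback.fst f.hom ξ ≫ h'.hom) (pullback.snd f.hom ξ)
          (by rw [Category.assoc, reassoc_of% fac', comm', sqX.w])) h'.hom a :=
      IsPullback.of_bot (by rw [sq.lift_snd, reassoc_of% fac', comm']; exact sqX)
        (sq.lift_fst _ _ _).symm sq
    exact QC.compactSpace_of_surjective (QC.surjective_of_isPullback sqP hsurj)
  · intro T P hT ξ a b sq
    have sqX := IsPullback.of_hasPullback f.hom ξ
    have sqP : IsPullback (pullback.fst f.hom ξ)
        (sq.lift (pullback.fst f.hom ξ ≫ h'.hom) (pullback.snd f.hom ξ)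
          (by rw [Category.assoc, reassoc_of% fac', comm', sqX.w])) h'.hom a :=
      IsPullback.of_bot (by rw [sq.lift_snd, reassoc_of% fac', comm']; exact sqX)
        (sq.lift_fst _ _ _).symm sq
    have hs' : Function.Surjective (AlgSp.Points.map (sq.lift (pullback.fst f.hom ξ ≫ h'.hom)
        (pullback.snd f.hom ξ) (by rw [Category.assoc, reassoc_of% fac', comm', sqX.w]))) :=
      fun p ↦ by
        obtain ⟨x, hx⟩ := hsurj (AlgSp.Points.map a p)
        obtain ⟨z, -, hz⟩ := exists_of_isPullback sqP x p hx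
        exact ⟨z, hz⟩
    intro A hA
    have h1 := hf.2.2 hT ξ _ _ sqX _
      (hA.preimage (AlgSp.Points.continuous_map (sq.lift (pullback.fst f.hom ξ ≫ h'.hom)
        (pullback.snd f.hom ξ) (by rw [Category.assoc, reassoc_of% fac', comm', sqX.w]))))
    convert h1 using 1
    rw [← Set.image_preimage_eq A hs', Set.image_image, Set.preimage_image_preimage]
    refine Set.image_congr fun p _ ↦ ?_
    rw [← AlgSp.Points.map_comp, sq.lift_snd]

end Groth.Agent.S10281
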