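import Groth.Statements.S10287
import Groth.Agent.H9.Val

set_option autoImplicit false
universe u
open CategoryTheory CategoryTheory.Limits AlgebraicGeometry
open AlgSp

namespace Groth.Agent.S10287

/-- The existence and uniqueness parts of the valuative criterion are stable under composition. -/
theorem result {S : Scheme.{u}} {X Y Z : AlgSp.Space S} (f : X ⟶ Y) (g : Y ⟶ Z) :
    (AlgSp.ExistVC f.hom → AlgSp.ExistVC g.hom → AlgSp.ExistVC (f ≫ g).hom) ∧
    (AlgSp.UniqVC f.hom → AlgSp.UniqVC g.hom → AlgSp.UniqVC (f ≫ g).hom) := by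
  exact ⟨fun hf hg => Groth.Agent.H9.Val.existVC_comp hf hg,
    fun hf hg => Groth.Agent.H9.Val.uniqVC_comp hf hg⟩

end Groth.Agent.S10287
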