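import Groth.Statements.S1029
import Groth.Agent.Lib.KRes.KProj
import Groth.Agent.Lib.Perfect.QCohD
import Groth.Agent.Lib.Perfect.TildeD
import Groth.Agent.Lib.DerivedOX.TildeEquiv
import Groth.Agent.Lib.QCoh.Tilde

set_option autoImplicit false
set_option linter.style.haveILetI false
universe u
open CategoryTheory CategoryTheory.Limits AlgebraicGeometry
attribute [local instance] HasDerivedCategory.standard
open KZero
open scoped ZeroObject

namespace Groth.Agent.S1029

/-- Let A be a ring and X = Spec A. There is an isomorphism from K₀(A) (free abelian group on finite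
projective A-modules modulo short exact sequences of such) to K₀(X) = K₀(D_perf(O_X)) (free abelian
group on perfect objects of D(O_X) modulo distinguished triangles among them) sending the class of M
to the class of M~ placed in degree 0. -/
theorem result (A : Type u) [CommRing A] :
    ∃ φ : KZero.K0sub (fun M : ModuleCat.{u} A => Module.Finite A M ∧ Module.Projective A M) ≃+
        KZero.K0tr (fun K : DCoh.D (Spec (CommRingCat.of A)) => DCoh.IsPerfect K),
      ∀ (M : ModuleCat.{u} A), Module.Finite A M → Module.Projective A M →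
        φ (KZero.clSub (fun M : ModuleCat.{u} A => Module.Finite A M ∧ Module.Projective A M) M) =
          KZero.clTr (fun K : DCoh.D (Spec (CommRingCat.of A)) => DCoh.IsPerfect K) (DCoh.inD (Spec (CommRingCat.of A)) (tilde M)) := by
  let R : CommRingCat.{u} := CommRingCat.of A
  haveI : PreservesFiniteLimits (tilde.functor R) :=
    Groth.Agent.Lib.QCoh.Tilde.tildeFunctor_preservesFiniteLimits
  have gA : ∀ R' : CommRingCat.{u}, (tilde.functor R').Additive := fun _ => inferInstance
  have gC : ∀ R' : CommRingCat.{u}, PreservesFiniteColimits (tilde.functor R') := fun _ => inferInstance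
  haveI := gA (CommRingCat.of A)
  haveI := gC (CommRingCat.of A)
  haveI := Groth.Agent.Lib.DerivedOX.TildeEquiv.full R
  haveI := Groth.Agent.Lib.DerivedOX.TildeEquiv.faithful R
  let P : ObjectProperty (Dual.D A) := fun K => DRing.IsPerfect A K
  let P' : ObjectProperty (DCoh.D (Spec R)) := fun K => DCoh.IsPerfect K
  haveI : P'.IsClosedUnderIsomorphisms :=
    ⟨fun e h => Groth.Agent.Lib.Perfect.Triangle.isPerfect_of_iso e h⟩
  haveI : P.IsClosedUnderIsomorphisms :=
    ⟨fun e ⟨E, a, b, h1, h2, ⟨i⟩⟩ => ⟨E, a, b, h1, h2, ⟨i ≪≫ e⟩⟩⟩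
  have hiff : ∀ K : Dual.D A, P K ↔ P' ((DCoh.tildeD R).obj K) := fun K =>
    (Groth.Agent.Lib.DR.Perfect.pf_iff K).trans
      ⟨fun h => Groth.Agent.Lib.Perfect.TildeD.isPerfect_of_pf h,
        fun h => Groth.Agent.Lib.Perfect.TildeD.pf_of_perfAt h⟩
  have hQ : Groth.Agent.Lib.KRes.KProj.Cond (Groth.Agent.Lib.KRes.KProj.fp A) P := fun K =>
    ⟨fun ⟨E, a, b, hv, hp, e⟩ => ⟨E, ⟨⟨a, b, hv⟩, hp⟩, e⟩,
      fun ⟨E, ⟨⟨a, b, hv⟩, hp⟩, e⟩ => ⟨E, a, b, hv, hp, e⟩⟩
  obtain ⟨φ, h1, -⟩ := Groth.Agent.Lib.KRes.KProj.exists_equiv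
    (Groth.Agent.Lib.KRes.KProj.fp_projective A) (Groth.Agent.Lib.KRes.KProj.fp_kernel A)
    (Groth.Agent.Lib.KRes.KProj.fp_biprod A) hQ
  obtain ⟨ψ, h2⟩ := Groth.Agent.Lib.Perfect.QCohD.exists_K0tr_equiv (DCoh.tildeD R) P P'
    (Groth.Agent.Lib.KRes.KProj.prop_zero hQ (isZero_zero _)) hiff
    (fun L hL => Groth.Agent.Lib.DerivedOX.TildeEquiv.exists_preimage R L
      (Groth.Agent.Lib.Perfect.QCohD.isQCohD_of_isPerfect hL))
  refine ⟨φ.trans ψ, fun M hf hp => ?_⟩
  have hM : P ((DerivedCategory.singleFunctor (ModuleCat.{u} A) 0).obj M) :=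
    Groth.Agent.Lib.KRes.KProj.prop_single hQ (X := M) ⟨hf, hp⟩ 0
  refine (congrArg ψ (h1 M ⟨hf, hp⟩)).trans ((h2 _ hM).trans ?_)
  exact Groth.Agent.Lib.KRes.KTr.clTr_congr
    (((tilde.functor (CommRingCat.of A)).mapDerivedCategorySingleFunctor 0).app M).symm
    (isZero_zero _) (P'.prop_of_iso ((DCoh.tildeD R).map_isZero (isZero_zero _)).isoZero
      ((hiff _).1 (Groth.Agent.Lib.KRes.KProj.prop_zero hQ (isZero_zero _))))
    (P'.prop_of_iso (((tilde.functor (CommRingCat.of A)).mapDerivedCategorySingleFunctor 0).app M) ((hiff _).1 hM))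

end Groth.Agent.S1029
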