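import Groth.Statements.S10291
import Groth.Agent.Lib.AlgSpMor.Sep
import Groth.Agent.Lib.AlgSpace.Basic
import Mathlib.AlgebraicGeometry.ValuativeCriterion

set_option autoImplicit false
universe u
open CategoryTheory CategoryTheory.Limits AlgebraicGeometry
open AlgSp

namespace Groth.Agent.S10291

/-- A quasi-separated morphism of algebraic spaces satisfying the uniqueness part of the valuative
criterion is separated. -/
theorem result {S : Scheme.{u}} {X Y : AlgSp.Space S} (f : X ⟶ Y)
    (hqs : AlgSp.IsQuasiSeparatedMor f.hom) (hu : AlgSp.UniqVC f.hom) : AlgSp.IsSeparatedMor f.hom := by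
  obtain ⟨hr, hlft, hmono, -, -⟩ := Groth.Agent.Lib.AlgSpMor.Sep.diagonal_props f.hom X.property
  refine Groth.Agent.Lib.AlgSpace.repWith_of_exists fun T p => ?_
  refine ⟨hr.pullback p, hr.snd p, hr.fst p, hr.isPullback p, ?_⟩
  have sq := hr.isPullback p
  have : QuasiCompact (hr.snd p).left := Groth.Agent.Lib.AlgSpace.repWith_property hqs sq
  have : LocallyOfFiniteType (hr.snd p).left := Groth.Agent.Lib.AlgSpace.repWith_property hlft sq
  have hm : Mono (hr.snd p).left := Groth.Agent.Lib.AlgSpace.repWith_property hmono sq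
  rw [Groth.Agent.Lib.AlgSpMor.Sep.isClosedImmersion_eq]
  refine ⟨⟨UniversallyClosed.of_valuativeCriterion _ fun Q => ?_, inferInstance⟩, hm⟩
  let str : Spec (CommRingCat.of Q.R) ⟶ S := Q.i₂ ≫ T.hom
  let ρ : Over.mk str ⟶ T := Over.homMk Q.i₂ rfl
  let κ : Over.mk (Spec.map (CommRingCat.ofHom (algebraMap Q.R Q.K)) ≫ str) ⟶ hr.pullback p :=
    Over.homMk Q.i₁ (by
      rw [← Over.w (hr.snd p), reassoc_of% Q.commSq.w]
      rfl)
  let j : Over.mk (Spec.map (CommRingCat.ofHom (algebraMap Q.R Q.K)) ≫ str) ⟶ Over.mk str :=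
    Over.homMk (Spec.map (CommRingCat.ofHom (algebraMap Q.R Q.K))) rfl
  have hκ : κ ≫ hr.snd p = j ≫ ρ := Over.OverMorphism.ext Q.commSq.w
  have hw := congrArg ((AlgSp.yon S).map κ ≫ ·) sq.w
  simp only [← Functor.map_comp_assoc, hκ] at hw
  rw [Functor.map_comp_assoc] at hw
  have h₁ : (AlgSp.yon S).map j ≫ ((AlgSp.yon S).map ρ ≫ p ≫ Limits.pullback.fst f.hom f.hom) =
      (AlgSp.yon S).map κ ≫ hr.fst p := by
    have := congrArg (· ≫ Limits.pullback.fst f.hom f.hom) hw
    simpa only [Category.assoc, Limits.pullback.diagonal_fst, Category.comp_id] using this.symm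
  have h₂ : (AlgSp.yon S).map j ≫ ((AlgSp.yon S).map ρ ≫ p ≫ Limits.pullback.snd f.hom f.hom) =
      (AlgSp.yon S).map κ ≫ hr.fst p := by
    have := congrArg (· ≫ Limits.pullback.snd f.hom f.hom) hw
    simpa only [Category.assoc, Limits.pullback.diagonal_snd, Category.comp_id] using this.symm
  have e : ((AlgSp.yon S).map ρ ≫ p ≫ Limits.pullback.fst f.hom f.hom) =
      (AlgSp.yon S).map ρ ≫ p ≫ Limits.pullback.snd f.hom f.hom := by
    refine hu ⟨Q.R, Q.K, str, (AlgSp.yon S).map κ ≫ hr.fst p,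
      ((AlgSp.yon S).map ρ ≫ p ≫ Limits.pullback.fst f.hom f.hom) ≫ f.hom, ?_⟩ _ _ h₁ rfl h₂ ?_
    · rw [← h₁, Category.assoc]
    · simp only [Category.assoc, Limits.pullback.condition]
  obtain ⟨l, hl⟩ := (AlgSp.yon S).map_surjective (sq.lift
    ((AlgSp.yon S).map ρ ≫ p ≫ Limits.pullback.fst f.hom f.hom) ((AlgSp.yon S).map ρ) (by
      apply Limits.pullback.hom_ext
      · simp only [Category.assoc, Limits.pullback.diagonal_fst, Category.comp_id]
      · simp only [Category.assoc, Limits.pullback.diagonal_snd, Category.comp_id, e]))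
  have hl₂ : l ≫ hr.snd p = ρ :=
    (AlgSp.yon S).map_injective (by rw [Functor.map_comp, hl, sq.lift_snd])
  refine ⟨⟨⟨l.left, ?_, congrArg (fun k => k.left) hl₂⟩⟩⟩
  have : j ≫ l = κ := by
    refine (AlgSp.yon S).map_injective (sq.hom_ext ?_ ?_)
    · rw [Functor.map_comp, Category.assoc, hl, sq.lift_fst, h₁]
    · rw [← Functor.map_comp, ← Functor.map_comp, Category.assoc, hl₂, hκ]
  exact congrArg (fun k => k.left) this

end Groth.Agent.S10291
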