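import Groth.Statements.S10296
import Groth.Agent.S10272
import Groth.Agent.Lib.AlgSpMor.AffineDescent
import Groth.Agent.Lib.AlgSpLimit.Mono
-- import your own Groth.Agent.* helpers here

set_option autoImplicit false
universe u
open CategoryTheory CategoryTheory.Limits AlgebraicGeometry
open AlgSp

namespace Groth.Agent.S10296

/-- The induced morphism from the normalization of X in Y to any integral Z -> X through which Y -> X
factors is the normalization of Z in Y. -/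
theorem result {S : Scheme.{u}} {Y X X' Z : AlgSp.Space S} (f : Y ⟶ X)
    (hqc : AlgSp.IsQuasiCompactMor f.hom) (hqs : AlgSp.IsQuasiSeparatedMor f.hom) (ν : X' ⟶ X) (f' : Y ⟶ X')
    (hn : AlgSp.IsRelNormalization f.hom ν.hom f'.hom) (π : Z ⟶ X) (hπ : AlgSp.IsIntegralMor π.hom) (g : Y ⟶ Z)
    (hg : g ≫ π = f) (h : X' ⟶ Z) (h1 : f' ≫ h = g) (h2 : h ≫ π = ν) :
    AlgSp.IsRelNormalization g.hom h.hom f'.hom := by
  open Groth.Agent.Lib in
  open Groth.Agent.Lib.AlgSpace Groth.Agent.Lib.AlgSpMor in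
  obtain ⟨hfac, hν, huniv⟩ := hn
  have hsep : AlgSp.IsSeparatedMor π.hom :=
    AlgSpLimit.isSeparatedMor_of_isAffineMor Z.property fun T hT t ↦ by
      obtain ⟨W, i, fst, sq, hW, -⟩ := hπ hT t
      exact ⟨W, i, fst, sq, hW⟩
  refine ⟨congrArg InducedCategory.Hom.hom h1,
    (Groth.Agent.S10272.result h π hsep).2 (by rw [h2]; exact hν), fun W hW ρ g' hρ hg' ↦ ?_⟩
  have hρπ : AlgSp.IsIntegralMor (ρ ≫ π.hom) := by
    rw [AffineDescent.isIntegralMor_iff] at hρ hπ ⊢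
    exact repWith_comp hρ hπ
  have hgπ : g' ≫ ρ ≫ π.hom = f.hom := by
    rw [reassoc_of% hg']
    exact congrArg InducedCategory.Hom.hom hg
  obtain ⟨k, ⟨hk1, hk2⟩, hku⟩ := huniv hW _ g' hρπ hgπ
  obtain ⟨h', -, hu⟩ := huniv Z.property π.hom g.hom hπ (congrArg InducedCategory.Hom.hom hg)
  have hkρ : k ≫ ρ = h.hom :=
    (hu _ ⟨by rw [reassoc_of% hk1, hg'], by rw [Category.assoc, hk2]⟩).trans
      (hu _ ⟨congrArg InducedCategory.Hom.hom h1, congrArg InducedCategory.Hom.hom h2⟩).symm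
  refine ⟨k, ⟨hk1, hkρ⟩, fun k' hk' ↦ hku k' ⟨hk'.1, ?_⟩⟩
  rw [reassoc_of% hk'.2]
  exact congrArg InducedCategory.Hom.hom h2

end Groth.Agent.S10296
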