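import Groth.Statements.S10298
import Groth.Agent.Lib.AlgSpMor.RelNorm.Sch
import Groth.Agent.Lib.AlgSpMor.AffineDescent
-- import your own Groth.Agent.* helpers here

set_option autoImplicit false
universe u
set_option linter.style.haveILetI false
open CategoryTheory CategoryTheory.Limits AlgebraicGeometry
open AlgSp

open AlgSp (yon)
open Groth.Agent.Lib.AlgSpace Groth.Agent.Lib.AlgSpMor Groth.Agent.Lib.AlgSpMor.RelNorm

namespace Groth.Agent.S10298

/-- For a quasi-compact quasi-separated morphism of schemes, the relative normalization of schemes is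
the normalization in the sense of algebraic spaces. -/
theorem result {S : Scheme.{u}} {V U N : Over S} (g : V ⟶ U)
    [QuasiCompact g.left] [QuasiSeparated g.left] (f' : V ⟶ N) (ν : N ⟶ U)
    (e : N.left ≅ g.left.normalization) (he1 : f'.left ≫ e.hom = g.left.toNormalization)
    (he2 : e.hom ≫ g.left.fromNormalization = ν.left) :
    AlgSp.IsRelNormalization ((AlgSp.yon S).map g) ((AlgSp.yon S).map ν) ((AlgSp.yon S).map f') := by
  refine ⟨?_, ?_, ?_⟩
  · rw [← Functor.map_comp]
    congr 1
    ext1
    rw [Over.comp_left, ← he2, reassoc_of% he1, Scheme.Hom.toNormalization_fromNormalization]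
  · rw [AffineDescent.isIntegralMor_iff]; refine (AlgSp.repWith_yon_map_iff _ _).2 ?_; rw [← he2]
    infer_instance
  intro Z _ π k hπ hk
  obtain ⟨W, i, a, sq, hi⟩ := repWith_exists (AffineDescent.isIntegralMor_iff.1 hπ) (𝟙 _)
  haveI := sq.isIso_fst_of_isIso
  haveI : IsIntegralHom i.left := hi
  have ha : a ≫ π = (yon S).map i := by rw [sq.w, Category.comp_id]
  let k' : V ⟶ W := (yon S).preimage (k ≫ inv a)
  have hk' : (yon S).map k' ≫ a = k := by simp [k']
  have hk'i : k' ≫ i = g := (yon S).map_injective (by
    rw [Functor.map_comp, ← ha, reassoc_of% hk', hk])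
  obtain ⟨h, h1, h2⟩ := (Sch.schNorm_normalization g.left).desc i.left k'.left
    (by rw [← Over.comp_left, hk'i])
  let h' : N ⟶ W := Over.homMk (e.hom ≫ h) (by
    rw [Category.assoc, ← Over.w i, ← Category.assoc h, h2, ← Category.assoc, he2, Over.w ν])
  refine ⟨(yon S).map h' ≫ a, ⟨?_, ?_⟩, fun m hm ↦ ?_⟩
  · rw [← Category.assoc, ← Functor.map_comp, ← hk']
    congr 2
    ext1
    simp only [h', Over.comp_left, Over.homMk_left]
    rw [reassoc_of% he1, h1]
  · rw [Category.assoc, ha, ← Functor.map_comp]
    congr 1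
    ext1
    simp only [h', Over.comp_left, Over.homMk_left]
    rw [Category.assoc, h2, he2]
  · let m' : N ⟶ W := (yon S).preimage (m ≫ inv a)
    have hm' : (yon S).map m' ≫ a = m := by simp [m']
    have hm1 : f' ≫ m' = k' := (yon S).map_injective (by
      rw [← cancel_mono a, Functor.map_comp, Category.assoc, hm', hm.1, hk'])
    have hm2 : m' ≫ i = ν := (yon S).map_injective (by
      rw [Functor.map_comp, ← ha, reassoc_of% hm', hm.2])
    have hm3 : e.inv ≫ m'.left = h := by
      refine (Sch.schNorm_normalization g.left).ext i.left _ _ ?_ h2 ?_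
      · rw [Category.assoc, ← Over.comp_left, hm2, Iso.inv_comp_eq, he2]
      · rw [h1, ← hm1, Over.comp_left, ← he1]
        simp
    rw [← hm']
    congr 2
    ext1
    simp [h', ← hm3]

end Groth.Agent.S10298
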