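import Groth.Statements.S9699
import Groth.Agent.Lib.Synt92.SmoothCI

set_option autoImplicit false
universe u
open CategoryTheory CategoryTheory.Limits AlgebraicGeometry
open Synt

namespace Groth.Agent.S9699

/-- A smooth morphism of schemes is syntomic (flat, locally of finite presentation, with local complete
intersection fibres, in the affine-local sense of Synt.IsSyntomicMor). -/
theorem result {X S : Scheme.{u}} (f : X ⟶ S) [Smooth f] :
    Synt.IsSyntomicMor f := by
  intro x
  obtain ⟨_, ⟨V, hV, rfl⟩, hxV, -⟩ := S.isBasis_affineOpens.exists_subset_of_mem_open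
    (Set.mem_univ (f x)) isOpen_univ
  obtain ⟨_, ⟨U, hU, rfl⟩, hxU, hUV⟩ :=
    X.isBasis_affineOpens.exists_subset_of_mem_open hxV (f ⁻¹ᵁ V).isOpen
  refine ⟨⟨U, hU⟩, ⟨V, hV⟩, hUV, hxU, ?_⟩
  letI := (f.appLE V U hUV).hom.toAlgebra
  haveI : Algebra.Smooth Γ(S, V) Γ(X, U) := f.smooth_appLE hV hU hUV
  exact Groth.Agent.Lib.Synt92.isSyntomic_of_smooth _ _

end Groth.Agent.S9699
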