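import Groth.Statements.S10307
import Groth.Agent.Lib.AlgSpPush.FullyFaithful
import Groth.Agent.Lib.AlgSpace.Basic

set_option autoImplicit false
universe u
open CategoryTheory CategoryTheory.Limits AlgebraicGeometry
open AlgSp
open Groth.Agent.Lib.AlgSpPush

namespace Groth.Agent.S10307

/-- For an integral universally injective morphism f of algebraic spaces, f_* on small etale sites is
fully faithful on sheaves of sets and on abelian sheaves, and the counit from the pullback of the
pushforward to the identity is an isomorphism. (The description of the essential image is not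
included here.) -/
theorem result {S : Scheme.{u}} {Y X : AlgSp.Space S} (f : Y ⟶ X)
    (hi : AlgSp.RepWith @IsIntegralHom f.hom) (hu : AlgSp.IsUnivInjectiveMor f.hom) :
    ((AlgSp.pushEt hi.1 (Type (u + 1))).Full ∧ (AlgSp.pushEt hi.1 (Type (u + 1))).Faithful) ∧
    ((AlgSp.pushEt hi.1 AddCommGrpCat.{u + 1}).Full ∧ (AlgSp.pushEt hi.1 AddCommGrpCat.{u + 1}).Faithful) ∧
    IsIso (AlgSp.pullPushAdjEt hi.1 (Type (u + 1))).counit := by
  have hR := RefineIntegral.refProp_integral
  have hP : AlgSp.RepWith (@IsIntegralHom ⊓ @UniversallyInjective : MorphismProperty Scheme.{u}) f.hom :=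
    Groth.Agent.Lib.AlgSpace.repWith_inf_iff.mpr
      ⟨hi, FullyFaithful.repWith_universallyInjective hi.1 hu⟩
  exact ⟨FullyFaithful.full_faithful hR hP X.property _, FullyFaithful.full_faithful hR hP X.property _,
    FullyFaithful.isIso_counit hR hP X.property⟩

end Groth.Agent.S10307
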