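import Groth.Statements.S10308
import Groth.Agent.Lib.AlgSpDecent.RelDim
import Groth.Agent.Lib.FibreDim.Semicont

set_option autoImplicit false
universe u
open CategoryTheory CategoryTheory.Limits AlgebraicGeometry
open AlgSp

namespace Groth.Agent.S10308

open Groth.Agent.Lib.AlgSpace Groth.Agent.Lib.AlgSpDecent

/-- For f locally of finite type, the locus of points where the relative dimension of f is at most n is
open. -/
theorem result {S : Scheme.{u}} {X Y : AlgSp.Space S} (f : X ⟶ Y)
    (hf : AlgSp.LocP @LocallyOfFiniteType f.hom) (n : ℕ) :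
    IsOpen {x : AlgSp.Points X.obj |
      AlgSp.HasAtMor (fun _ _ h u => FlatMor.fibreDimAt h u ≤ (n : WithBot ℕ∞)) f.hom x} := by
  obtain ⟨U, V, a, b, h, ha, has, hb, -, w⟩ :=
    Groth.Agent.Lib.AlgSpMor.LocP.exists_chart X.property Y.property f.hom
  have : LocallyOfFiniteType h.left := hf a b h ha hb w
  have e := fun u => RelDim.hasAtMor_fibreDim_pred X.property Y.property hf
    (· ≤ (n : WithBot ℕ∞)) ha hb w u
  convert Groth.Agent.Lib.AlgSpDecent.Core.isOpenMap_ofPt ha _
    (Groth.Agent.Lib.FibreDim.Semicont.isOpen_setOf_fibreDimAt_le h.left (n : WithBot ℕ∞)) using 1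
  ext x
  constructor
  · intro hx
    obtain ⟨u, rfl⟩ := Groth.Agent.Lib.AlgSpDecent.Core.surjective_ofPt has x
    exact ⟨u, (e u).1 hx, rfl⟩
  · rintro ⟨u, hu, rfl⟩
    exact (e u).2 hu

end Groth.Agent.S10308
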