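import Groth.Statements.S10309
import Groth.Agent.Lib.AlgSpDecent.RelDim
import Groth.Agent.Lib.ActSep.UnivOpen

set_option autoImplicit false
universe u
open CategoryTheory CategoryTheory.Limits AlgebraicGeometry
open AlgSp

namespace Groth.Agent.S10309

open Groth.Agent.Lib.AlgSpace Groth.Agent.Lib.AlgSpDecent

/-- For f locally of finite presentation, the locus where the relative dimension is at most n is
retrocompact in |X|. -/
theorem result {S : Scheme.{u}} {X Y : AlgSp.Space S} (f : X ⟶ Y)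
    (hf : AlgSp.LocP @LocallyOfFinitePresentation f.hom) (n : ℕ) (V : Set (AlgSp.Points X.obj))
    (hV : IsOpen V) (hVc : IsCompact V) :
    IsCompact (V ∩ {x : AlgSp.Points X.obj |
      AlgSp.HasAtMor (fun _ _ h u => FlatMor.fibreDimAt h u ≤ (n : WithBot ℕ∞)) f.hom x}) := by
  obtain ⟨U, W, a, b, h, ha, has, hb, -, w⟩ :=
    Groth.Agent.Lib.AlgSpMor.LocP.exists_chart X.property Y.property f.hom
  have hlfp : LocallyOfFinitePresentation h.left := hf a b h ha hb w
  have hft : AlgSp.LocP @LocallyOfFiniteType f.hom := fun {U V} a b h ha hb w =>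
    (have : LocallyOfFinitePresentation h.left := hf a b h ha hb w; inferInstance)
  let ι := {p : U.left.Opens // IsAffineOpen p ∧ (p : Set ↥U.left) ⊆ Points.ofPt a ⁻¹' V ∧
    ∃ A : W.left.Opens, IsAffineOpen A ∧ p ≤ h.left ⁻¹ᵁ A}
  have hsub : V ⊆ ⋃ i : ι, Points.ofPt a '' (i.1 : Set ↥U.left) := by
    intro x hx
    obtain ⟨u, rfl⟩ := Groth.Agent.Lib.AlgSpDecent.Core.surjective_ofPt has x
    obtain ⟨A, hA, huA, -⟩ := exists_isAffineOpen_mem_and_subset
      (show h.left u ∈ (⊤ : W.left.Opens) from trivial)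
    let O : U.left.Opens :=
      (⟨Points.ofPt a ⁻¹' V, hV.preimage (Points.continuous_ofPt a)⟩ : U.left.Opens) ⊓ (h.left ⁻¹ᵁ A)
    obtain ⟨p, hp, hup, hpO⟩ := exists_isAffineOpen_mem_and_subset
      (show u ∈ O from ⟨hx, huA⟩)
    exact Set.mem_iUnion.2 ⟨⟨p, hp, fun z hz => (hpO hz).1, A, hA, fun z hz => (hpO hz).2⟩, u, hup, rfl⟩
  obtain ⟨t, ht⟩ := hVc.elim_finite_subcover (fun i : ι => Points.ofPt a '' (i.1 : Set ↥U.left))
    (fun i => Groth.Agent.Lib.AlgSpDecent.Core.isOpenMap_ofPt ha _ i.1.2) hsub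
  have e := fun u => RelDim.hasAtMor_fibreDim_pred X.property Y.property hft
    (· ≤ (n : WithBot ℕ∞)) ha hb w u
  rw [show V ∩ {x : AlgSp.Points X.obj | AlgSp.HasAtMor
      (fun _ _ h u => FlatMor.fibreDimAt h u ≤ (n : WithBot ℕ∞)) f.hom x} =
      ⋃ i ∈ t, Points.ofPt a '' ((i.1 : Set ↥U.left) ∩
        {u | FlatMor.fibreDimAt h.left u ≤ (n : WithBot ℕ∞)}) from ?_]
  · refine t.finite_toSet.isCompact_biUnion fun i _ => IsCompact.image ?_ (Points.continuous_ofPt a)
    obtain ⟨p, hp, -, A, hA, hpA⟩ := i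
    show IsCompact ((p : Set ↥U.left) ∩ _)
    algebraize [(h.left.appLE A p hpA).hom]
    have hfp : Algebra.FinitePresentation Γ(W.left, A) Γ(U.left, p) :=
      h.left.finitePresentation_appLE hA hp hpA
    have := hA.isOpenImmersion_fromSpec
    have := hp.isOpenImmersion_fromSpec
    have hc := (Groth.Agent.Lib.ActSep.isOpen_isCompact_fibreDimAt_le h.left
      (R := Γ(W.left, A)) (A := Γ(U.left, p)) hA.fromSpec hp.fromSpec
      (IsAffineOpen.SpecMap_appLE_fromSpec h.left hA hp hpA) n).2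
    convert hc.image hp.fromSpec.continuous using 1
    ext z
    constructor
    · rintro ⟨hz, hz'⟩
      rw [← hp.range_fromSpec] at hz
      obtain ⟨P, rfl⟩ := hz
      exact ⟨P, hz', rfl⟩
    · rintro ⟨P, hP, rfl⟩
      exact ⟨hp.range_fromSpec.le ⟨P, rfl⟩, hP⟩
  · ext x
    simp only [Set.mem_iUnion]
    constructor
    · rintro ⟨hxV, hx⟩
      obtain ⟨i, hi, u, hu, rfl⟩ := by simpa only [Set.mem_iUnion] using ht hxV
      exact ⟨i, hi, u, ⟨hu, (e u).1 hx⟩, rfl⟩
    · rintro ⟨i, _, u, ⟨hu, hu'⟩, rfl⟩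
      exact ⟨i.2.2.1 hu, (e u).2 hu'⟩

end Groth.Agent.S10309
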