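import Groth.Agent.Lib.Triangulated.GenBound
-- Template for statement S1031 (row 1031; see the milestone table for weights).
-- Copy to Groth/Agent/S1031.lean and replace the sorry. The statement below is byte-identical to the frozen
-- statement CohDer.GrothFrozen.S1031 (Groth/Statements/S1031.lean; the theorem CohDer.isStrongGenerator_of_isClassicalGenerator);
-- the grader kernel-checks Groth.Agent.S1031.result against that frozen type. Keep the theorem IN THIS FILE
-- (a `result` declared elsewhere and merely imported here is not credited); helpers may live anywhere
-- under Groth/Agent/.
import Groth.Statements.S1031
-- import your own Groth.Agent.* helpers here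

set_option autoImplicit false
universe v u
open CategoryTheory
open CohDer

namespace Groth.Agent.S1031

/-- Let D be a triangulated category admitting a strong generator G (every object is reached from G by
shifts, finite sums, summands and a uniformly bounded number of extensions). Then every classical
generator E of D (every object reached from E with some finite number of extensions) is itself a
strong generator. -/
theorem result {D : Type u} [Category.{v} D] [Preadditive D] [Limits.HasZeroObject D] [HasShift D ℤ]
    [∀ n : ℤ, (shiftFunctor D n).Additive] [Pretriangulated D] [IsTriangulated D]
    (G E : D) (hG : ObjectProperty.IsStrongTriangulatedGenerator (fun X : D => X = G))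
    (hE : ObjectProperty.IsClassicalTriangulatedGenerator (fun X : D => X = E)) :
    ObjectProperty.IsStrongTriangulatedGenerator (fun X : D => X = E) := by
  obtain ⟨n, hn⟩ := hG
  have hmem : ObjectProperty.triangEnvelope (fun X : D => X = E) G := by
    have := hE
    rw [ObjectProperty.isClassicalTriangulatedGenerator_iff] at this
    rw [this]
    trivial
  rw [ObjectProperty.prop_triangEnvelope_iff] at hmem
  obtain ⟨m, hm⟩ := hmem
  obtain ⟨N, hN⟩ := Groth.Agent.Lib.Triangulated.GenBound.exists_iter_le (P := fun X : D => X = G)
    (Q := fun X : D => X = E) (m := m) (fun X hX => by subst hX; exact hm) n
  exact ⟨N, eq_top_iff.2 (hn ▸ hN)⟩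

end Groth.Agent.S1031
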