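import Groth.Statements.S10310
import Groth.Agent.Lib.AlgSpDecent.RelDim

set_option autoImplicit false
universe u
open CategoryTheory CategoryTheory.Limits AlgebraicGeometry
open AlgSp

namespace Groth.Agent.S10310

open Groth.Agent.Lib.AlgSpace Groth.Agent.Lib.AlgSpDecent

/-- A morphism locally of finite type is locally quasi-finite if and only if it has relative dimension 0
at every point. -/
theorem result {S : Scheme.{u}} {X Y : AlgSp.Space S} (f : X ⟶ Y)
    (hf : AlgSp.LocP @LocallyOfFiniteType f.hom) :
    AlgSp.LocP (@LocallyQuasiFinite ⊓ @LocallyOfFiniteType) f.hom ↔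
      ∀ x : AlgSp.Points X.obj, AlgSp.HasAtMor (fun _ _ h u => FlatMor.fibreDimAt h u = 0) f.hom x := by
  constructor
  · intro hq x
    obtain ⟨U, V, a, b, h, u, ha, hb, w, rfl⟩ :=
      RelDim.exists_chart_at X.property Y.property f.hom x
    have hh := hq a b h ha hb w
    have : LocallyOfFiniteType h.left := hh.2
    have : LocallyQuasiFinite h.left := hh.1
    exact ⟨U, V, a, b, h, u, ha, hb, w, rfl,
      (RelDim.quasiFiniteAt_iff_fibreDimAt h.left u).1 (Scheme.Hom.quasiFiniteAt _ _)⟩
  · intro hx U V a b h ha hb w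
    have : LocallyOfFiniteType h.left := hf a b h ha hb w
    refine ⟨GenericFiniteSp.locallyQuasiFinite_of_nhds h.left fun u => ?_, inferInstance⟩
    have hu := (RelDim.quasiFiniteAt_iff_fibreDimAt h.left u).2
      ((RelDim.hasAtMor_fibreDim_pred X.property Y.property hf (· = 0) ha hb w u).1 (hx _))
    exact ⟨h.left.quasiFiniteLocus, hu, inferInstance⟩

end Groth.Agent.S10310
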