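import Groth.Statements.S10312
import Groth.Agent.Lib.AlgSpDecent.UnramAt
import Groth.Agent.Lib.AlgSpMor.FTPoint

set_option autoImplicit false
universe u
open CategoryTheory CategoryTheory.Limits AlgebraicGeometry
open AlgSp

namespace Groth.Agent.S10312

open Groth.Agent.Lib.AlgSpace Groth.Agent.Lib.AlgSpDecent

/-- For X -> Y over Z with X -> Z locally of finite type, the locus where X -> Y is unramified is an
open subset of |X| whose formation commutes with base change along any Z' -> Z. -/
theorem result {S : Scheme.{u}} {X Y Z Z' Y' X' : AlgSp.Space S} (f : X ⟶ Y)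
    (p : X ⟶ Z) (q : Y ⟶ Z) (comm : f ≫ q = p) (hp : AlgSp.LocP @LocallyOfFiniteType p.hom) (g : Z' ⟶ Z)
    (a : Y' ⟶ Y) (q' : Y' ⟶ Z') (sq1 : IsPullback a.hom q'.hom q.hom g.hom)
    (b : X' ⟶ X) (f' : X' ⟶ Y') (sq2 : IsPullback b.hom f'.hom f.hom a.hom) :
    IsOpen {x : AlgSp.Points X.obj | AlgSp.HasAtMor (fun U _ h u => ∃ W : U.Opens, u ∈ W ∧ LocallyOfFiniteType (W.ι ≫ h) ∧ FormallyUnramified (W.ι ≫ h)) f.hom x} ∧
    {x' : AlgSp.Points X'.obj | AlgSp.HasAtMor (fun U _ h u => ∃ W : U.Opens, u ∈ W ∧ LocallyOfFiniteType (W.ι ≫ h) ∧ FormallyUnramified (W.ι ≫ h)) f'.hom x'} =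
      AlgSp.Points.map b.hom ⁻¹' {x : AlgSp.Points X.obj | AlgSp.HasAtMor (fun U _ h u => ∃ W : U.Opens, u ∈ W ∧ LocallyOfFiniteType (W.ι ≫ h) ∧ FormallyUnramified (W.ι ≫ h)) f.hom x} := by
  refine ⟨UnramAt.isOpen_unrAt, Set.ext fun x' => ?_⟩
  have hf : AlgSp.LocP @LocallyOfFiniteType f.hom := by
    intro U V a b h ha hb w
    obtain ⟨W₀, c, hc, hcs⟩ := Z.property.atlas
    obtain ⟨V', r, k, sqV⟩ := exists_isPullback_yon Z.property.diag (b ≫ q.hom) c
    let U' := Limits.pullback h r
    have : Etale r.left := repWith_property hc sqV.flip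
    have : Surjective r.left := repWith_property hcs sqV.flip
    have sqL : IsPullback (pullback.fst h r).left (pullback.snd h r).left h.left r.left :=
      (IsPullback.of_hasPullback h r).map (Over.forget S)
    have : Etale (pullback.fst h r).left := MorphismProperty.of_isPullback sqL.flip ‹Etale r.left›
    have : Surjective (pullback.fst h r).left := MorphismProperty.of_isPullback sqL.flip ‹Surjective r.left›
    have : LocallyOfFiniteType ((pullback.snd h r).left ≫ k.left) := by
      refine hp ((AlgSp.yon S).map (pullback.fst h r) ≫ a) c (pullback.snd h r ≫ k)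
        (Groth.Agent.Lib.AlgSpMor.LocP.repWith_etale_comp _ ha) hc ?_
      rw [← comm, ObjectProperty.FullSubcategory.comp_hom, Category.assoc, reassoc_of% w, Functor.map_comp, Category.assoc,
        ← sqV.w, ← Functor.map_comp_assoc, pullback.condition, Functor.map_comp_assoc]
    have : LocallyOfFiniteType (pullback.snd h r).left := locallyOfFiniteType_of_comp _ k.left
    have : LocallyOfFiniteType ((pullback.fst h r).left ≫ h.left) := by
      rw [sqL.w]; infer_instance
    exact (Groth.Agent.Lib.AlgSpMor.FTPoint.etaleLocalST_lft).descends (pullback.fst h r).left h.left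
      inferInstance inferInstance this
  exact UnramAt.unrAt_of_isPullback X.property Y.property Y'.property sq2 hf x' 

end Groth.Agent.S10312
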