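import Groth.Statements.S10313
import Groth.Agent.Lib.AlgSpDecent.RelDim
import Groth.Agent.Lib.AlgSpace.OpenSubExists

set_option autoImplicit false
universe u
open CategoryTheory CategoryTheory.Limits AlgebraicGeometry
open AlgSp

namespace Groth.Agent.S10313

open Groth.Agent.Lib.AlgSpace Groth.Agent.Lib.AlgSpDecent

/-- For f locally of finite type there is an open subspace of X on which f is locally quasi-finite,
outside of which the relative dimension is at least 1, and whose formation commutes with base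
change. -/
theorem result {S : Scheme.{u}} {X Y : AlgSp.Space S} (f : X ⟶ Y)
    (hf : AlgSp.LocP @LocallyOfFiniteType f.hom) :
    ∃ (X' : AlgSp.Space S) (j : X' ⟶ X), AlgSp.RepWith @IsOpenImmersion j.hom ∧
      AlgSp.LocP (@LocallyQuasiFinite ⊓ @LocallyOfFiniteType) (j ≫ f).hom ∧
      (∀ x : AlgSp.Points X.obj, x ∉ Set.range (AlgSp.Points.map j.hom) →
        AlgSp.HasAtMor (fun _ _ h u => 1 ≤ FlatMor.fibreDimAt h u) f.hom x) ∧
      ∀ (Y'' X'' : AlgSp.Space S) (g : Y'' ⟶ Y) (b : X'' ⟶ X) (f'' : X'' ⟶ Y''),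
        IsPullback b.hom f''.hom f.hom g.hom → ∀ x'' : AlgSp.Points X''.obj,
          AlgSp.Points.map b.hom x'' ∈ Set.range (AlgSp.Points.map j.hom) ↔ AlgSp.HasAtMor (fun U _ h u => ∃ W : U.Opens, u ∈ W ∧ LocallyQuasiFinite (W.ι ≫ h) ∧ LocallyOfFiniteType (W.ι ≫ h)) f''.hom x'' := by
  obtain ⟨F, j, hF, hj, hjr⟩ := exists_open_subspace X.property
    (FiniteNhd.isOpen_qfAt X.property Y.property f.hom)
  refine ⟨⟨F, hF⟩, ObjectProperty.homMk j, hj, ?_, fun x hx => ?_, fun Y'' X'' g b f'' sq x'' => ?_⟩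
  · intro U V a b h ha hb w
    have : MorphismProperty.IsStableUnderComposition @Etale.{u} :=
      ⟨fun f g (_ : Etale f) (_ : Etale g) ↦ inferInstanceAs (Etale (f ≫ g))⟩
    have hje : RepWith @Etale j :=
      Groth.Agent.Lib.AlgSpace.repWith_mono hj fun _ _ g (_ : IsOpenImmersion g) => (inferInstance : Etale g)
    have haj : RepWith @Etale (a ≫ j) := repWith_comp ha hje
    have w' : (a ≫ j) ≫ f.hom = (yon S).map h ≫ b := (Category.assoc _ _ _).trans w
    have : LocallyOfFiniteType h.left := hf (a ≫ j) b h haj hb w'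
    refine ⟨GenericFiniteSp.locallyQuasiFinite_of_nhds h.left fun u => ?_, inferInstance⟩
    have hq : AlgSp.HasAtMor FiniteNhd.QfAt f.hom (Points.ofPt (a ≫ j) u) :=
      hjr.le ⟨Points.ofPt a u, (Groth.Agent.Lib.AlgSpDecent.Core.ofPt_comp _ _ _).symm⟩
    exact GenericFiniteSp.exists_lqf_nhd X.property Y.property haj hb w' u hq
  · obtain ⟨U, V, a, b, h, u, ha, hb, w, rfl⟩ :=
      RelDim.exists_chart_at X.property Y.property f.hom x
    have : LocallyOfFiniteType h.left := hf a b h ha hb w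
    refine ⟨U, V, a, b, h, u, ha, hb, w, rfl, ?_⟩
    have hne : FlatMor.fibreDimAt h.left u ≠ 0 := fun h0 => hx (hjr.ge
      ((ChartOver.qfAt_iff_chart X.property Y.property hf ha hb w u).2
        ((RelDim.quasiFiniteAt_iff_fibreDimAt h.left u).2 h0)))
    obtain ⟨m, hm⟩ := Groth.Agent.Lib.FibreDim.Chart.exists_fibreDimAt_eq h.left u
    show 1 ≤ FlatMor.fibreDimAt h.left u
    rw [hm] at hne ⊢
    have hm0 : m ≠ 0 := fun e => hne (by subst e; rfl)
    exact_mod_cast Nat.one_le_iff_ne_zero.2 hm0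
  · have hf'' := Groth.Agent.Lib.AlgSpMor.LocP.locP_of_isPullback
      (Groth.Agent.Lib.AlgSpMor.LocP.etaleLocalST_of_list (Or.inl rfl))
      X.property Y.property Y''.property sq hf
    refine (Set.ext_iff.1 hjr _).trans ?_
    exact ((RelDim.qfAt_iff_fibreDim X.property Y.property hf _).trans
      (RelDim.fibreDim_of_isPullback X.property Y.property Y''.property sq hf x'' (· = 0)).symm).trans
      (RelDim.qfAt_iff_fibreDim X''.property Y''.property hf'' x'').symm

end Groth.Agent.S10313
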