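import Groth.Statements.S10314
import Groth.Agent.Lib.AlgSpDecent.FlatRelDimSp

set_option autoImplicit false
universe u
open CategoryTheory CategoryTheory.Limits AlgebraicGeometry
open AlgSp

namespace Groth.Agent.S10314

open Groth.Agent.Lib.AlgSpace Groth.Agent.Lib.AlgSpDecent

/-- For a flat morphism locally of finite type of relative dimension d between locally Noetherian
algebraic spaces, the dimension of X at a point equals the dimension of Y at the image point plus d. -/
theorem result {S : Scheme.{u}} {X Y : AlgSp.Space S} (f : X ⟶ Y)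
    (hX : AlgSp.IsLocNoethSp X.obj) (hY : AlgSp.IsLocNoethSp Y.obj) (hf : AlgSp.LocP @Flat f.hom)
    (hf' : AlgSp.LocP @LocallyOfFiniteType f.hom) (d : ℕ)
    (hd : ∀ x : AlgSp.Points X.obj, AlgSp.HasAtMor (fun _ _ h u => FlatMor.fibreDimAt h u = (d : WithBot ℕ∞)) f.hom x)
    (x : AlgSp.Points X.obj) (dX dY : WithBot ℕ∞) (hx : AlgSp.HasAt (fun U u => FlatMor.localDim ↥U u = dX) X.obj x)
    (hy : AlgSp.HasAt (fun U u => FlatMor.localDim ↥U u = dY) Y.obj (AlgSp.Points.map f.hom x)) :
    dX = dY + (d : WithBot ℕ∞) := by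
  obtain ⟨U, V, a, b, h, u, ha, hb, w, hu⟩ := RelDim.exists_chart_at X.property Y.property f.hom x
  have hmap : AlgSp.Points.map f.hom (Points.ofPt a u) = Points.ofPt b (h.left u) := by
    rw [← Groth.Agent.Lib.AlgSpDecent.Core.ofPt_comp, w, Groth.Agent.Lib.AlgSpDecent.Core.ofPt_comp,
      Groth.Agent.Lib.AlgSpDecent.Core.ofPt_yon_map, ← Groth.Agent.Lib.AlgSpDecent.Core.ofPt_comp,
      Category.id_comp]
  rw [← hu] at hx hy
  rw [hmap] at hy
  have : LocallyOfFiniteType h.left := hf' a b h ha hb w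
  have : Flat h.left := hf a b h ha hb w
  have : IsLocallyNoetherian V.left := CodimOneSp.isLocallyNoetherian_chart hY hb
  rw [← (FlatRelDimSp.hasAt_localDim_iff X.property hX (· = dX) ha u).1 hx,
    ← (FlatRelDimSp.hasAt_localDim_iff Y.property hY (· = dY) hb (h.left u)).1 hy]
  exact FlatRelDim.localDim_eq h.left d (fun z =>
    (RelDim.hasAtMor_fibreDim_pred X.property Y.property hf' (· = (d : WithBot ℕ∞)) ha hb w z).1 (hd _)) u

end Groth.Agent.S10314
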