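import Groth.Statements.S10315
import Groth.Agent.Lib.AlgSpDecent.FlatRelDimSp
import Groth.Agent.Lib.Kaehler.SmoothChart

set_option autoImplicit false
universe u
open CategoryTheory CategoryTheory.Limits AlgebraicGeometry
open AlgSp

namespace Groth.Agent.S10315

open Groth.Agent.Lib.AlgSpace Groth.Agent.Lib.AlgSpDecent

/-- For a smooth morphism of locally Noetherian algebraic spaces, the dimension of X at x is the
dimension of Y at the image of x plus the relative dimension of f at x. -/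
theorem result {S : Scheme.{u}} {X Y : AlgSp.Space S} (f : X ⟶ Y)
    (hX : AlgSp.IsLocNoethSp X.obj) (hY : AlgSp.IsLocNoethSp Y.obj) (hf : AlgSp.LocP @Smooth f.hom)
    (x : AlgSp.Points X.obj) (d dX dY : WithBot ℕ∞)
    (hd : AlgSp.HasAtMor (fun _ _ h u => FlatMor.fibreDimAt h u = d) f.hom x)
    (hx : AlgSp.HasAt (fun U u => FlatMor.localDim ↥U u = dX) X.obj x)
    (hy : AlgSp.HasAt (fun U u => FlatMor.localDim ↥U u = dY) Y.obj (AlgSp.Points.map f.hom x)) :
    dX = dY + d := by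
  obtain ⟨U, V, a, b, h, u, ha, hb, w, hu⟩ := RelDim.exists_chart_at X.property Y.property f.hom x
  have hmap : AlgSp.Points.map f.hom (Points.ofPt a u) = Points.ofPt b (h.left u) := by
    rw [← Groth.Agent.Lib.AlgSpDecent.Core.ofPt_comp, w, Groth.Agent.Lib.AlgSpDecent.Core.ofPt_comp,
      Groth.Agent.Lib.AlgSpDecent.Core.ofPt_yon_map, ← Groth.Agent.Lib.AlgSpDecent.Core.ofPt_comp,
      Category.id_comp]
  rw [← hu] at hx hy hd
  rw [hmap] at hy
  have hft : AlgSp.LocP @LocallyOfFiniteType f.hom := fun {U V} a b h ha hb w =>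
    (have : Smooth h.left := hf a b h ha hb w; inferInstance)
  have : Smooth h.left := hf a b h ha hb w
  have : IsLocallyNoetherian V.left := CodimOneSp.isLocallyNoetherian_chart hY hb
  rw [← (FlatRelDimSp.hasAt_localDim_iff X.property hX (· = dX) ha u).1 hx,
    ← (FlatRelDimSp.hasAt_localDim_iff Y.property hY (· = dY) hb (h.left u)).1 hy,
    ← (RelDim.hasAtMor_fibreDim_pred X.property Y.property hft (· = d) ha hb w u).1 hd]
  obtain ⟨n, V₁, U₁, hV₁, hU₁, e₁, hu₁, hs⟩ :=
    Groth.Agent.Lib.Kaehler.SmoothChart.exists_std_chart h.left u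
  have key := FlatRelDim.localDim_eq (U₁.ι ≫ h.left) n (fun z => by
    rw [Groth.Agent.Lib.AlgSpThick.FibreDim.fibreDimAt_precomp]
    exact Groth.Agent.Lib.Kaehler.SmoothChart.fibreDimAt_of_chart hV₁ hU₁ e₁ hs z.2) ⟨u, hu₁⟩
  rw [Groth.Agent.Lib.Kaehler.SmoothChart.fibreDimAt_of_chart hV₁ hU₁ e₁ hs hu₁]
  exact (Groth.Agent.Lib.FibreDim.Basic.localDim_eq_of_isOpenEmbedding U₁.ι.isOpenEmbedding
    ⟨u, hu₁⟩).trans key

end Groth.Agent.S10315
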