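import Groth.Statements.S10316
import Groth.Agent.Lib.AlgSpDecent.RelDim
import Groth.Agent.H46.QFin

set_option autoImplicit false
universe u
open CategoryTheory CategoryTheory.Limits AlgebraicGeometry
open AlgSp

namespace Groth.Agent.S10316

open Groth.Agent.Lib.AlgSpace Groth.Agent.Lib.AlgSpDecent

/-- For X -> Y locally quasi-finite and Y -> Z locally of finite type, the transcendence degree of x
over Z equals that of its image y over Z. -/
theorem result {S : Scheme.{u}} {X Y Z : AlgSp.Space S} (f : X ⟶ Y) (g : Y ⟶ Z)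
    (hf : AlgSp.LocP (@LocallyQuasiFinite ⊓ @LocallyOfFiniteType) f.hom) (hg : AlgSp.LocP @LocallyOfFiniteType g.hom)
    (x : AlgSp.Points X.obj) (r : Cardinal.{u}) :
    AlgSp.HasAtMor (fun _ _ h u => Dual3.resTrdeg h u = r) (f ≫ g).hom x ↔
      AlgSp.HasAtMor (fun _ _ h u => Dual3.resTrdeg h u = r) g.hom (AlgSp.Points.map f.hom x) := by
  obtain ⟨V, W, b, c, h₂, v, hb, hc, w₂, hv⟩ :=
    RelDim.exists_chart_at Y.property Z.property g.hom (Points.map f.hom x)
  obtain ⟨U, a, h₁, u, -, ha, w₁, hu, hh⟩ :=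
    ChartOver.exists_chart_through X.property Y.property f.hom hb v x hv.symm
  have hq := hf a b h₁ ha hb w₁
  have : LocallyOfFiniteType h₁.left := hq.2
  have : LocallyQuasiFinite h₁.left := hq.1
  have h0 : Groth.Agent.Lib.Cyc.Residue.trdegAt h₁.left u = 0 :=
    Groth.Agent.Lib.Cyc.Residue.trdegAt_eq_zero_of_finite u (H46.QFin.finite_residueFieldMap h₁.left u
      (Scheme.Hom.quasiFiniteAt h₁.left u).isClopen_singleton_asFiber.1)
  have w : a ≫ (f ≫ g).hom = (yon S).map (h₁ ≫ h₂) ≫ c := by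
    rw [ObjectProperty.FullSubcategory.comp_hom, reassoc_of% w₁, w₂, Functor.map_comp, Category.assoc]
  rw [← hv, ← hu, RelDim.hasAtMor_resTrdeg_pred X.property Z.property (· = r) ha hc w u,
    RelDim.hasAtMor_resTrdeg_pred Y.property Z.property (· = r) hb hc w₂ v]
  show Groth.Agent.Lib.Cyc.Residue.trdegAt (h₁.left ≫ h₂.left) u = r ↔
    Groth.Agent.Lib.Cyc.Residue.trdegAt h₂.left v = r
  rw [Groth.Agent.Lib.Cyc.Residue.trdegAt_comp, h0, add_zero, hh]

end Groth.Agent.S10316
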