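import Groth.Statements.S10318
import Groth.Agent.Lib.AlgSpDecent.RelDim
import Groth.Agent.H46.QFin

set_option autoImplicit false
universe u
open CategoryTheory CategoryTheory.Limits AlgebraicGeometry
open AlgSp

namespace Groth.Agent.S10318

open Groth.Agent.Lib.AlgSpace Groth.Agent.Lib.AlgSpDecent

/-- Over a Jacobson algebraic space, a finite type point of a space locally of finite type over it has
transcendence degree 0 over its image. -/
theorem result {S : Scheme.{u}} {X Y : AlgSp.Space S} (f : X ⟶ Y)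
    (hf : AlgSp.LocP @LocallyOfFiniteType f.hom) (hY : AlgSp.EtaleLocally (fun U => JacobsonSpace ↥U) Y.obj)
    (x : AlgSp.Points X.obj) (hx : AlgSp.HasAt (fun U u => IsClosed ({u} : Set ↥U)) X.obj x) :
    AlgSp.HasAtMor (fun _ _ h u => Dual3.resTrdeg h u = 0) f.hom x := by
  obtain ⟨U₀, a₀, u₀, ha₀, rfl, hcl⟩ := hx
  obtain ⟨U, V, a, b, h, u, ha, hb, w, hu⟩ :=
    RelDim.exists_chart_at X.property Y.property f.hom (Points.ofPt a₀ u₀)
  obtain ⟨P, p, q, sq⟩ := Groth.Agent.Lib.AlgSpace.exists_isPullback_yon X.property.diag a₀ a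
  obtain ⟨z, hz₁, -⟩ :=
    (Groth.Agent.Lib.AlgSpace.ofPt_eq_ofPt_iff_of_isPullback sq u₀ u).1 hu.symm
  have : Etale p.left := Groth.Agent.Lib.AlgSpace.repWith_property ha sq.flip
  have : Etale q.left := Groth.Agent.Lib.AlgSpace.repWith_property ha₀ sq
  have : MorphismProperty.IsStableUnderComposition @Etale.{u} :=
    ⟨fun f g (_ : Etale f) (_ : Etale g) ↦ inferInstanceAs (Etale (f ≫ g))⟩
  have hap : RepWith @Etale ((yon S).map p ≫ a₀) :=
    Groth.Agent.Lib.AlgSpMor.LocP.repWith_etale_comp p ha₀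
  have : LocallyOfFiniteType h.left := hf a b h ha hb w
  have : LocallyQuasiFinite p.left :=
    Groth.Agent.Lib.SourceDescent.Scheme.locallyQuasiFinite_of_etale p.left
  have hzcl : IsClosed ({z} : Set ↥P.left) := by
    have hfib : IsClosed (p.left ⁻¹' {u₀}) := hcl.preimage p.left.continuous
    have hd := (p.left.isDiscrete_preimage_singleton u₀).to_subtype
    have hsub : IsClosed ({⟨z, hz₁⟩} : Set ↥(p.left ⁻¹' {u₀})) := isClosed_discrete _
    have h2 := hfib.isClosedEmbedding_subtypeVal.isClosedMap _ hsub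
    rwa [Set.image_singleton] at h2
  refine ⟨P, V, (yon S).map p ≫ a₀, b, q ≫ h, z, hap, hb, ?_, ?_, ?_⟩
  · rw [sq.w, Category.assoc, w, Functor.map_comp, Category.assoc]
  · rw [Groth.Agent.Lib.AlgSpDecent.Core.ofPt_comp, Groth.Agent.Lib.AlgSpDecent.Core.ofPt_yon_map,
      ← Groth.Agent.Lib.AlgSpDecent.Core.ofPt_comp, Category.id_comp, hz₁]
  show Groth.Agent.Lib.Cyc.Residue.trdegAt (q.left ≫ h.left) z = 0
  refine Groth.Agent.Lib.Cyc.Residue.trdegAt_eq_zero_of_finite z
    (H46.QFin.finite_residueFieldMap (q.left ≫ h.left) z ?_)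
  have h3 := hzcl.preimage ((q.left ≫ h.left).fiberι ((q.left ≫ h.left) z)).continuous
  convert h3 using 1
  ext y
  simp only [Set.mem_singleton_iff, Set.mem_preimage]
  refine ⟨fun e => by rw [e]; exact ChartOver.asFiber_ι (q.left ≫ h.left) z, fun e => ?_⟩
  exact H46.QFin.eq_asFiber z y e

end Groth.Agent.S10318
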