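import Groth.Statements.S10319
import Groth.Agent.Lib.AlgSpDecent.RelDim

set_option autoImplicit false
universe u
open CategoryTheory CategoryTheory.Limits AlgebraicGeometry
open AlgSp

namespace Groth.Agent.S10319

open Groth.Agent.Lib.AlgSpace Groth.Agent.Lib.AlgSpDecent

/-- Transcendence degrees at a point add up along a composition of morphisms locally of finite type. -/
theorem result {S : Scheme.{u}} {X Y Z : AlgSp.Space S} (f : X ⟶ Y) (g : Y ⟶ Z)
    (hf : AlgSp.LocP @LocallyOfFiniteType f.hom) (hg : AlgSp.LocP @LocallyOfFiniteType g.hom)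
    (x : AlgSp.Points X.obj) (r₁ r₂ : Cardinal.{u})
    (h1 : AlgSp.HasAtMor (fun _ _ h u => Dual3.resTrdeg h u = r₁) f.hom x)
    (h2 : AlgSp.HasAtMor (fun _ _ h u => Dual3.resTrdeg h u = r₂) g.hom (AlgSp.Points.map f.hom x)) :
    AlgSp.HasAtMor (fun _ _ h u => Dual3.resTrdeg h u = r₁ + r₂) (f ≫ g).hom x := by
  obtain ⟨V, W, b, c, h₂', v, hb, hc, w₂, hv⟩ :=
    RelDim.exists_chart_at Y.property Z.property g.hom (Points.map f.hom x)
  obtain ⟨U, a, h₁', u, -, ha, w₁, hu, hh⟩ :=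
    ChartOver.exists_chart_through X.property Y.property f.hom hb v x hv.symm
  have w : a ≫ (f ≫ g).hom = (yon S).map (h₁' ≫ h₂') ≫ c := by
    rw [ObjectProperty.FullSubcategory.comp_hom, reassoc_of% w₁, w₂, Functor.map_comp, Category.assoc]
  rw [← hu] at h1 ⊢
  rw [← hv] at h2
  have e1 : Groth.Agent.Lib.Cyc.Residue.trdegAt h₁'.left u = r₁ :=
    (RelDim.hasAtMor_resTrdeg_pred X.property Y.property (· = r₁) ha hb w₁ u).1 h1
  have e2 : Groth.Agent.Lib.Cyc.Residue.trdegAt h₂'.left v = r₂ :=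
    (RelDim.hasAtMor_resTrdeg_pred Y.property Z.property (· = r₂) hb hc w₂ v).1 h2
  refine ⟨U, W, a, c, h₁' ≫ h₂', u, ha, hc, w, rfl, ?_⟩
  show Groth.Agent.Lib.Cyc.Residue.trdegAt (h₁'.left ≫ h₂'.left) u = r₁ + r₂
  rw [Groth.Agent.Lib.Cyc.Residue.trdegAt_comp, hh, e1, e2, add_comm]

end Groth.Agent.S10319
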