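import Groth.Statements.S10320
import Groth.Agent.Lib.AlgSpDecent.RelDim
import Groth.Agent.H2.Rigid.DimPoint

set_option autoImplicit false
universe u
open CategoryTheory CategoryTheory.Limits AlgebraicGeometry
open AlgSp

namespace Groth.Agent.S10320

open Groth.Agent.Lib.AlgSpace Groth.Agent.Lib.AlgSpDecent

/-- For f locally of finite type, the relative dimension of f at x equals the dimension of the local
ring of the fibre at x plus the transcendence degree of x over its image. -/
theorem result {S : Scheme.{u}} {X Y : AlgSp.Space S} (f : X ⟶ Y)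
    (hf : AlgSp.LocP @LocallyOfFiniteType f.hom) (x : AlgSp.Points X.obj) (d e : WithBot ℕ∞) (r : Cardinal.{u})
    (hd : AlgSp.HasAtMor (fun _ _ h u => FlatMor.fibreDimAt h u = d) f.hom x)
    (he : AlgSp.HasAtMor (fun _ _ h u => ringKrullDim ↥((h.fiber (h u)).presheaf.stalk (h.asFiber u)) = e) f.hom x)
    (hr : AlgSp.HasAtMor (fun _ _ h u => Dual3.resTrdeg h u = r) f.hom x) :
    d = e + ((Cardinal.toENat r : ℕ∞) : WithBot ℕ∞) := by
  obtain ⟨U, V, a, b, h, u, ha, hb, w, rfl, rfl⟩ := he
  have : LocallyOfFiniteType h.left := hf a b h ha hb w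
  have hd' := (RelDim.hasAtMor_fibreDim_pred X.property Y.property hf (· = d) ha hb w u).1 hd
  have hr' := (RelDim.hasAtMor_resTrdeg_pred X.property Y.property (· = r) ha hb w u).1 hr
  let g := h.left
  let φ := g.fiberToSpecResidueField (g u)
  let z := g.asFiber u
  have hφ : LocallyOfFiniteType φ := MorphismProperty.pullback_snd _ _ ‹_›
  have := H46.QFin.isLocallyNoetherian_fiber g (g u)
  obtain ⟨m, hm⟩ := Groth.Agent.H2.Rigid.DimPoint.exists_dim_stalk z
  have h1 : FlatMor.localDim _ z = _ :=
    Groth.Agent.H2.Rigid.DimPoint.localDim_eq (K := V.left.residueField (g u)) φ z m hm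
  have h2 : Groth.Agent.Lib.Cyc.Residue.trdegAt φ z = r := by
    rw [Groth.Agent.Lib.Cyc.FieldDim.trdegAt_fiber, ChartOver.asFiber_ι]
    exact hr'
  have hcast : Groth.Agent.Lib.Cyc.Residue.trdegAt φ z =
      (((Groth.Agent.Lib.Cyc.FieldDim.fdelta (K := V.left.residueField (g u)) φ z).toNat : ℕ) : Cardinal) :=
    Groth.Agent.Lib.Cyc.FieldDim.trdegAt_eq_fdelta (K := V.left.residueField (g u)) φ z
  show d = ringKrullDim ((g.fiber (g u)).presheaf.stalk z) + _
  rw [hm, ← hd', show FlatMor.fibreDimAt g u = FlatMor.localDim _ z from rfl, h1, ← h2, hcast,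
    map_natCast, Nat.cast_add, add_comm]
  rfl

end Groth.Agent.S10320
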