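import Groth.Statements.S10321
import Groth.Agent.Lib.AlgSpMor.LqfRep
-- import your own Groth.Agent.* helpers here

set_option autoImplicit false
universe u
open CategoryTheory CategoryTheory.Limits AlgebraicGeometry
open AlgSp

set_option linter.style.haveILetI false
open Groth.Agent.Lib.AlgSpace Groth.Agent.Lib.AlgSpMor

namespace Groth.Agent.S10321

/-- Let X be separated and locally quasi-finite over an affine scheme T, let T' -> T be etale with T'
affine, and let V' be an open subspace of T' ×_T X that is quasi-affine over T'. Then V' maps onto a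
quasi-compact open subspace of X that is itself a scheme. -/
theorem result {S : Scheme.{u}} {T T' : Over S} [IsAffine T.left]
    [IsAffine T'.left] (e : T' ⟶ T) [Etale e.left] {X P V' : AlgSp.Space S} (f : X ⟶ (AlgSp.ofScheme S).obj T)
    (hsep : AlgSp.IsSeparatedMor f.hom) (hqf : AlgSp.LocP (@LocallyQuasiFinite ⊓ @LocallyOfFiniteType) f.hom)
    (p1 : P ⟶ (AlgSp.ofScheme S).obj T') (p2 : P ⟶ X)
    (sq : IsPullback p2.hom p1.hom f.hom ((AlgSp.yon S).map e)) (j : V' ⟶ P)
    (hj : AlgSp.RepWith @IsOpenImmersion j.hom) (hqa : AlgSp.IsQuasiAffineMor (j ≫ p1).hom) :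
    ∃ (W : Over S) (i : (AlgSp.yon S).obj W ⟶ X.obj), AlgSp.RepWith @IsOpenImmersion i ∧ CompactSpace ↥W.left ∧
      Set.range (AlgSp.Points.map i) = Set.range (AlgSp.Points.map (j ≫ p2).hom) := by
  obtain ⟨X₀, ⟨ex⟩⟩ := LqfRep.exists_iso X.property f.hom hqf hsep
  haveI : IsAffine ((Functor.id _).obj T').left := ‹IsAffine T'.left›
  obtain ⟨V, v, c, sqV, hV⟩ := hqa (Z := T') ‹_› (𝟙 ((yon S).obj T'))
  haveI := hV
  haveI : CompactSpace V.left := inferInstance
  haveI : IsIso c := by
    haveI : IsIso (𝟙 ((yon S).obj T')) := IsIso.id _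
    exact IsPullback.isIso_fst_of_isIso sqV (inst := ‹_›)
  have hp2 : RepWith @Etale p2.hom := repWith_baseChange sq.flip
    ((repWith_yon_map_iff _ e).2 ‹_›)
  haveI : MorphismProperty.IsStableUnderComposition (@Etale : MorphismProperty Scheme.{u}) :=
    ⟨fun f g (_ : Etale f) (_ : Etale g) ↦ inferInstanceAs (Etale (f ≫ g))⟩
  have hje : RepWith @Etale j.hom :=
    Groth.Agent.Lib.AlgSpace.repWith_mono hj fun _ _ g (_ : IsOpenImmersion g) ↦ inferInstance
  obtain ⟨k, hk⟩ := (yon S).map_surjective (c ≫ (j ≫ p2).hom ≫ ex.inv)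
  haveI : MorphismProperty.ContainsIdentities (@Etale : MorphismProperty Scheme.{u}) :=
    ⟨fun X ↦ inferInstanceAs (Etale (𝟙 X))⟩
  haveI : Etale k.left := (repWith_yon_map_iff _ k).1 (by
    rw [hk]
    exact repWith_comp (repWith_of_isIso _ c) ((repWith_comp_iso_iff _ _ _).2
      (repWith_comp hje hp2)))
  let K : X₀.left.Opens := ⟨Set.range k.left, k.left.isOpenMap.isOpen_range⟩
  let ι : Topo.opensOver K ⟶ X₀ := Topo.opensOverι K
  refine ⟨Topo.opensOver K, (yon S).map ι ≫ ex.hom, (repWith_comp_iso_iff _ _ _).2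
    ((repWith_yon_map_iff _ ι).2 (inferInstanceAs (IsOpenImmersion K.ι))),
    isCompact_iff_compactSpace.1 (isCompact_range k.left.continuous), ?_⟩
  have h1 : Set.range (Points.map (j ≫ p2).hom) =
      Set.range (Points.map (c ≫ (j ≫ p2).hom)) := by
    refine Set.Subset.antisymm (Set.range_subset_iff.2 fun y ↦
      ⟨Points.map (inv c) y, by rw [← Points.map_comp, IsIso.inv_hom_id_assoc]⟩)
      (Set.range_subset_iff.2 fun y ↦ ⟨Points.map c y, (Points.map_comp _ _ _).symm⟩)
  have h2 : c ≫ (j ≫ p2).hom = (yon S).map k ≫ ex.hom := by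
    rw [hk, Category.assoc, Category.assoc, ex.inv_hom_id, Category.comp_id]
  rw [h1, h2, Groth.Agent.Lib.AlgSpDecent.Core.range_points_map_yon,
    Groth.Agent.Lib.AlgSpDecent.Core.range_points_map_yon,
    Groth.Agent.Lib.AlgSpDecent.Core.range_map_comp,
    Groth.Agent.Lib.AlgSpDecent.Core.range_map_comp]
  exact congrArg _ K.range_ι

end Groth.Agent.S10321
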