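import Groth.Statements.S10322
import Groth.Agent.Lib.AlgSpMor.MonoLft
import Groth.Agent.Lib.AlgSpace.Props
-- import your own Groth.Agent.* helpers here

set_option autoImplicit false
universe u
open CategoryTheory CategoryTheory.Limits AlgebraicGeometry
open AlgSp

open Groth.Agent.Lib Groth.Agent.Lib.AlgSpMor

namespace Groth.Agent.S10322

/-- Unramified at a point implies quasi-finite at that point; an unramified morphism of algebraic spaces
is locally quasi-finite. -/
theorem result {S : Scheme.{u}} {X Y : AlgSp.Space S} (f : X ⟶ Y) :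
    (∀ x : AlgSp.Points X.obj, AlgSp.HasAtMor (fun U _ h u => ∃ W : U.Opens, u ∈ W ∧ LocallyOfFiniteType (W.ι ≫ h) ∧ FormallyUnramified (W.ι ≫ h)) f.hom x → AlgSp.HasAtMor (fun U _ h u => ∃ W : U.Opens, u ∈ W ∧ LocallyQuasiFinite (W.ι ≫ h) ∧ LocallyOfFiniteType (W.ι ≫ h)) f.hom x) ∧
    (AlgSp.LocP (@LocallyOfFiniteType ⊓ @FormallyUnramified) f.hom →
      AlgSp.LocP (@LocallyQuasiFinite ⊓ @LocallyOfFiniteType) f.hom) := by
  refine ⟨fun x ⟨U, V, a, b, h, u, ha, hb, w, hx, W, hu, h1, h2⟩ =>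
    ⟨U, V, a, b, h, u, ha, hb, w, hx, W, hu,
      Groth.Agent.Lib.AlgSpace.locallyQuasiFinite_of_formallyUnramified (W.ι ≫ h.left), h1⟩,
    fun hf U V a b h ha hb w => ?_⟩
  have := (hf a b h ha hb w).1
  have := (hf a b h ha hb w).2
  exact ⟨Groth.Agent.Lib.AlgSpace.locallyQuasiFinite_of_formallyUnramified h.left, ‹_›⟩

end Groth.Agent.S10322
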