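import Groth.Statements.S10323
import Groth.Agent.Lib.AlgSpDecent.RelDimIneq

set_option autoImplicit false
universe u
open CategoryTheory CategoryTheory.Limits AlgebraicGeometry
open AlgSp

namespace Groth.Agent.S10323

open Groth.Agent.Lib.AlgSpace Groth.Agent.Lib.AlgSpDecent

/-- For Y locally Noetherian and f locally of finite type, the dimension of the local ring of X at x is
at most the dimension of the local ring of Y at the image point plus E minus the transcendence
degree of x over its image, where E bounds the transcendence degrees of the codimension-0 points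
specializing to x. -/
theorem result {S : Scheme.{u}} {X Y : AlgSp.Space S} (f : X ⟶ Y)
    (hY : AlgSp.IsLocNoethSp Y.obj) (hf : AlgSp.LocP @LocallyOfFiniteType f.hom) (x : AlgSp.Points X.obj)
    (E : Cardinal.{u})
    (hE : ∀ ξ : AlgSp.Points X.obj, ξ ⤳ x → AlgSp.HasAt (fun U u => ringKrullDim ↥(U.presheaf.stalk u) = 0) X.obj ξ →
      ∀ s : Cardinal.{u}, AlgSp.HasAtMor (fun _ _ h u => Dual3.resTrdeg h u = s) f.hom ξ → s ≤ E)
    (a b : WithBot ℕ∞) (r : Cardinal.{u})
    (ha : AlgSp.HasAt (fun U u => ringKrullDim ↥(U.presheaf.stalk u) = a) X.obj x)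
    (hb : AlgSp.HasAt (fun U u => ringKrullDim ↥(U.presheaf.stalk u) = b) Y.obj (AlgSp.Points.map f.hom x))
    (hr : AlgSp.HasAtMor (fun _ _ h u => Dual3.resTrdeg h u = r) f.hom x) :
    a + ((Cardinal.toENat r : ℕ∞) : WithBot ℕ∞) ≤ b + ((Cardinal.toENat E : ℕ∞) : WithBot ℕ∞) := by
  obtain ⟨U, V, c, d, h, u, hc, hd, w, rfl, rfl⟩ := hr
  have : LocallyOfFiniteType h.left := hf c d h hc hd w
  have : IsLocallyNoetherian V.left := CodimOneSp.isLocallyNoetherian_chart hY hd
  have e1 := (RelDimIneq.hasAt_stalkDim_iff X.property (· = a) hc u).1 ha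
  have hmap : AlgSp.Points.map f.hom (Points.ofPt c u) = Points.ofPt d (h.left u) := by
    rw [← Groth.Agent.Lib.AlgSpDecent.Core.ofPt_comp, w, Groth.Agent.Lib.AlgSpDecent.Core.ofPt_comp,
      Groth.Agent.Lib.AlgSpDecent.Core.ofPt_yon_map, ← Groth.Agent.Lib.AlgSpDecent.Core.ofPt_comp,
      Category.id_comp]
  rw [hmap] at hb
  have e2 := (RelDimIneq.hasAt_stalkDim_iff Y.property (· = b) hd (h.left u)).1 hb
  have key := RelDimIneq.stalk_add_trdeg_le h.left u E fun z hz h0 =>
    hE (Points.ofPt c z) (hz.map (Points.continuous_ofPt c)) ⟨U, c, z, hc, rfl, h0⟩ _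
      ⟨U, V, c, d, h, z, hc, hd, w, rfl, rfl⟩
  rw [e1, e2] at key
  exact key

end Groth.Agent.S10323
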