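import Groth.Statements.S10324
import Groth.Agent.Lib.AlgSpDecent.RelDimIneq

set_option autoImplicit false
universe u
open CategoryTheory CategoryTheory.Limits AlgebraicGeometry
open AlgSp

namespace Groth.Agent.S10324

open Groth.Agent.Lib.AlgSpace Groth.Agent.Lib.AlgSpDecent

/-- For Y locally Noetherian and f : X -> Y locally of finite type, dim X ≤ dim Y + E where E bounds the
transcendence degrees over Y of the codimension-0 points of X. -/
theorem result {S : Scheme.{u}} {X Y : AlgSp.Space S} (f : X ⟶ Y)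
    (hY : AlgSp.IsLocNoethSp Y.obj) (hf : AlgSp.LocP @LocallyOfFiniteType f.hom) (E : Cardinal.{u})
    (hE : ∀ ξ : AlgSp.Points X.obj, AlgSp.HasAt (fun U u => ringKrullDim ↥(U.presheaf.stalk u) = 0) X.obj ξ → ∀ s : Cardinal.{u}, AlgSp.HasAtMor (fun _ _ h u => Dual3.resTrdeg h u = s) f.hom ξ → s ≤ E) :
    AlgSp.dim X.obj ≤ AlgSp.dim Y.obj + ((Cardinal.toENat E : ℕ∞) : WithBot ℕ∞) := by
  refine iSup₂_le fun U₀ a₀ => iSup_le fun ha₀ => ?_
  rw [Groth.Agent.Lib.AlgSpDecent.SpecOrder.topologicalKrullDim_eq_iSup]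
  refine iSup_le fun u₀ => ?_
  rw [← Groth.Agent.Lib.AlgSpDecent.DimDecent.ringKrullDim_stalk]
  obtain ⟨U, V, c, d, h, u, hc, hd, w, hu⟩ :=
    RelDim.exists_chart_at X.property Y.property f.hom (Points.ofPt a₀ u₀)
  have : LocallyOfFiniteType h.left := hf c d h hc hd w
  have : IsLocallyNoetherian V.left := CodimOneSp.isLocallyNoetherian_chart hY hd
  have e1 := (RelDimIneq.hasAt_stalkDim_iff X.property
    (· = ringKrullDim ↥(U₀.left.presheaf.stalk u₀)) hc u).1 (hu ▸ ⟨U₀, a₀, u₀, ha₀, rfl, rfl⟩)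
  rw [← e1]
  have key := RelDimIneq.stalk_add_trdeg_le h.left u E fun z hz h0 =>
    hE (Points.ofPt c z) ⟨U, c, z, hc, rfl, h0⟩ _ ⟨U, V, c, d, h, z, hc, hd, w, rfl, rfl⟩
  refine (le_add_of_nonneg_right (WithBot.coe_le_coe.2 zero_le)).trans (key.trans (add_le_add ?_ le_rfl))
  refine le_trans ?_ (le_iSup₂_of_le V d (le_iSup_of_le hd le_rfl))
  rw [Groth.Agent.Lib.AlgSpDecent.DimDecent.ringKrullDim_stalk,
    Groth.Agent.Lib.AlgSpDecent.SpecOrder.topologicalKrullDim_eq_iSup]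
  exact le_iSup (fun v : ↥V.left =>
    (Groth.Agent.Lib.AlgSpDecent.SpecOrder.cohtPt v : WithBot ℕ∞)) (h.left u)

end Groth.Agent.S10324
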