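import Groth.Statements.S10325
import Groth.Agent.Lib.AlgSpace.Coprod
import Mathlib.AlgebraicGeometry.Morphisms.Finite

set_option autoImplicit false
universe u
open CategoryTheory CategoryTheory.Limits AlgebraicGeometry
open AlgSp

namespace Groth.Agent.S10325

/-- A finite disjoint union of schemes finite over an affine scheme is finite over it. -/
private theorem isFinite_sigmaDesc {T : Scheme.{u}} [IsAffine T] {ι : Type u} [Finite ι]
    {W : ι → Scheme.{u}} [∀ i, IsAffine (W i)] (q : ∀ i, W i ⟶ T) [∀ i, IsFinite (q i)] :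
    IsFinite (Sigma.desc q) := by
  let φ : ∀ i, Γ(T, ⊤) →+* Γ(W i, ⊤) := fun i ↦ (q i).appTop.hom
  have hφ : (RingHom.pi φ).Finite := by
    let := fun i ↦ (φ i).toAlgebra
    have : ∀ i, Module.Finite Γ(T, ⊤) Γ(W i, ⊤) := fun i ↦ (q i).finite_appTop
    exact RingHom.finite_algebraMap.2 (inferInstanceAs (Module.Finite Γ(T, ⊤) (∀ i, Γ(W i, ⊤))))
  have : IsFinite (Spec.map (CommRingCat.ofHom (RingHom.pi φ))) := (IsFinite.SpecMap_iff _).2 hφ
  have e : Sigma.desc q = (Sigma.mapIso fun i ↦ (W i).isoSpec).hom ≫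
      sigmaSpec (fun i ↦ Γ(W i, ⊤)) ≫ Spec.map (CommRingCat.ofHom (RingHom.pi φ)) ≫ T.isoSpec.inv := by
    refine Sigma.hom_ext _ _ fun i ↦ ?_
    rw [Sigma.ι_desc, show (Sigma.mapIso fun i ↦ (W i).isoSpec).hom =
      Limits.Sigma.map (fun i ↦ (W i).isoSpec.hom) from rfl, Limits.Sigma.ι_map_assoc, ι_sigmaSpec_assoc, ← Spec.map_comp_assoc]
    have : CommRingCat.ofHom (RingHom.pi φ) ≫
        CommRingCat.ofHom (Pi.evalRingHom (fun i ↦ Γ(W i, ⊤)) i) = (q i).appTop := by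
      ext x; rfl
    rw [this, Scheme.isoSpec_hom_naturality_assoc, Iso.hom_inv_id, Category.comp_id]
  rw [e]
  infer_instance

/-- A finite disjoint union of algebraic spaces finite over Y is finite over Y. -/
theorem result {S : Scheme.{u}} {n : ℕ} (X : Fin n → AlgSp.Space S) (Y : AlgSp.Space S)
    (g : ∀ i, X i ⟶ Y) (hg : ∀ i, AlgSp.IsFiniteMor (g i).hom) (c : Cofan fun i => (X i).obj) (hc : IsColimit c)
    (d : c.pt ⟶ Y.obj) (hd : ∀ i, c.inj i ≫ d = (g i).hom) : AlgSp.IsFiniteMor d := by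
  let F : ULift.{u} (Fin n) → Sp S := fun i ↦ (X i.down).obj
  let c' : Cofan F := Cofan.mk c.pt fun i ↦ c.inj i.down
  have hc' : IsColimit c' := Cofan.IsColimit.mk _
    (fun s ↦ Cofan.IsColimit.desc hc fun i ↦ s.inj ⟨i⟩)
    (fun s i ↦ Cofan.IsColimit.fac hc _ i.down)
    (fun s m hm ↦ Cofan.IsColimit.hom_ext hc _ _ fun i ↦
      (hm ⟨i⟩).trans (Cofan.IsColimit.fac hc (fun i ↦ s.inj ⟨i⟩) i).symm)
  intro Z hZ g'
  have h : ∀ i : ULift.{u} (Fin n), ∃ (W : Over S) (q : W ⟶ Z) (x : (yon S).obj W ⟶ F i),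
      IsPullback x ((yon S).map q) (c'.inj i ≫ d) g' ∧ IsAffine W.left ∧ IsFinite q.left := fun i ↦ by
    rw [show c'.inj i ≫ d = (g i.down).hom from hd i.down]
    exact hg i.down hZ g'
  choose W q x sq hW hq using h
  obtain ⟨fst, Q, hQ, -, hsq⟩ := Groth.Agent.Lib.AlgSpace.isPullback_sigma hc' sq
  have e : Q.left = Limits.Sigma.desc (fun i ↦ (q i).left) := Limits.Sigma.hom_ext _ _ fun i ↦ by
    rw [Limits.Sigma.ι_desc]
    exact congr($(hQ i).left)
  have := fun i ↦ hW i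
  have := fun i ↦ hq i
  refine ⟨_, Q, fst, hsq, ?_, e ▸ isFinite_sigmaDesc fun i ↦ (q i).left⟩
  exact inferInstanceAs (IsAffine (∐ fun i ↦ (W i).left))

end Groth.Agent.S10325
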