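import Groth.Statements.S10326
import Groth.Agent.Lib.AlgSpace.Points
import Groth.Agent.Lib.AlgSpace.Diag
import Mathlib.AlgebraicGeometry.Noetherian
-- import your own Groth.Agent.* helpers here

set_option autoImplicit false
universe u
open CategoryTheory CategoryTheory.Limits AlgebraicGeometry
open AlgSp

open Groth.Agent.Lib.AlgSpace Topology

namespace Groth.Agent.S10326

/-- Every scheme etale over a locally Noetherian algebraic space has quasi-compact opens with finitely
many irreducible components. -/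
theorem result {S : Scheme.{u}} (X : AlgSp.Space S)
    (hX : AlgSp.IsLocNoethSp X.obj) (U : Over S) (a : (AlgSp.yon S).obj U ⟶ X.obj) (ha : AlgSp.RepWith @Etale a)
    (W : U.left.Opens) (hW : IsCompact (W : Set ↥U.left)) : (irreducibleComponents ↥W).Finite := by
  obtain ⟨V, b, hb, hbs, (hV : IsLocallyNoetherian V.left)⟩ := hX
  obtain ⟨T, p, q, sq⟩ := exists_isPullback_yon X.property.diag a b
  have hp : Etale p.left := repWith_property hb sq.flip
  have hps : Surjective p.left := repWith_property hbs sq.flip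
  have hq : Etale q.left := repWith_property ha sq
  have hT : IsLocallyNoetherian T.left := LocallyOfFiniteType.isLocallyNoetherian q.left
  have hnb : ∀ w : ↥W, ∃ O : T.left.affineOpens, (w : ↥U.left) ∈ p.left '' (O.1 : Set ↥T.left) ∧
      p.left '' (O.1 : Set ↥T.left) ⊆ (W : Set ↥U.left) := by
    intro w
    obtain ⟨t, ht⟩ := p.left.surjective (w : ↥U.left)
    obtain ⟨O, hO, htO, hsub⟩ := exists_isAffineOpen_mem_and_subset (U := p.left ⁻¹ᵁ W)
      (show p.left t ∈ W by rw [ht]; exact w.2)
    exact ⟨⟨O, hO⟩, ⟨t, htO, ht⟩, Set.image_subset_iff.2 hsub⟩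
  choose O hO hOW using hnb
  obtain ⟨s, hs⟩ := hW.elim_finite_subcover (fun w : ↥W ↦ p.left '' ((O w).1 : Set ↥T.left))
    (fun w ↦ p.left.isOpenMap _ (O w).1.2) (fun x hx ↦ Set.mem_iUnion.2 ⟨⟨x, hx⟩, hO ⟨x, hx⟩⟩)
  have hN : ∀ w : ↥s, TopologicalSpace.NoetherianSpace ↥(p.left '' ((O w.1).1 : Set ↥T.left)) := by
    intro w
    haveI := IsLocallyNoetherian.component_noetherian (O w.1)
    have : TopologicalSpace.NoetherianSpace ↥((O w.1).1 : Set ↥T.left) :=
      noetherianSpace_of_isAffineOpen (O w.1).1 (O w.1).2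
    rw [Set.image_eq_range]
    exact TopologicalSpace.NoetherianSpace.range _ (p.left.continuous.comp continuous_subtype_val)
  have hu : (W : Set ↥U.left) = ⋃ w : ↥s, p.left '' ((O w.1).1 : Set ↥T.left) :=
    le_antisymm (hs.trans (Set.iUnion₂_subset fun i hi ↦
      Set.subset_iUnion_of_subset ⟨i, hi⟩ le_rfl)) (Set.iUnion_subset fun w ↦ hOW w.1)
  have : TopologicalSpace.NoetherianSpace ↥(W : Set ↥U.left) := by
    rw [hu]
    exact TopologicalSpace.NoetherianSpace.iUnion _
  exact TopologicalSpace.NoetherianSpace.finite_irreducibleComponents (α := ↥(W : Set ↥U.left))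

end Groth.Agent.S10326
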