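import Groth.Statements.S10328
import Groth.Agent.Lib.AlgSpDecent.RelDimComp

set_option autoImplicit false
universe u
open CategoryTheory CategoryTheory.Limits AlgebraicGeometry
open AlgSp

namespace Groth.Agent.S10328

open Groth.Agent.Lib.AlgSpace Groth.Agent.Lib.AlgSpDecent

/-- The relative dimension of a composite at a point is at most the sum of the relative dimensions, with
equality when the first morphism is flat at the point. (The published part (2) allows more generally
flatness of a fibre of X -> Y over a field point of Z; only the case f flat at x is stated.) -/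
theorem result {S : Scheme.{u}} {X Y Z : AlgSp.Space S} (f : X ⟶ Y) (g : Y ⟶ Z)
    (hf : AlgSp.LocP @LocallyOfFiniteType f.hom) (hg : AlgSp.LocP @LocallyOfFiniteType g.hom)
    (x : AlgSp.Points X.obj) (a b : WithBot ℕ∞)
    (ha : AlgSp.HasAtMor (fun _ _ h u => FlatMor.fibreDimAt h u = a) f.hom x)
    (hb : AlgSp.HasAtMor (fun _ _ h u => FlatMor.fibreDimAt h u = b) g.hom (AlgSp.Points.map f.hom x)) :
    AlgSp.HasAtMor (fun _ _ h u => FlatMor.fibreDimAt h u ≤ a + b) (f ≫ g).hom x ∧
    (AlgSp.IsFlatAtMor f.hom x → AlgSp.HasAtMor (fun _ _ h u => FlatMor.fibreDimAt h u = a + b) (f ≫ g).hom x) := by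
  obtain ⟨V, W, bV, cW, h₂, v, hbV, hcW, w₂, hv⟩ :=
    RelDim.exists_chart_at Y.property Z.property g.hom (Points.map f.hom x)
  obtain ⟨U, aU, h₁, u, -, haU, w₁, hu, hh⟩ :=
    ChartOver.exists_chart_through X.property Y.property f.hom hbV v x hv.symm
  have : LocallyOfFiniteType h₁.left := hf aU bV h₁ haU hbV w₁
  have : LocallyOfFiniteType h₂.left := hg bV cW h₂ hbV hcW w₂
  have w : aU ≫ (f ≫ g).hom = (yon S).map (h₁ ≫ h₂) ≫ cW := by
    rw [ObjectProperty.FullSubcategory.comp_hom, reassoc_of% w₁, w₂, Functor.map_comp, Category.assoc]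
  rw [← hu] at ha ⊢
  rw [← hv] at hb
  have e1 := (RelDim.hasAtMor_fibreDim_pred X.property Y.property hf (· = a) haU hbV w₁ u).1 ha
  have e2 := (RelDim.hasAtMor_fibreDim_pred Y.property Z.property hg (· = b) hbV hcW w₂ v).1 hb
  rw [← hh] at e2
  have key := RelDimComp.fibreDimAt_comp h₁.left h₂.left u
  refine ⟨⟨U, W, aU, cW, h₁ ≫ h₂, u, haU, hcW, w, rfl, ?_⟩,
    fun hfl => ⟨U, W, aU, cW, h₁ ≫ h₂, u, haU, hcW, w, rfl, ?_⟩⟩
  · show FlatMor.fibreDimAt (h₁.left ≫ h₂.left) u ≤ a + b
    rw [← e1, ← e2]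
    exact key.1
  · show FlatMor.fibreDimAt (h₁.left ≫ h₂.left) u = a + b
    rw [← e1, ← e2]
    exact key.2 (hfl aU bV h₁ u haU hbV w₁ rfl)

end Groth.Agent.S10328
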