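import Groth.Statements.S10329
import Groth.Agent.Lib.AlgSpDecent.RelDim
import Groth.Agent.Lib.AlgSpace.OpenSubExists
import Groth.Agent.Lib.FibreDim.Basic

set_option autoImplicit false
universe u
open CategoryTheory CategoryTheory.Limits AlgebraicGeometry
open AlgSp

namespace Groth.Agent.S10329

open Groth.Agent.Lib.AlgSpace Groth.Agent.Lib.AlgSpDecent

/-- If the fibre of a morphism locally of finite type has dimension 0 at a point, then the morphism is
locally quasi-finite on some open subspace containing the image of that point. -/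
theorem result {S : Scheme.{u}} {X Y F : AlgSp.Space S} (f : X ⟶ Y)
    (hf : AlgSp.LocP @LocallyOfFiniteType f.hom) (k : Type u) [Field k] (str : Spec (.of k) ⟶ S)
    (y : (AlgSp.yon S).obj (Over.mk str) ⟶ Y.obj) (p : F ⟶ X) (q : F.obj ⟶ (AlgSp.yon S).obj (Over.mk str))
    (sq : IsPullback p.hom q f.hom y) (z : AlgSp.Points F.obj)
    (hz : AlgSp.HasAt (fun U u => FlatMor.localDim ↥U u = 0) F.obj z) :
    ∃ (X' : AlgSp.Space S) (j : X' ⟶ X), AlgSp.RepWith @IsOpenImmersion j.hom ∧
      AlgSp.Points.map p.hom z ∈ Set.range (AlgSp.Points.map j.hom) ∧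
      AlgSp.LocP (@LocallyQuasiFinite ⊓ @LocallyOfFiniteType) (j ≫ f).hom := by
  let V : Over S := Over.mk str
  obtain ⟨U, a, u, ha, rfl, hd⟩ := hz
  have : MorphismProperty.ContainsIdentities @Etale.{u} := ⟨fun _ => inferInstance⟩
  have hid : RepWith @Etale (𝟙 ((yon S).obj V)) :=
    Groth.Agent.Lib.AlgSpace.repWith_of_isIso _ _
  obtain ⟨h, hh⟩ := (yon S).map_surjective (a ≫ q)
  have w : a ≫ q = (yon S).map h ≫ 𝟙 _ := by rw [Category.comp_id, hh]
  have hfib : FlatMor.fibreDimAt h.left u = FlatMor.localDim ↥U.left u := by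
    let φ := h.left.fiberι (h.left u)
    have hsurj : Function.Surjective φ := by
      intro x
      have hx : x ∈ h.left ⁻¹' {h.left u} :=
        @Subsingleton.elim _ (inferInstanceAs (Subsingleton (PrimeSpectrum k))) _ _
      rwa [← h.left.range_fiberι (h.left u)] at hx
    have hemb : Topology.IsOpenEmbedding φ :=
      ⟨φ.isEmbedding, by rw [hsurj.range_eq]; exact isOpen_univ⟩
    show FlatMor.localDim _ (h.left.asFiber u) = _
    rw [← Groth.Agent.Lib.FibreDim.Basic.localDim_eq_of_isOpenEmbedding hemb (h.left.asFiber u)]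
    exact congrArg _ (ChartOver.asFiber_ι h.left u)
  have hq0 : AlgSp.HasAtMor (fun _ _ h u => FlatMor.fibreDimAt h u = 0) q (Points.ofPt a u) :=
    ⟨U, V, a, 𝟙 _, h, u, ha, hid, w, rfl, hfib.trans hd⟩
  have hp0 := (RelDim.fibreDim_of_isPullback X.property Y.property
    (IsAlgSpace.yon_obj V) sq hf (Points.ofPt a u) (· = 0)).1 hq0
  obtain ⟨F', j, hF', hj, hjr⟩ := exists_open_subspace X.property
    (FiniteNhd.isOpen_qfAt X.property Y.property f.hom)
  refine ⟨⟨F', hF'⟩, ObjectProperty.homMk j, hj,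
    hjr.ge ((RelDim.qfAt_iff_fibreDim X.property Y.property hf _).2 hp0), ?_⟩
  intro U V a b h ha hb w
  have : MorphismProperty.IsStableUnderComposition @Etale.{u} :=
    ⟨fun f g (_ : Etale f) (_ : Etale g) ↦ inferInstanceAs (Etale (f ≫ g))⟩
  have hje : RepWith @Etale j :=
    Groth.Agent.Lib.AlgSpace.repWith_mono hj fun _ _ g (_ : IsOpenImmersion g) => (inferInstance : Etale g)
  have haj : RepWith @Etale (a ≫ j) := repWith_comp ha hje
  have w' : (a ≫ j) ≫ f.hom = (yon S).map h ≫ b := (Category.assoc _ _ _).trans w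
  have : LocallyOfFiniteType h.left := hf (a ≫ j) b h haj hb w'
  refine ⟨GenericFiniteSp.locallyQuasiFinite_of_nhds h.left fun u => ?_, inferInstance⟩
  have hq : AlgSp.HasAtMor FiniteNhd.QfAt f.hom (Points.ofPt (a ≫ j) u) :=
    hjr.le ⟨Points.ofPt a u, (Groth.Agent.Lib.AlgSpDecent.Core.ofPt_comp _ _ _).symm⟩
  exact GenericFiniteSp.exists_lqf_nhd X.property Y.property haj hb w' u hq

end Groth.Agent.S10329
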