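import Groth.Statements.S1033
import Groth.Agent.Lib.DerCat.ExtEff

set_option autoImplicit false
universe w v u
open CategoryTheory CategoryTheory.Abelian
open CohDer

namespace Groth.Agent.S1033

/-- Let A be an abelian category (with Ext groups in some universe) and p ≥ 0. If Extᵖ(B, C) = 0 for all
objects B, C, then Extⁱ(B, C) = 0 for all i ≥ p and all B, C. -/
theorem result {A : Type u} [Category.{v} A] [Abelian A] [HasExt.{w} A] (p : ℕ)
    (h : ∀ (B C : A) (x : Ext B C p), x = 0) (i : ℕ) (hi : p ≤ i) (B C : A) (x : Ext B C i) : x = 0 := by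
  letI := HasDerivedCategory.standard A
  induction i, hi using Nat.le_induction generalizing B C with
  | base => exact h B C x
  | succ n hn ih =>
    let e := ((DerivedCategory.singleFunctors A).shiftIso ((n + 1 : ℕ) : ℤ) (-((n + 1 : ℕ) : ℤ)) 0 (by omega)).app C
    obtain ⟨B', p, hp, hp0⟩ := Groth.Agent.Lib.DerCat.ExtEff.exists_epi_comp_eq_zero
      (-((n + 1 : ℕ) : ℤ)) (by omega) (x.hom ≫ e.hom)
    let S := ShortComplex.mk (Limits.kernel.ι p) p (Limits.kernel.condition p)
    have hS : S.ShortExact :=
      { exact := ShortComplex.exact_of_f_is_kernel _ (Limits.kernelIsKernel p) }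
    have hp0' : (DerivedCategory.singleFunctor A 0).map p ≫ x.hom = 0 := by
      refine (cancel_mono e.hom).1 ?_
      rw [Category.assoc, Limits.zero_comp]
      exact hp0
    obtain ⟨x₁, hx₁⟩ := Ext.contravariant_sequence_exact₃ hS C x (by
      apply Ext.ext
      rw [Ext.comp_hom, Ext.mk₀_hom, ShiftedHom.mk₀_comp, Ext.zero_hom]
      exact hp0') (n₀ := n) (by omega)
    rw [← hx₁, ih _ _ x₁, Ext.comp_zero]

end Groth.Agent.S1033
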