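import Groth.Statements.S10330
import Groth.Agent.Lib.EtMod.FinLocFreePush
-- import your own Groth.Agent.* helpers here

set_option autoImplicit false
universe u
open CategoryTheory CategoryTheory.Limits AlgebraicGeometry Opposite
open AlgSp

namespace Groth.Agent.S10330

/-- A morphism f : X -> Y of algebraic spaces over S that is representable by schemes is finite locally
free (all base changes to schemes are finite, flat and locally of finite presentation) if and only
if f is affine and the direct image f_*O_X on the small etale site of Y is a finite locally free
O_Y-module (locally on the site it is free on finitely many generators). -/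
theorem result {S : Scheme.{u}} {X Y : AlgSp.Space S} (f : X ⟶ Y)
    (hf : AlgSp.Representable f.hom) :
    AlgSp.IsFinLocFreeMor f.hom ↔
      AlgSp.IsAffineMor f.hom ∧
        ∃ q : SheafOfModules.LocalGeneratorsData.{u + 1} ((AlgSp.pushModEt hf).obj (AlgSp.unitModEt X.obj)),
          q.IsLocallyFreeData ∧ q.IsFiniteType := by
  exact ⟨fun h => ⟨Groth.Agent.Lib.EtMod.FinLocFreePush.isAffineMor_of_finLocFree h,
      Groth.Agent.Lib.EtMod.FinLocFreePush.exists_data hf h⟩,
    fun ⟨ha, q, hq, hft⟩ => Groth.Agent.Lib.EtMod.FinLocFreePush.isFinLocFreeMor_of_data hf ha q hq hft⟩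

end Groth.Agent.S10330
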