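import Groth.Statements.S10334
import Groth.Agent.Lib.AlgSpPush.Essential

set_option autoImplicit false
universe u
open CategoryTheory CategoryTheory.Limits AlgebraicGeometry Opposite
open AlgSp
open Groth.Agent.Lib.AlgSpPush.Essential

namespace Groth.Agent.S10334

/-- Let f : Y -> X be an integral, universally injective morphism of algebraic spaces over S. A sheaf of
sets on the small etale site of X is isomorphic to a pushforward f_*F if and only if its value is a
one-element set on every etale scheme over X whose image misses f(|Y|); an abelian sheaf is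
isomorphic to a pushforward if and only if its value is zero on every such scheme. (The published
statement says 'restriction to the complement of f(|Y|) is a final object' and 'support contained in
f(|Y|)'; both conditions are written out on the etale schemes over the complement.) -/
theorem result {S : Scheme.{u}} {Y X : AlgSp.Space S} (f : Y ⟶ X)
    (hi : AlgSp.RepWith @IsIntegralHom f.hom) (hu : AlgSp.IsUnivInjectiveMor f.hom) :
    (∀ G : AlgSp.EtSh X.obj (Type (u + 1)),
      (AlgSp.pushEt hi.1 (Type (u + 1))).essImage G ↔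
        ∀ E : AlgSp.EtOver X.obj,
          Disjoint (Set.range (AlgSp.Points.map E.obj.hom)) (Set.range (AlgSp.Points.map f.hom)) →
            Nonempty (Unique (G.obj.obj (op E)))) ∧
    (∀ G : AlgSp.AbEt X.obj,
      (AlgSp.pushEt hi.1 AddCommGrpCat.{u + 1}).essImage G ↔
        ∀ E : AlgSp.EtOver X.obj,
          Disjoint (Set.range (AlgSp.Points.map E.obj.hom)) (Set.range (AlgSp.Points.map f.hom)) →
            Subsingleton ↥(G.obj.obj (op E))) := by
  have hZ := Y.property
  have hX := X.property
  refine ⟨fun G => ⟨?_, ?_⟩, fun G => ⟨?_, ?_⟩⟩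
  · rintro ⟨F, ⟨e⟩⟩ E hE
    have := isEmpty_bc_of_disjoint hi.1 E hE
    have h := unique_of_isEmpty F ((AlgSp.EtOver.bc hi.1).obj E)
    have : Subsingleton (ToType (G.obj.obj (op E))) :=
      @Equiv.subsingleton _ _ (((sheafToPresheaf _ _).mapIso e).app (op E)).toEquiv.symm h.1
    obtain ⟨t⟩ := h.2
    exact ⟨uniqueOfSubsingleton ((((sheafToPresheaf _ _).mapIso e).app (op E)).toEquiv t)⟩
  · intro h
    refine ⟨_, ⟨(@asIso _ _ _ _ _ (isIso_unit hi hu hZ hX G fun E hE => ?_)).symm⟩⟩
    obtain ⟨hu'⟩ := h E (disjoint_of_isEmpty_bc hi.1 E hE)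
    exact ⟨@Unique.instSubsingleton _ hu', ⟨hu'.default⟩⟩
  · rintro ⟨F, ⟨e⟩⟩ E hE
    have := isEmpty_bc_of_disjoint hi.1 E hE
    have h := unique_of_isEmpty F ((AlgSp.EtOver.bc hi.1).obj E)
    exact @Equiv.subsingleton _ _
      (((sheafToPresheaf _ _).mapIso e).app (op E)).addCommGroupIsoToAddEquiv.toEquiv.symm h.1
  · intro h
    refine ⟨_, ⟨(@asIso _ _ _ _ _ (isIso_unit hi hu hZ hX G fun E hE => ?_)).symm⟩⟩
    exact ⟨h E (disjoint_of_isEmpty_bc hi.1 E hE), ⟨0⟩⟩

end Groth.Agent.S10334
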