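import Groth.Statements.S10335
import Groth.Agent.Lib.AlgSpDecent.RelDimBC

set_option autoImplicit false
universe u
open CategoryTheory CategoryTheory.Limits AlgebraicGeometry
open AlgSp

namespace Groth.Agent.S10335

open Groth.Agent.Lib.AlgSpace Groth.Agent.Lib.AlgSpDecent

/-- In a base change square of algebraic spaces with f : X -> Y locally of finite type and f' : X' -> Y'
its base change along g : Y' -> Y, take a point x' of X' over x. The fibre of f' has a local ring at
x' whose dimension exceeds the corresponding dimension for the fibre of f at x by exactly the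
transcendence degree of x over f(x) minus that of x' over f'(x'), and this excess is never negative;
and for x in X and y' in Y' over the same point of Y some x' over both has excess zero. All four
quantities are read on some chart diagram through the point. -/
theorem result {S : Scheme.{u}} {X Y Y' X' : AlgSp.Space S} (f : X ⟶ Y) (g : Y' ⟶ Y)
    (g' : X' ⟶ X) (f' : X' ⟶ Y') (sq : IsPullback g'.hom f'.hom f.hom g.hom)
    (hf : AlgSp.LocP @LocallyOfFiniteType f.hom) :
    (∀ (x' : AlgSp.Points X'.obj) (e e' : WithBot ℕ∞) (r r' : Cardinal.{u}),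
      AlgSp.HasAtMor (fun _ _ h u => ringKrullDim ↥((h.fiber (h u)).presheaf.stalk (h.asFiber u)) = e) f.hom
          (AlgSp.Points.map g'.hom x') →
      AlgSp.HasAtMor (fun _ _ h u => Dual3.resTrdeg h u = r) f.hom (AlgSp.Points.map g'.hom x') →
      AlgSp.HasAtMor (fun _ _ h u => ringKrullDim ↥((h.fiber (h u)).presheaf.stalk (h.asFiber u)) = e') f'.hom x' →
      AlgSp.HasAtMor (fun _ _ h u => Dual3.resTrdeg h u = r') f'.hom x' →
        e' + ((Cardinal.toENat r' : ℕ∞) : WithBot ℕ∞) = e + ((Cardinal.toENat r : ℕ∞) : WithBot ℕ∞) ∧ e ≤ e') ∧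
    (∀ (x : AlgSp.Points X.obj) (y' : AlgSp.Points Y'.obj) (e : WithBot ℕ∞),
      AlgSp.Points.map f.hom x = AlgSp.Points.map g.hom y' →
      AlgSp.HasAtMor (fun _ _ h u => ringKrullDim ↥((h.fiber (h u)).presheaf.stalk (h.asFiber u)) = e) f.hom x →
        ∃ x' : AlgSp.Points X'.obj, AlgSp.Points.map g'.hom x' = x ∧ AlgSp.Points.map f'.hom x' = y' ∧
          AlgSp.HasAtMor (fun _ _ h u => ringKrullDim ↥((h.fiber (h u)).presheaf.stalk (h.asFiber u)) = e)
            f'.hom x') := by
  obtain ⟨U, V, W₀, T, Q, a, b, c, a', h, t₁, t₂, u₁, u₂, ha, has, hb, -, hc, hcs, ha', has', ht₂, w, sqT, sqL,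
    w', wa⟩ := RelDimBC.exists_bc_chart X.property Y.property Y'.property sq
  have hf' : AlgSp.LocP @LocallyOfFiniteType f'.hom := Groth.Agent.Lib.AlgSpMor.LocP.locP_of_isPullback
    (Groth.Agent.Lib.AlgSpMor.LocP.etaleLocalST_of_list (Or.inl rfl)) X.property Y.property Y'.property sq hf
  have : LocallyOfFiniteType h.left := hf a b h ha hb w
  have htr : ∀ z, Dual3.resTrdeg (u₂ ≫ t₂).left z =
      Groth.Agent.Lib.Cyc.Residue.trdegAt u₂.left z := fun z => by
    show Groth.Agent.Lib.Cyc.Residue.trdegAt (u₂.left ≫ t₂.left) z = _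
    rw [Groth.Agent.Lib.Cyc.Residue.trdegAt_comp, Groth.Agent.Lib.AlgSpThick.FibreDim.trdegAt_eq_zero, zero_add]
  refine ⟨fun x' e e' r r' he hr he' hr' => ?_, fun x y' e hxy he => ?_⟩
  · obtain ⟨t, rfl, hd⟩ := RelDimBC.stalk_witness X.property Y.property hf he hr
    obtain ⟨t', rfl, hd'⟩ := RelDimBC.stalk_witness X'.property Y'.property hf' he' hr'
    obtain ⟨z, rfl⟩ := Core.surjective_ofPt has' x'
    have e0 : Points.map g'.hom (Points.ofPt a' z) = Points.ofPt a (u₁.left z) := by
      rw [← Core.ofPt_comp, wa, Core.ofPt_map_comp]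
    have hd2 := (RelDim.fibreDim_of_isPullback X.property Y.property Y'.property sq hf _
      (· = e + (t : WithBot ℕ∞))).2 hd
    have heq : e' + (t' : WithBot ℕ∞) = e + (t : WithBot ℕ∞) :=
      ((RelDim.hasAtMor_fibreDim_pred X'.property Y'.property hf' (· = _) ha' hc w' z).1 hd').symm.trans
        ((RelDim.hasAtMor_fibreDim_pred X'.property Y'.property hf' (· = _) ha' hc w' z).1 hd2)
    have hle : t' ≤ t := by
      rw [e0] at hr
      have h1 := (RelDim.hasAtMor_resTrdeg_pred X.property Y.property (· = _) ha hb w _).1 hr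
      have h2 := (RelDim.hasAtMor_resTrdeg_pred X'.property Y'.property (· = _) ha' hc w' z).1 hr'
      rw [htr] at h2
      have h3 := Groth.Agent.Lib.Flat55.ResTrdegBC.trdegAt_le sqL z
      rw [h2] at h3
      exact_mod_cast h3.trans h1.le
    refine ⟨by simpa using heq, (RelDimBC.add_natCast_le_add_natCast t).1 ?_⟩
    rw [← heq]
    gcongr
  · obtain ⟨u, rfl⟩ := Core.surjective_ofPt has x
    obtain ⟨v, rfl⟩ := Core.surjective_ofPt hcs y'
    have hτ : Points.ofPt b (h.left u) = Points.ofPt (c ≫ g.hom) v := by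
      rw [← Core.ofPt_map_comp h b u, ← w]
      exact hxy
    obtain ⟨τ, hτ1, hτ2⟩ := Core.exists_point_of_scheme_isPullback sqT _ _ hτ
    obtain ⟨z, hz1, hz2, hz3⟩ := Groth.Agent.Lib.Flat55.ResTrdegBC.exists_trdegAt_ge sqL u τ hτ1.symm
    have hzle := Groth.Agent.Lib.Flat55.ResTrdegBC.trdegAt_le sqL z
    subst hz1
    have eq3 := le_antisymm hzle hz3
    have : LocallyOfFiniteType (u₂ ≫ t₂).left := hf' a' c (u₂ ≫ t₂) ha' hc w'
    have e0 : Points.map g'.hom (Points.ofPt a' z) = Points.ofPt a (u₁.left z) := by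
      rw [← Core.ofPt_comp, wa, Core.ofPt_map_comp]
    obtain ⟨t, ht, hd⟩ := RelDimBC.stalk_witness X.property Y.property hf he
      ⟨U, V, a, b, h, u₁.left z, ha, hb, w, rfl, rfl⟩
    rw [← e0] at hd
    have hd2 := (RelDim.hasAtMor_fibreDim_pred X'.property Y'.property hf' (· = _) ha' hc w' z).1
      ((RelDim.fibreDim_of_isPullback X.property Y.property Y'.property sq hf _
        (· = e + (t : WithBot ℕ∞))).2 hd)
    obtain ⟨s, hs, hd3⟩ := RelDimComp.fibreDimAt_eq_stalk_add (u₂ ≫ t₂).left z
    have hst : s = t := by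
      have h1 := htr z
      rw [eq3] at h1
      exact_mod_cast hs.symm.trans (h1.trans ht)
    subst hst
    refine ⟨Points.ofPt a' z, e0, ?_, _, _, a', c, u₂ ≫ t₂, z, ha', hc, w', rfl, ?_⟩
    · rw [← Core.ofPt_comp, w', Core.ofPt_map_comp, Over.comp_left, Scheme.Hom.comp_apply, hz2, hτ2]
    · have h := hd3.symm.trans hd2
      exact le_antisymm ((RelDimBC.add_natCast_le_add_natCast s).1 h.le)
        ((RelDimBC.add_natCast_le_add_natCast s).1 h.ge)

end Groth.Agent.S10335
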