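import Groth.Statements.S10344
import Groth.Agent.Lib.AlgSpDecent.Specialize
import Groth.Agent.Lib.AlgSpMor.LocP

set_option autoImplicit false
universe u
open CategoryTheory CategoryTheory.Limits AlgebraicGeometry Topology TopologicalSpace
open AlgSp

namespace Groth.Agent.S10344

open Groth.Agent.Lib.AlgSpDecent Core

/-- Let S be a scheme, Y and X algebraic spaces over S, and f : Y ⟶ X a flat morphism, and let x' ⤳ x be
a specialization in |X|, where x' is represented by a monomorphism Spec k ⟶ X which is representable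
quasi-compact (for instance X decent). Then generalizations lift along f at x: every y ∈ |Y| over x
has a generization y' over x'. -/
theorem result {S : Scheme.{u}} {X Y : AlgSp.Space S} (f : Y ⟶ X)
    (hf : AlgSp.LocP @Flat f.hom) (x x' : AlgSp.Points X.obj) (h : x' ⤳ x)
    (hx' : ∃ p : AlgSp.FieldPt X.obj, AlgSp.Points.mk p = x' ∧ Mono p.toHom ∧ AlgSp.RepWith @QuasiCompact p.toHom)
    (y : AlgSp.Points Y.obj) (hy : AlgSp.Points.map f.hom y = x) :
    ∃ y' : AlgSp.Points Y.obj, y' ⤳ y ∧ AlgSp.Points.map f.hom y' = x' := by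
  obtain ⟨U, V, a, b, c, ha, has, hb, hbs, w⟩ := Groth.Agent.Lib.AlgSpMor.LocP.exists_chart Y.property X.property f.hom
  obtain ⟨v, rfl⟩ := surjective_ofPt has y
  have hflat : Flat c.left := hf a b c ha hb w
  have hbv : AlgSp.Points.ofPt b (c.left v) = x := by
    rw [← hy, ← ofPt_comp, w, ofPt_map_comp]
  have hfin := Specialize.finite_fibres_of_qc_point
    (x := x') (by obtain ⟨p, hp, -, hq⟩ := hx'; exact ⟨p, hp, hq⟩)
  obtain ⟨v', hv', he⟩ := Specialize.exists_lift_generization h hfin hb hbv
  obtain ⟨u', hu', hcu⟩ := Specialize.exists_generization c.left hv'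
  refine ⟨AlgSp.Points.ofPt a u', hu'.map (AlgSp.Points.continuous_ofPt a), ?_⟩
  rw [← ofPt_comp, w, ofPt_map_comp, hcu, he]

end Groth.Agent.S10344
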