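import Groth.Statements.S10347
import Groth.Agent.Lib.AlgSpDecent.DimCharts

set_option autoImplicit false
universe u
open CategoryTheory CategoryTheory.Limits AlgebraicGeometry Topology TopologicalSpace
open AlgSp

namespace Groth.Agent.S10347

open Groth.Agent.Lib.AlgSpDecent

/-- For a locally quasi-finite morphism f : X ⟶ Y of algebraic spaces over a scheme S (locally
quasi-finite and locally of finite type, etale locally on source and target), dim X ≤ dim Y. -/
theorem result {S : Scheme.{u}} {X Y : AlgSp.Space S} (f : X ⟶ Y)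
    (hf : AlgSp.LocP (@LocallyQuasiFinite ⊓ @LocallyOfFiniteType) f.hom) :
    AlgSp.dim X.obj ≤ AlgSp.dim Y.obj := by
  refine DimCharts.dim_le fun U a ha u => ?_
  obtain ⟨V, b, hb, hbs⟩ := Y.property.atlas
  obtain ⟨v, hv⟩ := Core.surjective_ofPt hbs (Points.map f.hom (Points.ofPt a u))
  exact (WithBot.coe_le_coe.2 (DimCharts.cohtPt_le_of_locP Y.property hf ha hb hv.symm)).trans
    (DimCharts.cohtPt_le_dim hb v)

end Groth.Agent.S10347
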