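import Groth.Statements.S10348
import Groth.Agent.Lib.AlgSpDecent.DimCharts

set_option autoImplicit false
universe u
open CategoryTheory CategoryTheory.Limits AlgebraicGeometry Topology TopologicalSpace
open AlgSp

namespace Groth.Agent.S10348

open Groth.Agent.Lib.AlgSpDecent

/-- Let S be a scheme, X and Y algebraic spaces over S, and f : X ⟶ Y a morphism which is locally
quasi-finite; let x ∈ |X| have image y ∈ |Y|. Then the local ring of X at x has dimension at most
that of the local ring of Y at the point y (both dimensions read on etale charts through the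
points). -/
theorem result {S : Scheme.{u}} {X Y : AlgSp.Space S} (f : X ⟶ Y)
    (hf : AlgSp.LocP (@LocallyQuasiFinite ⊓ @LocallyOfFiniteType) f.hom) (x : AlgSp.Points X.obj)
    (d e : WithBot ℕ∞)
    (hx : AlgSp.HasAt (fun U u => ringKrullDim ↥(U.presheaf.stalk u) = d) X.obj x)
    (hy : AlgSp.HasAt (fun V v => ringKrullDim ↥(V.presheaf.stalk v) = e) Y.obj (AlgSp.Points.map f.hom x)) :
    d ≤ e := by
  obtain ⟨U, a, u, ha, rfl, rfl⟩ := hx
  obtain ⟨V, b, v, hb, hv, rfl⟩ := hy
  rw [DimDecent.ringKrullDim_stalk, DimDecent.ringKrullDim_stalk]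
  exact WithBot.coe_le_coe.2 (DimCharts.cohtPt_le_of_locP Y.property hf ha hb hv.symm)

end Groth.Agent.S10348
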