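import Groth.Statements.S10353
import Groth.Agent.Lib.AlgSpDecent.DenseOpen
import Groth.Agent.Lib.AlgSpDecent.DescendMor
import Groth.Agent.S10423

set_option autoImplicit false
universe u
open CategoryTheory CategoryTheory.Limits AlgebraicGeometry Topology TopologicalSpace
open AlgSp

namespace Groth.Agent.S10353

/-- Let X be an algebraic space over a scheme S and suppose there is a finite, etale, surjective map h_U
⟶ X from a scheme U. Then some dense open subspace of X is a scheme: an open subspace X' ⟶ X with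
representable underlying sheaf and |X'| dense in |X|. -/
theorem result {S : Scheme.{u}} (X : AlgSp.Space S)
    {U : Over S} (a : (AlgSp.yon S).obj U ⟶ X.obj) (hf : AlgSp.RepWith @IsFinite a) (he : AlgSp.RepWith @Etale a)
    (hs : AlgSp.RepWith @Surjective a) :
    ∃ (X' : AlgSp.Space S) (j : X' ⟶ X), AlgSp.RepWith @IsOpenImmersion j.hom ∧ X'.obj.obj.IsRepresentable ∧
      Dense (Set.range (AlgSp.Points.map j.hom)) := by
  have hA : AlgSp.IsAlgSpace X.obj := X.property
  have haq : AlgSp.RepWith @QuasiCompact a := Lib.AlgSpDecent.Core.repWith_mono (P := @IsFinite) (fun g hg => by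
    have := (hg : IsFinite g); infer_instance) hf
  have hd : AlgSp.IsDecent X.obj := Lib.AlgSpDecent.DescendEtale.isDecent (AlgSp.IsAlgSpace.yon_obj U) hA
    (Lib.AlgSpMor.QC.isQuasiCompactMor_of_repWith haq)
    (Lib.AlgSpDecent.DescendMor.isEtaleMor_of_repWith he) (Lib.AlgSpace.surjective_map hs)
    (Groth.Agent.S10423.isDecent_yon_obj U)
  obtain ⟨G, m, hm, hdm⟩ := Lib.AlgSpDecent.DenseOpen.exists_dense_open hA hd
  exact ⟨⟨(AlgSp.yon S).obj G, AlgSp.IsAlgSpace.yon_obj G⟩, ObjectProperty.homMk m, hm,
    Lib.AlgSpDecent.OpenScheme.isRepresentable_yon G, hdm⟩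

end Groth.Agent.S10353
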