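import Groth.Statements.S10358
import Groth.Agent.Lib.AlgSpDecent.AlgPoint

set_option autoImplicit false
universe u
open CategoryTheory CategoryTheory.Limits AlgebraicGeometry Topology TopologicalSpace
open AlgSp

namespace Groth.Agent.S10358

/-- Let S be a scheme, X a decent algebraic space over S, and Spec k ⟶ X a morphism over S from the
spectrum of a field whose image in S is a closed point s with k finite over κ(s) (Spec k ⟶ S written
through a ring map φ : κ(s) → k). Then Spec k ⟶ X is finite; if moreover φ is bijective (k = κ(s))
it is a closed immersion. -/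
theorem result {S : Scheme.{u}} (X : AlgSp.Space S)
    (hX : AlgSp.IsDecent X.obj) (s : ↥S) (hs : IsClosed ({s} : Set ↥S)) (k : Type u) [Field k]
    (φ : S.residueField s ⟶ CommRingCat.of k) (hφ : φ.hom.Finite)
    (p : (AlgSp.yon S).obj (Over.mk (Spec.map φ ≫ S.fromSpecResidueField s)) ⟶ X.obj) :
    AlgSp.RepWith @IsFinite p ∧
      (Function.Bijective φ.hom → AlgSp.RepWith @IsClosedImmersion p) := by
  have : IsClosedImmersion (S.fromSpecResidueField s) :=
    .of_isPreimmersion _ (by rw [Scheme.range_fromSpecResidueField]; exact hs)
  have : IsFinite (Spec.map φ) := (IsFinite.SpecMap_iff φ).2 hφ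
  refine ⟨Lib.AlgSpDecent.AlgPoint.repWith_isFinite X.property hX, fun hb => ?_⟩
  have : IsIso φ := (ConcreteCategory.isIso_iff_bijective φ).2 hb
  exact Lib.AlgSpDecent.AlgPoint.repWith_isClosedImmersion X.property hX

end Groth.Agent.S10358
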