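import Groth.Statements.S10360
import Groth.Agent.Lib.AlgSpDecent.FiniteFibre
-- import your own Groth.Agent.* helpers here

set_option autoImplicit false
universe u
open CategoryTheory CategoryTheory.Limits AlgebraicGeometry Topology TopologicalSpace
open AlgSp

namespace Groth.Agent.S10360

open Groth.Agent.Lib.AlgSpDecent

/-- (1) ⇔ (4): for an algebraic space X over a scheme S and x ∈ |X|, the fibres over x of |U| → |X| and
|U ×_X U| → |X| are finite for every etale h_U ⟶ X with U affine, if and only if x is represented by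
a monomorphism Spec k ⟶ X which is representable quasi-compact. -/
theorem result {S : Scheme.{u}} (X : AlgSp.Space S)
    (x : AlgSp.Points X.obj) :
    (∀ (U : Over S) (φ : (AlgSp.yon S).obj U ⟶ X.obj), IsAffine U.left → AlgSp.RepWith @Etale φ →
        ∀ (R : Over S) (s t : R ⟶ U), IsPullback ((AlgSp.yon S).map t) ((AlgSp.yon S).map s) φ φ →
          (AlgSp.Points.ofPt φ ⁻¹' {x}).Finite ∧ (AlgSp.Points.ofPt ((AlgSp.yon S).map t ≫ φ) ⁻¹' {x}).Finite) ↔
      ∃ p : AlgSp.FieldPt X.obj, AlgSp.Points.mk p = x ∧ Mono p.toHom ∧ AlgSp.RepWith @QuasiCompact p.toHom := by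
  constructor
  · intro h
    obtain ⟨ι, U, φ, hU, hφ, hsurj⟩ := Specialize.exists_affine_chart X.property
    obtain ⟨i, u, rfl⟩ := hsurj x
    have := FiniteFibre.finite_pullback_ofPt (hφ i).rep u rfl ((hφ i).rep.isPullback' (φ i))
      (h (U i) (φ i) (hU i) (hφ i) _ _ _ ((hφ i).rep.isPullback' (φ i))).2
    obtain ⟨p, hp, hm⟩ := Criteria.exists_mono_of_finite_pullback X.property (hφ i) u
    refine ⟨p, hp, hm, Decent.repWith_qc_of_finite_fibres X.property p fun V b hV hb => ?_⟩
    rw [hp]
    exact (h V b hV hb _ _ _ (hb.rep.isPullback' b)).1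
  · rintro ⟨p, rfl, -, hp⟩ U φ hU hφ R s t sq
    exact ⟨Fibre.finite_fibre_of_qc_point ⟨p, rfl, hp⟩ hφ,
      FiniteFibre.finite_fibre_self_pullback hφ p hp sq⟩

end Groth.Agent.S10360
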