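import Groth.Statements.S10367
import Groth.Agent.Lib.AlgSpDecent.FieldCover

set_option autoImplicit false
universe u
open CategoryTheory CategoryTheory.Limits AlgebraicGeometry Topology TopologicalSpace
open AlgSp

namespace Groth.Agent.S10367

open Groth.Agent.Lib.AlgSpace Groth.Agent.Lib.AlgSpDecent

/-- (2) ⇒ (3): if an algebraic space Z over a scheme S admits a surjective flat morphism Spec k ⟶ Z with
k a field, then it also admits such a morphism which is moreover locally of finite type. -/
theorem result {S : Scheme.{u}} (Z : AlgSp.Space S)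
    (k : Type u) [Field k] (str : Spec (CommRingCat.of k) ⟶ S) (p : (AlgSp.yon S).obj (Over.mk str) ⟶ Z.obj)
    (hpf : AlgSp.LocP @Flat p) (hps : AlgSp.IsSurjectiveMor p) :
    ∃ (k' : Type u) (_ : Field k') (str' : Spec (CommRingCat.of k') ⟶ S) (q : (AlgSp.yon S).obj (Over.mk str') ⟶ Z.obj),
      AlgSp.LocP @LocallyOfFiniteType q ∧ AlgSp.LocP @Flat q ∧ AlgSp.IsSurjectiveMor q := by
  obtain ⟨U, a, ha, has⟩ := Z.property.atlas
  have := FieldCover.subsingleton_points hps
  obtain ⟨u, -⟩ := Groth.Agent.Lib.AlgSpDecent.Core.surjective_ofPt has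
    (AlgSp.Points.map p (Points.ofPt (𝟙 _) (IsLocalRing.closedPoint k)))
  have hF := FieldCover.isField_stalk_chart Z.property hpf hps ha
  exact ⟨_, inferInstance, _, FieldCover.resPt a u,
    FieldCover.locP_resPt Z.property Groth.Agent.Lib.SourceDescent.Scheme.locallyOfFiniteType ha u
      (FieldCover.locallyOfFiniteType_fromSpecResidueField hF u),
    FieldCover.locP_resPt Z.property Groth.Agent.Lib.SourceDescent.Scheme.flat ha u
      (FieldCover.flat_fromSpecResidueField u (hF u)),
    FieldCover.surjective_resPt a u⟩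

end Groth.Agent.S10367
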