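import Groth.Statements.S10368
import Groth.Agent.Lib.AlgSpDecent.OnePoint

set_option autoImplicit false
universe u
open CategoryTheory CategoryTheory.Limits AlgebraicGeometry Topology TopologicalSpace
open AlgSp

namespace Groth.Agent.S10368

open Groth.Agent.Lib.AlgSpace Groth.Agent.Lib.AlgSpDecent

/-- An algebraic space Z over a scheme S is reduced, locally Noetherian and has |Z| a single point if
and only if there is a locally finitely presented, flat, surjective morphism Spec k ⟶ Z from the
spectrum of a field. -/
theorem result {S : Scheme.{u}} (Z : AlgSp.Space S) :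
    (AlgSp.EtaleLocally (fun U => IsReduced U) Z.obj ∧ AlgSp.IsLocNoethSp Z.obj ∧ Nonempty (AlgSp.Points Z.obj) ∧ Subsingleton (AlgSp.Points Z.obj)) ↔
      ∃ (k : Type u) (_ : Field k) (str : Spec (CommRingCat.of k) ⟶ S) (p : (AlgSp.yon S).obj (Over.mk str) ⟶ Z.obj),
        AlgSp.LocP @LocallyOfFinitePresentation p ∧ AlgSp.LocP @Flat p ∧ AlgSp.IsSurjectiveMor p := by
  constructor
  · rintro ⟨hr, hN, hne, hsub⟩
    obtain ⟨z⟩ := hne
    obtain ⟨U, a, ha, has⟩ := Z.property.atlas
    obtain ⟨u, -⟩ := Groth.Agent.Lib.AlgSpDecent.Core.surjective_ofPt has z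
    have hF := OnePoint.isField_stalk_chart Z.property hr hN ha
    have : IsLocallyNoetherian U.left := CodimOneSp.isLocallyNoetherian_chart hN ha
    have := FieldCover.locallyOfFiniteType_fromSpecResidueField hF u
    exact ⟨_, inferInstance, _, FieldCover.resPt a u,
      FieldCover.locP_resPt Z.property Groth.Agent.Lib.SourceDescent.Scheme.locallyOfFinitePresentation
        ha u inferInstance,
      FieldCover.locP_resPt Z.property Groth.Agent.Lib.SourceDescent.Scheme.flat ha u
        (FieldCover.flat_fromSpecResidueField u (hF u)),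
      FieldCover.surjective_resPt a u⟩
  · rintro ⟨k, _, str, p, hpl, hpf, hps⟩
    obtain ⟨U, a, ha, has⟩ := Z.property.atlas
    exact ⟨⟨U, a, ha, has, FieldCover.isReduced_chart Z.property hpf hps ha⟩,
      OnePoint.isLocNoethSp_of_cover Z.property hpl hpf hps,
      ⟨AlgSp.Points.map p (Points.ofPt (𝟙 _) (IsLocalRing.closedPoint k))⟩,
      FieldCover.subsingleton_points hps⟩

end Groth.Agent.S10368
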