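import Groth.Statements.S10370
import Groth.Agent.Lib.AlgSpDecent.ResidualExists

set_option autoImplicit false
universe u
open CategoryTheory CategoryTheory.Limits AlgebraicGeometry Topology TopologicalSpace
open AlgSp

namespace Groth.Agent.S10370

open Groth.Agent.Lib.AlgSpace Groth.Agent.Lib.AlgSpDecent

/-- For an algebraic space X over a scheme S and x ∈ |X| there is a monomorphism Z ⟶ X of algebraic
spaces with image {x} in |X| such that Z admits a locally finitely presented, flat, surjective
morphism from the spectrum of a field (so Z is a reduced, locally Noetherian, one-point space). -/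
theorem result {S : Scheme.{u}} (X : AlgSp.Space S) (x : AlgSp.Points X.obj) :
    ∃ (Z : AlgSp.Space S) (i : Z ⟶ X), Mono i.hom ∧ Set.range (AlgSp.Points.map i.hom) = {x} ∧
      ∃ (k : Type u) (_ : Field k) (str : Spec (CommRingCat.of k) ⟶ S) (p : (AlgSp.yon S).obj (Over.mk str) ⟶ Z.obj),
        AlgSp.LocP @LocallyOfFinitePresentation p ∧ AlgSp.LocP @Flat p ∧ AlgSp.IsSurjectiveMor p := by
  obtain ⟨U, a, ha, has⟩ := X.property.atlas
  obtain ⟨u, rfl⟩ := Groth.Agent.Lib.AlgSpDecent.Core.surjective_ofPt has x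
  let j : Over.mk (U.left.fromSpecResidueField u ≫ U.hom) ⟶ U :=
    Over.homMk (U.left.fromSpecResidueField u) rfl
  have : IsPreimmersion j.left := inferInstanceAs (IsPreimmersion (U.left.fromSpecResidueField u))
  obtain ⟨Z, i, p, hZ, hi, hpe, hps, hpi⟩ := @ResidualExists.exists_residual _ _ X.property
    ↥(U.left.residueField u) inferInstance (U.left.fromSpecResidueField u ≫ U.hom) _ _ ha j this
  have hsurj : AlgSp.IsSurjectiveMor p := Groth.Agent.Lib.AlgSpace.surjective_map hps
  have : Subsingleton (AlgSp.Points Z) := FieldCover.subsingleton_points hsurj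
  refine ⟨⟨Z, hZ⟩, ObjectProperty.homMk i, hi, ?_, _, inferInstance, _, p, ?_, ?_, hsurj⟩
  · let z := AlgSp.Points.map p (Points.ofPt (𝟙 _) (IsLocalRing.closedPoint (U.left.residueField u)))
    have hz : AlgSp.Points.map i z = Points.ofPt a u := by
      rw [← AlgSp.Points.map_comp, hpi, ← Groth.Agent.Lib.AlgSpDecent.Core.ofPt_comp, Category.id_comp,
        Groth.Agent.Lib.AlgSpDecent.Core.ofPt_comp, Groth.Agent.Lib.AlgSpDecent.Core.ofPt_yon_map,
        ← Groth.Agent.Lib.AlgSpDecent.Core.ofPt_comp, Category.id_comp]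
      exact congrArg (Points.ofPt a) (Scheme.fromSpecResidueField_apply u _)
    refine Set.eq_singleton_iff_nonempty_unique_mem.2 ⟨⟨_, z, rfl⟩, ?_⟩
    rintro _ ⟨z', rfl⟩
    rw [Subsingleton.elim z' z]
    exact hz
  · exact Groth.Agent.Lib.AlgSpMor.LocP.locP_of_repWith
      Groth.Agent.Lib.SourceDescent.Scheme.locallyOfFinitePresentation
      (Groth.Agent.Lib.AlgSpace.repWith_mono hpe fun _ _ g hg =>
        Groth.Agent.Lib.SourceDescent.Scheme.locallyOfFinitePresentation.etale g hg)
  · exact Groth.Agent.Lib.AlgSpMor.LocP.locP_of_repWith Groth.Agent.Lib.SourceDescent.Scheme.flat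
      (Groth.Agent.Lib.AlgSpace.repWith_mono hpe fun _ _ g hg =>
        Groth.Agent.Lib.SourceDescent.Scheme.flat.etale g hg)

end Groth.Agent.S10370
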