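import Groth.Statements.S10371
import Groth.Agent.Lib.AlgSpDecent.OnePointMono

set_option autoImplicit false
universe u
open CategoryTheory CategoryTheory.Limits AlgebraicGeometry Topology TopologicalSpace
open AlgSp

namespace Groth.Agent.S10371

open Groth.Agent.Lib.AlgSpace Groth.Agent.Lib.AlgSpDecent

/-- Two monomorphisms Z ⟶ X, Z' ⟶ X of algebraic spaces over a scheme S with image {x} in |X|, whose
sources admit a locally finitely presented, flat, surjective morphism from the spectrum of a field,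
are isomorphic over X. -/
theorem result {S : Scheme.{u}} (X : AlgSp.Space S) (x : AlgSp.Points X.obj)
    {Z Z' : AlgSp.Space S} (i : Z ⟶ X) (i' : Z' ⟶ X) [Mono i.hom] [Mono i'.hom]
    (hi : Set.range (AlgSp.Points.map i.hom) = {x}) (hi' : Set.range (AlgSp.Points.map i'.hom) = {x})
    (hZ : ∃ (k : Type u) (_ : Field k) (str : Spec (CommRingCat.of k) ⟶ S) (p : (AlgSp.yon S).obj (Over.mk str) ⟶ Z.obj),
        AlgSp.LocP @LocallyOfFinitePresentation p ∧ AlgSp.LocP @Flat p ∧ AlgSp.IsSurjectiveMor p)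
    (hZ' : ∃ (k : Type u) (_ : Field k) (str : Spec (CommRingCat.of k) ⟶ S) (p : (AlgSp.yon S).obj (Over.mk str) ⟶ Z'.obj),
        AlgSp.LocP @LocallyOfFinitePresentation p ∧ AlgSp.LocP @Flat p ∧ AlgSp.IsSurjectiveMor p) :
    ∃ e : Z' ≅ Z, e.hom ≫ i = i' := by
  obtain ⟨k, _, str, p, hpl, hpf, hps⟩ := hZ
  obtain ⟨k', _, str', p', hpl', hpf', hps'⟩ := hZ'
  have sq := IsPullback.of_hasPullback i.hom i'.hom
  have hW := Groth.Agent.Lib.AlgSpace.isAlgSpace_of_isPullback sq X.property.diag Z.property Z'.property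
  have z : AlgSp.Points Z.obj :=
    AlgSp.Points.map p (Points.ofPt (𝟙 _) (IsLocalRing.closedPoint k))
  have z' : AlgSp.Points Z'.obj :=
    AlgSp.Points.map p' (Points.ofPt (𝟙 _) (IsLocalRing.closedPoint k'))
  obtain ⟨w, -, -⟩ := Groth.Agent.Lib.AlgSpDecent.Core.exists_point_of_isPullback sq z z'
    ((Set.mem_singleton_iff.1 (hi.le ⟨z, rfl⟩)).trans
      (Set.mem_singleton_iff.1 (hi'.le ⟨z', rfl⟩)).symm)
  have : Nonempty (AlgSp.Points (pullback i.hom i'.hom)) := ⟨w⟩
  have h1 : IsIso (pullback.fst i.hom i'.hom) :=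
    OnePointMono.isIso_of_mono Z.property hW _ hpl hpf hps
  have h2 : IsIso (pullback.snd i.hom i'.hom) :=
    OnePointMono.isIso_of_mono Z'.property hW _ hpl' hpf' hps'
  refine ⟨⟨ObjectProperty.homMk (inv (pullback.snd i.hom i'.hom) ≫ pullback.fst i.hom i'.hom),
    ObjectProperty.homMk (inv (pullback.fst i.hom i'.hom) ≫ pullback.snd i.hom i'.hom),
    ObjectProperty.hom_ext _ (by simp [ObjectProperty.FullSubcategory.comp_hom]),
    ObjectProperty.hom_ext _ (by simp [ObjectProperty.FullSubcategory.comp_hom])⟩, ObjectProperty.hom_ext _ ?_⟩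
  show (inv (pullback.snd i.hom i'.hom) ≫ pullback.fst i.hom i'.hom) ≫ i.hom = i'.hom
  rw [Category.assoc, sq.w, IsIso.inv_hom_id_assoc]

end Groth.Agent.S10371
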