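import Groth.Statements.S10374
import Groth.Agent.Lib.AlgSpDecent.Strata
import Groth.Agent.Lib.AlgSpDecent.DimIntegral

set_option autoImplicit false
universe u
open CategoryTheory CategoryTheory.Limits AlgebraicGeometry Topology TopologicalSpace
open AlgSp

namespace Groth.Agent.S10374

open CategoryTheory CategoryTheory.Limits AlgebraicGeometry Opposite AlgSp Groth.Agent.Lib.AlgSpDecent Groth.Agent.Lib.AlgSpace

/-- Let S be a scheme and X a decent algebraic space over S. Every point x ∈ |X| admits an etale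
neighbourhood (U, u) ⟶ (X, x) which is elementary, with U an affine scheme and u the only point of U
over x; being elementary means that Spec κ(u) ⟶ X is a monomorphism, equivalently that the residue
field of X at x maps isomorphically to κ(u). -/
theorem result {S : Scheme.{u}} (X : AlgSp.Space S) (hX : AlgSp.IsDecent X.obj)
    (x : AlgSp.Points X.obj) :
    ∃ (U : Over S) (a : (AlgSp.yon S).obj U ⟶ X.obj) (u : ↥U.left), IsAffine U.left ∧
      AlgSp.IsElemEtaleNbhd a u x ∧ AlgSp.Points.ofPt a ⁻¹' {x} = {u} := by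
  classical
  obtain ⟨q, hq, hmono, hqc⟩ := hX x
  obtain ⟨U₀, a, u₀, hU₀, ha, hu₀⟩ := DimIntegral.exists_affine_chart_pt X.property x
  obtain ⟨N, hN⟩ := Strata.exists_notMem_lvl X.property ha ⟨q, hq, hqc⟩
  have h0 : x ∈ Strata.lvl a 0 := ⟨U₀, u₀, fun _ => 𝟙 U₀, fun _ i j _ => Fin.ext (by omega),
    fun _ => rfl, by rw [CategoryTheory.Functor.map_id, Category.id_comp, hu₀]⟩
  have hex : ∃ n, x ∉ Strata.lvl a (n + 1) := ⟨N, fun h => hN (Strata.lvl_antitone N h)⟩
  obtain ⟨n, hn, hn'⟩ : ∃ n, x ∈ Strata.lvl a n ∧ x ∉ Strata.lvl a (n + 1) := by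
    refine ⟨Nat.find hex, ?_, Nat.find_spec hex⟩
    rcases h : Nat.find hex with _ | m
    · exact h0
    · exact not_not.1 (Nat.find_min hex (h ▸ Nat.lt_succ_self m))
  obtain ⟨V, l, -, hl, hrl, hinj, -⟩ := Strata.exists_piece X.property ha n
  obtain ⟨v, hv⟩ : x ∈ Set.range (Points.ofPt l) := hrl ▸ hn
  -- only one point over x, scheme-theoretically
  have huniq : ∀ {T : Over S} (p₁ p₂ : T ⟶ V), (yon S).map p₁ ≫ l = (yon S).map p₂ ≫ l →
      (∀ z, Points.ofPt l (p₁.left z) = x) → p₁ = p₂ := fun p₁ p₂ e hx => hinj p₁ p₂ e fun z h => by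
    rw [Core.ofPt_map_comp, hx] at h
    exact hn' h
  obtain ⟨W₀, hW₀, hvW, -⟩ := exists_isAffineOpen_mem_and_subset (show v ∈ (⊤ : V.left.Opens) from trivial)
  let W : Over S := Over.mk (W₀.ι ≫ V.hom)
  let ι : W ⟶ V := Over.homMk W₀.ι rfl
  have : IsAffine W.left := hW₀
  let w₀ : ↥W.left := ⟨v, hvW⟩
  refine ⟨W, (yon S).map ι ≫ l, w₀, this, ⟨?_, ?_, ?_⟩, ?_⟩
  · have : MorphismProperty.IsStableUnderComposition @Etale.{u} := MorphismProperty.IsMultiplicative.toIsStableUnderComposition
    exact repWith_yon_map_comp (inferInstanceAs (Etale W₀.ι)) hl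
  · exact (Core.ofPt_map_comp ι l _).trans hv
  · refine mono_of_yon _ fun T c₁ c₂ e => ?_
    obtain ⟨t₁, rfl⟩ := (yon S).map_surjective c₁
    obtain ⟨t₂, rfl⟩ := (yon S).map_surjective c₂
    rw [FieldPt.toHom_ofPt] at e
    simp only [Category.assoc, ← Functor.map_comp_assoc] at e
    have := huniq _ _ (by simpa only [Category.assoc] using e) fun z => by
      refine (congrArg (Points.ofPt l) ?_).trans hv
      exact congrArg W₀.ι (Scheme.fromSpecResidueField_apply (X := W.left) w₀ _)
    congr 1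
    refine Over.OverMorphism.ext ?_
    have h2 := congrArg CommaMorphism.left this
    simp only [Over.comp_left, Category.assoc] at h2
    exact (cancel_mono (W.left.fromSpecResidueField w₀ ≫ W₀.ι)).1 h2
  · ext w
    simp only [Set.mem_preimage, Set.mem_singleton_iff]
    refine ⟨fun h => ?_, fun h => h ▸ (Core.ofPt_map_comp ι l _).trans hv⟩
    rw [Core.ofPt_map_comp, ← hv, ofPt_eq_ofPt_iff] at h
    obtain ⟨P, p, r, z, hp, hr, he⟩ := h
    let j : Over.mk (P.left.fromSpecResidueField z ≫ P.hom) ⟶ P := Over.homMk (P.left.fromSpecResidueField z) rfl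
    have := huniq (j ≫ p) (j ≫ r) (by simp only [Functor.map_comp, Category.assoc, he]) fun y => by
      show Points.ofPt l (p.left (P.left.fromSpecResidueField z y)) = x
      rw [Scheme.fromSpecResidueField_apply, ← Core.ofPt_map_comp p, he, Core.ofPt_map_comp, hr, hv]
    obtain ⟨y⟩ : Nonempty ↥(Over.mk (P.left.fromSpecResidueField z ≫ P.hom)).left :=
      inferInstanceAs (Nonempty (Spec (P.left.residueField z)))
    have h3 := congrArg (fun m : _ ⟶ V => m.left y) this
    apply W₀.ι.isOpenEmbedding.injective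
    change p.left (P.left.fromSpecResidueField z y) = r.left (P.left.fromSpecResidueField z y) at h3
    rw [Scheme.fromSpecResidueField_apply, hp, hr] at h3
    exact h3

end Groth.Agent.S10374
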