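import Groth.Statements.S10375
import Groth.Agent.Lib.AlgSpNormCover.Exists

set_option autoImplicit false
universe u
open CategoryTheory CategoryTheory.Limits AlgebraicGeometry Topology TopologicalSpace
open AlgSp

namespace Groth.Agent.S10375

/-- Let S be a scheme and X an algebraic space over S which is quasi-compact and quasi-separated (S with
quasi-separated underlying space, so that X is quasi-separated absolutely). Then there is a
surjective integral morphism Y ⟶ X with Y a scheme; moreover, given a surjective etale U ⟶ X from a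
scheme, Y ⟶ X can be chosen to factor through U Zariski locally on Y. -/
theorem result {S : Scheme.{u}} [QuasiSeparatedSpace ↥S] (X : AlgSp.Space S)
    (hqc : AlgSp.IsQuasiCompactSp X.obj) (hqs : AlgSp.IsQuasiSeparatedSp X.obj)
    {U : Over S} (b : (AlgSp.yon S).obj U ⟶ X.obj) (hb : AlgSp.RepWith @Etale b) (hbs : AlgSp.RepWith @Surjective b) :
    ∃ (Y : Over S) (g : (AlgSp.yon S).obj Y ⟶ X.obj), AlgSp.RepWith @IsIntegralHom g ∧ AlgSp.RepWith @Surjective g ∧
      ∀ y : ↥Y.left, ∃ (W : Y.left.Opens) (c : Over.mk (W.ι ≫ Y.hom) ⟶ U), y ∈ W ∧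
        (AlgSp.yon S).map c ≫ b = (AlgSp.yon S).map (Over.homMk W.ι rfl : Over.mk (W.ι ≫ Y.hom) ⟶ Y) ≫ g := by
  have : CompactSpace (AlgSp.Points X.obj) := Lib.AlgSpMor.QC.compactSpace_points hqc
  obtain ⟨T, k, hT, hke, hks⟩ := Lib.AlgSpNormCover.exists_affine_refinement X.property hb hbs
  obtain ⟨Y, ν, hν, hνs, hloc⟩ := Lib.AlgSpNormCover.exists_integral_cover X.property hqs hke hks
  refine ⟨Y, ν, hν, hνs, fun y => ?_⟩
  obtain ⟨O, c, hy, hc⟩ := hloc y
  exact ⟨O, c ≫ k, hy, by rw [Functor.map_comp, Category.assoc]; exact hc⟩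

end Groth.Agent.S10375
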