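import Groth.Statements.S10376
import Groth.Agent.Lib.AlgSpMor.RelNorm.Main
import Groth.Agent.Lib.AlgSpMor.QC
import Groth.Agent.Lib.AlgSpMor.Proper
import Groth.Agent.Lib.AlgSpFpqc.Rep
import Groth.Agent.Lib.AlgSpDecent.Core

set_option autoImplicit false
universe u
open CategoryTheory CategoryTheory.Limits AlgebraicGeometry Topology TopologicalSpace
open AlgSp

namespace Groth.Agent.S10376

open Groth.Agent.Lib Groth.Agent.Lib.AlgSpMor Groth.Agent.Lib.AlgSpMor.RelNorm Groth.Agent.Lib.AlgSpace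

/-- Let S be a scheme, Y and V algebraic spaces over S, j : V ⟶ Y a quasi-compact open immersion, and π
: Z ⟶ V an integral morphism. Then one can find an integral morphism ν : Y' ⟶ Y for which Z is
isomorphic over V to the preimage in Y' of V: there is j' : Z ⟶ Y' making the square (j', π, ν, j)
cartesian. -/
theorem result {S : Scheme.{u}} {V Y Z : AlgSp.Space S} (j : V ⟶ Y)
    (hj : AlgSp.RepWith @IsOpenImmersion j.hom) (hjq : AlgSp.IsQuasiCompactMor j.hom) (π : Z ⟶ V)
    (hπ : AlgSp.IsIntegralMor π.hom) :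
    ∃ (Y' : AlgSp.Space S) (ν : Y' ⟶ Y) (j' : Z ⟶ Y'), AlgSp.IsIntegralMor ν.hom ∧
      IsPullback j'.hom π.hom ν.hom j.hom := by

  have : Mono j.hom := mono_of_repWith (P := @IsOpenImmersion)
    (fun _ _ g (_ : IsOpenImmersion g) ↦ (inferInstance : Mono g)) hj

  have hπ' := AffineDescent.isIntegralMor_iff.1 hπ

  have hqc : AlgSp.IsQuasiCompactMor (π.hom ≫ j.hom) :=
    QC.isQuasiCompactMor_comp V.property Y.property.diag
      (QC.isQuasiCompactMor_of_repWith (repWith_mono hπ' fun _ _ g (_ : IsIntegralHom g) => (inferInstance : QuasiCompact g))) hjq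

  have hqs : AlgSp.IsQuasiSeparatedMor (π.hom ≫ j.hom) :=
    Proper.repWith_diagonal_comp _
      (repWith_mono (AlgSpFpqc.Rep.isSeparatedMor_of_repWith V.property
        (repWith_mono hπ' fun _ _ g (_ : IsIntegralHom g) => (inferInstance : IsSeparated g)))
        fun _ _ g (_ : IsClosedImmersion g) => (inferInstance : QuasiCompact g))
      (repWith_mono (Proper.isSeparatedMor_of_mono_repWith j.hom)
        fun _ _ g (_ : IsClosedImmersion g) => (inferInstance : QuasiCompact g))

  obtain ⟨Y', ν, f', hY', hstr⟩ := exists_str Y.property Z.property hqc hqs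

  have sqN := IsPullback.of_hasPullback ν j.hom

  have hN := isAlgSpace_of_isPullback sqN Y.property.diag hY' V.property

  have sqP : IsPullback (𝟙 Z.obj) π.hom (π.hom ≫ j.hom) j.hom := by
    simpa using (IsPullback.of_horiz_isIso (⟨by simp⟩ : CommSq (𝟙 Z.obj) π.hom π.hom (𝟙 V.obj))).paste_vert
      (IsKernelPair.id_of_mono j.hom)
  let k : Z.obj ⟶ Limits.pullback ν j.hom := sqN.lift f' π.hom hstr.fac

  have hn : AlgSp.IsRelNormalization π.hom (Limits.pullback.snd ν j.hom) k :=
    (hstr.baseChange Y.property V.property (locP_smooth_of_etale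
      (repWith_mono hj fun _ _ g (_ : IsOpenImmersion g) => (inferInstance : Etale g))) sqP sqN
      (by rw [sqN.lift_fst, Category.id_comp]) (sqN.lift_snd _ _ _)).isRelNormalization V.property
  obtain ⟨g, ⟨hg1, hg2⟩, -⟩ := hn.2.2 Z.property π.hom (𝟙 _) hπ (Category.id_comp _)
  have hg3 : g ≫ k = 𝟙 _ := by
    obtain ⟨w, -, hw⟩ := hn.2.2 hN (Limits.pullback.snd ν j.hom) k hn.2.1 hn.1
    rw [hw (g ≫ k) ⟨by rw [← Category.assoc, hg1, Category.id_comp], by rw [Category.assoc, hn.1, hg2]⟩,
      hw (𝟙 _) ⟨Category.comp_id _, Category.id_comp _⟩]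
  let e : Limits.pullback ν j.hom ≅ Z.obj := ⟨g, k, hg3, hg1⟩
  refine ⟨⟨Y', hY'⟩, ObjectProperty.homMk ν, ObjectProperty.homMk f', hstr.integral, ?_⟩
  exact sqN.of_iso e (Iso.refl _) (Iso.refl _) (Iso.refl _)
    (by show Limits.pullback.fst ν j.hom ≫ 𝟙 _ = g ≫ f'
        rw [← sqN.lift_fst f' π.hom hstr.fac, ← Category.assoc g, hg3, Category.id_comp, Category.comp_id])
    (by show Limits.pullback.snd ν j.hom ≫ 𝟙 _ = g ≫ π.hom
        rw [hg2, Category.comp_id])
    (by simp) (by simp)

end Groth.Agent.S10376
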