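import Groth.Statements.S10386
import Groth.Agent.Lib.AlgSpDecent.FiniteFibre
-- import your own Groth.Agent.* helpers here

set_option autoImplicit false
universe u
open CategoryTheory CategoryTheory.Limits AlgebraicGeometry Topology TopologicalSpace
open AlgSp

namespace Groth.Agent.S10386

open Groth.Agent.Lib.AlgSpDecent

/-- (3) ⇒ (1): let S be a scheme, X and Y algebraic spaces over S, and f : X ⟶ Y a morphism such that Z
×_Y X is decent for every affine scheme Z and every Z ⟶ Y. Then f is decent, i.e. T ×_Y X is decent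
for every scheme T over Y. -/
theorem result {S : Scheme.{u}} {X Y : AlgSp.Space S} (f : X ⟶ Y)
    (h : ∀ (Z : Over S) (g : (AlgSp.yon S).obj Z ⟶ Y.obj) (P : AlgSp.Sp S) (fst : P ⟶ X.obj)
      (snd : P ⟶ (AlgSp.yon S).obj Z), IsAffine Z.left → IsPullback fst snd f.hom g → AlgSp.IsDecent P) :
    AlgSp.IsDecentMor f.hom := by
  intro T F' g fst snd sq
  have hF : IsAlgSpace F' := Groth.Agent.Lib.AlgSpace.isAlgSpace_of_isPullback sq Y.property.diag
    X.property (IsAlgSpace.yon_obj T)
  let W : T.left.affineOpens → Over S := fun W => Over.mk (W.1.ι ≫ T.hom)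
  let c : ∀ W', (yon S).obj (W W') ⟶ (yon S).obj T := fun W' =>
    (yon S).map (Specialize.openIncl W'.1)
  refine Criteria.isDecent_of_openCover hF (fun W' => pullback snd (c W'))
    (fun W' => pullback.fst snd (c W')) (fun W' => ?_) (fun x => ?_) (fun W' => ?_)
  · exact Groth.Agent.Lib.AlgSpace.repWith_baseChange (IsPullback.of_hasPullback snd (c W')).flip
      ((AlgSp.repWith_yon_map_iff @IsOpenImmersion _).2 (inferInstanceAs (IsOpenImmersion W'.1.ι)))
  · obtain ⟨t, ht⟩ := (Points.schemeEquiv T).surjective (Points.map snd x)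
    obtain ⟨_, ⟨W', hW, rfl⟩, htW, -⟩ := T.left.isBasis_affineOpens.exists_subset_of_mem_open
      (Set.mem_univ t) isOpen_univ
    refine ⟨⟨W', hW⟩, ?_⟩
    rw [Core.range_map_snd_of_isPullback (IsPullback.of_hasPullback snd (c ⟨W', hW⟩)).flip]
    refine ⟨Points.ofScheme (W ⟨W', hW⟩) ⟨t, htW⟩, ?_⟩
    rw [Core.map_ofScheme, Core.ofPt_yon_map]
    exact ht
  · exact h (W W') _ _ _ _ W'.2 ((IsPullback.of_hasPullback snd (c W')).paste_horiz sq)

end Groth.Agent.S10386
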