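import Groth.Statements.S10389
import Groth.Agent.Lib.AlgSpDecent.ChartOver
import Groth.Agent.Lib.AlgSpDecent.Fibre
import Groth.Agent.Lib.AlgSpMor.LocP

set_option autoImplicit false
universe u
open CategoryTheory CategoryTheory.Limits AlgebraicGeometry Topology TopologicalSpace
open AlgSp

namespace Groth.Agent.S10389

open Groth.Agent.Lib

/-- Let W = X ×_Y Z be a fibre product of algebraic spaces over a scheme S with projections p, q, and
let x ∈ |X|, z ∈ |Z| lie over the same point y ∈ |Y|. If y is represented by a monomorphism Spec k ⟶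
Y from the spectrum of a field and g : Z ⟶ Y is quasi-finite at z, then the set of points of |W|
mapping to x and to z is finite. (Special case: Y decent and g etale.) -/
theorem result {S : Scheme.{u}} {X Y Z W : AlgSp.Space S} (f : X ⟶ Y)
    (g : Z ⟶ Y) (p : W ⟶ X) (q : W ⟶ Z) (hW : IsPullback p.hom q.hom f.hom g.hom) (x : AlgSp.Points X.obj)
    (z : AlgSp.Points Z.obj) (hxz : AlgSp.Points.map f.hom x = AlgSp.Points.map g.hom z)
    (hy : ∃ r : AlgSp.FieldPt Y.obj, AlgSp.Points.mk r = AlgSp.Points.map g.hom z ∧ Mono r.toHom)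
    (hg : AlgSp.HasAtMor (fun U _ h u => ∃ W : U.Opens, u ∈ W ∧ LocallyQuasiFinite (W.ι ≫ h) ∧ LocallyOfFiniteType (W.ι ≫ h)) g.hom z) :
    {w : AlgSp.Points W.obj | AlgSp.Points.map p.hom w = x ∧ AlgSp.Points.map q.hom w = z}.Finite := by
  obtain ⟨r, hr, hm⟩ := hy
  have hrr := AlgSpDecent.Decent.representable_toHom Y.property r
  -- the quasi-finite chart and its base change to the point
  obtain ⟨U, V, c, b, h, u, hc, hb, hw, hcu, O, huO, hO, hOft⟩ := hg
  obtain ⟨U₀, hU₀, huU, hUO⟩ := exists_isAffineOpen_mem_and_subset (U := O) huO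
  let U' : Over S := Over.mk (U₀.ι ≫ U.hom)
  let iU : U' ⟶ U := AlgSpDecent.Specialize.openIncl U₀
  have hlqf : LocallyQuasiFinite (iU ≫ h).left := by
    show LocallyQuasiFinite (U₀.ι ≫ h.left)
    rw [← Scheme.homOfLE_ι U.left (show U₀ ≤ O from hUO), Category.assoc]
    exact MorphismProperty.comp_mem _ _ _ (inferInstance : LocallyQuasiFinite (U.left.homOfLE _)) hO
  have hlft : LocallyOfFiniteType (iU ≫ h).left := by
    show LocallyOfFiniteType (U₀.ι ≫ h.left)
    rw [← Scheme.homOfLE_ι U.left (show U₀ ≤ O from hUO), Category.assoc]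
    exact MorphismProperty.comp_mem _ _ _ (inferInstance : LocallyOfFiniteType (U.left.homOfLE _)) hOft
  let E := hb.rep.pullback r.toHom
  let B := pullback (iU ≫ h) (hb.rep.fst' r.toHom)
  let πB : B ⟶ r.pt := pullback.snd (iU ≫ h) (hb.rep.fst' r.toHom) ≫ hb.rep.snd r.toHom
  have hEπ : Etale (hb.rep.snd r.toHom).left := hb.property_snd _
  have : LocallyQuasiFinite (hb.rep.snd r.toHom).left := AlgSpDecent.Fibre.locallyQuasiFinite_of_etale _
  have sqB := (IsPullback.of_hasPullback (iU ≫ h) (hb.rep.fst' r.toHom)).map (Over.forget S)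
  have hπB : LocallyQuasiFinite πB.left := by
    have h1 : LocallyQuasiFinite (pullback.snd (iU ≫ h) (hb.rep.fst' r.toHom)).left :=
      MorphismProperty.of_isPullback (P := @LocallyQuasiFinite) sqB hlqf
    exact MorphismProperty.comp_mem _ _ _ h1 (inferInstance : LocallyQuasiFinite (hb.rep.snd r.toHom).left)
  -- the point of B over u
  obtain ⟨e, he⟩ : ∃ e : ↥E.left, (hb.rep.fst' r.toHom).left e = h.left u := by
    have : h.left u ∈ Set.range (hb.rep.fst' r.toHom).left := by
      rw [AlgSpDecent.Fibre.range_fst r hb.rep]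
      show AlgSp.Points.ofPt b (h.left u) = AlgSp.Points.mk r
      rw [← AlgSpDecent.Core.ofPt_map_comp, ← hw, AlgSpDecent.Core.ofPt_comp, hcu, hr]
    exact this
  obtain ⟨t', ht', -⟩ := Scheme.Pullback.exists_preimage_pullback (f := (iU ≫ h).left) (g := (hb.rep.fst' r.toHom).left)
    (⟨u, huU⟩ : ↥U'.left) e he.symm
  let t : ↥B.left := sqB.isoPullback.inv t'
  have ht : (pullback.fst (iU ≫ h) (hb.rep.fst' r.toHom)).left t = (⟨u, huU⟩ : ↥U'.left) :=
    ((Scheme.Hom.comp_apply _ _ t').symm.trans (congrArg (fun φ : Limits.pullback _ _ ⟶ U'.left => φ t')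
      sqB.isoPullback_inv_fst)).trans ht'
  obtain ⟨B₀, hB₀, htB, -⟩ := exists_isAffineOpen_mem_and_subset (U := (⊤ : B.left.Opens)) (x := t) trivial
  let B' : Over S := Over.mk (B₀.ι ≫ B.hom)
  let iB : B' ⟶ B := AlgSpDecent.Specialize.openIncl B₀
  let t₀ : ↥B'.left := ⟨t, htB⟩
  have : LocallyQuasiFinite (iB ≫ πB).left :=
    MorphismProperty.comp_mem _ _ _ (inferInstanceAs (LocallyQuasiFinite B₀.ι) : LocallyQuasiFinite iB.left) hπB
  -- a representative of x
  obtain ⟨Ux, a, ux, hUx, ha, hax⟩ := AlgSpDecent.DimIntegral.exists_affine_chart_pt X.property x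
  let A : Over S := (FieldPt.ofPt a ux).pt
  let aA : (yon S).obj A ⟶ X.obj := (FieldPt.ofPt a ux).toHom
  obtain ⟨ψ, hψ, -⟩ := AlgSpDecent.Decent.existsUnique_factor hrr (q := FieldPt.ofPt (a ≫ f.hom) ux) (by
    show AlgSp.Points.mk r = AlgSp.Points.ofPt (a ≫ f.hom) ux
    rw [AlgSpDecent.Core.ofPt_comp, hax, hxz, hr])
  change A ⟶ r.pt at ψ
  have hψ' : (yon S).map ψ ≫ r.toHom = aA ≫ f.hom := by
    show _ = (FieldPt.ofPt a ux).toHom ≫ f.hom
    rw [FieldPt.toHom_ofPt, Category.assoc]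
    refine hψ.trans ?_
    rw [FieldPt.toHom_ofPt]
    rfl
  let K := pullback ψ (iB ≫ πB)
  have sqK := (IsPullback.of_hasPullback ψ (iB ≫ πB)).map (yon S)
  have sqK' := (IsPullback.of_hasPullback ψ (iB ≫ πB)).map (Over.forget S)
  have : Finite ↥K.left := by
    have hA : IsAffine A.left := inferInstanceAs (IsAffine (Spec _))
    have hr' : IsAffine r.pt.left := inferInstanceAs (IsAffine (Spec _))
    have hB' : IsAffine B'.left := hB₀
    have hK : IsAffine (pullback ψ.left (iB ≫ πB).left) := inferInstance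
    have : IsAffine (pullback ((Over.forget S).map ψ) ((Over.forget S).map (iB ≫ πB))) := hK
    have : IsAffine K.left := IsAffine.of_isIso sqK'.isoPullback.hom
    have hlq : LocallyQuasiFinite (pullback.fst ψ (iB ≫ πB)).left :=
      MorphismProperty.of_isPullback (P := @LocallyQuasiFinite) sqK'.flip ‹_›
    have : IsLocallyArtinian A.left := inferInstanceAs (IsLocallyArtinian (Spec _))
    have := IsLocallyArtinian.of_locallyQuasiFinite (f := (pullback.fst ψ (iB ≫ πB)).left)
    have : DiscreteTopology ↥K.left := inferInstance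
    exact finite_of_compact_of_discrete
  have hBV : (yon S).map (iB ≫ pullback.fst (iU ≫ h) (hb.rep.fst' r.toHom) ≫ iU) ≫ c ≫ g.hom =
      (yon S).map (iB ≫ πB) ≫ r.toHom := by
    have hEr := (hb.rep.isPullback' r.toHom).w
    have hcond : iB ≫ pullback.fst (iU ≫ h) (hb.rep.fst' r.toHom) ≫ iU ≫ h =
        iB ≫ pullback.snd (iU ≫ h) (hb.rep.fst' r.toHom) ≫ hb.rep.fst' r.toHom := by
      rw [← pullback.condition]
    rw [hw, ← Functor.map_comp_assoc]
    simp only [Category.assoc, hcond, πB, Functor.map_comp]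
    rw [hEr]
  let κ : (yon S).obj K ⟶ W.obj := hW.lift ((yon S).map (pullback.fst ψ (iB ≫ πB)) ≫ aA)
    ((yon S).map (pullback.snd ψ (iB ≫ πB) ≫ iB ≫ pullback.fst (iU ≫ h) (hb.rep.fst' r.toHom) ≫ iU) ≫ c) (by
      rw [Category.assoc, ← hψ', ← Category.assoc, sqK.w, Category.assoc, ← hBV, ← Functor.map_comp_assoc]
      simp only [Category.assoc])
  refine (Set.finite_range fun k => AlgSp.Points.map κ (AlgSp.Points.ofScheme K k)).subset ?_
  rintro w ⟨hwx, hwz⟩
  have sqA := IsPullback.of_hasPullback aA p.hom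
  obtain ⟨tA⟩ := AlgSpDecent.Core.nonempty_pt (FieldPt.ofPt a ux)
  obtain ⟨π₁, hπ₁, hπ₁'⟩ := AlgSpDecent.Core.exists_point_of_isPullback sqA (AlgSp.Points.ofScheme A tA) w (by
    rw [hwx, ← AlgSp.Points.ofPt_eq_map_ofScheme, AlgSp.Points.ofPt_toHom]
    exact hax)
  let cB : (yon S).obj B' ⟶ Z.obj := (yon S).map (iB ≫ pullback.fst (iU ≫ h) (hb.rep.fst' r.toHom) ≫ iU) ≫ c
  have sqB' := IsPullback.of_hasPullback (pullback.snd aA p.hom ≫ q.hom) cB
  obtain ⟨π₂, hπ₂, -⟩ := AlgSpDecent.Core.exists_point_of_isPullback sqB' π₁ (AlgSp.Points.ofScheme B' t₀) (by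
    rw [AlgSp.Points.map_comp, hπ₁', hwz, ← AlgSp.Points.ofPt_eq_map_ofScheme, AlgSpDecent.Core.ofPt_map_comp, ← hcu]
    exact (congrArg (fun z : ↥U'.left => AlgSp.Points.ofPt c (iU.left z)) ht).symm)
  let P₂ := pullback (pullback.snd aA p.hom ≫ q.hom) cB
  let l : P₂ ⟶ (yon S).obj K := sqK.lift (pullback.fst _ _ ≫ pullback.fst aA p.hom) (pullback.snd _ _) (by
    rw [← cancel_mono r.toHom]
    simp only [Category.assoc]
    rw [hψ', ← hBV, reassoc_of% (pullback.condition (f := aA) (g := p.hom)), hW.w]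
    simpa only [cB, Category.assoc] using pullback.condition_assoc (f := pullback.snd aA p.hom ≫ q.hom) (g := cB) g.hom)
  have hl : l ≫ κ = pullback.fst _ _ ≫ pullback.snd aA p.hom := by
    apply hW.hom_ext
    · rw [Category.assoc, hW.lift_fst, ← Category.assoc, sqK.lift_fst, Category.assoc, Category.assoc,
        pullback.condition]
    · rw [Category.assoc, hW.lift_snd, Functor.map_comp, Category.assoc, ← Category.assoc, sqK.lift_snd, Category.assoc]
      exact (pullback.condition (f := pullback.snd aA p.hom ≫ q.hom) (g := cB)).symm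
  obtain ⟨k, hk⟩ := (AlgSp.Points.schemeEquiv K).surjective (AlgSp.Points.map l π₂)
  refine ⟨k, ?_⟩
  show AlgSp.Points.map κ (AlgSp.Points.ofScheme K k) = w
  rw [show AlgSp.Points.ofScheme K k = AlgSp.Points.map l π₂ from hk, ← AlgSp.Points.map_comp, hl,
    AlgSp.Points.map_comp, hπ₂, hπ₁']

end Groth.Agent.S10389
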