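import Groth.Statements.S10390
import Groth.Agent.Lib.AlgSpDecent.PointEmbedding

set_option autoImplicit false
universe u
open CategoryTheory CategoryTheory.Limits AlgebraicGeometry Topology TopologicalSpace
open AlgSp

namespace Groth.Agent.S10390

open Groth.Agent.Lib

/-- Let S be a scheme, X and Y algebraic spaces over S, and f : X ⟶ Y a morphism, and let y ∈ |Y| be a
point represented by a monomorphism Spec k ⟶ Y which is representable quasi-compact. Then for the
fibre X_k = Spec k ×_Y X the map |X_k| → |X| is a homeomorphism of |X_k| onto f⁻¹({y}) with its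
induced topology. -/
theorem result {S : Scheme.{u}} {X Y : AlgSp.Space S} (f : X ⟶ Y)
    (r : AlgSp.FieldPt Y.obj) (hm : Mono r.toHom) (hq : AlgSp.RepWith @QuasiCompact r.toHom)
    (Xk : AlgSp.Space S) (fst : Xk ⟶ X) (snd : Xk.obj ⟶ (AlgSp.yon S).obj r.pt) (hsq : IsPullback fst.hom snd f.hom r.toHom) :
    IsEmbedding (AlgSp.Points.map fst.hom) ∧
      Set.range (AlgSp.Points.map fst.hom) = AlgSp.Points.map f.hom ⁻¹' {AlgSp.Points.mk r} := by
  refine ⟨AlgSpDecent.PointEmbedding.isEmbedding_fibre X.property Y.property r hq hsq, ?_⟩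
  ext x
  constructor
  · rintro ⟨z, rfl⟩
    show AlgSp.Points.map f.hom (AlgSp.Points.map fst.hom z) = AlgSp.Points.mk r
    rw [← AlgSp.Points.map_comp, hsq.w, AlgSp.Points.map_comp]
    obtain ⟨t, ht⟩ := (AlgSp.Points.schemeEquiv r.pt).surjective (AlgSp.Points.map snd z)
    rw [← ht]
    exact (AlgSp.Points.ofPt_eq_map_ofScheme r.toHom t).symm.trans (AlgSp.Points.ofPt_toHom r t)
  · intro hx
    obtain ⟨t⟩ := AlgSpDecent.Core.nonempty_pt r
    obtain ⟨z, hz, -⟩ := AlgSpDecent.Core.exists_point_of_isPullback hsq x (AlgSp.Points.ofScheme r.pt t)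
      (hx.trans ((AlgSp.Points.ofPt_toHom r t).symm.trans (AlgSp.Points.ofPt_eq_map_ofScheme r.toHom t)))
    exact ⟨z, hz⟩

end Groth.Agent.S10390
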