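import Groth.Statements.S10391
import Groth.Agent.Lib.AlgSpDecent.IsolatedPt

set_option autoImplicit false
universe u
open CategoryTheory CategoryTheory.Limits AlgebraicGeometry Topology TopologicalSpace
open AlgSp

namespace Groth.Agent.S10391

open Groth.Agent.Lib.AlgSpDecent

/-- Let k be a field, X an algebraic space over k which is locally of finite type, and x ∈ |X|. The
conditions (2) x is closed in |X| and has no proper generization, (3) x is an isolated point of |X|,
(4) dim_x(X) = 0 are equivalent; if X is decent they are also equivalent to (1) dim_x(|X|) = 0. (The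
equivalence with quasi-finiteness of X → Spec k at x is not part of this row.) -/
theorem result (k : Type u) [Field k] (X : AlgSp.Space (Spec (CommRingCat.of k)))
    (p : X.obj ⟶ (AlgSp.yon (Spec (CommRingCat.of k))).obj (Over.mk (𝟙 _))) (hp : AlgSp.LocP @LocallyOfFiniteType p) (x : AlgSp.Points X.obj) :
    (IsOpen ({x} : Set (AlgSp.Points X.obj)) ↔
        (IsClosed ({x} : Set (AlgSp.Points X.obj)) ∧ ∀ x' : AlgSp.Points X.obj, x' ⤳ x → x' = x)) ∧
      (IsOpen ({x} : Set (AlgSp.Points X.obj)) ↔ AlgSp.HasAt (fun U u => FlatMor.localDim ↥U u = 0) X.obj x) ∧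
      (AlgSp.IsDecent X.obj →
        (FlatMor.localDim (AlgSp.Points X.obj) x = 0 ↔ IsOpen ({x} : Set (AlgSp.Points X.obj)))) := by
  obtain ⟨U, a, ha, hs⟩ := X.property.atlas
  obtain ⟨u, rfl⟩ := Core.surjective_ofPt hs x
  have hN := IsolatedPt.isLocallyNoetherian_chart p hp ha
  have hLN := IsolatedPt.isLocNoethSp p hp X.property
  have hfw : IsOpen ({Points.ofPt a u} : Set (Points X.obj)) →
      (IsClosed ({Points.ofPt a u} : Set (Points X.obj)) ∧
        ∀ x', x' ⤳ Points.ofPt a u → x' = Points.ofPt a u) := by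
    intro hx
    refine ⟨?_, fun x' hx' => hx'.mem_open hx rfl⟩
    rw [← isOpen_compl_iff, Core.isOpen_iff_chart ha hs]
    rw [Set.preimage_compl, isOpen_compl_iff]
    have hP : IsOpen (Points.ofPt a ⁻¹' {Points.ofPt a u}) := hx.preimage (Points.continuous_ofPt a)
    rw [← closure_subset_iff_isClosed]
    intro z hz
    obtain ⟨Z, hZ⟩ : ∃ Z : Set ↥U.left, Z = Points.ofPt a ⁻¹' {Points.ofPt a u} := ⟨_, rfl⟩
    by_contra hzn
    obtain ⟨_, ⟨V, hV, rfl⟩, hzV, -⟩ := U.left.isBasis_affineOpens.exists_subset_of_mem_open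
      (Set.mem_univ z) isOpen_univ
    change U.left.Opens at V
    have : IsNoetherianRing Γ(U.left, V) := IsLocallyNoetherian.component_noetherian ⟨V, hV⟩
    have hVn : NoetherianSpace ↥(V : Set ↥U.left) := noetherianSpace_of_isAffineOpen V hV
    have hc : IsCompact (Points.ofPt a ⁻¹' {Points.ofPt a u} ∩ (V : Set ↥U.left)) :=
      (noetherianSpace_set_iff _).1 hVn _
        Set.inter_subset_right
    obtain ⟨fs, hfs⟩ := hc.elim_finite_subcover
      (fun q : {q : ↥U.left // Points.ofPt a q = Points.ofPt a u} => ({q.1} : Set ↥U.left))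
      (fun q => (IsolatedPt.isOpen_singleton_chart p hp X.property ha (q.2.symm ▸ hx)).1)
      (fun y hy => Set.mem_iUnion.2 ⟨⟨y, hy.1⟩, rfl⟩)
    have hcl : IsClosed (⋃ q ∈ fs, ({q.1} : Set ↥U.left)) :=
      fs.finite_toSet.isClosed_biUnion fun q _ =>
        (IsolatedPt.isOpen_singleton_chart p hp X.property ha (q.2.symm ▸ hx)).2
    obtain ⟨y, ⟨hyV, hyn⟩, hy⟩ := mem_closure_iff.1 hz _ (V.isOpen.sdiff hcl) ⟨hzV, fun h => by
      obtain ⟨q, -, hq⟩ := Set.mem_iUnion₂.1 h
      exact hzn ((Set.mem_singleton_iff.1 hq) ▸ q.2)⟩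
    exact hyn (hfs ⟨hy, hyV⟩)
  have hbw : (IsClosed ({Points.ofPt a u} : Set (Points X.obj)) ∧
        ∀ x', x' ⤳ Points.ofPt a u → x' = Points.ofPt a u) →
      IsOpen ({u} : Set ↥U.left) := by
    rintro ⟨hcl, hgen⟩
    refine IsolatedPt.isOpen_singleton_of_extremal (fun y hy => ?_) (fun y hy => ?_)
    · exact (LocNoeth.eq_of_specializes_locNoeth hLN ha
        (hgen _ (hy.map (Points.continuous_ofPt a))).symm hy).symm
    · exact LocNoeth.eq_of_specializes_locNoeth hLN ha
        (hy.map (Points.continuous_ofPt a) |>.mem_closed hcl rfl) hy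
  have hopen : ∀ (V : Over (Spec (CommRingCat.of k))) (b : (AlgSp.yon _).obj V ⟶ X.obj) (v : ↥V.left),
      RepWith @Etale b → IsOpen ({v} : Set ↥V.left) → IsOpen ({Points.ofPt b v} : Set (Points X.obj)) := by
    intro V b v hb hv
    simpa using Core.isOpenMap_ofPt hb _ hv
  refine ⟨⟨hfw, fun h => hopen U a u ha (hbw h)⟩, ⟨fun h => ⟨U, a, u, ha, rfl, ?_⟩, ?_⟩, fun hd => ?_⟩
  · exact (IsolatedPt.localDim_eq_zero_iff u).2
      (IsolatedPt.isOpen_singleton_chart p hp X.property ha h).1
  · rintro ⟨V, b, v, hb, hv, h0⟩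
    have := IsolatedPt.isLocallyNoetherian_chart p hp hb
    exact hv ▸ hopen V b v hb ((IsolatedPt.localDim_eq_zero_iff v).1 h0)
  · rw [← DimDecent.localDim_eq X.property hd ha, IsolatedPt.localDim_eq_zero_iff]
    exact ⟨hopen U a u ha, fun h => (IsolatedPt.isOpen_singleton_chart p hp X.property ha h).1⟩

end Groth.Agent.S10391
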