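import Groth.Statements.S10392
import Groth.Agent.Lib.AlgSpDecent.IsolatedPt

set_option autoImplicit false
universe u
open CategoryTheory CategoryTheory.Limits AlgebraicGeometry Topology TopologicalSpace
open AlgSp

namespace Groth.Agent.S10392

open Groth.Agent.Lib.AlgSpDecent

/-- Let k be a field and X a nonempty algebraic space over k which is locally of finite type. Then (2)
|X| is discrete if and only if (4) dim X = 0, and these imply (3) dim |X| = 0; if X is decent then
(3) implies (2) and (1) |X| finite implies (4). (The published statement asserts (2) ⇔ (3) ⇔ (4) for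
every such X and does not exclude the empty space; for the quotient of the affine line over a field
of characteristic zero by the translation action of the integers, |X| is an infinite set with the
indiscrete topology, so (3) holds while (2) and (4) fail, and for the empty space (2) holds while
dim X = ⊥. The equivalence with local quasi-finiteness of X → Spec k is not part of this row.) -/
theorem result (k : Type u) [Field k] (X : AlgSp.Space (Spec (CommRingCat.of k)))
    (p : X.obj ⟶ (AlgSp.yon (Spec (CommRingCat.of k))).obj (Over.mk (𝟙 _))) (hp : AlgSp.LocP @LocallyOfFiniteType p) [Nonempty (AlgSp.Points X.obj)] :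
    (DiscreteTopology (AlgSp.Points X.obj) ↔ AlgSp.dim X.obj = 0) ∧
      (DiscreteTopology (AlgSp.Points X.obj) → topologicalKrullDim (AlgSp.Points X.obj) = 0) ∧
      (AlgSp.IsDecent X.obj → topologicalKrullDim (AlgSp.Points X.obj) = 0 → DiscreteTopology (AlgSp.Points X.obj)) ∧
      (AlgSp.IsDecent X.obj → Finite (AlgSp.Points X.obj) → AlgSp.dim X.obj = 0) := by
  have h14 : AlgSp.dim X.obj = 0 → DiscreteTopology (Points X.obj) := by
    intro hd
    obtain ⟨U, a, ha, hs⟩ := X.property.atlas
    have := IsolatedPt.isLocallyNoetherian_chart p hp ha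
    have : IsLocallyArtinian U.left := IsLocallyArtinian.of_topologicalKrullDim_le_zero
      (hd ▸ le_iSup₂_of_le U a (le_iSup_of_le ha le_rfl))
    refine discreteTopology_iff_isOpen_singleton.2 fun x => ?_
    obtain ⟨u, rfl⟩ := Core.surjective_ofPt hs x
    simpa using Core.isOpenMap_ofPt ha _ (isOpen_discrete {u})
  have hge : (0 : WithBot ℕ∞) ≤ AlgSp.dim X.obj := by
    obtain ⟨x⟩ := ‹Nonempty (Points X.obj)›
    obtain ⟨U, a, ha, hs⟩ := X.property.atlas
    obtain ⟨u, -⟩ := Core.surjective_ofPt hs x
    exact le_trans (WithBot.coe_le_coe.2 zero_le) (DimCharts.cohtPt_le_dim ha u)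
  have h21 : DiscreteTopology (Points X.obj) → AlgSp.dim X.obj = 0 := by
    intro hX
    refine le_antisymm (DimCharts.dim_le fun U a ha u => ?_) hge
    have h := (IsolatedPt.isOpen_singleton_chart p hp X.property ha (u := u) (isOpen_discrete _)).1
    rw [show SpecOrder.cohtPt u = 0 from
      SpecOrder.cohtPt_eq_zero.2 fun y hy => hy.mem_open h rfl]
    rfl
  refine ⟨⟨h21, h14⟩, fun hX => ?_, fun hd h => h14 (DimDecent.dim_points_eq X.property hd ▸ h),
    fun hd hfin => h21 (discreteTopology_iff_isOpen_singleton.2 fun x => ?_)⟩
  · refine le_antisymm (topologicalKrullDim_zero_of_discreteTopology _) ?_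
    have : Nonempty (IrreducibleCloseds (Points X.obj)) := by
      obtain ⟨x⟩ := ‹Nonempty (Points X.obj)›
      exact ⟨⟨closure {x}, isIrreducible_singleton.closure, isClosed_closure⟩⟩
    exact Order.krullDim_nonneg
  · obtain ⟨ι, U, φ, hU, hφ, hsurj⟩ := Specialize.exists_affine_chart X.property
    obtain ⟨i, v, rfl⟩ := hsurj x
    have := hU i
    have := IsolatedPt.jacobsonSpace_chart p hp (hφ i)
    have : Finite ↥(U i).left := by
      rw [← Set.finite_univ_iff]
      refine Set.Finite.subset (Set.finite_univ.biUnion fun y _ =>
        Decent.IsDecent.finite_fibres hd y (U i) (φ i) (hU i) (hφ i)) fun w _ => ?_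
      exact Set.mem_biUnion (Set.mem_univ (Points.ofPt (φ i) w)) rfl
    simpa using Core.isOpenMap_ofPt (hφ i) _ (isOpen_discrete {v})

end Groth.Agent.S10392
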