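import Groth.Statements.S10393
import Groth.Agent.Lib.AlgSpDecent.DenseOpen
import Groth.Agent.Lib.AlgSpDecent.QS
import Groth.Agent.S10423

set_option autoImplicit false
universe u
open CategoryTheory CategoryTheory.Limits AlgebraicGeometry Topology TopologicalSpace
open AlgSp

namespace Groth.Agent.S10393

open Groth.Agent.Lib.AlgSpDecent

/-- Let S be a scheme, Y a scheme over S whose underlying topological space is discrete (equivalently, Y
is a disjoint union of spectra of local rings of dimension zero), and X an algebraic space over S
with a monomorphism X ⟶ Y over S. Then X is a scheme. -/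
theorem result {S : Scheme.{u}} (Y : Over S) [DiscreteTopology ↥Y.left]
    (X : AlgSp.Space S) (f : X ⟶ (AlgSp.ofScheme S).obj Y) [Mono f.hom] : X.obj.obj.IsRepresentable := by
  have hq : IsQuasiSeparatedMor f.hom := by
    show RepWith @QuasiCompact (pullback.diagonal f.hom)
    exact Groth.Agent.Lib.AlgSpace.repWith_of_isIso @QuasiCompact _
  have hd : IsDecent X.obj := Decent.isDecent_of_isDecentMor
    (QS.isDecentMor_of_isQuasiSeparatedMor X.property ((AlgSp.ofScheme S).obj Y).property hq)
    (Groth.Agent.S10423.isDecent_yon_obj Y)
  have : DiscreteTopology (Points ((AlgSp.ofScheme S).obj Y).obj) :=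
    DiscreteTopology.of_continuous_injective (Points.schemeHomeo Y).symm.continuous
      (Points.schemeHomeo Y).symm.injective
  have : DiscreteTopology (Points X.obj) :=
    DiscreteTopology.of_continuous_injective (Points.continuous_map f.hom)
      (Core.injective_map_of_mono f.hom)
  obtain ⟨G, m, hm, hmax⟩ := DenseOpen.exists_largest X.property
  have hall : Function.Surjective (Points.map m) := fun x => by
    obtain ⟨Q, l, -, hl, ⟨y, hy⟩, hsub⟩ :=
      DenseOpen.exists_open_scheme_in X.property hd (isOpen_discrete {x}) (Set.singleton_nonempty x)
    exact hmax Q l hl ((hsub hy : y = x) ▸ hy)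
  have := OpenScheme.isIso_of_surjective hm hall
  exact OpenScheme.isRepresentable_of_iso (asIso m)

end Groth.Agent.S10393
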