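import Groth.Statements.S10394
import Groth.Agent.Lib.AlgSpDecent.DimDecent

set_option autoImplicit false
universe u
open CategoryTheory CategoryTheory.Limits AlgebraicGeometry Topology TopologicalSpace
open AlgSp

namespace Groth.Agent.S10394

open Groth.Agent.Lib.AlgSpDecent Core DimDecent SpecOrder

/-- (1) ⇔ (4): let S be a scheme, X a decent algebraic space over S and x ∈ |X|. Then x is the generic
point of some irreducible component of |X| if and only if the local ring of X at x has dimension
zero (x is a codimension 0 point of X). -/
theorem result {S : Scheme.{u}} (X : AlgSp.Space S)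
    (hX : AlgSp.IsDecent X.obj) (x : AlgSp.Points X.obj) :
    (∃ T ∈ irreducibleComponents (AlgSp.Points X.obj), IsGenericPoint x T) ↔ AlgSp.HasAt (fun U u => ringKrullDim ↥(U.presheaf.stalk u) = 0) X.obj x := by
  rw [exists_component_iff_cohtPt X.property hX]
  constructor
  · intro h
    obtain ⟨U, a, ha, hs⟩ := X.property.atlas
    obtain ⟨u, rfl⟩ := surjective_ofPt hs x
    refine ⟨U, a, u, ha, rfl, ?_⟩
    show ringKrullDim _ = 0
    rw [ringKrullDim_stalk_chart X.property hX ha, h]
    rfl
  · rintro ⟨U, a, u, ha, rfl, h⟩
    have h' : ringKrullDim (U.left.presheaf.stalk u) = 0 := h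
    rw [ringKrullDim_stalk_chart X.property hX ha] at h'
    exact_mod_cast h'

end Groth.Agent.S10394
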