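import Groth.Statements.S10397
import Groth.Agent.Lib.AlgSpDecent.DenseQC
import Groth.Agent.Lib.AlgSpDecent.DenseOpen
import Mathlib.Topology.Irreducible

set_option autoImplicit false
universe u
open CategoryTheory CategoryTheory.Limits AlgebraicGeometry Topology TopologicalSpace
open AlgSp

namespace Groth.Agent.S10397

open Groth.Agent.Lib.AlgSpDecent

theorem isOpenEmbedding_ofPt {S : Scheme.{u}} {F : AlgSp.Sp S} {G : Over S}
    {m : (AlgSp.yon S).obj G ⟶ F} (hm : AlgSp.RepWith @IsOpenImmersion m) :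
    IsOpenEmbedding (AlgSp.Points.ofPt m) := by
  have h : AlgSp.Points.ofPt m = AlgSp.Points.map m ∘ AlgSp.Points.schemeHomeo G :=
    funext (AlgSp.Points.ofPt_eq_map_ofScheme m)
  rw [h]
  exact (Lib.AlgSpace.isOpenEmbedding_map hm).comp (AlgSp.Points.schemeHomeo G).isOpenEmbedding

theorem finite_components_of_isOpenEmbedding {Y X : Type*} [TopologicalSpace Y] [TopologicalSpace X]
    {f : Y → X} (hf : IsOpenEmbedding f) (h : (irreducibleComponents X).Finite) :
    (irreducibleComponents Y).Finite := by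
  refine (h.image (fun Z => f ⁻¹' Z)).subset fun T hT => ?_
  obtain ⟨Z, hZ, hTZ⟩ := exists_mem_irreducibleComponents_subset_of_isIrreducible _
    (hT.1.image f hf.continuous.continuousOn)
  have hne : (Z ∩ Set.range f).Nonempty := by
    obtain ⟨y, hy⟩ := hT.1.nonempty
    exact ⟨f y, hTZ ⟨y, hy, rfl⟩, y, rfl⟩
  have hirr : IsIrreducible (f ⁻¹' Z) :=
    ⟨by obtain ⟨_, hz, y, rfl⟩ := hne; exact ⟨y, hz⟩, hZ.1.2.preimage hf⟩
  exact ⟨Z, hZ, Set.Subset.antisymm (hT.2 hirr (Set.image_subset_iff.1 hTZ))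
    (Set.image_subset_iff.1 hTZ)⟩

theorem finite_components_of_finite_dense {X : Type*} [TopologicalSpace X] {E : Set X}
    (hE : E.Finite) (hd : ∀ O : Set X, IsOpen O → O.Nonempty → (O ∩ E).Nonempty) :
    (irreducibleComponents X).Finite := by
  refine (hE.image fun e => closure {e}).subset fun Z hZ => ?_
  have hcl : IsClosed (⋃ e ∈ E, closure ({e} : Set X)) :=
    hE.isClosed_biUnion fun _ _ => isClosed_closure
  have hcov : Z ⊆ ⋃ e ∈ E, closure ({e} : Set X) := fun z _ => by
    by_contra h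
    obtain ⟨e, he, heE⟩ := hd _ hcl.isOpen_compl ⟨z, h⟩
    exact he (Set.mem_biUnion heE (subset_closure rfl))
  obtain ⟨C, hC, hZC⟩ := isIrreducible_iff_sUnion_isClosed.1 hZ.1
    (hE.toFinset.image fun e => closure ({e} : Set X))
    (fun C hC => by obtain ⟨e, -, rfl⟩ := Finset.mem_image.1 hC; exact isClosed_closure)
    (hcov.trans (by
      intro z hz
      obtain ⟨e, he, hze⟩ := Set.mem_iUnion₂.1 hz
      exact ⟨_, Finset.mem_coe.2 (Finset.mem_image.2 ⟨e, hE.mem_toFinset.2 he, rfl⟩), hze⟩))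
  obtain ⟨e, he, rfl⟩ := Finset.mem_image.1 hC
  exact ⟨e, hE.mem_toFinset.1 he,
    (Set.Subset.antisymm hZC (hZ.2 isIrreducible_singleton.closure hZC)).symm⟩

/-- (1) ⇔ (3): an algebraic space X over a scheme S is decent with |X| having finitely many irreducible
components if and only if X has a dense open subscheme X' with finitely many irreducible components
whose generic points x'_j give quasi-compact morphisms Spec κ(x'_j) ⟶ X. -/
theorem result {S : Scheme.{u}} (X : AlgSp.Space S) :
    (AlgSp.IsDecent X.obj ∧ (irreducibleComponents (AlgSp.Points X.obj)).Finite) ↔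
      ∃ (X' : Over S) (j : (AlgSp.yon S).obj X' ⟶ X.obj), AlgSp.RepWith @IsOpenImmersion j ∧
        Dense (Set.range (AlgSp.Points.ofPt j)) ∧ (irreducibleComponents ↥X'.left).Finite ∧
        ∀ x' : ↥X'.left, (∃ T ∈ irreducibleComponents ↥X'.left, IsGenericPoint x' T) →
          AlgSp.RepWith @QuasiCompact (AlgSp.FieldPt.ofPt j x').toHom := by
  have hA : AlgSp.IsAlgSpace X.obj := X.property
  constructor
  · rintro ⟨hd, hfin⟩
    obtain ⟨G, m, hm, hdm⟩ := DenseOpen.exists_dense_open hA hd
    have hemb : IsOpenEmbedding (AlgSp.Points.ofPt m) := isOpenEmbedding_ofPt hm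
    refine ⟨G, m, hm, by rwa [← Core.range_points_map_yon m], ?_, fun x' _ => ?_⟩
    · exact finite_components_of_isOpenEmbedding hemb hfin
    · obtain ⟨q, hq, -, hqq⟩ := hd (AlgSp.Points.mk (AlgSp.FieldPt.ofPt m x'))
      exact Fibre.repWith_qc_of_mk_eq (Decent.representable_toHom hA _) hqq hq.symm
  · rintro ⟨G, m, hm, hdm, hfin, hqc⟩
    have hemb : IsOpenEmbedding (AlgSp.Points.ofPt m) := isOpenEmbedding_ofPt hm
    let E₀ : Set ↥G.left := {g | ∃ T ∈ irreducibleComponents ↥G.left, IsGenericPoint g T}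
    have hE₀ : E₀.Finite := by
      refine (hfin.biUnion fun T _ => (Set.Subsingleton.finite
        (s := {g : ↥G.left | IsGenericPoint g T}) fun g hg g' hg' => hg.eq hg')).subset ?_
      rintro g ⟨T, hT, hg⟩
      exact Set.mem_biUnion hT hg
    have hdense : ∀ O : Set (AlgSp.Points X.obj), IsOpen O → O.Nonempty →
        (O ∩ AlgSp.Points.ofPt m '' E₀).Nonempty := by
      intro O hO hne
      obtain ⟨_, hxO, g, rfl⟩ := dense_iff_inter_open.1 hdm O hO hne
      have hT := irreducibleComponent_mem_irreducibleComponents g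
      obtain ⟨η, hη⟩ := QuasiSober.sober (isIrreducible_irreducibleComponent (x := g))
        isClosed_irreducibleComponent
      have hs : η ⤳ g := hη.specializes mem_irreducibleComponent
      exact ⟨_, (hs.map hemb.continuous).mem_open hO hxO, η, ⟨_, hT, hη⟩, rfl⟩
    refine ⟨DenseQC.isDecent hA (hE₀.image _) hdense ?_, ?_⟩
    · rintro _ ⟨g, hg, rfl⟩
      exact ⟨AlgSp.FieldPt.ofPt m g, rfl, hqc g hg⟩
    · exact finite_components_of_finite_dense (hE₀.image _) hdense

end Groth.Agent.S10397
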