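import Groth.Statements.S10398
import Groth.Agent.Lib.AlgSpDecent.GenericFiniteSp
import Groth.Agent.Lib.AlgSpMor.AffineDescent

set_option autoImplicit false
universe u
open CategoryTheory CategoryTheory.Limits AlgebraicGeometry Topology TopologicalSpace
open AlgSp

namespace Groth.Agent.S10398

open CategoryTheory CategoryTheory.Limits AlgebraicGeometry Opposite AlgSp Groth.Agent.Lib Groth.Agent.Lib.AlgSpace

/-- (2) ⇒ (3): let S be a scheme, X and Y algebraic spaces over S, and f : X ⟶ Y a quasi-separated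
morphism of finite type, and let y ∈ |Y| be a codimension 0 point of Y. Suppose that at every point
of |X| lying over y the morphism f is quasi-finite. Then there is an open subspace Y' ⊆ Y containing
y for which the morphism Y' ×_Y X ⟶ Y' is finite. -/
theorem result {S : Scheme.{u}} {X Y : AlgSp.Space S} (f : X ⟶ Y)
    (hqs : AlgSp.IsQuasiSeparatedMor f.hom) (hft : AlgSp.IsFiniteTypeMor f.hom) (y : AlgSp.Points Y.obj)
    (hy : AlgSp.HasAt (fun U u => ringKrullDim ↥(U.presheaf.stalk u) = 0) Y.obj y)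
    (hqf : ∀ x : AlgSp.Points X.obj, AlgSp.Points.map f.hom x = y → AlgSp.HasAtMor (fun U _ h u => ∃ W : U.Opens, u ∈ W ∧ LocallyQuasiFinite (W.ι ≫ h) ∧ LocallyOfFiniteType (W.ι ≫ h)) f.hom x) :
    ∃ (Y' X' : AlgSp.Space S) (j : Y' ⟶ Y) (fst : X' ⟶ Y') (snd : X' ⟶ X), AlgSp.RepWith @IsOpenImmersion j.hom ∧
      y ∈ Set.range (AlgSp.Points.map j.hom) ∧ IsPullback fst.hom snd.hom j.hom f.hom ∧
      AlgSp.IsFiniteMor fst.hom := by
  obtain ⟨U, a, u, ha, rfl, hu⟩ := hy
  obtain ⟨V₀, hV₀, huV, -⟩ := exists_isAffineOpen_mem_and_subset (show u ∈ (⊤ : U.left.Opens) from trivial)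
  let V : Over S := Over.mk (V₀.ι ≫ U.hom)
  let b : (yon S).obj V ⟶ Y.obj := (yon S).map (AlgSpDecent.Specialize.openIncl V₀) ≫ a
  have hb : RepWith @Etale b := AlgSpDecent.Specialize.repWith_etale_openIncl_comp V₀ ha
  have : IsAffine V.left := hV₀
  let η : ↥V.left := ⟨u, huV⟩
  have hbη : Points.ofPt b η = Points.ofPt a u := AlgSpDecent.Specialize.ofPt_openIncl_comp V₀ a η
  have hmin : ∀ y, y ⤳ η → y = η := fun y hy =>
    Subtype.ext ((AlgSpMor.Codim.dim0_iff u).1 hu y.1 (hy.map continuous_subtype_val))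
  obtain ⟨D, hηD, hD, W, i, c, sq, hi⟩ := AlgSpDecent.GenericFiniteSp.exists_finite X.property Y.property hqs hft hb hmin
    (fun x hx => hqf x (hx.trans hbη))
  let e := (yon S).map (AlgSpDecent.Specialize.openIncl D) ≫ b
  have he : RepWith @Etale e := AlgSpDecent.Specialize.repWith_etale_openIncl_comp D hb
  obtain ⟨F, j, hF, hj, hjr⟩ := exists_open_subspace Y.property (AlgSpDecent.Core.isOpen_range_ofPt he)
  obtain ⟨φ, hφ, hφe, hφs⟩ := Groth.Agent.S9993.exists_surjective_etale_lift hj he hjr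
  have sqX := IsPullback.of_hasPullback j f.hom
  have hX' : IsAlgSpace (pullback j f.hom) := isAlgSpace_of_isPullback sqX Y.property.diag hF X.property
  refine ⟨⟨F, hF⟩, ⟨_, hX'⟩, ObjectProperty.homMk j, ObjectProperty.homMk (pullback.fst j f.hom), ObjectProperty.homMk (pullback.snd j f.hom), hj, ?_, sqX, ?_⟩
  · refine hjr.ge ⟨(⟨η, hηD⟩ : ↥D), ?_⟩
    exact (AlgSpDecent.Specialize.ofPt_openIncl_comp D b ⟨η, hηD⟩).trans hbη
  refine (AlgSpMor.AffineDescent.isFiniteMor_iff).2 ?_
  have := AlgSpMor.AffineDescent.isLocalAtTarget_isFinite.{u}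
  have sqW : IsPullback (pullback.lift ((yon S).map i ≫ φ) c (by rw [Category.assoc, hφ]; exact sq.w.symm)) ((yon S).map i) (pullback.fst j f.hom) φ := by
    refine IsPullback.of_right ?_ (pullback.lift_fst _ _ _) sqX.flip
    rw [pullback.lift_snd, hφ]
    exact sq
  exact AlgSpMor.RepDescent.repWith_of_cover _ AlgSpMor.AffineDescent.effective_isFinite hF.diag hφe hφs sqW
    ((repWith_yon_map_iff _ _).2 hi)

end Groth.Agent.S10398
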