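import Groth.Statements.S10399
import Groth.Agent.Lib.AlgSpDecent.ChartOver
import Groth.Agent.Lib.AlgSpDecent.GenericFiniteSet

set_option autoImplicit false
universe u
open CategoryTheory CategoryTheory.Limits AlgebraicGeometry Topology TopologicalSpace
open AlgSp

namespace Groth.Agent.S10399

open Groth.Agent.Lib

/-- Let f : X ⟶ Y be a morphism locally of finite type of algebraic spaces over a scheme S and y a
codimension 0 point of Y. The following are equivalent: (1) every point of |X| over y has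
codimension 0 on X; (2) f is quasi-finite at all points over y; (3) f is quasi-finite at all
codimension 0 points of X over y. Stated as (1) ⇔ (2) together with (3) ⇒ (1). -/
theorem result {S : Scheme.{u}} {X Y : AlgSp.Space S} (f : X ⟶ Y)
    (hf : AlgSp.LocP @LocallyOfFiniteType f.hom) (y : AlgSp.Points Y.obj) (hy : AlgSp.HasAt (fun U u => ringKrullDim ↥(U.presheaf.stalk u) = 0) Y.obj y) :
    ((∀ x : AlgSp.Points X.obj, AlgSp.Points.map f.hom x = y → AlgSp.HasAt (fun U u => ringKrullDim ↥(U.presheaf.stalk u) = 0) X.obj x) ↔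
        (∀ x : AlgSp.Points X.obj, AlgSp.Points.map f.hom x = y → AlgSp.HasAtMor (fun U _ h u => ∃ W : U.Opens, u ∈ W ∧ LocallyQuasiFinite (W.ι ≫ h) ∧ LocallyOfFiniteType (W.ι ≫ h)) f.hom x)) ∧
      ((∀ x : AlgSp.Points X.obj, AlgSp.Points.map f.hom x = y → AlgSp.HasAt (fun U u => ringKrullDim ↥(U.presheaf.stalk u) = 0) X.obj x → AlgSp.HasAtMor (fun U _ h u => ∃ W : U.Opens, u ∈ W ∧ LocallyQuasiFinite (W.ι ≫ h) ∧ LocallyOfFiniteType (W.ι ≫ h)) f.hom x) →
        ∀ x : AlgSp.Points X.obj, AlgSp.Points.map f.hom x = y → AlgSp.HasAt (fun U u => ringKrullDim ↥(U.presheaf.stalk u) = 0) X.obj x) := by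
  obtain ⟨V, b, v, hb, rfl, hv⟩ := hy
  have hvg := (AlgSpMor.Codim.dim0_iff v).1 hv
  refine ⟨⟨fun h1 x hx => ?_, fun h2 x hx => ?_⟩, fun h3 x hx => ?_⟩
  all_goals
    obtain ⟨U, a, h, u, -, ha, hw, hau, hu⟩ :=
      AlgSpDecent.ChartOver.exists_chart_through X.property Y.property f.hom hb v x hx
    subst hau hu
    have : LocallyOfFiniteType h.left := hf a b h ha hb hw
  · refine (AlgSpDecent.ChartOver.qfAt_iff_chart X.property Y.property hf ha hb hw u).2
      (AlgSpDecent.ChartOver.quasiFiniteAt_of_forall_gen h.left u fun u' hu' => ?_)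
    refine (AlgSpMor.Codim.hasAt_dim0_iff X.property ha u').1 (h1 _ ?_)
    rw [← AlgSpDecent.Core.ofPt_comp, hw, AlgSpDecent.Core.ofPt_map_comp, hu']
  · exact (AlgSpMor.Codim.hasAt_dim0_iff X.property ha u).2 (AlgSpDecent.ChartOver.gen_self_of_quasiFiniteAt h.left hvg
      ((AlgSpDecent.ChartOver.qfAt_iff_chart X.property Y.property hf ha hb hw u).1 (h2 _ hx)))
  · obtain ⟨g, hgu, hg⟩ := AlgSpDecent.GenericFiniteSet.exists_isGen u
    have e : g = u := AlgSpDecent.ChartOver.gen_of_quasiFiniteAt h.left hvg hg hgu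
      ((AlgSpDecent.ChartOver.qfAt_iff_chart X.property Y.property hf ha hb hw g).1
        (h3 _ (by rw [← AlgSpDecent.Core.ofPt_comp, hw, AlgSpDecent.Core.ofPt_map_comp, hvg _ (hgu.map h.left.continuous)])
          ((AlgSpMor.Codim.hasAt_dim0_iff X.property ha g).2 hg)))
    exact (AlgSpMor.Codim.hasAt_dim0_iff X.property ha u).2 (e ▸ hg)

end Groth.Agent.S10399
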