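import Groth.Statements.S9993
import Groth.Agent.Lib.AlgSpMor.LocP
import Groth.Agent.Lib.AlgSpace.OpenSubExists
import Groth.Agent.Lib.AlgSpDecent.Core
import Groth.Agent.Lib.AlgSpace.Points

set_option autoImplicit false
universe u
open CategoryTheory CategoryTheory.Limits AlgebraicGeometry
open AlgSp

namespace Groth.Agent.S9993

open CategoryTheory CategoryTheory.Limits AlgebraicGeometry Opposite AlgSp Groth.Agent.Lib Groth.Agent.Lib.AlgSpace

theorem exists_surjective_etale_lift {S : Scheme.{u}} {F G : Sp S} {j : F ⟶ G}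
    (hj : RepWith @IsOpenImmersion j) {T : Over S} {a : (yon S).obj T ⟶ G} (ha : RepWith @Etale a)
    (hr : Set.range (Points.map j) = Set.range (Points.ofPt a)) :
    ∃ φ : (yon S).obj T ⟶ F, φ ≫ j = a ∧ RepWith @Etale φ ∧ RepWith @Surjective φ := by
  obtain ⟨φ, hφ⟩ := exists_lift_yon_of_range_subset hj a (by rw [hr])
  have : Mono j := mono_of_repWith (P := @IsOpenImmersion)
    (fun _ _ g (_ : IsOpenImmersion g) ↦ (inferInstance : Mono g)) hj
  have sqf : IsPullback φ (𝟙 _) j a :=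
    isPullback_of_yon (by rw [hφ, Category.id_comp]) (fun T c c' _ h => by simpa using h)
      fun T x₀ y₀ e => ⟨y₀, by rw [← cancel_mono j, Category.assoc, hφ, e], Category.comp_id _⟩
  have hφe : RepWith @Etale φ := repWith_baseChange sqf.flip ha
  refine ⟨φ, hφ, hφe, AlgSpDecent.Core.repWith_surjective_of_surjective hφe.rep fun y => ?_⟩
  obtain ⟨v, hv⟩ := hr.le ⟨y, rfl⟩
  exact ⟨v, injective_map_of_mono j (by rw [← AlgSpDecent.Core.ofPt_comp, hφ, hv])⟩

/-- A morphism f : X ⟶ Y of algebraic spaces has P at the point x in the neighbourhood sense (some chart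
diagram through x whose top arrow has P on an open neighbourhood of the chosen point) if and only if
some open subspace X' of X through x has its restriction X' ⟶ Y in the class P etale locally on the
source and target. -/
theorem result {S : Scheme.{u}} (P : MorphismProperty Scheme.{u})
    (hP : P = @LocallyOfFiniteType ∨ P = @LocallyOfFinitePresentation ∨ P = @Flat ∨ P = @Smooth ∨ P = @Etale ∨
      (∀ ⦃A B : Scheme.{u}⦄ (g : A ⟶ B), P g ↔ (LocallyQuasiFinite g ∧ LocallyOfFiniteType g)) ∨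
      (∀ ⦃A B : Scheme.{u}⦄ (g : A ⟶ B), P g ↔ (LocallyOfFiniteType g ∧ FormallyUnramified g)))
    {X Y : AlgSp.Space S} (f : X ⟶ Y) (x : AlgSp.Points X.obj) :
    AlgSp.HasAtMor (fun U _ h u => ∃ W : U.Opens, u ∈ W ∧ P (W.ι ≫ h)) f.hom x ↔
      ∃ (X' : AlgSp.Space S) (j : X' ⟶ X), AlgSp.RepWith @IsOpenImmersion j.hom ∧
        x ∈ Set.range (AlgSp.Points.map j.hom) ∧ AlgSp.LocP P (j ≫ f).hom := by
  have hST := AlgSpMor.LocP.etaleLocalST_of_list hP
  constructor
  · rintro ⟨U, V, a, b, h, u, ha, hb, w, hu, W, huW, hW⟩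
    let U₁ : Over S := Over.mk (W.ι ≫ U.hom)
    let ι : U₁ ⟶ U := Over.homMk W.ι rfl
    let a₁ := (yon S).map ι ≫ a
    have : Etale ι.left := inferInstanceAs (Etale W.ι)
    have ha₁ : RepWith @Etale a₁ := AlgSpMor.LocP.repWith_etale_comp ι ha
    obtain ⟨F, j, hF, hj, hjr⟩ := exists_open_subspace X.property (AlgSpDecent.Core.isOpen_range_ofPt ha₁)
    obtain ⟨φ, hφ', hφ, hφs⟩ := exists_surjective_etale_lift hj ha₁ hjr
    refine ⟨⟨F, hF⟩, ObjectProperty.homMk j, hj, ?_, ?_⟩
    · exact hjr.ge ⟨⟨u, huW⟩, (AlgSpDecent.Core.ofPt_map_comp ι a _).trans hu⟩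
    · show LocP P (j ≫ f.hom)
      exact AlgSpMor.LocP.locP_of_chart hST hF.diag Y.property.diag (h := ι ≫ h) hφ hφs hb
        (by rw [← Category.assoc, hφ', Functor.map_comp, Category.assoc, Category.assoc, ← w]) hW
  · rintro ⟨X', j, hj, ⟨x', hx'⟩, hloc⟩
    obtain ⟨U, V, a, b, h, ha, has, hb, -, w⟩ := AlgSpMor.LocP.exists_chart X'.property Y.property (j ≫ f).hom
    obtain ⟨u, rfl⟩ := AlgSpDecent.Core.surjective_ofPt has x'
    have : MorphismProperty.IsStableUnderComposition @Etale.{u} := ⟨fun f g (_ : Etale f) (_ : Etale g) ↦ inferInstanceAs (Etale (f ≫ g))⟩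
    refine ⟨U, V, a ≫ j.hom, b, h, u, repWith_comp ha (repWith_mono hj fun _ _ g (_ : IsOpenImmersion g) => (inferInstance : Etale g)), hb, ?_, ?_, ⊤, trivial, ?_⟩
    · rw [Category.assoc]; exact w
    · rw [AlgSpDecent.Core.ofPt_comp, hx']
    · have := hST.baseChange
      exact hST.comp _ _ (hST.etale _ inferInstance) (hloc a b h ha hb w)

end Groth.Agent.S9993
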