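import Groth.Statements.S10400
import Groth.Agent.Lib.AlgSpDecent.GenericFiniteDense
import Groth.Agent.Lib.AlgSpMor.AffineDescent
import Groth.Agent.S9993

set_option autoImplicit false
universe u
open CategoryTheory CategoryTheory.Limits AlgebraicGeometry Topology TopologicalSpace
open AlgSp

namespace Groth.Agent.S10400

open Groth.Agent.Lib Groth.Agent.Lib.AlgSpace

/-- Let f : X ⟶ Y be a morphism locally of finite type of algebraic spaces over a scheme S with Y
decent. Assume the codimension 0 points of X and of Y form finite sets, that a point of X has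
codimension 0 exactly when its image does, and that f is quasi-compact or separated. Then there is a
dense open subspace V ⊆ Y with f⁻¹(V) ⟶ V finite. -/
theorem result {S : Scheme.{u}} {X Y : AlgSp.Space S} (f : X ⟶ Y)
    (hf : AlgSp.LocP @LocallyOfFiniteType f.hom) (hY : AlgSp.IsDecent Y.obj)
    (hX0 : {x : AlgSp.Points X.obj | AlgSp.HasAt (fun U u => ringKrullDim ↥(U.presheaf.stalk u) = 0) X.obj x}.Finite)
    (hY0 : {y : AlgSp.Points Y.obj | AlgSp.HasAt (fun U u => ringKrullDim ↥(U.presheaf.stalk u) = 0) Y.obj y}.Finite)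
    (hpre : ∀ x : AlgSp.Points X.obj, AlgSp.HasAt (fun U u => ringKrullDim ↥(U.presheaf.stalk u) = 0) X.obj x ↔ AlgSp.HasAt (fun U u => ringKrullDim ↥(U.presheaf.stalk u) = 0) Y.obj (AlgSp.Points.map f.hom x))
    (hqs : AlgSp.IsQuasiCompactMor f.hom ∨ AlgSp.IsSeparatedMor f.hom) :
    ∃ (V X' : AlgSp.Space S) (j : V ⟶ Y) (fst : X' ⟶ V) (snd : X' ⟶ X), AlgSp.RepWith @IsOpenImmersion j.hom ∧
      Dense (Set.range (AlgSp.Points.map j.hom)) ∧ IsPullback fst.hom snd.hom j.hom f.hom ∧
      AlgSp.IsFiniteMor fst.hom := by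
  obtain ⟨D, b, W, i, c, hb, hbd, sq, hi⟩ := AlgSpDecent.GenericFiniteDense.exists_dense X.property Y.property hf hY hX0 hY0 hpre hqs
  obtain ⟨F, j, hF, hj, hjr⟩ := exists_open_subspace Y.property (AlgSpDecent.Core.isOpen_range_ofPt hb)
  obtain ⟨φ, hφ, hφe, hφs⟩ := Groth.Agent.S9993.exists_surjective_etale_lift hj hb hjr
  have sqX := IsPullback.of_hasPullback j f.hom
  have hX' : IsAlgSpace (pullback j f.hom) := isAlgSpace_of_isPullback sqX Y.property.diag hF X.property
  refine ⟨⟨F, hF⟩, ⟨_, hX'⟩, ObjectProperty.homMk j, ObjectProperty.homMk (pullback.fst j f.hom), ObjectProperty.homMk (pullback.snd j f.hom), hj, ?_, sqX, ?_⟩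
  · exact hjr.symm ▸ hbd
  refine (AlgSpMor.AffineDescent.isFiniteMor_iff).2 ?_
  have := AlgSpMor.AffineDescent.isLocalAtTarget_isFinite.{u}
  have sqW : IsPullback (pullback.lift ((yon S).map i ≫ φ) c (by rw [Category.assoc, hφ]; exact sq.w.symm)) ((yon S).map i) (pullback.fst j f.hom) φ := by
    refine IsPullback.of_right ?_ (pullback.lift_fst _ _ _) sqX.flip
    rw [pullback.lift_snd, hφ]
    exact sq
  exact AlgSpMor.RepDescent.repWith_of_cover _ AlgSpMor.AffineDescent.effective_isFinite hF.diag hφe hφs sqW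
    ((repWith_yon_map_iff _ _).2 hi)

end Groth.Agent.S10400
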