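import Groth.Statements.S10402
import Groth.Agent.Lib.AlgSpDecent.Jacobson
import Groth.Agent.Lib.AlgSpMor.LocP

set_option autoImplicit false
universe u
open CategoryTheory CategoryTheory.Limits AlgebraicGeometry Topology TopologicalSpace
open AlgSp

namespace Groth.Agent.S10402

open Groth.Agent.Lib

/-- Let S be a scheme and X a Jacobson algebraic space over S. Fix a finite type point x of |X|, and let
g : W ⟶ X be locally of finite type, where W is a scheme. If x lies in the image of |W| → |X|, then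
some closed point of W is mapped to x. -/
theorem result {S : Scheme.{u}} (X : AlgSp.Space S) (hX : AlgSp.EtaleLocally (fun U => JacobsonSpace ↥U) X.obj)
    (x : AlgSp.Points X.obj) (hx : AlgSp.HasAt (fun U u => IsClosed ({u} : Set ↥U)) X.obj x) {W : Over S} (g : (AlgSp.yon S).obj W ⟶ X.obj)
    (hg : AlgSp.LocP @LocallyOfFiniteType g) (hxW : x ∈ Set.range (AlgSp.Points.ofPt g)) :
    ∃ w : ↥W.left, IsClosed ({w} : Set ↥W.left) ∧ AlgSp.Points.ofPt g w = x := by
  obtain ⟨U₀, a₀, ha₀, hs₀, hJ⟩ := hX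
  obtain ⟨U, a, u, ha, rfl, hu⟩ := hx
  obtain ⟨w₁, hw₁⟩ := hxW
  obtain ⟨u₀, hu₀⟩ := AlgSpDecent.Core.surjective_ofPt hs₀ (Points.ofPt a u)
  have : JacobsonSpace ↥U₀.left := hJ
  have hu₀c : IsClosed ({u₀} : Set ↥U₀.left) := AlgSpDecent.Jacobson.isClosed_of_same_image ha ha₀ hu hu₀.symm
  let W₀ := ha₀.rep.pullback g
  let s := ha₀.rep.fst' g
  let t := ha₀.rep.snd g
  have sq := ha₀.rep.isPullback' g
  have : Etale t.left := ha₀.property_snd g
  have : Surjective t.left := hs₀.property_snd g
  have : LocallyOfFiniteType s.left := hg ((yon S).map t) a₀ s ((repWith_yon_map_iff _ _).2 ‹Etale t.left›) ha₀ sq.w.symm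
  have : JacobsonSpace ↥W₀.left := LocallyOfFiniteType.jacobsonSpace s.left
  obtain ⟨w₀, hw₀, -⟩ := AlgSpDecent.Core.exists_point_of_scheme_isPullback sq u₀ w₁ (hu₀.trans hw₁.symm)
  obtain ⟨p, hp, hpc⟩ := nonempty_inter_closedPoints (Z := s.left ⁻¹' {u₀}) ⟨w₀, hw₀⟩
    (hu₀c.preimage s.left.continuous).isLocallyClosed
  refine ⟨t.left p, ?_, ?_⟩
  · refine isClosed_of_closure_subset fun z hz => ?_
    obtain ⟨z₀, rfl⟩ := t.left.surjective z
    obtain ⟨p', hp', hp'e⟩ := AlgSpDecent.Specialize.exists_generization t.left (specializes_iff_mem_closure.2 hz)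
    have sqR := (IsPullback.of_hasPullback t t).map (Over.forget S)
    obtain ⟨r, hr₁, hr₂⟩ := Scheme.Pullback.exists_preimage_pullback (f := t.left) (g := t.left) p p' hp'e.symm
    let r₁ := pullback.fst t.left t.left
    let r₂ := pullback.snd t.left t.left
    have hr : IsClosed ({r} : Set ↥(pullback t.left t.left)) := by
      refine isClosed_of_closure_subset fun r' hr' => ?_
      have h : r ⤳ r' := specializes_iff_mem_closure.2 hr'
      have h' : p ⤳ r₁ r' := hr₁ ▸ h.map r₁.continuous
      have : r₁ r' = p := h'.mem_closed hpc rfl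
      exact (AlgSpDecent.Specialize.eq_of_specializes_of_etale r₁ h (hr₁.trans this.symm)).symm
    have hp'c : IsClosed ({p'} : Set ↥W₀.left) := by
      have := Scheme.Hom.closePoints_subset_preimage_closedPoints r₂ hr
      change IsClosed ({r₂ r} : Set ↥W₀.left) at this
      rwa [show r₂ r = p' from hr₂] at this
    have : z₀ = p' := hp'.mem_closed hp'c rfl
    rw [this, hp'e]
    rfl
  · rw [← AlgSpDecent.Core.ofPt_eq_of_scheme_isPullback sq.w _ rfl p,
      show (ha₀.rep.fst' g).left p = u₀ from hp, hu₀]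

end Groth.Agent.S10402
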