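import Groth.Statements.S10406
import Groth.Agent.Lib.AlgSpDecent.Decent
import Groth.Agent.Lib.AlgSpMor.AffineDescent
import Groth.Agent.Lib.AlgSpMor.Proper
import Mathlib.AlgebraicGeometry.Morphisms.Finite

set_option autoImplicit false
universe u
open CategoryTheory CategoryTheory.Limits AlgebraicGeometry Topology TopologicalSpace
open AlgSp

namespace Groth.Agent.S10406

open Groth.Agent.Lib.AlgSpace Groth.Agent.Lib.AlgSpDecent Groth.Agent.Lib.AlgSpDecent.Decent

/-- Let S be a scheme, Y and X decent, locally Noetherian algebraic spaces over S, and f : Y ⟶ X a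
surjective finite morphism, and let δ : |X| → ℤ be a function. Suppose δ ∘ |f| is a dimension
function on |Y| (it decreases strictly along nontrivial specializations and by exactly one along
immediate specializations). Then δ is a dimension function on |X|. -/
theorem result {S : Scheme.{u}} {X Y : AlgSp.Space S} (f : Y ⟶ X)
    (hf : AlgSp.IsFiniteMor f.hom) (hs : AlgSp.IsSurjectiveMor f.hom) (hX : AlgSp.IsDecent X.obj)
    (hY : AlgSp.IsDecent Y.obj) (hXN : AlgSp.IsLocNoethSp X.obj) (hYN : AlgSp.IsLocNoethSp Y.obj)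
    (δ : AlgSp.Points X.obj → ℤ)
    (hδ : (∀ a b : AlgSp.Points Y.obj, a ⤳ b → a ≠ b → (δ ∘ AlgSp.Points.map f.hom) b < (δ ∘ AlgSp.Points.map f.hom) a ∧ ((∀ c : AlgSp.Points Y.obj, a ⤳ c → c ⤳ b → c = a ∨ c = b) → (δ ∘ AlgSp.Points.map f.hom) a = (δ ∘ AlgSp.Points.map f.hom) b + 1))) :
    (∀ a b : AlgSp.Points X.obj, a ⤳ b → a ≠ b → δ b < δ a ∧ ((∀ c : AlgSp.Points X.obj, a ⤳ c → c ⤳ b → c = a ∨ c = b) → δ a = δ b + 1)) := by
  have hr : AlgSp.RepWith @IsFinite f.hom := Groth.Agent.Lib.AlgSpMor.AffineDescent.isFiniteMor_iff.1 hf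
  have hc : IsClosedMap (Points.map f.hom) :=
    Groth.Agent.Lib.AlgSpMor.Proper.isClosedMap_of_isUnivClosedMor X.property
      (Groth.Agent.Lib.AlgSpMor.Proper.isUnivClosedMor_of_repWith
        (Groth.Agent.Lib.AlgSpace.repWith_mono hr fun _ _ g (_ : IsFinite g) => (inferInstance : UniversallyClosed g)))
  have key : ∀ a c : Points Y.obj, a ⤳ c → Points.map f.hom a = Points.map f.hom c → a = c := by
    intro a c hac he
    obtain ⟨U, e, hee, hes⟩ := X.property.atlas
    obtain ⟨u, hu⟩ := Core.surjective_ofPt hes (Points.map f.hom c)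
    let i := hr.rep.snd e
    have he' : AlgSp.RepWith @Etale (hr.rep.fst e) :=
      repWith_baseChange (hr.rep.isPullback e).flip hee
    obtain ⟨z, hz, -⟩ := Core.exists_point_of_isPullback (hr.rep.isPullback e) c (Points.ofScheme U u)
      (by rw [Core.map_ofScheme, hu])
    obtain ⟨v, rfl⟩ := (Points.schemeEquiv _).surjective z
    have hz' : Points.ofPt (hr.rep.fst e) v = c := (Core.map_ofScheme _ _).symm.trans hz
    subst hz'
    obtain ⟨v', hv', rfl⟩ := IsDecent.exists_lift hY he' hac
    have hpt : ∀ w, Points.map f.hom (Points.ofPt (hr.rep.fst e) w) = Points.ofPt e (i.left w) := fun w => by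
      rw [← Core.ofPt_comp, (hr.rep.isPullback e).w, Core.ofPt_map_comp]
    rw [hpt, hpt] at he
    have hi : i.left v' = i.left v := (IsDecent.eq_of_specializes hX hee he.symm (hv'.map i.left.continuous)).symm
    have : IsFinite i.left := hr.property_snd e
    have hd := (i.left.isDiscrete_preimage_singleton (i.left v)).to_subtype
    have hs' : (⟨v', hi⟩ : i.left ⁻¹' {i.left v}) ⤳ ⟨v, rfl⟩ := (subtype_specializes_iff _ _).2 hv'
    exact congrArg (Points.ofPt (hr.rep.fst e)) (congrArg Subtype.val hs'.eq)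
  intro a b hab hne
  obtain ⟨a', rfl⟩ := hs a
  obtain ⟨b', hab', rfl⟩ := hc.specializingMap hab
  obtain ⟨h1, h2⟩ := hδ a' b' hab' (fun e => hne (e ▸ rfl))
  refine ⟨h1, fun himm => h2 fun c hac hcb => ?_⟩
  rcases himm _ (hac.map (Points.continuous_map f.hom)) (hcb.map (Points.continuous_map f.hom)) with e | e
  · exact Or.inl (key a' c hac e.symm).symm
  · exact Or.inr (key c b' hcb e)

end Groth.Agent.S10406
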