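import Groth.Statements.S10409
import Groth.Agent.Lib.AlgSpDecent.PointRel
import Groth.Agent.Lib.AlgSpDecent.SelfFibre

set_option autoImplicit false
universe u
open CategoryTheory CategoryTheory.Limits AlgebraicGeometry Topology TopologicalSpace
open AlgSp

namespace Groth.Agent.S10409

open Groth.Agent.Lib.AlgSpDecent

/-- (3) ⇔ (4): for an algebraic space X over a scheme S and x ∈ |X|, there is a monomorphism Spec k ⟶ X
representing x if and only if there is a morphism Spec k' ⟶ X representing x whose
self-fibre-product has etale and quasi-compact projections to Spec k'. -/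
theorem result {S : Scheme.{u}} (X : AlgSp.Space S)
    (x : AlgSp.Points X.obj) :
    (∃ p : AlgSp.FieldPt X.obj, AlgSp.Points.mk p = x ∧ Mono p.toHom) ↔
      ∃ q : AlgSp.FieldPt X.obj, AlgSp.Points.mk q = x ∧
        ∀ (P : AlgSp.Sp S) (fst snd : P ⟶ (AlgSp.yon S).obj q.pt), IsPullback fst snd q.toHom q.toHom →
          AlgSp.RepWith @Etale fst ∧ AlgSp.RepWith @QuasiCompact fst := by
  constructor
  · rintro ⟨p, rfl, hm⟩
    refine ⟨p, rfl, fun P fst snd sq => ?_⟩
    have sq₀ : IsPullback (𝟙 _) (𝟙 _) p.toHom p.toHom :=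
      IsKernelPair.id_of_mono p.toHom
    have : IsIso fst := by
      rw [← IsPullback.isoIsPullback_hom_fst _ _ sq sq₀]
      infer_instance
    exact ⟨Groth.Agent.Lib.AlgSpace.repWith_of_isIso @Etale fst,
      Groth.Agent.Lib.AlgSpace.repWith_of_isIso @QuasiCompact fst⟩
  · rintro ⟨q, rfl, hq⟩
    have hr := Decent.representable_toHom X.property q
    obtain ⟨he, hc⟩ := hq _ _ _ (hr.isPullback' q.toHom).flip
    have he' : Etale (hr.snd q.toHom).left := (repWith_yon_map_iff _ _).1 he
    have hc' : QuasiCompact (hr.snd q.toHom).left := (repWith_yon_map_iff _ _).1 hc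
    have : IsLocallyArtinian q.pt.left :=
      inferInstanceAs (IsLocallyArtinian (Spec (CommRingCat.of q.K)))
    have := Fibre.locallyQuasiFinite_of_etale (hr.snd q.toHom).left
    have : IsFinite (hr.snd q.toHom).left := IsFinite.of_locallyQuasiFinite _
    obtain ⟨p, c, hp, hm, -⟩ := FieldDescent.exists_mono_point q hr
    refine ⟨p, ?_, hm⟩
    obtain ⟨x⟩ := Core.nonempty_pt q
    calc Points.mk p = Points.ofPt p.toHom (c.left x) := (Points.ofPt_toHom p _).symm
      _ = Points.ofPt q.toHom x := by rw [← Core.ofPt_map_comp, hp]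
      _ = Points.mk q := Points.ofPt_toHom q x

end Groth.Agent.S10409
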