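import Groth.Statements.S10410
import Groth.Agent.Lib.AlgSpDecent.PointRel

set_option autoImplicit false
universe u
open CategoryTheory CategoryTheory.Limits AlgebraicGeometry Topology TopologicalSpace
open AlgSp

namespace Groth.Agent.S10410

open Groth.Agent.Lib.AlgSpDecent

/-- Let X be an algebraic space over a scheme S, x ∈ |X|, and φ : U ⟶ X etale with U a scheme. Then x
lies in the image of |U| and the fibres of |U| → |X| and |U ×_X U| → |X| over x are finite, if and
only if x is represented by a monomorphism Spec k ⟶ X such that Spec k ×_X U is a nonempty scheme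
finite over k. -/
theorem result {S : Scheme.{u}} (X : AlgSp.Space S) (x : AlgSp.Points X.obj)
    {U : Over S} (φ : (AlgSp.yon S).obj U ⟶ X.obj) (hφ : AlgSp.RepWith @Etale φ) :
    (x ∈ Set.range (AlgSp.Points.ofPt φ) ∧ (AlgSp.Points.ofPt φ ⁻¹' {x}).Finite ∧
        ∀ (R : Over S) (s t : R ⟶ U), IsPullback ((AlgSp.yon S).map t) ((AlgSp.yon S).map s) φ φ →
          (AlgSp.Points.ofPt ((AlgSp.yon S).map t ≫ φ) ⁻¹' {x}).Finite) ↔
      ∃ p : AlgSp.FieldPt X.obj, AlgSp.Points.mk p = x ∧ Mono p.toHom ∧
        ∀ (T : Over S) (c : T ⟶ p.pt) (snd : (AlgSp.yon S).obj T ⟶ (AlgSp.yon S).obj U),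
          IsPullback ((AlgSp.yon S).map c) snd p.toHom φ → Nonempty ↥T.left ∧ IsFinite c.left := by
  constructor
  · rintro ⟨⟨u, rfl⟩, hfib, hR⟩
    have sq := hφ.rep.isPullback' φ
    obtain ⟨p, hp, hm⟩ := PointRel.exists_mono_of_finite_rel X.property hφ sq (u := u) (u' := u) rfl
      ((hR _ _ _ sq).subset fun r hr => by
        show Points.ofPt _ r = _
        rw [Core.ofPt_map_comp, hr.1])
    refine ⟨p, hp, hm, fun T c snd hsq => ?_⟩
    obtain ⟨g, rfl⟩ := (yon S).map_surjective snd
    let e : T ≅ hφ.rep.pullback p.toHom :=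
      (yon S).preimageIso (hsq.flip.isoIsPullback _ _ (hφ.rep.isPullback' p.toHom))
    have hec : e.hom ≫ hφ.rep.snd p.toHom = c := by
      apply (yon S).map_injective
      simp [e]
    let eh := ((Over.forget S).mapIso e).schemeIsoToHomeo
    have := Fibre.finite_pullback_of_finite_fibre p hφ.rep (hp.symm ▸ hfib)
    refine ⟨?_, ?_⟩
    · obtain ⟨t⟩ := Core.nonempty_pt p
      obtain ⟨w, -⟩ := Core.exists_point_of_scheme_isPullback (hφ.rep.isPullback' p.toHom) u t
        (hp.symm.trans (Points.ofPt_toHom p t).symm)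
      exact ⟨eh.symm w⟩
    · have := Fibre.etale_snd p hφ
      have : IsIso e.hom.left := inferInstanceAs (IsIso ((Over.forget S).map e.hom))
      have : Etale c.left := by rw [← hec, Over.comp_left]; infer_instance
      have := Fibre.locallyQuasiFinite_of_etale c.left
      have : IsLocallyArtinian p.pt.left :=
        inferInstanceAs (IsLocallyArtinian (Spec (CommRingCat.of p.K)))
      have : Finite ↥((Over.forget S).obj (hφ.rep.pullback p.toHom)) :=
        inferInstanceAs (Finite ↥(hφ.rep.pullback p.toHom).left)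
      have : Finite ↥T.left := Finite.of_equiv _ eh.toEquiv.symm
      have : QuasiCompact c.left := ⟨fun _ _ _ => (Set.toFinite _).isCompact⟩
      exact IsFinite.of_locallyQuasiFinite _
  · rintro ⟨p, hp, hm, hT⟩
    obtain ⟨hne, hfin⟩ := hT _ _ _ (hφ.rep.isPullback' p.toHom).flip
    have : Finite ↥(hφ.rep.pullback p.toHom).left := by
      have : IsLocallyArtinian p.pt.left :=
        inferInstanceAs (IsLocallyArtinian (Spec (CommRingCat.of p.K)))
      have : CompactSpace ↥p.pt.left := inferInstanceAs (CompactSpace (PrimeSpectrum p.K))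
      have : CompactSpace ↥(hφ.rep.pullback p.toHom).left :=
        QuasiCompact.compactSpace_of_compactSpace (hφ.rep.snd p.toHom).left
      have := Fibre.discreteTopology_pullback p hφ
      exact finite_of_compact_of_discrete
    have hfib : (Points.ofPt φ ⁻¹' {x}).Finite := hp ▸ Fibre.finite_fibre_of_finite_pullback p hφ.rep
    refine ⟨?_, hfib, fun R s t sq => ?_⟩
    · obtain ⟨e⟩ := hne
      refine ⟨(hφ.rep.fst' p.toHom).left e, ?_⟩
      have := Set.mem_range_self (f := (hφ.rep.fst' p.toHom).left) e
      rw [Fibre.range_fst p hφ.rep] at this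
      exact this.trans hp
    · refine ((hfib.biUnion fun u hu => hfib.biUnion fun u' hu' =>
        PointRel.finite_rel_of_mono X.property hφ sq p hp hu hu')).subset fun r hr => ?_
      have h1 : Points.ofPt φ (t.left r) = x := (Core.ofPt_map_comp t φ r).symm.trans hr
      have h2 : Points.ofPt φ (s.left r) = x := by
        rw [← Core.ofPt_map_comp, ← sq.w]; exact hr
      exact Set.mem_biUnion h1 (Set.mem_biUnion h2 ⟨rfl, rfl⟩)

end Groth.Agent.S10410
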