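import Groth.Statements.S10412
import Groth.Agent.Lib.AlgSpDecent.Core
import Groth.Agent.Lib.AlgSpace.OpenSubExists
import Groth.Agent.Lib.AlgSpace.Props

set_option autoImplicit false
universe u
open CategoryTheory CategoryTheory.Limits AlgebraicGeometry Topology TopologicalSpace
open AlgSp

namespace Groth.Agent.S10412

open Groth.Agent.Lib

theorem isPullback_of_comp_mono {C : Type*} [Category C] {P X Y Z W : C} {p : P ⟶ X} {q : P ⟶ Y}
    {f : X ⟶ Z} {g : Y ⟶ Z} {i : Z ⟶ W} [Mono i] (h : IsPullback p q (f ≫ i) (g ≫ i)) :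
    IsPullback p q f g := by
  have hw : p ≫ f = q ≫ g := by
    rw [← cancel_mono i, Category.assoc, Category.assoc, h.w]
  refine ⟨⟨hw⟩, ⟨PullbackCone.IsLimit.mk hw
    (fun s => h.lift s.fst s.snd (by rw [← Category.assoc, ← Category.assoc, s.condition]))
    (fun s => h.lift_fst _ _ _) (fun s => h.lift_snd _ _ _) fun s m hp hq => ?_⟩⟩
  exact h.hom_ext (hp.trans (h.lift_fst _ _ _).symm) (hq.trans (h.lift_snd _ _ _).symm)

theorem isPullback_comp_of_mono {C : Type*} [Category C] {P X Y Z W : C} {p : P ⟶ X} {q : P ⟶ Y}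
    {f : X ⟶ Z} {g : Y ⟶ Z} (h : IsPullback p q f g) (i : Z ⟶ W) [Mono i] :
    IsPullback p q (f ≫ i) (g ≫ i) :=
  ⟨⟨by rw [reassoc_of% h.w]⟩, ⟨PullbackCone.isLimitOfCompMono f g i h.cone h.isLimit⟩⟩

theorem isPullback_of_fac {C : Type*} [Category C] {U Z W : C} {a : U ⟶ Z} {j : Z ⟶ W} {φ : U ⟶ W}
    [Mono j] (h : a ≫ j = φ) : IsPullback a (𝟙 U) j φ := by
  refine ⟨⟨by rw [h, Category.id_comp]⟩, ⟨PullbackCone.IsLimit.mk (by rw [h, Category.id_comp])
    (fun s => s.snd) (fun s => ?_) (fun s => Category.comp_id _) fun s m _ hq => ?_⟩⟩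
  · rw [← cancel_mono j, Category.assoc, h, s.condition]
  · simpa using hq

/-- For an algebraic space X over a scheme S the following are equivalent: (1) X has a Zariski covering
by open subspaces X_i, each X_i admitting a surjective, etale and quasi-compact morphism U_i ⟶ X_i
with U_i a scheme; (2) there are etale morphisms U_i ⟶ X from schemes, jointly surjective, such that
for each i both projection morphisms from U_i ×_X U_i to U_i are quasi-compact. -/
theorem result {S : Scheme.{u}} (X : AlgSp.Space S) :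
    (∃ (ι : Type u) (Xi : ι → AlgSp.Space S) (j : ∀ i, Xi i ⟶ X) (U : ι → Over S)
        (a : ∀ i, (AlgSp.yon S).obj (U i) ⟶ (Xi i).obj),
        AlgSp.IsZarCover (fun i => (Xi i).obj) (fun i => (j i).hom) ∧
          ∀ i, AlgSp.RepWith @Etale (a i) ∧ AlgSp.RepWith @Surjective (a i) ∧ AlgSp.RepWith @QuasiCompact (a i)) ↔
      ∃ (ι : Type u) (U : ι → Over S) (φ : ∀ i, (AlgSp.yon S).obj (U i) ⟶ X.obj),
        (∀ i, AlgSp.RepWith @Etale (φ i)) ∧
          (∀ x : AlgSp.Points X.obj, ∃ (i : ι) (v : ↥(U i).left), AlgSp.Points.ofPt (φ i) v = x) ∧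
          ∀ (i : ι) (R : Over S) (s t : R ⟶ U i), IsPullback ((AlgSp.yon S).map t) ((AlgSp.yon S).map s) (φ i) (φ i) →
            QuasiCompact s.left ∧ QuasiCompact t.left := by
  constructor
  · rintro ⟨ι, Xi, j, U, a, ⟨hj, hcov⟩, ha⟩
    refine ⟨ι, U, fun i => a i ≫ (j i).hom, fun i => ?_, fun x => ?_, fun i R s t sq => ?_⟩
    · exact (AlgSp.repWith_isMultiplicative @Etale).comp_mem _ _ (ha i).1
        (Lib.AlgSpDecent.Core.repWith_mono (P := @IsOpenImmersion)
          (fun g hg => by have := (hg : IsOpenImmersion g); infer_instance) (hj i))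
    · obtain ⟨i, y, rfl⟩ := hcov x
      obtain ⟨v, rfl⟩ := Lib.AlgSpDecent.Core.surjective_ofPt (ha i).2.1 y
      exact ⟨i, v, Lib.AlgSpDecent.Core.ofPt_comp _ _ _⟩
    · have : Mono (j i).hom := AlgSpace.mono_of_repWith (P := @IsOpenImmersion)
        (fun _ _ g (_ : IsOpenImmersion g) => (inferInstance : Mono g)) (hj i)
      have sq' := isPullback_of_comp_mono sq
      exact ⟨(ha i).2.2.property (a i) _ _ sq', (ha i).2.2.property (a i) _ _ sq'.flip⟩
  · rintro ⟨ι, U, φ, hφ, hsurj, hqc⟩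
    have key : ∀ i, ∃ (Xi : AlgSp.Space S) (j : Xi ⟶ X) (a : (AlgSp.yon S).obj (U i) ⟶ Xi.obj),
        AlgSp.RepWith @IsOpenImmersion j.hom ∧
        Set.range (AlgSp.Points.map j.hom) = Set.range (AlgSp.Points.ofPt (φ i)) ∧
        AlgSp.RepWith @Etale a ∧ AlgSp.RepWith @Surjective a ∧ AlgSp.RepWith @QuasiCompact a := by
      intro i
      obtain ⟨F, j, hF, hj, hr⟩ := AlgSpace.exists_open_subspace X.property
        (Lib.AlgSpDecent.Core.isOpen_range_ofPt (hφ i))
      obtain ⟨a, ha⟩ := AlgSpace.exists_lift_yon_of_range_subset hj (φ i) hr.ge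
      have : Mono j := AlgSpace.mono_of_repWith (P := @IsOpenImmersion)
        (fun _ _ g (_ : IsOpenImmersion g) => (inferInstance : Mono g)) hj
      have sqa : IsPullback a (𝟙 _) j (φ i) := isPullback_of_fac ha
      have hae : AlgSp.RepWith @Etale a := AlgSpace.repWith_baseChange sqa.flip (hφ i)
      have has : AlgSp.RepWith @Surjective a := Lib.AlgSpDecent.Core.repWith_surjective_of_surjective
        hae.rep fun y => by
          obtain ⟨v, hv⟩ := hr.subset ⟨y, rfl⟩
          refine ⟨v, AlgSpace.injective_map_of_mono j ?_⟩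
          rw [← Lib.AlgSpDecent.Core.ofPt_comp, ha, hv]
      refine ⟨⟨F, hF⟩, ObjectProperty.homMk j, a, hj, hr, hae, has, ?_⟩
      have := AlgSpace.isLocallySurjective_of_etale hae has
      have := AlgSpace.isLocalAtTarget_fppf_quasiCompact.{u}
      have sq := hae.rep.isPullback' a
      refine AlgSpace.repWith_of_isLocallySurjective hae.rep a sq @QuasiCompact
        ((AlgSp.repWith_yon_map_iff _ _).2 ?_)
      have := hqc i _ _ _ (ha ▸ isPullback_comp_of_mono sq j)
      exact this.1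
    choose Xi j a h1 h2 h3 h4 h5 using key
    refine ⟨ι, Xi, j, U, a, ⟨h1, fun x => ?_⟩, fun i => ⟨h3 i, h4 i, h5 i⟩⟩
    obtain ⟨i, v, hv⟩ := hsurj x
    exact ⟨i, (h2 i).ge ⟨v, hv⟩⟩

end Groth.Agent.S10412
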