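import Groth.Statements.S10414
import Groth.Agent.S10371

set_option autoImplicit false
universe u
open CategoryTheory CategoryTheory.Limits AlgebraicGeometry Topology TopologicalSpace
open AlgSp

namespace Groth.Agent.S10414

open Groth.Agent.Lib.AlgSpace Groth.Agent.Lib.AlgSpDecent

/-- Let S be a scheme, X an algebraic space over S, x ∈ |X|, and Z_x ⟶ X the residual space of x (a
monomorphism with image {x} from a space which admits a locally finitely presented, flat, surjective
morphism whose source is the spectrum of a field). Then Z_x is isomorphic to Spec k' for some field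
k' if and only if the point x is represented by some monomorphism Spec k ⟶ X. (The decent case, in
which the right side holds at every point, is not part of this row.) -/
theorem result {S : Scheme.{u}} (X : AlgSp.Space S) (x : AlgSp.Points X.obj)
    {Z : AlgSp.Space S} (i : Z ⟶ X) [Mono i.hom] (hi : Set.range (AlgSp.Points.map i.hom) = {x})
    (hZ : ∃ (k : Type u) (_ : Field k) (str : Spec (CommRingCat.of k) ⟶ S) (p : (AlgSp.yon S).obj (Over.mk str) ⟶ Z.obj),
        AlgSp.LocP @LocallyOfFinitePresentation p ∧ AlgSp.LocP @Flat p ∧ AlgSp.IsSurjectiveMor p) :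
    (∃ (k : Type u) (_ : Field k) (str : Spec (CommRingCat.of k) ⟶ S), Nonempty (Z.obj ≅ (AlgSp.yon S).obj (Over.mk str))) ↔
      ∃ p : AlgSp.FieldPt X.obj, AlgSp.Points.mk p = x ∧ Mono p.toHom := by
  have hsub : ∀ {k : Type u} [Field k] (str : Spec (CommRingCat.of k) ⟶ S),
      Subsingleton (AlgSp.Points ((yon S).obj (Over.mk str))) := fun {k} _ str =>
    have : Subsingleton ↥(Over.mk str).left := inferInstanceAs (Subsingleton (PrimeSpectrum k))
    (Points.schemeEquiv (Over.mk str)).surjective.subsingleton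
  constructor
  · rintro ⟨k, _, str, ⟨e⟩⟩
    refine ⟨Groth.Agent.Lib.AlgSpDecent.Core.ofHom (str := str) (e.inv ≫ i.hom), ?_, ?_⟩
    · refine Eq.trans ?_ (Set.mem_singleton_iff.1 (hi.le
        ⟨AlgSp.Points.map e.inv (AlgSp.Points.mk ⟨k, str, ULift.up (𝟙 _)⟩), rfl⟩))
      rw [← AlgSp.Points.map_comp]
      rfl
    · rw [Groth.Agent.Lib.AlgSpDecent.Core.toHom_ofHom]
      exact mono_comp _ _
  · rintro ⟨p, hp, hmono⟩
    refine ⟨p.K, inferInstance, p.str, ?_⟩
    let P : AlgSp.Space S := ⟨(yon S).obj (Over.mk p.str), IsAlgSpace.yon_obj _⟩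
    let j : P ⟶ X := ObjectProperty.homMk p.toHom
    have : Mono j.hom := hmono
    have hrange : Set.range (AlgSp.Points.map j.hom) = {x} := by
      have := hsub p.str
      have hz : AlgSp.Points.map p.toHom (AlgSp.Points.mk ⟨p.K, p.str, ULift.up (𝟙 _)⟩) = x := by
        rw [← hp]
        exact congrArg AlgSp.Points.mk (Groth.Agent.Lib.AlgSpDecent.Core.ofHom_toHom p)
      refine Set.eq_singleton_iff_nonempty_unique_mem.2
        ⟨⟨_, ⟨AlgSp.Points.mk ⟨p.K, p.str, ULift.up (𝟙 _)⟩, rfl⟩⟩, ?_⟩
      rintro _ ⟨z, rfl⟩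
      rw [Subsingleton.elim z (AlgSp.Points.mk ⟨p.K, p.str, ULift.up (𝟙 _)⟩)]
      exact hz
    have : MorphismProperty.ContainsIdentities @Flat.{u} := ⟨fun _ => inferInstance⟩
    have : MorphismProperty.ContainsIdentities @LocallyOfFinitePresentation.{u} := ⟨fun _ => inferInstance⟩
    obtain ⟨e, -⟩ := Groth.Agent.S10371.result X x i j hi hrange hZ
      ⟨p.K, inferInstance, p.str, 𝟙 _,
        Groth.Agent.Lib.AlgSpMor.LocP.locP_of_repWith
          Groth.Agent.Lib.SourceDescent.Scheme.locallyOfFinitePresentation (AlgSp.repWith_id _ _),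
        Groth.Agent.Lib.AlgSpMor.LocP.locP_of_repWith
          Groth.Agent.Lib.SourceDescent.Scheme.flat (AlgSp.repWith_id _ _),
        fun z => ⟨z, AlgSp.Points.map_id z⟩⟩
    exact ⟨((ObjectProperty.ι (AlgSp.IsAlgSpace (S := S))).mapIso e).symm⟩

end Groth.Agent.S10414
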