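import Groth.Statements.S10415
import Groth.Agent.Lib.AlgSpDecent.ResidualFactor
import Groth.Agent.Lib.AlgSpFpqc.DescendSp

set_option autoImplicit false
universe u
open CategoryTheory CategoryTheory.Limits AlgebraicGeometry Topology TopologicalSpace
open AlgSp

namespace Groth.Agent.S10415

open Groth.Agent.Lib.AlgSpace Groth.Agent.Lib.AlgSpDecent

/-- Let S be a scheme, Y and X algebraic spaces over S with Y reduced and X locally Noetherian, and f :
Y ⟶ X a morphism with |f|(|Y|) ⊆ {x}. Then f factors through Z_x ⟶ X, where Z_x denotes the residual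
space of X at the point x. -/
theorem result {S : Scheme.{u}} {Y X Z : AlgSp.Space S} (f : Y ⟶ X)
    (x : AlgSp.Points X.obj) (hf : ∀ y : AlgSp.Points Y.obj, AlgSp.Points.map f.hom y = x) (hY : AlgSp.EtaleLocally (fun U => IsReduced U) Y.obj)
    (hX : AlgSp.IsLocNoethSp X.obj) (i : Z ⟶ X) [Mono i.hom] (hi : Set.range (AlgSp.Points.map i.hom) = {x})
    (hZ : ∃ (k : Type u) (_ : Field k) (str : Spec (CommRingCat.of k) ⟶ S) (p : (AlgSp.yon S).obj (Over.mk str) ⟶ Z.obj),
        AlgSp.LocP @LocallyOfFinitePresentation p ∧ AlgSp.LocP @Flat p ∧ AlgSp.IsSurjectiveMor p) :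
    ∃ g : Y ⟶ Z, g ≫ i = f := by
  obtain ⟨V, c, hc, hcs, hV⟩ := hY
  obtain ⟨U, a, ha, has⟩ := X.property.atlas
  obtain ⟨T, t, h, sq⟩ := Groth.Agent.Lib.AlgSpace.exists_isPullback_yon X.property.diag (c ≫ f.hom) a
  have : Etale t.left := Groth.Agent.Lib.AlgSpace.repWith_property ha sq.flip
  have : Surjective t.left := Groth.Agent.Lib.AlgSpace.repWith_property has sq.flip
  have : IsReduced V.left := hV
  have : IsReduced T.left := Groth.Agent.Lib.AlgSpFpqc.DescendSp.isReduced_of_smooth t.left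
  have hx : ∀ z, Points.ofPt a (h.left z) = x := fun z => by
    have e : Points.ofPt a (h.left z) = Points.ofPt ((yon S).map h ≫ a) z := by
      rw [Groth.Agent.Lib.AlgSpDecent.Core.ofPt_comp, Groth.Agent.Lib.AlgSpDecent.Core.ofPt_yon_map,
        ← Groth.Agent.Lib.AlgSpDecent.Core.ofPt_comp, Category.id_comp]
    rw [e, ← sq.w, ← Category.assoc, Groth.Agent.Lib.AlgSpDecent.Core.ofPt_comp]
    exact hf _
  choose W hzW l hl using fun z =>
    ResidualFactor.exists_local_lift X.property hX Z.property i.hom hi ha h hx z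
  let T' : ↥T.left → Over S := fun z => Over.mk ((W z).ι ≫ T.hom)
  let g : ∀ z, T' z ⟶ T := fun z => Over.homMk (W z).ι rfl
  have hcov : Sieve.ofArrows T' g ∈ AlgSp.J S T :=
    Groth.Agent.Lib.AlgSpace.ofArrows_mem_J T' g (fun z => inferInstanceAs (Flat (W z).ι))
      (fun z => inferInstanceAs (LocallyOfFinitePresentation (W z).ι))
      fun z => ⟨z, ⟨z, hzW z⟩, rfl⟩
  obtain ⟨G, hG, -⟩ := Groth.Agent.Lib.AlgSpace.exists_desc_of_family T' g hcov l
    fun p q R gp gq e => (cancel_mono i.hom).1 (by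
      rw [Category.assoc, Category.assoc, hl, hl]
      show (yon S).map gp ≫ (yon S).map (g p) ≫ (yon S).map h ≫ a =
        (yon S).map gq ≫ (yon S).map (g q) ≫ (yon S).map h ≫ a
      have e2 := congrArg (fun m => (yon S).map m ≫ (yon S).map h ≫ a) e
      simpa only [Functor.map_comp, Category.assoc] using e2)
  have hGi : G ≫ i.hom = (yon S).map h ≫ a :=
    Groth.Agent.Lib.AlgSpace.hom_ext_of_family T' g hcov fun z => by rw [← Category.assoc, hG, hl]
  let b := (yon S).map t ≫ c
  have hb : RepWith @Etale b := Groth.Agent.Lib.AlgSpMor.LocP.repWith_etale_comp t hc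
  have hbs : RepWith @Surjective b := Groth.Agent.Lib.AlgSpMor.LocP.repWith_surjective_comp t hcs
  have hGf : G ≫ i.hom = b ≫ f.hom := by rw [hGi, ← sq.w, Category.assoc]
  have := Groth.Agent.Lib.AlgSpace.isLocallySurjective_of_etale hb hbs
  obtain ⟨g', hg'⟩ := Groth.Agent.Lib.AlgSpace.exists_desc b (IsPullback.of_hasPullback b b) G
    ((cancel_mono i.hom).1 (by
      rw [Category.assoc, Category.assoc, hGf, pullback.condition_assoc]))
  have : Epi b := (Sheaf.isLocallySurjective_iff_epi' (Type (u + 1)) b).1 ‹_›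
  refine ⟨ObjectProperty.homMk g', ObjectProperty.hom_ext _ ?_⟩
  apply (cancel_epi b).1
  show b ≫ g' ≫ i.hom = b ≫ f.hom
  rw [reassoc_of% hg', hGf]

end Groth.Agent.S10415
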