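import Groth.Statements.S10416
import Groth.Agent.S10368
import Groth.Agent.S10371
import Groth.Agent.Lib.AlgSpDecent.RedInduced
import Groth.Agent.Lib.AlgSpDecent.AlgPoint

set_option autoImplicit false
universe u
open CategoryTheory CategoryTheory.Limits AlgebraicGeometry Topology TopologicalSpace
open AlgSp

namespace Groth.Agent.S10416

open Groth.Agent.Lib.AlgSpace Groth.Agent.Lib.AlgSpDecent

/-- Let S be a scheme, X a locally Noetherian algebraic space over S, x ∈ |X|, and i : Z_x ⟶ X the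
residual space at x. Then x is closed in |X| if and only if i is a closed immersion. -/
theorem result {S : Scheme.{u}} {X Z : AlgSp.Space S}
    (hX : AlgSp.IsLocNoethSp X.obj) (x : AlgSp.Points X.obj) (i : Z ⟶ X) [Mono i.hom]
    (hi : Set.range (AlgSp.Points.map i.hom) = {x}) (hZ : ∃ (k : Type u) (_ : Field k) (str : Spec (CommRingCat.of k) ⟶ S) (p : (AlgSp.yon S).obj (Over.mk str) ⟶ Z.obj),
        AlgSp.LocP @LocallyOfFinitePresentation p ∧ AlgSp.LocP @Flat p ∧ AlgSp.IsSurjectiveMor p) :
    IsClosed ({x} : Set (AlgSp.Points X.obj)) ↔ AlgSp.RepWith @IsClosedImmersion i.hom := by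
  constructor
  · intro hx'
    obtain ⟨Z₀, i₀, hZ₀, hci, hrange, hred⟩ :=
      RedInduced.exists_redInduced X.property hx'
    have : Mono i₀ := Groth.Agent.Lib.AlgSpace.mono_of_repWith
      (fun _ _ g (_ : IsClosedImmersion g) => (inferInstance : Mono g)) hci
    have hinj := Groth.Agent.Lib.AlgSpDecent.Core.injective_map_of_mono i₀
    have : Subsingleton (AlgSp.Points Z₀) := ⟨fun a b => hinj
      ((Set.mem_singleton_iff.1 (hrange.le ⟨a, rfl⟩)).trans (Set.mem_singleton_iff.1 (hrange.le ⟨b, rfl⟩)).symm)⟩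
    have : Nonempty (AlgSp.Points Z₀) := ⟨(hrange.ge (Set.mem_singleton x)).choose⟩
    have hN : AlgSp.IsLocNoethSp Z₀ := by
      obtain ⟨U, a, ha, has, hU⟩ := hX
      obtain ⟨W, w, fst, sq, hw⟩ := Groth.Agent.Lib.AlgSpace.repWith_exists hci a
      have : IsLocallyNoetherian U.left := hU
      have : IsClosedImmersion w.left := hw
      exact ⟨W, fst, Groth.Agent.Lib.AlgSpace.repWith_baseChange sq.flip ha,
        Groth.Agent.Lib.AlgSpace.repWith_baseChange sq.flip has,
        LocallyOfFiniteType.isLocallyNoetherian w.left⟩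
    have hcov := (Groth.Agent.S10368.result ⟨Z₀, hZ₀⟩).1 ⟨hred, hN, inferInstance, inferInstance⟩
    let i₀' : (⟨Z₀, hZ₀⟩ : AlgSp.Space S) ⟶ X := ObjectProperty.homMk i₀
    have : Mono i₀'.hom := ‹Mono i₀›
    obtain ⟨e, he⟩ := Groth.Agent.S10371.result X x i₀' i hrange hi hcov hZ
    rw [← he]
    exact (Groth.Agent.Lib.AlgSpace.repWith_iso_comp_iff _ ((ObjectProperty.ι (AlgSp.IsAlgSpace (S := S))).mapIso e).hom i₀).2 hci
  · intro hci
    rw [← hi]
    exact AlgPoint.isClosed_range X.property (Groth.Agent.Lib.AlgSpace.repWith_mono hci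
      fun _ _ g (_ : IsClosedImmersion g) => (inferInstance : IsIntegralHom g))

end Groth.Agent.S10416
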