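import Groth.Statements.S9995
import Groth.Agent.S9993
import Groth.Agent.Lib.AlgSpMor.QC
import Groth.Agent.Lib.AlgSpDecent.DimIntegral
import Mathlib.AlgebraicGeometry.Morphisms.QuasiFinite
import Mathlib.AlgebraicGeometry.Fiber

set_option autoImplicit false
universe u
open CategoryTheory CategoryTheory.Limits AlgebraicGeometry
open AlgSp

namespace Groth.Agent.S9995

open CategoryTheory CategoryTheory.Limits AlgebraicGeometry Opposite AlgSp Groth.Agent.Lib Groth.Agent.Lib.AlgSpace Topology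

theorem finite_fibre_inter {A B : Scheme.{u}} (h : A ⟶ B) [CompactSpace A] [IsAffine B] [LocallyOfFiniteType h]
    (v : B) (G : Set A) (hG : ∀ u ∈ G, ∃ W : A.Opens, u ∈ W ∧ LocallyQuasiFinite (W.ι ≫ h)) :
    ({u | h u = v ∧ u ∈ G}).Finite := by
  let D : Set A := {u | h u = v ∧ u ∈ G}
  have : QuasiCompact h := HasAffineProperty.iff_of_isAffine.2 ‹_›
  have : LocallyOfFiniteType (h.fiberToSpecResidueField v) := inferInstanceAs (LocallyOfFiniteType (pullback.snd h (B.fromSpecResidueField v)))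
  have : IsLocallyNoetherian (h.fiber v) := LocallyOfFiniteType.isLocallyNoetherian (h.fiberToSpecResidueField v)
  have : CompactSpace (h.fiber v) := QuasiCompact.compactSpace_of_compactSpace (h.fiberToSpecResidueField v)
  have : IsNoetherian (h.fiber v) := {}
  have : TopologicalSpace.NoetherianSpace (h.fiber v) := inferInstance
  have : TopologicalSpace.NoetherianSpace ↥(h ⁻¹' {v}) := TopologicalSpace.noetherianSpace_of_surjective
    (h.fiberHomeo v) (h.fiberHomeo v).continuous (h.fiberHomeo v).surjective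
  have hDc : IsCompact D := by
    have := (TopologicalSpace.NoetherianSpace.isCompact (Subtype.val ⁻¹' D : Set ↥(h ⁻¹' {v}))).image continuous_subtype_val
    rwa [Subtype.image_preimage_coe, Set.inter_eq_self_of_subset_right (fun u hu => hu.1)] at this
  refine hDc.finite ⟨discreteTopology_iff_isOpen_singleton.2 fun ⟨u, huv, huG⟩ => ?_⟩
  obtain ⟨W, huW, hW⟩ := hG u huG
  have hd := (W.ι ≫ h).isDiscrete_preimage_singleton v
  obtain ⟨O, hO, hOeq⟩ := isOpen_induced_iff.1 (discreteTopology_iff_isOpen_singleton.1 hd.to_subtype ⟨(⟨u, huW⟩ : ↥W), huv⟩)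
  obtain ⟨O', hO', rfl⟩ := isOpen_induced_iff.1 hO
  refine isOpen_induced_iff.2 ⟨O' ∩ W, hO'.inter W.2, ?_⟩
  ext ⟨z, hzv, hzG⟩
  simp only [Set.mem_preimage, Set.mem_singleton_iff, Subtype.mk.injEq]
  constructor
  · rintro ⟨hz, hzW⟩
    have := (Set.ext_iff.1 hOeq (⟨⟨z, hzW⟩, hzv⟩ : ↥((W.ι ≫ h) ⁻¹' {v}))).1 hz
    exact congrArg (fun t : ↥((W.ι ≫ h) ⁻¹' {v}) => W.ι t.1) this
  · rintro rfl
    exact ⟨(Set.ext_iff.1 hOeq (⟨(⟨z, huW⟩ : ↥W), huv⟩ : ↥((W.ι ≫ h) ⁻¹' {v}))).2 rfl, huW⟩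

/-- For a morphism f : X ⟶ Y of algebraic spaces of finite type and a point y of |Y|, the set of points
of |X| over y where f is quasi-finite is finite (in the neighbourhood sense, through some chart
diagram). -/
theorem result {S : Scheme.{u}} {X Y : AlgSp.Space S} (f : X ⟶ Y)
    (hf : AlgSp.IsFiniteTypeMor f.hom) (y : AlgSp.Points Y.obj) :
    {x : AlgSp.Points X.obj | AlgSp.Points.map f.hom x = y ∧
      AlgSp.HasAtMor (fun U _ h u => ∃ W : U.Opens, u ∈ W ∧ LocallyQuasiFinite (W.ι ≫ h) ∧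
        LocallyOfFiniteType (W.ι ≫ h)) f.hom x}.Finite := by
  obtain ⟨hlft, hqc⟩ := hf
  obtain ⟨V, b, v, hV, hb, rfl⟩ := AlgSpDecent.DimIntegral.exists_affine_chart_pt Y.property y
  let P := pullback f.hom b
  have sq : IsPullback (pullback.fst f.hom b) (pullback.snd f.hom b) f.hom b := IsPullback.of_hasPullback _ _
  obtain ⟨U, p, hpe, hps, hUc⟩ := hqc (IsAlgSpace.yon_obj V) (AlgSpMor.QC.isQuasiCompactSp_yon (T := V)) b _ _ sq
  have hfst : RepWith @Etale (pullback.fst f.hom b) := repWith_baseChange sq.flip hb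
  obtain ⟨h, hh⟩ := (yon S).map_surjective (p ≫ pullback.snd f.hom b)
  let a : (yon S).obj U ⟶ X.obj := p ≫ pullback.fst f.hom b
  have : MorphismProperty.IsStableUnderComposition @Etale.{u} := ⟨fun f g (_ : Etale f) (_ : Etale g) ↦ inferInstanceAs (Etale (f ≫ g))⟩
  have ha : RepWith @Etale a := repWith_comp hpe hfst
  have hw : a ≫ f.hom = (yon S).map h ≫ b := by
    rw [hh, Category.assoc, Category.assoc, sq.w]
  have hl : LocallyOfFiniteType h.left := hlft a b h ha hb hw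
  let G : Set ↥U.left := {u | ∃ W : U.left.Opens, u ∈ W ∧ LocallyQuasiFinite (W.ι ≫ h.left)}
  refine ((finite_fibre_inter h.left v G (fun u hu => hu)).image (Points.ofPt a)).subset ?_
  rintro x ⟨hx, hqf⟩
  obtain ⟨z, hz₁, hz₂⟩ := AlgSpDecent.Core.exists_point_of_isPullback sq x
    (Points.ofPt (𝟙 ((yon S).obj V)) v) (by rw [hx, ← AlgSpDecent.Core.ofPt_comp, Category.id_comp])
  obtain ⟨u, rfl⟩ := AlgSpDecent.Core.surjective_ofPt hps z
  have hxu : Points.ofPt a u = x := by rw [← hz₁, AlgSpDecent.Core.ofPt_comp]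
  have hvu : h.left u = v := by
    apply (Points.schemeEquiv V).injective
    rw [← AlgSpDecent.Core.ofPt_comp, ← hh] at hz₂
    simpa [Points.schemeEquiv, Points.ofScheme] using (AlgSpDecent.Core.ofPt_yon_map h u).symm.trans hz₂
  refine ⟨u, ⟨hvu, ?_⟩, hxu⟩
  let Q : MorphismProperty Scheme.{u} := (@LocallyQuasiFinite : MorphismProperty Scheme.{u}) ⊓ (@LocallyOfFiniteType : MorphismProperty Scheme.{u})
  have hQ : ∀ ⦃A B : Scheme.{u}⦄ (g : A ⟶ B), Q g ↔ (LocallyQuasiFinite g ∧ LocallyOfFiniteType g) := fun A B g => Iff.rfl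
  obtain ⟨X', j, hj, hxj, hloc⟩ := (Groth.Agent.S9993.result Q (.inr (.inr (.inr (.inr (.inr (.inl hQ)))))) f x).1 hqf
  let O : U.left.Opens := ⟨Points.ofPt a ⁻¹' Set.range (Points.map j.hom),
    (isOpenEmbedding_map hj).isOpen_range.preimage (Points.continuous_ofPt a)⟩
  let U₁ : Over S := Over.mk (O.ι ≫ U.hom)
  let ι : U₁ ⟶ U := Over.homMk O.ι rfl
  have : Etale ι.left := inferInstanceAs (Etale O.ι)
  have ha₁ := AlgSpMor.LocP.repWith_etale_comp ι ha
  obtain ⟨φ, hφ⟩ := exists_lift_yon_of_range_subset hj ((yon S).map ι ≫ a) (by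
    rintro _ ⟨y, rfl⟩
    rw [AlgSpDecent.Core.ofPt_map_comp]
    exact y.2)
  have : Mono j.hom := mono_of_repWith (P := @IsOpenImmersion)
    (fun _ _ g (_ : IsOpenImmersion g) ↦ (inferInstance : Mono g)) hj
  have sqf : IsPullback φ (𝟙 _) j.hom ((yon S).map ι ≫ a) :=
    isPullback_of_yon (by rw [hφ, Category.id_comp]) (fun T c c' _ h => by simpa using h)
      fun T x₀ y₀ e => ⟨y₀, by rw [← cancel_mono j.hom, Category.assoc, hφ, e], Category.comp_id _⟩
  refine ⟨O, show Points.ofPt a u ∈ Set.range (Points.map j.hom) from hxu ▸ hxj,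
    (hloc φ b (ι ≫ h) (repWith_baseChange sqf.flip ha₁) hb ?_).1⟩
  show φ ≫ j.hom ≫ f.hom = _
  rw [reassoc_of% hφ, hw, Functor.map_comp, Category.assoc]

end Groth.Agent.S9995
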