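import Groth.Statements.S10417
import Groth.Agent.S9995

set_option autoImplicit false
universe u
open CategoryTheory CategoryTheory.Limits AlgebraicGeometry Topology TopologicalSpace
open AlgSp

namespace Groth.Agent.S10417

open CategoryTheory CategoryTheory.Limits AlgebraicGeometry Opposite AlgSp Groth.Agent.Lib Groth.Agent.Lib.AlgSpace

/-- Let W = X ×_Y Z be a fibre product of algebraic spaces over a scheme S with projections p, q and let
x ∈ |X|, z ∈ |Z| lie over the same point of |Y|. If f : X ⟶ Y is of finite type and quasi-finite at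
x, then the set of points of |W| mapping to x and to z is finite. -/
theorem result {S : Scheme.{u}} {X Y Z W : AlgSp.Space S} (f : X ⟶ Y)
    (g : Z ⟶ Y) (p : W ⟶ X) (q : W ⟶ Z) (hW : IsPullback p.hom q.hom f.hom g.hom) (x : AlgSp.Points X.obj)
    (z : AlgSp.Points Z.obj) (hxz : AlgSp.Points.map f.hom x = AlgSp.Points.map g.hom z)
    (hft : AlgSp.IsFiniteTypeMor f.hom) (hf : AlgSp.HasAtMor (fun U _ h u => ∃ W : U.Opens, u ∈ W ∧ LocallyQuasiFinite (W.ι ≫ h) ∧ LocallyOfFiniteType (W.ι ≫ h)) f.hom x) :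
    {w : AlgSp.Points W.obj | AlgSp.Points.map p.hom w = x ∧ AlgSp.Points.map q.hom w = z}.Finite := by
  obtain ⟨hlft, hqc⟩ := hft
  have hST := SourceDescent.Scheme.locallyOfFiniteType
  have hq : IsFiniteTypeMor q.hom := ⟨AlgSpMor.LocP.locP_of_isPullback hST X.property Y.property Z.property hW hlft,
    fun A A' hA hAc c fst snd sq => hqc hA hAc (c ≫ g.hom) _ _ (sq.paste_horiz hW)⟩
  refine (Groth.Agent.S9995.result q hq z).subset fun w hw => ⟨hw.2, ?_⟩
  let Q : MorphismProperty Scheme.{u} := (@LocallyQuasiFinite : MorphismProperty Scheme.{u}) ⊓ (@LocallyOfFiniteType : MorphismProperty Scheme.{u})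
  have hQ : ∀ ⦃A B : Scheme.{u}⦄ (g : A ⟶ B), Q g ↔ (LocallyQuasiFinite g ∧ LocallyOfFiniteType g) := fun A B g => Iff.rfl
  obtain ⟨X', j, hj, hxj, hloc⟩ := (Groth.Agent.S9993.result Q (.inr (.inr (.inr (.inr (.inr (.inl hQ)))))) f x).1 hf
  have sq : IsPullback (pullback.fst j.hom p.hom) (pullback.snd j.hom p.hom) j.hom p.hom := IsPullback.of_hasPullback _ _
  have hW' : IsAlgSpace (pullback j.hom p.hom) := isAlgSpace_of_isPullback sq X.property.diag X'.property W.property
  have hj' : RepWith @IsOpenImmersion (pullback.snd j.hom p.hom) := repWith_baseChange sq hj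
  refine (Groth.Agent.S9993.result Q (.inr (.inr (.inr (.inr (.inr (.inl hQ)))))) q w).2
    ⟨⟨_, hW'⟩, ObjectProperty.homMk (pullback.snd j.hom p.hom), hj', ?_, ?_⟩
  · obtain ⟨x', hx'⟩ := hxj
    obtain ⟨w', -, hw'⟩ := AlgSpDecent.Core.exists_point_of_isPullback sq x' w (by rw [hx', hw.1])
    exact ⟨w', hw'⟩
  · exact AlgSpMor.LocP.locP_of_isPullback (AlgSpMor.LocP.lqfLft) X'.property Y.property Z.property
      (sq.paste_vert hW) hloc

end Groth.Agent.S10417
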