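import Groth.Statements.S10418
import Groth.Agent.Lib.AlgSpDecent.Strata

set_option autoImplicit false
universe u
open CategoryTheory CategoryTheory.Limits AlgebraicGeometry Topology TopologicalSpace
open AlgSp

namespace Groth.Agent.S10418

open Groth.Agent.Lib Groth.Agent.Lib.AlgSpDecent

/-- Let S be a scheme and X an algebraic space over S which is quasi-compact. There are open subspaces X
= U_1 ⊇ U_2 ⊇ U_3 ⊇ ⋯ such that (1) with T_p = U_p ∖ U_{p+1} (reduced induced subspace structure)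
there is a separated scheme V_p with a surjective etale f_p : V_p ⟶ U_p for which the map f_p⁻¹(T_p)
⟶ T_p is an isomorphism, and (2) every x ∈ |X| admitting a representative given by a quasi-compact
morphism from the spectrum of a field lies in T_p for some p. -/
theorem result {S : Scheme.{u}} (X : AlgSp.Space S)
    (hX : AlgSp.IsQuasiCompactSp X.obj) :
    ∃ (Uo : ℕ → AlgSp.Space S) (j : ∀ p, Uo p ⟶ X) (k : ∀ p, Uo (p + 1) ⟶ Uo p)
      (T : ℕ → AlgSp.Space S) (i : ∀ p, T p ⟶ Uo p),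
      (∀ p, AlgSp.RepWith @IsOpenImmersion (j p).hom) ∧ (∀ p, k p ≫ j p = j (p + 1)) ∧ IsIso (j 1) ∧
      (∀ p, AlgSp.IsRedInduced (Set.range (AlgSp.Points.map (k p).hom))ᶜ (i p).hom) ∧
      (∀ p, 1 ≤ p → ∃ (V : Over S) (f : (AlgSp.yon S).obj V ⟶ (Uo p).obj), V.left.IsSeparated ∧
        AlgSp.RepWith @Etale f ∧ AlgSp.RepWith @Surjective f ∧
        ∀ (P : AlgSp.Sp S) (fst : P ⟶ (T p).obj) (snd : P ⟶ (AlgSp.yon S).obj V),
          IsPullback fst snd (i p).hom f → IsIso fst) ∧
      (∀ x : AlgSp.Points X.obj, (∃ q : AlgSp.FieldPt X.obj, AlgSp.Points.mk q = x ∧ AlgSp.RepWith @QuasiCompact q.toHom) →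
        ∃ p, 1 ≤ p ∧ x ∈ Set.range (AlgSp.Points.map ((i p) ≫ (j p)).hom)) := by
  have := AlgSpMor.QC.compactSpace_points hX
  obtain ⟨U, a, hU, ha, hs⟩ := AlgSpMor.QC.exists_affine_atlas X.property
  obtain ⟨Uo, j, k, T, i, hj, hk, hj1, -, hT, hV, hcov⟩ := Strata.exists_strata X.property ha hs
  refine ⟨Uo, fun p => ObjectProperty.homMk (j p), k, T, i, hj,
    fun p => ObjectProperty.hom_ext _ (hk p), ?_, hT, fun p hp => ?_, fun x hx => ?_⟩
  · exact (isIso_iff_of_reflects_iso _ (ObjectProperty.ι _)).1 (show IsIso ((ObjectProperty.ι (AlgSp.IsAlgSpace (S := S))).map (ObjectProperty.homMk (j 1))) from hj1)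
  · obtain ⟨V, f, h1, h2, h3, -, h5⟩ := hV p hp
    exact ⟨V, f, h1, h2, h3, h5⟩
  · classical
    have hex := Strata.exists_notMem_lvl X.property ha hx
    have hne : Nat.find hex ≠ 0 := fun h0 => by
      have := Nat.find_spec hex
      rw [h0, Strata.lvl_zero hs] at this
      exact this trivial
    obtain ⟨m, hm⟩ := Nat.exists_eq_succ_of_ne_zero hne
    refine ⟨m + 1, Nat.le_add_left 1 m, hcov x m ?_ ?_⟩
    · exact not_not.1 (Nat.find_min hex (hm ▸ Nat.lt_succ_self m))
    · have := Nat.find_spec hex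
      rwa [hm] at this

end Groth.Agent.S10418
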