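import Groth.Statements.S1042
import Groth.Agent.Lib.ExchangeFP29.LocusD
import Groth.Agent.Lib.ExchangeFP29.FieldPoint
import Groth.Agent.Lib.Flat55.FlatOverAt

set_option autoImplicit false
universe u
open CategoryTheory CategoryTheory.Limits AlgebraicGeometry
attribute [local instance] HasDerivedCategory.standard
open Perf

namespace Groth.Agent.S1042

open Groth.Agent.Lib Groth.Agent.Lib.ExchangeFP29

/-- Let f : X ⟶ S be proper and of finite presentation, F an O_X-module of finite presentation flat over
S, and i ∈ ℤ, r ∈ ℕ. There is an open subset U ⊆ S such that for every morphism g : T ⟶ S (with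
Rf_{T,*} assumed to exist on the unbounded derived category), g factors through U — i.e. the image
of g lies in U — exactly when Rf_{T,*}(F_T), as an object of D(O_T), is a rank-r finite locally free
O_T-module sitting in degree i; here f_T : X ×_S T ⟶ T and F_T is the pullback of F to X ×_S T. -/
theorem result {X S : Scheme.{u}} (f : X ⟶ S) [IsProper f] [LocallyOfFinitePresentation f]
    (F : X.Modules) (hF : CohB1.IsFP F) (hflat : FlatMod.IsFlatOver f F) (i : ℤ) (r : ℕ) :
    ∃ U : S.Opens, ∀ (T : Scheme.{u}) (g : T ⟶ S) [DCoh.HasRpush (pullback.snd f g)],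
      Set.range g.base ⊆ (U : Set S) ↔
        ∃ V : T.Modules, FlatMod.IsFinLocFreeOfRank r V ∧
          Nonempty ((DCoh.Rpush (pullback.snd f g)).obj (DCoh.inD (pullback f g) ((Scheme.Modules.pullback (pullback.fst f g)).obj F)) ≅ (DCoh.inD T V)⟦-i⟧) := by
  have : F.IsQuasicoherent :=
    have : SheafOfModules.IsFinitePresentation (R := X.ringCatSheaf) F := hF
    inferInstance
  refine ⟨⟨_, LocusD.isOpen_conc f F hF hflat i r⟩, fun T g _ => ?_⟩
  have hsq : IsPullback (pullback.fst f g) (pullback.snd f g) f g := IsPullback.of_hasPullback f g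
  have := Groth.Agent.Lib.QCoh.Pullback.isQCoh_pullback (pullback.fst f g) F
  have hflT : FlatMod.IsFlatOver (pullback.snd f g)
      ((Scheme.Modules.pullback (pullback.fst f g)).obj F) := fun x =>
    Flat55.FlatOverAt.isFlatOverAt_baseChange f (pullback.snd f g) (pullback.fst f g) g hsq F x
      (hflat _)
  refine Iff.trans ?_ (LocusD.exists_locFree_iff (pullback.snd f g)
    ((Scheme.Modules.pullback (pullback.fst f g)).obj F)
    (Groth.Agent.H47.FlatLimit.isFP_pullback _ F hF) hflT i r).symm
  have key : ∀ (t : T) (p : ℕ), CohIII.fiberRank (pullback.snd f g)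
      ((Scheme.Modules.pullback (pullback.fst f g)).obj F) p t = CohIII.fiberRank f F p (g t) :=
    fun t p => FieldPoint.fiberRank_baseChange f F hF hflat g _ _ hsq p t
  constructor
  · intro h t
    have ht : LocusD.Conc f F i r (g t) := h ⟨t, rfl⟩
    simpa only [LocusD.Conc, LocusD.degRank, key] using ht
  · rintro h _ ⟨t, rfl⟩
    have ht := h t
    simp only [LocusD.Conc, LocusD.degRank, key] at ht
    exact ht

end Groth.Agent.S1042
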