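import Groth.Statements.S10420
import Groth.Agent.Lib.AlgSpDecent.PointRel
import Groth.Agent.Lib.AlgSpDecent.Decent
import Groth.Agent.Lib.AlgSpMor.LocP

set_option autoImplicit false
universe u
open CategoryTheory CategoryTheory.Limits AlgebraicGeometry Topology TopologicalSpace
open AlgSp

namespace Groth.Agent.S10420

open Groth.Agent.Lib.AlgSpDecent

theorem exists_factor_residue {Y : Scheme.{u}} {K : Type u} [Field K]
    (g : Spec (CommRingCat.of K) ⟶ Y) (y : Y) (pt : Spec (CommRingCat.of K)) (h : g pt = y) :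
    ∃ π : Spec (CommRingCat.of K) ⟶ Spec (Y.residueField y), π ≫ Y.fromSpecResidueField y = g := by
  subst h
  rw [Subsingleton.elim (α := PrimeSpectrum K) pt (IsLocalRing.closedPoint K)]
  exact ⟨_, (Scheme.SpecToEquivOfField K Y).left_inv g⟩

theorem exists_factor_point {S : Scheme.{u}} {F : AlgSp.Sp S} {p : AlgSp.FieldPt F} {U : Over S}
    (g : p.pt ⟶ U) {G : AlgSp.Sp S} (a : (AlgSp.yon S).obj U ⟶ G) (u : ↥U.left) (pt : ↥p.pt.left)
    (h : g.left pt = u) :
    ∃ π : p.pt ⟶ (AlgSp.FieldPt.ofPt a u).pt, π ≫ PointRel.incl u a = g := by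
  obtain ⟨π, hπ⟩ := exists_factor_residue (K := p.K) g.left u pt h
  refine ⟨Over.homMk π ?_, Over.OverMorphism.ext hπ⟩
  show π ≫ U.left.fromSpecResidueField u ≫ U.hom = _
  rw [← Category.assoc, hπ]
  exact Over.w g

/-- A point at which an etale map admits a section over the residue field defines a monomorphism. -/
theorem mono_ofPt_of_section {S : Scheme.{u}} {F : AlgSp.Sp S} {U V : Over S} (h : U ⟶ V)
    (a : (AlgSp.yon S).obj V ⟶ F) {v : ↥V.left} (hv : Mono (AlgSp.FieldPt.ofPt a v).toHom)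
    (l : (AlgSp.FieldPt.ofPt a v).pt ⟶ U) (hl : l ≫ h = PointRel.incl v a)
    (pt : ↥(AlgSp.FieldPt.ofPt a v).pt.left) :
    Mono (AlgSp.FieldPt.ofPt ((AlgSp.yon S).map h ≫ a) (l.left pt)).toHom := by
  let a' := (AlgSp.yon S).map h ≫ a
  obtain ⟨σ, hσ⟩ := exists_factor_point l a' (l.left pt) pt rfl
  obtain ⟨pt'⟩ := Core.nonempty_pt (AlgSp.FieldPt.ofPt a' (l.left pt))
  obtain ⟨π, hπ⟩ := exists_factor_point (PointRel.incl (l.left pt) a' ≫ h) a v pt' (by
    have h1 : (PointRel.incl (l.left pt) a').left pt' = l.left pt :=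
      Scheme.fromSpecResidueField_apply _ _
    show h.left ((PointRel.incl (l.left pt) a').left pt') = v
    rw [h1]
    exact (congrArg (fun m : _ ⟶ V => m.left pt) hl).trans (Scheme.fromSpecResidueField_apply v _))
  have hid : σ ≫ π = 𝟙 _ := by
    have hm : IsPreimmersion (PointRel.incl v a).left :=
      inferInstanceAs (IsPreimmersion (V.left.fromSpecResidueField v))
    apply Over.OverMorphism.ext
    rw [← cancel_mono (PointRel.incl v a).left]
    have e : (σ ≫ π) ≫ PointRel.incl v a = PointRel.incl v a := by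
      rw [Category.assoc, hπ, ← Category.assoc, hσ, hl]
    have e' := congrArg CommaMorphism.left e
    simpa using e'
  have hσi : IsIso σ.left := by
    obtain ⟨f, hf⟩ := Spec.map_surjective σ.left
    obtain ⟨g, hg⟩ := Spec.map_surjective π.left
    have e : g ≫ f = 𝟙 _ := Spec.map_injective (by
      rw [Spec.map_comp, Spec.map_id, hf, hg]
      exact congrArg CommaMorphism.left hid)
    have : IsIso f := (ConcreteCategory.isIso_iff_bijective f).2 ⟨RingHom.injective f.hom, fun y =>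
      ⟨g y, RingHom.congr_fun (congrArg CommRingCat.Hom.hom e) y⟩⟩
    rw [← hf]
    infer_instance
  have hσo : IsIso σ := by
    have : IsIso ((Over.forget S).map σ) := hσi
    exact isIso_of_reflects_iso σ (Over.forget S)
  have hπi : IsIso π := by
    have : IsIso (σ ≫ π) := by rw [hid]; infer_instance
    exact IsIso.of_isIso_comp_left σ π
  rw [show (AlgSp.FieldPt.ofPt a' (l.left pt)).toHom =
      (AlgSp.yon S).map π ≫ (AlgSp.FieldPt.ofPt a v).toHom by
    rw [PointRel.incl_comp, PointRel.incl_comp]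
    refine Eq.trans ?_ (Category.assoc _ _ _)
    refine Eq.trans (Category.assoc _ _ _).symm ?_
    rw [← Functor.map_comp, ← Functor.map_comp]
    exact congrArg (fun z => (AlgSp.yon S).map z ≫ a) hπ.symm]
  infer_instance

/-- For a decent algebraic space X over a scheme S and x ∈ |X|, the category of elementary etale
neighbourhoods (U, u) ⟶ (X, x) is cofiltered: two objects are dominated by a third and two parallel
morphisms are equalized from some object (it is nonempty by the existence of elementary etale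
neighbourhoods). -/
theorem result {S : Scheme.{u}} (X : AlgSp.Space S) (hX : AlgSp.IsDecent X.obj)
    (x : AlgSp.Points X.obj) :
    (∀ (U₁ U₂ : Over S) (a₁ : (AlgSp.yon S).obj U₁ ⟶ X.obj) (a₂ : (AlgSp.yon S).obj U₂ ⟶ X.obj) (u₁ : ↥U₁.left)
        (u₂ : ↥U₂.left), AlgSp.IsElemEtaleNbhd a₁ u₁ x → AlgSp.IsElemEtaleNbhd a₂ u₂ x →
        ∃ (U : Over S) (a : (AlgSp.yon S).obj U ⟶ X.obj) (v : ↥U.left) (h₁ : U ⟶ U₁) (h₂ : U ⟶ U₂),
          AlgSp.IsElemEtaleNbhd a v x ∧ (AlgSp.yon S).map h₁ ≫ a₁ = a ∧ (AlgSp.yon S).map h₂ ≫ a₂ = a ∧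
            h₁.left v = u₁ ∧ h₂.left v = u₂) ∧
      (∀ (U₁ U₂ : Over S) (a₁ : (AlgSp.yon S).obj U₁ ⟶ X.obj) (a₂ : (AlgSp.yon S).obj U₂ ⟶ X.obj) (u₁ : ↥U₁.left)
        (u₂ : ↥U₂.left) (b c : U₁ ⟶ U₂), AlgSp.IsElemEtaleNbhd a₁ u₁ x → AlgSp.IsElemEtaleNbhd a₂ u₂ x →
        (AlgSp.yon S).map b ≫ a₂ = a₁ → (AlgSp.yon S).map c ≫ a₂ = a₁ → b.left u₁ = u₂ → c.left u₁ = u₂ →
        ∃ (U : Over S) (a : (AlgSp.yon S).obj U ⟶ X.obj) (v : ↥U.left) (h : U ⟶ U₁),
          AlgSp.IsElemEtaleNbhd a v x ∧ (AlgSp.yon S).map h ≫ a₁ = a ∧ h.left v = u₁ ∧ h ≫ b = h ≫ c) := by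
  have hA : AlgSp.IsAlgSpace X.obj := X.property
  constructor
  · intro U₁ U₂ a₁ a₂ u₁ u₂ h₁ h₂
    obtain ⟨hr, -⟩ := id h₁.etale
    have hm₁ := h₁.mono
    obtain ⟨c, hc, -⟩ := Decent.existsUnique_factor (p := AlgSp.FieldPt.ofPt a₁ u₁)
      (q := AlgSp.FieldPt.ofPt a₂ u₂) (Decent.representable_toHom hA _) (h₁.ofPt_eq.trans h₂.ofPt_eq.symm)
    have hw : (AlgSp.yon S).map (c ≫ PointRel.incl u₁ a₁) ≫ a₁ =
        (AlgSp.yon S).map (PointRel.incl u₂ a₂) ≫ a₂ := by
      rw [Functor.map_comp, Category.assoc, ← PointRel.incl_comp, hc, PointRel.incl_comp]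
    obtain ⟨l, hl₁, hl₂⟩ : ∃ l : (AlgSp.FieldPt.ofPt a₂ u₂).pt ⟶ hr.pullback a₂,
        l ≫ hr.fst' a₂ = c ≫ PointRel.incl u₁ a₁ ∧ l ≫ hr.snd a₂ = PointRel.incl u₂ a₂ :=
      ⟨hr.lift' _ _ hw, hr.lift'_fst _ _ _, hr.lift'_snd _ _ _⟩
    obtain ⟨pt⟩ := Core.nonempty_pt (AlgSp.FieldPt.ofPt a₂ u₂)
    have hsnd : (hr.snd a₂).left (l.left pt) = u₂ := by
      have := congrArg (fun m : _ ⟶ U₂ => m.left pt) hl₂
      exact this.trans (Scheme.fromSpecResidueField_apply u₂ _)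
    have hfst : (hr.fst' a₂).left (l.left pt) = u₁ := by
      have := congrArg (fun m : _ ⟶ U₁ => m.left pt) hl₁
      exact this.trans (Scheme.fromSpecResidueField_apply u₁ _)
    have hmm : (AlgSp.yon S).map (hr.fst' a₂) ≫ a₁ = (AlgSp.yon S).map (hr.snd a₂) ≫ a₂ :=
      (hr.isPullback' a₂).w
    have he : Etale (hr.snd a₂).left := h₁.etale.property_snd a₂
    refine ⟨hr.pullback a₂, (AlgSp.yon S).map (hr.snd a₂) ≫ a₂, l.left pt, hr.fst' a₂, hr.snd a₂,
      ⟨Lib.AlgSpMor.LocP.repWith_etale_comp _ h₂.etale, ?_, mono_ofPt_of_section _ a₂ h₂.mono l hl₂ pt⟩,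
      hmm, rfl, hfst, hsnd⟩
    rw [Core.ofPt_map_comp, hsnd, h₂.ofPt_eq]
  · intro U₁ U₂ a₁ a₂ u₁ u₂ b c h₁ h₂ hb hc hbu hcu
    obtain ⟨hr, -⟩ := id h₂.etale
    obtain ⟨w, hw₁, hw₂⟩ : ∃ w : U₁ ⟶ hr.pullback a₂, w ≫ hr.fst' a₂ = b ∧ w ≫ hr.snd a₂ = c :=
      ⟨hr.lift' b c (hb.trans hc.symm), hr.lift'_fst _ _ _, hr.lift'_snd _ _ _⟩
    obtain ⟨δ, hδ₁, hδ₂⟩ : ∃ δ : U₂ ⟶ hr.pullback a₂, δ ≫ hr.fst' a₂ = 𝟙 _ ∧ δ ≫ hr.snd a₂ = 𝟙 _ :=
      ⟨hr.lift' (𝟙 _) (𝟙 _) rfl, hr.lift'_fst _ _ _, hr.lift'_snd _ _ _⟩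
    have he : Etale (hr.snd a₂).left := h₂.etale.property_snd a₂
    have hδ : IsOpenImmersion δ.left := by
      have h : δ.left ≫ (hr.snd a₂).left = 𝟙 _ := congrArg CommaMorphism.left hδ₂
      have : IsSplitMono δ.left := ⟨⟨⟨(hr.snd a₂).left, h⟩⟩⟩
      have : Etale δ.left := by
        have : Etale (δ.left ≫ (hr.snd a₂).left) := by rw [h]; infer_instance
        exact Etale.of_comp δ.left (hr.snd a₂).left
      exact IsOpenImmersion.of_flat_of_mono δ.left
    let O : U₁.left.Opens := w.left ⁻¹ᵁ δ.left.opensRange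
    obtain ⟨pt⟩ := Core.nonempty_pt (AlgSp.FieldPt.ofPt a₁ u₁)
    have key : PointRel.incl u₁ a₁ ≫ b = PointRel.incl u₁ a₁ ≫ c := by
      have hp := h₂.mono
      obtain ⟨πb, hπb⟩ := exists_factor_point (PointRel.incl u₁ a₁ ≫ b) a₂ u₂ pt
        (by rw [← hbu]; exact congrArg b.left (Scheme.fromSpecResidueField_apply u₁ _))
      obtain ⟨πc, hπc⟩ := exists_factor_point (PointRel.incl u₁ a₁ ≫ c) a₂ u₂ pt
        (by rw [← hcu]; exact congrArg c.left (Scheme.fromSpecResidueField_apply u₁ _))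
      have : (AlgSp.yon S).map πb = (AlgSp.yon S).map πc := by
        rw [← cancel_mono (AlgSp.FieldPt.ofPt a₂ u₂).toHom, PointRel.incl_comp,
          ← Category.assoc, ← Category.assoc, ← Functor.map_comp, ← Functor.map_comp, hπb, hπc,
          Functor.map_comp, Functor.map_comp, Category.assoc, Category.assoc, hb, hc]
      rw [← hπb, ← hπc, (AlgSp.yon S).map_injective this]
    have huO : u₁ ∈ O := by
      have e : PointRel.incl u₁ a₁ ≫ w = (PointRel.incl u₁ a₁ ≫ b) ≫ δ := hr.hom_ext'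
        (by simp only [Category.assoc, hw₁, hδ₁, Category.comp_id])
        (by simp only [Category.assoc, hw₂, hδ₂, Category.comp_id]; exact key.symm)
      have e2 := congrArg (fun m : _ ⟶ hr.pullback a₂ => m.left pt) e
      show w.left u₁ ∈ Set.range δ.left
      refine ⟨(PointRel.incl u₁ a₁ ≫ b).left pt, e2.symm.trans ?_⟩
      exact congrArg w.left (Scheme.fromSpecResidueField_apply u₁ _)
    let j : Over.mk (O.ι ≫ U₁.hom) ⟶ U₁ := Over.homMk O.ι rfl
    have : Etale j.left := inferInstanceAs (Etale O.ι)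
    have hsub : Set.range (PointRel.incl u₁ a₁).left ⊆ Set.range O.ι := by
      rw [PointRel.range_incl, Scheme.Opens.range_ι]
      exact Set.singleton_subset_iff.2 huO
    obtain ⟨l, hl⟩ : ∃ l : (AlgSp.FieldPt.ofPt a₁ u₁).pt ⟶ Over.mk (O.ι ≫ U₁.hom),
        l ≫ j = PointRel.incl u₁ a₁ := by
      refine ⟨Over.homMk (IsOpenImmersion.lift O.ι (PointRel.incl u₁ a₁).left hsub) ?_,
        Over.OverMorphism.ext (IsOpenImmersion.lift_fac _ _ _)⟩
      show _ ≫ O.ι ≫ U₁.hom = _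
      rw [IsOpenImmersion.lift_fac_assoc]
      exact Over.w (PointRel.incl u₁ a₁)
    have hlv : j.left (l.left pt) = u₁ :=
      (congrArg (fun m : _ ⟶ U₁ => m.left pt) hl).trans (Scheme.fromSpecResidueField_apply u₁ _)
    refine ⟨_, (AlgSp.yon S).map j ≫ a₁, l.left pt, j,
      ⟨Lib.AlgSpMor.LocP.repWith_etale_comp _ h₁.etale, ?_, mono_ofPt_of_section _ a₁ h₁.mono l hl pt⟩,
      rfl, hlv, ?_⟩
    · rw [Core.ofPt_map_comp, hlv, h₁.ofPt_eq]
    · have hs2 : Set.range (j ≫ w).left ⊆ Set.range δ.left := by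
        rintro _ ⟨z, rfl⟩
        exact z.2
      obtain ⟨k, e⟩ : ∃ k, (j ≫ w).left = k ≫ δ.left :=
        ⟨_, (IsOpenImmersion.lift_fac δ.left (j ≫ w).left hs2).symm⟩
      refine Over.OverMorphism.ext ?_
      have h1 : j.left ≫ b.left = k := by
        have hd : δ.left ≫ (hr.fst' a₂).left = 𝟙 _ := congrArg CommaMorphism.left hδ₁
        rw [← hw₁, Over.comp_left, ← Category.assoc, ← Over.comp_left, e, Category.assoc, hd]
        exact Category.comp_id _
      have h2 : j.left ≫ c.left = k := by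
        have hd : δ.left ≫ (hr.snd a₂).left = 𝟙 _ := congrArg CommaMorphism.left hδ₂
        rw [← hw₂, Over.comp_left, ← Category.assoc, ← Over.comp_left, e, Category.assoc, hd]
        exact Category.comp_id _
      rw [Over.comp_left, Over.comp_left]
      exact h1.trans h2.symm

end Groth.Agent.S10420
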