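import Groth.Statements.S10421
import Groth.Agent.Lib.AlgSpNormCover.Generic
import Groth.Agent.Lib.AlgSpNormCover.Restrict

set_option autoImplicit false
universe u
open CategoryTheory CategoryTheory.Limits AlgebraicGeometry Topology TopologicalSpace
open AlgSp

namespace Groth.Agent.S10421

open Groth.Agent.Lib Groth.Agent.Lib.AlgSpace Groth.Agent.Lib.AlgSpNormCover Groth.Agent.Lib.AlgSpMor Groth.Agent.Lib.AlgSpDecent

/-- Let S be a scheme and X an algebraic space over S which is quasi-compact and quasi-separated (where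
S has quasi-separated underlying space and X is quasi-separated over S), assume that |X| has only
finitely many irreducible components, and let V ⟶ X be an etale surjective morphism whose source V
is a scheme. Then there exist a scheme Y and an integral surjective morphism Y ⟶ X such that, over
some dense quasi-compact open U ⊆ X, Y is finite etale, and such that Y ⟶ X factors through V
Zariski locally on Y. -/
theorem result {S : Scheme.{u}} [QuasiSeparatedSpace ↥S]
    (X : AlgSp.Space S) (hqc : AlgSp.IsQuasiCompactSp X.obj) (hqs : AlgSp.IsQuasiSeparatedSp X.obj)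
    (hirr : (irreducibleComponents (AlgSp.Points X.obj)).Finite)
    {V : Over S} (b : (AlgSp.yon S).obj V ⟶ X.obj) (hb : AlgSp.RepWith @Etale b) (hbs : AlgSp.RepWith @Surjective b) :
    ∃ (Y : Over S) (g : (AlgSp.yon S).obj Y ⟶ X.obj) (U : AlgSp.Space S) (jU : U ⟶ X),
      AlgSp.RepWith @IsIntegralHom g ∧ AlgSp.RepWith @Surjective g ∧
      AlgSp.RepWith @IsOpenImmersion jU.hom ∧ AlgSp.IsQuasiCompactSp U.obj ∧ Dense (Set.range (AlgSp.Points.map jU.hom)) ∧
      (∀ (P : AlgSp.Sp S) (fst : P ⟶ (AlgSp.yon S).obj Y) (snd : P ⟶ U.obj), IsPullback fst snd g jU.hom →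
        AlgSp.RepWith @IsFinite snd ∧ AlgSp.RepWith @Etale snd) ∧
      ∀ y : ↥Y.left, ∃ (W : Y.left.Opens) (c : Over.mk (W.ι ≫ Y.hom) ⟶ V), y ∈ W ∧
        (AlgSp.yon S).map c ≫ b = (AlgSp.yon S).map (Over.homMk W.ι rfl : Over.mk (W.ι ≫ Y.hom) ⟶ Y) ≫ g := by
  have hX := X.property
  have : CompactSpace (AlgSp.Points X.obj) := QC.compactSpace_points hqc
  obtain ⟨T, k, hT, hke, hks⟩ := exists_affine_refinement hX hb hbs
  obtain ⟨U₀, W, U', j, π, σ, m, hW, hU₀, hj, hd, hπf, hπe, hπs, sq, hsplit⟩ :=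
    exists_generic_splitting hX hqs hirr hke
  obtain ⟨hqcg, hqsg⟩ := qcqs_of_affine hX hqs ((AlgSp.yon S).map π ≫ j)
  have : QuasiCompact m.left := repWith_property
    ((QC.repWith_quasiCompact_iff (hX.representable_from_yon _)).2 hqcg) sq
  have : CompactSpace ↥U'.left := QuasiCompact.compactSpace_of_compactSpace m.left
  choose O hzO hOc hOm using hsplit
  obtain ⟨s, hs⟩ := isCompact_univ.elim_finite_subcover (fun z => (O z : Set ↥U'.left))
    (fun z => (O z).isOpen) (fun z _ => Set.mem_iUnion.2 ⟨z, hzO z⟩)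
  obtain ⟨Y, ν, w, hstr, hν, -, hloc⟩ := exists_scheme_normalization hX hqcg hqsg hke hks sq
    (fun z : ↥s => (O z.1 : Set ↥U'.left)) (fun z => ⟨hOc z.1, (O z.1).isOpen⟩)
    (fun z => by
      obtain ⟨i, hi, hz⟩ := Set.mem_iUnion₂.1 (hs (Set.mem_univ z))
      exact ⟨⟨i, hi⟩, hz⟩)
    (fun z => hOm z.1)
  have hπint : AlgSp.IsIntegralMor ((AlgSp.yon S).map π) := AffineDescent.isIntegralMor_iff.2
    ((AlgSp.repWith_yon_map_iff _ π).2 (inferInstanceAs (IsIntegralHom π.left)))
  have sqW : IsPullback ((AlgSp.yon S).map w) ((AlgSp.yon S).map π) ν j :=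
    isPullback_of_str hX (IsAlgSpace.yon_obj _) (IsAlgSpace.yon_obj _) (IsAlgSpace.yon_obj _) hj hπint hstr
  have hdν : Dense (Set.range (AlgSp.Points.ofPt ν)) := hd.mono (by
    rintro _ ⟨x, rfl⟩
    obtain ⟨u, rfl⟩ := (AlgSp.Points.schemeEquiv U₀).surjective x
    obtain ⟨t, rfl⟩ := hπs.surj u
    refine ⟨w.left t, ?_⟩
    rw [← Core.ofPt_map_comp, hstr.fac, Core.ofPt_map_comp, ← Core.map_ofScheme]
    rfl)
  refine ⟨Y, ν, ⟨(AlgSp.yon S).obj U₀, IsAlgSpace.yon_obj U₀⟩, ObjectProperty.homMk j, hν,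
    surjective_of_dense hX hν hdν, hj, QC.isQuasiCompactSp_yon, hd, fun P fst snd sqP => ?_, fun y => ?_⟩
  · change P ⟶ (AlgSp.yon S).obj U₀ at snd
    change IsPullback fst snd ν j at sqP
    let e := sqP.isoIsPullback _ _ sqW
    have he : e.hom ≫ (AlgSp.yon S).map π = snd := sqP.isoIsPullback_hom_snd _ _ sqW
    rw [← he]
    exact ⟨(repWith_iso_comp_iff _ _ _).2 ((AlgSp.repWith_yon_map_iff _ π).2 hπf),
      (repWith_iso_comp_iff _ _ _).2 ((AlgSp.repWith_yon_map_iff _ π).2 hπe)⟩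
  · obtain ⟨O', c, hy, hc⟩ := hloc y
    exact ⟨O', c ≫ k, hy, by rw [Functor.map_comp, Category.assoc]; exact hc⟩

end Groth.Agent.S10421
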