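import Groth.Statements.S10422
import Mathlib.RingTheory.Spectrum.Prime.Topology
import Mathlib.LinearAlgebra.Matrix.Rank
import Mathlib.LinearAlgebra.Matrix.Determinant.Basic
import Mathlib.RingTheory.TensorProduct.Maps
import Mathlib.LinearAlgebra.TensorProduct.Finiteness
import Mathlib.RingTheory.Flat.Basic

set_option autoImplicit false
universe u
open Topology TopologicalSpace TensorProduct
open AlgSp

namespace Groth.Agent.S10422

/-- Let A be a ring, k a field, (p_n) a sequence of primes of A which are pairwise distinct, and k →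
κ(p_n) field embeddings. Then the closure in Spec(A ⊗ A) of the image of ∐_{n ≠ m} Spec(κ(p_n) ⊗_k
κ(p_m)) meets the diagonal. Here κ(p_n) is any A-algebra K_n which is a field whose structure map
has kernel p_n and whose elements are quotients of images of elements of A. -/
theorem result (A : Type u) [CommRing A] (k : Type u) [Field k]
    (p : ℕ → PrimeSpectrum A) (hp : Function.Injective p) (K : ℕ → Type u) [∀ n, Field (K n)]
    [∀ n, Algebra A (K n)] [∀ n, Algebra k (K n)]
    (hker : ∀ n, RingHom.ker (algebraMap A (K n)) = (p n).asIdeal)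
    (hfrac : ∀ n (x : K n), ∃ a b : A, algebraMap A (K n) b ≠ 0 ∧ x * algebraMap A (K n) b = algebraMap A (K n) a) :
    (closure (⋃ (n : ℕ) (m : ℕ) (_ : n ≠ m),
        Set.range (PrimeSpectrum.comap
          (Algebra.TensorProduct.lift
            ((Algebra.TensorProduct.includeLeft (R := k) (S := ℤ) (A := K n) (B := K m)).toRingHom.toIntAlgHom.comp
              (Algebra.ofId A (K n)).toRingHom.toIntAlgHom)
            ((Algebra.TensorProduct.includeRight (R := k) (A := K n) (B := K m)).toRingHom.toIntAlgHom.comp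
              (Algebra.ofId A (K m)).toRingHom.toIntAlgHom)
            (fun _ _ => Commute.all _ _)).toRingHom)) ∩
      Set.range (PrimeSpectrum.comap (Algebra.TensorProduct.lmul' (S := A) ℤ).toRingHom)).Nonempty := by
  classical
  obtain ⟨p0, hp0⟩ := exists_clusterPt_of_compactSpace (Filter.map p Filter.atTop)
  refine ⟨PrimeSpectrum.comap (Algebra.TensorProduct.lmul' (S := A) ℤ).toRingHom p0, ?_, Set.mem_range_self _⟩
  rw [PrimeSpectrum.isTopologicalBasis_basic_opens.mem_closure_iff]
  rintro _ ⟨h, rfl⟩ hh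
  obtain ⟨s, rfl⟩ := TensorProduct.exists_finset h
  set g : A := Algebra.TensorProduct.lmul' (S := A) ℤ (∑ i ∈ s, i.1 ⊗ₜ i.2) with hgdef
  have hg : p0 ∈ (PrimeSpectrum.basicOpen g : Set (PrimeSpectrum A)) := hh
  have hinf : Set.Infinite {n | p n ∈ PrimeSpectrum.basicOpen g} :=
    Nat.frequently_atTop_iff_infinite.1
      (mapClusterPt_iff_frequently.1 hp0 _ ((PrimeSpectrum.basicOpen g).isOpen.mem_nhds hg))
  obtain ⟨T, hT, hTc⟩ := hinf.exists_subset_card_eq (s.card + 1)
  have hgsum : g = ∑ i ∈ s, i.1 * i.2 := by simp [hgdef, map_sum]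
  have hne : ∀ n ∈ T, ∑ i ∈ s, algebraMap A (K n) i.1 * algebraMap A (K n) i.2 ≠ 0 := by
    intro n hn e
    have h1 : g ∈ (p n).asIdeal := by
      rw [← hker n, RingHom.mem_ker, hgsum]
      simpa [map_sum, map_mul] using e
    exact (hT hn : p n ∈ PrimeSpectrum.basicOpen g) h1
  obtain ⟨Ω, hΩ, halg, ι, -⟩ : ∃ (Ω : Type u) (_ : Field Ω) (_ : Algebra k Ω) (_ : ∀ n : T, K n →ₐ[k] Ω), True := by
    suffices ∀ N : ℕ, ∃ (Ω : Type u) (_ : Field Ω) (_ : Algebra k Ω),
        ∀ n, n < N → Nonempty (K n →ₐ[k] Ω) by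
      obtain ⟨N, hN⟩ := T.bddAbove
      obtain ⟨Ω, _, _, h⟩ := this (N + 1)
      exact ⟨Ω, inferInstance, inferInstance, fun n => (h n (Nat.lt_succ_of_le (hN n.2))).some, trivial⟩
    intro N
    induction N with
    | zero => exact ⟨k, inferInstance, inferInstance, fun n hn => absurd hn n.not_lt_zero⟩
    | succ N ih =>
      obtain ⟨Ω, _, _, h⟩ := ih
      haveI : Nontrivial (Ω ⊗[k] K N) := Algebra.TensorProduct.nontrivial_of_algebraMap_injective_of_flat_left k Ω (K N) (algebraMap k (K N)).injective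
      obtain ⟨m, hm⟩ := Ideal.exists_maximal (Ω ⊗[k] K N)
      letI : Field ((Ω ⊗[k] K N) ⧸ m) := Ideal.Quotient.field m
      refine ⟨(Ω ⊗[k] K N) ⧸ m, inferInstance, inferInstance, fun n hn => ?_⟩
      rcases Nat.lt_succ_iff_lt_or_eq.1 hn with hn' | hn'
      · exact ⟨((Ideal.Quotient.mkₐ k m).comp Algebra.TensorProduct.includeLeft).comp (h n hn').some⟩
      · subst hn'
        exact ⟨(Ideal.Quotient.mkₐ k m).comp Algebra.TensorProduct.includeRight⟩
  let MA : Matrix T s Ω := fun n i => ι n (algebraMap A (K n) i.1.1)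
  let MB : Matrix s T Ω := fun i m => ι m (algebraMap A (K m) i.1.2)
  have hM : ∀ n m, (MA * MB) n m = ∑ i ∈ s, ι n (algebraMap A (K n) i.1) * ι m (algebraMap A (K m) i.2) :=
    fun n m => by rw [Matrix.mul_apply, ← Finset.sum_coe_sort s]
  obtain ⟨n, m, hnm, hval⟩ : ∃ n m : T, n ≠ m ∧ (MA * MB) n m ≠ 0 := by
    by_contra! hc
    have hd : MA * MB = Matrix.diagonal fun n => (MA * MB) n n := by
      ext n m
      by_cases e : n = m
      · subst e; rw [Matrix.diagonal_apply_eq]
      · rw [Matrix.diagonal_apply_ne _ e]; exact hc n m e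
    have hdet : IsUnit (MA * MB) := by
      rw [Matrix.isUnit_iff_isUnit_det, hd, Matrix.det_diagonal, isUnit_iff_ne_zero, Finset.prod_ne_zero_iff]
      intro n _
      rw [hM]
      simp only [← map_mul, ← map_sum]
      exact (map_ne_zero_iff _ (ι n).injective).2 (by rw [map_sum]; simp only [map_mul]; exact hne n n.2)
    have h1 := Matrix.rank_of_isUnit _ hdet
    have h2 := (Matrix.rank_mul_le_left MA MB).trans (Matrix.rank_le_card_width MA)
    rw [h1, Fintype.card_coe, Fintype.card_coe, hTc] at h2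
    omega
  let θ : K n ⊗[k] K m →ₐ[k] Ω := Algebra.TensorProduct.lift (ι n) (ι m) fun _ _ => Commute.all _ _
  refine ⟨_, ?_, Set.mem_iUnion.2 ⟨n, Set.mem_iUnion.2 ⟨m, Set.mem_iUnion.2
    ⟨fun e => hnm (Subtype.ext e), ⟨⟨RingHom.ker θ.toRingHom, RingHom.ker_isPrime _⟩, rfl⟩⟩⟩⟩⟩
  rw [SetLike.mem_coe, PrimeSpectrum.mem_basicOpen]
  intro hmem
  apply hval
  rw [hM]
  simp only [PrimeSpectrum.comap_asIdeal, Ideal.mem_comap, RingHom.mem_ker] at hmem
  simpa [θ, map_sum, Algebra.TensorProduct.tmul_mul_tmul] using hmem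

end Groth.Agent.S10422
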