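import Groth.Statements.S10424
import Groth.Agent.Lib.AlgSpDecent.UnivBdd
import Groth.Agent.Lib.FibreDeg.Compose

set_option autoImplicit false
universe u
open CategoryTheory CategoryTheory.Limits AlgebraicGeometry Topology TopologicalSpace
open AlgSp

namespace Groth.Agent.S10424

open Groth.Agent.Lib.AlgSpDecent

/-- Let X be an algebraic space over a scheme S, V ⟶ U a morphism of schemes over S and U ⟶ X a
morphism. Suppose that the fibres of V ⟶ U and of U ⟶ X are universally bounded. Then V ⟶ X also has
universally bounded fibres. -/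
theorem result {S : Scheme.{u}} (X : AlgSp.Space S) {U V : Over S} (f : V ⟶ U)
    (g : (AlgSp.yon S).obj U ⟶ X.obj) (hf : W4dec.HasUnivBddFibres ((AlgSp.yon S).map f)) (hg : W4dec.HasUnivBddFibres g) :
    W4dec.HasUnivBddFibres ((AlgSp.yon S).map f ≫ g) := by
  obtain ⟨m, hm⟩ := hg
  obtain ⟨n, hn⟩ := hf
  have hF : BddFib.FibreDegLE f.left n := by
    refine (Groth.Agent.Lib.FibreDeg.Basic.fibreDegLE_iff f.left n).2 fun y => ?_
    let L : Over S := Over.mk (U.left.fromSpecResidueField y ≫ U.hom)
    let j : L ⟶ U := Over.homMk (U.left.fromSpecResidueField y) rfl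
    let T := Limits.pullback j f
    have sq := (IsPullback.of_hasPullback j f).map (yon S)
    have h := hn (Groth.Agent.Lib.AlgSpDecent.Core.ofHom
      (str := U.left.fromSpecResidueField y ≫ U.hom) ((yon S).map j)) T (pullback.fst j f)
      ((yon S).map (pullback.snd j f))
      (by rw [Groth.Agent.Lib.AlgSpDecent.Core.toHom_ofHom]; exact sq.flip.flip)
    have sqL : IsPullback (pullback.snd j f).left (pullback.fst j f).left f.left
        (U.left.fromSpecResidueField y) := ((IsPullback.of_hasPullback j f).map (Over.forget S)).flip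
    have he : sqL.isoPullback.hom ≫ f.left.fiberToSpecResidueField y = (pullback.fst j f).left :=
      sqL.isoPullback_hom_snd
    have := Groth.Agent.Lib.FibreDeg.Basic.flat_of_field (f.left.fiberToSpecResidueField y)
    refine (Groth.Agent.Lib.FibreDeg.Basic.fd_comp_iso sqL.isoPullback.hom _ n).1 ?_
    exact (congrArg (fun a => Groth.Agent.Lib.FibreDeg.Basic.FD a n) he).mpr h
  refine ⟨n * m, fun q T c snd sq => ?_⟩
  have hr : AlgSp.Representable g := X.property.representable_from_yon g
  have hr' : AlgSp.Representable ((yon S).map f ≫ g) := X.property.representable_from_yon _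
  let fstU := hr.fst' q.toHom
  let T' := Limits.pullback fstU f
  have sqT : IsPullback ((yon S).map (pullback.fst fstU f ≫ hr.snd q.toHom))
      ((yon S).map (pullback.snd fstU f)) q.toHom ((yon S).map f ≫ g) := by
    rw [Functor.map_comp (yon S) (pullback.fst fstU f)]
    exact (((IsPullback.of_hasPullback fstU f).map (yon S)).flip.paste_vert
      (hr.isPullback' q.toHom)).flip
  have hFD : Groth.Agent.Lib.FibreDeg.Basic.FD
      ((pullback.fst fstU f).left ≫ (hr.snd q.toHom).left) (n * m) :=
    Groth.Agent.Lib.FibreDeg.Compose.fd_comp (K := q.K) (pullback.fst fstU f).left (hr.snd q.toHom).left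
      (Groth.Agent.Lib.FibreDeg.Compose.fibreDegLE_of_isPullback
        (((IsPullback.of_hasPullback fstU f).map (Over.forget S)).flip) hF)
      ((UnivBdd.degFibresLE_iff hr m).1 hm q)
  exact (UnivBdd.bdd_iff hr' q sq _).2 ((UnivBdd.bdd_iff hr' q sqT _).1 hFD)

end Groth.Agent.S10424
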