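import Groth.Statements.S10426
import Groth.Agent.Lib.AlgSpDecent.UnivBdd

set_option autoImplicit false
universe u
open CategoryTheory CategoryTheory.Limits AlgebraicGeometry Topology TopologicalSpace
open AlgSp

namespace Groth.Agent.S10426

/-- Let S be a scheme, X and Y algebraic spaces over S, and g : Y ⟶ X a representable morphism; let U be
a scheme, f : U ⟶ X a morphism, and f′ : U ×_X Y ⟶ Y its base change. Assume the image of |U| → |X|
is contained in the image of |Y| → |X| and that f′ has universally bounded fibres. Then the morphism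
f also has universally bounded fibres. -/
theorem result {S : Scheme.{u}} {X Y : AlgSp.Space S} (g : Y ⟶ X)
    (hg : AlgSp.Representable g.hom) {U V : Over S} (f : (AlgSp.yon S).obj U ⟶ X.obj)
    (fst : (AlgSp.yon S).obj V ⟶ (AlgSp.yon S).obj U) (f' : (AlgSp.yon S).obj V ⟶ Y.obj) (h : IsPullback fst f' f g.hom)
    (him : Set.range (AlgSp.Points.ofPt f) ⊆ Set.range (AlgSp.Points.map g.hom)) (hf' : W4dec.HasUnivBddFibres f') :
    W4dec.HasUnivBddFibres f := by
  obtain ⟨n, hn⟩ := hf'
  have hr : AlgSp.Representable f := X.property.representable_from_yon f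
  have hr' : AlgSp.Representable f' := Y.property.representable_from_yon f'
  refine ⟨n, (Lib.AlgSpDecent.UnivBdd.degFibresLE_iff hr n).2 fun q => ?_⟩
  by_cases hq : AlgSp.Points.mk q ∈ Set.range (AlgSp.Points.ofPt f)
  · obtain ⟨y, hy⟩ := him hq
    obtain ⟨qy, rfl⟩ := AlgSp.Points.mk_surjective y
    refine Lib.AlgSpDecent.UnivBdd.bdd_of_mk_eq hr (q' := qy.map g.hom)
      (hy.symm.trans (AlgSp.Points.map_mk g.hom qy)) ?_
    have sq : IsPullback ((AlgSp.yon S).map (hr'.snd qy.toHom))
        ((AlgSp.yon S).map (hr'.fst' qy.toHom) ≫ fst) (qy.map g.hom).toHom f := by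
      rw [AlgSp.FieldPt.toHom_map]
      exact (hr'.isPullback' qy.toHom).flip.paste_vert h.flip
    exact (Lib.AlgSpDecent.UnivBdd.bdd_iff hr (qy.map g.hom) sq n).1
      ((Lib.AlgSpDecent.UnivBdd.degFibresLE_iff hr' n).1 hn qy)
  · exact Lib.AlgSpDecent.UnivBdd.bdd_of_notMem hr q hq n

end Groth.Agent.S10426
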