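import Groth.Statements.S7442
import Groth.Agent.Lib.FibreDeg.Compose
import Groth.Agent.S0658

set_option autoImplicit false
universe u
open CategoryTheory AlgebraicGeometry
open BddFib

namespace Groth.Agent.S7442

open Groth.Agent.Lib.FibreDeg Limits

theorem fd_of_flat_surjective {K : Type u} [Field K] {X Y : Scheme.{u}} (f : X ⟶ Y)
    (q : Y ⟶ Spec (CommRingCat.of K)) [Flat f] [Surjective f] {n : ℕ} (h : Basic.FD (f ≫ q) n) :
    Basic.FD q n := by
  obtain ⟨hXfin, hXcl⟩ := Compose.finite_and_isClosed h.1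
  have hYfin : Finite Y := Finite.of_surjective f f.surjective
  have hYcl : ∀ y : Y, IsClosed ({y} : Set Y) := fun y => by
    refine closure_subset_iff_isClosed.1 fun y' hy' => ?_
    obtain ⟨x₀, hx₀⟩ := f.surjective y'
    obtain ⟨x, hx, rfl⟩ := (Flat.generalizingMap f) (a := x₀) (hx₀ ▸ specializes_iff_mem_closure.2 hy')
    have hmem : x₀ ∈ closure {x} := specializes_iff_mem_closure.1 hx
    rw [(hXcl x).closure_eq, Set.mem_singleton_iff] at hmem
    rw [Set.mem_singleton_iff, ← hx₀, hmem]
  haveI := Compose.isAffine_of_finite_of_isClosed hYcl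
  obtain ⟨hX, hF, hn⟩ := (Basic.finiteOfDegLE_iff (f ≫ q) n).2 h
  letI : Algebra K Γ(Y, ⊤) := BddFib.secAlgebra (CommRingCat.of K) q
  letI : Algebra K Γ(X, ⊤) := BddFib.secAlgebra (CommRingCat.of K) (f ≫ q)
  let R : Γ(Y, ⊤) →ₐ[K] Γ(X, ⊤) := { f.appTop.hom with commutes' := fun c => rfl }
  haveI := hX
  have hR : Function.Injective R :=
    ((Flat.flat_and_surjective_iff_faithfullyFlat_of_isAffine (f := f)).1 ⟨inferInstance, inferInstance⟩).injective
  rw [← Basic.finiteOfDegLE_iff]
  exact ⟨inferInstance, Module.Finite.of_injective R.toLinearMap hR,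
    (LinearMap.finrank_le_finrank_of_injective (f := R.toLinearMap) hR).trans hn⟩

/-- Let `f : X → Y` and `h : Y → Z` with `g = h ∘ f`. If `f` is flat and surjective and `n` bounds the
degrees of the fibres of `g`, then `n` bounds the degrees of the fibres of `h`. -/
theorem result {X Y Z : Scheme.{u}} (f : X ⟶ Y) (h : Y ⟶ Z) [Flat f] [Surjective f]
    (n : ℕ) (hg : BddFib.FibreDegLE (f ≫ h) n) : BddFib.FibreDegLE h n := by
  rw [Basic.fibreDegLE_iff] at hg ⊢
  intro z
  let f₀ := pullback.snd f (h.fiberι z)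
  have hP : IsPullback (pullback.fst f (h.fiberι z)) (f₀ ≫ h.fiberToSpecResidueField z) (f ≫ h)
      (Z.fromSpecResidueField z) :=
    (IsPullback.of_hasPullback f (h.fiberι z)).paste_vert (IsPullback.of_hasPullback h _)
  haveI := Basic.flat_of_field ((f ≫ h).fiberToSpecResidueField z)
  haveI := Basic.flat_of_field (h.fiberToSpecResidueField z)
  have h2 : hP.isoPullback.hom ≫ (f ≫ h).fiberToSpecResidueField z = f₀ ≫ h.fiberToSpecResidueField z :=
    hP.isoPullback_hom_snd
  have h1 : Basic.FD (f₀ ≫ h.fiberToSpecResidueField z) n :=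
    (congrArg (fun a => Basic.FD a n) h2).mp ((Basic.fd_comp_iso hP.isoPullback.hom _ _).2 (hg z))
  haveI : Surjective f₀ := MorphismProperty.pullback_snd _ _ inferInstance
  haveI : Flat f₀ := MorphismProperty.pullback_snd _ _ inferInstance
  exact fd_of_flat_surjective f₀ (h.fiberToSpecResidueField z) h1

end Groth.Agent.S7442
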