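import Groth.Statements.S10427
import Groth.Agent.Lib.AlgSpDecent.UnivBdd
import Groth.Agent.Lib.FibreDeg.Compose
import Groth.Agent.S7442

set_option autoImplicit false
universe u
open CategoryTheory CategoryTheory.Limits AlgebraicGeometry Topology TopologicalSpace
open AlgSp

namespace Groth.Agent.S10427

open Groth.Agent.Lib.AlgSpDecent

/-- Let X be an algebraic space over a scheme S and U ⟶ V ⟶ X with U, V schemes, U ⟶ V surjective and
flat. If U ⟶ X has universally bounded fibres, then so does V ⟶ X. -/
theorem result {S : Scheme.{u}} (X : AlgSp.Space S) {U V : Over S} (f : U ⟶ V)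
    [Surjective f.left] [Flat f.left] (h : (AlgSp.yon S).obj V ⟶ X.obj) (hg : W4dec.HasUnivBddFibres ((AlgSp.yon S).map f ≫ h)) :
    W4dec.HasUnivBddFibres h := by
  obtain ⟨n, hn⟩ := hg
  have hr : AlgSp.Representable h := X.property.representable_from_yon h
  refine ⟨n, fun q T c snd sq => ?_⟩
  let fstV := hr.fst' q.toHom
  have sqT : IsPullback ((yon S).map (pullback.fst fstV f ≫ hr.snd q.toHom))
      ((yon S).map (pullback.snd fstV f)) q.toHom ((yon S).map f ≫ h) := by
    rw [Functor.map_comp (yon S) (pullback.fst fstV f)]
    exact (((IsPullback.of_hasPullback fstV f).map (yon S)).flip.paste_vert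
      (hr.isPullback' q.toHom)).flip
  have h1 := hn q _ _ _ sqT
  have sqL := ((IsPullback.of_hasPullback fstV f).map (Over.forget S)).flip
  have : Surjective (pullback.fst fstV f).left := MorphismProperty.of_isPullback sqL ‹_›
  have : Flat (pullback.fst fstV f).left := MorphismProperty.of_isPullback sqL ‹_›
  exact (UnivBdd.bdd_iff hr q sq n).2
    (Groth.Agent.S7442.fd_of_flat_surjective (K := q.K) (pullback.fst fstV f).left
      (hr.snd q.toHom).left h1)

end Groth.Agent.S10427
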