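import Groth.Statements.S10428
import Groth.Agent.Lib.AlgSpDecent.Fibre
import Groth.Agent.Lib.FibreDeg.Points
import Groth.Agent.Lib.FibreDeg.Basic

set_option autoImplicit false
universe u
open CategoryTheory CategoryTheory.Limits AlgebraicGeometry Topology TopologicalSpace
open AlgSp

namespace Groth.Agent.S10428

/-- Let X be an algebraic space over a scheme S and φ : U ⟶ X a morphism from a scheme with universally
bounded fibres. Then for some integer n, every fibre of |U| → |X| contains at most n elements. -/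
theorem result {S : Scheme.{u}} (X : AlgSp.Space S) {U : Over S}
    (φ : (AlgSp.yon S).obj U ⟶ X.obj) (hφ : W4dec.HasUnivBddFibres φ) :
    ∃ n : ℕ, ∀ x : AlgSp.Points X.obj, (AlgSp.Points.ofPt φ ⁻¹' {x}).encard ≤ n := by
  obtain ⟨n, hn⟩ := hφ
  refine ⟨n, fun x => ?_⟩
  obtain ⟨q, rfl⟩ := AlgSp.Points.mk_surjective x
  have hr : AlgSp.Representable φ := X.property.representable_from_yon φ
  obtain ⟨hf, hb⟩ := hn q _ _ _ (hr.isPullback' q.toHom).flip
  obtain ⟨hfin, hc⟩ := Lib.FibreDeg.Points.natCard_le _ n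
    ((Lib.FibreDeg.Basic.finiteOfDegLE_iff _ n).2 ⟨hf, hb⟩)
  rw [← Lib.AlgSpDecent.Fibre.range_fst q hr, ← Set.image_univ]
  refine Set.encard_image_le _ _ |>.trans ?_
  rw [Set.encard_univ, ENat.card_eq_coe_natCard]
  exact_mod_cast hc

end Groth.Agent.S10428
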