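import Groth.Statements.S10430
import Groth.Agent.Lib.AlgSpDecent.FiniteFibre
-- import your own Groth.Agent.* helpers here

set_option autoImplicit false
universe u
open CategoryTheory CategoryTheory.Limits AlgebraicGeometry Topology TopologicalSpace
open AlgSp

namespace Groth.Agent.S10430

open Groth.Agent.Lib.AlgSpDecent

/-- If every etale morphism U ⟶ X from an affine scheme to the algebraic space X has universally bounded
fibres, then X is decent. -/
theorem result {S : Scheme.{u}} (X : AlgSp.Space S)
    (h : ∀ (U : Over S) (φ : (AlgSp.yon S).obj U ⟶ X.obj), IsAffine U.left → AlgSp.RepWith @Etale φ → W4dec.HasUnivBddFibres φ) :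
    AlgSp.IsDecent X.obj := by
  intro x
  obtain ⟨q, rfl⟩ := Points.mk_surjective x
  obtain ⟨ι, U, φ, hU, hφ, hsurj⟩ := Specialize.exists_affine_chart X.property
  refine Criteria.exists_mono_qc_of_cover X.property q U φ hφ hsurj fun i => ?_
  obtain ⟨n, hn⟩ := h (U i) (φ i) (hU i) (hφ i)
  have hfin := (hn q _ _ _ ((hφ i).rep.isPullback' q.toHom).flip).1
  have : IsAffine q.pt.left := inferInstanceAs (IsAffine (Spec (CommRingCat.of q.K)))
  have : CompactSpace ↥((hφ i).rep.pullback q.toHom).left :=
    QuasiCompact.compactSpace_of_compactSpace ((hφ i).rep.snd q.toHom).left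
  have := Fibre.discreteTopology_pullback q (hφ i)
  exact finite_of_compact_of_discrete

end Groth.Agent.S10430
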