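import Groth.Statements.S10431
import Groth.Agent.Lib.AlgSpDecent.BddCover
import Groth.Agent.S10425
import Groth.Agent.Lib.AlgSpace.Points

set_option autoImplicit false
universe u
open CategoryTheory CategoryTheory.Limits AlgebraicGeometry Topology TopologicalSpace
open AlgSp

namespace Groth.Agent.S10431

/-- Let S be a scheme, X and Y algebraic spaces over S, and X ⟶ Y a representable morphism. If every
etale morphism from an affine scheme to Y has universally bounded fibres, then so does every etale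
morphism from an affine scheme to X. -/
theorem result {S : Scheme.{u}} {X Y : AlgSp.Space S} (f : X ⟶ Y)
    (hf : AlgSp.Representable f.hom)
    (hY : ∀ (V : Over S) (ψ : (AlgSp.yon S).obj V ⟶ Y.obj), IsAffine V.left → AlgSp.RepWith @Etale ψ → W4dec.HasUnivBddFibres ψ)
    (U : Over S) (φ : (AlgSp.yon S).obj U ⟶ X.obj) (hU : IsAffine U.left) (hφ : AlgSp.RepWith @Etale φ) :
    W4dec.HasUnivBddFibres φ := by
  obtain ⟨ι, V, ψ, hV, hψ, hs⟩ := Lib.AlgSpDecent.Specialize.exists_affine_chart Y.property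
  have hsurj : ∀ x : AlgSp.Points X.obj, ∃ (i : ι) (v : ↥(hf.pullback (ψ i)).left),
      AlgSp.Points.ofPt (hf.fst (ψ i)) v = x := by
    intro x
    obtain ⟨i, v, hv⟩ := hs (AlgSp.Points.map f.hom x)
    have h := Lib.AlgSpace.preimage_image_map (hf.isPullback (ψ i)) {x}
    have hv' : v ∈ AlgSp.Points.ofPt (ψ i) ⁻¹' (AlgSp.Points.map f.hom '' {x}) := ⟨x, rfl, hv.symm⟩
    rw [h] at hv'
    obtain ⟨r, hr, -⟩ := hv'
    exact ⟨i, r, hr⟩
  refine Lib.AlgSpDecent.BddCover.hasUnivBddFibres_of_etale_cover X.property (fun i => hf.pullback (ψ i))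
    (fun i => hf.fst (ψ i)) (fun i => Lib.AlgSpace.repWith_baseChange (hf.isPullback (ψ i)).flip (hψ i))
    hsurj (fun i => ?_) hφ
  exact Groth.Agent.S10425.result f hf (ψ i) (hY (V i) (ψ i) (hV i) (hψ i)) _ _
    (hf.isPullback (ψ i)).flip

end Groth.Agent.S10431
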