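import Groth.Statements.S10432
import Groth.Agent.Lib.AlgSpDecent.BddCover
import Groth.Agent.Lib.AlgSpDecent.QSCharts

set_option autoImplicit false
universe u
open CategoryTheory CategoryTheory.Limits AlgebraicGeometry Topology TopologicalSpace
open AlgSp

namespace Groth.Agent.S10432

/-- Let X be an algebraic space over a scheme S with a Zariski covering by open subspaces X_i ⟶ X such
that every etale morphism from an affine scheme to X_i has universally bounded fibres. Then every
etale morphism from an affine scheme to X has universally bounded fibres. -/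
theorem result {S : Scheme.{u}} (X : AlgSp.Space S) {ι : Type u}
    (Xi : ι → AlgSp.Space S) (j : ∀ i, Xi i ⟶ X) (hj : AlgSp.IsZarCover (fun i => (Xi i).obj) (fun i => (j i).hom))
    (h : ∀ (i : ι) (V : Over S) (ψ : (AlgSp.yon S).obj V ⟶ (Xi i).obj), IsAffine V.left → AlgSp.RepWith @Etale ψ → W4dec.HasUnivBddFibres ψ)
    (U : Over S) (φ : (AlgSp.yon S).obj U ⟶ X.obj) (hU : IsAffine U.left) (hφ : AlgSp.RepWith @Etale φ) :
    W4dec.HasUnivBddFibres φ := by
  choose ι' V ψ hV hψ hs using fun i => Lib.AlgSpDecent.Specialize.exists_affine_chart (Xi i).property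
  refine Lib.AlgSpDecent.BddCover.hasUnivBddFibres_of_etale_cover X.property
    (fun s : Σ i, ι' i => V s.1 s.2) (fun s => ψ s.1 s.2 ≫ (j s.1).hom) (fun s => ?_) (fun x => ?_)
    (fun s => ?_) hφ
  · exact (AlgSp.repWith_isMultiplicative @Etale).comp_mem _ _ (hψ s.1 s.2)
      (Lib.AlgSpDecent.Core.repWith_mono (P := @IsOpenImmersion)
        (fun g hg => by have := (hg : IsOpenImmersion g); infer_instance) (hj.1 s.1))
  · obtain ⟨i, y, rfl⟩ := hj.2 x
    obtain ⟨k, v, rfl⟩ := hs i y
    exact ⟨⟨i, k⟩, v, Lib.AlgSpDecent.Core.ofPt_comp _ _ _⟩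
  · obtain ⟨i, k⟩ := s
    obtain ⟨n, hn⟩ := h i (V i k) (ψ i k) (hV i k) (hψ i k)
    refine ⟨n, ?_⟩
    have hm : Mono (j i).hom := Lib.AlgSpace.mono_of_repWith (P := @IsOpenImmersion)
      (fun _ _ g (_ : IsOpenImmersion g) => (inferInstance : Mono g)) (hj.1 i)
    have hr : AlgSp.Representable (ψ i k ≫ (j i).hom) := X.property.representable_from_yon _
    refine (Lib.AlgSpDecent.UnivBdd.degFibresLE_iff hr n).2 fun q => ?_
    by_cases hq : AlgSp.Points.mk q ∈ Set.range (AlgSp.Points.map (j i).hom)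
    · obtain ⟨y, hy⟩ := hq
      obtain ⟨qy, rfl⟩ := AlgSp.Points.mk_surjective y
      refine Lib.AlgSpDecent.UnivBdd.bdd_of_mk_eq hr (q' := qy.map (j i).hom)
        (hy.symm.trans (AlgSp.Points.map_mk (j i).hom qy)) ?_
      have sq : IsPullback ((AlgSp.yon S).map ((hψ i k).rep.snd qy.toHom))
          ((AlgSp.yon S).map ((hψ i k).rep.fst' qy.toHom)) (qy.map (j i).hom).toHom
          (ψ i k ≫ (j i).hom) := by
        rw [AlgSp.FieldPt.toHom_map]
        exact Lib.AlgSpDecent.QSCharts.isPullback_comp_mono ((hψ i k).rep.isPullback' qy.toHom).flip _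
      exact (Lib.AlgSpDecent.UnivBdd.bdd_iff hr (qy.map (j i).hom) sq n).1
        ((Lib.AlgSpDecent.UnivBdd.degFibresLE_iff (hψ i k).rep n).1 hn qy)
    · refine Lib.AlgSpDecent.UnivBdd.bdd_of_notMem hr q (fun hmem => hq ?_) n
      obtain ⟨v, hv⟩ := hmem
      exact ⟨AlgSp.Points.ofPt (ψ i k) v, (Lib.AlgSpDecent.Core.ofPt_comp _ _ _).symm.trans hv⟩

end Groth.Agent.S10432
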