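import Groth.Statements.S10433
import Groth.Agent.Lib.FibreDeg.Strat
import Groth.Agent.Lib.AlgSpDecent.UnivBdd
import Groth.Agent.Lib.AlgSpDecent.RedInduced
import Groth.Agent.Lib.AlgSpace.Points

set_option autoImplicit false
universe u
open CategoryTheory CategoryTheory.Limits AlgebraicGeometry Topology TopologicalSpace
open AlgSp

namespace Groth.Agent.S10433

open CategoryTheory CategoryTheory.Limits AlgebraicGeometry Opposite AlgSp Groth.Agent.Lib Groth.Agent.Lib.AlgSpace Groth.Agent.Lib.FibreDeg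

section
variable {S : Scheme.{u}} {F : Sp S} {W : Over S} {w : (yon S).obj W ⟶ F}

theorem exists_square (hr : Representable w) {R B : Over S} {η : (yon S).obj R ⟶ F} (p : R ⟶ B)
    {ξ : (yon S).obj B ⟶ F} (h : (yon S).map p ≫ ξ = η) :
    ∃ c : hr.pullback η ⟶ hr.pullback ξ, IsPullback c.left (hr.snd η).left (hr.snd ξ).left p.left := by
  obtain ⟨c, hc₁, hc₂⟩ : ∃ c : hr.pullback η ⟶ hr.pullback ξ,
      c ≫ hr.fst' ξ = hr.fst' η ∧ c ≫ hr.snd ξ = hr.snd η ≫ p :=
    ⟨hr.lift' (hr.fst' η) (hr.snd η ≫ p) (by rw [Functor.map_comp, Category.assoc, h]; exact (hr.isPullback' η).w),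
      hr.lift'_fst _ _ _, hr.lift'_snd _ _ _⟩
  have sq : IsPullback ((yon S).map c) ((yon S).map (hr.snd η)) ((yon S).map (hr.snd ξ)) ((yon S).map p) := by
    refine IsPullback.of_right ?_ (by rw [← Functor.map_comp, hc₂, Functor.map_comp]) (hr.isPullback' ξ)
    rw [← Functor.map_comp, hc₁, h]
    exact hr.isPullback' η
  exact ⟨c, (IsPullback.of_map (yon S) ((yon S).map_injective (by rw [Functor.map_comp, Functor.map_comp, sq.w])) sq).map (Over.forget S)⟩

theorem finiteFibres_of_bdd (hr : Representable w) {n : ℕ} (hn : ∀ q : FieldPt F, AlgSpDecent.UnivBdd.Bdd hr q n)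
    {B : Over S} (ξ : (yon S).obj B ⟶ F) : Strat.FiniteFibres (hr.snd ξ).left := by
  intro b
  let q := FieldPt.ofPt ξ b
  obtain ⟨c, hc⟩ := exists_square hr (η := q.toHom) (Over.homMk (B.left.fromSpecResidueField b) rfl) (FieldPt.toHom_ofPt ξ b).symm
  let e := hc.isoIsPullback _ _ (IsPullback.of_hasPullback (hr.snd ξ).left (B.left.fromSpecResidueField b))
  have he : e.hom ≫ (hr.snd ξ).left.fiberToSpecResidueField b = (hr.snd q.toHom).left :=
    IsPullback.isoIsPullback_hom_snd _ _ _ _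
  have h : IsFinite (e.hom ≫ (hr.snd ξ).left.fiberToSpecResidueField b) := he ▸ (hn q).1
  exact (MorphismProperty.cancel_left_of_respectsIso @IsFinite e.hom ((hr.snd ξ).left.fiberToSpecResidueField b)).1 h

theorem deg_le_of_bdd (hr : Representable w) {n : ℕ} (hn : ∀ q : FieldPt F, AlgSpDecent.UnivBdd.Bdd hr q n)
    {B : Over S} (ξ : (yon S).obj B ⟶ F) (b : ↥B.left) : Strat.deg (hr.snd ξ).left b ≤ n := by
  let q := FieldPt.ofPt ξ b
  obtain ⟨c, hc⟩ := exists_square hr (η := q.toHom) (Over.homMk (B.left.fromSpecResidueField b) rfl) (FieldPt.toHom_ofPt ξ b).symm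
  let e := hc.isoIsPullback _ _ (IsPullback.of_hasPullback (hr.snd ξ).left (B.left.fromSpecResidueField b))
  have he : e.hom ≫ (hr.snd ξ).left.fiberToSpecResidueField b = (hr.snd q.toHom).left :=
    IsPullback.isoIsPullback_hom_snd _ _ _ _
  have : IsFinite ((hr.snd ξ).left.fiberToSpecResidueField b) := finiteFibres_of_bdd hr hn ξ b
  have := Basic.flat_of_field (K := B.left.residueField b) ((hr.snd ξ).left.fiberToSpecResidueField b)
  exact (Strat.finrank_eq_of_iso e ‹_› ‹_› he _).symm.le.trans ((hn q).2 _)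

theorem deg_congr (hr : Representable w) {B : Over S} {ξ ξ' : (yon S).obj B ⟶ F} (h : ξ = ξ') (b : ↥B.left) :
    Strat.deg (hr.snd ξ).left b = Strat.deg (hr.snd ξ').left b := by subst h; rfl

theorem deg_comp (hr : Representable w) (hff : ∀ (B : Over S) (ξ : (yon S).obj B ⟶ F), Strat.FiniteFibres (hr.snd ξ).left)
    {R B : Over S} {p : R ⟶ B} {ξ : (yon S).obj B ⟶ F} {z : ↥R.left} :
    Strat.deg (hr.snd ((yon S).map p ≫ ξ)).left z = Strat.deg (hr.snd ξ).left (p.left z) := by
  obtain ⟨c, hc⟩ := exists_square hr p (ξ := ξ) rfl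
  exact Strat.deg_baseChange hc (hff B ξ) z

theorem exists_square_of_isPullback (hr : Representable w) {Q B : Over S} {ξ : (yon S).obj B ⟶ F}
    {fst : (yon S).obj Q ⟶ (yon S).obj W} {s : Q ⟶ B} (sq : IsPullback fst ((yon S).map s) w ξ) :
    ∃ c : Q ⟶ hr.pullback ξ, IsPullback c.left s.left (hr.snd ξ).left (𝟙 B.left) := by
  let e := (yon S).preimageIso (sq.isoIsPullback _ _ (hr.isPullback' ξ))
  have he : e.hom ≫ hr.snd ξ = s := (yon S).map_injective (by
    rw [Functor.map_comp]
    exact (congrArg (· ≫ _) ((yon S).map_preimage _)).trans (IsPullback.isoIsPullback_hom_snd _ _ _ _))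
  refine ⟨e.hom, IsPullback.of_horiz_isIso ⟨?_⟩⟩
  rw [Category.comp_id, ← Over.comp_left, he]

theorem finiteFibres_of_isPullback (hr : Representable w) (hff : ∀ (B : Over S) (ξ : (yon S).obj B ⟶ F), Strat.FiniteFibres (hr.snd ξ).left)
    {Q B : Over S} {ξ : (yon S).obj B ⟶ F} {fst : (yon S).obj Q ⟶ (yon S).obj W} {s : Q ⟶ B}
    (sq : IsPullback fst ((yon S).map s) w ξ) : Strat.FiniteFibres s.left := by
  obtain ⟨c, hc⟩ := exists_square_of_isPullback hr sq
  exact Strat.finiteFibres_baseChange hc (hff B ξ)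

theorem deg_of_isPullback (hr : Representable w) (hff : ∀ (B : Over S) (ξ : (yon S).obj B ⟶ F), Strat.FiniteFibres (hr.snd ξ).left)
    {Q B : Over S} {ξ : (yon S).obj B ⟶ F} {fst : (yon S).obj Q ⟶ (yon S).obj W} {s : Q ⟶ B}
    (sq : IsPullback fst ((yon S).map s) w ξ) (b : ↥B.left) :
    Strat.deg (hr.snd ξ).left b = Strat.deg s.left b := by
  obtain ⟨c, hc⟩ := exists_square_of_isPullback hr sq
  exact (Strat.deg_baseChange hc (hff B ξ) b).symm

end

/-- Let S be a scheme, X an algebraic space over S, W a scheme over S, and W ⟶ X a morphism which is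
flat, separated, locally of finite presentation and locally quasi-finite, with universally bounded
fibres. Then X has closed subspaces, each reduced, ∅ = Z_{-1} ⊆ Z_0 ⊆ ⋯ ⊆ Z_n with |Z_n| = |X| such
that, putting X_r = Z_r ∖ Z_{r-1}, for every morphism g : T ⟶ X the second projection W ×_X T ⟶ T is
a finite locally free morphism of degree r exactly when g(|T|) ⊆ |X_r|. (Indexing: Zs 0 = Z_{-1}, Zs
(r+1) = Z_r.) -/
theorem result {S : Scheme.{u}} (X : AlgSp.Space S) {W : Over S}
    (w : (AlgSp.yon S).obj W ⟶ X.obj) (hfl : AlgSp.RepWith @Flat w) (hfp : AlgSp.RepWith @LocallyOfFinitePresentation w)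
    (hsep : AlgSp.RepWith @IsSeparated w) (hqf : AlgSp.RepWith @LocallyQuasiFinite w) (hb : W4dec.HasUnivBddFibres w) :
    ∃ (n : ℕ) (Zs : ℕ → AlgSp.Space S) (i : ∀ r, Zs r ⟶ X),
      (∀ r, AlgSp.IsRedInduced (Set.range (AlgSp.Points.map (i r).hom)) (i r).hom) ∧
      IsEmpty (AlgSp.Points (Zs 0).obj) ∧ Set.range (AlgSp.Points.map (i (n + 1)).hom) = Set.univ ∧
      (∀ r, Set.range (AlgSp.Points.map (i r).hom) ⊆ Set.range (AlgSp.Points.map (i (r + 1)).hom)) ∧
      ∀ (r : ℕ) (T : AlgSp.Space S) (g : T ⟶ X) (P : AlgSp.Sp S) (fst : P ⟶ (AlgSp.yon S).obj W) (snd : P ⟶ T.obj),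
        IsPullback fst snd w g.hom →
          (AlgSp.IsFinLocFreeOfDegMor r snd ↔
            Set.range (AlgSp.Points.map g.hom) ⊆
              Set.range (AlgSp.Points.map (i (r + 1)).hom) \ Set.range (AlgSp.Points.map (i r).hom)) := by
  classical
  let hr := hfl.rep
  obtain ⟨n, hn⟩ := hb
  have hff : ∀ (B : Over S) (ξ : (yon S).obj B ⟶ X.obj), Strat.FiniteFibres (hr.snd ξ).left := fun B ξ => finiteFibres_of_bdd hr ((AlgSpDecent.UnivBdd.degFibresLE_iff hr n).1 hn) ξ
  choose Tx gx tx htx using fun x : Points X.obj => exists_ofPt_eq x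
  let D : Points X.obj → ℕ := fun x => Strat.deg (hr.snd (gx x)).left (tx x)
  have hD : ∀ (B : Over S) (ξ : (yon S).obj B ⟶ X.obj) (b : ↥B.left),
      Strat.deg (hr.snd ξ).left b = D (Points.ofPt ξ b) := by
    intro B ξ b
    obtain ⟨R, p, q, z, hp, hq, he⟩ := (ofPt_eq_ofPt_iff _ _ _ _).1 ((htx (Points.ofPt ξ b)).trans rfl : Points.ofPt _ _ = Points.ofPt ξ b)
    show _ = Strat.deg _ _
    refine ((congrArg (Strat.deg _) hq).symm.trans ?_).trans (congrArg (Strat.deg _) hp)
    rw [← deg_comp hr hff, ← deg_comp hr hff]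
    exact deg_congr hr he.symm z
  have hle : ∀ x, D x ≤ n := fun x => deg_le_of_bdd hr ((AlgSpDecent.UnivBdd.degFibresLE_iff hr n).1 hn) (gx x) (tx x)
  obtain ⟨U, a, ha, has⟩ := X.property.atlas
  have hopen : ∀ r, IsOpen {x | r ≤ D x} := fun r => by
    rw [← (AlgSpDecent.Core.isQuotientMap_ofPt ha has).isOpen_preimage]
    have e : Points.ofPt a ⁻¹' {x | r ≤ D x} = {u | r ≤ Strat.deg (hr.snd a).left u} := by
      ext u
      show r ≤ D (Points.ofPt a u) ↔ r ≤ Strat.deg (hr.snd a).left u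
      rw [hD]
    rw [e]
    have : Flat (hr.snd a).left := hfl.property_snd a
    have : LocallyOfFinitePresentation (hr.snd a).left := hfp.property a _ _ (hr.isPullback' a)
    have : IsSeparated (hr.snd a).left := hsep.property a _ _ (hr.isPullback' a)
    have : LocallyQuasiFinite (hr.snd a).left := hqf.property a _ _ (hr.isPullback' a)
    exact Strat.isOpen_le_deg (hff U a) r
  have hclosed : ∀ r, IsClosed {x | D x < r} := fun r => by
    rw [← isOpen_compl_iff]
    convert hopen r using 1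
    ext x
    simp only [Set.mem_compl_iff, Set.mem_ofPred_eq, not_lt]
  choose Z i hZ hi using fun r => AlgSpDecent.RedInduced.exists_redInduced X.property (hclosed r)
  refine ⟨n, fun r => ⟨Z r, hZ r⟩, fun r => ObjectProperty.homMk (i r), fun r => ?_, ?_, ?_, fun r => ?_, ?_⟩
  · exact ⟨(hi r).1, rfl, (hi r).2.2⟩
  · refine ⟨fun y => ?_⟩
    exact Nat.not_lt_zero _ ((hi 0).2.1.le ⟨y, rfl⟩)
  · show Set.range (Points.map (i (n + 1))) = _
    rw [(hi (n + 1)).2.1]
    exact Set.eq_univ_of_forall fun x => Nat.lt_succ_of_le (hle x)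
  · show Set.range (Points.map (i r)) ⊆ Set.range (Points.map (i (r + 1)))
    rw [(hi r).2.1, (hi (r + 1)).2.1]
    exact fun x hx => Nat.lt_succ_of_lt hx
  intro r T g P fst snd sq
  show IsFinLocFreeOfDegMor r snd ↔ Set.range (Points.map g.hom) ⊆ Set.range (Points.map (i (r + 1))) \ Set.range (Points.map (i r))
  have hrange : Set.range (Points.map g.hom) ⊆ Set.range (Points.map (i (r + 1))) \ Set.range (Points.map (i r)) ↔
      ∀ y, D (Points.map g.hom y) = r := by
    rw [(hi r).2.1, (hi (r + 1)).2.1, Set.range_subset_iff]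
    refine forall_congr' fun y => ?_
    show D _ < r + 1 ∧ ¬ D _ < r ↔ _
    omega
  rw [hrange]
  have hsnd : Representable snd := representable_baseChange sq hr
  constructor
  · intro h y
    obtain ⟨B, ξ, b, rfl⟩ := exists_ofPt_eq y
    have sq' := (hsnd.isPullback ξ).paste_horiz sq
    have hdeg : Mor2.IsFinLocFreeOfDeg r (hsnd.snd ξ).left := MorphismProperty.relative.property h ξ _ _ (hsnd.isPullback ξ)
    obtain ⟨c, hc⟩ := (yon S).map_surjective (hsnd.fst ξ ≫ fst)
    rw [← hc] at sq'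
    rw [Points.map_ofPt, ← hD, deg_of_isPullback hr hff sq' b]
    obtain ⟨⟨h1, h2, -⟩, hd⟩ := hdeg
    rw [Strat.deg_eq_finrank]
    exact hd b
  · intro hy
    refine repWith_of_exists fun B ξ => ⟨hsnd.pullback ξ, hsnd.snd ξ, hsnd.fst ξ, hsnd.isPullback ξ, ?_⟩
    have sq' := (hsnd.isPullback ξ).paste_horiz sq
    have hdeg : ∀ b, Strat.deg (hsnd.snd ξ).left b = r := fun b => by
      rw [← deg_of_isPullback hr hff sq' b, hD, ← Points.map_ofPt]
      exact hy _
    obtain ⟨c, hc⟩ := (yon S).map_surjective (hsnd.fst ξ ≫ fst)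
    rw [← hc] at sq'
    have : Flat (hsnd.snd ξ).left := hfl.property _ _ _ sq'
    have : LocallyOfFinitePresentation (hsnd.snd ξ).left := hfp.property _ _ _ sq'
    have : IsSeparated (hsnd.snd ξ).left := hsep.property _ _ _ sq'
    have : LocallyQuasiFinite (hsnd.snd ξ).left := hqf.property _ _ _ sq'
    exact Strat.isFinLocFree_of_deg_eq (finiteFibres_of_isPullback hr hff sq') hdeg

end Groth.Agent.S10433
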