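import Groth.Statements.S10434
import Groth.Agent.Lib.AlgSpDecent.Birat
import Groth.Agent.S9677

set_option autoImplicit false
universe u
open CategoryTheory CategoryTheory.Limits AlgebraicGeometry Topology TopologicalSpace
open AlgSp

namespace Groth.Agent.S10434

open Groth.Agent.Lib.AlgSpace Groth.Agent.Lib.AlgSpDecent

/-- Take decent algebraic spaces X and Y over a scheme S, each with only finitely many irreducible
components in its space of points, and a birational f : X ⟶ Y. For a generic point y of an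
irreducible component of |Y|, seen as a point v of an open subscheme V of Y, the base change of f
along Spec(O_{V,v}) ⟶ V ⟶ Y has invertible projection onto Spec(O_{V,v}). -/
theorem result {S : Scheme.{u}} {X Y : AlgSp.Space S} (f : X ⟶ Y)
    (hX : AlgSp.IsDecent X.obj) (hY : AlgSp.IsDecent Y.obj)
    (hXf : (irreducibleComponents (AlgSp.Points X.obj)).Finite)
    (hYf : (irreducibleComponents (AlgSp.Points Y.obj)).Finite)
    (hf : W4stk3decentspacesp2.IsBirational f.hom) {V : Over S} (b : (AlgSp.yon S).obj V ⟶ Y.obj)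
    (hb : AlgSp.RepWith @IsOpenImmersion b) (v : ↥V.left)
    (hv : AlgSp.Points.ofPt b v ∈ genericPoints (AlgSp.Points Y.obj)) {P : AlgSp.Sp S} (fst : P ⟶ X.obj)
    (snd : P ⟶ (AlgSp.yon S).obj (Over.mk (V.left.fromSpecStalk v ≫ V.hom)))
    (hP : IsPullback fst snd f.hom ((AlgSp.yon S).map (Over.homMk (V.left.fromSpecStalk v) rfl) ≫ b)) :
    IsIso snd := by
    have hA := X.property
    have hB := Y.property
    obtain ⟨C⟩ := Birat.exists_chart hA hB hX hY hf
    let R : Over S := hb.rep.pullback (C.a ≫ f.hom)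
    let g' : R ⟶ V := hb.rep.fst' (C.a ≫ f.hom)
    let p : R ⟶ C.U := hb.rep.snd (C.a ≫ f.hom)
    have sqR := hb.rep.isPullback' (C.a ≫ f.hom)
    have hp : AlgSp.RepWith @IsOpenImmersion ((AlgSp.yon S).map p) := (AlgSp.repWith_yon_map_iff _ _).2 (hb.property_snd _)
    have ha : AlgSp.RepWith @IsOpenImmersion ((AlgSp.yon S).map p ≫ C.a) :=
      (AlgSp.repWith_isMultiplicative @IsOpenImmersion).comp_mem _ _ hp C.ha
    have hbe := Birat.repWith_etale_openImm hb
    have hae := Birat.repWith_etale_openImm ha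
    have w : ((AlgSp.yon S).map p ≫ C.a) ≫ f.hom = (AlgSp.yon S).map g' ≫ b := by
      rw [Category.assoc]; exact sqR.w.symm
    have happ : ∀ r, AlgSp.Points.map f.hom (AlgSp.Points.ofPt ((AlgSp.yon S).map p ≫ C.a) r) = AlgSp.Points.ofPt b (g'.left r) := fun r => by
      rw [← Core.ofPt_comp, w, Core.ofPt_map_comp]
    have hlift : ∀ x ∈ genericPoints (AlgSp.Points X.obj), AlgSp.Points.map f.hom x ∈ Set.range (AlgSp.Points.ofPt b) →
        ∃ r, AlgSp.Points.ofPt ((AlgSp.yon S).map p ≫ C.a) r = x ∧ ∀ v, AlgSp.Points.map f.hom x = AlgSp.Points.ofPt b v → g'.left r = v := by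
      rintro x hx ⟨v, hv⟩
      obtain ⟨u, rfl⟩ := C.genU hx
      obtain ⟨r, hr₁, hr₂⟩ := Core.exists_point_of_scheme_isPullback sqR v u (by rw [Core.ofPt_comp]; exact hv)
      refine ⟨r, by rw [Core.ofPt_map_comp]; exact congrArg _ hr₂, fun v' hv' => ?_⟩
      exact hr₁.trans (Birat.injective_ofPt hb (hv.trans hv'))
    have hbij : Set.BijOn (fun r : R.left => g'.left.base r) {r | closure {r} ∈ irreducibleComponents ↥R.left}
        {v | closure {v} ∈ irreducibleComponents ↥V.left} := by
      refine ⟨fun r hr => (Birat.gen_iff hB hY hbe _).2 (happ r ▸ hf.bijOn.mapsTo ((Birat.gen_iff hA hX hae r).1 hr)),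
        fun r hr r' hr' e => Birat.injective_ofPt ha (hf.bijOn.injOn ((Birat.gen_iff hA hX hae r).1 hr)
          ((Birat.gen_iff hA hX hae r').1 hr') (by rw [happ, happ]; exact congrArg _ e)), fun v' hv' => ?_⟩
      obtain ⟨x, hx, he⟩ := hf.bijOn.surjOn ((Birat.gen_iff hB hY hbe v').1 hv')
      obtain ⟨r, hr, hr'⟩ := hlift x hx (he.symm ▸ ⟨v', rfl⟩)
      exact ⟨r, (Birat.gen_iff hA hX hae r).2 (hr.symm ▸ hx), hr' v' he⟩
    have hiso : ∀ r : R.left, closure {r} ∈ irreducibleComponents ↥R.left → IsIso (g'.left.stalkMap r) := by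
      intro r hr
      obtain ⟨U₁, V₁, a₁, b₁, g₁, u₁, ha₁, hb₁, w₁, hu₁, h₁⟩ := hf.stalkIso _ ((Birat.gen_iff hA hX hae r).1 hr)
      exact Birat.isIso_stalkMap_of_chart ha ha₁ hb hb₁ w w₁ hu₁ h₁
    have hgv : closure {v} ∈ irreducibleComponents ↥V.left := (Birat.gen_iff hB hY hbe v).2 hv
    have hi := Groth.Agent.S9677.result g'.left (Birat.finite_components hA hX hXf ha) (Birat.finite_components hB hY hYf hb) hbij hiso v hgv
    let T : Over S := Over.mk (V.left.fromSpecStalk v ≫ V.hom)
    let c : T ⟶ V := Over.homMk (V.left.fromSpecStalk v) rfl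
    obtain ⟨x₀, hx₀, hfx₀⟩ := hf.bijOn.surjOn hv
    obtain ⟨φ, hφ⟩ := (exists_lift_iff_range_subset ha fst).2 (by
      rintro _ ⟨z, rfl⟩
      obtain ⟨t, ht⟩ := (AlgSp.Points.schemeEquiv T).surjective (AlgSp.Points.map snd z)
      have hc : c.left t = v := (show closure {v} ∈ irreducibleComponents ↥V.left from hgv) |> fun h =>
        Lib.SchTopo.Closure.eq_of_specializes_of_closure_mem h (by
          have hmem : c.left t ∈ Set.range (V.left.fromSpecStalk v) := ⟨t, rfl⟩
          rw [Scheme.range_fromSpecStalk] at hmem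
          exact hmem)
      have he : AlgSp.Points.map f.hom (AlgSp.Points.map fst z) = AlgSp.Points.map f.hom x₀ := by
        rw [← AlgSp.Points.map_comp, hP.w, AlgSp.Points.map_comp, ← ht, hfx₀]
        refine (Core.map_ofScheme _ t).trans ?_
        rw [Core.ofPt_map_comp, hc]
      rw [Birat.eq_of_map_eq hA hB hX hY hf hx₀ he, Core.range_points_map_yon]
      obtain ⟨r, hr, -⟩ := hlift x₀ hx₀ (hfx₀.symm ▸ ⟨v, rfl⟩)
      exact ⟨r, hr⟩)
    have := Birat.mono_openImm hb
    have := Birat.mono_openImm ha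
    have sq' : IsPullback φ snd ((AlgSp.yon S).map g') ((AlgSp.yon S).map c) :=
      Birat.isPullback_factor hP hφ w
    have sqY := isPullback_yon (IsPullback.of_hasPullback g' c)
    have sqS := (IsPullback.of_hasPullback g' c).map (Over.forget S)
    have : IsIso ((Over.forget S).map (pullback.snd g' c)) := by
      have e := sqS.isoPullback_hom_snd
      rw [← e]
      have : IsIso (pullback.snd ((Over.forget S).map g') ((Over.forget S).map c)) := hi
      infer_instance
    have : IsIso (pullback.snd g' c) := isIso_of_reflects_iso _ (Over.forget S)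
    rw [← IsPullback.isoIsPullback_hom_snd _ _ sq' sqY]
    infer_instance

end Groth.Agent.S10434
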