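import Groth.Statements.S10435
import Groth.Agent.Lib.AlgSpDecent.Birat
import Groth.Agent.Lib.AlgSpRed.Stalk
import Groth.Agent.S9678

set_option autoImplicit false
universe u
open CategoryTheory CategoryTheory.Limits AlgebraicGeometry Topology TopologicalSpace
open AlgSp

namespace Groth.Agent.S10435

open Groth.Agent.Lib.AlgSpace Groth.Agent.Lib.AlgSpDecent

/-- Take decent algebraic spaces X and Y over a scheme S, each with only finitely many irreducible
components in its space of points, and a birational f : X ⟶ Y. Suppose f is locally of finite type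
with Y reduced, or else locally of finite presentation. Then X and Y contain dense open subspaces U
and V, which may be taken to be schemes, such that f carries U into V and induces an isomorphism U ⟶
V. -/
theorem result {S : Scheme.{u}} {X Y : AlgSp.Space S} (f : X ⟶ Y)
    (hX : AlgSp.IsDecent X.obj) (hY : AlgSp.IsDecent Y.obj)
    (hXf : (irreducibleComponents (AlgSp.Points X.obj)).Finite)
    (hYf : (irreducibleComponents (AlgSp.Points Y.obj)).Finite)
    (hf : W4stk3decentspacesp2.IsBirational f.hom)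
    (h : (AlgSp.LocP @LocallyOfFiniteType f.hom ∧ AlgSp.EtaleLocally (fun T => IsReduced T) Y.obj) ∨
      AlgSp.LocP @LocallyOfFinitePresentation f.hom) :
    ∃ (U V : Over S) (a : (AlgSp.yon S).obj U ⟶ X.obj) (b : (AlgSp.yon S).obj V ⟶ Y.obj) (g : U ⟶ V),
      AlgSp.RepWith @IsOpenImmersion a ∧ AlgSp.RepWith @IsOpenImmersion b ∧
        Dense (Set.range (AlgSp.Points.ofPt a)) ∧ Dense (Set.range (AlgSp.Points.ofPt b)) ∧
          a ≫ f.hom = (AlgSp.yon S).map g ≫ b ∧ IsIso g.left := by
    have hA := X.property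
    have hB := Y.property
    obtain ⟨C⟩ := Birat.exists_chart hA hB hX hY hf
    have hfin : (LocallyOfFiniteType C.g.left ∧ IsReduced C.V.left) ∨ LocallyOfFinitePresentation C.g.left := by
      have ha := Birat.repWith_etale_openImm C.ha
      have hb := Birat.repWith_etale_openImm C.hb
      rcases h with ⟨h₁, h₂⟩ | h₁
      · exact Or.inl ⟨h₁ C.a C.b C.g ha hb C.w, Lib.AlgSpRed.Stalk.isReduced_chart hB.diag h₂ hb⟩
      · exact Or.inr (h₁ C.a C.b C.g ha hb C.w)
    obtain ⟨U, V, hUV, hU, hV, hi⟩ := Groth.Agent.S9678.result C.g.left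
      (Birat.finite_components hA hX hXf C.ha) (Birat.finite_components hB hY hYf C.hb)
      (C.bijOn hA hB hX hY hf) (fun u hu => C.stalkIso hA hX hf u hu) hfin
    let iU := Specialize.openIncl U
    let iV := Specialize.openIncl V
    let g : Over.mk (U.ι ≫ C.U.hom) ⟶ Over.mk (V.ι ≫ C.V.hom) := Over.homMk (C.g.left.resLE V U hUV) (by
      show C.g.left.resLE V U hUV ≫ V.ι ≫ C.V.hom = U.ι ≫ C.U.hom
      rw [Scheme.Hom.resLE_comp_ι_assoc, Over.w C.g])
    have hd : ∀ {Z : AlgSp.Space S} (hZ : AlgSp.IsDecent Z.obj) {T : Over S} (c : (AlgSp.yon S).obj T ⟶ Z.obj),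
        AlgSp.RepWith @IsOpenImmersion c → genericPoints (AlgSp.Points Z.obj) ⊆ Set.range (AlgSp.Points.ofPt c) →
        (irreducibleComponents ↥T.left).Finite → ∀ W : T.left.Opens, Dense (W : Set ↥T.left) →
        Dense (Set.range (AlgSp.Points.ofPt ((AlgSp.yon S).map (Specialize.openIncl W) ≫ c))) := by
      intro Z hZ T c hc hgen hTf W hW
      refine Birat.dense_of_generic_mem Z.property hZ fun x hx => ?_
      obtain ⟨t, rfl⟩ := hgen hx
      exact ⟨⟨t, H75.Birat.mem_of_isGen_of_dense_finite hTf hW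
        ((Birat.gen_iff Z.property hZ (Birat.repWith_etale_openImm hc) t).2 hx)⟩, Specialize.ofPt_openIncl_comp W c _⟩
    have hcomp : ∀ {Z : AlgSp.Sp S} {T : Over S} (c : (AlgSp.yon S).obj T ⟶ Z) (W : T.left.Opens),
        AlgSp.RepWith @IsOpenImmersion c →
        AlgSp.RepWith @IsOpenImmersion ((AlgSp.yon S).map (Specialize.openIncl W) ≫ c) := fun c W hc =>
      (AlgSp.repWith_isMultiplicative @IsOpenImmersion).comp_mem _ _
        ((AlgSp.repWith_yon_map_iff _ _).2 (inferInstanceAs (IsOpenImmersion W.ι))) hc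
    refine ⟨_, _, (AlgSp.yon S).map iU ≫ C.a, (AlgSp.yon S).map iV ≫ C.b, g, hcomp _ U C.ha, hcomp _ V C.hb,
      hd hX C.a C.ha C.genU (Birat.finite_components hA hX hXf C.ha) U hU,
      hd hY C.b C.hb C.genV (Birat.finite_components hB hY hYf C.hb) V hV, ?_, hi⟩
    rw [Category.assoc, C.w, ← Functor.map_comp_assoc, ← Functor.map_comp_assoc]
    congr 2
    exact Over.OverMorphism.ext (Scheme.Hom.resLE_comp_ι C.g.left hUV).symm

end Groth.Agent.S10435
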