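import Groth.Statements.S10436
import Groth.Agent.Lib.AlgSpDecent.Birat
import Groth.Agent.Lib.AlgSpRed.Stalk
import Groth.Agent.Lib.AlgSpMor.Sep
import Groth.Agent.Lib.AlgSpMor.QC
import Groth.Agent.Lib.SchTopo.Closure
import Groth.Agent.H75.Birat.Gen

set_option autoImplicit false
universe u
open CategoryTheory CategoryTheory.Limits AlgebraicGeometry Topology TopologicalSpace
open AlgSp

namespace Groth.Agent.S10436

open Groth.Agent.Lib.AlgSpace Groth.Agent.Lib.AlgSpDecent

/-- Take decent algebraic spaces X and Y over a scheme S, each with only finitely many irreducible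
components in its space of points, and a birational f : X ⟶ Y. Suppose f is quasi-compact or
separated, and in addition that f is locally of finite type with Y reduced, or locally of finite
presentation. Then Y contains a dense open subspace V, which may be taken to be a scheme, such that
f⁻¹(V) ⟶ V is an isomorphism. -/
theorem result {S : Scheme.{u}} {X Y : AlgSp.Space S} (f : X ⟶ Y)
    (hX : AlgSp.IsDecent X.obj) (hY : AlgSp.IsDecent Y.obj)
    (hXf : (irreducibleComponents (AlgSp.Points X.obj)).Finite)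
    (hYf : (irreducibleComponents (AlgSp.Points Y.obj)).Finite)
    (hf : W4stk3decentspacesp2.IsBirational f.hom) (h₁ : AlgSp.IsQuasiCompactMor f.hom ∨ AlgSp.IsSeparatedMor f.hom)
    (h₂ : (AlgSp.LocP @LocallyOfFiniteType f.hom ∧ AlgSp.EtaleLocally (fun T => IsReduced T) Y.obj) ∨
      AlgSp.LocP @LocallyOfFinitePresentation f.hom) :
    ∃ (V : Over S) (b : (AlgSp.yon S).obj V ⟶ Y.obj), AlgSp.RepWith @IsOpenImmersion b ∧
      Dense (Set.range (AlgSp.Points.ofPt b)) ∧
        ∀ ⦃P : AlgSp.Sp S⦄ (fst : P ⟶ X.obj) (snd : P ⟶ (AlgSp.yon S).obj V),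
          IsPullback fst snd f.hom b → IsIso snd := by
    have hA := X.property
    have hB := Y.property
    obtain ⟨C⟩ := Birat.exists_chart hA hB hX hY hf
    have hfin : (LocallyOfFiniteType C.g.left ∧ IsReduced C.V.left) ∨ LocallyOfFinitePresentation C.g.left := by
      have ha := Birat.repWith_etale_openImm C.ha
      have hb := Birat.repWith_etale_openImm C.hb
      rcases h₂ with ⟨h₁', h₂'⟩ | h₁'
      · exact Or.inl ⟨h₁' C.a C.b C.g ha hb C.w, Lib.AlgSpRed.Stalk.isReduced_chart hB.diag h₂' hb⟩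
      · exact Or.inr (h₁' C.a C.b C.g ha hb C.w)
    obtain ⟨U₁, V₁, hOI, hU₁, hV₁⟩ := H75.Birat.exists_OI_dense C.g.left (Birat.finite_components hB hY hYf C.hb)
      (C.bijOn hA hB hX hY hf) (fun u hu => C.stalkIso hA hX hf u hu) hfin
    have hcomp : ∀ {Z : AlgSp.Sp S} {T : Over S} (c : (AlgSp.yon S).obj T ⟶ Z) (W : T.left.Opens),
        AlgSp.RepWith @IsOpenImmersion c →
        AlgSp.RepWith @IsOpenImmersion ((AlgSp.yon S).map (Specialize.openIncl W) ≫ c) := fun c W hc =>
      (AlgSp.repWith_isMultiplicative @IsOpenImmersion).comp_mem _ _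
        ((AlgSp.repWith_yon_map_iff _ _).2 (inferInstanceAs (IsOpenImmersion W.ι))) hc
    let U := Over.mk (U₁.ι ≫ C.U.hom)
    let V := Over.mk (V₁.ι ≫ C.V.hom)
    let a : (AlgSp.yon S).obj U ⟶ X.obj := (AlgSp.yon S).map (Specialize.openIncl U₁) ≫ C.a
    let b : (AlgSp.yon S).obj V ⟶ Y.obj := (AlgSp.yon S).map (Specialize.openIncl V₁) ≫ C.b
    have ha : AlgSp.RepWith @IsOpenImmersion a := hcomp _ U₁ C.ha
    have hb : AlgSp.RepWith @IsOpenImmersion b := hcomp _ V₁ C.hb
    let g : U ⟶ V := Over.homMk (C.g.left.resLE V₁ U₁ hOI.le) (by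
      show C.g.left.resLE V₁ U₁ hOI.le ≫ V₁.ι ≫ C.V.hom = U₁.ι ≫ C.U.hom
      rw [Scheme.Hom.resLE_comp_ι_assoc, Over.w C.g])
    have : IsIso ((Over.forget S).map g) := hOI.isIso
    have : IsIso g := isIso_of_reflects_iso g (Over.forget S)
    have w : a ≫ f.hom = (AlgSp.yon S).map g ≫ b := by
      show ((AlgSp.yon S).map (Specialize.openIncl U₁) ≫ C.a) ≫ f.hom =
        (AlgSp.yon S).map g ≫ (AlgSp.yon S).map (Specialize.openIncl V₁) ≫ C.b
      rw [Category.assoc, C.w, ← Functor.map_comp_assoc, ← Functor.map_comp_assoc]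
      congr 2
      exact Over.OverMorphism.ext (Scheme.Hom.resLE_comp_ι C.g.left hOI.le).symm
    have genU : genericPoints (AlgSp.Points X.obj) ⊆ Set.range (AlgSp.Points.ofPt a) := fun x hx => by
      obtain ⟨u, rfl⟩ := C.genU hx
      exact ⟨⟨u, hU₁ u ((Birat.gen_iff hA hX (Birat.repWith_etale_openImm C.ha) u).2 hx)⟩, Specialize.ofPt_openIncl_comp U₁ _ _⟩
    have genV : genericPoints (AlgSp.Points Y.obj) ⊆ Set.range (AlgSp.Points.ofPt b) := fun x hx => by
      obtain ⟨u, rfl⟩ := C.genV hx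
      exact ⟨⟨u, hV₁ u ((Birat.gen_iff hB hY (Birat.repWith_etale_openImm C.hb) u).2 hx)⟩, Specialize.ofPt_openIncl_comp V₁ _ _⟩
    suffices hN : ∃ N : Set (AlgSp.Points Y.obj), IsOpen N ∧ genericPoints (AlgSp.Points Y.obj) ⊆ N ∧
        N ⊆ Set.range (AlgSp.Points.ofPt b) ∧
        ∀ x, AlgSp.Points.map f.hom x ∈ N → x ∈ Set.range (AlgSp.Points.ofPt a) by
      obtain ⟨N, hNo, hNg, hNb, hNa⟩ := hN
      let O : V.left.Opens := ⟨AlgSp.Points.ofPt b ⁻¹' N, hNo.preimage (AlgSp.Points.continuous_ofPt b)⟩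
      have hbO : AlgSp.RepWith @IsOpenImmersion ((AlgSp.yon S).map (Specialize.openIncl O) ≫ b) := hcomp _ O hb
      refine ⟨_, _, hbO, Birat.dense_of_generic_mem hB hY fun y hy => ?_, fun P fst snd hP => ?_⟩
      · obtain ⟨v, rfl⟩ := hNb (hNg hy)
        exact ⟨⟨v, hNg hy⟩, Specialize.ofPt_openIncl_comp O b _⟩
      have := Birat.mono_openImm hb
      have := Birat.mono_openImm ha
      obtain ⟨φ, hφ⟩ := (exists_lift_iff_range_subset ha fst).2 (by
        rintro _ ⟨z, rfl⟩
        obtain ⟨t, ht⟩ := (AlgSp.Points.schemeEquiv _).surjective (AlgSp.Points.map snd z)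
        rw [Core.range_points_map_yon]
        refine hNa _ ?_
        rw [← AlgSp.Points.map_comp, hP.w, AlgSp.Points.map_comp, ← ht]
        refine Eq.mpr (congrArg (fun q => q ∈ N) ((Core.map_ofScheme _ t).trans (Specialize.ofPt_openIncl_comp O b t))) ?_
        exact t.2)
      have sq := Birat.isPullback_factor hP hφ w
      exact sq.isIso_snd_of_isIso
    have himg : ∀ u, AlgSp.Points.map f.hom (AlgSp.Points.ofPt a u) = AlgSp.Points.ofPt b (g.left u) := fun u => by
      rw [← Core.ofPt_comp, w, Core.ofPt_map_comp]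
    rcases h₁ with hqc | hsep
    · let 𝒩 : Set (Set (AlgSp.Points Y.obj)) := {N | IsOpen N ∧ N ⊆ Set.range (AlgSp.Points.ofPt b) ∧
        ∀ x, AlgSp.Points.map f.hom x ∈ N → x ∈ Set.range (AlgSp.Points.ofPt a)}
      refine ⟨⋃₀ 𝒩, isOpen_sUnion fun N hN => hN.1, fun y hy => ?_, Set.sUnion_subset fun N hN => hN.2.1,
        fun x ⟨N, hN, hx⟩ => hN.2.2 x hx⟩
      obtain ⟨v, rfl⟩ := genV hy
      obtain ⟨W, hW, hvW, -⟩ := exists_isAffineOpen_mem_and_subset (U := (⊤ : V.left.Opens)) (x := v) trivial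
      let W' : Over S := Over.mk (W.ι ≫ V.hom)
      have : IsAffine W'.left := hW
      let bW : (AlgSp.yon S).obj W' ⟶ Y.obj := (AlgSp.yon S).map (Specialize.openIncl W) ≫ b
      have hbW : AlgSp.RepWith @IsOpenImmersion bW := hcomp _ W hb
      have sq := IsPullback.of_hasPullback f.hom bW
      obtain ⟨T, c, hc, hcs, hT⟩ := hqc (AlgSp.IsAlgSpace.yon_obj W') Lib.AlgSpMor.QC.isQuasiCompactSp_yon bW _ _ sq
      have : CompactSpace ↥T.left := hT
      obtain ⟨h, hh⟩ := (AlgSp.yon S).map_surjective (c ≫ pullback.snd f.hom bW)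
      let x' : ↥T.left → AlgSp.Points X.obj := fun t => AlgSp.Points.ofPt (c ≫ pullback.fst f.hom bW) t
      have hx' : ∀ t, AlgSp.Points.map f.hom (x' t) = AlgSp.Points.ofPt bW (h.left t) := fun t => by
        show AlgSp.Points.map f.hom (AlgSp.Points.ofPt (c ≫ pullback.fst f.hom bW) t) = _
        rw [← Core.ofPt_comp, Category.assoc, sq.w, ← Category.assoc, ← hh, Core.ofPt_map_comp]
      let Z : TopologicalSpace.Closeds T.left := ⟨(x' ⁻¹' Set.range (AlgSp.Points.ofPt a))ᶜ,
        (((Lib.AlgSpace.isOpenMap_ofPt (Birat.repWith_etale_openImm ha)).isOpen_range).preimage (AlgSp.Points.continuous_ofPt _)).isClosed_compl⟩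
      let i := (Scheme.IdealSheafData.vanishingIdeal Z).subschemeι
      have hi : Set.range i = (Z : Set ↥T.left) := by
        rw [Scheme.IdealSheafData.range_subschemeι, Scheme.IdealSheafData.coe_support_vanishingIdeal]
      let K : Set ↥W'.left := closure (Set.range (i ≫ h.left))
      let O : W'.left.Opens := ⟨Kᶜ, isClosed_closure.isOpen_compl⟩
      have hvO : (⟨v, hvW⟩ : ↥W'.left) ∈ O := by
        intro hc'
        have hgen : closure {(⟨v, hvW⟩ : ↥W'.left)} ∈ irreducibleComponents ↥W'.left :=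
          (Birat.gen_iff hB hY (Birat.repWith_etale_openImm hbW) _).2 (by
            rw [Specialize.ofPt_openIncl_comp]; exact hy)
        obtain ⟨z, hz⟩ := Lib.SchTopo.Closure.mem_range_of_mem_closure_range (i ≫ h.left) hgen hc'
        rw [Scheme.Hom.comp_apply] at hz
        obtain ⟨x₀, hx₀, hfx₀⟩ := hf.bijOn.surjOn hy
        have e : x' (i z) = x₀ := Birat.eq_of_map_eq hA hB hX hY hf hx₀ (by
          rw [hx', hz, Specialize.ofPt_openIncl_comp]; exact hfx₀.symm)
        have hm : i z ∈ (Z : Set ↥T.left) := hi ▸ ⟨z, rfl⟩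
        exact hm (show x' (i z) ∈ Set.range (AlgSp.Points.ofPt a) from e.symm ▸ genU hx₀)
      refine ⟨AlgSp.Points.ofPt bW '' O, ⟨Lib.AlgSpace.isOpenMap_ofPt (Birat.repWith_etale_openImm hbW) _ O.2, ?_, ?_⟩,
        ⟨⟨v, hvW⟩, hvO, Specialize.ofPt_openIncl_comp W b _⟩⟩
      · rintro _ ⟨o, -, rfl⟩
        exact ⟨_, (Specialize.ofPt_openIncl_comp W b o).symm⟩
      · rintro x ⟨o, ho, hox⟩
        obtain ⟨z, hz₁, hz₂⟩ := Core.exists_point_of_isPullback sq x (AlgSp.Points.ofScheme W' o) (by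
          rw [Core.map_ofScheme]; exact hox.symm)
        obtain ⟨t, rfl⟩ := Lib.AlgSpace.surjective_ofPt hcs z
        have ho' : h.left t = o := by
          apply (AlgSp.Points.schemeEquiv W').injective
          refine Eq.trans ?_ hz₂
          rw [← Core.ofPt_comp, ← hh]
          exact (Core.ofPt_yon_map h t).symm
        by_contra hxa
        have htZ : t ∈ (Z : Set ↥T.left) := by
          show x' t ∉ Set.range (AlgSp.Points.ofPt a)
          show AlgSp.Points.ofPt (c ≫ pullback.fst f.hom bW) t ∉ _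
          rwa [Core.ofPt_comp, hz₁]
        obtain ⟨z', rfl⟩ : t ∈ Set.range i := hi.symm ▸ htZ
        exact ho (ho' ▸ subset_closure ⟨z', Scheme.Hom.comp_apply i h.left z'⟩)
    · refine ⟨Set.range (AlgSp.Points.ofPt b), (Lib.AlgSpace.isOpenMap_ofPt (Birat.repWith_etale_openImm hb)).isOpen_range,
        genV, le_rfl, fun x hx => ?_⟩
      have sq := IsPullback.of_hasPullback f.hom b
      have hw' : ((AlgSp.yon S).map (inv g) ≫ a) ≫ f.hom = 𝟙 ((AlgSp.yon S).obj V) ≫ b := by
        rw [Category.assoc, w, ← Functor.map_comp_assoc, IsIso.inv_hom_id, CategoryTheory.Functor.map_id]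
      let σ := sq.lift ((AlgSp.yon S).map (inv g) ≫ a) (𝟙 _) hw'
      have hσ : AlgSp.RepWith @IsClosedImmersion σ := repWith_baseChange
        (Lib.AlgSpMor.Sep.isPullback_section _ σ (sq.lift_snd _ _ _))
        (Lib.AlgSpMor.Sep.repWith_diagonal_baseChange sq hsep)
      have hP := isAlgSpace_of_isPullback sq hB.diag hA (AlgSp.IsAlgSpace.yon_obj _)
      obtain ⟨T, c, hc, hcs⟩ := hP.atlas
      obtain ⟨η, hη, hηx⟩ := Birat.exists_generic hA hX x
      obtain ⟨v, hv⟩ := hx
      obtain ⟨z, hz₁, -⟩ := Core.exists_point_of_isPullback sq x (AlgSp.Points.ofScheme V v) (by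
        rw [Core.map_ofScheme]; exact hv.symm)
      obtain ⟨t, rfl⟩ := Lib.AlgSpace.surjective_ofPt hcs z
      rw [← hz₁, ← Core.ofPt_comp] at hηx
      obtain ⟨t₀, ht₀, ht₀'⟩ := Decent.IsDecent.exists_lift hX (repWith_comp hc (repWith_baseChange sq.flip (Birat.repWith_etale_openImm hb))) hηx
      have : Mono (pullback.fst f.hom b) := Birat.mono_openImm (repWith_baseChange sq.flip hb)
      have hmem : AlgSp.Points.ofPt c t₀ ∈ Set.range (AlgSp.Points.map σ) := by
        obtain ⟨u, hu⟩ := genU hη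
        refine ⟨AlgSp.Points.ofScheme V (g.left u), Core.injective_map_of_mono (pullback.fst f.hom b) ?_⟩
        rw [Core.map_ofScheme, ← Core.ofPt_comp, sq.lift_fst, Core.ofPt_map_comp, ← Core.ofPt_comp, ht₀', ← hu,
          ← Scheme.Hom.comp_apply, ← Over.comp_left, IsIso.hom_inv_id]
        try rfl
      have hcl : IsClosed (AlgSp.Points.ofPt c ⁻¹' (AlgSp.Points.map σ '' Set.univ)) := by
        rw [preimage_image_map (hσ.rep.isPullback c)]
        have : IsClosedImmersion (hσ.rep.snd c).left := hσ.property_snd c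
        simpa using (hσ.rep.snd c).left.isClosedEmbedding.isClosed_range
      rw [Set.image_univ] at hcl
      obtain ⟨v', hv'⟩ : AlgSp.Points.ofPt c t ∈ Set.range (AlgSp.Points.map σ) := ht₀.mem_closed hcl hmem
      rw [← hz₁, ← hv', ← AlgSp.Points.map_comp, sq.lift_fst, AlgSp.Points.map_comp]
      rw [← Core.range_points_map_yon]
      exact ⟨_, rfl⟩

end Groth.Agent.S10436
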