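import Groth.Statements.S10438
import Groth.Agent.Lib.AlgSpDecent.BiratBC
import Groth.Agent.Lib.AlgSpDecent.BiratNormal
import Groth.Agent.Lib.AlgSpRed.Stalk
import Groth.Agent.Lib.AlgSpMor.RepDescent
import Groth.Agent.Lib.AlgSpFpqc.Classes

set_option autoImplicit false
universe u
open CategoryTheory CategoryTheory.Limits AlgebraicGeometry Topology TopologicalSpace
open AlgSp

namespace Groth.Agent.S10438

open Groth.Agent.Lib.AlgSpace Groth.Agent.Lib.AlgSpDecent

/-- Take decent algebraic spaces X and Y over a scheme S, each with only finitely many irreducible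
components in its space of points, and f : X ⟶ Y integral as well as birational. If Y is normal
while X is reduced, f is an isomorphism. -/
theorem result {S : Scheme.{u}} {X Y : AlgSp.Space S} (f : X ⟶ Y)
    (hX : AlgSp.IsDecent X.obj) (hY : AlgSp.IsDecent Y.obj)
    (hXf : (irreducibleComponents (AlgSp.Points X.obj)).Finite)
    (hYf : (irreducibleComponents (AlgSp.Points Y.obj)).Finite)
    (hi : AlgSp.IsIntegralMor f.hom) (hf : W4stk3decentspacesp2.IsBirational f.hom)
    (hYn : AlgSp.EtaleLocally (fun T => ∀ t : ↥T, IsDomain ↥(T.presheaf.stalk t) ∧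
      IsIntegrallyClosed ↥(T.presheaf.stalk t)) Y.obj)
    (hXr : AlgSp.EtaleLocally (fun T => IsReduced T) X.obj) : IsIso f.hom := by
    have hA := X.property
    have hB := Y.property
    obtain ⟨T, p, hp, hps, hT⟩ := hYn
    let ι := T.left.affineCover.I₀
    let Ri : ι → CommRingCat.{u} := fun i => Γ(T.left.affineCover.X i, ⊤)
    let Zs : ι → Over S := fun i => Over.mk ((T.left.affineCover.X i).isoSpec.inv ≫ T.left.affineCover.f i ≫ T.hom)
    let wz : ∀ i, Zs i ⟶ T := fun i => Over.homMk ((T.left.affineCover.X i).isoSpec.inv ≫ T.left.affineCover.f i) (Category.assoc _ _ _)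
    have hwz : ∀ i, IsOpenImmersion (wz i).left := fun i =>
      inferInstanceAs (IsOpenImmersion ((T.left.affineCover.X i).isoSpec.inv ≫ T.left.affineCover.f i))
    have sq0 := IsPullback.of_hasPullback f.hom p
    have step : ∀ i, ∃ (W : Over S) (g : W ⟶ Zs i) (c : (AlgSp.yon S).obj W ⟶ pullback f.hom p),
        IsPullback c ((AlgSp.yon S).map g) (pullback.snd f.hom p) ((AlgSp.yon S).map (wz i)) ∧ IsIso g := by
      intro i
      have : IsAffine (Zs i).left := inferInstanceAs (IsAffine (Spec (Ri i)))
      have hb : AlgSp.RepWith @Etale ((AlgSp.yon S).map (wz i) ≫ p) :=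
        repWith_comp ((AlgSp.repWith_yon_map_iff _ _).2 (have := hwz i; (inferInstance : Etale (wz i).left))) hp
      obtain ⟨W, g, c, sq, hW, hg⟩ := hi (inferInstance : IsAffine (Zs i).left) ((AlgSp.yon S).map (wz i) ≫ p)
      obtain ⟨hPA, hPd, -, -, hbir⟩ := BiratBC.isBirational_baseChange hA hB hX hY hXf hYf hf hb sq
      let φ : Ri i ⟶ Γ(W.left, ⊤) := Spec.preimage (W.left.isoSpec.inv ≫ g.left)
      have hφ : Spec.map φ = W.left.isoSpec.inv ≫ g.left := Spec.map_preimage _
      have : IsIntegralHom g.left := hg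
      have : IsIntegralHom (Spec.map φ) := by rw [hφ]; infer_instance
      have hredW : IsReduced W.left :=
        Lib.AlgSpRed.Stalk.isReduced_chart hA.diag hXr (repWith_baseChange sq.flip hb)
      have : IsReduced (Spec Γ(W.left, ⊤)) := isReduced_of_isOpenImmersion W.left.isoSpec.inv
      let W' : Over S := Over.mk (Spec.map φ ≫ (Zs i).hom)
      let g' : W' ⟶ Zs i := Over.homMk (Spec.map φ) rfl
      let e : W' ≅ W := Over.isoMk W.left.isoSpec.symm (by
        show W.left.isoSpec.inv ≫ W.hom = Spec.map φ ≫ (Zs i).hom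
        rw [hφ, Category.assoc, Over.w g])
      have heg : e.hom ≫ g = g' := Over.OverMorphism.ext hφ.symm
      have he : AlgSp.RepWith @IsOpenImmersion ((AlgSp.yon S).map e.hom) :=
        (AlgSp.repWith_yon_map_iff _ _).2 (inferInstanceAs (IsOpenImmersion W.left.isoSpec.inv))
      have hid : AlgSp.RepWith @IsOpenImmersion (𝟙 ((AlgSp.yon S).obj (Zs i))) := AlgSp.repWith_id @IsOpenImmersion _
      have hw : (AlgSp.yon S).map e.hom ≫ (AlgSp.yon S).map g = (AlgSp.yon S).map g' ≫ 𝟙 _ := by
        rw [Category.comp_id, ← Functor.map_comp, heg]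
      have hdZ : AlgSp.IsDecent ((AlgSp.yon S).obj (Zs i)) := Decent.isDecent_of_representable hb.rep hY
      let C : Birat.Chart ((AlgSp.yon S).map g) :=
        { U := W', V := Zs i, a := (AlgSp.yon S).map e.hom, b := 𝟙 _, g := g', ha := he, hb := hid, w := hw
          genU := fun x _ => by
            obtain ⟨y, rfl⟩ := (AlgSp.Points.schemeEquiv W).surjective x
            refine ⟨e.inv.left y, (Core.ofPt_yon_map e.hom _).trans (congrArg _ ?_)⟩
            rw [← Scheme.Hom.comp_apply, ← Over.comp_left, e.inv_hom_id]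
            rfl
          genV := fun x _ => by
            obtain ⟨y, rfl⟩ := (AlgSp.Points.schemeEquiv (Zs i)).surjective x
            exact ⟨y, rfl⟩ }
      have hn : ∀ z : Spec (Ri i), IsDomain ((Spec (Ri i)).presheaf.stalk z) ∧
          IsIntegrallyClosed ((Spec (Ri i)).presheaf.stalk z) := fun z => by
        have := hwz i
        let e' := (asIso ((wz i).left.stalkMap z)).commRingCatIsoToRingEquiv
        obtain ⟨h1, h2⟩ := hT ((wz i).left z)
        exact ⟨e'.symm.toMulEquiv.isDomain _, IsIntegrallyClosed.of_equiv e'⟩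
      have := BiratNormal.isIso_of_birational φ hn
        (C.bijOn hPA (AlgSp.IsAlgSpace.yon_obj _) hPd hdZ hbir) (fun u hu => C.stalkIso hPA hPd hbir u hu)
      have : IsIso ((Over.forget S).map g') := this
      have : IsIso g' := isIso_of_reflects_iso g' (Over.forget S)
      have : IsIso g := by rw [← heg] at this; exact IsIso.of_isIso_comp_left e.hom g
      refine ⟨W, g, sq0.lift c ((AlgSp.yon S).map g ≫ (AlgSp.yon S).map (wz i)) (by
        rw [Category.assoc]; exact sq.w), ?_, this⟩
      exact IsPullback.of_right (by rw [sq0.lift_fst]; exact sq) (sq0.lift_snd _ _ _) sq0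
    choose Ws gs cs sqs hgs using step
    obtain ⟨b, G, t, ht, hGpb, sqb⟩ := Lib.AlgSpMor.RepDescent.exists_isPullback_sigma sqs
    have hG : IsIso G.left := by
      have : ∀ i, IsIso (gs i).left := fun i => have := hgs i; inferInstanceAs (IsIso ((Over.forget S).map (gs i)))
      have e : G.left = CategoryTheory.Limits.Sigma.map fun i => (gs i).left := CategoryTheory.Limits.Sigma.hom_ext _ _ fun i => by
        refine (hGpb i).w.trans (Eq.symm ?_)
        exact CategoryTheory.Limits.Sigma.ι_map (f := fun i => (Ws i).left) (g := fun i => (Zs i).left) (fun i => (gs i).left) i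
      rw [e]
      infer_instance
    have hte : Etale t.left := by
      refine IsZariskiLocalAtSource.of_openCover (sigmaOpenCover fun i => (Zs i).left) fun i => ?_
      show Etale ((sigmaOverι Zs i).left ≫ t.left)
      rw [← Over.comp_left, ht]
      have := hwz i
      infer_instance
    have hts : Surjective t.left := ⟨fun x => by
      obtain ⟨i, z, hz⟩ := T.left.affineCover.exists_eq x
      refine ⟨(sigmaOverι Zs i).left ((T.left.affineCover.X i).isoSpec.hom z), ?_⟩
      rw [← Scheme.Hom.comp_apply, ← Over.comp_left, ht, ← Scheme.Hom.comp_apply]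
      refine Eq.trans ?_ hz
      show ((T.left.affineCover.X i).isoSpec.hom ≫ (T.left.affineCover.X i).isoSpec.inv ≫ T.left.affineCover.f i) z = _
      rw [Iso.hom_inv_id_assoc]⟩
    have sq := sqb.paste_horiz sq0
    have : (MorphismProperty.isomorphisms Scheme.{u}).IsLocalAtTarget Scheme.fppfPrecoverage :=
      Lib.AlgSpace.isLocalAtTarget_fppf _
    refine Lib.AlgSpFpqc.Classes.isIso_of_repWith (Lib.AlgSpMor.RepDescent.repWith_of_cover
      (MorphismProperty.isomorphisms Scheme.{u}) ?_ hB.diag
      (repWith_comp ((AlgSp.repWith_yon_map_iff _ _).2 hte) hp) (repWith_comp ((AlgSp.repWith_yon_map_iff _ _).2 hts) hps)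
      sq ((AlgSp.repWith_yon_map_iff _ _).2 hG))
    intro A B q hq D hD
    have : IsIso D.obj.hom := hD
    exact Lib.AlgSpMor.RepDescent.effective_of_isOpenImmersion hq D

end Groth.Agent.S10438
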