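import Groth.Statements.S10439
import Groth.Agent.Lib.AlgSpDecent.Sober

set_option autoImplicit false
universe u
open CategoryTheory CategoryTheory.Limits AlgebraicGeometry Topology TopologicalSpace
open AlgSp

namespace Groth.Agent.S10439

open Groth.Agent.Lib.AlgSpace Groth.Agent.Lib.AlgSpDecent

/-- A birational morphism between decent algebraic spaces over a scheme S, each with only finitely many
irreducible components, is dominant: the image of |X| is dense in |Y|. -/
theorem result {S : Scheme.{u}} {X Y : AlgSp.Space S} (f : X ⟶ Y)
    (hX : AlgSp.IsDecent X.obj) (hY : AlgSp.IsDecent Y.obj)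
    (hXf : (irreducibleComponents (AlgSp.Points X.obj)).Finite)
    (hYf : (irreducibleComponents (AlgSp.Points Y.obj)).Finite)
    (hf : W4stk3decentspacesp2.IsBirational f.hom) : AlgSp.IsDominantMor f.hom := by
  have := Groth.Agent.Lib.AlgSpDecent.Sober.quasiSober_points Y.property hY
  intro y
  obtain ⟨g, hg⟩ := QuasiSober.sober (isIrreducible_irreducibleComponent (x := y))
    isClosed_irreducibleComponent
  have hgen : g ∈ genericPoints (AlgSp.Points Y.obj) := by
    show closure ({g} : Set (AlgSp.Points Y.obj)) ∈ irreducibleComponents (AlgSp.Points Y.obj)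
    rw [hg.def]
    exact irreducibleComponent_mem_irreducibleComponents y
  obtain ⟨x, -, hx⟩ := hf.bijOn.surjOn hgen
  have hyc : y ∈ closure ({g} : Set (AlgSp.Points Y.obj)) := by
    rw [hg.def]
    exact mem_irreducibleComponent
  have hsub : ({g} : Set (AlgSp.Points Y.obj)) ⊆ Set.range (AlgSp.Points.map f.hom) :=
    Set.singleton_subset_iff.2 ⟨x, hx⟩
  exact closure_mono hsub hyc

end Groth.Agent.S10439
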