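import Groth.Statements.S1044
import Groth.Agent.Lib.KoszulOrth36.Sheaf
import Groth.Agent.Lib.KoszulOrth36.Qc
import Groth.Agent.Lib.DerivedOX.OpenImm
import Groth.Agent.Lib.DerivedOX.RpushQCoh

set_option autoImplicit false
universe u
open CategoryTheory CategoryTheory.Limits AlgebraicGeometry
attribute [local instance] HasDerivedCategory.standard
open Perf

namespace Groth.Agent.S1044

/-- Let A be a ring, f₁, …, f_r elements of A, X = Spec A, U ⊆ X the open complement of V(f₁, …, f_r)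
with inclusion j, and K the perfect object of D(O_X) associated with the Koszul complex on f₁, …,
f_r. Assuming Rj_* exists (and tilde is recorded as exact), for E ∈ D(O_X) with quasi-coherent
cohomology sheaves the following are equivalent: E is of the form Rj_*M for some M ∈ D_QCoh(O_U)
(equivalently E = Rj_*(E|_U)); every morphism K[n] ⟶ E, n ∈ ℤ, is zero. -/
theorem result (A : Type u) [CommRing A] (fs : List A) [PreservesFiniteLimits (tilde.functor (CommRingCat.of A))]
    [DCoh.HasRpush (LocCoh.puncturedOpen A (Ideal.span {a | a ∈ fs})).ι]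
    (E : DCoh.D (Spec (CommRingCat.of A))) (hE : DCoh.IsQCohD E) :
    (∃ M : DCoh.D (LocCoh.puncturedOpen A (Ideal.span {a | a ∈ fs}) : Scheme.{u}), DCoh.IsQCohD M ∧
        Nonempty (E ≅ (DCoh.Rpush (LocCoh.puncturedOpen A (Ideal.span {a | a ∈ fs})).ι).obj M)) ↔
    ∀ (n : ℤ) (φ : ((DCoh.tildeD (CommRingCat.of A)).obj (DerivedCategory.Q.obj (Koszul.koszul A fs)))⟦n⟧ ⟶ E), φ = 0 := by
  let U := LocCoh.puncturedOpen A (Ideal.span {a | a ∈ fs})
  haveI : QuasiCompact U.ι := Groth.Agent.Lib.KoszulOrth36.Qc.quasiCompact_ι A fs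
  let adj := Groth.Agent.Lib.DerivedOX.OpenImm.restrictPushAdj U.ι
  refine ⟨fun ⟨M, _, ⟨e⟩⟩ n φ => ?_, fun h => ?_⟩
  · haveI := Groth.Agent.Lib.KoszulOrth36.Sheaf.subsingleton_hom_Rpush A fs adj n M
    exact (cancel_mono e.hom).1 ((Subsingleton.elim _ 0).trans zero_comp.symm)
  · have hM : DCoh.IsQCohD ((DCoh.restrictD U.ι).obj E) :=
      Groth.Agent.Lib.KoszulOrth36.Qc.isQCohD_restrict U E hE
    have hR := Groth.Agent.Lib.DerivedOX.RpushQCoh.isQCohD_Rpush U.ι _ hM
    obtain ⟨C, ι, δ, hT, htor⟩ := Groth.Agent.Lib.KoszulOrth36.Sheaf.exists_fibre A fs adj E hE hR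
    have hC : IsZero ((DCoh.tildeD (CommRingCat.of A)).obj C) :=
      Groth.Agent.Lib.DerivedOX.OpenSupport.isZero_of_homology _ fun n =>
        Groth.Agent.Lib.KoszulOrth36.Sheaf.isZero_H_fibre A fs adj hT htor n (fun φ => h (-n) φ)
    haveI : IsIso (adj.unit.app E) := (Pretriangulated.Triangle.isZero₁_iff_isIso₂ _ hT).1 hC
    exact ⟨_, hM, ⟨asIso (adj.unit.app E)⟩⟩

end Groth.Agent.S1044
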