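import Groth.Statements.S10440
import Groth.Agent.Lib.AlgSpDecent.EtaleStalk
import Groth.Agent.Lib.AlgSpDecent.Strata
import Mathlib.Algebra.Category.Ring.Epi
import Mathlib.RingTheory.Unramified.LocalRing

set_option autoImplicit false
universe u
open CategoryTheory CategoryTheory.Limits AlgebraicGeometry Topology TopologicalSpace
open AlgSp

namespace Groth.Agent.S10440

open CategoryTheory CategoryTheory.Limits AlgebraicGeometry Opposite AlgSp Groth.Agent.Lib Groth.Agent.Lib.AlgSpDecent Groth.Agent.Lib.AlgSpace

/-- For a decent algebraic space X over a scheme S and x ∈ |X|, let g : (U', u') ⟶ (U, u) be a morphism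
of elementary etale neighbourhoods of (X, x). If R is a henselization of O_{U', u'} then, through
the local ring map O_{U, u} ⟶ O_{U', u'} induced by g, R is a henselization of O_{U, u} as well.
(The published statement identifies the henselian local ring at x, defined as the colimit of global
sections over all elementary etale neighbourhoods, with the henselization of O_{U, u}; that ring is
not a separate construction here, and this row states the resulting independence of the
henselization from the chosen neighbourhood.) -/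
theorem result {S : Scheme.{u}} (X : AlgSp.Space S)
    (hX : AlgSp.IsDecent X.obj) (x : AlgSp.Points X.obj) {U U' : Over S}
    (a : (AlgSp.yon S).obj U ⟶ X.obj) (a' : (AlgSp.yon S).obj U' ⟶ X.obj) (g : U' ⟶ U) (u' : ↥U'.left)
    (hg : (AlgSp.yon S).map g ≫ a = a') (ha : AlgSp.IsElemEtaleNbhd a (g.left.base u') x)
    (ha' : AlgSp.IsElemEtaleNbhd a' u' x) (R : Type u) [CommRing R] [IsLocalRing R]
    [Algebra ↥(U'.left.presheaf.stalk u') R] [IsLocalHom (algebraMap ↥(U'.left.presheaf.stalk u') R)]
    [Hensel.IsHenselization ↥(U'.left.presheaf.stalk u') R] :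
    letI : Algebra ↥(U.left.presheaf.stalk (g.left.base u')) R :=
      ((algebraMap ↥(U'.left.presheaf.stalk u') R).comp (g.left.stalkMap u').hom).toAlgebra
    ∃ (_ : IsLocalHom (algebraMap ↥(U.left.presheaf.stalk (g.left.base u')) R)),
      Hensel.IsHenselization ↥(U.left.presheaf.stalk (g.left.base u')) R := by
  have hget : Etale g.left := by
    let hr := ha.etale.rep
    obtain ⟨δ, hδ₁, hδ₂⟩ : ∃ δ : U' ⟶ hr.pullback a', δ ≫ hr.fst' a' = g ∧ δ ≫ hr.snd a' = 𝟙 _ :=
      ⟨hr.lift' g (𝟙 _) (by rw [hg, CategoryTheory.Functor.map_id, Category.id_comp]), hr.lift'_fst _ _ _, hr.lift'_snd _ _ _⟩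
    have : Etale (hr.snd a').left := ha.etale.property_snd a'
    have : Etale (hr.fst' a').left := ha'.etale.property a _ _ (hr.isPullback' a').flip
    have h : δ.left ≫ (hr.snd a').left = 𝟙 _ := congrArg CommaMorphism.left hδ₂
    have : Etale δ.left := by
      have : Etale (δ.left ≫ (hr.snd a').left) := by rw [h]; infer_instance
      exact Etale.of_comp δ.left (hr.snd a').left
    rw [← hδ₁, Over.comp_left]
    infer_instance
  let O := U.left.presheaf.stalk (g.left.base u')
  let O' := U'.left.presheaf.stalk u'
  let _ : Algebra ↥O ↥O' := (g.left.stalkMap u').hom.toAlgebra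
  have : IsLocalHom (algebraMap ↥O ↥O') := inferInstanceAs (IsLocalHom (g.left.stalkMap u').hom)
  have hess : EGA4loc.IsEssentiallyEtale ↥O ↥O' := EtaleStalk.isEssentiallyEtale_stalkMap g.left u'
  -- residue fields agree
  have hbij : Function.Bijective (IsLocalRing.ResidueField.map (algebraMap ↥O ↥O')) := by
    refine ⟨RingHom.injective _, ?_⟩
    have := (Henselian.EssEtale.formallyEtale hess).1
    have := (Henselian.EssEtale.formallyEtale hess).2
    have hfin : (g.left.residueFieldMap u').hom.Finite :=
      show (algebraMap (IsLocalRing.ResidueField ↥O) (IsLocalRing.ResidueField ↥O')).Finite from RingHom.finite_algebraMap.2 inferInstance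
    let m : Over.mk (U'.left.fromSpecResidueField u' ≫ U'.hom) ⟶ Over.mk (U.left.fromSpecResidueField (g.left u') ≫ U.hom) :=
      Over.homMk (Spec.map (g.left.residueFieldMap u')) (by
        show Spec.map (g.left.residueFieldMap u') ≫ U.left.fromSpecResidueField (g.left u') ≫ U.hom = U'.left.fromSpecResidueField u' ≫ U'.hom
        rw [Scheme.Hom.SpecMap_residueFieldMap_fromSpecResidueField_assoc, Over.w g])
    have hmono : Mono m := by
      constructor
      intro T c₁ c₂ e
      apply (yon S).map_injective
      have := ha'.mono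
      refine (cancel_mono (FieldPt.ofPt a' u').toHom).1 ?_
      rw [FieldPt.toHom_ofPt, ← hg]
      show (yon S).map c₁ ≫ (yon S).map (Over.homMk (U'.left.fromSpecResidueField u') rfl : Over.mk (U'.left.fromSpecResidueField u' ≫ U'.hom) ⟶ U') ≫ (yon S).map g ≫ a = (yon S).map c₂ ≫ (yon S).map (Over.homMk (U'.left.fromSpecResidueField u') rfl : Over.mk (U'.left.fromSpecResidueField u' ≫ U'.hom) ⟶ U') ≫ (yon S).map g ≫ a
      have hm : (Over.homMk (U'.left.fromSpecResidueField u') rfl : Over.mk (U'.left.fromSpecResidueField u' ≫ U'.hom) ⟶ U') ≫ g =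
          m ≫ Over.homMk (U.left.fromSpecResidueField (g.left u')) rfl :=
        Over.OverMorphism.ext (Scheme.Hom.SpecMap_residueFieldMap_fromSpecResidueField g.left u').symm
      simp only [← Functor.map_comp_assoc, Category.assoc, hm]
      rw [reassoc_of% e]
    have hepi : Epi (g.left.residueFieldMap u') := by
      constructor
      intro Z c₁ c₂ e
      let T : Over S := Over.mk (Spec.map c₁ ≫ U'.left.fromSpecResidueField u' ≫ U'.hom)
      have e' := congrArg Spec.map e
      rw [Spec.map_comp, Spec.map_comp] at e'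
      let d₁ : T ⟶ Over.mk (U'.left.fromSpecResidueField u' ≫ U'.hom) := Over.homMk (Spec.map c₁) rfl
      let d₂ : T ⟶ Over.mk (U'.left.fromSpecResidueField u' ≫ U'.hom) := Over.homMk (Spec.map c₂) (by
        show Spec.map c₂ ≫ U'.left.fromSpecResidueField u' ≫ U'.hom = Spec.map c₁ ≫ U'.left.fromSpecResidueField u' ≫ U'.hom
        rw [← Over.w g, ← Scheme.Hom.SpecMap_residueFieldMap_fromSpecResidueField_assoc g.left, reassoc_of% e'])
      have := (cancel_mono m).1 (show d₁ ≫ m = d₂ ≫ m from Over.OverMorphism.ext e')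
      exact Spec.map_injective (congrArg CommaMorphism.left this)
    exact RingHom.surjective_of_epi_of_finite (g.left.residueFieldMap u') hfin
  have hR := ‹Hensel.IsHenselization ↥(U'.left.presheaf.stalk u') R›
  let _ : Algebra ↥(U.left.presheaf.stalk (g.left.base u')) R := ((algebraMap ↥O' R).comp (algebraMap ↥O ↥O')).toAlgebra
  have hl' : IsLocalHom (algebraMap ↥(U.left.presheaf.stalk (g.left.base u')) R) := RingHom.isLocalHom_comp (algebraMap ↥O' R) (algebraMap ↥O ↥O')
  refine ⟨hl', ⟨hR.henselian, fun T _ _ f hf => ?_⟩⟩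
  let e := RingEquiv.ofBijective _ hbij
  let α := (IsLocalRing.ResidueField.map f).comp e.symm.toRingHom
  obtain ⟨h, ⟨hhl, hhc, hhr⟩, huniq⟩ := Henselian.EssEtale.existsUnique_lift hess T f α (by
    ext x
    exact congrArg (IsLocalRing.ResidueField.map f) (e.symm_apply_apply x))
  obtain ⟨k, hk, hkuniq⟩ := hR.universal T h hhl
  refine ⟨k, ?_, fun k' hk' => hkuniq k' (huniq _ ?_)⟩
  · show k.comp ((algebraMap ↥O' R).comp (algebraMap ↥O ↥O')) = f
    rw [← RingHom.comp_assoc]
    rw [hk, hhc]
  have hc : (k'.comp (algebraMap ↥O' R)).comp (algebraMap ↥O ↥O') = f := by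
    rw [RingHom.comp_assoc]; exact hk'
  have hl : IsLocalHom (k'.comp (algebraMap ↥O' R)) := by
    let _ : Algebra ↥O T := f.toAlgebra
    exact Henselian.EssEtale.isLocalHom_algHom hess (⟨k'.comp (algebraMap ↥O' R), RingHom.congr_fun hc⟩ : ↥O' →ₐ[↥O] T)
  refine ⟨hl, hc, fun y => ?_⟩
  obtain ⟨z, hz⟩ := hbij.2 (IsLocalRing.residue _ y)
  obtain ⟨z, rfl⟩ := IsLocalRing.residue_surjective z
  rw [← hz]
  show _ = IsLocalRing.ResidueField.map f (e.symm (e (IsLocalRing.residue _ z)))
  rw [e.symm_apply_apply, IsLocalRing.ResidueField.map_residue, ← RingHom.congr_fun hc z]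
  refine Eq.trans (IsLocalRing.ResidueField.map_residue _ _).symm ?_
  rw [← hz, IsLocalRing.ResidueField.map_residue, IsLocalRing.ResidueField.map_residue]
  rfl

end Groth.Agent.S10440
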