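import Groth.Statements.S10443
import Groth.Agent.Lib.AlgSpDecent.DimDecent
import Groth.Agent.Lib.Cyc.InducedDimFun

set_option autoImplicit false
universe u
open CategoryTheory CategoryTheory.Limits AlgebraicGeometry Topology TopologicalSpace
open AlgSp

namespace Groth.Agent.S10443

open Groth.Agent.Lib.AlgSpDecent Groth.Agent.Lib.AlgSpDecent.Decent

/-- Let S be a locally Noetherian, universally catenary scheme carrying a dimension function δ, and X a
decent algebraic space over S that is locally of finite type over S. Define δ_X : |X| → ℤ by δ_X(x)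
= δ(s) + (transcendence degree of x over s), s the image of x in S; concretely, for an etale
surjective chart U ⟶ X with U locally of finite type over S, the composite of δ_X with |U| → |X| is
the function induced from δ along U ⟶ S. Then δ_X is a dimension function: strictly decreasing along
nontrivial specializations, and dropping by one along immediate ones. -/
theorem result {S : Scheme.{u}} (δ : ↥S → ℤ) (hS : Cyc.IsSetup S δ)
    (X : AlgSp.Space S) (hX : AlgSp.IsDecent X.obj) {U : Over S} (a : (AlgSp.yon S).obj U ⟶ X.obj)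
    (ha : AlgSp.RepWith @Etale a) (hs : AlgSp.RepWith @Surjective a) [LocallyOfFiniteType U.hom]
    (δX : AlgSp.Points X.obj → ℤ) (hδ : Cyc.DeltaCompat U.hom (δX ∘ AlgSp.Points.ofPt a) δ) :
    ∀ x y : AlgSp.Points X.obj, x ⤳ y → x ≠ y →
      δX y < δX x ∧ ((∀ z : AlgSp.Points X.obj, x ⤳ z → z ⤳ y → z = x ∨ z = y) → δX x = δX y + 1) := by
  have := hS.1
  have hd := Groth.Agent.Lib.Cyc.InducedDimFun.isDimFun (U.hom)
    hS.2.2 hS.2.1 (δX := δX ∘ AlgSp.Points.ofPt a) hδ
  intro x y hxy hne
  obtain ⟨v, rfl⟩ := Groth.Agent.Lib.AlgSpDecent.Core.surjective_ofPt hs y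
  obtain ⟨u, huv, rfl⟩ := IsDecent.exists_lift hX ha hxy
  have hne' : u ≠ v := fun e => hne (e ▸ rfl)
  refine ⟨(hd u v huv hne').1, fun h => (hd u v huv hne').2 fun w huw hwv => ?_⟩
  rcases h _ (huw.map (AlgSp.Points.continuous_ofPt a)) (hwv.map (AlgSp.Points.continuous_ofPt a)) with e | e
  · exact Or.inl (IsDecent.eq_of_specializes hX ha e huw)
  · exact Or.inr (IsDecent.eq_of_specializes hX ha e.symm hwv).symm

end Groth.Agent.S10443
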