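import Groth.Statements.S10444
import Groth.Agent.Lib.AlgSpDecent.FibreQf
import Groth.Agent.Lib.TopDim.Basic

set_option autoImplicit false
universe u
open CategoryTheory CategoryTheory.Limits AlgebraicGeometry Topology TopologicalSpace
open AlgSp

namespace Groth.Agent.S10444

open Groth.Agent.Lib.AlgSpace Groth.Agent.Lib.AlgSpDecent

/-- Take f : X ⟶ Y locally of finite type between algebraic spaces over a scheme S, a field-valued point
Spec k ⟶ Y whose class y ∈ |Y| lies in the image of |f|, the fibre product X_k = Spec k ×_Y X, and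
the fibre F = |f|⁻¹(y) ⊆ |X| with the induced topology. Numbering the conditions (1) F finite, (2) F
discrete, (3) dim F = 0, (4) |X_k| finite, (5) |X_k| discrete, (6) dim |X_k| = 0, (7) dim X_k = 0,
(8) f quasi-finite at all points over y: (5) ⇔ (7) ⇔ (8); (5) ⇒ (6), with the converse when X_k is
decent; (4) ⇒ (5) when X_k is decent; (4) ⇒ (1); (2) ⇒ (3); if Y is decent then (2) ⇔ (5); if X and
Y are decent then (3) ⇒ (2) and (1) ⇒ (2). (The published statement asserts (5) ⇔ (6) for every f
and (2) ⇔ (3) whenever Y is decent, and does not exclude an empty fibre; for the quotient of the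
affine line over a field of characteristic zero by an infinite cyclic group of translations, mapping
to the point, the space of points is infinite and indiscrete, so (3) and (6) hold while (2) and (5)
fail, and for y outside the image (5) holds while (6) and (7) fail; hence the decency hypotheses on
those two converses and the hypothesis that y is in the image. Finiteness of |X_k| for an arbitrary
field k in the class of y is not derived here from (1).) -/
theorem result {S : Scheme.{u}} {X Y : AlgSp.Space S} (f : X ⟶ Y)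
    (hf : AlgSp.LocP @LocallyOfFiniteType f.hom) (r : AlgSp.FieldPt Y.obj)
    (hy : AlgSp.Points.mk r ∈ Set.range (AlgSp.Points.map f.hom)) (Xk : AlgSp.Space S) (fst : Xk ⟶ X)
    (snd : Xk.obj ⟶ (AlgSp.yon S).obj r.pt) (hsq : IsPullback fst.hom snd f.hom r.toHom) :
    (DiscreteTopology (AlgSp.Points Xk.obj) ↔ AlgSp.dim Xk.obj = 0) ∧
    (AlgSp.dim Xk.obj = 0 ↔
      ∀ x : AlgSp.Points X.obj, AlgSp.Points.map f.hom x = AlgSp.Points.mk r → AlgSp.HasAtMor (fun U _ h u => ∃ W : U.Opens, u ∈ W ∧ LocallyQuasiFinite (W.ι ≫ h) ∧ LocallyOfFiniteType (W.ι ≫ h)) f.hom x) ∧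
    (DiscreteTopology (AlgSp.Points Xk.obj) → topologicalKrullDim (AlgSp.Points Xk.obj) = 0) ∧
    (AlgSp.IsDecent Xk.obj → topologicalKrullDim (AlgSp.Points Xk.obj) = 0 →
      DiscreteTopology (AlgSp.Points Xk.obj)) ∧
    (AlgSp.IsDecent Xk.obj → Finite (AlgSp.Points Xk.obj) → DiscreteTopology (AlgSp.Points Xk.obj)) ∧
    (Finite (AlgSp.Points Xk.obj) → (AlgSp.Points.map f.hom ⁻¹' {AlgSp.Points.mk r}).Finite) ∧
    (DiscreteTopology ↥(AlgSp.Points.map f.hom ⁻¹' {AlgSp.Points.mk r}) → topologicalKrullDim ↥(AlgSp.Points.map f.hom ⁻¹' {AlgSp.Points.mk r}) = 0) ∧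
    (AlgSp.IsDecent Y.obj → (DiscreteTopology ↥(AlgSp.Points.map f.hom ⁻¹' {AlgSp.Points.mk r}) ↔ DiscreteTopology (AlgSp.Points Xk.obj))) ∧
    (AlgSp.IsDecent Y.obj → AlgSp.IsDecent X.obj →
      (topologicalKrullDim ↥(AlgSp.Points.map f.hom ⁻¹' {AlgSp.Points.mk r}) = 0 → DiscreteTopology ↥(AlgSp.Points.map f.hom ⁻¹' {AlgSp.Points.mk r})) ∧
        ((AlgSp.Points.map f.hom ⁻¹' {AlgSp.Points.mk r}).Finite → DiscreteTopology ↥(AlgSp.Points.map f.hom ⁻¹' {AlgSp.Points.mk r}))) := by
  have hX := X.property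
  have hY := Y.property
  have h58 := FibreQf.discrete_iff_qf hX hY hf hsq
  have h78 := FibreQf.dim_eq_zero_iff_qf hX hY hf hsq hy
  have hne : Nonempty (AlgSp.Points Xk.obj) := by
    obtain ⟨z, -⟩ := (FibreQf.range_fst hsq).ge (show hy.choose ∈ _ from hy.choose_spec)
    exact ⟨z⟩
  refine ⟨h58.trans h78.symm, h78, fun _ => le_antisymm (topologicalKrullDim_zero_of_discreteTopology _) Groth.Agent.Lib.TopDim.Basic.topologicalKrullDim_nonneg, fun hd h => ?_,
    fun hd _ => FibreQf.discrete_of_finite hX hY hf hsq hd, fun _ => ?_, fun _ => ?_, fun hdY => ?_, fun hdY hdX => ?_⟩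
  · exact h58.2 (h78.1 ((DimDecent.dim_points_eq Xk.property hd).symm.trans h))
  · rw [← FibreQf.range_fst hsq]
    exact Set.finite_range _
  · obtain ⟨x, hx⟩ := hy
    have : Nonempty ↥(AlgSp.Points.map f.hom ⁻¹' {AlgSp.Points.mk r}) := ⟨⟨x, hx⟩⟩
    exact le_antisymm (topologicalKrullDim_zero_of_discreteTopology _) Groth.Agent.Lib.TopDim.Basic.topologicalKrullDim_nonneg
  · obtain ⟨p, P, q₁, q₂, e, hp, sqP, -, -⟩ := FibreQf.exists_model hX hY f.hom hdY (AlgSp.Points.mk r)
    have h0 := FibreQf.discrete_iff_qf hX hY hf sqP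
    rw [hp] at h0
    refine Iff.trans ⟨fun _ => e.discreteTopology_iff.2 inferInstance, fun _ => e.discreteTopology_iff.1 inferInstance⟩ (h0.trans h58.symm)
  · obtain ⟨p, P, q₁, q₂, e, hp, sqP, -, hdP⟩ := FibreQf.exists_model hX hY f.hom hdY (AlgSp.Points.mk r)
    have hAP := FibreQf.isAlgSpace_fibre hX hY sqP
    refine ⟨fun h => ?_, fun h => ?_⟩
    · rw [← IsHomeomorph.topologicalKrullDim_eq _ e.isHomeomorph, DimDecent.dim_points_eq hAP (hdP hdX)] at h
      have : DiscreteTopology (AlgSp.Points P) := (FibreQf.discrete_iff_qf hX hY hf sqP).2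
        ((FibreQf.dim_eq_zero_iff_qf hX hY hf sqP (hp ▸ hy)).1 h)
      exact e.discreteTopology_iff.1 inferInstance
    · have := h.to_subtype
      have : Finite (AlgSp.Points P) := Finite.of_equiv _ e.toEquiv.symm
      have := FibreQf.discrete_of_finite hX hY hf sqP (hdP hdX)
      exact e.discreteTopology_iff.1 inferInstance

end Groth.Agent.S10444
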