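import Groth.Statements.S10445
import Groth.Agent.Lib.AlgSpDecent.FibreQf

set_option autoImplicit false
universe u
open CategoryTheory CategoryTheory.Limits AlgebraicGeometry Topology TopologicalSpace
open AlgSp

namespace Groth.Agent.S10445

open Groth.Agent.Lib.AlgSpace Groth.Agent.Lib.AlgSpDecent

/-- Take f : X ⟶ Y locally of finite type between algebraic spaces over a scheme S, a field-valued point
Spec k ⟶ Y with class y, the fibre product X_k = Spec k ×_Y X, x ∈ |X| over y, x̃ ∈ |X_k| over x,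
and F = |f|⁻¹(y) with the induced topology. Numbering the conditions (1) dim_x F = 0, (2) x isolated
in F, (3) x closed in F with no proper generization in F, (4) dim_{x̃} |X_k| = 0, (5) x̃ isolated in
|X_k|, (6) x̃ closed in |X_k| with no proper generization, (7) dim_{x̃}(X_k) = 0 (local dimension of
an etale chart), (8) f quasi-finite at x: (5) ⇔ (6) ⇔ (7) ⇔ (8); (4) ⇔ (5) when X_k is decent; (2) ⇔
(5) and (3) ⇔ (6) when Y is decent; (1) ⇔ (2) when X and Y are decent. -/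
theorem result {S : Scheme.{u}} {X Y : AlgSp.Space S} (f : X ⟶ Y)
    (hf : AlgSp.LocP @LocallyOfFiniteType f.hom) (r : AlgSp.FieldPt Y.obj) (Xk : AlgSp.Space S) (fst : Xk ⟶ X)
    (snd : Xk.obj ⟶ (AlgSp.yon S).obj r.pt) (hsq : IsPullback fst.hom snd f.hom r.toHom)
    (x : AlgSp.Points X.obj) (hx : x ∈ (AlgSp.Points.map f.hom ⁻¹' {AlgSp.Points.mk r})) (xt : AlgSp.Points Xk.obj)
    (hxt : AlgSp.Points.map fst.hom xt = x) :
    ((IsOpen ({xt} : Set (AlgSp.Points Xk.obj)) ↔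
      IsClosed ({xt} : Set (AlgSp.Points Xk.obj)) ∧ ∀ x' : AlgSp.Points Xk.obj, x' ⤳ xt → x' = xt) ∧
    (IsOpen ({xt} : Set (AlgSp.Points Xk.obj)) ↔ AlgSp.HasAt (fun U u => FlatMor.localDim ↥U u = 0) Xk.obj xt) ∧
    (AlgSp.HasAt (fun U u => FlatMor.localDim ↥U u = 0) Xk.obj xt ↔ AlgSp.HasAtMor (fun U _ h u => ∃ W : U.Opens, u ∈ W ∧ LocallyQuasiFinite (W.ι ≫ h) ∧ LocallyOfFiniteType (W.ι ≫ h)) f.hom x) ∧
    (AlgSp.IsDecent Xk.obj →
      (FlatMor.localDim (AlgSp.Points Xk.obj) xt = 0 ↔ IsOpen ({xt} : Set (AlgSp.Points Xk.obj)))) ∧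
    (AlgSp.IsDecent Y.obj →
      (IsOpen ({(⟨x, hx⟩ : ↥(AlgSp.Points.map f.hom ⁻¹' {AlgSp.Points.mk r}))} : Set ↥(AlgSp.Points.map f.hom ⁻¹' {AlgSp.Points.mk r})) ↔ IsOpen ({xt} : Set (AlgSp.Points Xk.obj))) ∧
      ((IsClosed ({(⟨x, hx⟩ : ↥(AlgSp.Points.map f.hom ⁻¹' {AlgSp.Points.mk r}))} : Set ↥(AlgSp.Points.map f.hom ⁻¹' {AlgSp.Points.mk r})) ∧ ∀ x' : ↥(AlgSp.Points.map f.hom ⁻¹' {AlgSp.Points.mk r}), x' ⤳ (⟨x, hx⟩ : ↥(AlgSp.Points.map f.hom ⁻¹' {AlgSp.Points.mk r})) → x' = (⟨x, hx⟩ : ↥(AlgSp.Points.map f.hom ⁻¹' {AlgSp.Points.mk r}))) ↔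
        IsClosed ({xt} : Set (AlgSp.Points Xk.obj)) ∧ ∀ x' : AlgSp.Points Xk.obj, x' ⤳ xt → x' = xt)) ∧
    (AlgSp.IsDecent Y.obj → AlgSp.IsDecent X.obj →
      (FlatMor.localDim ↥(AlgSp.Points.map f.hom ⁻¹' {AlgSp.Points.mk r}) (⟨x, hx⟩ : ↥(AlgSp.Points.map f.hom ⁻¹' {AlgSp.Points.mk r})) = 0 ↔ IsOpen ({(⟨x, hx⟩ : ↥(AlgSp.Points.map f.hom ⁻¹' {AlgSp.Points.mk r}))} : Set ↥(AlgSp.Points.map f.hom ⁻¹' {AlgSp.Points.mk r}))))) := by
  have hX := X.property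
  have hY := Y.property
  have h68 := FibreQf.isOpen_iff_qf hX hY hf hsq xt
  rw [hxt] at h68
  have h56 := FibreQf.isOpen_iff_extremal hX hY hf hsq xt
  have h57 := FibreQf.isOpen_iff_hasAt hX hY hf hsq xt
  refine ⟨h56, h57, h57.symm.trans h68, fun hd => FibreQf.localDim_iff_of_decent hX hY hf hsq hd xt, fun hdY => ?_, fun hdY hdX => ?_⟩
  all_goals
    obtain ⟨p, P, q₁, q₂, e, hp, sqP, he, hdP⟩ := FibreQf.exists_model hX hY f.hom hdY (AlgSp.Points.mk r)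
    obtain ⟨z, hz⟩ := e.surjective ⟨x, hx⟩
    have hzx : AlgSp.Points.map q₁ z = x := (he z).symm.trans (congrArg Subtype.val hz)
    have hopen : IsOpen ({e z} : Set ↥(AlgSp.Points.map f.hom ⁻¹' {AlgSp.Points.mk r})) ↔ IsOpen ({z} : Set (AlgSp.Points P)) := by
      rw [← e.isOpen_preimage, ← Set.image_singleton (f := ⇑e) (a := z), e.preimage_image]
  · have h2 := FibreQf.isOpen_iff_qf hX hY hf sqP z
    rw [hzx] at h2
    rw [← hz]
    refine ⟨hopen.trans (h2.trans h68.symm), ?_⟩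
    rw [← h56, h68, ← h2, FibreQf.isOpen_iff_extremal hX hY hf sqP z]
    refine and_congr ?_ ?_
    · rw [← e.isClosed_preimage, ← Set.image_singleton (f := ⇑e) (a := z), e.preimage_image]
    · refine ⟨fun h z' hz' => e.injective (h _ (hz'.map e.continuous)), fun h x' hx' => ?_⟩
      obtain ⟨z', rfl⟩ := e.surjective x'
      exact congrArg e (h z' (by simpa using hx'.map e.symm.continuous))
  · rw [← hz, hopen, ← FibreQf.localDim_iff_of_decent hX hY hf sqP (hdP hdX) z,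
      Groth.Agent.Lib.FibreDim.Basic.localDim_eq_of_homeomorph e z]

end Groth.Agent.S10445
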