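import Groth.Statements.S10446
import Groth.Agent.S10398
import Groth.Agent.Lib.AlgSpDecent.ChartOver
import Groth.Agent.Lib.AlgSpDecent.GenericFiniteDense

set_option autoImplicit false
universe u
open CategoryTheory CategoryTheory.Limits AlgebraicGeometry Topology TopologicalSpace
open AlgSp

namespace Groth.Agent.S10446

open Groth.Agent.Lib Groth.Agent.Lib.AlgSpace

/-- (1) ⇔ (3): let S be a scheme with quasi-separated underlying space, f : X ⟶ Y a quasi-separated
morphism of algebraic spaces over S that is locally of finite type, with Y quasi-separated over S,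
and y ∈ |Y| a point of codimension 0. Then |f|⁻¹(y) is finite if and only if f restricts to a finite
morphism X' ⟶ Y' between an open subspace X' of X containing the whole fibre |f|⁻¹(y) and an open
subspace Y' of Y through y. (The published statement assumes Y quasi-separated in the absolute
sense; this row assumes S has quasi-separated underlying space and Y quasi-separated over S. Its
condition on the finiteness of |Spec k ×_Y X| is not part of this row.) -/
theorem result {S : Scheme.{u}} [QuasiSeparatedSpace ↥S] {X Y : AlgSp.Space S}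
    (f : X ⟶ Y) (hqs : AlgSp.IsQuasiSeparatedMor f.hom) (hft : AlgSp.LocP @LocallyOfFiniteType f.hom)
    (hY : AlgSp.IsQuasiSeparatedSp Y.obj) (y : AlgSp.Points Y.obj)
    (hy : AlgSp.HasAt (fun U u => ringKrullDim ↥(U.presheaf.stalk u) = 0) Y.obj y) :
    (AlgSp.Points.map f.hom ⁻¹' {y}).Finite ↔
      ∃ (X' Y' : AlgSp.Space S) (i : X' ⟶ X) (j : Y' ⟶ Y) (f' : X' ⟶ Y'), AlgSp.RepWith @IsOpenImmersion i.hom ∧
        AlgSp.RepWith @IsOpenImmersion j.hom ∧ f' ≫ j = i ≫ f ∧ y ∈ Set.range (AlgSp.Points.map j.hom) ∧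
          AlgSp.Points.map f.hom ⁻¹' {y} ⊆ Set.range (AlgSp.Points.map i.hom) ∧ AlgSp.IsFiniteMor f'.hom := by
  have hdecY : IsDecent Y.obj := AlgSpDecent.QS.isDecent_of_isQuasiSeparatedSp Y.property hY
  constructor
  · intro hfin
    have hdecX : IsDecent X.obj := AlgSpDecent.Decent.isDecent_of_isDecentMor
      (AlgSpDecent.QS.isDecentMor_of_isQuasiSeparatedMor X.property Y.property hqs) hdecY
    obtain ⟨U, a, hU, ha, hcov⟩ := AlgSpDecent.GenericFiniteDense.exists_affine_chart_finite X.property hfin
    obtain ⟨F, i, hF, hi, hir⟩ := exists_open_subspace X.property (AlgSpDecent.Core.isOpen_range_ofPt ha)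
    have : IsAffine U.left := hU
    have : CompactSpace (AlgSp.Points F) := ⟨by
      rw [(isOpenEmbedding_map hi).isEmbedding.isCompact_iff, Set.image_univ, hir]
      exact isCompact_range (AlgSp.Points.continuous_ofPt a)⟩
    have : MorphismProperty.IsStableUnderComposition @Etale.{u} := ⟨fun f g (_ : Etale f) (_ : Etale g) ↦ inferInstanceAs (Etale (f ≫ g))⟩
    have hie : RepWith @Etale i := repWith_mono hi fun _ _ g (_ : IsOpenImmersion g) => (inferInstance : Etale g)
    have : Mono i := mono_of_repWith (P := @IsOpenImmersion)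
      (fun _ _ g (_ : IsOpenImmersion g) ↦ (inferInstance : Mono g)) hi
    have hlft : LocP @LocallyOfFiniteType (i ≫ f.hom) := fun U' V' a' b' h' ha' hb' hw =>
      hft (a' ≫ i) b' h' (repWith_comp ha' hie) hb' (by rw [Category.assoc]; exact hw)
    have hqs' : IsQuasiSeparatedMor (i ≫ f.hom) :=
      AlgSpMor.Proper.repWith_diagonal_comp _ (repWith_mono (AlgSpMor.Proper.isSeparatedMor_of_mono_repWith i)
        fun _ _ g (_ : IsClosedImmersion g) => (inferInstance : QuasiCompact g)) hqs
    have hqc : IsQuasiCompactMor (i ≫ f.hom) := by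
      refine AlgSpMor.Perm.isQuasiCompactMor_of_comp hF Y.property (IsAlgSpace.yon_obj _).diag
        (g := AlgSpMor.Perm.toBase Y.obj) ?_ ?_
      · rw [(Over.mkIdTerminal.isTerminalObj (yon S)).hom_ext (_ ≫ AlgSpMor.Perm.toBase Y.obj) (AlgSpMor.Perm.toBase F)]
        exact AlgSpMor.Perm.isQuasiCompactMor_toBase hF
      · let q := AlgSpMor.Perm.toBase Y.obj
        let e : pullback q q ≅ Y.obj ⨯ Y.obj :=
          { hom := prod.lift (pullback.fst q q) (pullback.snd q q)
            inv := pullback.lift prod.fst prod.snd ((Over.mkIdTerminal.isTerminalObj (yon S)).hom_ext _ _)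
            hom_inv_id := by
              apply pullback.hom_ext
              · rw [Category.assoc, pullback.lift_fst, prod.lift_fst, Category.id_comp]
              · rw [Category.assoc, pullback.lift_snd, prod.lift_snd, Category.id_comp]
            inv_hom_id := by
              apply prod.hom_ext
              · rw [Category.assoc, prod.lift_fst, pullback.lift_fst, Category.id_comp]
              · rw [Category.assoc, prod.lift_snd, pullback.lift_snd, Category.id_comp] }
        have : IsIso e.hom := Iso.isIso_hom e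
        have sq : IsPullback (𝟙 Y.obj) (pullback.diagonal q) (Limits.diag Y.obj) e.hom :=
          IsPullback.of_horiz_isIso ⟨by apply prod.hom_ext <;> simp [e]⟩
        exact repWith_baseChange sq hY
    obtain ⟨V, b, v, hb, rfl, hv⟩ := hy
    have hvg := (AlgSpMor.Codim.dim0_iff v).1 hv
    obtain ⟨Y', X'', j, fst, snd, hj, hy', sq, hfin'⟩ := Groth.Agent.S10398.result (X := ⟨F, hF⟩) (Y := Y)
      (ObjectProperty.homMk (i ≫ f.hom)) hqs' ⟨hlft, hqc⟩ (Points.ofPt b v) ⟨V, b, v, hb, rfl, hv⟩ (fun x' hx' => by
        obtain ⟨U', a', h', u', hU', ha', hw', hau, hhu⟩ :=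
          AlgSpDecent.ChartOver.exists_chart_through hF Y.property (i ≫ f.hom) hb v x' hx'
        subst hau
        refine ⟨U', V, a', b, h', u', ha', hb, hw', rfl, ?_⟩
        have : LocallyOfFiniteType h'.left := hlft a' b h' ha' hb hw'
        refine AlgSpDecent.FiniteNhd.qfAt_of_finite_fibre h'.left u' ?_
        refine ((hfin.biUnion fun x _ => AlgSpDecent.Decent.IsDecent.finite_fibres hdecX x U' (a' ≫ i) hU'
          (repWith_comp ha' hie))).subset fun w hw => ?_
        refine Set.mem_iUnion₂.2 ⟨AlgSp.Points.ofPt (a' ≫ i) w, ?_, rfl⟩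
        show AlgSp.Points.map f.hom _ = _
        rw [← AlgSpDecent.Core.ofPt_comp, Category.assoc, hw', AlgSpDecent.Core.ofPt_map_comp,
          Set.mem_singleton_iff.1 hw, hhu])
    have hsnd : RepWith @IsOpenImmersion snd.hom := repWith_baseChange sq hj
    refine ⟨X'', Y', snd ≫ ObjectProperty.homMk i, j, fst, repWith_comp hsnd hi, hj, ?_, hy', ?_, hfin'⟩
    · apply ObjectProperty.hom_ext
      show fst.hom ≫ j.hom = (snd.hom ≫ i) ≫ f.hom
      rw [Category.assoc]
      exact sq.w
    · intro x hx
      obtain ⟨x', rfl⟩ := hir.ge (hcov hx)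
      obtain ⟨y', hy''⟩ := hy'
      obtain ⟨z, -, hz⟩ := AlgSpDecent.Core.exists_point_of_isPullback sq y' x' (by
        rw [hy'']
        exact (Set.mem_singleton_iff.1 hx).symm.trans (AlgSp.Points.map_comp _ _ _).symm)
      refine ⟨z, ?_⟩
      show AlgSp.Points.map (snd.hom ≫ i) z = _
      rw [AlgSp.Points.map_comp, hz]
  · rintro ⟨X', Y', i, j, f', hi, hj, hw, ⟨y', rfl⟩, hsub, hfin⟩
    obtain ⟨V, b, v, hV, hb, hv⟩ := AlgSpDecent.DimIntegral.exists_affine_chart_pt Y'.property y'
    subst hv
    obtain ⟨W, g, c, sq, hW, hg⟩ := hfin hV b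
    have hfinW : (g.left ⁻¹' {v}).Finite := g.left.finite_preimage_singleton v
    refine ((hfinW.image (fun w => AlgSp.Points.map i.hom (AlgSp.Points.ofPt c w)))).subset fun x hx => ?_
    obtain ⟨x', rfl⟩ := hsub hx
    have : Mono j.hom := mono_of_repWith (P := @IsOpenImmersion)
      (fun _ _ g (_ : IsOpenImmersion g) ↦ (inferInstance : Mono g)) hj
    have hx' : AlgSp.Points.map f'.hom x' = AlgSp.Points.ofPt b v := by
      refine AlgSpDecent.Core.injective_map_of_mono j.hom ?_
      rw [← AlgSp.Points.map_comp]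
      refine Eq.trans ?_ hx
      rw [← AlgSp.Points.map_comp]
      exact congrArg (fun φ : X'.obj ⟶ Y.obj => AlgSp.Points.map φ x') (congrArg (·.hom) hw)
    obtain ⟨z, hz₁, hz₂⟩ := AlgSpDecent.Core.exists_point_of_isPullback sq x' (AlgSp.Points.ofPt (𝟙 ((yon S).obj V)) v)
      (by rw [← AlgSpDecent.Core.ofPt_comp, Category.id_comp, hx'])
    obtain ⟨w, rfl⟩ := (AlgSp.Points.schemeEquiv W).surjective z
    refine ⟨w, ?_, ?_⟩
    · show g.left w = v
      apply (AlgSp.Points.schemeEquiv V).injective
      simp only [AlgSp.Points.schemeEquiv]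
      refine (AlgSpDecent.Core.ofPt_yon_map g w).symm.trans ?_
      rw [← Category.id_comp ((yon S).map g), AlgSpDecent.Core.ofPt_comp]
      refine Eq.trans ?_ (hz₂.trans ((congrArg (fun φ => AlgSp.Points.ofPt φ v) ((yon S).map_id V).symm).trans (AlgSpDecent.Core.ofPt_yon_map (𝟙 V) v)))
      rfl
    · show AlgSp.Points.map i.hom _ = AlgSp.Points.map i.hom x'
      rw [← hz₁, ← Category.id_comp c, AlgSpDecent.Core.ofPt_comp]
      rfl

end Groth.Agent.S10446
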