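import Groth.Statements.S10458
import Groth.Agent.Lib.AlgSpMor.ProperImage
import Groth.Agent.Lib.AlgSpDecent.FibreQf
import Groth.Agent.Lib.AlgSpDecent.FiniteNhd
import Groth.Agent.Lib.AlgSpDecent.QS
import Groth.Agent.Lib.AlgSpDecent.Sober
import Groth.Agent.Lib.AlgSpDecent.RedInduced

set_option autoImplicit false
universe u
open CategoryTheory CategoryTheory.Limits AlgebraicGeometry Topology TopologicalSpace
open AlgSp

namespace Groth.Agent.S10458

/-- Suppose f : X ⟶ Y is a morphism of algebraic spaces over a scheme S that is proper and surjective,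
with Y integral. Then there is an integral closed subspace X' of X such that the restriction X' ⟶ Y
is an alteration: proper and dominant with X' integral, and finite over some nonempty open subspace
of Y. -/
theorem result {S : Scheme.{u}} {X Y : AlgSp.Space S} (f : X ⟶ Y)
    (hf : AlgSp.IsProperMor f.hom) (hs : AlgSp.IsSurjectiveMor f.hom) (hY : AlgSp.IsIntegralSp Y.obj) :
    ∃ (X' : AlgSp.Space S) (i : X' ⟶ X), AlgSp.RepWith @IsClosedImmersion i.hom ∧ AlgSp.IsIntegralSp X'.obj ∧
      AlgSp.IsProperMor (i ≫ f).hom ∧ AlgSp.IsDominantMor (i ≫ f).hom ∧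
      ∃ (V : AlgSp.Space S) (j : V ⟶ Y), AlgSp.RepWith @IsOpenImmersion j.hom ∧ Nonempty (AlgSp.Points V.obj) ∧
        ∀ (P : AlgSp.Space S) (fst : P ⟶ V) (snd : P ⟶ X'), IsPullback fst.hom snd.hom j.hom (i ≫ f).hom →
          AlgSp.IsFiniteMor fst.hom := by
  have hqs : ∀ {A B : AlgSp.Sp S} {φ : A ⟶ B}, AlgSp.IsSeparatedMor φ →
      AlgSp.IsQuasiSeparatedMor φ := fun hφ => Groth.Agent.Lib.AlgSpace.repWith_mono hφ
    fun _ _ q (_ : IsClosedImmersion q) => (inferInstance : QuasiCompact q)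
  have hXd : AlgSp.IsDecent X.obj := Groth.Agent.Lib.AlgSpDecent.Decent.isDecent_of_isDecentMor
    (Groth.Agent.Lib.AlgSpDecent.QS.isDecentMor_of_isQuasiSeparatedMor X.property Y.property
      (hqs hf.1)) hY.2.1
  haveI := hY.2.2
  haveI := Groth.Agent.Lib.AlgSpDecent.Sober.quasiSober_points Y.property hY.2.1
  obtain ⟨η, hη⟩ : ∃ η : AlgSp.Points Y.obj, IsGenericPoint η Set.univ :=
    ⟨_, (IrreducibleSpace.isIrreducible_univ _).isGenericPoint_genericPoint isClosed_univ⟩
  -- a closed point of the generic fibre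
  obtain ⟨p, P, q₁, q₂, e, hp, sqP, he, hPd⟩ :=
    Groth.Agent.Lib.AlgSpDecent.FibreQf.exists_model X.property Y.property f.hom hY.2.1 η
  have hP := Groth.Agent.Lib.AlgSpDecent.FibreQf.isAlgSpace_fibre X.property Y.property sqP
  haveI : CompactSpace (AlgSp.Points P) := by
    haveI : IsAffine p.pt.left := inferInstanceAs (IsAffine (Spec (CommRingCat.of p.K)))
    exact Groth.Agent.Lib.AlgSpMor.QC.compactSpace_of_isQuasiCompactMor hf.2.1.2 sqP
  haveI : Nonempty (AlgSp.Points P) := by
    obtain ⟨x, hx⟩ := hs η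
    exact ⟨e.symm ⟨x, hx⟩⟩
  haveI := Groth.Agent.Lib.AlgSpDecent.Decent.t0Space_points hP (hPd hXd)
  obtain ⟨z, -, hz⟩ := (isClosed_univ (X := AlgSp.Points P)).exists_closed_singleton Set.univ_nonempty
  set x : AlgSp.Points X.obj := (e z : AlgSp.Points X.obj) with hxdef
  have hfx : AlgSp.Points.map f.hom x = η := (e z).2
  have hclosed : ∀ x', x ⤳ x' → AlgSp.Points.map f.hom x' = η → x' = x := by
    intro x' hs' hx'
    have h1 : e z ⤳ ⟨x', hx'⟩ := (subtype_specializes_iff _ _).2 hs'
    have h2 : z ⤳ e.symm ⟨x', hx'⟩ := by simpa using h1.map e.symm.continuous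
    have h3 : e.symm ⟨x', hx'⟩ = z := hz.closure_subset (specializes_iff_mem_closure.1 h2)
    rw [hxdef, ← h3, Homeomorph.apply_symm_apply]
  -- the closure of this point
  obtain ⟨Z, i, hZ, hi, hr, hred⟩ :=
    Groth.Agent.Lib.AlgSpDecent.RedInduced.exists_redInduced X.property (isClosed_closure (s := {x}))
  let X' : AlgSp.Space S := ⟨Z, hZ⟩
  let i' : X' ⟶ X := ObjectProperty.homMk i
  haveI : Mono i := Groth.Agent.Lib.AlgSpace.mono_of_repWith (P := @IsClosedImmersion)
    (fun _ _ q (_ : IsClosedImmersion q) => (inferInstance : Mono q)) hi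
  have hemb : Topology.IsInducing (AlgSp.Points.map i) := by
    haveI : Mono i := inferInstance
    exact (Topology.IsClosedEmbedding.of_continuous_injective_isClosedMap
      (AlgSp.Points.continuous_map _) (Groth.Agent.Lib.AlgSpace.injective_map_of_mono i)
      (Groth.Agent.Lib.AlgSpMor.Proper.isClosedMap_of_isUnivClosedMor X.property
        (Groth.Agent.Lib.AlgSpMor.Proper.isProperMor_of_closedImmersion hi).2.2)).isInducing
  have hirr : IrreducibleSpace (AlgSp.Points Z) := by
    have h0 : IsIrreducible (Set.univ : Set (AlgSp.Points Z)) := by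
      obtain ⟨w, hw⟩ : x ∈ Set.range (AlgSp.Points.map i) := hr ▸ subset_closure rfl
      have hwg : closure {w} = Set.univ := by
        rw [hemb.closure_eq_preimage_closure_image, Set.image_singleton, hw, ← hr,
          Set.preimage_range]
      exact hwg ▸ isIrreducible_singleton.closure
    exact irreducibleSpace_def _ |>.2 h0
  have hint : AlgSp.IsIntegralSp Z :=
    ⟨hred, Groth.Agent.Lib.AlgSpDecent.Decent.isDecent_of_representable hi.rep hXd, hirr⟩
  have hp' : AlgSp.IsProperMor (i' ≫ f).hom :=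
    Groth.Agent.Lib.AlgSpMor.Proper.isProperMor_comp hZ X.property Y.property
      (Groth.Agent.Lib.AlgSpMor.Proper.isProperMor_of_closedImmersion hi) hf
  have hdom : AlgSp.IsDominantMor (i' ≫ f).hom := by
    obtain ⟨w, hw⟩ : x ∈ Set.range (AlgSp.Points.map i) := hr ▸ subset_closure rfl
    refine fun y => closure_mono (s := {η}) ?_ (hη.def.symm ▸ Set.mem_univ y)
    refine Set.singleton_subset_iff.2 ⟨w, by
      show AlgSp.Points.map (i ≫ f.hom) w = η
      rw [AlgSp.Points.map_comp, hw, hfx]⟩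
  refine ⟨X', i', hi, hint, hp', hdom, ?_⟩
  -- finiteness near the generic point
  obtain ⟨p', P', r₁, r₂, e', hp'η, sqP', he', hP'd⟩ :=
    Groth.Agent.Lib.AlgSpDecent.FibreQf.exists_model hZ Y.property (i' ≫ f).hom hY.2.1 η
  haveI : Subsingleton ↥(AlgSp.Points.map (i' ≫ f).hom ⁻¹' {η}) := ⟨by
    rintro ⟨w, hw⟩ ⟨w', hw'⟩
    apply Subtype.ext
    apply Groth.Agent.Lib.AlgSpace.injective_map_of_mono i
    have key : ∀ v, AlgSp.Points.map (i' ≫ f).hom v = η → AlgSp.Points.map i v = x := fun v hv => by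
      refine hclosed _ (specializes_iff_mem_closure.2 (hr.subset ⟨v, rfl⟩)) ?_
      rw [← AlgSp.Points.map_comp]
      exact hv
    rw [key w hw, key w' hw']⟩
  haveI : Subsingleton (AlgSp.Points P') := e'.toEquiv.subsingleton
  haveI : Finite (AlgSp.Points P') := Finite.of_subsingleton
  have hqf := (Groth.Agent.Lib.AlgSpDecent.FibreQf.discrete_iff_qf hZ Y.property hp'.2.1.1 sqP').1
    (Groth.Agent.Lib.AlgSpDecent.FibreQf.discrete_of_finite hZ Y.property hp'.2.1.1 sqP'
      (hP'd hint.2.1))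
  obtain ⟨V, j, hj, hηj, hfinite⟩ := Groth.Agent.Lib.AlgSpDecent.FiniteNhd.exists_open_finite
    (i' ≫ f) hp' η (hp'η ▸ hqf)
  exact ⟨V, j, hj, let ⟨v, _⟩ := hηj; ⟨v⟩, hfinite⟩

end Groth.Agent.S10458
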