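import Groth.Statements.S1046
import Groth.Agent.Lib.DerivedOX.GammaZTriangle
import Groth.Agent.Lib.DerivedOX.RpushQCoh
import Groth.Agent.Lib.DerivedOX.CompactUnit

set_option autoImplicit false
set_option linter.style.haveILetI false
universe u
open CategoryTheory CategoryTheory.Limits AlgebraicGeometry
attribute [local instance] HasDerivedCategory.standard
open Perf

namespace Groth.Agent.S1046

open Groth.Agent.Lib.DerivedOX

/-- On bounded below objects the two versions of `RΓ_Z` agree. -/
lemma nonempty_RgammaZPlus_iso {U X : Scheme.{u}} (j : U ⟶ X) [IsOpenImmersion j]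
    [CxOX.HasRgammaZ j] [EnoughInjectives X.Modules] (E : DerivedCategory.Plus X.Modules) :
    Nonempty (((DCoh.RgammaZPlus j).obj E).obj ≅ (CxOX.RgammaZ j).obj E.obj) := by
  let P := DerivedCategory.Plus.Qh (C := X.Modules)
  obtain ⟨K, hK⟩ := HomotopyCategory.Plus.quotient_obj_surjective (P.objPreimage E)
  obtain ⟨n, hn⟩ := K.property
  haveI := hn
  obtain ⟨L, _, i, hi⟩ := CochainComplex.Plus.exists_quasiIso_injective K n
  let q := HomotopyCategory.Plus.quotient X.Modules
  let M := (InjectiveObject.ι X.Modules).mapCochainComplexPlus.obj L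
  haveI : IsIso (P.map (q.map i)) :=
    Localization.inverts P (HomotopyCategory.Plus.quasiIso X.Modules) _
      ((HomotopyCategory.quotient_map_mem_quasiIso_iff _).2 hi)
  let eE : E ≅ P.obj (q.obj M) :=
    (P.objObjPreimageIso E).symm ≪≫ P.mapIso (eqToIso hK.symm) ≪≫ asIso (P.map (q.map i))
  let F := DCoh.gammaZ j
  haveI : IsIso (F.rightDerivedFunctorPlusUnit.app (q.obj M)) := inferInstance
  let e₁ : (DCoh.RgammaZPlus j).obj E ≅ P.obj (F.mapHomotopyCategoryPlus.obj (q.obj M)) :=
    (DCoh.RgammaZPlus j).mapIso eE ≪≫ (asIso (F.rightDerivedFunctorPlusUnit.app (q.obj M))).symm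
  let I : CochainComplex X.Modules ℤ :=
    ((InjectiveObject.ι X.Modules).mapHomologicalComplex (ComplexShape.up ℤ)).obj L.obj
  let ι := DerivedCategory.Plus.ι (C := X.Modules)
  let e₂ : (P.obj (F.mapHomotopyCategoryPlus.obj (q.obj M))).obj ≅
      DerivedCategory.Q.obj ((GammaZTriangle.ΓC j).obj I) :=
    DerivedCategory.Qh.mapIso ((F.mapHomotopyCategoryFactors (ComplexShape.up ℤ)).app I) ≪≫
      (DerivedCategory.quotientCompQhIso X.Modules).app _
  let e₃ : E.obj ≅ DerivedCategory.Q.obj I :=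
    ι.mapIso eE ≪≫ (DerivedCategory.quotientCompQhIso X.Modules).app I
  exact ⟨ι.mapIso e₁ ≪≫ e₂ ≪≫ GammaZTriangle.compIso j I ≪≫ (CxOX.RgammaZ j).mapIso e₃.symm⟩

/-- Let U ⊆ X be an open subscheme with quasi-compact inclusion and T = X ∖ U. Assuming O_X-modules have
enough injectives (true, not recorded), for every bounded below E ∈ D(O_X) with quasi-coherent
cohomology sheaves, the derived sections with support RΓ_T(E) (right derived functor of F ↦ ker(F →
j_*(F|_U))) has quasi-coherent cohomology sheaves, all supported on T. -/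
theorem result (X : Scheme.{u}) (U : X.Opens) [QuasiCompact U.ι] [EnoughInjectives X.Modules]
    (E : DerivedCategory.Plus X.Modules) (hE : DCoh.IsQCohD E.obj) :
    DCoh.IsQCohD ((DCoh.RgammaZPlus U.ι).obj E).obj ∧
    ∀ i : ℤ, CohB1.support (DCoh.HD ((DCoh.RgammaZPlus U.ι).obj E).obj i) ⊆ (U : Set X)ᶜ := by
  haveI := Exists.hasRgammaZ U.ι
  haveI := Exists.hasRpush U.ι
  obtain ⟨θ⟩ := nonempty_RgammaZPlus_iso U.ι E
  refine ⟨?_, fun i x hx hxU => ?_⟩
  · obtain ⟨R, e, φ, δ, hT⟩ := GammaZTriangle.exists_triangle U.ι E.obj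
    have hR : DCoh.IsQCohD R := fun n =>
      (SheafOfModules.isQuasicoherent X.ringCatSheaf).prop_of_iso
        ((DerivedCategory.homologyFunctor X.Modules n).mapIso e.symm)
        (RpushQCoh.isQCohD_Rpush U.ι _ (CompactUnit.isQCohD_restrictD U.ι hE) n)
    intro n
    refine (SheafOfModules.isQuasicoherent X.ringCatSheaf).prop_of_iso
      ((DerivedCategory.homologyFunctor X.Modules n).mapIso θ.symm) ?_
    exact TildeEquiv.isQCoh_mid _ _ _ _ _ _ _
      (DerivedCategory.HomologySequence.exact₃ _ hT (n - 1) n (by lia))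
      (DerivedCategory.HomologySequence.exact₁ _ hT (n - 1) n (by lia))
      (DerivedCategory.HomologySequence.exact₂ _ hT n)
      (hE (n - 1)) (hR (n - 1)) (hE n) (hR n)
  · obtain ⟨w, rfl⟩ : ∃ w : (U : Scheme.{u}), U.ι w = x := ⟨⟨x, hxU⟩, rfl⟩
    refine OpenImm.not_mem_support_of_isZero_restrict U.ι
      (GammaZTriangle.isZero_restrict_RgammaZ U.ι E.obj) i w ?_
    rwa [← Groth.Agent.Lib.Modules.Support.support_congr
      ((DerivedCategory.homologyFunctor X.Modules i).mapIso θ)]

end Groth.Agent.S1046
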