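import Groth.Statements.S10460
import Groth.Agent.S10459
import Groth.Agent.Lib.AlgSpDecent.ProperDim

set_option autoImplicit false
universe u
open CategoryTheory CategoryTheory.Limits AlgebraicGeometry Topology TopologicalSpace
open AlgSp

namespace Groth.Agent.S10460

open Groth.Agent.Lib.AlgSpace Groth.Agent.Lib.AlgSpDecent

/-- Let f : X ⟶ Y be a proper dominant morphism between integral algebraic spaces over a scheme S, with
Y locally Noetherian, and let r be the transcendence degree of the generic point of X over the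
generic point of Y. Then dim X = dim Y + r. -/
theorem result {S : Scheme.{u}} {X Y : AlgSp.Space S} (f : X ⟶ Y)
    (hY : AlgSp.IsLocNoethSp Y.obj) (hXi : AlgSp.IsIntegralSp X.obj) (hYi : AlgSp.IsIntegralSp Y.obj)
    (hd : AlgSp.IsDominantMor f.hom) (hp : AlgSp.IsProperMor f.hom)
    (x : AlgSp.Points X.obj) (hx : IsGenericPoint x (Set.univ : Set (AlgSp.Points X.obj))) (r : ℕ)
    (hr : AlgSp.HasAtMor (fun _ _ h u => Dual3.resTrdeg h u = (r : Cardinal.{u})) f.hom x) :
    AlgSp.dim X.obj = AlgSp.dim Y.obj + ((r : ℕ∞) : WithBot ℕ∞) := by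
  have hft := hp.2.1.1
  refine le_antisymm (Groth.Agent.S10459.result f hY hXi hYi hd hft x hx r hr) ?_
  have hc := Groth.Agent.Lib.AlgSpMor.Proper.isClosedMap_of_isUnivClosedMor Y.property hp.2.2
  have hs : Function.Surjective (Points.map f.hom) :=
    Set.range_eq_univ.1 ((hc.isClosed_range.closure_eq.symm).trans hd.closure_range)
  have key := fun (V : Over S) (b : (AlgSp.yon S).obj V ⟶ Y.obj) (hb : AlgSp.RepWith @Etale b) (v : ↥V.left) =>
    ProperDim.cohtPt_add_le_dim X.property Y.property hXi.2.1 hYi.2.1 hY hft hc hs hx r hr hb v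
  generalize AlgSp.dim X.obj = D at key ⊢
  obtain ⟨V₀, b₀, hb₀, hbs₀⟩ := Y.property.atlas
  obtain ⟨v₀, -⟩ := Core.surjective_ofPt hbs₀ (Points.map f.hom x)
  induction D using WithBot.recBotCoe with
  | bot => exact absurd (key V₀ b₀ hb₀ v₀) (not_le_of_gt (WithBot.bot_lt_coe _))
  | coe D =>
    have hrD : (r : ℕ∞) ≤ D := le_add_self.trans (WithBot.coe_le_coe.1 (key V₀ b₀ hb₀ v₀))
    have hle : AlgSp.dim Y.obj ≤ ((D - r : ℕ∞) : WithBot ℕ∞) := DimCharts.dim_le fun V b hb v =>
      WithBot.coe_le_coe.2 (ENat.le_sub_of_add_le_right (ENat.natCast_ne_top r) (WithBot.coe_le_coe.1 (key V b hb v)))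
    refine (add_le_add hle le_rfl).trans ?_
    rw [← WithBot.coe_add, tsub_add_cancel_of_le hrD]

end Groth.Agent.S10460
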