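import Groth.Statements.S10466
import Groth.Agent.Lib.AlgSpGeomConn.Main

set_option autoImplicit false
universe u
open CategoryTheory CategoryTheory.Limits AlgebraicGeometry Topology TopologicalSpace
open AlgSp

namespace Groth.Agent.S10466

/-- Let k be a field and X, Y algebraic spaces over k with X geometrically connected over k. Then the
projection X ×_k Y ⟶ Y induces a bijection between connected components of |X ×_k Y| and of |Y|. -/
theorem result (k : Type u) [Field k]
    (X Y : AlgSp.Space (Spec (CommRingCat.of k))) (hX : (∀ (K : Type u) [Field K] [Algebra k K], ConnectedSpace (AlgSp.Points (X.obj ⨯ (AlgSp.yon (Spec (CommRingCat.of k))).obj (Over.mk (Spec.map (CommRingCat.ofHom (algebraMap k K)))))))) :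
    Function.Bijective (Continuous.connectedComponentsMap
      (AlgSp.Points.continuous_map (Limits.prod.snd : X.obj ⨯ Y.obj ⟶ Y.obj))) := by
  have key : ∀ y : AlgSp.Points Y.obj, _root_.IsConnected
      (AlgSp.Points.map (Limits.prod.snd : X.obj ⨯ Y.obj ⟶ Y.obj) ⁻¹' {y}) := by
    intro y
    induction y using AlgSp.Points.ind with | h p =>
    obtain ⟨K, str, val⟩ := p
    obtain ⟨φ, rfl⟩ := Spec.map_surjective str
    letI : Algebra k K := φ.hom.toAlgebra
    haveI := hX K
    let g : (AlgSp.yon _).obj (Groth.Agent.Lib.AlgSpGeomConn.specObj k K) ⟶ Y.obj := Groth.Agent.Lib.AlgSpace.fieldPtHom ⟨K, Spec.map φ, val⟩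
    have hg : ∀ τ, AlgSp.Points.ofPt g τ = AlgSp.Points.mk ⟨K, Spec.map φ, val⟩ :=
      fun τ => Groth.Agent.Lib.AlgSpace.ofPt_fieldPtHom ⟨K, Spec.map φ, val⟩ τ
    have hcont := AlgSp.Points.continuous_map (Limits.prod.map (𝟙 X.obj) g)
    convert isConnected_range hcont using 1
    refine subset_antisymm (fun z hz => ?_) ?_
    · obtain ⟨w, -, hw⟩ := Groth.Agent.Lib.AlgSpace.exists_of_isPullback
        (Groth.Agent.Lib.AlgSpace.isPullback_id_prodMap g X.obj)
        (AlgSp.Points.ofPt (𝟙 _) (IsLocalRing.closedPoint K)) z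
        (by rw [AlgSp.Points.map_ofPt, Category.id_comp, hg]; exact hz.symm)
      exact ⟨w, hw⟩
    · rintro _ ⟨x, rfl⟩
      obtain ⟨T, q, τ, rfl⟩ := Groth.Agent.Lib.AlgSpace.exists_ofPt_eq x
      obtain ⟨c, hc⟩ := (AlgSp.yon _).map_surjective (q ≫ Limits.prod.snd)
      rw [Set.mem_preimage, Set.mem_singleton_iff, ← AlgSp.Points.map_comp, Limits.prod.map_snd,
        AlgSp.Points.map_ofPt, ← Category.assoc, ← hc, Groth.Agent.Lib.AlgSpace.ofPt_yon_map_comp, hg]
  refine Groth.Agent.Lib.AlgSpGeomConn.bijective_of_fibres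
    (f := AlgSp.Points.map (Limits.prod.snd : X.obj ⨯ Y.obj ⟶ Y.obj))
    ⟨fun y => (key y).nonempty, AlgSp.Points.continuous_map _, fun W hW => ?_⟩ key
  obtain ⟨V, b, hb, hbs⟩ := Y.property.atlas
  obtain ⟨U, a, ha, has⟩ := X.property.atlas
  have e : (Groth.Agent.Lib.AlgSpGeomRed.prodChart V a ≫ Limits.prod.map (𝟙 X.obj) b) ≫ Limits.prod.snd =
      (AlgSp.yon _).map (Groth.Agent.Lib.AlgSpGeomRed.prodSnd U V) ≫ b := by
    rw [Category.assoc, Limits.prod.map_snd, ← Category.assoc, Groth.Agent.Lib.AlgSpGeomRed.prodChart_snd]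
  have hq : Function.Surjective (AlgSp.Points.ofPt
      (Groth.Agent.Lib.AlgSpGeomRed.prodChart V a ≫ Limits.prod.map (𝟙 X.obj) b)) := by
    intro z
    obtain ⟨z', rfl⟩ := Groth.Agent.Lib.AlgSpace.surjective_map (Groth.Agent.Lib.AlgSpace.repWith_baseChange
      (Groth.Agent.Lib.AlgSpace.isPullback_id_prodMap b X.obj) hbs) z
    obtain ⟨v, rfl⟩ := Groth.Agent.Lib.AlgSpace.surjective_ofPt
      (Groth.Agent.Lib.AlgSpGeomRed.repWith_prodChart V has) z'
    exact ⟨v, (AlgSp.Points.map_ofPt _ _ v).symm⟩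
  have hW' : AlgSp.Points.map (Limits.prod.snd : X.obj ⨯ Y.obj ⟶ Y.obj) '' W = AlgSp.Points.ofPt b ''
      ((Groth.Agent.Lib.AlgSpGeomRed.prodSnd U V).left '' (AlgSp.Points.ofPt
        (Groth.Agent.Lib.AlgSpGeomRed.prodChart V a ≫ Limits.prod.map (𝟙 X.obj) b) ⁻¹' W)) := by
    rw [Set.image_image]
    conv_lhs => rw [← Set.image_preimage_eq W hq, Set.image_image]
    refine Set.image_congr fun v _ => ?_
    rw [AlgSp.Points.map_ofPt, e, Groth.Agent.Lib.AlgSpace.ofPt_yon_map_comp]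
  rw [hW']
  exact Groth.Agent.Lib.AlgSpace.isOpenMap_ofPt hb _
    ((Limits.pullback.snd U.hom V.hom).isOpenMap _ (hW.preimage (AlgSp.Points.continuous_ofPt _)))

end Groth.Agent.S10466
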