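import Groth.Statements.S1047
import Groth.Agent.Lib.DR.Representative

set_option autoImplicit false
universe u
open CategoryTheory CategoryTheory.Limits
attribute [local instance] HasDerivedCategory.standard
open Perf

open Groth.Agent.Lib.DR Groth.Agent.Lib.DR.Basic Groth.Agent.Lib.DR.FiniteComplex Groth.Agent.Lib.DR.PseudoCoherent

namespace Groth.Agent.S1047

variable {A : Type u} [CommRing A] {R : Type u} [Ring R] [Algebra A R]

/-- Finite free modules over a possibly noncommutative ring. -/
def ffR (R : Type u) [Ring R] : ObjectProperty (ModuleCat.{u} R) := fun M => Module.Finite R M ∧ Module.Free R M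

lemma good_ffR : Good (ffR R) where
  zero {X} h := by
    have := ModuleCat.subsingleton_of_isZero h
    exact ⟨Module.Finite.of_surjective (0 : R →ₗ[R] X) fun _ => ⟨0, Subsingleton.elim _ _⟩,
      Module.Free.of_subsingleton R X⟩
  biprod {X Y} hX hY := by
    obtain ⟨_, _⟩ := hX
    obtain ⟨_, _⟩ := hY
    let e : (X × Y) ≃ₗ[R] ↑(X ⊞ Y) := (ModuleCat.biprodIsoProd X Y).toLinearEquiv.symm
    exact ⟨Module.Finite.equiv e, Module.Free.of_equiv e⟩
  iso {X Y} e h := by
    obtain ⟨_, _⟩ := h
    exact ⟨Module.Finite.equiv e.toLinearEquiv, Module.Free.of_equiv e.toLinearEquiv⟩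

lemma projective_of_ffR (X : ModuleCat.{u} R) (h : ffR R X) : Projective X :=
  have : Module.Free R X := h.2
  (IsProjective.iff_projective (R := R) X).1 Module.Projective.of_free

lemma finite_of_restrict (M : ModuleCat.{u} R)
    (h : Module.Finite A ((ModuleCat.restrictScalars.{u} (algebraMap A R)).obj M)) : Module.Finite R M := by
  obtain ⟨s, hs⟩ := Module.finite_def.1 h
  let s' : Finset M := s
  refine ⟨s', eq_top_iff.2 fun x _ => ?_⟩
  have key : ∀ y : (ModuleCat.restrictScalars.{u} (algebraMap A R)).obj M, y ∈ Submodule.span A (s : Set _) →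
      (y : M) ∈ Submodule.span R (s' : Set M) := by
    intro y hy
    induction hy using Submodule.span_induction with
    | mem z hz => exact Submodule.subset_span hz
    | zero => exact zero_mem _
    | add y z _ _ hy hz => exact add_mem hy hz
    | smul a y _ hy => exact Submodule.smul_mem _ (algebraMap A R a) hy
  exact key x (hs ▸ trivial)

lemma free_restrict [Module.Finite A R] [Module.Free A R] (M : ModuleCat.{u} R) (h : ffR R M) :
    ff A ((ModuleCat.restrictScalars.{u} (algebraMap A R)).obj M) := by
  obtain ⟨_, _⟩ := h
  let ι := Module.Free.ChooseBasisIndex R M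
  let e : M ≃ₗ[R] (ι → R) := (Module.Free.chooseBasis R M).equivFun
  let e' : ((ModuleCat.restrictScalars.{u} (algebraMap A R)).obj M) ≃ₗ[A] (ι → R) :=
    { e.toAddEquiv with
      map_smul' := fun a (x : M) => (e.map_smul (algebraMap A R a) x).trans
        (funext fun i => (Algebra.smul_def a (e x i)).symm) }
  exact ⟨Module.Finite.equiv e'.symm, Module.Free.of_equiv e'.symm⟩

lemma exists_cover (M : ModuleCat.{u} R) [Module.Finite R M] :
    ∃ (F : ModuleCat.{u} R) (π : F ⟶ M), ffR R F ∧ Epi π := by
  obtain ⟨n, f, hf⟩ := Module.Finite.exists_fin' R M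
  exact ⟨ModuleCat.of R (Fin n → R), ModuleCat.ofHom f,
    ⟨inferInstanceAs (Module.Finite R (Fin n → R)), inferInstanceAs (Module.Free R (Fin n → R))⟩,
    (ModuleCat.epi_iff_surjective _).2 hf⟩

/-- Let A be a commutative ring and R an A-algebra, not necessarily commutative, whose underlying
A-module is finite free. Restriction of scalars being exact (carried as instance hypotheses), if an
object M of D(R) becomes pseudo-coherent in D(A) after restriction of scalars (isomorphic to a
bounded above complex of finite free A-modules), then M is represented by a bounded above complex of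
finite free R-modules. (The source phrases this for right modules; we use left modules, which is the
same statement for the opposite algebra.) -/
theorem result (A : Type u) [CommRing A] (R : Type u) [Ring R] [Algebra A R]
    [Module.Finite A R] [Module.Free A R]
    [PreservesFiniteLimits (ModuleCat.restrictScalars.{u} (algebraMap A R))] [PreservesFiniteColimits (ModuleCat.restrictScalars.{u} (algebraMap A R))]
    (M : DerivedCategory (ModuleCat.{u} R))
    (hM : DRing.IsPseudoCoherent' A (((ModuleCat.restrictScalars.{u} (algebraMap A R)).mapDerivedCategory).obj M)) :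
    ∃ (F : CochainComplex (ModuleCat.{u} R) ℤ) (b : ℤ), (∀ i : ℤ, b < i → IsZero (F.X i)) ∧
      (∀ i : ℤ, Module.Finite R (F.X i) ∧ Module.Free R (F.X i)) ∧ Nonempty (DerivedCategory.Q.obj F ≅ M) := by
  let G := ModuleCat.restrictScalars.{u} (algebraMap A R)
  have hM' := (Representative.isPseudoCoherent'_iff_forall _).1 hM
  obtain ⟨b, hb⟩ := (hM' 0).exists_isLE
  let K₀ := DerivedCategory.Q.objPreimage M
  let e₀ : DerivedCategory.Q.obj K₀ ≅ M := DerivedCategory.Q.objObjPreimageIso M
  have hex : ∀ i, b < i → K₀.ExactAt i := by
    intro i hi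
    have h1 : (DerivedCategory.Q.obj ((G.mapHomologicalComplex _).obj K₀)).IsLE b :=
      isLE_of_iso' ((G.mapDerivedCategory.mapIso e₀).symm ≪≫ (G.mapDerivedCategoryFactors.app K₀)) hb
    rw [DerivedCategory.isLE_Q_obj_iff, CochainComplex.isLE_iff] at h1
    have h2 := h1 i hi
    rw [HomologicalComplex.exactAt_iff] at h2 ⊢
    exact (ShortComplex.exact_map_iff_of_faithful (K₀.sc i) G).1 h2
  haveI : M.IsLE b := by
    refine isLE_of_iso' e₀ ?_
    rw [DerivedCategory.isLE_Q_obj_iff, CochainComplex.isLE_iff]
    exact hex
  obtain ⟨K, hK, ⟨e⟩⟩ := M.exists_iso_Q_obj_of_isLE b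
  have hKpc : ∀ m, PCn (ff A) m (DerivedCategory.Q.obj ((G.mapHomologicalComplex _).obj K)) := fun m =>
    (hM' m).of_iso (G.mapDerivedCategory.mapIso e ≪≫ G.mapDerivedCategoryFactors.app K)
  obtain ⟨F, s, hF, hp, hs⟩ := Resolve.exists_resolution good_ffR projective_of_ffR (K := K) (b := b)
    (fun i hi => HomologicalComplex.ExactAt.of_isZero (K.isZero_of_isStrictlyLE b i hi))
    (fun n E φ _ hE hEp hexc => by
      let φ' := (G.mapHomologicalComplex (ComplexShape.up ℤ)).map φ
      let ec : (G.mapHomologicalComplex _).obj (CochainComplex.mappingCone φ) ≅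
          CochainComplex.mappingCone φ' := CochainComplex.mappingCone.mapHomologicalComplexIso φ G
      have hle : (DerivedCategory.Q.obj (CochainComplex.mappingCone φ')).IsLE n := by
        rw [DerivedCategory.isLE_Q_obj_iff, CochainComplex.isLE_iff]
        intro i hi
        exact HomologicalComplex.ExactAt.of_iso (K := (G.mapHomologicalComplex _).obj (CochainComplex.mappingCone φ)) ((HomologicalComplex.exactAt_iff _ _).2 ((hexc i hi).map G)) ec
      have hpc : PCn (ff A) n (DerivedCategory.Q.obj (CochainComplex.mappingCone φ')) :=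
        PCn.cone good_ff projective_of_ff _ (DerivedCategory.mappingCone_triangle_distinguished φ')
          (Bdd.pcn ⟨(G.mapHomologicalComplex _).obj E, fun i hi => G.map_isZero (hE i hi),
            fun i => free_restrict _ (hEp i), ⟨Iso.refl _⟩⟩ _) (hKpc n)
      have := (TopCohomology.finite_top ((TopCohomology.pcn_ff_iff_fproj _ _).1 hpc) le_rfl hle).1
      have h3 : Module.Finite A ((CochainComplex.mappingCone φ').homology n) :=
        Module.Finite.equiv (homologyQIso (CochainComplex.mappingCone φ') n).toLinearEquiv
      let e4 : (CochainComplex.mappingCone φ').homology n ≅ G.obj ((CochainComplex.mappingCone φ).homology n) :=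
        ((HomologicalComplex.homologyFunctor _ _ n).mapIso ec).symm ≪≫
          ((CochainComplex.mappingCone φ).sc n).mapHomologyIso G
      have h4 : Module.Finite A (G.obj ((CochainComplex.mappingCone φ).homology n)) :=
        Module.Finite.equiv e4.toLinearEquiv
      have h5 : Module.Finite R ((CochainComplex.mappingCone φ).homology n) := finite_of_restrict _ h4
      exact @exists_cover _ _ _ h5)
  exact ⟨F, b, hF, hp, ⟨asIso (DerivedCategory.Q.map s) ≪≫ e.symm⟩⟩

end Groth.Agent.S1047
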