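import Groth.Statements.S10471
import Groth.Agent.Lib.AlgSpGeomConn.Main

set_option autoImplicit false
universe u
open CategoryTheory CategoryTheory.Limits AlgebraicGeometry Topology TopologicalSpace
open AlgSp

namespace Groth.Agent.S10471

/-- Let k be a field, K/k a (possibly infinite) Galois extension, X an algebraic space over k and V a
quasi-compact open of |X_K|. Then there is an open subgroup H of Gal(K/k) with σ(V) = V for all σ ∈
H. -/
theorem result (k : Type u) [Field k] (X : AlgSp.Space (Spec (CommRingCat.of k))) (K : Type u) [Field K] [Algebra k K]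
    [IsGalois k K] (V : Set (AlgSp.Points (X.obj ⨯ (AlgSp.yon (Spec (CommRingCat.of k))).obj (Over.mk (Spec.map (CommRingCat.ofHom (algebraMap k K))))))) (hV : IsOpen V) (hVc : IsCompact V) :
    ∃ H : Subgroup (K ≃ₐ[k] K), IsOpen (H : Set (K ≃ₐ[k] K)) ∧
      ∀ σ ∈ H, ∀ (g : (Over.mk (Spec.map (CommRingCat.ofHom (algebraMap k K))) : Over (Spec (CommRingCat.of k))) ⟶ Over.mk (Spec.map (CommRingCat.ofHom (algebraMap k K)))),
        g.left = Spec.map (CommRingCat.ofHom (σ : K ≃ₐ[k] K).toRingHom) →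
          AlgSp.Points.map (Limits.prod.map (𝟙 X.obj) ((AlgSp.yon (Spec (CommRingCat.of k))).map g)) '' V = V := by
  obtain ⟨N, hN⟩ := Groth.Agent.Lib.AlgSpGeomConn.exists_stabilizing X hV hVc
  refine ⟨N.toSubgroup, N.isOpen, fun σ hσ g hg => ?_⟩
  obtain rfl : g = Groth.Agent.Lib.AlgSpGeomConn.galObj σ := Over.OverMorphism.ext hg
  have e : ∀ v, AlgSp.Points.map (Limits.prod.map (𝟙 X.obj) ((AlgSp.yon _).map (Groth.Agent.Lib.AlgSpGeomConn.galObj σ))) v = σ⁻¹ • v := by
    intro v
    rw [Groth.Agent.Lib.AlgSpGeomConn.smul_def, inv_inv]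
  refine subset_antisymm ?_ fun v hv => ?_
  · rintro _ ⟨v, hv, rfl⟩
    rw [e]
    exact hN σ⁻¹ (inv_mem hσ) v hv
  · exact ⟨σ • v, hN σ hσ v hv, by rw [e, inv_smul_smul]⟩

end Groth.Agent.S10471
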