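import Groth.Statements.S10472
import Groth.Agent.Lib.AlgSpGeomConn.Main

set_option autoImplicit false
universe u
open CategoryTheory CategoryTheory.Limits AlgebraicGeometry Topology TopologicalSpace
open AlgSp

namespace Groth.Agent.S10472

/-- Let k be a field, K/k a (possibly infinite) Galois extension, X an algebraic space over k and V a
quasi-compact open of |X_K|. Then there are a finite subextension k' of K/k and a quasi-compact open
V' of |X_{k'}| with V the inverse image of V' in |X_K|. -/
theorem result (k : Type u) [Field k] (X : AlgSp.Space (Spec (CommRingCat.of k))) (K : Type u) [Field K] [Algebra k K]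
    [IsGalois k K] (V : Set (AlgSp.Points (X.obj ⨯ (AlgSp.yon (Spec (CommRingCat.of k))).obj (Over.mk (Spec.map (CommRingCat.ofHom (algebraMap k K))))))) (hV : IsOpen V) (hVc : IsCompact V) :
    ∃ (k' : IntermediateField k K) (_ : FiniteDimensional k k')
      (g : (Over.mk (Spec.map (CommRingCat.ofHom (algebraMap k K))) : Over (Spec (CommRingCat.of k))) ⟶ Over.mk (Spec.map (CommRingCat.ofHom (algebraMap k k')))),
      g.left = Spec.map (CommRingCat.ofHom (algebraMap k' K)) ∧
      ∃ V' : Set (AlgSp.Points (X.obj ⨯ (AlgSp.yon (Spec (CommRingCat.of k))).obj (Over.mk (Spec.map (CommRingCat.ofHom (algebraMap k k')))))), IsOpen V' ∧ IsCompact V' ∧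
        AlgSp.Points.map (Limits.prod.map (𝟙 X.obj) ((AlgSp.yon (Spec (CommRingCat.of k))).map g)) ⁻¹' V' = V := by
  obtain ⟨N, hN⟩ := Groth.Agent.Lib.AlgSpGeomConn.exists_stabilizing X hV hVc
  obtain ⟨E, hE, hEN⟩ := Groth.Agent.Lib.GeomConn.Geometric.exists_finiteDimensional_le k K N
  have hρ := Groth.Agent.Lib.AlgSpGeomConn.isOpenQuotientMap_ρ X E K
  refine ⟨E, hE, Groth.Agent.Lib.AlgSpGeomConn.towerObj E K, rfl, Groth.Agent.Lib.AlgSpGeomConn.ρ X E K '' V, hρ.isOpenMap _ hV, hVc.image hρ.continuous,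
    subset_antisymm ?_ (Set.subset_preimage_image _ _)⟩
  rintro y ⟨v, hv, hvy⟩
  obtain ⟨g, hg, rfl⟩ := Groth.Agent.Lib.AlgSpGeomConn.exists_fixing_smul_eq X K E v y hvy
  exact hN g (hEN g hg) v hv

end Groth.Agent.S10472
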