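import Groth.Statements.S1548
import Groth.Agent.H2.Rigid.PIReduced

set_option autoImplicit false
universe u
open CategoryTheory CategoryTheory.Limits AlgebraicGeometry
open Variety

namespace Groth.Agent.S1548

/-- Let k be a field of characteristic p > 0. If the base change X_{k'} is reduced whenever k' is a
finite purely inseparable extension of k, then X is geometrically reduced over k. -/
theorem result (k : Type u) [Field k] (p : ℕ) [Fact p.Prime] [CharP k p]
    (X : Scheme.{u}) [X.Over (Spec (CommRingCat.of k))]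
    (h : ∀ (k' : Type u) [Field k'] [Algebra k k'] [FiniteDimensional k k'] [IsPurelyInseparable k k'], IsReduced (Curv2.bc k X k')) :
    GeometricallyReduced (X ↘ (Spec (CommRingCat.of k))) := by
  set f := X ↘ (Spec (CommRingCat.of k))
  refine ⟨fun K _ y P p₁ p₂ hP => ?_⟩
  obtain ⟨φ, rfl⟩ := Spec.map_surjective y
  letI : Algebra k K := φ.hom.toAlgebra
  let 𝒰 := X.affineOpenCover
  have key : ∀ (i) (L : Type u) [Field L] [Algebra k L]
      (Q : Scheme.{u}) (q₁ : Q ⟶ X) (q₂ : Q ⟶ Spec (CommRingCat.of L))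
      (_ : IsPullback q₁ q₂ f (Spec.map (CommRingCat.ofHom (algebraMap k L))))
      (ψ : CommRingCat.of k ⟶ 𝒰.X i) (_ : Spec.map ψ = 𝒰.f i ≫ f),
      letI := ψ.hom.toAlgebra
      Nonempty (pullback q₁ (𝒰.f i) ≅ Spec (CommRingCat.of (TensorProduct k (𝒰.X i) L))) := by
    intro i L _ _ Q q₁ q₂ hQ ψ hψ
    letI := ψ.hom.toAlgebra
    have h1 : IsPullback (pullback.snd q₁ (𝒰.f i)) (pullback.fst q₁ (𝒰.f i) ≫ q₂)
        (Spec.map ψ) (Spec.map (CommRingCat.ofHom (algebraMap k L))) :=
      hψ.symm ▸ (IsPullback.of_hasPullback q₁ (𝒰.f i)).flip.paste_vert hQ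
    exact ⟨h1.isoPullback ≪≫ pullbackSpecIso k (𝒰.X i) L⟩
  have hchart : ∀ i, IsReduced (pullback p₁ (𝒰.f i)) := by
    intro i
    obtain ⟨ψ, hψ⟩ := Spec.map_surjective (𝒰.f i ≫ f)
    letI := ψ.hom.toAlgebra
    obtain ⟨e⟩ := key i K P p₁ p₂ hP ψ hψ
    have hg : Algebra.IsGeometricallyReduced k (𝒰.X i) :=
      Groth.Agent.H2.Rigid.PIReduced.isGeometricallyReduced (k := k) (S := 𝒰.X i) fun k' _ _ _ _ => by
        obtain ⟨e'⟩ := key i k' (Curv2.bc k X k') _ _ (IsPullback.of_hasPullback _ _) ψ hψ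
        have := h k'
        have hr : IsReduced (pullback (pullback.fst f (Spec.map (CommRingCat.ofHom (algebraMap k k')))) (𝒰.f i)) :=
          isReduced_of_isOpenImmersion (pullback.fst _ (𝒰.f i))
        have := isReduced_of_isOpenImmersion e'.inv
        have := affine_isReduced_iff _ |>.1 this
        exact isReduced_of_injective (Algebra.TensorProduct.comm k k' (𝒰.X i)) (AlgEquiv.injective _)
    have := Groth.Agent.H52.FBase.GeomRed.isReduced_tensor_field (k := k) (A := 𝒰.X i) K
    have : IsReduced (Spec (CommRingCat.of (TensorProduct k (𝒰.X i) K))) := (affine_isReduced_iff _).2 this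
    exact isReduced_of_isOpenImmersion e.hom
  have : ∀ i, IsReduced ((𝒰.openCover.pullback₁ p₁).X i) := hchart
  exact IsReduced.of_openCover (𝒰 := 𝒰.openCover.pullback₁ p₁)


end Groth.Agent.S1548
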