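import Groth.Statements.S10479
import Groth.Agent.Lib.AlgSpGeomRed.Fields

set_option autoImplicit false
universe u
open CategoryTheory CategoryTheory.Limits AlgebraicGeometry Topology TopologicalSpace
open AlgSp

namespace Groth.Agent.S10479

/-- Let k be a field, X an algebraic space over k, K/k a field extension, x a point of X and x' a point
of X_K lying over x. Then X is geometrically reduced at x (over k) if and only if X_K is
geometrically reduced at x' (over K). -/
theorem result (k : Type u) [Field k] (X : AlgSp.Space (Spec (CommRingCat.of k))) (K : Type u) [Field K] [Algebra k K]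
    (x : AlgSp.Points X.obj) (x' : AlgSp.Points (X.obj ⨯ (AlgSp.yon (Spec (CommRingCat.of k))).obj (Over.mk (Spec.map (CommRingCat.ofHom (algebraMap k K))))))
    (hx' : AlgSp.Points.map (Limits.prod.fst : (X.obj ⨯ (AlgSp.yon (Spec (CommRingCat.of k))).obj (Over.mk (Spec.map (CommRingCat.ofHom (algebraMap k K))))) ⟶ X.obj) x' = x) :
    (∃ (U : Over (Spec (CommRingCat.of k))) (a : (AlgSp.yon (Spec (CommRingCat.of k))).obj U ⟶ X.obj) (u : ↥U.left),
      AlgSp.RepWith @Etale a ∧ AlgSp.Points.ofPt a u = x ∧ FBase.IsGeomReducedAt U.hom u) ↔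
      ∃ (U' : Over (Spec (CommRingCat.of k))) (a' : (AlgSp.yon (Spec (CommRingCat.of k))).obj U' ⟶ (X.obj ⨯ (AlgSp.yon (Spec (CommRingCat.of k))).obj (Over.mk (Spec.map (CommRingCat.ofHom (algebraMap k K))))))
        (q : U' ⟶ Over.mk (Spec.map (CommRingCat.ofHom (algebraMap k K)))) (u' : ↥U'.left),
        AlgSp.RepWith @Etale a' ∧ a' ≫ Limits.prod.snd = (AlgSp.yon (Spec (CommRingCat.of k))).map q ∧
          AlgSp.Points.ofPt a' u' = x' ∧ FBase.IsGeomReducedAt q.left u' := by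
  obtain ⟨U, a, ha, hs⟩ := X.property.atlas
  obtain ⟨u, rfl⟩ := Groth.Agent.Lib.AlgSpace.surjective_ofPt hs x
  obtain ⟨v, hv, rfl⟩ := Groth.Agent.Lib.AlgSpGeomRed.exists_ofPt_prodChart _ x' hx'
  have key : FBase.IsGeomReducedAt U.hom u ↔ FBase.IsGeomReducedAt (FBase.bcStr U.hom K) v :=
    @Groth.Agent.S1545.result k _ U.left ⟨U.hom⟩ K _ _ u v hv
  refine (Groth.Agent.Lib.AlgSpGeomRed.grAt_iff X ha u).trans (key.trans ⟨fun h =>
    ⟨_, Groth.Agent.Lib.AlgSpGeomRed.prodChart _ a, _, v, Groth.Agent.Lib.AlgSpGeomRed.repWith_prodChart _ ha,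
      Groth.Agent.Lib.AlgSpGeomRed.prodChart_snd _ a, rfl, h⟩, ?_⟩)
  rintro ⟨U', a', q, u', ha', hq, e, h⟩
  have eq : ∀ {A : Scheme.{u}} (g : A ⟶ Spec (CommRingCat.of K)) (z : A),
      FBase.IsGeomReducedAt (g ≫ 𝟙 (Spec (CommRingCat.of K))) z ↔ FBase.IsGeomReducedAt g z := fun g z => by
    rw [Category.comp_id]
  have hP := (Groth.Agent.Lib.AlgSpace.isAlgSpace_prod X.property
    (IsAlgSpace.yon_obj (Over.mk (Spec.map (CommRingCat.ofHom (algebraMap k K)))))).diag
  have c := Groth.Agent.Lib.AlgSpGeomRed.isGeomReducedAt_congr' (K := K)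
    (t := Over.mk (Spec.map (CommRingCat.ofHom (algebraMap k K)))) hP (𝟙 (Spec (CommRingCat.of K)))
    (U := U') (a := a') (V := Groth.Agent.Lib.AlgSpGeomRed.prodObj U (Over.mk (Spec.map (CommRingCat.ofHom (algebraMap k K)))))
    (b := Groth.Agent.Lib.AlgSpGeomRed.prodChart _ a) ha'
    (Groth.Agent.Lib.AlgSpGeomRed.repWith_prodChart _ ha) hq (Groth.Agent.Lib.AlgSpGeomRed.prodChart_snd _ a) e
  have h1 := c.1 ((eq q.left u').2 h)
  have h2 := (eq (Groth.Agent.Lib.AlgSpGeomRed.prodSnd U (Over.mk (Spec.map (CommRingCat.ofHom (algebraMap k K))))).left v).1 h1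
  exact h2

end Groth.Agent.S10479
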