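import Groth.Statements.S10481
import Groth.Agent.Lib.AlgSpGeomRed.Fields
import Groth.Agent.Lib.AlgSpMor.LocP
import Groth.Agent.Lib.AlgSpDecent.Core

set_option autoImplicit false
universe u
open CategoryTheory CategoryTheory.Limits AlgebraicGeometry Topology TopologicalSpace
open AlgSp

namespace Groth.Agent.S10481

open Groth.Agent.Lib.AlgSpace Groth.Agent.Lib.AlgSpDecent

/-- Let k be a field, f : X ⟶ Y a morphism of algebraic spaces over k and x a point of X at which f is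
etale. Then X is geometrically reduced at x if and only if Y is geometrically reduced at the image
of x. -/
theorem result (k : Type u) [Field k] {X Y : AlgSp.Space (Spec (CommRingCat.of k))} (f : X ⟶ Y)
    (x : AlgSp.Points X.obj)
    (he : AlgSp.HasAtMor (fun U _ h u => ∃ W : U.Opens, u ∈ W ∧ Etale (W.ι ≫ h)) f.hom x) :
    (∃ (U : Over (Spec (CommRingCat.of k))) (a : (AlgSp.yon (Spec (CommRingCat.of k))).obj U ⟶ X.obj) (u : ↥U.left),
      AlgSp.RepWith @Etale a ∧ AlgSp.Points.ofPt a u = x ∧ FBase.IsGeomReducedAt U.hom u) ↔ (∃ (U : Over (Spec (CommRingCat.of k))) (a : (AlgSp.yon (Spec (CommRingCat.of k))).obj U ⟶ Y.obj) (u : ↥U.left),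
      AlgSp.RepWith @Etale a ∧ AlgSp.Points.ofPt a u = (AlgSp.Points.map f.hom x) ∧ FBase.IsGeomReducedAt U.hom u) := by
  obtain ⟨U, V, a, b, h, u, ha, hb, w, rfl, W, huW, hW⟩ := he
  let U' : Over (Spec (CommRingCat.of k)) := Over.mk (W.ι ≫ U.hom)
  let i : U' ⟶ U := Over.homMk W.ι
  let a' := (AlgSp.yon (Spec (CommRingCat.of k))).map i ≫ a
  have : Etale i.left := inferInstanceAs (Etale W.ι)
  have ha' : AlgSp.RepWith @Etale a' := Groth.Agent.Lib.AlgSpMor.LocP.repWith_etale_comp i ha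
  let w0 : ↥U'.left := (⟨u, huW⟩ : ↥(W : Scheme.{u}))
  have hw0 : i.left w0 = u := rfl
  have e1 : Points.ofPt a u = Points.ofPt a' w0 := by rw [← hw0]; exact (Core.ofPt_map_comp i a w0).symm
  have e2 : Points.map f.hom (Points.ofPt a u) = Points.ofPt b (h.left u) := by
    rw [← Core.ofPt_comp, w, Core.ofPt_map_comp]
  rw [e2, e1]
  have e3 : (W.ι ≫ h.left) w0 = h.left u := Scheme.Hom.comp_apply _ _ _
  rw [← e3]
  have hp : (W.ι ≫ h.left) ≫ V.hom = U'.hom := by
    show (W.ι ≫ h.left) ≫ V.hom = W.ι ≫ U.hom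
    rw [Category.assoc, Over.w h]
  show Groth.Agent.Lib.AlgSpGeomRed.GRAt X.obj (Points.ofPt a' _) ↔ Groth.Agent.Lib.AlgSpGeomRed.GRAt Y.obj (Points.ofPt b _)
  rw [Groth.Agent.Lib.AlgSpGeomRed.grAt_iff X ha', Groth.Agent.Lib.AlgSpGeomRed.grAt_iff Y hb]
  exact Groth.Agent.Lib.AlgSpGeomRed.isGeomReducedAt_iff_of_etale (f := U'.hom) (g := V.hom) (W.ι ≫ h.left) hp _

end Groth.Agent.S10481
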