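import Groth.Statements.S10482
import Groth.Agent.Lib.AlgSpDecent.IsolatedPt
import Groth.Agent.Lib.AlgSpDecent.GenericFiniteSp
import Groth.Agent.Lib.AlgSpDecent.SpecOrder

set_option autoImplicit false
universe u
open CategoryTheory CategoryTheory.Limits AlgebraicGeometry Topology TopologicalSpace
open AlgSp

namespace Groth.Agent.S10482

/-- (1) ⇔ (2): let k be a field and X an algebraic space over k. Then X is locally quasi-finite over k
if and only if X is locally of finite type over k of dimension at most 0. (The published statement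
says dimension 0; dimension at most 0 is used so that the empty space, whose dimension is the bottom
element, is covered by both sides.) -/
theorem result (k : Type u) [Field k] (X : AlgSp.Space (Spec (CommRingCat.of k))) (p : X.obj ⟶ (AlgSp.yon (Spec (CommRingCat.of k))).obj (Over.mk (𝟙 _))) :
    AlgSp.LocP (@LocallyQuasiFinite ⊓ @LocallyOfFiniteType : MorphismProperty Scheme.{u}) p ↔ AlgSp.LocP @LocallyOfFiniteType p ∧ AlgSp.dim X.obj ≤ 0 := by
  constructor
  · intro hq
    have hft : AlgSp.LocP @LocallyOfFiniteType p := fun {U V} a b h ha hb w => (hq a b h ha hb w).2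
    refine ⟨hft, iSup₂_le fun U a => iSup_le fun ha => ?_⟩
    obtain ⟨h, hh⟩ := (yon (Spec (CommRingCat.of k))).map_surjective (a ≫ p)
    have hl : LocallyQuasiFinite h.left :=
      (hq a (𝟙 _) h ha (AlgSp.repWith_id @Etale _) (by rw [Category.comp_id, hh])).1
    have : DiscreteTopology ↥U.left := by
      refine discreteTopology_iff_isOpen_singleton.2 fun e => ?_
      have hd := h.left.isDiscrete_preimage_singleton (h.left e)
      have huniv : h.left ⁻¹' {h.left e} = Set.univ := Set.eq_univ_of_forall fun x =>
        @Subsingleton.elim _ (inferInstanceAs (Subsingleton (PrimeSpectrum k))) _ _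
      rw [huniv] at hd
      have := isDiscrete_univ_iff.1 hd
      exact isOpen_discrete _
    rw [Groth.Agent.Lib.AlgSpDecent.SpecOrder.topologicalKrullDim_eq_iSup]
    refine iSup_le fun u => le_of_eq ?_
    rw [(Groth.Agent.Lib.AlgSpDecent.SpecOrder.cohtPt_eq_zero).2 fun y hy => specializes_iff_eq.1 hy]
    rfl
  · rintro ⟨hft, hdim⟩ U V a b h ha hb w
    have : LocallyOfFiniteType h.left := hft a b h ha hb w
    refine ⟨Groth.Agent.Lib.AlgSpDecent.GenericFiniteSp.locallyQuasiFinite_of_nhds h.left fun u => ?_,
      inferInstance⟩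
    have := Groth.Agent.Lib.AlgSpDecent.IsolatedPt.isLocallyNoetherian_chart p hft ha
    have hU : topologicalKrullDim ↥U.left ≤ 0 :=
      (le_iSup₂_of_le U a (le_iSup (fun _ : AlgSp.RepWith @Etale a => topologicalKrullDim ↥U.left) ha)).trans hdim
    have := IsLocallyArtinian.of_topologicalKrullDim_le_zero hU
    have : DiscreteTopology ↥(h.left.fiber (h.left u)) :=
      (h.left.fiberι (h.left u)).isEmbedding.discreteTopology
    exact ⟨h.left.quasiFiniteLocus,
      Scheme.Hom.quasiFiniteAt_iff_isOpen_singleton_asFiber.2 (isOpen_discrete _), inferInstance⟩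

end Groth.Agent.S10482
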