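import Groth.Statements.S10483
import Groth.Agent.Lib.AlgSpDecent.LqfFieldSp

set_option autoImplicit false
universe u
open CategoryTheory CategoryTheory.Limits AlgebraicGeometry Topology TopologicalSpace
open AlgSp

namespace Groth.Agent.S10483

open Groth.Agent.Lib.AlgSpace Groth.Agent.Lib.AlgSpDecent

/-- (1) ⇔ (5): let k be a field and X an algebraic space over k. Then X is locally quasi-finite over k
if and only if X decomposes as a disjoint union of spectra of finite-dimensional Artinian local
k-algebras: X is a scheme every point of which has an affine open neighbourhood with Artinian local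
coordinate ring, finite over k. -/
theorem result (k : Type u) [Field k] (X : AlgSp.Space (Spec (CommRingCat.of k))) (p : X.obj ⟶ (AlgSp.yon (Spec (CommRingCat.of k))).obj (Over.mk (𝟙 _))) :
    AlgSp.LocP (@LocallyQuasiFinite ⊓ @LocallyOfFiniteType : MorphismProperty Scheme.{u}) p ↔
      ∃ (U : Over (Spec (CommRingCat.of k))) (_ : (AlgSp.yon (Spec (CommRingCat.of k))).obj U ≅ X.obj), ∀ u : ↥U.left, ∃ V : U.left.Opens,
        u ∈ V ∧ IsAffineOpen V ∧ IsArtinianRing ↥Γ(U.left, V) ∧ IsLocalRing ↥Γ(U.left, V) ∧
          IsFinite (V.ι ≫ U.hom) := by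
  constructor
  · intro h
    obtain ⟨U, e, hq, hf⟩ := LqfFieldSp.exists_scheme X p h
    refine ⟨U, e, fun u => ?_⟩
    have : IsLocallyArtinian U.left := IsLocallyArtinian.of_locallyQuasiFinite (f := U.hom)
    obtain ⟨V, hV, hVu⟩ := LqfField.exists_singleton_affine U.left u
    have : IsArtinianRing ↥Γ(U.left, V) := IsLocallyArtinian.isArtinianRing_presheaf_obj ⟨V, hV⟩
    refine ⟨V, by rw [← SetLike.mem_coe, hVu]; rfl, hV, inferInstance, LqfField.isLocalRing_of_singleton hV hVu, ?_⟩
    have : CompactSpace ↥(V : Scheme.{u}) := isCompact_iff_compactSpace.1 hV.isCompact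
    exact IsFinite.of_locallyQuasiFinite _
  · rintro ⟨U, e, hU⟩
    choose V hu hV _ _ hfin using hU
    refine LqfFieldSp.locP_of_scheme X p e ?_ ?_
    · exact GenericFiniteSp.locallyQuasiFinite_of_nhds U.hom fun u => ⟨V u, hu u, have := hfin u; inferInstance⟩
    · exact (IsZariskiLocalAtSource.iff_of_iSup_eq_top (P := (@LocallyOfFiniteType : MorphismProperty Scheme.{u}))
        V (top_le_iff.1 fun z _ => TopologicalSpace.Opens.mem_iSup.2 ⟨z, hu z⟩)).2 fun i => have := hfin i; inferInstance

end Groth.Agent.S10483
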