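import Groth.Statements.S10484
import Groth.Agent.Lib.AlgSpDecent.LqfFieldSp
import Groth.Agent.S10393

set_option autoImplicit false
universe u
open CategoryTheory CategoryTheory.Limits AlgebraicGeometry Topology TopologicalSpace
open AlgSp

namespace Groth.Agent.S10484

open Groth.Agent.Lib.AlgSpace Groth.Agent.Lib.AlgSpDecent

/-- For a field k, local quasi-finiteness over k passes from the target Y of a monomorphism f : X ⟶ Y of
algebraic spaces over k to its source X. -/
theorem result (k : Type u) [Field k] {X Y : AlgSp.Space (Spec (CommRingCat.of k))} (f : X ⟶ Y)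
    [Mono f.hom] (q : Y.obj ⟶ (AlgSp.yon (Spec (CommRingCat.of k))).obj (Over.mk (𝟙 _))) (hq : AlgSp.LocP (@LocallyQuasiFinite ⊓ @LocallyOfFiniteType : MorphismProperty Scheme.{u}) q) :
    AlgSp.LocP (@LocallyQuasiFinite ⊓ @LocallyOfFiniteType : MorphismProperty Scheme.{u}) (f.hom ≫ q) := by
  obtain ⟨U, e, hUq, hUf⟩ := LqfFieldSp.exists_scheme Y q hq
  have : IsLocallyArtinian U.left := IsLocallyArtinian.of_locallyQuasiFinite (f := U.hom)
  let g : X ⟶ (AlgSp.ofScheme (Spec (CommRingCat.of k))).obj U := ObjectProperty.homMk (f.hom ≫ e.inv)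
  have : Mono g.hom := mono_comp _ _
  have hgm : @Mono (AlgSp.Sp (Spec (CommRingCat.of k))) _ X.obj ((AlgSp.ofScheme (Spec (CommRingCat.of k))).obj U).obj g.hom :=
    inferInstanceAs (Mono (f.hom ≫ e.inv))
  obtain ⟨W, ⟨r⟩⟩ := (@Groth.Agent.S10393.result _ U _ X g hgm).has_representation
  let eW : (AlgSp.yon (Spec (CommRingCat.of k))).obj W ≅ X.obj := AlgSp.isoOfRepresentableBy r
  obtain ⟨w, hw⟩ := (AlgSp.yon (Spec (CommRingCat.of k))).map_surjective (eW.hom ≫ f.hom ≫ e.inv)
  have : Mono ((AlgSp.yon (Spec (CommRingCat.of k))).map w) := by rw [hw]; infer_instance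
  have hwm : Mono w := (AlgSp.yon (Spec (CommRingCat.of k))).mono_of_mono_map ‹_›
  have : Mono w.left := inferInstanceAs (Mono ((Over.forget _).map w))
  obtain ⟨h1, h2⟩ := LqfField.lqf_lft_of_mono w.left
  exact LqfFieldSp.locP_of_scheme X _ eW (by rw [← Over.w w]; infer_instance) (by rw [← Over.w w]; infer_instance)

end Groth.Agent.S10484
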