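import Groth.Statements.S10485
import Groth.Agent.S10399
import Groth.Agent.Lib.AlgSpDecent.IntegralGen
import Groth.Agent.Lib.AlgSpDecent.ChartOver

set_option autoImplicit false
universe u
open CategoryTheory CategoryTheory.Limits AlgebraicGeometry Topology TopologicalSpace
open AlgSp

namespace Groth.Agent.S10485

open Groth.Agent.Lib Groth.Agent.Lib.AlgSpace

/-- (4) ⇔ (5): let f : X ⟶ Y be a dominant morphism locally of finite type between integral algebraic
spaces over a scheme S, with generic points x and y. Then f is quasi-finite at x if and only if x is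
the only point of X mapping to y. -/
theorem result {S : Scheme.{u}} {X Y : AlgSp.Space S} (hXi : AlgSp.IsIntegralSp X.obj) (hYi : AlgSp.IsIntegralSp Y.obj)
    (f : X ⟶ Y) (hft : AlgSp.LocP @LocallyOfFiniteType f.hom) (hd : AlgSp.IsDominantMor f.hom)
    (x : AlgSp.Points X.obj) (hx : IsGenericPoint x (Set.univ : Set (AlgSp.Points X.obj)))
    (y : AlgSp.Points Y.obj) (hy : IsGenericPoint y (Set.univ : Set (AlgSp.Points Y.obj))) :
    AlgSp.HasAtMor (fun U _ h u => ∃ W : U.Opens, u ∈ W ∧ LocallyQuasiFinite (W.ι ≫ h) ∧ LocallyOfFiniteType (W.ι ≫ h)) f.hom x ↔ (∀ x' : AlgSp.Points X.obj, AlgSp.Points.map f.hom x' = y → x' = x) := by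
  have hgX := AlgSpDecent.IntegralGen.gens_iff X.property hXi hx
  have hgY := AlgSpDecent.IntegralGen.gens_iff Y.property hYi hy
  have hxy := AlgSpDecent.IntegralGen.map_generic Y.property hYi hd hx hy
  obtain ⟨h12, h31⟩ := Groth.Agent.S10399.result f hft y ((hgY y).2 rfl)
  refine ⟨fun hq x' hx' => (hgX x').1 (h31 (fun x'' _ hgen => (hgX x'').1 hgen ▸ hq) x' hx'),
    fun h5 => h12.1 (fun x' hx' => (hgX x').2 (h5 x' hx')) x hxy⟩

end Groth.Agent.S10485
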