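import Groth.Statements.S10486
import Groth.Agent.S10485
import Groth.Agent.Lib.AlgSpDecent.CodimOneSp
import Groth.Agent.S10399
import Groth.Agent.Lib.AlgSpDecent.IntegralGen
import Groth.Agent.Lib.AlgSpDecent.ChartOver

set_option autoImplicit false
universe u
open CategoryTheory CategoryTheory.Limits AlgebraicGeometry Topology TopologicalSpace
open AlgSp

namespace Groth.Agent.S10486

open Groth.Agent.Lib Groth.Agent.Lib.AlgSpace

/-- (1) ⇔ (5): let f : X ⟶ Y be a dominant morphism locally of finite type between integral algebraic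
spaces over a scheme S, with generic points x and y. Then the transcendence degree of x over y is 0
if and only if x is the only point of X mapping to y. -/
theorem result {S : Scheme.{u}} {X Y : AlgSp.Space S} (hXi : AlgSp.IsIntegralSp X.obj) (hYi : AlgSp.IsIntegralSp Y.obj)
    (f : X ⟶ Y) (hft : AlgSp.LocP @LocallyOfFiniteType f.hom) (hd : AlgSp.IsDominantMor f.hom)
    (x : AlgSp.Points X.obj) (hx : IsGenericPoint x (Set.univ : Set (AlgSp.Points X.obj)))
    (y : AlgSp.Points Y.obj) (hy : IsGenericPoint y (Set.univ : Set (AlgSp.Points Y.obj))) :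
    AlgSp.HasAtMor (fun _ _ h u => Dual3.resTrdeg h u = 0) f.hom x ↔ (∀ x' : AlgSp.Points X.obj, AlgSp.Points.map f.hom x' = y → x' = x) := by
  refine Iff.trans ⟨AlgSpDecent.CodimOneSp.qfAt_of_trdeg X.property hft
    ((AlgSpDecent.IntegralGen.gens_iff X.property hXi hx x).2 rfl), fun hq => ?_⟩
    (Groth.Agent.S10485.result hXi hYi f hft hd x hx y hy)
  obtain ⟨U, V, a, b, h, u, ha, hb, hw, rfl, -⟩ := id hq
  refine ⟨U, V, a, b, h, u, ha, hb, hw, rfl, ?_⟩
  have : LocallyOfFiniteType h.left := hft a b h ha hb hw
  have hu := (AlgSpDecent.ChartOver.qfAt_iff_chart X.property Y.property hft ha hb hw u).1 hq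
  have hfin := Groth.Agent.H46.QFin.finite_residueFieldMap h.left u hu.isClopen_singleton_asFiber.1
  let := (h.left.residueFieldMap u).hom.toAlgebra
  have : Module.Finite (V.left.residueField (h.left u)) (U.left.residueField u) := hfin
  exact trdeg_eq_zero

end Groth.Agent.S10486
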