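import Groth.Statements.S10487
import Groth.Agent.S10485
import Groth.Agent.Lib.AlgSpDecent.GenericFiniteSet
import Groth.Agent.S10399
import Groth.Agent.Lib.AlgSpDecent.IntegralGen
import Groth.Agent.Lib.AlgSpDecent.ChartOver

set_option autoImplicit false
universe u
open CategoryTheory CategoryTheory.Limits AlgebraicGeometry Topology TopologicalSpace
open AlgSp

namespace Groth.Agent.S10487

open Groth.Agent.Lib Groth.Agent.Lib.AlgSpace

/-- (3) ⇔ (5): let f : X ⟶ Y be a dominant morphism locally of finite type between integral algebraic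
spaces over a scheme S, with generic points x and y. Then there are nonempty affine opens U ⊂ X and
V ⊂ Y with f(U) ⊂ V and f|_U : U ⟶ V finite, if and only if x is the only point of X mapping to y. -/
theorem result {S : Scheme.{u}} {X Y : AlgSp.Space S} (hXi : AlgSp.IsIntegralSp X.obj) (hYi : AlgSp.IsIntegralSp Y.obj)
    (f : X ⟶ Y) (hft : AlgSp.LocP @LocallyOfFiniteType f.hom) (hd : AlgSp.IsDominantMor f.hom)
    (x : AlgSp.Points X.obj) (hx : IsGenericPoint x (Set.univ : Set (AlgSp.Points X.obj)))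
    (y : AlgSp.Points Y.obj) (hy : IsGenericPoint y (Set.univ : Set (AlgSp.Points Y.obj))) :
    (∃ (U V : Over S) (a : (AlgSp.yon S).obj U ⟶ X.obj) (b : (AlgSp.yon S).obj V ⟶ Y.obj) (g : U ⟶ V),
      IsAffine U.left ∧ IsAffine V.left ∧ Nonempty ↥U.left ∧
        AlgSp.RepWith @IsOpenImmersion a ∧ AlgSp.RepWith @IsOpenImmersion b ∧
          a ≫ f.hom = (AlgSp.yon S).map g ≫ b ∧ IsFinite g.left) ↔ (∀ x' : AlgSp.Points X.obj, AlgSp.Points.map f.hom x' = y → x' = x) := by
  have hgX := AlgSpDecent.IntegralGen.gens_iff X.property hXi hx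
  have hgY := AlgSpDecent.IntegralGen.gens_iff Y.property hYi hy
  have hxy := AlgSpDecent.IntegralGen.map_generic Y.property hYi hd hx hy
  have hE : ∀ {A B : Sp S} {c : A ⟶ B}, RepWith @IsOpenImmersion c → RepWith @Etale c := fun hc =>
    repWith_mono hc fun _ _ g (_ : IsOpenImmersion g) => (inferInstance : Etale g)
  constructor
  · rintro ⟨U, V, a, b, g, hU, hV, ⟨u₀⟩, ha, hb, hw, hg⟩
    obtain ⟨u, hu⟩ := AlgSpDecent.IntegralGen.mem_open hx (AlgSpDecent.Core.isOpen_range_ofPt (hE ha))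
      ⟨_, u₀, rfl⟩
    refine (Groth.Agent.S10485.result hXi hYi f hft hd x hx y hy).1 ?_
    rw [← hu]
    exact (AlgSpDecent.ChartOver.qfAt_iff_chart X.property Y.property hft (hE ha) (hE hb) hw u).2
      (Scheme.Hom.quasiFiniteAt _ _)
  · intro h5
    obtain ⟨V₁, b₁, v₁, hV₁, hb₁, -, hv₁⟩ := AlgSpDecent.IntegralGen.exists_affine_open Y.property hYi hy
      isOpen_univ ⟨y, trivial⟩
    obtain ⟨U₁, a₁, u₁, hU₁, ha₁, hsub, hu₁⟩ := AlgSpDecent.IntegralGen.exists_affine_open X.property hXi hx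
      (((AlgSpDecent.Core.isOpen_range_ofPt (hE hb₁))).preimage (AlgSp.Points.continuous_map f.hom))
      ⟨x, v₁, hv₁.trans hxy.symm⟩
    have : Mono b₁ := mono_of_repWith (P := @IsOpenImmersion)
      (fun _ _ g (_ : IsOpenImmersion g) ↦ (inferInstance : Mono g)) hb₁
    have : Mono a₁ := mono_of_repWith (P := @IsOpenImmersion)
      (fun _ _ g (_ : IsOpenImmersion g) ↦ (inferInstance : Mono g)) ha₁
    obtain ⟨φ, hφ⟩ := exists_lift_yon_of_range_subset hb₁ (a₁ ≫ f.hom) (by
      rw [AlgSpDecent.Core.range_points_map_yon]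
      rintro _ ⟨w, rfl⟩
      rw [AlgSpDecent.Core.ofPt_comp]
      exact hsub ⟨w, rfl⟩)
    obtain ⟨h, rfl⟩ := (yon S).map_surjective φ
    have hlft : LocallyOfFiniteType h.left := hft a₁ b₁ h (hE ha₁) (hE hb₁) hφ.symm
    have hginj : ∀ {A : Over S} {Z : Sp S} (c : (yon S).obj A ⟶ Z) [Mono c], Function.Injective (AlgSp.Points.ofPt c) := by
      intro A Z c _ w w' he
      apply (AlgSp.Points.schemeEquiv A).injective
      apply AlgSpDecent.Core.injective_map_of_mono c
      rw [← Category.id_comp c, AlgSpDecent.Core.ofPt_comp, AlgSpDecent.Core.ofPt_comp] at he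
      exact he
    have hgV : ∀ v, AlgSpMor.Codim.IsGen v ↔ v = v₁ := fun v => by
      rw [← AlgSpMor.Codim.hasAt_dim0_iff Y.property (hE hb₁) v, hgY, ← hv₁]
      exact (hginj b₁).eq_iff
    have hhu : ∀ u, AlgSp.Points.map f.hom (AlgSp.Points.ofPt a₁ u) = AlgSp.Points.ofPt b₁ (h.left u) := fun u => by
      rw [← AlgSpDecent.Core.ofPt_comp, ← hφ, AlgSpDecent.Core.ofPt_map_comp]
    have hgU : ∀ u, AlgSpMor.Codim.IsGen u ↔ AlgSpMor.Codim.IsGen (h.left u) := fun u => by
      rw [hgV, ← AlgSpMor.Codim.hasAt_dim0_iff X.property (hE ha₁) u, hgX, ← (hginj b₁).eq_iff, ← hhu, hv₁]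
      exact ⟨fun e => by rw [e, hxy], fun e => h5 _ e⟩
    obtain ⟨D, hD, hDm, hfin⟩ := AlgSpDecent.GenericFiniteSet.exists_isFinite h.left
      ((Set.finite_singleton v₁).subset fun v hv => (hgV v).1 hv)
      (fun v hv => (Set.finite_singleton u₁).subset fun u hu => by
        refine hginj a₁ ?_
        rw [hu₁]
        exact h5 _ (by rw [hhu, show h.left u = v₁ from (Set.mem_singleton_iff.1 hu).trans ((hgV v).1 hv), hv₁]))
      hgU
    have : IsAffine (D : Scheme.{u}) := hD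
    let UD : U₁.left.Opens := h.left ⁻¹ᵁ D
    have hUD : IsAffine (Over.mk (UD.ι ≫ U₁.hom)).left := isAffine_of_isAffineHom (h.left ∣_ D)
    let g : Over.mk (UD.ι ≫ U₁.hom) ⟶ Over.mk (D.ι ≫ V₁.hom) := Over.homMk (h.left ∣_ D) (by
      show (h.left ∣_ D) ≫ D.ι ≫ V₁.hom = UD.ι ≫ U₁.hom
      rw [← Category.assoc, morphismRestrict_ι, Category.assoc, Over.w h])
    have hg : g ≫ AlgSpDecent.Specialize.openIncl D = AlgSpDecent.Specialize.openIncl UD ≫ h :=
      Over.OverMorphism.ext (morphismRestrict_ι _ _)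
    have hO : ∀ {T : Over S} {Z : Sp S} (W : T.left.Opens) {c : (yon S).obj T ⟶ Z}, RepWith @IsOpenImmersion c →
        RepWith @IsOpenImmersion ((yon S).map (AlgSpDecent.Specialize.openIncl W) ≫ c) := fun W _ hc =>
      repWith_comp ((repWith_yon_map_iff _ _).2 (inferInstanceAs (IsOpenImmersion W.ι))) hc
    refine ⟨_, _, (yon S).map (AlgSpDecent.Specialize.openIncl UD) ≫ a₁,
      (yon S).map (AlgSpDecent.Specialize.openIncl D) ≫ b₁, g, hUD, hD, ⟨⟨u₁, ?_⟩⟩, hO UD ha₁, hO D hb₁, ?_, hfin⟩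
    · exact hDm _ ((hgU u₁).1 ((AlgSpMor.Codim.hasAt_dim0_iff X.property (hE ha₁) u₁).1 (hu₁.symm ▸ (hgX x).2 rfl)))
    · rw [Category.assoc, ← hφ, ← Functor.map_comp_assoc, ← Functor.map_comp_assoc, hg]

end Groth.Agent.S10487
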