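import Groth.Statements.S10488
import Groth.Agent.S10400
import Groth.Agent.S10399
import Groth.Agent.Lib.AlgSpDecent.IntegralGen
import Groth.Agent.Lib.AlgSpDecent.ChartOver

set_option autoImplicit false
universe u
open CategoryTheory CategoryTheory.Limits AlgebraicGeometry Topology TopologicalSpace
open AlgSp

namespace Groth.Agent.S10488

open Groth.Agent.Lib Groth.Agent.Lib.AlgSpace

/-- (5) ⇔ (6): let f : X ⟶ Y be a dominant morphism locally of finite type between integral algebraic
spaces over a scheme S, with generic points x and y, and assume f separated or quasi-compact. Then x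
is the only point of X mapping to y if and only if there is a nonempty affine open V ⊂ Y such that
f⁻¹(V) ⟶ V is finite. -/
theorem result {S : Scheme.{u}} {X Y : AlgSp.Space S} (hXi : AlgSp.IsIntegralSp X.obj) (hYi : AlgSp.IsIntegralSp Y.obj)
    (f : X ⟶ Y) (hft : AlgSp.LocP @LocallyOfFiniteType f.hom) (hd : AlgSp.IsDominantMor f.hom)
    (x : AlgSp.Points X.obj) (hx : IsGenericPoint x (Set.univ : Set (AlgSp.Points X.obj)))
    (y : AlgSp.Points Y.obj) (hy : IsGenericPoint y (Set.univ : Set (AlgSp.Points Y.obj)))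
    (hsq : AlgSp.IsSeparatedMor f.hom ∨ AlgSp.IsQuasiCompactMor f.hom) :
    (∀ x' : AlgSp.Points X.obj, AlgSp.Points.map f.hom x' = y → x' = x) ↔
      ∃ (V : Over S) (b : (AlgSp.yon S).obj V ⟶ Y.obj) (U : Over S) (g : U ⟶ V) (a : (AlgSp.yon S).obj U ⟶ X.obj),
        IsAffine V.left ∧ Nonempty ↥V.left ∧ AlgSp.RepWith @IsOpenImmersion b ∧
          IsPullback a ((AlgSp.yon S).map g) f.hom b ∧ IsAffine U.left ∧ IsFinite g.left := by
  have hgX := AlgSpDecent.IntegralGen.gens_iff X.property hXi hx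
  have hgY := AlgSpDecent.IntegralGen.gens_iff Y.property hYi hy
  have hxy := AlgSpDecent.IntegralGen.map_generic Y.property hYi hd hx hy
  constructor
  · intro h5
    obtain ⟨Y', X', j, fst, snd, hj, hdense, sq, hfin⟩ := Groth.Agent.S10400.result f hft hYi.2.1
      ((Set.finite_singleton x).subset fun x' hx' => (hgX x').1 hx')
      ((Set.finite_singleton y).subset fun y' hy' => (hgY y').1 hy')
      (fun x' => by rw [hgX, hgY]; exact ⟨fun e => e ▸ hxy, h5 x'⟩) hsq.symm
    obtain ⟨V, b, v, hV, hb, hsub, hv⟩ := AlgSpDecent.IntegralGen.exists_affine_open Y.property hYi hy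
      (isOpenEmbedding_map hj).isOpen_range (Set.Nonempty.mono (subset_refl _) (by
        obtain ⟨z, -, hz⟩ := hdense.inter_open_nonempty Set.univ isOpen_univ ⟨y, trivial⟩
        exact ⟨z, hz⟩))
    obtain ⟨φ, hφ⟩ := exists_lift_yon_of_range_subset hj b hsub
    obtain ⟨W, i, c, sqW, hW, hi⟩ := hfin hV φ
    exact ⟨V, b, W, i, c ≫ snd.hom, hV, ⟨v⟩, hb, hφ ▸ sqW.paste_horiz sq.flip, hW, hi⟩
  · rintro ⟨V, b, U, g, a, hV, ⟨v₀⟩, hb, sq, hU, hg⟩ x' hx'
    have hbe : RepWith @Etale b := repWith_mono hb fun _ _ g (_ : IsOpenImmersion g) => (inferInstance : Etale g)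
    obtain ⟨v, hv⟩ := AlgSpDecent.IntegralGen.mem_open hy (AlgSpDecent.Core.isOpen_range_ofPt hbe) ⟨_, v₀, rfl⟩
    refine (hgX x').1 (((Groth.Agent.S10399.result f hft y ((hgY y).2 rfl)).1.2 fun x'' hx'' => ?_) x' hx')
    obtain ⟨z, hz₁, hz₂⟩ := AlgSpDecent.Core.exists_point_of_isPullback sq x'' (AlgSp.Points.ofPt (𝟙 ((yon S).obj V)) v)
      (by rw [← AlgSpDecent.Core.ofPt_comp, Category.id_comp, hx'', hv])
    obtain ⟨u, rfl⟩ := (AlgSp.Points.schemeEquiv U).surjective z
    have hau : AlgSp.Points.ofPt a u = x'' := by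
      rw [← hz₁, ← Category.id_comp a, AlgSpDecent.Core.ofPt_comp]
      rfl
    rw [← hau]
    exact (AlgSpDecent.ChartOver.qfAt_iff_chart X.property Y.property hft (repWith_baseChange sq.flip hbe) hbe sq.w u).2
      (Scheme.Hom.quasiFiniteAt _ _)

end Groth.Agent.S10488
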