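import Groth.Statements.S1550
import Groth.Agent.Lib.GrpSch.SepPoints
import Groth.Agent.H2.Rigid.DimPoint
import Groth.Agent.Lib.VarDim.Basic

set_option autoImplicit false
universe u
open CategoryTheory CategoryTheory.Limits AlgebraicGeometry
attribute [local instance] Curv2.resAlgebra
open Variety

namespace Groth.Agent.S1550

/-- If X is smooth over a field k, then the set of closed points of X whose residue field is finite
separable over k is dense in X. -/
theorem result (k : Type u) [Field k] (X : Scheme.{u}) [X.Over (Spec (CommRingCat.of k))] [Smooth (X ↘ (Spec (CommRingCat.of k)))] :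
    Dense {x : X | IsClosed ({x} : Set X) ∧ FiniteDimensional k (X.residueField x) ∧ Algebra.IsSeparable k (X.residueField x)} := by
  set f := X ↘ (Spec (CommRingCat.of k))
  rw [dense_iff_inter_open]
  intro O hO hne
  let U : X.Opens := ⟨O, hO⟩
  obtain ⟨x₀, hx₀⟩ := hne
  let K := SeparableClosure k
  let σ := Spec.map (CommRingCat.ofHom (algebraMap k K))
  haveI : Nonempty U.toScheme := ⟨⟨x₀, hx₀⟩⟩
  haveI : Nonempty ↥(pullback (U.ι ≫ f) σ) := by
    obtain ⟨z, -, -⟩ := Scheme.Pullback.exists_preimage_pullback (f := U.ι ≫ f) (g := σ)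
      ⟨x₀, hx₀⟩ (IsLocalRing.closedPoint K) (Subsingleton.elim _ _)
    exact ⟨z⟩
  obtain ⟨s, hs⟩ := Groth.Agent.Lib.GrpSch.exists_section_of_smooth (pullback.snd (U.ι ≫ f) σ)
  let t : Spec (CommRingCat.of K) ⟶ U.toScheme := s ≫ pullback.fst _ _
  have ht : (t ≫ U.ι) ≫ f = σ := by
    rw [Category.assoc, show t = s ≫ pullback.fst _ _ from rfl, Category.assoc, pullback.condition,
      ← Category.assoc, hs, Category.id_comp]
  have hmem : ∀ p, (t ≫ U.ι) p ∈ O := fun p => by
    rw [Scheme.Hom.comp_apply]; exact (t p).2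
  obtain ⟨⟨x, φ⟩, hxφ⟩ := (Scheme.SpecToEquivOfField K X).symm.surjective (t ≫ U.ι)
  change Spec.map φ ≫ X.fromSpecResidueField x = t ≫ U.ι at hxφ
  have hx : x ∈ O := by
    let p : Spec (CommRingCat.of K) := IsLocalRing.closedPoint K
    have h1 := hmem p
    rw [← hxφ, Scheme.Hom.comp_apply] at h1
    have h2 : X.fromSpecResidueField x (Spec.map φ p) ∈ Set.range (X.fromSpecResidueField x) :=
      ⟨_, rfl⟩
    rw [Scheme.range_fromSpecResidueField, Set.mem_singleton_iff] at h2
    rwa [h2] at h1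
  have hφ : CommRingCat.ofHom (Curv2.resMap k X x) ≫ φ = CommRingCat.ofHom (algebraMap k K) := by
    apply Spec.map_injective
    rw [Spec.map_comp, Groth.Agent.Lib.GeomConn.Residue.specMap_resMap k X x, ← Category.assoc, hxφ]
    exact ht
  letI := Curv2.resAlgebra k X x
  let g : X.residueField x →ₐ[k] K :=
    { toRingHom := φ.hom, commutes' := fun c => congr($(hφ).hom c) }
  have hsep : Algebra.IsSeparable k (X.residueField x) := Algebra.IsSeparable.of_algHom k K g
  have hd : Groth.Agent.Lib.Cyc.FieldDim.fdelta f x = 0 := by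
    have h := Groth.Agent.H2.Rigid.DimPoint.fdelta_eq_trdeg k X x
    haveI : Algebra.IsAlgebraic k (X.residueField x) := inferInstance
    rw [trdeg_eq_zero (R := k) (A := X.residueField x), eq_comm, Nat.cast_eq_zero] at h
    have := Groth.Agent.Lib.Cyc.FieldDim.fdelta_nonneg (X ↘ Spec (CommRingCat.of k)) x
    show Groth.Agent.Lib.Cyc.FieldDim.fdelta (X ↘ Spec (CommRingCat.of k)) x = 0
    omega
  have hcl : IsClosed ({x} : Set X) := by
    rw [← Groth.Agent.Lib.VarDim.Basic.pdim_eq_zero_iff f x]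
    have := Groth.Agent.Lib.VarDim.Basic.fdelta_eq f x
    omega
  refine ⟨x, hx, hcl, ?_, hsep⟩
  have hfin : (f.residueFieldMap x).hom.Finite :=
    Groth.Agent.Lib.Cyc.Residue.residueFieldMap_finite_of_trdeg_eq_zero x (by
      rw [Groth.Agent.Lib.Cyc.FieldDim.trdegAt_eq_fdelta, hd]; simp)
  have h2 : Curv2.resMap k X x = (f.residueFieldMap x).hom.comp
      (Groth.Agent.Lib.PointDim.Basic.kToRes (𝟙 (Spec (CommRingCat.of k))) (f x)).hom := by
    rw [← CommRingCat.hom_comp, ← Groth.Agent.Lib.PointDim.Basic.kToRes_eq_residueFieldMap]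
    refine congrArg CommRingCat.Hom.hom (Spec.map_injective
      (a₁ := CommRingCat.ofHom (Curv2.resMap k X x)) ?_)
    exact (Groth.Agent.Lib.GeomConn.Residue.specMap_resMap k X x).trans
      (Groth.Agent.Lib.PointDim.Basic.specMap_kToRes f x).symm
  have h3 : (Curv2.resMap k X x).Finite := h2 ▸ hfin.comp
    (RingHom.Finite.of_surjective _ (Groth.Agent.Lib.PointDim.Basic.kToRes_id_bijective (f x)).2)
  exact h3


end Groth.Agent.S1550
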