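import Groth.Statements.S10490
import Groth.Agent.S1550
import Groth.Agent.Lib.GeomConn.Residue
import Groth.Agent.Lib.AlgSpMor.LocP
import Groth.Agent.Lib.AlgSpace.Points

set_option autoImplicit false
universe u
open CategoryTheory CategoryTheory.Limits AlgebraicGeometry Topology TopologicalSpace
open AlgSp

namespace Groth.Agent.S10490

/-- Let k be a field and X an algebraic space smooth over k. Then the points of X which are images of
morphisms Spec k' ⟶ X over k with k' a finite separable extension of k form a dense subset of |X|. -/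
theorem result (k : Type u) [Field k] (X : AlgSp.Space (Spec (CommRingCat.of k))) (p : X.obj ⟶ (AlgSp.yon (Spec (CommRingCat.of k))).obj (Over.mk (𝟙 _))) (hp : AlgSp.LocP @Smooth p) :
    Dense {x : AlgSp.Points X.obj | ∃ (k' : Type u) (_ : Field k') (_ : Algebra k k'),
      Module.Finite k k' ∧ Algebra.IsSeparable k k' ∧
        ∃ v : X.obj.obj.obj (Opposite.op (Over.mk (Spec.map (CommRingCat.ofHom (algebraMap k k'))))),
          AlgSp.Points.mk ⟨k', Spec.map (CommRingCat.ofHom (algebraMap k k')), v⟩ = x} := by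
  rw [dense_iff_inter_open]
  intro W hW ⟨x, hx⟩
  obtain ⟨U, a, ha, hs⟩ := X.property.atlas
  obtain ⟨u₀, rfl⟩ := Groth.Agent.Lib.AlgSpace.surjective_ofPt hs x
  obtain ⟨h, hh⟩ := (AlgSp.yon _).map_surjective (a ≫ p)
  have hsm : Smooth h.left := hp a (𝟙 _) h ha (AlgSp.repWith_id _ _) (by rw [hh, Category.comp_id])
  have e : U.hom = h.left := ((Over.w h).symm.trans (Category.comp_id _))
  haveI : Smooth U.hom := e.symm ▸ hsm
  letI : U.left.Over (Spec (CommRingCat.of k)) := ⟨U.hom⟩
  haveI : Smooth (U.left ↘ Spec (CommRingCat.of k)) := inferInstanceAs (Smooth U.hom)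
  obtain ⟨u, huW, -, hfd, hsep⟩ := (Groth.Agent.S1550.result k U.left).inter_open_nonempty _
    (hW.preimage (AlgSp.Points.continuous_ofPt a)) ⟨u₀, hx⟩
  letI := Curv2.resAlgebra k U.left u
  have hc : U.left.fromSpecResidueField u ≫ U.hom =
      Spec.map (CommRingCat.ofHom (algebraMap k (U.left.residueField u))) :=
    (Groth.Agent.Lib.GeomConn.Residue.specMap_resMap k U.left u).symm
  let c : Over.mk (Spec.map (CommRingCat.ofHom (algebraMap k (U.left.residueField u)))) ⟶ U :=
    Over.homMk (U.left.fromSpecResidueField u) hc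
  refine ⟨AlgSp.Points.ofPt a u, huW, U.left.residueField u, inferInstance, Curv2.resAlgebra k U.left u, hfd, hsep,
    Groth.Agent.Lib.AlgSpace.secEquiv _ ((AlgSp.yon _).map c ≫ a), ?_⟩
  refine (Groth.Agent.Lib.AlgSpace.ofPt_fieldPtHom _ (IsLocalRing.closedPoint _)).symm.trans ?_
  rw [Groth.Agent.Lib.AlgSpace.fieldPtHom, Equiv.symm_apply_apply, Groth.Agent.Lib.AlgSpace.ofPt_yon_map_comp]
  exact congrArg _ (Scheme.fromSpecResidueField_apply u _)

end Groth.Agent.S10490
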