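import Groth.Statements.S10491
import Groth.Agent.Lib.AlgSpace.Points
import Groth.Agent.Lib.AlgSpMor.LocP
import Mathlib.AlgebraicGeometry.Noetherian

set_option autoImplicit false
universe u
open CategoryTheory CategoryTheory.Limits AlgebraicGeometry Topology TopologicalSpace
open AlgSp

namespace Groth.Agent.S10491

/-- Let X be an algebraic space over a scheme S which is locally Noetherian, and T ⊂ |X| a closed
subset. Then every point of |X| has a neighbourhood meeting only finitely many irreducible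
components of T. -/
theorem result {S : Scheme.{u}} (X : AlgSp.Space S)
    (hX : AlgSp.IsLocNoethSp X.obj) (T : Set (AlgSp.Points X.obj)) (hT : IsClosed T) :
    LocallyFinite (fun Z : ↥(irreducibleComponents ↥T) => ((↑) : ↥T → AlgSp.Points X.obj) '' (Z : Set ↥T)) := by
  intro x
  obtain ⟨U, a, ha, hs, hN⟩ := hX
  haveI : IsLocallyNoetherian U.left := hN
  obtain ⟨u, rfl⟩ := Groth.Agent.Lib.AlgSpace.surjective_ofPt hs x
  obtain ⟨V, hV, huV, -⟩ := exists_isAffineOpen_mem_and_subset (U := ⊤) (Set.mem_univ u)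
  haveI : IsAffine V.toScheme := hV
  haveI : IsLocallyNoetherian V.toScheme := isLocallyNoetherian_of_isOpenImmersion V.ι
  haveI : IsNoetherian V.toScheme := {}
  let O : Set (AlgSp.Points X.obj) := AlgSp.Points.ofPt a '' (V : Set ↥U.left)
  have hO : IsOpen O := Groth.Agent.Lib.AlgSpace.isOpenMap_ofPt ha _ V.2
  refine ⟨O, hO.mem_nhds ⟨u, huV, rfl⟩, ?_⟩
  let g : {v : ↥V.toScheme // AlgSp.Points.ofPt a (V.ι v) ∈ T} → {t : ↥T // (t : AlgSp.Points X.obj) ∈ O} :=
    fun v => ⟨⟨_, v.2⟩, ⟨V.ι v.1, v.1.2, rfl⟩⟩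
  have hg : Continuous g := by
    refine (Continuous.subtype_mk ?_ _)
    exact ((AlgSp.Points.continuous_ofPt a).comp (V.ι.continuous.comp continuous_subtype_val)).subtype_mk _
  have hgs : Function.Surjective g := by
    rintro ⟨⟨y, hy⟩, hyO⟩
    obtain ⟨v, hv, e⟩ := hyO
    exact ⟨⟨⟨v, hv⟩, show AlgSp.Points.ofPt a v ∈ T by rw [e]; exact hy⟩, Subtype.ext (Subtype.ext e)⟩
  haveI : NoetherianSpace {v : ↥V.toScheme // AlgSp.Points.ofPt a (V.ι v) ∈ T} :=
    Topology.IsInducing.subtypeVal.noetherianSpace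
  haveI : NoetherianSpace {t : ↥T // (t : AlgSp.Points X.obj) ∈ O} := noetherianSpace_of_surjective g hg hgs
  have he : IsOpenEmbedding (Subtype.val : {t : ↥T // (t : AlgSp.Points X.obj) ∈ O} → ↥T) :=
    (hO.preimage continuous_subtype_val).isOpenEmbedding_subtypeVal
  have key : ∀ Z ∈ {Z : ↥(irreducibleComponents ↥T) |
      (((↑) : ↥T → AlgSp.Points X.obj) '' (Z : Set ↥T) ∩ O).Nonempty},
      ((Z : Set ↥T) ∩ Set.range (Subtype.val : {t : ↥T // (t : AlgSp.Points X.obj) ∈ O} → ↥T)).Nonempty := by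
    rintro Z ⟨_, ⟨t, ht, rfl⟩, htO⟩
    exact ⟨t, ht, ⟨t, htO⟩, rfl⟩
  refine Set.Finite.of_finite_image (f := fun Z : ↥(irreducibleComponents ↥T) =>
    (Subtype.val : {t : ↥T // (t : AlgSp.Points X.obj) ∈ O} → ↥T) ⁻¹' (Z : Set ↥T))
    (NoetherianSpace.finite_irreducibleComponents.subset ?_) ?_
  · rintro _ ⟨Z, hZ, rfl⟩
    exact preimage_mem_irreducibleComponents Z.2 he (key Z hZ)
  · intro Z hZ Z' hZ' e
    apply Subtype.ext
    rw [← closure_image_preimage_of_isPreirreducible _ he.isOpenMap _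
        (by obtain ⟨t, ht, w, rfl⟩ := key Z hZ; exact ⟨w, ht⟩) Z.2.1.2 (isClosed_of_mem_irreducibleComponents _ Z.2),
      ← closure_image_preimage_of_isPreirreducible _ he.isOpenMap _
        (by obtain ⟨t, ht, w, rfl⟩ := key Z' hZ'; exact ⟨w, ht⟩) Z'.2.1.2 (isClosed_of_mem_irreducibleComponents _ Z'.2)]
    simp only at e
    rw [e]

end Groth.Agent.S10491
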