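import Groth.Statements.S10492
import Groth.Agent.Lib.AlgSpDecent.Sober
import Groth.Agent.Lib.AlgSpDecent.Decent
import Groth.Agent.S2102

set_option autoImplicit false
universe u
open CategoryTheory CategoryTheory.Limits AlgebraicGeometry Topology TopologicalSpace
open AlgSp

namespace Groth.Agent.S10492

open CategoryTheory CategoryTheory.Limits AlgebraicGeometry Opposite AlgSp Groth.Agent.Lib Groth.Agent.Lib.AlgSpace Topology

theorem normal_of_open {X : Scheme.{u}} (U : X.Opens)
    (hX : ∀ x : X, IsDomain (X.presheaf.stalk x) ∧ IsIntegrallyClosed (X.presheaf.stalk x))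
    (x : ↥(U : Scheme.{u})) :
    IsDomain ((U : Scheme.{u}).presheaf.stalk x) ∧ IsIntegrallyClosed ((U : Scheme.{u}).presheaf.stalk x) := by
  have e := (asIso (U.ι.stalkMap x)).commRingCatIsoToRingEquiv
  obtain ⟨h1, h2⟩ := hX (U.ι.base x)
  exact ⟨e.toMulEquiv.isDomain_iff.mp h1, IsIntegrallyClosed.of_equiv e⟩

theorem exists_unique_component {X : Scheme.{u}} (hX : Pi1.IsNormalScheme X) (x : X) :
    ∃ Z ∈ irreducibleComponents X, x ∈ Z ∧ ∀ Z' ∈ irreducibleComponents X, x ∈ Z' → Z' = Z := by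
  have := (hX x).1
  let q : X := X.fromSpecStalk x ⟨⊥, Ideal.isPrime_bot⟩
  have key : ∀ Z' ∈ irreducibleComponents X, x ∈ Z' → Z' = closure {q} := by
    intro Z' hZ' hx
    have hg := hZ'.1.isGenericPoint_genericPoint (isClosed_of_mem_irreducibleComponents Z' hZ')
    obtain ⟨r, hr⟩ : hZ'.1.genericPoint ∈ Set.range (X.fromSpecStalk x) := by
      rw [Scheme.range_fromSpecStalk]; exact hg.specializes hx
    have hq : q ⤳ hZ'.1.genericPoint := by
      rw [← hr]
      exact Specializes.map ((PrimeSpectrum.le_iff_specializes _ _).1 (show (⟨⊥, Ideal.isPrime_bot⟩ : PrimeSpectrum _) ≤ r from (bot_le : ⊥ ≤ r.asIdeal))) (X.fromSpecStalk x).continuous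
    have h1 : Z' ⊆ closure {q} := hg.symm.subset.trans
      (closure_minimal (Set.singleton_subset_iff.2 hq.mem_closure) isClosed_closure)
    exact subset_antisymm h1 (hZ'.2 isIrreducible_singleton.closure h1)
  exact ⟨irreducibleComponent x, irreducibleComponent_mem_irreducibleComponents x, mem_irreducibleComponent,
    fun Z' h h' => (key Z' h h').trans (key _ (irreducibleComponent_mem_irreducibleComponents x) mem_irreducibleComponent).symm⟩

/-- Let X be a normal integral algebraic space over a scheme S. Each point x of X lies in the image of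
some etale morphism U ⟶ X from an affine scheme U that is normal and integral. -/
theorem result {S : Scheme.{u}} (X : AlgSp.Space S)
    (hXi : AlgSp.IsIntegralSp X.obj)
    (hXn : AlgSp.EtaleLocally (fun U => ∀ u : ↥U, IsDomain ↥(U.presheaf.stalk u) ∧
      IsIntegrallyClosed ↥(U.presheaf.stalk u)) X.obj)
    (x : AlgSp.Points X.obj) :
    ∃ (U : Over S) (a : (AlgSp.yon S).obj U ⟶ X.obj), AlgSp.RepWith @Etale a ∧ IsAffine U.left ∧
      IsIntegral U.left ∧ IsIntegrallyClosed ↥Γ(U.left, ⊤) ∧ x ∈ Set.range (AlgSp.Points.ofPt a) := by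
  obtain ⟨-, hdec, hirr⟩ := hXi
  obtain ⟨U₀, p, hp, hps, hn⟩ := hXn
  obtain ⟨u, rfl⟩ := AlgSpDecent.Core.surjective_ofPt hps x
  obtain ⟨W₀, hW₀, huW₀, -⟩ := exists_isAffineOpen_mem_and_subset (show u ∈ (⊤ : U₀.left.Opens) from trivial)
  let W : Over S := Over.mk (W₀.ι ≫ U₀.hom)
  let a : (yon S).obj W ⟶ X.obj := (yon S).map (AlgSpDecent.Specialize.openIncl W₀) ≫ p
  have ha : RepWith @Etale a := AlgSpDecent.Specialize.repWith_etale_openIncl_comp W₀ hp
  have : IsAffine W.left := hW₀
  have hWn : Pi1.IsNormalScheme W.left := fun w => normal_of_open W₀ hn w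
  let w : ↥W.left := ⟨u, huW₀⟩
  -- finitely many components
  have := AlgSpDecent.Sober.quasiSober_points X.property hdec
  let η := genericPoint (Points X.obj)
  have hfib := AlgSpDecent.Decent.IsDecent.finite_fibres hdec η W a inferInstance ha
  have hfin : (irreducibleComponents ↥W.left).Finite := by
    refine (hfib.image fun g => closure {g}).subset fun Z hZ => ?_
    have hg := hZ.1.isGenericPoint_genericPoint (isClosed_of_mem_irreducibleComponents Z hZ)
    refine ⟨hZ.1.genericPoint, ?_, hg⟩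
    obtain ⟨g', hg', he⟩ := AlgSpDecent.Decent.IsDecent.exists_lift hdec ha (genericPoint_specializes (Points.ofPt a hZ.1.genericPoint))
    have h1 : Z ⊆ closure {g'} := hg.symm.subset.trans
      (closure_minimal (Set.singleton_subset_iff.2 hg'.mem_closure) isClosed_closure)
    have h2 : closure {g'} ⊆ Z := hZ.2 isIrreducible_singleton.closure h1
    have h3 : IsGenericPoint g' Z := subset_antisymm h2 h1
    rw [← hg.eq h3] at he
    exact he
  obtain ⟨Z, hZ, hwZ, huniq⟩ := exists_unique_component hWn w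
  let B : Set ↥W.left := ⋃ Z' ∈ irreducibleComponents ↥W.left \ {Z}, Z'
  have hB : IsClosed B := (hfin.subset Set.sdiff_subset).isClosed_biUnion fun Z' h => isClosed_of_mem_irreducibleComponents Z' h.1
  have hwB : w ∉ B := by
    intro h
    obtain ⟨Z', ⟨hZ', hne⟩, hwZ'⟩ := Set.mem_iUnion₂.1 h
    exact hne (huniq Z' hZ' hwZ')
  obtain ⟨V₀, hV₀, hwV₀, hVB⟩ := exists_isAffineOpen_mem_and_subset (show w ∈ (⟨Bᶜ, hB.isOpen_compl⟩ : W.left.Opens) from hwB)
  have hVZ : (V₀ : Set ↥W.left) ⊆ Z := fun v hv => by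
    by_contra hvZ
    refine hVB hv (Set.mem_iUnion₂.2 ⟨irreducibleComponent v, ⟨irreducibleComponent_mem_irreducibleComponents v, fun e => hvZ ?_⟩, mem_irreducibleComponent⟩)
    exact (Set.mem_singleton_iff.1 e) ▸ mem_irreducibleComponent
  let V : Over S := Over.mk (V₀.ι ≫ W.hom)
  have : IsAffine V.left := hV₀
  have : Nonempty ↥V.left := ⟨⟨w, hwV₀⟩⟩
  have hVn : Pi1.IsNormalScheme V.left := fun v => normal_of_open V₀ hWn v
  have hVi : IsPreirreducible (V₀ : Set ↥W.left) := by
    intro o₁ o₂ ho₁ ho₂ ⟨v₁, hv₁, hm₁⟩ ⟨v₂, hv₂, hm₂⟩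
    obtain ⟨z, hz, hz₁, hz₂⟩ := hZ.1.isPreirreducible _ _ (V₀.2.inter ho₁) (V₀.2.inter ho₂) ⟨v₁, hVZ hv₁, hv₁, hm₁⟩ ⟨v₂, hVZ hv₂, hv₂, hm₂⟩
    exact ⟨z, hz₁.1, hz₁.2, hz₂.2⟩
  have : IrreducibleSpace ↥V.left :=
    { isPreirreducible_univ := by
        have := Subtype.preirreducibleSpace hVi
        exact this.isPreirreducible_univ
      toNonempty := inferInstance }
  have : ∀ v : ↥V.left, _root_.IsReduced (V.left.presheaf.stalk v) := fun v => by
    have := (hVn v).1
    infer_instance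
  have : IsReduced V.left := isReduced_of_isReduced_stalk _
  have : IsIntegral V.left := isIntegral_of_irreducibleSpace_of_isReduced _
  refine ⟨V, (yon S).map (AlgSpDecent.Specialize.openIncl V₀) ≫ a, AlgSpDecent.Specialize.repWith_etale_openIncl_comp V₀ ha, inferInstance, inferInstance, S2102.result V.left hVn, ⟨⟨w, hwV₀⟩, ?_⟩⟩
  refine (AlgSpDecent.Specialize.ofPt_openIncl_comp V₀ a ⟨w, hwV₀⟩).trans ?_
  exact AlgSpDecent.Specialize.ofPt_openIncl_comp W₀ p w

end Groth.Agent.S10492
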