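import Groth.Statements.S10495
import Groth.Agent.Lib.AlgSpDecent.IntegralGsect
import Groth.Agent.Lib.EtSite.StalkNormal

set_option autoImplicit false
universe u
open CategoryTheory CategoryTheory.Limits AlgebraicGeometry Topology TopologicalSpace
open AlgSp

namespace Groth.Agent.S10495

open Groth.Agent.Lib.AlgSpace Groth.Agent.Lib.AlgSpDecent

/-- Let X be a normal integral algebraic space over a scheme S. Then Γ(X, O_X) is a normal domain. -/
theorem result {S : Scheme.{u}} (X : AlgSp.Space S)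
    (hXi : AlgSp.IsIntegralSp X.obj)
    (hXn : AlgSp.EtaleLocally (fun U => ∀ u : ↥U, IsDomain ↥(U.presheaf.stalk u) ∧
      IsIntegrallyClosed ↥(U.presheaf.stalk u)) X.obj) :
    IsDomain ↥(AlgSp.gsectEt (AlgSp.OEt X.obj)) ∧ IsIntegrallyClosed ↥(AlgSp.gsectEt (AlgSp.OEt X.obj)) := by
  obtain ⟨hr, -, hi⟩ := hXi
  refine ⟨IntegralGsect.isDomain X.property hr, IntegralGsect.isIntegrallyClosed X.property hr fun E u => ?_⟩
  obtain ⟨U₀, a₀, ha₀, has₀, hn⟩ := hXn
  obtain ⟨R, p, q, sq⟩ := exists_isPullback_yon X.property.diag E.obj.hom a₀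
  obtain ⟨u₀, hu₀⟩ := Core.surjective_ofPt has₀ (Points.ofPt E.obj.hom u)
  obtain ⟨r, rfl, hqr⟩ := (ofPt_eq_ofPt_iff_of_isPullback sq u u₀).1 hu₀.symm
  have : Etale p.left := repWith_property ha₀ sq.flip
  have : Etale q.left := repWith_property E.property sq
  exact (Groth.Agent.Lib.EtSite.StalkNormal.normal_iff p.left r).1
    ((Groth.Agent.Lib.EtSite.StalkNormal.normal_iff q.left r).2 (hn _))

end Groth.Agent.S10495
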