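import Groth.Statements.S10496
import Groth.Agent.Lib.AlgSpDecent.RedInduced
import Groth.Agent.Lib.AlgSpDecent.Decent
import Groth.Agent.Lib.AlgSpMor.Proper

set_option autoImplicit false
universe u
open CategoryTheory CategoryTheory.Limits AlgebraicGeometry Topology TopologicalSpace
open AlgSp

namespace Groth.Agent.S10496

open CategoryTheory CategoryTheory.Limits AlgebraicGeometry Opposite AlgSp Groth.Agent.Lib.AlgSpDecent Groth.Agent.Lib.AlgSpace

/-- Let X be a decent algebraic space over a scheme S. For every irreducible closed subset T of |X|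
there is an integral closed subspace Z of X with |Z| = T. -/
theorem result {S : Scheme.{u}} (X : AlgSp.Space S)
    (hX : AlgSp.IsDecent X.obj) (T : Set (AlgSp.Points X.obj)) (hT : IsClosed T) (hTi : IsIrreducible T) :
    ∃ (Z : AlgSp.Space S) (i : Z ⟶ X), AlgSp.RepWith @IsClosedImmersion i.hom ∧ AlgSp.IsIntegralSp Z.obj ∧
      Set.range (AlgSp.Points.map i.hom) = T := by
  obtain ⟨Z, i, hZ, hci, hr, hred⟩ := RedInduced.exists_redInduced X.property hT
  refine ⟨⟨Z, hZ⟩, ObjectProperty.homMk i, hci, ⟨hred, Decent.isDecent_of_representable hci.rep hX, ?_⟩, hr⟩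
  have hm : Mono i := mono_of_repWith (P := @IsClosedImmersion)
    (fun _ _ g (_ : IsClosedImmersion g) ↦ (inferInstance : Mono g)) hci
  have hclosed : IsClosedMap (Points.map i) := Groth.Agent.Lib.AlgSpMor.Proper.isClosedMap_of_isUnivClosedMor X.property
    (Groth.Agent.Lib.AlgSpMor.Proper.isUnivClosedMor_of_repWith (repWith_mono hci fun _ _ g (_ : IsClosedImmersion g) ↦ (inferInstance : UniversallyClosed g)))
  have he : Topology.IsClosedEmbedding (Points.map i) :=
    .of_continuous_injective_isClosedMap (Points.continuous_map i) (injective_map_of_mono i) hclosed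
  have hT' : IsIrreducible (Set.range (Points.map i)) := hr.symm ▸ hTi
  have : IsIrreducible (Points.map i ⁻¹' Set.range (Points.map i)) := by
    refine ⟨?_, ?_⟩
    · obtain ⟨_, y, rfl⟩ := hT'.nonempty
      exact ⟨y, y, rfl⟩
    · intro u v hu hv ⟨a, _, hau⟩ ⟨b, _, hbv⟩
      obtain ⟨U', hU', rfl⟩ := he.isInducing.isOpen_iff.1 hu
      obtain ⟨V', hV', rfl⟩ := he.isInducing.isOpen_iff.1 hv
      obtain ⟨_, ⟨c, rfl⟩, hc⟩ := hT'.isPreirreducible U' V' hU' hV' ⟨_, ⟨a, rfl⟩, hau⟩ ⟨_, ⟨b, rfl⟩, hbv⟩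
      exact ⟨c, ⟨c, rfl⟩, hc⟩
  rw [Set.preimage_range] at this
  exact irreducibleSpace_def _ |>.2 this

end Groth.Agent.S10496
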