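import Groth.Statements.S10497
import Groth.Agent.Lib.AlgSpGeomRed.Fields
import Groth.Agent.Lib.AlgSpDecent.Decent
import Groth.Agent.S10423

set_option autoImplicit false
universe u
open CategoryTheory CategoryTheory.Limits AlgebraicGeometry Topology TopologicalSpace
open AlgSp

namespace Groth.Agent.S10497

open Groth.Agent.Lib.AlgSpace Groth.Agent.Lib.AlgSpDecent

/-- Let k be a field and X a decent algebraic space over k. Then all base changes X_K to field
extensions K of k are integral exactly when X is geometrically reduced over k and every |X_K| is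
irreducible. -/
theorem result (k : Type u) [Field k] (X : AlgSp.Space (Spec (CommRingCat.of k))) (hX : AlgSp.IsDecent X.obj) :
    (∀ (K : Type u) [Field K] [Algebra k K], AlgSp.IsIntegralSp (X.obj ⨯ (AlgSp.yon (Spec (CommRingCat.of k))).obj (Over.mk (Spec.map (CommRingCat.ofHom (algebraMap k K)))))) ↔
      (∀ x : AlgSp.Points X.obj, (∃ (U : Over (Spec (CommRingCat.of k))) (a : (AlgSp.yon (Spec (CommRingCat.of k))).obj U ⟶ X.obj) (u : ↥U.left),
      AlgSp.RepWith @Etale a ∧ AlgSp.Points.ofPt a u = x ∧ FBase.IsGeomReducedAt U.hom u)) ∧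
        ∀ (K : Type u) [Field K] [Algebra k K], IrreducibleSpace (AlgSp.Points (X.obj ⨯ (AlgSp.yon (Spec (CommRingCat.of k))).obj (Over.mk (Spec.map (CommRingCat.ofHom (algebraMap k K)))))) := by
  obtain ⟨U, a, ha, hs⟩ := X.property.atlas
  refine Iff.trans ?_ (and_congr_left' (Groth.Agent.Lib.AlgSpGeomRed.forall_grAt_iff X ha hs).symm)
  refine ⟨fun h => ⟨Groth.Agent.Lib.AlgSpGeomRed.isGeomReducedAt_of_forall fun K _ _ =>
      (Groth.Agent.Lib.AlgSpGeomRed.isReducedSp_bc_iff X ha hs K).1 (h K).1, fun K _ _ => (h K).2.2⟩,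
    fun ⟨h, hi⟩ K _ _ => ⟨(Groth.Agent.Lib.AlgSpGeomRed.isReducedSp_bc_iff X ha hs K).2
      (Groth.Agent.Lib.AlgSpGeomRed.geometricallyReduced_of_forall h K), ?_, hi K⟩⟩
  refine Decent.isDecent_of_isDecentMor (f := (prod.fst : X.obj ⨯ _ ⟶ X.obj)) ?_ hX
  intro T F' g fst snd sq
  exact (Groth.Agent.S10423.isDecent_yon_obj _).of_iso
    ((Groth.Agent.Lib.AlgSpGeomRed.isPullback_prodChart _ g).flip.isoIsPullback _ _ sq)

end Groth.Agent.S10497
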