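import Groth.Statements.S10498
import Groth.Agent.Lib.Henselian.StrictHenselization
import Groth.Agent.Lib.Henselian.IndEtale
import Groth.Agent.H56.AbsFlat

set_option autoImplicit false
universe u
open TensorProduct
open Hensel

namespace Groth.Agent.S10498

open Groth.Agent.Lib.Henselian

/-- (1) ⇔ (2): let k be a field, A a local k-algebra and R a strict henselization of A. Then A is
geometrically reduced over k (K ⊗_k A reduced for every field extension K of k) if and only if R is
geometrically reduced over k. -/
theorem result (k : Type u) [Field k]
    (A : Type u) [CommRing A] [IsLocalRing A] [Algebra k A]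
    (R : Type u) [CommRing R] [IsLocalRing R] [Algebra A R] [IsLocalHom (algebraMap A R)]
    [Hensel.IsStrictHenselization A R] [Algebra k R] [IsScalarTower k A R] :
    (∀ (K : Type u) [Field K] [Algebra k K], IsReduced (TensorProduct k K A)) ↔
      ∀ (K : Type u) [Field K] [Algebra k K], IsReduced (TensorProduct k K R) := by
  have := StrictHenselization.faithfullyFlat A R
  constructor
  · intro h K _ _
    have : Algebra.WeaklyEtale A R := Groth.Agent.Lib.IndEtale.Basic.weaklyEtale
      (Groth.Agent.Lib.IndEtale.Basic.of_algEquiv Groth.Agent.Lib.Henselian.IndEtale.isIndEtale_lim
        (StrictHenselization.equivOfIsStrictHenselization A R))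
    let T := TensorProduct k A K
    have := h K
    have : IsReduced T := isReduced_of_injective _ (Algebra.TensorProduct.comm k A K).injective
    have : IsReduced (TensorProduct A T R) := H56.AbsFlat.isReduced_of_weaklyEtale T (TensorProduct A T R)
    have : IsReduced (TensorProduct A R T) :=
      isReduced_of_injective _ (Algebra.TensorProduct.comm A R T).injective
    have : IsReduced (TensorProduct k R K) :=
      isReduced_of_injective _ (Algebra.TensorProduct.cancelBaseChange k A A R K).symm.injective
    exact isReduced_of_injective _ (Algebra.TensorProduct.comm k K R).injective
  · intro h K _ _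
    have := h K
    refine isReduced_of_injective (Algebra.TensorProduct.map (AlgHom.id k K) (IsScalarTower.toAlgHom k A R)) ?_
    exact Module.Flat.lTensor_preserves_injective_linearMap (M := K) (IsScalarTower.toAlgHom k A R).toLinearMap
      (FaithfulSMul.algebraMap_injective A R)

end Groth.Agent.S10498
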