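import Groth.Statements.S10500
import Groth.Agent.S9993
import Groth.Agent.Lib.AlgSpDecent.FiniteNhd
import Groth.Agent.Lib.AlgSpMor.MonoLft
import Groth.Agent.S10399
import Groth.Agent.Lib.AlgSpDecent.IntegralGen
import Groth.Agent.Lib.AlgSpDecent.ChartOver

set_option autoImplicit false
universe u
open CategoryTheory CategoryTheory.Limits AlgebraicGeometry Topology TopologicalSpace
open AlgSp

namespace Groth.Agent.S10500

open Groth.Agent.Lib Groth.Agent.Lib.AlgSpace

/-- Let X and Y be integral algebraic spaces over a scheme S with generic points x and y, and f : X ⟶ Y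
a morphism which is proper and dominant. Then f is an alteration (finite over some nonempty open
subspace of Y) if and only if x is the only point of X mapping to y. -/
theorem result {S : Scheme.{u}} {X Y : AlgSp.Space S}
    (hXi : AlgSp.IsIntegralSp X.obj) (hYi : AlgSp.IsIntegralSp Y.obj) (f : X ⟶ Y) (hp : AlgSp.IsProperMor f.hom)
    (hd : AlgSp.IsDominantMor f.hom)
    (x : AlgSp.Points X.obj) (hx : IsGenericPoint x (Set.univ : Set (AlgSp.Points X.obj)))
    (y : AlgSp.Points Y.obj) (hy : IsGenericPoint y (Set.univ : Set (AlgSp.Points Y.obj))) :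
    (∃ (V : AlgSp.Space S) (j : V ⟶ Y), AlgSp.RepWith @IsOpenImmersion j.hom ∧ Nonempty (AlgSp.Points V.obj) ∧
      ∀ (P : AlgSp.Space S) (fst : P ⟶ V) (snd : P ⟶ X), IsPullback fst.hom snd.hom j.hom f.hom →
        AlgSp.IsFiniteMor fst.hom) ↔ (∀ x' : AlgSp.Points X.obj, AlgSp.Points.map f.hom x' = y → x' = x) := by
  have hgX := AlgSpDecent.IntegralGen.gens_iff X.property hXi hx
  have hgY := AlgSpDecent.IntegralGen.gens_iff Y.property hYi hy
  have hxy := AlgSpDecent.IntegralGen.map_generic Y.property hYi hd hx hy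
  constructor
  · rintro ⟨V, j, hj, ⟨v₀⟩, hfin⟩ x' hx'
    refine (hgX x').1 (((Groth.Agent.S10399.result f hp.2.1.1 y ((hgY y).2 rfl)).1.2 fun x'' hx'' => ?_) x' hx')
    obtain ⟨v, hv⟩ := AlgSpDecent.IntegralGen.mem_open hy (isOpenEmbedding_map hj).isOpen_range ⟨_, v₀, rfl⟩
    have sq := IsPullback.of_hasPullback j.hom f.hom
    have hP : IsAlgSpace (pullback j.hom f.hom) := isAlgSpace_of_isPullback sq Y.property.diag V.property X.property
    have hsnd : RepWith @IsOpenImmersion (pullback.snd j.hom f.hom) := repWith_baseChange sq hj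
    obtain ⟨z, -, hz⟩ := AlgSpDecent.Core.exists_point_of_isPullback sq v x'' (by rw [hv, hx''])
    let Q : MorphismProperty Scheme.{u} :=
      (@LocallyQuasiFinite : MorphismProperty Scheme.{u}) ⊓ (@LocallyOfFiniteType : MorphismProperty Scheme.{u})
    have hQ : ∀ ⦃A B : Scheme.{u}⦄ (g : A ⟶ B), Q g ↔ (LocallyQuasiFinite g ∧ LocallyOfFiniteType g) :=
      fun A B g => Iff.rfl
    refine (Groth.Agent.S9993.result Q (.inr (.inr (.inr (.inr (.inr (.inl hQ)))))) f x'').2
      ⟨⟨_, hP⟩, ObjectProperty.homMk (pullback.snd j.hom f.hom), hsnd, ⟨z, hz⟩, ?_⟩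
    show LocP Q (pullback.snd j.hom f.hom ≫ f.hom)
    rw [← pullback.condition]
    exact AlgSpMor.LocP.locP_comp AlgSpMor.LocP.lqfLft hP V.property Y.property
      (AlgSpMor.MonoLft.props_of_finite V.property
        (hfin ⟨_, hP⟩ (ObjectProperty.homMk (pullback.fst j.hom f.hom)) (ObjectProperty.homMk (pullback.snd j.hom f.hom)) sq)).2
      (AlgSpMor.LocP.locP_of_repWith AlgSpMor.LocP.lqfLft
        (repWith_mono hj fun _ _ g (_ : IsOpenImmersion g) => ⟨inferInstance, inferInstance⟩))
  · intro h5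
    obtain ⟨Y', j, hj, ⟨v, hv⟩, hP⟩ := AlgSpDecent.FiniteNhd.exists_open_finite f hp y
      ((Groth.Agent.S10399.result f hp.2.1.1 y ((hgY y).2 rfl)).1.1 fun x' hx' => (hgX x').2 (h5 x' hx'))
    exact ⟨Y', j, hj, ⟨v⟩, hP⟩

end Groth.Agent.S10500
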