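import Groth.Statements.S10502
import Groth.Agent.S10479

set_option autoImplicit false
universe u
open CategoryTheory CategoryTheory.Limits AlgebraicGeometry Topology TopologicalSpace
open AlgSp

namespace Groth.Agent.S10502

/-- Let k be a field, X an algebraic space over k and K/k a field extension. Then X being geometrically
reduced over k is equivalent to its base change X_K being geometrically reduced over K. -/
theorem result (k : Type u) [Field k] (X : AlgSp.Space (Spec (CommRingCat.of k))) (K : Type u) [Field K] [Algebra k K] :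
    (∀ x : AlgSp.Points X.obj, (∃ (U : Over (Spec (CommRingCat.of k))) (a : (AlgSp.yon (Spec (CommRingCat.of k))).obj U ⟶ X.obj) (u : ↥U.left),
      AlgSp.RepWith @Etale a ∧ AlgSp.Points.ofPt a u = x ∧ FBase.IsGeomReducedAt U.hom u)) ↔
      ∀ x' : AlgSp.Points (X.obj ⨯ (AlgSp.yon (Spec (CommRingCat.of k))).obj (Over.mk (Spec.map (CommRingCat.ofHom (algebraMap k K))))), (∃ (U' : Over (Spec (CommRingCat.of k))) (a' : (AlgSp.yon (Spec (CommRingCat.of k))).obj U' ⟶ (X.obj ⨯ (AlgSp.yon (Spec (CommRingCat.of k))).obj (Over.mk (Spec.map (CommRingCat.ofHom (algebraMap k K))))))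
        (q : U' ⟶ Over.mk (Spec.map (CommRingCat.ofHom (algebraMap k K)))) (u' : ↥U'.left),
        AlgSp.RepWith @Etale a' ∧ a' ≫ Limits.prod.snd = (AlgSp.yon (Spec (CommRingCat.of k))).map q ∧
          AlgSp.Points.ofPt a' u' = x' ∧ FBase.IsGeomReducedAt q.left u') := by
  constructor
  · intro h x'
    exact (Groth.Agent.S10479.result k X K _ x' rfl).1 (h _)
  · intro h x
    obtain ⟨U, a, ha, hs⟩ := X.property.atlas
    obtain ⟨u, rfl⟩ := Groth.Agent.Lib.AlgSpace.surjective_ofPt hs x
    haveI : Surjective (Spec.map (CommRingCat.ofHom (algebraMap k K))) := ⟨fun p =>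
      ⟨Classical.arbitrary (Spec (CommRingCat.of K)), Subsingleton.elim _ _⟩⟩
    obtain ⟨v, rfl⟩ := (Limits.pullback.fst U.hom (Spec.map (CommRingCat.ofHom (algebraMap k K)))).surjective u
    refine (Groth.Agent.S10479.result k X K _ (Points.ofPt (Groth.Agent.Lib.AlgSpGeomRed.prodChart _ a) v) ?_).2 (h _)
    rw [Points.map_ofPt, Groth.Agent.Lib.AlgSpGeomRed.prodChart_fst, Groth.Agent.Lib.AlgSpace.ofPt_yon_map_comp]
    rfl

end Groth.Agent.S10502
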