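import Groth.Statements.S10510
import Groth.Agent.Lib.AlgSpMor.LocP
import Groth.Agent.Lib.AlgSpace.Points
-- import your own Groth.Agent.* helpers here

set_option autoImplicit false
universe u
open CategoryTheory CategoryTheory.Limits AlgebraicGeometry
open AlgSp

open Groth.Agent.Lib.AlgSpace Groth.Agent.Lib.AlgSpMor

namespace Groth.Agent.S10510

/-- An fppf covering `{X_i ⟶ X}` of an algebraic space `X` over `S` by algebraic spaces is jointly
surjective as a family of maps of fppf sheaves: every `h_T ⟶ X` from a scheme `T` over `S` lifts,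
locally for the fppf topology on `T`, through members of the family. -/
theorem result {S : Scheme.{u}} (X : AlgSp.Space S) {ι : Type u}
    (Xi : ι → AlgSp.Space S) (g : ∀ i, Xi i ⟶ X)
    (h : AlgSp.IsFppfCover (fun i => (Xi i).obj) (fun i => (g i).hom))
    (T : Over S) (t : (AlgSp.yon S).obj T ⟶ X.obj) :
    ∃ (κ : Type u) (Tk : κ → Over S) (c : ∀ k, Tk k ⟶ T),
      Sieve.ofArrows Tk c ∈ AlgSp.J S T ∧
      ∀ k, ∃ (i : ι) (l : (AlgSp.yon S).obj (Tk k) ⟶ (Xi i).obj), l ≫ (g i).hom = (AlgSp.yon S).map (c k) ≫ t := by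
  choose W a ha has using fun i => (Xi i).property.atlas
  choose R c e sq using fun i => exists_isPullback_yon X.property.diag t (a i ≫ (g i).hom)
  have hflat : ∀ i, Flat (c i).left := fun i => by
    have h1 : AlgSp.LocP @Flat (a i ≫ (g i).hom) :=
      LocP.locP_comp Groth.Agent.Lib.SourceDescent.Scheme.flat (AlgSp.IsAlgSpace.yon_obj (W i))
        (Xi i).property X.property (LocP.locP_of_repWith Groth.Agent.Lib.SourceDescent.Scheme.flat
          (repWith_mono (ha i) fun _ _ m (_ : Etale m) => (inferInstance : Flat m))) (h.1 i).1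
    exact repWith_property (LocP.repWith_of_locP Groth.Agent.Lib.SourceDescent.Scheme.flat
      X.property (representable_from_yon X.property.diag _) h1) (sq i).flip
  have hfp : ∀ i, LocallyOfFinitePresentation (c i).left := fun i => by
    have h1 : AlgSp.LocP @LocallyOfFinitePresentation (a i ≫ (g i).hom) :=
      LocP.locP_comp Groth.Agent.Lib.SourceDescent.Scheme.locallyOfFinitePresentation
        (AlgSp.IsAlgSpace.yon_obj (W i)) (Xi i).property X.property
        (LocP.locP_of_repWith Groth.Agent.Lib.SourceDescent.Scheme.locallyOfFinitePresentation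
          (repWith_mono (ha i) fun _ _ m (_ : Etale m) => (inferInstance : LocallyOfFinitePresentation m))) (h.1 i).2
    exact repWith_property (LocP.repWith_of_locP Groth.Agent.Lib.SourceDescent.Scheme.locallyOfFinitePresentation
      X.property (representable_from_yon X.property.diag _) h1) (sq i).flip
  refine ⟨ι, R, c, ofArrows_mem_J _ _ hflat hfp fun z => ?_, fun i =>
    ⟨i, (AlgSp.yon S).map (e i) ≫ a i, by rw [Category.assoc, (sq i).w]⟩⟩
  obtain ⟨i, y, hy⟩ := h.2 (AlgSp.Points.ofPt t z)
  obtain ⟨w, rfl⟩ := surjective_ofPt (has i) y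
  rw [AlgSp.Points.map_ofPt] at hy
  obtain ⟨r, hr, -⟩ := (ofPt_eq_ofPt_iff_of_isPullback (sq i) z w).1 hy.symm
  exact ⟨i, r, hr⟩

end Groth.Agent.S10510
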