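-- Proof of statement S10511.
import Groth.Statements.S10511
import Groth.Agent.Lib.AlgSpCech.Wide
import Groth.Agent.Lib.AlgSpace.Diag

set_option autoImplicit false
universe u
open CategoryTheory CategoryTheory.Limits AlgebraicGeometry
open AlgSp

namespace Groth.Agent.S10511

open Groth.Agent.Lib.AlgSpace Groth.Agent.Lib.AlgSpCech

variable {S : Scheme.{u}}

/-- A finite intersection of opens stable under binary intersection is affine. -/
theorem isAffineOpen_iInter {T : Scheme.{u}}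
    (hinf : ∀ {U V : T.Opens}, IsAffineOpen U → IsAffineOpen V → IsAffineOpen (U ⊓ V)) :
    ∀ (n : ℕ) (O : Fin (n + 1) → T.Opens), (∀ k, IsAffineOpen (O k)) →
      IsAffineOpen (⟨⋂ k, (O k : Set T), isOpen_iInter_of_finite fun k ↦ (O k).2⟩ : T.Opens) := by
  intro n
  induction n with
  | zero =>
    intro O hO
    convert hO 0
    ext x
    simp [Fin.forall_fin_one]
  | succ n ih =>
    intro O hO
    convert hinf (ih (fun k ↦ O k.castSucc) fun k ↦ hO k.castSucc) (hO (Fin.last (n + 1)))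
    ext x
    simp [Fin.forall_fin_succ' (P := fun k ↦ x ∈ O k)]

/-- The descending step along a covering by open subschemes. -/
theorem step {X : AlgSp.Space S}
    (P : ∀ ⦃U : AlgSp.Sp S⦄, (U ⟶ X.obj) → Prop)
    (hP : ∀ ⦃U : AlgSp.Sp S⦄ (a : U ⟶ X.obj), AlgSp.IsAlgSpace U →
      ∀ ⦃ι : Type u⦄ (Ui : ι → AlgSp.Sp S) (g : ∀ i, Ui i ⟶ U), (∀ i, AlgSp.IsAlgSpace (Ui i)) →
      AlgSp.IsFppfCover Ui g →
      (∀ (n : ℕ) (c : Fin (n + 1) → ι),
        P (WidePullback.base (fun k : Fin (n + 1) => g (c k)) ≫ a)) → P a)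
    {T : Over S} {κ : Type u} (O : κ → T.left.Opens) (hO : ∀ x : ↥T.left, ∃ i, x ∈ O i)
    (small : ∀ (n : ℕ) (c : Fin (n + 1) → κ) ⦃U : AlgSp.Sp S⦄ (a : U ⟶ X.obj)
      (W : T.left.Opens) (e : U ≅ (yon S).obj (Over.mk (W.ι ≫ T.hom))),
      (W : Set T.left) = ⋂ k, (O (c k) : Set T.left) → RepWith flfp (e.inv ≫ a) → P a)
    ⦃U : AlgSp.Sp S⦄ (a : U ⟶ X.obj) (e : U ≅ (yon S).obj T) (ha : RepWith flfp (e.inv ≫ a)) :
    P a := by
  let ι' : ∀ W : T.left.Opens, Over.mk (W.ι ≫ T.hom) ⟶ T := fun W ↦ Over.homMk W.ι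
  have hι : ∀ W, RepWith flfp ((yon S).map (ι' W)) := fun W ↦
    (repWith_yon_map_iff _ _).2 ⟨(inferInstance : Flat W.ι),
      (inferInstance : LocallyOfFinitePresentation W.ι)⟩
  let g : ∀ i, (yon S).obj (Over.mk ((O i).ι ≫ T.hom)) ⟶ U := fun i ↦
    (yon S).map (ι' (O i)) ≫ e.inv
  have hg : ∀ i, RepWith flfp (g i) := fun i ↦ (repWith_comp_iso_iff _ _ e.inv).2 (hι _)
  have hUalg : IsAlgSpace U :=
    ObjectProperty.prop_of_iso (IsAlgSpace (S := S)) e.symm (IsAlgSpace.yon_obj T)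
  refine hP a hUalg _ g (fun i ↦ IsAlgSpace.yon_obj _)
    ⟨fun i ↦ locP_of_flfp (hg i), fun x ↦ ?_⟩ fun n c ↦ ?_
  · obtain ⟨t, ht⟩ := (Points.schemeEquiv T).surjective (Points.map e.hom x)
    obtain ⟨i, hi⟩ := hO t
    refine ⟨i, Points.ofPt (𝟙 _) (⟨t, hi⟩ : ↥(Over.mk ((O i).ι ≫ T.hom)).left), ?_⟩
    rw [Points.map_ofPt, Category.id_comp]
    have h1 : Points.ofPt ((yon S).map (ι' (O i)) ≫ 𝟙 ((yon S).obj T))
        (⟨t, hi⟩ : ↥(Over.mk ((O i).ι ≫ T.hom)).left) = Points.map e.hom x := by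
      rw [ofPt_yon_map_comp]
      exact ht
    have h2 := congrArg (Points.map e.inv) h1
    rw [Points.map_ofPt, ← Points.map_comp, e.hom_inv_id, Points.map_id, Category.comp_id] at h2
    exact h2
  · let W : T.left.Opens :=
      ⟨⋂ k, (O (c k) : Set T.left), isOpen_iInter_of_finite fun k ↦ (O (c k)).2⟩
    have hW : ∀ k, W ≤ O (c k) := fun k x hx ↦ Set.mem_iInter.1 hx k
    obtain ⟨e', he'⟩ := exists_iso_widePullback (X := U) (fun k : Fin (n + 1) ↦ g (c k))
      (T := Over.mk (W.ι ≫ T.hom)) (b := (yon S).map (ι' W) ≫ e.inv)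
      (fun k ↦ Over.homMk (T.left.homOfLE (hW k)) (by simp))
      (fun k ↦ by
        dsimp only [g]
        rw [← Category.assoc, ← Functor.map_comp]
        exact congrArg (fun q ↦ (yon S).map q ≫ e.inv)
          (Over.OverMorphism.ext (Scheme.homOfLE_ι _ (hW k))))
      (fun Z r y hr ↦ by
        have hk : ∀ k k', r k ≫ ι' (O (c k)) = r k' ≫ ι' (O (c k')) := fun k k' ↦
          (yon S).map_injective <| (cancel_mono e.inv).1 <| by
            simpa only [Functor.map_comp, Category.assoc, g] using (hr k).trans (hr k').symm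
        have hrange : Set.range (r 0 ≫ ι' (O (c 0))).left ⊆ Set.range W.ι := by
          rintro _ ⟨z, rfl⟩
          rw [Scheme.Opens.range_ι]
          refine Set.mem_iInter.2 fun k ↦ ?_
          rw [hk 0 k]
          exact ((r k).left z).2
        let l : Z ⟶ Over.mk (W.ι ≫ T.hom) :=
          Over.homMk (IsOpenImmersion.lift W.ι (r 0 ≫ ι' (O (c 0))).left hrange) (by
            change _ ≫ W.ι ≫ T.hom = Z.hom
            rw [IsOpenImmersion.lift_fac_assoc]
            exact Over.w (r 0 ≫ ι' (O (c 0))))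
        have hl : l.left ≫ W.ι = (r 0 ≫ ι' (O (c 0))).left := IsOpenImmersion.lift_fac _ _ _
        refine ⟨l, fun k ↦ Over.OverMorphism.ext ?_, fun l' hl' ↦ Over.OverMorphism.ext ?_⟩
        · rw [← cancel_mono (O (c k)).ι]
          change (l.left ≫ T.left.homOfLE (hW k)) ≫ (O (c k)).ι = (r k).left ≫ (O (c k)).ι
          rw [Category.assoc, Scheme.homOfLE_ι, hl, hk 0 k]
          rfl
        · rw [← cancel_mono W.ι]
          refine Eq.trans ?_ hl.symm
          rw [← hl' 0]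
          exact ((Category.assoc _ _ _).trans
            (congrArg (l'.left ≫ ·) (Scheme.homOfLE_ι _ (hW 0)))).symm)
    refine small n c _ W e' rfl ?_
    rw [he', Category.assoc, Iso.inv_hom_id_assoc, Category.assoc]
    exact repWith_comp (hι W) ha

/-- Let `X` be an algebraic space over `S` and `P` a property of sheaves over `X` such that, for every
algebraic space `U` over `X` and every fppf covering `{U_i ⟶ U}` by algebraic spaces, `P` holds for
`U` as soon as it holds for all the iterated fibre products `U_{i_0} ×_U ⋯ ×_U U_{i_n}` (`n ≥ 0`,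
taken in fppf sheaves) over `X`. If `P` holds for every sheaf over `X` that is isomorphic to an
affine scheme and flat and locally of finite presentation over `X`, then `P` holds for `X`. -/
theorem result {S : Scheme.{u}} (X : AlgSp.Space S)
    (P : ∀ ⦃U : AlgSp.Sp S⦄, (U ⟶ X.obj) → Prop)
    (hP : ∀ ⦃U : AlgSp.Sp S⦄ (a : U ⟶ X.obj), AlgSp.IsAlgSpace U →
      ∀ ⦃ι : Type u⦄ (Ui : ι → AlgSp.Sp S) (g : ∀ i, Ui i ⟶ U), (∀ i, AlgSp.IsAlgSpace (Ui i)) →
      AlgSp.IsFppfCover Ui g →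
      (∀ (n : ℕ) (c : Fin (n + 1) → ι),
        P (WidePullback.base (fun k : Fin (n + 1) => g (c k)) ≫ a)) → P a)
    (haff : ∀ ⦃U : AlgSp.Sp S⦄ (a : U ⟶ X.obj) (T : Over S) (e : U ≅ (AlgSp.yon S).obj T), IsAffine T.left →
      AlgSp.LocP @Flat a → AlgSp.LocP @LocallyOfFinitePresentation a → P a) :
    P (𝟙 X.obj) := by
  -- affine schemes
  have h0 : ∀ ⦃U : AlgSp.Sp S⦄ (a : U ⟶ X.obj) (T : Over S) (e : U ≅ (yon S).obj T),
      IsAffine T.left → RepWith flfp (e.inv ≫ a) → P a := fun U a T e hT ha ↦ by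
    obtain ⟨h1, h2⟩ := locP_of_flfp ((repWith_iso_comp_iff _ e.inv a).1 ha)
    exact haff a T e hT h1 h2
  -- separated schemes
  have h1 : ∀ ⦃U : AlgSp.Sp S⦄ (a : U ⟶ X.obj) (T : Over S) (e : U ≅ (yon S).obj T),
      T.left.IsSeparated → RepWith flfp (e.inv ≫ a) → P a := fun U a T e hT ha ↦ by
    choose O hO hx using fun x : ↥T.left ↦
      (exists_isAffineOpen_mem_and_subset (X := T.left) (x := x) (U := ⊤) trivial)
    refine step P hP O (fun x ↦ ⟨x, (hx x).1⟩) (fun n c U' a' W e' hW ha' ↦ ?_) a e ha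
    have : IsAffineOpen W := by
      have h := isAffineOpen_iInter (fun hU hV ↦ hU.inf hV) n (fun k ↦ O (c k)) (fun k ↦ hO _)
      have e : W = ⟨⋂ k, (O (c k) : Set T.left), isOpen_iInter_of_finite fun k ↦ (O (c k)).2⟩ :=
        TopologicalSpace.Opens.ext hW
      rwa [← e] at h
    exact h0 a' _ e' this ha'
  -- all schemes
  have h2 : ∀ ⦃U : AlgSp.Sp S⦄ (a : U ⟶ X.obj) (T : Over S) (e : U ≅ (yon S).obj T),
      RepWith flfp (e.inv ≫ a) → P a := fun U a T e ha ↦ by
    choose O hO hx using fun x : ↥T.left ↦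
      (exists_isAffineOpen_mem_and_subset (X := T.left) (x := x) (U := ⊤) trivial)
    refine step P hP O (fun x ↦ ⟨x, (hx x).1⟩) (fun n c U' a' W e' hW ha' ↦ ?_) a e ha
    have hle : W ≤ O (c 0) := fun x hx ↦ by
      have : x ∈ (W : Set T.left) := hx
      rw [hW] at this
      exact Set.mem_iInter.1 this 0
    have : IsAffine (O (c 0)).toScheme := hO _
    have : (W : Scheme.{u}).IsSeparated := ⟨by
      rw [Subsingleton.elim (terminal.from (W : Scheme.{u}))
        (T.left.homOfLE hle ≫ terminal.from _)]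
      infer_instance⟩
    exact h1 a' _ e' this ha'
  obtain ⟨V, p, hpe, hps⟩ := X.property.atlas
  have hp : RepWith flfp p :=
    repWith_mono hpe (fun _ _ f (_ : Etale f) ↦ ⟨inferInstance, inferInstance⟩)
  refine hP (𝟙 X.obj) X.property (fun _ : PUnit.{u + 1} ↦ (yon S).obj V) (fun _ ↦ p)
    (fun _ ↦ IsAlgSpace.yon_obj V)
    ⟨fun _ ↦ locP_of_flfp hp, fun x ↦ ⟨PUnit.unit, surjective_map hps x⟩⟩
    fun n c ↦ ?_
  obtain ⟨T, b, q, hb, hq, hu⟩ := exists_nfold X.property n (fun _ ↦ V) (fun _ ↦ p) (fun _ ↦ hp)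
  obtain ⟨e, he⟩ := exists_iso_widePullback (fun _ : Fin (n + 1) ↦ p) q hq hu
  refine h2 _ T e ?_
  rw [Category.comp_id, he, Iso.inv_hom_id_assoc]
  exact hb

end Groth.Agent.S10511
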