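import Groth.Statements.S10514
import Groth.Agent.Lib.AlgSpMor.LocP
import Groth.Agent.Lib.AlgSpace.Points
import Groth.Agent.S7473
import Groth.Agent.S8976
-- import your own Groth.Agent.* helpers here

set_option autoImplicit false
universe u
open CategoryTheory CategoryTheory.Limits AlgebraicGeometry
open AlgSp

namespace Groth.Agent.S10514

open Groth.Agent.Lib.AlgSpace Groth.Agent.Lib.AlgSpMor

/-- An fppf covering of an algebraic space `X` over `S` by algebraic spaces is a ph covering of `X`: its
members are locally of finite type and every morphism from an affine scheme `Z` to `X` admits a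
standard ph covering of `Z` whose members lift through members of the family. -/
theorem result {S : Scheme.{u}} (X : AlgSp.Space S) {ι : Type u}
    (Xi : ι → AlgSp.Space S) (g : ∀ i, Xi i ⟶ X)
    (h : AlgSp.IsFppfCover (fun i => (Xi i).obj) (fun i => (g i).hom)) :
    AlgSp.IsPhCover (fun i => (Xi i).obj) (fun i => (g i).hom) := by
  have lfpLft : ∀ i, AlgSp.LocP @LocallyOfFiniteType (g i).hom := fun i =>
    fun U V a b m ha hb e => by
      haveI : LocallyOfFinitePresentation m.left := (h.1 i).2 a b m ha hb e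
      infer_instance
  refine ⟨lfpLft, fun Z hZ t => ?_⟩
  choose W a ha has using fun i => (Xi i).property.atlas
  choose R c e sq using fun i => exists_isPullback_yon X.property.diag t (a i ≫ (g i).hom)
  have hflat : ∀ i, Flat (c i).left := fun i => by
    have h1 : AlgSp.LocP @Flat (a i ≫ (g i).hom) :=
      LocP.locP_comp Groth.Agent.Lib.SourceDescent.Scheme.flat (AlgSp.IsAlgSpace.yon_obj (W i))
        (Xi i).property X.property (LocP.locP_of_repWith Groth.Agent.Lib.SourceDescent.Scheme.flat
          (repWith_mono (ha i) fun _ _ m (_ : Etale m) => (inferInstance : Flat m))) (h.1 i).1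
    exact repWith_property (LocP.repWith_of_locP Groth.Agent.Lib.SourceDescent.Scheme.flat
      X.property (representable_from_yon X.property.diag _) h1) (sq i).flip
  have hfp : ∀ i, LocallyOfFinitePresentation (c i).left := fun i => by
    have h1 : AlgSp.LocP @LocallyOfFinitePresentation (a i ≫ (g i).hom) :=
      LocP.locP_comp Groth.Agent.Lib.SourceDescent.Scheme.locallyOfFinitePresentation
        (AlgSp.IsAlgSpace.yon_obj (W i)) (Xi i).property X.property
        (LocP.locP_of_repWith Groth.Agent.Lib.SourceDescent.Scheme.locallyOfFinitePresentation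
          (repWith_mono (ha i) fun _ _ m (_ : Etale m) => (inferInstance : LocallyOfFinitePresentation m))) (h.1 i).2
    exact repWith_property (LocP.repWith_of_locP Groth.Agent.Lib.SourceDescent.Scheme.locallyOfFinitePresentation
      X.property (representable_from_yon X.property.diag _) h1) (sq i).flip
  have hsurj : ∀ z : ↥Z.left, ∃ i, z ∈ Set.range (c i).left := fun z => by
    obtain ⟨i, y, hy⟩ := h.2 (AlgSp.Points.ofPt t z)
    obtain ⟨w, rfl⟩ := surjective_ofPt (has i) y
    rw [AlgSp.Points.map_ofPt] at hy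
    obtain ⟨r, hr, -⟩ := (ofPt_eq_ofPt_iff_of_isPullback (sq i) z w).1 hy.symm
    exact ⟨i, r, hr⟩
  let E : PreZeroHypercover.{u} Z.left := ⟨ι, fun i => (R i).left, fun i => (c i).left⟩
  have hE : E.presieve₀ ∈ Scheme.fppfPrecoverage Z.left :=
    (Scheme.presieve₀_mem_precoverage_iff E).mpr ⟨hsurj, fun i => ⟨hflat i, hfp i⟩⟩
  have hph : HTop.IsPhCover E := (Groth.Agent.S8976.result E hfp).mpr
    (Groth.Agent.S7473.result ⟨E, Scheme.fppfPrecoverage_le_fpqcPrecoverage _ hE⟩)
  haveI := hZ
  obtain ⟨F, hF, hr⟩ := hph.2 ⟨⊤, isAffineOpen_top Z.left⟩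
  obtain ⟨U, f, j', hf, hfs, hj, hjf, hcov⟩ := hF.exists_proper
  haveI : IsIso (⊤ : Z.left.Opens).ι := by
    rw [← Scheme.topIso_hom]
    infer_instance
  haveI := hf
  haveI := hfs
  let F' : PreZeroHypercover.{0} Z.left := ⟨F.I₀, F.X, fun j => F.f j ≫ (⊤ : Z.left.Opens).ι⟩
  refine ⟨F', ⟨hZ, hF.finite_index, hF.isAffine_obj, U, f ≫ (⊤ : Z.left.Opens).ι, j', inferInstance,
    inferInstance, hj, fun j => by rw [← Category.assoc, hjf], hcov⟩, fun j => ?_⟩
  obtain ⟨i, k, hk⟩ := hr j
  let k' : Over.mk (F'.f j ≫ Z.hom) ⟶ R i := Over.homMk k (by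
    change k ≫ (R i).hom = (F.f j ≫ (⊤ : Z.left.Opens).ι) ≫ Z.hom
    rw [← hk, Category.assoc, Over.w (c i)])
  refine ⟨i, (AlgSp.yon S).map k' ≫ (AlgSp.yon S).map (e i) ≫ a i, ?_⟩
  simp only [Category.assoc]
  refine (congrArg ((AlgSp.yon S).map k' ≫ ·) (sq i).w.symm).trans ?_
  rw [← Functor.map_comp_assoc]
  congr 2
  exact Over.OverMorphism.ext hk

end Groth.Agent.S10514
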