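import Groth.Statements.S10515
import Groth.Agent.H47.PhCover.Stage
import Groth.Agent.Lib.AlgSpNormCover.Exists
import Groth.Agent.Lib.AlgSpMor.Proper
import Groth.Agent.Lib.AlgSpMor.Topo
-- import your own Groth.Agent.* helpers here

set_option autoImplicit false
universe u
open CategoryTheory CategoryTheory.Limits AlgebraicGeometry
open AlgSp

namespace Groth.Agent.S10515

set_option backward.isDefEq.respectTransparency false
open CategoryTheory CategoryTheory.Limits AlgebraicGeometry
open Groth.Agent.Lib.AlgSpace Groth.Agent.Lib.AlgSpMor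
open AlgSp (Sp yon RepWith IsSeparatedMor)

/-- A representable integral morphism is separated. -/
theorem isSeparatedMor_of_integral {S : Scheme.{u}} {A B : Sp S} (hA : AlgSp.IsAlgSpace A) {f : A ⟶ B}
    (h : RepWith @IsIntegralHom f) : IsSeparatedMor f :=
  Sep.repWith_diagonal_of_affine hA.diag fun Z _ g Q fst snd sq => by
    obtain ⟨V, v, fst', sq', hv⟩ := repWith_exists h g
    have : IsIntegralHom v.left := hv
    refine Sep.repWith_diagonal_of_eq (sq.isoIsPullback _ _ sq') (Iso.refl _) ?_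
      ((AlgSp.isSeparatedMor_yon_map_iff v).2 inferInstance)
    simp

/-- A proper (separated, of finite type, universally closed) and surjective morphism `f : Y ⟶ X` of
algebraic spaces over `S` forms, on its own, a ph covering `{Y ⟶ X}` of `X`. -/
theorem result {S : Scheme.{u}} {X Y : AlgSp.Space S} (f : Y ⟶ X)
    (hf : AlgSp.IsProperMor f.hom) (hs : AlgSp.IsSurjectiveMor f.hom) :
    AlgSp.IsPhCover (fun _ : PUnit.{u + 1} => Y.obj) (fun _ => f.hom) := by
  refine ⟨fun _ => hf.2.1.1, fun Z hZ h => ?_⟩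
  have := hZ
  let P : AlgSp.Sp S := pullback f.hom h
  let fst : P ⟶ Y.obj := pullback.fst f.hom h
  let snd : P ⟶ (AlgSp.yon S).obj Z := pullback.snd f.hom h
  have sq : IsPullback fst snd f.hom h := IsPullback.of_hasPullback f.hom h
  have hP : AlgSp.IsAlgSpace P :=
    isAlgSpace_of_isPullback sq X.property.diag Y.property (AlgSp.IsAlgSpace.yon_obj Z)
  have hsep : AlgSp.IsSeparatedMor snd := Sep.repWith_diagonal_baseChange sq hf.1
  have hlft : AlgSp.LocP @LocallyOfFiniteType snd :=
    (Proper.isFiniteType_baseChange Y.property X.property (AlgSp.IsAlgSpace.yon_obj Z) sq hf.2.1).1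
  have huc : AlgSp.IsUnivClosedMor snd := Proper.univSp_baseChange sq hf.2.2
  have hsur : Function.Surjective (AlgSp.Points.map snd) := QC.surjective_of_isPullback sq hs
  have : CompactSpace (AlgSp.Points P) := QC.compactSpace_of_isQuasiCompactMor hf.2.1.2 sq
  obtain ⟨T, b, hT, hb, hbs⟩ := QC.exists_affine_atlas hP
  have := hT
  have hqs : ∀ {W : Over S} [IsAffine W.left] (w : (AlgSp.yon S).obj W ⟶ P),
      AlgSp.IsQuasiCompactMor w ∧ AlgSp.IsQuasiSeparatedMor w := by
    intro W _ w
    obtain ⟨m, hm⟩ := (AlgSp.yon S).map_surjective (w ≫ snd)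
    have h1 : AlgSp.IsSeparatedMor ((AlgSp.yon S).map m) :=
      (AlgSp.isSeparatedMor_yon_map_iff m).2 inferInstance
    refine ⟨Perm.isQuasiCompactMor_of_comp (AlgSp.IsAlgSpace.yon_obj W) hP
      (AlgSp.IsAlgSpace.yon_obj Z).diag (g := snd) ?_ ?_, ?_⟩
    · rw [← hm]
      exact QC.isQuasiCompactMor_of_repWith ((AlgSp.repWith_yon_map_iff _ _).2 inferInstance)
    · exact repWith_mono hsep fun _ _ g (_ : IsClosedImmersion g) => (inferInstance : QuasiCompact g)
    · refine Sep.repWith_diagonal_of_diag _ w ?_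
      rw [AlgSp.repWith_diag_yon_iff]
      have : IsSeparated W.hom := inferInstance
      infer_instance
  obtain ⟨Y0, ν, hν, hνs, hloc⟩ :=
    Groth.Agent.Lib.AlgSpNormCover.exists_integral_cover' hP hqs hb hbs
  obtain ⟨g, hg⟩ := (AlgSp.yon S).map_surjective (ν ≫ snd)
  obtain ⟨t, ht⟩ := (AlgSp.yon S).map_surjective (b ≫ snd)
  have : LocallyOfFiniteType t.left :=
    hlft b (𝟙 _) t hb (AlgSp.repWith_id _ Z) (by rw [Category.comp_id, ht])
  have : IsSeparated g.left := by
    rw [← AlgSp.isSeparatedMor_yon_map_iff, hg]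
    exact Proper.repWith_diagonal_comp _ (isSeparatedMor_of_integral (AlgSp.IsAlgSpace.yon_obj Y0) hν) hsep
  have : UniversallyClosed g.left := by
    refine (AlgSp.repWith_yon_map_iff _ g).1 (Proper.repWith_universallyClosed_of ?_ ?_)
    · exact AlgSp.representable_yon_map g
    · rw [hg]
      exact Proper.isUnivClosedMor_comp hP (AlgSp.IsAlgSpace.yon_obj Z).diag
        (Proper.isUnivClosedMor_of_repWith (repWith_mono hν fun _ _ g (_ : IsIntegralHom g) =>
          (inferInstance : UniversallyClosed g))) huc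
  have : Surjective g.left := ⟨by
    rw [← Topo.surjective_yon_map_iff, hg]
    intro z
    obtain ⟨p, rfl⟩ := hsur z
    obtain ⟨y, rfl⟩ := surjective_map hνs p
    exact ⟨y, AlgSp.Points.map_comp _ _ _⟩⟩
  obtain ⟨F, hF, hl⟩ := Groth.Agent.H47.PhCover.exists_standardPh g.left t.left fun y => by
    obtain ⟨O, c, hy, hc⟩ := hloc y
    refine ⟨O, c.left, hy, ?_⟩
    let ι' : Over.mk (O.ι ≫ Y0.hom) ⟶ Y0 := Over.homMk O.ι rfl
    have e : c ≫ t = ι' ≫ g := (AlgSp.yon S).map_injective (by
      rw [Functor.map_comp, Functor.map_comp, ht, hg, ← Category.assoc, ← Category.assoc, hc])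
    exact congrArg CommaMorphism.left e
  refine ⟨F, hF, fun j => ?_⟩
  obtain ⟨l, hl⟩ := hl j
  let l' : Over.mk (F.f j ≫ Z.hom) ⟶ T := Over.homMk l (by
    change l ≫ T.hom = F.f j ≫ Z.hom
    rw [← hl, Category.assoc, Over.w t])
  refine ⟨PUnit.unit, (AlgSp.yon S).map l' ≫ b ≫ fst, ?_⟩
  simp only [Category.assoc]
  rw [sq.w, ← Category.assoc b snd h, ← ht, ← Functor.map_comp_assoc]
  congr 2
  exact Over.OverMorphism.ext hl

end Groth.Agent.S10515
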