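import Groth.Statements.S10517
import Groth.Agent.Lib.AlgSpMor.LocP
import Groth.Agent.Lib.SourceDescent.Scheme
import Groth.Agent.Lib.HTopSheaf.Ph
-- import your own Groth.Agent.* helpers here

set_option autoImplicit false
universe u
open CategoryTheory CategoryTheory.Limits AlgebraicGeometry
open AlgSp

namespace Groth.Agent.S10517

/-- If `{X_i ⟶ X}` is a ph covering of the algebraic space `X` by algebraic spaces and each `X_i` has a
ph covering `{X_ij ⟶ X_i}` by algebraic spaces, then the composites `X_ij ⟶ X_i ⟶ X`, indexed by the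
pairs `(i, j)`, form a ph covering of `X`. -/
theorem result {S : Scheme.{u}} (X : AlgSp.Space S) {ι : Type u}
    (Xi : ι → AlgSp.Space S) (g : ∀ i, Xi i ⟶ X) (κ : ι → Type u) (Xij : ∀ i, κ i → AlgSp.Space S)
    (gij : ∀ i j, Xij i j ⟶ Xi i)
    (h : AlgSp.IsPhCover (fun i => (Xi i).obj) (fun i => (g i).hom))
    (hij : ∀ i, AlgSp.IsPhCover (fun j => (Xij i j).obj) (fun j => (gij i j).hom)) :
    AlgSp.IsPhCover (fun r : Σ i, κ i => (Xij r.1 r.2).obj) (fun r => (gij r.1 r.2 ≫ g r.1).hom) := by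
  refine ⟨fun r => Groth.Agent.Lib.AlgSpMor.LocP.locP_comp Groth.Agent.Lib.SourceDescent.Scheme.locallyOfFiniteType
    (Xij r.1 r.2).property (Xi r.1).property X.property ((hij r.1).1 r.2) (h.1 r.1), fun Z hZ k => ?_⟩
  obtain ⟨E, hE, hl⟩ := h.2 Z hZ k
  choose i l hl using hl
  have := hE.isAffine_obj
  choose F hF hl' using fun j => (hij (i j)).2 (Over.mk (E.f j ≫ Z.hom)) (hE.isAffine_obj j) (l j)
  obtain ⟨F', hF', hr⟩ := Groth.Agent.Lib.HTopSheaf.Ph.exists_standard_bind hE F hF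
  refine ⟨F', hF', fun m => ?_⟩
  obtain ⟨⟨j, n⟩, φ, hφ⟩ := hr m
  obtain ⟨i', l', hl''⟩ := hl' j n
  have hφ' : φ ≫ (F j).f n ≫ E.f j = F'.f m := hφ.trans (Category.comp_id _)
  let φ' : Over.mk (F'.f m ≫ Z.hom) ⟶ Over.mk ((F j).f n ≫ E.f j ≫ Z.hom) := Over.homMk φ (by
    change φ ≫ (F j).f n ≫ E.f j ≫ Z.hom = F'.f m ≫ Z.hom
    rw [← hφ', Category.assoc, Category.assoc])
  refine ⟨⟨i j, i'⟩, (AlgSp.yon S).map φ' ≫ l', ?_⟩
  change ((AlgSp.yon S).map φ' ≫ l') ≫ (gij _ i').hom ≫ (g _).hom = _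
  rw [Category.assoc, reassoc_of% hl'', hl, ← Functor.map_comp_assoc, ← Functor.map_comp_assoc]
  congr 2
  exact Over.OverMorphism.ext hφ'

end Groth.Agent.S10517
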