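import Groth.Statements.S10518
import Groth.Agent.S10515
import Groth.Agent.S10514
import Groth.Agent.Lib.AlgSpMor.Proper
import Groth.Agent.Lib.AlgSpMor.Topo
import Groth.Prelude.Def_AlgSpEt
import Groth.Agent.Lib.AlgSpace.Diag
import Groth.Agent.S7473
import Groth.Agent.S8976
import Mathlib.CategoryTheory.Sites.Canonical
-- import your own Groth.Agent.* helpers here

set_option autoImplicit false
universe u w
open CategoryTheory CategoryTheory.Limits AlgebraicGeometry
open AlgSp

namespace Groth.Agent.S10518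

set_option backward.isDefEq.respectTransparency false
open CategoryTheory CategoryTheory.Limits AlgebraicGeometry
open Groth.Agent.Lib.AlgSpace Groth.Agent.Lib.AlgSpMor
open AlgSp (Sp Space yon RepWith Points)

section

variable {C : Type*} [Category C] {X : C} (F : (Over X)ᵒᵖ ⥤ Type w)

/-- Sieves whose pullbacks to all objects over `X` satisfy the sheaf condition for `F`. -/
def descTop : GrothendieckTopology C where
  sieves U := {R | ∀ (V : Over X) (g : V.left ⟶ U), (Sieve.overEquiv V).symm (R.pullback g) ∈ Sheaf.finestTopologySingle F V}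
  top_mem' U V g := by
    rw [Sieve.pullback_top]
    have : (Sieve.overEquiv V).symm (⊤ : Sieve V.left) = ⊤ := by ext; exact Iff.rfl
    rw [this]
    exact GrothendieckTopology.top_mem _ _
  pullback_stable' U U' R f hR V g := by
    rw [← Sieve.pullback_comp]
    exact hR V (g ≫ f)
  transitive' U R hR R' hR' V g := by
    refine GrothendieckTopology.transitive _ (hR V g) _ fun W m hm => ?_
    have h := hR' (show R (m.left ≫ g) from hm) W (𝟙 _)
    rw [Sieve.pullback_id] at h
    convert h using 1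
    ext Z k
    show R' ((k ≫ m).left ≫ g) ↔ R' (k.left ≫ m.left ≫ g)
    rw [Over.comp_left, Category.assoc]

theorem mem_descTop {U : C} {R : Sieve U}
    (h : ∀ (V : Over X) (g : V.left ⟶ U),
      Presieve.IsSheafFor F ((Sieve.overEquiv V).symm (R.pullback g)).arrows) :
    R ∈ descTop F U := by
  intro V g W m
  convert h W (m.left ≫ g) using 2
  ext Z k
  show R ((k ≫ m).left ≫ g) ↔ R (k.left ≫ m.left ≫ g)
  rw [Over.comp_left, Category.assoc]

theorem le_descTop {J : GrothendieckTopology C} (hF : Presieve.IsSheaf (J.over X) F) :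
    J ≤ descTop F := fun U R hR => mem_descTop F fun V g =>
  hF _ (GrothendieckTopology.overEquiv_symm_mem_over _ _ _ (J.pullback_stable g hR))

theorem isSheaf_of_le_descTop {J : GrothendieckTopology C} (h : J ≤ descTop F) :
    Presieve.IsSheaf (J.over X) F := by
  intro V R hR
  have h' := h _ hR V (𝟙 _) V (𝟙 _)
  rwa [Sieve.pullback_id, Sieve.pullback_id, OrderIso.symm_apply_apply] at h'

theorem overEquiv_symm_singleton {V V' : Over X} (φ : V' ⟶ V) :
    (Sieve.overEquiv V).symm (Sieve.generate (Presieve.singleton φ.left)) =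
      Sieve.generate (Presieve.singleton φ) := by
  ext W k
  constructor
  · rintro ⟨_, a, _, ⟨⟩, h⟩
    refine ⟨V', Over.homMk a ?_, φ, ⟨⟩, Over.OverMorphism.ext h⟩
    rw [← Over.w φ, ← Category.assoc]
    exact (congrArg (· ≫ V.hom) h).trans (Over.w k)
  · rintro ⟨_, a, _, ⟨⟩, rfl⟩
    exact ⟨V'.left, a.left, φ.left, ⟨⟩, rfl⟩

end

variable {S : Scheme.{u}}

/-- A covering by proper surjections. -/
theorem isProperMor_yon_map {U V : Over S} (g : U ⟶ V) [IsProper g.left] :
    AlgSp.IsProperMor ((yon S).map g) :=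
  ⟨(AlgSp.isSeparatedMor_yon_map_iff g).2 inferInstance,
    ⟨LocP.locP_of_repWith Groth.Agent.Lib.SourceDescent.Scheme.locallyOfFiniteType
      ((AlgSp.repWith_yon_map_iff _ g).2 inferInstance),
     QC.isQuasiCompactMor_of_repWith ((AlgSp.repWith_yon_map_iff _ g).2 inferInstance)⟩,
    Proper.isUnivClosedMor_of_repWith ((AlgSp.repWith_yon_map_iff _ g).2 inferInstance)⟩

/-- A proper surjection generates a ph covering. -/
theorem singleton_mem_phSpacesTop {U V : Space S} (f : V ⟶ U) (hf : AlgSp.IsProperMor f.hom)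
    (hs : AlgSp.IsSurjectiveMor f.hom) :
    Sieve.generate (Presieve.singleton f) ∈ AlgSp.phSpacesTop S U := by
  rw [← Presieve.ofArrows_pUnit.{u} f]
  exact Precoverage.generate_mem_toGrothendieck
    ((AlgSp.ofArrows_mem_phSpacesPre_iff (fun _ => V) fun _ => f).2 (Groth.Agent.S10515.result f hf hs))

/-- Etale coverings are ph coverings. -/
theorem spacesTop_le_phSpacesTop : AlgSp.spacesTop S AlgSp.IsEtaleMor ≤ AlgSp.phSpacesTop S := by
  refine Precoverage.toGrothendieck_mono fun X R hR => ⟨fun Y g hg => ?_, fun Z hZ h => ?_⟩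
  · intro U V a b m ha hb e
    have h1 : AlgSp.RepWith @Etale ((yon S).map m ≫ b) := e ▸ (hR.1 g hg) a ha
    have h2 : AlgSp.RepWith @Etale ((yon S).map m) := Proper.repWith_etale_of_comp (AlgSp.IsAlgSpace.yon_obj V).diag hb h1
    have : Etale m.left := (AlgSp.repWith_yon_map_iff _ m).1 h2
    infer_instance
  have hz : ∀ z : ↥Z.left, ∃ (Y : Space S) (g : Y ⟶ X) (W : Over S) (c : W ⟶ Z) (l : (yon S).obj W ⟶ Y.obj),
      R g ∧ Etale c.left ∧ z ∈ Set.range c.left ∧ l ≫ g.hom = (yon S).map c ≫ h := by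
    intro z
    obtain ⟨Y, g, hg, y, hy⟩ := hR.2 (Points.ofPt h z)
    obtain ⟨U, a, ha, has⟩ := Y.property.atlas
    obtain ⟨w, rfl⟩ := surjective_ofPt has y
    obtain ⟨P, c, e, sq⟩ := exists_isPullback_yon X.property.diag h (a ≫ g.hom)
    rw [AlgSp.Points.map_ofPt] at hy
    obtain ⟨r, hr, -⟩ := (ofPt_eq_ofPt_iff_of_isPullback sq z w).1 hy.symm
    exact ⟨Y, g, P, c, (yon S).map e ≫ a, hg, (AlgSp.repWith_yon_map_iff _ c).1
      (repWith_baseChange sq.flip ((hR.1 g hg) a ha)), ⟨r, hr⟩, by rw [Category.assoc, sq.w]⟩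
  choose Y g W c l hg hc hzc hl using hz
  let E : PreZeroHypercover.{u} Z.left := ⟨↥Z.left, fun z => (W z).left, fun z => (c z).left⟩
  have hfp : ∀ z, LocallyOfFinitePresentation (E.f z) := fun z => by
    have := hc z
    exact (inferInstanceAs (LocallyOfFinitePresentation (c z).left))
  have hE : E.presieve₀ ∈ Scheme.fppfPrecoverage Z.left :=
    (Scheme.presieve₀_mem_precoverage_iff E).mpr ⟨fun z => ⟨z, hzc z⟩, fun z => by
      have := hc z
      exact ⟨(inferInstanceAs (Flat (c z).left)), hfp z⟩⟩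
  have hph : HTop.IsPhCover E := (Groth.Agent.S8976.result E hfp).mpr
    (Groth.Agent.S7473.result ⟨E, Scheme.fppfPrecoverage_le_fpqcPrecoverage _ hE⟩)
  have := hZ
  obtain ⟨F, hF, hr⟩ := hph.2 ⟨⊤, isAffineOpen_top Z.left⟩
  obtain ⟨U, f, j', hf, hfs, hj, hjf, hcov⟩ := hF.exists_proper
  have : IsIso (⊤ : Z.left.Opens).ι := by rw [← Scheme.topIso_hom]; infer_instance
  have := hf
  have := hfs
  let F' : PreZeroHypercover.{0} Z.left := ⟨F.I₀, F.X, fun j => F.f j ≫ (⊤ : Z.left.Opens).ι⟩
  refine ⟨F', ⟨hZ, hF.finite_index, hF.isAffine_obj, U, f ≫ (⊤ : Z.left.Opens).ι, j', inferInstance,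
    inferInstance, hj, fun j => by rw [← Category.assoc, hjf], hcov⟩, fun j => ?_⟩
  obtain ⟨i, k, hk⟩ := hr j
  let k' : Over.mk (F'.f j ≫ Z.hom) ⟶ W i := Over.homMk k (by
    change k ≫ (W i).hom = (F.f j ≫ (⊤ : Z.left.Opens).ι) ≫ Z.hom
    rw [← hk, Category.assoc, Over.w (c i)])
  refine ⟨Y i, g i, hg i, (yon S).map k' ≫ l i, ?_⟩
  refine (Category.assoc _ _ _).trans ((congrArg ((yon S).map k' ≫ ·) (hl i)).trans ?_)
  rw [← Functor.map_comp_assoc]
  congr 2
  exact Over.OverMorphism.ext hk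

/-- A topology containing etale coverings and proper surjections contains the ph coverings. -/
theorem phSpacesTop_le (K : GrothendieckTopology (Space S))
    (het : AlgSp.spacesTop S AlgSp.IsEtaleMor ≤ K)
    (hpr : ∀ ⦃U V : Space S⦄ (f : V ⟶ U), AlgSp.IsProperMor f.hom → AlgSp.IsSurjectiveMor f.hom →
      Sieve.generate (Presieve.singleton f) ∈ K U) :
    AlgSp.phSpacesTop S ≤ K := by
  refine Precoverage.toGrothendieck_le_iff_le_toPrecoverage.2 fun U R hR => ?_
  rw [GrothendieckTopology.mem_toPrecoverage_iff]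
  obtain ⟨ι, Z, b, hZ, hb, hsurj⟩ := Topo.exists_affine_charts U.property
  let Zs : ι → Space S := fun i => ⟨(yon S).obj (Z i), AlgSp.IsAlgSpace.yon_obj (Z i)⟩
  let bs : ∀ i, Zs i ⟶ U := fun i => ObjectProperty.homMk (b i)
  have hE : Presieve.ofArrows Zs bs ∈ AlgSp.spacesPre S AlgSp.IsEtaleMor U := by
    refine ⟨?_, fun x => ?_⟩
    · rintro _ _ ⟨i⟩
      exact AlgSp.isEtaleMor_of_repWith (b i) (hb i)
    · obtain ⟨i, w, rfl⟩ := hsurj x
      exact ⟨_, bs i, ⟨i⟩, Points.ofScheme (Z i) w, (Points.ofPt_eq_map_ofScheme _ _).symm⟩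
  refine K.transitive (het _ (Precoverage.generate_mem_toGrothendieck hE)) _ ?_
  rintro Y _ ⟨_, k, _, ⟨i⟩, rfl⟩
  rw [Sieve.pullback_comp]
  refine K.pullback_stable k ?_
  obtain ⟨G, hG, hl⟩ := hR.2 (Z i) (hZ i) (b i)
  obtain ⟨U', f, j', hf, hfs, hj, hjf, hcov⟩ := hG.exists_proper
  let U'o : Over S := Over.mk (f ≫ (Z i).hom)
  let fo : U'o ⟶ Z i := Over.homMk f rfl
  let Us : Space S := ⟨(yon S).obj U'o, AlgSp.IsAlgSpace.yon_obj _⟩
  let fs : Us ⟶ Zs i := ObjectProperty.homMk ((yon S).map fo)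
  have : IsProper fo.left := hf
  have h1 : Sieve.generate (Presieve.singleton fs) ∈ K (Zs i) :=
    hpr fs (isProperMor_yon_map fo) ((Topo.surjective_yon_map_iff fo).2 hfs.1)
  refine K.transitive h1 _ ?_
  rintro Y' _ ⟨_, k', _, ⟨⟩, rfl⟩
  rw [Sieve.pullback_comp]
  refine K.pullback_stable k' ?_
  let W : G.I₀ → Over S := fun n => Over.mk (G.f n ≫ (Z i).hom)
  let w : ∀ n, W n ⟶ U'o := fun n => Over.homMk (j' n) (by
    show j' n ≫ f ≫ (Z i).hom = G.f n ≫ (Z i).hom
    rw [← hjf n, Category.assoc])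
  let Ws : G.I₀ → Space S := fun n => ⟨(yon S).obj (W n), AlgSp.IsAlgSpace.yon_obj _⟩
  let ws : ∀ n, Ws n ⟶ Us := fun n => ObjectProperty.homMk ((yon S).map (w n))
  have hW : Presieve.ofArrows Ws ws ∈ AlgSp.spacesPre S AlgSp.IsEtaleMor Us := by
    refine ⟨?_, fun x => ?_⟩
    · rintro _ _ ⟨n⟩
      have : IsOpenImmersion (w n).left := hj n
      exact (AlgSp.isEtaleMor_yon_map_iff (w n)).2 inferInstance
    · obtain ⟨x, rfl⟩ := (Points.schemeHomeo U'o).surjective x
      obtain ⟨n, z, rfl⟩ := hcov x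
      exact ⟨_, ws n, ⟨n⟩, Points.schemeHomeo (W n) z, Points.map_yon_map_apply (w n) z⟩
  refine K.superset_covering ?_ (het _ (Precoverage.generate_mem_toGrothendieck hW))
  rw [Sieve.generate_le_iff]
  rintro _ _ ⟨n⟩
  obtain ⟨Y'', g, hg, l, hl⟩ := hl n
  refine ⟨Y'', ObjectProperty.homMk l, g, hg, ?_⟩
  apply ObjectProperty.hom_ext
  show l ≫ g.hom = ((yon S).map (w n) ≫ (yon S).map fo) ≫ b i
  rw [hl, ← Functor.map_comp]
  congr 2
  exact Over.OverMorphism.ext (hjf n).symm


/-- A presheaf of types `F` on algebraic spaces over the algebraic space `X` is a sheaf for the big ph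
topology of `X` if and only if it is a sheaf for the big etale topology of `X` and, for every proper
surjective morphism `f : V ⟶ U` of algebraic spaces over `X` with `W = V ×_U V` (any pullback square
of sheaves with projections `p`, `q`), the sections of `F` over `U` map bijectively onto the
sections `t` over `V` with `F(p) t = F(q) t`. -/
theorem result {S : Scheme.{u}} (X : AlgSp.Space S) (F : (Over X)ᵒᵖ ⥤ Type w) :
    Presheaf.IsSheaf (AlgSp.phSpacesTopOver X) F ↔
      Presheaf.IsSheaf (AlgSp.spacesTopOver AlgSp.IsEtaleMor X) F ∧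
      ∀ ⦃U V W : Over X⦄ (f : V ⟶ U) (p q : W ⟶ V),
        AlgSp.IsProperMor f.left.hom → AlgSp.IsSurjectiveMor f.left.hom →
        IsPullback p.left.hom q.left.hom f.left.hom f.left.hom →
        ∀ t : F.obj (Opposite.op V), F.map p.op t = F.map q.op t →
          ∃! s : F.obj (Opposite.op U), F.map f.op s = t := by
  rw [isSheaf_iff_isSheaf_of_type, isSheaf_iff_isSheaf_of_type]
  refine ⟨fun hF => ⟨Presieve.isSheaf_of_le _ ?_ hF, fun U V W f p q hf hs sq t ht => ?_⟩, fun ⟨het, hpr⟩ => ?_⟩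
  · exact fun V R hR => spacesTop_le_phSpacesTop _ hR
  · have h1 := hF _ (GrothendieckTopology.overEquiv_symm_mem_over _ U _ (singleton_mem_phSpacesTop f.left hf hs))
    rw [overEquiv_symm_singleton, ← Presieve.isSheafFor_iff_generate, Presieve.isSheafFor_singleton] at h1
    refine h1 t fun {T} g₁ g₂ e => ?_
    have e' : g₁.left.hom ≫ f.left.hom = g₂.left.hom ≫ f.left.hom :=
      congrArg (fun m => m.left.hom) e
    let l : T.left ⟶ W.left := ObjectProperty.homMk (sq.lift g₁.left.hom g₂.left.hom e')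
    have hl₁ : l ≫ p.left = g₁.left := ObjectProperty.hom_ext _ (sq.lift_fst _ _ _)
    have hl₂ : l ≫ q.left = g₂.left := ObjectProperty.hom_ext _ (sq.lift_snd _ _ _)
    let l' : T ⟶ W := Over.homMk l (by rw [← Over.w p, ← Category.assoc, hl₁, Over.w g₁])
    rw [show g₁ = l' ≫ p from Over.OverMorphism.ext hl₁.symm,
      show g₂ = l' ≫ q from Over.OverMorphism.ext hl₂.symm, op_comp, op_comp,
      FunctorToTypes.map_comp_apply, FunctorToTypes.map_comp_apply, ht]
  · refine isSheaf_of_le_descTop F (phSpacesTop_le _ (le_descTop F het) fun U U' f hf hs => ?_)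
    refine mem_descTop F fun V g => ?_
    let P : Space S := ⟨pullback f.hom g.hom,
      isAlgSpace_of_isPullback (IsPullback.of_hasPullback _ _) U.property.diag U'.property V.left.property⟩
    let π : P ⟶ V.left := ObjectProperty.homMk (pullback.snd f.hom g.hom)
    let V' : Over X := Over.mk (π ≫ V.hom)
    let φ : V' ⟶ V := Over.homMk π rfl
    have e : (Sieve.generate (Presieve.singleton f)).pullback g = Sieve.generate (Presieve.singleton φ.left) := by
      ext T m
      constructor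
      · rintro ⟨_, a, _, ⟨⟩, h⟩
        exact ⟨P, ObjectProperty.homMk (pullback.lift a.hom m.hom (congrArg (·.hom) h)), π, ⟨⟩,
          ObjectProperty.hom_ext _ (pullback.lift_snd _ _ _)⟩
      · rintro ⟨_, a, _, ⟨⟩, rfl⟩
        refine ⟨U', ObjectProperty.homMk (a.hom ≫ pullback.fst f.hom g.hom), f, ⟨⟩, ObjectProperty.hom_ext _ ?_⟩
        show (a.hom ≫ pullback.fst f.hom g.hom) ≫ f.hom = (a.hom ≫ pullback.snd f.hom g.hom) ≫ g.hom
        rw [Category.assoc, pullback.condition, Category.assoc]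
    rw [e, overEquiv_symm_singleton, ← Presieve.isSheafFor_iff_generate, Presieve.isSheafFor_singleton]
    intro t ht
    let Q : Space S := ⟨pullback π.hom π.hom,
      isAlgSpace_of_isPullback (IsPullback.of_hasPullback _ _) V.left.property.diag P.property P.property⟩
    let p₀ : Q ⟶ P := ObjectProperty.homMk (pullback.fst π.hom π.hom)
    let q₀ : Q ⟶ P := ObjectProperty.homMk (pullback.snd π.hom π.hom)
    have hpq : p₀ ≫ π = q₀ ≫ π := ObjectProperty.hom_ext _ pullback.condition
    let Wq : Over X := Over.mk (p₀ ≫ π ≫ V.hom)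
    let p : Wq ⟶ V' := Over.homMk p₀ rfl
    let q : Wq ⟶ V' := Over.homMk q₀ (by
      show q₀ ≫ π ≫ V.hom = p₀ ≫ π ≫ V.hom
      rw [← Category.assoc, ← hpq, Category.assoc])
    exact hpr φ p q (Proper.isProperMor_baseChange U'.property U.property V.left.property
        (IsPullback.of_hasPullback f.hom g.hom) hf)
      (QC.surjective_of_isPullback (IsPullback.of_hasPullback f.hom g.hom) hs)
      (IsPullback.of_hasPullback π.hom π.hom) t (ht p q (Over.OverMorphism.ext hpq))

end Groth.Agent.S10518
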