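import Groth.Statements.S10539
import Groth.Agent.Lib.AlgSpFpqc.Affine
-- import your own Groth.Agent.* helpers here

set_option autoImplicit false
universe u
open CategoryTheory CategoryTheory.Limits AlgebraicGeometry
open AlgSp

namespace Groth.Agent.S10539

/-- The property of morphisms of algebraic spaces over S given by f is integral (every base change to an
affine scheme is an affine scheme integral over it) is fpqc local on the base: for an fpqc covering
of an algebraic space Y by algebraic spaces Y_i, a morphism f : X ⟶ Y of algebraic spaces and
cartesian squares X_i = Y_i ×_Y X, f has the property if and only if every X_i ⟶ Y_i has it. -/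
theorem result (S : Scheme.{u}) :
    AlgSp.IsLocalOnBase (AlgSp.IsFpqcCover (S := S)) AlgSp.IsIntegralMor := by
  exact Groth.Agent.Lib.AlgSpFpqc.Classes.isLocalOnBase_congr (fun _ _ _ _ _ => Groth.Agent.Lib.AlgSpMor.AffineDescent.isIntegralMor_iff)
    (Groth.Agent.Lib.AlgSpFpqc.Affine.isLocalOnBase_repWith _ (fun _ _ g (_ : IsIntegralHom g) => Groth.Agent.Lib.AlgSpMor.RepDescent.isQuasiAffine_of_isAffineHom g))

end Groth.Agent.S10539
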