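import Groth.Statements.S10541
import Groth.Agent.Lib.AlgSpFpqc.Topo
import Groth.Agent.Lib.AlgSpFpqc.LocP
-- import your own Groth.Agent.* helpers here

set_option autoImplicit false
universe u
open CategoryTheory CategoryTheory.Limits AlgebraicGeometry
open AlgSp

namespace Groth.Agent.S10541

/-- The properties of morphisms of algebraic spaces over S given by locally quasi-finite (locally
quasi-finite and locally of finite type on etale charts) and by quasi-finite (the same together with
quasi-compact) are both fpqc local on the base: for an fpqc covering of an algebraic space Y by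
algebraic spaces Y_i, a morphism f : X ⟶ Y of algebraic spaces and cartesian squares X_i = Y_i ×_Y
X, f has the property if and only if every X_i ⟶ Y_i has it. -/
theorem result (S : Scheme.{u}) :
    AlgSp.IsLocalOnBase (AlgSp.IsFpqcCover (S := S)) (AlgSp.LocP (@LocallyQuasiFinite ⊓ @LocallyOfFiniteType)) ∧
    AlgSp.IsLocalOnBase (AlgSp.IsFpqcCover (S := S))
      (fun _ _ f => AlgSp.LocP (@LocallyQuasiFinite ⊓ @LocallyOfFiniteType) f ∧ AlgSp.IsQuasiCompactMor f) := by
  have h := Groth.Agent.Lib.AlgSpFpqc.LocP.isLocalOnBase (S := S) Groth.Agent.Lib.AlgSpMor.LocP.lqfLft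
    inferInstance
    (have := Groth.Agent.Lib.EtSite.QuasiFiniteDescent.descendsAlong_locallyQuasiFinite.{u}; inferInstance)
  refine ⟨h, ?_⟩
  intro ι Y Yi g hY hYi hg X f hX Xi p q hXi sq
  have h₁ := h Yi g hY hYi hg f hX Xi p q hXi sq
  have h₂ := Groth.Agent.Lib.AlgSpFpqc.Topo.isLocalOnBase_qc (S := S) Yi g hY hYi hg f hX Xi p q hXi sq
  exact ⟨fun hf i => ⟨h₁.1 hf.1 i, h₂.1 hf.2 i⟩, fun hp => ⟨h₁.2 fun i => (hp i).1, h₂.2 fun i => (hp i).2⟩⟩

end Groth.Agent.S10541
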