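import Groth.Statements.S10559
import Groth.Agent.Lib.AlgSpMor.SurjChart
import Groth.Agent.Lib.SmoothDesc.Scheme
import Groth.Agent.H14.Chart.SmScheme
import Groth.Agent.Lib.AlgSpFormal.Charts
-- import your own Groth.Agent.* helpers here

set_option autoImplicit false
universe u
open CategoryTheory CategoryTheory.Limits AlgebraicGeometry
open AlgSp

open Groth.Agent.Lib.AlgSpace Groth.Agent.Lib.AlgSpMor

namespace Groth.Agent.S10559

/-- Let f : X ⟶ Y and q : Y ⟶ B be morphisms of algebraic spaces over S. If f is surjective and smooth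
and f ≫ q is smooth, then q is smooth; if f is surjective and etale and f ≫ q is etale, then q is
etale. (The syntomic case of the published statement is not included.) -/
theorem result {S : Scheme.{u}} {X Y B : AlgSp.Space S} (f : X ⟶ Y) (q : Y ⟶ B)
    (hs : AlgSp.IsSurjectiveMor f.hom) :
    (AlgSp.LocP @Smooth f.hom → AlgSp.LocP @Smooth (f ≫ q).hom → AlgSp.LocP @Smooth q.hom) ∧
    (AlgSp.IsEtaleMor f.hom → AlgSp.IsEtaleMor (f ≫ q).hom → AlgSp.IsEtaleMor q.hom) := by
  obtain ⟨V, W, b, c, n, hb, hbs, hc, -, w₂⟩ := LocP.exists_chart Y.property B.property q.hom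
  obtain ⟨U, a, k, ha, has, w₁, hk⟩ := SurjChart.exists_chart X.property Y.property hs hb hbs
  have w : a ≫ (f ≫ q).hom = (AlgSp.yon S).map (k ≫ n) ≫ c := by
    show a ≫ f.hom ≫ q.hom = _
    rw [reassoc_of% w₁, w₂, Functor.map_comp, Category.assoc]
  haveI := hk
  refine ⟨fun hf hfq => ?_, fun hf hfq => ?_⟩
  · refine LocP.locP_of_chart Groth.Agent.Lib.SourceDescent.Scheme.smooth Y.property.diag B.property.diag hb hbs hc w₂ ?_
    haveI : Smooth k.left := hf a b k ha hb w₁
    haveI : Smooth (k.left ≫ n.left) := hfq a c (k ≫ n) ha hc w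
    haveI : LocallyOfFinitePresentation n.left :=
      Groth.Agent.H14.Chart.SmScheme.locallyOfFinitePresentation_of_comp k.left n.left inferInstance
    exact Groth.Agent.Lib.SmoothDesc.Scheme.smooth_of_comp k.left n.left
  · rw [Groth.Agent.Lib.AlgSpFormal.Charts.isEtaleMor_iff_locP X.property Y.property] at hf
    rw [Groth.Agent.Lib.AlgSpFormal.Charts.isEtaleMor_iff_locP X.property B.property] at hfq
    rw [Groth.Agent.Lib.AlgSpFormal.Charts.isEtaleMor_iff_locP Y.property B.property]
    refine LocP.locP_of_chart Groth.Agent.Lib.SourceDescent.Scheme.etale Y.property.diag B.property.diag hb hbs hc w₂ ?_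
    exact Groth.Agent.Lib.SourceDescent.Scheme.etale.descends k.left n.left (hf a b k ha hb w₁) hk
      (hfq a c (k ≫ n) ha hc w)

end Groth.Agent.S10559
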