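import Groth.Statements.S11130
import Groth.Agent.Lib.DescAlg.PbSecDescentMain
import Groth.Agent.Lib.QCoh.Pullback

set_option autoImplicit false
set_option backward.isDefEq.respectTransparency false
set_option backward.isDefEq.respectTransparency.types false
universe u
open CategoryTheory AlgebraicGeometry
open Desc

namespace Groth.Agent.S11130

/-- Let f : X → Y be a flat, surjective and quasi-compact morphism of schemes and M any O_Y-module. Then
M is quasi-coherent if and only if the pullback f^*M is quasi-coherent. -/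
theorem result {X Y : Scheme.{u}} (f : X ⟶ Y)
    [Flat f] [Surjective f] [QuasiCompact f] (M : Y.Modules) :
    Coh.IsQCoh M ↔ Coh.IsQCoh ((Scheme.Modules.pullback f).obj M) := by
  refine ⟨fun h => ?_, fun h => ?_⟩
  · haveI : M.IsQuasicoherent := h
    exact Groth.Agent.Lib.QCoh.Pullback.isQCoh_pullback f M
  · haveI : ((Scheme.Modules.pullback f).obj M).IsQuasicoherent := h
    refine Groth.Agent.Lib.QCoh.Localizing.isQCoh_of_forall_exists_localizes fun y => ?_
    obtain ⟨U, hU, hyU, -⟩ := exists_isAffineOpen_mem_and_subset (U := ⊤) (x := y) trivial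
    refine ⟨U, hU, hyU, (Groth.Agent.Lib.QCoh.Localizing.isQCoh_restrict_fromSpec_iff hU).mp ?_⟩
    let j := hU.fromSpec
    let P := Limits.pullback f j
    haveI : CompactSpace P := QuasiCompact.compactSpace_of_compactSpace (Limits.pullback.snd f j)
    let 𝒰 := P.affineCover.finiteSubcover
    let π : (Limits.sigmaObj 𝒰.X) ⟶ P := Limits.Sigma.desc 𝒰.f
    let g : (Limits.sigmaObj 𝒰.X) ⟶ Spec Γ(Y, U) := π ≫ Limits.pullback.snd f j
    have hπ : Surjective π := inferInstanceAs (Surjective (Limits.Sigma.desc 𝒰.f))
    haveI : Flat π := by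
      refine (IsZariskiLocalAtSource.iff_of_openCover (P := @Flat) (sigmaOpenCover 𝒰.X)).2 fun i => ?_
      show Flat (Limits.Sigma.ι 𝒰.X i ≫ π)
      rw [Limits.Sigma.ι_desc]
      infer_instance
    haveI : ∀ i, IsAffine (𝒰.X i) := fun i => inferInstance
    haveI : IsAffine (Limits.sigmaObj 𝒰.X) := inferInstance
    haveI : ((Scheme.Modules.pullback g).obj ((Scheme.Modules.pullback j).obj M)).IsQuasicoherent := by
      have e : g ≫ j = (π ≫ Limits.pullback.fst f j) ≫ f := by
        simp only [g, Category.assoc, Limits.pullback.condition]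
      haveI := Groth.Agent.Lib.QCoh.Pullback.isQCoh_pullback (π ≫ Limits.pullback.fst f j) ((Scheme.Modules.pullback f).obj M)
      exact (SheafOfModules.isQuasicoherent.{u} (Limits.sigmaObj 𝒰.X).ringCatSheaf).prop_of_iso
        ((Groth.Agent.Lib.DescAlg.PbSec.tr (π ≫ Limits.pullback.fst f j) e.symm M) ≪≫
          (Groth.Agent.Lib.DescAlg.PbSec.tr g rfl M).symm) inferInstance
    have h2 := Groth.Agent.Lib.DescAlg.PbSec.isQCoh_of_pullback g ((Scheme.Modules.pullback j).obj M)
    exact (SheafOfModules.isQuasicoherent.{u} (Spec Γ(Y, U)).ringCatSheaf).prop_of_iso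
      ((Scheme.Modules.restrictFunctorIsoPullback j).app M).symm h2

end Groth.Agent.S11130
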