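import Groth.Statements.S7244
import Groth.Agent.Lib.BettiExact.TorPull
import Groth.Agent.Lib.BettiExact.TorAmpStalk
import Groth.Agent.Lib.DR.Descent

set_option autoImplicit false
set_option linter.style.haveILetI false
universe u
open CategoryTheory CategoryTheory.Limits AlgebraicGeometry
attribute [local instance] HasDerivedCategory.standard
open Perf

namespace Groth.Agent.S7244

open Groth.Agent.Lib Groth.Agent.Lib.DR Groth.Agent.Lib.DR.Basic Groth.Agent.Lib.DR.FiniteComplex
  Groth.Agent.Lib.DR.PseudoCoherent Groth.Agent.Lib.DerivedOX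
open Groth.Agent.Lib.BettiExact Groth.Agent.Lib.BettiExact.TorTensor Groth.Agent.Lib.BettiExact.TorPull
open Groth.Agent.Lib.Modules.StalkModule

/-- Flat amplitude of a stalk descends along a faithfully flat stalk map. -/
theorem bdd_stalk_desc {X Y : Scheme.{u}} (f : X ⟶ Y) [Flat f] (P : CochainComplex Y.Modules ℤ) (x : X)
    (a b : ℤ) (h : Bdd (flat (X.presheaf.stalk x)) a b
      (DerivedCategory.Q.obj ((stC x).obj ((pbC f).obj P)))) :
    Bdd (flat (Y.presheaf.stalk (f x))) a b (DerivedCategory.Q.obj ((stC (f x)).obj P)) := by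
  letI : Algebra (Y.presheaf.stalk (f x)) (X.presheaf.stalk x) := (f.stalkMap x).hom.toAlgebra
  haveI : Module.Flat (Y.presheaf.stalk (f x)) (X.presheaf.stalk x) := Flat.stalkMap f x
  haveI : Module.FaithfullyFlat (Y.presheaf.stalk (f x)) (X.presheaf.stalk x) :=
    @Module.FaithfullyFlat.of_flat_of_isLocalHom _ _ _ _ _ _ _ (Flat.stalkMap f x) (f.toLRSHom.prop x)
  let B : Fin 1 → Type u := fun _ => X.presheaf.stalk x
  haveI : ∀ i, Module.Flat (Y.presheaf.stalk (f x)) (B i) := fun _ => inferInstance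
  refine Descent.bdd_flat_desc (B := B) (Descent.detects_faithfullyFlat _) _ a b fun i => ?_
  exact Bdd.of_iso h (DerivedCategory.Q.mapIso (stalkPbIso f x P).symm ≪≫
    (ExactPush.mapQ (Descent.G B i) ((stC (f x)).obj P)).symm)

/-- Let f : X ⟶ Y be a flat and surjective morphism of schemes, E ∈ D(O_Y) and a, b ∈ ℤ. Assuming the
derived pullback Lf^* exists, if Lf^*E has tor amplitude in [a, b] then so does E; tor amplitude is
stated in the flat-representative form (isomorphic to a complex of flat modules vanishing outside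
[a, b]), equivalent to the derived-tensor form. (The converse, that derived pullback preserves tor
amplitude, holds for any f.) -/
theorem result {X Y : Scheme.{u}} (f : X ⟶ Y) [Flat f] [Surjective f]
    [DCoh.HasLpull f] (E : DCoh.D Y) (a b : ℤ) (h : DCoh.HasFlatAmplitudeIn a b ((DCoh.Lpull f).obj E)) :
    DCoh.HasFlatAmplitudeIn a b E := by
  let G₀ := DerivedCategory.Q.objPreimage E
  let e₀ : DCoh.toD Y G₀ ≅ E := DerivedCategory.Q.objObjPreimageIso E
  let P := (KFlat.res Y).obj G₀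
  have hP : DCoh.IsKFlat P := KFlat.isKFlat_res G₀
  haveI : QuasiIso ((KFlat.aug Y).app G₀) := KFlat.quasiIso_aug G₀
  let eP : DCoh.toD Y P ≅ E := asIso (DerivedCategory.Q.map ((KFlat.aug Y).app G₀)) ≪≫ e₀
  obtain ⟨e⟩ := nonempty_lpull_iso f hP
  obtain ⟨W, hW, hWf, ⟨eW⟩⟩ := h
  have h' : DCoh.HasFlatAmplitudeIn a b (DCoh.toD X ((pbC f).obj P)) :=
    ⟨W, hW, hWf, ⟨eW ≪≫ (DCoh.Lpull f).mapIso eP.symm ≪≫ e⟩⟩
  have hY : DerSch.HasTorAmplitude (𝟙 Y) a b P := fun y => by
    obtain ⟨x, rfl⟩ := f.surjective y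
    exact (TorAmpStalk.bdd_iff P a b (f x)).2
      (bdd_stalk_desc f P x a b ((TorAmpStalk.bdd_iff _ a b x).1 (TorAmpStalk.torAmp_of_flatAmp h' x)))
  obtain ⟨Z, hZ, hZf, ⟨eZ⟩⟩ := TorAmpStalk.flatAmp_of_torAmp hY
  exact ⟨Z, hZ, hZf, ⟨eZ ≪≫ eP⟩⟩

end Groth.Agent.S7244
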