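import Groth.Statements.S1056
import Groth.Agent.S7244
import Groth.Agent.S11130
import Groth.Agent.H41.FppfPerf
import Groth.Agent.H52.FpqcDescPC
import Groth.Agent.H56.RelPC.RelTor
import Groth.Agent.Lib.Perfect.Pullback
import Groth.Agent.Lib.Perfect.QCohD

set_option autoImplicit false
universe u
open CategoryTheory CategoryTheory.Limits AlgebraicGeometry Opposite
attribute [local instance] HasDerivedCategory.standard
open Perf

namespace Groth.Agent.S1056

section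
open CategoryTheory Limits AlgebraicGeometry
open Groth.Agent Groth.Agent.Lib Groth.Agent.Lib.DR Groth.Agent.Lib.DR.FiniteComplex
open Groth.Agent.Lib.Perfect.Basic Groth.Agent.Lib.DerivedOX
open Groth.Agent.Lib.BettiExact Groth.Agent.Lib.BettiExact.TorPull
set_option linter.style.haveILetI false

variable {X' X : Scheme.{u}}

theorem pc_desc (f : X' ⟶ X) [Flat f] [Surjective f] [QuasiCompact f] (E : DCoh.D X) (m : ℤ)
    (h : ∀ n, DCoh.IsPseudoCoherentD n ((H56.RelPC.FPD f).obj E))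
    (hq : DCoh.IsQCohD ((H56.RelPC.FPD f).obj E)) : DCoh.IsPseudoCoherentD m E := by
  have hid : ∀ Z : Scheme.{u}, H56.RelPC.PCBase (𝟙 Z) := fun Z =>
    H41.FppfPerf.pcBase_of_pcMor _ fun U V hU hV e => (H54.FlatFP.perfectMor_of_flat (𝟙 Z) U V hU hV e).1
  have hE : DCoh.IsQCohD E := fun i => (S11130.result f (DCoh.HD E i)).2
    (@CohBasics.Closure.isQCoh_of_iso _ _ _ (H56.RelPC.homologyFD (Scheme.Modules.pullback f) E i) (hq i))
  refine (H56.RelPC.isPseudoCoherentD_iff_rel (hid X) m E).2 ?_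
  refine H56.RelPC.isPseudoCoherentRel_of_fpqc_base f f (𝟙 X')
    (IsPullback.of_vert_isIso ⟨by simp⟩) hE ?_
  exact (H56.RelPC.isPseudoCoherentD_iff_rel (hid X') m _).1 (h m)

theorem tor_desc (f : X' ⟶ X) [Flat f] [Surjective f] [QuasiCompact f] [DCoh.HasLpull f] (E : DCoh.D X)
    (h : DCoh.LocHasFiniteTorDim ((DCoh.Lpull f).obj E)) : DCoh.LocHasFiniteTorDim E := by
  classical
  intro x
  obtain ⟨U, hU, hxU, -⟩ := exists_isAffineOpen_mem_and_subset (U := ⊤) (x := x) trivial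
  let G₀ := DerivedCategory.Q.objPreimage E
  let e₀ : DCoh.toD X G₀ ≅ E := DerivedCategory.Q.objObjPreimageIso E
  let P := (KFlat.res X).obj G₀
  have hP : DCoh.IsKFlat P := KFlat.isKFlat_res G₀
  haveI : QuasiIso ((KFlat.aug X).app G₀) := KFlat.quasiIso_aug G₀
  let eP : DCoh.toD X P ≅ E := asIso (DerivedCategory.Q.map ((KFlat.aug X).app G₀)) ≪≫ e₀
  obtain ⟨e⟩ := nonempty_lpull_iso f hP
  have hloc : ∀ z : X', ∃ (V : X'.Opens) (a b : ℤ), z ∈ V ∧
      ∀ w ∈ V, DerSch.HasTorAmplitudeAt (𝟙 X') a b ((pbC f).obj P) w := fun z => by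
    obtain ⟨V, a, b, hz, hV⟩ := h z
    obtain ⟨W, hW, hWf, ⟨eW⟩⟩ := hV _ ⟨e.symm ≪≫ (DCoh.Lpull f).mapIso eP⟩
    exact ⟨V, a, b, hz, fun w hw => H56.RelPC.RelTor.torAmpAt_of_restrict (𝟙 X') V _ ⟨w, hw⟩
      (torAmpAt_of_iso _ _ eW (H56.RelPC.hasTorAmplitude_of_flat_terms _ W a b hW
        (fun i => H56.RelPC.RelTor.isFlatOver_of_isFlat _ (hWf i)) _))⟩
  choose V a b hzV hV using hloc
  obtain ⟨t, ht⟩ := (f.isCompact_preimage hU.isCompact).elim_finite_subcover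
    (fun z => (V z : Set X')) (fun z => (V z).2) (fun z _ => Set.mem_iUnion.2 ⟨z, hzV z⟩)
  let A := - ∑ z ∈ t, |a z|
  let B := ∑ z ∈ t, |b z|
  have hU' : DerSch.HasTorAmplitude (𝟙 (U : Scheme.{u})) A B ((DCoh.restrictCx U).obj P) := fun y => by
    refine TorRestrict.torAmpAt_restrict (𝟙 X) (𝟙 (U : Scheme.{u})) U.ι U.ι (by simp) P y ?_
    obtain ⟨x', hx'⟩ := f.surjective (U.ι y)
    have hy : f x' ∈ U := hx' ▸ y.2
    obtain ⟨z, hz, hw⟩ := Set.mem_iUnion₂.1 (ht (show x' ∈ f ⁻¹' (U : Set X) from hy))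
    rw [← hx']
    refine (TorAmpStalk.bdd_iff P A B (f x')).2 (S7244.bdd_stalk_desc f P x' A B
      (((TorAmpStalk.bdd_iff _ (a z) (b z) x').1 (hV z x' hw)).mono ?_ ?_))
    · have := Finset.single_le_sum (fun z _ => abs_nonneg (a z)) hz
      have := neg_abs_le (a z)
      linarith
    · have := Finset.single_le_sum (fun z _ => abs_nonneg (b z)) hz
      have := le_abs_self (b z)
      linarith
  obtain ⟨W, hW, hWf, ⟨eW⟩⟩ := TorAmpStalk.flatAmp_of_torAmp hU'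
  exact ⟨U, A, B, hxU, fun F ⟨eF⟩ => ⟨W, hW, hWf,
    ⟨eW ≪≫ (RDQ U.ι P).symm ≪≫ (RD U.ι).mapIso (eP ≪≫ eF.symm) ≪≫ RDQ U.ι F⟩⟩⟩

theorem qcohD_of_perfect (K : DCoh.D X) (h : DCoh.IsPerfect K) : DCoh.IsQCohD K :=
  Perfect.QCohD.isQCohD_of_isPerfect h

end

/-- Let f : X' → X be a flat, surjective, quasi-compact morphism of schemes (an fpqc covering by a
single morphism), and assume Lf^* exists. Then an object E of D(𝒪_X) is perfect if and only if Lf^*E
is perfect. -/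
theorem result {X' X : Scheme.{u}} (f : X' ⟶ X) [Flat f] [Surjective f] [QuasiCompact f] [DCoh.HasLpull f] (E : DCoh.D X) :
    DCoh.IsPerfect E ↔ DCoh.IsPerfect ((DCoh.Lpull f).obj E) := by
  refine ⟨fun h => Groth.Agent.Lib.Perfect.Pullback.isPerfect_Lpull f h, fun h => ?_⟩
  obtain ⟨hpc, htor⟩ := (Groth.Agent.Lib.Perfect.FlatPerfect.isPerfect_iff_pc_tor _).1 h
  obtain ⟨e⟩ := Groth.Agent.H56.RelPC.nonempty_lpull_iso f E
  refine (Groth.Agent.Lib.Perfect.FlatPerfect.isPerfect_iff_pc_tor _).2 ⟨fun m => pc_desc f E m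
    (fun n => (Groth.Agent.Lib.Perfect.PseudoCoh.iff_forall n _).2 fun x =>
      ((Groth.Agent.Lib.Perfect.PseudoCoh.iff_forall n _).1 (hpc n) x).of_iso e)
    (fun i => @Groth.Agent.Lib.CohBasics.Closure.isQCoh_of_iso _ _ _
      ((DerivedCategory.homologyFunctor X'.Modules i).mapIso e) (qcohD_of_perfect _ h i)), tor_desc f E htor⟩

end Groth.Agent.S1056
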