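import Groth.Statements.S10562
import Groth.Agent.Lib.AlgSpFpqc.DescendSp
-- import your own Groth.Agent.* helpers here

set_option autoImplicit false
universe u
open CategoryTheory CategoryTheory.Limits AlgebraicGeometry
open AlgSp

namespace Groth.Agent.S10562

/-- Let f : X ⟶ Y be a morphism of algebraic spaces over S which is locally of finite presentation, flat
and surjective. If X is locally Noetherian then Y is locally Noetherian. -/
theorem result {S : Scheme.{u}} {X Y : AlgSp.Space S} (f : X ⟶ Y)
    (hfp : AlgSp.LocP @LocallyOfFinitePresentation f.hom) (hfl : AlgSp.LocP @Flat f.hom)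
    (hs : AlgSp.IsSurjectiveMor f.hom) (hX : AlgSp.IsLocNoethSp X.obj) :
    AlgSp.IsLocNoethSp Y.obj := by
  exact Groth.Agent.Lib.AlgSpFpqc.DescendSp.isLocNoethSp_of_fppf_surjective X.property Y.property (Groth.Agent.Lib.AlgSpFpqc.Source.locP_inf.2 ⟨hfl, hfp⟩) hs hX

end Groth.Agent.S10562
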