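import Groth.Statements.S1057
import Groth.Agent.H56.RelPC.AbsDesc

set_option autoImplicit false
universe u
open CategoryTheory CategoryTheory.Limits AlgebraicGeometry Opposite
attribute [local instance] HasDerivedCategory.standard
open Perf

namespace Groth.Agent.S1057

/-- For a covering by a single flat, surjective, quasi-compact morphism f : X' ⟶ X: assuming Lf^*
exists, an object E of D(O_X) with quasi-coherent cohomology sheaves is m-pseudo-coherent if and
only if Lf^*E is m-pseudo-coherent. -/
theorem result {X' X : Scheme.{u}} (f : X' ⟶ X) [Flat f] [Surjective f] [QuasiCompact f] [DCoh.HasLpull f] (E : DCoh.D X) (hE : DCoh.IsQCohD E) (m : ℤ) :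
    DCoh.IsPseudoCoherentD m E ↔ DCoh.IsPseudoCoherentD m ((DCoh.Lpull f).obj E) := by
  obtain ⟨e⟩ := Groth.Agent.H56.RelPC.nonempty_lpull_iso f E
  rw [Groth.Agent.Lib.Perfect.PseudoCoh.iff_forall, Groth.Agent.Lib.Perfect.PseudoCoh.iff_forall]
  exact ⟨fun h y => (Groth.Agent.H56.RelPC.pcAt_FPD f h y).of_iso e.symm,
    fun h => Groth.Agent.H56.RelPC.pcAt_of_flat_cover f hE fun y => (h y).of_iso e⟩

end Groth.Agent.S1057
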