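import Groth.Statements.S10573
import Groth.Agent.Lib.AlgSpFpqc.Cover
import Groth.Agent.Lib.AlgSpace.Points
-- import your own Groth.Agent.* helpers here

set_option autoImplicit false
universe u
set_option linter.style.haveILetI false
open CategoryTheory CategoryTheory.Limits AlgebraicGeometry
open AlgSp

open Groth.Agent.Lib.AlgSpace Groth.Agent.Lib.AlgSpFpqc

namespace Groth.Agent.S10573

/-- Let {g_i : T_i ⟶ T} be a family of algebraic spaces over S forming an fpqc covering, and let W_i ⊂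
|T_i| be open subsets (open subspaces) such that for all i, j the two projections T_i ×_T T_j ⟶ T_i,
T_j pull W_i and W_j back to the same subset of |T_i ×_T T_j|. Then there is a unique open subset W
⊂ |T| with g_i⁻¹(W) = W_i for every i. -/
theorem result {S : Scheme.{u}} {ι : Type u} {T : AlgSp.Space S}
    (Ti : ι → AlgSp.Space S) (g : ∀ i, Ti i ⟶ T)
    (hg : AlgSp.IsFpqcCover (fun i => (Ti i).obj) (fun i => (g i).hom))
    (Wi : ∀ i, Set (AlgSp.Points (Ti i).obj)) (hW : ∀ i, IsOpen (Wi i))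
    (hc : ∀ i j, AlgSp.Points.map (pullback.fst (g i).hom (g j).hom) ⁻¹' Wi i =
      AlgSp.Points.map (pullback.snd (g i).hom (g j).hom) ⁻¹' Wi j) :
    ∃! W : TopologicalSpace.Opens (AlgSp.Points T.obj), ∀ i, AlgSp.Points.map (g i).hom ⁻¹' (W : Set (AlgSp.Points T.obj)) = Wi i := by
  classical
  have pre : ∀ (A : Set (AlgSp.Points T.obj)), A = (⋃ i, AlgSp.Points.map (g i).hom '' Wi i) →
      ∀ i, AlgSp.Points.map (g i).hom ⁻¹' A = Wi i := by
    rintro A rfl i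
    ext x
    simp only [Set.mem_preimage, Set.mem_iUnion, Set.mem_image]
    refine ⟨?_, fun hx ↦ ⟨i, x, hx, rfl⟩⟩
    rintro ⟨j, y, hy, e⟩
    obtain ⟨z, rfl, rfl⟩ :=
      exists_of_isPullback (IsPullback.of_hasPullback (g i).hom (g j).hom) x y e.symm
    exact (Set.ext_iff.1 (hc i j) z).2 hy
  have key : ∀ (A : Set (AlgSp.Points T.obj)), (∀ i, IsOpen (AlgSp.Points.map (g i).hom ⁻¹' A)) →
      ∀ (Z : Over S), IsAffine Z.left → ∀ h : (AlgSp.yon S).obj Z ⟶ T.obj,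
        IsOpen (AlgSp.Points.ofPt h ⁻¹' A) := by
    intro A hA Z hZ h
    obtain ⟨W, c, κ, _, O, o, hW', hcf, hcs, hO, ho, hsurj, hl⟩ :=
      Cover.exists_refinement hg hZ h
    haveI := hW'; haveI := hZ; haveI := hcf; haveI := hcs
    rw [← (Flat.isQuotientMap_of_surjective c.left).isOpen_preimage]
    have e : c.left ⁻¹' (AlgSp.Points.ofPt h ⁻¹' A) =
        ⋃ j, (o j).left '' ((o j).left ⁻¹' (c.left ⁻¹' (AlgSp.Points.ofPt h ⁻¹' A))) := by
      ext w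
      simp only [Set.mem_iUnion, Set.mem_image, Set.mem_preimage]
      refine ⟨fun hw ↦ ?_, fun ⟨_, _, hy, e⟩ ↦ e ▸ hy⟩
      obtain ⟨j, y, rfl⟩ := hsurj w
      exact ⟨j, y, hw, rfl⟩
    rw [e]
    refine isOpen_iUnion fun j ↦ ?_
    haveI := ho j
    refine (o j).left.isOpenEmbedding.isOpenMap _ ?_
    obtain ⟨i, l, hl⟩ := hl j
    have e' : (o j).left ⁻¹' (c.left ⁻¹' (AlgSp.Points.ofPt h ⁻¹' A)) =
        AlgSp.Points.ofPt l ⁻¹' (AlgSp.Points.map (g i).hom ⁻¹' A) := by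
      ext y
      simp only [Set.mem_preimage]
      rw [AlgSp.Points.map_ofPt, hl, ofPt_yon_map_comp, ofPt_yon_map_comp]
    rw [e']
    exact (hA i).preimage (AlgSp.Points.continuous_ofPt l)
  have open_of : ∀ (A : Set (AlgSp.Points T.obj)),
      (∀ i, IsOpen (AlgSp.Points.map (g i).hom ⁻¹' A)) → IsOpen A := by
    intro A hA
    refine AlgSp.Points.isOpen_iff.2 fun Z h ↦ isOpen_iff_forall_mem_open.2 fun z hz ↦ ?_
    obtain ⟨O, hO, hzO, -⟩ := exists_isAffineOpen_mem_and_subset (U := ⊤) (Set.mem_univ z)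
    let ι : Over.mk (O.ι ≫ Z.hom) ⟶ Z := Over.homMk O.ι rfl
    refine ⟨O.ι '' (AlgSp.Points.ofPt ((AlgSp.yon S).map ι ≫ h) ⁻¹' A), ?_,
      O.ι.isOpenEmbedding.isOpenMap _ (key A hA (Over.mk (O.ι ≫ Z.hom)) hO _), ⟨z, hzO⟩, ?_, rfl⟩
    · rintro _ ⟨x, hx, rfl⟩
      rw [Set.mem_preimage, ofPt_yon_map_comp] at hx
      exact hx
    · change AlgSp.Points.ofPt ((AlgSp.yon S).map ι ≫ h) _ ∈ A
      erw [ofPt_yon_map_comp]
      exact hz
  have ho : IsOpen (⋃ i, AlgSp.Points.map (g i).hom '' Wi i) :=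
    open_of _ fun i ↦ by rw [pre _ rfl]; exact hW i
  refine ⟨⟨_, ho⟩, pre _ rfl, fun W' hW' ↦ TopologicalSpace.Opens.ext ?_⟩
  ext x
  obtain ⟨Z, h, z, rfl⟩ := exists_ofPt_eq x
  obtain ⟨O, hO, hzO, -⟩ := exists_isAffineOpen_mem_and_subset (U := ⊤) (Set.mem_univ z)
  let ι : Over.mk (O.ι ≫ Z.hom) ⟶ Z := Over.homMk O.ι rfl
  obtain ⟨W, c, κ, _, O', o, -, -, hcs, -, -, hsurj, hl⟩ :=
    Cover.exists_refinement hg (Z := Over.mk (O.ι ≫ Z.hom)) hO ((AlgSp.yon S).map ι ≫ h)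
  obtain ⟨w, hw⟩ := hcs.surj ⟨z, hzO⟩
  obtain ⟨j, y, rfl⟩ := hsurj w
  obtain ⟨i, l, hl⟩ := hl j
  have hx : AlgSp.Points.map (g i).hom (AlgSp.Points.ofPt l y) = AlgSp.Points.ofPt h z := by
    rw [AlgSp.Points.map_ofPt, hl, ofPt_yon_map_comp, ofPt_yon_map_comp]
    erw [hw, ofPt_yon_map_comp]
    rfl
  rw [← hx]
  exact ((Set.ext_iff.1 (hW' i) (AlgSp.Points.ofPt l y))).trans
    ((Set.ext_iff.1 (pre _ rfl i) (AlgSp.Points.ofPt l y))).symm

end Groth.Agent.S10573
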