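import Groth.Statements.S10577
import Groth.Agent.Lib.EtMod.PushFP
import Groth.Agent.Lib.EtMod.SubFam.Sheaf
import Groth.Agent.H8.CohUnion

open Groth.Agent.Lib.EtMod
set_option backward.isDefEq.respectTransparency false

set_option autoImplicit false
universe u
open CategoryTheory CategoryTheory.Limits AlgebraicGeometry
open AlgSp

namespace Groth.Agent.S10577

/-- Let f : X ⟶ Y be a finite morphism of algebraic spaces over S and F a quasi-coherent O_X-module (on
the small etale site). Then F is of finite type exactly when its direct image f_*F is of finite type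
as an O_Y-module. (A finite morphism is representable; the row carries representability of f as an
explicit hypothesis because the direct image functor is defined for representable morphisms.) -/
theorem result {S : Scheme.{u}} {X Y : AlgSp.Space S} (f : X ⟶ Y)
    (hrep : AlgSp.Representable f.hom) (hfin : AlgSp.IsFiniteMor f.hom)
    (F : AlgSp.ModEt X.obj) [F.IsQuasicoherent] :
    F.IsFiniteType ↔ ((AlgSp.pushModEt hrep).obj F).IsFiniteType := by
  have hF := isCart_of_isQuasicoherent F
  have haff := isAffineMor_of_isFiniteMor hfin
  constructor
  · intro h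
    refine SubFam.isFiniteType_of_finite (isCart_push hrep haff hF) fun E hE => ?_
    haveI := hE
    have := isAffine_bcE hrep haff E
    letI := (πfn hrep E).toAlgebra
    have : Module.Finite (fn E) (fn (bcE hrep E)) := finite_πfn hrep hfin E
    have := finite_of_isFiniteType hF (bcE hrep E)
    letI := bcModule hrep F E
    have : IsScalarTower (fn E) (fn (bcE hrep E)) (sectModEt F (bcE hrep E)) :=
      .of_algebraMap_smul fun _ _ => rfl
    exact Module.Finite.trans (fn (bcE hrep E)) (sectModEt F (bcE hrep E))
  · intro h
    refine SubFam.isFiniteType_of_finite hF fun D hD => ?_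
    haveI := hD
    obtain ⟨C, hC⟩ := exists_affCover (coversTop_bcE hrep Y.property D)
    refine Groth.Agent.H8.CohUnion.finite_of_local hF C fun k => ?_
    obtain ⟨⟨E, hE⟩, ⟨g⟩⟩ := (Sieve.mem_ofObjects_iff ..).1 (hC k)
    haveI := hE
    have := isAffine_bcE hrep haff E
    letI := (πfn hrep E).toAlgebra
    letI := bcModule hrep F E
    have : IsScalarTower (fn E) (fn (bcE hrep E)) (sectModEt F (bcE hrep E)) :=
      .of_algebraMap_smul fun _ _ => rfl
    have : Module.Finite (fn E) (sectModEt F (bcE hrep E)) :=
      finite_of_isFiniteType (M := pushM hrep F) (isCart_push hrep haff hF) E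
    have : Module.Finite (fn (bcE hrep E)) (sectModEt F (bcE hrep E)) :=
      Module.Finite.of_restrictScalars_finite (fn E) _ _
    obtain ⟨T, hT⟩ := this.fg_top
    refine ⟨Submodule.fg_def.2 ⟨_, T.finite_toSet.image (res F g), eq_top_iff.2 ?_⟩⟩
    rw [← span_res_eq_top hF g, Submodule.span_le]
    rintro _ ⟨x, rfl⟩
    exact res_mem_span_res g (hT ▸ Submodule.mem_top)

end Groth.Agent.S10577
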