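import Groth.Statements.S10579
import Groth.Agent.Lib.AlgSpDecent.UnibranchFlat
import Groth.Agent.Lib.AlgSpDecent.RelDim

set_option autoImplicit false
universe u
open CategoryTheory CategoryTheory.Limits AlgebraicGeometry
open AlgSp

namespace Groth.Agent.S10579

open Groth.Agent.Lib.AlgSpace Groth.Agent.Lib.AlgSpDecent

/-- Let f : X ⟶ Y be a morphism of algebraic spaces over S and x ∈ |X|. If X is geometrically unibranch
at x and f is flat at x, then Y is geometrically unibranch at the image point f(x). Here an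
algebraic space is geometrically unibranch at a point when for every etale chart from a scheme U and
every point u of U over it the local ring of U at u is geometrically unibranch. -/
theorem result {S : Scheme.{u}} {X Y : AlgSp.Space S} (f : X ⟶ Y) (x : AlgSp.Points X.obj)
    (hf : AlgSp.IsFlatAtMor f.hom x)
    (hX : ∀ (U : Over S) (a : (AlgSp.yon S).obj U ⟶ X.obj) (v : ↥U.left), AlgSp.RepWith @Etale a →
      AlgSp.Points.ofPt a v = x → CAlg2.IsGeomUnibranch ↥(U.left.presheaf.stalk v))
    (V : Over S) (b : (AlgSp.yon S).obj V ⟶ Y.obj) (w : ↥V.left) (hb : AlgSp.RepWith @Etale b)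
    (hw : AlgSp.Points.ofPt b w = AlgSp.Points.map f.hom x) :
    CAlg2.IsGeomUnibranch ↥(V.left.presheaf.stalk w) := by
  have sq := IsPullback.of_hasPullback f.hom b
  have hP : AlgSp.IsAlgSpace (pullback f.hom b) := isAlgSpace_of_isPullback sq Y.property.diag X.property (IsAlgSpace.yon_obj V)
  obtain ⟨U, c, hc, hcs⟩ := hP.atlas
  obtain ⟨z, hz₁, hz₂⟩ := Core.exists_point_of_isPullback sq x (Points.ofPt (𝟙 _) w)
    (by rw [← Core.ofPt_comp, Category.id_comp, hw])
  obtain ⟨v, rfl⟩ := Core.surjective_ofPt hcs z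
  have : MorphismProperty.IsStableUnderComposition (@Etale : MorphismProperty Scheme.{u}) :=
    ⟨fun f g (_ : Etale f) (_ : Etale g) ↦ inferInstanceAs (Etale (f ≫ g))⟩
  have ha : AlgSp.RepWith @Etale (c ≫ pullback.fst f.hom b) := repWith_comp hc (repWith_baseChange sq.flip hb)
  obtain ⟨h, hh⟩ := (AlgSp.yon S).map_surjective (c ≫ pullback.snd f.hom b)
  have hcw : (c ≫ pullback.fst f.hom b) ≫ f.hom = (AlgSp.yon S).map h ≫ b := by
    rw [Category.assoc, sq.w, hh, Category.assoc]
  have hv : Points.ofPt (c ≫ pullback.fst f.hom b) v = x := by rw [Core.ofPt_comp, hz₁]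
  have e : h.left v = w := (Points.schemeEquiv V).injective (by
    show Points.ofScheme V (h.left v) = Points.ofScheme V w
    rw [← Core.ofPt_yon_map, hh, Core.ofPt_comp, hz₂])
  subst e
  exact UnibranchFlat.isGeomUnibranch_of_flat (h.left.stalkMap v).hom (hf _ b h v ha hb hcw hv) (hX U _ v ha hv)

end Groth.Agent.S10579
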