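import Groth.Statements.S10582
import Groth.Agent.Lib.AlgSpMor.QC
import Groth.Agent.Lib.AlgSpMor.LocP
import Mathlib.AlgebraicGeometry.Morphisms.LocalFlatDescent
import Mathlib.CategoryTheory.Sites.LeftExact
import Groth.Agent.Lib.AlgSpDecent.Core
-- import your own Groth.Agent.* helpers here

set_option autoImplicit false
universe u
open CategoryTheory CategoryTheory.Limits AlgebraicGeometry
open AlgSp

set_option linter.style.haveILetI false
open Groth.Agent.Lib.AlgSpace Groth.Agent.Lib.AlgSpMor

namespace Groth.Agent.S10582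

/-- A monomorphism of algebraic spaces that is quasi-compact, flat and surjective is an isomorphism. -/
theorem result {S : Scheme.{u}} {X Y : AlgSp.Space S} (f : X ⟶ Y)
    (hqc : AlgSp.IsQuasiCompactMor f.hom) (hflat : AlgSp.LocP @Flat f.hom) (hsurj : AlgSp.IsSurjectiveMor f.hom)
    [Mono f.hom] : IsIso f.hom := by
  haveI : MorphismProperty.IsStableUnderComposition (@Etale : MorphismProperty Scheme.{u}) :=
    ⟨fun f g (_ : Etale f) (_ : Etale g) ↦ inferInstanceAs (Etale (f ≫ g))⟩
  haveI : MorphismProperty.ContainsIdentities (@Etale : MorphismProperty Scheme.{u}) :=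
    ⟨fun X ↦ inferInstanceAs (Etale (𝟙 X))⟩
  haveI : IsZariskiLocalAtSource @Flat.{u} :=
    HasRingHomProperty.instIsZariskiLocalAtSource (P := @Flat) (Q := RingHom.Flat)
  haveI : IsZariskiLocalAtSource @LocallyOfFinitePresentation.{u} :=
    HasRingHomProperty.instIsZariskiLocalAtSource (P := @LocallyOfFinitePresentation)
      (Q := RingHom.FinitePresentation)
  have key : ∀ (Z : Over S), IsAffine Z.left → ∀ g : (yon S).obj Z ⟶ Y.obj,
      ∃ (W : Over S) (w : W ⟶ Z) (a : (yon S).obj W ⟶ X.obj), Etale w.left ∧ Surjective w.left ∧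
        a ≫ f.hom = (yon S).map w ≫ g := by
    intro Z hZ g
    haveI := hZ
    let P := Limits.pullback f.hom g
    have sqP : IsPullback (pullback.fst f.hom g) (pullback.snd f.hom g) f.hom g :=
      IsPullback.of_hasPullback _ _
    have hP : IsAlgSpace P := isAlgSpace_of_isPullback sqP Y.property.diag X.property
      (IsAlgSpace.yon_obj Z)
    haveI := QC.compactSpace_points
      (hqc (IsAlgSpace.yon_obj Z) QC.isQuasiCompactSp_yon g _ _ sqP)
    obtain ⟨W, c, hW, hc, hcs⟩ := QC.exists_affine_atlas hP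
    obtain ⟨w, hw⟩ := (yon S).map_surjective (c ≫ pullback.snd f.hom g)
    haveI := hW
    haveI : Flat w.left := LocP.locP_of_isPullback Groth.Agent.Lib.SourceDescent.Scheme.flat
      X.property Y.property (IsAlgSpace.yon_obj Z) sqP hflat c (𝟙 _) w hc (repWith_id _ _)
      (by rw [Category.comp_id, hw])
    haveI : Surjective w.left := ⟨fun z ↦ by
      obtain ⟨x, hx⟩ := hsurj (Points.ofPt g z)
      obtain ⟨y, -, hy⟩ := exists_of_isPullback sqP x (Points.ofPt (𝟙 _) z)
        (by rw [hx, Points.map_ofPt, Category.id_comp])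
      obtain ⟨v, rfl⟩ := surjective_ofPt hcs y
      refine ⟨v, (Points.schemeEquiv Z).injective ?_⟩
      rw [Points.map_ofPt, ← hw, Points.ofPt_eq_map_ofScheme (𝟙 _) z, Points.map_id] at hy
      exact (Groth.Agent.Lib.AlgSpDecent.Core.ofPt_yon_map w v).symm.trans hy⟩
    haveI : Mono (pullback.snd f.hom g) := inferInstance
    have sqW : IsPullback ((yon S).map (pullback.fst w w)) ((yon S).map (pullback.snd w w)) c c := by
      have h := isPullback_yon (IsPullback.of_hasPullback w w)
      rw [hw] at h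
      refine isPullback_of_yon ?_ (fun T x y h1 h2 ↦ h.hom_ext h1 h2)
        fun T x y e ↦ ⟨h.lift x y (by rw [← Category.assoc, ← Category.assoc, e]),
          h.lift_fst _ _ _, h.lift_snd _ _ _⟩
      rw [← cancel_mono (pullback.snd f.hom g), Category.assoc, Category.assoc, h.w]
    haveI : Etale (pullback.snd w w).left := repWith_property hc sqW
    have het : Etale w.left := MorphismProperty.of_isPullback_of_descendsAlong (P := @Etale)
      (Q := @Surjective ⊓ @Flat ⊓ @QuasiCompact)
      ((IsPullback.of_hasPullback w w).map (Over.forget S)).flip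
      ⟨⟨‹Surjective w.left›, ‹Flat w.left›⟩, (inferInstance : QuasiCompact w.left)⟩
      ‹Etale (pullback.snd w w).left›
    exact ⟨W, w, c ≫ pullback.fst f.hom g, het, ‹_›,
      by rw [Category.assoc, sqP.w, ← Category.assoc, hw]⟩
  haveI : Sheaf.IsLocallySurjective f.hom := by
    refine isLocallySurjective_of_lift _ fun T b ↦ ?_
    choose W w a hwe hws hwa using fun O : T.left.affineOpens ↦
      key (Topo.opensOver O.1) O.2 ((yon S).map (Topo.opensOverι O.1) ≫ b)
    obtain ⟨c, hc, -⟩ := existsUnique_sigmaOver_desc W a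
    let p : sigmaOver W ⟶ T := Over.homMk
      (Limits.Sigma.desc fun O ↦ (w O ≫ Topo.opensOverι O.1).left)
      (Limits.Sigma.hom_ext _ _ fun O ↦ by simp; exact Over.w (w O))
    have hp : ∀ O, sigmaOverι W O ≫ p = w O ≫ Topo.opensOverι O.1 := fun O ↦
      Over.OverMorphism.ext (by simp [p])
    haveI : Flat p.left := IsZariskiLocalAtSource.sigmaDesc (P := @Flat) fun O ↦ by
      haveI := hwe O
      exact inferInstanceAs (Flat ((w O).left ≫ O.1.ι))
    haveI : LocallyOfFinitePresentation p.left :=
      IsZariskiLocalAtSource.sigmaDesc (P := @LocallyOfFinitePresentation) fun O ↦ by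
        haveI := hwe O
        exact inferInstanceAs (LocallyOfFinitePresentation ((w O).left ≫ O.1.ι))
    haveI : Surjective p.left := ⟨fun x ↦ by
      obtain ⟨O, hO, hx, -⟩ := exists_isAffineOpen_mem_and_subset (U := ⊤) (Set.mem_univ x)
      obtain ⟨z, hz⟩ := (hws ⟨O, hO⟩).surj ⟨x, hx⟩
      refine ⟨(sigmaOverι W ⟨O, hO⟩).left z, ?_⟩
      rw [← Scheme.Hom.comp_apply, ← Over.comp_left, hp, Over.comp_left, Scheme.Hom.comp_apply, hz]
      rfl⟩
    refine ⟨_, p, c, ⟨⟨‹_›, ‹_›⟩, ‹_›⟩, hom_ext_of_family W _ (sigmaOverι_mem_J W) fun O ↦ ?_⟩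
    rw [← Category.assoc, hc, hwa, ← Category.assoc ((yon S).map (sigmaOverι W O)),
      ← Functor.map_comp, hp, Functor.map_comp, Category.assoc]
  exact isIso_of_mono_of_epi f.hom

end Groth.Agent.S10582
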