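import Groth.Statements.S10583
import Groth.Agent.Lib.AlgSpFormal.ThickTopo

set_option autoImplicit false
universe u
open CategoryTheory CategoryTheory.Limits AlgebraicGeometry
open AlgSp

namespace Groth.Agent.S10583

/-- Let i : X ⟶ X' be a thickening of algebraic spaces (representable, every base change to a scheme a
surjective closed immersion) and let u : U ⟶ X be an open immersion. Then there is an open immersion
u' : U' ⟶ X' with U = X ×_{X'} U' (a pullback square), and any two open subspaces of X' with this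
property are isomorphic over X'. -/
theorem result {S : Scheme.{u}} {X X' U : AlgSp.Space S} (i : X ⟶ X')
    (hi : AlgSp.IsThickMor i.hom)
    (u : U ⟶ X) (hu : AlgSp.RepWith @IsOpenImmersion u.hom) :
    (∃ (U' : AlgSp.Space S) (u' : U' ⟶ X') (k : U ⟶ U'),
      AlgSp.RepWith @IsOpenImmersion u'.hom ∧ IsPullback u.hom k.hom i.hom u'.hom) ∧
    (∀ (U₁ U₂ : AlgSp.Space S) (u₁ : U₁ ⟶ X') (u₂ : U₂ ⟶ X') (k₁ : U ⟶ U₁) (k₂ : U ⟶ U₂),
      AlgSp.RepWith @IsOpenImmersion u₁.hom → IsPullback u.hom k₁.hom i.hom u₁.hom →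
      AlgSp.RepWith @IsOpenImmersion u₂.hom → IsPullback u.hom k₂.hom i.hom u₂.hom →
      ∃ e : U₁ ≅ U₂, e.hom ≫ u₂ = u₁) := by
  have hh := Groth.Agent.Lib.AlgSpFormal.ThickTopo.isHomeomorph_map hi
  refine ⟨?_, fun U₁ U₂ u₁ u₂ k₁ k₂ h₁ s₁ h₂ s₂ => ?_⟩
  · obtain ⟨F, j, hF, hj, hr⟩ := Groth.Agent.Lib.AlgSpFormal.OpenSet.exists_openSub X'.property
      (hh.isOpenMap _ (Groth.Agent.Lib.AlgSpace.isOpenEmbedding_map hu).isOpen_range)
    obtain ⟨k, hk⟩ := Groth.Agent.Lib.AlgSpFormal.ThickTopo.isPullback_of_range hu hj hr hh.bijective.1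
    exact ⟨⟨F, hF⟩, ObjectProperty.homMk j, ObjectProperty.homMk k, hj, hk⟩
  · have := Groth.Agent.Lib.AlgSpFormal.ThickTopo.mono_of_openImmersion h₁
    have := Groth.Agent.Lib.AlgSpFormal.ThickTopo.mono_of_openImmersion h₂
    have r₁ := Groth.Agent.Lib.AlgSpFormal.ThickTopo.range_of_isPullback s₁ hh.bijective.2
    have r₂ := Groth.Agent.Lib.AlgSpFormal.ThickTopo.range_of_isPullback s₂ hh.bijective.2
    obtain ⟨e, he⟩ := (Groth.Agent.Lib.AlgSpace.exists_lift_iff_range_subset h₂ u₁.hom).2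
      (r₁.trans r₂.symm).subset
    obtain ⟨e', he'⟩ := (Groth.Agent.Lib.AlgSpace.exists_lift_iff_range_subset h₁ u₂.hom).2
      (r₂.trans r₁.symm).subset
    exact ⟨⟨ObjectProperty.homMk e, ObjectProperty.homMk e',
      ObjectProperty.hom_ext _ ((cancel_mono u₁.hom).1 (by simp [he, he'])),
      ObjectProperty.hom_ext _ ((cancel_mono u₂.hom).1 (by simp [he, he']))⟩,
      ObjectProperty.hom_ext _ he⟩

end Groth.Agent.S10583
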