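import Groth.Statements.S10586
import Groth.Agent.Lib.AffThick.EtSite

set_option autoImplicit false
universe u
open CategoryTheory CategoryTheory.Limits AlgebraicGeometry
open AlgSp

namespace Groth.Agent.S10586

open Groth.Agent.Lib.AlgSpace Groth.Agent.H95

set_option backward.isDefEq.respectTransparency false

variable {S : Scheme.{u}} {X X' : AlgSp.Space S} {i : X.obj ⟶ X'.obj}

theorem bc_full (hi : AlgSp.IsThickMor i) : (AlgSp.EtOver.bc hi.1).Full where
  map_surjective {E E'} χ := by
    obtain ⟨P, p, q, sq⟩ := exists_isPullback_yon X'.property.diag E.obj.hom E'.obj.hom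
    have hp : Etale p.left := repWith_property E'.property sq.flip
    let π := hi.1.snd E.obj.hom
    have hπ := hi.2 E.obj.hom _ π (hi.1.isPullback E.obj.hom)
    haveI : IsClosedImmersion π.left := hπ.1
    haveI : Surjective π.left := hπ.2
    let a' : hi.1.pullback E.obj.hom ⟶ E'.obj.left := χ.hom.left ≫ hi.1.snd E'.obj.hom
    have hw : (yon S).map π ≫ E.obj.hom = (yon S).map a' ≫ E'.obj.hom := by
      rw [Functor.map_comp, Category.assoc, ← hi.1.w, ← hi.1.w, ← Category.assoc]
      exact congrArg (· ≫ i) (EtOver.w χ).symm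
    obtain ⟨x, hx⟩ := (yon S).map_surjective (sq.lift _ _ hw)
    have hx₁ : x ≫ p = π := (yon S).map_injective (by rw [Functor.map_comp, hx, sq.lift_fst])
    have hx₂ : x ≫ q = a' := (yon S).map_injective (by rw [Functor.map_comp, hx, sq.lift_snd])
    obtain ⟨l, hl₁, hl₂⟩ := TopInv.exists_hom p.left π.left x.left (𝟙 _)
      (by rw [← Over.comp_left, hx₁, Category.comp_id])
    let L : E.obj.left ⟶ P := Over.homMk l (by rw [← Over.w p, reassoc_of% hl₂])
    have hL₁ : L ≫ p = 𝟙 _ := Over.OverMorphism.ext hl₂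
    have hL₂ : π ≫ L = x := Over.OverMorphism.ext hl₁
    refine ⟨EtOver.homMk (L ≫ q) ?_, EtOver.hom_ext _ _ (hi.1.hom_ext ?_ ?_)⟩
    · rw [Functor.map_comp, Category.assoc, ← sq.w, ← Functor.map_comp_assoc, hL₁,
        CategoryTheory.Functor.map_id, Category.id_comp]
    · exact (EtOver.map_bcMap_fst hi.1 _).trans (EtOver.w χ).symm
    · refine (EtOver.bcMap_snd hi.1 _).trans ?_
      change π ≫ L ≫ q = _
      rw [reassoc_of% hL₂, hx₂]

theorem bc_faithful (hi : AlgSp.IsThickMor i) : (AlgSp.EtOver.bc hi.1).Faithful where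
  map_injective {E E'} φ ψ h := by
    obtain ⟨P, p, q, sq⟩ := exists_isPullback_yon X'.property.diag E.obj.hom E'.obj.hom
    have hp : Etale p.left := repWith_property E'.property sq.flip
    let π := hi.1.snd E.obj.hom
    have hπ := hi.2 E.obj.hom _ π (hi.1.isPullback E.obj.hom)
    haveI : Surjective π.left := hπ.2
    obtain ⟨l₁, hl₁⟩ := (yon S).map_surjective (sq.lift ((yon S).map (𝟙 _)) ((yon S).map φ.hom.left)
      (by rw [CategoryTheory.Functor.map_id, Category.id_comp, EtOver.w φ]))
    obtain ⟨l₂, hl₂⟩ := (yon S).map_surjective (sq.lift ((yon S).map (𝟙 _)) ((yon S).map ψ.hom.left)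
      (by rw [CategoryTheory.Functor.map_id, Category.id_comp, EtOver.w ψ]))
    have a₁ : l₁ ≫ p = 𝟙 _ := (yon S).map_injective (by rw [Functor.map_comp, hl₁, sq.lift_fst])
    have a₂ : l₂ ≫ p = 𝟙 _ := (yon S).map_injective (by rw [Functor.map_comp, hl₂, sq.lift_fst])
    have b₁ : l₁ ≫ q = φ.hom.left := (yon S).map_injective (by rw [Functor.map_comp, hl₁, sq.lift_snd])
    have b₂ : l₂ ≫ q = ψ.hom.left := (yon S).map_injective (by rw [Functor.map_comp, hl₂, sq.lift_snd])
    have hφψ : π ≫ φ.hom.left = π ≫ ψ.hom.left :=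
      ((EtOver.bcMap_snd hi.1 φ).symm.trans
        (congrArg (fun m => m.hom.left ≫ hi.1.snd E'.obj.hom) h)).trans (EtOver.bcMap_snd hi.1 ψ)
    have hl : π ≫ l₁ = π ≫ l₂ := (yon S).map_injective (sq.hom_ext
      (by rw [← Functor.map_comp, ← Functor.map_comp, Category.assoc, Category.assoc, a₁, a₂])
      (by rw [← Functor.map_comp, ← Functor.map_comp, Category.assoc, Category.assoc, b₁, b₂, hφψ]))
    have := TopInv.hom_ext p.left π.left (congrArg (fun m => m.left) hl)
      (congrArg (fun m => m.left) (a₁.trans a₂.symm))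
    refine EtOver.hom_ext _ _ ?_
    rw [← b₁, ← b₂, show l₁ = l₂ from Over.OverMorphism.ext this]

theorem bc_essSurj (hi : AlgSp.IsThickMor i) : (AlgSp.EtOver.bc hi.1).EssSurj where
  mem_essImage E₀ := by
    obtain ⟨U, a, jU, ha, sq⟩ := Groth.Agent.Lib.AffThick.EtSite.exists_lift X.property X'.property
      hi E₀.obj.hom E₀.property
    let e := (yon S).preimageIso ((hi.1.isPullback a).isoIsPullback _ _ sq)
    refine ⟨EtOver.mk a ha, ⟨ObjectProperty.isoMk _ (CostructuredArrow.isoMk e ?_)⟩⟩
    change (yon S).map e.hom ≫ E₀.obj.hom = hi.1.fst a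
    rw [show (yon S).map e.hom = _ from (yon S).map_preimage _]
    exact IsPullback.isoIsPullback_hom_fst _ _ _ _

/-- Let i : X ⟶ X' be a thickening of algebraic spaces over S (representable, every base change to a
scheme a surjective closed immersion). Then base change along i is an equivalence from the small
etale site of X' (schemes etale over X') to the small etale site of X. -/
theorem result {S : Scheme.{u}} {X X' : AlgSp.Space S} (i : X ⟶ X')
    (hi : AlgSp.IsThickMor i.hom) :
    (AlgSp.EtOver.bc hi.1).IsEquivalence := by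
  exact ⟨bc_faithful hi, bc_full hi, bc_essSurj hi⟩

end Groth.Agent.S10586
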