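import Groth.Statements.S10591
import Groth.Agent.Lib.AlgSpThick.Cart

set_option autoImplicit false
universe u
open CategoryTheory CategoryTheory.Limits AlgebraicGeometry
open AlgSp

namespace Groth.Agent.S10591

/-- Consider a morphism (f, f') from the thickening X ⊂ X' to the thickening Y ⊂ Y' of algebraic spaces
over S, meaning: i : X ⟶ X' and j : Y ⟶ Y' are thickenings (representable, every base change to a
scheme a surjective closed immersion) and i ≫ f' = f ≫ j. Assume moreover that the square is
cartesian (X = Y ×_{Y'} X') and that i is a finite order thickening (for one n, on every affine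
etale scheme chart of X' the (n+1)-st power of the ideal of the base change of X vanishes). Then f
is locally of finite type of relative dimension d, resp. locally of finite type, resp. locally
quasi-finite, resp. unramified, if and only if f' is (relative dimension d at a point: some chart
diagram through the point has fibre of local dimension d there) (all in the etale-local sense,
locally quasi-finite and unramified including locally of finite type). -/
theorem result {S : Scheme.{u}} {X X' Y Y' : AlgSp.Space S} (i : X ⟶ X') (j : Y ⟶ Y')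
    (f : X ⟶ Y) (f' : X' ⟶ Y')
    (hi : AlgSp.IsThickMor i.hom)
    (hj : AlgSp.IsThickMor j.hom) (w : i ≫ f' = f ≫ j)
    (hcart : IsPullback i.hom f.hom f'.hom j.hom)
    (hfo : AlgSp.IsFinThickMor i.hom) (d : ℕ) :
    ((AlgSp.LocP @LocallyOfFiniteType f.hom ∧
        ∀ x, AlgSp.HasAtMor (fun _ _ h u => FlatMor.fibreDimAt h u = (d : WithBot ℕ∞)) f.hom x) ↔
      (AlgSp.LocP @LocallyOfFiniteType f'.hom ∧
        ∀ x', AlgSp.HasAtMor (fun _ _ h u => FlatMor.fibreDimAt h u = (d : WithBot ℕ∞)) f'.hom x')) ∧
    (AlgSp.LocP @LocallyOfFiniteType f.hom ↔ AlgSp.LocP @LocallyOfFiniteType f'.hom) ∧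
    (AlgSp.LocP (@LocallyQuasiFinite ⊓ @LocallyOfFiniteType) f.hom ↔
      AlgSp.LocP (@LocallyQuasiFinite ⊓ @LocallyOfFiniteType) f'.hom) ∧
    (AlgSp.LocP (@LocallyOfFiniteType ⊓ @FormallyUnramified) f.hom ↔
      AlgSp.LocP (@LocallyOfFiniteType ⊓ @FormallyUnramified) f'.hom) := by
  have hX := X.property
  have hX' := X'.property
  have hY := Y.property
  have hY' := Y'.property
  have lft : LocP @LocallyOfFiniteType f.hom → LocP @LocallyOfFiniteType f'.hom :=
    Groth.Agent.Lib.AlgSpThick.Cart.locP_lft hcart hj hfo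
  have lft' : LocP @LocallyOfFiniteType f'.hom → LocP @LocallyOfFiniteType f.hom :=
    Groth.Agent.Lib.AlgSpMor.LocP.locP_of_isPullback
      Groth.Agent.Lib.SourceDescent.Scheme.locallyOfFiniteType hX' hY' hY hcart
  refine ⟨⟨fun h => ⟨lft h.1, (Groth.Agent.Lib.AlgSpThick.Cart.forall_fibreDim_iff hX hX' hY hY'
      hcart hj h.1 (lft h.1) _).1 h.2⟩,
    fun h => ⟨lft' h.1, (Groth.Agent.Lib.AlgSpThick.Cart.forall_fibreDim_iff hX hX' hY hY'
      hcart hj (lft' h.1) h.1 _).2 h.2⟩⟩, ⟨lft, lft'⟩, ⟨?_, ?_⟩, ⟨?_, ?_⟩⟩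
  · exact fun h => Groth.Agent.Lib.AlgSpThick.Cart.locP_lqf hcart hj
      (lft fun U V a b g ha hb w => (h a b g ha hb w).2) h
  · exact Groth.Agent.Lib.AlgSpMor.LocP.locP_of_isPullback
      Groth.Agent.Lib.AlgSpMor.LocP.lqfLft hX' hY' hY hcart
  · exact fun h => Groth.Agent.Lib.AlgSpThick.Cart.locP_unramified hcart hj
      (lft fun U V a b g ha hb w => (h a b g ha hb w).1) h
  · exact Groth.Agent.Lib.AlgSpMor.LocP.locP_of_isPullback
      Groth.Agent.Lib.AlgSpMor.LocP.unramified hX' hY' hY hcart

end Groth.Agent.S10591
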