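import Groth.Statements.S10595
import Groth.Agent.Lib.AlgSpThick.Tower

set_option autoImplicit false
universe u
open CategoryTheory CategoryTheory.Limits AlgebraicGeometry
open AlgSp

namespace Groth.Agent.S10595

/-- Let iB : B ⟶ B' be a finite order thickening of algebraic spaces over S (a thickening such that for
one n the (n+1)-st power of the ideal vanishes on every affine etale scheme chart), f' : X' ⟶ Y' a
morphism of algebraic spaces over B' (via g' : Y' ⟶ B') with X' flat over B', and f : X ⟶ Y, g : Y ⟶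
B its base change to B (both squares to iB cartesian, iX ≫ f' = f ≫ iY). If f is flat, then f' is
flat and g' : Y' ⟶ B' is flat at every point of Y' in the image of f'. -/
theorem result {S : Scheme.{u}} {X X' Y Y' B B' : AlgSp.Space S} (iX : X ⟶ X') (iY : Y ⟶ Y') (iB : B ⟶ B')
    (f : X ⟶ Y) (f' : X' ⟶ Y') (g : Y ⟶ B) (g' : Y' ⟶ B')
    (hcX : IsPullback iX.hom (f ≫ g).hom (f' ≫ g').hom iB.hom) (hcY : IsPullback iY.hom g.hom g'.hom iB.hom)
    (w : iX ≫ f' = f ≫ iY)
    (hB : AlgSp.IsFinThickMor iB.hom) (hflat : AlgSp.LocP @Flat (f' ≫ g').hom)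
    (hf : AlgSp.LocP @Flat f.hom) :
    AlgSp.LocP @Flat f'.hom ∧
    ∀ x' : AlgSp.Points X'.obj, AlgSp.IsFlatAtMor g'.hom (AlgSp.Points.map f'.hom x') := by
  obtain ⟨D⟩ := Groth.Agent.Lib.AlgSpThick.Tower.exists_data X'.property Y'.property B'.property hcX hcY (congrArg (fun m => m.hom) w) hB
  have := D.closed
  have : Flat (D.hf'.left ≫ D.hg'.left) := hflat D.a' D.c' (D.hf' ≫ D.hg') D.ha' D.hc'
    (by change D.a' ≫ f'.hom ≫ g'.hom = _; rw [reassoc_of% D.w', D.w'', Functor.map_comp, Category.assoc])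
  have : Flat D.hf.left := hf D.a D.b D.hf D.ha D.hb D.w
  have hfl : Flat D.hf'.left :=
    Groth.Agent.H54.Deform.flat D.sqX D.sqY D.comm D.nil
  refine ⟨Groth.Agent.Lib.AlgSpMor.LocP.locP_of_chart Groth.Agent.Lib.SourceDescent.Scheme.flat
    X'.property.diag Y'.property.diag D.ha' D.has' D.hb' D.w' hfl, fun x' => ?_⟩
  obtain ⟨u, rfl⟩ := Groth.Agent.Lib.AlgSpace.surjective_ofPt D.has' x'
  rw [Points.map_ofPt, D.w', Groth.Agent.Lib.AlgSpace.ofPt_yon_map_comp]
  exact Groth.Agent.Lib.AlgSpThick.FlatAt.isFlatAtMor_of_chart Y'.property.diag B'.property.diag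
    D.hb' D.hc' D.w'' _ (Groth.Agent.Lib.Flat55.FlatDescend.flat_stalkMap_of_comp D.hf'.left
      D.hg'.left u (Flat.stalkMap _ u) (Flat.stalkMap _ u))

end Groth.Agent.S10595
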