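import Groth.Statements.S10596
import Groth.Agent.Lib.AlgSpThick.Tower
import Groth.Agent.Lib.AlgSpFormal.Charts

set_option autoImplicit false
universe u
open CategoryTheory CategoryTheory.Limits AlgebraicGeometry
open AlgSp

namespace Groth.Agent.S10596

/-- Let iB : B ⟶ B' be a finite order thickening of algebraic spaces over S (a thickening such that for
one n the (n+1)-st power of the ideal vanishes on every affine etale scheme chart), f' : X' ⟶ Y' a
morphism of algebraic spaces over B' (via g' : Y' ⟶ B') with X' flat over B', and f : X ⟶ Y, g : Y ⟶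
B its base change to B (both squares to iB cartesian, iX ≫ f' = f ≫ iY). Then f is locally of finite
type of relative dimension d, resp. flat, resp. locally of finite type, locally quasi-finite,
locally of finite presentation, smooth, unramified, etale, if and only if f' is (etale-local sense;
locally quasi-finite and unramified include locally of finite type). -/
theorem result {S : Scheme.{u}} {X X' Y Y' B B' : AlgSp.Space S} (iX : X ⟶ X') (iY : Y ⟶ Y') (iB : B ⟶ B')
    (f : X ⟶ Y) (f' : X' ⟶ Y') (g : Y ⟶ B) (g' : Y' ⟶ B')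
    (hcX : IsPullback iX.hom (f ≫ g).hom (f' ≫ g').hom iB.hom) (hcY : IsPullback iY.hom g.hom g'.hom iB.hom)
    (w : iX ≫ f' = f ≫ iY)
    (hB : AlgSp.IsFinThickMor iB.hom) (hflat : AlgSp.LocP @Flat (f' ≫ g').hom) (d : ℕ) :
    ((AlgSp.LocP @LocallyOfFiniteType f.hom ∧
        ∀ x, AlgSp.HasAtMor (fun _ _ h u => FlatMor.fibreDimAt h u = (d : WithBot ℕ∞)) f.hom x) ↔
      (AlgSp.LocP @LocallyOfFiniteType f'.hom ∧
        ∀ x', AlgSp.HasAtMor (fun _ _ h u => FlatMor.fibreDimAt h u = (d : WithBot ℕ∞)) f'.hom x')) ∧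
    (AlgSp.LocP @Flat f.hom ↔ AlgSp.LocP @Flat f'.hom) ∧
    (AlgSp.LocP @LocallyOfFiniteType f.hom ↔ AlgSp.LocP @LocallyOfFiniteType f'.hom) ∧
    (AlgSp.LocP (@LocallyQuasiFinite ⊓ @LocallyOfFiniteType) f.hom ↔
      AlgSp.LocP (@LocallyQuasiFinite ⊓ @LocallyOfFiniteType) f'.hom) ∧
    (AlgSp.LocP @LocallyOfFinitePresentation f.hom ↔ AlgSp.LocP @LocallyOfFinitePresentation f'.hom) ∧
    (AlgSp.LocP @Smooth f.hom ↔ AlgSp.LocP @Smooth f'.hom) ∧
    (AlgSp.LocP (@LocallyOfFiniteType ⊓ @FormallyUnramified) f.hom ↔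
      AlgSp.LocP (@LocallyOfFiniteType ⊓ @FormallyUnramified) f'.hom) ∧
    (AlgSp.IsEtaleMor f.hom ↔ AlgSp.IsEtaleMor f'.hom) := by
  obtain ⟨D⟩ := Groth.Agent.Lib.AlgSpThick.Tower.exists_data X'.property Y'.property B'.property hcX hcY (congrArg (fun m => m.hom) w) hB
  have := D.closed
  have := D.surj
  have : Flat (D.hf'.left ≫ D.hg'.left) := hflat D.a' D.c' (D.hf' ≫ D.hg') D.ha' D.hc'
    (by change D.a' ≫ f'.hom ≫ g'.hom = _; rw [reassoc_of% D.w', D.w'', Functor.map_comp, Category.assoc])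
  have hc := Groth.Agent.H54.Deform.isPullback D.sqX D.sqY D.comm
  have hclV : IsClosedImmersion D.iV.left := MorphismProperty.of_isPullback D.sqY.flip D.closed
  have hnV := Groth.Agent.H54.Deform.isNilpotent_ker_of_isPullback D.sqY D.nil
  have hiY : IsThickMor iY.hom := Groth.Agent.Lib.AlgSpace.repWith_baseChange hcY.flip hB.choose_spec.1
  have top := Groth.Agent.Lib.AlgSpThick.Tower.isPullback_top hcX hcY (f := f.hom) (f' := f'.hom)
    (congrArg (fun m => m.hom) w)
  have up : ∀ {P : MorphismProperty Scheme.{u}}, Groth.Agent.Lib.SourceDescent.Scheme.EtaleLocalST P →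
      P D.hf'.left → LocP P f'.hom := fun hP h =>
    Groth.Agent.Lib.AlgSpMor.LocP.locP_of_chart hP X'.property.diag Y'.property.diag D.ha' D.has' D.hb' D.w' h
  have down : ∀ {P : MorphismProperty Scheme.{u}}, Groth.Agent.Lib.SourceDescent.Scheme.EtaleLocalST P →
      LocP P f'.hom → LocP P f.hom := fun hP h =>
    Groth.Agent.Lib.AlgSpMor.LocP.locP_of_isPullback hP X'.property Y'.property Y.property top h
  have lft : LocP @LocallyOfFiniteType f.hom ↔ LocP @LocallyOfFiniteType f'.hom :=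
    ⟨fun h => up Groth.Agent.Lib.SourceDescent.Scheme.locallyOfFiniteType
      ((Groth.Agent.H54.ThickLocal.locallyOfFiniteType_iff_of_isNilpotent hc hnV).1
        (h D.a D.b D.hf D.ha D.hb D.w)), down Groth.Agent.Lib.SourceDescent.Scheme.locallyOfFiniteType⟩
  refine ⟨⟨fun h => ⟨lft.1 h.1, (Groth.Agent.Lib.AlgSpThick.Cart.forall_fibreDim_iff X.property
      X'.property Y.property Y'.property top hiY h.1 (lft.1 h.1) _).1 h.2⟩,
    fun h => ⟨lft.2 h.1, (Groth.Agent.Lib.AlgSpThick.Cart.forall_fibreDim_iff X.property X'.property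
      Y.property Y'.property top hiY (lft.2 h.1) h.1 _).2 h.2⟩⟩, ⟨fun h => ?_, ?_⟩, lft,
    ⟨fun h => ?_, ?_⟩, ⟨fun h => ?_, ?_⟩, ⟨fun h => ?_, ?_⟩, ⟨fun h => ?_, ?_⟩, ?_⟩
  · have : Flat D.hf.left := h D.a D.b D.hf D.ha D.hb D.w
    exact up Groth.Agent.Lib.SourceDescent.Scheme.flat
      (Groth.Agent.H54.Deform.flat D.sqX D.sqY D.comm D.nil)
  · exact down Groth.Agent.Lib.SourceDescent.Scheme.flat
  · exact Groth.Agent.Lib.AlgSpThick.Cart.locP_lqf top hiY
      (lft.1 fun U V a b g ha hb w => (h a b g ha hb w).2) h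
  · exact down Groth.Agent.Lib.AlgSpMor.LocP.lqfLft
  · exact up Groth.Agent.Lib.SourceDescent.Scheme.locallyOfFinitePresentation
      (Groth.Agent.Lib.AlgSpThick.DeformScheme.locallyOfFinitePresentation D.sqX D.sqY D.comm D.nil
        (h D.a D.b D.hf D.ha D.hb D.w))
  · exact down Groth.Agent.Lib.SourceDescent.Scheme.locallyOfFinitePresentation
  · exact up Groth.Agent.Lib.SourceDescent.Scheme.smooth
      (Groth.Agent.Lib.AlgSpThick.DeformScheme.smooth D.sqX D.sqY D.comm D.nil
        (h D.a D.b D.hf D.ha D.hb D.w))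
  · exact down Groth.Agent.Lib.SourceDescent.Scheme.smooth
  · exact Groth.Agent.Lib.AlgSpThick.Cart.locP_unramified top hiY
      (lft.1 fun U V a b g ha hb w => (h a b g ha hb w).1) h
  · exact down Groth.Agent.Lib.AlgSpMor.LocP.unramified
  · rw [Groth.Agent.Lib.AlgSpFormal.Charts.isEtaleMor_iff_locP X.property Y.property,
      Groth.Agent.Lib.AlgSpFormal.Charts.isEtaleMor_iff_locP X'.property Y'.property]
    exact ⟨fun h => up Groth.Agent.Lib.SourceDescent.Scheme.etale
      (Groth.Agent.Lib.AlgSpThick.DeformScheme.etale D.sqX D.sqY D.comm D.nil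
        (h D.a D.b D.hf D.ha D.hb D.w)), down Groth.Agent.Lib.SourceDescent.Scheme.etale⟩

end Groth.Agent.S10596
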