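import Groth.Statements.S10599
import Groth.Agent.Lib.AlgSpThick.Tower
import Groth.Agent.Lib.AlgSpThick.Fibrewise
import Groth.Agent.Lib.AlgSpFormal.Charts

set_option autoImplicit false
universe u
open CategoryTheory CategoryTheory.Limits AlgebraicGeometry
open AlgSp

namespace Groth.Agent.S10599

/-- Let iB : B ⟶ B' be a thickening of algebraic spaces over S (representable, every base change to a
scheme a surjective closed immersion), f' : X' ⟶ Y' a morphism of algebraic spaces over B' (via g' :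
Y' ⟶ B') with Y' locally of finite type over B' and X' flat and locally of finite presentation over
B', and f : X ⟶ Y, g : Y ⟶ B its base change to B (both squares to iB cartesian, iX ≫ f' = f ≫ iY).
Then f is locally of finite type of relative dimension d, resp. flat, resp. locally quasi-finite,
smooth, unramified, etale, if and only if f' is (etale-local sense; locally quasi-finite and
unramified include locally of finite type). -/
theorem result {S : Scheme.{u}} {X X' Y Y' B B' : AlgSp.Space S} (iX : X ⟶ X') (iY : Y ⟶ Y') (iB : B ⟶ B')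
    (f : X ⟶ Y) (f' : X' ⟶ Y') (g : Y ⟶ B) (g' : Y' ⟶ B')
    (hcX : IsPullback iX.hom (f ≫ g).hom (f' ≫ g').hom iB.hom) (hcY : IsPullback iY.hom g.hom g'.hom iB.hom)
    (w : iX ≫ f' = f ≫ iY)
    (hB : AlgSp.IsThickMor iB.hom)
    (hg' : AlgSp.LocP @LocallyOfFiniteType g'.hom)
    (hflat : AlgSp.LocP @Flat (f' ≫ g').hom) (hfp : AlgSp.LocP @LocallyOfFinitePresentation (f' ≫ g').hom) (d : ℕ) :
    ((AlgSp.LocP @LocallyOfFiniteType f.hom ∧
        ∀ x, AlgSp.HasAtMor (fun _ _ h u => FlatMor.fibreDimAt h u = (d : WithBot ℕ∞)) f.hom x) ↔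
      (AlgSp.LocP @LocallyOfFiniteType f'.hom ∧
        ∀ x', AlgSp.HasAtMor (fun _ _ h u => FlatMor.fibreDimAt h u = (d : WithBot ℕ∞)) f'.hom x')) ∧
    (AlgSp.LocP @Flat f.hom ↔ AlgSp.LocP @Flat f'.hom) ∧
    (AlgSp.LocP (@LocallyQuasiFinite ⊓ @LocallyOfFiniteType) f.hom ↔
      AlgSp.LocP (@LocallyQuasiFinite ⊓ @LocallyOfFiniteType) f'.hom) ∧
    (AlgSp.LocP @Smooth f.hom ↔ AlgSp.LocP @Smooth f'.hom) ∧
    (AlgSp.LocP (@LocallyOfFiniteType ⊓ @FormallyUnramified) f.hom ↔
      AlgSp.LocP (@LocallyOfFiniteType ⊓ @FormallyUnramified) f'.hom) ∧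
    (AlgSp.IsEtaleMor f.hom ↔ AlgSp.IsEtaleMor f'.hom) := by
  obtain ⟨D⟩ := Groth.Agent.Lib.AlgSpThick.Tower.exists_data₀ X'.property Y'.property B'.property hcX hcY (congrArg (fun m => m.hom) w) hB
  have := D.closed
  have := D.surj
  have hwc : D.a' ≫ (f' ≫ g').hom = (yon S).map (D.hf' ≫ D.hg') ≫ D.c' := by
    change D.a' ≫ f'.hom ≫ g'.hom = _
    rw [reassoc_of% D.w', D.w'', Functor.map_comp, Category.assoc]
  have : Flat (D.hf'.left ≫ D.hg'.left) := hflat D.a' D.c' (D.hf' ≫ D.hg') D.ha' D.hc' hwc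
  have : LocallyOfFinitePresentation (D.hf'.left ≫ D.hg'.left) :=
    hfp D.a' D.c' (D.hf' ≫ D.hg') D.ha' D.hc' hwc
  have : LocallyOfFiniteType D.hg'.left := hg' D.b' D.c' D.hg' D.hb' D.hc' D.w''
  have hiY : IsThickMor iY.hom := Groth.Agent.Lib.AlgSpace.repWith_baseChange hcY.flip hB
  have top := Groth.Agent.Lib.AlgSpThick.Tower.isPullback_top hcX hcY (f := f.hom) (f' := f'.hom)
    (congrArg (fun m => m.hom) w)
  have hft' : LocP @LocallyOfFiniteType f'.hom :=
    Groth.Agent.Lib.AlgSpMor.LocP.locP_of_comp Groth.Agent.Lib.SourceDescent.Scheme.locallyOfFiniteType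
      (fun a b h _ => by
        have : LocallyOfFinitePresentation (a ≫ b) := h
        exact locallyOfFiniteType_of_comp a b) X'.property Y'.property B'.property hfp hg'
  have up : ∀ {P : MorphismProperty Scheme.{u}}, Groth.Agent.Lib.SourceDescent.Scheme.EtaleLocalST P →
      P D.hf'.left → LocP P f'.hom := fun hP h =>
    Groth.Agent.Lib.AlgSpMor.LocP.locP_of_chart hP X'.property.diag Y'.property.diag D.ha' D.has' D.hb' D.w' h
  have down : ∀ {P : MorphismProperty Scheme.{u}}, Groth.Agent.Lib.SourceDescent.Scheme.EtaleLocalST P →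
      LocP P f'.hom → LocP P f.hom := fun hP h =>
    Groth.Agent.Lib.AlgSpMor.LocP.locP_of_isPullback hP X'.property Y'.property Y.property top h
  have hft := down Groth.Agent.Lib.SourceDescent.Scheme.locallyOfFiniteType hft'
  have hd := Groth.Agent.Lib.AlgSpThick.Cart.forall_fibreDim_iff X.property X'.property Y.property
    Y'.property top hiY hft hft' (d : WithBot ℕ∞)
  refine ⟨⟨fun h => ⟨hft', hd.1 h.2⟩, fun h => ⟨hft, hd.2 h.2⟩⟩, ⟨fun h => ?_, ?_⟩,
    ⟨Groth.Agent.Lib.AlgSpThick.Cart.locP_lqf top hiY hft', ?_⟩, ⟨fun h => ?_, ?_⟩,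
    ⟨Groth.Agent.Lib.AlgSpThick.Cart.locP_unramified top hiY hft', ?_⟩, ?_⟩
  · exact up Groth.Agent.Lib.SourceDescent.Scheme.flat
      (Groth.Agent.Lib.AlgSpThick.Fibrewise.flat D.sqX D.sqY D.comm (h D.a D.b D.hf D.ha D.hb D.w))
  · exact down Groth.Agent.Lib.SourceDescent.Scheme.flat
  · exact down Groth.Agent.Lib.AlgSpMor.LocP.lqfLft
  · exact up Groth.Agent.Lib.SourceDescent.Scheme.smooth
      (Groth.Agent.Lib.AlgSpThick.Fibrewise.smooth D.sqX D.sqY D.comm (h D.a D.b D.hf D.ha D.hb D.w))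
  · exact down Groth.Agent.Lib.SourceDescent.Scheme.smooth
  · exact down Groth.Agent.Lib.AlgSpMor.LocP.unramified
  · rw [Groth.Agent.Lib.AlgSpFormal.Charts.isEtaleMor_iff_locP X.property Y.property,
      Groth.Agent.Lib.AlgSpFormal.Charts.isEtaleMor_iff_locP X'.property Y'.property]
    exact ⟨fun h => up Groth.Agent.Lib.SourceDescent.Scheme.etale
      (Groth.Agent.Lib.AlgSpThick.Fibrewise.etale D.sqX D.sqY D.comm
        (h D.a D.b D.hf D.ha D.hb D.w)), down Groth.Agent.Lib.SourceDescent.Scheme.etale⟩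

end Groth.Agent.S10599
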