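import Groth.Statements.S10600
import Groth.Agent.Lib.AffThick.DeformProp
import Groth.Agent.Lib.AlgSpThick.Tower
import Groth.Agent.Lib.Flat55.FibreTransfer
import Groth.Agent.S10599
import Groth.Agent.S10611

set_option autoImplicit false
universe u
open CategoryTheory CategoryTheory.Limits AlgebraicGeometry
open AlgSp

namespace Groth.Agent.S10600

theorem isIso_iff
    {S : Scheme.{u}} {X X' Y Y' B B' : AlgSp.Space S} (iX : X ⟶ X') (iY : Y ⟶ Y') (iB : B ⟶ B')
    (f : X ⟶ Y) (f' : X' ⟶ Y') (g : Y ⟶ B) (g' : Y' ⟶ B')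
    (hcX : IsPullback iX.hom (f ≫ g).hom (f' ≫ g').hom iB.hom) (hcY : IsPullback iY.hom g.hom g'.hom iB.hom)
    (w : iX ≫ f' = f ≫ iY)
    (hB : AlgSp.IsThickMor iB.hom)
    (hg' : AlgSp.LocP @LocallyOfFiniteType g'.hom)
    (hflat : AlgSp.LocP @Flat (f' ≫ g').hom) (hfp : AlgSp.LocP @LocallyOfFinitePresentation (f' ≫ g').hom) :
    IsIso f.hom ↔ IsIso f'.hom := by
  have hiY : IsThickMor iY.hom := Groth.Agent.Lib.AlgSpace.repWith_baseChange hcY.flip hB
  have hiX : IsThickMor iX.hom := Groth.Agent.Lib.AlgSpace.repWith_baseChange hcX.flip hB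
  exact Groth.Agent.Lib.AffThick.DeformProp.isIso_iff X'.property Y'.property hiX hiY
    (Groth.Agent.Lib.AlgSpThick.Tower.isPullback_top hcX hcY (congrArg (fun m => m.hom) w))
    (Groth.Agent.S10599.result iX iY iB f f' g g' hcX hcY w hB hg' hflat hfp 0).2.2.2.2.2.1

theorem mono_iff
    {S : Scheme.{u}} {X X' Y Y' B B' : AlgSp.Space S} (iX : X ⟶ X') (iY : Y ⟶ Y') (iB : B ⟶ B')
    (f : X ⟶ Y) (f' : X' ⟶ Y') (g : Y ⟶ B) (g' : Y' ⟶ B')
    (hcX : IsPullback iX.hom (f ≫ g).hom (f' ≫ g').hom iB.hom) (hcY : IsPullback iY.hom g.hom g'.hom iB.hom)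
    (w : iX ≫ f' = f ≫ iY)
    (hB : AlgSp.IsThickMor iB.hom)
    (hg' : AlgSp.LocP @LocallyOfFiniteType g'.hom)
    (hflat : AlgSp.LocP @Flat (f' ≫ g').hom) (hfp : AlgSp.LocP @LocallyOfFinitePresentation (f' ≫ g').hom) :
    Mono f.hom ↔ Mono f'.hom := by
  have top := Groth.Agent.Lib.AlgSpThick.Tower.isPullback_top hcX hcY (f := f.hom) (f' := f'.hom)
    (congrArg (fun m => m.hom) w)
  obtain ⟨k₀, hcX', hk₀⟩ := Groth.Agent.Lib.AffThick.DeformProp.exists_diag_square (g := g.hom) hcX top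
  have hP : IsAlgSpace (pullback f.hom f.hom) :=
    Groth.Agent.Lib.AlgSpace.isAlgSpace_of_isPullback (IsPullback.of_hasPullback f.hom f.hom)
      Y.property.diag X.property X.property
  have hP' : IsAlgSpace (pullback f'.hom f'.hom) :=
    Groth.Agent.Lib.AlgSpace.isAlgSpace_of_isPullback (IsPullback.of_hasPullback f'.hom f'.hom)
      Y'.property.diag X'.property X'.property
  let P : AlgSp.Space S := ⟨_, hP⟩
  let P' : AlgSp.Space S := ⟨_, hP'⟩
  let k : P ⟶ P' := ObjectProperty.homMk k₀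
  let Δ : X ⟶ P := ObjectProperty.homMk (pullback.diagonal f.hom)
  let Δ' : X' ⟶ P' := ObjectProperty.homMk (pullback.diagonal f'.hom)
  let p : P ⟶ X := ObjectProperty.homMk (pullback.fst f.hom f.hom)
  let p' : P' ⟶ X' := ObjectProperty.homMk (pullback.fst f'.hom f'.hom)
  have hΔ : (Δ' ≫ p' ≫ f' ≫ g').hom = (f' ≫ g').hom :=
    pullback.diagonal_fst_assoc f'.hom (f'.hom ≫ g'.hom)
  have hk : IsPullback k.hom (p ≫ f ≫ g).hom (p' ≫ f' ≫ g').hom iB.hom := hcX'
  have wk : iX ≫ Δ' = Δ ≫ k := ObjectProperty.hom_ext _ hk₀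
  have hflat' : LocP @Flat (Δ' ≫ p' ≫ f' ≫ g').hom := by rw [hΔ]; exact hflat
  have hft' : LocP @LocallyOfFiniteType f'.hom :=
    Groth.Agent.Lib.AlgSpMor.LocP.locP_of_comp Groth.Agent.Lib.SourceDescent.Scheme.locallyOfFiniteType
      (fun a b h _ => by
        have : LocallyOfFinitePresentation (a ≫ b) := h
        exact locallyOfFiniteType_of_comp a b) X'.property Y'.property B'.property hfp hg'
  have hgP : LocP @LocallyOfFiniteType (p' ≫ f' ≫ g').hom :=
    Groth.Agent.Lib.AlgSpMor.LocP.locP_comp Groth.Agent.Lib.SourceDescent.Scheme.locallyOfFiniteType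
      hP' X'.property B'.property
      (Groth.Agent.Lib.AlgSpMor.LocP.locP_of_isPullback Groth.Agent.Lib.SourceDescent.Scheme.locallyOfFiniteType
        X'.property Y'.property X'.property (IsPullback.of_hasPullback f'.hom f'.hom).flip hft')
      (fun U V a b h ha hb w => by
        have : LocallyOfFinitePresentation h.left := hfp a b h ha hb w
        infer_instance)
  have hfp' : LocP @LocallyOfFinitePresentation (Δ' ≫ p' ≫ f' ≫ g').hom := by rw [hΔ]; exact hfp
  have hcX' : IsPullback iX.hom (Δ ≫ p ≫ f ≫ g).hom (Δ' ≫ p' ≫ f' ≫ g').hom iB.hom := by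
    rw [hΔ, show (Δ ≫ p ≫ f ≫ g).hom = (f ≫ g).hom from
      pullback.diagonal_fst_assoc f.hom (f.hom ≫ g.hom)]
    exact hcX
  rw [← pullback.isIso_diagonal_iff, ← pullback.isIso_diagonal_iff]
  exact isIso_iff iX k iB Δ Δ' (p ≫ f ≫ g) (p' ≫ f' ≫ g') hcX' hk wk hB hgP hflat' hfp'


/-- Let iB : B ⟶ B' be a thickening of algebraic spaces over S (representable, every base change to a
scheme a surjective closed immersion), f' : X' ⟶ Y' a morphism of algebraic spaces over B' (via g' :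
Y' ⟶ B') with Y' locally of finite type over B' and X' flat and locally of finite presentation over
B', and f : X ⟶ Y, g : Y ⟶ B its base change to B (both squares to iB cartesian, iX ≫ f' = f ≫ iY).
Then f is an isomorphism, resp. an open immersion, resp. a monomorphism, resp. finite locally free,
resp. finite locally free of degree d, if and only if f' is. -/
theorem result {S : Scheme.{u}} {X X' Y Y' B B' : AlgSp.Space S} (iX : X ⟶ X') (iY : Y ⟶ Y') (iB : B ⟶ B')
    (f : X ⟶ Y) (f' : X' ⟶ Y') (g : Y ⟶ B) (g' : Y' ⟶ B')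
    (hcX : IsPullback iX.hom (f ≫ g).hom (f' ≫ g').hom iB.hom) (hcY : IsPullback iY.hom g.hom g'.hom iB.hom)
    (w : iX ≫ f' = f ≫ iY)
    (hB : AlgSp.IsThickMor iB.hom)
    (hg' : AlgSp.LocP @LocallyOfFiniteType g'.hom)
    (hflat : AlgSp.LocP @Flat (f' ≫ g').hom) (hfp : AlgSp.LocP @LocallyOfFinitePresentation (f' ≫ g').hom) :
    (IsIso f.hom ↔ IsIso f'.hom) ∧
    (AlgSp.RepWith @IsOpenImmersion f.hom ↔ AlgSp.RepWith @IsOpenImmersion f'.hom) ∧
    (Mono f.hom ↔ Mono f'.hom) ∧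
    (AlgSp.IsFinLocFreeMor f.hom ↔ AlgSp.IsFinLocFreeMor f'.hom) ∧
    (∀ d : ℕ, AlgSp.IsFinLocFreeOfDegMor d f.hom ↔ AlgSp.IsFinLocFreeOfDegMor d f'.hom) := by
  have hiY : IsThickMor iY.hom := Groth.Agent.Lib.AlgSpace.repWith_baseChange hcY.flip hB
  have hiX : IsThickMor iX.hom := Groth.Agent.Lib.AlgSpace.repWith_baseChange hcX.flip hB
  have top := Groth.Agent.Lib.AlgSpThick.Tower.isPullback_top hcX hcY (f := f.hom) (f' := f'.hom)
    (congrArg (fun m => m.hom) w)
  have hflf : IsFinLocFreeMor f.hom ↔ IsFinLocFreeMor f'.hom := by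
    refine ⟨fun h => ?_, fun h => Groth.Agent.Lib.AlgSpace.repWith_baseChange top h⟩
    rw [Groth.Agent.Lib.AffThick.DeformProp.isFinLocFreeMor_iff_props Y.property] at h
    rw [Groth.Agent.Lib.AffThick.DeformProp.isFinLocFreeMor_iff_props Y'.property]
    have hlfp : LocP @LocallyOfFinitePresentation f.hom → LocP @LocallyOfFinitePresentation f'.hom :=
      fun _ => Groth.Agent.Lib.AlgSpMor.LocP.locP_of_comp
        Groth.Agent.Lib.SourceDescent.Scheme.locallyOfFinitePresentation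
        (fun a b h h' => by
          have : LocallyOfFinitePresentation (a ≫ b) := h
          have : LocallyOfFiniteType b := h'
          exact Groth.Agent.Lib.Flat55.FibreTransfer.locallyOfFinitePresentation a b rfl)
        X'.property Y'.property B'.property hfp hg'
    exact ⟨((Groth.Agent.S10611.result iX iY iB f f' g g' hcX hcY w hB hg' hflat hfp).2).1 h.1,
      (Groth.Agent.S10599.result iX iY iB f f' g g' hcX hcY w hB hg' hflat hfp 0).2.1.1 h.2.1, hlfp h.2.2⟩
  exact ⟨isIso_iff iX iY iB f f' g g' hcX hcY w hB hg' hflat hfp,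
    Groth.Agent.Lib.AffThick.DeformProp.openImmersion_iff X'.property Y'.property hiX hiY top
      (Groth.Agent.S10599.result iX iY iB f f' g g' hcX hcY w hB hg' hflat hfp 0).2.2.2.2.2.1,
    mono_iff iX iY iB f f' g g' hcX hcY w hB hg' hflat hfp, hflf,
    fun d => Groth.Agent.Lib.AffThick.DeformProp.finLocFreeOfDeg_iff hiY top hflf.1 d⟩

end Groth.Agent.S10600
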