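import Groth.Statements.S10601
import Groth.Agent.Lib.AlgSpMor.DiscreteFibres
import Groth.Agent.Lib.AlgSpMor.UnivInj
import Groth.Agent.Lib.AlgSpDecent.DescendMor
import Groth.Agent.Lib.AlgSpDecent.Core
import Groth.Agent.Lib.GenFinite.Regular
import Groth.Agent.H56.SepExt
-- import your own Groth.Agent.* helpers here

set_option autoImplicit false
universe u
open CategoryTheory CategoryTheory.Limits AlgebraicGeometry
open AlgSp

open Groth.Agent.Lib.AlgSpace Groth.Agent.Lib.AlgSpMor
  Groth.Agent.Lib.SourceDescent.Scheme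

set_option linter.style.haveILetI false
attribute [local simp] pullback.lift_fst pullback.lift_snd

namespace Groth.Agent.S10601

variable {S : Scheme.{u}}

/-- A map to a scheme, injective on points, has locally quasi-finite charts. -/
theorem locallyQuasiFinite_chart {P : Sp S} (hP : IsAlgSpace P) {V U : Over S}
    (π : P ⟶ (yon S).obj V) (h : Function.Injective (Points.map π))
    {c : (yon S).obj U ⟶ P} (hc : RepWith @Etale c) (m : U ⟶ V)
    (hm : c ≫ π = (yon S).map m) [LocallyOfFiniteType m.left] : LocallyQuasiFinite m.left := by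
  refine locallyQuasiFinite_iff_isDiscrete_preimage_singleton.2 fun v ↦ ?_
  let ν : Over.mk (V.left.fromSpecResidueField v ≫ V.hom) ⟶ V :=
    Over.homMk (V.left.fromSpecResidueField v) rfl
  haveI : Mono ν.left := inferInstanceAs (Mono (V.left.fromSpecResidueField v))
  haveI : Mono ν := (Over.forget S).mono_of_mono_map (inferInstanceAs (Mono ν.left))
  haveI : Mono ((yon S).map ν) :=
    ⟨fun {W} a b e ↦ Groth.Agent.Lib.AlgSpace.hom_ext fun T t ↦ by
      obtain ⟨a', ha⟩ := (yon S).map_surjective (t ≫ a)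
      obtain ⟨b', hb⟩ := (yon S).map_surjective (t ≫ b)
      rw [← ha, ← hb]
      refine congrArg _ ((cancel_mono ν).1 ((yon S).map_injective ?_))
      rw [Functor.map_comp, Functor.map_comp, ha, hb, Category.assoc, Category.assoc, e]⟩
  obtain ⟨R, r₁, r₂, sqR⟩ := exists_isPullback_yon (IsAlgSpace.yon_obj V).diag ((yon S).map m)
    ((yon S).map ν)
  have sqP := IsPullback.of_hasPullback π ((yon S).map ν)
  have hPν := isAlgSpace_of_isPullback sqP (IsAlgSpace.yon_obj V).diag hP (IsAlgSpace.yon_obj _)
  haveI : Mono (pullback.fst π ((yon S).map ν)) := inferInstance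
  haveI : Subsingleton (Points (pullback π ((yon S).map ν))) := ⟨fun z z' ↦
    injective_map_of_mono (pullback.fst π ((yon S).map ν)) (h (by
      rw [← Points.map_comp, ← Points.map_comp, sqP.w, Points.map_comp, Points.map_comp]
      refine congrArg _ ((Points.schemeEquiv (Over.mk _)).symm.injective ?_)
      exact Subsingleton.elim (α := ↥(Spec (V.left.residueField v))) _ _))⟩
  haveI : DiscreteTopology (Points (pullback π ((yon S).map ν))) :=
    discreteTopology_iff_forall_isOpen.2 fun s ↦ Subsingleton.set_cases isOpen_empty isOpen_univ s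
  let c' : (yon S).obj R ⟶ pullback π ((yon S).map ν) :=
    sqP.lift ((yon S).map r₁ ≫ c) ((yon S).map r₂) (by rw [Category.assoc, hm, sqR.w])
  have sqc : IsPullback ((yon S).map r₁) c' c (pullback.fst π ((yon S).map ν)) :=
    IsPullback.of_bot (h₂₁ := pullback.fst π ((yon S).map ν))
      (by rw [sqP.lift_snd, hm]; exact sqR) (sqP.lift_fst _ _ _).symm sqP
  have sq' := (isPullback_of_yon_map sqR).map (Over.forget S)
  have : LocallyOfFiniteType r₂.left :=
    MorphismProperty.of_isPullback sq' (inferInstanceAs (LocallyOfFiniteType m.left))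
  have : DiscreteTopology R.left :=
    DiscreteFibres.discreteTopology_chart hPν.diag (repWith_baseChange sqc hc)
      (k := V.left.residueField v) r₂.left
  have e : R.left ≅ m.left.fiber v := sq'.isoPullback
  have : DiscreteTopology ↥(m.left.fiber v) :=
    (Scheme.homeoOfIso e).symm.isEmbedding.discreteTopology
  exact ⟨(m.left.fiberHomeo v).symm.isEmbedding.discreteTopology⟩

/-- Two points with values in a finite extension of the residue field of the base, with the same
image in every etale neighbourhood, agree after a field extension. -/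
theorem exists_agree {P : Sp S} {V : Over S} (π : P ⟶ (yon S).obj V)
    (h : ∀ (V' : Over S) (g : V' ⟶ V), Etale g.left →
      Function.Injective (Points.map (pullback.snd π ((yon S).map g))))
    (v : V.left) (L : Type u) [Field L] [Algebra (V.left.residueField v) L]
    [FiniteDimensional (V.left.residueField v) L] (str : Spec (CommRingCat.of L) ⟶ S)
    (lv : Over.mk str ⟶ V)
    (hlv : lv.left = Spec.map (CommRingCat.ofHom (algebraMap (V.left.residueField v) L)) ≫
      V.left.fromSpecResidueField v)
    (p₁ p₂ : (yon S).obj (Over.mk str) ⟶ P) (h₁ : p₁ ≫ π = (yon S).map lv)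
    (h₂ : p₂ ≫ π = (yon S).map lv) :
    ∃ (W : Over S) (i : W ⟶ Over.mk str), Nonempty W.left ∧
      (yon S).map i ≫ p₁ = (yon S).map i ≫ p₂ := by
  let K := V.left.residueField v
  let Ls : IntermediateField K L := separableClosure K L
  obtain ⟨U', g, u', hu', hg, e, he, hcomp⟩ :=
    Groth.Agent.H56.SepExt.exists_etale_nbhd_residueField V.left v Ls
  let V' : Over S := Over.mk (g ≫ V.hom)
  let gO : V' ⟶ V := Over.homMk g rfl
  let q : Spec (CommRingCat.of Ls) ⟶ U' := Spec.map e ≫ U'.fromSpecResidueField u'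
  have hq : Spec.map (CommRingCat.ofHom (algebraMap Ls L)) ≫ q ≫ g = lv.left := by
    have h1 : q ≫ g =
        Spec.map (CommRingCat.ofHom (algebraMap K Ls)) ≫ V.left.fromSpecResidueField v := by
      subst hu'
      rw [← hcomp]
      simp [q, Spec.map_comp]
    rw [h1, hlv, ← Spec.map_comp_assoc, ← CommRingCat.ofHom_comp]
    rfl
  let β : Over.mk str ⟶ V' := Over.homMk (Spec.map (CommRingCat.ofHom (algebraMap Ls L)) ≫ q) (by
    show (Spec.map _ ≫ q) ≫ g ≫ V.hom = str
    rw [Category.assoc, reassoc_of% hq]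
    exact Over.w lv)
  have hβ : β ≫ gO = lv := Over.OverMorphism.ext (by
    show (Spec.map _ ≫ q) ≫ g = _
    rw [Category.assoc]; exact hq)
  have sqP := IsPullback.of_hasPullback π ((yon S).map gO)
  have hw : ∀ p : (yon S).obj (Over.mk str) ⟶ P, p ≫ π = (yon S).map lv →
      p ≫ π = (yon S).map β ≫ (yon S).map gO := fun p hp ↦ by
    rw [hp, ← Functor.map_comp, hβ]
  let t : ↥(Over.mk str).left := IsLocalRing.closedPoint L
  obtain ⟨W, i, j, w, hi, hj, hij⟩ := (ofPt_eq_ofPt_iff (sqP.lift _ _ (hw p₁ h₁))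
    (sqP.lift _ _ (hw p₂ h₂)) t t).1 (h V' gO hg (by
      rw [Points.map_ofPt, Points.map_ofPt, sqP.lift_snd, sqP.lift_snd]))
  have e₁ : (yon S).map i ≫ p₁ = (yon S).map j ≫ p₂ := by
    have := congrArg (· ≫ pullback.fst π ((yon S).map gO)) hij
    simpa [sqP.lift_fst] using this
  have e₂ : i ≫ β = j ≫ β := (yon S).map_injective (by
    have := congrArg (· ≫ pullback.snd π ((yon S).map gO)) hij
    simpa [sqP.lift_snd] using this)
  let W₀ : Over S := Over.mk (W.left.fromSpecResidueField w ≫ W.hom)
  let ι : W₀ ⟶ W := Over.homMk (W.left.fromSpecResidueField w) rfl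
  obtain ⟨a, ha⟩ := Spec.map_surjective (ι ≫ i).left
  obtain ⟨b, hb⟩ := Spec.map_surjective (ι ≫ j).left
  have hij₀ : ι ≫ i = ι ≫ j := by
    refine Over.OverMorphism.ext ?_
    rw [← ha, ← hb]
    refine congrArg Spec.map (CommRingCat.hom_ext ?_)
    refine IsPurelyInseparable.injective_comp_algebraMap Ls L (W.left.residueField w) ?_
    haveI : Mono q := by
      haveI : IsIso e := (ConcreteCategory.isIso_iff_bijective e).2 he
      exact mono_comp _ _
    have h3 : (Spec.map a ≫ Spec.map (CommRingCat.ofHom (algebraMap Ls L))) ≫ q =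
        (Spec.map b ≫ Spec.map (CommRingCat.ofHom (algebraMap Ls L))) ≫ q := by
      rw [ha, hb, Category.assoc, Category.assoc]
      exact congrArg (fun x : W₀ ⟶ V' ↦ x.left) (show (ι ≫ i) ≫ β = (ι ≫ j) ≫ β by
        rw [Category.assoc, Category.assoc, e₂])
    rw [cancel_mono, ← Spec.map_comp, ← Spec.map_comp] at h3
    exact congrArg CommRingCat.Hom.hom (Spec.map_injective h3)
  refine ⟨W₀, ι ≫ i, inferInstanceAs (Nonempty (Spec (W.left.residueField w))), ?_⟩
  conv_rhs => rw [hij₀]
  rw [Functor.map_comp, Functor.map_comp, Category.assoc, Category.assoc, e₁]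

/-- Over a scheme, injectivity after etale base changes gives surjectivity of the diagonal. -/
theorem surjective_diagonal {P : Sp S} (hP : IsAlgSpace P) {V : Over S} (π : P ⟶ (yon S).obj V)
    (hπ : LocP @LocallyOfFiniteType π)
    (h : ∀ (V' : Over S) (g : V' ⟶ V), Etale g.left →
      Function.Injective (Points.map (pullback.snd π ((yon S).map g)))) :
    Function.Surjective (Points.map (pullback.diagonal π)) := by
  have hinj : Function.Injective (Points.map π) := fun x y hxy ↦ by
    have sq := IsPullback.of_hasPullback π ((yon S).map (𝟙 V))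
    obtain ⟨x', hx', hx''⟩ := exists_of_isPullback sq x (Points.map π x)
      (by rw [CategoryTheory.Functor.map_id, Points.map_id])
    obtain ⟨y', hy', hy''⟩ := exists_of_isPullback sq y (Points.map π x)
      (by rw [CategoryTheory.Functor.map_id, Points.map_id, hxy])
    rw [← hx', ← hy', h V (𝟙 V) (inferInstanceAs (Etale (𝟙 V.left))) (hx''.trans hy''.symm)]
  obtain ⟨U, c, hc, hcs⟩ := hP.atlas
  obtain ⟨m, hm⟩ := (yon S).map_surjective (c ≫ π)
  haveI : LocallyOfFiniteType m.left := hπ c ((yon S).map (𝟙 V)) m hc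
    ((AlgSp.repWith_yon_map_iff _ _).2 (inferInstanceAs (Etale (𝟙 V.left))))
    (by rw [CategoryTheory.Functor.map_id, Category.comp_id, hm])
  haveI : LocallyQuasiFinite m.left := locallyQuasiFinite_chart hP π hinj hc m hm.symm
  intro r
  obtain ⟨T, ρ, t, rfl⟩ := exists_ofPt_eq r
  obtain ⟨T₁, s₁, a₁, sq₁⟩ := exists_isPullback_yon hP.diag (ρ ≫ pullback.fst π π) c
  obtain ⟨t₁, ht₁⟩ := (repWith_property hcs sq₁.flip).surj t
  obtain ⟨T₂, s₂, a₂, sq₂⟩ :=
    exists_isPullback_yon hP.diag ((yon S).map s₁ ≫ ρ ≫ pullback.snd π π) c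
  obtain ⟨t₂, ht₂⟩ := (repWith_property hcs sq₂.flip).surj t₁
  have sqU := IsPullback.of_hasPullback m m
  let N : Over S := pullback m m
  let ψ : T₂ ⟶ N := sqU.lift (s₂ ≫ a₁) a₂ ((yon S).map_injective (by
    simp only [Functor.map_comp, hm, Category.assoc]
    rw [← reassoc_of% sq₁.w, ← reassoc_of% sq₂.w, pullback.condition]))
  let δ : (yon S).obj N ⟶ pullback π π :=
    pullback.lift ((yon S).map (pullback.fst m m) ≫ c) ((yon S).map (pullback.snd m m) ≫ c) (by
      rw [Category.assoc, Category.assoc, ← hm, ← Functor.map_comp, ← Functor.map_comp, sqU.w])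
  have hψ : (yon S).map ψ ≫ δ = (yon S).map (s₂ ≫ s₁) ≫ ρ := by
    apply pullback.hom_ext
    · simp only [Category.assoc, δ, pullback.lift_fst]
      rw [← Functor.map_comp_assoc, show ψ ≫ pullback.fst m m = s₂ ≫ a₁ from sqU.lift_fst _ _ _,
        Functor.map_comp_assoc, Functor.map_comp_assoc, sq₁.w]
    · simp only [Category.assoc, δ, pullback.lift_snd]
      rw [← Functor.map_comp_assoc, show ψ ≫ pullback.snd m m = a₂ from sqU.lift_snd _ _ _,
        ← sq₂.w, Functor.map_comp_assoc]
  let w : N.left := ψ.left t₂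
  have hw : Points.ofPt δ w = Points.ofPt ρ t := by
    rw [← ofPt_yon_map_comp, hψ, ofPt_yon_map_comp, Over.comp_left, Scheme.Hom.comp_apply, ht₂, ht₁]
  rw [← hw]
  let k : N ⟶ V := pullback.fst m m ≫ m
  haveI : LocallyOfFiniteType (pullback.fst m m).left :=
    MorphismProperty.of_isPullback (sqU.flip.map (Over.forget S))
      (inferInstanceAs (LocallyOfFiniteType m.left))
  haveI : LocallyQuasiFinite (pullback.fst m m).left :=
    MorphismProperty.of_isPullback (sqU.flip.map (Over.forget S))
      (inferInstanceAs (LocallyQuasiFinite m.left))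
  haveI : LocallyQuasiFinite k.left :=
    inferInstanceAs (LocallyQuasiFinite ((pullback.fst m m).left ≫ m.left))
  haveI : LocallyOfFiniteType k.left :=
    inferInstanceAs (LocallyOfFiniteType ((pullback.fst m m).left ≫ m.left))
  have hfin := Groth.Agent.Lib.GenFinite.Regular.residueFieldMap_finite k.left w (k.left.quasiFiniteAt w)
  letI := (k.left.residueFieldMap w).hom.toAlgebra
  haveI : FiniteDimensional (V.left.residueField (k.left w)) (N.left.residueField w) := hfin
  let ω : Over.mk (N.left.fromSpecResidueField w ≫ N.hom) ⟶ N :=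
    Over.homMk (N.left.fromSpecResidueField w) rfl
  obtain ⟨W, i, ⟨x⟩, hi⟩ := exists_agree π h (k.left w) (N.left.residueField w) _ (ω ≫ k)
    (k.left.SpecMap_residueFieldMap_fromSpecResidueField w).symm
    ((yon S).map (ω ≫ pullback.fst m m) ≫ c) ((yon S).map (ω ≫ pullback.snd m m) ≫ c)
    (by rw [Category.assoc, ← hm, ← Functor.map_comp, Category.assoc])
    (by rw [Category.assoc, ← hm, ← Functor.map_comp, Category.assoc, ← sqU.w])
  refine ⟨Points.ofPt ((yon S).map i ≫ (yon S).map (ω ≫ pullback.fst m m) ≫ c) x, ?_⟩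
  have hx : (i ≫ ω).left x = w := Scheme.fromSpecResidueField_apply w (i.left x)
  rw [Points.map_ofPt]
  refine Eq.trans ?_ ((ofPt_yon_map_comp (i ≫ ω) δ x).trans (congrArg _ hx))
  congr 1
  apply pullback.hom_ext
  · simp [δ]
  · simpa [δ] using hi

/-- Take a morphism f : X ⟶ Y of algebraic spaces over S that is locally of finite type and such that
for every etale morphism V ⟶ Y of algebraic spaces the base change X ×_Y V ⟶ V is injective on
points. Then f is universally injective. -/
theorem result {S : Scheme.{u}} {X Y : AlgSp.Space S} (f : X ⟶ Y)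
    (hft : AlgSp.LocP @LocallyOfFiniteType f.hom)
    (hinj : ∀ (V : AlgSp.Space S) (g : V ⟶ Y), AlgSp.IsEtaleMor g.hom →
      ∀ (P : AlgSp.Sp S) (fst : P ⟶ X.obj) (snd : P ⟶ V.obj), IsPullback fst snd f.hom g.hom →
        Function.Injective (AlgSp.Points.map snd)) :
    AlgSp.IsUnivInjectiveMor f.hom := by
  obtain ⟨V, b, hb, hbs⟩ := Y.property.atlas
  have sqP := IsPullback.of_hasPullback f.hom b
  have hP : IsAlgSpace (pullback f.hom b) :=
    isAlgSpace_of_isPullback sqP Y.property.diag X.property (IsAlgSpace.yon_obj V)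
  have key := surjective_diagonal hP (pullback.snd f.hom b)
    (LocP.locP_of_isPullback locallyOfFiniteType X.property Y.property (IsAlgSpace.yon_obj V) sqP
      hft)
    fun V' g hg ↦ hinj ⟨_, IsAlgSpace.yon_obj V'⟩ (ObjectProperty.homMk ((yon S).map g ≫ b))
      (Groth.Agent.Lib.AlgSpDecent.DescendMor.isEtaleMor_of_repWith
        (repWith_yon_map_comp (P := @Etale) hg hb)) _ _ _
      ((IsPullback.of_hasPullback (pullback.snd f.hom b) ((yon S).map g)).paste_horiz sqP)
  refine UnivInj.isUnivInjectiveMor_of_surjective_diagonal fun r ↦ ?_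
  obtain ⟨T, ρ, t, rfl⟩ := exists_ofPt_eq r
  obtain ⟨T', s, v, sqT⟩ :=
    exists_isPullback_yon Y.property.diag (ρ ≫ pullback.fst f.hom f.hom ≫ f.hom) b
  obtain ⟨t', ht'⟩ := (repWith_property hbs sqT.flip).surj t
  let φ₁ := sqP.lift ((yon S).map s ≫ ρ ≫ pullback.fst f.hom f.hom) ((yon S).map v)
    (by simpa only [Category.assoc] using sqT.w)
  let φ₂ := sqP.lift ((yon S).map s ≫ ρ ≫ pullback.snd f.hom f.hom) ((yon S).map v)
    (by rw [Category.assoc, Category.assoc, ← pullback.condition]; exact sqT.w)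
  let ρ' : (yon S).obj T' ⟶ pullback (pullback.snd f.hom b) (pullback.snd f.hom b) :=
    pullback.lift φ₁ φ₂ (by rw [sqP.lift_snd, sqP.lift_snd])
  obtain ⟨x, hx⟩ := key (Points.ofPt ρ' t')
  refine ⟨Points.map (pullback.fst f.hom b) x, ?_⟩
  rw [← Points.map_comp, (Sep.isPullback_diagonal_map sqP).w, Points.map_comp, hx,
    Points.map_ofPt, ← ht', ← ofPt_yon_map_comp]
  congr 1
  apply pullback.hom_ext
  · simp only [Category.assoc, ρ', pullback.diagonal_fst, pullback.map, pullback.lift_fst, pullback.lift_fst_assoc]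
    exact sqP.lift_fst _ _ _
  · simp only [Category.assoc, ρ', pullback.map, pullback.lift_snd, pullback.lift_snd_assoc]
    exact sqP.lift_fst _ _ _

end Groth.Agent.S10601
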