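import Groth.Statements.S10604
import Groth.Agent.Lib.AlgSpMor.FlatFibres
import Groth.Agent.H47.FibreFlat
import Groth.Agent.H14.Chart.LocQ4
-- import your own Groth.Agent.* helpers here

set_option autoImplicit false
universe u
open CategoryTheory CategoryTheory.Limits AlgebraicGeometry
open AlgSp

open Groth.Agent.Lib.AlgSpace Groth.Agent.Lib.AlgSpMor

namespace Groth.Agent.S10604

/-- Let f : X ⟶ Y and h : Y ⟶ Z be morphisms of algebraic spaces over S with X, Y and Z locally
Noetherian. Assume X is flat over Z and for every field K and every z : Spec K ⟶ Z the base change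
X_z ⟶ Y_z of f is flat (fibres taken as pullback squares of fppf sheaves). Then f is flat; if
moreover f is surjective, then h is flat. -/
theorem result {S : Scheme.{u}} {X Y Z : AlgSp.Space S} (f : X ⟶ Y) (h : Y ⟶ Z)
    (hX : AlgSp.IsLocNoethSp X.obj) (hYn : AlgSp.IsLocNoethSp Y.obj) (hZ : AlgSp.IsLocNoethSp Z.obj)
    (hfl : AlgSp.LocP @Flat (f ≫ h).hom)
    (hfib : ∀ (K : Type u) [Field K] (sK : Spec (CommRingCat.of K) ⟶ S)
      (z : (AlgSp.yon S).obj (Over.mk sK) ⟶ Z.obj) (Xz Yz : AlgSp.Sp S)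
      (pX : Xz ⟶ X.obj) (qX : Xz ⟶ (AlgSp.yon S).obj (Over.mk sK))
      (pY : Yz ⟶ Y.obj) (qY : Yz ⟶ (AlgSp.yon S).obj (Over.mk sK)) (fz : Xz ⟶ Yz),
      IsPullback pX qX (f ≫ h).hom z → IsPullback pY qY h.hom z → fz ≫ pY = pX ≫ f.hom → fz ≫ qY = qX →
      AlgSp.LocP @Flat fz) :
    AlgSp.LocP @Flat f.hom ∧ (AlgSp.IsSurjectiveMor f.hom → AlgSp.LocP @Flat h.hom) := by
  refine FlatFibres.locP_flat X.property Y.property Z.property hfl (fun K _ sK z Xz Yz pX qX pY qY fz => hfib K sK z Xz Yz pX qX pY qY fz) ?_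
  intro U V W a b c k n ha hb hc w₁ w₂ hkn hs
  have key : ∀ {F : AlgSp.Sp S}, AlgSp.IsAlgSpace F → AlgSp.IsLocNoethSp F → ∀ {A : Over S}
      (e : (AlgSp.yon S).obj A ⟶ F), AlgSp.RepWith @Etale e → IsLocallyNoetherian A.left := by
    intro F hF hN A e he
    obtain ⟨U₀, d, hd, hds, hU₀⟩ := hN
    haveI := hU₀
    obtain ⟨R, p, q, sq⟩ := exists_isPullback_yon hF.diag e d
    haveI : Etale p.left := repWith_property hd sq.flip
    haveI : Surjective p.left := repWith_property hds sq.flip
    haveI : Etale q.left := repWith_property he sq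
    haveI : IsLocallyNoetherian R.left := LocallyOfFiniteType.isLocallyNoetherian q.left
    exact Groth.Agent.H14.Chart.LocQ.isLocallyNoetherian_of_smooth_surjective p.left
  haveI := key X.property hX a ha
  haveI := key Y.property hYn b hb
  refine Flat.of_stalkMap k.left fun x => ?_
  haveI := hs ((k.left ≫ n.left) x)
  have h := Groth.Agent.H47.FibreFlat.flat_stalkMap_of_fiber k.left n.left
    ((k.left ≫ n.left).asFiber x) (Flat.stalkMap _ _) (Flat.stalkMap _ _)
  rw [(k.left ≫ n.left).fiberι_asFiber x] at h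
  exact h

end Groth.Agent.S10604
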