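import Groth.Statements.S10605
import Groth.Agent.Lib.AlgSpFpqc.Affine
-- import your own Groth.Agent.* helpers here

set_option autoImplicit false
universe u
open CategoryTheory CategoryTheory.Limits AlgebraicGeometry
open AlgSp

namespace Groth.Agent.S10605

/-- The property of a morphism of algebraic spaces over S of being a thickening (representable, every
base change to a scheme a surjective closed immersion) is local on the base for the fpqc topology.
(The published statement also claims the same for first order thickenings; this row states only the
thickening clause.) -/
theorem result {S : Scheme.{u}} :
    AlgSp.IsLocalOnBase (S := S) AlgSp.IsFpqcCover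
      AlgSp.IsThickMor := by
  exact Groth.Agent.Lib.AlgSpFpqc.Rep.isLocalOnBase_repWith
    ((@IsClosedImmersion ⊓ @Surjective : MorphismProperty Scheme.{u}))
    (fun _ _ g hg => Groth.Agent.Lib.AlgSpFpqc.Classes.sepLqf_closedImmersion g hg.1)

end Groth.Agent.S10605
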