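import Groth.Statements.S10613
import Groth.Agent.Lib.AlgSpMor.MonoLft
-- import your own Groth.Agent.* helpers here

set_option autoImplicit false
universe u
open CategoryTheory CategoryTheory.Limits AlgebraicGeometry
open AlgSp

open Groth.Agent.Lib Groth.Agent.Lib.AlgSpMor

namespace Groth.Agent.S10613

/-- For a morphism f : X ⟶ Y of algebraic spaces over S, these four conditions on f are equivalent: (a)
unramified plus monomorphism; (b) unramified plus universally injective; (c) a monomorphism that is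
locally of finite type; (d) universally injective, locally of finite type and formally unramified
(lifting sense). In that case f is representable by schemes, separated and locally quasi-finite.
(Unramified is the etale-local condition locally of finite type and formally unramified on charts;
monomorphisms are taken in fppf sheaves.) -/
theorem result {S : Scheme.{u}} {X Y : AlgSp.Space S} (f : X ⟶ Y) :
    ((AlgSp.LocP (@LocallyOfFiniteType ⊓ @FormallyUnramified) f.hom ∧ Mono f.hom) ↔
      (AlgSp.LocP (@LocallyOfFiniteType ⊓ @FormallyUnramified) f.hom ∧ AlgSp.IsUnivInjectiveMor f.hom)) ∧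
    ((AlgSp.LocP (@LocallyOfFiniteType ⊓ @FormallyUnramified) f.hom ∧ Mono f.hom) ↔
      (AlgSp.LocP @LocallyOfFiniteType f.hom ∧ Mono f.hom)) ∧
    ((AlgSp.LocP (@LocallyOfFiniteType ⊓ @FormallyUnramified) f.hom ∧ Mono f.hom) ↔
      (AlgSp.IsUnivInjectiveMor f.hom ∧ AlgSp.LocP @LocallyOfFiniteType f.hom ∧ AlgSp.IsFormallyUnramifiedMor f.hom)) ∧
    (AlgSp.LocP @LocallyOfFiniteType f.hom ∧ Mono f.hom →
      AlgSp.Representable f.hom ∧ AlgSp.IsSeparatedMor f.hom ∧
        AlgSp.LocP (@LocallyQuasiFinite ⊓ @LocallyOfFiniteType) f.hom) := by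
  have hX := X.property
  have hY := Y.property
  refine ⟨⟨fun ⟨h, hm⟩ => ⟨h, MonoLft.isUnivInjectiveMor_of_mono⟩,
      fun ⟨h, hi⟩ => ⟨h, MonoLft.mono_of_unramified_univInj hX hY h hi⟩⟩,
    ⟨fun ⟨h, hm⟩ => ⟨((MonoLft.unramified_iff hX hY).1 h).1, hm⟩,
      fun ⟨h, hm⟩ => ⟨MonoLft.unramified_of_mono hX hY h, hm⟩⟩,
    ⟨fun ⟨h, hm⟩ => ⟨MonoLft.isUnivInjectiveMor_of_mono, (MonoLft.unramified_iff hX hY).1 h⟩,
      fun ⟨hi, h⟩ => ⟨(MonoLft.unramified_iff hX hY).2 h,
        MonoLft.mono_of_unramified_univInj hX hY ((MonoLft.unramified_iff hX hY).2 h) hi⟩⟩, ?_⟩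
  rintro ⟨h, hm⟩
  exact ⟨(RepBySp.repWith_sepLqf_of_mono hX hY h).1, Proper.isSeparatedMor_of_mono_repWith _,
    RepBySp.locP_lqf_of_mono hX hY h⟩

end Groth.Agent.S10613
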