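import Groth.Statements.S10614
import Groth.Agent.Lib.AlgSpMor.MonoLft
-- import your own Groth.Agent.* helpers here

set_option autoImplicit false
universe u
open CategoryTheory CategoryTheory.Limits AlgebraicGeometry
open AlgSp

open Groth.Agent.Lib Groth.Agent.Lib.AlgSpMor

namespace Groth.Agent.S10614

/-- For a morphism f : X ⟶ Y of algebraic spaces over S, being a closed immersion (representable by
closed immersions) is equivalent to each of: (a) universally closed plus unramified plus
monomorphism; (b) universally closed plus unramified plus universally injective; (c) a universally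
closed monomorphism that is locally of finite type; (d) universally closed, universally injective,
locally of finite type and formally unramified (lifting sense). (Unramified is the etale-local
condition locally of finite type and formally unramified on charts; monomorphisms are taken in fppf
sheaves.) -/
theorem result {S : Scheme.{u}} {X Y : AlgSp.Space S} (f : X ⟶ Y) :
    (AlgSp.RepWith @IsClosedImmersion f.hom ↔
      (AlgSp.IsUnivClosedMor f.hom ∧ AlgSp.LocP (@LocallyOfFiniteType ⊓ @FormallyUnramified) f.hom ∧ Mono f.hom)) ∧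
    (AlgSp.RepWith @IsClosedImmersion f.hom ↔
      (AlgSp.IsUnivClosedMor f.hom ∧ AlgSp.LocP (@LocallyOfFiniteType ⊓ @FormallyUnramified) f.hom ∧ AlgSp.IsUnivInjectiveMor f.hom)) ∧
    (AlgSp.RepWith @IsClosedImmersion f.hom ↔
      (AlgSp.IsUnivClosedMor f.hom ∧ AlgSp.LocP @LocallyOfFiniteType f.hom ∧ Mono f.hom)) ∧
    (AlgSp.RepWith @IsClosedImmersion f.hom ↔
      (AlgSp.IsUnivClosedMor f.hom ∧ AlgSp.IsUnivInjectiveMor f.hom ∧ AlgSp.LocP @LocallyOfFiniteType f.hom ∧
        AlgSp.IsFormallyUnramifiedMor f.hom)) := by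
  have hX := X.property
  have hY := Y.property
  have key : AlgSp.RepWith @IsClosedImmersion f.hom ↔
      AlgSp.IsUnivClosedMor f.hom ∧ AlgSp.LocP @LocallyOfFiniteType f.hom ∧ Mono f.hom :=
    ⟨MonoLft.props_of_closedImmersion,
      fun ⟨h1, h2, hm⟩ => MonoLft.isClosedImmersion_of_mono hX hY h1 h2⟩
  refine ⟨key.trans ⟨fun ⟨h1, h2, hm⟩ => ⟨h1, MonoLft.unramified_of_mono hX hY h2, hm⟩,
      fun ⟨h1, h2, hm⟩ => ⟨h1, ((MonoLft.unramified_iff hX hY).1 h2).1, hm⟩⟩,
    key.trans ⟨fun ⟨h1, h2, hm⟩ => ⟨h1, MonoLft.unramified_of_mono hX hY h2,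
        MonoLft.isUnivInjectiveMor_of_mono⟩,
      fun ⟨h1, h2, hi⟩ => ⟨h1, ((MonoLft.unramified_iff hX hY).1 h2).1,
        MonoLft.mono_of_unramified_univInj hX hY h2 hi⟩⟩, key,
    key.trans ⟨fun ⟨h1, h2, hm⟩ => ⟨h1, MonoLft.isUnivInjectiveMor_of_mono,
        (MonoLft.unramified_iff hX hY).1 (MonoLft.unramified_of_mono hX hY h2)⟩,
      fun ⟨h1, hi, h2⟩ => ⟨h1, h2.1,
        MonoLft.mono_of_unramified_univInj hX hY ((MonoLft.unramified_iff hX hY).2 h2) hi⟩⟩⟩

end Groth.Agent.S10614
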