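import Groth.Statements.S10615
import Groth.Agent.Lib.SmoothLift.EtaleLocal
import Groth.Agent.Lib.AlgSpMor.LocP

set_option autoImplicit false
universe u
open CategoryTheory CategoryTheory.Limits AlgebraicGeometry
open AlgSp

namespace Groth.Agent.S10615

/-- Take a smooth morphism f : X ⟶ Y of algebraic spaces over S, let i : T ⟶ T' be a thickening of
algebraic spaces (representable, every base change to a scheme a surjective closed immersion) and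
let a : T ⟶ X, b : T' ⟶ Y satisfy a ≫ f = i ≫ b. Then there is an etale covering of T' on whose
members the dotted arrow exists: for every point t' of T' there are a scheme V, a representable
etale e : V ⟶ T' whose image contains t', and ℓ : V ⟶ X with ℓ ≫ f = e ≫ b whose restriction to T
×_{T'} V (any pullback square) is the restriction of a. -/
theorem result {S : Scheme.{u}} {X Y T T' : AlgSp.Space S} (f : X ⟶ Y)
    (hf : AlgSp.LocP @Smooth f.hom) (i : T ⟶ T')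
    (hi : AlgSp.IsThickMor i.hom)
    (a : T ⟶ X) (b : T' ⟶ Y) (w : a ≫ f = i ≫ b) (t' : AlgSp.Points T'.obj) :
    ∃ (V : Over S) (e : (AlgSp.yon S).obj V ⟶ T'.obj) (ℓ : (AlgSp.yon S).obj V ⟶ X.obj),
      AlgSp.RepWith @Etale e ∧ t' ∈ Set.range (AlgSp.Points.ofPt e) ∧ ℓ ≫ f.hom = e ≫ b.hom ∧
      ∀ (P : AlgSp.Sp S) (p₁ : P ⟶ T.obj) (p₂ : P ⟶ (AlgSp.yon S).obj V),
        IsPullback p₁ p₂ i.hom e → p₂ ≫ ℓ = p₁ ≫ a.hom := by
  obtain ⟨U, V₁, aU, bV, h, haU, haUs, hbV, -, wh⟩ :=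
    Groth.Agent.Lib.AlgSpMor.LocP.exists_chart X.property Y.property f.hom
  have hh : Smooth h.left := hf aU bV h haU hbV wh
  -- an affine etale chart of the thickening around the point
  obtain ⟨V₀, p₀, hp₀, hp₀s⟩ := T'.property.atlas
  obtain ⟨v, hv⟩ := Groth.Agent.Lib.AlgSpace.surjective_ofPt hp₀s t'
  obtain ⟨_, ⟨O, hO, rfl⟩, hvO, -⟩ := V₀.left.isBasis_affineOpens.exists_subset_of_mem_open
    (Set.mem_univ v) isOpen_univ
  replace hO : IsAffineOpen O := hO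
  obtain ⟨z, hz⟩ : v ∈ Set.range hO.fromSpec := hO.range_fromSpec.symm ▸ hvO
  have := hO.isOpenImmersion_fromSpec
  let str : Spec Γ(V₀.left, O) ⟶ S := hO.fromSpec ≫ V₀.hom
  let c : (AlgSp.yon S).obj (Over.mk str) ⟶ T'.obj :=
    (AlgSp.yon S).map (Over.homMk hO.fromSpec rfl : Over.mk str ⟶ V₀) ≫ p₀
  have hc : RepWith @Etale c :=
    Groth.Agent.Lib.AlgSpace.repWith_yon_map_comp (inferInstanceAs (Etale hO.fromSpec)) hp₀
  have hsnd : AlgSp.thick (hi.1.snd c).left := hi.2 c _ _ (hi.1.isPullback c)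
  have := hsnd.1
  obtain ⟨I, e₀, he₀⟩ := IsClosedImmersion.Spec_iff.mp hsnd.1
  have hI : ∀ x ∈ I, IsNilpotent x := by
    intro x hx
    rw [← mem_nilradical]
    refine (PrimeSpectrum.zeroLocus_eq_univ_iff (I : Set _)).1 (Set.eq_univ_of_forall fun q => ?_) hx
    obtain ⟨y, hy⟩ := hsnd.2.surj q
    rw [← Ideal.mk_ker (I := I), ← range_comap_of_surjective _ _ Ideal.Quotient.mk_surjective]
    exact ⟨e₀.hom y, by rw [← hy, he₀]; rfl⟩
  let ι₀ : Groth.Agent.Lib.SmoothLift.EtaleLocal.quot I str ≅ hi.1.pullback c :=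
    Over.isoMk e₀.symm (by
      change e₀.inv ≫ _ = Spec.map (CommRingCat.ofHom (Ideal.Quotient.mk I)) ≫ str
      rw [← Over.w (hi.1.snd c), he₀, Category.assoc, Iso.inv_hom_id_assoc]
      rfl)
  let x₀ := (AlgSp.yon S).map ι₀.hom ≫ hi.1.fst c
  have sq₀ : IsPullback x₀ ((AlgSp.yon S).map (Groth.Agent.Lib.SmoothLift.EtaleLocal.quotι I str))
      i.hom c := by
    refine (hi.1.isPullback c).of_iso ((AlgSp.yon S).mapIso ι₀.symm) (Iso.refl _) (Iso.refl _)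
      (Iso.refl _) ?_ ?_ (by simp) (by simp)
    · simp [x₀, ← Functor.map_comp_assoc]
    · rw [Iso.refl_hom, Category.comp_id, Functor.mapIso_hom, ← Functor.map_comp]
      refine congrArg (AlgSp.yon S).map ?_
      ext : 1
      exact he₀
  obtain ⟨z₀, hz₀⟩ := Groth.Agent.Lib.SmoothLift.EtaleLocal.surjective_quotι I hI str z
  -- lift to the chart of the source
  obtain ⟨B, e, he, n, u, hn, hu⟩ := Groth.Agent.Lib.SmoothLift.EtaleLocal.exists_chart_nbhd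
    haU haUs I str (x₀ ≫ a.hom) z₀
  obtain ⟨n, rfl⟩ := (AlgSp.yon S).map_surjective n
  have wab : a.hom ≫ f.hom = i.hom ≫ b.hom := congrArg (fun m => m.hom) w
  let strB := Spec.map e ≫ str
  let g₁ : Over.mk strB ⟶ Over.mk str := Over.homMk (Spec.map e) rfl
  have sq₁ := Groth.Agent.Lib.AlgSpace.isPullback_yon
    (Groth.Agent.Lib.SmoothLift.EtaleLocal.isPullback_quotMap I e str)
  let y := (AlgSp.yon S).map g₁ ≫ c ≫ b.hom
  let J := I.map e.hom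
  have hJ := Groth.Agent.Lib.SmoothLift.EtaleLocal.isNilpotent_of_mem_map e hI
  let jB := Groth.Agent.Lib.SmoothLift.EtaleLocal.quotι J strB
  have hy : (AlgSp.yon S).map (n ≫ h) ≫ bV = (AlgSp.yon S).map jB ≫ y := by
    rw [Functor.map_comp, Category.assoc, ← wh, reassoc_of% hn, wab, reassoc_of% sq₀.w,
      reassoc_of% sq₁.w]
  -- lift to the chart of the target
  have : Etale (hbV.1.snd y).left := hbV.2 _ _ _ (hbV.1.isPullback y)
  obtain ⟨sct, hs₁, hs₂⟩ : ∃ m, (AlgSp.yon S).map m ≫ hbV.1.fst y = (AlgSp.yon S).map (n ≫ h) ∧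
      m ≫ hbV.1.snd y = jB :=
    ⟨hbV.1.lift _ jB hy, hbV.1.lift_fst _ _ _, hbV.1.lift_snd _ _ _⟩
  let zB := jB.left u
  obtain ⟨B₁, φ₁, hφ₁, l₁, hp₁, hl₁, hl₁'⟩ := Groth.Agent.Lib.SmoothLift.NilLift.exists_lift_smooth
    (hbV.1.snd y).left J hJ sct.left (𝟙 _)
    ((Category.comp_id _).trans (congrArg (fun m : _ ⟶ Over.mk strB => m.left) hs₂).symm) zB
  obtain ⟨z₁, hz₁⟩ := hp₁
  obtain ⟨lV₀, hlV₀⟩ := (AlgSp.yon S).map_surjective (hbV.1.fst y)
  let L₁ : Over.mk (Spec.map φ₁ ≫ strB) ⟶ hbV.1.pullback y := Over.homMk l₁ (by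
    rw [← Over.w (hbV.1.snd y), reassoc_of% hl₁]
    simp)
  let lV := L₁ ≫ lV₀
  let g₂ : Over.mk (Spec.map φ₁ ≫ strB) ⟶ Over.mk strB := Over.homMk (Spec.map φ₁) rfl
  have hL₁ : L₁ ≫ hbV.1.snd y = g₂ := by
    ext : 1
    exact hl₁.trans (Category.comp_id _)
  have hlV : (AlgSp.yon S).map lV ≫ bV = (AlgSp.yon S).map g₂ ≫ y := by
    rw [Functor.map_comp, hlV₀, Category.assoc, hbV.1.w, ← Functor.map_comp_assoc, hL₁]
  let J₁ := J.map φ₁.hom
  let q₁ := Groth.Agent.Lib.SmoothLift.EtaleLocal.quotι J₁ (Spec.map φ₁ ≫ strB)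
  let r₁ := Groth.Agent.Lib.SmoothLift.EtaleLocal.quotMap J φ₁ strB
  have hrest : q₁ ≫ lV = r₁ ≫ n ≫ h := by
    apply (AlgSp.yon S).map_injective
    have e₁ : q₁ ≫ L₁ = r₁ ≫ sct := by ext : 1; exact hl₁'
    rw [show q₁ ≫ lV = (r₁ ≫ sct) ≫ lV₀ by rw [← e₁, Category.assoc], Functor.map_comp, hlV₀,
      Functor.map_comp, Category.assoc, hs₁, ← Functor.map_comp]
  -- the lift
  obtain ⟨B₂, φ₂, hφ₂, l₂, hp₂, hl₂, hl₂'⟩ := Groth.Agent.Lib.SmoothLift.NilLift.exists_lift_smooth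
    h.left J₁ (Groth.Agent.Lib.SmoothLift.EtaleLocal.isNilpotent_of_mem_map φ₁ hJ) (r₁ ≫ n).left
    lV.left (congrArg (fun m : _ ⟶ V₁ => m.left) (hrest.trans (Category.assoc _ _ _).symm)) z₁
  obtain ⟨z₂, hz₂⟩ := hp₂
  let g₃ : Over.mk (Spec.map φ₂ ≫ Spec.map φ₁ ≫ strB) ⟶ Over.mk (Spec.map φ₁ ≫ strB) :=
    Over.homMk (Spec.map φ₂) rfl
  let L₂ : Over.mk (Spec.map φ₂ ≫ Spec.map φ₁ ≫ strB) ⟶ U := Over.homMk l₂ (by
    rw [← Over.w h, reassoc_of% hl₂]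
    exact congrArg (Spec.map φ₂ ≫ ·) (Over.w lV))
  have hL₂ : L₂ ≫ h = g₃ ≫ lV := by ext : 1; exact hl₂
  let ge := g₃ ≫ g₂ ≫ g₁
  have hge : Etale ge.left := inferInstanceAs (Etale (Spec.map φ₂ ≫ Spec.map φ₁ ≫ Spec.map e))
  refine ⟨_, (AlgSp.yon S).map ge ≫ c, (AlgSp.yon S).map L₂ ≫ aU,
    Groth.Agent.Lib.AlgSpace.repWith_yon_map_comp hge hc, ⟨z₂, ?_⟩, ?_, ?_⟩
  · rw [Groth.Agent.Lib.AlgSpace.ofPt_yon_map_comp, Groth.Agent.Lib.AlgSpace.ofPt_yon_map_comp,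
      ← hv, ← hz, ← hz₀]
    refine congrArg (fun t => Points.ofPt p₀ (hO.fromSpec t)) ?_
    change Spec.map e (Spec.map φ₁ (Spec.map φ₂ z₂)) = _
    rw [hz₂, hz₁, ← hu, ← Scheme.Hom.comp_apply, ← Scheme.Hom.comp_apply]
    exact congrArg (fun m : _ ⟶ Spec Γ(V₀.left, O) => m u)
      (congrArg (fun m : _ ⟶ Over.mk str => m.left)
        ((Groth.Agent.Lib.SmoothLift.EtaleLocal.isPullback_quotMap I e str).w)).symm
  · rw [Category.assoc, wh, ← Functor.map_comp_assoc, hL₂, Functor.map_comp, Category.assoc, hlV]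
    simp only [ge, y, Functor.map_comp, Category.assoc]
  · intro P p₁ p₂ sqP
    have sq₂ := Groth.Agent.Lib.SmoothLift.EtaleLocal.isPullback_quotMap J φ₁ strB
    have sq₃ := Groth.Agent.Lib.SmoothLift.EtaleLocal.isPullback_quotMap J₁ φ₂ (Spec.map φ₁ ≫ strB)
    have sqT := (((Groth.Agent.Lib.AlgSpace.isPullback_yon sq₃).paste_horiz
      (Groth.Agent.Lib.AlgSpace.isPullback_yon sq₂)).paste_horiz sq₁).paste_horiz sq₀
    have hwP : p₁ ≫ i.hom = p₂ ≫ (((AlgSp.yon S).map g₃ ≫ (AlgSp.yon S).map g₂) ≫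
        (AlgSp.yon S).map g₁) ≫ c := by
      rw [sqP.w]; simp only [ge, Functor.map_comp, Category.assoc]
    obtain ⟨k, rfl, rfl⟩ : ∃ k, k ≫ _ = p₁ ∧ k ≫ _ = p₂ :=
      ⟨sqT.lift p₁ p₂ hwP, sqT.lift_fst _ _ _, sqT.lift_snd _ _ _⟩
    simp only [Category.assoc]
    refine congrArg (k ≫ ·) ?_
    rw [← hn, ← Functor.map_comp_assoc, show Groth.Agent.Lib.SmoothLift.EtaleLocal.quotι _ _ ≫ L₂ =
      Groth.Agent.Lib.SmoothLift.EtaleLocal.quotMap J₁ φ₂ (Spec.map φ₁ ≫ strB) ≫ r₁ ≫ n by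
        ext : 1; exact hl₂']
    simp only [Functor.map_comp, Category.assoc]
    rfl

end Groth.Agent.S10615
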