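import Groth.Statements.S10616
import Groth.Agent.Lib.SmoothLift.Formal

set_option autoImplicit false
universe u
open CategoryTheory CategoryTheory.Limits AlgebraicGeometry
open AlgSp

namespace Groth.Agent.S10616

/-- Let a : F ⟶ G be a morphism of fppf sheaves on (Sch/S). If a is representable and smooth, then a is
formally smooth; if a is representable and etale, then a is formally etale; if a is representable
and unramified, then a is formally unramified (lifting conditions against square-zero thickenings of
affine schemes). (The published statement is for transformations of arbitrary presheaves of sets on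
(Sch/S)_fppf; this row takes fppf sheaves, the case of algebraic spaces.) -/
theorem result {S : Scheme.{u}} {F G : AlgSp.Sp S} (a : F ⟶ G) :
    (AlgSp.RepWith @Smooth a → AlgSp.IsFormallySmoothMor a) ∧
    (AlgSp.RepWith @Etale a → AlgSp.IsFormallyEtaleMor a) ∧
    (AlgSp.RepWith (@LocallyOfFiniteType ⊓ @FormallyUnramified) a → AlgSp.IsFormallyUnramifiedMor a) := by
  refine ⟨Groth.Agent.Lib.SmoothLift.Formal.isFormallySmoothMor_of_smooth,
    Groth.Agent.Lib.AlgSpFormal.Yon.isFormallyEtaleMor_of_etale, fun h => ?_⟩
  exact Groth.Agent.Lib.AlgSpFormal.Yon.isFormallyUnramifiedMor_of_rep h.1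
    fun _ b => (h.2 b _ _ (h.1.isPullback b)).2

end Groth.Agent.S10616
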