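import Groth.Statements.S10619
-- import your own Groth.Agent.* helpers here

set_option autoImplicit false
universe u
open CategoryTheory CategoryTheory.Limits AlgebraicGeometry
open AlgSp

namespace Groth.Agent.S10619

/-- A composition of formally smooth, resp. formally etale, resp. formally unramified morphisms of fppf
sheaves on (Sch/S) is again formally smooth, resp. formally etale, resp. formally unramified. (The
published statement is for transformations of arbitrary presheaves of sets on (Sch/S)_fppf; this row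
takes fppf sheaves, the case of algebraic spaces.) -/
theorem result {S : Scheme.{u}} {F G H : AlgSp.Sp S} (a : F ⟶ G) (b : G ⟶ H) :
    (AlgSp.IsFormallySmoothMor a → AlgSp.IsFormallySmoothMor b → AlgSp.IsFormallySmoothMor (a ≫ b)) ∧
    (AlgSp.IsFormallyEtaleMor a → AlgSp.IsFormallyEtaleMor b → AlgSp.IsFormallyEtaleMor (a ≫ b)) ∧
    (AlgSp.IsFormallyUnramifiedMor a → AlgSp.IsFormallyUnramifiedMor b → AlgSp.IsFormallyUnramifiedMor (a ≫ b)) := by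
  have wit : ∀ sq : InfSq (a ≫ b), (sq.top ≫ a) ≫ b = (yon S).map sq.j ≫ sq.bot := by
    intro sq
    rw [Category.assoc, sq.comm]
  have c₁ : ∀ (sq : InfSq (a ≫ b)) (l : (yon S).obj sq.ptT' ⟶ F),
      (yon S).map sq.j ≫ l = sq.top → (yon S).map sq.j ≫ (l ≫ a) = sq.top ≫ a := by
    intro sq l h
    rw [← Category.assoc, h]
  have c₂ : ∀ (sq : InfSq (a ≫ b)) (l : (yon S).obj sq.ptT' ⟶ F),
      l ≫ (a ≫ b) = sq.bot → (l ≫ a) ≫ b = sq.bot := by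
    intro sq l h
    rw [Category.assoc, h]
  refine ⟨fun ha hb sq => ?_, fun ha hb sq => ?_, fun ha hb sq => ?_⟩
  · obtain ⟨m, hm₁, hm₂⟩ := hb ⟨sq.A, sq.I, sq.sq_zero, sq.str, sq.top ≫ a, sq.bot, wit sq⟩
    obtain ⟨l, hl₁, hl₂⟩ := ha ⟨sq.A, sq.I, sq.sq_zero, sq.str, sq.top, m, hm₁.symm⟩
    exact ⟨l, hl₁, (Category.assoc l a b).symm.trans ((congrArg (· ≫ b) hl₂).trans hm₂)⟩
  · obtain ⟨m, ⟨hm₁, hm₂⟩, hmu⟩ :=
      hb ⟨sq.A, sq.I, sq.sq_zero, sq.str, sq.top ≫ a, sq.bot, wit sq⟩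
    obtain ⟨l, ⟨hl₁, hl₂⟩, hlu⟩ := ha ⟨sq.A, sq.I, sq.sq_zero, sq.str, sq.top, m, hm₁.symm⟩
    refine ⟨l, ⟨hl₁, (Category.assoc l a b).symm.trans ((congrArg (· ≫ b) hl₂).trans hm₂)⟩,
      fun l' hl' => hlu l' ⟨hl'.1, hmu (l' ≫ a) ⟨c₁ sq l' hl'.1, c₂ sq l' hl'.2⟩⟩⟩
  · intro l l' h₁ h₂ h₁' h₂'
    have hw : l ≫ a = l' ≫ a := hb ⟨sq.A, sq.I, sq.sq_zero, sq.str, sq.top ≫ a, sq.bot, wit sq⟩
      (l ≫ a) (l' ≫ a) (c₁ sq l h₁) (c₂ sq l h₂) (c₁ sq l' h₁') (c₂ sq l' h₂')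
    exact ha ⟨sq.A, sq.I, sq.sq_zero, sq.str, sq.top, l ≫ a, (c₁ sq l h₁).symm⟩
      l l' h₁ rfl h₁' hw.symm

end Groth.Agent.S10619
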