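import Groth.Statements.S10620
-- import your own Groth.Agent.* helpers here

set_option autoImplicit false
universe u
open CategoryTheory CategoryTheory.Limits AlgebraicGeometry
open AlgSp

namespace Groth.Agent.S10620

/-- Let a : F ⟶ G and b : H ⟶ G be morphisms of fppf sheaves on (Sch/S) and let a' : P ⟶ H be the base
change of a along b (any pullback square). If a is formally smooth, resp. formally etale, resp.
formally unramified, then so is a'. (The published statement is for transformations of arbitrary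
presheaves of sets on (Sch/S)_fppf; this row takes fppf sheaves, the case of algebraic spaces.) -/
theorem result {S : Scheme.{u}} {F G H P : AlgSp.Sp S} (a : F ⟶ G) (b : H ⟶ G)
    (b' : P ⟶ F) (a' : P ⟶ H) (hP : IsPullback b' a' a b) :
    (AlgSp.IsFormallySmoothMor a → AlgSp.IsFormallySmoothMor a') ∧
    (AlgSp.IsFormallyEtaleMor a → AlgSp.IsFormallyEtaleMor a') ∧
    (AlgSp.IsFormallyUnramifiedMor a → AlgSp.IsFormallyUnramifiedMor a') := by
  have mk : ∀ sq : InfSq a', ∀ l : (yon S).obj sq.ptT' ⟶ P,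
      (yon S).map sq.j ≫ l = sq.top → l ≫ a' = sq.bot →
      (yon S).map sq.j ≫ (l ≫ b') = sq.top ≫ b' ∧ (l ≫ b') ≫ a = sq.bot ≫ b :=
    fun sq l h₁ h₂ => ⟨by rw [← Category.assoc, h₁],
      by rw [Category.assoc, hP.w, ← Category.assoc, h₂]⟩
  have wit : ∀ sq : InfSq a', (sq.top ≫ b') ≫ a = (yon S).map sq.j ≫ sq.bot ≫ b := by
    intro sq
    rw [Category.assoc, hP.w, reassoc_of% sq.comm]
  have up : ∀ sq : InfSq a', ∀ m : (yon S).obj sq.ptT' ⟶ F,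
      (yon S).map sq.j ≫ m = sq.top ≫ b' → m ≫ a = sq.bot ≫ b →
      ∃ l : (yon S).obj sq.ptT' ⟶ P,
        (yon S).map sq.j ≫ l = sq.top ∧ l ≫ a' = sq.bot ∧ l ≫ b' = m := by
    intro sq m h₁ h₂
    refine ⟨hP.lift m sq.bot h₂, hP.hom_ext ?_ ?_, hP.lift_snd _ _ _, hP.lift_fst _ _ _⟩
    · rw [Category.assoc, hP.lift_fst, h₁]
    · rw [Category.assoc, hP.lift_snd]; exact sq.comm.symm
  refine ⟨fun h sq => ?_, fun h sq => ?_, fun h sq => ?_⟩
  · obtain ⟨m, h₁, h₂⟩ := h ⟨sq.A, sq.I, sq.sq_zero, sq.str, sq.top ≫ b', sq.bot ≫ b, wit sq⟩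
    obtain ⟨l, hl₁, hl₂, -⟩ := up sq m h₁ h₂
    exact ⟨l, hl₁, hl₂⟩
  · obtain ⟨m, ⟨h₁, h₂⟩, hu⟩ :=
      h ⟨sq.A, sq.I, sq.sq_zero, sq.str, sq.top ≫ b', sq.bot ≫ b, wit sq⟩
    obtain ⟨l, hl₁, hl₂, hl₃⟩ := up sq m h₁ h₂
    exact ⟨l, ⟨hl₁, hl₂⟩, fun l' hl' => hP.hom_ext
      ((hu _ (mk sq l' hl'.1 hl'.2)).trans hl₃.symm) (hl'.2.trans hl₂.symm)⟩
  · intro l l' h₁ h₂ h₁' h₂'
    exact hP.hom_ext (h ⟨sq.A, sq.I, sq.sq_zero, sq.str, sq.top ≫ b', sq.bot ≫ b, wit sq⟩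
      _ _ (mk sq l h₁ h₂).1 (mk sq l h₁ h₂).2 (mk sq l' h₁' h₂').1 (mk sq l' h₁' h₂').2)
      (h₂.trans h₂'.symm)

end Groth.Agent.S10620
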