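import Groth.Statements.S10628
import Groth.Agent.Lib.AlgSpFormal.Charts

set_option autoImplicit false
universe u
open CategoryTheory CategoryTheory.Limits AlgebraicGeometry
open AlgSp

namespace Groth.Agent.S10628

/-- Take a formally smooth morphism f : X ⟶ Y of algebraic spaces over S, and let p : U ⟶ X and q : V ⟶
Y be etale morphisms of algebraic spaces with ψ : U ⟶ V such that ψ ≫ q = p ≫ f. Then ψ is formally
smooth. -/
theorem result {S : Scheme.{u}} {X Y U V : AlgSp.Space S} (f : X ⟶ Y)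
    (hf : AlgSp.IsFormallySmoothMor f.hom) (p : U ⟶ X) (q : V ⟶ Y) (hp : AlgSp.IsEtaleMor p.hom) (hq : AlgSp.IsEtaleMor q.hom)
    (ψ : U ⟶ V) (w : ψ ≫ q = p ≫ f) : AlgSp.IsFormallySmoothMor ψ.hom := by
  have h' := Groth.Agent.Lib.AlgSpFormal.Descend.formallySmooth_comp
    (Groth.Agent.Lib.AlgSpFormal.Yon.formallySmooth_of_formallyEtale
      (Groth.Agent.Lib.AlgSpFormal.Charts.formallyEtale_of_isEtaleMor U.property X.property hp)) hf
  rw [show p.hom ≫ f.hom = ψ.hom ≫ q.hom from congrArg (fun x : U ⟶ Y => x.hom) w.symm] at h'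
  exact (Groth.Agent.S10618.result _ _
    (Groth.Agent.Lib.AlgSpFormal.Yon.formallyUnramified_of_formallyEtale
      (Groth.Agent.Lib.AlgSpFormal.Charts.formallyEtale_of_isEtaleMor V.property Y.property hq))).2.2 h'

end Groth.Agent.S10628
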