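import Groth.Statements.S10630
import Groth.Agent.Lib.AlgSpFormal.Lift

set_option autoImplicit false
universe u
open CategoryTheory CategoryTheory.Limits AlgebraicGeometry
open AlgSp

namespace Groth.Agent.S10630

/-- (1) ⇔ (3): let h : Z ⟶ X be a morphism of algebraic spaces over S and let i : Z ⟶ Z', h' : Z' ⟶ X be
a first order thickening of Z over X (i ≫ h' = h). Then (i, h') is a universal first order
thickening of Z over X if and only if for every first order thickening j : T ⟶ T' of schemes over S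
with T' affine, every a : T ⟶ Z and b : T' ⟶ X with j ≫ b = a ≫ h, there is exactly one a' : T' ⟶ Z'
with j ≫ a' = a ≫ i and a' ≫ h' = b. -/
theorem result {S : Scheme.{u}} {Z Z' X : AlgSp.Space S} (h : Z ⟶ X) (i : Z ⟶ Z')
    (h' : Z' ⟶ X) (hi : AlgSp.IsFOThickMor i.hom) (w : i ≫ h' = h) :
    AlgSp.IsUnivFOThick h.hom i.hom h'.hom ↔
      ∀ (T T' : Over S) (j : T ⟶ T'), IsAffine T'.left → AlgSp.IsFOThickMor ((AlgSp.yon S).map j) →
        ∀ (a : (AlgSp.yon S).obj T ⟶ Z.obj) (b : (AlgSp.yon S).obj T' ⟶ X.obj),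
          (AlgSp.yon S).map j ≫ b = a ≫ h.hom →
          ∃! a' : (AlgSp.yon S).obj T' ⟶ Z'.obj, (AlgSp.yon S).map j ≫ a' = a ≫ i.hom ∧ a' ≫ h'.hom = b := by
  constructor
  · intro HU T T' j _ hj a b hab
    exact HU.2.2 (IsAlgSpace.yon_obj T) (IsAlgSpace.yon_obj T') _ a b hj hab
  · intro H
    refine ⟨hi, congrArg (fun m : Z ⟶ X => m.hom) w, fun T T' _ hT' j a b hj hjb => ?_⟩
    have hw : i.hom ≫ h'.hom = h.hom := congrArg (fun m : Z ⟶ X => m.hom) w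
    have hex : ∀ (V : Over S) (c : (yon S).obj V ⟶ T'), IsAffine V.left → RepWith @Etale c →
        ∀ (a₀ : (yon S).obj (hj.1.1.pullback c) ⟶ Z.obj) (b₀ : (yon S).obj V ⟶ X.obj),
        (yon S).map (hj.1.1.snd c) ≫ b₀ = a₀ ≫ h.hom →
        ∃! a' : (yon S).obj V ⟶ Z'.obj,
          (yon S).map (hj.1.1.snd c) ≫ a' = a₀ ≫ i.hom ∧ a' ≫ h'.hom = b₀ := by
      intro V c hV hc a₀ b₀ hab
      have hd := Groth.Agent.Lib.AlgSpFormal.Lift.affine_chart_data hj c hV hc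
      have := hd.1
      exact H _ _ _ hV (Groth.Agent.Lib.AlgSpFormal.Yon.isFOThickMor_yon_map _ hd.2) a₀ b₀ hab
    have hone : ∀ (V : Over S) (c : (yon S).obj V ⟶ T'), IsAffine V.left → RepWith @Etale c →
        ∀ l l' : (yon S).obj V ⟶ Z'.obj, ∀ a₀, (yon S).map (hj.1.1.snd c) ≫ l = a₀ ≫ i.hom →
          (yon S).map (hj.1.1.snd c) ≫ l' = a₀ ≫ i.hom → l ≫ h'.hom = l' ≫ h'.hom → l = l' := by
      intro V c hV hc l l' a₀ h₁ h₁' h₂
      exact (hex V c hV hc a₀ (l ≫ h'.hom) (by rw [reassoc_of% h₁, hw])).unique ⟨h₁, rfl⟩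
        ⟨h₁', h₂.symm⟩
    have hlocal : ∀ (V : Over S) (c : (yon S).obj V ⟶ T'), IsAffine V.left → RepWith @Etale c →
        ∃ l : (yon S).obj V ⟶ Z'.obj,
          (yon S).map (hj.1.1.snd c) ≫ l = hj.1.1.fst c ≫ (a ≫ i.hom) ∧ l ≫ h'.hom = c ≫ b := by
      intro V c hV hc
      obtain ⟨a', ha', -⟩ := hex V c hV hc (hj.1.1.fst c ≫ a) (c ≫ b) (by
        rw [Category.assoc, ← hjb, reassoc_of% hj.1.1.w c])
      exact ⟨a', by rw [ha'.1, Category.assoc], ha'.2⟩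
    have hone' : ∀ (V : Over S) (c : (yon S).obj V ⟶ T'), IsAffine V.left → RepWith @Etale c →
        Groth.Agent.Lib.AlgSpFormal.Lift.AtMostOne hj.1.1 h'.hom (a ≫ i.hom) c :=
      fun V c hV hc l l' h₁ h₁' h₂ => hone V c hV hc l l' (hj.1.1.fst c ≫ a)
        (h₁.trans (Category.assoc _ _ _).symm) (h₁'.trans (Category.assoc _ _ _).symm) h₂
    obtain ⟨l, hl₁, hl₂⟩ := Groth.Agent.Lib.AlgSpFormal.Lift.glue_exists_of_affine hj.1.1 h'.hom
      hT' (a ≫ i.hom) b hone' hlocal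
    exact ⟨l, ⟨hl₁, hl₂⟩, fun l' hl' => Groth.Agent.Lib.AlgSpFormal.Lift.glue_unique hj.1.1 h'.hom
      hone' hT' l' l hl'.1 hl₁ (hl'.2.trans hl₂.symm)⟩

end Groth.Agent.S10630
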