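import Groth.Statements.S10631
import Groth.Agent.Lib.AlgSpFormal.Lift

set_option autoImplicit false
universe u
open CategoryTheory CategoryTheory.Limits AlgebraicGeometry
open AlgSp

namespace Groth.Agent.S10631

/-- Consider morphisms Z ⟶ Y ⟶ X of algebraic spaces over S. If (i : Z ⟶ Z', h' : Z' ⟶ Y) is, over Y, a
universal first order thickening of Z and g : Y ⟶ X is formally etale, then (i, h' ≫ g) is, over X,
a universal first order thickening of Z. -/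
theorem result {S : Scheme.{u}} {Z Z' Y X : AlgSp.Space S} (hZ : Z ⟶ Y) (g : Y ⟶ X)
    (i : Z ⟶ Z') (h' : Z' ⟶ Y) (HU : AlgSp.IsUnivFOThick hZ.hom i.hom h'.hom) (hg : AlgSp.IsFormallyEtaleMor g.hom) :
    AlgSp.IsUnivFOThick (hZ ≫ g).hom i.hom (h' ≫ g).hom := by
  obtain ⟨hi, hw, hu⟩ := HU
  refine ⟨hi, ?_, fun T T' hT hT' j a b hj hjb => ?_⟩
  · rw [ObjectProperty.FullSubcategory.comp_hom, ObjectProperty.FullSubcategory.comp_hom, reassoc_of% hw]
  · have hjb' : j ≫ b = (a ≫ hZ.hom) ≫ g.hom := hjb.trans (Category.assoc _ _ _).symm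
    obtain ⟨c, ⟨hc₁, hc₂⟩, hcu⟩ := Groth.Agent.Lib.AlgSpFormal.Lift.existsUnique_of_thick hg hj hT'
      (a ≫ hZ.hom) b hjb'
    obtain ⟨a', ⟨ha₁, ha₂⟩, hau⟩ := hu hT hT' j a c hj hc₁
    refine ⟨a', ⟨ha₁, ?_⟩, fun a'' ha'' => hau a'' ⟨ha''.1, hcu _ ⟨?_, ?_⟩⟩⟩
    · rw [ObjectProperty.FullSubcategory.comp_hom, reassoc_of% ha₂, hc₂]
    · rw [reassoc_of% ha''.1, hw]
    · rw [Category.assoc]; exact ha''.2

end Groth.Agent.S10631
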