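import Groth.Statements.S10635
import Groth.Agent.Lib.AlgSpFormal.InfNbhd
import Groth.Agent.S10630
import Groth.Agent.S10631

set_option autoImplicit false
universe u
open CategoryTheory CategoryTheory.Limits AlgebraicGeometry
open AlgSp

namespace Groth.Agent.S10635

/-- Take an immersion i : Z ⟶ X of algebraic spaces over S, written as a closed immersion c : Z ⟶ U
followed by an open immersion u : U ⟶ X, and let (j : Z ⟶ Z₁, k : Z₁ ⟶ U) be the first order
infinitesimal neighbourhood of Z in U. Then (j, k ≫ u) is a universal first order thickening of Z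
over X. -/
theorem result {S : Scheme.{u}} {Z U X Z₁ : AlgSp.Space S} (c : Z ⟶ U)
    (hc : AlgSp.RepWith @IsClosedImmersion c.hom) (u : U ⟶ X) (hu : AlgSp.RepWith @IsOpenImmersion u.hom)
    (j : Z ⟶ Z₁) (k : Z₁ ⟶ U) (hN : AlgSp.IsInfNbhd 1 c.hom j.hom k.hom) :
    AlgSp.IsUnivFOThick (c ≫ u).hom j.hom (k ≫ u).hom := by
  refine Groth.Agent.S10631.result c u j k ?_
    (Groth.Agent.Lib.AlgSpFormal.Yon.isFormallyEtaleMor_of_etale
      (Groth.Agent.Lib.AlgSpace.repWith_mono hu fun _ _ g (_ : IsOpenImmersion g) =>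
        (inferInstance : Etale g)))
  exact (Groth.Agent.S10630.result c j k
    (Groth.Agent.Lib.AlgSpFormal.InfNbhd.isFOThickMor_of_infNbhd U.property hN)
    (ObjectProperty.hom_ext _ hN.1)).2
    (Groth.Agent.Lib.AlgSpFormal.InfNbhd.univ_of_infNbhd U.property hN)

end Groth.Agent.S10635
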