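import Groth.Statements.S10641
import Groth.Agent.Lib.AlgSpWhere.UnivInj
import Groth.Agent.Lib.AlgSpMor.MonoLft
-- import your own Groth.Agent.* helpers here

set_option autoImplicit false
universe u
open CategoryTheory CategoryTheory.Limits AlgebraicGeometry
open AlgSp

open Groth.Agent.Lib.AlgSpace Groth.Agent.Lib.AlgSpMor Groth.Agent.Lib.AlgSpWhere
  Groth.Agent.Lib.SourceDescent.Scheme

namespace Groth.Agent.S10641

/-- For morphisms f : X ⟶ Y, p : X ⟶ Z and q : Y ⟶ Z of algebraic spaces over S with f ≫ q = p, where p
is universally closed and locally of finite type and q is separated, there is an open subspace W of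
Z with the following property: a morphism of algebraic spaces g : Z' ⟶ Z factors through W exactly
when the base change X' ⟶ Y' of f along g is a closed immersion (representable, and a closed
immersion on every represented pullback). Here the base change of f along g is any f' : X' ⟶ Y'
obtained from pullback squares Y' = Y ×_Z Z' and X' = X ×_Y Y' of algebraic spaces over S, and W ⊂ Z
is given as a representable open immersion w : W ⟶ Z. -/
theorem result {S : Scheme.{u}} {X Y Z : AlgSp.Space S}
    (f : X ⟶ Y) (p : X ⟶ Z) (q : Y ⟶ Z) (hc : f ≫ q = p)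
    (hp1 : AlgSp.LocP @LocallyOfFiniteType p.hom) (hp2 : AlgSp.IsUnivClosedMor p.hom)
    (hq : AlgSp.IsSeparatedMor q.hom) :
    ∃ (W : AlgSp.Space S) (w : W ⟶ Z), AlgSp.RepWith @IsOpenImmersion w.hom ∧
      ∀ (Z' : AlgSp.Space S) (g : Z' ⟶ Z),
        (∃ k : Z' ⟶ W, k ≫ w = g) ↔
          ∀ (Y' : AlgSp.Space S) (gY : Y' ⟶ Y) (q' : Y' ⟶ Z'),
            IsPullback gY.hom q'.hom q.hom g.hom →
            ∀ (X' : AlgSp.Space S) (gX : X' ⟶ X) (f' : X' ⟶ Y'),
              IsPullback gX.hom f'.hom f.hom gY.hom →
                AlgSp.RepWith @IsClosedImmersion f'.hom := by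
  have hc' : f.hom ≫ q.hom = p.hom := by rw [← hc]; rfl
  have hf : AlgSp.IsUnivClosedMor f.hom :=
    Proper.isUnivClosedMor_of_comp X.property Y.property Z.property.diag
      (q := q.hom) (by rw [hc']; exact hp2) hq
  have hflft : AlgSp.LocP @LocallyOfFiniteType f.hom :=
    locP_lft_cancel X.property Y.property Z.property (g := q.hom) (by rw [hc']; exact hp1)
  have h2 : AlgSp.IsClosedMor (pullback.snd f.hom f.hom ≫ p.hom) :=
    Proper.isClosedMap_of_isUnivClosedMor Z.property
      (Proper.isUnivClosedMor_comp X.property Z.property.diag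
        (Proper.univSp_baseChange (IsPullback.of_hasPullback f.hom f.hom) hf) hp2)
  obtain ⟨W, w, hw, hW⟩ := exists_where_unramified_univInjective f p q hc hp1
    (Proper.isClosedMap_of_isUnivClosedMor Z.property hp2) h2
  refine ⟨W, w, hw, fun Z' g => (hW Z' g).trans ?_⟩
  refine forall_congr' fun Y' => forall_congr' fun gY => forall_congr' fun q' =>
    forall_congr' fun sq => forall_congr' fun X' => forall_congr' fun gX => forall_congr' fun f' =>
    forall_congr' fun sq' => ?_
  have hX' := X'.property
  have hY' := Y'.property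
  refine ⟨fun ⟨hu, hi⟩ => ?_, fun h => ?_⟩
  · haveI := MonoLft.mono_of_unramified_univInj hX' hY' hu hi
    exact MonoLft.isClosedImmersion_of_mono hX' hY' (Proper.univSp_baseChange sq' hf)
      ((MonoLft.unramified_iff hX' hY').1 hu).1
  · obtain ⟨-, h2, hm⟩ := MonoLft.props_of_closedImmersion h
    exact ⟨MonoLft.unramified_of_mono hX' hY' h2, MonoLft.isUnivInjectiveMor_of_mono⟩

end Groth.Agent.S10641
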