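import Groth.Statements.S10642
import Groth.Agent.Lib.AlgSpWhere.Basic
import Groth.Agent.Lib.Flat55.FlatLocusBC
-- import your own Groth.Agent.* helpers here

set_option autoImplicit false
universe u
open CategoryTheory CategoryTheory.Limits AlgebraicGeometry
open AlgSp

open Groth.Agent.Lib.AlgSpace Groth.Agent.Lib.AlgSpMor Groth.Agent.Lib.AlgSpWhere Groth.Agent.Lib.SourceDescent.Scheme

namespace Groth.Agent.S10642

/-- For morphisms f : X ⟶ Y, p : X ⟶ Z and q : Y ⟶ Z of algebraic spaces over S with f ≫ q = p, where p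
is flat, closed and locally of finite presentation and q is locally of finite type, there is an open
subspace W of Z with the following property: a morphism of algebraic spaces g : Z' ⟶ Z factors
through W exactly when the base change X' ⟶ Y' of f along g is flat. Here the base change of f along
g is any f' : X' ⟶ Y' obtained from pullback squares Y' = Y ×_Z Z' and X' = X ×_Y Y' of algebraic
spaces over S, and W ⊂ Z is given as a representable open immersion w : W ⟶ Z. -/
theorem result {S : Scheme.{u}} {X Y Z : AlgSp.Space S}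
    (f : X ⟶ Y) (p : X ⟶ Z) (q : Y ⟶ Z) (hc : f ≫ q = p)
    (hp1 : AlgSp.LocP @LocallyOfFinitePresentation p.hom) (hp2 : AlgSp.LocP @Flat p.hom)
    (hp3 : AlgSp.IsClosedMor p.hom) (hq : AlgSp.LocP @LocallyOfFiniteType q.hom) :
    ∃ (W : AlgSp.Space S) (w : W ⟶ Z), AlgSp.RepWith @IsOpenImmersion w.hom ∧
      ∀ (Z' : AlgSp.Space S) (g : Z' ⟶ Z),
        (∃ k : Z' ⟶ W, k ≫ w = g) ↔
          ∀ (Y' : AlgSp.Space S) (gY : Y' ⟶ Y) (q' : Y' ⟶ Z'),
            IsPullback gY.hom q'.hom q.hom g.hom →
            ∀ (X' : AlgSp.Space S) (gX : X' ⟶ X) (f' : X' ⟶ Y'),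
              IsPullback gX.hom f'.hom f.hom gY.hom →
                AlgSp.LocP @Flat f'.hom := by
  have hc' : f.hom ≫ q.hom = p.hom := by rw [← hc]; rfl
  have hfp : AlgSp.LocP @LocallyOfFinitePresentation (f.hom ≫ q.hom) := by rw [hc']; exact hp1
  have hfl : AlgSp.LocP @Flat (f.hom ≫ q.hom) := by rw [hc']; exact hp2
  obtain ⟨hopen, hbc⟩ := Groth.Agent.Lib.Flat55.FlatLocusBC.flatLocus X.property Y.property
    Z.property f.hom q.hom hfp hfl hq
  obtain ⟨W, w, hw, hW⟩ := exists_where p hp3 hopen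
  refine ⟨W, w, hw, fun Z' g => Iff.symm ?_⟩
  refine forall_bc_iff f p q hc g (fun {X' Y'} f' => AlgSp.LocP @Flat f'.hom) _
    fun X' Y' gY q' gX f' sq sq' sqp => ?_
  rw [hW Z' g _ _ _ sqp]
  have hset := hbc X'.property Y'.property Z'.property g.hom f'.hom q'.hom gX.hom gY.hom sq sq'
  constructor
  · rintro hf' _ ⟨x', rfl⟩
    have hx : AlgSp.IsFlatAtMor f'.hom x' := fun U V a b h u ha hb hw' _ => by
      haveI : Flat h.left := hf' a b h ha hb hw'
      exact Flat.stalkMap h.left u
    exact hset.le hx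
  · intro hR U V a b h ha hb hw'
    refine Flat.of_stalkMap h.left fun u => ?_
    exact (hset.ge (hR ⟨_, rfl⟩) : AlgSp.IsFlatAtMor f'.hom (AlgSp.Points.ofPt a u)) a b h u ha hb hw' rfl

end Groth.Agent.S10642
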