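import Groth.Statements.S10643
import Groth.Agent.Lib.AlgSpWhere.Basic
import Groth.Agent.Lib.AlgSpWhere.Open
import Groth.Agent.Lib.Flat55.FlatLocusBC
-- import your own Groth.Agent.* helpers here

set_option autoImplicit false
universe u
open CategoryTheory CategoryTheory.Limits AlgebraicGeometry
open AlgSp

open Groth.Agent.Lib.AlgSpace Groth.Agent.Lib.AlgSpMor Groth.Agent.Lib.AlgSpWhere Groth.Agent.Lib.SourceDescent.Scheme

namespace Groth.Agent.S10643

/-- For morphisms f : X ⟶ Y, p : X ⟶ Z and q : Y ⟶ Z of algebraic spaces over S with f ≫ q = p, where p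
is flat, closed and locally of finite presentation and q is closed and locally of finite type, there
is an open subspace W of Z with the following property: a morphism of algebraic spaces g : Z' ⟶ Z
factors through W exactly when the base change X' ⟶ Y' of f along g is flat and surjective (on
points). Here the base change of f along g is any f' : X' ⟶ Y' obtained from pullback squares Y' = Y
×_Z Z' and X' = X ×_Y Y' of algebraic spaces over S, and W ⊂ Z is given as a representable open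
immersion w : W ⟶ Z. -/
theorem result {S : Scheme.{u}} {X Y Z : AlgSp.Space S}
    (f : X ⟶ Y) (p : X ⟶ Z) (q : Y ⟶ Z) (hc : f ≫ q = p)
    (hp1 : AlgSp.LocP @LocallyOfFinitePresentation p.hom) (hp2 : AlgSp.LocP @Flat p.hom)
    (hp3 : AlgSp.IsClosedMor p.hom) (hq1 : AlgSp.LocP @LocallyOfFiniteType q.hom)
    (hq2 : AlgSp.IsClosedMor q.hom) :
    ∃ (W : AlgSp.Space S) (w : W ⟶ Z), AlgSp.RepWith @IsOpenImmersion w.hom ∧
      ∀ (Z' : AlgSp.Space S) (g : Z' ⟶ Z),
        (∃ k : Z' ⟶ W, k ≫ w = g) ↔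
          ∀ (Y' : AlgSp.Space S) (gY : Y' ⟶ Y) (q' : Y' ⟶ Z'),
            IsPullback gY.hom q'.hom q.hom g.hom →
            ∀ (X' : AlgSp.Space S) (gX : X' ⟶ X) (f' : X' ⟶ Y'),
              IsPullback gX.hom f'.hom f.hom gY.hom →
                (AlgSp.IsSurjectiveMor f'.hom ∧ AlgSp.LocP @Flat f'.hom) := by
  have hc' : f.hom ≫ q.hom = p.hom := by rw [← hc]; rfl
  have hfp : AlgSp.LocP @LocallyOfFinitePresentation (f.hom ≫ q.hom) := by rw [hc']; exact hp1
  have hfl : AlgSp.LocP @Flat (f.hom ≫ q.hom) := by rw [hc']; exact hp2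
  have hflfp : AlgSp.LocP @LocallyOfFinitePresentation f.hom :=
    LocP.locP_of_comp (P := @LocallyOfFinitePresentation) (R := @LocallyOfFiniteType)
      locallyOfFinitePresentation (fun _ _ ↦ Cancel.locallyOfFinitePresentation_of_comp)
      X.property Y.property Z.property hfp hq1
  obtain ⟨hopen, hbc⟩ := Groth.Agent.Lib.Flat55.FlatLocusBC.flatLocus X.property Y.property
    Z.property f.hom q.hom hfp hfl hq1
  let O₁ := (AlgSp.Points.map p.hom '' {x | AlgSp.IsFlatAtMor f.hom x}ᶜ)ᶜ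
  have hO₁ : IsOpen O₁ := (hp3 _ hopen.isClosed_compl).isOpen_compl
  have hXo : IsOpen (AlgSp.Points.map p.hom ⁻¹' O₁) :=
    hO₁.preimage (AlgSp.Points.continuous_map p.hom)
  have hXflat : ∀ x ∈ AlgSp.Points.map p.hom ⁻¹' O₁, AlgSp.IsFlatAtMor f.hom x := fun x hx =>
    by_contra fun hn => hx ⟨x, hn, rfl⟩
  let V := AlgSp.Points.map f.hom '' (AlgSp.Points.map p.hom ⁻¹' O₁)
  have hV : IsOpen V := isOpen_image_of_flatAt X.property Y.property hflfp hXo hXflat
  have hO₂ : IsOpen (O₁ ∩ (AlgSp.Points.map q.hom '' Vᶜ)ᶜ) :=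
    hO₁.inter (hq2 _ hV.isClosed_compl).isOpen_compl
  obtain ⟨W, w, hw, -, hW⟩ := exists_open_factor hO₂
  refine ⟨W, w, hw, fun Z' g => Iff.symm ?_⟩
  refine forall_bc_iff f p q hc g
    (fun {X' Y'} f' => AlgSp.IsSurjectiveMor f'.hom ∧ AlgSp.LocP @Flat f'.hom) _
    fun X' Y' gY q' gX f' sq sq' sqp => ?_
  rw [hW Z' g, Set.subset_inter_iff, range_subset_compl_image_iff sqp, compl_compl]
  have hset := hbc X'.property Y'.property Z'.property g.hom f'.hom q'.hom gX.hom gY.hom sq sq'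
  have hflat : AlgSp.LocP @Flat f'.hom ↔
      Set.range (AlgSp.Points.map gX.hom) ⊆ {x | AlgSp.IsFlatAtMor f.hom x} := by
    constructor
    · rintro hf' _ ⟨x', rfl⟩
      have hx : AlgSp.IsFlatAtMor f'.hom x' := fun U V a b h u ha hb hw' _ => by
        haveI : Flat h.left := hf' a b h ha hb hw'
        exact Flat.stalkMap h.left u
      exact hset.le hx
    · intro hR U V a b h ha hb hw'
      refine Flat.of_stalkMap h.left fun u => ?_
      exact (hset.ge (hR ⟨_, rfl⟩) : AlgSp.IsFlatAtMor f'.hom (AlgSp.Points.ofPt a u)) a b h u ha hb hw' rfl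
  rw [hflat, and_comm]
  refine and_congr_right fun hR => ?_
  have hg : Set.range (AlgSp.Points.map g.hom) ⊆ O₁ := by
    rw [range_subset_compl_image_iff sqp, compl_compl]; exact hR
  constructor
  · rintro hs _ ⟨z', rfl⟩ ⟨y, hy, hyz⟩
    obtain ⟨y', hy₁, hy₂⟩ := exists_of_isPullback sq y z' hyz
    obtain ⟨x', rfl⟩ := hs y'
    refine hy ⟨AlgSp.Points.map gX.hom x', ?_, ?_⟩
    · show AlgSp.Points.map p.hom _ ∈ O₁
      rw [← AlgSp.Points.map_comp, sqp.w, AlgSp.Points.map_comp]
      exact hg ⟨_, rfl⟩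
    · rw [← AlgSp.Points.map_comp, sq'.w, AlgSp.Points.map_comp, hy₁]
  · intro h2 y'
    have hy : AlgSp.Points.map gY.hom y' ∈ V := by
      by_contra hn
      refine h2 ⟨AlgSp.Points.map q'.hom y', rfl⟩ ⟨_, hn, ?_⟩
      rw [← AlgSp.Points.map_comp, sq.w, AlgSp.Points.map_comp]
    obtain ⟨x, -, hx⟩ := hy
    obtain ⟨x', -, hx'⟩ := exists_of_isPullback sq' x y' hx
    exact ⟨x', hx'⟩

end Groth.Agent.S10643
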