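import Groth.Statements.S10644
import Groth.Agent.S10641
import Groth.Agent.S10643
import Groth.Agent.Lib.AlgSpDecent.OpenScheme
import Groth.Agent.Lib.AlgSpMor.LocP
-- import your own Groth.Agent.* helpers here

set_option autoImplicit false
universe u
open CategoryTheory CategoryTheory.Limits AlgebraicGeometry
open AlgSp

open Groth.Agent.Lib.AlgSpace Groth.Agent.Lib.AlgSpMor Groth.Agent.Lib.AlgSpWhere
  Groth.Agent.Lib.SourceDescent.Scheme

namespace Groth.Agent.S10644

theorem repWith_of_isIso {S : Scheme.{u}} (P : MorphismProperty Scheme.{u})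
    [P.IsStableUnderBaseChange] [P.ContainsIdentities] {X Y : Sp S} (f : X ⟶ Y) [IsIso f] :
    RepWith P f :=
  repWith_of_exists fun T ξ ↦ ⟨T, 𝟙 T, ξ ≫ inv f, by
    rw [CategoryTheory.Functor.map_id]; exact IsPullback.of_vert_isIso ⟨by simp⟩,
    P.id_mem T.left⟩

theorem isIso_of_closedImmersion_flat_surjective {S : Scheme.{u}} {X Y : Sp S}
    (hY : IsAlgSpace Y) {f : X ⟶ Y} (h : RepWith @IsClosedImmersion f)
    (hfl : LocP @Flat f) (hlfp : LocP @LocallyOfFinitePresentation f)
    (hs : IsSurjectiveMor f) : IsIso f := by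
  have h' : RepWith @IsOpenImmersion f := repWith_of_exists fun T ξ ↦ by
    obtain ⟨V, v, a, sq, hv⟩ := repWith_exists h ξ
    haveI : IsClosedImmersion v.left := hv
    haveI : Flat v.left := repWith_property (LocP.repWith_of_locP flat hY h.rep hfl) sq
    haveI : LocallyOfFinitePresentation v.left :=
      repWith_property (LocP.repWith_of_locP locallyOfFinitePresentation hY h.rep hlfp) sq
    exact ⟨V, v, a, sq, IsOpenImmersion.of_flat_of_mono v.left⟩
  exact Groth.Agent.Lib.AlgSpDecent.OpenScheme.isIso_of_surjective h' hs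

/-- For morphisms f : X ⟶ Y, p : X ⟶ Z and q : Y ⟶ Z of algebraic spaces over S with f ≫ q = p, where p
is flat, universally closed and locally of finite presentation and q is closed, separated and
locally of finite type, there is an open subspace W of Z with the following property: a morphism of
algebraic spaces g : Z' ⟶ Z factors through W exactly when the base change X' ⟶ Y' of f along g is
an isomorphism. Here the base change of f along g is any f' : X' ⟶ Y' obtained from pullback squares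
Y' = Y ×_Z Z' and X' = X ×_Y Y' of algebraic spaces over S, and W ⊂ Z is given as a representable
open immersion w : W ⟶ Z. -/
theorem result {S : Scheme.{u}} {X Y Z : AlgSp.Space S}
    (f : X ⟶ Y) (p : X ⟶ Z) (q : Y ⟶ Z) (hc : f ≫ q = p)
    (hp1 : AlgSp.LocP @LocallyOfFinitePresentation p.hom) (hp2 : AlgSp.LocP @Flat p.hom)
    (hp3 : AlgSp.IsUnivClosedMor p.hom) (hq1 : AlgSp.LocP @LocallyOfFiniteType q.hom)
    (hq2 : AlgSp.IsClosedMor q.hom) (hq3 : AlgSp.IsSeparatedMor q.hom) :
    ∃ (W : AlgSp.Space S) (w : W ⟶ Z), AlgSp.RepWith @IsOpenImmersion w.hom ∧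
      ∀ (Z' : AlgSp.Space S) (g : Z' ⟶ Z),
        (∃ k : Z' ⟶ W, k ≫ w = g) ↔
          ∀ (Y' : AlgSp.Space S) (gY : Y' ⟶ Y) (q' : Y' ⟶ Z'),
            IsPullback gY.hom q'.hom q.hom g.hom →
            ∀ (X' : AlgSp.Space S) (gX : X' ⟶ X) (f' : X' ⟶ Y'),
              IsPullback gX.hom f'.hom f.hom gY.hom →
                IsIso f'.hom := by
  have hc' : f.hom ≫ q.hom = p.hom := by rw [← hc]; rfl
  have hlft : AlgSp.LocP @LocallyOfFiniteType p.hom := fun U V a b h ha hb hw => by
    haveI : LocallyOfFinitePresentation h.left := hp1 a b h ha hb hw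
    exact (inferInstance : LocallyOfFiniteType h.left)
  have hflfp : AlgSp.LocP @LocallyOfFinitePresentation f.hom :=
    LocP.locP_of_comp (P := @LocallyOfFinitePresentation) (R := @LocallyOfFiniteType)
      locallyOfFinitePresentation (fun _ _ ↦ Cancel.locallyOfFinitePresentation_of_comp)
      X.property Y.property Z.property (by rw [hc']; exact hp1) hq1
  obtain ⟨W₁, w₁, hw₁, h₁⟩ := Groth.Agent.S10641.result f p q hc hlft hp3 hq3
  obtain ⟨W₂, w₂, hw₂, h₂⟩ := Groth.Agent.S10643.result f p q hc hp1 hp2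
    (Proper.isClosedMap_of_isUnivClosedMor Z.property hp3) hq1 hq2
  obtain ⟨W, w, hw, -, hW⟩ := exists_open_factor
    (((isOpenEmbedding_map hw₁).isOpen_range).inter ((isOpenEmbedding_map hw₂).isOpen_range))
  have hlift : ∀ {V Z' : AlgSp.Space S} (v : V ⟶ Z) (hv : AlgSp.RepWith @IsOpenImmersion v.hom)
      (g : Z' ⟶ Z), (∃ k : Z' ⟶ V, k ≫ v = g) ↔
        Set.range (AlgSp.Points.map g.hom) ⊆ Set.range (AlgSp.Points.map v.hom) := by
    intro V Z' v hv g
    rw [← exists_lift_iff_range_subset hv g.hom]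
    exact ⟨fun ⟨k, hk⟩ ↦ ⟨k.hom, by rw [← hk]; rfl⟩,
      fun ⟨k, hk⟩ ↦ ⟨ObjectProperty.homMk k, ObjectProperty.hom_ext _ hk⟩⟩
  refine ⟨W, w, hw, fun Z' g => ?_⟩
  rw [hW Z' g, Set.subset_inter_iff, ← hlift w₁ hw₁ g, ← hlift w₂ hw₂ g, h₁ Z' g, h₂ Z' g]
  refine ⟨fun ⟨hcl, hsf⟩ Y' gY q' sq X' gX f' sq' => ?_, fun h => ⟨?_, ?_⟩⟩
  · obtain ⟨hs, hfl⟩ := hsf Y' gY q' sq X' gX f' sq'
    exact isIso_of_closedImmersion_flat_surjective Y'.property (hcl Y' gY q' sq X' gX f' sq') hfl
      (LocP.locP_of_isPullback locallyOfFinitePresentation X.property Y.property Y'.property sq'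
        hflfp) hs
  · intro Y' gY q' sq X' gX f' sq'
    haveI := h Y' gY q' sq X' gX f' sq'
    exact repWith_of_isIso _ _
  · intro Y' gY q' sq X' gX f' sq'
    haveI := h Y' gY q' sq X' gX f' sq'
    haveI : MorphismProperty.ContainsIdentities (@Flat : MorphismProperty Scheme.{u}) :=
      ⟨fun X ↦ (inferInstance : Flat (𝟙 X))⟩
    refine ⟨fun y ↦ ⟨AlgSp.Points.map (inv f'.hom) y, ?_⟩,
      LocP.locP_of_repWith flat (repWith_of_isIso _ _)⟩
    rw [← AlgSp.Points.map_comp, IsIso.inv_hom_id, AlgSp.Points.map_id]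

end Groth.Agent.S10644
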