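import Groth.Statements.S10645
import Groth.Agent.Lib.AlgSpLci.BaseChange
import Groth.Agent.Lib.AlgSpace.OpenSub

set_option autoImplicit false
universe u
open CategoryTheory CategoryTheory.Limits AlgebraicGeometry
open AlgSp

namespace Groth.Agent.S10645

/-- For morphisms f : X ⟶ Y, p : X ⟶ Z and q : Y ⟶ Z of algebraic spaces over S with f ≫ q = p, where p
is flat, closed and locally of finite presentation and q is flat and also locally of finite
presentation, there is an open subspace W of Z with the following property: a morphism of algebraic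
spaces g : Z' ⟶ Z factors through W exactly when the base change X' ⟶ Y' of f along g is a local
complete intersection (Koszul) morphism, i.e. Koszul at every point etale locally on source and
target. Here the base change of f along g is any f' : X' ⟶ Y' obtained from pullback squares Y' = Y
×_Z Z' and X' = X ×_Y Y' of algebraic spaces over S, and W ⊂ Z is given as a representable open
immersion w : W ⟶ Z. -/
theorem result {S : Scheme.{u}} {X Y Z : AlgSp.Space S}
    (f : X ⟶ Y) (p : X ⟶ Z) (q : Y ⟶ Z) (hc : f ≫ q = p)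
    (hp1 : AlgSp.LocP @Flat p.hom) (hp2 : AlgSp.LocP @LocallyOfFinitePresentation p.hom)
    (hp3 : AlgSp.IsClosedMor p.hom) (hq1 : AlgSp.LocP @Flat q.hom)
    (hq2 : AlgSp.LocP @LocallyOfFinitePresentation q.hom) :
    ∃ (W : AlgSp.Space S) (w : W ⟶ Z), AlgSp.RepWith @IsOpenImmersion w.hom ∧
      ∀ (Z' : AlgSp.Space S) (g : Z' ⟶ Z),
        (∃ k : Z' ⟶ W, k ≫ w = g) ↔
          ∀ (Y' : AlgSp.Space S) (gY : Y' ⟶ Y) (q' : Y' ⟶ Z'),
            IsPullback gY.hom q'.hom q.hom g.hom →
            ∀ (X' : AlgSp.Space S) (gX : X' ⟶ X) (f' : X' ⟶ Y'),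
              IsPullback gX.hom f'.hom f.hom gY.hom →
                AlgSp.IsLCIMor f'.hom := by
  open Groth.Agent.Lib.AlgSpace in
  subst hc
  let L : Set (Points X.obj) := {x | LocPNear lci f.hom x}
  have hL : IsOpen L := isOpen_iff_forall_mem_open.2 fun x hx => by
    obtain ⟨O, j, hj, hxj, hl⟩ := hx
    exact ⟨_, fun y hy => ⟨O, j, hj, hy, hl⟩, (isOpenEmbedding_map hj).isOpen_range, hxj⟩
  have hW : IsOpen (Points.map (f ≫ q).hom '' Lᶜ)ᶜ := (hp3 _ hL.isClosed_compl).isOpen_compl
  obtain ⟨W, w, hWs, hw, hr⟩ := exists_open_subspace Z.property hW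
  refine ⟨⟨W, hWs⟩, ObjectProperty.homMk w, hw, fun Z' g => ?_⟩
  have hfac : (∃ k : Z' ⟶ (⟨W, hWs⟩ : AlgSp.Space S), k ≫ ObjectProperty.homMk w = g) ↔
      Set.range (Points.map g.hom) ⊆ (Points.map (f ≫ q).hom '' Lᶜ)ᶜ := by
    rw [← hr, ← exists_lift_iff_range_subset hw]
    exact ⟨fun ⟨k, hk⟩ => ⟨k.hom, congrArg (·.hom) hk⟩,
      fun ⟨k, hk⟩ => ⟨ObjectProperty.homMk k, ObjectProperty.hom_ext _ hk⟩⟩
  rw [hfac]
  constructor
  · intro hg Y' gY q' hY X' gX f' hX
    intro U V a b h ha hb wc u
    refine (Groth.Agent.Lib.AlgSpLci.locPNear_iff_isKoszulAt X'.property Y'.property ha hb wc u).1 ?_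
    refine (Groth.Agent.Lib.AlgSpLci.locPNear_lci_baseChange X.property Y.property Z.property
      Z'.property Y'.property X'.property hp1 hp2 hq1 hq2 hY hX _).2 ?_
    by_contra hn
    refine hg ⟨Points.map q'.hom (Points.map f'.hom (Points.ofPt a u)), rfl⟩ ⟨_, hn, ?_⟩
    simp only [ObjectProperty.FullSubcategory.comp_hom, Points.map_comp]
    simp only [Points.map_ofPt, Category.assoc]
    rw [reassoc_of% hX.w, hY.w]
  · intro hall
    rintro _ ⟨z', rfl⟩ ⟨x, hx, e⟩
    have hYs := isAlgSpace_of_isPullback (IsPullback.of_hasPullback q.hom g.hom) Z.property.diag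
      Y.property Z'.property
    let Y' : AlgSp.Space S := ⟨_, hYs⟩
    have hXs := isAlgSpace_of_isPullback (IsPullback.of_hasPullback f.hom (pullback.fst q.hom g.hom))
      Y.property.diag X.property hYs
    let X' : AlgSp.Space S := ⟨_, hXs⟩
    let gY : Y' ⟶ Y := ObjectProperty.homMk (pullback.fst q.hom g.hom)
    let q' : Y' ⟶ Z' := ObjectProperty.homMk (pullback.snd q.hom g.hom)
    let gX : X' ⟶ X := ObjectProperty.homMk (pullback.fst f.hom (pullback.fst q.hom g.hom))
    let f' : X' ⟶ Y' := ObjectProperty.homMk (pullback.snd f.hom (pullback.fst q.hom g.hom))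
    have hY : IsPullback gY.hom q'.hom q.hom g.hom := IsPullback.of_hasPullback _ _
    have hX : IsPullback gX.hom f'.hom f.hom gY.hom := IsPullback.of_hasPullback _ _
    have hl : IsLCIMor f'.hom := hall Y' gY q' hY X' gX f' hX
    obtain ⟨x', rfl, -⟩ := exists_of_isPullback (hX.paste_vert hY) x z' e
    refine hx ((Groth.Agent.Lib.AlgSpLci.locPNear_lci_baseChange X.property Y.property Z.property
      Z'.property Y'.property X'.property hp1 hp2 hq1 hq2 hY hX x').1 ?_)
    exact ⟨X'.obj, 𝟙 _, repWith_of_isIso _ _, ⟨x', by simp⟩, by rwa [Category.id_comp]⟩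

end Groth.Agent.S10645
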