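import Groth.Statements.S10647
import Groth.Agent.H8.ZMT.Main

set_option autoImplicit false
set_option backward.isDefEq.respectTransparency false
set_option backward.isDefEq.respectTransparency.types false
universe u
open CategoryTheory CategoryTheory.Limits AlgebraicGeometry
open AlgSp Groth.Agent.Lib.AlgSpMor

namespace Groth.Agent.S10647

/-- (Zariski's Main Theorem for algebraic spaces) a quasi-finite separated morphism f : X ⟶ Y of
algebraic spaces over S whose target Y is quasi-compact and quasi-separated factors as a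
quasi-compact representable open immersion j : X ⟶ T followed by a finite morphism π : T ⟶ Y. (The
published statement asks Y to be quasi-separated in the absolute sense and puts no condition on S;
this row assumes S quasi-separated and Y quasi-separated over S, which together imply it.) -/
theorem result {S : Scheme.{u}} [QuasiSeparatedSpace ↥S] {X Y : AlgSp.Space S} (f : X ⟶ Y)
    (hf1 : AlgSp.LocP (@LocallyQuasiFinite ⊓ @LocallyOfFiniteType) f.hom) (hf2 : AlgSp.IsQuasiCompactMor f.hom)
    (hf3 : AlgSp.IsSeparatedMor f.hom) (hY1 : AlgSp.IsQuasiCompactSp Y.obj) (hY2 : AlgSp.IsQuasiSeparatedSp Y.obj) :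
    ∃ (T : AlgSp.Space S) (j : X ⟶ T) (π : T ⟶ Y), j ≫ π = f ∧
      AlgSp.RepWith @IsOpenImmersion j.hom ∧ AlgSp.IsQuasiCompactMor j.hom ∧ AlgSp.IsFiniteMor π.hom := by
  have hqs : AlgSp.IsQuasiSeparatedMor f.hom := Groth.Agent.Lib.AlgSpace.repWith_mono hf3
    fun _ _ g (_ : IsClosedImmersion g) => (inferInstance : QuasiCompact g)
  obtain ⟨Y', ν, f', hY', hstr⟩ :=
    RelNorm.exists_str (f := f.hom) Y.property X.property hf2 hqs
  have hn := hstr.isRelNormalization Y.property
  obtain ⟨hopen, hqc, -⟩ :=
    RelNorm.openImmersion_of_isRelNormalization X.property Y.property hY' hf1 hf2 hf3 hn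
  have hν : RepWith @IsIntegralHom ν := AffineDescent.isIntegralMor_iff.1 hn.2.1
  obtain ⟨T, j, π, hfac, hj, hjqc, hπ⟩ := Groth.Agent.H8.ZMT.Main.exists_finite_factor X Y hν hopen hqc
    (by rw [hstr.fac]; exact hf2)
    (by
      rw [hstr.fac]
      intro U V a b h ha hb w
      exact (hf1 a b h ha hb w).2)
    hY1 hY2
  exact ⟨T, j, π, ObjectProperty.hom_ext _ (hfac.trans hstr.fac), hj, hjqc, hπ⟩

end Groth.Agent.S10647
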