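import Groth.Statements.S10649
import Groth.Agent.Lib.AlgSpMor.MonoLft
-- import your own Groth.Agent.* helpers here

set_option autoImplicit false
universe u
open CategoryTheory CategoryTheory.Limits AlgebraicGeometry
open AlgSp

open Groth.Agent.Lib Groth.Agent.Lib.AlgSpMor

namespace Groth.Agent.S10649

/-- The following conditions on a morphism f : X ⟶ Y of algebraic spaces over S are equivalent: (1)
finiteness of f; (2) f is locally quasi-finite as well as proper (locally quasi-finite and locally
of finite type etale locally); (3) f is proper and for every field k and every k-point Spec k ⟶ Y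
the fibre X_k (any pullback of f along it in fppf sheaves) has discrete space of points; (4) f is
universally closed, separated and locally of finite type, and every such fibre X_k has discrete
space of points. -/
theorem result {S : Scheme.{u}} {X Y : AlgSp.Space S} (f : X ⟶ Y) :
    [AlgSp.IsFiniteMor f.hom,
      AlgSp.IsProperMor f.hom ∧ AlgSp.LocP (@LocallyQuasiFinite ⊓ @LocallyOfFiniteType) f.hom,
      AlgSp.IsProperMor f.hom ∧
        ∀ (k : AlgSp.FieldPt Y.obj) (Xk : AlgSp.Sp S) (fst : Xk ⟶ X.obj) (snd : Xk ⟶ (AlgSp.yon S).obj k.pt),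
          IsPullback fst snd f.hom k.toHom → DiscreteTopology (AlgSp.Points Xk),
      AlgSp.IsUnivClosedMor f.hom ∧ AlgSp.IsSeparatedMor f.hom ∧ AlgSp.LocP @LocallyOfFiniteType f.hom ∧
        ∀ (k : AlgSp.FieldPt Y.obj) (Xk : AlgSp.Sp S) (fst : Xk ⟶ X.obj) (snd : Xk ⟶ (AlgSp.yon S).obj k.pt),
          IsPullback fst snd f.hom k.toHom → DiscreteTopology (AlgSp.Points Xk)].TFAE := by
  have hX := X.property
  have hY := Y.property
  tfae_have 1 → 2 := MonoLft.props_of_finite hY
  tfae_have 2 → 3 := fun h => ⟨h.1, fun k Xk fst snd sq =>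
    DiscreteFibres.discreteTopology_fibre_of_lqf hX hY h.2 sq⟩
  tfae_have 3 → 4 := fun h => ⟨h.1.2.2, h.1.1, h.1.2.1.1, h.2⟩
  tfae_have 4 → 1 := fun ⟨huc, hsep, hlft, hd⟩ =>
    MonoLft.finite_of_univClosed_lqf hX hY huc hsep
      (DiscreteFibres.lqf_of_discreteTopology_fibres hX hY hlft fun k _ str y P fst snd sq =>
        hd ⟨k, str, (AlgSp.J S).uliftYonedaEquiv y⟩ P fst snd (by
          have e : AlgSp.FieldPt.toHom (⟨k, str, (AlgSp.J S).uliftYonedaEquiv y⟩ : AlgSp.FieldPt Y.obj) = y :=
            Equiv.symm_apply_apply _ y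
          rw [e]
          exact sq))
  tfae_finish

end Groth.Agent.S10649
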