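import Groth.Statements.S10651
import Groth.Agent.S9964
import Groth.Agent.S9965
import Groth.Agent.Lib.AlgSpMor.ProperImage
import Groth.Agent.Lib.AlgSpMor.Perm
import Groth.Agent.Lib.AlgSpDecent.FibreQf
import Groth.Agent.Lib.AlgSpDecent.FiniteNhd
import Groth.Agent.Lib.AlgSpDecent.QS

set_option autoImplicit false
universe u
open CategoryTheory CategoryTheory.Limits AlgebraicGeometry
open AlgSp

namespace Groth.Agent.S10651

/-- Consider morphisms h : X ⟶ Y, f : X ⟶ B, g : Y ⟶ B of algebraic spaces over S with h ≫ g = f, a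
point b of |B| and a field point k of B in the class of b. Assume f is proper, g is separated and
locally of finite type, and either (a) for the fibres X_k ⟶ Y_k of h over k (pullbacks in fppf
sheaves) the image of |X_k| in |Y_k| is finite, or (b) the image in |Y| of the fibre of |X| ⟶ |B|
over b is finite and B is decent. Then over some open subspace B' of B containing b the base change
X_{B'} ⟶ Y_{B'} of h lands in a closed subspace Z of Y_{B'} that is finite over B' (it factors
through Z). -/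
theorem result {S : Scheme.{u}} {X Y B : AlgSp.Space S} (h : X ⟶ Y) (f : X ⟶ B) (g : Y ⟶ B) (hc : h ≫ g = f)
    (b : AlgSp.Points B.obj) (k : AlgSp.FieldPt B.obj) (hk : AlgSp.Points.mk k = b)
    (hf : AlgSp.IsProperMor f.hom) (hg1 : AlgSp.IsSeparatedMor g.hom) (hg2 : AlgSp.LocP @LocallyOfFiniteType g.hom)
    (h3 : (∀ (Yk : AlgSp.Sp S) (gY : Yk ⟶ Y.obj) (sY : Yk ⟶ (AlgSp.yon S).obj k.pt),
            IsPullback gY sY g.hom k.toHom →
            ∀ (Xk : AlgSp.Sp S) (gX : Xk ⟶ X.obj) (hk' : Xk ⟶ Yk), IsPullback gX hk' h.hom gY →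
              (Set.range (AlgSp.Points.map hk')).Finite) ∨
          ((AlgSp.Points.map h.hom '' (AlgSp.Points.map f.hom ⁻¹' {b})).Finite ∧ AlgSp.IsDecent B.obj)) :
    ∃ (B' : AlgSp.Space S) (j : B' ⟶ B), AlgSp.RepWith @IsOpenImmersion j.hom ∧
      b ∈ Set.range (AlgSp.Points.map j.hom) ∧
        ∀ (YB : AlgSp.Space S) (gY : YB ⟶ Y) (sY : YB ⟶ B'), IsPullback gY.hom sY.hom g.hom j.hom →
          ∀ (XB : AlgSp.Space S) (gX : XB ⟶ X) (hB : XB ⟶ YB), IsPullback gX.hom hB.hom h.hom gY.hom →
            ∃ (Z : AlgSp.Space S) (i : Z ⟶ YB) (e : XB ⟶ Z), AlgSp.RepWith @IsClosedImmersion i.hom ∧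
              AlgSp.IsFiniteMor (i ≫ sY).hom ∧ e ≫ i = hB := by
  have hfg : f.hom = h.hom ≫ g.hom := congrArg (fun φ : X ⟶ B => φ.hom) hc.symm
  -- `h` is quasi-compact and universally closed
  have hgqs : AlgSp.IsQuasiSeparatedMor g.hom :=
    Groth.Agent.Lib.AlgSpace.repWith_mono hg1
      fun _ _ q (_ : IsClosedImmersion q) => (inferInstance : QuasiCompact q)
  have hqc : AlgSp.IsQuasiCompactMor h.hom :=
    Groth.Agent.Lib.AlgSpMor.Perm.isQuasiCompactMor_of_comp X.property Y.property B.property.diag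
      (g := g.hom) (hfg ▸ hf.2.1.2) hgqs
  have huc : AlgSp.IsUnivClosedMor h.hom :=
    Groth.Agent.Lib.AlgSpMor.Proper.isUnivClosedMor_of_comp X.property Y.property B.property.diag
      (q := g.hom) (hfg ▸ hf.2.2) hg1
  -- the image
  obtain ⟨Z, i, hi⟩ := Groth.Agent.S9964.result h
  obtain ⟨e, he⟩ := hi.2.1
  have hcl : IsClosed (Set.range (AlgSp.Points.map h.hom)) :=
    (Groth.Agent.Lib.AlgSpMor.Proper.isClosedMap_of_isUnivClosedMor Y.property huc).isClosed_range
  have hrange : Set.range (AlgSp.Points.map i.hom) ⊆ Set.range (AlgSp.Points.map h.hom) :=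
    ((Groth.Agent.S9965.result h i hqc hi).2).trans hcl.closure_eq.subset
  have hp : AlgSp.IsProperMor (i ≫ g).hom :=
    Groth.Agent.Lib.AlgSpMor.ProperImage.isProperMor_closed (ι := PUnit.{u + 1})
      (Z := fun _ => X.obj) (fun _ => X.property) Z.property Y.property B.property
      (fun _ => h.hom) (fun _ => huc) hi.1 hg2 (fun _ => hfg ▸ hf)
      (hrange.trans fun y hy => Set.mem_iUnion.2 ⟨PUnit.unit, hy⟩)
  -- a field point in the class of `b` over which the image has finitely many points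
  have hfin : ∃ k' : AlgSp.FieldPt B.obj, AlgSp.Points.mk k' = b ∧
      Finite (AlgSp.Points (pullback (i ≫ g).hom k'.toHom)) := by
    have key : ∀ k' : AlgSp.FieldPt B.obj,
        Set.Finite (AlgSp.Points.map (pullback.fst g.hom k'.toHom) ⁻¹'
          Set.range (AlgSp.Points.map h.hom)) →
        Finite (AlgSp.Points (pullback (i ≫ g).hom k'.toHom)) := by
      intro k' hY
      haveI : Mono i.hom := Groth.Agent.Lib.AlgSpace.mono_of_repWith (P := @IsClosedImmersion)
        (fun _ _ q (_ : IsClosedImmersion q) => (inferInstance : Mono q)) hi.1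
      let m : pullback (i ≫ g).hom k'.toHom ⟶ pullback g.hom k'.toHom :=
        pullback.lift (pullback.fst _ _ ≫ i.hom) (pullback.snd _ _)
          (by rw [Category.assoc]; exact pullback.condition)
      have hm₁ : m ≫ pullback.fst g.hom k'.toHom =
          pullback.fst (i ≫ g).hom k'.toHom ≫ i.hom := pullback.lift_fst _ _ _
      have hm₂ : m ≫ pullback.snd g.hom k'.toHom = pullback.snd (i ≫ g).hom k'.toHom :=
        pullback.lift_snd _ _ _
      haveI : Mono m := ⟨fun a a' h' => pullback.hom_ext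
        (by rw [← cancel_mono i.hom, Category.assoc, Category.assoc, ← hm₁, reassoc_of% h'])
        (by rw [← hm₂, reassoc_of% h'])⟩
      refine Set.finite_univ_iff.1 (Set.Finite.of_finite_image (f := AlgSp.Points.map m)
        (hY.subset ?_) (Groth.Agent.Lib.AlgSpace.injective_map_of_mono m).injOn)
      rintro _ ⟨z, -, rfl⟩
      refine hrange ⟨AlgSp.Points.map (pullback.fst _ _) z, ?_⟩
      rw [← AlgSp.Points.map_comp, ← AlgSp.Points.map_comp, pullback.lift_fst]
    rcases h3 with h3 | ⟨h3, hdec⟩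
    · refine ⟨k, hk, key k ?_⟩
      have sqY := IsPullback.of_hasPullback g.hom k.toHom
      have sqX := IsPullback.of_hasPullback h.hom (pullback.fst g.hom k.toHom)
      refine (h3 _ _ _ sqY _ _ _ sqX).subset ?_
      rintro y ⟨x, hx⟩
      obtain ⟨w, -, hw⟩ := Groth.Agent.Lib.AlgSpace.exists_of_isPullback sqX x y hx
      exact ⟨w, hw⟩
    · obtain ⟨p, hpb, hpm, -⟩ := hdec b
      refine ⟨p, hpb, key p ?_⟩
      haveI := hpm
      have sqY := IsPullback.of_hasPullback g.hom p.toHom
      haveI : Mono (pullback.fst g.hom p.toHom) := sqY.mono_fst_of_mono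
      refine Set.Finite.of_finite_image (f := AlgSp.Points.map (pullback.fst g.hom p.toHom))
        (h3.subset ?_) (Groth.Agent.Lib.AlgSpace.injective_map_of_mono _).injOn
      rintro _ ⟨y, ⟨x, hx⟩, rfl⟩
      refine ⟨x, ?_, hx⟩
      show AlgSp.Points.map f.hom x = b
      rw [hfg, AlgSp.Points.map_comp, hx, ← hpb]
      exact Groth.Agent.Lib.AlgSpDecent.FibreQf.map_fst_mem sqY y
  obtain ⟨k', hk', hfin⟩ := hfin
  have sqZ := IsPullback.of_hasPullback (i ≫ g).hom k'.toHom
  have hdec : AlgSp.IsDecent (pullback (i ≫ g).hom k'.toHom) :=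
    Groth.Agent.Lib.AlgSpDecent.QS.isDecentMor_of_isQuasiSeparatedMor Z.property B.property
      (Groth.Agent.Lib.AlgSpace.repWith_mono hp.1
        fun _ _ q (_ : IsClosedImmersion q) => (inferInstance : QuasiCompact q))
      k'.toHom _ _ sqZ
  haveI := hfin
  have hqf := (Groth.Agent.Lib.AlgSpDecent.FibreQf.discrete_iff_qf Z.property B.property hp.2.1.1
    sqZ).1 (Groth.Agent.Lib.AlgSpDecent.FibreQf.discrete_of_finite Z.property B.property hp.2.1.1
    sqZ hdec)
  obtain ⟨B', j, hj, hbj, hfinite⟩ := Groth.Agent.Lib.AlgSpDecent.FiniteNhd.exists_open_finite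
    (i ≫ g) hp b (hk' ▸ hqf)
  refine ⟨B', j, hj, hbj, fun YB gY sY sq XB gX hB sq' => ?_⟩
  let Z' : AlgSp.Space S := ⟨pullback i.hom gY.hom,
    Groth.Agent.Lib.AlgSpace.isAlgSpace_of_isPullback (IsPullback.of_hasPullback i.hom gY.hom)
      Y.property.diag Z.property YB.property⟩
  let i' : Z' ⟶ YB := ObjectProperty.homMk (pullback.snd i.hom gY.hom)
  have sqi : IsPullback (pullback.fst i.hom gY.hom) i'.hom i.hom gY.hom :=
    IsPullback.of_hasPullback i.hom gY.hom
  refine ⟨Z', i', ObjectProperty.homMk (pullback.lift (gX.hom ≫ e) hB.hom ?_),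
    Groth.Agent.Lib.AlgSpace.repWith_baseChange sqi hi.1, ?_, ?_⟩
  · rw [Category.assoc, he]; exact sq'.w
  · exact hfinite Z' (i' ≫ sY) (ObjectProperty.homMk (pullback.fst i.hom gY.hom))
      ((sqi.paste_vert sq).flip)
  · exact ObjectProperty.hom_ext _ (pullback.lift_snd _ _ _)

end Groth.Agent.S10651
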