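import Groth.Statements.S10652
import Groth.Agent.S0451
import Groth.Agent.Lib.AlgSpMor.SchImage.DenseSpace
import Groth.Agent.Lib.AlgSpMor.QC


set_option autoImplicit false
set_option maxHeartbeats 1000000
set_option linter.all false
universe u
open CategoryTheory CategoryTheory.Limits AlgebraicGeometry
open AlgSp
open Groth.Agent.Lib.AlgSpace Groth.Agent.Lib.AlgSpMor Groth.Agent.Lib.AlgSpMor.SchImage

namespace Groth.Agent.S10652

/-- For a flat morphism f : X ⟶ Y of algebraic spaces over S which is locally of finite type, and an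
open subspace j : V ⟶ Y which is quasi-compact (as a morphism) and scheme theoretically dense (on
some etale surjective scheme chart its inverse image is a schematically dense open): if the base
change X ×_Y V ⟶ V is locally of finite presentation then so is f. -/
theorem result {S : Scheme.{u}} {X Y V : AlgSp.Space S} (f : X ⟶ Y) (j : V ⟶ Y)
    (hf1 : AlgSp.LocP @LocallyOfFiniteType f.hom) (hf2 : AlgSp.LocP @Flat f.hom)
    (hj1 : AlgSp.IsQuasiCompactMor j.hom) (hj2 : AlgSp.IsSchDense j.hom)
    (P : AlgSp.Space S) (fst : P ⟶ X) (snd : P ⟶ V) (hP : IsPullback fst.hom snd.hom f.hom j.hom)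
    (hV : AlgSp.LocP @LocallyOfFinitePresentation snd.hom) :
    AlgSp.LocP @LocallyOfFinitePresentation f.hom := by
  intro U V a b h ha hb w
  obtain ⟨Q, l, q, sq, hlo⟩ := repWith_exists hj2.1 b
  haveI : IsOpenImmersion l.left := hlo
  haveI : QuasiCompact l.left :=
    repWith_property ((QC.repWith_quasiCompact_iff hj2.1.rep).2 hj1) sq
  have hdense := isSchematicallyDense_chart hj2 hb sq
  set W := l.left.opensRange with hW
  let e := l.left.isoOpensRange
  haveI : QuasiCompact W.ι := by
    rw [show W.ι = e.inv ≫ l.left from (l.left.isoOpensRange_inv_comp).symm]; infer_instance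
  haveI : IsSchemeTheoreticallyDominant W.ι := ⟨ker_ι_eq_bot hdense⟩
  haveI : Flat h.left := hf2 a b h ha hb w
  haveI : LocallyOfFiniteType h.left := hf1 a b h ha hb w
  have sqT := IsPullback.of_hasPullback h l
  let t₁ := pullback.fst h l
  let t₂ := pullback.snd h l
  have hw : ((yon S).map t₁ ≫ a) ≫ f.hom = ((yon S).map t₂ ≫ q) ≫ j.hom := by
    rw [Category.assoc, w, Category.assoc, sq.w, ← Functor.map_comp_assoc, sqT.w,
      Functor.map_comp_assoc]
  let a' := hP.lift ((yon S).map t₁ ≫ a) ((yon S).map t₂ ≫ q) hw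
  have key : IsPullback ((yon S).map t₁) a' a fst.hom := by
    have hs := (isPullback_yon sqT).paste_vert sq.flip
    rw [← w, show (yon S).map t₂ ≫ q = a' ≫ snd.hom from (hP.lift_snd _ _ hw).symm] at hs
    exact IsPullback.of_bot hs (hP.lift_fst _ _ hw).symm hP
  haveI h2 : LocallyOfFinitePresentation t₂.left :=
    hV a' q t₂ (repWith_baseChange key ha) (repWith_baseChange sq.flip hb) (hP.lift_snd _ _ hw)
  have sqA := sqT.map (Over.forget S)
  have sqB := isPullback_morphismRestrict h.left W
  let k := sqA.lift (h.left ⁻¹ᵁ W).ι ((h.left ∣_ W) ≫ e.inv) (by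
    show _ = (((h.left ∣_ W) ≫ e.inv) ≫ l.left)
    rw [Category.assoc, l.left.isoOpensRange_inv_comp]
    exact sqB.w.symm)
  have sqC : IsPullback k (h.left ∣_ W) t₂.left e.inv := by
    have hs : IsPullback (k ≫ t₁.left) (h.left ∣_ W) h.left (e.inv ≫ l.left) := by
      rw [show k ≫ t₁.left = (h.left ⁻¹ᵁ W).ι from sqA.lift_fst _ _ _,
        show e.inv ≫ l.left = W.ι from l.left.isoOpensRange_inv_comp]
      exact sqB.flip
    exact IsPullback.of_right hs (sqA.lift_snd _ _ _) sqA
  haveI : LocallyOfFinitePresentation (h.left ∣_ W) :=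
    MorphismProperty.of_isPullback (P := @LocallyOfFinitePresentation) sqC h2
  exact S0451.result h.left W

end Groth.Agent.S10652
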