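import Groth.Statements.S10653
import Groth.Agent.Lib.AlgSpDecent.FibreDimPts
import Groth.Agent.Lib.AlgSpDecent.Fibre
import Groth.Agent.Lib.SchTopo.Closure
import Groth.Agent.H46.UnivOpenTrdeg

set_option autoImplicit false
universe u
open CategoryTheory CategoryTheory.Limits AlgebraicGeometry
open AlgSp

namespace Groth.Agent.S10653

open Groth.Agent.Lib.AlgSpace Groth.Agent.Lib.AlgSpDecent

/-- For a flat morphism f : X ⟶ Y of algebraic spaces over S which is locally of finite type, and an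
open subspace j : V ⟶ Y with |V| dense in |Y| such that the base change X ×_Y V ⟶ V has relative
dimension at most d (at every point some etale chart diagram has top arrow with local fibre
dimension at most d): if either j is quasi-compact or f is locally of finite presentation, then f
has relative dimension at most d at every point of |X|. -/
theorem result {S : Scheme.{u}} {X Y V : AlgSp.Space S} (f : X ⟶ Y) (j : V ⟶ Y) (d : ℕ)
    (hf1 : AlgSp.LocP @Flat f.hom) (hf2 : AlgSp.LocP @LocallyOfFiniteType f.hom)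
    (hj1 : AlgSp.RepWith @IsOpenImmersion j.hom) (hj2 : Dense (Set.range (AlgSp.Points.map j.hom)))
    (P : AlgSp.Space S) (fst : P ⟶ X) (snd : P ⟶ V) (hP : IsPullback fst.hom snd.hom f.hom j.hom)
    (hV : ∀ x, AlgSp.HasAtMor (fun _ _ h u => FlatMor.fibreDimAt h u ≤ (d : WithBot ℕ∞)) snd.hom x)
    (h : AlgSp.LocP @LocallyOfFinitePresentation f.hom ∨ AlgSp.IsQuasiCompactMor j.hom) :
    ∀ x, AlgSp.HasAtMor (fun _ _ h u => FlatMor.fibreDimAt h u ≤ (d : WithBot ℕ∞)) f.hom x := by
  intro x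
  obtain ⟨U, V₁, a, b, g, u, ha, hb, w, hu⟩ := RelDim.exists_chart_at X.property Y.property f.hom x
  refine ⟨U, V₁, a, b, g, u, ha, hb, w, hu, ?_⟩
  show FlatMor.fibreDimAt g.left u ≤ (d : WithBot ℕ∞)
  have : LocallyOfFiniteType g.left := hf2 a b g ha hb w
  have : Flat g.left := hf1 a b g ha hb w
  let Wset : Set ↥V₁.left := Points.ofPt b ⁻¹' Set.range (Points.map j.hom)
  have key : ∀ z : ↥U.left, g.left z ∈ Wset → FlatMor.fibreDimAt g.left z ≤ (d : WithBot ℕ∞) := by
    rintro z ⟨p, hp⟩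
    obtain ⟨w', hw1, -⟩ := Core.exists_point_of_isPullback hP (Points.ofPt a z) p
      (by rw [← Core.ofPt_comp, w, Core.ofPt_map_comp, hp])
    have := (RelDim.fibreDim_of_isPullback X.property Y.property V.property hP hf2 w' (· ≤ (d : WithBot ℕ∞))).1 (hV w')
    rw [hw1] at this
    exact (RelDim.hasAtMor_fibreDim_pred X.property Y.property hf2 (· ≤ (d : WithBot ℕ∞)) ha hb w z).1 this
  have hdense : Dense Wset := hj2.preimage (Core.isOpenMap_ofPt hb)
  rcases h with hfp | hqc
  · have : LocallyOfFinitePresentation g.left := hfp a b g ha hb w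
    obtain ⟨ζ, W, hζ, -, hW⟩ := FibreDimPts.exists_open_fibreDimAt g.left u
    obtain ⟨_, ⟨z, hz, rfl⟩, hz'⟩ := hdense.inter_open_nonempty _ (g.left.isOpenMap _ W.2) ⟨_, ζ, hζ, rfl⟩
    exact hW z hz ▸ key z hz'
  · rw [H46.FibreTrdeg.fibreDimAt_le_iff g.left u d]
    intro ξ hξ _
    obtain ⟨A, hA, hvA, -⟩ :=
      AlgebraicGeometry.exists_isAffineOpen_mem_and_subset (x := g.left ξ) (U := ⊤) trivial
    have : IsAffine (A : Scheme.{u}) := hA
    let V₀ : Over S := Over.mk (A.ι ≫ V₁.hom)
    let ι₀ : V₀ ⟶ V₁ := Over.homMk A.ι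
    let b₀ := (AlgSp.yon S).map ι₀ ≫ b
    have sq₀ := IsPullback.of_hasPullback j.hom b₀
    have : MorphismProperty.ContainsIdentities (@Etale : MorphismProperty Scheme.{u}) :=
      ⟨fun X => inferInstanceAs (Etale (𝟙 X))⟩
    have : MorphismProperty.ContainsIdentities (@Surjective : MorphismProperty Scheme.{u}) :=
      ⟨fun X => inferInstanceAs (Surjective (𝟙 X))⟩
    have : CompactSpace ↥V₀.left := inferInstanceAs (CompactSpace ↥(A : Scheme.{u}))
    obtain ⟨T, c, -, hcs, hTc⟩ := hqc (IsAlgSpace.yon_obj V₀)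
      ⟨V₀, 𝟙 _, AlgSp.repWith_id @Etale _, AlgSp.repWith_id @Surjective _, ‹_›⟩ b₀ _ _ sq₀
    obtain ⟨φ, hφ⟩ := (AlgSp.yon S).map_surjective (c ≫ pullback.snd j.hom b₀)
    have hrange : ∀ v : ↥V₀.left, Points.ofPt b (ι₀.left v) ∈ Set.range (Points.map j.hom) ↔
        v ∈ Set.range φ.left := by
      intro v
      constructor
      · rintro ⟨p, hp⟩
        obtain ⟨q, -, hq⟩ := Core.exists_point_of_isPullback sq₀ p (Points.ofPt (𝟙 _) v) (by
          rw [← Core.ofPt_comp, Category.id_comp, hp, Core.ofPt_map_comp])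
        obtain ⟨t, rfl⟩ := Core.surjective_ofPt hcs q
        refine ⟨t, (Points.schemeEquiv V₀).injective ?_⟩
        rw [← Core.ofPt_comp, ← hφ, Core.ofPt_yon_map] at hq
        exact hq
      · rintro ⟨t, rfl⟩
        refine ⟨Points.map (pullback.fst j.hom b₀) (Points.ofPt c t), ?_⟩
        rw [← Points.map_comp, sq₀.w, Points.map_comp, ← Core.ofPt_comp c, ← hφ, ← Core.ofPt_comp,
          Core.ofPt_map_comp, Core.ofPt_map_comp]
    have : IsAffine V₀.left := inferInstanceAs (IsAffine (A : Scheme.{u}))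
    have : QuasiCompact φ.left := Fibre.quasiCompact_of_compact_affine φ.left
    obtain ⟨η, hη, hηv⟩ := Lib.SchTopo.Closure.exists_maximal_specializes (A : Scheme.{u}) ⟨g.left ξ, hvA⟩
    have hηW : ι₀.left η ∈ Wset := by
      refine (hrange η).2 (Lib.SchTopo.Closure.mem_range_of_mem_closure_range φ.left hη ?_)
      refine closure_mono (fun v hv => (hrange v).1 hv) ?_
      exact (hdense.preimage A.ι.isOpenEmbedding.isOpenMap) η
    obtain ⟨Vr, _, _, _, ω, hω', hω⟩ := Lib.Subtrusive.Valuation.exists_valuationRing_of_specializes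
      (show ι₀.left η ⤳ g.left ξ from hηv.map A.ι.continuous)
    obtain ⟨ξ', -, hξ'y, htrd⟩ := H46.UnivOpenTrdeg.exists_trd_le_of_valuation g.left ξ _ Vr ω hω' hω
      fun p _ hp => Flat.generalizingMap (pullback.snd g.left ω) (show Lib.Subtrusive.Valuation.genPt Vr ⤳
        pullback.snd g.left ω p from hp ▸ Lib.Subtrusive.Valuation.genPt_specializes _)
    have h1 := (H46.FibreTrdeg.trd_le_fibreDimAt g.left ξ').trans (key ξ' (show g.left ξ' ∈ Wset by rw [hξ'y]; exact hηW))
    exact htrd.trans (by exact_mod_cast h1)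

end Groth.Agent.S10653
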