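import Groth.Statements.S10654
import Groth.Agent.S10649
import Groth.Agent.S10653
import Groth.Agent.Lib.AlgSpDecent.RelDim
import Groth.Agent.Lib.Flat55.FlatEquidim


set_option autoImplicit false
set_option maxHeartbeats 1000000
set_option linter.all false
universe u
open CategoryTheory CategoryTheory.Limits AlgebraicGeometry
open AlgSp
open Groth.Agent.Lib.AlgSpDecent Groth.Agent.Lib.Flat55

namespace Groth.Agent.S10654

/-- For a flat proper morphism f : X ⟶ Y of algebraic spaces over S and an open subspace j : V ⟶ Y with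
|V| dense in |Y| such that the base change X ×_Y V ⟶ V is finite: f is finite over all of Y,
provided either j is quasi-compact or f is locally of finite presentation. -/
theorem result {S : Scheme.{u}} {X Y V : AlgSp.Space S} (f : X ⟶ Y) (j : V ⟶ Y)
    (hf1 : AlgSp.LocP @Flat f.hom) (hf2 : AlgSp.IsProperMor f.hom)
    (hj1 : AlgSp.RepWith @IsOpenImmersion j.hom) (hj2 : Dense (Set.range (AlgSp.Points.map j.hom)))
    (P : AlgSp.Space S) (fst : P ⟶ X) (snd : P ⟶ V) (hP : IsPullback fst.hom snd.hom f.hom j.hom)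
    (hV : AlgSp.IsFiniteMor snd.hom)
    (h : AlgSp.LocP @LocallyOfFinitePresentation f.hom ∨ AlgSp.IsQuasiCompactMor j.hom) :
    AlgSp.IsFiniteMor f.hom := by
  have hlft : AlgSp.LocP @LocallyOfFiniteType f.hom := hf2.2.1.1
  have hh0 := (S10649.result snd).out 0 1
  obtain ⟨-, hV'⟩ := hh0.1 hV
  have hdim := S10653.result f j 0 hf1 hlft hj1 hj2 P fst snd hP (fun x => by
    obtain ⟨U, W, a, b, g, u, ha, hb, w, hu⟩ := RelDim.exists_chart_at P.property V.property snd.hom x
    obtain ⟨hq, hl⟩ := hV' a b g ha hb w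
    haveI : LocallyQuasiFinite g.left := hq
    haveI : LocallyOfFiniteType g.left := hl
    exact ⟨U, W, a, b, g, u, ha, hb, w, hu, FlatEquidim.fibreDimAt_le_zero g.left u⟩) h
  have hh := (S10649.result f).out 0 1
  refine hh.2 ⟨hf2, fun U W a b g ha hb w => ?_⟩
  haveI : LocallyOfFiniteType g.left := hlft a b g ha hb w
  refine ⟨FlatEquidim.locallyQuasiFinite_of_fibreDimAt_le_zero g.left fun u => ?_,
    (inferInstance : LocallyOfFiniteType g.left)⟩
  exact (RelDim.hasAtMor_fibreDim_pred X.property Y.property hlft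
    (· ≤ ((0 : ℕ) : WithBot ℕ∞)) ha hb w u).1 (hdim _)

end Groth.Agent.S10654
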