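import Groth.Statements.S10655
import Groth.Agent.S9972
import Groth.Agent.S9973
import Groth.Agent.S9969
import Groth.Agent.S10581
import Groth.Agent.S0449
import Groth.Agent.Lib.AlgSpace.DescendRep
import Groth.Agent.Lib.AlgSpMor.QC

set_option autoImplicit false
universe u
open CategoryTheory CategoryTheory.Limits AlgebraicGeometry
open AlgSp
set_option linter.style.haveILetI false

namespace Groth.Agent.S10655

/-- For a separated flat morphism f : X ⟶ Y of algebraic spaces over S which is locally of finite type,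
and an open subspace j : V ⟶ Y which is quasi-compact and scheme theoretically dense (on some etale
surjective scheme chart its inverse image is a schematically dense open): if the base change X ×_Y V
⟶ V is an isomorphism then f is a representable open immersion. -/
theorem result {S : Scheme.{u}} {X Y V : AlgSp.Space S} (f : X ⟶ Y) (j : V ⟶ Y)
    (hf1 : AlgSp.IsSeparatedMor f.hom) (hf2 : AlgSp.LocP @LocallyOfFiniteType f.hom) (hf3 : AlgSp.LocP @Flat f.hom)
    (hj1 : AlgSp.IsQuasiCompactMor j.hom) (hj2 : AlgSp.IsSchDense j.hom)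
    (P : AlgSp.Space S) (fst : P ⟶ X) (snd : P ⟶ V) (hP : IsPullback fst.hom snd.hom f.hom j.hom)
    (hV : IsIso snd.hom) :
    AlgSp.RepWith @IsOpenImmersion f.hom := by
  haveI := hV
  have hjr : AlgSp.RepWith @IsOpenImmersion j.hom := hj2.1
  -- f is a monomorphism
  have sqR := IsPullback.of_hasPullback f.hom f.hom
  have hR : AlgSp.IsAlgSpace (pullback f.hom f.hom) :=
    Groth.Agent.Lib.AlgSpace.isAlgSpace_of_isPullback sqR Y.property.diag X.property X.property
  let h : pullback f.hom f.hom ⟶ Y.obj := pullback.fst f.hom f.hom ≫ f.hom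
  have sqW := IsPullback.of_hasPullback h j.hom
  have hjW : AlgSp.RepWith @IsOpenImmersion (pullback.fst h j.hom) :=
    Groth.Agent.Lib.AlgSpace.repWith_baseChange sqW.flip hjr
  have hW : AlgSp.IsAlgSpace (pullback h j.hom) :=
    Groth.Agent.Lib.AlgSpace.isAlgSpace_of_representable hjW.1 hR
  have hflat : AlgSp.LocP @Flat h :=
    Groth.Agent.Lib.AlgSpMor.LocP.locP_comp Groth.Agent.Lib.SourceDescent.Scheme.flat hR X.property Y.property
      (Groth.Agent.Lib.AlgSpMor.LocP.locP_of_isPullback Groth.Agent.Lib.SourceDescent.Scheme.flat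
        X.property Y.property X.property sqR.flip hf3) hf3
  have hd : AlgSp.IsSchDense (pullback.fst h j.hom) :=
    Groth.Agent.S9973.result (X := ⟨_, hR⟩) (Y := Y) (V := V) (V' := ⟨_, hW⟩)
      (ObjectProperty.homMk h) hflat j hj2 hj1
      (ObjectProperty.homMk (pullback.snd h j.hom)) (ObjectProperty.homMk (pullback.fst h j.hom)) sqW.flip
  have hjrq := (Groth.Agent.Lib.AlgSpMor.QC.repWith_quasiCompact_iff hjr.1).2 hj1
  have hcl := (Groth.Agent.S9969.result (U := ⟨_, hW⟩) (X := ⟨_, hR⟩) (ObjectProperty.homMk (pullback.fst h j.hom))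
    hjW (Groth.Agent.Lib.AlgSpMor.QC.isQuasiCompactMor_of_repWith
      (Groth.Agent.Lib.AlgSpace.repWith_baseChange sqW.flip hjrq))).1 hd
  have key : pullback.fst f.hom f.hom = pullback.snd f.hom f.hom := by
    have := Groth.Agent.S9972.result (U := ⟨_, hW⟩) (X := ⟨_, hR⟩) f hf1
      (ObjectProperty.homMk (pullback.fst f.hom f.hom)) (ObjectProperty.homMk (pullback.snd f.hom f.hom))
      (ObjectProperty.hom_ext _ pullback.condition) (ObjectProperty.homMk (pullback.fst h j.hom)) hjW hcl
      (ObjectProperty.hom_ext _ (by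
        change pullback.fst h j.hom ≫ pullback.fst f.hom f.hom = pullback.fst h j.hom ≫ pullback.snd f.hom f.hom
        have e1 : (pullback.fst h j.hom ≫ pullback.fst f.hom f.hom) ≫ f.hom = pullback.snd h j.hom ≫ j.hom := by
          rw [Category.assoc]; exact pullback.condition
        have e2 : (pullback.fst h j.hom ≫ pullback.snd f.hom f.hom) ≫ f.hom = pullback.snd h j.hom ≫ j.hom := by
          rw [Category.assoc, ← pullback.condition]; exact pullback.condition
        rw [← hP.lift_fst _ _ e1, ← hP.lift_fst _ _ e2,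
          (cancel_mono snd.hom).1 ((hP.lift_snd _ _ e1).trans (hP.lift_snd _ _ e2).symm)]))
    exact congrArg (fun m => m.hom) this
  haveI : Mono f.hom := ⟨fun a b e => by
    rw [← pullback.lift_fst (f := f.hom) (g := f.hom) a b e, key, pullback.lift_snd]⟩
  have hrep := Groth.Agent.S10581.result f hf3
  obtain ⟨-, V₀, φ, W₀, fstW, hφ, hφs, sqV, hdense⟩ := hj2
  haveI := Groth.Agent.Lib.AlgSpace.isLocallySurjective_of_etale hφ hφs
  have sq₀ := hrep.isPullback φ
  let g := (hrep.snd φ).left
  haveI : Flat g := (Groth.Agent.Lib.AlgSpMor.LocP.repWith_of_locP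
    Groth.Agent.Lib.SourceDescent.Scheme.flat Y.property hrep hf3).2 _ _ _ sq₀
  haveI : LocallyOfFiniteType g := (Groth.Agent.Lib.AlgSpMor.LocP.repWith_of_locP
    Groth.Agent.Lib.SourceDescent.Scheme.locallyOfFiniteType Y.property hrep hf2).2 _ _ _ sq₀
  haveI : Mono (hrep.snd φ) :=
    ⟨fun a b e => (yon S).map_injective (sq₀.hom_ext
      ((cancel_mono f.hom).1 (by
        rw [Category.assoc, Category.assoc, sq₀.w, ← Category.assoc, ← Category.assoc, ← Functor.map_comp,
          ← Functor.map_comp, e]))
      (by rw [← Functor.map_comp, ← Functor.map_comp, e]))⟩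
  haveI : Mono g := inferInstance
  haveI : QuasiCompact W₀.ι := hjrq.2 _ _ _ sqV
  haveI : IsSchemeTheoreticallyDominant W₀.ι := ⟨by
    refine Scheme.IdealSheafData.ext (funext fun U => ?_)
    rw [Scheme.Hom.ker_apply, Scheme.IdealSheafData.ideal_bot]
    refine (RingHom.injective_iff_ker_eq_bot _).1 fun a b hab => ?_
    rw [Scheme.Opens.ι_app] at hab
    refine hdense U.1 ?_
    have hle : U.1 ⊓ W₀ ≤ W₀.ι ''ᵁ (W₀.ι ⁻¹ᵁ U.1) := by
      rw [Scheme.Hom.image_preimage_eq_opensRange_inf, Scheme.Opens.opensRange_ι, inf_comm]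
    have := congrArg (V₀.left.presheaf.map (homOfLE hle).op) hab
    refine Eq.trans ?_ (this.trans ?_) <;>
      (erw [← ConcreteCategory.comp_apply, ← Functor.map_comp]; rfl)⟩
  haveI : IsIso (g ∣_ W₀) := by
    let i : Over.mk (W₀.ι ≫ V₀.hom) ⟶ V₀ := Over.homMk W₀.ι rfl
    have sqX := IsPullback.of_hasPullback (hrep.snd φ) i
    have big := (sqX.map (yon S)).paste_horiz sq₀
    rw [← sqV.w] at big
    have left := IsPullback.of_right' big hP
    haveI : IsIso ((yon S).map (pullback.snd (hrep.snd φ) i)) := left.isIso_snd_of_isIso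
    haveI : IsIso (pullback.snd (hrep.snd φ) i) := isIso_of_fully_faithful (yon S) _
    have sqS := sqX.map (Over.forget S)
    have e := (isPullback_morphismRestrict g W₀).flip.isoIsPullback_hom_snd _ _ sqS
    rw [← e]
    haveI : IsIso ((Over.forget S).map (pullback.snd (hrep.snd φ) i)) := inferInstance
    exact IsIso.comp_isIso' inferInstance this
  refine Groth.Agent.Lib.AlgSpace.repWith_isOpenImmersion_of_isLocallySurjective φ sq₀ ?_
  exact (AlgSp.repWith_yon_map_iff _ _).2 (Groth.Agent.S0449.result g W₀)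

end Groth.Agent.S10655
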