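import Groth.Statements.S10659
import Groth.Agent.Lib.AlgSpFormal.ThickBC
import Groth.Agent.Lib.AlgSpace.Diag

set_option autoImplicit false
universe u
open CategoryTheory CategoryTheory.Limits AlgebraicGeometry
open AlgSp

namespace Groth.Agent.S10659

/-- For a property P of morphisms of schemes that is etale local on the target (local for the etale
precoverage) and a representable morphism f : X ⟶ Y of algebraic spaces over S: if for one scheme V
with a representable etale surjective b : h_V ⟶ Y and one pullback square of f along b with corner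
h_W the projection W ⟶ V has P, then f has P etale locally on the target in the representable sense,
i.e. every such projection along every etale h_V ⟶ Y has P. (The published statement also asserts
the converse direction and that, for X and Y representable, the condition is equivalent to f having
P; this row states only that one surjective etale chart suffices.) -/
theorem result {S : Scheme.{u}} (P : MorphismProperty Scheme.{u}) [P.IsLocalAtTarget Scheme.etalePrecoverage]
    {X Y : AlgSp.Space S} (f : X ⟶ Y) (hf : AlgSp.Representable f.hom)
    {V W : Over S} (b : (AlgSp.yon S).obj V ⟶ Y.obj) (hb1 : AlgSp.RepWith @Etale b) (hb2 : AlgSp.RepWith @Surjective b)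
    (fst : (AlgSp.yon S).obj W ⟶ X.obj) (snd : W ⟶ V)
    (sq : IsPullback fst ((AlgSp.yon S).map snd) f.hom b) (hP : P snd.left) :
    AlgSp.RepLocT P f.hom := by
  refine ⟨hf, fun V' W' b' fst' snd' hb' sq' => ?_⟩
  obtain ⟨R, q, q', sqR⟩ := Groth.Agent.Lib.AlgSpace.exists_isPullback_yon Y.property.diag b b'
  have : Etale q.left := Groth.Agent.Lib.AlgSpace.repWith_property hb' sqR.flip
  have : Etale q'.left := Groth.Agent.Lib.AlgSpace.repWith_property hb1 sqR
  have : Surjective q'.left := Groth.Agent.Lib.AlgSpace.repWith_property hb2 sqR
  have sqR' := hf.isPullback ((AlgSp.yon S).map q' ≫ b')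
  obtain ⟨m, hm⟩ :=
    Groth.Agent.Lib.AlgSpFormal.ThickBC.exists_isPullback_restrict sq q sqR.w sqR'
  obtain ⟨m', hm'⟩ :=
    Groth.Agent.Lib.AlgSpFormal.ThickBC.exists_isPullback_restrict sq' q' rfl sqR'
  let Zf : Bool → Scheme.{u} := fun i => Bool.rec V.left R.left i
  let gf : ∀ i, Zf i ⟶ V.left := fun i => match i with
    | true => q.left
    | false => 𝟙 V.left
  have hmem : Presieve.ofArrows Zf gf ∈ Scheme.etalePrecoverage V.left := by
    refine (Scheme.ofArrows_mem_precoverage_iff (P := @Etale) (X := Zf) (f := gf)).2 ⟨fun v => ⟨false, v, rfl⟩, fun i => ?_⟩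
    cases i
    · exact inferInstanceAs (Etale (𝟙 V.left))
    · exact inferInstanceAs (Etale q.left)
  have h₁ : P (hf.snd ((AlgSp.yon S).map q' ≫ b')).left := by
    have h := MorphismProperty.IsLocalAtTarget.pullbackSnd (P := P) hmem
      (Presieve.ofArrows.mk (f := gf) true) hP
    exact (P.arrow_mk_iso_iff (Arrow.isoMk ((hm.map (Over.forget S)).isoPullback) (Iso.refl _)
      (((hm.map (Over.forget S)).isoPullback_hom_snd).trans (Category.comp_id _).symm))).2 h
  refine MorphismProperty.IsLocalAtTarget.of_forall_pullbackSnd (K := Scheme.etalePrecoverage)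
    (R := Presieve.singleton q'.left) ?_ ?_
  · exact (Scheme.singleton_mem_precoverage_iff (P := @Etale) q'.left).2
      ⟨q'.left.surjective, inferInstanceAs (Etale q'.left)⟩
  · rintro U g _ ⟨⟩
    exact (P.arrow_mk_iso_iff (Arrow.isoMk ((hm'.map (Over.forget S)).isoPullback) (Iso.refl _)
      (((hm'.map (Over.forget S)).isoPullback_hom_snd).trans (Category.comp_id _).symm))).1 h₁

end Groth.Agent.S10659
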