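import Groth.Statements.S10661
import Groth.Agent.H26.RegKindsImm
import Groth.Agent.Lib.AlgSpDecent.CodimOneSp


set_option autoImplicit false
universe u
open CategoryTheory CategoryTheory.Limits AlgebraicGeometry
open AlgSp

namespace Groth.Agent.S10661

/-- For an immersion i : Z ⟶ X of algebraic spaces over S with X locally Noetherian (some etale
surjective chart is a locally Noetherian scheme), the three conditions Koszul-regular immersion,
H_1-regular immersion and quasi-regular immersion on i are equivalent. -/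
theorem result {S : Scheme.{u}} {Z X : AlgSp.Space S} (i : Z ⟶ X) (hi : AlgSp.RepWith @IsImmersion i.hom)
    (hX : AlgSp.IsLocNoethSp X.obj) :
    (AlgSp.IsRegImmMor RegImm.Kind.koszul i.hom ↔ AlgSp.IsRegImmMor RegImm.Kind.h1 i.hom) ∧
      (AlgSp.IsRegImmMor RegImm.Kind.h1 i.hom ↔ AlgSp.IsRegImmMor RegImm.Kind.quasi i.hom) := by
  refine ⟨⟨fun h => ⟨h.1, fun _ _ b fst snd hb hp => Groth.Agent.H26.RegKindsImm.h1_of_koszul (h.2 b fst snd hb hp)⟩, fun h => ⟨h.1, fun V W b fst snd hb hp => ?_⟩⟩,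
    ⟨fun h => ⟨h.1, fun _ _ b fst snd hb hp => Groth.Agent.H26.RegKindsImm.quasi_of_h1 (h.2 b fst snd hb hp)⟩, fun h => ⟨h.1, fun V W b fst snd hb hp => ?_⟩⟩⟩
  · haveI := Groth.Agent.Lib.AlgSpDecent.CodimOneSp.isLocallyNoetherian_chart hX hb
    exact Groth.Agent.H26.RegKindsImm.koszul_of_quasi (Groth.Agent.H26.RegKindsImm.quasi_of_h1 (h.2 b fst snd hb hp))
  · haveI := Groth.Agent.Lib.AlgSpDecent.CodimOneSp.isLocallyNoetherian_chart hX hb
    exact Groth.Agent.H26.RegKindsImm.h1_of_koszul (Groth.Agent.H26.RegKindsImm.koszul_of_quasi (h.2 b fst snd hb hp))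

end Groth.Agent.S10661
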