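import Groth.Statements.S1125
import Groth.Agent.Lib.DescAlg.Descends
import Mathlib.AlgebraicGeometry.Morphisms.Immersion
import Mathlib.AlgebraicGeometry.Morphisms.UniversallyOpen

set_option autoImplicit false
set_option backward.isDefEq.respectTransparency false
set_option backward.isDefEq.respectTransparency.types false
open CategoryTheory CategoryTheory.Limits AlgebraicGeometry Opposite
universe u
open Desc

namespace Groth.Agent.S1125

/-- If the base change of a morphism along a flat, surjective morphism locally of finite presentation is
an immersion, then the morphism is an immersion. (Single-cover form of the fppf-local statement;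
Zariski-locality on the target gives the covering form.) -/
theorem result :
    MorphismProperty.DescendsAlong (@IsImmersion : MorphismProperty Scheme.{u})
      (@Surjective ⊓ @Flat ⊓ @LocallyOfFinitePresentation : MorphismProperty Scheme.{u}) := by
  refine MorphismProperty.DescendsAlong.mk' fun {X Y Z} f g _ hf h ↦ ?_
  have := hf.1.1
  have := hf.1.2
  have : LocallyOfFinitePresentation f := hf.2
  have himm : IsImmersion (pullback.fst f g) := h
  have hrange : Set.range (pullback.fst f g) = f ⁻¹' Set.range g := Scheme.Pullback.range_fst f g
  -- the open subscheme of points which are either outside the closure of the range or in it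
  let O : Set Z := coborder (Set.range g)
  have hcb : f ⁻¹' O = coborder (f ⁻¹' Set.range g) :=
    (coborder_preimage f.isOpenMap f.continuous _).symm
  have hO : IsOpen O := by
    rw [← (f.isOpenMap.isQuotientMap f.continuous f.surjective).isOpen_preimage, hcb, ← hrange]
    exact (pullback.fst f g).isLocallyClosed_range.isOpen_coborder
  let U : Z.Opens := ⟨O, hO⟩
  have hsub : Set.range g ⊆ Set.range U.ι := by
    rw [Scheme.Opens.range_ι]; exact subset_coborder
  let g' := IsOpenImmersion.lift U.ι g hsub
  have hg' : g' ≫ U.ι = g := IsOpenImmersion.lift_fac _ _ _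
  suffices IsClosedImmersion g' by rw [← hg']; infer_instance
  have sqU := IsPullback.of_hasPullback f U.ι
  let s : pullback f g ⟶ pullback f U.ι :=
    pullback.lift (pullback.fst f g) (pullback.snd f g ≫ g') (by rw [Category.assoc, hg', pullback.condition])
  have sq : IsPullback s (pullback.snd f g) (pullback.snd f U.ι) g' := by
    refine IsPullback.of_right ?_ (pullback.lift_snd _ _ _) sqU
    rw [pullback.lift_fst, hg']
    exact IsPullback.of_hasPullback f g
  have : IsImmersion (s ≫ pullback.fst f U.ι) := by rw [pullback.lift_fst]; exact himm
  have : IsImmersion s := IsImmersion.of_comp s (pullback.fst f U.ι)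
  have hs : IsClosedImmersion s := by
    refine IsClosedImmersion.of_isPreimmersion s ?_
    have e : Set.range s = pullback.fst f U.ι ⁻¹' Set.range (pullback.fst f g) := by
      have he : Set.range (pullback.fst f g) = pullback.fst f U.ι '' Set.range s := by
        rw [← Set.range_comp]
        show _ = Set.range (⇑(s ≫ pullback.fst f U.ι))
        rw [pullback.lift_fst]
      rw [he, Set.preimage_image_eq _ (pullback.fst f U.ι).isOpenEmbedding.injective]
    rw [e, hrange]
    have hsub2 : Set.range (pullback.fst f U.ι) = coborder (f ⁻¹' Set.range g) := by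
      rw [Scheme.Pullback.range_fst, Scheme.Opens.range_ι]
      exact hcb
    have hcl := isClosed_preimage_val_coborder (s := f ⁻¹' Set.range g)
    refine ⟨?_⟩
    rw [isOpen_iff_mem_nhds]
    intro p hp
    obtain ⟨C, hC, hC'⟩ : ∃ C : Set X, IsClosed C ∧
        ∀ x ∈ coborder (f ⁻¹' Set.range g), x ∈ C ↔ x ∈ f ⁻¹' Set.range g := by
      rw [isClosed_induced_iff] at hcl
      obtain ⟨C, hC, hCe⟩ := hcl
      exact ⟨C, hC, fun x hx ↦ (Set.ext_iff.1 hCe ⟨x, hx⟩)⟩
    refine Filter.mem_of_superset ((hC.preimage (pullback.fst f U.ι).continuous).isOpen_compl.mem_nhds ?_) ?_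
    · exact fun hp' ↦ hp ((hC' _ (hsub2 ▸ Set.mem_range_self p)).1 hp')
    · exact fun q hq hq' ↦ hq ((hC' _ (hsub2 ▸ Set.mem_range_self q)).2 hq')
  have hQ : (@Surjective ⊓ @Flat ⊓ @LocallyOfFinitePresentation : MorphismProperty Scheme.{u})
      (pullback.snd f U.ι) := ⟨⟨inferInstance, inferInstance⟩, inferInstance⟩
  exact MorphismProperty.of_isPullback_of_descendsAlong (P := @IsClosedImmersion) sq hQ hs

end Groth.Agent.S1125
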