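import Groth.Statements.S10662
import Groth.Agent.Lib.H11Reg.KindLocal
import Groth.Agent.Lib.AlgSpace.Basic
import Groth.Agent.S1125
-- import your own Groth.Agent.* helpers here

set_option autoImplicit false
set_option linter.style.haveILetI false
open CategoryTheory CategoryTheory.Limits AlgebraicGeometry
universe u
open CategoryTheory CategoryTheory.Limits AlgebraicGeometry
open AlgSp

namespace Groth.Agent.S10662

open AlgSp (Sp yon Representable RepWith)
open Groth.Agent.Lib.AlgSpace

theorem base_aux {S : Scheme.{u}} {k : RegImm.Kind} (hk : k ≠ RegImm.Kind.regular)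
    {Z X X' P : Sp S} (hX : AlgSp.IsAlgSpace X) (i : Z ⟶ X) (g : X' ⟶ X)
    (hi : AlgSp.IsRegImmMor k i) (hg : AlgSp.LocP @Flat g) (fst : P ⟶ Z) (i' : P ⟶ X')
    (sq : IsPullback fst i' i g) : AlgSp.IsRegImmMor k i' := by
  refine ⟨representable_baseChange sq hi.1, fun V W b fstW snd hb sqW => ?_⟩
  obtain ⟨U, a, ha, has⟩ := hX.2
  let V'' := ha.rep.pullback (b ≫ g)
  let p : V'' ⟶ V := ha.rep.snd (b ≫ g)
  obtain ⟨c, hc⟩ := (yon S).map_surjective (ha.rep.fst (b ≫ g))
  have sqa : IsPullback ((yon S).map c) ((yon S).map p) a (b ≫ g) := hc ▸ ha.rep.isPullback (b ≫ g)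
  haveI : Etale p.left := repWith_property ha sqa
  haveI : Surjective p.left := repWith_property has sqa
  have hbp : RepWith @Etale ((yon S).map p ≫ b) := repWith_yon_map_comp ‹Etale p.left› hb
  haveI : Flat c.left := hg ((yon S).map p ≫ b) a c hbp ha
    ((Category.assoc _ _ _).trans sqa.w.symm)
  -- the pullback to the atlas of `V`
  have hr' : Representable i' := representable_baseChange sq hi.1
  let W'' := hr'.pullback ((yon S).map p ≫ b)
  let f'' : (yon S).obj W'' ⟶ P := hr'.fst ((yon S).map p ≫ b)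
  let w : W'' ⟶ V'' := hr'.snd ((yon S).map p ≫ b)
  have sq'' : IsPullback f'' ((yon S).map w) i' ((yon S).map p ≫ b) := hr'.isPullback _
  -- compare with `W`
  let n : (yon S).obj W'' ⟶ (yon S).obj W := sqW.lift f'' ((yon S).map w ≫ (yon S).map p)
    (sq''.w.trans (Category.assoc _ _ _).symm)
  have hn1 : n ≫ fstW = f'' := sqW.lift_fst _ _ _
  have hn2 : n ≫ (yon S).map snd = (yon S).map w ≫ (yon S).map p := sqW.lift_snd _ _ _
  have sn : IsPullback n ((yon S).map w) ((yon S).map snd) ((yon S).map p) :=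
    IsPullback.of_right (hn1.symm ▸ sq'') hn2 sqW
  obtain ⟨n', hn'⟩ := (yon S).map_surjective n
  rw [← hn'] at sn
  have sL : IsPullback n'.left w.left snd.left p.left := (isPullback_of_yon_map sn).map (Over.forget S)
  -- compare with the chart of `i` over the atlas of `X`
  let WU := hi.1.pullback a
  let fU : (yon S).obj WU ⟶ Z := hi.1.fst a
  let wU : WU ⟶ U := hi.1.snd a
  have sqU : IsPullback fU ((yon S).map wU) i a := hi.1.isPullback a
  have big : IsPullback (f'' ≫ fst) ((yon S).map w) i ((yon S).map c ≫ a) := by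
    have := sq''.paste_horiz sq
    rwa [show ((yon S).map p ≫ b) ≫ g = (yon S).map c ≫ a from
      (Category.assoc _ _ _).trans sqa.w.symm] at this
  let m : (yon S).obj W'' ⟶ (yon S).obj WU := sqU.lift (f'' ≫ fst) ((yon S).map w ≫ (yon S).map c)
    (big.w.trans (Category.assoc _ _ _).symm)
  have hm1 : m ≫ fU = f'' ≫ fst := sqU.lift_fst _ _ _
  have hm2 : m ≫ (yon S).map wU = (yon S).map w ≫ (yon S).map c := sqU.lift_snd _ _ _
  have sm : IsPullback m ((yon S).map w) ((yon S).map wU) ((yon S).map c) :=
    IsPullback.of_right (hm1.symm ▸ big) hm2 sqU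
  obtain ⟨m', hm'⟩ := (yon S).map_surjective m
  rw [← hm'] at sm
  have sR : IsPullback m'.left w.left wU.left c.left := (isPullback_of_yon_map sm).map (Over.forget S)
  have hU : RegImm.IsRegularImmersion k wU.left := hi.2 a fU wU ha sqU
  have hw : RegImm.IsRegularImmersion k w.left :=
    Groth.Agent.Lib.H11Reg.KindLocal.isRegularImmersion_baseChange k hk wU.left c.left w.left m'.left sR hU
  haveI : IsImmersion w.left := hw.1
  haveI := Groth.Agent.S1125.result.{u}
  haveI : IsImmersion snd.left :=
    MorphismProperty.of_isPullback_of_descendsAlong (P := @IsImmersion)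
      (Q := @Surjective ⊓ @Flat ⊓ @LocallyOfFinitePresentation) sL.flip
      ⟨⟨inferInstance, inferInstance⟩, inferInstance⟩ ‹IsImmersion w.left›
  exact Groth.Agent.Lib.H11Reg.KindLocal.isRegularImmersion_descend k hk snd.left p.left w.left n'.left sL hw


/-- Let k be one of the kinds Koszul-regular, H_1-regular, quasi-regular; let i : Z ⟶ X be a regular
immersion of algebraic spaces over S of kind k and g : X' ⟶ X a flat morphism of algebraic spaces.
Then the base change Z ×_X X' ⟶ X' (any pullback square of algebraic spaces) is a regular immersion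
of kind k. -/
theorem result {S : Scheme.{u}} (k : RegImm.Kind) (hk : k = RegImm.Kind.koszul ∨ k = RegImm.Kind.h1 ∨ k = RegImm.Kind.quasi)
    {Z X X' : AlgSp.Space S} (i : Z ⟶ X) (g : X' ⟶ X)
    (hi : AlgSp.IsRegImmMor k i.hom) (hg : AlgSp.LocP @Flat g.hom)
    (P : AlgSp.Space S) (fst : P ⟶ Z) (i' : P ⟶ X') (sq : IsPullback fst.hom i'.hom i.hom g.hom) :
    AlgSp.IsRegImmMor k i'.hom := by
  refine base_aux ?_ X.property i.hom g.hom hi hg fst.hom i'.hom sq
  rcases hk with rfl | rfl | rfl <;> simp

end Groth.Agent.S10662
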