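import Groth.Statements.S10663
import Groth.Agent.Lib.H11Reg.KindComp
import Groth.Agent.Lib.AlgSpace.Basic
import Groth.Agent.S8654
-- import your own Groth.Agent.* helpers here

set_option autoImplicit false
open CategoryTheory CategoryTheory.Limits AlgebraicGeometry
universe u
open CategoryTheory CategoryTheory.Limits AlgebraicGeometry
open AlgSp

namespace Groth.Agent.S10663

open AlgSp (Sp yon Representable RepWith)

theorem comp_aux {S : Scheme.{u}} {kj ki k : RegImm.Kind}
    (hcomp : ∀ {Z Y X : Scheme.{u}} (f : Y ⟶ X) (g : Z ⟶ Y), RegImm.IsRegularImmersion kj f →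
      RegImm.IsRegularImmersion ki g → RegImm.IsRegularImmersion k (g ≫ f))
    {Z Y X : Sp S} (i : Z ⟶ Y) (j : Y ⟶ X) (hi : AlgSp.IsRegImmMor ki i) (hj : AlgSp.IsRegImmMor kj j) :
    AlgSp.IsRegImmMor k (i ≫ j) := by
  refine ⟨MorphismProperty.comp_mem Representable i j hi.1 hj.1, fun V W b fst snd hb sq => ?_⟩
  let W' := hj.1.pullback b
  let b' : (yon S).obj W' ⟶ Y := hj.1.fst b
  let g : W' ⟶ V := hj.1.snd b
  have sqj : IsPullback b' ((yon S).map g) j b := hj.1.isPullback b
  let w : W ⟶ W' := hj.1.lift (fst ≫ i) snd ((Category.assoc _ _ _).trans sq.w)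
  have hw1 : (yon S).map w ≫ b' = fst ≫ i := hj.1.lift_fst _ _ _
  have hw2 : w ≫ g = snd := hj.1.lift_snd _ _ _
  have sqi : IsPullback fst ((yon S).map w) i b' := by
    refine IsPullback.of_bot ?_ hw1.symm sqj
    rwa [← Functor.map_comp, hw2]
  have h1 := hi.2 b' fst w (Groth.Agent.Lib.AlgSpace.repWith_baseChange sqj.flip hb) sqi
  have h2 := hj.2 b b' g hb sqj
  have h3 := hcomp g.left w.left h2 h1
  rw [← hw2]
  exact h3


/-- For immersions i : Z ⟶ Y and j : Y ⟶ X of algebraic spaces over S, the composite i ≫ j is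
Koszul-regular when i and j both are; likewise for H_1-regular; and it is quasi-regular when i is
H_1-regular and j quasi-regular. -/
theorem result {S : Scheme.{u}} {Z Y X : AlgSp.Space S} (i : Z ⟶ Y) (j : Y ⟶ X)
    (hi : AlgSp.RepWith @IsImmersion i.hom) (hj : AlgSp.RepWith @IsImmersion j.hom) :
    (AlgSp.IsRegImmMor RegImm.Kind.koszul i.hom → AlgSp.IsRegImmMor RegImm.Kind.koszul j.hom →
        AlgSp.IsRegImmMor RegImm.Kind.koszul (i ≫ j).hom) ∧
      (AlgSp.IsRegImmMor RegImm.Kind.h1 i.hom → AlgSp.IsRegImmMor RegImm.Kind.h1 j.hom →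
        AlgSp.IsRegImmMor RegImm.Kind.h1 (i ≫ j).hom) ∧
      (AlgSp.IsRegImmMor RegImm.Kind.h1 i.hom → AlgSp.IsRegImmMor RegImm.Kind.quasi j.hom →
        AlgSp.IsRegImmMor RegImm.Kind.quasi (i ≫ j).hom) := by
  refine ⟨fun h1 h2 => ?_, fun h1 h2 => ?_, fun h1 h2 => ?_⟩
  · exact comp_aux (fun f g => Groth.Agent.S8654.result f g) i.hom j.hom h1 h2
  · exact comp_aux (fun f g => Groth.Agent.Lib.H11Reg.KindComp.isRegularImmersion_h1_comp f g)
      i.hom j.hom h1 h2
  · exact comp_aux (fun f g => Groth.Agent.Lib.H11Reg.KindComp.isRegularImmersion_quasi_comp f g)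
      i.hom j.hom h1 h2

end Groth.Agent.S10663
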