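import Groth.Statements.S10664
import Groth.Agent.Lib.Synt92.LciSpace
import Groth.Agent.Lib.AlgStack.Source

set_option autoImplicit false
universe u
open CategoryTheory CategoryTheory.Limits AlgebraicGeometry
open AlgSp

namespace Groth.Agent.S10664

/-- For a local complete intersection (Koszul) morphism f : X ⟶ Y of algebraic spaces over S, a smooth g
: P ⟶ Y, an etale e : U ⟶ X and a representable immersion i : U ⟶ P with i ≫ g = e ≫ f, the
immersion i is Koszul-regular as an immersion of algebraic spaces. -/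
theorem result {S : Scheme.{u}} {X Y P U : AlgSp.Space S} (f : X ⟶ Y) (g : P ⟶ Y) (e : U ⟶ X) (i : U ⟶ P)
    (hc : i ≫ g = e ≫ f) (hf : AlgSp.IsLCIMor f.hom) (hg : AlgSp.LocP @Smooth g.hom)
    (he : AlgSp.IsEtaleMor e.hom) (hi : AlgSp.RepWith @IsImmersion i.hom) :
    AlgSp.IsRegImmMor RegImm.Kind.koszul i.hom := by
  have he' : AlgSp.LocP @Etale e.hom :=
    (Groth.Agent.Lib.AlgStack.Source.isEtaleMor_iff U.property X.property e.hom).1 he
  have hel : AlgSp.LocP AlgSp.lci e.hom := fun _ _ a b h ha hb w =>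
    haveI : Etale h.left := he' a b h ha hb w
    Groth.Agent.Lib.Synt92.LciScheme.lci_of_smooth h.left
  have hil : AlgSp.LocP AlgSp.lci i.hom := by
    refine Groth.Agent.Lib.Synt92.LciSpace.locP_lci_of_comp U.property P.property Y.property ?_ hg
    have h1 : i.hom ≫ g.hom = e.hom ≫ f.hom := congrArg (fun k => k.hom) hc
    rw [h1]
    exact Groth.Agent.Lib.Synt92.LciSpace.locP_lci_comp U.property X.property Y.property hel hf
  refine ⟨hi.1, fun V W b fst snd hb sq => ?_⟩
  haveI : IsImmersion snd.left := hi.2 b fst snd sq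
  have hl := hil fst b snd (Groth.Agent.Lib.AlgSpace.repWith_baseChange sq.flip hb) hb sq.w
  exact (Groth.Agent.Lib.Synt92.KRImm.isRegularImmersion_iff snd.left).2 ⟨inferInstance, fun z =>
    Groth.Agent.Lib.Synt92.KRMor.exists_atN_of_koszulAt snd.left (𝟙 _) snd.left (Category.comp_id _) z (hl z)⟩

end Groth.Agent.S10664
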