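import Groth.Statements.S9773
import Groth.Agent.Lib.Koszul.Basic
import Mathlib.AlgebraicGeometry.Morphisms.Immersion
import Mathlib.AlgebraicGeometry.Morphisms.Smooth


set_option autoImplicit false
universe u
open FlatMor

namespace Groth.Agent.S9773

open AlgebraicGeometry CategoryTheory Limits in
/-- A regular immersion of schemes, and likewise a Koszul-regular immersion, is a local complete
intersection morphism (Koszul at every point). -/
theorem result {Z X : Scheme.{u}} (i : Z ⟶ X) (k : RegImm.Kind)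
    (hk : k = RegImm.Kind.regular ∨ k = RegImm.Kind.koszul) (hi : RegImm.IsRegularImmersion k i) (z : Z) :
    Synt.IsKoszulAt i z := by
  have : IsImmersion i := hi.1
  have hiso : IsIso (⊤ : Z.Opens).ι := Z.topIso.isIso_hom
  refine ⟨⊤, X, Scheme.Opens.ι _ ≫ i, 𝟙 X, trivial, inferInstance,
    ⟨inferInstance, fun w => ?_⟩, inferInstance, Category.comp_id _⟩
  obtain ⟨U, hwU, hcl, rs, hrs, hker⟩ := hi.2 ((⊤ : Z.Opens).ι w)
  refine ⟨U, hwU, ?_, rs, ?_, ?_⟩
  · rw [morphismRestrict_comp]
    have h1 : IsClosedImmersion ((⊤ : Z.Opens).ι ∣_ i ⁻¹ᵁ U.1) :=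
      IsZariskiLocalAtTarget.restrict (inferInstance : IsClosedImmersion (⊤ : Z.Opens).ι) _
    exact MorphismProperty.comp_mem _ _ _ h1 hcl
  · rcases hk with rfl | rfl
    · intro j hj
      exact (Groth.Agent.Lib.Koszul.Basic.isZero_of_weaklyRegular _ rs
        hrs.toIsWeaklyRegular j hj).of_iso (Groth.Agent.Lib.Koszul.Basic.koszulHomologyIso rs j)
    · exact hrs
  · rw [Scheme.Hom.comp_app]
    refine (RingHom.ker_comp_of_injective (f := ((⊤ : Z.Opens).ι.app (i ⁻¹ᵁ U.1)).hom) (i.app U.1).hom ?_).trans hker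
    exact (ConcreteCategory.bijective_of_isIso ((⊤ : Z.Opens).ι.app (i ⁻¹ᵁ U.1))).1


end Groth.Agent.S9773
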