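import Groth.Statements.S10665
import Groth.Agent.Lib.Synt92.LciSpace
import Groth.Agent.S9773

set_option autoImplicit false
universe u
open CategoryTheory CategoryTheory.Limits AlgebraicGeometry
open AlgSp

namespace Groth.Agent.S10665

/-- A Koszul-regular immersion between algebraic spaces over S (representable, Koszul-regular immersion
on every etale scheme chart of the target) is a local complete intersection morphism (Koszul at
every point, etale locally on source and target). -/
theorem result {S : Scheme.{u}} {X Y : AlgSp.Space S} (i : X ⟶ Y) (hi : AlgSp.IsRegImmMor RegImm.Kind.koszul i.hom) :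
    AlgSp.IsLCIMor i.hom := by
  obtain ⟨hr, hi⟩ := hi
  obtain ⟨V, b, hb, hbs⟩ := Y.property.atlas
  refine Groth.Agent.Lib.Synt92.LciSpace.locP_lci_of_chart X.property.diag Y.property.diag
    (a := hr.fst b) (b := b) (h := hr.snd b)
    (Groth.Agent.Lib.AlgSpace.repWith_baseChange (hr.isPullback b).flip hb)
    (Groth.Agent.Lib.AlgSpace.repWith_baseChange (hr.isPullback b).flip hbs) hb (hr.w b) ?_
  exact Groth.Agent.S9773.result _ RegImm.Kind.koszul (Or.inr rfl) (hi b _ _ hb (hr.isPullback b))

end Groth.Agent.S10665
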