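import Groth.Statements.S10669
import Groth.Agent.H95.DVRFibre
import Groth.Agent.Lib.AlgSpRed.Stalk
import Groth.Agent.Lib.AlgSpMor.Proper
import Groth.Agent.Lib.AlgSpDecent.Core
-- import your own Groth.Agent.* helpers here

set_option autoImplicit false
universe u
open CategoryTheory CategoryTheory.Limits AlgebraicGeometry
open AlgSp

open Groth.Agent.Lib.AlgSpace Groth.Agent.Lib.AlgSpMor Groth.Agent.Lib.AlgSpRed
  Groth.Agent.H95.DVRFibre

set_option linter.style.haveILetI false

namespace Groth.Agent.S10669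

/-- Near the closed fibre a flat Noetherian scheme over a discrete valuation ring with reduced
closed fibre is reduced. -/
theorem exists_reduced_stalk_nhd {R : Type u} [CommRing R] [IsDomain R]
    [IsDiscreteValuationRing R] {X : Scheme.{u}} [IsLocallyNoetherian X]
    (f : X ⟶ Spec (CommRingCat.of R)) [Flat f]
    (hred : IsReduced (f.fiber (IsLocalRing.closedPoint R))) (x₀ : X)
    (hx₀ : f x₀ = IsLocalRing.closedPoint R) :
    ∃ Ω : X.Opens, x₀ ∈ Ω ∧ ∀ x ∈ Ω, _root_.IsReduced (X.presheaf.stalk x) := by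
  obtain ⟨π, hπ⟩ := IsDiscreteValuationRing.exists_irreducible R
  obtain ⟨V, hV, hxV, -⟩ := exists_isAffineOpen_mem_and_subset (x := x₀) (U := ⊤) trivial
  set q₀ := (hV.primeIdealOf ⟨x₀, hxV⟩).asIdeal
  have hN : nilradical Γ(X, V) ≤ Ideal.span {res f V π} • nilradical Γ(X, V) := by
    intro a ha
    have h2 : ∀ n, res f V π ∣ a ^ (2 ^ n) → res f V π ∣ a := by
      intro n
      induction n with
      | zero => simp
      | succ n ih => exact fun h => ih (dvd_of_dvd_sq f hV hπ hred (by rwa [← pow_mul, ← pow_succ]))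
    obtain ⟨k, hk⟩ := mem_nilradical.1 ha
    obtain ⟨b, rfl⟩ := h2 k (by rw [pow_eq_zero_of_le (Nat.lt_two_pow_self).le hk]; exact dvd_zero _)
    have h4 : ∀ j, ∀ c, res f V π ^ j * c = 0 → c = 0 := by
      intro j
      induction j with
      | zero => simp
      | succ j ihj => exact fun c h => ihj c (isRegular_res f hV hπ.ne_zero _
          (by rwa [← mul_assoc, ← pow_succ']))
    have hb : b ∈ nilradical Γ(X, V) := mem_nilradical.2 ⟨k, h4 k _ (by rwa [mul_pow] at hk)⟩
    exact Submodule.smul_mem_smul (Ideal.mem_span_singleton_self _) hb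
  have : IsNoetherianRing Γ(X, V) := IsLocallyNoetherian.component_noetherian ⟨V, hV⟩
  obtain ⟨r, hr1, hr0⟩ := Submodule.exists_sub_one_mem_and_smul_eq_zero_of_fg_of_le_smul _ _
    (IsNoetherian.noetherian _) hN
  have hπ₀ : res f V π ∈ q₀ := by
    by_contra h
    have h5 : x₀ ∈ X.basicOpen (res f V π) := (mem_basicOpen_iff' hV _ x₀ hxV).2 h
    rw [mem_basicOpen_res f π x₀ hxV, hx₀] at h5
    exact h5 (show π ∈ IsLocalRing.maximalIdeal R from hπ.not_isUnit)
  have hr : r ∉ q₀ := fun h => by
    have h6 : r - 1 ∈ q₀ := (Ideal.span_le.2 (Set.singleton_subset_iff.2 hπ₀)) hr1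
    exact (hV.primeIdealOf ⟨x₀, hxV⟩).2.ne_top
      ((Ideal.eq_top_iff_one _).2 (by simpa using sub_mem h h6))
  refine ⟨X.basicOpen r, (mem_basicOpen_iff' hV _ x₀ hxV).2 hr, fun x hx => ?_⟩
  have hxV' : x ∈ V := X.basicOpen_le _ hx
  let _ : Algebra Γ(X, V) (X.presheaf.stalk x) :=
    TopCat.Presheaf.algebra_section_stalk X.presheaf ⟨x, hxV'⟩
  have := hV.isLocalization_stalk ⟨x, hxV'⟩
  set q := (hV.primeIdealOf ⟨x, hxV'⟩).asIdeal
  refine ⟨fun y hy => ?_⟩
  obtain ⟨a, s, rfl⟩ := IsLocalization.exists_mk'_eq q.primeCompl y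
  obtain ⟨k, hk⟩ := hy
  rw [← IsLocalization.mk'_pow, IsLocalization.mk'_eq_zero_iff] at hk
  obtain ⟨c, hc⟩ := hk
  have hca : (c : Γ(X, V)) * a ∈ nilradical Γ(X, V) := mem_nilradical.2 ⟨k + 1, by
    rw [mul_pow, pow_succ' (c : Γ(X, V)), pow_succ (a : Γ(X, V))]
    linear_combination ((c : Γ(X, V)) ^ k * a) * hc⟩
  have hrq : r ∈ q.primeCompl := (mem_basicOpen_iff' hV _ x hxV').1 hx
  rw [IsLocalization.mk'_eq_zero_iff]
  refine ⟨⟨r, hrq⟩ * c, ?_⟩
  rw [Submonoid.coe_mul, mul_assoc]
  exact hr0 _ hca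

/-- The residue field of the closed point is the residue field of the local ring. -/
theorem isReduced_fiber_closedPoint {R : Type u} [CommRing R] [IsLocalRing R] {X : Scheme.{u}}
    (f : X ⟶ Spec (CommRingCat.of R))
    (h : IsReduced (pullback f (Spec.map (CommRingCat.ofHom (IsLocalRing.residue R))))) :
    IsReduced (f.fiber (IsLocalRing.closedPoint R)) := by
  let m := IsLocalRing.maximalIdeal R
  let θ : IsLocalRing.ResidueField R →+* m.ResidueField :=
    algebraMap (R ⧸ m) m.ResidueField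
  haveI : IsIso (CommRingCat.ofHom θ) := (ConcreteCategory.isIso_iff_bijective _).2
    (Ideal.bijective_algebraMap_quotient_residueField m)
  let ψ := Spec.map (Scheme.Spec.residueFieldIso (CommRingCat.of R) (IsLocalRing.closedPoint R)).hom
  haveI : IsIso ψ := inferInstance
  let e := inv ψ ≫ Spec.map (CommRingCat.ofHom θ)
  haveI : IsIso (Spec.map (CommRingCat.ofHom θ)) := inferInstance
  haveI : IsIso e := IsIso.comp_isIso' inferInstance ‹_›
  have he : e ≫ Spec.map (CommRingCat.ofHom (IsLocalRing.residue R)) =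
      (Spec (CommRingCat.of R)).fromSpecResidueField (IsLocalRing.closedPoint R) := by
    rw [← Scheme.Spec.map_residueFieldIso_inv_eq_fromSpecResidueField]
    simp only [e, ψ, Category.assoc, ← Spec.map_comp]
    rw [← cancel_epi (Spec.map (Scheme.Spec.residueFieldIso (CommRingCat.of R)
      (IsLocalRing.closedPoint R)).hom)]
    simp only [IsIso.hom_inv_id_assoc, ← Spec.map_comp, Category.assoc, Iso.inv_hom_id,
      Category.comp_id]
    congr 1
  let i := pullback.map f ((Spec (CommRingCat.of R)).fromSpecResidueField (IsLocalRing.closedPoint R)) f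
    (Spec.map (CommRingCat.ofHom (IsLocalRing.residue R))) (𝟙 _) e (𝟙 _) (by simp) (by simp [he])
  haveI : IsIso i := by
    show IsIso (pullback.map _ _ _ _ _ _ _ _ _)
    infer_instance
  have hi : IsOpenImmersion i := IsOpenImmersion.of_isIso i
  exact @isReduced_of_isOpenImmersion _ _ i hi h

/-- The generic point of a discrete valuation ring as an open subscheme. -/
theorem isOpenImmersion_fractionRing (R : Type u) [CommRing R] [IsDomain R]
    [IsDiscreteValuationRing R] :
    IsOpenImmersion (Spec.map (CommRingCat.ofHom (algebraMap R (FractionRing R)))) := by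
  let p : PrimeSpectrum R := ⟨⊥, Ideal.isPrime_bot⟩
  haveI : IsFractionRing R p.asIdeal.ResidueField :=
    inferInstanceAs (IsFractionRing R (⊥ : Ideal R).ResidueField)
  let e := FractionRing.algEquiv R p.asIdeal.ResidueField
  haveI : IsIso (CommRingCat.ofHom e.symm.toAlgHom.toRingHom) :=
    (ConcreteCategory.isIso_iff_bijective _).2 e.symm.bijective
  have h := isOpenImmersion_generic (R := R)
  rw [← Scheme.Spec.map_residueFieldIso_inv_eq_fromSpecResidueField (.of R) p,
    MorphismProperty.cancel_left_of_respectsIso @IsOpenImmersion] at h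
  have he : e.symm.toAlgHom.toRingHom.comp (algebraMap R p.asIdeal.ResidueField) =
      algebraMap R (FractionRing R) := RingHom.ext fun r => e.symm.commutes r
  rw [← he, CommRingCat.ofHom_comp, Spec.map_comp]
  haveI := h
  infer_instance

/-- For a discrete valuation ring R with residue field κ and fraction field K and an algebraic space X
over Spec R whose structure morphism s (to the terminal sheaf h_{Spec R}) is flat and proper: if the
special fibre X ×_{Spec R} Spec κ is reduced (some etale surjective scheme chart is reduced), then X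
is reduced and so is the generic fibre X ×_{Spec R} Spec K. -/
theorem result (R : Type u) [CommRing R] [IsDomain R] [IsDiscreteValuationRing R]
    {X : AlgSp.Space (Spec (CommRingCat.of R))}
    (s : X.obj ⟶ (AlgSp.yon (Spec (CommRingCat.of R))).obj (Over.mk (𝟙 _)))
    (hs1 : AlgSp.IsProperMor s) (hs2 : AlgSp.LocP @Flat s)
    (h0 : ∀ (X0 : AlgSp.Sp (Spec (CommRingCat.of R))) (fst : X0 ⟶ X.obj)
      (snd : X0 ⟶ (AlgSp.yon (Spec (CommRingCat.of R))).obj
        (Over.mk (Spec.map (CommRingCat.ofHom (IsLocalRing.residue R))))),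
      IsPullback fst snd s ((AlgSp.yon (Spec (CommRingCat.of R))).map
        (Over.homMk (Spec.map (CommRingCat.ofHom (IsLocalRing.residue R))) (Category.comp_id _) :
          Over.mk (Spec.map (CommRingCat.ofHom (IsLocalRing.residue R))) ⟶ Over.mk (𝟙 _))) →
      AlgSp.EtaleLocally (fun U => IsReduced U) X0) :
    AlgSp.EtaleLocally (fun U => IsReduced U) X.obj ∧
      ∀ (Xη : AlgSp.Sp (Spec (CommRingCat.of R))) (fst : Xη ⟶ X.obj)
        (snd : Xη ⟶ (AlgSp.yon (Spec (CommRingCat.of R))).obj
          (Over.mk (Spec.map (CommRingCat.ofHom (algebraMap R (FractionRing R)))))),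
        IsPullback fst snd s ((AlgSp.yon (Spec (CommRingCat.of R))).map
          (Over.homMk (Spec.map (CommRingCat.ofHom (algebraMap R (FractionRing R)))) (Category.comp_id _) :
            Over.mk (Spec.map (CommRingCat.ofHom (algebraMap R (FractionRing R)))) ⟶ Over.mk (𝟙 _))) →
        AlgSp.EtaleLocally (fun U => IsReduced U) Xη := by
  obtain ⟨-, ⟨hlft, -⟩, huc⟩ := hs1
  obtain ⟨U, p, hp, hps⟩ := X.property.atlas
  obtain ⟨m, hm⟩ := (AlgSp.yon _).map_surjective (p ≫ s)
  have hid : RepWith @Etale ((AlgSp.yon (Spec (CommRingCat.of R))).map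
      (𝟙 (Over.mk (𝟙 (Spec (CommRingCat.of R)))))) :=
    (AlgSp.repWith_yon_map_iff _ _).2 (inferInstanceAs (Etale (𝟙 (Spec (CommRingCat.of R)))))
  haveI : LocallyOfFiniteType m.left := hlft p _ m hp hid
    (by rw [CategoryTheory.Functor.map_id, Category.comp_id, hm])
  haveI : Flat m.left := hs2 p _ m hp hid
    (by rw [CategoryTheory.Functor.map_id, Category.comp_id, hm])
  haveI : IsLocallyNoetherian U.left :=
    haveI : IsLocallyNoetherian (Over.mk (𝟙 (Spec (CommRingCat.of R)))).left :=
      inferInstanceAs (IsLocallyNoetherian (Spec (CommRingCat.of R)))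
    LocallyOfFiniteType.isLocallyNoetherian m.left
  -- the closed fibre of the chart is reduced
  let ι₀ : Over.mk (Spec.map (CommRingCat.ofHom (IsLocalRing.residue R))) ⟶
      Over.mk (𝟙 (Spec (CommRingCat.of R))) :=
    Over.homMk (Spec.map (CommRingCat.ofHom (IsLocalRing.residue R))) (Category.comp_id _)
  have sq₀ := IsPullback.of_hasPullback s ((AlgSp.yon _).map ι₀)
  have hX₀ := isAlgSpace_of_isPullback sq₀ (IsAlgSpace.yon_obj _).diag X.property (IsAlgSpace.yon_obj _)
  obtain ⟨U₀, r₁, r₂, sqU⟩ := exists_isPullback_yon (IsAlgSpace.yon_obj _).diag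
    ((AlgSp.yon _).map m) ((AlgSp.yon _).map ι₀)
  let c : (AlgSp.yon _).obj U₀ ⟶ pullback s ((AlgSp.yon _).map ι₀) :=
    sq₀.lift ((AlgSp.yon _).map r₁ ≫ p) ((AlgSp.yon _).map r₂)
      (by rw [Category.assoc, ← hm, sqU.w])
  have sqc : IsPullback ((AlgSp.yon _).map r₁) c p (pullback.fst s ((AlgSp.yon _).map ι₀)) :=
    IsPullback.of_bot (h₂₁ := pullback.fst s ((AlgSp.yon _).map ι₀))
      (by rw [sq₀.lift_snd, ← hm]; exact sqU) (sq₀.lift_fst _ _ _).symm sq₀
  haveI : IsReduced U₀.left :=
    Stalk.isReduced_chart hX₀.diag (h0 _ _ _ sq₀) (repWith_baseChange sqc hp)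
  have hfib : IsReduced (m.left.fiber (IsLocalRing.closedPoint R)) := by
    refine isReduced_fiber_closedPoint m.left ?_
    haveI : IsReduced ((Over.forget (Spec (CommRingCat.of R))).obj U₀) :=
      (inferInstance : IsReduced U₀.left)
    exact isReduced_of_isOpenImmersion ((isPullback_of_yon_map sqU).map (Over.forget _)).isoPullback.inv
  have hred : IsReduced U.left := by
    suffices h : ∀ u : U.left, _root_.IsReduced (U.left.presheaf.stalk u) from
      isReduced_of_isReduced_stalk U.left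
    intro u
    refine Stalk.isReduced_stalk_of_hasAt X.property.diag hp u ?_
    have hcl : IsClosed (AlgSp.Points.map s '' closure {AlgSp.Points.ofPt p u}) :=
      Proper.isClosedMap_of_isUnivClosedMor (IsAlgSpace.yon_obj _) huc _ isClosed_closure
    let T : Over (Spec (CommRingCat.of R)) := Over.mk (𝟙 _)
    have hmem : IsLocalRing.closedPoint R ∈
        (AlgSp.Points.schemeHomeo T) ⁻¹' (AlgSp.Points.map s '' closure {AlgSp.Points.ofPt p u}) := by
      refine Specializes.mem_closed (IsLocalRing.specializes_closedPoint (m.left u))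
        (hcl.preimage (AlgSp.Points.schemeHomeo T).continuous) ?_
      refine ⟨_, subset_closure rfl, ?_⟩
      rw [AlgSp.Points.map_ofPt, ← hm]
      exact Lib.AlgSpDecent.Core.ofPt_yon_map m u
    obtain ⟨x₀, hx₀, hx₀s⟩ := hmem
    obtain ⟨u₀, rfl⟩ := surjective_ofPt hps x₀
    have hu₀ : m.left u₀ = IsLocalRing.closedPoint R := by
      refine (AlgSp.Points.schemeHomeo T).injective ?_
      rw [← hx₀s, AlgSp.Points.map_ofPt, ← hm]
      exact (Lib.AlgSpDecent.Core.ofPt_yon_map m u₀).symm
    obtain ⟨Ω, hΩ₀, hΩ⟩ := exists_reduced_stalk_nhd m.left hfib u₀ hu₀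
    obtain ⟨_, ⟨u', hu', rfl⟩, he⟩ := mem_closure_iff.1 hx₀ (AlgSp.Points.ofPt p '' Ω)
      (isOpenMap_ofPt hp _ Ω.2) ⟨u₀, hΩ₀, rfl⟩
    exact ⟨U, p, u', hp, he, hΩ u' hu'⟩
  refine ⟨⟨U, p, hp, hps, hred⟩, fun Xη fst snd sqη => ?_⟩
  obtain ⟨U₁, q₁, q₂, sqU₁⟩ := exists_isPullback_yon (IsAlgSpace.yon_obj _).diag
    ((AlgSp.yon _).map m) ((AlgSp.yon _).map _)
  let d : (AlgSp.yon _).obj U₁ ⟶ Xη :=
    sqη.lift ((AlgSp.yon _).map q₁ ≫ p) ((AlgSp.yon _).map q₂)
      (by rw [Category.assoc, ← hm, sqU₁.w])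
  have sqd : IsPullback ((AlgSp.yon _).map q₁) d p fst :=
    IsPullback.of_bot (h₂₁ := fst)
      (by rw [sqη.lift_snd, ← hm]; exact sqU₁) (sqη.lift_fst _ _ _).symm sqη
  haveI : IsOpenImmersion q₁.left :=
    MorphismProperty.of_isPullback (P := @IsOpenImmersion)
      ((isPullback_of_yon_map sqU₁).map (Over.forget _)).flip (isOpenImmersion_fractionRing R)
  haveI := hred
  exact ⟨U₁, d, repWith_baseChange sqd hp, repWith_baseChange sqd hps,
    isReduced_of_isOpenImmersion q₁.left⟩

end Groth.Agent.S10669
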