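import Groth.Statements.S10676
import Groth.Agent.Lib.AlgSpDecent.IsolateSp
import Groth.Agent.S10374
import Groth.Agent.Lib.AlgSpDecent.Specialize

set_option autoImplicit false
universe u
open CategoryTheory CategoryTheory.Limits AlgebraicGeometry
open AlgSp

namespace Groth.Agent.S10676

open Groth.Agent.Lib.AlgSpace Groth.Agent.Lib.AlgSpDecent

/-- For a separated morphism f : X ⟶ Y of algebraic spaces over S which is locally of finite type, a
point y of |Y| and a finite set xs of points of |X| mapping to y at each of which f is quasi-finite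
(some etale chart diagram through the point has top arrow locally quasi-finite and locally of finite
type on an open neighbourhood), assuming moreover that f is quasi-compact or Y is decent: there are
an etale morphism of algebraic spaces a : U ⟶ Y and a point u of |U| over y such that for the base
change P = U ×_Y X there is an open and closed subspace V ⊂ P, finite over U, such that every point
of |V| over u maps into xs and no point of |P| outside |V| lying over u maps into xs. -/
theorem result {S : Scheme.{u}} {X Y : AlgSp.Space S} (f : X ⟶ Y) (y : AlgSp.Points Y.obj)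
    (xs : Finset (AlgSp.Points X.obj)) (hxs : ∀ x ∈ xs, AlgSp.Points.map f.hom x = y)
    (hf1 : AlgSp.LocP @LocallyOfFiniteType f.hom) (hf2 : AlgSp.IsSeparatedMor f.hom)
    (hf3 : ∀ x ∈ xs, AlgSp.HasAtMor (fun U _ h u => ∃ W : U.Opens, u ∈ W ∧ LocallyQuasiFinite (W.ι ≫ h) ∧ LocallyOfFiniteType (W.ι ≫ h)) f.hom x)
    (hf4 : AlgSp.IsQuasiCompactMor f.hom ∨ AlgSp.IsDecent Y.obj) :
    ∃ (U : AlgSp.Space S) (a : U ⟶ Y) (u : AlgSp.Points U.obj), AlgSp.IsEtaleMor a.hom ∧ AlgSp.Points.map a.hom u = y ∧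
      ∀ (P : AlgSp.Space S) (prX : P ⟶ X) (prU : P ⟶ U), IsPullback prX.hom prU.hom f.hom a.hom →
        ∃ (V : AlgSp.Space S) (jV : V ⟶ P), AlgSp.RepWith @IsOpenImmersion jV.hom ∧ AlgSp.RepWith @IsClosedImmersion jV.hom ∧
          AlgSp.IsFiniteMor (jV ≫ prU).hom ∧
          (∀ v : AlgSp.Points V.obj, AlgSp.Points.map (jV ≫ prU).hom v = u → AlgSp.Points.map (jV ≫ prX).hom v ∈ xs) ∧
          ∀ w : AlgSp.Points P.obj, w ∉ Set.range (AlgSp.Points.map jV.hom) → AlgSp.Points.map prU.hom w = u →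
            AlgSp.Points.map prX.hom w ∉ xs := by
    have hX := X.property
    have hY := Y.property
    obtain ⟨V, b, hb, v, hv, hcase⟩ : ∃ (V : Over S) (b : (AlgSp.yon S).obj V ⟶ Y.obj) (_ : AlgSp.RepWith @Etale b) (v : ↥V.left),
        AlgSp.Points.ofPt b v = y ∧ ((IsAffine V.left ∧ AlgSp.IsQuasiCompactMor f.hom) ∨ Mono (AlgSp.FieldPt.ofPt b v).toHom) := by
      rcases hf4 with h | h
      · obtain ⟨ι, Vi, φ, hVi, hφ, hsurj⟩ := Specialize.exists_affine_chart hY
        obtain ⟨i, v, hv⟩ := hsurj y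
        exact ⟨Vi i, φ i, hφ i, v, hv, Or.inl ⟨hVi i, h⟩⟩
      · obtain ⟨U, a, u, -, he, -⟩ := Groth.Agent.S10374.result Y h y
        exact ⟨U, a, he.etale, u, he.ofPt_eq, Or.inr he.mono⟩
    obtain ⟨C⟩ := IsolateSp.exists_qfChart hX hY hf1 hf2 hb
    let T : Set ↥C.W.left := {w | C.g.left w = v ∧ AlgSp.Points.ofPt (C.e ≫ C.j) w ∈ (xs : Set (AlgSp.Points X.obj))}
    have hT : T.Finite := by
      rcases hcase with ⟨hV, h⟩ | h
      · exact (IsolateSp.finite_fibre hX hY hf1 h hb C v).subset fun w hw => hw.1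
      · refine Set.Finite.of_finite_image (f := AlgSp.Points.ofPt (C.e ≫ C.j)) ?_
          ((IsolateSp.injOn_of_mono C h).mono fun w hw => hw.1)
        exact xs.finite_toSet.subset (Set.image_subset_iff.2 fun w hw => hw.2)
    obtain ⟨U, A, u, hA, hu, H⟩ := IsolateSp.exists_localization f hf2 hb C v hT (fun w hw => hw.1)
    refine ⟨U, A, u, hA, hu.trans hv, fun P prX prU sq => ?_⟩
    obtain ⟨Vs, jV, h1, h2, h3, h4, -, h6⟩ := H P prX prU sq
    refine ⟨Vs, jV, h1, h2, h3, fun p hp => ?_, fun z hz hzu hmem => ?_⟩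
    · obtain ⟨w, hw, hpw⟩ := h4 p hp
      rw [hpw]
      exact hw.2
    · obtain ⟨y', hy'⟩ := C.range.ge (hf3 _ hmem)
      obtain ⟨w, hwT, hwv, hwx⟩ := h6 z hz hzu _ rfl ⟨y', hy'⟩
      exact hwT ⟨hwv, hwx.symm ▸ hmem⟩

end Groth.Agent.S10676
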