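import Groth.Statements.S10677
import Groth.Agent.Lib.AlgSpDecent.IsolateSp

set_option autoImplicit false
universe u
open CategoryTheory CategoryTheory.Limits AlgebraicGeometry
open AlgSp

namespace Groth.Agent.S10677

open Groth.Agent.Lib.AlgSpace Groth.Agent.Lib.AlgSpDecent

/-- For a separated morphism f : X ⟶ Y of algebraic spaces over S which is locally of finite type and a
point x of |X| with image y at which f is quasi-finite (some etale chart diagram through x has top
arrow locally quasi-finite and locally of finite type on an open neighbourhood), there are an etale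
morphism a : U ⟶ Y and a point u of |U| over y such that for the base change P = U ×_Y X there is an
open and closed subspace V ⊂ P, finite over U, containing a point mapping to x in |X| and to u in
|U|. -/
theorem result {S : Scheme.{u}} {X Y : AlgSp.Space S} (f : X ⟶ Y) (x : AlgSp.Points X.obj)
    (hf1 : AlgSp.LocP @LocallyOfFiniteType f.hom) (hf2 : AlgSp.IsSeparatedMor f.hom)
    (hf3 : AlgSp.HasAtMor (fun U _ h u => ∃ W : U.Opens, u ∈ W ∧ LocallyQuasiFinite (W.ι ≫ h) ∧ LocallyOfFiniteType (W.ι ≫ h)) f.hom x) :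
    ∃ (U : AlgSp.Space S) (a : U ⟶ Y) (u : AlgSp.Points U.obj), AlgSp.IsEtaleMor a.hom ∧
      AlgSp.Points.map a.hom u = AlgSp.Points.map f.hom x ∧
      ∀ (P : AlgSp.Space S) (prX : P ⟶ X) (prU : P ⟶ U), IsPullback prX.hom prU.hom f.hom a.hom →
        ∃ (V : AlgSp.Space S) (jV : V ⟶ P), AlgSp.RepWith @IsOpenImmersion jV.hom ∧ AlgSp.RepWith @IsClosedImmersion jV.hom ∧
          AlgSp.IsFiniteMor (jV ≫ prU).hom ∧
          ∃ v : AlgSp.Points V.obj, AlgSp.Points.map (jV ≫ prX).hom v = x ∧ AlgSp.Points.map (jV ≫ prU).hom v = u := by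
    have hX := X.property
    have hY := Y.property
    obtain ⟨V, b, hb, hbs⟩ := hY.atlas
    obtain ⟨v, hv⟩ := Lib.AlgSpace.surjective_ofPt hbs (AlgSp.Points.map f.hom x)
    obtain ⟨C⟩ := IsolateSp.exists_qfChart hX hY hf1 hf2 hb
    obtain ⟨w, hwv, hw⟩ := IsolateSp.exists_point hX C hf3 hv.symm
    obtain ⟨U, A, u, hA, hu, H⟩ := IsolateSp.exists_localization f hf2 hb C v (Set.finite_singleton w)
      (fun w' hw' => by rw [Set.mem_singleton_iff.1 hw']; exact hwv)
    refine ⟨U, A, u, hA, hu.trans hv, fun P prX prU sq => ?_⟩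
    obtain ⟨Vs, jV, h1, h2, h3, -, h5, -⟩ := H P prX prU sq
    obtain ⟨p, hp₁, hp₂⟩ := h5 w rfl
    exact ⟨Vs, jV, h1, h2, h3, p, hp₁.trans hw, hp₂⟩

end Groth.Agent.S10677
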