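import Groth.Statements.S1068
import Groth.Agent.Lib.DerivedOX.SplitAffine
import Groth.Agent.Lib.DerivedOX.CompactUnit
import Groth.Agent.Lib.Perfect.FlatPerfect

set_option autoImplicit false
universe u
open CategoryTheory CategoryTheory.Limits AlgebraicGeometry Opposite
attribute [local instance] HasDerivedCategory.standard
open Perf

namespace Groth.Agent.S1068

open Groth.Agent.Lib Groth.Agent.Lib.DerivedOX

attribute [local instance] Groth.Agent.Lib.DerivedOX.LeftExists.hasLpull
  Groth.Agent.Lib.DerivedOX.Exists.hasRpush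

set_option maxHeartbeats 1000000
set_option linter.style.haveILetI false

/-- Let f : X ⟶ S be proper, flat and of finite presentation, with global functions on every fibre X_s
reduced to κ(s) (pullback along X_s ⟶ Spec κ(s) is an isomorphism on global sections). Then every
point s of S has an open neighbourhood V over which, writing f_V : f⁻¹V ⟶ V and assuming Rf_{V,*}
exists and binary direct sums in D(O_V) are available, Rf_{V,*}O_{f⁻¹V} ≅ O_V ⊕ P for some perfect P
∈ D(O_V) of tor amplitude in [1, b] for some b. -/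
theorem result {X S : Scheme.{u}} (f : X ⟶ S) [IsProper f] [Flat f]
    [LocallyOfFinitePresentation f] (h : ∀ s : S, IsIso (f.fiberToSpecResidueField s).appTop) (s : S) :
    ∃ V : S.Opens, s ∈ V ∧ ∀ [DCoh.HasRpush (f ∣_ V)] [∀ A B : DCoh.D (V : Scheme.{u}), HasBinaryBiproduct A B],
      ∃ (P : DCoh.D (V : Scheme.{u})) (b : ℤ), DCoh.IsPerfect P ∧ DCoh.HasTorAmplitudeIn 1 b P ∧
        Nonempty ((DCoh.Rpush (f ∣_ V)).obj (DCoh.inD (f ⁻¹ᵁ V : Scheme.{u}) (Coh.structureModule (f ⁻¹ᵁ V : Scheme.{u}))) ≅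
          DCoh.inD (V : Scheme.{u}) (Coh.structureModule (V : Scheme.{u})) ⊞ P) := by
  obtain ⟨V, hV, hsV, -⟩ := exists_isAffineOpen_mem_and_subset (X := S) (x := s) (U := ⊤) trivial
  refine ⟨V, hsV, ?_⟩
  intro _ _
  haveI : IsProper (f ∣_ V) := IsZariskiLocalAtTarget.restrict ‹IsProper f› V
  haveI : Flat (f ∣_ V) := MorphismProperty.of_isPullback (isPullback_morphismRestrict f V).flip ‹Flat f›
  haveI : LocallyOfFinitePresentation (f ∣_ V) :=
    MorphismProperty.of_isPullback (isPullback_morphismRestrict f V).flip ‹LocallyOfFinitePresentation f›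
  let g : (f ⁻¹ᵁ V : Scheme.{u}) ⟶ Spec (CommRingCat.of Γ(S, V)) := (f ∣_ V) ≫ hV.isoSpec.hom
  haveI : IsProper g := inferInstanceAs (IsProper ((f ∣_ V) ≫ hV.isoSpec.hom))
  haveI : Flat g := inferInstanceAs (Flat ((f ∣_ V) ≫ hV.isoSpec.hom))
  haveI : LocallyOfFinitePresentation g :=
    inferInstanceAs (LocallyOfFinitePresentation ((f ∣_ V) ≫ hV.isoSpec.hom))
  have H : IsPullback (f ⁻¹ᵁ V).ι g f (hV.isoSpec.inv ≫ V.ι) :=
    (isPullback_morphismRestrict f V).flip.of_iso (Iso.refl _) (Iso.refl _) hV.isoSpec (Iso.refl _)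
      (by simp) (by simp [g]) (by simp) (by simp)
  have hg : ∀ t, IsIso (g.fiberToSpecResidueField t).appTop := fun t =>
    haveI : IsPreimmersion ((Spec (CommRingCat.of Γ(S, V))).fromSpecResidueField t ≫ hV.isoSpec.inv ≫ V.ι) :=
      inferInstance
    SplitAffine.isIso_appTop_of_preimmersion (k := (Spec (CommRingCat.of Γ(S, V))).residueField t) _
      ((IsPullback.of_hasPullback g ((Spec (CommRingCat.of Γ(S, V))).fromSpecResidueField t)).paste_horiz H) h
  obtain ⟨P, b, hb, hP, hamp, ⟨e⟩⟩ := SplitAffine.exists_split g hg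
  haveI := Exists.hasRpush hV.isoSpec.hom
  haveI := Exists.hasRpush g
  haveI : (DCoh.restrictD hV.isoSpec.hom).Additive :=
    inferInstanceAs ((Scheme.Modules.restrictFunctor hV.isoSpec.hom).mapDerivedCategory).Additive
  haveI := preservesBinaryBiproducts_of_preservesBiproducts (DCoh.restrictD hV.isoSpec.hom)
  refine ⟨(DCoh.restrictD hV.isoSpec.hom).obj P, b,
    SchColim29.RpushPerfect.isPerfect_restrictD _ hP,
    Amplitude.torAmp_of_flatAmp (Perfect.FlatPerfect.flatAmp_restrict _ hamp), ⟨?_⟩⟩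
  exact ((OpenImm.counitIso hV.isoSpec.hom).app _).symm ≪≫
    (DCoh.restrictD hV.isoSpec.hom).mapIso ((PullComp.rpushCompIso (f ∣_ V) hV.isoSpec.hom).app _ ≪≫ e) ≪≫
    (DCoh.restrictD hV.isoSpec.hom).mapBiprod _ _ ≪≫
    biprod.mapIso (CompactUnit.restrictOneIso hV.isoSpec.hom) (Iso.refl _)

end Groth.Agent.S1068
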