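import Groth.Statements.S10680
import Groth.Agent.Lib.AlgSpDecent.FibreDimPts

set_option autoImplicit false
universe u
open CategoryTheory CategoryTheory.Limits AlgebraicGeometry
open AlgSp

namespace Groth.Agent.S10680

open Groth.Agent.Lib.AlgSpace Groth.Agent.Lib.AlgSpDecent

/-- For a proper morphism f : X ⟶ Y between algebraic spaces over S the fibre dimension function on |Y|
is upper semi-continuous: for every d the set of y such that every fibre X_k over y (k a field point
in the class of y, X_k any pullback in fppf sheaves) has dimension less than d is open. -/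
theorem result {S : Scheme.{u}} {X Y : AlgSp.Space S} (f : X ⟶ Y) (hf : AlgSp.IsProperMor f.hom) (d : WithBot ℕ∞) :
    IsOpen {y : AlgSp.Points Y.obj | ∀ (k : AlgSp.FieldPt Y.obj), AlgSp.Points.mk k = y →
      ∀ (Xk : AlgSp.Sp S) (fst : Xk ⟶ X.obj) (snd : Xk ⟶ (AlgSp.yon S).obj k.pt),
        IsPullback fst snd f.hom k.toHom → AlgSp.dim Xk < d} := by
  have hle := FibreDimPts.isOpen_dim_le X.property Y.property hf.2.1.1
    (Groth.Agent.Lib.AlgSpMor.Proper.isClosedMap_of_isUnivClosedMor Y.property hf.2.2)
  induction d using WithBot.recBotCoe with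
  | bot =>
    convert isOpen_empty using 1
    refine Set.eq_empty_of_forall_notMem fun y hy => ?_
    obtain ⟨k, hk⟩ := AlgSp.Points.mk_surjective y
    exact not_lt_bot (hy k hk _ _ _ (IsPullback.of_hasPullback f.hom k.toHom))
  | coe d =>
    induction d using ENat.recTopCoe with
    | top =>
      rw [isOpen_iff_forall_mem_open]
      intro y _
      obtain ⟨n, hn⟩ := FibreDimPts.exists_dim_le X.property Y.property hf.2.1.1 hf.2.1.2 y
      exact ⟨_, fun y hy k hk Xk fst snd sq => (hy k hk Xk fst snd sq).trans_lt
        (WithBot.coe_lt_coe.2 (ENat.natCast_lt_top n)), hle (n : WithBot ℕ∞), hn⟩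
    | coe n =>
      cases n with
      | zero =>
        convert hle ⊥ using 1
        ext y
        refine forall_congr' fun k => forall_congr' fun _ => forall_congr' fun Xk => forall_congr' fun _ =>
          forall_congr' fun _ => forall_congr' fun _ => ?_
        rw [le_bot_iff]
        exact Groth.Agent.Lib.AlgSpDecent.FibreDimPts.lt_zero_iff _
      | succ n =>
        convert hle (n : WithBot ℕ∞) using 1
        ext y
        exact forall_congr' fun k => forall_congr' fun _ => forall_congr' fun Xk => forall_congr' fun _ =>
          forall_congr' fun _ => forall_congr' fun _ => Groth.Agent.Lib.AlgSpDecent.FibreDimPts.lt_succ_iff _ n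

end Groth.Agent.S10680
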