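import Groth.Statements.S10681
import Groth.Agent.S10670
import Groth.Agent.Lib.AlgSpDecent.GeomConn
import Groth.Agent.H54.EtaleSep
import Groth.Agent.Lib.AlgSpStalk.Lifts

set_option autoImplicit false
universe u
open CategoryTheory CategoryTheory.Limits AlgebraicGeometry
open AlgSp

namespace Groth.Agent.S10681

open Groth.Agent.Lib.AlgSpace Groth.Agent.Lib.AlgSpDecent

/-- For a morphism f : X ⟶ Y between algebraic spaces over S and a geometric point ȳ of Y (an
algebraically closed field point), the geometric fibre X_ȳ (pullback in fppf sheaves) has connected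
space of points if and only if for every scheme V with a representable etale a : h_V ⟶ Y and every
point v of V through which ȳ factors, the fibre of X ×_Y V ⟶ V over v (pullback along the residue
field point of v) has connected space of points. -/
theorem result {S : Scheme.{u}} {X Y : AlgSp.Space S} (f : X ⟶ Y) (yb : AlgSp.FieldPt Y.obj) (hyb : yb.IsGeometric)
    (Xyb : AlgSp.Sp S) (fst : Xyb ⟶ X.obj) (snd : Xyb ⟶ (AlgSp.yon S).obj yb.pt) (h : IsPullback fst snd f.hom yb.toHom) :
    ConnectedSpace (AlgSp.Points Xyb) ↔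
      ∀ (V : Over S) (a : (AlgSp.yon S).obj V ⟶ Y.obj), AlgSp.RepWith @Etale a →
        ∀ (v : ↥V.left) (c : yb.pt ⟶ V), (AlgSp.yon S).map c ≫ a = yb.toHom → c.left (IsLocalRing.closedPoint yb.K) = v →
          ∀ (Xv : AlgSp.Sp S) (fst' : Xv ⟶ X.obj)
            (snd' : Xv ⟶ (AlgSp.yon S).obj (Over.mk (V.left.fromSpecResidueField v ≫ V.hom))),
            IsPullback fst' snd' f.hom ((AlgSp.yon S).map (Over.homMk (V.left.fromSpecResidueField v) rfl :
              Over.mk (V.left.fromSpecResidueField v ≫ V.hom) ⟶ V) ≫ a) →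
            ConnectedSpace (AlgSp.Points Xv) := by
    have hX := X.property
    have hY := Y.property
    let pt' := IsLocalRing.closedPoint yb.K
    constructor
    · intro hc V a ha v c hca hcv Xv fst' snd' hsq
      obtain ⟨e, he⟩ := H54.GeomLift.exists_of_pt (k := yb.K) (U := V.left) c.left
      change c.left (IsLocalRing.closedPoint yb.K) = v at hcv
      subst hcv
      let Kv : Over S := Over.mk (V.left.fromSpecResidueField (c.left (IsLocalRing.closedPoint yb.K)) ≫ V.hom)
      let j : yb.pt ⟶ Kv := Over.homMk (Spec.map e) (by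
        show Spec.map e ≫ V.left.fromSpecResidueField _ ≫ V.hom = _
        rw [← Category.assoc, ← he, Over.w c])
      have hj : j ≫ Over.homMk (V.left.fromSpecResidueField (c.left (IsLocalRing.closedPoint yb.K))) rfl = c := Over.OverMorphism.ext he.symm
      let π : Xyb ⟶ Xv := hsq.lift fst (snd ≫ (AlgSp.yon S).map j) (by
        rw [h.w, Category.assoc, ← Functor.map_comp_assoc, hj, hca])
      have sqπ : IsPullback π snd snd' ((AlgSp.yon S).map j) := by
        refine IsPullback.of_right ?_ (hsq.lift_snd _ _ _) hsq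
        rw [hsq.lift_fst, ← Functor.map_comp_assoc, hj, hca]
        exact h
      refine Function.Surjective.connectedSpace (f := AlgSp.Points.map π) (fun z => ?_) (AlgSp.Points.continuous_map π)
      obtain ⟨w, hw⟩ := (AlgSp.Points.schemeEquiv Kv).surjective (AlgSp.Points.map snd' z)
      obtain ⟨q, hq, -⟩ := Core.exists_point_of_isPullback sqπ z (AlgSp.Points.ofScheme yb.pt pt') (by
        rw [← hw, Core.map_ofScheme, Core.ofPt_yon_map]
        exact congrArg _ (Subsingleton.elim (α := PrimeSpectrum _) _ _))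
      exact ⟨q, hq⟩
    intro H
    have hcard : ∀ {Z : Type (u + 1)} [TopologicalSpace Z], ConnectedSpace Z ↔ ENat.card (_root_.ConnectedComponents Z) = 1 := by
      intro Z _
      rw [ENat.card_eq_one_iff_unique, unique_iff_subsingleton_and_nonempty]
      constructor
      · intro hZ
        refine ⟨⟨fun p q => ?_⟩, inferInstance⟩
        obtain ⟨x, rfl⟩ := ConnectedComponents.surjective_coe p
        obtain ⟨y, rfl⟩ := ConnectedComponents.surjective_coe q
        rw [ConnectedComponents.coe_eq_coe, PreconnectedSpace.connectedComponent_eq_univ x, PreconnectedSpace.connectedComponent_eq_univ y]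
      · rintro ⟨h₁, ⟨p⟩⟩
        obtain ⟨x, rfl⟩ := ConnectedComponents.surjective_coe p
        refine connectedSpace_iff_connectedComponent.2 ⟨x, Set.eq_univ_of_forall fun y => ?_⟩
        exact ConnectedComponents.coe_eq_coe'.1 (Subsingleton.elim (y : _root_.ConnectedComponents Z) x)
    obtain ⟨ι, Vs, φ, hVs, hφ, hsurj⟩ := Specialize.exists_affine_chart hY
    obtain ⟨i, v₁, hv₁⟩ := hsurj (AlgSp.Points.mk yb)
    let V := Vs i
    let b := φ i
    have hb : AlgSp.RepWith @Etale b := hφ i
    have : IsAffine V.left := hVs i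
    obtain ⟨l, hl⟩ := Lib.AlgSpStalk.Lifts.exists_lift yb hyb (AlgSp.EtOver.mk b hb) v₁ hv₁
    let c₀ : yb.pt ⟶ V := l.1
    have hc₀ : (AlgSp.yon S).map c₀ ≫ b = yb.toHom := l.2
    let v := c₀.left (IsLocalRing.closedPoint yb.K)
    have hvy : AlgSp.Points.ofPt b v = AlgSp.Points.mk yb := by
      rw [← AlgSp.Points.ofPt_toHom yb pt', ← hc₀, Core.ofPt_map_comp]
    obtain ⟨e₀, he₀⟩ := H54.GeomLift.exists_of_pt (k := yb.K) (U := V.left) c₀.left
    let κ : Type u := V.left.residueField v
    let : Algebra κ yb.K := e₀.hom.toAlgebra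
    let Ω := algebraicClosure κ yb.K
    have : IsAlgClosed yb.K := hyb
    have : IsAlgClosed Ω := IsAlgClosure.isAlgClosed κ
    let kΩ : AlgSp.FieldPt Y.obj := Core.ofHom (K := Ω)
      (str := (GeomConn.resPt (V := V) v Ω).hom) ((AlgSp.yon S).map (GeomConn.resHom v Ω) ≫ b)
    have hkΩ : kΩ.toHom = (AlgSp.yon S).map (GeomConn.resHom v Ω) ≫ b := Core.toHom_ofHom _
    have hmk : AlgSp.Points.mk kΩ = AlgSp.Points.mk yb := by
      rw [← hvy, ← AlgSp.Points.ofPt_toHom kΩ (IsLocalRing.closedPoint Ω), hkΩ]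
      refine (Core.ofPt_map_comp _ b _).trans (congrArg (AlgSp.Points.ofPt b) ?_)
      exact (Scheme.Hom.comp_apply _ _ _).trans (Scheme.fromSpecResidueField_apply _ _)
    have sqΩ := IsPullback.of_hasPullback f.hom kΩ.toHom
    have hc := Groth.Agent.S10670.result f (𝟙 Y) (𝟙 X) f (IsPullback.of_horiz_isIso ⟨by simp⟩) yb hyb kΩ
      (inferInstanceAs (IsAlgClosed Ω)) (by rw [hmk]; exact (AlgSp.Points.map_id _).symm) Xyb fst snd h _ _ _ sqΩ
    rw [hcard, hc, ← hcard]
    -- connectedness of the fibre over the algebraic closure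
    obtain ⟨x, hx⟩ : ∃ x : AlgSp.Points X.obj, AlgSp.Points.map f.hom x = AlgSp.Points.ofPt b v := by
      have sqv := IsPullback.of_hasPullback f.hom ((AlgSp.yon S).map (Over.homMk (V.left.fromSpecResidueField v) rfl :
        Over.mk (V.left.fromSpecResidueField v ≫ V.hom) ⟶ V) ≫ b)
      obtain ⟨z⟩ := (H V b hb v c₀ hc₀ rfl _ _ _ sqv).toNonempty
      obtain ⟨w, hw⟩ := (AlgSp.Points.schemeEquiv _).surjective (AlgSp.Points.map (pullback.snd _ _) z)
      refine ⟨AlgSp.Points.map (pullback.fst _ _) z, ?_⟩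
      rw [← AlgSp.Points.map_comp, sqv.w, AlgSp.Points.map_comp, ← hw]
      refine (Core.map_ofScheme _ w).trans ((Core.ofPt_map_comp _ b w).trans (congrArg _ ?_))
      exact Scheme.fromSpecResidueField_apply _ _
    refine GeomConn.connectedSpace_of_forall (P := pullback f.hom kΩ.toHom) (fstP := pullback.fst _ _) (sndP := pullback.snd _ _)
      hX hY f.hom hb v Ω (hkΩ ▸ sqΩ) x hx fun L hfin hsep Q q₁ q₂ sqQ => ?_
    obtain ⟨W', a', hE, ℓ, hℓ, hℓs⟩ := H54.EtaleSep.exists_etale_point v L
    let V' : Over S := Over.mk (a' ≫ V.hom)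
    let av : V' ⟶ V := Over.homMk a' rfl
    have : MorphismProperty.IsStableUnderComposition @Etale.{u} :=
      ⟨fun f g (_ : Etale f) (_ : Etale g) ↦ inferInstanceAs (Etale (f ≫ g))⟩
    have hb' : AlgSp.RepWith @Etale ((AlgSp.yon S).map av ≫ b) := repWith_comp ((AlgSp.repWith_yon_map_iff _ _).2 hE) hb
    obtain ⟨e', he'⟩ := H54.GeomLift.exists_of_pt (k := L) (U := W') ℓ
    have hbij : Function.Bijective e'.hom := ⟨e'.hom.injective, hℓs _ e' he'⟩
    have : IsIso e' := (ConcreteCategory.isIso_iff_bijective _).2 hbij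
    let v' := H54.GeomLift.pt ℓ
    let Kv' : Over S := Over.mk (W'.fromSpecResidueField v' ≫ V'.hom)
    let ε : GeomConn.resPt v L ≅ Kv' := Over.isoMk (Scheme.Spec.mapIso (asIso e').symm.op.symm) (by
      show Spec.map e' ≫ W'.fromSpecResidueField v' ≫ a' ≫ V.hom = _
      rw [← Category.assoc, ← he', ← Category.assoc, hℓ, Category.assoc]
      rfl)
    have hε : ε.hom ≫ (Over.homMk (W'.fromSpecResidueField v') rfl : Kv' ⟶ V') ≫ av = GeomConn.resHom v L :=
      Over.OverMorphism.ext (by
        show Spec.map e' ≫ W'.fromSpecResidueField v' ≫ a' = Spec.map (CommRingCat.ofHom (algebraMap κ L)) ≫ V.left.fromSpecResidueField v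
        rw [← Category.assoc, ← he', hℓ])
    let cL : yb.pt ⟶ GeomConn.resPt v L := Over.homMk (Spec.map (CommRingCat.ofHom ((algebraMap Ω yb.K).comp (algebraMap L Ω)))) (by
      show _ ≫ Spec.map _ ≫ V.left.fromSpecResidueField v ≫ V.hom = yb.str
      rw [← Spec.map_comp_assoc, ← CommRingCat.ofHom_comp]
      show Spec.map e₀ ≫ V.left.fromSpecResidueField v ≫ V.hom = yb.str
      rw [← Category.assoc, ← he₀]
      exact Over.w c₀)
    have hcL : cL ≫ GeomConn.resHom v L = c₀ := Over.OverMorphism.ext (by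
      show Spec.map _ ≫ Spec.map _ ≫ V.left.fromSpecResidueField v = c₀.left
      rw [← Spec.map_comp_assoc, ← CommRingCat.ofHom_comp]
      exact he₀.symm)
    refine H V' ((AlgSp.yon S).map av ≫ b) hb' v' (cL ≫ ε.hom ≫ Over.homMk (W'.fromSpecResidueField v') rfl) ?_ ?_ Q
      q₁ (q₂ ≫ (AlgSp.yon S).map ε.hom) ?_
    · rw [← Functor.map_comp_assoc, Category.assoc, Category.assoc, hε, hcL, hc₀]
    · show (_ ≫ Spec.map e' ≫ W'.fromSpecResidueField v') _ = v'
      rw [← he', Scheme.Hom.comp_apply]
      exact congrArg ℓ (Subsingleton.elim (α := PrimeSpectrum _) _ _)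
    · refine IsPullback.of_iso sqQ (Iso.refl _) (Iso.refl _) ((AlgSp.yon S).mapIso ε) (Iso.refl _) (by simp) (by simp) (by simp) ?_
      simp only [Iso.refl_hom, Category.comp_id, Functor.mapIso_hom]
      rw [← Functor.map_comp_assoc, ← Functor.map_comp_assoc]
      exact congrArg (fun k => (AlgSp.yon S).map k ≫ b) ((Category.assoc _ _ _).trans hε).symm

end Groth.Agent.S10681
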