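import Groth.Statements.S10682
import Groth.Agent.Lib.AlgSpDecent.GeomRedFibre
import Groth.Agent.Lib.AlgSpMor.Proper
import Groth.Agent.S4963

set_option autoImplicit false
universe u
open CategoryTheory CategoryTheory.Limits AlgebraicGeometry
open AlgSp

namespace Groth.Agent.S10682

open Groth.Agent.Lib.AlgSpace Groth.Agent.Lib.AlgSpDecent

/-- For a flat proper morphism f : X ⟶ Y between algebraic spaces over S which is of finite
presentation, the set of points y of |Y| at which the fibre of f is geometrically reduced is open in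
|Y|; here the fibre of f at y being geometrically reduced means: for every field point k of Y in the
class of y and every field homomorphism k ⟶ k', the base change X_{k'} (pullback in fppf sheaves) is
reduced (some etale surjective scheme chart is reduced). -/
theorem result {S : Scheme.{u}} {X Y : AlgSp.Space S} (f : X ⟶ Y)
    (hf1 : AlgSp.LocP @Flat f.hom) (hf2 : AlgSp.IsProperMor f.hom) (hf3 : AlgSp.IsFinitePresentationMor f.hom) :
    IsOpen {y : AlgSp.Points Y.obj | ∀ (k : AlgSp.FieldPt Y.obj), AlgSp.Points.mk k = y →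
        ∀ (k' : Type u) [Field k'] (φ : k.K →+* k') (Xk' : AlgSp.Sp S) (a : Xk' ⟶ X.obj)
          (b : Xk' ⟶ (AlgSp.yon S).obj (Over.mk (Spec.map (CommRingCat.ofHom φ) ≫ k.str))),
          IsPullback a b f.hom ((AlgSp.yon S).map (Over.homMk (Spec.map (CommRingCat.ofHom φ)) rfl :
            Over.mk (Spec.map (CommRingCat.ofHom φ) ≫ k.str) ⟶ k.pt) ≫ k.toHom) →
          AlgSp.EtaleLocally (fun U => IsReduced U) Xk'} := by
  have hX := X.property
  have hY := Y.property
  obtain ⟨U, V, a, b, h, ha, has, hb, -, w⟩ := Groth.Agent.Lib.AlgSpMor.LocP.exists_chart hX hY f.hom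
  have : Flat h.left := hf1 a b h ha hb w
  have : LocallyOfFinitePresentation h.left := hf3.1 a b h ha hb w
  have hopen : IsOpen {x : AlgSp.Points X.obj | GeomRedFibre.Good f.hom x} := by
    rw [Core.isOpen_iff_chart ha has]
    convert Groth.Agent.S4963.result h.left using 1
    ext u
    exact (GeomRedFibre.good_iff hX hY ha hb w u).trans ⟨fun h' => ⟨Flat.stalkMap h.left u, h'⟩, fun h' => h'.2⟩
  convert (Groth.Agent.Lib.AlgSpMor.Proper.isClosedMap_of_isUnivClosedMor hY hf2.2.2 _ hopen.isClosed_compl).isOpen_compl using 1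
  ext y
  refine (GeomRedFibre.goodFibre_iff_extend hX hY y).symm.trans ((GeomRedFibre.goodFibre_iff hX hY y).trans ?_)
  exact ⟨fun h ⟨x, hx, hxy⟩ => hx (h x hxy), fun h x hxy => not_not.1 fun hx => h ⟨x, hx, hxy⟩⟩

end Groth.Agent.S10682
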