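import Groth.Statements.S10683
import Groth.Agent.Lib.AlgSpDecent.GeomRedFibre
import Groth.Agent.Lib.AlgSpGeomRed.Fields
import Groth.Agent.Lib.AlgSpMor.QC
import Groth.Agent.Lib.AlgSpMor.LocP
import Groth.Agent.S1301

set_option autoImplicit false
universe u
open CategoryTheory CategoryTheory.Limits AlgebraicGeometry
open AlgSp

namespace Groth.Agent.S10683

open Groth.Agent.Lib.AlgSpace Groth.Agent.Lib.AlgSpDecent

/-- For a quasi-compact morphism f : X ⟶ Y between algebraic spaces over S which is locally of finite
presentation, the set E of points of |Y| at which the fibre of f is geometrically reduced is etale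
locally constructible: for every affine scheme V with a representable etale a : h_V ⟶ Y, the inverse
image of E in V is a constructible subset. Here the fibre of f at y being geometrically reduced
means: for every field point k of Y in the class of y and every field homomorphism k ⟶ k', the base
change X_{k'} (pullback in fppf sheaves) is reduced (some etale surjective scheme chart is reduced). -/
theorem result {S : Scheme.{u}} {X Y : AlgSp.Space S} (f : X ⟶ Y)
    (hf1 : AlgSp.IsQuasiCompactMor f.hom) (hf2 : AlgSp.LocP @LocallyOfFinitePresentation f.hom)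
    (V : Over S) (hV : IsAffine V.left) (a : (AlgSp.yon S).obj V ⟶ Y.obj) (ha : AlgSp.RepWith @Etale a) :
    Topology.IsConstructible ((AlgSp.Points.ofPt a) ⁻¹' {y : AlgSp.Points Y.obj | ∀ (k : AlgSp.FieldPt Y.obj), AlgSp.Points.mk k = y →
        ∀ (k' : Type u) [Field k'] (φ : k.K →+* k') (Xk' : AlgSp.Sp S) (a : Xk' ⟶ X.obj)
          (b : Xk' ⟶ (AlgSp.yon S).obj (Over.mk (Spec.map (CommRingCat.ofHom φ) ≫ k.str))),
          IsPullback a b f.hom ((AlgSp.yon S).map (Over.homMk (Spec.map (CommRingCat.ofHom φ)) rfl :
            Over.mk (Spec.map (CommRingCat.ofHom φ) ≫ k.str) ⟶ k.pt) ≫ k.toHom) →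
          AlgSp.EtaleLocally (fun U => IsReduced U) Xk'}) := by
  have hX := X.property
  have hY := Y.property
  have sq := IsPullback.of_hasPullback f.hom a
  obtain ⟨U, c, hc, hcs, hU⟩ := hf1 (IsAlgSpace.yon_obj V) Groth.Agent.Lib.AlgSpMor.QC.isQuasiCompactSp_yon a _ _ sq
  haveI : CompactSpace ↥U.left := hU
  obtain ⟨h, hh⟩ := (yon S).map_surjective (c ≫ pullback.snd f.hom a)
  have hca : RepWith @Etale (c ≫ pullback.fst f.hom a) :=
    repWith_comp hc (repWith_baseChange sq.flip ha)
  have w : (c ≫ pullback.fst f.hom a) ≫ f.hom = (yon S).map h ≫ a := by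
    rw [hh, Category.assoc, Category.assoc, sq.w]
  have : LocallyOfFinitePresentation h.left := hf2 _ a h hca ha w
  have : QuasiCompact h.left := by infer_instance
  have key : ((AlgSp.Points.ofPt a) ⁻¹' {y : AlgSp.Points Y.obj | GeomRedFibre.GoodFibre f.hom y}) =
      {v : ↥V.left | GeometricallyReduced (h.left.fiberToSpecResidueField v)} := by
    ext v
    refine (GeomRedFibre.goodFibre_iff hX hY _).trans ⟨fun H => ⟨fun K _ y Z fst snd hsq => ?_⟩, fun H x hx => ?_⟩
    · obtain ⟨φ, rfl⟩ := Spec.map_surjective y
      let hA : Algebra (IsLocalRing.ResidueField ↑(V.left.presheaf.stalk v)) K := φ.hom.toAlgebra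
      have hall : ∀ z, FBase.IsGeomReducedAt (h.left.fiberToSpecResidueField v) z := by
        intro z
        obtain ⟨u, hu⟩ : ∃ u, u = h.left.fiberι v z := ⟨_, rfl⟩
        have hv : h.left u = v := by
          have : h.left.fiberι v z ∈ h.left ⁻¹' {v} := h.left.range_fiberι v ▸ Set.mem_range_self z
          rw [hu]; exact this
        subst hv
        obtain rfl : z = h.left.asFiber u :=
          (h.left.fiberι _).isEmbedding.injective (hu.symm.trans (h.left.fiberι_asFiber u).symm)
        exact (GeomRedFibre.good_iff hX hY hca ha w u).1 (H _ (by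
          rw [← Core.ofPt_comp, w, Core.ofPt_map_comp]))
      have : IsReduced (FBase.bc (h.left.fiberToSpecResidueField v) K) :=
        Groth.Agent.Lib.AlgSpGeomRed.geometricallyReduced_of_forall hall K
      exact @isReduced_of_isOpenImmersion _ _ hsq.isoPullback.hom _ this
    · obtain ⟨z, hz₁, hz₂⟩ := exists_of_isPullback sq x (Points.ofScheme V v) (by rw [hx, Core.map_ofScheme])
      obtain ⟨u, rfl⟩ := surjective_ofPt hcs z
      have hv : h.left u = v := by
        apply (Points.schemeEquiv V).injective
        refine Eq.trans ?_ hz₂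
        rw [← Core.ofPt_comp, ← hh]
        exact (Core.ofPt_yon_map h u).symm
      subst hv
      rw [← hz₁, ← Core.ofPt_comp, GeomRedFibre.good_iff hX hY hca ha w u]
      exact Groth.Agent.Lib.AlgSpGeomRed.isGeomReducedAt_of_forall
        (fun K _ _ => @Groth.Agent.Lib.AlgSpGeomRed.isReduced_bc_of_geometricallyReduced _ _ _ _ H K _ _) _
  have := (Groth.Agent.S1301.result h.left).isConstructible
  rw [← key] at this
  convert this using 2
  ext y
  exact (GeomRedFibre.goodFibre_iff_extend hX hY y).symm

end Groth.Agent.S10683
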