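import Groth.Statements.S10685
import Groth.Agent.Lib.AlgSpGeomCount.Upper
import Groth.Agent.S10684

set_option autoImplicit false
universe u
open CategoryTheory CategoryTheory.Limits AlgebraicGeometry
open AlgSp

namespace Groth.Agent.S10685

open Groth.Agent.Lib Groth.Agent.Lib.AlgSpace Groth.Agent.Lib.AlgSpDecent Groth.Agent.Lib.AlgSpMor
  Groth.Agent.Lib.AlgSpGeomCount

/-- For a proper flat morphism f : X ⟶ Y between algebraic spaces over S which is of finite presentation
and all of whose fibres are geometrically reduced (the fibre of f at y being geometrically reduced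
means: for every field point k of Y in the class of y and every field homomorphism k ⟶ k', the base
change X_{k'} (pullback in fppf sheaves) is reduced (some etale surjective scheme chart is
reduced)), the function on |Y| counting the connected components of geometric fibres is locally
constant: for each d the set of y all of whose geometric fibres (X_k for an algebraically closed
field point k in the class of y) have exactly d connected components, counted in ℕ∞, is open. -/
theorem result {S : Scheme.{u}} {X Y : AlgSp.Space S} (f : X ⟶ Y)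
    (hf1 : AlgSp.IsProperMor f.hom) (hf2 : AlgSp.LocP @Flat f.hom) (hf3 : AlgSp.IsFinitePresentationMor f.hom)
    (hred : ∀ y : AlgSp.Points Y.obj, ∀ (k : AlgSp.FieldPt Y.obj), AlgSp.Points.mk k = y →
        ∀ (k' : Type u) [Field k'] (φ : k.K →+* k') (Xk' : AlgSp.Sp S) (a : Xk' ⟶ X.obj)
          (b : Xk' ⟶ (AlgSp.yon S).obj (Over.mk (Spec.map (CommRingCat.ofHom φ) ≫ k.str))),
          IsPullback a b f.hom ((AlgSp.yon S).map (Over.homMk (Spec.map (CommRingCat.ofHom φ)) rfl :
            Over.mk (Spec.map (CommRingCat.ofHom φ) ≫ k.str) ⟶ k.pt) ≫ k.toHom) →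
          AlgSp.EtaleLocally (fun U => IsReduced U) Xk') (d : ℕ∞) :
    IsOpen {y : AlgSp.Points Y.obj | ∀ (k : AlgSp.FieldPt Y.obj), AlgSp.Points.mk k = y → k.IsGeometric →
        ∀ (Xk : AlgSp.Sp S) (a : Xk ⟶ X.obj) (b : Xk ⟶ (AlgSp.yon S).obj k.pt), IsPullback a b f.hom k.toHom →
          ENat.card (_root_.ConnectedComponents (AlgSp.Points Xk)) = d} := by
  have hX := X.property
  have hY := Y.property
  rw [isOpen_iff_forall_mem_open]
  intro y hy
  have hgood : GeomRedFibre.GoodFibre f.hom y :=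
    (GeomRedFibre.goodFibre_iff_extend hX hY y).2 (hred y)
  obtain ⟨O, hO, hyO, hle⟩ := exists_nhd_card_le hX hY hf1 hf2 hf3.1 y hgood
  obtain ⟨U, p, hp, hps⟩ := hY.atlas
  obtain ⟨u, rfl⟩ := Core.surjective_ofPt hps y
  let τ := GeomConn.resHom u (AlgebraicClosure (U.left.residueField u))
  let k₀ := Core.ofHom ((yon S).map τ ≫ p)
  have hk₀ : Points.mk k₀ = Points.ofPt p u := mk_ofHom_resHom p u _
  have hg₀ : k₀.IsGeometric :=
    show IsAlgClosed (AlgebraicClosure (U.left.residueField u)) from inferInstance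
  have sq₀ := IsPullback.of_hasPullback f.hom k₀.toHom
  have hd : ENat.card (_root_.ConnectedComponents (Points (pullback f.hom k₀.toHom))) = d :=
    hy k₀ hk₀ hg₀ _ _ _ sq₀
  have hdfin : d ≠ ⊤ := hd ▸ (hle _ hyO k₀ k₀ hk₀ hk₀ hg₀ hg₀ _ _ _ sq₀ _ _ _ sq₀).2
  obtain ⟨n, rfl⟩ : ∃ n : ℕ, d = n := ⟨_, (ENat.coe_toNat hdfin).symm⟩
  rcases n with _ | n
  · refine ⟨O, fun y' hy' k hk hkg Xk a b sq => ?_, hO, hyO⟩
    exact le_antisymm ((hle y' hy' k₀ k hk₀ hk hg₀ hkg _ _ _ sq₀ _ _ _ sq).1.trans hd.le) bot_le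
  · have hlow := Groth.Agent.S10684.result f hf1 hf2 hf3 (n : ℕ∞)
    refine ⟨O ∩ _, ?_, hO.inter hlow, hyO, fun k hk hkg Xk a b sq => ?_⟩
    · rintro y' ⟨hy'O, hy'⟩ k hk hkg Xk a b sq
      refine le_antisymm ((hle y' hy'O k₀ k hk₀ hk hg₀ hkg _ _ _ sq₀ _ _ _ sq).1.trans hd.le) ?_
      rw [Nat.cast_succ]
      exact Order.add_one_le_of_lt (hy' k hk hkg Xk a b sq)
    · rw [hy k hk hkg Xk a b sq]
      exact_mod_cast Nat.lt_succ_self n

end Groth.Agent.S10685
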