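import Groth.Statements.S10686
import Groth.Agent.Lib.AlgSpDecent.FieldChangeFibre

set_option autoImplicit false
universe u
open CategoryTheory CategoryTheory.Limits AlgebraicGeometry
open AlgSp

namespace Groth.Agent.S10686

open Groth.Agent.Lib.AlgSpace Groth.Agent.Lib.AlgSpDecent

/-- For a morphism f : X ⟶ Y between algebraic spaces over S and a point y of |Y|, write X_k for the
fibre (pullback in fppf sheaves) over a field point k of Y and call X_k geometrically reduced when
for every field homomorphism k ⟶ k' the base change X_{k'} is reduced (some etale surjective scheme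
chart reduced). The following are equivalent: (1) X_k is geometrically reduced for some k in the
class of y; (2) X_k is geometrically reduced for every k in the class of y; (3) X_k is reduced for
every k in the class of y. -/
theorem result {S : Scheme.{u}} {X Y : AlgSp.Space S} (f : X ⟶ Y) (y : AlgSp.Points Y.obj) :
    [∃ (k : AlgSp.FieldPt Y.obj), AlgSp.Points.mk k = y ∧
        ∀ (k' : Type u) [Field k'] (φ : k.K →+* k') (Xk' : AlgSp.Sp S) (a : Xk' ⟶ X.obj)
          (b : Xk' ⟶ (AlgSp.yon S).obj (Over.mk (Spec.map (CommRingCat.ofHom φ) ≫ k.str))),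
          IsPullback a b f.hom ((AlgSp.yon S).map (Over.homMk (Spec.map (CommRingCat.ofHom φ)) rfl :
            Over.mk (Spec.map (CommRingCat.ofHom φ) ≫ k.str) ⟶ k.pt) ≫ k.toHom) →
          AlgSp.EtaleLocally (fun U => IsReduced U) Xk',
      ∀ (k : AlgSp.FieldPt Y.obj), AlgSp.Points.mk k = y →
        ∀ (k' : Type u) [Field k'] (φ : k.K →+* k') (Xk' : AlgSp.Sp S) (a : Xk' ⟶ X.obj)
          (b : Xk' ⟶ (AlgSp.yon S).obj (Over.mk (Spec.map (CommRingCat.ofHom φ) ≫ k.str))),
          IsPullback a b f.hom ((AlgSp.yon S).map (Over.homMk (Spec.map (CommRingCat.ofHom φ)) rfl :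
            Over.mk (Spec.map (CommRingCat.ofHom φ) ≫ k.str) ⟶ k.pt) ≫ k.toHom) →
          AlgSp.EtaleLocally (fun U => IsReduced U) Xk',
      ∀ (k : AlgSp.FieldPt Y.obj), AlgSp.Points.mk k = y →
        ∀ (Xk : AlgSp.Sp S) (a : Xk ⟶ X.obj) (b : Xk ⟶ (AlgSp.yon S).obj k.pt), IsPullback a b f.hom k.toHom →
          AlgSp.EtaleLocally (fun U => IsReduced U) Xk].TFAE := by
  have hX := X.property
  have hY := Y.property
  tfae_have 1 → 2 := by
    rintro ⟨k, hk, hgeo⟩ k₂ hk₂ k' _ φ Xk' a b sq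
    let ψ : Over.mk (Spec.map (CommRingCat.ofHom φ) ≫ k₂.str) ⟶ k₂.pt := Over.homMk (Spec.map (CommRingCat.ofHom φ)) rfl
    have hm : Points.mk k = Points.mk (Core.ofHom ((AlgSp.yon S).map ψ ≫ k₂.toHom)) := by
      rw [FieldChangeFibre.mk_ofHom ψ, hk, hk₂]
    obtain ⟨Ω, _, w, α, β, hαβ⟩ := Core.rel_iff.1 (Points.mk_eq_mk_iff.1 hm)
    rw [Core.toHom_ofHom] at hαβ
    obtain ⟨θ, rfl, hα⟩ := FieldChangeFibre.over_hom_eq α
    rw [eqToHom_refl, Category.id_comp] at hα
    have sqΩ := IsPullback.of_hasPullback f.hom ((AlgSp.yon S).map β ≫ ((AlgSp.yon S).map ψ ≫ k₂.toHom))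
    refine FieldChangeFibre.etaleLocally_isReduced_of_extend hX hY sq sqΩ (hgeo Ω θ _ (pullback.fst f.hom ((AlgSp.yon S).map β ≫ ((AlgSp.yon S).map ψ ≫ k₂.toHom))) (pullback.snd f.hom ((AlgSp.yon S).map β ≫ ((AlgSp.yon S).map ψ ≫ k₂.toHom))) ?_)
    convert sqΩ using 1
    rw [← hα]
    exact hαβ
  tfae_have 2 → 3 := by
    intro h k hk Xk a b sq
    have e : (Over.homMk (Spec.map (CommRingCat.ofHom (RingHom.id k.K))) rfl :
        Over.mk (Spec.map (CommRingCat.ofHom (RingHom.id k.K)) ≫ k.str) ⟶ k.pt).left = 𝟙 _ := Spec.map_id _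
    have : IsIso (Over.homMk (Spec.map (CommRingCat.ofHom (RingHom.id k.K))) rfl :
        Over.mk (Spec.map (CommRingCat.ofHom (RingHom.id k.K)) ≫ k.str) ⟶ k.pt) := by
      have : IsIso ((Over.forget S).map (Over.homMk (Spec.map (CommRingCat.ofHom (RingHom.id k.K))) rfl :
        Over.mk (Spec.map (CommRingCat.ofHom (RingHom.id k.K)) ≫ k.str) ⟶ k.pt)) := by
        show IsIso (Over.Hom.left _); rw [e]; infer_instance
      exact isIso_of_reflects_iso _ (Over.forget S)
    let j := (AlgSp.yon S).map (Over.homMk (Spec.map (CommRingCat.ofHom (RingHom.id k.K))) rfl :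
        Over.mk (Spec.map (CommRingCat.ofHom (RingHom.id k.K)) ≫ k.str) ⟶ k.pt)
    refine h k hk k.K (RingHom.id _) Xk a (b ≫ inv j) ?_
    exact IsPullback.of_iso sq (Iso.refl _) (Iso.refl _) (asIso j).symm (Iso.refl _) (by simp) (by simp) (by simp) (by simp [j])
  tfae_have 3 → 1 := by
    intro h
    obtain ⟨k, hk⟩ := Points.mk_surjective y
    refine ⟨k, hk, fun k' _ φ Xk' a b sq => ?_⟩
    let ψ : Over.mk (Spec.map (CommRingCat.ofHom φ) ≫ k.str) ⟶ k.pt := Over.homMk (Spec.map (CommRingCat.ofHom φ)) rfl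
    refine h (Core.ofHom ((AlgSp.yon S).map ψ ≫ k.toHom)) ((FieldChangeFibre.mk_ofHom ψ).trans hk) Xk' a b ?_
    rw [Core.toHom_ofHom]
    exact sq
  tfae_finish

end Groth.Agent.S10686
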