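import Groth.Statements.S10687
import Groth.Agent.Lib.GorenMor.AlgSp

set_option autoImplicit false
universe u
open CategoryTheory CategoryTheory.Limits AlgebraicGeometry
open AlgSp

namespace Groth.Agent.S10687

/-- For morphisms f : X ⟶ Y and g : Y ⟶ Z between algebraic spaces over S whose fibres, and those of f ≫
g, are locally Noetherian, and a point x of |X|: (1) if g is Gorenstein at the image of x and f is
Gorenstein at x itself, then so is f ≫ g at x; (2) if f ≫ g is Gorenstein at x and f is flat there,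
then f is Gorenstein at x and g at the image of x. Here f is Gorenstein at x when in every etale
chart diagram through x the top arrow is Gorenstein at the point over x (flat there, with Gorenstein
local ring of its fibre), and the fibres of a morphism are locally Noetherian when every fibre over
a field point (pullback in fppf sheaves) is a locally Noetherian algebraic space. -/
theorem result {S : Scheme.{u}} {X Y Z : AlgSp.Space S} (f : X ⟶ Y) (g : Y ⟶ Z)
    (hf : ∀ (k : AlgSp.FieldPt Y.obj) (Xk : AlgSp.Sp S) (a : Xk ⟶ X.obj) (b : Xk ⟶ (AlgSp.yon S).obj k.pt),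
        IsPullback a b f.hom k.toHom → AlgSp.IsLocNoethSp Xk)
    (hg : ∀ (k : AlgSp.FieldPt Z.obj) (Xk : AlgSp.Sp S) (a : Xk ⟶ Y.obj) (b : Xk ⟶ (AlgSp.yon S).obj k.pt),
        IsPullback a b g.hom k.toHom → AlgSp.IsLocNoethSp Xk)
    (hfg : ∀ (k : AlgSp.FieldPt Z.obj) (Xk : AlgSp.Sp S) (a : Xk ⟶ X.obj) (b : Xk ⟶ (AlgSp.yon S).obj k.pt),
        IsPullback a b (f ≫ g).hom k.toHom → AlgSp.IsLocNoethSp Xk)
    (x : AlgSp.Points X.obj) :
    (AlgSp.LocPAt (fun h u => Dual3.IsGorensteinAt h u) f.hom x → AlgSp.LocPAt (fun h u => Dual3.IsGorensteinAt h u) g.hom (AlgSp.Points.map f.hom x) →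
        AlgSp.LocPAt (fun h u => Dual3.IsGorensteinAt h u) (f ≫ g).hom x) ∧
      (AlgSp.LocPAt (fun h u => Dual3.IsGorensteinAt h u) (f ≫ g).hom x → AlgSp.IsFlatAtMor f.hom x →
        AlgSp.LocPAt (fun h u => Dual3.IsGorensteinAt h u) f.hom x ∧ AlgSp.LocPAt (fun h u => Dual3.IsGorensteinAt h u) g.hom (AlgSp.Points.map f.hom x)) := by
  open Groth.Agent.Lib.AlgSpace in
  obtain ⟨W, Z', c₁, c₂, k, hc₁, hc₁s, hc₂, -, wg⟩ :=
    Groth.Agent.Lib.AlgSpMor.LocP.exists_chart Y.property Z.property g.hom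
  obtain ⟨U, a, h, ha, has, wf⟩ :=
    Groth.Agent.Lib.AlgSpMor.LocP.exists_chart_over X.property Y.property f.hom hc₁ hc₁s
  obtain ⟨u, rfl⟩ := surjective_ofPt has x
  have wfg : a ≫ (f ≫ g).hom = (AlgSp.yon S).map (h ≫ k) ≫ c₂ := by
    show a ≫ f.hom ≫ g.hom = _
    rw [← Category.assoc, wf, Category.assoc, wg, Functor.map_comp, Category.assoc]
  have hy : AlgSp.Points.map f.hom (AlgSp.Points.ofPt a u) = AlgSp.Points.ofPt c₁ (h.left u) := by
    rw [AlgSp.Points.map_ofPt, wf, ofPt_yon_map_comp]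
  rw [hy, Groth.Agent.Lib.GorenMor.AlgSp.gorAt_iff_chart X.property Y.property ha hc₁ wf u,
    Groth.Agent.Lib.GorenMor.AlgSp.gorAt_iff_chart Y.property Z.property hc₁ hc₂ wg (h.left u),
    Groth.Agent.Lib.GorenMor.AlgSp.gorAt_iff_chart X.property Z.property ha hc₂ wfg u,
    Over.comp_left]
  refine ⟨fun h1 h2 => Groth.Agent.Lib.GorenMor.Comp.isGorensteinAt_comp _ _ u ?_ h1 h2,
    fun h1 hfl => Groth.Agent.Lib.GorenMor.Comp.isGorensteinAt_of_comp _ _ u h1
      (hfl a c₁ h u ha hc₁ wf rfl)⟩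
  have := Groth.Agent.Lib.GorenMor.AlgSp.isLocallyNoetherian_fiber_chart Z.property hfg ha hc₂ wfg
    ((h ≫ k).left u)
  exact this

end Groth.Agent.S10687
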