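import Groth.Statements.S10688
import Groth.Agent.Lib.GorenMor.AlgSp

set_option autoImplicit false
universe u
open CategoryTheory CategoryTheory.Limits AlgebraicGeometry
open AlgSp

namespace Groth.Agent.S10688

/-- For a morphism f : X ⟶ Y between algebraic spaces over S with locally Noetherian fibres, g : Y' ⟶ Y
locally of finite type, f' : X' ⟶ Y' the base change (a pullback square of algebraic spaces) with
projection g' : X' ⟶ X, and x' a point of |X'| with image x: (1) if f is Gorenstein at x then so is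
f' at x'; (2) when f is flat at x, Gorensteinness of f' at x' implies that of f at x; (3) the same
conclusion holds if instead g is flat at the image of x' and f' is Gorenstein at x'. Here f is
Gorenstein at x when in every etale chart diagram through x the top arrow is Gorenstein at the point
over x (flat there, with Gorenstein local ring of its fibre), and the fibres of a morphism are
locally Noetherian when every fibre over a field point (pullback in fppf sheaves) is a locally
Noetherian algebraic space. -/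
theorem result {S : Scheme.{u}} {X Y X' Y' : AlgSp.Space S} (f : X ⟶ Y) (g : Y' ⟶ Y) (g' : X' ⟶ X) (f' : X' ⟶ Y')
    (hsq : IsPullback g'.hom f'.hom f.hom g.hom)
    (hf : ∀ (k : AlgSp.FieldPt Y.obj) (Xk : AlgSp.Sp S) (a : Xk ⟶ X.obj) (b : Xk ⟶ (AlgSp.yon S).obj k.pt),
        IsPullback a b f.hom k.toHom → AlgSp.IsLocNoethSp Xk)
    (hg : AlgSp.LocP @LocallyOfFiniteType g.hom) (x' : AlgSp.Points X'.obj) :
    (AlgSp.LocPAt (fun h u => Dual3.IsGorensteinAt h u) f.hom (AlgSp.Points.map g'.hom x') → AlgSp.LocPAt (fun h u => Dual3.IsGorensteinAt h u) f'.hom x') ∧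
      (AlgSp.IsFlatAtMor f.hom (AlgSp.Points.map g'.hom x') → AlgSp.LocPAt (fun h u => Dual3.IsGorensteinAt h u) f'.hom x' →
        AlgSp.LocPAt (fun h u => Dual3.IsGorensteinAt h u) f.hom (AlgSp.Points.map g'.hom x')) ∧
      (AlgSp.IsFlatAtMor g.hom (AlgSp.Points.map f'.hom x') → AlgSp.LocPAt (fun h u => Dual3.IsGorensteinAt h u) f'.hom x' →
        AlgSp.LocPAt (fun h u => Dual3.IsGorensteinAt h u) f.hom (AlgSp.Points.map g'.hom x')) := by
  open Groth.Agent.Lib.AlgSpace Groth.Agent.Lib.GorenMor in
  obtain ⟨U, V, W₀, T, Q, a, b, c, a', h, t₁, t₂, u₁, u₂, ha, has, hb, -, hc, -, ha', has', ht₂, w, sqT,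
    sqL, w', wa⟩ := Groth.Agent.Lib.AlgSpDecent.RelDimBC.exists_bc_chart X.property Y.property Y'.property hsq
  obtain ⟨z, rfl⟩ := surjective_ofPt has' x'
  have hx : AlgSp.Points.map g'.hom (AlgSp.Points.ofPt a' z) = AlgSp.Points.ofPt a (u₁.left z) := by
    rw [AlgSp.Points.map_ofPt, wa, ofPt_yon_map_comp]
  have hy : AlgSp.Points.map f'.hom (AlgSp.Points.ofPt a' z) =
      AlgSp.Points.ofPt ((AlgSp.yon S).map t₂ ≫ c) (u₂.left z) := by
    rw [AlgSp.Points.map_ofPt, w', Functor.map_comp, Category.assoc, ofPt_yon_map_comp]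
  have hc' : AlgSp.RepWith @Etale ((AlgSp.yon S).map t₂ ≫ c) :=
    haveI := ht₂
    Groth.Agent.Lib.AlgSpMor.LocP.repWith_etale_comp t₂ hc
  haveI : LocallyOfFiniteType t₁.left :=
    hg ((AlgSp.yon S).map t₂ ≫ c) b t₁ hc' hb (by rw [Category.assoc, sqT.w])
  rw [hx, hy, AlgSp.gorAt_iff_chart X.property Y.property ha hb w (u₁.left z),
    AlgSp.gorAt_iff_chart X'.property Y'.property ha' hc w' z, Over.comp_left]
  haveI := ht₂
  rw [Etale.isGorensteinAt_postcomp_iff u₂.left t₂.left z]
  have hN : IsLocallyNoetherian (h.left.fiber (h.left (u₁.left z))) :=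
    AlgSp.isLocallyNoetherian_fiber_chart Y.property hf ha hb w _
  exact ⟨BaseChange.isGorensteinAt_baseChange' sqL z (Or.inl inferInstance),
    fun hfl h1 => BaseChange.isGorensteinAt_of_baseChange sqL z hN (Or.inl inferInstance)
      (hfl a b h (u₁.left z) ha hb w rfl) h1,
    fun hgf h1 => BaseChange.isGorensteinAt_of_baseChange sqL z hN (Or.inl inferInstance)
      (BaseChange.flat_of_baseChange sqL z
        (hgf ((AlgSp.yon S).map t₂ ≫ c) b t₁ (u₂.left z) hc' hb (by rw [Category.assoc, sqT.w]) rfl)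
        h1.1) h1⟩

end Groth.Agent.S10688
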