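import Groth.Statements.S10689
import Groth.Agent.Lib.GorenMor.AlgSp

set_option autoImplicit false
universe u
open CategoryTheory CategoryTheory.Limits AlgebraicGeometry
open AlgSp

namespace Groth.Agent.S10689

/-- For a flat morphism f : X ⟶ Y between algebraic spaces over S which is locally of finite
presentation, the set W of points of |X| at which f is Gorenstein (in every etale chart diagram
through the point the top arrow is flat there with Gorenstein local ring of its fibre) is open in
|X|, and for any morphism of algebraic spaces g : Y' ⟶ Y with base change f' : X' ⟶ Y' and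
projection g' : X' ⟶ X the corresponding set for f' is the inverse image of W under |g'|. -/
theorem result {S : Scheme.{u}} {X Y : AlgSp.Space S} (f : X ⟶ Y)
    (hf1 : AlgSp.LocP @Flat f.hom) (hf2 : AlgSp.LocP @LocallyOfFinitePresentation f.hom) :
    IsOpen {x : AlgSp.Points X.obj | AlgSp.LocPAt (fun h u => Dual3.IsGorensteinAt h u) f.hom x} ∧
      ∀ (X' Y' : AlgSp.Space S) (g : Y' ⟶ Y) (g' : X' ⟶ X) (f' : X' ⟶ Y'), IsPullback g'.hom f'.hom f.hom g.hom →
        {x' : AlgSp.Points X'.obj | AlgSp.LocPAt (fun h u => Dual3.IsGorensteinAt h u) f'.hom x'} =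
          AlgSp.Points.map g'.hom ⁻¹' {x : AlgSp.Points X.obj | AlgSp.LocPAt (fun h u => Dual3.IsGorensteinAt h u) f.hom x} := by
  open Groth.Agent.Lib.AlgSpace Groth.Agent.Lib.GorenMor in
  refine ⟨?_, fun X' Y' g g' f' hsq => ?_⟩
  · obtain ⟨U, V, a, b, h, ha, has, hb, -, w⟩ :=
      Groth.Agent.Lib.AlgSpMor.LocP.exists_chart X.property Y.property f.hom
    haveI : LocallyOfFinitePresentation h.left := hf2 a b h ha hb w
    rw [isOpen_iff_chart ha has]
    convert Local.isOpen_gorensteinLocus h.left using 1
    exact Set.ext fun u => AlgSp.gorAt_iff_chart X.property Y.property ha hb w u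
  · obtain ⟨U, V, W₀, T, Q, a, b, c, a', h, t₁, t₂, u₁, u₂, ha, has, hb, -, hc, -, ha', has', ht₂, w, sqT,
      sqL, w', wa⟩ := Groth.Agent.Lib.AlgSpDecent.RelDimBC.exists_bc_chart X.property Y.property Y'.property hsq
    ext x'
    obtain ⟨z, rfl⟩ := surjective_ofPt has' x'
    haveI : LocallyOfFinitePresentation h.left := hf2 a b h ha hb w
    haveI : Flat h.left := hf1 a b h ha hb w
    simp only [Set.mem_setOf_eq, Set.mem_preimage]
    rw [AlgSp.Points.map_ofPt, wa, ofPt_yon_map_comp,
      AlgSp.gorAt_iff_chart X.property Y.property ha hb w (u₁.left z),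
      AlgSp.gorAt_iff_chart X'.property Y'.property ha' hc w' z, Over.comp_left]
    haveI := ht₂
    rw [Etale.isGorensteinAt_postcomp_iff u₂.left t₂.left z]
    exact ⟨BaseChange.isGorensteinAt_of_baseChange sqL z (BaseChange.isLocallyNoetherian_fiber _)
        (Or.inr inferInstance) (Flat.stalkMap _ _),
      BaseChange.isGorensteinAt_baseChange' sqL z (Or.inr inferInstance)⟩

end Groth.Agent.S10689
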