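import Groth.Statements.S10690
import Groth.Agent.Lib.GorenMor.SpaceFibre

set_option autoImplicit false
universe u
open CategoryTheory CategoryTheory.Limits AlgebraicGeometry
open AlgSp

namespace Groth.Agent.S10690

/-- For a morphism f : X ⟶ Y between algebraic spaces over S whose fibres are locally Noetherian, the
following are equivalent: (1) f is Gorenstein at every point of |X|; (2) f is flat and for some
scheme V with a representable etale surjective b : h_V ⟶ Y every fibre of X ×_Y V ⟶ V over a point v
of V (pullback along the residue field point of v) is a Gorenstein algebraic space (some etale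
surjective scheme chart is a Gorenstein scheme); (3) f is flat and the same holds for every scheme V
with a representable etale b : h_V ⟶ Y. Here f is Gorenstein at x when in every etale chart diagram
through x the top arrow is Gorenstein at the point over x (flat there, with Gorenstein local ring of
its fibre), and the fibres of a morphism are locally Noetherian when every fibre over a field point
(pullback in fppf sheaves) is a locally Noetherian algebraic space. (The published statement also
characterises being Gorenstein at a single point through strict henselizations; that part is stated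
separately and not included here.) -/
theorem result {S : Scheme.{u}} {X Y : AlgSp.Space S} (f : X ⟶ Y)
    (hf : ∀ (k : AlgSp.FieldPt Y.obj) (Xk : AlgSp.Sp S) (a : Xk ⟶ X.obj) (b : Xk ⟶ (AlgSp.yon S).obj k.pt),
        IsPullback a b f.hom k.toHom → AlgSp.IsLocNoethSp Xk) :
    [∀ x : AlgSp.Points X.obj, AlgSp.LocPAt (fun h u => Dual3.IsGorensteinAt h u) f.hom x,
      AlgSp.LocP @Flat f.hom ∧ ∃ (V : Over S) (b : (AlgSp.yon S).obj V ⟶ Y.obj),
        AlgSp.RepWith @Etale b ∧ AlgSp.RepWith @Surjective b ∧
          ∀ (v : ↥V.left) (Xv : AlgSp.Sp S) (a : Xv ⟶ X.obj)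
            (c : Xv ⟶ (AlgSp.yon S).obj (Over.mk (V.left.fromSpecResidueField v ≫ V.hom))),
            IsPullback a c f.hom ((AlgSp.yon S).map (Over.homMk (V.left.fromSpecResidueField v) rfl :
              Over.mk (V.left.fromSpecResidueField v ≫ V.hom) ⟶ V) ≫ b) →
            AlgSp.EtaleLocally Dual3.IsGorenstein Xv,
      AlgSp.LocP @Flat f.hom ∧ ∀ (V : Over S) (b : (AlgSp.yon S).obj V ⟶ Y.obj), AlgSp.RepWith @Etale b →
          ∀ (v : ↥V.left) (Xv : AlgSp.Sp S) (a : Xv ⟶ X.obj)
            (c : Xv ⟶ (AlgSp.yon S).obj (Over.mk (V.left.fromSpecResidueField v ≫ V.hom))),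
            IsPullback a c f.hom ((AlgSp.yon S).map (Over.homMk (V.left.fromSpecResidueField v) rfl :
              Over.mk (V.left.fromSpecResidueField v ≫ V.hom) ⟶ V) ≫ b) →
            AlgSp.EtaleLocally Dual3.IsGorenstein Xv].TFAE := by
  open Groth.Agent.Lib.AlgSpace Groth.Agent.Lib.GorenMor in
  tfae_have 1 → 3 := by
    intro H
    refine ⟨fun {U V₀} a b₀ h ha hb₀ w => (Flat.iff_flat_stalkMap _).2 fun u => (H _ a b₀ h u ha hb₀ w rfl).1,
      fun V b hb v Xv a' c' sqv => ?_⟩
    obtain ⟨U, V₀, a, b₀, h, ha, has, hb₀, -, w⟩ :=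
      Groth.Agent.Lib.AlgSpMor.LocP.exists_chart X.property Y.property f.hom
    obtain ⟨D, d₀, d₁, sqD⟩ := exists_isPullback_yon Y.property.diag b₀ b
    haveI : Etale d₀.left := repWith_property hb sqD.flip
    haveI : Etale d₁.left := repWith_property hb₀ sqD
    have sqh := IsPullback.of_hasPullback h d₀
    have sqQ : IsPullback ((AlgSp.yon S).map (pullback.fst h d₀))
        ((AlgSp.yon S).map (pullback.snd h d₀ ≫ d₁)) (a ≫ f.hom) b := by
      rw [w, Functor.map_comp]
      exact (isPullback_yon sqh).paste_vert sqD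
    refine (SpaceFibre.gorFibre_iff X.property Y.property hf ha has sqQ v Xv sqv).2 ?_
    rw [SpaceFibre.forall_fiber_iff]
    intro q _
    have hq : Dual3.IsGorensteinAt h.left ((pullback.fst h d₀).left q) :=
      H _ a b₀ h _ ha hb₀ w rfl
    have h1 := BaseChange.isGorensteinAt_baseChange' (sqh.map (Over.forget S)) q
      (Or.inl (inferInstanceAs (LocallyOfFiniteType d₀.left))) hq
    exact ((Etale.isGorensteinAt_postcomp_iff (pullback.snd h d₀).left d₁.left q).2 h1).2
  tfae_have 3 → 2 := by
    rintro ⟨hfl, H⟩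
    obtain ⟨V, b, hb, hbs⟩ := Y.property.atlas
    exact ⟨hfl, V, b, hb, hbs, H V b hb⟩
  tfae_have 2 → 1 := by
    rintro ⟨hfl, V, b, hb, hbs, H⟩ x
    obtain ⟨U, a, h, ha, has, w⟩ :=
      Groth.Agent.Lib.AlgSpMor.LocP.exists_chart_over X.property Y.property f.hom hb hbs
    obtain ⟨u, rfl⟩ := surjective_ofPt has x
    obtain ⟨Q, q₀, k, sqQ⟩ := exists_isPullback_yon Y.property.diag (a ≫ f.hom) b
    obtain ⟨s, hs⟩ := (AlgSp.yon S).map_surjective
      (sqQ.lift (𝟙 _) ((AlgSp.yon S).map h) (by rw [Category.id_comp]; exact w))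
    have hs1 : s ≫ q₀ = 𝟙 U := (AlgSp.yon S).map_injective
      (by rw [Functor.map_comp, hs, sqQ.lift_fst, CategoryTheory.Functor.map_id])
    have hs2 : s ≫ k = h := (AlgSp.yon S).map_injective
      (by rw [Functor.map_comp, hs, sqQ.lift_snd])
    haveI : Etale q₀.left := repWith_property hb sqQ.flip
    haveI : Etale s.left := by
      haveI : Etale (s.left ≫ q₀.left) := by rw [← Over.comp_left, hs1, Over.id_left]; infer_instance
      exact Etale.of_comp s.left q₀.left
    let T : Over S := Over.mk (V.left.fromSpecResidueField (k.left (s.left u)) ≫ V.hom)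
    let g : (AlgSp.yon S).obj T ⟶ Y.obj :=
      (AlgSp.yon S).map (Over.homMk (V.left.fromSpecResidueField (k.left (s.left u))) rfl : T ⟶ V) ≫ b
    have sqv := IsPullback.of_hasPullback f.hom g
    have hz := (SpaceFibre.forall_fiber_iff k.left _).1
      ((SpaceFibre.gorFibre_iff X.property Y.property hf ha has sqQ _ _ sqv).1 (H _ _ _ _ sqv))
      (s.left u) rfl
    haveI : Flat k.left := hfl ((AlgSp.yon S).map q₀ ≫ a) b k
      (Groth.Agent.Lib.AlgSpMor.LocP.repWith_etale_comp q₀ ha) hb
      (by rw [Category.assoc]; exact sqQ.w)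
    refine AlgSp.gorAt_of_chart X.property Y.property ha hb w u ?_
    rw [← hs2, Over.comp_left]
    exact (Etale.isGorensteinAt_precomp_iff s.left k.left u).2 ⟨Flat.stalkMap _ _, hz⟩
  tfae_finish

end Groth.Agent.S10690
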