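import Groth.Statements.S10691
import Groth.Agent.Lib.GorenMor.Space

set_option autoImplicit false
universe u
open CategoryTheory CategoryTheory.Limits AlgebraicGeometry
open AlgSp

namespace Groth.Agent.S10691

/-- For locally Noetherian algebraic spaces X, Y over S and a flat morphism f : X ⟶ Y, with X Gorenstein
(some etale surjective scheme chart is a Gorenstein scheme): f is Gorenstein at every point of |X|,
and for every point x of |X| the etale local ring of Y at a geometric point over f(x), presented as
a strict henselization R of the local ring of an etale scheme chart V of Y at a point v over f(x),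
is a Gorenstein local ring. Here f is Gorenstein at x when in every etale chart diagram through x
the top arrow is Gorenstein at the point over x (flat there, with Gorenstein local ring of its
fibre), and the fibres of a morphism are locally Noetherian when every fibre over a field point
(pullback in fppf sheaves) is a locally Noetherian algebraic space. -/
theorem result {S : Scheme.{u}} {X Y : AlgSp.Space S} (f : X ⟶ Y) (hf : AlgSp.LocP @Flat f.hom)
    (hX1 : AlgSp.IsLocNoethSp X.obj) (hY1 : AlgSp.IsLocNoethSp Y.obj)
    (hX2 : AlgSp.EtaleLocally Dual3.IsGorenstein X.obj) :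
    (∀ x : AlgSp.Points X.obj, AlgSp.LocPAt (fun h u => Dual3.IsGorensteinAt h u) f.hom x) ∧
      ∀ (x : AlgSp.Points X.obj) (V : Over S) (b : (AlgSp.yon S).obj V ⟶ Y.obj), AlgSp.RepWith @Etale b →
        ∀ (v : ↥V.left), AlgSp.Points.ofPt b v = AlgSp.Points.map f.hom x →
          ∀ (R : Type u) [CommRing R] [IsLocalRing R] [Algebra ↥(V.left.presheaf.stalk v) R]
            [IsLocalHom (algebraMap ↥(V.left.presheaf.stalk v) R)]
            [Hensel.IsStrictHenselization ↥(V.left.presheaf.stalk v) R],
            LocCoh.IsGorensteinLocalRing R := by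
  open Groth.Agent.Lib.AlgSpace Groth.Agent.Lib.GorenMor in
  obtain ⟨U, V₀, a, b₀, h, ha, has, hb₀, -, w⟩ :=
    Groth.Agent.Lib.AlgSpMor.LocP.exists_chart X.property Y.property f.hom
  haveI : IsLocallyNoetherian V₀.left :=
    Groth.Agent.Lib.AlgSpDecent.CodimOneSp.isLocallyNoetherian_chart hY1 hb₀
  haveI : Flat h.left := hf a b₀ h ha hb₀ w
  have hU := Groth.Agent.Lib.GorenMor.Space.gor_chart X.property hX2 ha
  have key := fun u => Groth.Agent.Lib.GorenMor.Space.gorAt_of_flat h.left u (hU.2 u) (Flat.stalkMap _ u)
  refine ⟨fun x => ?_, fun x V b hb v hv R _ _ _ _ _ => ?_⟩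
  · obtain ⟨u, rfl⟩ := Groth.Agent.Lib.AlgSpace.surjective_ofPt has x
    exact Groth.Agent.Lib.GorenMor.AlgSp.gorAt_of_chart X.property Y.property ha hb₀ w u (key u).1
  · obtain ⟨u, rfl⟩ := Groth.Agent.Lib.AlgSpace.surjective_ofPt has x
    rw [AlgSp.Points.map_ofPt, w, Groth.Agent.Lib.AlgSpace.ofPt_yon_map_comp] at hv
    obtain ⟨W, r, r', sq⟩ := Groth.Agent.Lib.AlgSpace.exists_isPullback_yon Y.property.diag b b₀
    haveI : Etale r.left := Groth.Agent.Lib.AlgSpace.repWith_property hb₀ sq.flip
    haveI : Etale r'.left := Groth.Agent.Lib.AlgSpace.repWith_property hb sq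
    haveI : IsLocallyNoetherian V.left :=
      Groth.Agent.Lib.AlgSpDecent.CodimOneSp.isLocallyNoetherian_chart hY1 hb
    obtain ⟨z, rfl, hz⟩ := (Groth.Agent.Lib.AlgSpace.ofPt_eq_ofPt_iff_of_isPullback sq v (h.left u)).1 hv
    have hW := (Groth.Agent.Lib.GorenMor.Space.gor_stalk_iff_of_etale r'.left z).2 (hz ▸ (key u).2)
    exact Groth.Agent.Lib.GorenMor.Space.gor_strictHenselization _ R
      ((Groth.Agent.Lib.GorenMor.Space.gor_stalk_iff_of_etale r.left z).1 hW)

end Groth.Agent.S10691
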