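import Groth.Statements.S10692
import Groth.Agent.Lib.AlgSpDecent.FibreDimPts

set_option autoImplicit false
universe u
open CategoryTheory CategoryTheory.Limits AlgebraicGeometry
open AlgSp

namespace Groth.Agent.S10692

open Groth.Agent.Lib.AlgSpace Groth.Agent.Lib.AlgSpDecent

/-- For a proper flat morphism f : X ⟶ Y between algebraic spaces over S which is of finite
presentation, the fibre dimension function on |Y| is locally constant: for every d the set of y such
that every fibre X_k over y (k a field point in the class of y, X_k any pullback in fppf sheaves)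
has dimension exactly d is open. -/
theorem result {S : Scheme.{u}} {X Y : AlgSp.Space S} (f : X ⟶ Y) (hf1 : AlgSp.IsProperMor f.hom)
    (hf2 : AlgSp.LocP @Flat f.hom) (hf3 : AlgSp.IsFinitePresentationMor f.hom) (d : WithBot ℕ∞) :
    IsOpen {y : AlgSp.Points Y.obj | ∀ (k : AlgSp.FieldPt Y.obj), AlgSp.Points.mk k = y →
      ∀ (Xk : AlgSp.Sp S) (fst : Xk ⟶ X.obj) (snd : Xk ⟶ (AlgSp.yon S).obj k.pt),
        IsPullback fst snd f.hom k.toHom → AlgSp.dim Xk = d} := by
  have hft : AlgSp.LocP @LocallyOfFiniteType f.hom := hf1.2.1.1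
  rw [isOpen_iff_forall_mem_open]
  intro y hy
  obtain ⟨k, rfl⟩ := AlgSp.Points.mk_surjective y
  have hd := hy k rfl _ _ _ (IsPullback.of_hasPullback f.hom k.toHom)
  have hle := FibreDimPts.isOpen_dim_le X.property Y.property hft
    (Groth.Agent.Lib.AlgSpMor.Proper.isClosedMap_of_isUnivClosedMor Y.property hf1.2.2) d
  induction d using WithBot.recBotCoe with
  | bot =>
    refine ⟨_, ?_, hle, fun k hk Xk fst snd sq => (hy k hk Xk fst snd sq).le⟩
    exact fun y hy k hk Xk fst snd sq => le_bot_iff.1 (hy k hk Xk fst snd sq)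
  | coe d =>
    obtain ⟨c, hc⟩ : ∃ c : WithBot ℕ∞, ∀ e : WithBot ℕ∞, c < e ↔ (d : WithBot ℕ∞) ≤ e := by
      induction d using ENat.recTopCoe with
      | top =>
        obtain ⟨n, hn⟩ := FibreDimPts.exists_dim_le X.property Y.property hft hf1.2.1.2 (AlgSp.Points.mk k)
        have h := hd.ge.trans (hn k rfl _ _ _ (IsPullback.of_hasPullback f.hom k.toHom))
        exact absurd (WithBot.coe_le_coe.1 h) (not_le_of_gt (ENat.natCast_lt_top n))
      | coe n =>
        cases n with
        | zero => exact ⟨⊥, fun e => Groth.Agent.Lib.AlgSpDecent.FibreDimPts.bot_lt_iff e⟩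
        | succ n => exact ⟨(n : WithBot ℕ∞), fun e => Groth.Agent.Lib.AlgSpDecent.FibreDimPts.natCast_lt_iff e n⟩
    refine ⟨_, ?_, hle.inter (FibreDimPts.isOpen_lt_dim X.property Y.property hf2 hf3.1 c),
      fun k hk Xk fst snd sq => (hy k hk Xk fst snd sq).le,
      fun k hk Xk fst snd sq => (hc _).2 (hy k hk Xk fst snd sq).ge⟩
    exact fun y hy' k hk Xk fst snd sq =>
      le_antisymm (hy'.1 k hk Xk fst snd sq) ((hc _).1 (hy'.2 k hk Xk fst snd sq))

end Groth.Agent.S10692
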