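import Groth.Statements.S10702
import Groth.Agent.Lib.AlgSpace.OpenSubExists
-- import your own Groth.Agent.* helpers here

set_option autoImplicit false
universe u
open CategoryTheory CategoryTheory.Limits AlgebraicGeometry
open AlgSp

set_option linter.style.haveILetI false
open Groth.Agent.Lib.AlgSpace

namespace Groth.Agent.S10702

/-- Consider a commutative diagram of algebraic spaces over `S` with top row `A → C → E`, bottom row `B
→ D → F` and vertical maps `A → B`, `C → D`, `E → F`. If the left square and the outer rectangle are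
cartesian and `B → D` is surjective etale, then the right square is cartesian. -/
theorem result {S : Scheme.{u}} {A B C D E F : AlgSp.Space S} (ac : A ⟶ C) (ab : A ⟶ B)
    (cd : C ⟶ D) (bd : B ⟶ D) (ce : C ⟶ E) (df : D ⟶ F) (ef : E ⟶ F)
    (hl : IsPullback ac.hom ab.hom cd.hom bd.hom) (hcomm : cd ≫ df = ce ≫ ef)
    (hout : IsPullback (ac ≫ ce).hom ab.hom ef.hom (bd ≫ df).hom) (hsurj : AlgSp.IsSurjectiveMor bd.hom)
    (het : AlgSp.IsEtaleMor bd.hom) : IsPullback ce.hom cd.hom ef.hom df.hom := by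
  obtain ⟨U, q, hq, hqs⟩ := B.property.atlas
  have hqb : RepWith @Etale (q ≫ bd.hom) := het q hq
  haveI := isLocallySurjective_of_etale hqb (repWith_surjective_of_points hqb.rep fun y ↦ by
    obtain ⟨z, rfl⟩ := hsurj y
    obtain ⟨v, rfl⟩ := surjective_ofPt hqs z
    exact ⟨Points.ofPt (𝟙 _) v, by
      rw [Points.map_ofPt, Category.id_comp, Points.map_ofPt]⟩)
  have hlift : ∀ {T : Over S} (y : (yon S).obj T ⟶ D.obj), ∃ (T' : Over S) (p : T' ⟶ T)
      (β : (yon S).obj T' ⟶ B.obj),
      fppfCover p.left ∧ β ≫ bd.hom = (yon S).map p ≫ y := fun y ↦ by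
    obtain ⟨T', p, β, hp, h⟩ := exists_lift_of_isLocallySurjective (q ≫ bd.hom) y
    exact ⟨T', p, β ≫ q, hp, by rw [Category.assoc, h]⟩
  have inj : ∀ (T : Over S) (c c' : (yon S).obj T ⟶ C.obj),
      c ≫ ce.hom = c' ≫ ce.hom → c ≫ cd.hom = c' ≫ cd.hom → c = c' := by
    intro T c c' h1 h2
    obtain ⟨T', p, β, hp, hβ⟩ := hlift (c ≫ cd.hom)
    haveI := epi_yon_map p hp
    rw [← cancel_epi ((yon S).map p)]
    have e1 : ((yon S).map p ≫ c) ≫ cd.hom = β ≫ bd.hom := by rw [hβ, Category.assoc]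
    have e2 : ((yon S).map p ≫ c') ≫ cd.hom = β ≫ bd.hom := by rw [hβ, Category.assoc, h2]
    have e : hl.lift _ _ e1 = hl.lift _ _ e2 := by
      apply hout.hom_ext
      · rw [InducedCategory.comp_hom, ← Category.assoc, ← Category.assoc, hl.lift_fst, hl.lift_fst,
          Category.assoc, Category.assoc, h1]
      · rw [hl.lift_snd, hl.lift_snd]
    rw [← hl.lift_fst _ _ e1, e, hl.lift_fst]
  have w : ce.hom ≫ ef.hom = cd.hom ≫ df.hom := by
    rw [← InducedCategory.comp_hom, ← InducedCategory.comp_hom, hcomm]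
  refine isPullback_of_yon w inj fun T x y e ↦ ?_
  obtain ⟨T', p, β, hp, hβ⟩ := hlift y
  have e' : ((yon S).map p ≫ x) ≫ ef.hom = β ≫ (bd ≫ df).hom := by
    rw [InducedCategory.comp_hom, ← Category.assoc β, hβ, Category.assoc, Category.assoc, e]
  let c₁ := hout.lift _ _ e' ≫ ac.hom
  have hc1 : c₁ ≫ ce.hom = (yon S).map p ≫ x := by
    rw [Category.assoc, ← InducedCategory.comp_hom, hout.lift_fst]
  have hc2 : c₁ ≫ cd.hom = (yon S).map p ≫ y := by
    rw [Category.assoc, hl.w, ← Category.assoc, hout.lift_snd, hβ]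
  haveI := isLocallySurjective_yon_map p hp
  have sqp := isPullback_yon (IsPullback.of_hasPullback p p)
  obtain ⟨c, hc⟩ := exists_desc ((yon S).map p) sqp c₁ (inj _ _ _
    (by simp only [Category.assoc, hc1]; rw [reassoc_of% sqp.w])
    (by simp only [Category.assoc, hc2]; rw [reassoc_of% sqp.w]))
  haveI := epi_yon_map p hp
  exact ⟨c, by rw [← cancel_epi ((yon S).map p), ← Category.assoc, hc, hc1],
    by rw [← cancel_epi ((yon S).map p), ← Category.assoc, hc, hc2]⟩

end Groth.Agent.S10702
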