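import Groth.Statements.S10705
import Groth.Agent.Lib.AlgSpModif.Cover
import Groth.Agent.S10532

set_option autoImplicit false
universe u
open CategoryTheory CategoryTheory.Limits AlgebraicGeometry
open AlgSp

namespace Groth.Agent.S10705

/-- Let `f : Y → X` be a quasi-compact quasi-separated morphism of algebraic spaces over `S`, `i : Z →
X` a closed immersion of finite presentation such that `f⁻¹Z → Z` is an isomorphism and `f` is flat
at every point of `|f⁻¹Z|`, and let `U ⊂ X` be the open subspace complementary to `Z`. Let `a : X₁ →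
X₂` be a morphism of algebraic spaces over `X`. If the base change of `a` to `U` and the base change
of `a` to `Y` are isomorphisms, then `a` is an isomorphism: the formal glueing functor reflects
isomorphisms. -/
theorem result {S : Scheme.{u}} {X Y Z FZ U : AlgSp.Space S} (f : Y ⟶ X)
    (hqc : AlgSp.IsQuasiCompactMor f.hom) (hqs : AlgSp.IsQuasiSeparatedMor f.hom) (i : Z ⟶ X)
    (hi : AlgSp.RepWith @IsClosedImmersion i.hom) (hifp : AlgSp.LocP @LocallyOfFinitePresentation i.hom)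
    (iY : FZ ⟶ Y) (fZ : FZ ⟶ Z) (hFZ : IsPullback iY.hom fZ.hom f.hom i.hom) [IsIso fZ]
    (hflat : ∀ y ∈ Set.range (AlgSp.Points.map iY.hom), AlgSp.IsFlatAtMor f.hom y) (j : U ⟶ X)
    (hj : AlgSp.RepWith @IsOpenImmersion j.hom)
    (hU : Set.range (AlgSp.Points.map j.hom) = (Set.range (AlgSp.Points.map i.hom))ᶜ)
    {X₁ X₂ QU QU₁ QY QY₁ : AlgSp.Space S} (p₂ : X₂ ⟶ X) (a : X₁ ⟶ X₂)
    (qU : QU ⟶ X₂) (rU : QU ⟶ U) (hQU : IsPullback qU.hom rU.hom p₂.hom j.hom) (aU : QU₁ ⟶ QU)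
    (bU : QU₁ ⟶ X₁) (hQU₁ : IsPullback bU.hom aU.hom a.hom qU.hom) [IsIso aU] (qY : QY ⟶ X₂) (rY : QY ⟶ Y)
    (hQY : IsPullback qY.hom rY.hom p₂.hom f.hom) (aY : QY₁ ⟶ QY) (bY : QY₁ ⟶ X₁)
    (hQY₁ : IsPullback bY.hom aY.hom a.hom qY.hom) [IsIso aY] : IsIso a := by
  haveI : IsIso aU.hom := (ObjectProperty.ι _).map_isIso aU
  haveI : IsIso aY.hom := (ObjectProperty.ι _).map_isIso aY
  obtain ⟨ι, W, w, ⟨hflatw, hcov⟩, hfac⟩ :=
    Groth.Agent.Lib.AlgSpModif.exists_fpqc_cover f hqc i hi hifp iY fZ hFZ hflat j hj hU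
  have hP : ∀ k, AlgSp.IsAlgSpace (pullback (w k).hom p₂.hom) := fun k ↦
    Groth.Agent.Lib.AlgSpace.isAlgSpace_of_isPullback (IsPullback.of_hasPullback _ _)
      X.property.diag (W k).property X₂.property
  have hP1 : ∀ k, AlgSp.IsAlgSpace (pullback a.hom (pullback.snd (w k).hom p₂.hom)) := fun k ↦
    Groth.Agent.Lib.AlgSpace.isAlgSpace_of_isPullback (IsPullback.of_hasPullback _ _)
      X₂.property.diag X₁.property (hP k)
  have hcov' : AlgSp.IsFpqcCover (fun k ↦ pullback (w k).hom p₂.hom)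
      (fun k ↦ pullback.snd (w k).hom p₂.hom) := by
    refine ⟨fun k ↦ Groth.Agent.Lib.AlgSpMor.LocP.locP_of_isPullback
      Groth.Agent.Lib.SourceDescent.Scheme.flat (W k).property X.property X₂.property
      (IsPullback.of_hasPullback _ _) (hflatw k), fun Z₀ hZ₀ h ↦ ?_⟩
    obtain ⟨n, V, c, hV, hc, hs, hl⟩ := hcov Z₀ hZ₀ (h ≫ p₂.hom)
    refine ⟨n, V, c, hV, hc, hs, fun m ↦ ?_⟩
    obtain ⟨k, l, e⟩ := hl m
    exact ⟨k, pullback.lift l ((AlgSp.yon S).map (c m) ≫ h) (by rw [Category.assoc]; exact e),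
      pullback.lift_snd _ _ _⟩
  have hiso : IsIso a.hom := by
    refine ((Groth.Agent.S10532.result S) (fun k ↦ pullback (w k).hom p₂.hom)
      (fun k ↦ pullback.snd (w k).hom p₂.hom) X₂.property hP hcov' a.hom X₁.property
      (fun k ↦ pullback a.hom (pullback.snd (w k).hom p₂.hom))
      (fun k ↦ pullback.snd _ _) (fun k ↦ pullback.fst _ _) hP1
      (fun k ↦ IsPullback.of_hasPullback _ _)).2 fun k ↦ ?_
    show IsIso (pullback.snd a.hom (pullback.snd (w k).hom p₂.hom))
    have key : ∀ {A A₁ : AlgSp.Sp S} {qA : A ⟶ X₂.obj} {bA : A₁ ⟶ X₁.obj} {aA : A₁ ⟶ A}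
        (_ : IsPullback bA aA a.hom qA) [IsIso aA] (n : pullback (w k).hom p₂.hom ⟶ A),
        n ≫ qA = pullback.snd (w k).hom p₂.hom →
        IsIso (pullback.snd a.hom (pullback.snd (w k).hom p₂.hom)) := by
      intro A A₁ qA bA aA sq _ n hn
      have sq0 := IsPullback.of_hasPullback a.hom (pullback.snd (w k).hom p₂.hom)
      have big : IsPullback (pullback.fst a.hom (pullback.snd (w k).hom p₂.hom))
          (pullback.snd a.hom (pullback.snd (w k).hom p₂.hom)) a.hom (n ≫ qA) := by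
        rw [hn]; exact sq0
      exact (IsPullback.of_right' big sq).isIso_snd_of_isIso
    rcases hfac k with ⟨m, hm⟩ | ⟨m, hm⟩
    · exact key hQU₁ (hQU.lift (pullback.snd _ _) (pullback.fst _ _ ≫ m.hom) (by
        rw [Category.assoc, show m.hom ≫ j.hom = (w k).hom from congr($(hm).hom)]
        exact pullback.condition.symm)) (hQU.lift_fst _ _ _)
    · exact key hQY₁ (hQY.lift (pullback.snd _ _) (pullback.fst _ _ ≫ m.hom) (by
        rw [Category.assoc, show m.hom ≫ f.hom = (w k).hom from congr($(hm).hom)]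
        exact pullback.condition.symm)) (hQY.lift_fst _ _ _)
  haveI : IsIso ((ObjectProperty.ι _).map a) := hiso
  exact isIso_of_reflects_iso a (ObjectProperty.ι _)

end Groth.Agent.S10705
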