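import Groth.Statements.S10706
import Groth.Agent.Lib.AlgSpGlue.Basic
import Groth.Agent.Lib.AlgSpace.Points

set_option autoImplicit false
universe u
open CategoryTheory CategoryTheory.Limits AlgebraicGeometry TensorProduct
open AlgSp

namespace Groth.Agent.S10706

/-- Glueability of an affine scheme etale over `Y` covered by glueable charts. -/
theorem torsInj_of_cover {R : Type u} [CommRing R] {R' : Type u} [CommRing R'] [Algebra R R'] {f : R}
    {Y : Sp (Spec (CommRingCat.of R))} {ι : Type u} {A : ι → Type u} [∀ k, CommRing (A k)] [∀ k, Algebra R (A k)]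
    (g : ∀ k, (AlgSp.yon (Spec (CommRingCat.of R))).obj (Over.mk (Spec.map (CommRingCat.ofHom (algebraMap R (A k)))) : Over (Spec (CommRingCat.of R))) ⟶ Y)
    (hg : ∀ k, AlgSp.RepWith @Etale (g k)) (hcov : ∀ y : AlgSp.Points Y, ∃ k, y ∈ Set.range (AlgSp.Points.map (g k)))
    (hA : ∀ k, Lib.AlgSpGlue.TorsInj R R' f (A k)) (B : Type u) [CommRing B] [Algebra R B]
    (h : (AlgSp.yon (Spec (CommRingCat.of R))).obj (Over.mk (Spec.map (CommRingCat.ofHom (algebraMap R B))) : Over (Spec (CommRingCat.of R))) ⟶ Y)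
    (hh : AlgSp.RepWith @Etale h) : Lib.AlgSpGlue.TorsInj R R' f B := by
  rintro m ⟨n, hn⟩ hm
  refine Lib.AlgSpGlue.eq_zero_of_flat_cover m fun p => ?_
  obtain ⟨k, z, hz⟩ := hcov (Points.ofPt h p)
  rw [← Points.ofScheme_toScheme _ z, ← Points.ofPt_eq_map_ofScheme] at hz
  obtain ⟨V, snd, fst, sq, hsnd⟩ := Lib.AlgSpace.repWith_exists (hg k) h
  obtain ⟨fst, rfl⟩ := (yon _).map_surjective fst
  obtain ⟨r, hr1, hr2⟩ := (Lib.AlgSpace.ofPt_eq_ofPt_iff_of_isPullback sq _ p).1 hz
  have hfst : Etale fst.left := Lib.AlgSpace.repWith_property hh sq.flip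
  obtain ⟨W, hW, hrW, -⟩ := exists_isAffineOpen_mem_and_subset (X := V.left) (x := r) (U := ⊤) trivial
  haveI : Etale snd.left := hsnd
  obtain ⟨α, hα⟩ := Spec.map_surjective (hW.fromSpec ≫ snd.left : Spec Γ(V.left, W) ⟶ Spec (CommRingCat.of B))
  obtain ⟨β, hβ⟩ := Spec.map_surjective (hW.fromSpec ≫ fst.left : Spec Γ(V.left, W) ⟶ Spec (CommRingCat.of (A k)))
  have hα' : α.hom.Flat := (HasRingHomProperty.Spec_iff (P := @Flat)).1 (hα ▸ inferInstance)
  have hβ' : β.hom.Flat := (HasRingHomProperty.Spec_iff (P := @Flat)).1 (hβ ▸ inferInstance)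
  refine ⟨Γ(V.left, W), inferInstance, α.hom, hα', ?_, ?_⟩
  · obtain ⟨q, hq⟩ : r ∈ Set.range hW.fromSpec := by rw [hW.range_fromSpec]; exact hrW
    refine ⟨q, ?_⟩
    show Spec.map α q = p
    rw [hα, Scheme.Hom.comp_apply, hq, hr2]
  · letI : Algebra R Γ(V.left, W) := (α.hom.comp (algebraMap R B)).toAlgebra
    letI := β.hom.toAlgebra
    have hR : β.hom.comp (algebraMap R (A k)) = α.hom.comp (algebraMap R B) := by
      have : CommRingCat.ofHom (algebraMap R (A k)) ≫ β = CommRingCat.ofHom (algebraMap R B) ≫ α := by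
        apply Spec.map_injective
        rw [Spec.map_comp, Spec.map_comp, hα, hβ, Category.assoc, Category.assoc]
        exact congrArg (hW.fromSpec ≫ ·) ((Over.w fst).trans (Over.w snd).symm)
      exact congrArg CommRingCat.Hom.hom this
    haveI : IsScalarTower R (A k) Γ(V.left, W) :=
      IsScalarTower.of_algebraMap_eq fun x => (RingHom.congr_fun hR x).symm
    haveI : Module.Flat (A k) Γ(V.left, W) := hβ'
    let αₐ : B →ₐ[R] Γ(V.left, W) := { α.hom with commutes' := fun _ => rfl }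
    refine Lib.AlgSpGlue.torsion_eq_zero_of_flat (A := A k) (hA k) (αₐ m) ⟨n, ?_⟩ ?_
    · rw [← map_smul, hn, map_zero]
    · have := congrArg (Algebra.TensorProduct.map (AlgHom.id R R') αₐ) hm
      simpa using this

/-- Let `(R → R', f)` be a glueing pair and `Y` an algebraic space over `Spec R`. The following are
equivalent: (1) there is an etale covering of `Y` by affine schemes `Spec A_k` with every `A_k`
glueable as an `R`-module; (2) for every affine scheme `Spec A` etale over `Y`, the `R`-module `A`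
is glueable. -/
theorem result (R : Type u) [CommRing R] (R' : Type u) [CommRing R'] [Algebra R R']
    (f : R) (hRR' : EtGlue.IsGlueingPair R R' f) (Y : AlgSp.Space (Spec (CommRingCat.of R))) :
    (∃ (ι : Type u) (A : ι → Type u) (_ : ∀ k, CommRing (A k)) (_ : ∀ k, Algebra R (A k))
        (g : ∀ k, (AlgSp.yon (Spec (CommRingCat.of R))).obj (Over.mk (Spec.map (CommRingCat.ofHom (algebraMap R (A k)))) : Over (Spec (CommRingCat.of R))) ⟶ Y.obj),
        (∀ k, AlgSp.RepWith @Etale (g k)) ∧ (∀ y : AlgSp.Points Y.obj, ∃ k, y ∈ Set.range (AlgSp.Points.map (g k))) ∧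
          ∀ k, EtGlue.IsGlueable R R' f (A k)) ↔
      (∀ (A : Type u) [CommRing A] [Algebra R A]
      (g : (AlgSp.yon (Spec (CommRingCat.of R))).obj (Over.mk (Spec.map (CommRingCat.ofHom (algebraMap R A))) : Over (Spec (CommRingCat.of R))) ⟶ Y.obj),
      AlgSp.RepWith @Etale g → EtGlue.IsGlueable R R' f A) := by
  constructor
  · rintro ⟨ι, A, hc, ha, g, hg, hcov, hA⟩ B _ _ h hh
    letI := hc
    letI := ha
    exact (Lib.AlgSpGlue.glueable_iff hRR').2 (torsInj_of_cover g hg hcov
      (fun k => (Lib.AlgSpGlue.glueable_iff hRR').1 (hA k)) B h hh)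
  · intro H
    obtain ⟨-, U, p, hpe, hps⟩ := Y.property
    let j : ∀ W : U.left.affineOpens, Spec Γ(U.left, W.1) ⟶ U.left := fun W => W.2.fromSpec
    let φ : ∀ W : U.left.affineOpens, CommRingCat.of R ⟶ Γ(U.left, W.1) := fun W => Spec.preimage (j W ≫ U.hom)
    letI : ∀ W : U.left.affineOpens, Algebra R Γ(U.left, W.1) := fun W => (φ W).hom.toAlgebra
    have hφ : ∀ W, j W ≫ U.hom = Spec.map (CommRingCat.ofHom (algebraMap R Γ(U.left, W.1))) :=
      fun W => (Spec.map_preimage _).symm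
    let e : ∀ W : U.left.affineOpens, (Over.mk (Spec.map (CommRingCat.ofHom (algebraMap R Γ(U.left, W.1)))) : Over (Spec (CommRingCat.of R))) ⟶ U :=
      fun W => Over.homMk (j W) (hφ W)
    have hg : ∀ W, RepWith @Etale ((yon _).map (e W) ≫ p) := fun W =>
      Lib.AlgSpace.repWith_yon_map_comp (P := @Etale) (inferInstanceAs (Etale W.2.fromSpec)) hpe
    refine ⟨U.left.affineOpens, fun W => Γ(U.left, W.1), fun _ => inferInstance, this, fun W => (yon _).map (e W) ≫ p,
      hg, fun y => ?_, fun W => H _ _ (hg W)⟩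
    obtain ⟨x, rfl⟩ := Lib.AlgSpace.surjective_ofPt hps y
    obtain ⟨W, hW, hxW, -⟩ := exists_isAffineOpen_mem_and_subset (X := U.left) (x := x) (U := ⊤) trivial
    obtain ⟨q, rfl⟩ : x ∈ Set.range hW.fromSpec := by rw [hW.range_fromSpec]; exact hxW
    refine ⟨⟨W, hW⟩, Points.ofScheme _ q, ?_⟩
    rw [← Points.ofPt_eq_map_ofScheme, Lib.AlgSpace.ofPt_yon_map_comp]
    rfl

end Groth.Agent.S10706
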