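import Groth.Statements.S10707
import Groth.Agent.Lib.AlgSpGlue.Basic
import Groth.Agent.Lib.AlgSpGlue.Section
import Groth.Agent.Lib.AlgSpace.DescendRep
import Groth.Agent.Lib.AlgSpace.Points

set_option autoImplicit false
universe u
open CategoryTheory CategoryTheory.Limits AlgebraicGeometry TensorProduct
open AlgSp

namespace Groth.Agent.S10707

/-- The points of `V(f)` lift to `R' ⊗ A`. -/
theorem exists_lift_prime {R : Type u} [CommRing R] {R' : Type u} [CommRing R'] [Algebra R R'] {f : R}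
    (hq : EtGlue.QuotPowBijective R R' f) {A : Type u} [CommRing A] [Algebra R A] (p : PrimeSpectrum A)
    (hp : algebraMap R A f ∈ p.asIdeal) :
    ∃ q : PrimeSpectrum (R' ⊗[R] A), PrimeSpectrum.comap
      (Algebra.TensorProduct.includeRight : A →ₐ[R] R' ⊗[R] A).toRingHom q = p := by
  let I : Ideal R := Ideal.span {f ^ 1}
  let π : A →ₐ[R] A ⧸ p.asIdeal := Ideal.Quotient.mkₐ R p.asIdeal
  have hI : ∀ a ∈ I, algebraMap R (A ⧸ p.asIdeal) a = 0 := by
    intro a ha
    obtain ⟨c, rfl⟩ := Ideal.mem_span_singleton'.1 ha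
    rw [map_mul, pow_one, IsScalarTower.algebraMap_apply R A (A ⧸ p.asIdeal) f,
      Ideal.Quotient.algebraMap_eq, Ideal.Quotient.eq_zero_iff_mem.2 hp, mul_zero]
  let e₁ := RingEquiv.ofBijective _ (hq 1 one_pos)
  let β₀ : R' →+* A ⧸ p.asIdeal :=
    (Ideal.Quotient.lift I (algebraMap R (A ⧸ p.asIdeal)) hI).comp (e₁.symm.toRingHom.comp (Ideal.Quotient.mk (Ideal.map (algebraMap R R') (Ideal.span {f ^ 1}))))
  let β : R' →ₐ[R] A ⧸ p.asIdeal := AlgHom.mk β₀ fun r => by
        have : e₁.symm (Ideal.Quotient.mk (Ideal.map (algebraMap R R') (Ideal.span {f ^ 1})) (algebraMap R R' r)) = Ideal.Quotient.mk I r := by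
          rw [RingEquiv.symm_apply_eq]
          rfl
        show Ideal.Quotient.lift I _ hI (e₁.symm (Ideal.Quotient.mk (Ideal.map (algebraMap R R') (Ideal.span {f ^ 1})) (algebraMap R R' r))) = _
        rw [this, Ideal.Quotient.lift_mk]
  let ψ := Algebra.TensorProduct.lift β π (fun _ _ => Commute.all _ _)
  refine ⟨⟨RingHom.ker ψ.toRingHom, RingHom.ker_isPrime _⟩, PrimeSpectrum.ext ?_⟩
  ext a
  show ψ ((1 : R') ⊗ₜ[R] a) = 0 ↔ _
  rw [Algebra.TensorProduct.lift_tmul, map_one, _root_.one_mul]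
  exact Ideal.Quotient.eq_zero_iff_mem

/-- Maps to the terminal scheme over the base are unique. -/
theorem hom_terminal_ext {S : Scheme.{u}} {T : Over S} (x y : (yon S).obj T ⟶ (yon S).obj (Over.mk (𝟙 _))) : x = y := by
  obtain ⟨x, rfl⟩ := (yon S).map_surjective x
  obtain ⟨y, rfl⟩ := (yon S).map_surjective y
  congr 1
  apply Over.OverMorphism.ext
  have hx := Over.w x
  have hy := Over.w y
  simp only [Over.mk_hom] at hx hy
  exact hx.trans hy.symm

/-- Equality on an affine chart with glueable coordinate ring. -/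
theorem eq_on_affine (R : Type u) [CommRing R] (R' : Type u) [CommRing R'] [Algebra R R']
    (f : R) (hRR' : EtGlue.IsGlueingPair R R' f) {Y Z YU YX' : AlgSp.Space (Spec (CommRingCat.of R))}
    (a b : Y ⟶ Z) (πZ : Z.obj ⟶ (AlgSp.yon (Spec (CommRingCat.of R))).obj (Over.mk (𝟙 _)))
    (inU : (Over.mk (Spec.map (CommRingCat.ofHom (algebraMap R (Localization.Away f)))) : Over (Spec (CommRingCat.of R))) ⟶ Over.mk (𝟙 _))
    (uY : YU ⟶ Y) (vY : YU.obj ⟶ (AlgSp.yon (Spec (CommRingCat.of R))).obj (Over.mk (Spec.map (CommRingCat.ofHom (algebraMap R (Localization.Away f)))) : Over (Spec (CommRingCat.of R))))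
    (hYU : IsPullback uY.hom vY (a.hom ≫ πZ) ((AlgSp.yon (Spec (CommRingCat.of R))).map inU))
    (inX' : (Over.mk (Spec.map (CommRingCat.ofHom (algebraMap R R'))) : Over (Spec (CommRingCat.of R))) ⟶ Over.mk (𝟙 _))
    (uY' : YX' ⟶ Y) (vY' : YX'.obj ⟶ (AlgSp.yon (Spec (CommRingCat.of R))).obj (Over.mk (Spec.map (CommRingCat.ofHom (algebraMap R R'))) : Over (Spec (CommRingCat.of R))))
    (hYX' : IsPullback uY'.hom vY' (a.hom ≫ πZ) ((AlgSp.yon (Spec (CommRingCat.of R))).map inX'))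
    (haU : uY ≫ a = uY ≫ b) (haX' : uY' ≫ a = uY' ≫ b)
    (A : Type u) [CommRing A] [Algebra R A] (hA : EtGlue.IsGlueable R R' f A)
    (h : (AlgSp.yon (Spec (CommRingCat.of R))).obj (Over.mk (Spec.map (CommRingCat.ofHom (algebraMap R A))) : Over (Spec (CommRingCat.of R))) ⟶ Y.obj) :
    h ≫ a.hom = h ≫ b.hom := by
  obtain ⟨V, v, fst, sq, hv, hm⟩ : ∃ (V : Over (Spec (CommRingCat.of R))) (v : V ⟶ _) (fst : (yon _).obj V ⟶ Z.obj),
      IsPullback fst ((yon _).map v) (Limits.diag Z.obj) (prod.lift (h ≫ a.hom) (h ≫ b.hom)) ∧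
        LocallyOfFiniteType v.left ∧ Mono v.left := by
    obtain ⟨V, v, fst, sq, hv⟩ := Lib.AlgSpace.repWith_exists (Lib.AlgSpace.repWith_diag_locallyOfFiniteType Z.property) (prod.lift (h ≫ a.hom) (h ≫ b.hom))
    exact ⟨V, v, fst, sq, hv, Lib.AlgSpace.repWith_property (Lib.AlgSpace.repWith_diag_monomorphisms Z.property.diag) sq⟩
  haveI : Mono v.left := hm
  haveI : LocallyOfFiniteType v.left := hv
  let T : Over (Spec (CommRingCat.of R)) := Over.mk (Spec.map (CommRingCat.ofHom (algebraMap R A)))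
  have lift_of : ∀ {T₀ : Over (Spec (CommRingCat.of R))} (k : T₀ ⟶ T),
      ((yon _).map k ≫ h) ≫ a.hom = ((yon _).map k ≫ h) ≫ b.hom → ∃ u : T₀ ⟶ V, u ≫ v = k := by
    intro T₀ k hk
    simp only [Category.assoc] at hk
    obtain ⟨u, hu⟩ := (yon _).map_surjective (sq.lift ((yon _).map k ≫ h ≫ a.hom) ((yon _).map k) (by
      refine Limits.prod.hom_ext ?_ ?_ <;> simp [hk]))
    refine ⟨u, (yon _).map_injective ?_⟩
    rw [Functor.map_comp, hu, sq.lift_snd]
  let g : A := algebraMap R A f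
  let l : A →+* Localization.Away g := algebraMap A (Localization.Away g)
  let i : A →+* R' ⊗[R] A := (Algebra.TensorProduct.includeRight : A →ₐ[R] R' ⊗[R] A).toRingHom
  let T₁ : Over (Spec (CommRingCat.of R)) := Over.mk (Spec.map (CommRingCat.ofHom (l.comp (algebraMap R A))))
  let k₁ : T₁ ⟶ T := Over.homMk (Spec.map (CommRingCat.ofHom l)) (by
    show _ ≫ Spec.map _ = Spec.map _
    rw [← Spec.map_comp]; rfl)
  let q₁ : T₁ ⟶ (Over.mk (Spec.map (CommRingCat.ofHom (algebraMap R (Localization.Away f)))) : Over (Spec (CommRingCat.of R))) :=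
    Over.homMk (Spec.map (CommRingCat.ofHom (Localization.awayMap (algebraMap R A) f))) (by
      show _ ≫ Spec.map _ = Spec.map _
      rw [← Spec.map_comp, ← CommRingCat.ofHom_comp]
      congr 2
      ext r
      simp [Localization.awayMap, IsLocalization.Away.map, l, g])
  obtain ⟨u₁, hu₁⟩ := lift_of k₁ (by
    rw [← hYU.lift_fst ((yon _).map k₁ ≫ h) ((yon _).map q₁) (hom_terminal_ext _ _)]
    simp only [Category.assoc]
    exact congrArg (hYU.lift ((yon _).map k₁ ≫ h) ((yon _).map q₁) (hom_terminal_ext _ _) ≫ ·) (congrArg InducedCategory.Hom.hom haU))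
  let T₂ : Over (Spec (CommRingCat.of R)) := Over.mk (Spec.map (CommRingCat.ofHom (algebraMap R (R' ⊗[R] A))))
  let k₂ : T₂ ⟶ T := Over.homMk (Spec.map (CommRingCat.ofHom i)) (by
    show _ ≫ Spec.map _ = Spec.map _
    rw [← Spec.map_comp, ← CommRingCat.ofHom_comp]
    congr 2
    exact (Algebra.TensorProduct.includeRight : A →ₐ[R] R' ⊗[R] A).comp_algebraMap)
  let q₂ : T₂ ⟶ (Over.mk (Spec.map (CommRingCat.ofHom (algebraMap R R'))) : Over (Spec (CommRingCat.of R))) :=
    Over.homMk (Spec.map (CommRingCat.ofHom (algebraMap R' (R' ⊗[R] A)))) (by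
      show _ ≫ Spec.map _ = Spec.map _
      rw [← Spec.map_comp, ← CommRingCat.ofHom_comp, ← IsScalarTower.algebraMap_eq])
  obtain ⟨u₂, hu₂⟩ := lift_of k₂ (by
    rw [← hYX'.lift_fst ((yon _).map k₂ ≫ h) ((yon _).map q₂) (hom_terminal_ext _ _)]
    simp only [Category.assoc]
    exact congrArg (hYX'.lift ((yon _).map k₂ ≫ h) ((yon _).map q₂) (hom_terminal_ext _ _) ≫ ·) (congrArg InducedCategory.Hom.hom haX'))
  have hinj : ∀ x : A, (∃ n : ℕ, g ^ n * x = 0) → i x = 0 → x = 0 := by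
    rintro x ⟨n, hn⟩ hx
    exact (Lib.AlgSpGlue.glueable_iff hRR').1 hA x
      ⟨n, by rw [Algebra.smul_def, map_pow]; exact hn⟩ hx
  have hex : ∀ (x : R' ⊗[R] A) (a₀ : A) (n k : ℕ), i g ^ k * (i g ^ n * x) = i g ^ k * i a₀ → ∃ c : A, i c = x ∧ ∃ j : ℕ, g ^ j * (g ^ n * c) = g ^ j * a₀ := by
    intro x a₀ n k hk
    have hk' : f ^ k • ((1 : R') ⊗ₜ[R] a₀) = f ^ k • f ^ n • x := by
      have hi : i g = algebraMap R (R' ⊗[R] A) f := AlgHom.commutes _ f
      rw [Algebra.smul_def, Algebra.smul_def, Algebra.smul_def, map_pow, map_pow, ← hi]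
      exact hk.symm
    obtain ⟨c, hc₁, hc₂⟩ := hA.2 x (LocalizedModule.mk a₀ (H48.Glue.pw f n)) (by
      rw [H48.Glue.tensorOfLoc_mk]
      show LocalizedModule.mkLinearMap _ _ x = _
      rw [LocalizedModule.mkLinearMap_apply]
      refine LocalizedModule.mk_eq.2 ⟨H48.Glue.pw f k, ?_⟩
      simp only [Submonoid.smul_def, one_smul]
      exact hk'.symm)
    rw [LocalizedModule.mkLinearMap_apply] at hc₂
    obtain ⟨⟨_, j, rfl⟩, hj⟩ := LocalizedModule.mk_eq.1 hc₂
    simp only [Submonoid.smul_def, one_smul] at hj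
    refine ⟨c, hc₁, j, ?_⟩
    rw [Algebra.smul_def, Algebra.smul_def, Algebra.smul_def, map_pow, map_pow] at hj
    exact hj
  obtain ⟨σ, hσ⟩ := Lib.AlgSpGlue.exists_section_of_glue (A := CommRingCat.of A) (A' := CommRingCat.of (R' ⊗[R] A))
    g (CommRingCat.ofHom i) v.left hinj hex (fun q hq => exists_lift_prime hRR'.1 q hq)
    u₁.left (congrArg CommaMorphism.left hu₁) u₂.left (congrArg CommaMorphism.left hu₂)
  let s : T ⟶ V := Over.homMk σ (by
    rw [← Over.w v, ← Category.assoc, hσ]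
    exact Category.id_comp _)
  have hs : s ≫ v = 𝟙 T := Over.OverMorphism.ext hσ
  have e := congrArg ((yon _).map s ≫ ·) sq.w
  rw [← Category.assoc ((yon _).map s) ((yon _).map v), ← Functor.map_comp, hs, CategoryTheory.Functor.map_id,
    Category.id_comp] at e
  have e₁ := congrArg (· ≫ Limits.prod.fst) e
  have e₂ := congrArg (· ≫ Limits.prod.snd) e
  simp at e₁ e₂
  rw [Limits.prod.lift_fst, Limits.prod.lift_fst] at e₁
  rw [Limits.prod.lift_snd, Limits.prod.lift_snd] at e₂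
  exact e₁.symm.trans e₂

/-- Let `(R → R', f)` be a glueing pair, `X = Spec R`, `U = Spec R_f`, `X' = Spec R'`, and let `Y`, `Z`
be algebraic spaces over `X` glueable for `(R → R', f)`. Two morphisms `a, b : Y → Z` over `X` whose
base changes to `U` agree and whose base changes to `X'` agree are equal. -/
theorem result (R : Type u) [CommRing R] (R' : Type u) [CommRing R'] [Algebra R R']
    (f : R) (hRR' : EtGlue.IsGlueingPair R R' f) {Y Z YU YX' : AlgSp.Space (Spec (CommRingCat.of R))}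
    (hY : (∀ (A : Type u) [CommRing A] [Algebra R A]
      (g : (AlgSp.yon (Spec (CommRingCat.of R))).obj (Over.mk (Spec.map (CommRingCat.ofHom (algebraMap R A))) : Over (Spec (CommRingCat.of R))) ⟶ Y.obj),
      AlgSp.RepWith @Etale g → EtGlue.IsGlueable R R' f A))
    (hZ : (∀ (A : Type u) [CommRing A] [Algebra R A]
      (g : (AlgSp.yon (Spec (CommRingCat.of R))).obj (Over.mk (Spec.map (CommRingCat.ofHom (algebraMap R A))) : Over (Spec (CommRingCat.of R))) ⟶ Z.obj),
      AlgSp.RepWith @Etale g → EtGlue.IsGlueable R R' f A))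
    (a b : Y ⟶ Z) (πZ : Z.obj ⟶ (AlgSp.yon (Spec (CommRingCat.of R))).obj (Over.mk (𝟙 _)))
    (inU : (Over.mk (Spec.map (CommRingCat.ofHom (algebraMap R (Localization.Away f)))) : Over (Spec (CommRingCat.of R))) ⟶ Over.mk (𝟙 _))
    (uY : YU ⟶ Y) (vY : YU.obj ⟶ (AlgSp.yon (Spec (CommRingCat.of R))).obj (Over.mk (Spec.map (CommRingCat.ofHom (algebraMap R (Localization.Away f)))) : Over (Spec (CommRingCat.of R))))
    (hYU : IsPullback uY.hom vY (a.hom ≫ πZ) ((AlgSp.yon (Spec (CommRingCat.of R))).map inU))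
    (inX' : (Over.mk (Spec.map (CommRingCat.ofHom (algebraMap R R'))) : Over (Spec (CommRingCat.of R))) ⟶ Over.mk (𝟙 _))
    (uY' : YX' ⟶ Y) (vY' : YX'.obj ⟶ (AlgSp.yon (Spec (CommRingCat.of R))).obj (Over.mk (Spec.map (CommRingCat.ofHom (algebraMap R R'))) : Over (Spec (CommRingCat.of R))))
    (hYX' : IsPullback uY'.hom vY' (a.hom ≫ πZ) ((AlgSp.yon (Spec (CommRingCat.of R))).map inX'))
    (haU : uY ≫ a = uY ≫ b) (haX' : uY' ≫ a = uY' ≫ b) : a = b := by
  obtain ⟨-, U, p, hpe, hps⟩ := Y.property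
  haveI : Sheaf.IsLocallySurjective p := Lib.AlgSpace.isLocallySurjective_of_etale hpe hps
  suffices p ≫ a.hom = p ≫ b.hom from ObjectProperty.hom_ext _ ((cancel_epi p).1 this)
  let φ : ∀ W : U.left.affineOpens, CommRingCat.of R ⟶ Γ(U.left, W.1) := fun W => Spec.preimage (W.2.fromSpec ≫ U.hom)
  letI : ∀ W : U.left.affineOpens, Algebra R Γ(U.left, W.1) := fun W => (φ W).hom.toAlgebra
  let e : ∀ W : U.left.affineOpens, (Over.mk (Spec.map (CommRingCat.ofHom (algebraMap R Γ(U.left, W.1)))) : Over (Spec (CommRingCat.of R))) ⟶ U :=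
    fun W => Over.homMk W.2.fromSpec (Spec.map_preimage _).symm
  refine Lib.AlgSpace.hom_ext_of_family _ e (Lib.AlgSpace.ofArrows_mem_J _ _
    (fun W => inferInstanceAs (Flat W.2.fromSpec)) (fun W => inferInstanceAs (LocallyOfFinitePresentation W.2.fromSpec))
    fun x => ?_) fun W => ?_
  · obtain ⟨W, hW, hxW, -⟩ := exists_isAffineOpen_mem_and_subset (X := U.left) (x := x) (U := ⊤) trivial
    exact ⟨⟨W, hW⟩, (show x ∈ Set.range hW.fromSpec by rw [hW.range_fromSpec]; exact hxW)⟩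
  have hA := hY Γ(U.left, W.1) ((yon _).map (e W) ≫ p)
    (Lib.AlgSpace.repWith_yon_map_comp (P := @Etale) (inferInstanceAs (Etale W.2.fromSpec)) hpe)
  rw [← Category.assoc, ← Category.assoc]
  exact eq_on_affine R R' f hRR' a b πZ inU uY vY hYU inX' uY' vY' hYX' haU haX' Γ(U.left, W.1) hA _

end Groth.Agent.S10707
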