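import Groth.Statements.S10710
import Groth.Agent.Lib.AffThick.Pushout.Props
import Groth.Agent.Lib.AffThick.Pushout.Glue

set_option autoImplicit false
universe u
open CategoryTheory CategoryTheory.Limits AlgebraicGeometry
open AlgSp

namespace Groth.Agent.S10710

/-- Let `t : X → X'` be a thickening and `f : X → Y` an affine morphism of algebraic spaces over `S`,
`Y' = Y ⨿_X X'` their pushout, `V → Y` and `U' → X'` algebraic spaces over `Y` and `X'` with a
common base change `U` to `X` (so `U = V ×_Y X = U' ×_{X'} X`), `V' = V ⨿_U U'` the pushout in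
algebraic spaces and `V' → Y'` the induced morphism. Then `V' → Y'` is flat exactly when both `V →
Y` and `U' → X'` are flat. -/
theorem result {S : Scheme.{u}} {X X' Y Y' U U' V V' : AlgSp.Space S}
    (t : X ⟶ X') (ht : AlgSp.IsThickMor t.hom) (f : X ⟶ Y) (hf : AlgSp.IsAffineMor f.hom) (f' : X' ⟶ Y')
    (t' : Y ⟶ Y') (hY' : IsPushout t f f' t') (v : V ⟶ Y) (u' : U' ⟶ X') (uV : U ⟶ V) (uU' : U ⟶ U')
    (uX : U ⟶ X) (hUV : IsPullback uV.hom uX.hom v.hom f.hom) (hUU' : IsPullback uU'.hom uX.hom u'.hom t.hom)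
    (iV : V ⟶ V') (iU' : U' ⟶ V') (hV' : IsPushout uV uU' iV iU') (v' : V' ⟶ Y')
    (hv'₁ : iV ≫ v' = v ≫ t') (hv'₂ : iU' ≫ v' = u' ≫ f') :
    AlgSp.LocP @Flat v'.hom ↔ AlgSp.LocP @Flat v.hom ∧ AlgSp.LocP @Flat u'.hom := by
  obtain ⟨c⟩ := Groth.Agent.Lib.AffThick.Pushout.exists_mapChart t ht f hf f' t' hY' v u' uV uU' uX
    hUV hUU' iV iU' hV' v' hv'₁ hv'₂
  have hP := Groth.Agent.Lib.SourceDescent.Scheme.flat.{u}
  rw [c.locP_v' hP V'.property.diag Y'.property.diag, c.locP_v hP V.property.diag Y.property.diag,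
    c.locP_u' hP U'.property.diag X'.property.diag]
  exact ⟨c.of_k (P := @Flat), fun h => (c.sq.glue c.sqn' c.sqm').1 h.2 h.1⟩

end Groth.Agent.S10710
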