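import Groth.Statements.S10714
import Groth.Agent.Lib.AffThick.Pushout.Cartesian

set_option autoImplicit false
universe u
open CategoryTheory CategoryTheory.Limits AlgebraicGeometry
open AlgSp

namespace Groth.Agent.S10714

open Groth.Agent.Lib.AffThick.Pushout

/-- Let `t : X → X'` be a thickening and `f : X → Y` an affine morphism of algebraic spaces over `S`
with pushout `Y' = Y ⨿_X X'`, and let `w : W' → Y'` be flat. Then `W'` is the pushout, in the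
category of algebraic spaces over `S`, of its base changes `W' ×_{Y'} Y` and `W' ×_{Y'} X'` along
their common base change to `X`: the counit of the glueing adjunction at `W'` is an isomorphism. -/
theorem result {S : Scheme.{u}} {X X' Y Y' W' WY WX' WX : AlgSp.Space S}
    (t : X ⟶ X') (ht : AlgSp.IsThickMor t.hom) (f : X ⟶ Y) (hf : AlgSp.IsAffineMor f.hom) (f' : X' ⟶ Y')
    (t' : Y ⟶ Y') (hY' : IsPushout t f f' t') (w : W' ⟶ Y') (hw : AlgSp.LocP @Flat w.hom) (aY : WY ⟶ W')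
    (bY : WY ⟶ Y) (hWY : IsPullback aY.hom bY.hom w.hom t'.hom) (aX' : WX' ⟶ W') (bX' : WX' ⟶ X')
    (hWX' : IsPullback aX'.hom bX'.hom w.hom f'.hom) (cY : WX ⟶ WY) (cX' : WX ⟶ WX') (bX : WX ⟶ X)
    (hWX₁ : IsPullback cY.hom bX.hom bY.hom f.hom) (hWX₂ : IsPullback cX'.hom bX.hom bX'.hom t.hom)
    (hcomm : cY ≫ aY = cX' ≫ aX') :
    IsPushout cY cX' aY aX' := by
  obtain ⟨B, p, hp, hps⟩ := Y.property.atlas
  obtain ⟨A, A', P, e, q, j, a, a', b, hq, hqs, h, sqt, sqf⟩ := exists_atlas t ht f hf hp hps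
  obtain ⟨π, hπ, hπs, -, sqX', sqY⟩ := exists_chart ht hY' hp hps hq hqs h sqt sqf
  obtain ⟨W₁, π₁, r, hπ₁, hπ₁s, hr⟩ :=
    Groth.Agent.Lib.AlgSpMor.LocP.exists_chart_over W'.property Y'.property w.hom hπ hπs
  have : Flat r.left := hw π₁ π r hπ₁ hπ hr
  obtain ⟨A₁, A₁', B₁, t₁, a₁, a₁', b₁, pX, pX', pY, h₁, sX', sY, sX, ha⟩ := h.exists_baseChange r
  have cY' := (Groth.Agent.Lib.AlgSpace.isPullback_yon sY).paste_horiz sqY
  rw [← hr] at cY'
  have cX'' := (Groth.Agent.Lib.AlgSpace.isPullback_yon sX').paste_horiz sqX'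
  rw [← hr] at cX''
  obtain ⟨eY, hY₁, hY₂⟩ : ∃ eY, eY ≫ aY.hom = (AlgSp.yon S).map b₁ ≫ π₁ ∧
      eY ≫ bY.hom = (AlgSp.yon S).map pY ≫ p :=
    ⟨hWY.lift _ _ (by rw [Category.assoc, ← cY'.w]), hWY.lift_fst _ _ _, hWY.lift_snd _ _ _⟩
  obtain ⟨eX', hX₁, hX₂⟩ : ∃ eX', eX' ≫ aX'.hom = (AlgSp.yon S).map a₁' ≫ π₁ ∧
      eX' ≫ bX'.hom = (AlgSp.yon S).map pX' ≫ q :=
    ⟨hWX'.lift _ _ (by rw [Category.assoc, ← cX''.w]), hWX'.lift_fst _ _ _, hWX'.lift_snd _ _ _⟩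
  have sqY₁ : IsPullback eY ((AlgSp.yon S).map b₁) aY.hom π₁ :=
    IsPullback.of_right (by rw [hY₂]; exact cY') hY₁ hWY.flip
  have sqX₁ : IsPullback eX' ((AlgSp.yon S).map a₁') aX'.hom π₁ :=
    IsPullback.of_right (by rw [hX₂]; exact cX'') hX₁ hWX'.flip
  obtain ⟨eX, he₁, he₂⟩ : ∃ eX, eX ≫ cY.hom = (AlgSp.yon S).map a₁ ≫ eY ∧
      eX ≫ bX.hom = (AlgSp.yon S).map pX ≫ e :=
    ⟨hWX₁.lift _ _ (by
      rw [Category.assoc, hY₂, ← Functor.map_comp_assoc, ha, Functor.map_comp_assoc, Category.assoc,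
        sqf.w]), hWX₁.lift_fst _ _ _, hWX₁.lift_snd _ _ _⟩
  have he₃ : eX ≫ cX'.hom = (AlgSp.yon S).map t₁ ≫ eX' := by
    refine hWX'.hom_ext ?_ ?_
    · rw [Category.assoc, Category.assoc, show cX'.hom ≫ aX'.hom = cY.hom ≫ aY.hom from
        congrArg (fun k => k.hom) hcomm.symm, reassoc_of% he₁, hY₁, hX₁, ← Functor.map_comp_assoc,
        ← h₁.w, Functor.map_comp_assoc]
    · rw [Category.assoc, Category.assoc, hWX₂.w, reassoc_of% he₂, sqt.w, hX₂,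
        ← Functor.map_comp_assoc, sX.w, Functor.map_comp_assoc]
  exact (isPushout_of_chart cX' cY aX' aY hcomm.symm h₁ hπ₁ hπ₁s sqX₁ sqY₁ he₃ he₁).flip

end Groth.Agent.S10714
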