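-- Proof of statement S10719.
import Groth.Statements.S10719
import Groth.Agent.Lib.AlgSpGabber.HomDesc
import Groth.Agent.Lib.AlgSpace.Diag

set_option autoImplicit false
universe w v u
open CategoryTheory CategoryTheory.Limits AlgebraicGeometry
open AlgSp

namespace Groth.Agent.S10719

open Groth.Agent.Lib.AlgSpGabber

variable {I : Type v} [Category.{w} I]

/-- The base change of a diagram along a morphism to the vertex of a cocone. -/
noncomputable def bcFunctor {C : Type*} [Category* C] [HasPullbacks C] {D : I ⥤ C} (c : Cocone D)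
    {V : C} (v : V ⟶ c.pt) : I ⥤ C where
  obj i := pullback v (c.ι.app i)
  map k := pullback.lift (pullback.fst _ _) (pullback.snd _ _ ≫ D.map k)
    (by rw [Category.assoc, c.w, pullback.condition])
  map_id i := pullback.hom_ext (by simp) (by simp)
  map_comp k l := pullback.hom_ext
    (by rw [pullback.lift_fst, Category.assoc, pullback.lift_fst, pullback.lift_fst])
    (by rw [pullback.lift_snd, Category.assoc, pullback.lift_snd, pullback.lift_snd_assoc,
      D.map_comp, Category.assoc])

/-- The projection to the diagram. -/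
noncomputable def bcSnd {C : Type*} [Category* C] [HasPullbacks C] {D : I ⥤ C} (c : Cocone D)
    {V : C} (v : V ⟶ c.pt) : bcFunctor c v ⟶ D where
  app i := pullback.snd v (c.ι.app i)
  naturality i j k := pullback.lift_snd _ _ _

/-- The projection to the new vertex. -/
noncomputable def bcFst {C : Type*} [Category* C] [HasPullbacks C] {D : I ⥤ C} (c : Cocone D)
    {V : C} (v : V ⟶ c.pt) : bcFunctor c v ⟶ (Functor.const I).obj V where
  app i := pullback.fst v (c.ι.app i)
  naturality i j k := (pullback.lift_fst _ _ _).trans (Category.comp_id _).symm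

/-- Let `B` be an algebraic space over `S`, `D : I ⥤ Over B` a diagram of algebraic spaces over `B` with
a cocone `c`, and `{U_a → c.pt}` an fpqc covering (by algebraic spaces over `B`). If (1) for every
`a`, every cocone of cartesian squares `D_i ×_{c.pt} U_a → U_a` is a colimit in algebraic spaces
over `B`, and (2) the same holds for every fibre product `U_a ×_{c.pt} U_b`, then `c` is a colimit
in algebraic spaces over `B`. -/
theorem result {S : Scheme.{u}} {B : AlgSp.Space S} {I : Type v} [Category.{w} I] (D : I ⥤ Over B)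
    (c : Cocone D) {κ : Type u} (Ua : κ → Over B) (ua : ∀ a, Ua a ⟶ c.pt)
    (hcov : AlgSp.IsFpqcCover (fun a => (Ua a).left.obj) (fun a => (ua a).left.hom))
    (h₁ : ∀ (a : κ) (Da : I ⥤ Over B) (α : Da ⟶ D) (ι : Da ⟶ (Functor.const I).obj (Ua a)),
      (∀ i, IsPullback (ι.app i).left.hom (α.app i).left.hom (ua a).left.hom (c.ι.app i).left.hom) →
        Nonempty (IsColimit (Cocone.mk (Ua a) ι)))
    (h₂ : ∀ (a b : κ) (Uab : Over B) (pa : Uab ⟶ Ua a) (pb : Uab ⟶ Ua b),
      IsPullback pa.left.hom pb.left.hom (ua a).left.hom (ua b).left.hom →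
      ∀ (Dab : I ⥤ Over B) (α : Dab ⟶ D) (ι : Dab ⟶ (Functor.const I).obj Uab),
        (∀ i, IsPullback (ι.app i).left.hom (α.app i).left.hom (pa ≫ ua a).left.hom (c.ι.app i).left.hom) →
          Nonempty (IsColimit (Cocone.mk Uab ι))) :
    Nonempty (IsColimit c) := by
  have : HasPullbacks (AlgSp.Space S) := Groth.Agent.Lib.AlgSpace.hasPullbacks_space
  have := Groth.Agent.Lib.AlgSpace.preservesPullbacks_space_ι (S := S)
  let G : Over B ⥤ AlgSp.Sp S := Over.forget B ⋙ ObjectProperty.ι _
  have hG : ∀ {P X Y Z : Over B} {p : P ⟶ X} {q : P ⟶ Y} {f : X ⟶ Z} {g : Y ⟶ Z},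
      IsPullback p q f g → IsPullback p.left.hom q.left.hom f.left.hom g.left.hom :=
    fun sq ↦ sq.map G
  have hsq : ∀ {V : Over B} (v : V ⟶ c.pt) (i : I),
      IsPullback ((bcFst c v).app i).left.hom ((bcSnd c v).app i).left.hom v.left.hom
        (c.ι.app i).left.hom :=
    fun v i ↦ hG (IsPullback.of_hasPullback _ _)
  have hc := fun a ↦ (h₁ a _ (bcSnd c (ua a)) (bcFst c (ua a)) (hsq _)).some
  let cs : ∀ (s : Cocone D) (a : κ), Cocone (bcFunctor c (ua a)) := fun s a ↦
    ⟨s.pt, bcSnd c (ua a) ≫ s.ι⟩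
  -- morphisms on the cover
  let m : ∀ (s : Cocone D) (a : κ), Ua a ⟶ s.pt := fun s a ↦ (hc a).desc (cs s a)
  have hm : ∀ (s : Cocone D) (a : κ) (i : I),
      pullback.fst (ua a) (c.ι.app i) ≫ m s a = pullback.snd (ua a) (c.ι.app i) ≫ s.ι.app i :=
    fun s a i ↦ (hc a).fac (cs s a) i
  have huniq : ∀ (s : Cocone D) (k : c.pt ⟶ s.pt), (∀ i, c.ι.app i ≫ k = s.ι.app i) →
      ∀ a, ua a ≫ k = m s a := fun s k hk a ↦ (hc a).uniq (cs s a) _ fun i ↦ by
    change pullback.fst (ua a) (c.ι.app i) ≫ ua a ≫ k = pullback.snd _ _ ≫ s.ι.app i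
    rw [pullback.condition_assoc, hk]
  have hag : ∀ (s : Cocone D) (a b : κ), pullback.fst (ua a).left.hom (ua b).left.hom ≫ (m s a).left.hom
      = pullback.snd (ua a).left.hom (ua b).left.hom ≫ (m s b).left.hom := by
    intro s a b
    let pa := pullback.fst (ua a) (ua b)
    let pb := pullback.snd (ua a) (ua b)
    have sq : IsPullback pa.left.hom pb.left.hom (ua a).left.hom (ua b).left.hom :=
      hG (IsPullback.of_hasPullback _ _)
    obtain ⟨hab⟩ := h₂ a b _ pa pb sq _ (bcSnd c (pa ≫ ua a)) (bcFst c (pa ≫ ua a)) (hsq _)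
    have e : pa ≫ m s a = pb ≫ m s b := hab.hom_ext fun i ↦ by
      change pullback.fst (pa ≫ ua a) (c.ι.app i) ≫ pa ≫ m s a =
        pullback.fst (pa ≫ ua a) (c.ι.app i) ≫ pb ≫ m s b
      have wa : (pullback.fst (pa ≫ ua a) (c.ι.app i) ≫ pa) ≫ ua a =
          pullback.snd _ _ ≫ c.ι.app i := (Category.assoc _ _ _).trans pullback.condition
      have wb : (pullback.fst (pa ≫ ua a) (c.ι.app i) ≫ pb) ≫ ua b =
          pullback.snd _ _ ≫ c.ι.app i :=
        (Category.assoc _ _ _).trans ((congrArg (pullback.fst (pa ≫ ua a) (c.ι.app i) ≫ ·)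
          pullback.condition.symm).trans pullback.condition)
      have ea := pullback.lift _ _ wa ≫= hm s a i
      have eb := pullback.lift _ _ wb ≫= hm s b i
      rw [pullback.lift_fst_assoc, pullback.lift_snd_assoc, Category.assoc] at ea eb
      exact ea.trans eb.symm
    have := congrArg (fun k ↦ sq.isoPullback.inv ≫ k.left.hom) e
    simpa using this
  -- gluing
  have hex : ∀ s : Cocone D, ∃ k : c.pt ⟶ s.pt, ∀ a, ua a ≫ k = m s a := by
    intro s
    obtain ⟨k, hk⟩ := HomDesc.exists_glue hcov.2 s.pt.left.property (fun a ↦ (m s a).left.hom)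
      (hag s)
    have hw : k ≫ s.pt.hom.hom = c.pt.hom.hom := HomDesc.hom_ext hcov.2 B.property fun a ↦ by
      rw [← Category.assoc, hk a]
      exact (congrArg InducedCategory.Hom.hom (Over.w (m s a))).trans
        (congrArg InducedCategory.Hom.hom (Over.w (ua a))).symm
    exact ⟨Over.homMk (ObjectProperty.homMk k) (InducedCategory.hom_ext hw),
      fun a ↦ Over.OverMorphism.ext (InducedCategory.hom_ext (hk a))⟩
  have hext : ∀ {X : Over B} (k k' : c.pt ⟶ X), (∀ a, ua a ≫ k = ua a ≫ k') → k = k' :=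
    fun {X} k k' h ↦ Over.OverMorphism.ext (InducedCategory.hom_ext
      (HomDesc.hom_ext hcov.2 X.left.property fun a ↦
        congrArg (fun k ↦ k.left.hom) (h a)))
  refine ⟨{ desc := fun s ↦ (hex s).choose, fac := fun s i ↦ ?_, uniq := fun s k hk ↦ ?_ }⟩
  · refine Over.OverMorphism.ext (InducedCategory.hom_ext ?_)
    refine HomDesc.hom_ext (HomDesc.Refines.baseChange (fun a ↦ hsq (ua a) i) hcov.2)
      s.pt.left.property fun a ↦ ?_
    have e : pullback.snd (ua a) (c.ι.app i) ≫ c.ι.app i ≫ (hex s).choose =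
        pullback.snd (ua a) (c.ι.app i) ≫ s.ι.app i := by
      rw [← Category.assoc, ← pullback.condition, Category.assoc, (hex s).choose_spec a, hm]
    exact congrArg (fun k ↦ k.left.hom) e
  · exact hext _ _ fun a ↦ (huniq s k hk a).trans ((hex s).choose_spec a).symm

end Groth.Agent.S10719
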