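import Groth.Statements.S10720
import Groth.Agent.Lib.AlgSpModif.Agree
import Groth.Agent.Lib.AlgSpModif.Refine

set_option autoImplicit false
universe u
open CategoryTheory CategoryTheory.Limits AlgebraicGeometry
open AlgSp

namespace Groth.Agent.S10720

open Lib.AlgSpace in
/-- Sections of a glueing datum. -/
noncomputable def secMapOf {S : Scheme.{u}} {X X₁ X₂ Y U A₁Y A₁U : AlgSp.Sp S} {p₁ : X₁ ⟶ X} {p₂ : X₂ ⟶ X}
    {f : Y ⟶ X} {j : U ⟶ X} {a₁Y : A₁Y ⟶ X₁} {r₁Y : A₁Y ⟶ Y} (h₁Y : IsPullback a₁Y r₁Y p₁ f)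
    {a₁U : A₁U ⟶ X₁} {r₁U : A₁U ⟶ U} (h₁U : IsPullback a₁U r₁U p₁ j) (B : A₁Y ⟶ X₂) (C : A₁U ⟶ X₂)
    (hB : B ≫ p₂ = a₁Y ≫ p₁)
    (hBC : ∀ {F : AlgSp.Sp S} (m : F ⟶ A₁Y) (n : F ⟶ A₁U), m ≫ a₁Y = n ≫ a₁U → m ≫ B = n ≫ C) :
    Lib.AlgSpModif.SecMap p₁ p₂ f j where
  val T x y h := h₁Y.lift x y h ≫ B
  nat {T T'} k x y h := by
    rw [← Category.assoc]
    congr 1
    refine h₁Y.hom_ext ?_ ?_ <;> simp
  overBase T x y h := by rw [Category.assoc, hB, h₁Y.lift_fst_assoc]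
  indep T x y y' h h' := by
    rintro ⟨u, hu⟩
    rw [hBC (h₁Y.lift x y h) (h₁U.lift x u hu.symm) (by rw [h₁Y.lift_fst, h₁U.lift_fst]),
      hBC (h₁Y.lift x y' h') (h₁U.lift x u hu.symm) (by rw [h₁Y.lift_fst, h₁U.lift_fst])]

/-- Let `f : Y → X` be a quasi-compact quasi-separated morphism of algebraic spaces over `S`, `i : Z →
X` a closed immersion of finite presentation such that `f⁻¹Z → Z` is an isomorphism and `f` is flat
at every point of `|f⁻¹Z|`, and let `U ⊂ X` be the open subspace complementary to `Z`, with `V = U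
×_X Y`. Let `X'₁`, `X'₂` be algebraic spaces over `X` with `X'₂ → X` separated. Then every morphism
between their images in the glueing category — morphisms of the base changes to `U`, to `V` and to
`Y`, over `U`, `V`, `Y` and compatible with the restriction maps — is induced by a unique morphism
`X'₁ → X'₂` over `X`. -/
theorem result {S : Scheme.{u}} {X Y Z FZ U : AlgSp.Space S} (f : Y ⟶ X)
    (hqc : AlgSp.IsQuasiCompactMor f.hom) (hqs : AlgSp.IsQuasiSeparatedMor f.hom) (i : Z ⟶ X)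
    (hi : AlgSp.RepWith @IsClosedImmersion i.hom) (hifp : AlgSp.LocP @LocallyOfFinitePresentation i.hom)
    (iY : FZ ⟶ Y) (fZ : FZ ⟶ Z) (hFZ : IsPullback iY.hom fZ.hom f.hom i.hom) [IsIso fZ]
    (hflat : ∀ y ∈ Set.range (AlgSp.Points.map iY.hom), AlgSp.IsFlatAtMor f.hom y) (j : U ⟶ X)
    (hj : AlgSp.RepWith @IsOpenImmersion j.hom)
    (hU : Set.range (AlgSp.Points.map j.hom) = (Set.range (AlgSp.Points.map i.hom))ᶜ)
    {X₁ X₂ A₁U A₂U A₁Y A₂Y A₁V A₂V : AlgSp.Space S} (p₁ : X₁ ⟶ X) (p₂ : X₂ ⟶ X)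
    (hp₂ : AlgSp.IsSeparatedMor p₂.hom)
    (a₁U : A₁U ⟶ X₁) (r₁U : A₁U ⟶ U) (h₁U : IsPullback a₁U.hom r₁U.hom p₁.hom j.hom)
    (a₂U : A₂U ⟶ X₂) (r₂U : A₂U ⟶ U) (h₂U : IsPullback a₂U.hom r₂U.hom p₂.hom j.hom)
    (a₁Y : A₁Y ⟶ X₁) (r₁Y : A₁Y ⟶ Y) (h₁Y : IsPullback a₁Y.hom r₁Y.hom p₁.hom f.hom)
    (a₂Y : A₂Y ⟶ X₂) (r₂Y : A₂Y ⟶ Y) (h₂Y : IsPullback a₂Y.hom r₂Y.hom p₂.hom f.hom)
    (m₁U : A₁V ⟶ A₁U) (m₁Y : A₁V ⟶ A₁Y) (h₁V : IsPullback m₁U.hom m₁Y.hom a₁U.hom a₁Y.hom)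
    (m₂U : A₂V ⟶ A₂U) (m₂Y : A₂V ⟶ A₂Y) (h₂V : IsPullback m₂U.hom m₂Y.hom a₂U.hom a₂Y.hom)
    (bU : A₁U ⟶ A₂U) (hbU : bU ≫ r₂U = r₁U) (bY : A₁Y ⟶ A₂Y) (hbY : bY ≫ r₂Y = r₁Y)
    (bV : A₁V ⟶ A₂V) (hbV₁ : bV ≫ m₂U = m₁U ≫ bU) (hbV₂ : bV ≫ m₂Y = m₁Y ≫ bY) :
    ∃! a : X₁ ⟶ X₂, a ≫ p₂ = p₁ ∧ a₁U ≫ a = bU ≫ a₂U ∧ a₁Y ≫ a = bY ≫ a₂Y := by
  haveI : MorphismProperty.IsStableUnderComposition (@Etale : MorphismProperty Scheme.{u}) :=
    ⟨fun f g (_ : Etale f) (_ : Etale g) ↦ inferInstanceAs (Etale (f ≫ g))⟩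
  haveI : MorphismProperty.IsStableUnderComposition (@Flat : MorphismProperty Scheme.{u}) :=
    (inferInstance : MorphismProperty.IsMultiplicative @Flat.{u}).toIsStableUnderComposition
  haveI : IsIso fZ.hom := (ObjectProperty.ι _).map_isIso fZ
  have hjm : Mono j.hom := Lib.AlgSpace.mono_of_repWith (P := @IsOpenImmersion)
    (fun _ _ g (_ : IsOpenImmersion g) ↦ (inferInstance : Mono g)) hj
  have him : Mono i.hom := Lib.AlgSpace.mono_of_repWith (P := @IsClosedImmersion)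
    (fun _ _ g (_ : IsClosedImmersion g) ↦ (inferInstance : Mono g)) hi
  have hir : AlgSp.RepWith @LocallyOfFinitePresentation i.hom :=
    Lib.AlgSpMor.LocP.repWith_of_locP (Lib.AlgSpMor.LocP.etaleLocalST_of_list (Or.inr (Or.inl rfl)))
      X.property hi.rep hifp
  -- the data
  have ebU : bU.hom ≫ r₂U.hom = r₁U.hom := congrArg InducedCategory.Hom.hom hbU
  have ebY : bY.hom ≫ r₂Y.hom = r₁Y.hom := congrArg InducedCategory.Hom.hom hbY
  have eV₁ : bV.hom ≫ m₂U.hom = m₁U.hom ≫ bU.hom := congrArg InducedCategory.Hom.hom hbV₁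
  have eV₂ : bV.hom ≫ m₂Y.hom = m₁Y.hom ≫ bY.hom := congrArg InducedCategory.Hom.hom hbV₂
  let B : A₁Y.obj ⟶ X₂.obj := bY.hom ≫ a₂Y.hom
  let C : A₁U.obj ⟶ X₂.obj := bU.hom ≫ a₂U.hom
  have hB : B ≫ p₂.hom = a₁Y.hom ≫ p₁.hom := by
    rw [Category.assoc, h₂Y.w, reassoc_of% ebY, h₁Y.w]
  have hC : C ≫ p₂.hom = a₁U.hom ≫ p₁.hom := by
    rw [Category.assoc, h₂U.w, reassoc_of% ebU, h₁U.w]
  have hBC : ∀ {F : AlgSp.Sp S} (m : F ⟶ A₁Y.obj) (n : F ⟶ A₁U.obj),
      m ≫ a₁Y.hom = n ≫ a₁U.hom → m ≫ B = n ≫ C := by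
    intro F m n h
    rw [← h₁V.lift_snd n m h.symm, Category.assoc, ← reassoc_of% eV₂, ← h₂V.w,
      reassoc_of% eV₁, h₁V.lift_fst_assoc]
  let β := secMapOf h₁Y h₁U B C hB hBC
  -- the pieces
  obtain ⟨X₀, u₀, hu₀, hu₀s⟩ := X.property.atlas
  let T₀ : ↥X₀.left.affineOpens → Over S := fun O ↦ Over.mk (O.1.ι ≫ X₀.hom)
  let κ₀ : ∀ O, T₀ O ⟶ X₀ := fun O ↦ Over.homMk O.1.ι rfl
  haveI : ∀ O, IsOpenImmersion (κ₀ O).left := fun O ↦ inferInstanceAs (IsOpenImmersion O.1.ι)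
  have hξ₀ : ∀ O, AlgSp.RepWith @Etale ((AlgSp.yon S).map (κ₀ O) ≫ u₀) := fun O ↦
    Lib.AlgSpace.repWith_yon_map_comp (P := @Etale) (inferInstanceAs (Etale O.1.ι)) hu₀
  haveI : ∀ O, IsAffine (T₀ O).left := fun O ↦ O.2
  choose W hW d l hd hla hl hcov using fun O ↦
    Lib.AlgSpModif.exists_flat_piece X.property Y.property hqc hFZ hflat hj hU (T₀ O) _ (hξ₀ O)
  choose V hV ψ av hψ hav hlψ hψC using hla
  have hlflat : ∀ O, AlgSp.RepWith @Flat (l O) := fun O ↦ by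
    rw [hlψ O]
    exact Lib.AlgSpace.repWith_yon_map_comp (P := @Flat) (hψ O)
      (Lib.AlgSpace.repWith_mono (hav O) fun _ _ g (_ : Etale g) ↦ inferInstance)
  have hlfflat : ∀ O, AlgSp.RepWith @Flat (l O ≫ f.hom) := fun O ↦ by
    rw [hl O]
    exact Lib.AlgSpace.repWith_yon_map_comp (P := @Flat) (hd O)
      (Lib.AlgSpace.repWith_mono (hξ₀ O) fun _ _ g (_ : Etale g) ↦ inferInstance)
  -- the family over `X`
  let Fam : Option ↥X₀.left.affineOpens → AlgSp.Sp S := fun k ↦ k.elim U.obj fun O ↦ (AlgSp.yon S).obj (W O)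
  let gX : ∀ k, Fam k ⟶ X.obj := fun k ↦ match k with
    | none => j.hom
    | some O => l O ≫ f.hom
  have hFamX : Lib.AlgSpGabber.HomDesc.Refines Fam gX := by
    refine Lib.AlgSpModif.refines_of_local (𝟙 _) X.property hi hifp hj hU Fam gX
      (fun T h u hu ↦ ⟨none, u, by rw [Category.comp_id] at hu; exact hu⟩) fun T hT h t ht ↦ ?_
    rw [Category.comp_id] at ht
    obtain ⟨R, r₁, r₂, sqR⟩ := Lib.AlgSpace.exists_isPullback_yon X.property.diag u₀ h
    haveI : Etale r₂.left := Lib.AlgSpace.repWith_property hu₀ sqR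
    haveI : Surjective r₂.left := Lib.AlgSpace.repWith_property hu₀s sqR
    obtain ⟨r, hr⟩ := r₂.left.surjective t
    obtain ⟨O, hO, hrO, -⟩ := exists_isAffineOpen_mem_and_subset (U := ⊤) (Set.mem_univ (r₁.left r))
    obtain ⟨Ao, hAo, hrA, hAO⟩ := exists_isAffineOpen_mem_and_subset
      (U := r₁.left ⁻¹ᵁ O) (show r ∈ r₁.left ⁻¹ᵁ O from hrO)
    let α : Over.mk (Ao.ι ≫ R.hom) ⟶ R := Over.homMk Ao.ι rfl
    obtain ⟨g', hg'⟩ := Lib.AlgSpModif.exists_lift_over (κ₀ ⟨O, hO⟩) (α ≫ r₁) (by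
      rintro _ ⟨x, rfl⟩
      exact O.range_ι.ge (hAO x.2))
    refine ⟨_, _, _, α ≫ r₂, g', d ⟨O, hO⟩, hAo, hO, hW _, inferInstanceAs (Etale (Ao.ι ≫ r₂.left)),
      hd _, ⟨⟨r, hrA⟩, hr⟩, fun a ha ↦ ?_, fun Bo b₁ b₂ hb ↦ ?_⟩
    · refine hcov _ _ fun hmem ↦ ha ?_
      rw [Category.comp_id, ← Lib.AlgSpace.ofPt_yon_map_comp, Functor.map_comp, Category.assoc, ← sqR.w,
        ← Category.assoc, ← Functor.map_comp, ← hg', Functor.map_comp, Category.assoc,
        Lib.AlgSpace.ofPt_yon_map_comp]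
      exact hmem
    · refine ⟨some ⟨O, hO⟩, (AlgSp.yon S).map b₂, ?_⟩
      show (AlgSp.yon S).map b₂ ≫ l _ ≫ f.hom = _
      rw [hl, ← Category.assoc, ← Functor.map_comp, ← hb]
      simp only [Functor.map_comp, Category.assoc]
      rw [← Category.assoc ((AlgSp.yon S).map g'), ← Functor.map_comp, hg', Functor.map_comp,
        Category.assoc, sqR.w]
  -- the family over `Y`
  let UY := pullback f.hom j.hom
  let FamY : Option ↥X₀.left.affineOpens → AlgSp.Sp S := fun k ↦ k.elim UY fun O ↦ (AlgSp.yon S).obj (W O)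
  let gY : ∀ k, FamY k ⟶ Y.obj := fun k ↦ match k with
    | none => pullback.fst f.hom j.hom
    | some O => l O
  have hFamY : Lib.AlgSpGabber.HomDesc.Refines FamY gY := by
    refine Lib.AlgSpModif.refines_of_local f.hom X.property hi hifp hj hU FamY gY
      (fun T h u hu ↦ ⟨none, pullback.lift h u hu.symm, pullback.lift_fst _ _ _⟩) fun T hT h t ht ↦ ?_
    obtain ⟨R, r₁, r₂, sqR⟩ := Lib.AlgSpace.exists_isPullback_yon X.property.diag u₀ (h ≫ f.hom)
    haveI : Surjective r₂.left := Lib.AlgSpace.repWith_property hu₀s sqR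
    obtain ⟨r, hr⟩ := r₂.left.surjective t
    obtain ⟨O, hO, hrO, -⟩ := exists_isAffineOpen_mem_and_subset (U := ⊤) (Set.mem_univ (r₁.left r))
    let O' : ↥X₀.left.affineOpens := ⟨O, hO⟩
    have hpt : AlgSp.Points.ofPt (h ≫ f.hom) t =
        AlgSp.Points.ofPt ((AlgSp.yon S).map (κ₀ O') ≫ u₀) ⟨r₁.left r, hrO⟩ := by
      rw [Lib.AlgSpace.ofPt_yon_map_comp]
      exact ((Lib.AlgSpace.ofPt_eq_ofPt_iff_of_isPullback sqR _ _).2 ⟨r, rfl, hr⟩).symm
    obtain ⟨w, hw⟩ := hcov O' ⟨r₁.left r, hrO⟩ (by rw [← hpt]; exact ht)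
    -- points over the closed part are determined by their image
    have inj : ∀ y y' : AlgSp.Points Y.obj, AlgSp.Points.map f.hom y = AlgSp.Points.map f.hom y' →
        AlgSp.Points.map f.hom y ∉ Set.range (AlgSp.Points.map j.hom) → y = y' := by
      intro y y' e hy
      obtain ⟨z, hz⟩ : AlgSp.Points.map f.hom y ∈ Set.range (AlgSp.Points.map i.hom) := by
        simpa [hU] using hy
      obtain ⟨q, hq₁, hq₂⟩ := Lib.AlgSpace.exists_of_isPullback hFZ y z hz.symm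
      obtain ⟨q', hq₁', hq₂'⟩ := Lib.AlgSpace.exists_of_isPullback hFZ y' z (by rw [← e, hz])
      rw [← hq₁, ← hq₁', Lib.AlgSpace.injective_map_of_mono fZ.hom (hq₂.trans hq₂'.symm)]
    have hyw : AlgSp.Points.ofPt h t = AlgSp.Points.ofPt (av O') ((ψ O').left w) := by
      refine inj _ _ ?_ (by rw [AlgSp.Points.map_ofPt]; exact ht)
      rw [AlgSp.Points.map_ofPt, AlgSp.Points.map_ofPt, hpt, ← hw, ← Lib.AlgSpace.ofPt_yon_map_comp,
        ← hl O', hlψ O', Category.assoc, Lib.AlgSpace.ofPt_yon_map_comp]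
    obtain ⟨R', s₁, s₂, sqR'⟩ := Lib.AlgSpace.exists_isPullback_yon Y.property.diag (av O') h
    haveI : Etale s₂.left := Lib.AlgSpace.repWith_property (hav O') sqR'
    obtain ⟨r', hr'₁, hr'₂⟩ := (Lib.AlgSpace.ofPt_eq_ofPt_iff_of_isPullback sqR' _ t).1 hyw.symm
    obtain ⟨Ao, hAo, hrA, -⟩ := exists_isAffineOpen_mem_and_subset (X := R'.left) (x := r') (U := ⊤) trivial
    let α : Over.mk (Ao.ι ≫ R'.hom) ⟶ R' := Over.homMk Ao.ι rfl
    refine ⟨_, _, _, α ≫ s₂, α ≫ s₁, ψ O', hAo, hV _, hW _, inferInstanceAs (Etale (Ao.ι ≫ s₂.left)),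
      hψ _, ⟨⟨r', hrA⟩, hr'₂⟩, fun a ha ↦ hψC O' _ fun hmem ↦ ha ?_, fun Bo b₁ b₂ hb ↦ ?_⟩
    · rw [← Lib.AlgSpace.ofPt_yon_map_comp, Functor.map_comp]
      rw [← Lib.AlgSpace.ofPt_yon_map_comp, Functor.map_comp] at hmem
      simp only [Category.assoc] at hmem ⊢
      rw [← reassoc_of% sqR'.w]
      exact hmem
    · refine ⟨some O', (AlgSp.yon S).map b₂, ?_⟩
      show (AlgSp.yon S).map b₂ ≫ l O' = _
      rw [hlψ, ← Category.assoc, ← Functor.map_comp, ← hb]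
      simp only [Functor.map_comp, Category.assoc, sqR'.w]
  -- pull back to the spaces over `X`
  let P : Option ↥X₀.left.affineOpens → AlgSp.Sp S := fun k ↦ pullback (gX k) p₁.hom
  let gP : ∀ k, P k ⟶ X₁.obj := fun k ↦ pullback.snd (gX k) p₁.hom
  have hP : Lib.AlgSpGabber.HomDesc.Refines P gP :=
    hFamX.baseChange (q := p₁.hom) (p := fun k ↦ pullback.fst (gX k) p₁.hom)
      (fun k ↦ IsPullback.of_hasPullback _ _)
  have hcondY : ∀ O, pullback.snd (gX (some O)) p₁.hom ≫ p₁.hom =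
      (pullback.fst (gX (some O)) p₁.hom ≫ l O) ≫ f.hom := fun O ↦ by
    rw [Category.assoc]; exact pullback.condition.symm
  let bi : ∀ k, P k ⟶ X₂.obj := fun k ↦ match k with
    | none => h₁U.lift (pullback.snd _ _) (pullback.fst (gX none) p₁.hom) pullback.condition.symm ≫ C
    | some O => h₁Y.lift (pullback.snd _ _) (pullback.fst _ _ ≫ l O) (hcondY O) ≫ B
  have hbi : ∀ k k', pullback.fst (gP k) (gP k') ≫ bi k = pullback.snd (gP k) (gP k') ≫ bi k' := by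
    intro k k'
    have hc := pullback.condition (f := gP k) (g := gP k')
    rcases k with _ | O <;> rcases k' with _ | O'
    · simp only [bi, ← Category.assoc]
      congr 1
      refine h₁U.hom_ext ?_ ?_
      · simpa using hc
      · rw [← cancel_mono j.hom]
        simp only [Category.assoc, ← h₁U.w, h₁U.lift_fst_assoc]
        exact (reassoc_of% hc) p₁.hom
    · simp only [bi, ← Category.assoc]
      exact (hBC _ _ (by simpa using hc.symm)).symm
    · simp only [bi, ← Category.assoc]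
      exact hBC _ _ (by simpa using hc)
    · refine Lib.AlgSpace.hom_ext fun T z ↦ ?_
      simp only [bi, ← Category.assoc]
      obtain ⟨w₁, hw₁⟩ := (AlgSp.yon S).map_surjective (z ≫ pullback.fst _ _ ≫ pullback.fst (gX (some O)) p₁.hom)
      obtain ⟨w₂, hw₂⟩ := (AlgSp.yon S).map_surjective (z ≫ pullback.snd _ _ ≫ pullback.fst (gX (some O')) p₁.hom)
      let x := z ≫ pullback.fst (gP (some O)) (gP (some O')) ≫ pullback.snd _ _
      have hx' : x = z ≫ pullback.snd (gP (some O)) (gP (some O')) ≫ pullback.snd _ _ :=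
        congrArg (z ≫ ·) hc
      have h₁ : x ≫ p₁.hom = ((AlgSp.yon S).map w₁ ≫ l O) ≫ f.hom := by
        rw [hw₁]; simp only [x, Category.assoc, hcondY] <;> rfl
      have h₂ : x ≫ p₁.hom = ((AlgSp.yon S).map w₂ ≫ l O') ≫ f.hom := by
        rw [hw₂, hx']; simp only [Category.assoc, hcondY] <;> rfl
      haveI : IsAffine (T₀ O).left := O.2
      obtain ⟨A, _, sA, ⟨eA⟩⟩ := Lib.AlgSpModif.exists_spec_iso (T₀ O)
      haveI : IsIso eA.inv.left := inferInstanceAs (IsIso ((Over.forget S).map eA.inv))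
      haveI := hd O
      have key := Lib.AlgSpModif.agree_pieces β hp₂ X.property Y.property hi hir hFZ hj hU sA
        ((AlgSp.yon S).map eA.hom ≫ (AlgSp.yon S).map (κ₀ O) ≫ u₀) (d O ≫ eA.inv)
        (inferInstanceAs (Flat ((d O).left ≫ eA.inv.left))) (l O)
        (by
          rw [hl O]
          simp only [Functor.map_comp, Category.assoc]
          rw [← Category.assoc ((AlgSp.yon S).map eA.inv), ← Functor.map_comp, eA.inv_hom_id,
            CategoryTheory.Functor.map_id, Category.id_comp])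
        (l O') (hlflat O') (hlfflat O') w₁ w₂ x h₁ h₂
      refine Eq.trans ?_ (key.trans ?_)
      · refine congrArg (· ≫ B) (h₁Y.hom_ext ?_ ?_)
        · simp [x]
        · simp [hw₁]; rfl
      · refine congrArg (· ≫ B) (h₁Y.hom_ext ?_ ?_)
        · simp [hx']
        · simp [hw₂]; rfl
  obtain ⟨b, hb⟩ := Lib.AlgSpGabber.HomDesc.exists_glue hP X₂.property bi hbi
  have hbU : a₁U.hom ≫ b = C := by
    let n : A₁U.obj ⟶ P none := pullback.lift r₁U.hom a₁U.hom h₁U.w.symm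
    have e : n ≫ gP none = a₁U.hom := pullback.lift_snd _ _ _
    rw [← e, Category.assoc, show gP none ≫ b = bi none from hb none]
    simp only [bi, ← Category.assoc]
    conv_rhs => rw [← Category.id_comp C]
    refine congrArg (· ≫ C) (h₁U.hom_ext ?_ ?_)
    · rw [Category.assoc, h₁U.lift_fst, Category.id_comp]; exact pullback.lift_snd _ _ _
    · rw [Category.assoc, h₁U.lift_snd, Category.id_comp]; exact pullback.lift_fst _ _ _
  have hbY' : a₁Y.hom ≫ b = B := by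
    refine Lib.AlgSpGabber.HomDesc.hom_ext (hFamY.baseChange (q := r₁Y.hom)
      (p := fun k ↦ pullback.fst (gY k) r₁Y.hom) (fun k ↦ IsPullback.of_hasPullback _ _)) X₂.property fun k ↦ ?_
    rcases k with _ | O
    · let n : pullback (gY none) r₁Y.hom ⟶ A₁U.obj :=
        h₁U.lift (pullback.snd _ _ ≫ a₁Y.hom) (pullback.fst (gY none) r₁Y.hom ≫ pullback.snd f.hom j.hom) (by
          simp only [Category.assoc, h₁Y.w]
          rw [← pullback.condition_assoc]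
          show _ ≫ pullback.fst f.hom j.hom ≫ f.hom = _
          rw [pullback.condition]
          rfl)
      rw [hBC (pullback.snd _ _) n (h₁U.lift_fst _ _ _).symm, ← hbU, h₁U.lift_fst_assoc, Category.assoc]
    · let m : pullback (gY (some O)) r₁Y.hom ⟶ P (some O) :=
        pullback.lift (pullback.fst (gY (some O)) r₁Y.hom) (pullback.snd _ _ ≫ a₁Y.hom) (by
          simp only [Category.assoc, h₁Y.w]
          rw [← pullback.condition_assoc]
          rfl)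
      have e : m ≫ gP (some O) = pullback.snd _ _ ≫ a₁Y.hom := pullback.lift_snd _ _ _
      rw [← Category.assoc, ← e, Category.assoc, show gP (some O) ≫ b = bi (some O) from hb (some O)]
      simp only [bi, ← Category.assoc]
      refine congrArg (· ≫ B) (h₁Y.hom_ext ?_ ?_)
      · rw [Category.assoc, h₁Y.lift_fst]; exact pullback.lift_snd _ _ _
      · rw [Category.assoc, h₁Y.lift_snd, ← Category.assoc]
        exact (congrArg (· ≫ l O) (pullback.lift_fst _ _ _)).trans pullback.condition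
  have hbp : b ≫ p₂.hom = p₁.hom := by
    refine Lib.AlgSpGabber.HomDesc.hom_ext hP X.property fun k ↦ ?_
    rw [← Category.assoc, hb]
    rcases k with _ | O
    · simp only [bi, Category.assoc, hC, h₁U.lift_fst_assoc]; rfl
    · simp only [bi, Category.assoc, hB, h₁Y.lift_fst_assoc]; rfl
  refine ⟨ObjectProperty.homMk b, ⟨ObjectProperty.hom_ext _ hbp, ObjectProperty.hom_ext _ hbU,
    ObjectProperty.hom_ext _ hbY'⟩, fun b' hb' ↦ ?_⟩
  apply ObjectProperty.hom_ext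
  show b'.hom = b
  refine Lib.AlgSpGabber.HomDesc.hom_ext hP X₂.property fun k ↦ ?_
  rw [hb]
  rcases k with _ | O
  · simp only [bi]
    rw [show C = a₁U.hom ≫ b'.hom from (congrArg InducedCategory.Hom.hom hb'.2.1).symm,
      h₁U.lift_fst_assoc]
  · simp only [bi]
    rw [show B = a₁Y.hom ≫ b'.hom from (congrArg InducedCategory.Hom.hom hb'.2.2).symm,
      h₁Y.lift_fst_assoc]

end Groth.Agent.S10720
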