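import Groth.Statements.S10726
import Groth.Agent.Lib.AlgSpGlue.Affine
import Groth.Agent.S10707

set_option autoImplicit false
universe u
open CategoryTheory CategoryTheory.Limits AlgebraicGeometry TensorProduct
open AlgSp

namespace Groth.Agent.S10726

open Lib.AlgSpGlue

variable {R : Type u} [CommRing R] {R' : Type u} [CommRing R'] [Algebra R R'] {f : R}

/-- Two maps into the spectrum of the localization over the base are equal. -/
theorem hom_to_loc_ext {T : Over (B R)} (x y : T ⟶ O R (Localization.Away f)) : x = y := by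
  haveI : IsOpenImmersion (Spec.map (CommRingCat.ofHom (algebraMap R (Localization.Away f)))) :=
    IsOpenImmersion.of_isLocalization f
  exact Over.OverMorphism.ext ((cancel_mono (Spec.map (CommRingCat.ofHom (algebraMap R (Localization.Away f))))).1
    ((Over.w x).trans (Over.w y).symm))

/-- Factor through the localization. -/
theorem exists_factor_loc {A : Type u} [CommRing A] [Algebra R A] {T : Over (B R)} (k : T ⟶ O R A)
    (t : T ⟶ O R (Localization.Away f)) : ∃ k' : T ⟶ O R (Af A f), k' ≫ sp (loc A f) = k := by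
  haveI : IsOpenImmersion (sp (loc A f)).left :=
    IsOpenImmersion.of_isLocalization (algebraMap R A f)
  have hr : Set.range k.left ⊆ Set.range (sp (loc A f)).left := by
    rintro _ ⟨x, rfl⟩
    show k.left x ∈ Set.range (PrimeSpectrum.comap (algebraMap A (Af A f)))
    rw [PrimeSpectrum.localization_away_comap_range (Af A f) (algebraMap R A f)]
    have h : T.hom x ∈ Set.range (PrimeSpectrum.comap (algebraMap R (Localization.Away f))) :=
      ⟨t.left x, by rw [← Over.w t]; rfl⟩
    rw [PrimeSpectrum.localization_away_comap_range (Localization.Away f) f] at h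
    have e : T.hom x = PrimeSpectrum.comap (algebraMap R A) (k.left x) := by rw [← Over.w k]; rfl
    rw [e] at h
    exact h
  refine ⟨Over.homMk (IsOpenImmersion.lift (sp (loc A f)).left k.left hr) ?_,
    Over.OverMorphism.ext (IsOpenImmersion.lift_fac _ _ _)⟩
  show _ ≫ (O R (Af A f)).hom = _
  rw [← Over.w (sp (loc A f)), ← Category.assoc, IsOpenImmersion.lift_fac]
  exact Over.w k

/-- Maps on the two pieces of `T` prescribed by `a` and `b`. -/
def Induces {Y Z YU YX : Sp (B R)} (uY : YU ⟶ Y) (xY : YX ⟶ Y) (au : YU ⟶ Z) (bx : YX ⟶ Z)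
    (T : Over (B R)) (h : (yon (B R)).obj T ⟶ Y) (x : (yon (B R)).obj T ⟶ Z) : Prop :=
  (∀ (T' : Over (B R)) (k : T' ⟶ T) (l : (yon (B R)).obj T' ⟶ YU),
    l ≫ uY = (yon (B R)).map k ≫ h → (yon (B R)).map k ≫ x = l ≫ au) ∧
  ∀ (T' : Over (B R)) (k : T' ⟶ T) (l : (yon (B R)).obj T' ⟶ YX),
    l ≫ xY = (yon (B R)).map k ≫ h → (yon (B R)).map k ≫ x = l ≫ bx

theorem Induces.comp {Y Z YU YX : Sp (B R)} {uY : YU ⟶ Y} {xY : YX ⟶ Y} {au : YU ⟶ Z} {bx : YX ⟶ Z}
    {T T₀ : Over (B R)} {h : (yon (B R)).obj T ⟶ Y} {x : (yon (B R)).obj T ⟶ Z}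
    (hx : Induces uY xY au bx T h x) (j : T₀ ⟶ T) :
    Induces uY xY au bx T₀ ((yon (B R)).map j ≫ h) ((yon (B R)).map j ≫ x) := by
  refine ⟨fun T' k l hl => ?_, fun T' k l hl => ?_⟩
  · rw [← Category.assoc, ← Functor.map_comp]
    exact hx.1 T' (k ≫ j) l (by rw [hl, Functor.map_comp, Category.assoc])
  · rw [← Category.assoc, ← Functor.map_comp]
    exact hx.2 T' (k ≫ j) l (by rw [hl, Functor.map_comp, Category.assoc])

theorem isAffineOpen_chart {T : Over (B R)} (W : T.left.affineOpens) :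
    ∃ (A : Type u) (_ : CommRing A) (_ : Algebra R A) (j : O R A ⟶ T), Etale j.left ∧
      Set.range j.left = (W.1 : Set ↥T.left) := by
  let φ : CommRingCat.of R ⟶ Γ(T.left, W.1) := Spec.preimage (W.2.fromSpec ≫ T.hom)
  letI : Algebra R Γ(T.left, W.1) := φ.hom.toAlgebra
  exact ⟨Γ(T.left, W.1), inferInstance, inferInstance, Over.homMk W.2.fromSpec (Spec.map_preimage _).symm,
    inferInstanceAs (Etale W.2.fromSpec), W.2.range_fromSpec⟩

/-- Let `(R → R', f)` be a glueing pair, `X = Spec R`, `U = Spec R_f`, `X' = Spec R'`, `U' = U ×_X X'`,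
and let `Y`, `Z` be algebraic spaces over `X`, glueable for `(R → R', f)`, with `Z` having affine
diagonal over `X`. Then morphisms `a : U ×_X Y → U ×_X Z` over `U` and `b : X' ×_X Y → X' ×_X Z`
over `X'` that induce the same morphism over `U'` are induced by a unique morphism `Y → Z` over `X`.
(The published statement asks both spaces to have affine diagonal over `X`; this row asks it only of
`Z`, which is all the argument uses.) -/
theorem result (R : Type u) [CommRing R] (R' : Type u) [CommRing R'] [Algebra R R']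
    (f : R) (hRR' : EtGlue.IsGlueingPair R R' f) {Y Z YU ZU YX ZX YU' ZU' : AlgSp.Space (Spec (CommRingCat.of R))}
    (hY : (∀ (A : Type u) [CommRing A] [Algebra R A]
      (g : (AlgSp.yon (Spec (CommRingCat.of R))).obj (Over.mk (Spec.map (CommRingCat.ofHom (algebraMap R A))) : Over (Spec (CommRingCat.of R))) ⟶ Y.obj),
      AlgSp.RepWith @Etale g → EtGlue.IsGlueable R R' f A))
    (hZ : (∀ (A : Type u) [CommRing A] [Algebra R A]
      (g : (AlgSp.yon (Spec (CommRingCat.of R))).obj (Over.mk (Spec.map (CommRingCat.ofHom (algebraMap R A))) : Over (Spec (CommRingCat.of R))) ⟶ Z.obj),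
      AlgSp.RepWith @Etale g → EtGlue.IsGlueable R R' f A))
    (hZd : AlgSp.IsAffineMor (Limits.diag Z.obj)) (πY : Y.obj ⟶ (AlgSp.yon (Spec (CommRingCat.of R))).obj (Over.mk (𝟙 _)))
    (πZ : Z.obj ⟶ (AlgSp.yon (Spec (CommRingCat.of R))).obj (Over.mk (𝟙 _)))
    (inU : (Over.mk (Spec.map (CommRingCat.ofHom (algebraMap R (Localization.Away f)))) : Over (Spec (CommRingCat.of R))) ⟶ Over.mk (𝟙 _))
    (inX : (Over.mk (Spec.map (CommRingCat.ofHom (algebraMap R R'))) : Over (Spec (CommRingCat.of R))) ⟶ Over.mk (𝟙 _))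
    (uY : YU ⟶ Y) (sY : YU.obj ⟶ (AlgSp.yon (Spec (CommRingCat.of R))).obj (Over.mk (Spec.map (CommRingCat.ofHom (algebraMap R (Localization.Away f)))) : Over (Spec (CommRingCat.of R))))
    (hYU : IsPullback uY.hom sY πY ((AlgSp.yon (Spec (CommRingCat.of R))).map inU))
    (uZ : ZU ⟶ Z) (sZ : ZU.obj ⟶ (AlgSp.yon (Spec (CommRingCat.of R))).obj (Over.mk (Spec.map (CommRingCat.ofHom (algebraMap R (Localization.Away f)))) : Over (Spec (CommRingCat.of R))))
    (hZU : IsPullback uZ.hom sZ πZ ((AlgSp.yon (Spec (CommRingCat.of R))).map inU))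
    (xY : YX ⟶ Y) (rY : YX.obj ⟶ (AlgSp.yon (Spec (CommRingCat.of R))).obj (Over.mk (Spec.map (CommRingCat.ofHom (algebraMap R R'))) : Over (Spec (CommRingCat.of R))))
    (hYX : IsPullback xY.hom rY πY ((AlgSp.yon (Spec (CommRingCat.of R))).map inX))
    (xZ : ZX ⟶ Z) (rZ : ZX.obj ⟶ (AlgSp.yon (Spec (CommRingCat.of R))).obj (Over.mk (Spec.map (CommRingCat.ofHom (algebraMap R R'))) : Over (Spec (CommRingCat.of R))))
    (hZX : IsPullback xZ.hom rZ πZ ((AlgSp.yon (Spec (CommRingCat.of R))).map inX))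
    (mY₁ : YU' ⟶ YU) (mY₂ : YU' ⟶ YX) (hYU' : IsPullback mY₁.hom mY₂.hom uY.hom xY.hom)
    (mZ₁ : ZU' ⟶ ZU) (mZ₂ : ZU' ⟶ ZX) (hZU' : IsPullback mZ₁.hom mZ₂.hom uZ.hom xZ.hom)
    (a : YU ⟶ ZU) (ha : a.hom ≫ sZ = sY) (b : YX ⟶ ZX) (hb : b.hom ≫ rZ = rY) (c : YU' ⟶ ZU')
    (hc₁ : c ≫ mZ₁ = mY₁ ≫ a) (hc₂ : c ≫ mZ₂ = mY₂ ≫ b) :
    ∃! φ : Y ⟶ Z, uY ≫ φ = a ≫ uZ ∧ xY ≫ φ = b ≫ xZ := by
  let au := a.hom ≫ uZ.hom
  let bx := b.hom ≫ xZ.hom
  have liftU : ∀ {A : Type u} [CommRing A] [Algebra R A] (h : (yon (B R)).obj (O R A) ⟶ Y.obj),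
      ∃ l : (yon (B R)).obj (O R (Af A f)) ⟶ YU.obj, l ≫ uY.hom = (yon (B R)).map (sp (loc A f)) ≫ h := by
    intro A _ _ h
    let q : O R (Af A f) ⟶ O R (Localization.Away f) :=
      sp (AlgHom.mk (Localization.awayMap (algebraMap R A) f) fun r => by
        simp [Localization.awayMap, IsLocalization.Away.map, ← IsScalarTower.algebraMap_apply])
    exact ⟨hYU.lift _ ((yon (B R)).map q) (S10707.hom_terminal_ext _ _), hYU.lift_fst _ _ _⟩
  have liftX : ∀ {A : Type u} [CommRing A] [Algebra R A] (h : (yon (B R)).obj (O R A) ⟶ Y.obj),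
      ∃ l : (yon (B R)).obj (O R (R' ⊗[R] A)) ⟶ YX.obj, l ≫ xY.hom = (yon (B R)).map (sp (bc R' A)) ≫ h ∧
        l ≫ rY = (yon (B R)).map (sp (Algebra.TensorProduct.includeLeft : R' →ₐ[R] R' ⊗[R] A)) := by
    intro A _ _ h
    exact ⟨hYX.lift _ ((yon (B R)).map (sp (Algebra.TensorProduct.includeLeft : R' →ₐ[R] R' ⊗[R] A)))
      (S10707.hom_terminal_ext _ _), hYX.lift_fst _ _ _, hYX.lift_snd _ _ _⟩
  -- uniqueness on etale affine schemes
  have ext_affine : ∀ {A : Type u} [CommRing A] [Algebra R A] (h : (yon (B R)).obj (O R A) ⟶ Y.obj),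
      RepWith @Etale h → ∀ x y, Induces uY.hom xY.hom au bx (O R A) h x →
        Induces uY.hom xY.hom au bx (O R A) h y → x = y := by
    intro A _ _ h hh x y hx hy
    obtain ⟨l, hl⟩ := liftU h
    obtain ⟨l', hl', hl''⟩ := liftX h
    exact eq_of_agree hRR' Z.property (hY A h hh) x y
      ((hx.1 _ _ l hl).trans (hy.1 _ _ l hl).symm) ((hx.2 _ _ l' hl').trans (hy.2 _ _ l' hl').symm)
  have ext_etale : ∀ (T : Over (B R)) (h : (yon (B R)).obj T ⟶ Y.obj), RepWith @Etale h →
      ∀ x y, Induces uY.hom xY.hom au bx T h x → Induces uY.hom xY.hom au bx T h y → x = y := by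
    intro T h hh x y hx hy
    choose A hA hA' j hj hjr using fun W => isAffineOpen_chart (T := T) W
    refine Lib.AlgSpace.hom_ext_of_family _ j (Lib.AlgSpace.ofArrows_mem_J _ _
      (fun W => have := hj W; inferInstance) (fun W => have := hj W; inferInstance) fun t => ?_) fun W => ?_
    · obtain ⟨W, hW, htW, -⟩ := exists_isAffineOpen_mem_and_subset (X := T.left) (x := t) (U := ⊤) trivial
      exact ⟨⟨W, hW⟩, (show t ∈ Set.range (j ⟨W, hW⟩).left by rw [hjr]; exact htW)⟩
    · exact ext_affine _ (Lib.AlgSpace.repWith_yon_map_comp (P := @Etale) (hj W) hh) _ _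
        (hx.comp (j W)) (hy.comp (j W))
  -- existence on etale affine schemes
  have exist_affine : ∀ {A : Type u} [CommRing A] [Algebra R A] (h : (yon (B R)).obj (O R A) ⟶ Y.obj),
      RepWith @Etale h → ∃ x, Induces uY.hom xY.hom au bx (O R A) h x := by
    intro A _ _ h hh
    obtain ⟨l, hl⟩ := liftU h
    obtain ⟨l', hl', hl''⟩ := liftX h
    obtain ⟨x, hx₁, hx₂⟩ := exists_glue_hom hRR' Z.property hZd (hY A h hh) (l ≫ au) (l' ≫ bx) (by
      intro T k₁ k₂ hk
      have e : ((yon (B R)).map k₁ ≫ l) ≫ uY.hom = ((yon (B R)).map k₂ ≫ l') ≫ xY.hom := by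
        simp only [Category.assoc]
        rw [hl, hl', ← Category.assoc, ← Category.assoc, ← Functor.map_comp, ← Functor.map_comp, hk]
      let m := hYU'.lift _ _ e
      have e₁ : m ≫ mY₁.hom = (yon (B R)).map k₁ ≫ l := hYU'.lift_fst _ _ e
      have e₂ : m ≫ mY₂.hom = (yon (B R)).map k₂ ≫ l' := hYU'.lift_snd _ _ e
      have c₁ : c.hom ≫ mZ₁.hom = mY₁.hom ≫ a.hom := congrArg InducedCategory.Hom.hom hc₁
      have c₂ : c.hom ≫ mZ₂.hom = mY₂.hom ≫ b.hom := congrArg InducedCategory.Hom.hom hc₂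
      calc (yon (B R)).map k₁ ≫ l ≫ au = m ≫ (mY₁.hom ≫ a.hom) ≫ uZ.hom := by
            simp only [au, Category.assoc]; rw [reassoc_of% e₁]
        _ = m ≫ (mY₂.hom ≫ b.hom) ≫ xZ.hom := by
            rw [← c₁, ← c₂, Category.assoc, Category.assoc, hZU'.w]
        _ = (yon (B R)).map k₂ ≫ l' ≫ bx := by
            simp only [bx, Category.assoc]; rw [reassoc_of% e₂])
    refine ⟨x, fun T' k m hm => ?_, fun T' k m hm => ?_⟩
    · obtain ⟨t, ht⟩ := (yon (B R)).map_surjective (m ≫ sY)
      obtain ⟨k', rfl⟩ := exists_factor_loc k t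
      have : (yon (B R)).map k' ≫ l = m := hYU.hom_ext
        (by rw [Category.assoc, hl, hm, Functor.map_comp, Category.assoc])
        (by
          obtain ⟨p, hp⟩ := (yon (B R)).map_surjective (((yon (B R)).map k' ≫ l) ≫ sY)
          rw [← hp, ← ht, hom_to_loc_ext p t])
      rw [Functor.map_comp, Category.assoc, hx₁, ← Category.assoc, this]
    · obtain ⟨t, ht⟩ := (yon (B R)).map_surjective (m ≫ rY)
      let e := pullbackSpecIso R R' A
      let k' : T' ⟶ O R (R' ⊗[R] A) := Over.homMk (pullback.lift t.left k.left ((Over.w t).trans (Over.w k).symm) ≫ e.hom) (by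
        show (pullback.lift t.left k.left _ ≫ e.hom) ≫ Spec.map (CommRingCat.ofHom (algebraMap R (R' ⊗[R] A))) = _
        rw [Category.assoc, pullbackSpecIso_hom_base, pullback.lift_fst_assoc]
        exact Over.w t)
      have hk' : k' ≫ sp (bc R' A) = k := Over.OverMorphism.ext (by
        show (pullback.lift t.left k.left _ ≫ e.hom) ≫ _ = _
        rw [Category.assoc]
        erw [pullbackSpecIso_hom_snd]
        exact pullback.lift_snd _ _ _)
      have hk'' : k' ≫ sp (Algebra.TensorProduct.includeLeft : R' →ₐ[R] R' ⊗[R] A) = t := Over.OverMorphism.ext (by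
        show (pullback.lift t.left k.left _ ≫ e.hom) ≫ _ = _
        rw [Category.assoc]
        erw [pullbackSpecIso_hom_fst]
        exact pullback.lift_fst _ _ _)
      have : (yon (B R)).map k' ≫ l' = m := hYX.hom_ext
        (by rw [Category.assoc, hl', hm, ← Category.assoc, ← Functor.map_comp, hk'])
        (by rw [Category.assoc, hl'', ← Functor.map_comp, hk'', ht])
      rw [← hk', Functor.map_comp, Category.assoc, hx₂, ← Category.assoc, this]
  obtain ⟨-, U, p, hpe, hps⟩ := Y.property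
  haveI : Sheaf.IsLocallySurjective p := Lib.AlgSpace.isLocallySurjective_of_etale hpe hps
  -- glue along the affine opens of the atlas
  choose A hA hA' j hj hjr using fun W => isAffineOpen_chart (T := U) W
  have hje : ∀ W, RepWith @Etale ((yon (B R)).map (j W) ≫ p) :=
    fun W => Lib.AlgSpace.repWith_yon_map_comp (P := @Etale) (hj W) hpe
  choose x hx using fun W => exist_affine _ (hje W)
  have hcov : Sieve.ofArrows _ j ∈ AlgSp.J _ U := by
    refine Lib.AlgSpace.ofArrows_mem_J _ _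
      (fun W => have := hj W; inferInstance) (fun W => have := hj W; inferInstance) fun t => ?_
    obtain ⟨W, hW, htW, -⟩ := exists_isAffineOpen_mem_and_subset (X := U.left) (x := t) (U := ⊤) trivial
    exact ⟨⟨W, hW⟩, (show t ∈ Set.range (j ⟨W, hW⟩).left by rw [hjr]; exact htW)⟩
  obtain ⟨w, hw, -⟩ := Lib.AlgSpace.exists_desc_of_family _ j hcov x (fun i k W gi gk e => by
    obtain ⟨P, p₁, p₂, sq⟩ : ∃ (P : Over (B R)) (p₁ : P ⟶ _) (p₂ : P ⟶ _), IsPullback p₁ p₂ (j i) (j k) :=
      ⟨_, _, _, IsPullback.of_hasPullback (j i) (j k)⟩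
    have he : Etale p₁.left :=
      MorphismProperty.of_isPullback (sq.map (Over.forget (B R))).flip (hj k)
    have key : (yon (B R)).map p₁ ≫ x i = (yon (B R)).map p₂ ≫ x k := by
      refine ext_etale P _ (Lib.AlgSpace.repWith_yon_map_comp (P := @Etale) he (hje i)) _ _ ((hx i).comp p₁) ?_
      rw [← Category.assoc, ← Functor.map_comp, sq.w, Functor.map_comp, Category.assoc]
      exact (hx k).comp p₂
    rw [← sq.lift_fst gi gk e, Functor.map_comp, Category.assoc, key, ← Category.assoc, ← Functor.map_comp,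
      sq.lift_snd])
  have cover_pb : ∀ {T' : Over (B R)} (k : T' ⟶ U),
      Sieve.ofArrows (fun W => pullback k (j W)) (fun W => pullback.fst k (j W)) ∈ AlgSp.J _ T' := by
    intro T' k
    have he : ∀ W, Etale (pullback.fst k (j W)).left := fun W =>
      MorphismProperty.of_isPullback ((IsPullback.of_hasPullback k (j W)).map (Over.forget (B R))).flip (hj W)
    refine Lib.AlgSpace.ofArrows_mem_J _ _
      (fun W => have := he W; inferInstance) (fun W => have := he W; inferInstance) fun t => ?_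
    obtain ⟨W, hW, htW, -⟩ := exists_isAffineOpen_mem_and_subset (X := U.left) (x := k.left t) (U := ⊤) trivial
    obtain ⟨z, hz⟩ : k.left t ∈ Set.range (j ⟨W, hW⟩).left := by rw [hjr]; exact htW
    let sq' := (IsPullback.of_hasPullback k (j ⟨W, hW⟩)).map (Over.forget (B R))
    obtain ⟨z', hz', -⟩ := Scheme.Pullback.exists_preimage_pullback (f := k.left) (g := (j ⟨W, hW⟩).left) t z hz.symm
    refine ⟨⟨W, hW⟩, sq'.isoPullback.inv z', ?_⟩
    exact (Scheme.Hom.comp_apply sq'.isoPullback.inv _ z').symm.trans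
      ((congrArg (fun m => m z') sq'.isoPullback_inv_fst).trans hz')
  have hIw : Induces uY.hom xY.hom au bx U p w := by
    refine ⟨fun T' k l hl => ?_, fun T' k l hl => ?_⟩ <;>
      refine Lib.AlgSpace.hom_ext_of_family _ _ (cover_pb k) fun W => ?_
    · rw [← Category.assoc ((yon (B R)).map (pullback.fst k (j W))) ((yon (B R)).map k), ← Functor.map_comp,
        pullback.condition, Functor.map_comp, Category.assoc, hw W, ← Category.assoc ((yon (B R)).map (pullback.fst k (j W))) l]
      refine (hx W).1 _ _ _ ?_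
      rw [Category.assoc, hl, ← Category.assoc, ← Functor.map_comp, pullback.condition, Functor.map_comp,
        Category.assoc]
    · rw [← Category.assoc ((yon (B R)).map (pullback.fst k (j W))) ((yon (B R)).map k), ← Functor.map_comp,
        pullback.condition, Functor.map_comp, Category.assoc, hw W, ← Category.assoc ((yon (B R)).map (pullback.fst k (j W))) l]
      refine (hx W).2 _ _ _ ?_
      rw [Category.assoc, hl, ← Category.assoc, ← Functor.map_comp, pullback.condition, Functor.map_comp,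
        Category.assoc]
  -- descend along the atlas
  obtain ⟨R₀, r₁, r₂, sqR⟩ := Lib.AlgSpace.exists_isPullback_yon Y.property.diag p p
  have hr : Etale r₁.left := Lib.AlgSpace.repWith_property hpe sqR.flip
  have hcompat : (yon (B R)).map r₁ ≫ w = (yon (B R)).map r₂ ≫ w := by
    refine ext_etale R₀ _ (Lib.AlgSpace.repWith_yon_map_comp (P := @Etale) hr hpe) _ _ (hIw.comp r₁) ?_
    rw [sqR.w]
    exact hIw.comp r₂
  obtain ⟨φ, hφ⟩ := Lib.AlgSpace.exists_desc p sqR w hcompat
  have hlift : ∀ {F : Sp (B R)} (u : F ⟶ Y.obj) (e₁ e₂ : F ⟶ Z.obj),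
      (∀ (T' : Over (B R)) (k : T' ⟶ U) (l : (yon (B R)).obj T' ⟶ F),
        l ≫ u = (yon (B R)).map k ≫ p → l ≫ e₁ = l ≫ e₂) → e₁ = e₂ := by
    intro F u e₁ e₂ H
    refine Lib.AlgSpace.hom_ext fun T g => ?_
    obtain ⟨T', q, η, hq, e⟩ := Lib.AlgSpace.exists_lift_of_isLocallySurjective p (g ≫ u)
    obtain ⟨k, rfl⟩ := (yon (B R)).map_surjective η
    haveI := Lib.AlgSpace.epi_yon_map q hq
    rw [← cancel_epi ((yon (B R)).map q), ← Category.assoc, ← Category.assoc]
    exact H T' k _ (by rw [Category.assoc, e])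
  refine ⟨ObjectProperty.homMk φ, ⟨ObjectProperty.hom_ext _ (hlift uY.hom (uY.hom ≫ φ) au fun T' k l hl => ?_),
    ObjectProperty.hom_ext _ (hlift xY.hom (xY.hom ≫ φ) bx fun T' k l hl => ?_)⟩, fun φ' hφ' => ?_⟩
  · rw [← Category.assoc l uY.hom, hl, Category.assoc, hφ]
    exact hIw.1 T' k l hl
  · rw [← Category.assoc l xY.hom, hl, Category.assoc, hφ]
    exact hIw.2 T' k l hl
  · apply ObjectProperty.hom_ext
    show φ'.hom = φ
    rw [← cancel_epi p, hφ]
    refine ext_etale U p hpe _ _ ⟨fun T' k l hl => ?_, fun T' k l hl => ?_⟩ hIw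
    · rw [← Category.assoc, ← hl, Category.assoc]
      exact congrArg (l ≫ ·) (congrArg InducedCategory.Hom.hom hφ'.1)
    · rw [← Category.assoc, ← hl, Category.assoc]
      exact congrArg (l ≫ ·) (congrArg InducedCategory.Hom.hom hφ'.2)

end Groth.Agent.S10726
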