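import Groth.Statements.S10727
import Groth.Agent.H48.GlueExist
import Mathlib.RingTheory.Localization.Away.Basic

set_option autoImplicit false
set_option linter.style.haveILetI false
universe u
open TensorProduct
open EtAlg

namespace Groth.Agent.S10727

/-- Glueing affine schemes along a glueing pair, stated for their coordinate rings. Let `(R → R', f)` be
a glueing pair, `A₁` an `R`-algebra in which `f` is invertible, `A'` an `R'`-algebra and `φ : A'_f ≅
R' ⊗_R A₁` an isomorphism of `R'`-algebras. Then there is an `R`-algebra `A`, glueable as an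
`R`-module, with isomorphisms `A_f ≅ A₁` of `R`-algebras and `R' ⊗_R A ≅ A'` of `R'`-algebras under
which `φ` is the canonical identification `(R' ⊗_R A)_f = R' ⊗_R A_f`. (The published statement is
that base change is an equivalence between affine schemes over `Spec R` that are glueable and
triples of affine schemes over `Spec R_f`, `Spec R'_f`, `Spec R'` with cartesian squares; this row
states only that every such triple arises, on coordinate rings.) -/
theorem result (R : Type u) [CommRing R] (R' : Type u) [CommRing R'] [Algebra R R']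
    (f : R) (hRR' : EtGlue.IsGlueingPair R R' f) (A₁ : Type u) [CommRing A₁] [Algebra R A₁]
    (h₁ : IsUnit (algebraMap R A₁ f)) (A' : Type u) [CommRing A'] [Algebra R A'] [Algebra R' A']
    [IsScalarTower R R' A'] (φ : Localization.Away (algebraMap R A' f) ≃ₐ[R'] R' ⊗[R] A₁) :
    ∃ (A : Type u) (_ : CommRing A) (_ : Algebra R A) (_ : EtGlue.IsGlueable R R' f A)
      (e₁ : Localization.Away (algebraMap R A f) ≃ₐ[R] A₁) (e' : R' ⊗[R] A ≃ₐ[R'] A'),
      ∀ a : A, φ (algebraMap A' (Localization.Away (algebraMap R A' f)) (e' ((1 : R') ⊗ₜ[R] a))) =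
        (1 : R') ⊗ₜ[R] e₁ (algebraMap A (Localization.Away (algebraMap R A f)) a) := by
  let β : A' →ₐ[R'] R' ⊗[R] A₁ := φ.toAlgHom.comp (IsScalarTower.toAlgHom R' A' _)
  let u : A' × A₁ →ₐ[R] R' ⊗[R] A₁ := (β.restrictScalars R).comp (AlgHom.fst R A' A₁)
  let v : A' × A₁ →ₐ[R] R' ⊗[R] A₁ := Algebra.TensorProduct.includeRight.comp (AlgHom.snd R A' A₁)
  let A := AlgHom.equalizer u v
  let q₁ : A →ₐ[R] A' := (AlgHom.fst R A' A₁).comp A.val
  let q₂ : A →ₐ[R] A₁ := (AlgHom.snd R A' A₁).comp A.val
  have hu : ∀ n : ℕ, IsUnit (algebraMap R A₁ f ^ n) := fun n => h₁.pow n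
  have hfn : ∀ n : ℕ, Function.Bijective fun x : A₁ => f ^ n • x := fun n => by
    simp only [Algebra.smul_def, map_pow]
    exact IsUnit.isUnit_iff_mulLeft_bijective.1 (hu n)
  have hβ : ∀ z, ∃ (n : ℕ) (x : A'), β x = f ^ n • z := by
    intro z
    obtain ⟨n, x, hx⟩ := IsLocalization.Away.surj (algebraMap R A' f) (φ.symm z)
    refine ⟨n, x, ?_⟩
    show φ (algebraMap A' _ x) = _
    have e : φ (algebraMap A' (Localization.Away (algebraMap R A' f)) (algebraMap R A' f)) =
        algebraMap R (R' ⊗[R] A₁) f := by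
      rw [← IsScalarTower.algebraMap_apply R A' (Localization.Away (algebraMap R A' f)),
        IsScalarTower.algebraMap_apply R R' (Localization.Away (algebraMap R A' f)), φ.commutes,
        ← IsScalarTower.algebraMap_apply R R' (R' ⊗[R] A₁)]
    rw [← hx, map_mul, φ.apply_symm_apply, map_pow, e, Algebra.smul_def, map_pow, mul_comm]
  have hβ0 : ∀ x, β x = 0 → ∃ n : ℕ, f ^ n • x = 0 := by
    intro x hx
    obtain ⟨⟨_, n, rfl⟩, hn⟩ := (IsLocalization.map_eq_zero_iff
      (Submonoid.powers (algebraMap R A' f)) (Localization.Away (algebraMap R A' f)) x).1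
      (φ.map_eq_zero_iff.1 hx)
    exact ⟨n, by rw [Algebra.smul_def, map_pow]; exact hn⟩
  obtain ⟨hloc, hbij, hgl⟩ := H48.GlueExist.glue_main hRR' hfn β.toLinearMap hβ hβ0
    q₁.toLinearMap q₂.toLinearMap (fun a b h1 h2 => Subtype.ext (Prod.ext h1 h2)) (fun m => m.2)
    (fun x y hxy => ⟨⟨(x, y), hxy⟩, rfl, rfl⟩)
  letI : Algebra A A₁ := q₂.toRingHom.toAlgebra
  haveI : IsScalarTower R A A₁ := IsScalarTower.of_algebraMap_eq fun r => (q₂.commutes r).symm
  haveI : IsLocalization.Away (algebraMap R A f) A₁ := by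
    have : IsLocalizedModule (Submonoid.powers f) (IsScalarTower.toAlgHom R A A₁).toLinearMap := hloc
    rw [isLocalizedModule_iff_isLocalization, Algebra.algebraMapSubmonoid, Submonoid.map_powers] at this
    exact this
  let e₁ : Localization.Away (algebraMap R A f) ≃ₐ[R] A₁ :=
    (IsLocalization.algEquiv (Submonoid.powers (algebraMap R A f))
      (Localization.Away (algebraMap R A f)) A₁).restrictScalars R
  let π : R' ⊗[R] A →ₐ[R'] A' :=
    Algebra.TensorProduct.lift (Algebra.ofId R' A') q₁ (fun _ _ => Commute.all _ _)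
  have hπ : ∀ t, π t = q₁.toLinearMap.liftBaseChange R' t := by
    intro t
    induction t with
    | zero => simp
    | tmul r a => simp [π, Algebra.smul_def, LinearMap.liftBaseChange_tmul]
    | add a b ha hb => rw [map_add, map_add, ha, hb]
  have hπb : Function.Bijective π := by
    rw [show (π : R' ⊗[R] A → A') = q₁.toLinearMap.liftBaseChange R' from funext hπ]; exact hbij
  refine ⟨A, inferInstance, inferInstance, hgl, e₁, AlgEquiv.ofBijective π hπb, fun a => ?_⟩
  have h1 : e₁ (algebraMap A (Localization.Away (algebraMap R A f)) a) = q₂ a :=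
    (IsLocalization.algEquiv (Submonoid.powers (algebraMap R A f))
      (Localization.Away (algebraMap R A f)) A₁).commutes a
  rw [h1]
  show β (π ((1 : R') ⊗ₜ[R] a)) = _
  have h2 : π ((1 : R') ⊗ₜ[R] a) = (a : A' × A₁).1 := by simp [π, q₁]
  rw [h2]
  exact a.2

end Groth.Agent.S10727
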