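import Groth.Statements.S10728
import Groth.Agent.Lib.AlgSpColimit.Separated
-- import your own Groth.Agent.* helpers here

set_option autoImplicit false
universe w v u
open CategoryTheory CategoryTheory.Limits AlgebraicGeometry
open AlgSp

namespace Groth.Agent.S10728

/-- Let `B` be an algebraic space over `S`, `P` the property 'separated over `B`' on algebraic spaces
over `B`, `D` a diagram in the full subcategory it defines and `c` a cocone on `D` that is a colimit
there. Assume the coprojections are jointly surjective, that for every separated etale `U → c.pt`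
every cocone of cartesian squares `D_i ×_{c.pt} U → U` is a colimit in that subcategory, and that
every system of separated etale `U_i → D_i` with cartesian transition squares arises from some
separated etale `U → c.pt` by base change. Then `c` is also a colimit when viewed among all
algebraic spaces over `B`. -/
theorem result {S : Scheme.{u}} {B : AlgSp.Space S} (P : ObjectProperty (Over B))
    (hP : ∀ T : Over B, P T ↔ AlgSp.IsSeparatedMor T.hom.hom) {I : Type v} [Category.{w} I]
    (D : I ⥤ P.FullSubcategory) (c : Cocone D) (h₂ : IsColimit c)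
    (h₃ : ∀ x : AlgSp.Points c.pt.obj.left.obj, ∃ (i : I) (y : AlgSp.Points (D.obj i).obj.left.obj),
      AlgSp.Points.map (c.ι.app i).hom.left.hom y = x)
    (h₄ : ∀ (D' : I ⥤ P.FullSubcategory) (α : D' ⟶ D) (c' : Cocone D') (a : c'.pt ⟶ c.pt),
      AlgSp.IsEtaleMor a.hom.left.hom → AlgSp.IsSeparatedMor a.hom.left.hom →
      (∀ i, IsPullback (c'.ι.app i).hom.left.hom (α.app i).hom.left.hom a.hom.left.hom (c.ι.app i).hom.left.hom) →
        Nonempty (IsColimit c'))
    (h₅ : ∀ (D' : I ⥤ P.FullSubcategory) (α : D' ⟶ D),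
      (∀ ⦃i j : I⦄ (g : i ⟶ j), IsPullback (D'.map g).hom.left.hom (α.app i).hom.left.hom (α.app j).hom.left.hom
        (D.map g).hom.left.hom) →
      (∀ i, AlgSp.IsEtaleMor (α.app i).hom.left.hom) → (∀ i, AlgSp.IsSeparatedMor (α.app i).hom.left.hom) →
        ∃ (c' : Cocone D') (a : c'.pt ⟶ c.pt), AlgSp.IsEtaleMor a.hom.left.hom ∧ AlgSp.IsSeparatedMor a.hom.left.hom ∧
          ∀ i, IsPullback (c'.ι.app i).hom.left.hom (α.app i).hom.left.hom a.hom.left.hom (c.ι.app i).hom.left.hom) :
    Nonempty (IsColimit (P.ι.mapCocone c)) := by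
  refine ⟨IsColimit.ofExistsUnique fun s ↦ ?_⟩
  obtain ⟨g, ⟨hgx, hg⟩, hu⟩ := Groth.Agent.Lib.AlgSpColimit.Separated.existsUnique_desc hP h₂ h₃ h₄ h₅
    s.pt.left.property s.pt.hom.hom (fun i ↦ (s.ι.app i).left.hom)
    (fun i ↦ congrArg InducedCategory.Hom.hom (Over.w (s.ι.app i)))
    (fun i j f ↦ congrArg (fun k ↦ k.left.hom) (s.w f))
  exact ⟨Over.homMk (ObjectProperty.homMk g) (ObjectProperty.hom_ext _ hgx),
    fun i ↦ Over.OverMorphism.ext (ObjectProperty.hom_ext _ (hg i)),
    fun m hm ↦ Over.OverMorphism.ext (ObjectProperty.hom_ext _ (hu m.left.hom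
      ⟨congrArg InducedCategory.Hom.hom (Over.w m),
        fun i ↦ congrArg (fun k ↦ k.left.hom) (hm i)⟩))⟩

end Groth.Agent.S10728
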