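import Groth.Statements.S10730
import Groth.Agent.Lib.AlgSpColimit.EtaleOver
-- import your own Groth.Agent.* helpers here

set_option autoImplicit false
universe w v u
open CategoryTheory CategoryTheory.Limits AlgebraicGeometry
open AlgSp

open Groth.Agent.Lib.AlgSpColimit Groth.Agent.Lib.AlgSpColimit.EtaleDescent Groth.Agent.Lib.AlgSpace

namespace Groth.Agent.S10730

/-- Let `B` be an algebraic space over `S`, `D : I ⥤ Over B` a diagram of algebraic spaces over `B` and
`c` a cocone. Assume (1) the base change functor from algebraic spaces etale over `c.pt` to systems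
of algebraic spaces etale over the `D_i` with cartesian transition squares is an equivalence: every
such system is the base change of some etale `U → c.pt`, and every morphism between the base-change
systems of two etale `U, U' → c.pt` comes from a unique morphism `U → U'` over `c.pt`; and (2) for
every affine scheme `B'` etale over `B`, affine scheme `Z` over `B'`, affine scheme `U` etale over
`c.pt ×_B B'` and cocone of morphisms `U ×_{c.pt} D_i → Z` over `B'`, there is a unique `U → Z` over
`B'` inducing it. Then `c` is a colimit in algebraic spaces over `B`. -/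
theorem result {S : Scheme.{u}} {B : AlgSp.Space S} {I : Type v} [Category.{w} I]
    (D : I ⥤ Over B) (c : Cocone D)
    (h₁ : ∀ (D' : I ⥤ Over B) (α : D' ⟶ D),
      (∀ ⦃i j : I⦄ (g : i ⟶ j), IsPullback (D'.map g).left.hom (α.app i).left.hom (α.app j).left.hom (D.map g).left.hom) →
      (∀ i, AlgSp.IsEtaleMor (α.app i).left.hom) →
        ∃ (c' : Cocone D') (a : c'.pt ⟶ c.pt), AlgSp.IsEtaleMor a.left.hom ∧
          ∀ i, IsPullback (c'.ι.app i).left.hom (α.app i).left.hom a.left.hom (c.ι.app i).left.hom)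
    (h₁' : ∀ (U U' : Over B) (u : U ⟶ c.pt) (u' : U' ⟶ c.pt), AlgSp.IsEtaleMor u.left.hom → AlgSp.IsEtaleMor u'.left.hom →
      ∀ (DU DU' : I ⥤ Over B) (αU : DU ⟶ D) (αU' : DU' ⟶ D) (ιU : DU ⟶ (Functor.const I).obj U)
        (ιU' : DU' ⟶ (Functor.const I).obj U'),
        (∀ i, IsPullback (ιU.app i).left.hom (αU.app i).left.hom u.left.hom (c.ι.app i).left.hom) →
        (∀ i, IsPullback (ιU'.app i).left.hom (αU'.app i).left.hom u'.left.hom (c.ι.app i).left.hom) →
        ∀ (β : DU ⟶ DU'), β ≫ αU' = αU →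
          ∃! m : U ⟶ U', m ≫ u' = u ∧ ∀ i, ιU.app i ≫ m = β.app i ≫ ιU'.app i)
    (h₂ : ∀ (B' Zs Us : Over S) (b : (AlgSp.yon S).obj B' ⟶ B.obj) (z : Zs ⟶ B') {XB : AlgSp.Space S}
      (x₁ : XB ⟶ c.pt.left) (x₂ : XB.obj ⟶ (AlgSp.yon S).obj B') (uu : (AlgSp.yon S).obj Us ⟶ XB.obj)
      (DU : I ⥤ AlgSp.Space S) (αU : DU ⟶ D ⋙ Over.forget B)
      (ιU : DU ⟶ (Functor.const I).obj ((AlgSp.ofScheme S).obj Us))
      (φ : DU ⟶ (Functor.const I).obj ((AlgSp.ofScheme S).obj Zs)),
      IsAffine B'.left → IsAffine Zs.left → IsAffine Us.left → AlgSp.RepWith @Etale b →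
      IsPullback x₁.hom x₂ c.pt.hom.hom b → AlgSp.RepWith @Etale uu →
      (∀ i, IsPullback (ιU.app i).hom (αU.app i).hom (uu ≫ x₁.hom) (c.ι.app i).left.hom) →
      (∀ i, (φ.app i).hom ≫ (AlgSp.yon S).map z = (ιU.app i).hom ≫ uu ≫ x₂) →
        ∃! fz : Us ⟶ Zs, (AlgSp.yon S).map fz ≫ (AlgSp.yon S).map z = uu ≫ x₂ ∧
          ∀ i, (ιU.app i).hom ≫ (AlgSp.yon S).map fz = (φ.app i).hom) :
    Nonempty (IsColimit c) := by
  have H : Hyp c.pt.hom.hom (base D) (fun i ↦ (c.ι.app i).left.hom) :=
    { hB := B.property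
      hC := c.pt.left.property
      hD := fun i ↦ (D.obj i).left.property
      hι := base_w D c
      exist := fun D' α hD' hcart het ↦ by
        let DO : I ⥤ Over B :=
          { obj := fun i ↦ mkOver (hD' i) (α.app i ≫ (D.obj i).hom.hom)
            map := fun {i j} f ↦ mkOverHom (D'.map f) (by
              show D'.map f ≫ α.app j ≫ _ = α.app i ≫ _
              rw [← Category.assoc, α.naturality, Category.assoc]
              exact congrArg (α.app i ≫ ·) (EtaleDescent.over_w (D.map f)))
            map_id := fun i ↦ over_hom_ext (D'.map_id i)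
            map_comp := fun f g ↦ over_hom_ext (D'.map_comp f g) }
        let αO : DO ⟶ D :=
          { app := fun i ↦ mkOverHom (T := DO.obj i) (α.app i) rfl
            naturality := fun i j f ↦ over_hom_ext (α.naturality f) }
        obtain ⟨c', a, ha, hsq⟩ := h₁ DO αO hcart het
        exact ⟨c'.pt.left.obj, c'.pt.left.property, a.left.hom, fun i ↦ (c'.ι.app i).left.hom, ha,
          hsq, fun i j f ↦ congrArg (fun r ↦ r.left.hom) (c'.w f)⟩
      full := fun U U' hU hU' u u' hu hu' k hk hnat ↦ by
        have hl : ∀ i, k i ≫ u' = pullback.snd u (c.ι.app i).left.hom ≫ (c.ι.app i).left.hom := hk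
        have hw : ∀ ⦃i j : I⦄ (f : i ⟶ j), trB D c u f ≫ k j = k i := hnat
        let β : baseChange D c hU u ⟶ baseChange D c hU' u' :=
          { app := fun i ↦ mkOverHom (T := (baseChange D c hU u).obj i)
              (T' := (baseChange D c hU' u').obj i) (pullback.lift (k i) (pullback.snd _ _) (hl i))
              (pullback.lift_snd_assoc _ _ _ _)
            naturality := fun i j f ↦ over_hom_ext (by
              show trB D c u f ≫ pullback.lift (k j) (pullback.snd _ _) (hl j) =
                pullback.lift (k i) (pullback.snd _ _) (hl i) ≫ trB D c u' f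
              refine pullback.hom_ext ?_ ?_
              · exact ((Category.assoc _ _ _).trans ((congrArg (trB D c u f ≫ ·)
                  (pullback.lift_fst _ _ _)).trans (hw f))).trans ((Category.assoc _ _ _).trans
                    ((congrArg (_ ≫ ·) (trB_fst D c u' f)).trans (pullback.lift_fst _ _ _))).symm
              · exact ((Category.assoc _ _ _).trans ((congrArg (trB D c u f ≫ ·)
                  (pullback.lift_snd _ _ _)).trans (trB_snd D c u f))).trans
                  ((Category.assoc _ _ _).trans ((congrArg (_ ≫ ·) (trB_snd D c u' f)).trans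
                    (pullback.lift_snd_assoc _ _ _ _))).symm) }
        obtain ⟨m, ⟨hm, hmk⟩, hum⟩ := h₁' (mkOver hU (u ≫ c.pt.hom.hom))
          (mkOver hU' (u' ≫ c.pt.hom.hom)) (mkOverHom (T := mkOver hU (u ≫ c.pt.hom.hom)) u rfl)
          (mkOverHom (T := mkOver hU' (u' ≫ c.pt.hom.hom)) u' rfl) hu hu' _ _
          (baseChangeHom D c hU u) (baseChangeHom D c hU' u') (baseChangePt D c hU u)
          (baseChangePt D c hU' u') (fun i ↦ IsPullback.of_hasPullback _ _)
          (fun i ↦ IsPullback.of_hasPullback _ _) β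
          (NatTrans.ext (funext fun i ↦ over_hom_ext (pullback.lift_snd _ _ _)))
        refine ⟨m.left.hom, ⟨congrArg (fun r ↦ r.left.hom) hm, fun i ↦
          (congrArg (fun r ↦ r.left.hom) (hmk i)).trans (pullback.lift_fst _ _ _)⟩,
          fun m' hm' ↦ ?_⟩
        exact congrArg (fun r ↦ r.left.hom) (hum
          (mkOverHom (T := mkOver hU (u ≫ c.pt.hom.hom)) (T' := mkOver hU' (u' ≫ c.pt.hom.hom)) m'
            (by show m' ≫ u' ≫ _ = u ≫ _; rw [reassoc_of% hm'.1]))
          ⟨over_hom_ext hm'.1, fun i ↦ over_hom_ext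
            ((hm'.2 i).trans (pullback.lift_fst _ _ _).symm)⟩)
      aff := fun B' Zs Us b z hB' hZs hUs hb uu huu φ hφ hφz ↦ by
        let XB : AlgSp.Space S := ⟨pullback c.pt.hom.hom b, isAlgSpace_of_isPullback
          (IsPullback.of_hasPullback _ _) B.property.diag c.pt.left.property
          (AlgSp.IsAlgSpace.yon_obj _)⟩
        let u : (AlgSp.yon S).obj Us ⟶ c.pt.left.obj := uu ≫ pullback.fst _ _
        let DU := baseChange D c (AlgSp.IsAlgSpace.yon_obj Us) u
        have hφ' : ∀ ⦃i j : I⦄ (f : i ⟶ j), trB D c u f ≫ φ j = φ i := hφ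
        obtain ⟨fz, ⟨hf₁, hf₂⟩, hf⟩ := h₂ B' Zs Us b z (XB := XB)
          (ObjectProperty.homMk (pullback.fst c.pt.hom.hom b)) (pullback.snd c.pt.hom.hom b) uu
          (DU ⋙ Over.forget B) (Functor.whiskerRight (baseChangeHom D c _ u) (Over.forget B))
          { app := fun i ↦ ObjectProperty.homMk (pullback.fst u (c.ι.app i).left.hom)
            naturality := fun i j f ↦ ObjectProperty.hom_ext _
              ((trB_fst D c u f).trans (Category.comp_id _).symm) }
          { app := fun i ↦ ObjectProperty.homMk (φ i)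
            naturality := fun i j f ↦ ObjectProperty.hom_ext _
              ((hφ' f).trans (Category.comp_id _).symm) }
          hB' hZs hUs hb (IsPullback.of_hasPullback _ _) huu
          (fun i ↦ IsPullback.of_hasPullback _ _) hφz
        refine ⟨(AlgSp.yon S).map fz, ⟨hf₁, hf₂⟩, fun g hg ↦ ?_⟩
        obtain ⟨g', rfl⟩ := (AlgSp.yon S).map_surjective g
        exact congrArg (AlgSp.yon S).map (hf g' ⟨hg.1, hg.2⟩) }
  refine ⟨IsColimit.ofExistsUnique fun s ↦ ?_⟩
  obtain ⟨g, ⟨hgx, hg⟩, hu⟩ := EtaleDescent.existsUnique_desc H s.pt.left.property s.pt.hom.hom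
    (fun i ↦ (s.ι.app i).left.hom)
    (fun i ↦ (EtaleDescent.over_w (s.ι.app i)).trans (EtaleDescent.over_w (c.ι.app i)).symm)
    (fun i j f ↦ congrArg (fun k ↦ k.left.hom) (s.w f))
  exact ⟨mkOverHom g hgx, fun i ↦ over_hom_ext (hg i),
    fun m hm ↦ over_hom_ext (hu m.left.hom ⟨EtaleDescent.over_w m,
      fun i ↦ congrArg (fun k ↦ k.left.hom) (hm i)⟩)⟩

end Groth.Agent.S10730
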