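import Groth.Statements.S10736
import Groth.Agent.H8.QcqsSite

set_option autoImplicit false
universe u
open CategoryTheory CategoryTheory.Limits AlgebraicGeometry Opposite
open AlgSp

namespace Groth.Agent.S10736

/-- Let X be a quasi-compact algebraic space, quasi-separated over a quasi-separated base scheme S. Then
for every p and every small filtered category J, the functor F ↦ H^p(X_et, F) on abelian sheaves on
the small etale site of X preserves colimits of shape J: for a filtered diagram (F_i) the canonical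
map colim_i H^p(X, F_i) ⟶ H^p(X, colim_i F_i) is an isomorphism. (Quasi-separatedness is relative to
S with S quasi-separated, giving the absolute notion of the published statement.) -/
theorem result {S : Scheme.{u}}
    [QuasiSeparatedSpace ↥S] (X : AlgSp.Space S) (hqc : AlgSp.IsQuasiCompactSp X.obj)
    (hqs : AlgSp.IsQuasiSeparatedSp X.obj) (J : Type (u + 1)) [SmallCategory J] [IsFiltered J] (p : ℕ) :
    PreservesColimitsOfShape J (AlgSp.HEtF X.obj p) := by
  obtain ⟨U, q, hU, hq, hs⟩ :=
    haveI := Groth.Agent.Lib.AlgSpMor.QC.compactSpace_points hqc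
    Groth.Agent.Lib.AlgSpMor.QC.exists_affine_atlas X.property
  haveI : IsAffine (AlgSp.EtOver.mk q hq).obj.left.left := hU
  have hT := Groth.Agent.H8.QcqsSite.coherent_top hqs
    (Groth.Agent.H8.QcqsSite.isQcqsObj_of_isAffine (AlgSp.EtOver.mk q hq)) hs
  have h := Groth.Agent.Lib.ToposFin.CohomTop.colimAcyclic_of_iso
    (Groth.Agent.Lib.ToposFin.CohomTop.freeTopIso _)
    (Groth.Agent.Lib.ToposFin.Cohom.colimAcyclic_free (Groth.Agent.H8.QcqsSite.isAlgebraic_qTop hqs) hT J)
  have h' := Groth.Agent.Lib.ToposFin.CohomTop.colimAcyclic_of_iso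
    (Groth.Agent.H8.SiteTransport.constantRestrIso (Groth.Agent.H8.QcqsSite.incl X.obj)
      (Groth.Agent.H8.QcqsSite.qTop X.obj) (AlgSp.etTop X.obj) AddCommGrpCat.{u + 1}
      (AddCommGrpCat.of (ULift.{u + 1} ℤ))).symm h
  haveI : ((Groth.Agent.H8.QcqsSite.incl X.obj).sheafPushforwardContinuous AddCommGrpCat.{u + 1}
      (Groth.Agent.H8.QcqsSite.qTop X.obj) (AlgSp.etTop X.obj)).Additive :=
    Functor.additive_of_preserves_binary_products _
  haveI := (Groth.Agent.H8.SiteTransport.colimAcyclic_of_isEquivalence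
    ((Groth.Agent.H8.QcqsSite.incl X.obj).sheafPushforwardContinuous AddCommGrpCat.{u + 1}
      (Groth.Agent.H8.QcqsSite.qTop X.obj) (AlgSp.etTop X.obj)) _ h').preservesColimitsOfShape p
  exact preservesColimitsOfShape_of_natIso (NatIso.ofComponents (fun F => Iso.refl _) (fun f => rfl) :
    (CategoryTheory.Abelian.extFunctor.{u + 1} p).obj (Opposite.op
      ((constantSheaf (AlgSp.etTop X.obj) AddCommGrpCat.{u + 1}).obj
        (AddCommGrpCat.of (ULift.{u + 1} ℤ)))) ≅ AlgSp.HEtF X.obj p)

end Groth.Agent.S10736
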