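import Groth.Statements.S10737
import Groth.Agent.H8.FPHomColim

set_option autoImplicit false
universe u
open CategoryTheory CategoryTheory.Limits AlgebraicGeometry Opposite
open AlgSp

namespace Groth.Agent.S10737

/-- Let X be a quasi-compact algebraic space, quasi-separated over a quasi-separated base scheme S, and
G an O_X-module of finite presentation on the small etale site of X. Then for every system (F_i) of
O_X-modules indexed by a nonempty directed preorder I, the canonical map colim_i Hom(G, F_i) ⟶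
Hom(G, colim_i F_i) is a bijection: the functor Hom(G, -) preserves colimits of shape I. -/
theorem result {S : Scheme.{u}}
    [QuasiSeparatedSpace ↥S] (X : AlgSp.Space S) (hqc : AlgSp.IsQuasiCompactSp X.obj)
    (hqs : AlgSp.IsQuasiSeparatedSp X.obj) (G : AlgSp.ModEt X.obj) [G.IsFinitePresentation]
    (I : Type (u + 1)) [Preorder I] [IsDirected I (· ≤ ·)] [Nonempty I] :
    PreservesColimitsOfShape I (coyoneda.obj (op G)) := by
  obtain ⟨U, q, hU, hq, hs⟩ :=
    haveI := Groth.Agent.Lib.AlgSpMor.QC.compactSpace_points hqc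
    Groth.Agent.Lib.AlgSpMor.QC.exists_affine_atlas X.property
  haveI : IsAffine (AlgSp.EtOver.mk q hq).obj.left.left := hU
  obtain ⟨n, V, σ, hA, hσ, hcov⟩ := Groth.Agent.H8.FPHomColim.exists_presented_cover (G := G)
    (E₀ := AlgSp.EtOver.mk q hq) hs
  have hV : ∀ k, Groth.Agent.H8.QcqsSite.IsQcqsObj X.obj (V k) := fun k =>
    haveI := hA k; Groth.Agent.H8.QcqsSite.isQcqsObj_of_isAffine (V k)
  refine ⟨fun {D} => preservesColimit_of_preserves_colimit_cocone (colimit.isColimit D)
    (Types.FilteredColimit.isColimitOf _ _ ?_ ?_)⟩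
  · intro z
    obtain ⟨i, φ, hφ⟩ := Groth.Agent.H8.FPHomColim.exists_lift hqs (colimit.isColimit D) σ hV hσ hcov z
    exact ⟨i, φ, hφ.symm⟩
  · intro i j xi xj h
    obtain ⟨m, a, b, -⟩ : ∃ (m : I) (a : i ⟶ m) (b : j ⟶ m), True :=
      ⟨IsFiltered.max i j, IsFiltered.leftToMax i j, IsFiltered.rightToMax i j, trivial⟩
    let xi' : G ⟶ D.obj i := xi
    let xj' : G ⟶ D.obj j := xj
    have h' : xi' ≫ colimit.ι D i = xj' ≫ colimit.ι D j := h
    obtain ⟨l, c, hc⟩ := Groth.Agent.H8.FPHomColim.exists_killed (colimit.isColimit D) σ hV hσ hcov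
      (xi' ≫ D.map a) (xj' ≫ D.map b) (by
        change (xi' ≫ D.map a) ≫ colimit.ι D m = (xj' ≫ D.map b) ≫ colimit.ι D m
        rw [Category.assoc, Category.assoc, colimit.w, colimit.w]
        exact h')
    rw [Category.assoc, Category.assoc, ← D.map_comp, ← D.map_comp] at hc
    exact ⟨l, a ≫ c, b ≫ c, hc⟩

end Groth.Agent.S10737
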