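import Groth.Statements.S1074
import Groth.Agent.Lib.Gen43.Generator

set_option autoImplicit false
universe u
open CategoryTheory CategoryTheory.Limits AlgebraicGeometry
attribute [local instance] HasDerivedCategory.standard
open Perf

namespace Groth.Agent.S1074

/-- Let X be a quasi-compact and quasi-separated scheme and T ⊆ X a closed subset whose complement is
quasi-compact and nonempty. Then there is a perfect object P of D(O_X) with quasi-coherent
cohomology sheaves supported on T such that an object E of D(O_X) with quasi-coherent cohomology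
sheaves supported on T is zero if and only if every morphism P[n] → E, n ∈ ℤ, is zero. The case T =
X is a separate statement. -/
theorem result (X : Scheme.{u}) [CompactSpace ↥X] [QuasiSeparatedSpace ↥X]
    (T : Set X) (hT : IsClosed T) (hTc : IsCompact Tᶜ) (hTne : Tᶜ.Nonempty) :
    ∃ P : DCoh.D X, DCoh.IsPerfect P ∧ DCoh.IsQCohD P ∧ (∀ i : ℤ, CohB1.support (DCoh.HD P i) ⊆ T) ∧
      ∀ E : DCoh.D X, DCoh.IsQCohD E → (∀ i : ℤ, CohB1.support (DCoh.HD E i) ⊆ T) →
        (IsZero E ↔ ∀ (n : ℤ) (φ : P⟦n⟧ ⟶ E), φ = 0) := by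
  obtain ⟨P, hP, hPT, hgen⟩ :=
    Groth.Agent.Lib.Gen43.Generator.exists_generator ⟨Tᶜ, hT.isOpen_compl⟩ hTc
  exact ⟨P, hP, Groth.Agent.Lib.Perfect.QCohD.isQCohD_of_isPerfect hP,
    (Groth.Agent.Lib.Gen43.Restrict.support_subset_iff hT).2 hPT,
    fun E hE hET => ⟨fun h n φ => h.eq_of_tgt _ _,
      hgen E hE ((Groth.Agent.Lib.Gen43.Restrict.support_subset_iff hT).1 hET)⟩⟩

end Groth.Agent.S1074
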