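import Groth.Statements.S10742
import Groth.Agent.Lib.EtMod.Coherent

set_option autoImplicit false
universe u
open CategoryTheory CategoryTheory.Limits AlgebraicGeometry Opposite
open AlgSp
open Groth.Agent.Lib.EtMod

namespace Groth.Agent.S10742

/-- Let X be a locally Noetherian algebraic space over S and φ : M ⟶ N a morphism of coherent
O_X-modules on the small etale site of X (coherent meaning of finite presentation, X being locally
Noetherian). Then the kernel and the cokernel of φ are coherent. -/
theorem result {S : Scheme.{u}} (X : AlgSp.Space S)
    (hX : AlgSp.IsLocNoethSp X.obj) {M N : AlgSp.ModEt X.obj} [M.IsFinitePresentation] [N.IsFinitePresentation]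
    (φ : M ⟶ N) :
    (kernel φ).IsFinitePresentation ∧ (cokernel φ).IsFinitePresentation := by
  have hM := isCart_of_isQuasicoherent M
  have hN := isCart_of_isQuasicoherent N
  refine ⟨isFinitePresentation_of_finite hX (isCart_kernel φ hM hN) fun E _ => ?_,
    isFinitePresentation_of_finite hX (isCart_cokernel φ hM hN) fun E _ => ?_⟩
  · have := isNoetherianRing_fn hX E
    have := finite_of_isFinitePresentation (M := M) E
    exact Module.Finite.of_injective (secMap (kernel.ι φ) E) (fun a b h => SubSheaf.kernel_ι_injective φ h)
  · have := finite_of_isFinitePresentation (M := N) E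
    exact Module.Finite.of_surjective (secMap (cokernel.π φ) E)
      (surjective_secMap (cokernel.π φ) hN (isCart_cokernel φ hM hN) E)

end Groth.Agent.S10742
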