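import Groth.Statements.S10743
import Groth.Agent.Lib.EtMod.Coherent

set_option autoImplicit false
universe u
open CategoryTheory CategoryTheory.Limits AlgebraicGeometry Opposite
open AlgSp
open Groth.Agent.Lib.EtMod

namespace Groth.Agent.S10743

/-- Let X be a locally Noetherian algebraic space over S and 0 ⟶ M₁ ⟶ M₂ ⟶ M₃ ⟶ 0 a short exact sequence
of O_X-modules on the small etale site of X with M₁ and M₃ coherent (of finite presentation, X being
locally Noetherian). Then M₂ is coherent. -/
theorem result {S : Scheme.{u}} (X : AlgSp.Space S)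
    (hX : AlgSp.IsLocNoethSp X.obj) (T : ShortComplex (AlgSp.ModEt X.obj)) (hT : T.ShortExact)
    [T.X₁.IsFinitePresentation] [T.X₃.IsFinitePresentation] :
    T.X₂.IsFinitePresentation := by
  have h1 := isCart_of_isQuasicoherent T.X₁
  have h3 := isCart_of_isQuasicoherent T.X₃
  have : Epi T.g := hT.epi_g
  have hloc : ∀ (V : AlgSp.EtOver X.obj) (m : AlgSp.sectModEt T.X₃ V), ∃ R ∈ AlgSp.etTop X.obj V,
      ∀ ⦃W : AlgSp.EtOver X.obj⦄ (k : W ⟶ V), R k → ∃ q, secMap T.g W q = res T.X₃ k m :=
    fun V m => SubSheaf.exists_local_preimage T.g m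
  have hinj := injective_secMap_of_shortExact hT
  have hex := exact_secMap_of_shortExact hT
  have h2 := isCart_of_extension T.f T.g hinj hex h1 h3 hloc
  refine isFinitePresentation_of_finite hX h2 fun E _ => ?_
  have := finite_of_isFinitePresentation (M := T.X₁) E
  have := finite_of_isFinitePresentation (M := T.X₃) E
  exact Module.Finite.of_exact (f := secMap T.f E) (g := secMap T.g E) (hex E)
    (surjective_of_cart_kernel T.f T.g hinj hex h1 hloc E)

end Groth.Agent.S10743
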