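import Groth.Statements.S10747
import Groth.Agent.Lib.EtMod.Coherent
import Groth.Agent.Lib.AlgSpace.Diag
import Groth.Agent.Lib.AlgSpace.Points
import Groth.Agent.Lib.AlgSpMor.QC
import Groth.Agent.Lib.EtMod.Present

set_option autoImplicit false
set_option backward.isDefEq.respectTransparency false
set_option backward.isDefEq.respectTransparency.types false
set_option linter.style.haveILetI false
universe u
open CategoryTheory CategoryTheory.Limits AlgebraicGeometry Opposite
open AlgSp
open Groth.Agent.Lib.EtMod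

namespace Groth.Agent.S10747

/-- Let X be a Noetherian algebraic space over S (quasi-compact, quasi-separated, locally Noetherian)
and M a coherent O_X-module on the small etale site of X (of finite presentation, X being locally
Noetherian). Then every increasing sequence N₁ ≤ N₂ ≤ … of subobjects of M whose underlying modules
are quasi-coherent is eventually constant. -/
theorem result {S : Scheme.{u}} (X : AlgSp.Space S)
    (hqc : AlgSp.IsQuasiCompactSp X.obj) (hqs : AlgSp.IsQuasiSeparatedSp X.obj) (hN : AlgSp.IsLocNoethSp X.obj)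
    (M : AlgSp.ModEt X.obj) [M.IsFinitePresentation] (N : ℕ →o Subobject M)
    (hq : ∀ n, (Subobject.underlying.obj (N n)).IsQuasicoherent) :
    ∃ n, ∀ m, n ≤ m → N m = N n := by
  haveI := Groth.Agent.Lib.AlgSpMor.QC.compactSpace_points hqc
  obtain ⟨U, p, hU, hp, hps⟩ := Groth.Agent.Lib.AlgSpMor.QC.exists_affine_atlas X.property
  obtain ⟨E₀, _, hps⟩ : ∃ E₀ : AlgSp.EtOver X.obj, IsAffine E₀.obj.left.left ∧
      AlgSp.RepWith @Surjective E₀.obj.hom := ⟨AlgSp.EtOver.mk p hp, hU, hps⟩
  haveI := finite_of_isFinitePresentation (M := M) E₀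
  haveI := isNoetherianRing_fn hN E₀
  haveI : _root_.IsNoetherian (fn E₀) (AlgSp.sectModEt M E₀) := isNoetherian_of_isNoetherianRing_of_finite _ _
  let Sn : ℕ →o Submodule (fn E₀) (AlgSp.sectModEt M E₀) :=
    ⟨fun n => LinearMap.range (secMap (N n).arrow E₀), fun a b hab => by
      rintro _ ⟨x, rfl⟩
      refine ⟨secMap (Subobject.ofLE _ _ (N.monotone hab)) E₀ x, ?_⟩
      rw [← secMap_comp, Subobject.ofLE_arrow]⟩
  obtain ⟨n, hn⟩ := monotone_stabilizes_iff_noetherian.mpr inferInstance Sn
  refine ⟨n, fun m hm => le_antisymm ?_ (N.monotone hm)⟩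
  let φ := Subobject.ofLE _ _ (N.monotone hm)
  have hcart : IsCart (Subobject.underlying.obj (N m)) :=
    (isQuasicoherent_iff_isCart _).1 (hq m)
  have hE₀ : Function.Surjective (secMap φ E₀) := fun y => by
    have hy : secMap (N m).arrow E₀ y ∈ Sn m := ⟨y, rfl⟩
    rw [← hn m hm] at hy
    obtain ⟨x, hx⟩ := hy
    refine ⟨x, ?_⟩
    haveI : Mono ((N m).arrow.val) :=
      inferInstanceAs (Mono ((SheafOfModules.forget _).map (N m).arrow))
    have hinj : Function.Injective ((N m).arrow.val.app (Opposite.op E₀)) := (ModuleCat.mono_iff_injective _).1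
      (inferInstanceAs (Mono ((PresheafOfModules.evaluation _ (Opposite.op E₀)).map (N m).arrow.val)))
    refine hinj ?_
    change secMap (N m).arrow E₀ (secMap φ E₀ x) = secMap (N m).arrow E₀ y
    rw [← secMap_comp, Subobject.ofLE_arrow, hx]
  haveI hepi : Epi φ := by
    refine ⟨fun {Z} g₁ g₂ hg => SheafOfModules.hom_ext (PresheafOfModules.hom_ext fun E => ModuleCat.hom_ext
      (LinearMap.ext fun s => ?_))⟩
    obtain ⟨E⟩ := E
    obtain ⟨W, w₁, w₂, sqW⟩ := Groth.Agent.Lib.AlgSpace.exists_isPullback_yon X.property.diag E.obj.hom E₀.obj.hom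
    have hw : AlgSp.RepWith @Etale ((AlgSp.yon S).map w₁ ≫ E.obj.hom) :=
      Groth.Agent.Lib.AlgSpace.repWith_comp (Groth.Agent.Lib.AlgSpace.repWith_baseChange sqW.flip E₀.property) E.property
    let EW := AlgSp.EtOver.mk ((AlgSp.yon S).map w₁ ≫ E.obj.hom) hw
    let n₁ : EW ⟶ E := AlgSp.EtOver.homMk w₁ rfl
    let n₂ : EW ⟶ E₀ := AlgSp.EtOver.homMk w₂ sqW.w.symm
    have hsurj : Surjective w₁.left :=
      (AlgSp.repWith_yon_map_iff _ _).1 (Groth.Agent.Lib.AlgSpace.repWith_baseChange sqW.flip hps)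
    choose V j hV hj using fun v : EW.obj.left.left => exists_affine_open_obj v
    show secMap g₁ E s = secMap g₂ E s
    refine eq_of_cover V (fun v => j v ≫ n₁) (fun x => ?_) fun v => ?_
    · obtain ⟨v, hv⟩ := hsurj.surj x
      obtain ⟨u, hu⟩ := hj v
      exact ⟨v, u, (congrArg w₁.left hu).trans hv⟩
    · haveI := hV v
      have hmem : res _ (j v ≫ n₁) s ∈ LinearMap.range (secMap φ (V v)) := by
        have h : Submodule.span (fn (V v)) (Set.range (res _ (j v ≫ n₂))) ≤ LinearMap.range (secMap φ (V v)) := by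
          refine Submodule.span_le.2 ?_
          rintro _ ⟨y, rfl⟩
          obtain ⟨x, rfl⟩ := hE₀ y
          exact ⟨res _ (j v ≫ n₂) x, secMap_res φ _ x⟩
        rw [span_res_eq_top hcart] at h
        exact h Submodule.mem_top
      obtain ⟨x, hx⟩ := hmem
      rw [← secMap_res, ← secMap_res, ← hx, ← secMap_comp, ← secMap_comp, hg]
  haveI : IsIso φ := isIso_of_mono_of_epi φ
  exact Subobject.le_of_comm (inv φ) (by rw [IsIso.inv_comp_eq, Subobject.ofLE_arrow])

end Groth.Agent.S10747
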