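import Groth.Statements.S10749
import Groth.Agent.H8.AffFPColim
import Groth.Agent.Lib.AlgSpMor.AffineDescent

set_option autoImplicit false
universe u
open CategoryTheory CategoryTheory.Limits AlgebraicGeometry Opposite
open AlgSp

namespace Groth.Agent.S10749

/-- Let f : X ⟶ Y be an affine morphism of algebraic spaces over a quasi-separated scheme S with Y
Noetherian (quasi-compact, quasi-separated, locally Noetherian). Then every quasi-coherent
O_X-module M on the small etale site of X is a filtered colimit of O_X-modules of finite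
presentation. -/
theorem result {S : Scheme.{u}} [QuasiSeparatedSpace ↥S]
    {X Y : AlgSp.Space S} (f : X ⟶ Y) (haff : AlgSp.IsAffineMor f.hom) (hqc : AlgSp.IsQuasiCompactSp Y.obj)
    (hqs : AlgSp.IsQuasiSeparatedSp Y.obj) (hN : AlgSp.IsLocNoethSp Y.obj) (M : AlgSp.ModEt X.obj)
    [M.IsQuasicoherent] :
    ∃ (J : Type (u + 1)) (_ : SmallCategory J) (_ : IsFiltered J) (D : J ⥤ AlgSp.ModEt X.obj)
      (ι : D ⟶ (Functor.const J).obj M),
      (∀ j, (D.obj j).IsFinitePresentation) ∧ Nonempty (IsColimit (Cocone.mk M ι)) := by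
  obtain ⟨U, q, hU, hq, hs⟩ :=
    haveI := Groth.Agent.Lib.AlgSpMor.QC.compactSpace_points hqc
    Groth.Agent.Lib.AlgSpMor.QC.exists_affine_atlas Y.property
  obtain ⟨E₀, hE, hs'⟩ : ∃ E₀ : AlgSp.EtOver Y.obj, IsAffine E₀.obj.left.left ∧
      AlgSp.RepWith @Surjective E₀.obj.hom := ⟨AlgSp.EtOver.mk q hq, hU, hs⟩
  haveI := hE
  have hf : AlgSp.Representable f.hom :=
    (Groth.Agent.Lib.AlgSpMor.AffineDescent.repWith_of_isAffineMor haff).1
  haveI := Groth.Agent.H8.PullModEt.isRightAdjoint_pushforward hf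
  exact ⟨Groth.Agent.H8.AffFPColim.Ind hf E₀ M, inferInstance,
    Groth.Agent.H8.AffFPColim.isFiltered hf E₀ M,
    Groth.Agent.H8.AffFPColim.diag hf E₀ M, Groth.Agent.H8.AffFPColim.cocone hf E₀ M,
    fun A => Groth.Agent.H8.AffFPColim.isFP_lev hf E₀ hqs hN Y.property haff hs' M A.left.1 A.left.2,
    Groth.Agent.H8.AffFPColim.isColimit hf E₀ hqs hN Y.property haff hs' M⟩

end Groth.Agent.S10749
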