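import Groth.Statements.S10750
import Groth.Agent.Lib.AlgSpDecent.FiniteNhd

set_option autoImplicit false
universe u
open CategoryTheory CategoryTheory.Limits AlgebraicGeometry Opposite
open AlgSp

namespace Groth.Agent.S10750

open Groth.Agent.Lib

/-- Take a proper morphism f : X ⟶ Y of algebraic spaces over S whose target Y is locally Noetherian,
and let y be a geometric point of Y such that the fibre X_y (a pullback of f along the corresponding
morphism from the spectrum of the algebraically closed field) has finitely many points. Then there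
is an open subspace V of Y containing the image of y such that the base change X ×_Y V ⟶ V is
finite. -/
theorem result {S : Scheme.{u}} {X Y : AlgSp.Space S}
    (f : X ⟶ Y) (hY : AlgSp.IsLocNoethSp Y.obj) (hf : AlgSp.IsProperMor f.hom) (y : AlgSp.FieldPt Y.obj)
    (hy : y.IsGeometric) (Xy : AlgSp.Sp S) (fst : Xy ⟶ X.obj) (snd : Xy ⟶ (AlgSp.yon S).obj y.pt)
    (hsq : IsPullback fst snd f.hom y.toHom) (hfin : Finite (AlgSp.Points Xy)) :
    ∃ (V : AlgSp.Space S) (j : V ⟶ Y), AlgSp.RepWith @IsOpenImmersion j.hom ∧
      AlgSp.Points.mk y ∈ Set.range (AlgSp.Points.map j.hom) ∧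
        ∀ (P : AlgSp.Space S) (fst' : P ⟶ X) (snd' : P ⟶ V), IsPullback fst'.hom snd'.hom f.hom j.hom →
          AlgSp.IsFiniteMor snd'.hom := by
  have hdec : IsDecentMor f.hom := AlgSpDecent.QS.isDecentMor_of_isQuasiSeparatedMor X.property Y.property
    (AlgSpace.repWith_mono hf.1 fun _ _ g (_ : IsClosedImmersion g) => (inferInstance : QuasiCompact g))
  obtain ⟨V, j, hj, hy', hP⟩ := AlgSpDecent.FiniteNhd.exists_open_finite f hf (AlgSp.Points.mk y)
    (AlgSpDecent.FiniteNhd.qfAt_of_finite_geometric_fibre X.property Y.property hf.2.1.1 hdec y hy hsq hfin)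
  exact ⟨V, j, hj, hy', fun P fst' snd' h => hP P snd' fst' h.flip⟩

end Groth.Agent.S10750
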