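import Groth.Statements.S10757
import Groth.Agent.Lib.EtMod.StalkLocal

set_option autoImplicit false
universe u
open CategoryTheory CategoryTheory.Limits AlgebraicGeometry Opposite
open AlgSp
open Groth.Agent.Lib.EtMod

namespace Groth.Agent.S10757

/-- Let X be a locally Noetherian algebraic space over S, φ : G ⟶ F a morphism of coherent O_X-modules
on the small etale site of X (of finite presentation, X being locally Noetherian) and x̄ a geometric
point of X. If the map φ_x̄ on stalks at x̄ (of the underlying abelian sheaves) is injective, then
there is an open subspace X' ⊂ X containing the image of x̄ such that φ|_{X'} is injective: φ is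
injective on sections over every scheme etale over X whose image in |X| lies in |X'|. (The case of
the map F ⟶ 0 gives the corresponding statement for the vanishing of a stalk; the analogous
statement for surjectivity is not included.) -/
theorem result {S : Scheme.{u}} (X : AlgSp.Space S)
    (hX : AlgSp.IsLocNoethSp X.obj) {G F : AlgSp.ModEt X.obj} [G.IsFinitePresentation] [F.IsFinitePresentation]
    (φ : G ⟶ F) (xbar : AlgSp.FieldPt X.obj) (hx : xbar.IsGeometric)
    (hinj : Mono ((AlgSp.stalkEtFunctor AddCommGrpCat.{u + 1} xbar).map ((AlgSp.toAbEt X.obj).map φ))) :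
    ∃ (X' : AlgSp.Space S) (j : X' ⟶ X), AlgSp.RepWith @IsOpenImmersion j.hom ∧
      AlgSp.Points.mk xbar ∈ Set.range (AlgSp.Points.map j.hom) ∧
        ∀ E : AlgSp.EtOver X.obj, Set.range (AlgSp.Points.ofPt E.obj.hom) ⊆ Set.range (AlgSp.Points.map j.hom) →
          Mono (φ.val.app (op E)) := by
  obtain ⟨E', hE', hmem, h⟩ := exists_kernel_eq_zero X.property xbar hx φ
    (isCart_kernel φ isCart_of_isFinitePresentation isCart_of_isFinitePresentation)
    (fun E _ => finite_kernel hX φ E) ((AddCommGrpCat.mono_iff_injective _).1 hinj)
  obtain ⟨X', j, hj, hr⟩ := exists_open_subspace_of X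
    (Groth.Agent.Lib.AlgSpDecent.Core.isOpen_range_ofPt E'.property)
  refine ⟨X', j, hj, hr ▸ hmem, fun E hE => (ModuleCat.mono_iff_injective _).2 ?_⟩
  exact injective_secMap_of_kernel φ E fun s => eq_zero_of_range_subset
    (isCart_kernel φ isCart_of_isFinitePresentation isCart_of_isFinitePresentation) h E (hr ▸ hE) s

end Groth.Agent.S10757
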