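import Groth.Statements.S10758
import Groth.Agent.Lib.EtMod.StalkLocal

set_option autoImplicit false
universe u
open CategoryTheory CategoryTheory.Limits AlgebraicGeometry Opposite
open AlgSp
open Groth.Agent.Lib.EtMod

namespace Groth.Agent.S10758

/-- Let X be a locally Noetherian algebraic space over S, φ : G ⟶ F a morphism of coherent O_X-modules
on the small etale site of X (of finite presentation, X being locally Noetherian) and x̄ a geometric
point of X. If the map φ_x̄ on stalks at x̄ (of the underlying abelian sheaves) is bijective, then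
there is an open subspace X' ⊂ X containing the image of x̄ such that φ|_{X'} is an isomorphism: φ
is bijective on sections over every scheme etale over X whose image in |X| lies in |X'|. -/
theorem result {S : Scheme.{u}} (X : AlgSp.Space S)
    (hX : AlgSp.IsLocNoethSp X.obj) {G F : AlgSp.ModEt X.obj} [G.IsFinitePresentation] [F.IsFinitePresentation]
    (φ : G ⟶ F) (xbar : AlgSp.FieldPt X.obj) (hx : xbar.IsGeometric)
    (hbij : IsIso ((AlgSp.stalkEtFunctor AddCommGrpCat.{u + 1} xbar).map ((AlgSp.toAbEt X.obj).map φ))) :
    ∃ (X' : AlgSp.Space S) (j : X' ⟶ X), AlgSp.RepWith @IsOpenImmersion j.hom ∧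
      AlgSp.Points.mk xbar ∈ Set.range (AlgSp.Points.map j.hom) ∧
        ∀ E : AlgSp.EtOver X.obj, Set.range (AlgSp.Points.ofPt E.obj.hom) ⊆ Set.range (AlgSp.Points.map j.hom) →
          IsIso (φ.val.app (op E)) := by
  have hbij' : Function.Bijective (stalkEtMap X.property xbar hx φ) :=
    (ConcreteCategory.isIso_iff_bijective _).1 hbij
  obtain ⟨E₁, hE₁, hmem₁, h₁⟩ := exists_kernel_eq_zero X.property xbar hx φ
    (isCart_kernel φ isCart_of_isFinitePresentation isCart_of_isFinitePresentation)
    (fun E _ => finite_kernel hX φ E) hbij'.1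
  obtain ⟨E₂, hE₂, hmem₂, h₂⟩ := exists_cokernel_eq_zero X.property xbar hx φ
    isCart_of_isFinitePresentation isCart_of_isFinitePresentation
    (fun E _ => finite_cokernel φ E) hbij'.2
  obtain ⟨X', j, hj, hr⟩ := exists_open_subspace_of X
    ((Groth.Agent.Lib.AlgSpDecent.Core.isOpen_range_ofPt E₁.property).inter
      (Groth.Agent.Lib.AlgSpDecent.Core.isOpen_range_ofPt E₂.property))
  refine ⟨X', j, hj, hr ▸ ⟨hmem₁, hmem₂⟩, fun E hE => (ConcreteCategory.isIso_iff_bijective _).2 ?_⟩
  refine bijective_secMap_of_affine φ _ (fun V _ hV => ⟨?_, ?_⟩) E (hr ▸ hE)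
  · exact injective_secMap_of_kernel φ V fun s => eq_zero_of_range_subset
      (isCart_kernel φ isCart_of_isFinitePresentation isCart_of_isFinitePresentation) h₁ V
      (hV.trans Set.inter_subset_left) s
  · exact surjective_secMap_of_cokernel φ isCart_of_isFinitePresentation isCart_of_isFinitePresentation V
      fun s => eq_zero_of_range_subset
        (isCart_cokernel φ isCart_of_isFinitePresentation isCart_of_isFinitePresentation) h₂ V
        (hV.trans Set.inter_subset_right) s

end Groth.Agent.S10758
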