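import Groth.Statements.S10763
import Groth.Agent.Lib.AlgSpMor.ProperImage

set_option autoImplicit false
universe u
open CategoryTheory CategoryTheory.Limits AlgebraicGeometry
open AlgSp

namespace Groth.Agent.S10763

/-- Let B be an algebraic space over S, let a : X ⟶ B and b : Y ⟶ B be locally of finite type, and let f
: X ⟶ Y be a universally closed morphism over B. If i : Z ⟶ X is a closed subspace with Z ⟶ B
proper, then the image of |Z| under |f| is a closed subset of |Y| which underlies a closed subspace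
Z' ⟶ Y with Z' ⟶ B proper. -/
theorem result {S : Scheme.{u}} {X Y B Z : AlgSp.Space S}
    (a : X ⟶ B) (b : Y ⟶ B) (f : X ⟶ Y) (hcomm : f ≫ b = a)
    (ha : AlgSp.LocP @LocallyOfFiniteType a.hom) (hb : AlgSp.LocP @LocallyOfFiniteType b.hom)
    (hfc : AlgSp.IsUnivClosedMor f.hom)
    (i : Z ⟶ X) (hi : AlgSp.RepWith @IsClosedImmersion i.hom) (hZ : AlgSp.IsProperMor (i ≫ a).hom) :
    IsClosed (AlgSp.Points.map f.hom '' Set.range (AlgSp.Points.map i.hom)) ∧
      ∃ (Z' : AlgSp.Space S) (i' : Z' ⟶ Y), AlgSp.RepWith @IsClosedImmersion i'.hom ∧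
        Set.range (AlgSp.Points.map i'.hom) = AlgSp.Points.map f.hom '' Set.range (AlgSp.Points.map i.hom) ∧
        AlgSp.IsProperMor (i' ≫ b).hom := by
  have hp : AlgSp.IsProperMor ((i.hom ≫ f.hom) ≫ b.hom) := by
    rw [Category.assoc, show f.hom ≫ b.hom = a.hom from congrArg (fun t => t.hom) hcomm]
    exact hZ
  have huc : AlgSp.IsUnivClosedMor (i.hom ≫ f.hom) :=
    Groth.Agent.Lib.AlgSpMor.Proper.isUnivClosedMor_comp X.property Y.property.diag
      (Groth.Agent.Lib.AlgSpMor.Proper.isProperMor_of_closedImmersion hi).2.2 hfc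
  obtain ⟨hc, V, j, hj, hr, hjp⟩ := Groth.Agent.Lib.AlgSpMor.ProperImage.exists_closed_image
    (ι := Unit) (Z := fun _ => Z.obj) (fun _ => Z.property) Y.property B.property
    (fun _ => i.hom ≫ f.hom) (fun _ => huc) hb (fun _ => hp)
  have e : (⋃ _ : Unit, Set.range (AlgSp.Points.map (i.hom ≫ f.hom))) =
      AlgSp.Points.map f.hom '' Set.range (AlgSp.Points.map i.hom) := by
    rw [Set.iUnion_const, ← Set.range_comp]
    exact congrArg Set.range (funext fun z => AlgSp.Points.map_comp _ _ z)
  rw [e] at hc hr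
  exact ⟨hc, V, ObjectProperty.homMk j, hj, hr, hjp⟩

end Groth.Agent.S10763
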