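import Groth.Statements.S10776
import Groth.Agent.Lib.EtMod.HomCx.Unbounded
-- import your own Groth.Agent.* helpers here

set_option autoImplicit false
universe u
open CategoryTheory CategoryTheory.Limits AlgebraicGeometry
attribute [local instance] HasDerivedCategory.standard
open AlgSp

namespace Groth.Agent.S10776

/-- Let X be a quasi-compact and quasi-separated algebraic space over S, K a perfect object of D(O_X)
(modules on the small etale site) and L a bounded object of D_QCoh(O_X). Then Ext^n(K, L) = Hom(K,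
L[n]) vanishes for all but finitely many n: there is N with Hom(K, L[n]) = 0 whenever |n| ≥ N.
Quasi-separatedness is relative to S with S quasi-separated. -/
theorem result {S : Scheme.{u}} [QuasiSeparatedSpace ↥S] (X : AlgSp.Space S)
    (hXc : AlgSp.IsQuasiCompactSp X.obj) (hXs : AlgSp.IsQuasiSeparatedSp X.obj)
    (K : AlgSp.DModEt X.obj) (hK : AlgSp.IsPerfectEtD K)
    (L : AlgSp.DModEt X.obj) (hL : DCoh.IsQCohDMod (AlgSp.OEtRing X.obj) L)
    (a b : ℤ) (hLa : L.IsGE a) (hLb : L.IsLE b) :
    ∃ N : ℕ, ∀ n : ℤ, (N : ℤ) ≤ |n| → ∀ φ : K ⟶ L⟦n⟧, φ = 0 := by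
  obtain ⟨a', b', hab, h⟩ := Lib.EtMod.HomCx.exists_range X hXc hXs K hK
  refine ⟨(max (b - a' + 1) (b' - a + 1)).toNat, fun n hn φ => ?_⟩
  refine h _ (Lib.EtMod.HomCx.isQCohDMod_shift hL n) (fun i h1 h2 => ?_) φ
  refine Lib.EtMod.HomCx.isZero_HDMod_shift ?_
  rcases abs_choice n with hs | hs <;> rw [hs] at hn
  · exact @DerivedCategory.isZero_of_isLE _ _ _ _ L b (n + i) (by omega) hLb
  · exact @DerivedCategory.isZero_of_isGE _ _ _ _ L a (n + i) (by omega) hLa

end Groth.Agent.S10776
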