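import Groth.Statements.S10782
import Groth.Agent.Lib.EtMod.RfCons.Main

set_option autoImplicit false
universe u
open CategoryTheory CategoryTheory.Limits AlgebraicGeometry
attribute [local instance] HasDerivedCategory.standard
open AlgSp
open Groth.Agent.Lib

namespace Groth.Agent.S10782

/-- Let f : X ⟶ Y be an affine morphism of algebraic spaces over S; it is representable by schemes, and
that hypothesis is carried separately so that the total direct image Rf_* on D(O_X) (modules on the
small etale sites, under its existence binder) is available. Then Rf_* reflects isomorphisms on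
D_QCoh(O_X): a morphism α : E ⟶ F between objects with quasi-coherent cohomology sheaves is an
isomorphism as soon as Rf_*α is. -/
theorem result {S : Scheme.{u}} {X Y : AlgSp.Space S} (f : X ⟶ Y)
    (hfa : AlgSp.IsAffineMor f.hom) (hf : AlgSp.Representable f.hom) [AlgSp.HasRpushModEtD hf]
    {E F : AlgSp.DModEt X.obj} (hE : DCoh.IsQCohDMod (AlgSp.OEtRing X.obj) E)
    (hF : DCoh.IsQCohDMod (AlgSp.OEtRing X.obj) F) (α : E ⟶ F)
    (hα : IsIso ((AlgSp.RpushModEtD hf).map α)) : IsIso α := by
  exact EtMod.RfCons.isIso_of_isIso_Rpush hf Y.property hfa hE hF α hα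

end Groth.Agent.S10782
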