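import Groth.Statements.S10787
import Groth.Agent.Lib.InjHull.Torsion
import Mathlib.RingTheory.HopkinsLevitzki
import Mathlib.Algebra.Category.ModuleCat.FilteredColimits
import Mathlib.CategoryTheory.Limits.Preserves.Filtered
import Mathlib.RingTheory.Finiteness.Ideal
import Mathlib.RingTheory.Localization.AtPrime.Basic
import Mathlib.Algebra.Algebra.Subalgebra.Basic
import Mathlib.LinearAlgebra.Prod
-- import your own Groth.Agent.* helpers here

set_option autoImplicit false
universe u
open CategoryTheory CategoryTheory.Limits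
open CAlg

namespace Groth.Agent.S10787

open InjHull
open Groth.Agent.Lib.InjHull

variable {A : Type u} [CommRing A] {J : Type u} [AddCommGroup J] [Module A J]

/-- Finite over an Artinian algebra. -/
def Good (W : Submodule A J) : Prop :=
  ∃ (B : Type u) (_ : CommRing B) (_ : Algebra A B) (_ : IsArtinianRing B)
    (φ : B →ₐ[A] Module.End A W) (T : Set W), T.Finite ∧
    ∀ N : Submodule A W, (∀ b, ∀ y ∈ N, φ b y ∈ N) → T ⊆ N → N = ⊤

theorem good_bot : Good (⊥ : Submodule A J) := by
  have : Subsingleton (A ⧸ (⊤ : Ideal A)) := Ideal.Quotient.subsingleton_iff.2 rfl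
  exact ⟨A ⧸ (⊤ : Ideal A), inferInstance, inferInstance, inferInstance,
    Ideal.Quotient.liftₐ ⊤ (Algebra.ofId A _) (fun a _ => LinearMap.ext fun x => Subsingleton.elim _ _),
    ∅, Set.finite_empty, fun N _ _ => Subsingleton.elim _ _⟩

theorem good_sup {W₁ W₂ : Submodule A J} (hd : Disjoint W₁ W₂) (h₁ : Good W₁) (h₂ : Good W₂) :
    Good (W₁ ⊔ W₂) := by
  obtain ⟨B₁, _, _, _, φ₁, T₁, hT₁, hg₁⟩ := h₁
  obtain ⟨B₂, _, _, _, φ₂, T₂, hT₂, hg₂⟩ := h₂
  let f : (W₁ × W₂) →ₗ[A] (W₁ ⊔ W₂ : Submodule A J) :=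
    (Submodule.inclusion le_sup_left).coprod (Submodule.inclusion le_sup_right)
  have hf : Function.Bijective f := by
    constructor
    · rw [← LinearMap.ker_eq_bot, eq_bot_iff]
      rintro ⟨a, b⟩ h
      have h' : (a : J) + (b : J) = 0 := congrArg Subtype.val (LinearMap.mem_ker.1 h)
      have ha : (a : J) = 0 := Submodule.disjoint_def.1 hd _ a.2
        (by rw [eq_neg_of_add_eq_zero_left h']; exact W₂.neg_mem b.2)
      rw [ha, zero_add] at h'
      exact (Submodule.mem_bot A).2 (Prod.ext (Subtype.ext ha) (Subtype.ext h'))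
    · rintro ⟨x, hx⟩
      obtain ⟨a, ha, b, hb, rfl⟩ := Submodule.mem_sup.1 hx
      exact ⟨(⟨a, ha⟩, ⟨b, hb⟩), Subtype.ext rfl⟩
  let e := LinearEquiv.ofBijective f hf
  let φ : B₁ × B₂ →ₐ[A] Module.End A (W₁ ⊔ W₂ : Submodule A J) :=
    (e.conjAlgEquiv A).toAlgHom.comp ((LinearMap.prodMapAlgHom A W₁ W₂).comp
      ((φ₁.comp (AlgHom.fst A B₁ B₂)).prod (φ₂.comp (AlgHom.snd A B₁ B₂))))
  have hφ : ∀ (b : B₁ × B₂) (z : W₁ × W₂), φ b (f z) = f (φ₁ b.1 z.1, φ₂ b.2 z.2) := by
    intro b z
    show e ((φ₁ b.1).prodMap (φ₂ b.2) (e.symm (e z))) = _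
    rw [e.symm_apply_apply]
    rfl
  refine ⟨B₁ × B₂, inferInstance, inferInstance, inferInstance, φ,
    (fun a => f (a, 0)) '' T₁ ∪ (fun b => f (0, b)) '' T₂, (hT₁.image _).union (hT₂.image _),
    fun N hN hT => ?_⟩
  rw [Set.union_subset_iff, Set.image_subset_iff, Set.image_subset_iff] at hT
  have h1 := hg₁ (N.comap (f ∘ₗ LinearMap.inl A W₁ W₂)) (fun b y hy => by
    have hb := hN (b, 1) (f (y, 0)) hy
    rw [hφ, map_zero] at hb
    exact hb) hT.1
  have h2 := hg₂ (N.comap (f ∘ₗ LinearMap.inr A W₁ W₂)) (fun b y hy => by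
    have hb := hN (1, b) (f (0, y)) hy
    rw [hφ, map_zero] at hb
    exact hb) hT.2
  refine eq_top_iff.2 fun x _ => ?_
  obtain ⟨⟨a, b⟩, rfl⟩ := hf.2 x
  have ha : f (a, 0) ∈ N := by
    have : a ∈ N.comap (f ∘ₗ LinearMap.inl A W₁ W₂) := by rw [h1]; trivial
    exact this
  have hb : f (0, b) ∈ N := by
    have : b ∈ N.comap (f ∘ₗ LinearMap.inr A W₁ W₂) := by rw [h2]; trivial
    exact this
  have := add_mem ha hb
  rw [← map_add, Prod.mk_add_mk, add_zero, zero_add] at this
  exact this

/-- The elements with a multiple prime to `p` in the span of `T`. -/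
def sat (p : Ideal A) [p.IsPrime] (E : Submodule A J) (T : Set J) : Submodule A J where
  carrier := {x | x ∈ E ∧ ∃ s : A, s ∉ p ∧ s • x ∈ Submodule.span A T}
  add_mem' := by
    rintro x y ⟨hx, s, hs, hsx⟩ ⟨hy, t, ht, hty⟩
    refine ⟨add_mem hx hy, s * t, fun h => (Ideal.IsPrime.mem_or_mem ‹_› h).elim hs ht, ?_⟩
    rw [smul_add]
    exact add_mem (by rw [mul_comm, mul_smul]; exact Submodule.smul_mem _ _ hsx)
      (by rw [mul_smul]; exact Submodule.smul_mem _ _ hty)
  zero_mem' := ⟨zero_mem _, 1, fun h => Ideal.IsPrime.ne_top ‹_› ((Ideal.eq_top_iff_one p).2 h), by simp⟩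
  smul_mem' := by
    rintro a x ⟨hx, s, hs, hsx⟩
    exact ⟨Submodule.smul_mem _ a hx, s, hs, by rw [smul_comm]; exact Submodule.smul_mem _ _ hsx⟩

theorem good_sat [IsNoetherianRing A] (p : Ideal A) [p.IsPrime] (E : Submodule A J)
    {f : (A ⧸ p) →ₗ[A] E} (hf : IsInjectiveHull f) (T : Finset J) (hT : ∀ t ∈ T, t ∈ E) :
    Good (sat p E (T : Set J)) := by
  classical
  have hbij := fun (s : A) (hs : s ∉ p) =>
    Torsion.bijective_smul_of_notMem (p := p) hf (s := s) hs
  have hpow : ∀ x : J, x ∈ E → ∃ N : ℕ, ∀ a ∈ p ^ N, a • x = 0 := by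
    intro x hx
    have h1 : p ≤ Ideal.radical (LinearMap.ker (LinearMap.toSpanSingleton A J x)) := by
      intro a ha
      obtain ⟨n, hn⟩ := Noeth.exists_pow_smul_eq_zero_of_essential hf.toIsEssentialInj
        (s := a) (fun m => by
          obtain ⟨m, rfl⟩ := Ideal.Quotient.mk_surjective m
          exact Ideal.Quotient.eq_zero_iff_mem.2 (Ideal.mul_mem_right m p ha)) ⟨x, hx⟩
      exact ⟨n, congrArg Subtype.val hn⟩
    obtain ⟨N, hN⟩ := Ideal.exists_pow_le_of_le_radical_of_fg h1 (IsNoetherian.noetherian p)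
    exact ⟨N, fun a ha => LinearMap.mem_ker.1 (hN ha)⟩
  choose Nf hNf using hpow
  let N := T.attach.sup (fun t => Nf t.1 (hT t.1 t.2)) + 1
  let W := sat p E (T : Set J)
  have hWE : ∀ x ∈ W, x ∈ E := fun x hx => hx.1
  have hkill : ∀ a ∈ p ^ N, ∀ w : W, a • w = 0 := by
    intro a ha w
    obtain ⟨hwE, s, hs, hsw⟩ := w.2
    have hspan : ∀ y ∈ Submodule.span A (T : Set J), a • y = 0 := by
      intro y hy
      induction hy using Submodule.span_induction with
      | mem t ht =>
        refine hNf t (hT t ht) a (Ideal.pow_le_pow_right ?_ ha)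
        exact (Finset.le_sup (f := fun t : {t // t ∈ T} => Nf t.1 (hT t.1 t.2))
          (Finset.mem_attach T ⟨t, ht⟩)).trans (Nat.le_succ _)
      | zero => simp
      | add u v _ _ hu hv => rw [smul_add, hu, hv, add_zero]
      | smul r u _ hu => rw [smul_comm, hu, smul_zero]
    have h0 : s • (⟨a • (w : J), E.smul_mem a hwE⟩ : E) = s • (0 : E) := by
      rw [smul_zero]
      exact Subtype.ext (by show s • a • (w : J) = 0; rw [smul_comm]; exact hspan _ hsw)
    have h1 := (hbij s hs).1 h0
    exact Subtype.ext (Subtype.ext_iff.1 h1 :)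
  let Z := Subalgebra.center A (Module.End A W)
  have hunit : ∀ s : p.primeCompl, IsUnit (Algebra.ofId A Z (s : A)) := by
    intro s
    have hu : IsUnit (algebraMap A (Module.End A W) (s : A)) := by
      rw [Module.End.isUnit_iff]
      constructor
      · intro x y h
        have := (hbij s s.2).1 (a₁ := ⟨(x : J), hWE _ x.2⟩) (a₂ := ⟨(y : J), hWE _ y.2⟩)
          (Subtype.ext (Subtype.ext_iff.1 h :))
        exact Subtype.ext (Subtype.ext_iff.1 this :)
      · intro y
        obtain ⟨z, hz⟩ := (hbij s s.2).2 ⟨(y : J), hWE _ y.2⟩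
        have hz' : (s : A) • (z : J) = y := congrArg Subtype.val hz
        obtain ⟨-, t, ht, hty⟩ := y.2
        exact ⟨⟨z, z.2, t * s, fun h => (Ideal.IsPrime.mem_or_mem ‹_› h).elim ht s.2,
          by rw [mul_smul, hz']; exact hty⟩, Subtype.ext hz'⟩
    obtain ⟨u, hu'⟩ := hu
    have hc : (u : Module.End A W) ∈ Set.center (Module.End A W) :=
      show (u : Module.End A W) ∈ Subalgebra.center A (Module.End A W) by
        rw [hu']; exact Subalgebra.mem_center_iff.2 (fun b => (Algebra.commutes (s : A) b).symm)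
    refine IsUnit.of_mul_eq_one (⟨↑u⁻¹, Set.units_inv_mem_center hc⟩ : Z) (Subtype.ext ?_)
    show algebraMap A (Module.End A W) (s : A) * ↑u⁻¹ = 1
    rw [← hu', Units.mul_inv]
  let L := Localization.AtPrime p
  let ψ : L →ₐ[A] Z := IsLocalization.liftAlgHom (M := p.primeCompl) (f := Algebra.ofId A Z) hunit
  let φ₀ : L →ₐ[A] Module.End A W := Z.val.comp ψ
  have hker : ∀ a ∈ (IsLocalRing.maximalIdeal L) ^ N, φ₀ a = 0 := by
    intro a ha
    rw [← Localization.AtPrime.map_eq_maximalIdeal, ← Ideal.map_pow] at ha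
    induction ha using Submodule.span_induction with
    | mem x hx =>
      obtain ⟨b, hb, rfl⟩ := hx
      rw [φ₀.commutes]
      exact LinearMap.ext fun w => hkill b hb w
    | zero => exact map_zero _
    | add x y _ _ hx hy => rw [map_add, hx, hy, add_zero]
    | smul c x _ hx => rw [smul_eq_mul, map_mul, hx, mul_zero]
  let B := L ⧸ (IsLocalRing.maximalIdeal L) ^ N
  have hle : (IsLocalRing.maximalIdeal L) ^ N ≤ IsLocalRing.maximalIdeal L :=
    Ideal.pow_le_self (Nat.succ_ne_zero _)
  have : Nontrivial B := Ideal.Quotient.nontrivial_iff.2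
    (fun h => (IsLocalRing.maximalIdeal.isMaximal L).ne_top (eq_top_iff.2 (h.symm.le.trans hle)))
  have : IsLocalRing B := IsLocalRing.of_surjective' (Ideal.Quotient.mk _) Ideal.Quotient.mk_surjective
  have : IsArtinianRing B := by
    rw [isArtinianRing_iff_isNilpotent_maximalIdeal]
    refine ⟨N, ?_⟩
    have hmap : IsLocalRing.maximalIdeal B =
        (IsLocalRing.maximalIdeal L).map (Ideal.Quotient.mk ((IsLocalRing.maximalIdeal L) ^ N)) := by
      refine (((Ideal.map_eq_top_or_isMaximal_of_surjective _ Ideal.Quotient.mk_surjective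
        (IsLocalRing.maximalIdeal.isMaximal L)).resolve_left fun h => ?_) |> fun h =>
          (IsLocalRing.eq_maximalIdeal h).symm)
      have := congrArg (Ideal.comap (Ideal.Quotient.mk ((IsLocalRing.maximalIdeal L) ^ N))) h
      rw [Ideal.comap_map_of_surjective _ Ideal.Quotient.mk_surjective, Ideal.comap_top,
        ← RingHom.ker_eq_comap_bot, Ideal.mk_ker, sup_eq_left.2 hle] at this
      exact (IsLocalRing.maximalIdeal.isMaximal L).ne_top this
    rw [hmap, ← Ideal.map_pow, Ideal.map_quotient_self]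
    rfl
  refine ⟨B, inferInstance, inferInstance, this, Ideal.Quotient.liftₐ _ φ₀ hker,
    Subtype.val ⁻¹' (T : Set J), T.finite_toSet.preimage Subtype.val_injective.injOn, fun M hM hTM => ?_⟩
  refine eq_top_iff.2 fun w _ => ?_
  obtain ⟨hwE, s, hs, hsw⟩ := w.2
  have hTW : ∀ t ∈ T, t ∈ W := fun t ht => ⟨hT t ht, 1,
    fun h => Ideal.IsPrime.ne_top ‹_› ((Ideal.eq_top_iff_one p).2 h),
    by rw [one_smul]; exact Submodule.subset_span ht⟩
  have hle : Submodule.span A (T : Set J) ≤ M.map W.subtype :=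
    Submodule.span_le.2 fun t ht => ⟨⟨t, hTW t ht⟩, hTM (show t ∈ (T : Set J) from ht), rfl⟩
  obtain ⟨y, hy, hys⟩ := hle hsw
  have hmem := hM (Ideal.Quotient.mk _ (IsLocalization.mk' L 1 (⟨s, hs⟩ : p.primeCompl))) y hy
  convert hmem using 1
  show w = φ₀ (IsLocalization.mk' L 1 (⟨s, hs⟩ : p.primeCompl)) y
  rw [show y = s • w from Subtype.ext hys, map_smul, ← LinearMap.smul_apply, ← map_smul,
    IsLocalization.smul_mk', mul_one, IsLocalization.mk'_self, map_one, Module.End.one_apply]

theorem exists_module {W : Submodule A J} (h : Good W) :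
    ∃ (B : Type u) (_ : CommRing B) (_ : Algebra A B) (_ : IsArtinianRing B)
      (_ : Module B W) (_ : IsScalarTower A B W), Module.Finite B W := by
  obtain ⟨B, hB1, hB2, hB3, φ, S, hS, hgen⟩ := h
  letI mB : Module B W := Module.compHom W φ.toRingHom
  haveI : IsScalarTower A B W := ⟨fun a b x => by
    show φ (a • b) x = a • φ b x
    rw [map_smul, LinearMap.smul_apply]⟩
  refine ⟨B, hB1, hB2, hB3, mB, this, ⟨hS.toFinset, ?_⟩⟩
  rw [Set.Finite.coe_toFinset, eq_top_iff]
  intro x _
  have := hgen ((Submodule.span B S).restrictScalars A)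
    (fun b y hy => Submodule.smul_mem (Submodule.span B S) b hy) Submodule.subset_span
  exact (this ▸ trivial : x ∈ (Submodule.span B S).restrictScalars A)

theorem union_colimit {ι : Type u} [SemilatticeSup ι] [Nonempty ι] (W : ι → Submodule A J)
    (hmono : Monotone W) (hex : ∀ x : J, ∃ T, x ∈ W T) :
    ∃ (D : ι ⥤ ModuleCat.{u} A) (c : Cocone D) (_ : IsColimit c),
      Nonempty (c.pt ≅ ModuleCat.of A J) ∧ ∀ T, Good (W T) →
        ∃ (B : Type u) (_ : CommRing B) (_ : Algebra A B) (_ : IsArtinianRing B)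
          (_ : Module B (D.obj T)) (_ : IsScalarTower A B (D.obj T)), Module.Finite B (D.obj T) := by
  let D : ι ⥤ ModuleCat.{u} A :=
    { obj := fun T => ModuleCat.of A (W T)
      map := fun h => ModuleCat.ofHom (Submodule.inclusion (hmono h.le)) }
  let c : Cocone D :=
    { pt := ModuleCat.of A J
      ι := { app := fun T => ModuleCat.ofHom (W T).subtype } }
  have : ReflectsColimit D (forget (ModuleCat.{u} A)) := reflectsColimit_of_reflectsIsomorphisms _ _
  refine ⟨D, c, isColimitOfReflects (forget (ModuleCat.{u} A))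
    (Types.FilteredColimit.isColimitOf _ _
      (fun (x : J) => let ⟨T, hT⟩ := hex x; ⟨T, ⟨x, hT⟩, rfl⟩)
      (fun i j xi xj h => by
        obtain ⟨k, hik, hjk⟩ := exists_ge_ge i j
        exact ⟨k, homOfLE hik, homOfLE hjk, Subtype.ext h⟩)), ⟨Iso.refl _⟩, fun T hT => exists_module hT⟩

/-- Let A be a Noetherian ring and J an injective A-module (an injective object of QCoh of the affine
scheme Spec A, through the equivalence with A-modules). Then J is a filtered colimit of A-modules
each of which is a finite module over some Artinian A-algebra B, the A-module structure being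
restricted from B; these are the modules underlying pushforwards to Spec A of coherent sheaves on
spectra of Artinian rings. -/
theorem result (A : Type u) [CommRing A] [IsNoetherianRing A]
    (J : Type u) [AddCommGroup J] [Module A J] [Module.Injective A J] :
    ∃ (ι : Type u) (_ : SmallCategory ι) (_ : IsFiltered ι) (D : ι ⥤ ModuleCat.{u} A)
      (c : Cocone D) (_ : IsColimit c), Nonempty (c.pt ≅ ModuleCat.of A J) ∧
      ∀ i : ι, ∃ (B : Type u) (_ : CommRing B) (_ : Algebra A B) (_ : IsArtinianRing B)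
        (_ : Module B (D.obj i)) (_ : IsScalarTower A B (D.obj i)), Module.Finite B (D.obj i) := by
  classical
  obtain ⟨ι₀, E, hint, hE⟩ := Noeth.exists_isInternal J ‹Module.Injective A J›
  choose p hp f hf using fun i => Noeth.exists_hull_residueField_of_indecomposable (hE i).1 (hE i).2
  let κ := Σ i, E i
  let Ti : Finset κ → ι₀ → Finset J := fun T i => (T.filter (fun t => t.1 = i)).image (fun t => (t.2 : J))
  let Wi : Finset κ → ι₀ → Submodule A J := fun T i => haveI := hp i; sat (p i) (E i) (Ti T i : Set J)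
  let W : Finset κ → Submodule A J := fun T => ⨆ i ∈ T.image Sigma.fst, Wi T i
  have hWi : ∀ T T', T ⊆ T' → ∀ i, Wi T i ≤ Wi T' i := by
    intro T T' hTT' i
    haveI := hp i
    rintro x ⟨hx, s, hs, hsx⟩
    exact ⟨hx, s, hs, Submodule.span_mono
      (Finset.coe_subset.2 (Finset.image_subset_image (Finset.filter_subset_filter _ hTT'))) hsx⟩
  have hmono : Monotone W := fun T T' hTT' => iSup₂_le fun i hi =>
    (hWi T T' hTT' i).trans (le_iSup₂_of_le i (Finset.image_subset_image hTT' hi) le_rfl)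
  have hgood : ∀ T, Good (W T) := by
    intro T
    suffices ∀ S : Finset ι₀, Good (⨆ i ∈ S, Wi T i) from this _
    intro S
    induction S using Finset.induction_on with
    | empty => simp only [Finset.notMem_empty, iSup_false, iSup_bot]; exact good_bot
    | insert a S ha ih =>
      rw [Finset.iSup_insert]
      haveI := hp a
      refine good_sup ?_ (good_sat (p a) (E a) (hf a) (Ti T a) (fun t ht => ?_)) ih
      · refine (hint.submodule_iSupIndep a).mono (fun x hx => hx.1) (iSup₂_le fun i hi => ?_)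
        exact le_iSup₂_of_le i (fun h => ha (h ▸ hi)) (fun x hx => hx.1)
      · simp only [Ti, Finset.mem_image, Finset.mem_filter] at ht
        obtain ⟨⟨i, z⟩, ⟨-, rfl⟩, rfl⟩ := ht
        exact z.2
  have hex : ∀ x : J, ∃ T, x ∈ W T := by
    intro x
    have hx : x ∈ ⨆ i, E i := by rw [hint.submodule_iSup_eq_top]; trivial
    induction hx using Submodule.iSup_induction' with
    | mem i y hy =>
      refine ⟨{⟨i, y, hy⟩}, Submodule.mem_iSup_of_mem i (Submodule.mem_iSup_of_mem (by simp) ?_)⟩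
      haveI := hp i
      refine ⟨hy, 1, fun h => (hp i).ne_top ((Ideal.eq_top_iff_one _).2 h), ?_⟩
      rw [one_smul]
      refine Submodule.subset_span ?_
      rw [Finset.mem_coe, Finset.mem_image]
      exact ⟨⟨i, y, hy⟩, Finset.mem_filter.2 ⟨Finset.mem_singleton_self _, rfl⟩, rfl⟩
    | zero => exact ⟨∅, zero_mem _⟩
    | add a b _ _ ha hb =>
      obtain ⟨T, hT⟩ := ha
      obtain ⟨T', hT'⟩ := hb
      exact ⟨T ∪ T', add_mem (hmono Finset.subset_union_left hT) (hmono Finset.subset_union_right hT')⟩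
  obtain ⟨D, c, hc, hpt, hobj⟩ := union_colimit W hmono hex
  exact ⟨Finset κ, inferInstance, inferInstance, D, c, hc, hpt, fun T => hobj T (hgood T)⟩

end Groth.Agent.S10787
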