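import Groth.Statements.S1079
import Mathlib.CategoryTheory.Idempotents.Basic
import Mathlib.CategoryTheory.Triangulated.Opposite.Pretriangulated
import Mathlib.CategoryTheory.Limits.Opposites

set_option autoImplicit false
universe v u
open CategoryTheory CategoryTheory.Limits
open CohDer

namespace Groth.Agent.S1079

open CategoryTheory.Limits CategoryTheory.Pretriangulated in
lemma aux (D : Type u) [Category.{v} D] [Preadditive D] [HasZeroObject D] [HasShift D ℤ]
    [∀ n : ℤ, (shiftFunctor D n).Additive] [Pretriangulated D] [HasColimitsOfShape (Discrete ℕ) D] :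
    IsIdempotentComplete D := by
  refine ⟨fun X e he => ?_⟩
  let F : ℕ → D := fun _ => X
  let s : (∐ F) ⟶ ∐ F := Sigma.desc fun n => e ≫ Sigma.ι F (n + 1)
  let r : (∐ F) ⟶ ∐ F := Sigma.desc fun n =>
    (𝟙 X - e) ≫ Sigma.ι F n - ∑ m ∈ Finset.range n, e ≫ Sigma.ι F m
  have hr : (𝟙 _ - s) ≫ r = 𝟙 _ := by
    apply Sigma.hom_ext
    intro n
    have hx : ∀ m : ℕ, e ≫ ((∑ k ∈ Finset.range m, e ≫ Sigma.ι F k)) =
        ∑ k ∈ Finset.range m, e ≫ Sigma.ι F k := fun m => by
      rw [Preadditive.comp_sum]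
      exact Finset.sum_congr rfl fun k _ => by rw [← Category.assoc, he]
    have h0 : e ≫ (𝟙 X - e) ≫ Sigma.ι F (n + 1) = 0 := by
      rw [← Category.assoc, Preadditive.comp_sub, Category.comp_id, he, sub_self, zero_comp]
    have ιs : Sigma.ι F n ≫ s = e ≫ Sigma.ι F (n + 1) := Sigma.ι_desc (fun n => e ≫ Sigma.ι F (n + 1)) n
    have ιr : ∀ m, Sigma.ι F m ≫ r = (𝟙 X - e) ≫ Sigma.ι F m - ∑ k ∈ Finset.range m, e ≫ Sigma.ι F k :=
      fun m => Sigma.ι_desc (fun m => (𝟙 X - e) ≫ Sigma.ι F m - ∑ k ∈ Finset.range m, e ≫ Sigma.ι F k) m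
    rw [Category.comp_id, ← Category.assoc, Preadditive.comp_sub, Category.comp_id, ιs,
      Preadditive.sub_comp, Category.assoc, ιr, ιr, Preadditive.comp_sub, h0, hx,
      Finset.sum_range_succ, Preadditive.sub_comp]
    erw [Category.id_comp]
    abel
  have : Mono (𝟙 _ - s) := SplitMono.mono ⟨r, hr⟩
  obtain ⟨C, q, δ, hT⟩ := Pretriangulated.distinguished_cocone_triangle (𝟙 _ - s)
  have hδ : δ = 0 := (Triangle.mk _ q δ).mor₃_eq_zero_of_mono₁ hT ‹Mono (𝟙 _ - s)›
  have : Epi q := (Triangle.mk _ q δ).epi₂ hT hδ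
  obtain ⟨π, hπ⟩ : ∃ π : C ⟶ X, Sigma.desc (fun _ => e) = q ≫ π := by
    refine Triangle.yoneda_exact₂ _ hT (Sigma.desc fun _ => e) ?_
    apply Sigma.hom_ext
    intro n
    change Sigma.ι F n ≫ (𝟙 _ - s) ≫ Sigma.desc (fun _ => e) = Sigma.ι F n ≫ 0
    rw [comp_zero, ← Category.assoc, Preadditive.comp_sub, Category.comp_id, Preadditive.sub_comp]
    erw [Sigma.ι_desc, Sigma.ι_desc, Category.assoc, Sigma.ι_desc]
    rw [he, sub_self]
  have hq : ∀ n, Sigma.ι F n ≫ q = e ≫ Sigma.ι F (n + 1) ≫ q := by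
    intro n
    have h := congrArg (fun t => Sigma.ι F n ≫ t) (comp_distTriang_mor_zero₁₂ _ hT)
    change Sigma.ι F n ≫ (𝟙 _ - s) ≫ q = Sigma.ι F n ≫ 0 at h
    rw [comp_zero, ← Category.assoc, Preadditive.comp_sub, Category.comp_id, Preadditive.sub_comp,
      sub_eq_zero] at h
    erw [Sigma.ι_desc] at h
    rw [h, Category.assoc]
  have he' : ∀ n, e ≫ Sigma.ι F n ≫ q = Sigma.ι F n ≫ q := by
    intro n
    conv_lhs => rw [hq, ← Category.assoc, he]
    exact (hq n).symm
  have hall : ∀ n, Sigma.ι F n ≫ q = Sigma.ι F 0 ≫ q := by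
    intro n
    induction n with
    | zero => rfl
    | succ n ih => rw [← ih, hq n, he']
  refine ⟨C, π, Sigma.ι F 0 ≫ q, ?_, ?_⟩
  · rw [← cancel_epi q, Category.comp_id, ← Category.assoc, ← hπ]
    apply Sigma.hom_ext
    intro n
    erw [Sigma.ι_desc_assoc]
    change e ≫ Sigma.ι F 0 ≫ q = Sigma.ι F n ≫ q
    rw [he' 0, hall n]
  · rw [Category.assoc, ← hπ]
    erw [Sigma.ι_desc]

/-- A pretriangulated category which has countable coproducts, or countable products, is Karoubian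
(idempotent complete). -/
theorem result {D : Type u} [Category.{v} D] [Preadditive D] [Limits.HasZeroObject D] [HasShift D ℤ]
    [∀ n : ℤ, (shiftFunctor D n).Additive] [Pretriangulated D]
    (h : HasColimitsOfShape (Discrete ℕ) D ∨ HasLimitsOfShape (Discrete ℕ) D) : IsIdempotentComplete D := by
  open CategoryTheory.Pretriangulated.Opposite in
  rcases h with h | h
  · exact aux D
  · have h1 : Limits.HasLimitsOfShape (Discrete ℕ)ᵒᵖ D :=
      Limits.hasLimitsOfShape_of_equivalence (Discrete.opposite ℕ).symm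
    have : Limits.HasColimitsOfShape (Discrete ℕ) Dᵒᵖ := inferInstance
    rw [← Idempotents.isIdempotentComplete_iff_opposite]
    exact aux Dᵒᵖ

end Groth.Agent.S1079
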