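import Groth.Statements.S10792
import Groth.Agent.Lib.AlgSpDiv.Prod

set_option autoImplicit false
universe u
open CategoryTheory CategoryTheory.Limits AlgebraicGeometry Topology TopologicalSpace
open AlgSp

namespace Groth.Agent.S10792

/-- (2) ⇔ (4): let X be an algebraic space over a scheme S and D ⟶ X a closed subspace (representable by
closed immersions). Then D is an effective Cartier divisor in the one-chart sense if and only if for
every point x of |D| there are an affine scheme U over S, a representable etale h_U ⟶ X, a point u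
of U mapping to the image of x in |X|, and a nonzerodivisor f of the ring A of global functions of U
such that the inverse image of D in U is the closed subscheme Spec (A/(f)), that is, the closed
subscheme of the quasi-coherent ideal sheaf of U whose ideal of global sections is generated by f. -/
theorem result {S : Scheme.{u}} (X D : AlgSp.Space S) (i : D ⟶ X)
    (hi : AlgSp.RepWith @IsClosedImmersion i.hom) :
    AlgSp.IsEffCartierSub i.hom ↔
      ∀ x : AlgSp.Points D.obj,
        ∃ (U : Over S) (_ : IsAffine U.left) (a : (AlgSp.yon S).obj U ⟶ X.obj) (u : ↥U.left)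
          (f : Γ(U.left, ⊤)) (I : U.left.IdealSheafData)
          (fst : (AlgSp.yon S).obj (Over.mk (I.subschemeι ≫ U.hom)) ⟶ D.obj),
          AlgSp.RepWith @Etale a ∧ AlgSp.Points.ofPt a u = AlgSp.Points.map i.hom x ∧
            f ∈ nonZeroDivisors Γ(U.left, ⊤) ∧
            I.ideal ⟨⊤, isAffineOpen_top U.left⟩ = Ideal.span {f} ∧
            IsPullback fst ((AlgSp.yon S).map (Over.homMk I.subschemeι rfl : Over.mk (I.subschemeι ≫ U.hom) ⟶ U)) i.hom a := by
  open Groth.Agent.Lib.AlgSpDiv Groth.Agent.Lib.AlgSpMor.SchImage Groth.Agent.Lib.AlgSpace in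
  constructor
  · intro h x
    obtain ⟨-, V, φ, J, he, hs, hJ, hE⟩ := isEffCartierSub_iff.1 h
    obtain ⟨v, hv⟩ := surjective_ofPt hs (Points.map i.hom x)
    obtain ⟨O, hvO, f, hf, hJf⟩ := hE v
    let e : Γ(V.left, O.1) ≃+* Γ((O.1 : Scheme.{u}), ⊤) := O.1.topIso.symm.commRingCatIsoToRingEquiv
    have hI := hJ.comap (openι O.1)
    have := mono_of_closed hi
    obtain ⟨fst, sq⟩ := hI.isPullback
    refine ⟨Over.mk (O.1.ι ≫ V.hom), O.2, (AlgSp.yon S).map (openι O.1) ≫ φ, ⟨v, hvO⟩, e f,
      J.comap (openι O.1).left, fst,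
      Groth.Agent.Lib.AlgSpMor.LocP.repWith_etale_comp (openι O.1) he, ?_, ?_, ?_, sq⟩
    · rw [ofPt_yon_map_comp]
      exact hv
    · refine Groth.Agent.Lib.Ideal.EffCartier.mem_nonZeroDivisors_of_eq_zero fun b hb => ?_
      refine e.symm.injective ?_
      rw [map_zero]
      refine (mul_left_mem_nonZeroDivisors_eq_zero_iff hf).mp ?_
      rw [← e.symm_apply_apply f, ← map_mul, hb, map_zero]
    · refine (Groth.Agent.Lib.Ideal.Comap.ideal_comap_ι_top O J).trans ?_
      rw [hJf, Ideal.map_span, Set.image_singleton]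
      rfl
  · intro h
    refine isEffCartierSub_of_forall_nhd X.property hi fun x => ?_
    obtain ⟨U, hU, a, u, f, I, fst, ha, hu, hf, hI, sq⟩ := h x
    exact ⟨U, a, u, I, ha, hu, cut_of_sq sq, fun y => ⟨⟨⊤, isAffineOpen_top _⟩, trivial, f, hf, hI⟩⟩

end Groth.Agent.S10792
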