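import Groth.Statements.S1686
import Groth.Agent.Lib.Ideal.EffCartier
import Groth.Agent.Lib.FibreDim.Basic
import Mathlib.RingTheory.KrullDimension.NonZeroDivisors
-- import your own Groth.Agent.* helpers here

set_option autoImplicit false
universe u
open CategoryTheory CategoryTheory.Limits AlgebraicGeometry TopologicalSpace
open SDiv

namespace Groth.Agent.S1686

/-- Let D be the closed subscheme of an effective Cartier divisor on a scheme S and d a point of D with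
image s in S. If the local dimension of S at s is finite, then the local dimension of D at d is
strictly smaller. -/
theorem result (S : Scheme.{u}) (𝓘 : S.IdealSheafData) (h𝓘 : BlowUp.IsEffCartierIdeal 𝓘) (d : ↥𝓘.subscheme)
    (hfin : FlatMor.localDim ↥S (𝓘.subschemeι d) ≠ ⊤) :
    FlatMor.localDim ↥𝓘.subscheme d < FlatMor.localDim ↥S (𝓘.subschemeι d) := by
  open Groth.Agent.Lib in
  obtain ⟨W, hsW, hWdim⟩ := Groth.Agent.Lib.FibreDim.Basic.exists_open_krullDim_eq (α := ↥S) (𝓘.subschemeι d)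
  obtain ⟨U, hsU, hUW, f, hf, hI⟩ := Groth.Agent.Lib.Ideal.EffCartier.exists_gen h𝓘 (𝓘.subschemeι d) (W := W) hsW
  have hdimaff : ∀ {Y : Scheme.{u}} {V : Y.Opens}, IsAffineOpen V →
      topologicalKrullDim (V : Set Y) = ringKrullDim Γ(Y, V) := fun {Y V} hV => by
    rw [← PrimeSpectrum.topologicalKrullDim_eq_ringKrullDim]
    exact IsHomeomorph.topologicalKrullDim_eq _ (Scheme.homeoOfIso hV.isoSpec).isHomeomorph
  have hV : IsAffineOpen (𝓘.subschemeι ⁻¹ᵁ U.1) := U.2.preimage 𝓘.subschemeι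
  have h1 : FlatMor.localDim ↥𝓘.subscheme d ≤ ringKrullDim Γ(𝓘.subscheme, 𝓘.subschemeι ⁻¹ᵁ U.1) := by
    rw [← hdimaff hV]
    exact iInf_le_of_le ⟨𝓘.subschemeι ⁻¹ᵁ U.1, hsU⟩ le_rfl
  have h2 : ringKrullDim Γ(S, U.1) ≤ FlatMor.localDim ↥S (𝓘.subschemeι d) := by
    rw [← hdimaff U.2, ← hWdim]
    exact (Topology.IsEmbedding.inclusion (show (U.1 : Set S) ⊆ W from hUW)).isInducing.topologicalKrullDim_le
  have h3 : ringKrullDim Γ(𝓘.subscheme, 𝓘.subschemeι ⁻¹ᵁ U.1) + 1 ≤ ringKrullDim Γ(S, U.1) :=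
    ringKrullDim_succ_le_of_surjective (𝓘.subschemeι.app U.1).hom (𝓘.subschemeι_app_surjective U) hf (by
      rw [← RingHom.mem_ker, 𝓘.ker_subschemeι_app U, hI]
      exact Ideal.mem_span_singleton_self f)
  haveI : Nonempty (𝓘.subschemeι ⁻¹ᵁ U.1) := ⟨⟨d, hsU⟩⟩
  haveI : Nontrivial Γ(𝓘.subscheme, 𝓘.subschemeι ⁻¹ᵁ U.1) := inferInstance
  have h4 := h1
  have hfin' : ringKrullDim Γ(S, U.1) ≠ ⊤ := fun e => hfin (top_le_iff.mp (e ▸ h2))
  refine h1.trans_lt (lt_of_lt_of_le ?_ (h3.trans h2))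
  have hb : ringKrullDim Γ(𝓘.subscheme, 𝓘.subschemeι ⁻¹ᵁ U.1) ≠ ⊥ := by
    exact fun e => absurd (ringKrullDim_nonneg_of_nontrivial (R := Γ(𝓘.subscheme, 𝓘.subschemeι ⁻¹ᵁ U.1))) (by rw [e]; simp)
  have ht : ringKrullDim Γ(𝓘.subscheme, 𝓘.subschemeι ⁻¹ᵁ U.1) ≠ ⊤ := fun e => hfin' (top_le_iff.mp (by
    rw [e, show (⊤ : WithBot ℕ∞) + 1 = ⊤ from rfl] at h3; exact h3))
  revert hb ht
  generalize ringKrullDim Γ(𝓘.subscheme, 𝓘.subschemeι ⁻¹ᵁ U.1) = n
  intro hb ht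
  induction n with
  | bot => exact absurd rfl hb
  | coe a =>
    induction a using ENat.recTopCoe with
    | top => exact absurd rfl ht
    | coe k => exact_mod_cast Nat.lt_succ_self k

end Groth.Agent.S1686
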