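import Groth.Statements.S10794
import Groth.Agent.Lib.AlgSpDiv.Basic
import Groth.Agent.S1686

set_option autoImplicit false
universe u
open CategoryTheory CategoryTheory.Limits AlgebraicGeometry Topology TopologicalSpace
open AlgSp

namespace Groth.Agent.S10794

/-- Let X be an algebraic space over a scheme S, D ⟶ X an effective Cartier divisor (one-chart sense)
and x a point of |D|. If the dimension of X at the image of x is d, in the sense that some etale
scheme chart of X has local dimension d at a point over it, and d is finite, then the dimension of D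
at x is strictly smaller: some etale scheme chart of D has local dimension less than d at a point
over x. -/
theorem result {S : Scheme.{u}} (X D : AlgSp.Space S) (i : D ⟶ X)
    (hD : AlgSp.IsEffCartierSub i.hom) (x : AlgSp.Points D.obj) (d : WithBot ℕ∞)
    (hd : AlgSp.HasAt (fun U u => FlatMor.localDim ↥U u = d) X.obj (AlgSp.Points.map i.hom x)) (hfin : d ≠ ⊤) :
    AlgSp.HasAt (fun V v => FlatMor.localDim ↥V v < d) D.obj x := by
  open Groth.Agent.Lib.AlgSpDiv Groth.Agent.Lib.AlgSpMor.SchImage Groth.Agent.Lib.AlgSpace in
  obtain ⟨U, a, u, ha, hu, rfl⟩ := hd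
  obtain ⟨I, hI⟩ := exists_cut hD.1 a
  have := mono_of_closed hD.1
  obtain ⟨fst, sq⟩ := hI.isPullback
  obtain ⟨z, hz₁, hz₂⟩ := exists_of_isPullback sq x (Points.ofScheme U u)
    (hu.symm.trans (Points.ofPt_eq_map_ofScheme a u))
  obtain ⟨d, rfl⟩ : ∃ d, Points.ofScheme (sub I) d = z := ⟨_, Points.ofScheme_toScheme (sub I) z⟩
  refine ⟨sub I, fst, d, repWith_baseChange sq.flip ha, ?_, ?_⟩
  · rw [Points.ofPt_eq_map_ofScheme, hz₁]
  · have h2 : Points.ofScheme U ((subι I).left d) = Points.ofScheme U u := by
      rw [← hz₂, Points.map_ofPt, Category.id_comp,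
        ← Category.comp_id ((yon S).map (subι I)), ofPt_yon_map_comp]
    have hdu : I.subschemeι d = u := by simpa using congrArg (Points.toScheme U) h2
    rw [← hdu]
    exact Groth.Agent.S1686.result U.left I (isEffCartier_of_cut X.property hD ha hI) d
      (by rw [hdu]; exact hfin)

end Groth.Agent.S10794
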