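import Groth.Statements.S10797
import Groth.Agent.Lib.AlgSpDiv.Basic
import Groth.Agent.Lib.AlgSpDiv.RelBaseChange

set_option autoImplicit false
universe u
open CategoryTheory CategoryTheory.Limits AlgebraicGeometry Topology TopologicalSpace
open AlgSp

namespace Groth.Agent.S10797

/-- Let f : X ⟶ Y be a morphism of algebraic spaces over a scheme S and D ⟶ X an effective Cartier
divisor (one-chart sense) such that the composite D ⟶ Y is flat. Then for every morphism g : Y' ⟶ Y
and every pullback square exhibiting X' as Y' ×_Y X with projection g' : X' ⟶ X, the inverse image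
of D under g' (the projection to X' from any pullback of D ⟶ X along g') is an effective Cartier
divisor on X'. (The published statement takes g to be a morphism from a scheme Y'; this row allows
Y' to be an algebraic space, to which the same etale-local reduction to schemes applies.) -/
theorem result {S : Scheme.{u}} (X Y D Y' X' D' : AlgSp.Space S)
    (f : X ⟶ Y) (i : D ⟶ X) (hD : AlgSp.IsEffCartierSub i.hom) (hflat : AlgSp.LocP @Flat (i ≫ f).hom)
    (g : Y' ⟶ Y) (g' : X' ⟶ X) (f' : X' ⟶ Y') (hX' : IsPullback g'.hom f'.hom f.hom g.hom)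
    (k : D' ⟶ D) (i' : D' ⟶ X') (hD' : IsPullback k.hom i'.hom i.hom g'.hom) :
    AlgSp.IsEffCartierSub i'.hom := by
  open Groth.Agent.Lib.AlgSpDiv Groth.Agent.Lib.AlgSpMor.SchImage Groth.Agent.Lib.AlgSpace in
  obtain ⟨V, b, hb, hbs⟩ := Y.property.atlas
  obtain ⟨U₀, a₀, ha₀, ha₀s⟩ := X.property.atlas
  obtain ⟨U, p, h, sqU⟩ := exists_isPullback_yon Y.property.diag (a₀ ≫ f.hom) b
  haveI : Etale p.left := repWith_property hb sqU.flip
  have hua := Groth.Agent.Lib.AlgSpMor.LocP.repWith_etale_comp p ha₀
  obtain ⟨I, hI⟩ := exists_cut hD.1 ((AlgSp.yon S).map p ≫ a₀)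
  have hEff := isEffCartier_of_cut X.property hD hua hI
  have := mono_of_closed hD.1
  obtain ⟨fI, sqI⟩ := hI.isPullback
  haveI : Flat (I.subschemeι ≫ h.left) := hflat fI b (subι I ≫ h)
    (repWith_baseChange sqI.flip hua) hb (by
      change fI ≫ i.hom ≫ f.hom = _
      rw [← Category.assoc, sqI.w, Category.assoc, Category.assoc, sqU.w, ← Category.assoc,
        ← Functor.map_comp])
  obtain ⟨V', c, m, hc, hcs, wm⟩ :=
    Groth.Agent.Lib.AlgSpMor.LocP.exists_chart_over Y'.property Y.property g.hom hb hbs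
  let R : Over S := pullback h m
  have sqR : IsPullback ((AlgSp.yon S).map (pullback.fst h m)) ((AlgSp.yon S).map (pullback.snd h m))
      ((AlgSp.yon S).map h) ((AlgSp.yon S).map m) := isPullback_yon (IsPullback.of_hasPullback h m)
  have sqR₀ := (sqR.paste_horiz sqU)
  rw [← wm] at sqR₀
  let sqQ := IsPullback.of_hasPullback a₀ g'.hom
  have sqQY : IsPullback (pullback.snd a₀ g'.hom ≫ f'.hom) (pullback.fst a₀ g'.hom) g.hom (a₀ ≫ f.hom) :=
    sqQ.flip.paste_horiz hX'.flip
  let e := sqQY.lift ((AlgSp.yon S).map (pullback.snd h m) ≫ c)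
    ((AlgSp.yon S).map (pullback.fst h m) ≫ (AlgSp.yon S).map p)
    (by rw [Category.assoc]; exact sqR₀.w.symm)
  have sqe : IsPullback ((AlgSp.yon S).map (pullback.snd h m)) e c (pullback.snd a₀ g'.hom ≫ f'.hom) :=
    IsPullback.of_bot (by rw [sqQY.lift_snd]; exact sqR₀.flip)
      (sqQY.lift_fst _ _ _).symm sqQY
  haveI : MorphismProperty.IsStableUnderComposition (@Etale : MorphismProperty Scheme.{u}) :=
    ⟨fun f g (_ : Etale f) (_ : Etale g) ↦ inferInstanceAs (Etale (f ≫ g))⟩
  let a' := e ≫ pullback.snd a₀ g'.hom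
  have hJ : Cut i'.hom a' (I.comap (pullback.fst h m).left) := by
    rw [cut_iff_of_isPullback hD']
    have hw : a' ≫ g'.hom =
        (AlgSp.yon S).map (pullback.fst h m) ≫ (AlgSp.yon S).map p ≫ a₀ := by
      rw [Category.assoc, ← pullback.condition, ← Category.assoc, sqQY.lift_snd, Category.assoc]
    rw [hw]
    exact hI.comap _
  exact isEffCartierSub_iff.2 ⟨repWith_baseChange hD' hD.1, R, a', _,
    repWith_comp (repWith_baseChange sqe hc) (repWith_baseChange sqQ ha₀),
    repWith_comp (repWith_baseChange sqe hcs) (repWith_baseChange sqQ ha₀s), hJ,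
    isEffCartier_comap_of_relFlat (f := h.left) (g := m.left) (q := (pullback.snd h m).left)
      ((IsPullback.of_hasPullback h m).map (Over.forget S)) hEff⟩

end Groth.Agent.S10797
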