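import Groth.Statements.S10800
import Groth.Agent.Lib.AlgSpDiv.Basic
import Groth.Agent.Lib.AlgSpDecent.RedInduced
import Groth.Agent.Lib.AlgSpMor.DiagCharts
import Groth.Agent.Lib.AlgSpLimit.Reduced
import Groth.Agent.Lib.SurfInt.AffineCompl
import Groth.Agent.H75.RedKer
import Groth.Agent.S2821

set_option autoImplicit false
universe u
open CategoryTheory CategoryTheory.Limits AlgebraicGeometry Topology TopologicalSpace
open AlgSp

namespace Groth.Agent.S10800

open Groth.Agent.Lib.AlgSpDiv Groth.Agent.Lib.AlgSpMor Groth.Agent.Lib.AlgSpMor.SchImage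
  Groth.Agent.Lib.AlgSpace

/-- On a regular affine etale chart the reduced complement of a dense affine open subspace is a Cartier
divisor. -/
theorem isEffCartier_chart {S : Scheme.{u}} [S.IsSeparated] {X Z : Sp S} (hX : IsAlgSpace X)
    (hsep : AlgSp.IsSeparatedSp X) {T : Over S} [IsAffine T.left] {j : (yon S).obj T ⟶ X}
    (hj : RepWith @IsOpenImmersion j) (hdense : Dense (Set.range (Points.ofPt j)))
    (hZ : IsAlgSpace Z) {i : Z ⟶ X}
    (hi : IsRedInduced (Set.range (Points.ofPt j))ᶜ i) {W : Over S} [IsAffine W.left]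
    [IsLocallyNoetherian W.left] (hreg : ∀ w, IsRegularLocalRing ↥(W.left.presheaf.stalk w))
    {a : (yon S).obj W ⟶ X} (ha : RepWith @Etale a) :
    ∃ I : W.left.IdealSheafData, Cut i a I ∧ BlowUp.IsEffCartierIdeal I := by
  obtain ⟨I, hI⟩ := exists_cut hi.1 a
  refine ⟨I, hI, ?_⟩
  -- the trace of the open subspace
  obtain ⟨P, p, q, sq⟩ := exists_isPullback_yon hX.diag a j
  haveI : IsOpenImmersion p.left := repWith_property hj sq.flip
  haveI := (DiagCharts.affine_of_isSeparatedSp hsep sq).1
  have hr : Points.ofPt a ⁻¹' Set.range (Points.ofPt j) = Set.range p.left := by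
    ext w
    constructor
    · rintro ⟨t, ht⟩
      obtain ⟨r, hr, -⟩ := (ofPt_eq_ofPt_iff_of_isPullback sq w t).1 ht.symm
      exact ⟨r, hr⟩
    · rintro ⟨r, rfl⟩
      exact ⟨q.left r, ((ofPt_eq_ofPt_iff_of_isPullback sq _ _).2 ⟨r, rfl, rfl⟩).symm⟩
  have hd : Dense (p.left.opensRange : Set W.left) := by
    rw [Scheme.Hom.coe_opensRange, ← hr]
    exact hdense.preimage (isOpenMap_ofPt ha)
  have hC := Lib.SurfInt.AffineCompl.isEffCartier_compl (fun V V' hV hV' => hV.inf hV')
    (isAffineOpen_opensRange p.left) hd (fun w _ =>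
      haveI := hreg w
      Groth.Agent.S2821.result _)
  -- the inverse image of the reduced subspace is reduced
  haveI := mono_of_closed hi.1
  obtain ⟨fst, sqI⟩ := hI.isPullback
  haveI : AlgebraicGeometry.IsReduced I.subscheme :=
    Lib.AlgSpLimit.isReduced_of_etale_chart hZ hi.2.2 (W := sub I) (repWith_baseChange sqI.flip ha)
  have e : (I.support : Set W.left) = (Set.range p.left)ᶜ := by
    rw [← preimage_range_eq_support hi.1 hI, hi.2.1, Set.preimage_compl, hr]
  have hker := H75.RedKer.ker_eq_vanishingIdeal I.subschemeι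
  rw [Scheme.IdealSheafData.ker_subschemeι] at hker
  rw [hker]
  convert hC using 2
  refine TopologicalSpace.Closeds.ext ?_
  show closure (Set.range I.subschemeι) = (p.left.opensRange : Set W.left)ᶜ
  rw [Scheme.IdealSheafData.range_subschemeι, IsClosed.closure_eq I.support.isClosed, e, Scheme.Hom.coe_opensRange]

/-- Let S be a separated scheme and X an algebraic space over S which is Noetherian, separated and
regular: X is quasi-compact, quasi-separated and separated over S, and some etale surjective chart
of X is a locally Noetherian scheme whose local rings are regular. Let T be an affine scheme with a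
representable open immersion h_T ⟶ X whose image is dense in |X| (a dense affine open subspace U).
Then there is an effective Cartier divisor D ⟶ X (one-chart sense) with |D| = |X| ∖ |U|. (The
published statement asks X to be separated in the absolute sense; this row asks X separated over a
separated base scheme S, which implies it. Separatedness over S alone does not suffice: over the
affine plane with doubled origin as S, with X = S and U one of the two affine planes, the complement
is a point of codimension 2.) -/
theorem result {S : Scheme.{u}} [S.IsSeparated] (X : AlgSp.Space S)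
    (hreg : AlgSp.EtaleLocally (fun U => IsLocallyNoetherian U ∧ ∀ u : ↥U, IsRegularLocalRing ↥(U.presheaf.stalk u)) X.obj)
    (hqc : AlgSp.IsQuasiCompactSp X.obj) (hqs : AlgSp.IsQuasiSeparatedSp X.obj) (hsep : AlgSp.IsSeparatedSp X.obj)
    (T : Over S) [IsAffine T.left] (j : (AlgSp.yon S).obj T ⟶ X.obj) (hj : AlgSp.RepWith @IsOpenImmersion j)
    (hdense : Dense (Set.range (AlgSp.Points.ofPt j))) :
    ∃ (D : AlgSp.Space S) (i : D ⟶ X), AlgSp.IsEffCartierSub i.hom ∧
      Set.range (AlgSp.Points.map i.hom) = (Set.range (AlgSp.Points.ofPt j))ᶜ := by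
  obtain ⟨U₀, π, he, hs, hN, hR⟩ := hreg
  have hjo : IsOpen (Set.range (Points.ofPt j)) :=
    (isOpenMap_ofPt (repWith_mono hj fun _ _ f (_ : IsOpenImmersion f) => (inferInstance : Etale f))).isOpen_range
  obtain ⟨Z, i, hZ, hi⟩ :=
    Lib.AlgSpDecent.RedInduced.exists_redInduced X.property hjo.isClosed_compl
  refine ⟨⟨Z, hZ⟩, ObjectProperty.homMk i, isEffCartierSub_of_forall_nhd X.property hi.1 fun x => ?_, hi.2.1⟩
  obtain ⟨u₀, hu₀⟩ := surjective_ofPt hs (Points.map i x)
  obtain ⟨O, hO, huO, -⟩ := exists_isAffineOpen_mem_and_subset (X := U₀.left) (U := ⊤) (x := u₀) trivial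
  let W : Over S := Topo.opensOver O
  let k : W ⟶ U₀ := Topo.opensOverι O
  haveI : IsAffine W.left := hO
  haveI : IsOpenImmersion k.left := inferInstanceAs (IsOpenImmersion O.ι)
  haveI : IsLocallyNoetherian W.left := isLocallyNoetherian_of_isOpenImmersion k.left
  have hregW : ∀ w, IsRegularLocalRing ↥(W.left.presheaf.stalk w) := fun w =>
    haveI := hR (k.left w)
    IsRegularLocalRing.of_ringEquiv (asIso (k.left.stalkMap w)).commRingCatIsoToRingEquiv
  have ha := LocP.repWith_etale_comp k he
  obtain ⟨I, hI, hC⟩ := isEffCartier_chart X.property hsep hj hdense hZ hi hregW ha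
  exact ⟨W, _, ⟨u₀, huO⟩, I, ha, (ofPt_yon_map_comp _ _ _).trans hu₀, hI, hC⟩

end Groth.Agent.S10800
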