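import Groth.Statements.S10801
import Groth.Agent.S9964
import Groth.Agent.S9974
import Groth.Agent.Lib.AlgSpDivExt.Space
-- import your own Groth.Agent.* helpers here

set_option autoImplicit false
universe u
open CategoryTheory CategoryTheory.Limits AlgebraicGeometry Topology TopologicalSpace
open AlgSp

namespace Groth.Agent.S10801

/-- Suppose R is a valuation ring with fraction field K, S is a scheme equipped with a morphism Spec R ⟶
S, and X is an algebraic space over S together with a smooth morphism X ⟶ h_{Spec R}. Take X_K ⟶ X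
to be the base change to Spec K (given as a pullback square along h_{Spec K} ⟶ h_{Spec R}), and
consider an effective Cartier divisor D ⟶ X_K (in the one-chart sense). Then D extends to an
effective Cartier divisor D' ⟶ X restricting to D over X_K: there is a morphism D ⟶ D' exhibiting D
as the pullback of D' ⟶ X along X_K ⟶ X. -/
theorem result {S : Scheme.{u}}
    (R : Type u) [CommRing R] [IsDomain R] [ValuationRing R] (K : Type u) [Field K] [Algebra R K] [IsFractionRing R K]
    (str : Spec (CommRingCat.of R) ⟶ S) (X : AlgSp.Space S)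
    (f : X.obj ⟶ (AlgSp.yon S).obj (Over.mk str)) (hf : AlgSp.LocP @Smooth f)
    (XK : AlgSp.Space S) (gK : XK ⟶ X)
    (fK : XK.obj ⟶ (AlgSp.yon S).obj (Over.mk ((Spec.map (CommRingCat.ofHom (algebraMap R K))) ≫ str)))
    (hXK : IsPullback gK.hom fK f ((AlgSp.yon S).map (Over.homMk (Spec.map (CommRingCat.ofHom (algebraMap R K))) rfl : Over.mk ((Spec.map (CommRingCat.ofHom (algebraMap R K))) ≫ str) ⟶ Over.mk str)))
    (D : AlgSp.Space S) (i : D ⟶ XK) (hD : AlgSp.IsEffCartierSub i.hom) :
    ∃ (D' : AlgSp.Space S) (i' : D' ⟶ X) (k : D ⟶ D'),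
      AlgSp.IsEffCartierSub i'.hom ∧ IsPullback k.hom i.hom i'.hom gK.hom := by
  open Groth.Agent.Lib in
  open Groth.Agent.Lib.AlgSpace Groth.Agent.Lib.AlgSpMor Groth.Agent.Lib.AlgSpMor.SchImage in
  obtain ⟨hmono, hfl, hqcK⟩ := AlgSpDivExt.genericFibre_props K str X.property hXK
  haveI := hmono
  have hi := hD.1
  have hqc : AlgSp.IsQuasiCompactMor (i ≫ gK).hom :=
    QC.isQuasiCompactMor_of_repWith (repWith_comp (P := @QuasiCompact)
      (repWith_mono hi fun _ _ g (_ : IsClosedImmersion g) ↦ (inferInstance : QuasiCompact g)) hqcK)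
  obtain ⟨D', i', hi'⟩ := Groth.Agent.S9964.result (i ≫ gK)
  have hE : AlgSp.IsEffCartierSub i'.hom :=
    AlgSpDivExt.isEffCartierSub_image K str X.property XK.property D.property D'.property hf hXK hD
      hqc hi'
  -- the generic fibre of the image
  have sqP := IsPullback.of_hasPullback i'.hom gK.hom
  let P : AlgSp.Space S :=
    ⟨_, isAlgSpace_of_isPullback sqP X.property.diag D'.property XK.property⟩
  let i₁ : P ⟶ D' := ObjectProperty.homMk (pullback.fst i'.hom gK.hom)
  let j : P ⟶ XK := ObjectProperty.homMk (pullback.snd i'.hom gK.hom)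
  have sqV : IsPullback (𝟙 D.obj) i.hom (i ≫ gK).hom gK.hom := by
    exact (IsPullback.of_horiz_isIso_mono ⟨by
      rw [Category.id_comp]; rfl⟩)
  have hiX : AlgSp.IsSchImage i.hom j.hom :=
    Groth.Agent.S9974.result gK hfl (i ≫ gK) hqc i' hi' (𝟙 D) i sqV i₁ j sqP
  obtain ⟨d, hd⟩ := hiX.2.1
  obtain ⟨e, he⟩ := hiX.2.2 i.hom D.property hi ⟨𝟙 _, Category.id_comp _⟩
  haveI : Mono i.hom := AlgSpDiv.mono_of_closed hi
  haveI : Mono j.hom := AlgSpDiv.mono_of_closed hiX.1
  have hde : d ≫ e = 𝟙 _ := by rw [← cancel_mono i.hom, Category.assoc, he, hd, Category.id_comp]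
  have hed : e ≫ d = 𝟙 _ := by rw [← cancel_mono j.hom, Category.assoc, hd, he, Category.id_comp]
  refine ⟨D', i', ObjectProperty.homMk (d ≫ pullback.fst i'.hom gK.hom), hE, ?_⟩
  exact sqP.of_iso (⟨e, d, hed, hde⟩) (Iso.refl _) (Iso.refl _) (Iso.refl _)
    (by simp [reassoc_of% hed]) (by simp; exact he.symm) (by simp) (by simp)

end Groth.Agent.S10801
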