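import Groth.Statements.S10803
import Groth.Agent.Lib.AlgSpDecent.FieldBC
import Groth.Agent.Lib.AlgSpDecent.Levels

set_option autoImplicit false
universe u
open CategoryTheory CategoryTheory.Limits AlgebraicGeometry Topology TopologicalSpace
open AlgSp

namespace Groth.Agent.S10803

open Groth.Agent.Lib.AlgSpace Groth.Agent.Lib.AlgSpDecent

/-- (3) ⇒ (2) (with (2) ⇒ (1) ⇒ (3) immediate, this gives the equivalence of the three conditions
defining a locally Noetherian fibre over y): take a morphism f : X ⟶ Y of algebraic spaces over a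
scheme S and a point y of |Y|. Suppose that for some field k and some point p : Spec k ⟶ Y
representing y the fibre X_p (any pullback of f along the morphism of p) is locally Noetherian. Then
for every scheme V, every representable etale h_V ⟶ Y and every point v of V mapping to y, the fibre
X_v = Spec κ(v) ×_Y X is locally Noetherian. -/
theorem result {S : Scheme.{u}} (X Y : AlgSp.Space S) (f : X ⟶ Y)
    (y : AlgSp.Points Y.obj) (p : AlgSp.FieldPt Y.obj) (hp : AlgSp.Points.mk p = y)
    (hNoeth : ∀ ⦃P : AlgSp.Sp S⦄ (fst : P ⟶ X.obj) (snd : P ⟶ (AlgSp.yon S).obj p.pt),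
      IsPullback fst snd f.hom p.toHom → AlgSp.IsLocNoethSp P)
    (V : Over S) (b : (AlgSp.yon S).obj V ⟶ Y.obj) (hb : AlgSp.RepWith @Etale b) (v : ↥V.left)
    (hv : AlgSp.Points.ofPt b v = y)
    {Q : AlgSp.Sp S} (qfst : Q ⟶ X.obj) (qsnd : Q ⟶ (AlgSp.yon S).obj (AlgSp.FieldPt.ofPt b v).pt)
    (hQ : IsPullback qfst qsnd f.hom (AlgSp.FieldPt.ofPt b v).toHom) :
    AlgSp.IsLocNoethSp Q := by
  let T := hb.rep.pullback p.toHom
  have hv' : AlgSp.Points.ofPt b v = AlgSp.Points.ofPt p.toHom (IsLocalRing.closedPoint p.K) := by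
    rw [AlgSp.Points.ofPt_toHom, hp, hv]
  obtain ⟨t, ht, -⟩ := Core.exists_point_of_scheme_isPullback (hb.rep.isPullback' p.toHom) _ _ hv'
  subst ht
  let f₁ := hb.rep.fst' p.toHom
  let f₂ := hb.rep.snd p.toHom
  let σ' : Spec (CommRingCat.of (T.left.residueField t)) ⟶ S := T.left.fromSpecResidueField t ≫ T.hom
  let inT : Over.mk σ' ⟶ T := Over.homMk (T.left.fromSpecResidueField t) rfl
  let i : Over.mk σ' ⟶ (AlgSp.FieldPt.ofPt b (f₁.left t)).pt := Over.homMk (Spec.map (f₁.left.residueFieldMap t)) (by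
    show Spec.map (f₁.left.residueFieldMap t) ≫ V.left.fromSpecResidueField (f₁.left t) ≫ V.hom =
      T.left.fromSpecResidueField t ≫ T.hom
    rw [Scheme.Hom.SpecMap_residueFieldMap_fromSpecResidueField_assoc, Over.w f₁])
  let j : Over.mk σ' ⟶ p.pt := inT ≫ f₂
  have hij : (AlgSp.yon S).map i ≫ (AlgSp.FieldPt.ofPt b (f₁.left t)).toHom = (AlgSp.yon S).map j ≫ p.toHom := by
    rw [show j = inT ≫ f₂ from rfl, AlgSp.FieldPt.toHom_ofPt, ← Category.assoc, ← Functor.map_comp, Functor.map_comp _ inT,
      Category.assoc, ← (hb.rep.isPullback' p.toHom).w, ← Category.assoc, ← Functor.map_comp]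
    refine congrArg (fun φ => (AlgSp.yon S).map φ ≫ b) (Over.OverMorphism.ext ?_)
    exact Scheme.Hom.SpecMap_residueFieldMap_fromSpecResidueField _ t
  have : Etale f₂.left := hb.property_snd _
  have : Subsingleton ↥p.pt.left := inferInstanceAs (Subsingleton (PrimeSpectrum p.K))
  have : LocallyOfFiniteType j.left := by
    have : LocallyOfFiniteType inT.left := by
      have : DiscreteTopology ↥T.left := Levels.discreteTopology_of_etale_field
        (show T.left ⟶ Spec (CommRingCat.of p.K) from f₂.left)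
      have : IsClosedImmersion (T.left.fromSpecResidueField t) :=
        isClosed_singleton_iff_isClosedImmersion.1 (isClosed_discrete _)
      exact (inferInstance : LocallyOfFiniteType (T.left.fromSpecResidueField t))
    exact inferInstanceAs (LocallyOfFiniteType (inT.left ≫ f₂.left))
  have sqi := IsPullback.of_hasPullback qsnd ((AlgSp.yon S).map i)
  have hQ' : AlgSp.IsAlgSpace Q :=
    isAlgSpace_of_isPullback hQ Y.property.diag X.property (AlgSp.IsAlgSpace.yon_obj _)
  refine FieldBC.isLocNoethSp_descend hQ' sqi ?_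
  have sqX := sqi.paste_horiz hQ
  rw [hij] at sqX
  have sqP := IsPullback.of_hasPullback f.hom p.toHom
  have hP := isAlgSpace_of_isPullback sqP Y.property.diag X.property (AlgSp.IsAlgSpace.yon_obj _)
  have hw : (pullback.fst qsnd ((AlgSp.yon S).map i) ≫ qfst) ≫ f.hom =
      (pullback.snd qsnd ((AlgSp.yon S).map i) ≫ (AlgSp.yon S).map j) ≫ p.toHom := by
    rw [Category.assoc, Category.assoc, hQ.w, ← hij, sqi.w_assoc]
  have hl := sqP.lift_fst _ _ hw
  exact FieldBC.isLocNoethSp_bc hP (IsPullback.of_right (hl.symm ▸ sqX)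
    (sqP.lift_snd _ _ hw) sqP) (hNoeth _ _ sqP)

end Groth.Agent.S10803
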