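import Groth.Statements.S10807
import Groth.Agent.Lib.BlowUpSp.Chart
import Groth.Agent.Lib.BlowUpExists.Proper
import Groth.Agent.Lib.AlgSpMor.Proper

set_option autoImplicit false
universe u
open CategoryTheory CategoryTheory.Limits AlgebraicGeometry Topology TopologicalSpace
open AlgSp

namespace Groth.Agent.S10807

/-- The ideals of a closed subscheme of finite presentation are finitely generated. -/
lemma ideal_fg {T : Scheme.{u}} (I : T.IdealSheafData) [LocallyOfFinitePresentation I.subschemeι]
    (U : T.affineOpens) : (I.ideal U).FG := by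
  have h := I.subschemeι.finitePresentation_appLE U.2 (U.2.preimage I.subschemeι) le_rfl
  rw [← Scheme.Hom.app_eq_appLE] at h
  algebraize [(I.subschemeι.app U.1).hom]
  have hk := Algebra.FinitePresentation.ker_fG_of_surjective (R := Γ(T, U.1))
    (Algebra.ofId Γ(T, U.1) Γ(I.subscheme, I.subschemeι ⁻¹ᵁ U.1))
    (I.subschemeι.app_surjective U.1 U.2)
  rw [← I.ker_subschemeι, Scheme.Hom.ker_apply]
  exact hk

/-- Let X be an algebraic space over a scheme S and Z ⟶ X a closed subspace of finite presentation (its
ideal is of finite type), and let b : X' ⟶ X be the blowing up of X in Z, characterised by its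
universal property: the inverse image of Z under b is an effective Cartier divisor (one-chart sense)
and every morphism from an algebraic space to X under which the inverse image of Z is an effective
Cartier divisor factors uniquely through b. Then b is a proper morphism. -/
theorem result {S : Scheme.{u}} (X X' Z : AlgSp.Space S)
    (i : Z ⟶ X) (hi : AlgSp.RepWith (@IsClosedImmersion ⊓ @LocallyOfFinitePresentation) i.hom)
    (b : X' ⟶ X) (hb : AlgSp.IsBlowUpSp b.hom i.hom) :
    AlgSp.IsProperMor b.hom := by
  open Groth.Agent.Lib.AlgSpace Groth.Agent.Lib.AlgSpMor in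
  obtain ⟨U, π, he, hs⟩ := X.property.atlas
  open Groth.Agent.Lib.AlgSpace Groth.Agent.Lib.AlgSpMor Groth.Agent.Lib.AlgSpMor.SchImage in
  have hic : AlgSp.RepWith @IsClosedImmersion i.hom := repWith_mono hi fun _ _ _ h => h.1
  open Groth.Agent.Lib.AlgSpMor.SchImage in
  haveI := Groth.Agent.Lib.AlgSpDiv.mono_of_closed hic
  open Groth.Agent.Lib.AlgSpMor.SchImage in
  obtain ⟨I, hI⟩ := exists_cut hic π
  obtain ⟨fst, sqI⟩ := hI.isPullback
  haveI : LocallyOfFinitePresentation I.subschemeι :=
    (Groth.Agent.Lib.AlgSpace.repWith_property hi sqI).2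
  obtain ⟨P₀, β₀, hβ₀⟩ := Groth.Agent.Lib.BlowUpExists.exists_isBlowUp U.left I
  let P : Over S := Over.mk (β₀ ≫ U.hom)
  let β : P ⟶ U := Over.homMk β₀ rfl
  haveI hprop : IsProper β.left :=
    Groth.Agent.Lib.BlowUpExists.isProper_of_isBlowUp hβ₀ (ideal_fg I)
  obtain ⟨f₁, sq⟩ := Groth.Agent.Lib.BlowUpSp.exists_iso_chart hic X.property X'.property hb he hI β
    hβ₀
  refine Groth.Agent.Lib.AlgSpMor.Proper.isProperMor_of_cover X'.property X.property he hs sq ⟨?_, ⟨?_, ?_⟩, ?_⟩
  · exact (AlgSp.repWith_diagonal_yon_map_iff @IsClosedImmersion β).2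
      IsSeparated.isClosedImmersion_diagonal
  · exact Groth.Agent.Lib.AlgSpMor.LocP.locP_of_repWith
      Groth.Agent.Lib.SourceDescent.Scheme.locallyOfFiniteType
      ((AlgSp.repWith_yon_map_iff _ _).2 inferInstance)
  · exact Groth.Agent.Lib.AlgSpMor.QC.isQuasiCompactMor_of_repWith
      ((AlgSp.repWith_yon_map_iff _ _).2 inferInstance)
  · exact Groth.Agent.Lib.AlgSpMor.Proper.isUnivClosedMor_of_repWith
      ((AlgSp.repWith_yon_map_iff _ _).2 inferInstance)

end Groth.Agent.S10807
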