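import Groth.Statements.S10817
import Groth.Agent.Lib.EtMod.WeakAss

set_option autoImplicit false
universe u
open CategoryTheory CategoryTheory.Limits AlgebraicGeometry Topology TopologicalSpace
open AlgSp

namespace Groth.Agent.S10817

/-- Let X be an algebraic space over a scheme S and F a quasi-coherent O_X-module on the small etale
site of X. If U ⟶ X is an etale morphism from a scheme (an object of the small etale site) whose
image in |X| contains all weakly associated points of F, then the restriction map Γ(X, F) ⟶ Γ(U, F)
is injective; here Γ(X, F) is the type of compatible families of sections of F over all objects of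
the site, and the map is evaluation at U. -/
theorem result {S : Scheme.{u}} (X : AlgSp.Space S)
    (M : AlgSp.ModEt X.obj) [M.IsQuasicoherent] (E : AlgSp.EtOver X.obj)
    (hE : AlgSp.WeakAssEt M ⊆ Set.range (AlgSp.Points.ofPt E.obj.hom)) :
    Function.Injective (fun s : M.sections => PresheafOfModules.sections.eval s (Opposite.op E)) := by
  intro s t hst
  refine PresheafOfModules.sections_ext s t fun V => ?_
  let d : M.sections := ⟨fun V => s.1 V - t.1 V, fun {V W} g => by
    change M.val.map g (s.1 V - t.1 V) = s.1 W - t.1 W
    refine (map_sub (M.val.map g).hom (s.1 V) (t.1 V)).trans ?_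
    exact congrArg₂ (· - ·) (s.2 g) (t.2 g)⟩
  have hd : PresheafOfModules.sections.eval d (Opposite.op E) = 0 := sub_eq_zero.2 hst
  exact sub_eq_zero.1 (Groth.Agent.Lib.EtMod.eq_of_weakAss_subset
    (Groth.Agent.Lib.EtMod.isCart_of_isQuasicoherent M) E hE (s := d) hd V.unop)

end Groth.Agent.S10817
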