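import Groth.Statements.S10820
import Groth.Agent.Lib.ProjDim.Cut

set_option autoImplicit false
universe u
open AlgebraicGeometry Topology TopologicalSpace
open Variety

namespace Groth.Agent.S10820

open Groth.Agent.Lib.ProjDim.Graded Groth.Agent.Lib.ProjDim.Topology Groth.Agent.Lib.ProjDim.Cut

/-- For a field k, n ≥ 2 and a nonzero homogeneous polynomial f of degree d ≥ 1 in n + 1 variables, the
hypersurface V_+(f) in projective n-space over k (as a subspace of Proj of the polynomial ring
graded by degree) is connected and nonempty. -/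
theorem result (k : Type u) [Field k] (n d : ℕ) (hn : 2 ≤ n)
    (f : MvPolynomial (Fin (n + 1)) k) (hf : f.IsHomogeneous d) (hd : 0 < d) (hf0 : f ≠ 0) :
    IsConnected (ProjectiveSpectrum.zeroLocus (CohB1.polyGrading n k)
      ({f} : Set (MvPolynomial (Fin (n + 1)) k))) := by
  classical
  set Z := ProjectiveSpectrum.zeroLocus (CohB1.polyGrading n k) ({f} : Set _) with hZ
  let η := mkPt (⊥ : Ideal (MvPolynomial (Fin (n + 1)) k)) Ideal.isPrime_bot
    (Ideal.IsHomogeneous.bot _) (by rw [Groth.Agent.Lib.ProjDim.Graded.dimQ_bot_poly]; omega)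
  have hη : dp η + 1 = n + 1 := (dp_add_one η).trans dimQ_bot_poly
  have hgen : ∀ y, η ⤳ y := fun y => Groth.Agent.Lib.ProjDim.Topology.specializes_iff.2 bot_le
  have hF : ∀ g ∈ ({f} : Finset _), ∃ e, g.IsHomogeneous e := fun g hg => by
    rw [Finset.mem_singleton.1 hg]; exact ⟨d, hf⟩
  obtain ⟨v, -, hv⟩ := exists_mem (x := η) {f} hF
    (fun g hg => by rw [Finset.mem_singleton.1 hg]; exact mem_irr_of_isHomogeneous hf hd)
    (by rw [Finset.card_singleton]; omega)
  rw [Finset.coe_singleton] at hv
  refine ⟨⟨v, hv⟩, isPreconnected_of_forall_pair fun a ha b hb => ?_⟩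
  have hZc : IsClosed Z := ProjectiveSpectrum.isClosed_zeroLocus _ _
  obtain ⟨a', ha', haa, hamin⟩ := exists_minimal ha
  obtain ⟨b', hb', hbb, hbmin⟩ := exists_minimal hb
  have h1 := dp_le_add_card (x := η) (y := a') {f} hF ⟨hgen _, by rwa [Finset.coe_singleton]⟩
    (fun z _ hz hza => hamin z (by rwa [Finset.coe_singleton] at hz) hza)
  have h2 := dp_le_add_card (x := η) (y := b') {f} hF ⟨hgen _, by rwa [Finset.coe_singleton]⟩
    (fun z _ hz hza => hbmin z (by rwa [Finset.coe_singleton] at hz) hza)
  rw [Finset.card_singleton] at h1 h2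
  obtain ⟨z, haz, hbz, -⟩ := exists_mem_inter (x := a') (y := b') (by omega)
  refine ⟨closure {a'} ∪ closure {b'}, Set.union_subset
    (closure_minimal (Set.singleton_subset_iff.2 ha') hZc)
    (closure_minimal (Set.singleton_subset_iff.2 hb') hZc),
    Or.inl (specializes_iff_mem_closure.1 haa), Or.inr (specializes_iff_mem_closure.1 hbb), ?_⟩
  exact IsPreconnected.union z (specializes_iff_mem_closure.1 haz) (specializes_iff_mem_closure.1 hbz)
    isIrreducible_singleton.closure.isConnected.isPreconnected
    isIrreducible_singleton.closure.isConnected.isPreconnected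

end Groth.Agent.S10820
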