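import Groth.Statements.S10821
import Groth.Agent.Lib.ProjDim.Cut

set_option autoImplicit false
universe u
open AlgebraicGeometry Topology TopologicalSpace
open Variety

namespace Groth.Agent.S10821

open Groth.Agent.Lib.ProjDim.Graded Groth.Agent.Lib.ProjDim.Topology Groth.Agent.Lib.ProjDim.Cut
open MvPolynomial Groth.Agent.Lib.Dim.Basic

variable {k : Type u} [Field k] {n : ℕ}

theorem closure_lt {a b : ProjectiveSpectrum (CohB1.polyGrading n k)} (h : idl b ≤ idl a)
    (h' : ¬ idl a ≤ idl b) :
    (⟨closure {a}, isIrreducible_singleton.closure, isClosed_closure⟩ :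
      IrreducibleCloseds (ProjectiveSpectrum (CohB1.polyGrading n k))) <
      ⟨closure {b}, isIrreducible_singleton.closure, isClosed_closure⟩ := by
  refine lt_iff_le_not_ge.2 ⟨?_, fun hh => h' ?_⟩
  · exact closure_minimal (Set.singleton_subset_iff.2 (specializes_iff_mem_closure.1
      (Groth.Agent.Lib.ProjDim.Topology.specializes_iff.2 h))) isClosed_closure
  · exact Groth.Agent.Lib.ProjDim.Topology.specializes_iff.1
      (specializes_iff_mem_closure.2 (hh (subset_closure rfl)))

/-- The codimension of an irreducible closed subset. -/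
theorem coheight_eq (Z : IrreducibleCloseds (ProjectiveSpectrum (CohB1.polyGrading n k)))
    {x : ProjectiveSpectrum (CohB1.polyGrading n k)} (hx : IsGenericPoint x (Z : Set _)) :
    Order.coheight Z = ((n - dp x : ℕ) : ℕ∞) := by
  refine le_antisymm (Order.coheight_le fun l hl => ?_) ?_
  · have key : ∀ i : ℕ, (hi : i < l.length + 1) → ∀ y : ProjectiveSpectrum (CohB1.polyGrading n k), IsGenericPoint y
        ((l ⟨i, hi⟩ : IrreducibleCloseds _) : Set (ProjectiveSpectrum (CohB1.polyGrading n k))) →
        i + dp x ≤ dp y := by
      intro i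
      induction i with
      | zero =>
        intro hi y hy
        have e : l ⟨0, hi⟩ = Z := hl
        rw [e] at hy
        rw [idl_injective (le_antisymm
          (Groth.Agent.Lib.ProjDim.Topology.specializes_iff.1 (hy.specializes hx.mem))
          (Groth.Agent.Lib.ProjDim.Topology.specializes_iff.1 (hx.specializes hy.mem)))]; omega
      | succ i ih =>
        intro hi y hy
        obtain ⟨w, hw⟩ := QuasiSober.sober (l ⟨i, by omega⟩).isIrreducible (l ⟨i, by omega⟩).isClosed
        have h1 := ih (by omega) w hw
        have hlt : l ⟨i, by omega⟩ < l ⟨i + 1, hi⟩ := l.step ⟨i, by omega⟩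
        have hyw : y ⤳ w := hy.specializes (hlt.le hw.mem)
        have hne : y ≠ w := fun e => hlt.ne (IrreducibleCloseds.ext (hw.def.symm.trans (e ▸ hy.def)))
        have := dp_lt hyw hne
        omega
    obtain ⟨w, hw⟩ := QuasiSober.sober l.last.isIrreducible l.last.isClosed
    have h1 := key l.length (Nat.lt_succ_self _) w hw
    have h2 := dp_le_n w
    exact_mod_cast (by omega : l.length ≤ n - dp x)
  · obtain ⟨c, hc0, hce, hc, hcs⟩ := exists_chain (k := k) (p := ⊥) (q := idl x)
      (Ideal.IsHomogeneous.bot _) (idl_hom x) bot_le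
    rw [dimQ_bot_poly] at hc hcs hce
    have hdx := dp_add_one x
    have hlen : n + 1 - dimQ k (idl x) = n - dp x := by omega
    rw [hlen] at hc hcs hce
    let pt : (i : ℕ) → i ≤ n - dp x → ProjectiveSpectrum (CohB1.polyGrading n k) := fun i hi =>
      mkPt (c i) (hc i hi).1 (hc i hi).2.1 (by have := (hc i hi).2.2.2.2; omega)
    let l : LTSeries (IrreducibleCloseds (ProjectiveSpectrum (CohB1.polyGrading n k))) :=
      { length := n - dp x
        toFun := fun i => ⟨closure {pt (n - dp x - i) (Nat.sub_le _ _)},
          isIrreducible_singleton.closure, isClosed_closure⟩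
        step := fun i => by
          have h := hcs (n - dp x - (i + 1)) (by omega)
          rw [show n - dp x - (i + 1) + 1 = n - dp x - i by omega] at h
          exact closure_lt (by simpa [pt, idl_mkPt] using h.le)
            fun hh => h.not_ge (by simpa [pt, idl_mkPt] using hh) }
    have hhead : l.head = Z := by
      refine IrreducibleCloseds.ext ?_
      show closure {pt (n - dp x - 0) (Nat.sub_le _ _)} = _
      rw [← hx.def]
      congr 2
      exact idl_injective (by simpa [pt, idl_mkPt] using hce)
    have h := Order.length_le_coheight_head (p := l)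
    rwa [hhead] at h

/-- For a field k and an irreducible closed subset Z of projective n-space over k, Z has codimension 1
(the longest chain of irreducible closed subsets strictly above Z has length 1) if and only if Z is
the zero set V_+(f) of an irreducible homogeneous polynomial f in n + 1 variables. -/
theorem result (k : Type u) [Field k] (n : ℕ)
    (Z : TopologicalSpace.IrreducibleCloseds (ProjectiveSpectrum (CohB1.polyGrading n k))) :
    Order.coheight Z = 1 ↔
      ∃ (d : ℕ) (f : MvPolynomial (Fin (n + 1)) k), f.IsHomogeneous d ∧ Irreducible f ∧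
        (Z : Set (ProjectiveSpectrum (CohB1.polyGrading n k))) =
          ProjectiveSpectrum.zeroLocus (CohB1.polyGrading n k) ({f} : Set (MvPolynomial (Fin (n + 1)) k)) := by
  obtain ⟨x, hx⟩ := QuasiSober.sober Z.isIrreducible Z.isClosed
  rw [coheight_eq Z hx]
  have hdx := dp_add_one x
  refine ⟨fun h => ?_, fun h => ?_⟩
  · have h1 : n - dp x = 1 := by exact_mod_cast h
    have hh : (idl x).height = 1 := by
      have h2 := height_add_dimQ k (idl x)
      rw [← dimQ_bot (k := k), dimQ_bot_poly, show dimQ k (idl x) = n by omega] at h2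
      rw [Nat.cast_add, Nat.cast_one, add_comm ((n : ℕ∞))] at h2
      exact (WithTop.add_right_inj (by simp : (n : ℕ∞) ≠ ⊤)).1 h2
    obtain ⟨f, hfx, hfp⟩ := Ideal.IsPrime.exists_mem_prime_of_ne_bot (I := idl x) x.isPrime
      (Ideal.ne_bot_of_height_eq_one hh)
    have hspan : idl x = Ideal.span {f} := Ideal.eq_span_singleton_of_height_eq_one hh hfx hfp
    refine ⟨f.totalDegree, f, ?_, hfp.irreducible, ?_⟩
    · intro m hm
      have hcomp := component_mem (idl_hom x) hfx (Finsupp.degree m)
      rw [hspan, Ideal.mem_span_singleton'] at hcomp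
      obtain ⟨g, hg⟩ := hcomp
      have hne : homogeneousComponent (Finsupp.degree m) f ≠ 0 := fun e => hm (by
        have := congrArg (coeff m) e
        rwa [coeff_homogeneousComponent, if_pos rfl, coeff_zero] at this)
      have hg0 : g ≠ 0 := fun e => hne (by rw [← hg, e, zero_mul])
      have h1 : (homogeneousComponent (Finsupp.degree m) f).totalDegree = Finsupp.degree m :=
        (homogeneousComponent_isHomogeneous _ f).totalDegree hne
      rw [← hg, totalDegree_mul_of_isDomain hg0 hfp.ne_zero] at h1
      have h2 : Finsupp.degree m ≤ f.totalDegree := le_totalDegree (mem_support_iff.2 hm)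
      have h3 : Finsupp.weight (1 : Fin (n + 1) → ℕ) m = Finsupp.degree m := by
        rw [Finsupp.degree_eq_weight_one]; rfl
      show Finsupp.weight 1 m = _
      omega
    · ext y
      rw [mem_zeroLocus_iff, ← hspan, ← Groth.Agent.Lib.ProjDim.Topology.specializes_iff]
      exact hx.specializes_iff_mem.symm
  · obtain ⟨d, f, hfh, hfi, hZ⟩ := h
    have hfp : Prime f := UniqueFactorizationMonoid.irreducible_iff_prime.1 hfi
    have hP : (Ideal.span {f}).IsPrime := (Ideal.span_singleton_prime hfp.ne_zero).2 hfp
    have hh : (Ideal.span {f}).height = 1 := by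
      exact Ideal.height_span_singleton_eq_one_of_mem_nonZeroDivisors
        (mem_nonZeroDivisors_of_ne_zero hfp.ne_zero) hfp.not_isUnit
    have hd := dimQ_add_one_of_height_one k (Ideal.span {f}) hh
    rw [← dimQ_bot (k := k), dimQ_bot_poly] at hd
    have hxf : Ideal.span {f} ≤ idl x := mem_zeroLocus_iff.1 (hZ ▸ hx.mem)
    have h1 := dimQ_anti k hxf
    have hhom : (Ideal.span {f}).IsHomogeneous (CohB1.polyGrading n k) :=
      span_isHomogeneous fun g hg => ⟨d, by rw [Set.mem_singleton_iff.1 hg]; exact hfh⟩
    let p := mkPt (Ideal.span {f}) hP hhom (by omega)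
    have hpZ : p ∈ (Z : Set _) := by rw [hZ, mem_zeroLocus_iff]; exact le_rfl
    have he : idl x = Ideal.span {f} := le_antisymm
      (Groth.Agent.Lib.ProjDim.Topology.specializes_iff.1 (hx.specializes hpZ)) hxf
    rw [he] at hdx h1
    exact_mod_cast (by omega : n - dp x = 1)

end Groth.Agent.S10821
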