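import Groth.Statements.S10822
import Groth.Agent.Lib.ProjDim.Cut

set_option autoImplicit false
universe u
open AlgebraicGeometry Topology TopologicalSpace
open Variety

namespace Groth.Agent.S10822

open Groth.Agent.Lib.ProjDim.Graded Groth.Agent.Lib.ProjDim.Topology Groth.Agent.Lib.ProjDim.Cut

/-- Let k be a field, X an irreducible closed subset of projective n-space over k of positive dimension,
and f a homogeneous polynomial in n + 1 variables whose zero set V_+(f) is nonempty and does not
contain X. Then X meets V_+(f), and every irreducible component C of X ∩ V_+(f) has dim C + 1 = dim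
X, i.e. codimension 1 in X (all maximal chains of irreducible closed subsets of X have length dim
X). -/
theorem result (k : Type u) [Field k] (n d : ℕ)
    (X : Set (ProjectiveSpectrum (CohB1.polyGrading n k))) (hXc : IsClosed X) (hXi : IsIrreducible X)
    (hXd : 0 < topologicalKrullDim ↥X)
    (f : MvPolynomial (Fin (n + 1)) k) (hf : f.IsHomogeneous d)
    (hV : (ProjectiveSpectrum.zeroLocus (CohB1.polyGrading n k)
      ({f} : Set (MvPolynomial (Fin (n + 1)) k))).Nonempty)
    (hX : ¬ X ⊆ ProjectiveSpectrum.zeroLocus (CohB1.polyGrading n k)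
      ({f} : Set (MvPolynomial (Fin (n + 1)) k))) :
    (X ∩ ProjectiveSpectrum.zeroLocus (CohB1.polyGrading n k)
        ({f} : Set (MvPolynomial (Fin (n + 1)) k))).Nonempty ∧
      ∀ C ∈ irreducibleComponents ↥(X ∩ ProjectiveSpectrum.zeroLocus (CohB1.polyGrading n k)
          ({f} : Set (MvPolynomial (Fin (n + 1)) k))),
        topologicalKrullDim ↥C + 1 = topologicalKrullDim ↥X := by
  obtain ⟨x, hx⟩ := QuasiSober.sober hXi hXc
  have hxd := dim_of_isGenericPoint hx
  rw [hxd] at hXd
  have hpos : 0 < dp x := by exact_mod_cast hXd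
  obtain ⟨v, hv⟩ := hV
  have hirr := mem_irr_of_mem_zeroLocus hv
  have hF : ∀ g ∈ ({f} : Finset _), ∃ e, g.IsHomogeneous e := fun g hg => by
    rw [Finset.mem_singleton.1 hg]; exact ⟨d, hf⟩
  obtain ⟨y, hxy, hy⟩ := exists_mem (x := x) {f} hF
    (fun g hg => by rw [Finset.mem_singleton.1 hg]; exact hirr) (by rw [Finset.card_singleton]; exact hpos)
  rw [Finset.coe_singleton] at hy
  refine ⟨⟨y, hxy.mem_closed hXc hx.mem, hy⟩, fun C hC => ?_⟩
  obtain ⟨c, hc, hmin, hcd⟩ := component_inter hx {f} hC
  have h1 := dp_le_add_card (x := x) (y := c) {f} hF (by simpa using hc) (by simpa using hmin)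
  have h2 : dp c < dp x := dp_lt hc.1 fun e => hX fun w hw =>
    ((hx.specializes hw).mem_closed (ProjectiveSpectrum.isClosed_zeroLocus _ _) (e.symm ▸ hc.2))
  rw [hcd, hxd]
  rw [Finset.card_singleton] at h1
  exact_mod_cast (by omega : dp c + 1 = dp x)

end Groth.Agent.S10822
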