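import Groth.Statements.S10823
import Groth.Agent.Lib.ProjDim.Cut

set_option autoImplicit false
universe u
open AlgebraicGeometry Topology TopologicalSpace
open Variety

namespace Groth.Agent.S10823

open Groth.Agent.Lib.ProjDim.Graded Groth.Agent.Lib.ProjDim.Topology Groth.Agent.Lib.ProjDim.Cut

/-- Let k be a field, X an irreducible closed subset of projective n-space over k, and f_1, …, f_r
nonzero homogeneous polynomials of positive degrees in n + 1 variables. Then every irreducible
component C of X ∩ V_+(f_1, …, f_r) has codimension at most r in X, i.e. dim X ≤ dim C + r, and if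
dim X ≥ r the intersection is nonempty. -/
theorem result (k : Type u) [Field k] (n r : ℕ)
    (X : Set (ProjectiveSpectrum (CohB1.polyGrading n k))) (hXc : IsClosed X) (hXi : IsIrreducible X)
    (f : Fin r → MvPolynomial (Fin (n + 1)) k) (d : Fin r → ℕ)
    (hf : ∀ i, (f i).IsHomogeneous (d i)) (hd : ∀ i, 0 < d i) (hf0 : ∀ i, f i ≠ 0) :
    (∀ C ∈ irreducibleComponents ↥(X ∩ ProjectiveSpectrum.zeroLocus (CohB1.polyGrading n k) (Set.range f)),
        topologicalKrullDim ↥X ≤ topologicalKrullDim ↥C + (r : WithBot ℕ∞)) ∧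
      ((r : WithBot ℕ∞) ≤ topologicalKrullDim ↥X →
        (X ∩ ProjectiveSpectrum.zeroLocus (CohB1.polyGrading n k) (Set.range f)).Nonempty) := by
  classical
  obtain ⟨x, hx⟩ := QuasiSober.sober hXi hXc
  have hxd := dim_of_isGenericPoint hx
  let F : Finset (MvPolynomial (Fin (n + 1)) k) := Finset.univ.image f
  have hFc : (F : Set (MvPolynomial (Fin (n + 1)) k)) = Set.range f := by simp [F]
  have hFh : ∀ g ∈ F, ∃ e, g.IsHomogeneous e := fun g hg => by
    obtain ⟨i, -, rfl⟩ := Finset.mem_image.1 hg
    exact ⟨d i, hf i⟩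
  have hcard : F.card ≤ r := Finset.card_image_le.trans (by simp)
  rw [← hFc]
  refine ⟨fun C hC => ?_, fun hr => ?_⟩
  · obtain ⟨c, hc, hmin, hcd⟩ := component_inter hx _ hC
    have h1 := dp_le_add_card (x := x) (y := c) F hFh hc hmin
    rw [hcd, hxd]
    exact_mod_cast (by omega : dp x ≤ dp c + r)
  · rw [hxd] at hr
    have hr' : r ≤ dp x := by exact_mod_cast hr
    obtain ⟨y, hxy, hy⟩ := exists_mem (x := x) F hFh (fun g hg => by
      obtain ⟨i, -, rfl⟩ := Finset.mem_image.1 hg
      exact mem_irr_of_isHomogeneous (hf i) (hd i)) (hcard.trans hr')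
    exact ⟨y, hxy.mem_closed hXc hx.mem, hy⟩

end Groth.Agent.S10823
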