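import Groth.Statements.S10824
import Groth.Agent.H15.BezoutHilbert
import Mathlib

set_option autoImplicit false
set_option maxHeartbeats 2000000
set_option backward.isDefEq.respectTransparency false
universe u
open Variety

namespace Groth.Agent.S10824

set_option backward.isDefEq.respectTransparency true in
theorem mem_span_of_mul_mem {k : Type u} [Field k] {f g a : MvPolynomial (Fin 3) k} (h : IsRelPrime f g)
    (ha : a * g ∈ Ideal.span ({f} : Set (MvPolynomial (Fin 3) k))) :
    a ∈ Ideal.span ({f} : Set (MvPolynomial (Fin 3) k)) := by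
  rw [Ideal.mem_span_singleton] at ha ⊢
  exact h.dvd_of_dvd_mul_right ha

/-- Let k be a field, S the polynomial ring in three variables over k with degree-d part S_d, and f, g
nonzero homogeneous polynomials of positive degrees n and m with no common non-unit factor. Then for
every d ≥ n + m the degree-d part of S/(f, g), namely S_d modulo its intersection with the ideal (f,
g), has dimension n·m over k. -/
theorem result (k : Type u) [Field k] (n m d : ℕ)
    (f g : MvPolynomial (Fin 3) k) (hf : f.IsHomogeneous n) (hg : g.IsHomogeneous m)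
    (hn : 0 < n) (hm : 0 < m) (hf0 : f ≠ 0) (hg0 : g ≠ 0) (hfg : IsRelPrime f g) (hd : n + m ≤ d) :
    Module.finrank k
        (↥(MvPolynomial.homogeneousSubmodule (Fin 3) k d) ⧸
          Submodule.comap (MvPolynomial.homogeneousSubmodule (Fin 3) k d).subtype
            ((Ideal.span ({f, g} : Set (MvPolynomial (Fin 3) k))).restrictScalars k)) = n * m := by
  classical
  letI := MvPolynomial.gradedAlgebra (σ := Fin 3) (R := k)
  let J : Ideal (MvPolynomial (Fin (2 + 1)) k) := Ideal.span {f}
  have hbot : (⊥ : Ideal (MvPolynomial (Fin (2 + 1)) k)).IsHomogeneous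
      (MvPolynomial.homogeneousSubmodule (Fin (2 + 1)) k) := Ideal.IsHomogeneous.bot _
  have hidim0 : ∀ j, Groth.Agent.H15.BezoutHilbert.idim (⊥ : Ideal (MvPolynomial (Fin (2 + 1)) k)) j = 0 := by
    intro j
    rw [Groth.Agent.H15.BezoutHilbert.idim, Submodule.restrictScalars_bot, bot_inf_eq, finrank_bot]
  have h1 : ∀ j, n ≤ j → Groth.Agent.H15.BezoutHilbert.idim J j = (j - n + 2).choose 2 := by
    intro j hj
    have := Groth.Agent.H15.BezoutHilbert.idim_step hbot hf
      (fun a ha => by rw [Ideal.mem_bot] at ha ⊢; exact (mul_eq_zero.mp ha).resolve_right hf0) hj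
    rwa [hidim0, hidim0, zero_add, add_zero, bot_sup_eq] at this
  have hJ : J.IsHomogeneous (MvPolynomial.homogeneousSubmodule (Fin (2 + 1)) k) :=
    Ideal.homogeneous_span _ _ fun x hx => ⟨n, by rw [Set.mem_singleton_iff] at hx; subst hx; exact hf⟩
  have hreg : ∀ a : MvPolynomial (Fin (2 + 1)) k, a * g ∈ Ideal.span ({f} : Set (MvPolynomial (Fin (2 + 1)) k)) →
      a ∈ Ideal.span ({f} : Set (MvPolynomial (Fin (2 + 1)) k)) := fun a ha =>
    mem_span_of_mul_mem hfg ha
  have h2 := Groth.Agent.H15.BezoutHilbert.idim_step (J := Ideal.span {f}) (f := g) (d := m) (m := d) hJ hg hreg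
    (Nat.le_trans (Nat.le_add_left m n) hd)
  rw [h1 (d - m) (by omega), h1 d (by omega)] at h2
  haveI : Module.Finite k ↥(MvPolynomial.homogeneousSubmodule (Fin 3) k d) :=
    Module.Finite.iff_fg.2 (MvPolynomial.homogeneousSubmodule_fg _ _ d)
  have hq := Submodule.finrank_quotient_add_finrank
    (Submodule.comap (MvPolynomial.homogeneousSubmodule (Fin 3) k d).subtype
      ((Ideal.span ({f, g} : Set (MvPolynomial (Fin 3) k))).restrictScalars k))
  have hinf : Module.finrank k ↥(Submodule.comap (MvPolynomial.homogeneousSubmodule (Fin 3) k d).subtype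
      ((Ideal.span ({f, g} : Set (MvPolynomial (Fin 3) k))).restrictScalars k)) =
      Groth.Agent.H15.BezoutHilbert.idim (J ⊔ Ideal.span {g}) d := by
    rw [Groth.Agent.H15.BezoutHilbert.idim, show J ⊔ Ideal.span {g} = Ideal.span {f, g} from
      (Ideal.span_insert f {g}).symm]
    refine ((Submodule.equivMapOfInjective _ (MvPolynomial.homogeneousSubmodule (Fin 3) k d).injective_subtype _).trans
      (LinearEquiv.ofEq _ _ ?_)).finrank_eq
    rw [Submodule.map_comap_eq, Submodule.range_subtype, inf_comm]
  rw [hinf, Groth.Agent.H15.BezoutHilbert.finrank_homogeneous (n := 2)] at hq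
  have hC : ∀ x : ℕ, 2 * ((x + 2).choose 2 : ℤ) = (x + 2) * (x + 1) := by
    intro x
    have h : 2 * (x + 2).choose 2 = (x + 2) * (x + 1) := by
      induction x with
      | zero => rfl
      | succ x ih => rw [Nat.choose_succ_succ', Nat.choose_one_right]; nlinarith
    exact_mod_cast h
  obtain ⟨a, rfl⟩ : ∃ a, d = a + n + m := ⟨d - n - m, by omega⟩
  rw [show a + n + m - m - n = a by omega, show a + n + m - n = a + m by omega,
    show a + n + m - m = a + n by omega] at h2
  zify at h2 hq ⊢
  have e1 := hC (a + n + m)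
  have e2 := hC (a + m)
  have e3 := hC (a + n)
  have e4 := hC a
  push_cast at e1 e2 e3 e4
  nlinarith

end Groth.Agent.S10824
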