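import Groth.Statements.S10825
import Groth.Agent.Lib.Dim.Integral
import Mathlib.RingTheory.Norm.Transitivity
import Mathlib.FieldTheory.Minpoly.IsIntegrallyClosed
import Mathlib.RingTheory.AdjoinRoot
import Mathlib.RingTheory.Ideal.GoingUp
import Mathlib.RingTheory.Spectrum.Prime.Topology
import Mathlib.Topology.KrullDimension

set_option autoImplicit false
universe u
open Topology
open CAlg

namespace Groth.Agent.S10825

/-- Let A → B be an injective integral homomorphism of integral domains with fraction fields K and L, L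
a finite extension of K, and A integrally closed. For b in B the norm N_{L/K}(b) lies in A; if a
denotes this element of A, then the image of the closed set V(b) of Spec B under Spec B → Spec A is
exactly V(a), and V(b) and V(a) have the same dimension. -/
theorem result
    (A B K L : Type u) [CommRing A] [IsDomain A] [CommRing B] [IsDomain B] [Algebra A B]
    [Field K] [Field L] [Algebra A K] [IsFractionRing A K] [Algebra B L] [IsFractionRing B L]
    [Algebra A L] [Algebra K L] [IsScalarTower A B L] [IsScalarTower A K L]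
    [FiniteDimensional K L] [Algebra.IsIntegral A B] [IsIntegrallyClosed A]
    (hinj : Function.Injective (algebraMap A B))
    (b : B) (a : A) (ha : algebraMap A K a = Algebra.norm K (algebraMap B L b)) :
    PrimeSpectrum.comap (algebraMap A B) '' PrimeSpectrum.zeroLocus ({b} : Set B) =
        PrimeSpectrum.zeroLocus ({a} : Set A) ∧
      topologicalKrullDim ↥(PrimeSpectrum.zeroLocus ({b} : Set B)) =
        topologicalKrullDim ↥(PrimeSpectrum.zeroLocus ({a} : Set A)) := by
  classical
  haveI : FaithfulSMul A B := (faithfulSMul_iff_algebraMap_injective A B).2 hinj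
  have hbint : IsIntegral A b := Algebra.IsIntegral.isIntegral b
  let f := minpoly A b
  have hf : f.Monic := minpoly.monic hbint
  let c₀ := f.coeff 0
  have hBL : Function.Injective (algebraMap B L) := IsFractionRing.injective B L
  have hAK : Function.Injective (algebraMap A K) := IsFractionRing.injective A K
  -- `c₀ ∈ bB`
  have hc₀ : algebraMap A B c₀ ∈ Ideal.span {b} := by
    have h0 : Polynomial.aeval b f = 0 := minpoly.aeval A b
    rw [← Polynomial.X_mul_divX_add f, map_add, map_mul, Polynomial.aeval_X, Polynomial.aeval_C] at h0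
    rw [eq_neg_of_add_eq_zero_right h0]
    exact neg_mem (Ideal.mul_mem_right _ _ (Ideal.mem_span_singleton_self b))
  -- `a` is a unit times a positive power of `c₀`
  obtain ⟨m, hm, e, hea⟩ : ∃ m : ℕ, m ≠ 0 ∧ ∃ e : Aˣ, a = e * c₀ ^ m := by
    have hx : IsIntegral A (algebraMap B L b) := hbint.map (IsScalarTower.toAlgHom A B L)
    have hxK : IsIntegral K (algebraMap B L b) := hx.tower_top
    have hmin : minpoly K (algebraMap B L b) = f.map (algebraMap A K) := by
      rw [minpoly.isIntegrallyClosed_eq_field_fractions' K hx]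
      congr 1
      exact minpoly.algebraMap_eq hBL b
    let m := Module.finrank (IntermediateField.adjoin K {algebraMap B L b}) L
    have hgen : Algebra.norm K (IntermediateField.AdjoinSimple.gen K (algebraMap B L b)) =
        (-1) ^ f.natDegree * algebraMap A K c₀ := by
      rw [← IntermediateField.adjoin.powerBasis_gen hxK, Algebra.PowerBasis.norm_gen_eq_coeff_zero_minpoly,
        IntermediateField.adjoin.powerBasis_gen hxK, IntermediateField.minpoly_gen,
        IntermediateField.adjoin.powerBasis_dim, hmin, hf.natDegree_map, Polynomial.coeff_map]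
    refine ⟨m, Module.finrank_pos.ne', (-1) ^ (f.natDegree * m), hAK ?_⟩
    rw [ha, Algebra.norm_eq_norm_adjoin K (algebraMap B L b), hgen, Units.val_pow_eq_pow_val,
      Units.val_neg, Units.val_one, map_mul, map_pow, map_pow, map_neg, map_one, mul_pow, pow_mul]
  have hac : ∀ p : PrimeSpectrum A, a ∈ p.asIdeal ↔ c₀ ∈ p.asIdeal := by
    intro p
    rw [hea, Ideal.unit_mul_mem_iff_mem _ e.isUnit, p.isPrime.pow_mem_iff_mem m (Nat.pos_of_ne_zero hm)]
  let I : Ideal A := (Ideal.span {b}).comap (algebraMap A B)
  have himg : PrimeSpectrum.comap (algebraMap A B) '' PrimeSpectrum.zeroLocus ({b} : Set B) =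
      PrimeSpectrum.zeroLocus ({a} : Set A) := by
    ext p
    simp only [Set.mem_image, PrimeSpectrum.mem_zeroLocus, Set.singleton_subset_iff, SetLike.mem_coe]
    constructor
    · rintro ⟨P, hP, rfl⟩
      rw [hac]
      exact (Ideal.span_le.2 (Set.singleton_subset_iff.2 hP)) hc₀
    · intro hp
      rw [hac] at hp
      let φ : AdjoinRoot f →ₐ[A] B := AdjoinRoot.liftAlgHom f (Algebra.ofId A B) b (minpoly.aeval A b)
      have hφ : Function.Injective φ := by
        rw [injective_iff_map_eq_zero]
        intro z hz
        obtain ⟨q, rfl⟩ := AdjoinRoot.mk_surjective z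
        rw [AdjoinRoot.mk_eq_zero, ← minpoly.isIntegrallyClosed_dvd_iff hbint]
        simpa [φ, Polynomial.aeval_def] using hz
      let ev : AdjoinRoot f →+* A ⧸ p.asIdeal :=
        AdjoinRoot.lift (Ideal.Quotient.mk p.asIdeal) 0 (by
          rw [Polynomial.eval₂_at_zero]
          exact Ideal.Quotient.eq_zero_iff_mem.2 hp)
      letI : Algebra (AdjoinRoot f) B := φ.toRingHom.toAlgebra
      haveI : IsScalarTower A (AdjoinRoot f) B := IsScalarTower.of_algebraMap_eq fun r =>
        (φ.commutes r).symm
      haveI : Algebra.IsIntegral (AdjoinRoot f) B := Algebra.IsIntegral.tower_top A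
      haveI : (RingHom.ker ev).IsPrime := RingHom.ker_isPrime ev
      obtain ⟨Q, -, hQp, hQ⟩ := Ideal.exists_ideal_over_prime_of_isIntegral (RingHom.ker ev) (⊥ : Ideal B)
        (fun z hz => by
          rw [Ideal.mem_comap, Ideal.mem_bot] at hz
          rw [hφ (hz.trans (map_zero φ).symm)]
          exact zero_mem _)
      refine ⟨⟨Q, hQp⟩, ?_, PrimeSpectrum.ext (Ideal.ext fun r => ?_)⟩
      · have h1 : AdjoinRoot.root f ∈ Q.comap (algebraMap (AdjoinRoot f) B) := by
          rw [hQ, RingHom.mem_ker]; exact AdjoinRoot.lift_root _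
        have h2 : φ (AdjoinRoot.root f) = b := AdjoinRoot.liftAlgHom_root _ _ _ _
        exact h2 ▸ h1
      · show algebraMap A B r ∈ Q ↔ r ∈ p.asIdeal
        rw [IsScalarTower.algebraMap_apply A (AdjoinRoot f) B, ← Ideal.mem_comap, hQ, RingHom.mem_ker,
          ← Ideal.Quotient.eq_zero_iff_mem]
        exact (AdjoinRoot.lift_of _).congr_left
  refine ⟨himg, ?_⟩
  have hI : PrimeSpectrum.zeroLocus ({a} : Set A) = PrimeSpectrum.zeroLocus (I : Set A) := by
    refine le_antisymm ?_ ?_
    · rw [← himg]
      rintro _ ⟨P, hP, rfl⟩ r hr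
      exact (Ideal.span_le.2 (Set.singleton_subset_iff.2 (hP (Set.mem_singleton b)))) hr
    · intro p hp
      rw [PrimeSpectrum.mem_zeroLocus, Set.singleton_subset_iff, SetLike.mem_coe, hac]
      exact hp hc₀
  have hdimV : ∀ {R : Type u} [CommRing R] (J : Ideal R),
      topologicalKrullDim (PrimeSpectrum.zeroLocus (J : Set R)) = ringKrullDim (R ⧸ J) := by
    intro R _ J
    have hemb := (PrimeSpectrum.isClosedEmbedding_comap_of_surjective (R ⧸ J) (Ideal.Quotient.mk J)
      Ideal.Quotient.mk_surjective).isEmbedding
    have hrange : Set.range (PrimeSpectrum.comap (Ideal.Quotient.mk J)) =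
        PrimeSpectrum.zeroLocus (J : Set R) := by
      rw [range_comap_of_surjective _ _ Ideal.Quotient.mk_surjective, Ideal.mk_ker]
    rw [← hrange, ← IsHomeomorph.topologicalKrullDim_eq _ hemb.toHomeomorph.isHomeomorph]
    exact PrimeSpectrum.topologicalKrullDim_eq_ringKrullDim _
  rw [hI, show PrimeSpectrum.zeroLocus ({b} : Set B) = PrimeSpectrum.zeroLocus (Ideal.span {b} : Ideal B) from
    (PrimeSpectrum.zeroLocus_span _).symm, hdimV, hdimV]
  haveI : FaithfulSMul (A ⧸ I) (B ⧸ Ideal.span {b}) :=
    (faithfulSMul_iff_algebraMap_injective _ _).2 Ideal.quotientMap_injective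
  exact Groth.Agent.Lib.Dim.Integral.ringKrullDim_eq_of_isIntegral

end Groth.Agent.S10825
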