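import Groth.Statements.S10826
import Mathlib.RingTheory.MvPowerSeries.Substitution
import Mathlib.LinearAlgebra.Matrix.NonsingularInverse

set_option autoImplicit false
open CAlg

namespace Groth.Agent.S10826

open MvPowerSeries

variable {σ : Type} [Fintype σ] {R : Type*} [CommRing R]

/-- All coefficients in degrees below `k` vanish. -/
def V (k : ℕ) (f : MvPowerSeries σ R) : Prop := ∀ d : σ →₀ ℕ, d.degree < k → coeff d f = 0

lemma V.add {k} {f g : MvPowerSeries σ R} (hf : V k f) (hg : V k g) : V k (f + g) := by
  intro d hd; simp [hf d hd, hg d hd]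

lemma V.sum {k} {ι : Type*} (s : Finset ι) {f : ι → MvPowerSeries σ R} (hf : ∀ i ∈ s, V k (f i)) :
    V k (∑ i ∈ s, f i) := by
  intro d hd; simp only [map_sum]; exact Finset.sum_eq_zero fun i hi => hf i hi d hd

lemma V.mul {k l} {f g : MvPowerSeries σ R} (hf : V k f) (hg : V l g) : V (k + l) (f * g) := by
  classical
  intro d hd
  rw [coeff_mul]
  refine Finset.sum_eq_zero fun x hx => ?_
  rw [← Finset.mem_antidiagonal.mp hx, map_add] at hd
  rcases lt_or_ge x.1.degree k with h | h
  · rw [hf _ h, zero_mul]
  · rw [hg _ (by omega), mul_zero]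

lemma V.mono {k l} {f : MvPowerSeries σ R} (h : k ≤ l) (hf : V l f) : V k f :=
  fun d hd => hf d (by omega)

lemma V_zero (f : MvPowerSeries σ R) : V 0 f := fun d hd => absurd hd (Nat.not_lt_zero _)

lemma V_one_iff (f : MvPowerSeries σ R) : V 1 f ↔ constantCoeff f = 0 := by
  refine ⟨fun h => by simpa using h 0 (by simp), fun h d hd => ?_⟩
  rw [Nat.lt_one_iff, Finsupp.degree_eq_zero_iff] at hd
  simpa [hd] using h

lemma decomp {k : ℕ} (f : MvPowerSeries σ R) (hf : V (k + 1) f) :
    ∃ g : σ → MvPowerSeries σ R, f = ∑ i, X i * g i ∧ ∀ i, V k (g i) := by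
  classical
  rcases isEmpty_or_nonempty σ with h | h
  · refine ⟨fun _ => 0, ?_, fun i => isEmptyElim i⟩
    ext n
    simp [hf n (by simp [Subsingleton.elim n 0])]
  let ch : (σ →₀ ℕ) → σ := fun n =>
    if h : ∃ i, n i ≠ 0 then h.choose else Classical.arbitrary σ
  let g : σ → MvPowerSeries σ R := fun i (m : σ →₀ ℕ) =>
    if ch (m + Finsupp.single i 1) = i then coeff (m + Finsupp.single i 1) f else 0
  refine ⟨g, ?_, fun i d hd => ?_⟩
  · ext n
    rw [map_sum]
    simp only [X, coeff_monomial_mul, one_mul]
    rcases eq_or_ne n 0 with rfl | hn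
    · simpa using hf 0 (by simp)
    · have hex : ∃ i, n i ≠ 0 := by
        by_contra h
        push_neg at h
        exact hn (Finsupp.ext h)
      have hch : n (ch n) ≠ 0 := by
        simp only [ch, dif_pos hex]; exact hex.choose_spec
      have hle : Finsupp.single (ch n) 1 ≤ n := by
        rw [Finsupp.single_le_iff]; omega
      rw [Finset.sum_eq_single (ch n)]
      · rw [if_pos hle]
        show coeff n f = g (ch n) (n - Finsupp.single (ch n) 1)
        simp only [g, tsub_add_cancel_of_le hle, if_true]
      · intro i _ hi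
        split_ifs with hle'
        · show g i (n - Finsupp.single i 1) = 0
          simp only [g, tsub_add_cancel_of_le hle', if_neg (Ne.symm hi)]
        · rfl
      · simp
  · show g i d = 0
    simp only [g]
    rw [hf (d + Finsupp.single i 1) (by rw [map_add, Finsupp.degree_single]; omega), ite_self]

lemma V_hom (ψ : MvPowerSeries σ R →ₐ[R] MvPowerSeries σ R) (h0 : ∀ i, V 1 (ψ (X i))) :
    ∀ k f, V k f → V k (ψ f) := by
  intro k
  induction k with
  | zero => exact fun f _ => V_zero _
  | succ k ih =>
    intro f hf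
    obtain ⟨g, rfl, hg⟩ := decomp f hf
    rw [map_sum]
    refine V.sum _ fun i _ => ?_
    rw [map_mul, add_comm k 1]
    exact (h0 i).mul (ih _ (hg i))

lemma V_near (ψ : MvPowerSeries σ R →ₐ[R] MvPowerSeries σ R) (h : ∀ i, V 2 (ψ (X i) - X i)) :
    ∀ k f, V k f → V (k + 1) (ψ f - f) := by
  have h0 : ∀ i, V 1 (ψ (X i)) := fun i => by
    have : ψ (X i) = (ψ (X i) - X i) + X i := (sub_add_cancel _ _).symm
    rw [this]
    exact ((h i).mono (by omega)).add ((V_one_iff _).mpr (constantCoeff_X i))
  intro k
  induction k with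
  | zero =>
    intro f _
    have hf : V 1 (f - algebraMap R (MvPowerSeries σ R) (constantCoeff f)) := by
      rw [V_one_iff, map_sub, MvPowerSeries.algebraMap_apply, Algebra.algebraMap_self, RingHom.id_apply,
        constantCoeff_C, sub_self]
    have := V_hom ψ h0 1 _ hf
    rw [map_sub, AlgHom.commutes] at this
    intro d hd
    have e1 := this d hd
    have e2 := hf d hd
    rw [map_sub] at e1 e2 ⊢
    rw [sub_eq_zero] at *
    rw [e1, e2]
  | succ k ih =>
    intro f hf
    obtain ⟨g, rfl, hg⟩ := decomp f hf
    rw [map_sum, ← Finset.sum_sub_distrib]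
    refine V.sum _ fun i _ => ?_
    have : ψ (X i * g i) - X i * g i = (ψ (X i) - X i) * ψ (g i) + X i * (ψ (g i) - g i) := by
      rw [map_mul]; ring
    rw [this]
    refine V.add ?_ ?_
    · rw [show k + 1 + 1 = 2 + k by omega]
      exact (h i).mul (V_hom ψ h0 k _ (hg i))
    · rw [show k + 1 + 1 = 1 + (k + 1) by omega]
      exact ((V_one_iff _).mpr (constantCoeff_X i)).mul (ih _ (hg i))

lemma bijective_of_near (ψ : MvPowerSeries σ R →ₐ[R] MvPowerSeries σ R)
    (h : ∀ i, V 2 (ψ (X i) - X i)) : Function.Bijective ψ := by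
  have hnear := V_near ψ h
  have h0 : ∀ i, V 1 (ψ (X i)) := fun i => by
    have : ψ (X i) = (ψ (X i) - X i) + X i := (sub_add_cancel _ _).symm
    rw [this]
    exact ((h i).mono (by omega)).add ((V_one_iff _).mpr (constantCoeff_X i))
  constructor
  · rw [injective_iff_map_eq_zero]
    intro f hf
    have hall : ∀ k, V k f := by
      intro k
      induction k with
      | zero => exact V_zero f
      | succ k ih =>
        intro d hd
        have := hnear k f ih d hd
        simpa [hf] using this
    ext d
    simpa using hall (d.degree + 1) d (by omega)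
  · intro g
    let it : ℕ → MvPowerSeries σ R := fun j => Nat.rec g (fun _ f => f + (g - ψ f)) j
    have hit : ∀ j, V j (g - ψ (it j)) := by
      intro j
      induction j with
      | zero => exact V_zero _
      | succ j ih =>
        have e : g - ψ (it (j + 1)) = -(ψ (g - ψ (it j)) - (g - ψ (it j))) := by
          show g - ψ (it j + (g - ψ (it j))) = _
          rw [map_add]; ring
        rw [e]
        intro d hd
        rw [map_neg, hnear j _ ih d hd, neg_zero]
    have hst : ∀ j l, j ≤ l → V j (it l - it j) := by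
      intro j l hjl
      induction l, hjl using Nat.le_induction with
      | base => intro d hd; simp
      | succ l hjl ih =>
        have e : it (l + 1) - it j = (it l - it j) + (g - ψ (it l)) := by
          show it l + (g - ψ (it l)) - it j = _
          ring
        rw [e]
        exact ih.add ((hit l).mono hjl)
    let F : MvPowerSeries σ R := fun d => coeff d (it (d.degree + 1))
    refine ⟨F, ?_⟩
    ext d
    set j := d.degree + 1 with hj
    have hF : V j (F - it j) := by
      intro e he
      rw [map_sub, sub_eq_zero]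
      show coeff e (it (e.degree + 1)) = coeff e (it j)
      have := hst (e.degree + 1) j (by omega) e (by omega)
      rw [map_sub, sub_eq_zero] at this
      exact this.symm
    have h1 := V_hom ψ h0 j _ hF d (by omega)
    have h2 := hit j d (by omega)
    rw [map_sub, map_sub, sub_eq_zero] at h1
    rw [map_sub, sub_eq_zero] at h2
    rw [h1, h2]

lemma V2_sub_linear (f : MvPowerSeries σ R) (hf : constantCoeff f = 0) :
    V 2 (f - ∑ j, algebraMap R (MvPowerSeries σ R) (coeff (Finsupp.single j 1) f) * X j) := by
  classical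
  intro d hd
  simp only [map_sub, map_sum, MvPowerSeries.algebraMap_apply, Algebra.algebraMap_self,
    RingHom.id_apply, coeff_C_mul, coeff_X, mul_ite, mul_one, mul_zero]
  rcases eq_or_ne d 0 with rfl | hd0
  · simp [hf, Finsupp.single_eq_zero, eq_comm (a := (0 : σ →₀ ℕ))]
  · obtain ⟨i, hi⟩ : ∃ i, d = Finsupp.single i 1 := by
      obtain ⟨i, hi⟩ := Finsupp.support_nonempty_iff.mpr hd0
      refine ⟨i, ?_⟩
      have h1 : d i ≠ 0 := Finsupp.mem_support_iff.mp hi
      have h2 : Finsupp.single i 1 + (d - Finsupp.single i 1) = d :=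
        add_tsub_cancel_of_le (by rw [Finsupp.single_le_iff]; omega)
      have h3 := congrArg Finsupp.degree h2
      rw [map_add, Finsupp.degree_single] at h3
      have h4 : d - Finsupp.single i 1 = 0 := by rw [← Finsupp.degree_eq_zero_iff]; omega
      rw [h4, add_zero] at h2
      exact h2.symm
    subst hi
    rw [Finset.sum_eq_single i (fun j _ hj => if_neg fun h => hj ((Finsupp.single_left_injective one_ne_zero) h).symm)
      (by simp), if_pos rfl, sub_self]

lemma bijective_of_jacobian [DecidableEq σ] (φ : MvPowerSeries σ R →ₐ[R] MvPowerSeries σ R)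
    (h0 : ∀ i, constantCoeff (φ (X i)) = 0)
    (hJ : IsUnit (Matrix.det (Matrix.of fun i j : σ => coeff (Finsupp.single j 1) (φ (X i))))) :
    Function.Bijective φ := by
  classical
  set J : Matrix σ σ R := Matrix.of fun i j : σ => coeff (Finsupp.single j 1) (φ (X i)) with hJdef
  let lin : Matrix σ σ R → σ → MvPowerSeries σ R := fun M i =>
    ∑ j, algebraMap R (MvPowerSeries σ R) (M i j) * X j
  have hS : ∀ M, HasSubst (lin M) := fun M => hasSubst_of_constantCoeff_zero fun i => by
    simp [lin]
  let L : Matrix σ σ R → (MvPowerSeries σ R →ₐ[R] MvPowerSeries σ R) := fun M => substAlgHom (hS M)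
  have hLX : ∀ M i, L M (X i) = lin M i := fun M i => substAlgHom_X (hS M) i
  have hcomp : ∀ (χ : MvPowerSeries σ R →ₐ[R] MvPowerSeries σ R) (N M : Matrix σ σ R),
      (∀ j, V 2 (χ (X j) - lin N j)) → ∀ i, V 2 ((χ.comp (L M)) (X i) - lin (M * N) i) := by
    intro χ N M hχ i
    have e : (χ.comp (L M)) (X i) - lin (M * N) i =
        ∑ j, algebraMap R (MvPowerSeries σ R) (M i j) * (χ (X j) - lin N j) := by
      rw [AlgHom.comp_apply, hLX]
      simp only [lin, map_sum, map_mul, AlgHom.commutes, mul_sub, Finset.sum_sub_distrib,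
        Matrix.mul_apply, Finset.sum_mul, Finset.mul_sum, mul_assoc]
      rw [Finset.sum_comm]
    rw [e]
    exact V.sum _ fun j _ => by simpa using (V_zero _).mul (hχ j)
  have h1 : ∀ i, lin 1 i = X i := by
    intro i
    simp [lin, Matrix.one_apply, apply_ite (algebraMap R (MvPowerSeries σ R)), ite_mul]
  have hφ : ∀ j, V 2 (φ (X j) - lin J j) := fun j => V2_sub_linear _ (h0 j)
  have hLn : ∀ M j, V 2 (L M (X j) - lin M j) := fun M j => by
    rw [hLX, sub_self]; intro d _; simp
  have inv1 : J⁻¹ * J = 1 := Matrix.nonsing_inv_mul J hJ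
  have inv2 : J * J⁻¹ = 1 := Matrix.mul_nonsing_inv J hJ
  have b1 := bijective_of_near (φ.comp (L J⁻¹)) fun i => by
    have := hcomp φ J J⁻¹ hφ i; rwa [inv1, h1] at this
  have b2 := bijective_of_near ((L J).comp (L J⁻¹)) fun i => by
    have := hcomp (L J) J J⁻¹ (hLn J) i; rwa [inv1, h1] at this
  have b3 := bijective_of_near ((L J⁻¹).comp (L J)) fun i => by
    have := hcomp (L J⁻¹) J⁻¹ J (hLn _) i; rwa [inv2, h1] at this
  rw [AlgHom.coe_comp] at b1 b2 b3
  have hL : Function.Bijective (L J⁻¹) := ⟨b2.1.of_comp, b3.2.of_comp⟩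
  exact ⟨b1.1.of_comp_right hL.2, b1.2.of_comp⟩


/-- Let R be a commutative ring, n ≥ 1, and φ an R-algebra homomorphism from the power series ring in n
variables over R to itself that sends each variable to a power series without constant term. If the
Jacobian matrix at the origin, whose (i, j) entry is the coefficient of X_j in φ(X_i), has
invertible determinant in R, then φ is an isomorphism (bijective). -/
theorem result
    (R : Type*) [CommRing R] (n : ℕ) (hn : 1 ≤ n)
    (φ : MvPowerSeries (Fin n) R →ₐ[R] MvPowerSeries (Fin n) R)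
    (h0 : ∀ i, MvPowerSeries.constantCoeff (φ (MvPowerSeries.X i)) = 0)
    (hJ : IsUnit (Matrix.det (Matrix.of fun i j : Fin n =>
      MvPowerSeries.coeff (Finsupp.single j 1) (φ (MvPowerSeries.X i))))) :
    Function.Bijective φ := by
  exact bijective_of_jacobian φ h0 hJ

end Groth.Agent.S10826
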