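import Groth.Statements.S10830
import Groth.Agent.Lib.TopDim.Basic

set_option autoImplicit false
universe u
open Topology TopologicalSpace
open TopDim

namespace Groth.Agent.S10830

/-- In an irreducible topological space X of finite Krull dimension, every proper closed subset Y has
strictly smaller Krull dimension than X. -/
theorem result (X : Type u) [TopologicalSpace X]
    [IrreducibleSpace X] (hfin : topologicalKrullDim X ≠ ⊤) (Y : Set X) (hY : IsClosed Y) (hYX : Y ≠ Set.univ) :
    topologicalKrullDim ↥Y < topologicalKrullDim X := by
  open TopologicalSpace Order in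
  rcases isEmpty_or_nonempty (IrreducibleCloseds Y) with hemp | hne
  · have hbot : topologicalKrullDim ↥Y = ⊥ := Order.krullDim_eq_bot
    rw [hbot]
    exact lt_of_lt_of_le (WithBot.bot_lt_coe 0) Groth.Agent.Lib.TopDim.Basic.topologicalKrullDim_nonneg
  · let top : IrreducibleCloseds X :=
      ⟨Set.univ, IrreducibleSpace.isIrreducible_univ X, isClosed_univ⟩
    have key : ∀ s : LTSeries (IrreducibleCloseds Y),
        ((s.length + 1 : ℕ) : WithBot ℕ∞) ≤ topologicalKrullDim X := fun s ↦ by
      let t := s.map (IrreducibleCloseds.map (Subtype.val : Y → X) continuous_subtype_val)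
        (IrreducibleCloseds.map_strictMono_of_isInducing Topology.IsInducing.subtypeVal)
      have hlast : t.last < top := by
        refine lt_of_le_of_ne (Set.subset_univ (t.last : Set X) : t.last ≤ top) fun h ↦ hYX ?_
        have h' : (t.last : Set X) ⊆ Y := by
          rw [LTSeries.last_map]
          exact closure_minimal (Subtype.coe_image_subset Y _) hY
        rw [h] at h'
        exact Set.univ_subset_iff.mp h'
      exact LTSeries.length_le_krullDim (t.snoc top hlast)
    obtain ⟨x⟩ := hne
    cases hX : topologicalKrullDim X with
    | bot => exact absurd (hX ▸ key (RelSeries.singleton _ x)) (by simp)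
    | coe a =>
      cases a with
      | top => exact absurd hX hfin
      | coe n =>
        have hb : topologicalKrullDim ↥Y ≤ ((n - 1 : ℕ) : WithBot ℕ∞) := iSup_le fun s ↦ by
          have := hX ▸ key s
          have h1 : s.length + 1 ≤ n := by exact_mod_cast this
          exact_mod_cast (show s.length ≤ n - 1 by omega)
        have h0 : 1 ≤ n := by
          have := hX ▸ key (RelSeries.singleton _ x)
          exact_mod_cast this
        refine lt_of_le_of_lt hb (WithBot.coe_lt_coe.mpr ?_)
        exact Nat.cast_lt.mpr (show n - 1 < n by omega)

end Groth.Agent.S10830
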