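import Groth.Statements.S10832
import Mathlib

set_option autoImplicit false
universe u
open CategoryTheory AlgebraicGeometry Topology
open Variety

namespace Groth.Agent.S10832

open TopologicalSpace Opposite in
lemma germ_bijective (X : Scheme.{u}) [DiscreteTopology X] :
    Function.Bijective (fun s : Γ(X, ⊤) => fun x : X => X.presheaf.germ ⊤ x trivial s) := by
  constructor
  · intro s t h
    exact TopCat.Presheaf.section_ext X.sheaf ⊤ s t fun x hx => congrFun h x
  · intro v
    let U : X → X.Opens := fun x => ⟨{x}, isOpen_discrete _⟩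
    have hex : ∀ x : X, ∃ s : Γ(X, U x), X.presheaf.germ (U x) x rfl s = v x := fun x => by
      obtain ⟨W, hx, s, hs⟩ := X.presheaf.exists_germ_eq (v x)
      have hle : U x ≤ W := fun y (hy : y = x) => hy ▸ hx
      refine ⟨X.presheaf.map (homOfLE hle).op s, ?_⟩
      exact (TopCat.Presheaf.germ_res_apply X.presheaf (homOfLE hle) x rfl s).trans hs
    choose s hs using hex
    have hcomp : TopCat.Presheaf.IsCompatible X.presheaf U s := by
      intro x y
      rcases eq_or_ne x y with rfl | hne
      · rfl
      · apply TopCat.Presheaf.section_ext X.sheaf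
        intro z hz
        exact absurd (hz.1.symm.trans hz.2) hne
    have hcov : (⊤ : X.Opens) ≤ iSup U := fun x _ => Opens.mem_iSup.2 ⟨x, rfl⟩
    obtain ⟨g, hg, -⟩ := X.sheaf.existsUnique_gluing' U ⊤ (fun x => homOfLE le_top) hcov s hcomp
    refine ⟨g, funext fun x => ?_⟩
    change X.presheaf.germ ⊤ x trivial g = v x
    rw [← hs, ← hg x]
    exact (TopCat.Presheaf.germ_res_apply X.presheaf (homOfLE le_top) x rfl g).symm

/-- For a nonempty scheme X of finite type over a field k the following are equivalent: X has Krull
dimension 0; X is affine with ring of global sections finite over k and equal to the product of all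
its local rings via the germ maps; the underlying space of X is discrete; the underlying space of X
is finite. -/
theorem result (k : Type u) [Field k] {X : Scheme.{u}} [Nonempty X]
    (f : X ⟶ Spec (CommRingCat.of k)) [LocallyOfFiniteType f] [QuasiCompact f] :
    [topologicalKrullDim ↥X = 0,
      IsAffine X ∧ f.appTop.hom.Finite ∧
        Function.Bijective (fun s : Γ(X, ⊤) => fun x : X => X.presheaf.germ ⊤ x trivial s),
      DiscreteTopology ↥X,
      Finite ↥X].TFAE := by
  have : JacobsonSpace ↥(Spec (CommRingCat.of k)) := inferInstance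
  have : JacobsonSpace ↥X := LocallyOfFiniteType.jacobsonSpace f
  have : IsLocallyNoetherian X := LocallyOfFiniteType.isLocallyNoetherian f
  have : CompactSpace ↥X := QuasiCompact.compactSpace_of_compactSpace f
  tfae_have 1 → 3 := fun h => by
    have := IsLocallyArtinian.of_topologicalKrullDim_le_zero (X := X) h.le
    infer_instance
  tfae_have 3 → 4 := fun h => finite_of_compact_of_discrete
  tfae_have 4 → 3 := fun h => inferInstance
  tfae_have 3 → 1 := fun h => le_antisymm (topologicalKrullDim_zero_of_discreteTopology _)
    (Order.krullDim_nonneg_iff.2 ⟨⟨closure {Classical.arbitrary ↥X}, isIrreducible_singleton.closure, isClosed_closure⟩⟩)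
  tfae_have 3 → 2 := fun h => by
    have : Finite ↥X := finite_of_compact_of_discrete
    have : IsAffine X := inferInstance
    have := IsLocallyArtinian.of_isLocallyNoetherian_of_discreteTopology (X := X)
    refine ⟨inferInstance, ?_, germ_bijective X⟩
    have hft : f.appTop.hom.FiniteType := by
      have h := f.finiteType_appLE (isAffineOpen_top _) (isAffineOpen_top X) (V := ⊤) (U := ⊤) le_rfl
      have he : f.appLE ⊤ ⊤ le_rfl = f.appTop := Scheme.Hom.appLE_eq_app f
      rwa [he] at h
    let φ : k →+* Γ(X, ⊤) := f.appTop.hom.comp (Scheme.ΓSpecIso (CommRingCat.of k)).inv.hom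
    have hb : Function.Bijective (Scheme.ΓSpecIso (CommRingCat.of k)).inv.hom :=
      ConcreteCategory.bijective_of_isIso (Scheme.ΓSpecIso (CommRingCat.of k)).inv
    have hφ : φ.FiniteType := hft.comp (RingHom.FiniteType.of_surjective _ hb.2)
    algebraize [φ]
    have : IsArtinianRing Γ(X, ⊤) := inferInstance
    have : Module.Finite k Γ(X, ⊤) := (Module.finite_iff_isArtinianRing k Γ(X, ⊤)).2 inferInstance
    exact RingHom.Finite.of_comp_finite (f := (Scheme.ΓSpecIso (CommRingCat.of k)).inv.hom)
      (g := f.appTop.hom) this
  tfae_have 2 → 3 := fun ⟨hA, hfin, _⟩ => by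
    have := hA
    let φ : k →+* Γ(X, ⊤) := f.appTop.hom.comp (Scheme.ΓSpecIso (CommRingCat.of k)).inv.hom
    have hφ : φ.Finite := hfin.comp (RingHom.Finite.of_surjective _
      (ConcreteCategory.bijective_of_isIso (Scheme.ΓSpecIso (CommRingCat.of k)).inv).2)
    algebraize [φ]
    have : IsArtinianRing Γ(X, ⊤) := IsArtinianRing.of_finite k Γ(X, ⊤)
    have : DiscreteTopology ↥(Spec Γ(X, ⊤)) :=
      inferInstanceAs (DiscreteTopology (PrimeSpectrum Γ(X, ⊤)))
    exact X.isoSpec.hom.homeomorph.symm.discreteTopology
  tfae_finish

end Groth.Agent.S10832
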