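import Groth.Statements.S10834
import Groth.Agent.Lib.JacCrit.FlatRegular
import Groth.Agent.Lib.CartierDescent.Normal
import Groth.Agent.Lib.Regular.Quotient
import Mathlib.RingTheory.Localization.Integral
import Mathlib.RingTheory.SurjectiveOnStalks

set_option autoImplicit false
universe u
open CAlg

namespace Groth.Agent.S10834

open IsLocalRing

theorem isRegularLocalRing_of_isDVR {S : Type u} [CommRing S] [IsDomain S] [IsDiscreteValuationRing S] :
    IsRegularLocalRing S := by
  obtain ⟨π, hπ⟩ := IsDiscreteValuationRing.exists_irreducible S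
  refine IsRegularLocalRing.of_spanFinrank_maximalIdeal_le S ?_
  rw [IsDiscreteValuationRing.ringKrullDim_eq_one, hπ.maximalIdeal_eq]
  have : (Ideal.span {π}).spanFinrank ≤ ({π} : Set S).ncard :=
    Submodule.spanFinrank_span_le_ncard_of_finite (Set.finite_singleton _)
  rw [Set.ncard_singleton] at this
  exact_mod_cast this

theorem isDVR_of_regular {S : Type u} [CommRing S] [IsDomain S] [IsRegularLocalRing S]
    (h : ringKrullDim S = 1) : IsDiscreteValuationRing S := by
  have hf : ¬ IsField S := fun hf => by
    rw [ringKrullDim_eq_zero_of_isField hf] at h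
    exact zero_ne_one h
  have h1 : (maximalIdeal S).spanFinrank = 1 := by
    have := IsRegularLocalRing.spanFinrank_maximalIdeal (R := S)
    rw [h] at this
    exact_mod_cast this
  obtain ⟨s, hs, hspan⟩ :=
    Submodule.FG.exists_span_finset_card_eq_spanFinrank (IsNoetherian.noetherian (maximalIdeal S))
  rw [h1] at hs
  obtain ⟨π, rfl⟩ := Finset.card_eq_one.mp hs
  exact (((IsDiscreteValuationRing.TFAE S hf).out 0 4 :
    IsDiscreteValuationRing S ↔ (maximalIdeal S).IsPrincipal)).mpr
    ⟨⟨π, by rw [← hspan]; simp⟩⟩

theorem isIntegrallyClosed_of_isField {S : Type u} [CommRing S] (h : IsField S) :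
    IsIntegrallyClosed S :=
  (isIntegrallyClosed_iff (FractionRing S)).mpr fun {x} _ =>
    haveI : Nontrivial S := h.nontrivial
    (h.localization_map_bijective (Rₘ := FractionRing S) (M := nonZeroDivisors S) zero_notMem_nonZeroDivisors).surjective x

theorem normal_of_R1 {A : Type u} [CommRing A] [IsNoetherianRing A]
    (hreg : ∀ (p : Ideal A) (_ : p.IsPrime), IsRegularLocalRing (Localization.AtPrime p))
    (f : A) [(Ideal.span ({f} : Set A)).IsPrime]
    (h1 : ∀ q : PrimeSpectrum (A ⧸ Ideal.span ({f} : Set A)),
        ringKrullDim (Localization.AtPrime q.asIdeal) = 1 →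
          IsRegularLocalRing (Localization.AtPrime q.asIdeal))
    (q : Ideal (A ⧸ Ideal.span ({f} : Set A))) [q.IsPrime]
    (hd : LocCoh.depth (Localization.AtPrime q) (Localization.AtPrime q) ≤ 1) :
    IsIntegrallyClosed (Localization.AtPrime q) := by
  let p := q.comap (Ideal.Quotient.mk (Ideal.span {f}))
  let Rq := Localization.AtPrime q
  let Ap := Localization.AtPrime p
  haveI := hreg p inferInstance
  let φ : Ap →+* Rq := Localization.localRingHom p q (Ideal.Quotient.mk _) rfl
  have hφ : Function.Surjective φ :=
    (RingHom.surjectiveOnStalks_of_surjective Ideal.Quotient.mk_surjective).localRingHom_surjective _ _ rfl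
  have hker : RingHom.ker φ = Ideal.span {algebraMap A Ap f} := by
    refine le_antisymm (fun z hz => ?_) ?_
    · obtain ⟨a, s, rfl⟩ := IsLocalization.exists_mk'_eq p.primeCompl z
      rw [RingHom.mem_ker, Localization.localRingHom_mk', IsLocalization.mk'_eq_zero_iff] at hz
      obtain ⟨⟨t', ht'⟩, hta⟩ := hz
      obtain ⟨t, rfl⟩ := Ideal.Quotient.mk_surjective t'
      rw [← map_mul, Ideal.Quotient.eq_zero_iff_mem] at hta
      rw [← Set.image_singleton, ← Ideal.map_span,
        IsLocalization.mk'_mem_map_algebraMap_iff p.primeCompl Ap]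
      exact ⟨t, ht', hta⟩
    · rw [Ideal.span_singleton_le_iff_mem, RingHom.mem_ker, Localization.localRingHom_to_map,
        Ideal.Quotient.eq_zero_iff_mem.mpr (Ideal.mem_span_singleton_self f), map_zero]
  haveI := Groth.Agent.Lib.JacCrit.FlatRegular.isCohenMacaulayLocalRing Ap
  let e : (Ap ⧸ Ideal.span {algebraMap A Ap f}) ≃+* Rq :=
    (Ideal.quotEquivOfEq hker.symm).trans (RingHom.quotientKerEquivOfSurjective hφ)
  haveI : IsLocalRing (Ap ⧸ Ideal.span {algebraMap A Ap f}) := e.symm.isLocalRing
  have hCM : LocCoh.IsCohenMacaulayLocalRing (Ap ⧸ Ideal.span {algebraMap A Ap f}) := by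
    by_cases h0 : algebraMap A Ap f = 0
    · have e0 : (Ap ⧸ Ideal.span {algebraMap A Ap f}) ≃+* Ap :=
        (Ideal.quotEquivOfEq (by rw [h0, Ideal.span_singleton_zero])).trans (RingEquiv.quotientBot Ap)
      exact Groth.Agent.Lib.Depth.CM.isCohenMacaulayLocalRing_iff.mpr (by
        rw [ringKrullDim_eq_of_ringEquiv e0, Groth.Agent.Lib.Depth.CM.ringKrullDim_eq_depth,
          Groth.Agent.Lib.CartierDescent.depth_eq_of_ringEquiv e0])
    · have hm : algebraMap A Ap f ∈ maximalIdeal Ap := by
        rw [IsLocalization.AtPrime.to_map_mem_maximal_iff Ap p]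
        show Ideal.Quotient.mk _ f ∈ q
        rw [Ideal.Quotient.eq_zero_iff_mem.mpr (Ideal.mem_span_singleton_self f)]
        exact q.zero_mem
      haveI : IsDomain Ap := Groth.Agent.Lib.Regular.Quotient.isDomain Ap
      exact (Groth.Agent.Lib.Depth.CM.isCohenMacaulayLocalRing_quotient_span_singleton_iff hm
        (fun u v huv => mul_left_cancel₀ h0 huv)).mpr inferInstance
  have hdim : ringKrullDim Rq = ((LocCoh.depth Rq Rq : ℕ∞) : WithBot ℕ∞) := by
    rw [← ringKrullDim_eq_of_ringEquiv e, ← Groth.Agent.Lib.CartierDescent.depth_eq_of_ringEquiv e]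
    exact Groth.Agent.Lib.Depth.CM.ringKrullDim_eq_depth
  rcases eq_or_ne (LocCoh.depth Rq Rq) 0 with h0 | h0
  · exact isIntegrallyClosed_of_isField (Groth.Agent.Lib.CartierDescent.isField_of_depth_eq_zero h0)
  · have hd1 : LocCoh.depth Rq Rq = 1 := le_antisymm hd (Order.one_le_iff_ne_zero.mpr h0)
    have hdim1 : ringKrullDim Rq = 1 := by rw [hdim, hd1]; rfl
    haveI := h1 ⟨q, inferInstance⟩ hdim1
    haveI := isDVR_of_regular (S := Rq) hdim1
    infer_instance

end Groth.Agent.S10834

namespace Groth.Agent.S10834

/-- Let A be a Noetherian ring whose localizations at all prime ideals are regular local rings, and f an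
element of A generating a prime ideal, so that A/(f) is an integral domain (an integral hypersurface
in the regular affine scheme Spec A). Then A/(f) is normal (integrally closed in its fraction field)
if and only if it is regular in codimension 1, i.e. its localization at every prime at which the
local ring has dimension 1 is a regular local ring. -/
theorem result (A : Type u) [CommRing A]
    [IsNoetherianRing A] (hreg : ∀ (p : Ideal A) (_ : p.IsPrime), IsRegularLocalRing (Localization.AtPrime p))
    (f : A) (hf : (Ideal.span ({f} : Set A)).IsPrime) :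
    IsIntegrallyClosed (A ⧸ Ideal.span ({f} : Set A)) ↔
      ∀ q : PrimeSpectrum (A ⧸ Ideal.span ({f} : Set A)),
        ringKrullDim (Localization.AtPrime q.asIdeal) = 1 →
          IsRegularLocalRing (Localization.AtPrime q.asIdeal) := by
    haveI := hf
    set R := A ⧸ Ideal.span ({f} : Set A) with hR
    let K := FractionRing R
    constructor
    · intro hn q hq
      haveI : IsIntegrallyClosed (Localization.AtPrime q.asIdeal) :=
        isIntegrallyClosed_of_isLocalization _ q.asIdeal.primeCompl (Ideal.primeCompl_le_nonZeroDivisors _)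
      have hnf : ¬ IsField (Localization.AtPrime q.asIdeal) := fun hF => by
        rw [ringKrullDim_eq_zero_of_isField hF] at hq
        exact zero_ne_one hq
      haveI : Ring.KrullDimLE 1 (Localization.AtPrime q.asIdeal) := Ring.krullDimLE_iff.mpr hq.le
      haveI : IsDiscreteValuationRing (Localization.AtPrime q.asIdeal) :=
        (((IsDiscreteValuationRing.TFAE (Localization.AtPrime q.asIdeal) hnf).out 0 3 :
          IsDiscreteValuationRing (Localization.AtPrime q.asIdeal) ↔
            IsIntegrallyClosed (Localization.AtPrime q.asIdeal) ∧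
            ∃! P : Ideal (Localization.AtPrime q.asIdeal), P ≠ ⊥ ∧ P.IsPrime)).mpr
          ⟨inferInstance, Groth.Agent.Lib.CDivInt.isDVR_of_coheight_eq_one.exists_unique_prime hnf⟩
      exact Groth.Agent.S10834.isRegularLocalRing_of_isDVR
    · intro h1
      refine (isIntegrallyClosed_iff K).mpr fun {x} hx => ?_
      obtain ⟨a, b, hb, rfl⟩ := IsFractionRing.div_surjective (A := R) x
      suffices hab : a ∈ Ideal.span {b} by
        obtain ⟨c, rfl⟩ := Ideal.mem_span_singleton'.mp hab
        refine ⟨c, ?_⟩
        rw [map_mul, mul_div_cancel_right₀ _ (IsFractionRing.to_map_ne_zero_of_mem_nonZeroDivisors hb)]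
      by_contra hab
      obtain ⟨q, hq, hle⟩ := exists_le_isAssociatedPrime_of_isNoetherianRing R
        (Ideal.Quotient.mk (Ideal.span {b}) a) (fun h => hab (Ideal.Quotient.eq_zero_iff_mem.mp h))
      haveI : q.IsPrime := IsAssociatedPrime.isPrime hq
      have hd : LocCoh.depth (Localization.AtPrime q) (Localization.AtPrime q) ≤ 1 :=
        Groth.Agent.Lib.CartierDescent.depth_comap_le_one (A := R) (B := R) hb hq
      haveI := Groth.Agent.S10834.normal_of_R1 hreg f h1 q hd
      let Rq := Localization.AtPrime q
      letI : Algebra Rq K := (IsLocalization.lift (M := q.primeCompl) (g := algebraMap R K) fun s =>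
        isUnit_iff_ne_zero.mpr (IsFractionRing.to_map_ne_zero_of_mem_nonZeroDivisors
          (Ideal.primeCompl_le_nonZeroDivisors q s.2))).toAlgebra
      haveI : IsScalarTower R Rq K := IsScalarTower.of_algebraMap_eq fun r =>
        (IsLocalization.lift_eq _ r).symm
      haveI : IsFractionRing Rq K := IsFractionRing.isFractionRing_of_isDomain_of_isLocalization q.primeCompl Rq K
      obtain ⟨w, hw⟩ := IsIntegrallyClosed.isIntegral_iff.mp (hx.tower_top (A := Rq))
      obtain ⟨⟨c, s⟩, hcs⟩ := IsLocalization.surj q.primeCompl w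
      refine s.2 (hle ?_)
      rw [Submodule.mem_colon_singleton, Submodule.mem_bot, ← Ideal.Quotient.mkₐ_eq_mk R, ← map_smul,
        Ideal.Quotient.mkₐ_eq_mk, Ideal.Quotient.eq_zero_iff_mem, smul_eq_mul]
      refine Ideal.mem_span_singleton'.mpr ⟨c, IsFractionRing.injective R K ?_⟩
      have := congrArg (algebraMap Rq K) hcs
      rw [map_mul, hw, ← IsScalarTower.algebraMap_apply R Rq K, ← IsScalarTower.algebraMap_apply R Rq K] at this
      rw [map_mul, map_mul, ← this]
      rw [mul_right_comm, div_mul_cancel₀ _ (IsFractionRing.to_map_ne_zero_of_mem_nonZeroDivisors hb), mul_comm]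

end Groth.Agent.S10834
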