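import Groth.Statements.S10836
import Mathlib.RingTheory.LocalRing.Module
import Mathlib.RingTheory.Localization.Free
import Mathlib.RingTheory.Spectrum.Prime.FreeLocus

set_option autoImplicit false
universe u
open Coh

namespace Groth.Agent.S10836

/-- Let A be a commutative ring, M a finitely generated projective A-module whose rank at every prime is
r, and Z a finite set of prime ideals of A. Then there is an element s of A outside every prime of Z
such that the localized module M_s has a basis of r elements over A_s. (The published statement is
for a finite locally free module of constant rank r on a scheme and a finite set of points inside an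
affine open Spec A, and produces a basic open D(s) containing the points on which the module is free
of rank r; its argument begins by replacing the scheme with Spec A, and this row states that case.) -/
theorem result (A : Type u) [CommRing A]
    (M : Type u) [AddCommGroup M] [Module A M] [Module.Finite A M] [Module.Projective A M] (r : ℕ)
    (hr : ∀ p : PrimeSpectrum A, Module.rankAtStalk M p = r)
    (Z : Set (PrimeSpectrum A)) (hZ : Z.Finite) :
    ∃ s : A, (∀ p ∈ Z, s ∉ p.asIdeal) ∧
      Nonempty (Module.Basis (Fin r) (Localization.Away s) (LocalizedModule (Submonoid.powers s) M)) := by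
  classical
  let S : Submonoid A := ⨅ p : Z, p.1.asIdeal.primeCompl
  have hS : ∀ {s}, s ∈ S ↔ ∀ p ∈ Z, s ∉ p.asIdeal := by
    intro s
    simp [S, Submonoid.mem_iInf]
  let As := Localization S
  haveI : Finite (MaximalSpectrum As) := by
    haveI := hZ.to_subtype
    have h : ∀ m : MaximalSpectrum As, ∃ p : Z, m.asIdeal.comap (algebraMap A As) ≤ p.1.asIdeal := by
      intro m
      have hd : ((m.asIdeal.comap (algebraMap A As) : Ideal A) : Set A) ⊆ ⋃ p ∈ Z, p.asIdeal := by
        intro a ha
        by_contra hn
        simp only [Set.mem_iUnion, SetLike.mem_coe, not_exists] at hn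
        exact m.isMaximal.ne_top (Ideal.eq_top_of_isUnit_mem _ ha (IsLocalization.map_units As ⟨a, hS.mpr hn⟩))
      rcases Z.eq_empty_or_nonempty with rfl | ⟨p₀, hp₀⟩
      · simpa using hd (Ideal.zero_mem _)
      obtain ⟨p, hp, hle⟩ := (Ideal.subset_union_prime_finite hZ (f := fun p : PrimeSpectrum A => p.asIdeal) p₀ p₀
        (fun p _ _ _ => p.2)).mp hd
      exact ⟨⟨p, hp⟩, hle⟩
    choose g hg using h
    refine Finite.of_injective g fun m m' hmm => ?_
    have key : ∀ m : MaximalSpectrum As, m.asIdeal = (g m).1.asIdeal.map (algebraMap A As) := fun m => by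
      refine m.isMaximal.eq_of_le ?_ ?_
      · refine ((IsLocalization.isPrime_of_isPrime_disjoint S As _ (g m).1.2 ?_)).ne_top
        exact Set.disjoint_left.mpr fun a ha => hS.mp ha _ (g m).2
      · rw [← IsLocalization.map_comap S As m.asIdeal]
        exact Ideal.map_mono (hg m)
    exact MaximalSpectrum.ext (by rw [key m, key m', hmm])
  let M' := LocalizedModule S M
  have hb : IsBaseChange As (LocalizedModule.mkLinearMap S M) := IsLocalizedModule.isBaseChange S As _
  haveI : Module.Finite As M' := Module.Finite.of_isLocalizedModule S (LocalizedModule.mkLinearMap S M)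
  haveI : Module.Flat As M' := Module.Flat.isBaseChange A As M M' hb
  obtain ⟨b⟩ := Module.nonempty_basis_of_flat_of_finrank_eq As M' r fun P => by
    letI := Ideal.Quotient.field P.1
    have h1 := Module.rankAtStalk_eq_finrank_of_free (R := As ⧸ P.1) (M := TensorProduct As (As ⧸ P.1) M')
    have h2 := congrFun h1 ⊥
    rw [Module.rankAtStalk_baseChange, Module.rankAtStalk_isBaseChange hb, hr] at h2
    simpa using h2.symm
  haveI := Module.finitePresentation_of_projective A M
  obtain ⟨s, hs, b', -⟩ := Module.FinitePresentation.exists_basis_localizedModule_powers S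
    (LocalizedModule.mkLinearMap S M) As b
  exact ⟨s, hS.mp hs, ⟨b'⟩⟩

end Groth.Agent.S10836
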