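import Groth.Statements.S10838
import Groth.Agent.Lib.SchTopo.Basic

set_option autoImplicit false
universe u
open CategoryTheory AlgebraicGeometry Topology
open Mor

namespace Groth.Agent.S10838

/-- For a morphism of schemes f : X → Y which is open as a map of topological spaces, the Krull
dimension of the image f(X) (with the subspace topology from Y) is at most the Krull dimension of X. -/
theorem result {X Y : Scheme.{u}} (f : X ⟶ Y) (hf : IsOpenMap f.base) :
    topologicalKrullDim ↥(Set.range f.base) ≤ topologicalKrullDim ↥X := by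
  suffices H : ∀ (n : ℕ) (l : LTSeries Y), l.length = n → (∀ i, l i ∈ Set.range f) →
      ∃ m : LTSeries X, m.length = n ∧ f m.last = l.last by
    let U : Y.Opens := ⟨Set.range f, hf.isOpen_range⟩
    refine (Groth.Agent.Lib.SchTopo.Basic.topologicalKrullDim_eq_krullDim_scheme (U : Scheme.{u})).le.trans ?_
    rw [Groth.Agent.Lib.SchTopo.Basic.topologicalKrullDim_eq_krullDim_scheme X]
    refine iSup_le fun l => ?_
    obtain ⟨m, hm, -⟩ := H l.length (l.map (fun a => U.ι a) fun a b hab =>
      lt_of_le_not_ge (Specializes.map hab.le U.ι.continuous) fun h =>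
        hab.not_ge (U.ι.isOpenEmbedding.isInducing.specializes_iff.1 h)) rfl (fun i => (l i).2)
    exact le_iSup_of_le m (by rw [hm])
  intro n
  induction n with
  | zero =>
    intro l hl hr
    obtain ⟨x, hx⟩ := hr (Fin.last _)
    exact ⟨RelSeries.singleton _ x, rfl, hx⟩
  | succ n ih =>
    intro l hl hr
    obtain ⟨m, hm, hlast⟩ := ih l.eraseLast (by simp [hl]) fun i => hr ⟨i, by have := i.2; simp only [RelSeries.eraseLast_length] at this; omega⟩
    have hlt : l.eraseLast.last < l.last := l.eraseLast_last_rel_last (by omega)
    obtain ⟨x, hx, hfx⟩ := Groth.Agent.Lib.SchTopo.Basic.generalizingMap_of_isOpenMap f hf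
      (show l.last ⤳ f m.last from hlast ▸ hlt.le)
    have hmx : m.last < x := lt_of_le_not_ge hx fun h => hlt.not_ge (by
      rw [← hfx, ← hlast]
      exact Specializes.map h f.continuous)
    exact ⟨m.snoc x hmx, by show m.length + 0 + 1 = n + 1; omega, by rw [RelSeries.last_snoc]; exact hfx⟩

end Groth.Agent.S10838
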