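import Groth.Statements.S10839
-- import your own Groth.Agent.* helpers here

set_option autoImplicit false
universe u
open CategoryTheory AlgebraicGeometry Topology TopologicalSpace
open Variety

namespace Groth.Agent.S10839

/-- A closed immersion i : Y → X into an integral scheme X with dim X = dim Y < ∞ is an isomorphism. -/
theorem result {X Y : Scheme.{u}} (i : Y ⟶ X)
    [IsClosedImmersion i] [IsIntegral X] (hfin : topologicalKrullDim ↥X ≠ ⊤)
    (hdim : topologicalKrullDim ↥X = topologicalKrullDim ↥Y) : IsIso i := by
  have hemb := (i.isClosedEmbedding).isEmbedding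
  suffices Function.Surjective i.base by
    haveI : Surjective i := ⟨this⟩
    exact isIso_of_isClosedImmersion_of_surjective i
  by_contra hns
  have hne : (⊥ : WithBot ℕ∞) < topologicalKrullDim ↥X := by
    exact bot_lt_iff_ne_bot.2 (by
      rw [topologicalKrullDim, Ne, Order.krullDim_eq_bot_iff, not_isEmpty_iff]
      exact ⟨⟨Set.univ, IrreducibleSpace.isIrreducible_univ ↥X, isClosed_univ⟩⟩)
  obtain ⟨n, hn⟩ : ∃ n : ℕ, topologicalKrullDim ↥X = n := by
    cases h : topologicalKrullDim ↥X with
    | bot => exact absurd h hne.ne'
    | coe a =>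
      cases a with
      | top => exact absurd h hfin
      | coe n => exact ⟨n, rfl⟩
  have hY : topologicalKrullDim ↥Y = n := hdim.symm.trans hn
  obtain ⟨l, hl⟩ := Order.le_krullDim_iff.1 hY.ge
  let φ : IrreducibleCloseds ↥Y → IrreducibleCloseds ↥X :=
    IrreducibleCloseds.map i.base.hom i.continuous
  have hφ : StrictMono φ := IrreducibleCloseds.map_strictMono_of_isInducing hemb.isInducing
  have hlt : φ l.last < ⟨Set.univ, IrreducibleSpace.isIrreducible_univ ↥X, isClosed_univ⟩ := by
    refine lt_of_le_of_ne (fun a _ => Set.mem_univ a) fun he => hns fun a => ?_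
    have ha : a ∈ closure (i.base '' (l.last : Set ↥Y)) :=
      (SetLike.ext_iff.1 he a).2 (Set.mem_univ a)
    exact (closure_minimal (Set.image_subset_range _ _) i.isClosedEmbedding.isClosed_range) ha
  let l' := (l.map φ hφ).snoc _ (show (l.map φ hφ).last < _ from hlt)
  have := Order.LTSeries.length_le_krullDim l'
  rw [show Order.krullDim (IrreducibleCloseds ↥X) = n from hn] at this
  simp [l', hl] at this
  norm_cast at this
  omega

end Groth.Agent.S10839
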