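import Groth.Statements.S10840
import Groth.Agent.Lib.ProjDim.Cut

set_option autoImplicit false
universe u
open AlgebraicGeometry Topology
open Variety

namespace Groth.Agent.S10840

open Groth.Agent.Lib.ProjDim.Graded Groth.Agent.Lib.ProjDim.Topology Groth.Agent.Lib.ProjDim.Cut
open MvPolynomial Groth.Agent.Lib.Dim.Basic

/-- For a field k and nonzero homogeneous polynomials f, g of positive degrees in three variables, the
common zero set V_+(f, g) in the projective plane over k is zero-dimensional as a topological
subspace exactly when f and g are coprime, i.e. their only common divisors are the non-zero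
constants. -/
theorem result (k : Type u) [Field k] (n m : ℕ)
    (f g : MvPolynomial (Fin 3) k) (hf : f.IsHomogeneous n) (hg : g.IsHomogeneous m)
    (hn : 0 < n) (hm : 0 < m) (hf0 : f ≠ 0) (hg0 : g ≠ 0) :
    topologicalKrullDim ↥(ProjectiveSpectrum.zeroLocus (CohB1.polyGrading 2 k)
        ({f, g} : Set (MvPolynomial (Fin 3) k))) = 0 ↔ IsRelPrime f g := by
  classical
  set Z := ProjectiveSpectrum.zeroLocus (CohB1.polyGrading 2 k) ({f, g} : Set _) with hZ
  have hZc : IsClosed Z := ProjectiveSpectrum.isClosed_zeroLocus _ _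
  have key : ∀ y, y ∈ Z ↔ f ∈ idl y ∧ g ∈ idl y := fun y => by
    rw [hZ, mem_zeroLocus_iff, Ideal.span_le, Set.insert_subset_iff, Set.singleton_subset_iff]
    rfl
  refine ⟨fun h d hdf hdg => ?_, fun h => ?_⟩
  · by_contra hu
    have hd0 : d ≠ 0 := fun e => hf0 (zero_dvd_iff.1 (e ▸ hdf))
    obtain ⟨p, hp, hpd⟩ := WfDvdMonoid.exists_irreducible_factor hu hd0
    have hpp : Prime p := UniqueFactorizationMonoid.irreducible_iff_prime.1 hp
    have hP : (Ideal.span {p}).IsPrime := (Ideal.span_singleton_prime hpp.ne_zero).2 hpp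
    have hh : (Ideal.span {p}).height = 1 := by
      exact Ideal.height_span_singleton_eq_one_of_mem_nonZeroDivisors
        (mem_nonZeroDivisors_of_ne_zero hpp.ne_zero) hpp.not_isUnit
    have hd := dimQ_add_one_of_height_one k (Ideal.span {p}) hh
    rw [← dimQ_bot (k := k), dimQ_bot_poly] at hd
    let y := mkPt (Ideal.span {p}) hP (span_isHomogeneous_of_dvd hp hf hf0 (hpd.trans hdf)) (by omega)
    have hy : y ∈ Z := (key y).2 ⟨Ideal.mem_span_singleton.2 (hpd.trans hdf),
      Ideal.mem_span_singleton.2 (hpd.trans hdg)⟩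
    have h1 := le_dim hZc hy
    rw [h] at h1
    have h2 : dp y + 1 = dimQ k (Ideal.span {p}) := dp_add_one y
    have h3 : dp y ≤ 0 := by exact_mod_cast h1
    omega
  · have hle : ∀ y ∈ Z, dp y = 0 := fun y hy => by
      by_contra hne
      obtain ⟨hfy, hgy⟩ := (key y).1 hy
      have hy1 := dp_add_one y
      have h1 : (idl y).height = 1 := by
        have h2 := height_add_dimQ k (idl y)
        rw [← dimQ_bot (k := k), dimQ_bot_poly] at h2
        have hne0 : (idl y).height ≠ 0 := fun e => hf0 (by
          have := Ideal.height_eq_zero_iff_eq_bot.mp e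
          rw [this] at hfy; exact hfy)
        rw [← Groth.Agent.Lib.Dim.Local.coe_height_toNat k (idl y)] at h2 hne0 ⊢
        have h3 : (idl y).height.toNat + dimQ k (idl y) = 3 := by exact_mod_cast h2
        have h4 : (idl y).height.toNat ≠ 0 := by exact_mod_cast hne0
        exact_mod_cast (by omega : (idl y).height.toNat = 1)
      obtain ⟨p, hpy, hpp⟩ := Ideal.IsPrime.exists_mem_prime_of_ne_bot (I := idl y) y.isPrime
        (Ideal.ne_bot_of_height_eq_one h1)
      have hspan := Ideal.eq_span_singleton_of_height_eq_one h1 hpy hpp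
      rw [hspan, Ideal.mem_span_singleton] at hfy hgy
      exact hpp.not_isUnit (h hfy hgy)
    let η := mkPt (⊥ : Ideal (MvPolynomial (Fin (2 + 1)) k)) Ideal.isPrime_bot
      (Ideal.IsHomogeneous.bot _) (by rw [dimQ_bot_poly]; omega)
    have hη : dp η + 1 = 3 := (dp_add_one η).trans dimQ_bot_poly
    obtain ⟨y, -, hy⟩ := exists_mem (x := η) {f, g}
      (fun u hu => by
        rcases Finset.mem_insert.1 hu with rfl | hu
        · exact ⟨n, hf⟩
        · rw [Finset.mem_singleton.1 hu]; exact ⟨m, hg⟩)
      (fun u hu => by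
        rcases Finset.mem_insert.1 hu with rfl | hu
        · exact mem_irr_of_isHomogeneous hf hn
        · rw [Finset.mem_singleton.1 hu]; exact mem_irr_of_isHomogeneous hg hm)
      ((Finset.card_insert_le _ _).trans (by rw [Finset.card_singleton]; omega))
    rw [Finset.coe_insert, Finset.coe_singleton] at hy
    rw [dim_eq hZc hy fun w hw => (hle w hw).le.trans (Nat.zero_le _), hle y hy]
    rfl

end Groth.Agent.S10840
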