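import Groth.Statements.S10842
-- import your own Groth.Agent.* helpers here

set_option autoImplicit false
universe u
open CategoryTheory AlgebraicGeometry
open Variety

namespace Groth.Agent.S10842

/-- A quasi-compact scheme whose local rings at all closed points are integrally closed domains is
normal, i.e. all of its local rings are integrally closed domains. -/
theorem result (X : Scheme.{u}) [CompactSpace ↥X]
    (h : ∀ x : X, IsClosed ({x} : Set X) →
      IsDomain (X.presheaf.stalk x) ∧ IsIntegrallyClosed (X.presheaf.stalk x)) :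
    Pi1.IsNormalScheme X := by
  intro y
  obtain ⟨x, hxy, hx⟩ := IsClosed.exists_closed_singleton isClosed_closure
    (Set.singleton_nonempty y |>.closure)
  have hspec : y ⤳ x := specializes_iff_mem_closure.2 hxy
  obtain ⟨U, hU, hxU, -⟩ := exists_isAffineOpen_mem_and_subset (x := x) (U := ⊤) trivial
  have hyU : y ∈ U := hspec.mem_open U.2 hxU
  obtain ⟨hdom, hic⟩ := h x hx
  haveI := hdom
  haveI := hic
  let A := Γ(X, U)
  let S := X.presheaf.stalk x
  let T := X.presheaf.stalk y
  letI algS : Algebra A S := TopCat.Presheaf.algebra_section_stalk X.presheaf ⟨x, hxU⟩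
  letI algT : Algebra A T := TopCat.Presheaf.algebra_section_stalk X.presheaf ⟨y, hyU⟩
  letI algST : Algebra S T := (X.presheaf.stalkSpecializes hspec).hom.toAlgebra
  haveI : IsScalarTower A S T := IsScalarTower.of_algebraMap_eq' (by
    exact (congrArg CommRingCat.Hom.hom
      (X.presheaf.germ_stalkSpecializes (U := U) hxU hspec)).symm)
  set q := (hU.primeIdealOf ⟨x, hxU⟩).asIdeal
  set p := (hU.primeIdealOf ⟨y, hyU⟩).asIdeal
  haveI hS : IsLocalization.AtPrime S q := hU.isLocalization_stalk ⟨x, hxU⟩
  haveI hT : IsLocalization.AtPrime T p := hU.isLocalization_stalk ⟨y, hyU⟩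
  have hle : q.primeCompl ≤ p.primeCompl := fun a ha => by
    have h1 : IsUnit (algebraMap A S a) := (IsLocalization.AtPrime.isUnit_to_map_iff S q a).2 ha
    have h2 := h1.map (algebraMap S T)
    rw [← IsScalarTower.algebraMap_apply] at h2
    exact (IsLocalization.AtPrime.isUnit_to_map_iff T p a).1 h2
  haveI : IsLocalization (p.primeCompl.map (algebraMap A S)) T :=
    IsLocalization.isLocalization_of_submonoid_le S T q.primeCompl p.primeCompl hle
  have hnz : p.primeCompl.map (algebraMap A S) ≤ nonZeroDivisors S := by
    refine le_nonZeroDivisors_of_noZeroDivisors ?_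
    rintro ⟨a, ha, ha0⟩
    have h3 : algebraMap A T a = 0 := by
      rw [IsScalarTower.algebraMap_apply A S T, ha0, map_zero]
    exact not_isUnit_zero (h3 ▸ (IsLocalization.AtPrime.isUnit_to_map_iff T p a).2 ha)
  exact ⟨IsLocalization.isDomain_of_le_nonZeroDivisors (R := S) T hnz,
    isIntegrallyClosed_of_isLocalization (R := S) T _ hnz⟩

end Groth.Agent.S10842
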