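import Groth.Statements.S10843
import Groth.Agent.Lib.Dim.Local

set_option autoImplicit false
universe u
open CAlg

namespace Groth.Agent.S10843

/-- For a field k, a nonzero finitely generated k-algebra A and a natural number d, the algebra A has
Krull dimension d exactly when some injective k-algebra map from the polynomial ring in d variables
over k to A makes A a finite module over that polynomial ring. -/
theorem result (k A : Type u) [Field k]
    [CommRing A] [Nontrivial A] [Algebra k A] [Algebra.FiniteType k A] (d : ℕ) :
    ringKrullDim A = (d : WithBot ℕ∞) ↔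
      ∃ φ : MvPolynomial (Fin d) k →ₐ[k] A, φ.toRingHom.Finite ∧ Function.Injective φ := by
  have key : ∀ (s : ℕ) (φ : MvPolynomial (Fin s) k →ₐ[k] A), φ.toRingHom.Finite →
      Function.Injective φ → ringKrullDim A = (s : WithBot ℕ∞) := by
    intro s φ hfin hinj
    let := φ.toRingHom.toAlgebra
    have : FaithfulSMul (MvPolynomial (Fin s) k) A :=
      (faithfulSMul_iff_algebraMap_injective _ _).mpr hinj
    have : Module.Finite (MvPolynomial (Fin s) k) A := hfin
    rw [Groth.Agent.Lib.Dim.Integral.ringKrullDim_eq_of_isIntegral (R := MvPolynomial (Fin s) k),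
      Groth.Agent.Lib.Dim.Basic.ringKrullDim_mvPolynomial, Nat.card_fin]
  constructor
  · intro hd
    obtain ⟨s, g, hg, hfin⟩ := exists_finite_inj_algHom_of_fg k A
    obtain rfl : s = d := by
      have h : (s : WithBot ℕ∞) = (d : WithBot ℕ∞) := by rw [← key s g hfin hg, hd]
      exact_mod_cast h
    exact ⟨g, hfin, hg⟩
  · rintro ⟨φ, hfin, hinj⟩
    exact key d φ hfin hinj

end Groth.Agent.S10843
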