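import Groth.Statements.S10844
import Groth.Agent.Lib.Modules.SupportOps
import Groth.Agent.Lib.QCoh.Closure
import Groth.Agent.H22.StrictTransform.Module

set_option autoImplicit false
set_option backward.isDefEq.respectTransparency false
universe u
open RepF

namespace Groth.Agent.S10844

open CategoryTheory CategoryTheory.Limits AlgebraicGeometry

open AlgebraicGeometry CategoryTheory in
/-- For a scheme S and a homomorphism v : E → F of quasi-coherent O_S-modules with F of finite type,
there is an open subscheme U of S such that a morphism of schemes f : T → S factors through U (its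
image lies in U) if and only if the pulled-back homomorphism f^*v : f^*E → f^*F is an epimorphism. -/
theorem result {S : Scheme.{u}} {E F : S.Modules}
    [Coh.IsQCoh E] [Coh.IsQCoh F] (hF : CohB1.IsFT F) (v : E ⟶ F) :
    ∃ U : S.Opens, ∀ (T : Scheme.{u}) (f : T ⟶ S),
      Set.range f.base ⊆ (U : Set S) ↔ Epi ((Scheme.Modules.pullback f).map v) := by
  haveI : (cokernel v).IsQuasicoherent := Groth.Agent.Lib.QCoh.Closure.isQCoh_cokernel v
  haveI : SheafOfModules.IsFiniteType (R := S.ringCatSheaf) F := hF
  haveI : SheafOfModules.IsFiniteType (R := S.ringCatSheaf) (cokernel v) :=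
    Groth.Agent.H22.StrictTransform.isFT_of_epi (cokernel.π v)
  refine ⟨⟨(CohB1.support (cokernel v))ᶜ,
    (Groth.Agent.Lib.Modules.Support.isClosed_support (cokernel v)).isOpen_compl⟩, fun T f => ?_⟩
  let P := Scheme.Modules.pullback f
  let e := PreservesCokernel.iso P v
  have h1 : Epi (P.map v) ↔ IsZero (P.obj (cokernel v)) := by
    refine ⟨fun h => (isZero_cokernel_of_epi (P.map v)).of_iso e, fun h => ?_⟩
    exact Preadditive.epi_of_isZero_cokernel _ (h.of_iso e.symm)
  rw [h1, ← Groth.Agent.Lib.Modules.Support.support_eq_empty_iff,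
    Groth.Agent.Lib.Modules.SupportOps.support_pullback, Set.preimage_eq_empty_iff]
  exact ⟨fun h => Set.disjoint_left.2 fun y hy hr => h hr hy,
    fun h y hr hy => Set.disjoint_left.1 h hy hr⟩

end Groth.Agent.S10844
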