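import Groth.Statements.S10847
import Groth.Agent.Lib.FittSheaf.Gen
import Groth.Agent.H25.FittingProd
import Groth.Agent.Lib.QCoh.Pullback

set_option autoImplicit false
universe u
open FlatMod

namespace Groth.Agent.S10847

open AlgebraicGeometry CategoryTheory

/-- A morphism factors through a closed subscheme iff it pulls the ideal back to zero. -/
theorem factors_subschemeι_iff {X T : Scheme.{u}} (I : X.IdealSheafData) (f : T ⟶ X) :
    (∃ g : T ⟶ I.subscheme, g ≫ I.subschemeι = f) ↔ I.comap f = ⊥ := by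
  constructor
  · rintro ⟨g, rfl⟩
    rw [← le_bot_iff, ← Scheme.IdealSheafData.le_map_iff_comap_le, Scheme.IdealSheafData.map_bot]
    calc I = I.subschemeι.ker := I.ker_subschemeι.symm
      _ ≤ _ := Scheme.Hom.le_ker_comp _ _
  · intro h
    have h' : I.subschemeι.ker ≤ f.ker := by
      rw [I.ker_subschemeι, ← Scheme.IdealSheafData.map_bot,
        Scheme.IdealSheafData.le_map_iff_comap_le, h]
    exact ⟨IsClosedImmersion.lift I.subschemeι f h', IsClosedImmersion.lift_fac _ _ _⟩

theorem sheafIdeal_mono {X : Scheme.{u}} (F : X.Modules) [F.IsQuasicoherent]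
    [SheafOfModules.IsFiniteType (R := X.ringCatSheaf) F] {k k' : ℕ} (h : k ≤ k') :
    Fitt.sheafIdeal F k ≤ Fitt.sheafIdeal F k' := by
  rw [Scheme.IdealSheafData.le_def]
  intro U
  haveI : Module.Finite Γ(X, U.1) Γ(F, U.1) := Groth.Agent.Lib.CohBasics.Affine.finite_sections U.2
  rw [Groth.Agent.Lib.FittSheaf.ideal_sheafIdeal, Groth.Agent.Lib.FittSheaf.ideal_sheafIdeal]
  exact Groth.Agent.H25.Fitting.ideal_mono h

end Groth.Agent.S10847

namespace Groth.Agent.S10847

open AlgebraicGeometry CategoryTheory in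
/-- Let X be a scheme, F a finite-type quasi-coherent O_X-module and r a natural number. Then there is
an immersion i : Z → X (a subscheme of X) such that a morphism of schemes f : T → X factors through
i if and only if the pullback f^*F is finite locally free of rank r. -/
theorem result {X : Scheme.{u}} (F : X.Modules)
    [Coh.IsQCoh F] (hF : CohB1.IsFT F) (r : ℕ) :
    ∃ (Z : Scheme.{u}) (i : Z ⟶ X), IsImmersion i ∧ ∀ (T : Scheme.{u}) (f : T ⟶ X),
      (∃ g : T ⟶ Z, g ≫ i = f) ↔ FlatMod.IsFinLocFreeOfRank r ((Scheme.Modules.pullback f).obj F) := by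
  haveI : F.IsQuasicoherent := ‹Coh.IsQCoh F›
  haveI : SheafOfModules.IsFiniteType (R := X.ringCatSheaf) F := hF
  obtain ⟨I, hI⟩ : ∃ I : X.IdealSheafData, ∀ (T : Scheme.{u}) (f : T ⟶ X),
      I.comap f = ⊥ ↔ ∀ k < r, (Fitt.sheafIdeal F k).comap f = ⊥ := by
    cases r with
    | zero => exact ⟨⊥, fun T f => iff_of_true (Scheme.IdealSheafData.comap_bot f)
        fun k hk => absurd hk k.not_lt_zero⟩
    | succ s =>
      exact ⟨Fitt.sheafIdeal F s, fun T f => ⟨fun h k hk => le_bot_iff.1
        ((Scheme.IdealSheafData.comap_mono f (sheafIdeal_mono F (Nat.lt_succ_iff.1 hk))).trans h.le),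
        fun h => h s s.lt_succ_self⟩⟩
  let W : X.Opens := ⟨((Fitt.sheafIdeal F r).support : Set X)ᶜ,
    (Fitt.sheafIdeal F r).support.isClosed.isOpen_compl⟩
  refine ⟨_, (I.subschemeι ⁻¹ᵁ W).ι ≫ I.subschemeι, inferInstance, fun T f => ?_⟩
  haveI := Groth.Agent.Lib.QCoh.Pullback.isQCoh_pullback f F
  haveI := Groth.Agent.Lib.Modules.SupportOps.isFT_pullback f F
  rw [Groth.Agent.Lib.FittSheaf.isFinLocFreeOfRank_iff]
  simp only [← Groth.Agent.Lib.FittSheaf.sheafIdeal_comap]
  have hbot := hI T f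
  have htop : (∀ t : T, f t ∈ W) ↔ ∀ k, r ≤ k → (Fitt.sheafIdeal F k).comap f = ⊤ := by
    constructor
    · intro h k hk
      have hr : (Fitt.sheafIdeal F r).comap f = ⊤ := by
        rw [← Scheme.IdealSheafData.support_eq_bot_iff, Scheme.IdealSheafData.support_comap]
        ext t
        exact iff_of_false (fun ht => h t ht) (fun ht => ht)
      exact top_le_iff.1 (hr.ge.trans (Scheme.IdealSheafData.comap_mono f (sheafIdeal_mono F hk)))
    · intro h t ht
      have h' := congrArg Scheme.IdealSheafData.support (h r le_rfl)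
      rw [Scheme.IdealSheafData.support_comap, Scheme.IdealSheafData.support_top] at h'
      have : t ∈ (⊥ : TopologicalSpace.Closeds T) := h' ▸ ht
      exact this
  constructor
  · rintro ⟨g, rfl⟩
    exact ⟨hbot.1 ((factors_subschemeι_iff I _).1 ⟨g ≫ (I.subschemeι ⁻¹ᵁ W).ι, by simp⟩),
      htop.1 fun t => (g t).2⟩
  · rintro ⟨h₁, h₂⟩
    obtain ⟨g, rfl⟩ := (factors_subschemeι_iff I f).2 (hbot.2 h₁)
    have hr : Set.range g ⊆ Set.range (I.subschemeι ⁻¹ᵁ W).ι := by
      rw [Scheme.Opens.range_ι]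
      rintro _ ⟨t, rfl⟩
      exact (htop.2 h₂) t
    exact ⟨IsOpenImmersion.lift _ g hr, by rw [IsOpenImmersion.lift_fac_assoc]⟩

end Groth.Agent.S10847
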