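import Groth.Statements.S10849
import Mathlib.Algebra.Polynomial.Laurent
import Mathlib.LinearAlgebra.Matrix.NonsingularInverse
import Mathlib.LinearAlgebra.Matrix.ToLinearEquiv
import Mathlib.Data.Fin.Tuple.Sort
import Mathlib.Algebra.Polynomial.RingDivision
import Mathlib.Algebra.Polynomial.FieldDivision
-- import your own Groth.Agent.* helpers here

set_option autoImplicit false
universe u
open VbP1

namespace Groth.Agent.S10849

open Polynomial in
/-- A nonsingular polynomial matrix is left equivalent to a row reduced one. -/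
theorem exists_reduced {k : Type u} [Field k] {n : ℕ} :
    ∀ (s : ℕ) (M : Matrix (Fin n) (Fin n) k[X]), M.det ≠ 0 →
      (∑ i, Finset.univ.sup (fun j => (M i j).natDegree)) = s →
      ∃ P : Matrix (Fin n) (Fin n) k[X], IsUnit P ∧ ∃ d : Fin n → ℕ,
        (∀ i j, ((P * M) i j).natDegree ≤ d i) ∧
        (Matrix.det (Matrix.of fun i j => ((P * M) i j).coeff (d i))) ≠ 0 := by
  classical
  intro s
  induction s using Nat.strong_induction_on with
  | _ s ih =>
    intro M hM hs
    let d : Fin n → ℕ := fun i => Finset.univ.sup (fun j => (M i j).natDegree)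
    have hd : ∀ i j, (M i j).natDegree ≤ d i := fun i j =>
      Finset.le_sup (f := fun j => (M i j).natDegree) (Finset.mem_univ j)
    by_cases hL : (Matrix.det (Matrix.of fun i j => (M i j).coeff (d i))) ≠ 0
    · exact ⟨1, isUnit_one, d, by simpa using hd, by simpa using hL⟩
    push Not at hL
    obtain ⟨c, hc, hc0⟩ := Matrix.exists_vecMul_eq_zero_iff.2 hL
    obtain ⟨i₁, hi₁⟩ := Function.ne_iff.1 hc
    obtain ⟨i₀, hi₀, hmax⟩ := Finset.exists_max_image (Finset.univ.filter fun i => c i ≠ 0) d
      ⟨i₁, by simpa using hi₁⟩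
    have hci₀ : c i₀ ≠ 0 := by simpa using hi₀
    let w : Fin n → k[X] := fun i => C (c i) * X ^ (d i₀ - d i)
    let P : Matrix (Fin n) (Fin n) k[X] := (1 : Matrix (Fin n) (Fin n) k[X]).updateRow i₀ w
    have hP : IsUnit P := by
      rw [Matrix.isUnit_iff_isUnit_det]
      have : w = ∑ i, w i • (1 : Matrix (Fin n) (Fin n) k[X]) i := by
        funext j; simp [Finset.sum_apply, Matrix.one_apply]
      show IsUnit ((1 : Matrix (Fin n) (Fin n) k[X]).updateRow i₀ w).det
      conv in w => rw [this]
      rw [Matrix.det_updateRow_sum, Matrix.det_one, smul_eq_mul, mul_one]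
      show IsUnit (C (c i₀) * X ^ (d i₀ - d i₀))
      simpa [Polynomial.isUnit_C] using hci₀
    have hrow : ∀ j, (P * M) i₀ j = ∑ i, w i * M i j := by
      intro j; simp [P, Matrix.mul_apply]
    have hother : ∀ i ≠ i₀, ∀ j, (P * M) i j = M i j := by
      intro i hi j; simp [P, Matrix.mul_apply, Matrix.updateRow_ne hi, Matrix.one_apply]
    have hterm : ∀ i j, (w i * M i j).natDegree ≤ d i₀ := by
      intro i j
      by_cases h : c i = 0
      · simp [w, h]
      have hle := hmax i (by simpa using h)
      refine natDegree_mul_le.trans ?_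
      have h1 : (w i).natDegree ≤ d i₀ - d i := natDegree_C_mul_X_pow_le _ _
      have := hd i j
      omega
    have hdeg : ∀ j, ((P * M) i₀ j).natDegree ≤ d i₀ := by
      intro j; rw [hrow]; exact natDegree_sum_le_of_forall_le _ _ (fun i _ => hterm i j)
    have hcoeff : ∀ j, ((P * M) i₀ j).coeff (d i₀) = 0 := by
      intro j; rw [hrow, finsetSum_coeff]
      have := congrFun hc0 j
      refine Eq.trans (Finset.sum_congr rfl fun i _ => ?_) this
      show (C (c i) * X ^ (d i₀ - d i) * M i j).coeff (d i₀) = c i * (M i j).coeff (d i)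
      by_cases h : c i = 0
      · simp [h]
      have hle := hmax i (by simpa using h)
      rw [mul_assoc, coeff_C_mul, X_pow_mul, coeff_mul_X_pow', if_pos (Nat.sub_le _ _),
        Nat.sub_sub_self hle]
    have hdet : (P * M).det ≠ 0 := by
      rw [Matrix.det_mul]; exact mul_ne_zero ((Matrix.isUnit_iff_isUnit_det P).1 hP).ne_zero hM
    have hd0 : 0 < d i₀ := by
      by_contra h
      have h0 : d i₀ = 0 := by omega
      apply hdet
      refine Matrix.det_eq_zero_of_row_eq_zero i₀ fun j => ?_
      have h1 := hdeg j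
      have h2 := hcoeff j
      rw [h0] at h1 h2
      rw [Polynomial.eq_C_of_natDegree_le_zero h1, h2, map_zero]
    have hlt : ∀ j, ((P * M) i₀ j).natDegree < d i₀ := by
      intro j
      rcases (hdeg j).lt_or_eq with h | h
      · exact h
      · have := hcoeff j
        rw [← h] at this
        rw [coeff_natDegree, leadingCoeff_eq_zero] at this
        rw [this, natDegree_zero]; exact hd0
    obtain ⟨P', hP', d', h1, h2⟩ := ih _ (by
      rw [← hs]
      refine Finset.sum_lt_sum (fun i _ => ?_) ⟨i₀, Finset.mem_univ _, ?_⟩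
      · rcases eq_or_ne i i₀ with rfl | hne
        · exact Finset.sup_le fun j _ => (hdeg j)
        · exact Finset.sup_le fun j _ => by
            rw [hother i hne j]; exact hd i j
      · exact (Finset.sup_lt_iff hd0).2 fun j _ => hlt j) (P * M) hdet rfl
    exact ⟨P' * P, hP'.mul hP, d', by simpa [Matrix.mul_assoc] using h1,
      by simpa [Matrix.mul_assoc] using h2⟩

theorem toLaurent_reflect {k : Type u} [Field k] (p : Polynomial k) (d : ℕ) (h : p.natDegree ≤ d) :
    Polynomial.toLaurent p =
      LaurentPolynomial.T (d : ℤ) * LaurentPolynomial.invert (Polynomial.toLaurent (p.reflect d)) := by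
  conv_lhs => rw [p.as_sum_range_C_mul_X_pow' (Nat.lt_succ_of_le h)]
  conv_rhs => rw [p.as_sum_range_C_mul_X_pow' (Nat.lt_succ_of_le h)]
  have hr : ∀ (t : Finset ℕ) (F : ℕ → Polynomial k),
      Polynomial.reflect d (∑ i ∈ t, F i) = ∑ i ∈ t, Polynomial.reflect d (F i) := by
    intro t F; induction t using Finset.induction_on with
    | empty => simp
    | insert a u ha ih => rw [Finset.sum_insert ha, Finset.sum_insert ha, Polynomial.reflect_add, ih]
  rw [map_sum, hr]
  rw [map_sum, map_sum, Finset.mul_sum]
  refine Finset.sum_congr rfl fun i hi => ?_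
  have hi' : i ≤ d := by simp at hi; omega
  rw [Polynomial.reflect_C_mul_X_pow, Polynomial.revAt_le hi', Polynomial.toLaurent_C_mul_X_pow,
    Polynomial.toLaurent_C_mul_X_pow, map_mul, LaurentPolynomial.invert_C, LaurentPolynomial.invert_T,
    mul_left_comm, ← LaurentPolynomial.T_add]
  congr 2; omega

/-- Let k be a field and n a natural number. For every invertible n × n matrix A with entries in the
Laurent polynomial ring k[T, T⁻¹] there are matrices P and Q over k[T], invertible over k[T], and
integers d_1 ≥ d_2 ≥ … ≥ d_n (indexed by Fin n, antitone) such that A = P · diag(T^{d_i}) · Q⁻,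
where Q⁻ is obtained from Q by the substitution T ↦ T⁻¹ (so Q⁻ is invertible over k[T⁻¹]). -/
theorem result (k : Type u) [Field k] (n : ℕ)
    (A : Matrix (Fin n) (Fin n) (LaurentPolynomial k)) (hA : IsUnit A) :
    ∃ (P Q : Matrix (Fin n) (Fin n) (Polynomial k)) (d : Fin n → ℤ),
      IsUnit P ∧ IsUnit Q ∧ Antitone d ∧
        A = P.map Polynomial.toLaurent * Matrix.diagonal (fun i => LaurentPolynomial.T (d i)) *
          (Q.map Polynomial.toLaurent).map LaurentPolynomial.invert := by
  classical
  choose N f hf using fun i j => LaurentPolynomial.exists_T_pow (A i j)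
  let m := Finset.univ.sup (fun p : Fin n × Fin n => N p.1 p.2)
  have hm : ∀ i j, N i j ≤ m := fun i j =>
    Finset.le_sup (f := fun p : Fin n × Fin n => N p.1 p.2) (Finset.mem_univ (i, j))
  let M : Matrix (Fin n) (Fin n) (Polynomial k) := Matrix.of fun i j => f i j * Polynomial.X ^ (m - N i j)
  have hMA : M.map Polynomial.toLaurent = (LaurentPolynomial.T (m : ℤ) : LaurentPolynomial k) • A := by
    refine Matrix.ext fun i j => ?_
    show Polynomial.toLaurent (f i j * Polynomial.X ^ (m - N i j)) = LaurentPolynomial.T (m : ℤ) * A i j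
    rw [map_mul, hf, Polynomial.toLaurent_X_pow, mul_assoc, ← LaurentPolynomial.T_add, mul_comm]
    congr 2; have := hm i j; omega
  have hAdet := (Matrix.isUnit_iff_isUnit_det A).1 hA
  have hTu : ∀ z : ℤ, IsUnit (LaurentPolynomial.T z : LaurentPolynomial k) := fun z =>
    IsUnit.of_mul_eq_one (LaurentPolynomial.T (-z)) (by rw [← LaurentPolynomial.T_add, add_neg_cancel]; rfl)
  have hMu : IsUnit (Polynomial.toLaurent M.det) := by
    rw [RingHom.map_det]
    show IsUnit (M.map Polynomial.toLaurent).det
    rw [hMA, Matrix.det_smul]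
    exact ((hTu _).pow _).mul hAdet
  have hM0 : M.det ≠ 0 := by
    intro h; rw [h, map_zero] at hMu; exact not_isUnit_zero hMu
  obtain ⟨P₀, hP₀, d₀, hdeg, hlc⟩ := exists_reduced _ M hM0 rfl
  let σ : Equiv.Perm (Fin n) := Fin.revPerm.trans (Tuple.sort d₀)
  let d : Fin n → ℕ := d₀ ∘ σ
  have hanti : Antitone d := fun a b hab => Tuple.monotone_sort d₀ (Fin.rev_le_rev.2 hab)
  let S : Matrix (Fin n) (Fin n) (Polynomial k) := (1 : Matrix (Fin n) (Fin n) (Polynomial k)).submatrix σ id
  have hS : IsUnit S := by
    rw [Matrix.isUnit_iff_isUnit_det, Matrix.det_permute, Matrix.det_one, mul_one]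
    exact (Equiv.Perm.sign σ).isUnit.map (Int.castRingHom (Polynomial k))
  obtain ⟨U, hU⟩ := hS.mul hP₀
  let M' : Matrix (Fin n) (Fin n) (Polynomial k) := (U : Matrix (Fin n) (Fin n) (Polynomial k)) * M
  have hM' : ∀ i j, M' i j = (P₀ * M) (σ i) j := by
    intro i j
    show ((U : Matrix (Fin n) (Fin n) (Polynomial k)) * M) i j = _
    rw [hU, Matrix.mul_assoc]; simp [S, Matrix.mul_apply, Matrix.submatrix_apply, Matrix.one_apply]
  let Q : Matrix (Fin n) (Fin n) (Polynomial k) := Matrix.of fun i j => (M' i j).reflect (d i)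
  have hQM : M'.map Polynomial.toLaurent = Matrix.diagonal (fun i => LaurentPolynomial.T (d i : ℤ)) *
      (Q.map Polynomial.toLaurent).map LaurentPolynomial.invert := by
    refine Matrix.ext fun i j => ?_
    rw [Matrix.diagonal_mul]
    exact toLaurent_reflect _ _ (by rw [hM']; exact hdeg (σ i) j)
  have hQ : IsUnit Q := by
    rw [Matrix.isUnit_iff_isUnit_det]
    have h0 : Q.det.coeff 0 ≠ 0 := by
      rw [Polynomial.coeff_zero_eq_eval_zero, ← Polynomial.coe_evalRingHom, RingHom.map_det]
      have : (Polynomial.evalRingHom (0 : k)).mapMatrix Q =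
          (Matrix.of fun i j => ((P₀ * M) i j).coeff (d₀ i)).submatrix σ id := by
        refine Matrix.ext fun i j => ?_
        show Polynomial.eval 0 ((M' i j).reflect (d i)) = ((P₀ * M) (σ i) j).coeff (d₀ (σ i))
        rw [← Polynomial.coeff_zero_eq_eval_zero, Polynomial.coeff_reflect,
          Polynomial.revAt_le (Nat.zero_le _), Nat.sub_zero, hM']
        rfl
      rw [this, Matrix.det_permute]
      exact mul_ne_zero ((Equiv.Perm.sign σ).isUnit.map (Int.castRingHom k)).ne_zero hlc
    have h1 : IsUnit (Polynomial.toLaurent Q.det) := by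
      have hdet := congrArg Matrix.det hQM
      rw [Matrix.det_mul, Matrix.det_diagonal] at hdet
      have hl : IsUnit (M'.map Polynomial.toLaurent).det := by
        show IsUnit ((Polynomial.toLaurent (R := k)).mapMatrix M').det
        rw [← RingHom.map_det, Matrix.det_mul, map_mul]
        exact (((Matrix.isUnit_iff_isUnit_det _).1 U.isUnit).map _).mul hMu
      rw [hdet] at hl
      have h2 := (IsUnit.mul_iff.1 hl).2
      have h3 : ((Q.map Polynomial.toLaurent).map LaurentPolynomial.invert).det =
          LaurentPolynomial.invert (Polynomial.toLaurent Q.det) := by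
        rw [RingHom.map_det, AlgEquiv.map_det]; rfl
      rw [h3] at h2
      have := h2.map (LaurentPolynomial.invert : LaurentPolynomial k ≃ₐ[k] LaurentPolynomial k).symm
      simpa using this
    obtain ⟨g, hg⟩ := h1.exists_right_inv
    obtain ⟨l, g', hg'⟩ := LaurentPolynomial.exists_T_pow g
    have hdvd : Q.det ∣ Polynomial.X ^ l := ⟨g', Polynomial.toLaurent_injective (by
      rw [map_mul, hg', Polynomial.toLaurent_X_pow, ← mul_assoc, hg, one_mul])⟩
    refine IsCoprime.isUnit_of_dvd ?_ hdvd
    exact ((Polynomial.prime_X.coprime_iff_not_dvd).2 (by rwa [Polynomial.X_dvd_iff])).symm.pow_right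
  refine ⟨((U⁻¹ : (Matrix (Fin n) (Fin n) (Polynomial k))ˣ) : Matrix (Fin n) (Fin n) (Polynomial k)), Q,
    fun i => (d i : ℤ) - m, Units.isUnit _, hQ, fun a b hab => by simpa using hanti hab, ?_⟩
  have hA' : A = (LaurentPolynomial.T (-(m : ℤ)) : LaurentPolynomial k) • M.map Polynomial.toLaurent := by
    rw [hMA, smul_smul, ← LaurentPolynomial.T_add, neg_add_cancel, LaurentPolynomial.T_zero, one_smul]
  have hMM' : M = ((U⁻¹ : (Matrix (Fin n) (Fin n) (Polynomial k))ˣ) : Matrix (Fin n) (Fin n) (Polynomial k)) * M' := by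
    rw [← Matrix.mul_assoc, Units.inv_mul, Matrix.one_mul]
  rw [hA']
  conv_lhs => rw [hMM', Matrix.map_mul, hQM]
  have hd : Matrix.diagonal (fun i => LaurentPolynomial.T ((d i : ℤ) - m) : Fin n → LaurentPolynomial k) =
      (LaurentPolynomial.T (-(m : ℤ)) : LaurentPolynomial k) • Matrix.diagonal (fun i => LaurentPolynomial.T (d i : ℤ)) := by
    rw [← Matrix.diagonal_smul]; congr 1; funext i
    show LaurentPolynomial.T ((d i : ℤ) - m) = LaurentPolynomial.T (-(m : ℤ)) * LaurentPolynomial.T (d i : ℤ)
    rw [← LaurentPolynomial.T_add, sub_eq_neg_add]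
  rw [hd, Matrix.mul_smul, Matrix.smul_mul, Matrix.mul_assoc]

end Groth.Agent.S10849
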