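import Groth.Statements.S10851
import Groth.Agent.Lib.MeroK.Basic

set_option autoImplicit false
universe u
open Mero

namespace Groth.Agent.S10851

open Groth.Agent.Lib.Ideal.EffCartier Groth.Agent.Lib.AssPt.Basic Groth.Agent.Lib.MeroK.Basic


open AlgebraicGeometry in
/-- Let X be a locally Noetherian scheme and D a divisor on X (a global section of K_X^×/O_X^×). Then
the support of D has codimension at least 1 in X: for every point z at which the germ of D is
non-trivial, the local ring O_{X,z} has Krull dimension at least 1. -/
theorem result {X : Scheme.{u}} [IsLocallyNoetherian X]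
    (D : Mero.Divisor X) (z : X) (hz : z ∈ Mero.supp D) :
    (1 : WithBot ℕ∞) ≤ ringKrullDim (X.presheaf.stalk z) := by
  by_contra hd
  refine hz (germ_eq_one_of_isUnit z (fun g hg => ?_) _)
  have hg' := regStalk_le_nonZeroDivisors z hg
  have h0 : ringKrullDim (X.presheaf.stalk z) ≤ 0 := by
    rcases hk : ringKrullDim (X.presheaf.stalk z) with _ | m
    · exact bot_le
    · rw [hk] at hd
      have : m < 1 := WithBot.coe_lt_coe.mp (not_le.mp hd)
      exact WithBot.coe_le_coe.mpr (ENat.lt_one_iff_eq_zero.mp this).le
  haveI : Ring.KrullDimLE 0 (X.presheaf.stalk z) := Ring.krullDimLE_iff.mpr h0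
  by_contra hu
  have hn : IsNilpotent g := by
    have hp : g ∈ nilradical (X.presheaf.stalk z) := by
      rw [nilradical_eq_sInf]
      refine Submodule.mem_sInf.mpr fun (p : Ideal (X.presheaf.stalk z)) hp => ?_
      haveI : p.IsPrime := hp
      haveI : p.IsMaximal := Ideal.IsPrime.isMaximal' hp
      rw [IsLocalRing.eq_maximalIdeal (inferInstance : p.IsMaximal)]
      exact hu
    exact hp
  obtain ⟨k, hk⟩ := hn
  have h1 := pow_mem hg' k
  rw [hk] at h1
  exact zero_notMem_nonZeroDivisors h1

end Groth.Agent.S10851
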