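import Groth.Statements.S10852
import Groth.Agent.Lib.GrassRep.Standard
import Groth.Agent.Lib.GrassRep.Represent

set_option autoImplicit false
universe u
open Grass

namespace Groth.Agent.S10852

open AlgebraicGeometry CategoryTheory in
/-- Let R be a commutative ring and k < n natural numbers. Suppose the scheme X over Spec R represents
the Grassmannian functor of rank-k locally free quotients of the free module R^n (bijections,
compatible with base change along R-algebra maps, between Spec R-morphisms Spec A → X and submodules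
of A^n whose quotient is finite projective of constant rank k). Then the structure morphism X → Spec
R is smooth of relative dimension k(n − k), and X has a finite open covering by subschemes each
isomorphic over Spec R to affine space of dimension k(n − k). -/
theorem result (R : Type u) [CommRing R]
    (n k : ℕ) (hk : k < n) (X : Over (Spec (CommRingCat.of R)))
    (e : ∀ A : CommAlgCat.{u} R,
      (Over.mk (Spec.map (CommRingCat.ofHom (algebraMap R A))) ⟶ X) ≃
        (Module.Grassmannian.functor (R := R) (M := Fin n → R) k).obj A)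
    (he : ∀ (A B : CommAlgCat.{u} R) (φ : A ⟶ B)
      (g : Over.mk (Spec.map (CommRingCat.ofHom (algebraMap R A))) ⟶ X)
      (g' : Over.mk (Spec.map (CommRingCat.ofHom (algebraMap R B))) ⟶ X),
      g'.left = Spec.map (CommRingCat.ofHom φ.hom.toRingHom) ≫ g.left →
        e B g' = (Module.Grassmannian.functor (R := R) (M := Fin n → R) k).map φ (e A g)) :
    SmoothOfRelativeDimension (k * (n - k)) X.hom ∧
      ∃ (ι : Type) (_ : Finite ι) (U : ι → X.left.Opens), ⨆ i, U i = ⊤ ∧
        ∀ i, Nonempty (Over.mk ((U i).ι ≫ X.hom) ≅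
          Over.mk (𝔸(ULift.{u} (Fin (k * (n - k))); Spec (CommRingCat.of R)) ↘ Spec (CommRingCat.of R))) := by
  obtain ⟨Φ, -⟩ := Groth.Agent.Lib.GrassRep.exists_iso_grass X e he
  obtain ⟨hsm, hcov⟩ := Groth.Agent.Lib.GrassRep.smooth_and_cover_grass (R := R) (n := n) (k := k)
  let ψ : X.left ≅ (Groth.Agent.Lib.GrassRep.grass R (Fin n → R) k).left := (Over.forget _).mapIso Φ
  have hw : ψ.hom ≫ Groth.Agent.Lib.GrassRep.str R (Fin n → R) k = X.hom := Over.w Φ.hom
  have hw' : ψ.inv ≫ X.hom = Groth.Agent.Lib.GrassRep.str R (Fin n → R) k := Over.w Φ.inv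
  refine ⟨?_, ?_⟩
  · rw [← hw]
    exact (MorphismProperty.cancel_left_of_respectsIso (@SmoothOfRelativeDimension (k * (n - k))) _ _).mpr hsm
  let c := fun σ : Fin k ↪ Fin n => Groth.Agent.Lib.GrassRep.chart (R := R)
    (Groth.Agent.Lib.GrassRep.Idx.single (Groth.Agent.Lib.GrassRep.stdTuple R σ)) ≫ ψ.inv
  haveI : ∀ σ, IsOpenImmersion (c σ) := fun σ =>
    haveI : IsOpenImmersion ψ.inv := IsOpenImmersion.of_isIso ψ.inv
    IsOpenImmersion.comp _ _
  refine ⟨Fin k ↪ Fin n, inferInstance, fun σ => (c σ).opensRange, ?_, fun σ => ?_⟩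
  · rw [eq_top_iff]
    rintro x -
    have hx := (Groth.Agent.Lib.GrassRep.iSup_chart_std (R := R) (n := n) (k := k)).ge
      (show ψ.hom x ∈ (⊤ : TopologicalSpace.Opens _) from trivial)
    obtain ⟨σ, y, hy⟩ := TopologicalSpace.Opens.mem_iSup.mp hx
    refine TopologicalSpace.Opens.mem_iSup.mpr ⟨σ, y, ?_⟩
    show ψ.inv _ = x
    refine (congrArg ψ.inv hy).trans ?_
    exact congrArg (fun m => (m : X.left ⟶ X.left) x) ψ.hom_inv_id
  · obtain ⟨e', he'⟩ := hcov σ
    refine ⟨Over.isoMk ((c σ).isoOpensRange.symm ≪≫ e') ?_⟩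
    show ((c σ).isoOpensRange.inv ≫ e'.hom) ≫ _ = (c σ).opensRange.ι ≫ X.hom
    refine (Category.assoc _ _ _).trans ((congrArg (_ ≫ ·) he').trans ?_)
    rw [Iso.inv_comp_eq, Scheme.Hom.isoOpensRange_hom_ι_assoc]
    simp only [c, Category.assoc]
    exact congrArg (_ ≫ ·) hw'.symm

end Groth.Agent.S10852
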