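import Groth.Statements.S10856
import Groth.Agent.Lib.MeroK.Basic

set_option autoImplicit false
universe u
open Mero

namespace Groth.Agent.S10856

open Groth.Agent.Lib.Ideal.EffCartier Groth.Agent.Lib.AssPt.Basic Groth.Agent.Lib.MeroK.Basic


open AlgebraicGeometry CategoryTheory TopologicalSpace in
/-- Let X be a scheme and f a global section of the sheaf of meromorphic functions K_X. The domain of
definition of f, i.e. the set of points x whose value f_x ∈ K_{X,x} lies in the image of the local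
ring O_{X,x}, is the underlying set of an open subscheme D of X, and D is schematically dense in X:
for every open subset V of X the restriction map from sections of O_X over V to sections over V ∩ D
is injective. -/
theorem result {X : Scheme.{u}} (f : Γ(Mero.kmod X, ⊤)) :
    ∃ D : X.Opens,
      (D : Set X) = {x | f.1 ⟨x, Opens.mem_top x⟩ ∈ (algebraMap (X.presheaf.stalk x) (Mero.KStalk X x)).range} ∧
        ∀ V : X.Opens, Function.Injective (X.presheaf.map (homOfLE (inf_le_left : V ⊓ D ≤ V)).op) := by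
  have hopen : IsOpen {x : X | f.1 ⟨x, Opens.mem_top x⟩ ∈
      (algebraMap (X.presheaf.stalk x) (Mero.KStalk X x)).range} := by
    refine isOpen_iff_forall_mem_open.mpr fun x hx => ?_
    obtain ⟨g, hg⟩ := hx
    obtain ⟨V, hV, hxV, a, b, h⟩ := exists_rep f ⟨x, trivial⟩
    obtain ⟨W, hxW, c, rfl⟩ := X.presheaf.exists_germ_eq g
    have he : X.presheaf.germ W x hxW c * X.presheaf.germ V x hxV b.1 =
        X.presheaf.germ V x hxV a := by
      refine Mero.algebraMap_KStalk_injective x ?_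
      rw [map_mul, hg]
      exact h x hxV
    rw [← TopCat.Presheaf.germ_res_apply X.presheaf (homOfLE inf_le_left : W ⊓ V ⟶ W) x
      ⟨hxW, hxV⟩ c, ← TopCat.Presheaf.germ_res_apply X.presheaf
      (homOfLE inf_le_right : W ⊓ V ⟶ V) x ⟨hxW, hxV⟩ b.1,
      ← TopCat.Presheaf.germ_res_apply X.presheaf
      (homOfLE inf_le_right : W ⊓ V ⟶ V) x ⟨hxW, hxV⟩ a, ← map_mul] at he
    obtain ⟨T, hxT, i, j, hij⟩ := TopCat.Presheaf.germ_eq X.presheaf x _ _ _ _ he
    refine ⟨T, fun y hy => ⟨X.presheaf.germ W y (i.le hy).1 c, ?_⟩, T.isOpen, hxT⟩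
    have hij' := congrArg (X.presheaf.germ T y hy) hij
    rw [TopCat.Presheaf.germ_res_apply, TopCat.Presheaf.germ_res_apply, map_mul,
      TopCat.Presheaf.germ_res_apply, TopCat.Presheaf.germ_res_apply,
      TopCat.Presheaf.germ_res_apply] at hij'
    refine (IsLocalization.map_units (Mero.KStalk X y)
      ⟨_, Mero.germ_mem_regStalk ⟨y, (i.le hy).2⟩ b.2⟩).mul_left_injective ?_
    simp only
    rw [← map_mul, hij']
    exact (h y (i.le hy).2).symm
  refine ⟨⟨_, hopen⟩, rfl, fun V => ?_⟩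
  rw [injective_iff_map_eq_zero]
  intro r hr
  refine section_eq_zero_of_germs r fun x hx => ?_
  obtain ⟨W, hW, hxW, a, b, h⟩ := exists_rep f ⟨x, trivial⟩
  obtain ⟨U, hU, hxU, hle⟩ := exists_isAffineOpen_mem_and_subset
    (show x ∈ V ⊓ W from ⟨hx, hxW⟩)
  have hUV : U ≤ V := fun z hz => (hle hz).1
  have hUW : U ≤ W := fun z hz => (hle hz).2
  suffices h0 : X.presheaf.map (homOfLE hUV).op r = 0 by
    rw [← TopCat.Presheaf.germ_res_apply X.presheaf (homOfLE hUV) x hxU, h0, map_zero]
  refine eq_zero_of_germ_eq_zero_maxAssoc _ fun y hy hay => ?_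
  rw [TopCat.Presheaf.germ_res_apply]
  obtain ⟨d, hd⟩ := isUnit_of_nzd_of_maxAssoc hay (b.2 ⟨y, hUW hy⟩)
  have hyD : f.1 ⟨y, Opens.mem_top y⟩ ∈
      (algebraMap (X.presheaf.stalk y) (Mero.KStalk X y)).range := by
    refine ⟨X.presheaf.germ W y (hUW hy) a * (↑d⁻¹ : X.presheaf.stalk y), ?_⟩
    refine (IsLocalization.map_units (Mero.KStalk X y)
      ⟨_, Mero.germ_mem_regStalk ⟨y, hUW hy⟩ b.2⟩).mul_left_injective ?_
    simp only
    rw [← map_mul, mul_assoc, ← hd, Units.inv_mul, mul_one, hd]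
    exact (h y (hUW hy)).symm
  rw [← TopCat.Presheaf.germ_res_apply X.presheaf
    (homOfLE inf_le_left : V ⊓ (⟨_, hopen⟩ : X.Opens) ⟶ V) y ⟨hUV hy, hyD⟩, hr, map_zero]

end Groth.Agent.S10856
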