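import Groth.Statements.S10857
import Groth.Agent.Lib.Modules.GenStalk
import Groth.Agent.Lib.Modules.StalkModule
import Groth.Agent.Lib.Modules.Stalk

set_option autoImplicit false
universe u
open QCohSup
open Groth.Agent.Lib.Modules

namespace Groth.Agent.S10857

open AlgebraicGeometry CategoryTheory CategoryTheory.Limits in
/-- Take a quasi-compact scheme X, a finite-type quasi-coherent O_X-module F, and G a quasi-coherent
O_X-module which is the colimit of a filtered diagram of quasi-coherent O_X-modules G_j. A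
homomorphism u : G → F is an epimorphism if and only if there is an index j₀ such that for every
index j admitting a map from j₀ the composite G_j → G → F is an epimorphism. -/
theorem result {X : Scheme.{u}} [CompactSpace X]
    {J : Type u} [SmallCategory J] [IsFiltered J] (D : J ⥤ X.Modules) [∀ j, Coh.IsQCoh (D.obj j)]
    (c : Cocone D) (hc : IsColimit c) [Coh.IsQCoh c.pt]
    (F : X.Modules) [Coh.IsQCoh F] (hF : CohB1.IsFT F) (u : c.pt ⟶ F) :
    Epi u ↔ ∃ j₀ : J, ∀ j : J, Nonempty (j₀ ⟶ j) → Epi (c.ι.app j ≫ u) := by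
  
  refine ⟨fun hu => ?_, fun ⟨j₀, h⟩ => @epi_of_epi _ _ _ _ _ (c.ι.app j₀) u (h j₀ ⟨𝟙 j₀⟩)⟩
  classical
  have mono_range : ∀ {i j : J} (_ : i ⟶ j) (y : X) {t : F.presheaf.stalk y},
      t ∈ Set.range ((Stalk.stalkFunctor X y).map (c.ι.app i ≫ u)) →
      t ∈ Set.range ((Stalk.stalkFunctor X y).map (c.ι.app j ≫ u)) := by
    rintro i j f y t ⟨a, rfl⟩
    refine ⟨(Stalk.stalkFunctor X y).map (D.map f) a, ?_⟩
    rw [← ConcreteCategory.comp_apply, ← Functor.map_comp, c.w_assoc]
  have loc : ∀ x : X, ∃ (V : X.Opens) (j : J), x ∈ V ∧ ∀ y ∈ V,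
      Function.Surjective ((Stalk.stalkFunctor X y).map (c.ι.app j ≫ u)) := by
    intro x
    obtain ⟨W, hxW, n, s, hs⟩ := @GenStalk.exists_span_stalk_of_isFiniteType _ F hF x
    have one : ∀ k : Fin n, ∃ (V : X.Opens) (j : J), x ∈ V ∧ ∀ (y : X) (_ : y ∈ V) (hy : y ∈ W),
        F.presheaf.germ W y hy (s k) ∈ Set.range ((Stalk.stalkFunctor X y).map (c.ι.app j ≫ u)) := by
      intro k
      obtain ⟨a, ha⟩ := (Stalk.epi_iff_stalk_surjective u).1 hu x (F.presheaf.germ W x hxW (s k))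
      have hcol := isColimitOfPreserves (Stalk.stalkFunctor X x ⋙ forget AddCommGrpCat.{u}) hc
      obtain ⟨j, b, hb⟩ := Types.jointly_surjective_of_isColimit hcol a
      obtain ⟨V, hxV, g, hg⟩ := TopCat.Presheaf.exists_germ_eq (D.obj j).presheaf b
      have e : F.presheaf.germ V x hxV ((c.ι.app j ≫ u).app V g) = F.presheaf.germ W x hxW (s k) := by
        refine (Stalk.stalkFunctor_map_germ x _ hxV g).symm.trans ?_
        rw [Functor.map_comp]
        show (Stalk.stalkFunctor X x).map u ((Stalk.stalkFunctor X x).map (c.ι.app j) ((D.obj j).presheaf.germ V x hxV g)) = _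
        exact (congrArg _ ((congrArg _ hg).trans hb)).trans ha
      obtain ⟨V', hxV', i₁, i₂, e'⟩ := F.presheaf.germ_eq x hxV hxW _ _ e
      refine ⟨V', j, hxV', fun y hyV hyW => ⟨(D.obj j).presheaf.germ V y (i₁.le hyV) g, ?_⟩⟩
      rw [Stalk.stalkFunctor_map_germ, ← TopCat.Presheaf.germ_res_apply F.presheaf i₁ y hyV, e',
        TopCat.Presheaf.germ_res_apply]
    choose V j hV hj using one
    obtain ⟨S, hS⟩ := IsFiltered.sup_objs_exists (Finset.univ.image j)
    let U : X.Opens := ⟨(W : Set X) ∩ ⋂ k, (V k : Set X), W.2.inter (isOpen_iInter_of_finite fun k => (V k).2)⟩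
    refine ⟨U, S, ⟨hxW, Set.mem_iInter.mpr hV⟩, fun y hy => ?_⟩
    have hr : LinearMap.range (StalkModule.stalkMapₗ (c.ι.app S ≫ u) y) = ⊤ := by
      rw [eq_top_iff, ← hs y hy.1, Submodule.span_le]
      rintro _ ⟨k, rfl⟩
      exact mono_range (hS (Finset.mem_image.mpr ⟨k, Finset.mem_univ _, rfl⟩)).some y
        (hj k y (Set.mem_iInter.mp hy.2 k) hy.1)
    exact LinearMap.range_eq_top.mp hr
  choose V j hV hj using loc
  obtain ⟨K, hK⟩ := (isCompact_univ : IsCompact (Set.univ : Set X)).elim_finite_subcover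
    (fun x => (V x : Set X)) (fun x => (V x).2) (fun x _ => Set.mem_iUnion.mpr ⟨x, hV x⟩)
  obtain ⟨S, hS⟩ := IsFiltered.sup_objs_exists (K.image j)
  refine ⟨S, fun i ⟨f⟩ => (Stalk.epi_iff_stalk_surjective _).2 fun y t => ?_⟩
  obtain ⟨x, hxK, hyx⟩ := Set.mem_iUnion₂.mp (hK (Set.mem_univ y))
  exact mono_range ((hS (Finset.mem_image.mpr ⟨x, hxK, rfl⟩)).some ≫ f) y (hj x y hyx t)

end Groth.Agent.S10857
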