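import Groth.Statements.S10858
import Groth.Agent.Lib.KVec.Pull
import Groth.Agent.Lib.TensorMod.FPCrit
import Groth.Agent.Lib.TensorMod.FPConv
import Groth.Agent.Lib.ModSiteLoc.Ops
import Groth.Agent.Lib.ModelFibre.MaxPoint
import Groth.Agent.Lib.Modules.GenStalk
import Groth.Agent.Lib.Perfect.Coherent
import Mathlib.RingTheory.LocalRing.Module

set_option autoImplicit false
set_option linter.style.haveILetI false
universe u
open RepF

namespace Groth.Agent.S10858

section
open AlgebraicGeometry CategoryTheory CategoryTheory.Limits
open Groth.Agent.Lib Groth.Agent.Lib.Modules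
open scoped TensorProduct

/-- Injectivity after pullback to the residue field gives a splitting on the stalk. -/
theorem split_at {S : Scheme.{u}} {U E : S.Modules}
    [SheafOfModules.IsFiniteType (R := S.ringCatSheaf) U] (hE : FlatMod.IsFinLocFree E) (ι : U ⟶ E)
    (h : ∀ s : S, Mono ((Scheme.Modules.pullback (S.fromSpecResidueField s)).map ι)) (s : S) :
    ∃ r : E.presheaf.stalk s →ₗ[S.presheaf.stalk s] U.presheaf.stalk s,
      r ∘ₗ StalkModule.stalkMapₗ ι s = LinearMap.id := by
  let g := S.fromSpecResidueField s
  let x : Spec (S.residueField s) := IsLocalRing.closedPoint (S.residueField s)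
  have hx : g.base x = s := S.fromSpecResidueField_apply s x
  suffices H : ∃ r : E.presheaf.stalk (g.base x) →ₗ[S.presheaf.stalk (g.base x)] U.presheaf.stalk (g.base x),
      r ∘ₗ StalkModule.stalkMapₗ ι (g.base x) = LinearMap.id by
    generalize g.base x = t at hx H
    subst hx
    exact H
  let A := S.presheaf.stalk (g.base x)
  let L := (Spec (S.residueField s)).presheaf.stalk x
  let φ : A →+* L := (g.stalkMap x).hom
  letI : Algebra A L := φ.toAlgebra
  let l := StalkModule.stalkMapₗ ι (g.base x)
  haveI := h s
  haveI : IsIso (DerivedOX.PullbackStalk.comparison g x) := DerivedOX.PullbackStalk.isIso_comparison g x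
  have hb : Function.Injective ((Scheme.Modules.pullback g ⋙ StalkModule.stalkModFunctor _ x).map ι) :=
    (StalkModule.mono_iff_stalkMapₗ_injective _).1 ‹_› x
  have hc : Function.Injective ((DerivedOX.PullbackStalk.comparison g x).app U) :=
    (ConcreteCategory.bijective_of_isIso ((DerivedOX.PullbackStalk.comparison g x).app U)).1
  have hinj : Function.Injective (l.lTensor L) := fun a b hab => hc (hb (by
    have e := fun t => ConcreteCategory.congr_hom
      ((DerivedOX.PullbackStalk.comparison g x).naturality ι) t
    exact (e a).symm.trans ((congrArg ((DerivedOX.PullbackStalk.comparison g x).app E) hab).trans (e b))))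
  haveI : Subsingleton (Spec (S.residueField s)) :=
    inferInstanceAs (Subsingleton (PrimeSpectrum (S.residueField s)))
  haveI : AlgebraicGeometry.IsReduced (Spec (S.residueField s)) := inferInstance
  have hker : RingHom.ker φ = IsLocalRing.maximalIdeal A := by
    have hL : IsLocalRing.maximalIdeal L = ⊥ :=
      IsLocalRing.isField_iff_maximalIdeal_eq.1
        (ModelFibre.MaxPoint.isField_stalk fun _ _ => Subsingleton.elim _ _)
    haveI : IsLocalHom φ := inferInstanceAs (IsLocalHom (g.stalkMap x).hom)
    rw [RingHom.ker_eq_comap_bot, ← hL, IsLocalRing.maximalIdeal_comap φ]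
  let e : IsLocalRing.ResidueField A ≃ₗ[A] L :=
    (Submodule.quotEquivOfEq _ (LinearMap.ker (Algebra.linearMap A L))
      (show IsLocalRing.maximalIdeal A = _ from hker.symm.trans rfl)).trans
      ((Algebra.linearMap A L).quotKerEquivOfSurjective (g.stalkMap_surjective x))
  have hres : Function.Injective (l.lTensor (IsLocalRing.ResidueField A)) := by
    have key : ∀ z, LinearMap.rTensor _ e.toLinearMap (l.lTensor (IsLocalRing.ResidueField A) z) =
        l.lTensor L (LinearMap.rTensor _ e.toLinearMap z) := fun z => by
      rw [← LinearMap.comp_apply, ← LinearMap.comp_apply, LinearMap.rTensor_comp_lTensor,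
        LinearMap.lTensor_comp_rTensor]
    intro a b hab
    apply (TensorProduct.congr e (LinearEquiv.refl A _)).injective
    exact hinj ((key a).symm.trans ((congrArg _ hab).trans (key b)))
  haveI : Projective ((StalkModule.stalkModFunctor S (g.base x)).obj E) :=
    Devissage.LocFreeK0.projective_of_locFree hE (g.base x)
  haveI : SheafOfModules.IsFinitePresentation (R := S.ringCatSheaf) E :=
    TensorMod.FPConv.isFP_of_isFinLocFree hE
  haveI : SheafOfModules.IsFiniteType (R := S.ringCatSheaf) E :=
    (Perfect.Coherent.isCoh_of_isFinLocFree hE).2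
  haveI : Module.Finite A (E.presheaf.stalk (g.base x)) := GenStalk.finite_stalk E _
  haveI : Module.Finite A (U.presheaf.stalk (g.base x)) := GenStalk.finite_stalk U _
  haveI : Module.Projective A (E.presheaf.stalk (g.base x)) :=
    (IsProjective.iff_projective _).2 ‹_›
  haveI : Module.Flat A (E.presheaf.stalk (g.base x)) := Module.Flat.of_projective
  haveI : Module.Free A (E.presheaf.stalk (g.base x)) := Module.free_of_flat_of_isLocalRing
  exact (IsLocalRing.split_injective_iff_lTensor_residueField_injective l).2 hres

/-- Split stalks give a monomorphism with locally free cokernel. -/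
theorem mono_and_locFree {S : Scheme.{u}} {U E : S.Modules}
    [hU : SheafOfModules.IsFiniteType (R := S.ringCatSheaf) U] (hE : FlatMod.IsFinLocFree E) (ι : U ⟶ E)
    (h : ∀ s, ∃ r : E.presheaf.stalk s →ₗ[S.presheaf.stalk s] U.presheaf.stalk s,
      r ∘ₗ StalkModule.stalkMapₗ ι s = LinearMap.id) :
    Mono ι ∧ FlatMod.IsFinLocFree (cokernel ι) := by
  haveI hm : Mono ι := (StalkModule.mono_iff_stalkMapₗ_injective ι).2 fun s => by
    obtain ⟨r, hr⟩ := h s
    exact Function.HasLeftInverse.injective ⟨r, LinearMap.congr_fun hr⟩
  haveI : SheafOfModules.IsFinitePresentation (R := S.ringCatSheaf) E :=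
    TensorMod.FPConv.isFP_of_isFinLocFree hE
  haveI : SheafOfModules.IsFinitePresentation (R := S.ringCatSheaf) (cokernel ι) :=
    ModSiteLoc.Ops.isFinitePresentation_cokernel (O := S.sheaf) ι
  refine ⟨hm, @TensorMod.FPCrit.isFinLocFree_of_free_stalks _ _ ‹_› fun s => ?_⟩
  obtain ⟨r, hr⟩ := h s
  let l := StalkModule.stalkMapₗ ι s
  let π := StalkModule.stalkMapₗ (cokernel.π ι) s
  have hs : Function.Surjective π :=
    (StalkModule.epi_iff_stalkMapₗ_surjective (cokernel.π ι)).1 inferInstance s
  have hex : Function.Exact l π := fun z =>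
    ⟨fun hz => (ShortComplex.ab_exact_iff _).1
      ((Stalk.exact_iff_stalk _).1 (ShortComplex.exact_cokernel ι) s) z hz, fun ⟨w, hw⟩ => by
      rw [← hw, ← LinearMap.comp_apply, ← StalkModule.stalkMapₗ_comp, cokernel.condition,
        StalkModule.stalkMapₗ_zero, LinearMap.zero_apply]⟩
  have hinj : Function.Injective l := Function.HasLeftInverse.injective ⟨r, LinearMap.congr_fun hr⟩
  have htf := (Function.Exact.split_tfae hex hinj hs).out 0 1
  obtain ⟨t, ht⟩ : ∃ t, π ∘ₗ t = LinearMap.id := htf.2 ⟨r, hr⟩
  haveI : Projective ((StalkModule.stalkModFunctor S s).obj E) :=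
    Devissage.LocFreeK0.projective_of_locFree hE s
  haveI : Module.Projective (S.presheaf.stalk s) (E.presheaf.stalk s) :=
    (IsProjective.iff_projective _).2 ‹_›
  haveI : Module.Projective (S.presheaf.stalk s) ((cokernel ι).presheaf.stalk s) :=
    Module.Projective.of_split t π ht
  haveI : SheafOfModules.IsFinitePresentation (R := S.ringCatSheaf) E :=
    TensorMod.FPConv.isFP_of_isFinLocFree hE
  haveI : SheafOfModules.IsFiniteType (R := S.ringCatSheaf) E :=
    (Perfect.Coherent.isCoh_of_isFinLocFree hE).2
  haveI : Module.Finite (S.presheaf.stalk s) (E.presheaf.stalk s) := GenStalk.finite_stalk E _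
  haveI : Module.Finite (S.presheaf.stalk s) ((cokernel ι).presheaf.stalk s) :=
    Module.Finite.of_surjective π hs
  haveI : Module.Flat (S.presheaf.stalk s) ((cokernel ι).presheaf.stalk s) := Module.Flat.of_projective
  exact Module.free_of_flat_of_isLocalRing

end

open AlgebraicGeometry CategoryTheory CategoryTheory.Limits in
/-- Equivalence of (ii), (iv) and (iii): let S be a scheme and ι : U → E a homomorphism of O_S-modules
with U of finite type and E finite locally free. Then ι is a monomorphism with finite locally free
cokernel if and only if the pullback f^*ι is a monomorphism for every morphism of schemes f : T → S,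
and this holds if and only if the pullback of ι along Spec κ(s) → S (the fibre map U(s) → E(s)) is a
monomorphism for every point s of S. (Two further equivalent conditions of the published statement,
splitting on affine opens and surjectivity of the dual map, are not included.) -/
theorem result {S : Scheme.{u}}
    {U E : S.Modules} (hU : CohB1.IsFT U) (hE : FlatMod.IsFinLocFree E) (ι : U ⟶ E) :
    ((Mono ι ∧ FlatMod.IsFinLocFree (cokernel ι)) ↔
        ∀ (T : Scheme.{u}) (f : T ⟶ S), Mono ((Scheme.Modules.pullback f).map ι)) ∧
      ((∀ (T : Scheme.{u}) (f : T ⟶ S), Mono ((Scheme.Modules.pullback f).map ι)) ↔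
        ∀ s : S, Mono ((Scheme.Modules.pullback (S.fromSpecResidueField s)).map ι)) := by
  haveI : SheafOfModules.IsFiniteType (R := S.ringCatSheaf) U := hU
  have h23 : (Mono ι ∧ FlatMod.IsFinLocFree (cokernel ι)) →
      ∀ (T : Scheme.{u}) (f : T ⟶ S), Mono ((Scheme.Modules.pullback f).map ι) := by
    rintro ⟨hm, hc⟩ T f
    haveI := hm
    exact (Lib.KVec.Pull.shortExact_pullback f
      (S := ShortComplex.mk ι (cokernel.π ι) (cokernel.condition ι))
      (ShortComplex.ShortExact.mk' (ShortComplex.exact_cokernel ι) inferInstance inferInstance) hc).mono_f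
  have h34 : (∀ s : S, Mono ((Scheme.Modules.pullback (S.fromSpecResidueField s)).map ι)) →
      Mono ι ∧ FlatMod.IsFinLocFree (cokernel ι) :=
    fun h => mono_and_locFree hE ι (split_at hE ι h)
  exact ⟨⟨h23, fun h => h34 fun s => h _ _⟩, ⟨fun h s => h _ _, fun h => h23 (h34 h)⟩⟩

end Groth.Agent.S10858
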