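import Groth.Statements.S1086
import Groth.Agent.Lib.Fil.Obj


set_option autoImplicit false
universe v u
open CategoryTheory CategoryTheory.Limits Opposite
open FilD

namespace Groth.Agent.S1086

/-- Let φ : X ⟶ Y be a morphism of finite filtered objects of an abelian category and let Ker φ carry
the induced filtration (the kernel computed levelwise). Then φ is strict if and only if for every p
the sequence grᵖ(Ker φ) ⟶ grᵖ X ⟶ grᵖ Y is exact. -/
theorem result {A : Type u} [Category.{v} A] [Abelian A] {X Y : FilD.FilF A} (φ : X ⟶ Y) :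
    FilD.IsStrict φ ↔
      ∀ p : ℤ, ((ShortComplex.mk (kernel.ι φ.hom) φ.hom (kernel.condition φ.hom)).map (FilD.gr A p)).Exact := by
  rw [Groth.Agent.Lib.Fil.Raw.isStrict_iff]
  constructor
  · intro hs p
    rw [ShortComplex.exact_iff_exact_up_to_refinements]
    intro T xb hxb
    change T ⟶ (FilD.gr A p).obj X.obj at xb
    obtain ⟨T₁, e₁, he₁, x, hx⟩ := Groth.Agent.Lib.Fil.Raw.exists_lift_π (F := X.obj) p xb
    change xb ≫ (FilD.gr A p).map φ.hom = 0 at hxb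
    obtain ⟨T₂, e₂, he₂, y, hy⟩ := Groth.Agent.Lib.Fil.Raw.exists_of_π_eq_zero p (x ≫ φ.hom.app (op p)) (by
      rw [Category.assoc, ← Groth.Agent.Lib.Fil.Raw.π_map, ← reassoc_of% hx, hxb, comp_zero])
    obtain ⟨T₃, e₃, he₃, x', hx'⟩ := hs.step p (e₂ ≫ x) y (by rw [Category.assoc, hy])
    have hk : (e₃ ≫ e₂ ≫ x - x' ≫ Groth.Agent.Lib.Fil.Raw.st X.obj p) ≫ φ.hom.app (op p) = 0 := by
      rw [Preadditive.sub_comp, Category.assoc, Category.assoc, Category.assoc, hy,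
        Groth.Agent.Lib.Fil.Raw.st_naturality, reassoc_of% hx', sub_self]
    obtain ⟨T₄, e₄, he₄, k, hk'⟩ : ∃ (T' : A) (e : T' ⟶ T₃) (_ : Epi e)
        (z : T' ⟶ (kernel φ.hom).obj (op p)),
        e ≫ (e₃ ≫ e₂ ≫ x - x' ≫ Groth.Agent.Lib.Fil.Raw.st X.obj p) = z ≫ (kernel.ι φ.hom).app (op p) :=
      ((ShortComplex.exact_of_f_is_kernel (ShortComplex.mk (kernel.ι φ.hom) φ.hom (kernel.condition φ.hom))
        (kernelIsKernel φ.hom)).map ((evaluation ℤᵒᵖ A).obj (op p))).exact_up_to_refinements _ hk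
    refine ⟨T₄, e₄ ≫ e₃ ≫ e₂ ≫ e₁, inferInstance, k ≫ Groth.Agent.Lib.Fil.Raw.π _ p, ?_⟩
    change (e₄ ≫ e₃ ≫ e₂ ≫ e₁) ≫ xb = (k ≫ Groth.Agent.Lib.Fil.Raw.π (kernel φ.hom) p) ≫ (FilD.gr A p).map (kernel.ι φ.hom)
    rw [show (k ≫ Groth.Agent.Lib.Fil.Raw.π (kernel φ.hom) p) ≫ (FilD.gr A p).map (kernel.ι φ.hom) =
      k ≫ (kernel.ι φ.hom).app (op p) ≫ Groth.Agent.Lib.Fil.Raw.π X.obj p from
        (Category.assoc _ _ _).trans (congrArg (k ≫ ·) (Groth.Agent.Lib.Fil.Raw.π_map _ p)), ← reassoc_of% hk']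
    simp [hx]
  · intro h
    exact Groth.Agent.Lib.Fil.Obj.strict_right_of_gr (kernel.ι φ.hom) φ.hom (kernel.condition φ.hom)
      (fun p T x hx => (h p).exact_up_to_refinements x hx) (Groth.Agent.Lib.Fil.Obj.mono_st Y)

end Groth.Agent.S1086
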