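import Groth.Statements.S10860
import Mathlib.AlgebraicGeometry.ZariskisMainTheorem
import Groth.Agent.H75.Birat.GenFinite

set_option autoImplicit false
universe u
open Mor

namespace Groth.Agent.S10860

open CategoryTheory AlgebraicGeometry in
/-- For a proper morphism f : X → Y, the set V of points of Y with finite fibre is open, and f
restricted over V is finite (stated as the existence of an open subscheme of Y whose underlying set
is exactly V and over which f is finite). -/
theorem result {X Y : Scheme.{u}} (f : X ⟶ Y) [IsProper f] :
    ∃ U : Y.Opens, (U : Set Y) = {y : Y | (f.base ⁻¹' {y}).Finite} ∧ IsFinite (f ∣_ U) := by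
    choose V hyV hV using fun y : {y : Y | (f.base ⁻¹' {y}).Finite} =>
      exists_isFinite_morphismRestrict_of_finite_preimage_singleton y.1 y.2 (f := f)
    refine ⟨⨆ y, V y, ?_, ?_⟩
    · ext y
      refine ⟨fun hy => ?_, fun hy => TopologicalSpace.Opens.mem_iSup.mpr ⟨⟨y, hy⟩, hyV ⟨y, hy⟩⟩⟩
      obtain ⟨z, hz⟩ := TopologicalSpace.Opens.mem_iSup.mp hy
      have := hV z
      exact H75.Birat.finite_preimage_of_isFinite_restrict f hz
    · exact H75.Birat.isFinite_restrict_iSup f V hV

end Groth.Agent.S10860
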