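import Groth.Statements.S10863
import Mathlib

set_option autoImplicit false
universe u
open CAlg

namespace Groth.Agent.S10863

open TensorProduct in
theorem card_fiber (k' B Ω : Type u) [Field k'] [CommRing B] [Algebra k' B] [Module.Finite k' B]
    [Field Ω] [Algebra k' Ω] [IsAlgClosed Ω] (m : MaximalSpectrum B) :
    Field.finSepDegree k' (IsLocalRing.ResidueField (Localization.AtPrime m.asIdeal)) =
      Nat.card {f : B →ₐ[k'] Ω // RingHom.ker f = m.asIdeal} := by
  have hsurj := Ideal.algebraMap_residueField_surjective m.asIdeal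
  haveI : Module.Finite k' m.asIdeal.ResidueField := Module.Finite.trans B m.asIdeal.ResidueField
  change Field.finSepDegree k' m.asIdeal.ResidueField = _
  rw [Field.finSepDegree_eq_of_isAlgClosed k' m.asIdeal.ResidueField Ω]
  refine Nat.card_congr (Equiv.ofBijective (fun g =>
    ⟨g.comp (IsScalarTower.toAlgHom k' B m.asIdeal.ResidueField), ?_⟩) ⟨fun g g' h => ?_, ?_⟩)
  · ext x
    rw [RingHom.mem_ker, AlgHom.comp_apply, map_eq_zero, IsScalarTower.coe_toAlgHom',
      Ideal.algebraMap_residueField_eq_zero]
  · refine AlgHom.ext fun z => ?_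
    obtain ⟨b, rfl⟩ := hsurj z
    exact AlgHom.congr_fun (congrArg Subtype.val h) b
  · rintro ⟨f, hf⟩
    refine ⟨Ideal.ResidueField.liftₐ m.asIdeal f hf.ge fun x hx => ?_, Subtype.ext ?_⟩
    · refine (Ne.isUnit (a := f x) fun h0 => hx ?_ : IsUnit (f x))
      rw [← hf]; exact h0
    · exact Ideal.ResidueField.liftₐ_comp_toAlgHom _ _ _ _

open TensorProduct in
/-- Let k be a field, A a finite-dimensional local k-algebra with residue field κ, and k' a field
extension of k. Then the separable degree of κ over k equals the sum over the maximal ideals m' of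
k' ⊗_k A (the points of the base-changed finite scheme lying over the given point) of the separable
degrees over k' of their residue fields. -/
theorem result (k A k' : Type u) [Field k] [CommRing A] [Algebra k A]
    [Module.Finite k A] [IsLocalRing A] [Field k'] [Algebra k k'] :
    Field.finSepDegree k (IsLocalRing.ResidueField A) =
      ∑ᶠ m : MaximalSpectrum (k' ⊗[k] A),
        Field.finSepDegree k' (IsLocalRing.ResidueField (Localization.AtPrime m.asIdeal)) := by
  classical
  let B := k' ⊗[k] A
  let Ω := AlgebraicClosure k'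
  haveI : Module.Finite k' B := Module.Finite.base_change k k' A
  haveI : IsArtinianRing B := isArtinian_of_tower k' inferInstance
  haveI : IsArtinianRing A := isArtinian_of_tower k inferInstance
  haveI : Fintype (MaximalSpectrum B) := Fintype.ofFinite _
  haveI : Module.Finite k (IsLocalRing.ResidueField A) :=
    Module.Finite.of_surjective (IsScalarTower.toAlgHom k A (IsLocalRing.ResidueField A)).toLinearMap
      IsLocalRing.residue_surjective
  rw [finsum_eq_sum_of_fintype, Finset.sum_congr rfl fun m _ => card_fiber k' B Ω m,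
    Field.finSepDegree_eq_of_isAlgClosed k (IsLocalRing.ResidueField A) Ω]
  haveI : Finite (B →ₐ[k'] Ω) := Finite.algHom k' B Ω
  rw [← Nat.card_sigma]
  let toMax : (B →ₐ[k'] Ω) → MaximalSpectrum B := fun f =>
    ⟨RingHom.ker f, by
      haveI : (RingHom.ker f).IsPrime := RingHom.ker_isPrime f
      exact IsArtinianRing.isMaximal_of_isPrime _⟩
  refine Nat.card_congr (Equiv.trans ?_ (((Algebra.TensorProduct.liftEquivRight k k' A Ω).trans
    (Equiv.sigmaFiberEquiv toMax).symm).trans (Equiv.sigmaCongrRight fun m =>
      Equiv.subtypeEquivRight fun f => MaximalSpectrum.ext_iff)))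
  refine Equiv.ofBijective (fun g => g.comp (IsScalarTower.toAlgHom k A (IsLocalRing.ResidueField A)))
    ⟨fun g g' h => ?_, fun f => ?_⟩
  · refine AlgHom.ext fun z => ?_
    obtain ⟨a, rfl⟩ := IsLocalRing.residue_surjective z
    exact AlgHom.congr_fun h a
  · haveI : (RingHom.ker f).IsPrime := RingHom.ker_isPrime f
    have hmax : RingHom.ker f = IsLocalRing.maximalIdeal A :=
      IsLocalRing.eq_maximalIdeal (IsArtinianRing.isMaximal_of_isPrime _)
    refine ⟨Ideal.Quotient.liftₐ (IsLocalRing.maximalIdeal A) f
      (fun a ha => by rw [← hmax] at ha; exact ha), ?_⟩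
    exact AlgHom.ext fun a => rfl

end Groth.Agent.S10863
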