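import Groth.Statements.S10865
import Groth.Agent.Lib.CohDelta.IdealMul.DevTools

set_option autoImplicit false
set_option linter.style.haveILetI false
universe u
open Coherent

namespace Groth.Agent.S10865

open Groth.Agent.Lib.Devissage.Basic Groth.Agent.Lib.CohDelta.IdealMul.Sec Groth.Agent.Lib.CohDelta.IdealMul.DevExt
  Groth.Agent.Lib.CohDelta.IdealMul.DevTools Groth.Agent.Lib.Modules.StalkModule

open CategoryTheory CategoryTheory.Limits AlgebraicGeometry in
/-- Let X be a nonempty Noetherian scheme and K an isomorphism-closed class of O_X-modules such that (a)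
in a short exact sequence of coherent modules, if the middle and right terms lie in K so does the
left one, and if the two outer terms lie in K so does the middle one; (b) if a coherent F has some
d-fold direct sum (d ≥ 1) in K then F lies in K. If for every integral closed subscheme i : Z → X
there is a coherent O_Z-module with nonzero stalk at the generic point whose direct image under i
lies in K, then every coherent O_X-module lies in K. (For the empty scheme the hypotheses hold for
the empty class, so X is taken nonempty here.) -/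
theorem result (X : Scheme.{u}) [IsNoetherian X] [Nonempty X]
    (K : ObjectProperty X.Modules) [K.IsClosedUnderIsomorphisms]
    (ha : ∀ S : ShortComplex X.Modules, S.ShortExact → Coh.IsCoh S.X₁ → Coh.IsCoh S.X₂ → Coh.IsCoh S.X₃ →
      (K S.X₂ → K S.X₃ → K S.X₁) ∧ (K S.X₁ → K S.X₃ → K S.X₂))
    (hb : ∀ (F : X.Modules) (d : ℕ), 1 ≤ d → Coh.IsCoh F → K (∐ fun _ : Fin d => F) → K F)
    (hgen : ∀ (Z : Scheme.{u}) (i : Z ⟶ X) [IsClosedImmersion i] [IsIntegral Z],
      ∃ H : Z.Modules, Coh.IsCoh H ∧ Nontrivial (H.presheaf.stalk (genericPoint Z)) ∧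
        K ((Scheme.Modules.pushforward i).obj H))
    (F : X.Modules) (hF : Coh.IsCoh F) : K F := by
  classical
  have iso : ∀ M N : X.Modules, Nonempty (M ≅ N) → K M → K N := fun M N ⟨e⟩ h =>
    ObjectProperty.IsClosedUnderIsomorphisms.of_iso e h
  have h0 : ∀ M, IsZero M → K M := by
    obtain ⟨x⟩ := (inferInstance : Nonempty X)
    obtain ⟨Z, i, hi, hZ, -, -⟩ := Groth.Agent.Lib.CohDelta.DevApps.exists_integral x
    obtain ⟨H, hH, -, hK⟩ := @hgen Z i hi hZ
    exact Groth.Agent.Lib.CohDelta.DevApps.of_isZero (T := Set.univ)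
      (fun S hS a b c _ => (ha S hS a b c).1) (haveI := hi; Groth.Agent.Lib.Cyc.Dev.SchemeEquiv.isCoh_push i hH)
      (Set.subset_univ _) hK
  suffices ∀ T : TopologicalSpace.Closeds X, ∀ G, CohIn (T : Set X) G → K G from
    this ⊤ F ⟨hF, Set.subset_univ _⟩
  intro T
  induction T using WellFoundedLT.induction with
  | ind T ih =>
    intro G hG
    refine Groth.Agent.Lib.CohDelta.Filtration.devissage (fun M => K M) T h0 iso
      (fun S hS a b c => (ha S hS a.1 b.1 c.1).2) (fun Z i hi hZ hr I ι hι hI hne => ?_) G hG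
    obtain ⟨H, hH, hHne, hKH⟩ := @hgen Z i hi hZ
    let y := i (genericPoint Z)
    have hrange : Set.range i = closure {y} := range_eq_closure i
    have hy : y ∈ (T : Set X) := hr ⟨_, rfl⟩
    have small : ∀ D, CohIn (closure {y}) D → y ∉ CohB1.support D → K D := by
      intro D hD hyD
      haveI := hD.1.2
      let T' : TopologicalSpace.Closeds X :=
        ⟨CohB1.support D, Groth.Agent.Lib.Modules.Support.isClosed_support D⟩
      have hle : T' ≤ T := hD.2.trans (hrange ▸ hr)
      exact ih T' (lt_of_le_of_ne hle fun e => hyD (show y ∈ (T' : Set X) from e ▸ hy)) D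
        ⟨hD.1, subset_rfl⟩
    have hA : CohIn (closure {y}) ((Coh.push i).obj I) := cohIn_push_ideal i I ι
    have hHc : CohIn (closure {y}) ((Coh.push i).obj H) :=
      ⟨Groth.Agent.Lib.Cyc.Dev.SchemeEquiv.isCoh_push i hH, hrange ▸ support_push i H⟩
    haveI : Nontrivial (((Coh.push i).obj H).presheaf.stalk y) := by
      haveI := hHne
      exact (Groth.Agent.Lib.Cyc.SheafLen.pushStalk_bijective i H _).2.nontrivial
    obtain ⟨d, hd, hB, J, hyJ, -, ⟨n, ψ, hψ, hψy⟩⟩ :=
      exists_mono_both y hHc (killed_genericPoint i H) hA (length_push_ideal i I ι hne)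
    have hS : CohIn (closure {y}) ((Dual3.idealMul (J ^ n)).obj (∐ fun _ : Fin d => (Coh.push i).obj I)) :=
      ⟨isCoh_idealMul _ hB.1, (Groth.Agent.Lib.Modules.Support.support_subset_of_mono
        (Dual3.idealMulι (J ^ n) _)).trans hB.2⟩
    haveI := hB.1.1
    haveI := hS.1.1
    have hC₁ := cokernel_small ψ hS hHc hψy.2
    have hC₂ := cokernel_small (Dual3.idealMulι (J ^ n) _) hS hB (stalk_ι_bijective J _ n hyJ).2
    have k₁ : K ((Dual3.idealMul (J ^ n)).obj (∐ fun _ : Fin d => (Coh.push i).obj I)) :=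
      (ha _ (exists_ses_mono ψ) hS.1 hHc.1 hC₁.1.1).1 hKH (small _ hC₁.1 hC₁.2)
    have k₂ : K (∐ fun _ : Fin d => (Coh.push i).obj I) :=
      (ha _ (exists_ses_mono (Dual3.idealMulι (J ^ n) _)) hS.1 hB.1 hC₂.1.1).2 k₁
        (small _ hC₂.1 hC₂.2)
    exact hb _ d hd hA.1 k₂

end Groth.Agent.S10865
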