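import Groth.Statements.S10866
import Groth.Agent.S10865
import Groth.Agent.Lib.Perfect.PCCoh
import Groth.Agent.Lib.QCoh.Pushforward

set_option autoImplicit false
universe u
open Coherent

namespace Groth.Agent.S10866

open Groth.Agent.Lib
open CategoryTheory CategoryTheory.Limits AlgebraicGeometry TopologicalSpace Opposite
set_option linter.style.haveILetI false

open CategoryTheory AlgebraicGeometry in
/-- Let f : X → Y be a morphism of Noetherian schemes such that for every integral closed subscheme i :
Z → X there is a coherent O_Z-module with nonzero stalk at the generic point of Z whose direct image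
under i followed by f is coherent on Y. Then the direct image f_*F of every coherent O_X-module F is
coherent. -/
theorem result {X Y : Scheme.{u}} [IsNoetherian X] [IsNoetherian Y]
    (f : X ⟶ Y)
    (hgen : ∀ (Z : Scheme.{u}) (i : Z ⟶ X) [IsClosedImmersion i] [IsIntegral Z],
      ∃ H : Z.Modules, Coh.IsCoh H ∧ Nontrivial (H.presheaf.stalk (genericPoint Z)) ∧
        Coh.IsCoh ((Scheme.Modules.pushforward (i ≫ f)).obj H))
    (F : X.Modules) (hF : Coh.IsCoh F) : Coh.IsCoh ((Scheme.Modules.pushforward f).obj F) := by
  rcases isEmpty_or_nonempty X with hX | hX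
  · have hz : IsZero F := Modules.Support.support_eq_empty_iff.mp (Set.eq_empty_of_isEmpty _)
    haveI : (Scheme.Modules.pushforward f).IsRightAdjoint :=
      (Scheme.Modules.pullbackPushforwardAdjunction f).isRightAdjoint
    exact KRes.CohP.isCoh_of_isZero Y ((Scheme.Modules.pushforward f).map_isZero hz)
  haveI : QuasiCompact f := ⟨fun V _ _ => NoetherianSpace.isCompact _⟩
  have qc : ∀ {M : X.Modules}, Coh.IsQCoh M → ((Scheme.Modules.pushforward f).obj M).IsQuasicoherent :=
    fun {M} h => by haveI : M.IsQuasicoherent := h; exact QCoh.Pushforward.isQCoh_pushforward f (M := M)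
  haveI : PreservesLimits (Scheme.Modules.pushforward f) :=
    (Scheme.Modules.pullbackPushforwardAdjunction f).rightAdjoint_preservesLimits
  haveI : (Scheme.Modules.pushforward f).Additive := Functor.additive_of_preserves_binary_products _
  let K : ObjectProperty X.Modules := fun M => Coh.IsCoh ((Scheme.Modules.pushforward f).obj M)
  haveI : K.IsClosedUnderIsomorphisms :=
    ⟨fun e h => CohBasics.Closure.isCoh_of_iso ((Scheme.Modules.pushforward f).mapIso e) h⟩
  refine Groth.Agent.S10865.result X K (fun S hS h₁ h₂ h₃ => ?_) (fun G d hd hG hK => ?_)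
    (fun Z i hi hZ => ?_) F hF
  · haveI := qc h₁.1
    haveI := qc h₂.1
    haveI := qc h₃.1
    haveI := hS.mono_f
    let P := Scheme.Modules.pushforward f
    have hk : IsLimit (KernelFork.ofι (P.map S.f) (show P.map S.f ≫ P.map S.g = 0 by
        rw [← P.map_comp, S.zero, P.map_zero])) :=
      KernelFork.mapIsLimit _ hS.fIsKernel P
    refine ⟨fun k₂ _ => CohBasics.Closure.isCoh_of_mono (P.map S.f) k₂, fun k₁ k₃ => ?_⟩
    let T : ShortComplex Y.Modules := ShortComplex.mk (P.map S.f) (Abelian.factorThruImage (P.map S.g))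
      (by rw [← cancel_mono (Abelian.image.ι (P.map S.g)), Category.assoc, Abelian.image.fac,
            zero_comp, ← P.map_comp, S.zero, P.map_zero])
    let U : ShortComplex Y.Modules := ShortComplex.mk (P.map S.f) (P.map S.g)
      (by rw [← P.map_comp, S.zero, P.map_zero])
    let φ : T ⟶ U := { τ₁ := 𝟙 _, τ₂ := 𝟙 _, τ₃ := Abelian.image.ι (P.map S.g) }
    have hT : T.ShortExact := ShortComplex.ShortExact.mk'
      ((ShortComplex.exact_iff_of_epi_of_isIso_of_mono φ).mpr (U.exact_of_f_is_kernel hk))
      (inferInstanceAs (Mono (P.map S.f))) (inferInstanceAs (Epi (Abelian.factorThruImage _)))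
    exact Perfect.PCCoh.isCoh_of_extension hT k₁ (CohBasics.Closure.isCoh_image _ (qc h₂.1) k₃)
  · haveI := qc hG.1
    let j : G ⟶ ∐ fun _ : Fin d => G := Sigma.ι (fun _ : Fin d => G) ⟨0, hd⟩
    haveI : IsSplitMono j := IsSplitMono.mk' ⟨Sigma.desc fun _ => 𝟙 G, by simp [j]⟩
    exact CohBasics.Closure.isCoh_of_mono ((Scheme.Modules.pushforward f).map j) hK
  · haveI := hi
    haveI := hZ
    obtain ⟨H, hH, hne, hc⟩ := hgen Z i
    exact ⟨H, hH, hne, CohBasics.Closure.isCoh_of_iso
      ((Scheme.Modules.pushforwardComp i f).app H).symm hc⟩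

end Groth.Agent.S10866
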