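import Groth.Statements.S10867
import Groth.Agent.Lib.Unram.StalkTower
import Groth.Agent.Lib.Unram.EtaleMono
import Mathlib.AlgebraicGeometry.AlgClosed.Basic
import Mathlib.AlgebraicGeometry.ZariskisMainTheorem
import Mathlib.AlgebraicGeometry.Noetherian
import Mathlib.RingTheory.Nakayama

set_option autoImplicit false
universe u
open Mor

namespace Groth.Agent.S10867

open CategoryTheory AlgebraicGeometry in
/-- In the case of an algebraically closed base field k and K = k: let X, Y be k-schemes of finite type
and f : X → Y a proper k-morphism which is injective on closed points and such that for every closed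
point x of X the ideal generated by the image of the maximal ideal of the local ring at f(x),
together with the square of the maximal ideal at x, is the whole maximal ideal at x (the cotangent
map is surjective, i.e. the tangent map at x is injective). Then f is a closed immersion. (The
published statement allows any field k and tests points and tangent spaces with values in an
algebraically closed extension K of k; this row is the case K = k.) -/
theorem result (k : Type u) [Field k] [IsAlgClosed k]
    {X Y : Scheme.{u}} (f : X ⟶ Y) (q : Y ⟶ Spec (CommRingCat.of k)) [LocallyOfFiniteType q] [QuasiCompact q]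
    [LocallyOfFiniteType (f ≫ q)] [IsProper f]
    (hinj : Set.InjOn f.base {x : X | IsClosed ({x} : Set X)})
    (hT : ∀ x : X, IsClosed ({x} : Set X) →
      Ideal.map (f.stalkMap x).hom (IsLocalRing.maximalIdeal (Y.presheaf.stalk (f.base x))) ⊔
        IsLocalRing.maximalIdeal (X.presheaf.stalk x) ^ 2 = IsLocalRing.maximalIdeal (X.presheaf.stalk x)) :
    IsClosedImmersion f := by
    have : JacobsonSpace X := LocallyOfFiniteType.jacobsonSpace (f ≫ q)
    have : JacobsonSpace Y := LocallyOfFiniteType.jacobsonSpace q
    have : IsLocallyNoetherian X := LocallyOfFiniteType.isLocallyNoetherian (f ≫ q)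
    have hstalk : ∀ x : X, IsClosed ({x} : Set X) → (f.stalkMap x).hom.FormallyUnramified := by
      intro x hx
      rw [Lib.Unram.StalkTower.formallyUnramified_stalkMap_iff]
      have hm : (IsLocalRing.maximalIdeal (Y.presheaf.stalk (f x))).map (f.stalkMap x).hom =
          IsLocalRing.maximalIdeal (X.presheaf.stalk x) := by
        refine le_antisymm (le_sup_left.trans (hT x hx).le) ?_
        refine Submodule.le_of_le_smul_of_le_jacobson_bot (IsNoetherian.noetherian _)
          (I := IsLocalRing.maximalIdeal (X.presheaf.stalk x))
          (IsLocalRing.maximalIdeal_le_jacobson _) ?_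
        rw [Ideal.smul_eq_mul, ← pow_two]
        exact (hT x hx).ge
      refine ⟨hm, ?_⟩
      have hy : IsClosed ({f x} : Set Y) := f.closePoints_subset_preimage_closedPoints hx
      have hsurj : Function.Surjective (f.residueFieldMap x).hom := by
        have hb : Function.Surjective (residueFieldIsoBase (f ≫ q) x hx).inv.hom :=
          (residueFieldIsoBase (f ≫ q) x hx).symm.commRingCatIsoToRingEquiv.surjective
        have heq : (residueFieldIsoBase (f ≫ q) x hx).inv =
            (residueFieldIsoBase q (f x) hy).inv ≫ f.residueFieldMap x := by
          apply Spec.map_injective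
          rw [Spec.map_comp, SpecMap_residueFieldIsoBase_inv, SpecMap_residueFieldIsoBase_inv,
            Scheme.Hom.SpecMap_residueFieldMap_fromSpecResidueField_assoc]
        rw [heq] at hb
        exact Function.Surjective.of_comp (g := (residueFieldIsoBase q (f x) hy).inv.hom) hb
      algebraize [(f.residueFieldMap x).hom]
      exact ⟨Module.Finite.of_surjective (Algebra.linearMap _ _) hsurj,
        Algebra.IsSeparable.mk fun a => by
          obtain ⟨b, rfl⟩ := hsurj a
          exact isSeparable_algebraMap b⟩
    have hFU : FormallyUnramified f := by
      have key : ∀ x : X, ∃ O : X.Opens, x ∈ O ∧ FormallyUnramified (O.ι ≫ f) := by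
        let U : X.Opens := ⨆ O : {O : X.Opens // FormallyUnramified (O.ι ≫ f)}, O.1
        have hU : U = ⊤ := by
          by_contra hne
          obtain ⟨x, hxU, hx⟩ := nonempty_inter_closedPoints (Z := (U : Set X)ᶜ)
            (Set.nonempty_compl.mpr fun h => hne (TopologicalSpace.Opens.ext h))
            U.2.isClosed_compl.isLocallyClosed
          obtain ⟨O, hxO, hO⟩ :=
            (Lib.Unram.AtPrime.exists_formallyUnramified_nhd_iff f x).mpr (hstalk x hx)
          exact hxU (TopologicalSpace.Opens.mem_iSup.mpr ⟨⟨O, hO⟩, hxO⟩)
        intro x
        obtain ⟨⟨O, hO⟩, hxO⟩ := TopologicalSpace.Opens.mem_iSup.mp (hU.ge (Set.mem_univ x))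
        exact ⟨O, hxO, hO⟩
      choose O hxO hO using key
      exact (IsZariskiLocalAtSource.iff_of_openCover (P := @FormallyUnramified)
        (X.openCoverOfIsOpenCover O (.mk (eq_top_iff.mpr fun x _ =>
          TopologicalSpace.Opens.mem_iSup.mpr ⟨x, hxO x⟩)))).mpr hO
    have : Surjective (Limits.pullback.diagonal f) := by
      constructor
      rw [← Set.range_eq_univ]
      have : JacobsonSpace (Limits.pullback f f : Scheme.{u}) :=
        LocallyOfFiniteType.jacobsonSpace (Limits.pullback.fst f f)
      have hcl : IsClosed (Set.range (Limits.pullback.diagonal f)) :=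
        (Limits.pullback.diagonal f).isClosedMap.isClosed_range
      rw [← Set.univ_subset_iff, ← closure_closedPoints]
      refine closure_minimal ?_ hcl
      intro z hz
      let P := Limits.pullback f f
      let s : P ⟶ Spec (CommRingCat.of k) := Limits.pullback.fst f f ≫ f ≫ q
      let φ := pointOfClosedPoint s z hz
      have hsnd : Limits.pullback.snd f f ≫ f ≫ q = s :=
        (Limits.pullback.condition_assoc q).symm
      have e : φ ≫ Limits.pullback.fst f f = φ ≫ Limits.pullback.snd f f := by
        refine ext_of_apply_closedPoint_eq (f ≫ q) ?_ ?_ ?_
        · rw [Category.assoc]; exact pointOfClosedPoint_comp s z hz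
        · rw [Category.assoc, hsnd]; exact pointOfClosedPoint_comp s z hz
        · simp only [Scheme.Hom.comp_apply, φ, pointOfClosedPoint_apply]
          refine hinj ((Limits.pullback.fst f f).closePoints_subset_preimage_closedPoints hz)
            ((Limits.pullback.snd f f).closePoints_subset_preimage_closedPoints hz) ?_
          rw [← Scheme.Hom.comp_apply, ← Scheme.Hom.comp_apply, Limits.pullback.condition]
      have e2 : φ = (φ ≫ Limits.pullback.fst f f) ≫ Limits.pullback.diagonal f := by
        apply Limits.pullback.hom_ext
        · rw [Category.assoc, Category.assoc, Limits.pullback.diagonal_fst, Category.comp_id]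
        · rw [Category.assoc, Category.assoc, Limits.pullback.diagonal_snd, Category.comp_id, ← e]
      refine ⟨(φ ≫ Limits.pullback.fst f f) (IsLocalRing.closedPoint k), ?_⟩
      rw [← Scheme.Hom.comp_apply, ← e2]
      simp [φ]
    exact (IsClosedImmersion.iff_isProper_and_mono (f := f)).mpr
      ⟨inferInstance, Lib.Unram.EtaleMono.mono_of_surjective_diagonal f⟩

end Groth.Agent.S10867
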