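import Groth.Statements.S10868
import Mathlib

set_option autoImplicit false
universe u
open Mor

namespace Groth.Agent.S10868

open CategoryTheory AlgebraicGeometry in
/-- f : X → Y is a finite morphism exactly when it is proper and quasi-affine (quasi-compact, with the
inverse image of every affine open subscheme of Y a quasi-affine scheme). -/
theorem result {X Y : Scheme.{u}} (f : X ⟶ Y) :
    IsFinite f ↔ IsProper f ∧ Mor2.IsQuasiAffine f := by
  constructor
  · intro h
    haveI := h
    exact ⟨inferInstance, inferInstance, fun V hV => by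
      haveI : IsAffine (f ⁻¹ᵁ V : Scheme.{u}) := hV.preimage f
      infer_instance⟩
  · rintro ⟨hp, -, hqa⟩
    haveI := hp
    haveI : IsAffineHom f := ⟨fun V hV => by
      haveI := hqa V hV
      haveI : IsAffine (V : Scheme.{u}) := hV
      haveI : IsProper (f ∣_ V) := IsZariskiLocalAtTarget.restrict hp V
      let W : Scheme.{u} := (f ⁻¹ᵁ V : Scheme.{u})
      haveI : IsProper (W.toSpecΓ ≫ Spec.map (f ∣_ V).appTop ≫ (V : Scheme.{u}).isoSpec.inv) := by
        rw [← Scheme.toSpecΓ_naturality_assoc]
        have : (V : Scheme.{u}).toSpecΓ ≫ (V : Scheme.{u}).isoSpec.inv = 𝟙 _ := (V : Scheme.{u}).isoSpec.hom_inv_id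
        rw [this, Category.comp_id]
        infer_instance
      haveI : IsProper W.toSpecΓ :=
        IsProper.of_comp W.toSpecΓ (Spec.map (f ∣_ V).appTop ≫ (V : Scheme.{u}).isoSpec.inv)
      haveI : IsClosedImmersion W.toSpecΓ :=
        (IsClosedImmersion.iff_isProper_and_mono _).mpr ⟨inferInstance, inferInstance⟩
      show IsAffine W
      exact isAffine_of_isAffineHom W.toSpecΓ⟩
    exact IsFinite.iff_isProper_and_isAffineHom.mpr ⟨hp, inferInstance⟩

end Groth.Agent.S10868
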