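import Groth.Statements.S10870
import Groth.Statements.S10870
import Groth.Agent.Lib.Grass.DetRing
import Groth.Agent.H80.BE.Loc

set_option autoImplicit false
universe u
open CAlgX

namespace Groth.Agent.S10870

open W4bk4grassmannian

theorem dim_infinite (k : Type u) [Field k] [Infinite k] (n m r : ℕ) (hr : r ≤ min n m) :
    ringKrullDim (MvPolynomial (Fin n × Fin m) k ⧸ CAlgX.minorIdeal (genMatrix k n m) (r + 1)) =
      ((r * (m + n - r) : ℕ) : WithBot ℕ∞) := by
  by_cases h : n < r + 1 ∨ m < r + 1
  · rw [Groth.Agent.Lib.Grass.DetRing.minorIdeal_eq_bot _ h,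
      ringKrullDim_eq_of_ringEquiv (RingEquiv.quotientBot _),
      Groth.Agent.Lib.Dim.Basic.ringKrullDim_mvPolynomial k]
    rw [Nat.card_prod, Nat.card_fin, Nat.card_fin]
    rcases h with h | h
    · obtain rfl : r = n := by omega
      rw [Nat.add_sub_cancel_right]
    · obtain rfl : r = m := by omega
      rw [Nat.add_sub_cancel_left, mul_comm n r]
  · simp only [not_or, not_lt] at h
    have hn : 0 < m := by omega
    rw [← Groth.Agent.Lib.Grass.Determinantal.detVan_tau (K := k) hn (show 1 ≤ r + 1 by omega) h.2
      (show r + 1 ≤ n + 1 by omega), Groth.Agent.Lib.Grass.DetRing.ringKrullDim_detVan hn,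
      Groth.Agent.Lib.Grass.DetRing.codeg_tau]
    congr 3
    omega

theorem dim_descend (k : Type u) [Field k] (K : Type u) [Field K] [Algebra k K]
    [Algebra.IsIntegral k K] {σ : Type} (I : Ideal (MvPolynomial σ k)) :
    ringKrullDim (MvPolynomial σ K ⧸ I.map (MvPolynomial.map (algebraMap k K))) =
      ringKrullDim (MvPolynomial σ k ⧸ I) := by
  let φ := MvPolynomial.map (σ := σ) (algebraMap k K)
  let f : MvPolynomial σ k ⧸ I →+* MvPolynomial σ K ⧸ I.map φ :=
    Ideal.quotientMap _ φ Ideal.le_comap_map
  letI := f.toAlgebra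
  have hcomap : (I.map φ).comap φ = I := by
    refine le_antisymm ?_ Ideal.le_comap_map
    intro p hp
    obtain ⟨π, hπ⟩ := LinearMap.exists_leftInverse_of_injective (Algebra.linearMap k K)
      (LinearMap.ker_eq_bot.2 (algebraMap k K).injective)
    have hπa : ∀ (a : K) (c : k), π (a * algebraMap k K c) = π a * c := fun a c => by
      rw [mul_comm a, ← Algebra.smul_def, map_smul, smul_eq_mul, mul_comm]
    have hπ1 : ∀ c : k, π (algebraMap k K c) = c := fun c => LinearMap.congr_fun hπ c
    classical
    let P0 : MvPolynomial σ K → MvPolynomial σ k :=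
      fun q => ∑ d ∈ q.support, MvPolynomial.monomial d (π (q.coeff d))
    have hP0 : ∀ q d, (P0 q).coeff d = π (q.coeff d) := fun q d => by
      simp only [P0, MvPolynomial.coeff_sum,
        MvPolynomial.coeff_monomial, Finset.sum_ite_eq', MvPolynomial.mem_support_iff]
      split_ifs with h
      · rfl
      · rw [not_not.1 h, map_zero]
    let P : MvPolynomial σ K →+ MvPolynomial σ k :=
      AddMonoidHom.mk' P0 fun a b => MvPolynomial.ext _ _ fun d => by
        rw [MvPolynomial.coeff_add, hP0, hP0, hP0, MvPolynomial.coeff_add, map_add]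
    have hP : ∀ q d, (P q).coeff d = π (q.coeff d) := hP0
    have hmul : ∀ a g, P (a * φ g) = P a * g := fun a g => MvPolynomial.ext _ _ fun d => by
      rw [hP, MvPolynomial.coeff_mul, MvPolynomial.coeff_mul, map_sum]
      exact Finset.sum_congr rfl fun x _ => by rw [MvPolynomial.coeff_map, hπa, hP]
    have hself : P (φ p) = p := MvPolynomial.ext _ _ fun d => by
      rw [hP, MvPolynomial.coeff_map, hπ1]
    rw [← hself]
    have key : ∀ q ∈ I.map φ, ∀ a, P (a * q) ∈ I := by
      intro q hq
      induction hq using Submodule.span_induction with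
      | mem x hx =>
        obtain ⟨g, hg, rfl⟩ := hx
        intro a
        rw [hmul]
        exact I.mul_mem_left _ hg
      | zero => intro a; simp
      | add x y _ _ hx hy => intro a; rw [mul_add, map_add]; exact add_mem (hx a) (hy a)
      | smul c x _ hx => intro a; rw [smul_eq_mul, ← mul_assoc]; exact hx _
    simpa using key _ hp 1
  have hinj : Function.Injective f := Ideal.quotientMap_injective' hcomap.le
  haveI : FaithfulSMul (MvPolynomial σ k ⧸ I) (MvPolynomial σ K ⧸ I.map φ) :=
    (faithfulSMul_iff_algebraMap_injective _ _).2 hinj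
  haveI : Algebra.IsIntegral (MvPolynomial σ k ⧸ I) (MvPolynomial σ K ⧸ I.map φ) := by
    refine ⟨fun x => ?_⟩
    obtain ⟨q, rfl⟩ := Ideal.Quotient.mk_surjective x
    induction q using MvPolynomial.induction_on with
    | C c =>
      obtain ⟨p, hmon, hp⟩ := Algebra.IsIntegral.isIntegral (R := k) c
      refine ⟨p.map ((Ideal.Quotient.mk I).comp MvPolynomial.C), hmon.map _, ?_⟩
      rw [Polynomial.eval₂_map]
      have := congrArg ((Ideal.Quotient.mk (I.map φ)).comp MvPolynomial.C) hp
      rw [map_zero, Polynomial.hom_eval₂] at this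
      rw [← this]
      congr 1
      refine RingHom.ext fun t => ?_
      simp only [RingHom.comp_apply]
      change f _ = _
      simp [f, φ]
    | add a b ha hb => rw [map_add]; exact ha.add hb
    | mul_X a i ha =>
      rw [map_mul]
      refine ha.mul ?_
      have : Ideal.Quotient.mk (I.map φ) (MvPolynomial.X i) =
          algebraMap (MvPolynomial σ k ⧸ I) _ (Ideal.Quotient.mk I (MvPolynomial.X i)) := by
        show _ = f _
        simp [f, φ]
      rw [this]
      exact isIntegral_algebraMap
  exact Groth.Agent.Lib.Dim.Integral.ringKrullDim_eq_of_isIntegral (R := MvPolynomial σ k ⧸ I)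

/-- For a field k and 0 ≤ r ≤ min(n, m), the affine determinantal scheme of n × m matrices of rank at
most r over k — the spectrum of the polynomial ring on the entries of the generic n × m matrix
modulo the ideal of its (r+1) × (r+1) minors — has dimension r(m + n − r). -/
theorem result (k : Type u) [Field k] (n m r : ℕ) (hr : r ≤ min n m) :
    ringKrullDim (MvPolynomial (Fin n × Fin m) k ⧸ CAlgX.minorIdeal (Matrix.of fun (i : Fin n) (j : Fin m) => (MvPolynomial.X (i, j) : MvPolynomial (Fin n × Fin m) k)) (r + 1)) =
      ((r * (m + n - r) : ℕ) : WithBot ℕ∞) := by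
  let K := AlgebraicClosure k
  rw [← dim_descend k K]
  have h : (CAlgX.minorIdeal (Matrix.of fun (i : Fin n) (j : Fin m) => (MvPolynomial.X (i, j) : MvPolynomial (Fin n × Fin m) k)) (r + 1)).map
      (MvPolynomial.map (algebraMap k K)) = CAlgX.minorIdeal (W4bk4grassmannian.genMatrix K n m) (r + 1) := by
    rw [← Groth.Agent.H80.BE.Loc.minorIdeal_map]
    congr 1
    ext i j
    simp [W4bk4grassmannian.genMatrix]
  rw [h]
  exact dim_infinite K n m r hr

end Groth.Agent.S10870
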