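import Groth.Statements.S10871
import Mathlib.AlgebraicGeometry.Morphisms.Affine
import Mathlib.RingTheory.DedekindDomain.Basic
import Mathlib.RingTheory.DedekindDomain.Dvr

set_option autoImplicit false
universe u
open AlgebraicGeometry
open Curves

namespace Groth.Agent.S10871

/-- Every open subscheme of the spectrum of a Dedekind domain is affine. -/
theorem result (A : Type u) [CommRing A] [IsDedekindDomain A]
    (U : (Spec (CommRingCat.of A)).Opens) : IsAffineOpen U := by
  classical
  by_cases hU : U = ⊥
  · subst hU; exact isAffineOpen_bot _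
  obtain ⟨I, hI⟩ := (PrimeSpectrum.isClosed_iff_zeroLocus_ideal _).mp U.2.isClosed_compl
  have hmem : ∀ q : Spec (CommRingCat.of A), q ∈ U ↔ ¬ I ≤ q.asIdeal := fun q => by
    have h : q ∉ U ↔ I ≤ q.asIdeal := Iff.of_eq (congr_arg (q ∈ ·) hI)
    exact ⟨fun hq hle => (h.mpr hle) hq, fun hq => by_contra fun hn => hq (h.mp hn)⟩
  let S : Set A := {s | IsAffineOpen (U ⊓ PrimeSpectrum.basicOpen s : (Spec (CommRingCat.of A)).Opens)}
  have hspan : Ideal.span S = ⊤ := by
    by_contra hne
    obtain ⟨m, hm, hSm⟩ := Ideal.exists_le_maximal _ hne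
    -- near `m` the ideal `I` is generated by one element
    obtain ⟨g, hg, s, hs, hgen⟩ : ∃ g ∈ I, ∃ s ∉ m, ∀ x ∈ I, g ∣ s * x := by
      let L := Localization.AtPrime m
      have hP : (I.map (algebraMap A L)).IsPrincipal := by
        by_cases hm0 : m = ⊥
        · subst hm0
          have : IsFractionRing A L := by
            show IsLocalization (nonZeroDivisors A) L
            rw [show nonZeroDivisors A = (⊥ : Ideal A).primeCompl by ext; simp [Ideal.primeCompl]]
            exact Localization.isLocalization
          letI : Field L := IsFractionRing.toField A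
          exact IsPrincipalIdealRing.principal _
        · have := IsLocalization.AtPrime.isDiscreteValuationRing_of_dedekind_domain A hm0 L
          exact IsPrincipalIdealRing.principal _
      obtain ⟨γ, hγ⟩ := hP
      rw [← Ideal.span] at hγ
      obtain ⟨⟨⟨g, hg⟩, s₀⟩, hgs⟩ := (IsLocalization.mem_map_algebraMap_iff m.primeCompl L).mp
        (show γ ∈ I.map (algebraMap A L) by rw [hγ]; exact Ideal.mem_span_singleton_self γ)
      obtain ⟨T, hT⟩ := IsNoetherian.noetherian I
      have hx : ∀ x ∈ T, ∃ u : m.primeCompl, g ∣ (u : A) * x := by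
        intro x hxT
        have hxI : x ∈ I := hT ▸ Submodule.subset_span hxT
        obtain ⟨c, hc⟩ := Ideal.mem_span_singleton'.mp (hγ ▸ Ideal.mem_map_of_mem (algebraMap A L) hxI)
        obtain ⟨⟨a, b⟩, hab⟩ := IsLocalization.surj m.primeCompl c
        simp only at hgs hab
        obtain ⟨e, he⟩ := (IsLocalization.eq_iff_exists m.primeCompl L).mp
          (show algebraMap A L ((s₀ : A) * b * x) = algebraMap A L (g * a) by
            rw [map_mul, map_mul, map_mul, ← hc, ← hgs, ← hab]; ring)
        exact ⟨e * (s₀ * b), a * e, by push_cast; linear_combination he⟩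
      choose u hu using hx
      refine ⟨g, hg, ∏ x ∈ T.attach, (u x.1 x.2 : A), ?_, ?_⟩
      · have := (∏ x ∈ T.attach, u x.1 x.2).2
        rwa [Submonoid.coe_finsetProd] at this
      intro x hx
      rw [← hT] at hx
      induction hx using Submodule.span_induction with
      | mem y hy => exact (hu y hy).trans (mul_dvd_mul_right (Finset.dvd_prod_of_mem
          (fun x : T => (u x.1 x.2 : A)) (Finset.mem_attach T ⟨y, hy⟩)) y)
      | zero => simp
      | add y z _ _ hy hz => rw [mul_add]; exact dvd_add hy hz
      | smul c y _ hy => rw [smul_eq_mul, mul_left_comm]; exact dvd_mul_of_dvd_right hy c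
    have hmemS : s ∈ S := by
      have heq : (U ⊓ PrimeSpectrum.basicOpen s : (Spec (CommRingCat.of A)).Opens) =
          PrimeSpectrum.basicOpen (s * g) := by
        ext q
        change q ∈ U ∧ s ∉ q.asIdeal ↔ s * g ∉ q.asIdeal
        rw [hmem]
        refine ⟨fun ⟨hI', hs'⟩ h => ?_, fun h => ⟨fun hle => h (q.asIdeal.mul_mem_left s (hle hg)),
          fun hs' => h (q.asIdeal.mul_mem_right g hs')⟩⟩
        refine hI' fun x hx => (q.isPrime.mem_or_mem ?_).resolve_left hs'
        obtain ⟨c, hc⟩ := hgen x hx
        rw [hc]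
        exact q.asIdeal.mul_mem_right c ((q.isPrime.mem_or_mem h).resolve_left hs')
      show IsAffineOpen _
      rw [heq]
      exact IsAffineOpen.Spec_basicOpen _
    exact hs (hSm (Ideal.subset_span hmemS))
  let φ : A →+* Γ(Spec (CommRingCat.of A), U) :=
    ((Spec (CommRingCat.of A)).presheaf.map (CategoryTheory.homOfLE le_top).op).hom.comp
      (Scheme.ΓSpecIso (CommRingCat.of A)).inv.hom
  refine isAffineOpen_of_isAffineOpen_basicOpen U (φ '' S) ?_ ?_
  · rw [← Ideal.map_span, hspan, Ideal.map_top]
  · rintro _ ⟨a, ha, rfl⟩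
    have : (Spec (CommRingCat.of A)).basicOpen (φ a) = U ⊓ PrimeSpectrum.basicOpen a := by
      show (Spec (CommRingCat.of A)).basicOpen ((Spec (CommRingCat.of A)).presheaf.map (CategoryTheory.homOfLE le_top).op
        ((Scheme.ΓSpecIso (CommRingCat.of A)).inv a)) = _
      rw [Scheme.basicOpen_res, basicOpen_eq_of_affine]
    rw [this]
    exact ha

end Groth.Agent.S10871
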