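import Groth.Statements.S10872
import Groth.Agent.H58AD.Descent
import Groth.Agent.Lib.ProjSpace.BaseChange
import Groth.Agent.Lib.FibreDeg.Basic
import Groth.Agent.Lib.ProjSpace.Basic
-- import your own Groth.Agent.* helpers here

set_option autoImplicit false
universe u
open CategoryTheory AlgebraicGeometry
open Variety

namespace Groth.Agent.S10872

open CategoryTheory CategoryTheory.Limits in
/-- Integrality descends along flat surjections. -/
theorem isIntegral_of_flat_surjective {X Y : Scheme.{u}} (π : Y ⟶ X) [IsIntegral Y] [Flat π]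
    [Surjective π] : IsIntegral X := by
  haveI : IrreducibleSpace X := π.surjective.irreducibleSpace π.continuous
  haveI : ∀ x : X, _root_.IsReduced (X.presheaf.stalk x) := fun x => by
    obtain ⟨y, rfl⟩ := π.surjective x
    letI := (π.stalkMap y).hom.toAlgebra
    haveI : Module.Flat (X.presheaf.stalk (π y)) (Y.presheaf.stalk y) := Flat.stalkMap π y
    haveI : IsLocalHom (algebraMap (X.presheaf.stalk (π y)) (Y.presheaf.stalk y)) :=
      inferInstanceAs (IsLocalHom (π.stalkMap y).hom)
    haveI := Module.FaithfullyFlat.of_flat_of_isLocalHom (A := X.presheaf.stalk (π y))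
      (B := Y.presheaf.stalk y)
    exact isReduced_of_injective (algebraMap (X.presheaf.stalk (π y)) (Y.presheaf.stalk y))
      (FaithfulSMul.algebraMap_injective _ _)
  haveI : AlgebraicGeometry.IsReduced X := isReduced_of_isReduced_stalk X
  exact isIntegral_of_irreducibleSpace_of_isReduced X

open CategoryTheory CategoryTheory.Limits TensorProduct in
/-- A scheme isomorphic to projective space over one extension is geometrically integral. -/
theorem geometricallyIntegral_of_form {k : Type u} [Field k] {X : Scheme.{u}}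
    (p : X ⟶ Spec (CommRingCat.of k)) (K : Type u) [Field K] [Algebra k K] (n : ℕ)
    (e : W4bk4gw11416.baseChange p K ≅ CohB1.ProjSpace n K)
    (he : e.hom ≫ CohB1.ProjSpace.toSpec n K = W4bk4gw11416.baseChangeTo p K) :
    GeometricallyIntegral p := by
  refine ⟨fun F _ y Z fst snd hpb => ?_⟩
  obtain ⟨φ, rfl⟩ := Spec.map_surjective y
  letI : Algebra k F := φ.hom.toAlgebra
  obtain ⟨m, hm⟩ := Ideal.exists_maximal (K ⊗[k] F)
  letI : Field ((K ⊗[k] F) ⧸ m) := Ideal.Quotient.field m
  let a : K →+* (K ⊗[k] F) ⧸ m := (Ideal.Quotient.mk m).comp Algebra.TensorProduct.includeLeftRingHom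
  let b : F →+* (K ⊗[k] F) ⧸ m :=
    (Ideal.Quotient.mk m).comp (Algebra.TensorProduct.includeRight (R := k) (A := K)).toRingHom
  have hab : a.comp (algebraMap k K) = b.comp φ.hom := by
    ext c
    exact congrArg (Ideal.Quotient.mk m)
      (((Algebra.TensorProduct.includeLeft : K →ₐ[k] K ⊗[k] F).commutes c).trans
        ((Algebra.TensorProduct.includeRight : F →ₐ[k] K ⊗[k] F).commutes c).symm)
  let σ := Spec.map (CommRingCat.ofHom b)
  let τ := Spec.map (CommRingCat.ofHom a)
  have hc : σ ≫ Spec.map φ = τ ≫ Spec.map (CommRingCat.ofHom (algebraMap k K)) := by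
    rw [← Spec.map_comp, ← Spec.map_comp]
    congr 1
    exact CommRingCat.hom_ext hab.symm
  have hbig := (IsPullback.of_hasPullback snd σ).paste_horiz hpb
  rw [hc] at hbig
  have hK := IsPullback.of_hasPullback p (Spec.map (CommRingCat.ofHom (algebraMap k K)))
  obtain ⟨l, hl1, hl2⟩ : ∃ l : pullback snd σ ⟶ W4bk4gw11416.baseChange p K,
      l ≫ pullback.fst _ _ = pullback.fst snd σ ≫ fst ∧
      l ≫ pullback.snd _ _ = pullback.snd snd σ ≫ τ :=
    ⟨hK.lift _ (pullback.snd snd σ ≫ τ) (hbig.w.trans (Category.assoc _ _ _).symm),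
      hK.lift_fst _ _ _, hK.lift_snd _ _ _⟩
  have hleft : IsPullback l (pullback.snd snd σ)
      (W4bk4gw11416.baseChangeTo p K) τ :=
    IsPullback.of_right (by rw [hl1]; exact hbig) hl2 hK
  have hleft' : IsPullback (l ≫ e.hom) (pullback.snd snd σ) (CohB1.ProjSpace.toSpec n K) τ :=
    IsPullback.of_iso hleft (Iso.refl _) e (Iso.refl _) (Iso.refl _) (by simp) (by simp)
      (by simp [he]) (by simp)
  let i : pullback snd σ ≅ CohB1.ProjSpace n ((K ⊗[k] F) ⧸ m) :=
    hleft'.isoIsPullback _ _ (Groth.Agent.Lib.ProjSpace.BaseChange.isPullback_projMap n a)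
  haveI : Nonempty (pullback snd σ : Scheme.{u}) := ⟨i.inv (Classical.arbitrary _)⟩
  haveI : IsIntegral (pullback snd σ) := isIntegral_of_isOpenImmersion i.hom
  haveI : Flat σ := Groth.Agent.Lib.FibreDeg.Basic.flat_of_field _
  haveI : Surjective σ := ⟨fun x => ⟨⟨⊥, Ideal.isPrime_bot⟩, Subsingleton.elim _ _⟩⟩
  haveI : Flat (pullback.fst snd σ) := MorphismProperty.pullback_fst snd σ ‹_›
  haveI : Surjective (pullback.fst snd σ) := MorphismProperty.pullback_fst snd σ ‹_›
  exact isIntegral_of_flat_surjective (pullback.fst snd σ)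

/-- A Brauer–Severi scheme X over a field k (some base change X_K to a field extension K of k is
K-isomorphic to a projective space P^n_K) is smooth over k, geometrically integral over k, and
projective over k, i.e. admits a closed immersion into some P^N_k compatible with the structure
morphisms. -/
theorem result (k : Type u) [Field k] {X : Scheme.{u}}
    (p : X ⟶ Spec (CommRingCat.of k)) (hX : W4bk4gw11416.IsBrauerSeveri p) :
    Smooth p ∧ GeometricallyIntegral p ∧
      ∃ (N : ℕ) (i : X ⟶ CohB1.ProjSpace N k), IsClosedImmersion i ∧ i ≫ CohB1.ProjSpace.toSpec N k = p := by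
  obtain ⟨K, _, _, n, e, he⟩ := hX
  obtain ⟨hf, hs⟩ := Groth.Agent.H58AD.Descent.flat_surjective (k := k) K
  have hj : (@Surjective ⊓ @Flat ⊓ @QuasiCompact : MorphismProperty Scheme.{u})
      (Groth.Agent.H58AD.Descent.sm (k := k) K) := ⟨⟨hs, hf⟩, inferInstance⟩
  have hsm : Smooth (CategoryTheory.Limits.pullback.snd p (Groth.Agent.H58AD.Descent.sm (k := k) K)) := by
    haveI : Smooth (CohB1.ProjSpace.toSpec n K) := Groth.Agent.Lib.ProjSpace.Basic.smooth_toSpec n K
    show Smooth (W4bk4gw11416.baseChangeTo p K)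
    rw [← he]; infer_instance
  refine ⟨MorphismProperty.of_pullback_snd_of_descendsAlong (P := @Smooth) hj hsm, ?_, ?_⟩
  · exact geometricallyIntegral_of_form p K n e he
  · let o := Groth.Agent.Lib.ProjSpace.BaseChange.overSpecIso n K
    have hi : (e.hom ≫ o.inv) ≫ CohB1.ProjSpaceOver.toBase n (Spec (CommRingCat.of K)) =
        CategoryTheory.Limits.pullback.snd p (Groth.Agent.H58AD.Descent.sm (k := k) K) := by
      rw [Category.assoc, ← Groth.Agent.Lib.ProjSpace.BaseChange.overSpecIso_hom_toSpec,
        Iso.inv_hom_id_assoc]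
      exact he
    obtain ⟨N, i, hic, hie⟩ := Groth.Agent.H58AD.Descent.exists_closedImmersion p K
      ⟨n, e.hom ≫ o.inv, inferInstance, hi⟩
    haveI := hic
    refine ⟨N, i ≫ (Groth.Agent.Lib.ProjSpace.BaseChange.overSpecIso N k).hom, inferInstance, ?_⟩
    rw [Category.assoc, Groth.Agent.Lib.ProjSpace.BaseChange.overSpecIso_hom_toSpec]
    exact hie

end Groth.Agent.S10872
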