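import Groth.Statements.S10876
import Groth.Agent.H24.FlatDescent

set_option autoImplicit false
universe u
open TensorProduct
open CAlg

namespace Groth.Agent.S10876

/-- Descent of flatness along finite injective maps: let A → B be a local homomorphism of Noetherian
local rings and A → A' an injective ring homomorphism making A' a finite A-module. Then B is A-flat
if and only if the base change A' ⊗_A B is A'-flat. -/
theorem result (A B A' : Type u) [CommRing A] [CommRing B]
    [CommRing A'] [IsNoetherianRing A] [IsLocalRing A] [IsNoetherianRing B] [IsLocalRing B]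
    [Algebra A B] [IsLocalHom (algebraMap A B)] [Algebra A A'] [Module.Finite A A']
    (hinj : Function.Injective (algebraMap A A')) :
    Module.Flat A B ↔ Module.Flat A' (A' ⊗[A] B) := by
  refine ⟨fun _ => inferInstance, fun _ => ?_⟩
  refine H24.FlatDescent.flat_of_induced
    ((IsLocalRing.maximalIdeal A).map (algebraMap A A')) le_rfl fun n => ?_
  obtain ⟨k, hk⟩ := Ideal.exists_pow_inf_eq_pow_smul (IsLocalRing.maximalIdeal A)
    (LinearMap.range (Algebra.linearMap A A'))
  refine ⟨n + k, fun a ha => ?_⟩
  have h : algebraMap A A' a ∈ (IsLocalRing.maximalIdeal A ^ (n + k) • ⊤ : Submodule A A') ⊓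
      LinearMap.range (Algebra.linearMap A A') := by
    refine ⟨?_, ⟨a, rfl⟩⟩
    rw [Ideal.smul_top_eq_map, Ideal.map_pow]
    exact ha
  rw [hk _ le_add_self, Nat.add_sub_cancel] at h
  have h' : algebraMap A A' a ∈ Submodule.map (Algebra.linearMap A A')
      (IsLocalRing.maximalIdeal A ^ n : Submodule A A) := by
    have h2 : algebraMap A A' a ∈ IsLocalRing.maximalIdeal A ^ n •
        LinearMap.range (Algebra.linearMap A A') :=
      Submodule.smul_mono (le_refl (IsLocalRing.maximalIdeal A ^ n)) inf_le_right h
    rwa [LinearMap.range_eq_map, ← Submodule.map_smul'', Ideal.smul_eq_mul, Ideal.mul_top] at h2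
  obtain ⟨b, hb, hba⟩ := h'
  exact (hinj hba) ▸ hb

end Groth.Agent.S10876
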