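import Groth.Statements.S10877
import Mathlib.AlgebraicGeometry.Morphisms.Separated
import Mathlib.AlgebraicGeometry.Morphisms.OpenImmersion
import Mathlib.AlgebraicGeometry.Morphisms.LocalIso
import Mathlib.AlgebraicGeometry.PullbackCarrier

set_option autoImplicit false
universe u
open CategoryTheory AlgebraicGeometry
open FlatMor

namespace Groth.Agent.S10877

/-- A separated morphism f : X → Y, with X having finitely many irreducible components, which restricts
to an open immersion on each member of a cover of X by dense open subsets, is an open immersion. -/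
theorem result {X Y : Scheme.{u}} (f : X ⟶ Y) [IsSeparated f]
    (hfin : (irreducibleComponents (X : Type u)).Finite) {ι : Type u} (U : ι → X.Opens)
    (hU : ⨆ i, U i = ⊤) (hd : ∀ i, Dense (U i : Set X)) (h : ∀ i, IsOpenImmersion ((U i).ι ≫ f)) :
    IsOpenImmersion f := by
  -- the union of the opens is everything
  have hmem : ∀ x : X, ∃ i, x ∈ U i := fun x => by
    have : x ∈ ⨆ i, U i := hU ▸ trivial
    exact TopologicalSpace.Opens.mem_iSup.mp this
  have hinjU : ∀ i (a b : X), a ∈ U i → b ∈ U i → f a = f b → a = b := fun i a b ha hb e =>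
    congrArg Subtype.val (((U i).ι ≫ f).isOpenEmbedding.injective
      (a₁ := ⟨a, ha⟩) (a₂ := ⟨b, hb⟩) e)
  have hgen : ∀ (i) (a b : X), b ⤳ a → a ∈ U i → b ∈ U i := fun i a b h ha =>
    h.mem_open (U i).2 ha
  -- points without proper generization lie in every dense open
  have hmax : ∀ ζ : X, (∀ b, b ⤳ ζ → b = ζ) → ∀ i, ζ ∈ U i := by
    intro ζ hζ i
    obtain ⟨Z, hZ, hZle⟩ := exists_mem_irreducibleComponents_subset_of_isIrreducible _
      (isIrreducible_singleton (x := ζ))
    let O : Set X := (⋃₀ (irreducibleComponents X \ {Z}))ᶜ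
    have hO : IsOpen O := by
      refine IsClosed.isOpen_compl (self := ?_)
      rw [Set.sUnion_eq_biUnion]
      exact (hfin.sdiff).isClosed_biUnion fun t ht => isClosed_of_mem_irreducibleComponents t ht.1
    obtain ⟨g, hg⟩ : ∃ g, IsGenericPoint g Z := ⟨hZ.1.genericPoint, by
      have := hZ.1.isGenericPoint_genericPoint_closure
      rwa [(isClosed_of_mem_irreducibleComponents Z hZ).closure_eq] at this⟩
    have hgz : g = ζ := hζ g (hg.specializes (hZle rfl))
    have hne : O.Nonempty := by
      refine ⟨g, fun ⟨t, ⟨ht, htZ⟩, hgt⟩ => htZ ?_⟩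
      have hsub : Z ⊆ t := by
        rw [← hg.def]
        exact closure_minimal (Set.singleton_subset_iff.mpr hgt)
          (isClosed_of_mem_irreducibleComponents t ht)
      exact ((hZ.le_of_ge ht.1 hsub).antisymm hsub)
    obtain ⟨z, hzO, hzU⟩ := (hd i).inter_open_nonempty O hO hne
    have hzZ : z ∈ Z := by
      have : z ∈ ⋃₀ irreducibleComponents X :=
        (sUnion_irreducibleComponents (X := X)).symm ▸ Set.mem_univ z
      obtain ⟨t, ht, hzt⟩ := this
      by_cases htZ : t = Z
      · exact htZ ▸ hzt
      · exact absurd ⟨t, ⟨ht, htZ⟩, hzt⟩ hzO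
    exact hgz ▸ (hg.specializes hzZ).mem_open (U i).2 hzU
  have hinj : Function.Injective f := by
    intro x x' hxx'
    obtain ⟨i, hi⟩ := hmem x
    obtain ⟨i', hi'⟩ := hmem x'
    have hl : ∀ (z : X) (k : ι), z ∈ U k →
        ∃ s : Spec (Y.presheaf.stalk (f z)) ⟶ X, s ≫ f = Y.fromSpecStalk (f z) ∧
          (∀ p, s p ∈ U k) ∧ s (IsLocalRing.closedPoint _) = z := by
      intro z k hz
      let j := (U k).ι ≫ f
      have hr : Set.range (Y.fromSpecStalk (f z)) ⊆ Set.range j := by
        rw [Scheme.range_fromSpecStalk]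
        exact fun y hy => hy.mem_open j.isOpenEmbedding.isOpen_range ⟨⟨z, hz⟩, rfl⟩
      refine ⟨IsOpenImmersion.lift j _ hr ≫ (U k).ι, ?_, fun p => (IsOpenImmersion.lift j _ hr p).2, ?_⟩
      · rw [Category.assoc, IsOpenImmersion.lift_fac]
      · refine hinjU k _ z ((IsOpenImmersion.lift j _ hr _).2) hz ?_
        erw [← Scheme.Hom.comp_apply, Category.assoc, IsOpenImmersion.lift_fac,
          Scheme.fromSpecStalk_closedPoint]
    obtain ⟨s, hs, hsU, hsc⟩ := hl x i hi
    obtain ⟨s₀, hs₀, hs₀U, hs₀c⟩ := hl x' i' hi'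
    let T := Spec (Y.presheaf.stalk (f x))
    let s' : T ⟶ X := Spec.map (Y.presheaf.stalkCongr (.of_eq hxx')).inv ≫ s₀
    have hs' : s' ≫ f = Y.fromSpecStalk (f x) := by
      rw [Category.assoc, hs₀, TopCat.Presheaf.stalkCongr_inv]
      exact Scheme.SpecMap_stalkSpecializes_fromSpecStalk _
    have hs'U : ∀ p, s' p ∈ U i' := fun p => hs₀U _
    have hs'c : s' (IsLocalRing.closedPoint _) = x' := by
      refine hinjU i' _ x' (hs'U _) hi' ?_
      erw [← Scheme.Hom.comp_apply, hs', Scheme.fromSpecStalk_closedPoint, hxx']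
    let d : T ⟶ Limits.pullback f f := Limits.pullback.lift s s' (hs.trans hs'.symm)
    let e := Limits.pullback.fst d (Limits.pullback.diagonal f)
    have : IsClosedImmersion e :=
      MorphismProperty.of_isPullback (IsPullback.of_hasPullback d (Limits.pullback.diagonal f)).flip
        inferInstance
    have hclosed : IsClosed (Set.range e) := e.isClosedEmbedding.isClosed_range
    -- minimal points lie in the equalizer
    have hmin : ∀ p : T, (∀ q, q ⤳ p → q = p) → p ∈ Set.range e := by
      intro p hp
      have hcase : ∀ (t : T ⟶ X), t ≫ f = Y.fromSpecStalk (f x) → ∀ k, (∀ r, t r ∈ U k) →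
          ∀ l, t p ∈ U l := by
        intro t ht k htk
        refine hmax (t p) fun b hb => ?_
        have hbp : f b ⤳ f x := by
          have h1 := (hb.map f.continuous)
          rw [← Scheme.Hom.comp_apply, ht] at h1
          exact h1.trans (Scheme.range_fromSpecStalk (X := Y) (x := f x) ▸ Set.mem_range_self p :
            Y.fromSpecStalk (f x) p ∈ {y | y ⤳ f x})
        obtain ⟨q, hq⟩ : f b ∈ Set.range (Y.fromSpecStalk (f x)) := by
          rw [Scheme.range_fromSpecStalk]; exact hbp
        have hqp : q ⤳ p := by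
          rw [← (Y.fromSpecStalk (f x)).isEmbedding.isInducing.specializes_iff, hq, ← ht,
            Scheme.Hom.comp_apply]
          exact hb.map f.continuous
        refine hinjU k b (t p) (hgen k _ _ hb (htk p)) (htk p) ?_
        rw [← hq, hp q hqp, ← Scheme.Hom.comp_apply, ht]
      have h1 := hcase s hs i hsU i
      have h2 := hcase s' hs' i' hs'U i
      let κ := T.fromSpecResidueField p
      have hk : κ ≫ s = κ ≫ s' := by
        have r1 : Set.range (κ ≫ s) ⊆ Set.range (U i).ι := by
          rintro _ ⟨w, rfl⟩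
          simpa [κ] using h1
        have r2 : Set.range (κ ≫ s') ⊆ Set.range (U i).ι := by
          rintro _ ⟨w, rfl⟩
          simpa [κ] using h2
        rw [← IsOpenImmersion.lift_fac _ _ r1, ← IsOpenImmersion.lift_fac _ _ r2]
        congr 1
        rw [← cancel_mono ((U i).ι ≫ f), IsOpenImmersion.lift_fac_assoc,
          IsOpenImmersion.lift_fac_assoc, Category.assoc, Category.assoc, hs, hs']
      have hd' : κ ≫ d = (κ ≫ s) ≫ Limits.pullback.diagonal f :=
        Limits.pullback.hom_ext
          (by simp only [d, Category.assoc, Limits.pullback.diagonal_fst, Category.comp_id]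
              exact congrArg (κ ≫ ·) (Limits.pullback.lift_fst s s' (hs.trans hs'.symm)))
          (by simp only [d, Category.assoc, Limits.pullback.diagonal_snd, Category.comp_id]
              exact (congrArg (κ ≫ ·) (Limits.pullback.lift_snd s s' (hs.trans hs'.symm))).trans hk.symm)
      obtain ⟨w⟩ : Nonempty ↑(Spec (T.residueField p)) := inferInstance
      refine ⟨Limits.pullback.lift κ (κ ≫ s) hd' w, ?_⟩
      rw [← Scheme.Hom.comp_apply, Limits.pullback.lift_fst]
      exact T.fromSpecResidueField_apply p w
    obtain ⟨m, hm, hmle⟩ := Ideal.exists_minimalPrimes_le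
      (J := (IsLocalRing.closedPoint (Y.presheaf.stalk (f x))).asIdeal) (bot_le (a := _))
    let p : T := ⟨m, hm.1.1⟩
    have hpmin : ∀ q : T, q ⤳ p → q = p := fun q hq => by
      have hle : q.asIdeal ≤ m := (PrimeSpectrum.le_iff_specializes q p).mpr hq
      exact PrimeSpectrum.ext (le_antisymm hle (hm.2 ⟨q.2, bot_le⟩ hle))
    have hc : IsLocalRing.closedPoint _ ∈ Set.range e :=
      (IsLocalRing.specializes_closedPoint p).mem_closed hclosed (hmin p hpmin)
    obtain ⟨w, hw⟩ := hc
    have he : e ≫ s = e ≫ s' := by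
      have h := Limits.pullback.condition (f := d) (g := Limits.pullback.diagonal f)
      have h1 := congr($h ≫ Limits.pullback.fst f f)
      have h2 := congr($h ≫ Limits.pullback.snd f f)
      simp only [d, Category.assoc, Limits.pullback.lift_fst, Limits.pullback.lift_snd, Limits.pullback.diagonal_fst,
        Limits.pullback.diagonal_snd, Category.comp_id] at h1 h2
      exact h1.trans h2.symm
    have := congr($he w)
    rw [Scheme.Hom.comp_apply, Scheme.Hom.comp_apply, hw, hsc, hs'c] at this
    exact this
  have : IsOpenImmersion f := by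
    refine (IsOpenImmersion.iff_isIso_stalkMap (f := f)).mpr ⟨?_, fun x => ?_⟩
    · refine Topology.IsOpenEmbedding.of_continuous_injective_isOpenMap f.continuous hinj ?_
      intro O hO
      have : f '' O = ⋃ i, ((U i).ι ≫ f) '' ((U i).ι ⁻¹' O) := by
        ext y
        simp only [Set.mem_image, Set.mem_iUnion, Set.mem_preimage, Scheme.Hom.comp_apply]
        constructor
        · rintro ⟨z, hz, rfl⟩
          obtain ⟨k, hk⟩ := hmem z
          exact ⟨k, ⟨z, hk⟩, hz, rfl⟩
        · rintro ⟨k, w, hw, rfl⟩
          exact ⟨_, hw, rfl⟩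
      rw [this]
      exact isOpen_iUnion fun k => ((U k).ι ≫ f).isOpenEmbedding.isOpenMap _
        (hO.preimage (U k).ι.continuous)
    · obtain ⟨k, hk⟩ := hmem x
      let xU : (U k).toScheme := ⟨x, hk⟩
      have h1 : IsIso (((U k).ι ≫ f).stalkMap xU) := inferInstance
      rw [Scheme.Hom.stalkMap_comp] at h1
      have h2 : IsIso ((U k).ι.stalkMap xU) :=
        ((IsOpenImmersion.iff_isIso_stalkMap (f := (U k).ι)).mp inferInstance).2 xU
      exact @IsIso.of_isIso_comp_right _ _ _ _ _ _ _ h2 h1
  exact this

end Groth.Agent.S10877
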