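import Mathlib
import Groth.Statements.S10878
-- import your own Groth.Agent.* helpers here

set_option autoImplicit false
universe u
open CategoryTheory AlgebraicGeometry
open FlatMor

namespace Groth.Agent.S10878

lemma stalkMap_surjective_of_comp {A X Y : Scheme.{u}} (j : A ⟶ X) [IsOpenImmersion j]
    (f : X ⟶ Y) (a : A) (h : Function.Surjective ((j ≫ f).stalkMap a)) :
    Function.Surjective (f.stalkMap (j a)) := by
  intro z
  obtain ⟨w, hw⟩ := h (j.stalkMap a z)
  rw [Scheme.Hom.stalkMap_comp] at hw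
  exact ⟨w, (ConcreteCategory.bijective_of_isIso (j.stalkMap a)).1 hw⟩

lemma preimage_coborderRange {X Y : Scheme.{u}} (f : X ⟶ Y) [IsSeparated f] (U : X.Opens)
    (hd : Dense (U : Set X)) [IsImmersion (U.ι ≫ f)] :
    f ⁻¹ᵁ (U.ι ≫ f).coborderRange = U := by
  set W := (U.ι ≫ f).coborderRange
  have hUW : U ≤ f ⁻¹ᵁ W := fun x hx => subset_coborder ⟨⟨x, hx⟩, rfl⟩
  refine le_antisymm ?_ hUW
  let i := X.homOfLE hUW
  have heq : i ≫ (f ∣_ W) = (U.ι ≫ f).liftCoborder := by
    rw [← cancel_mono W.ι, Category.assoc, morphismRestrict_ι, Scheme.homOfLE_ι_assoc,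
      Scheme.Hom.liftCoborder_ι]
  have : IsClosedImmersion (i ≫ (f ∣_ W)) := heq ▸ inferInstance
  have : IsClosedImmersion i := IsClosedImmersion.of_comp i (f ∣_ W)
  intro x hx
  have hdense : DenseRange i := by
    intro z
    rw [(f ⁻¹ᵁ W).ι.isOpenEmbedding.isInducing.closure_eq_preimage_closure_image]
    refine closure_mono ?_ (hd z.1)
    intro a ha
    exact ⟨i ⟨a, ha⟩, ⟨_, rfl⟩, X.homOfLE_apply hUW ⟨a, ha⟩⟩
  have hmem : (⟨x, hx⟩ : (f ⁻¹ᵁ W).toScheme) ∈ Set.range i := by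
    rw [← i.isClosedEmbedding.isClosed_range.closure_eq]
    exact hdense _
  obtain ⟨a, ha⟩ := hmem
  have : U.ι a = x := (X.homOfLE_apply hUW a).symm.trans (congrArg Subtype.val ha)
  exact this ▸ a.2

/-- A separated morphism f : X → Y, with X having finitely many irreducible components, which restricts
to an immersion on each member of a cover of X by dense open subsets, is an immersion. -/
theorem result {X Y : Scheme.{u}} (f : X ⟶ Y) [IsSeparated f]
    (hfin : (irreducibleComponents (X : Type u)).Finite) {ι : Type u} (U : ι → X.Opens)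
    (hU : ⨆ i, U i = ⊤) (hd : ∀ i, Dense (U i : Set X)) (h : ∀ i, IsImmersion ((U i).ι ≫ f)) :
    IsImmersion f := by
  let Ω := fun i => have := h i; ((U i).ι ≫ f).coborderRange
  have hpre : ∀ i, f ⁻¹ᵁ Ω i = U i := fun i => have := h i; preimage_coborderRange f (U i) (hd i)
  have hmem : ∀ x, ∃ i, x ∈ U i := fun x =>
    TopologicalSpace.Opens.mem_iSup.1 (hU ▸ (show x ∈ (⊤ : X.Opens) from trivial))
  have hiff : ∀ i x, f x ∈ Ω i ↔ x ∈ U i := fun i x => by rw [← hpre i]; rfl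
  have hemb : ∀ i, Topology.IsEmbedding ((U i).ι ≫ f) := fun i => have := h i;
    Scheme.Hom.isEmbedding _
  have hinj : Function.Injective f := by
    intro x x' e
    obtain ⟨i, hi⟩ := hmem x
    have hi' : x' ∈ U i := (hiff i x').1 (e ▸ (hiff i x).2 hi)
    exact congrArg Subtype.val ((hemb i).injective (a₁ := ⟨x, hi⟩) (a₂ := ⟨x', hi'⟩) e)
  have hind : Topology.IsInducing f := by
    rw [Topology.isInducing_iff_nhds]
    intro x
    refine le_antisymm (Filter.map_le_iff_le_comap.1 f.continuous.continuousAt) fun s hs => ?_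
    obtain ⟨i, hi⟩ := hmem x
    have h1 : (U i).ι ⁻¹' s ∈ nhds (⟨x, hi⟩ : (U i).toScheme) :=
      (U i).ι.continuous.continuousAt hs
    have h2 := (hemb i).isInducing.nhds_eq_comap (⟨x, hi⟩ : (U i).toScheme)
    obtain ⟨t, ht, hts⟩ := Filter.mem_comap.1 (h2 ▸ h1)
    refine ⟨t ∩ Ω i, Filter.inter_mem ht ((Ω i).isOpen.mem_nhds ((hiff i x).2 hi)), ?_⟩
    rintro z ⟨hzt, hzi⟩
    exact hts (show (⟨z, (hiff i z).1 hzi⟩ : (U i).toScheme) ∈ _ from hzt)
  have hsurj : ∀ x, Function.Surjective (f.stalkMap x) := by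
    intro x
    obtain ⟨i, hi⟩ := hmem x
    have := h i
    have h1 := ((U i).ι ≫ f).stalkMap_surjective ⟨x, hi⟩
    exact stalkMap_surjective_of_comp (U i).ι f ⟨x, hi⟩ h1
  have : IsPreimmersion f :=
    { toSurjectiveOnStalks := ⟨hsurj⟩, isEmbedding := ⟨hind, hinj⟩ }
  refine ⟨?_⟩
  have hr : Set.range f = (⋃ i, (Ω i : Set Y)) ∩ closure (Set.range f) := by
    refine subset_antisymm ?_ ?_
    · rintro _ ⟨x, rfl⟩
      obtain ⟨i, hi⟩ := hmem x
      exact ⟨Set.mem_iUnion.2 ⟨i, (hiff i x).2 hi⟩, subset_closure ⟨x, rfl⟩⟩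
    · rintro y ⟨hy, hyc⟩
      obtain ⟨i, hi⟩ := Set.mem_iUnion.1 hy
      have := h i
      set g := ((U i).ι ≫ f).liftCoborder
      have hcl : IsClosed (Set.range g) := g.isClosedEmbedding.isClosed_range
      have hy' : (⟨y, hi⟩ : (Ω i).toScheme) ∈ Set.range g := by
        rw [← hcl.closure_eq, (Ω i).ι.isOpenEmbedding.isInducing.closure_eq_preimage_closure_image]
        refine closure_mono ?_ ((Ω i).isOpen.inter_closure ⟨hi, hyc⟩)
        rintro _ ⟨hz, x, rfl⟩
        refine ⟨g ⟨x, (hiff i x).1 hz⟩, ⟨_, rfl⟩, ?_⟩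
        exact congrArg (fun k : (U i).toScheme ⟶ Y => k ⟨x, (hiff i x).1 hz⟩)
          (Scheme.Hom.liftCoborder_ι ((U i).ι ≫ f))
      obtain ⟨a, ha⟩ := hy'
      refine ⟨a.1, ?_⟩
      exact (congrArg (fun k : (U i).toScheme ⟶ Y => k a)
          (Scheme.Hom.liftCoborder_ι ((U i).ι ≫ f))).symm.trans (congrArg (Ω i).ι ha)
  rw [hr]
  exact (isOpen_iUnion fun i => (Ω i).isOpen).isLocallyClosed.inter
    isClosed_closure.isLocallyClosed

end Groth.Agent.S10878
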