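import Groth.Statements.S10879
import Mathlib

set_option autoImplicit false
universe u
open CategoryTheory AlgebraicGeometry
open FlatMor

set_option linter.style.haveILetI false

namespace Groth.Agent.S10879
theorem bijective_of_flat_local {R S K : Type*} [CommRing R] [CommRing S] [Field K] [IsLocalRing R] [IsLocalRing S]
    (φ : R →+* S) [IsLocalHom φ] (hφ : φ.Flat) (i : S →+* K) (hi : Function.Injective i)
    (hiφ : Function.Injective (i.comp φ))
    (hfrac : ∀ z : K, ∃ r s : R, s ≠ 0 ∧ z * i (φ s) = i (φ r)) : Function.Bijective φ := by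
  refine ⟨fun a b h => hiφ (congrArg i h), fun a => ?_⟩
  algebraize [φ]
  haveI : IsLocalHom (algebraMap R S) := ‹IsLocalHom φ›
  haveI : Module.FaithfullyFlat R S := Module.FaithfullyFlat.of_flat_of_isLocalHom
  obtain ⟨r, s, hs, hrs⟩ := hfrac (i a)
  have h1 : φ r ∈ (Ideal.span {s}).map φ := by
    rw [Ideal.map_span, Set.image_singleton, Ideal.mem_span_singleton']
    exact ⟨a, hi (by rw [map_mul, hrs])⟩
  have h2 : r ∈ Ideal.span {s} := by
    rw [← Ideal.comap_map_eq_self_of_faithfullyFlat (B := S) (Ideal.span {s})]
    exact h1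
  obtain ⟨t, rfl⟩ := Ideal.mem_span_singleton'.mp h2
  refine ⟨t, hi ?_⟩
  have h3 : i (φ s) ≠ 0 := fun h => hs (hiφ (h.trans (map_zero (i.comp φ)).symm))
  apply mul_right_cancel₀ h3
  rw [hrs, map_mul, map_mul]


/-- Take integral schemes X' and X and a separated surjective morphism f : X' → X which is birational in
the sense that the induced map of function fields (the stalk map of f at the generic point of X') is
an isomorphism, and suppose f is affine (e.g. a normalization) or locally of finite presentation
(e.g. a blow-up of a Noetherian integral scheme). Then f is flat exactly when it is an isomorphism. -/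
theorem result {X' X : Scheme.{u}} [IsIntegral X'] [IsIntegral X]
    (f : X' ⟶ X) [Surjective f] [IsSeparated f] (hK : IsIso (f.stalkMap (genericPoint X')))
    (h : IsAffineHom f ∨ LocallyOfFinitePresentation f) :
    Flat f ↔ IsIso f := by
  refine ⟨fun _ => ?_, fun _ => inferInstance⟩
  haveI := hK
  set η' := genericPoint ↥X'
  have hdom : f η' = genericPoint ↥X := by
    obtain ⟨z, hz⟩ := f.surjective (genericPoint ↥X)
    have h1 : f η' ⤳ genericPoint ↥X := hz ▸ ((genericPoint_spec ↥X').specializes (Set.mem_univ z)).map f.continuous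
    exact (h1.antisymm ((genericPoint_spec ↥X).specializes (Set.mem_univ _))).eq
  have hbij : ∀ x : X', Function.Bijective (f.stalkMap x).hom := fun x => by
    have hsp : η' ⤳ x := (genericPoint_spec ↥X').specializes (Set.mem_univ x)
    have hsp' : genericPoint ↥X ⤳ f x := hdom ▸ hsp.map f.continuous
    let α := (f.stalkMap η').hom
    have hα : Function.Bijective α := (ConcreteCategory.isIso_iff_bijective _).mp hK
    let j := (X.presheaf.stalkSpecializes (hsp.map f.continuous)).hom
    have hcomm : ∀ r, α (j r) = algebraMap (X'.presheaf.stalk x) X'.functionField ((f.stalkMap x).hom r) :=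
      fun r => Scheme.Hom.stalkSpecializes_stalkMap_apply f η' x hsp r
    let e := X.presheaf.stalkCongr (Inseparable.of_eq hdom)
    have he : ∀ r, e.hom.hom (j r) = algebraMap (X.presheaf.stalk (f x)) X.functionField r := fun r =>
      congr($(X.presheaf.stalkSpecializes_comp (x := genericPoint ↥X) (y := f η')
        (Inseparable.of_eq hdom).ge (hsp.map f.continuous)).hom r)
    have hj : Function.Injective j := fun a b hab =>
      IsFractionRing.injective (X.presheaf.stalk (f x)) X.functionField (by rw [← he, ← he, hab])
    refine bijective_of_flat_local (f.stalkMap x).hom (Flat.stalkMap f x)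
      (algebraMap (X'.presheaf.stalk x) X'.functionField) (IsFractionRing.injective _ _) ?_ fun z => ?_
    · intro a b hab
      simp only [RingHom.comp_apply] at hab
      rw [← hcomm, ← hcomm] at hab
      exact hj (hα.1 hab)
    · obtain ⟨w, rfl⟩ := hα.2 z
      obtain ⟨r, s, hs, hrs⟩ := IsFractionRing.div_surjective (A := X.presheaf.stalk (f x)) (e.hom.hom w)
      refine ⟨r, s, nonZeroDivisors.ne_zero hs, ?_⟩
      rw [← hcomm, ← hcomm, ← map_mul]
      congr 1
      apply e.commRingCatIsoToRingEquiv.injective
      rw [map_mul]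
      show e.hom.hom w * e.hom.hom (j s) = e.hom.hom (j r)
      rw [he, he, ← hrs, div_mul_cancel₀]
      exact IsFractionRing.to_map_ne_zero_of_mem_nonZeroDivisors hs
  haveI hst : ∀ x : X', IsIso (f.stalkMap x) := fun x => (ConcreteCategory.isIso_iff_bijective _).mpr (hbij x)
  have hinj : Function.Injective f := by
    intro x₁ x₂ hx
    let σ := X.presheaf.stalkCongr (Inseparable.of_eq hx)
    let e₁₂ : X'.presheaf.stalk x₁ ⟶ X'.presheaf.stalk x₂ := inv (f.stalkMap x₁) ≫ σ.hom ≫ f.stalkMap x₂
    let s₁ : Spec (X'.presheaf.stalk x₂) ⟶ X' := Spec.map e₁₂ ≫ X'.fromSpecStalk x₁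
    have h1 : η' ⤳ x₁ := (genericPoint_spec ↥X').specializes (Set.mem_univ x₁)
    have h2 : η' ⤳ x₂ := (genericPoint_spec ↥X').specializes (Set.mem_univ x₂)
    haveI : IsDominant (Spec.map (X'.presheaf.stalkSpecializes h2)) := ⟨by
      exact PrimeSpectrum.denseRange_comap_iff_ker_le_nilRadical _ |>.mpr (by
        have : Function.Injective (X'.presheaf.stalkSpecializes h2).hom :=
          IsFractionRing.injective (X'.presheaf.stalk x₂) X'.functionField
        rw [(RingHom.injective_iff_ker_eq_bot _).mp this]; exact bot_le)⟩
    have heq : s₁ = X'.fromSpecStalk x₂ := by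
      refine ext_of_isDominant_of_isSeparated f ?_ (Spec.map (X'.presheaf.stalkSpecializes h2)) ?_
      · simp only [s₁, e₁₂, Category.assoc, ← Scheme.SpecMap_stalkMap_fromSpecStalk, ← Spec.map_comp_assoc,
          IsIso.hom_inv_id_assoc]
        rw [Spec.map_comp_assoc]
        congr 1
        exact Scheme.SpecMap_stalkSpecializes_fromSpecStalk (Inseparable.of_eq hx).ge
      · have hsp : e₁₂ ≫ X'.presheaf.stalkSpecializes h2 = X'.presheaf.stalkSpecializes h1 := by
          simp only [e₁₂, Category.assoc, IsIso.inv_comp_eq, ← Scheme.Hom.stalkSpecializes_stalkMap]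
          rw [← Category.assoc]
          congr 1
          exact X.presheaf.stalkSpecializes_comp (h2.map f.continuous) (Inseparable.of_eq hx).ge
        simp only [s₁, ← Spec.map_comp_assoc, hsp, Scheme.SpecMap_stalkSpecializes_fromSpecStalk]
    have h3 := congrArg (fun k : Spec (X'.presheaf.stalk x₂) ⟶ X' => k (IsLocalRing.closedPoint _)) heq
    simp only [s₁, Scheme.Hom.comp_apply] at h3
    haveI : IsLocalHom e₁₂.hom := inferInstance
    rw [show Spec.map e₁₂ (IsLocalRing.closedPoint _) = IsLocalRing.closedPoint _ from
      IsLocalRing.comap_closedPoint e₁₂.hom] at h3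
    simpa using h3
  have hhom : IsHomeomorph f := by
    rcases h with h | h
    · haveI := h
      have hq := Flat.isQuotientMap_of_surjective f
      refine ⟨f.continuous, fun U hU => ?_, hinj, f.surjective⟩
      rw [← hq.isOpen_preimage, Set.preimage_image_eq _ hinj]
      exact hU
    · haveI := h
      exact ⟨f.continuous, f.isOpenMap, hinj, f.surjective⟩
  haveI : IsIso f.base := (TopCat.isIso_iff_isHomeomorph _).mpr hhom
  exact (isIso_iff_isIso_stalkMap (f := f)).mpr ⟨inferInstance, inferInstance⟩

end Groth.Agent.S10879
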