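import Groth.Statements.S10880
import Groth.Agent.Lib.Flat55.GenericPoints
import Groth.Agent.Lib.Flat55.FibreAffine
import Mathlib.AlgebraicGeometry.Morphisms.Flat
import Mathlib.RingTheory.Flat.TorsionFree
import Mathlib.RingTheory.Nakayama
import Mathlib.RingTheory.DiscreteValuationRing.Basic
import Mathlib.RingTheory.LocalRing.ResidueField.Ideal
import Mathlib.RingTheory.Ideal.MinimalPrime.Basic
import Mathlib.AlgebraicGeometry.FunctionField

set_option autoImplicit false
universe u
open CategoryTheory AlgebraicGeometry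
open FlatMor

namespace Groth.Agent.S10880

open TensorProduct in
theorem flat_of_reduced_quotient (R S : Type u) [CommRing R] [IsDomain R] [IsDiscreteValuationRing R]
    [CommRing S] [IsNoetherianRing S] [Algebra R S]
    (hmin : ∀ q ∈ minimalPrimes S, Ideal.comap (algebraMap R S) q ≠ IsLocalRing.maximalIdeal R)
    (hred : _root_.IsReduced ((IsLocalRing.maximalIdeal R).Fiber S)) : Module.Flat R S := by
  obtain ⟨ϖ, hϖ⟩ := IsDiscreteValuationRing.exists_irreducible R
  have hm : IsLocalRing.maximalIdeal R = Ideal.span {ϖ} := hϖ.maximalIdeal_eq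
  set c := algebraMap R S ϖ with hc
  have hker : ∀ s : S, IsNilpotent s → ∃ t, s = c * t := by
    intro s hs
    have h0 : ((1 : (IsLocalRing.maximalIdeal R).ResidueField) ⊗ₜ[R] s :
        (IsLocalRing.maximalIdeal R).Fiber S) = 0 :=
      hred.eq_zero _ (hs.map (Algebra.TensorProduct.includeRight :
        S →ₐ[R] (IsLocalRing.maximalIdeal R).ResidueField ⊗[R] S))
    let e : (R ⧸ IsLocalRing.maximalIdeal R) ≃ₗ[R] (IsLocalRing.maximalIdeal R).ResidueField :=
      LinearEquiv.ofBijective (IsScalarTower.toAlgHom R _ _).toLinearMap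
        (Ideal.bijective_algebraMap_quotient_residueField _)
    have h1 : ((1 : R ⧸ IsLocalRing.maximalIdeal R) ⊗ₜ[R] s) = 0 := by
      apply (e.rTensor S).injective
      simpa [e] using h0
    have h2 := congrArg (quotTensorEquivQuotSMul S (IsLocalRing.maximalIdeal R)) h1
    rw [← map_one (Ideal.Quotient.mk _), quotTensorEquivQuotSMul_mk_tmul, map_zero, one_smul,
      Submodule.Quotient.mk_eq_zero, hm, Submodule.ideal_span_singleton_smul,
      Submodule.mem_smul_pointwise_iff_exists] at h2
    obtain ⟨t, -, ht⟩ := h2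
    exact ⟨t, by rw [← ht, Algebra.smul_def]⟩
  let T : Ideal S :=
  { carrier := {a | ∃ n : ℕ, c ^ n * a = 0}
    add_mem' := by
      rintro a b ⟨n, hn⟩ ⟨m, hm⟩
      refine ⟨n + m, ?_⟩
      rw [mul_add, pow_add, mul_comm (c ^ n) (c ^ m), mul_assoc, hn, mul_comm (c ^ m) (c ^ n),
        mul_assoc, hm, mul_zero, mul_zero, add_zero]
    zero_mem' := ⟨0, by simp⟩
    smul_mem' := by
      rintro r a ⟨n, hn⟩
      exact ⟨n, by rw [smul_eq_mul, mul_left_comm, hn, mul_zero]⟩ }
  have hTnil : ∀ a ∈ T, IsNilpotent a := by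
    rintro a ⟨n, hn⟩
    rw [← mem_nilradical, nilradical_eq_sInf, Ideal.mem_sInf]
    intro J (hJ : J.IsPrime)
    obtain ⟨q, hq, hqJ⟩ := Ideal.exists_minimalPrimes_le (bot_le : (⊥ : Ideal S) ≤ J)
    have hqp : q.IsPrime := hq.1.1
    refine hqJ ((hqp.mem_or_mem (hn ▸ q.zero_mem : c ^ n * a ∈ q)).resolve_left fun h ↦ hmin q hq ?_)
    have hcq : c ∈ q := hqp.mem_of_pow_mem n h
    refine ((IsLocalRing.maximalIdeal.isMaximal R).eq_of_le (Ideal.IsPrime.comap _).ne_top ?_).symm
    rw [hm, Ideal.span_singleton_le_iff_mem]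
    exact hcq
  have hTle : T ≤ Ideal.span {c} • T := by
    rintro a ⟨n, hn⟩
    obtain ⟨b, hb⟩ := hker a (hTnil a ⟨n, hn⟩)
    have hbT : b ∈ T := ⟨n + 1, by rw [pow_succ, mul_assoc, ← hb, hn]⟩
    rw [hb]
    exact Submodule.smul_mem_smul (Ideal.mem_span_singleton_self c) hbT
  obtain ⟨e, he, heT⟩ := Submodule.exists_sub_one_mem_and_smul_eq_zero_of_fg_of_le_smul
    (Ideal.span {c}) T (IsNoetherian.noetherian T) hTle
  obtain ⟨t, ht⟩ := Ideal.mem_span_singleton'.1 he
  have key : ∀ a : S, c * a = 0 → a = 0 := by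
    intro a ha
    have := heT a ⟨1, by rwa [pow_one]⟩
    rw [smul_eq_mul, show e = 1 + t * c by rw [ht]; ring, add_mul, one_mul, mul_assoc, ha, mul_zero,
      add_zero] at this
    exact this
  rw [IsDedekindDomain.flat_iff_torsion_eq_bot, eq_bot_iff]
  rintro a ⟨⟨r, hr⟩, hra⟩
  have hr0 : r ≠ 0 := nonZeroDivisors.ne_zero hr
  obtain ⟨n, u, hu⟩ := IsDiscreteValuationRing.eq_unit_mul_pow_irreducible hr0 hϖ
  have h1 : ∀ n : ℕ, c ^ n * a = 0 → a = 0 := by
    intro n
    induction n with
    | zero => simp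
    | succ n ih => intro h; exact ih (key _ (by rw [← mul_assoc, ← pow_succ', h]))
  refine h1 n ?_
  replace hra : r • a = 0 := hra
  rw [hu, Algebra.smul_def, map_mul, map_pow, mul_assoc] at hra
  exact (u.isUnit.map (algebraMap R S)).mul_right_eq_zero.1 hra


/-- Let R be a discrete valuation ring and X a locally Noetherian scheme over Spec R whose
scheme-theoretic special fibre is reduced and such that every maximal point of the special fibre
lies in the closure of the generic fibre, i.e. the generic fibre is dense in X. Then X is flat over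
R. -/
theorem result (R : Type u) [CommRing R] [IsDomain R]
    [IsDiscreteValuationRing R] {X : Scheme.{u}} (f : X ⟶ Spec (CommRingCat.of R)) [IsLocallyNoetherian X]
    (hred : IsReduced (f.fiber (IsLocalRing.closedPoint R)))
    (hdense : Dense (f.base ⁻¹' {genericPoint (Spec (CommRingCat.of R))})) : Flat f := by
  refine (IsZariskiLocalAtSource.iff_of_iSup_eq_top (P := @Flat) _ (iSup_affineOpens_eq_top X)).2
    fun ⟨U, hU⟩ ↦ ?_
  obtain ⟨φ, hφ⟩ := Spec.map_surjective (hU.fromSpec ≫ f)
  algebraize [φ.hom]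
  have : IsNoetherianRing Γ(X, U) := IsLocallyNoetherian.component_noetherian ⟨U, hU⟩
  have hflat : Module.Flat R Γ(X, U) := by
    have hw : hU.fromSpec ≫ f = Spec.map (CommRingCat.ofHom (algebraMap R Γ(X, U))) ≫
        𝟙 (Spec (CommRingCat.of R)) := by rw [Category.comp_id]; exact hφ.symm
    refine flat_of_reduced_quotient R Γ(X, U) (fun q hq he ↦ ?_) ?_
    · have hg : hU.fromSpec ⟨q, hq.1.1⟩ ∈ genericPoints X := by
        refine Lib.Flat55.GenericPoints.apply_mem_of_isOpenEmbedding hU.fromSpec.isOpenEmbedding ?_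
        refine Lib.Flat55.GenericPoints.mem_of_forall_specializes fun q' hq' ↦ ?_
        have hle : q'.asIdeal ≤ q := (PrimeSpectrum.le_iff_specializes q' ⟨q, hq.1.1⟩).2 hq'
        exact PrimeSpectrum.ext (le_antisymm hle (hq.2 ⟨q'.2, bot_le⟩ hle))
      have hopen : IsOpen (f.base ⁻¹' {genericPoint (Spec (CommRingCat.of R))}) := by
        refine IsOpen.preimage f.continuous ?_
        have : ({genericPoint (Spec (CommRingCat.of R))} : Set (Spec (CommRingCat.of R))) =
            {IsLocalRing.closedPoint R}ᶜ := by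
          rw [genericPoint_eq_bot_of_affine]
          ext p
          simp only [Set.mem_singleton_iff, Set.mem_compl_iff]
          constructor
          · rintro rfl h
            exact IsDiscreteValuationRing.not_a_field R (congrArg PrimeSpectrum.asIdeal h).symm
          · intro h
            by_contra hne
            exact h (PrimeSpectrum.ext (IsLocalRing.eq_maximalIdeal
              (Ideal.IsPrime.isMaximal p.2 fun h0 ↦ hne (PrimeSpectrum.ext h0))))
        rw [this]
        exact (PrimeSpectrum.isClosed_singleton_iff_isMaximal _).2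
          (IsLocalRing.maximalIdeal.isMaximal R) |>.isOpen_compl
      have h1 : hU.fromSpec ⟨q, hq.1.1⟩ ∈ (⟨_, hopen⟩ : X.Opens) :=
        Lib.Flat55.GenericPoints.mem_dense_open hdense hg
      have h2 : Spec.map φ ⟨q, hq.1.1⟩ = genericPoint (Spec (CommRingCat.of R)) := by
        rw [hφ]; exact h1
      rw [genericPoint_eq_bot_of_affine] at h2
      exact IsDiscreteValuationRing.not_a_field R
        (he.symm.trans (congrArg PrimeSpectrum.asIdeal h2))
    · have : IsReduced (f.fiber ((𝟙 (Spec (CommRingCat.of R)) : _ ⟶ _) (IsLocalRing.closedPoint R))) :=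
        hred
      exact Lib.Flat55.FibreAffine.isReduced_fiber f R Γ(X, U) (𝟙 _) hU.fromSpec hw
        (IsLocalRing.closedPoint R)
  have hF : Flat (hU.fromSpec ≫ f) := by
    rw [← hφ, Flat.SpecMap_iff]
    exact hflat
  rw [show U.ι ≫ f = hU.isoSpec.hom ≫ hU.fromSpec ≫ f by simp]
  infer_instance


end Groth.Agent.S10880
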