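import Groth.Statements.S10881
import Groth.Agent.H20.RegularFlat
import Groth.Agent.Lib.Regular.UFD
import Groth.Agent.Lib.Regular.Quotient
import Groth.Agent.Lib.Depth.CM
import Groth.Agent.Lib.Dim.Integral
import Mathlib.RingTheory.IntegralClosure.GoingDown

set_option autoImplicit false
universe u
open CategoryTheory AlgebraicGeometry
open FlatMor

namespace Groth.Agent.S10881

open IsLocalRing
open Groth.Agent.Lib

/-- Over a normal local ring the height does not drop along a finite map with dominant component. -/
theorem height_le {R A : Type u} [CommRing R] [CommRing A] [Algebra R A] [Module.Finite R A]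
    (P : Ideal A) [P.IsPrime] (q : Ideal A) [q.IsPrime] (hqP : q ≤ P)
    (hq : q.comap (algebraMap R A) ∈ minimalPrimes R)
    (hd : IsDomain (Localization.AtPrime (P.comap (algebraMap R A))))
    (hic : IsIntegrallyClosed (Localization.AtPrime (P.comap (algebraMap R A)))) :
    (P.comap (algebraMap R A)).height ≤ P.height := by
  set p := P.comap (algebraMap R A)
  let M := Algebra.algebraMapSubmonoid A p.primeCompl
  have hdisj : ∀ J : Ideal A, J ≤ P → Disjoint (M : Set A) J := fun J hJ => by
    refine Set.disjoint_left.mpr ?_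
    rintro _ ⟨r, hr, rfl⟩ hrJ
    exact hr (hJ hrJ)
  let Ap := Localization M
  let Rp := Localization.AtPrime p
  haveI : Module.Finite Rp Ap := Module.Finite.of_isLocalization R A p.primeCompl
  let Q := q.map (algebraMap A Ap)
  haveI : Q.IsPrime := IsLocalization.isPrime_of_isPrime_disjoint M _ q inferInstance (hdisj q hqP)
  let C := Ap ⧸ Q
  haveI : Algebra.IsIntegral Rp C := Algebra.IsIntegral.of_finite Rp C
  haveI : IsScalarTower R Rp C := inferInstance
  haveI : FaithfulSMul Rp C := by
    refine (faithfulSMul_iff_algebraMap_injective Rp C).mpr ?_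
    rw [RingHom.injective_iff_ker_eq_bot]
    let K := RingHom.ker (algebraMap Rp C)
    haveI : K.IsPrime := RingHom.ker_isPrime _
    have h1 : (⊥ : Ideal Rp).comap (algebraMap R Rp) ≤ q.comap (algebraMap R A) := by
      intro r hr
      rw [Ideal.mem_comap, Ideal.mem_bot, IsLocalization.map_eq_zero_iff p.primeCompl] at hr
      obtain ⟨⟨s, hs⟩, hsr⟩ := hr
      refine ((inferInstance : (q.comap (algebraMap R A)).IsPrime).mem_or_mem (x := s) (y := r)
        (hsr.symm ▸ zero_mem _)).resolve_left fun h => hs ?_
      exact hqP h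
    haveI := Ideal.isPrime_bot (α := Rp)
    have h2 : q.comap (algebraMap R A) ≤ (⊥ : Ideal Rp).comap (algebraMap R Rp) :=
      hq.2 ⟨Ideal.comap_isPrime _ _, bot_le⟩ h1
    change K = ⊥
    rw [eq_bot_iff, ← IsLocalization.map_comap p.primeCompl Rp K, Ideal.map_le_iff_le_comap]
    intro r hr
    refine h2 ?_
    have hr' : algebraMap R Ap r ∈ Q := by
      rw [← Ideal.Quotient.eq_zero_iff_mem]
      show algebraMap R C r = 0
      rw [IsScalarTower.algebraMap_apply R Rp C]
      exact hr
    rw [IsScalarTower.algebraMap_apply R A Ap] at hr'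
    have := IsLocalization.under_map_of_isPrime_disjoint M Ap (inferInstance : q.IsPrime) (hdisj q hqP)
    exact this.le hr'
  let P' := P.map (algebraMap A Ap)
  haveI : P'.IsPrime := IsLocalization.isPrime_of_isPrime_disjoint M _ P inferInstance (hdisj P le_rfl)
  have hP' : P'.comap (algebraMap A Ap) = P :=
    IsLocalization.under_map_of_isPrime_disjoint M Ap (inferInstance : P.IsPrime) (hdisj P le_rfl)
  let P'' := P'.map (Ideal.Quotient.mk Q)
  haveI : P''.IsPrime := Ideal.map_isPrime_of_surjective Ideal.Quotient.mk_surjective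
    (by rw [Ideal.mk_ker]; exact Ideal.map_mono hqP)
  have hP'' : P''.comap (algebraMap A C) = P := by
    rw [show algebraMap A C = (Ideal.Quotient.mk Q).comp (algebraMap A Ap) from rfl, ← Ideal.comap_comap,
      Ideal.comap_map_of_surjective' _ Ideal.Quotient.mk_surjective, Ideal.mk_ker,
      sup_eq_left.mpr (Ideal.map_mono hqP), hP']
  have hmax : (P''.under Rp).comap (algebraMap R Rp) = p := by
    rw [Ideal.under_def, Ideal.comap_comap, ← IsScalarTower.algebraMap_eq R Rp C,
      IsScalarTower.algebraMap_eq R A C, ← Ideal.comap_comap, hP'']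
  have h3 : P''.height = p.height := by
    rw [Dim.Integral.height_eq_height_under (R := Rp) P'',
      ← IsLocalization.height_under p.primeCompl (P''.under Rp)]
    exact congrArg Ideal.height hmax
  have h4 : P''.height ≤ P.height := by
    let φ : PrimeSpectrum C → PrimeSpectrum A := PrimeSpectrum.comap (algebraMap A C)
    have hinj : Function.Injective φ := by
      intro a b h
      refine PrimeSpectrum.comap_injective_of_surjective _ Ideal.Quotient.mk_surjective
        (PrimeSpectrum.localization_comap_injective Ap M ?_)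
      exact h
    have hmono : StrictMono φ :=
      Monotone.strictMono_of_injective (fun a b h => Ideal.comap_mono h) hinj
    rw [PrimeSpectrum.height_eq_orderHeight ⟨P'', inferInstance⟩, PrimeSpectrum.height_eq_orderHeight ⟨P, inferInstance⟩]
    refine (Order.height_le_height_apply_of_strictMono φ hmono _).trans_eq ?_
    exact congrArg Order.height (PrimeSpectrum.ext hP'')
  exact h3.ge.trans h4

/-- Miracle flatness for finite algebras. -/
theorem flat_alg {R A : Type u} [CommRing R] [CommRing A] [Algebra R A] [Module.Finite R A]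
    [IsNoetherianRing R]
    (hA : ∀ P : Ideal A, ∀ [P.IsPrime], IsRegularLocalRing (Localization.AtPrime P))
    (hR : ∀ P : Ideal R, ∀ [P.IsPrime], IsRegularLocalRing (Localization.AtPrime P))
    (hdom : ∀ q ∈ minimalPrimes A, Ideal.comap (algebraMap R A) q ∈ minimalPrimes R) :
    Module.Flat R A := by
  haveI : IsNoetherianRing A := isNoetherian_of_tower R inferInstance
  refine Module.flat_of_isLocalized_maximal A A (fun P => Localization.AtPrime P)
    (fun P => Algebra.linearMap A _) fun P _ => ?_
  let p := P.comap (algebraMap R A)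
  let Rp := Localization.AtPrime p
  let B := Localization.AtPrime P
  haveI : IsRegularLocalRing Rp := hR p
  haveI : IsRegularLocalRing B := hA P
  let φ : Rp →+* B := Localization.localRingHom p P (algebraMap R A) rfl
  letI := φ.toAlgebra
  haveI : IsScalarTower R Rp B := IsScalarTower.of_algebraMap_eq fun r => by
    exact ((Localization.localRingHom_to_map p P (algebraMap R A) rfl r).trans
      (IsScalarTower.algebraMap_apply R A B r).symm).symm
  haveI : IsLocalHom (algebraMap Rp B) := Localization.isLocalHom_localRingHom _ _ _ rfl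
  haveI : LocCoh.IsCohenMacaulayLocalRing B := by
    obtain ⟨rs, hrs, hlen⟩ : ∃ rs : List B,
        Ideal.ofList rs = maximalIdeal B ∧ rs.length = (maximalIdeal B).spanFinrank := by
      have hfg : (maximalIdeal B).FG := IsNoetherian.noetherian _
      refine ⟨(Submodule.FG.finite_generators hfg).toFinset.toList, ?_, ?_⟩
      · simp only [Ideal.ofList, Finset.mem_toList, Set.Finite.mem_toFinset, Set.ofPred_mem_eq]
        exact Submodule.span_generators _
      · rw [Finset.length_toList,
          ← Set.ncard_eq_toFinset_card _ (Submodule.FG.finite_generators hfg),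
          Submodule.FG.generators_ncard hfg]
    refine Depth.CM.isCohenMacaulayLocalRing_of_isRegular
      (Regular.Quotient.isRegular_of_span_eq_maximalIdeal rs hrs hlen) ?_
    rw [hlen, IsRegularLocalRing.spanFinrank_maximalIdeal]
  obtain ⟨q, hq, hqP⟩ := Ideal.exists_minimalPrimes_le (I := (⊥ : Ideal A)) (J := P) bot_le
  haveI := hq.1.1
  have hdomR : IsDomain Rp := Regular.Quotient.isDomain Rp
  have hicR : IsIntegrallyClosed Rp := Regular.UFD.isIntegrallyClosed Rp
  have hh := height_le P q hqP (hdom q hq) hdomR hicR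
  haveI : Algebra.IsIntegral R A := Algebra.IsIntegral.of_finite R A
  haveI : Ring.KrullDimLE 0 (B ⧸ (maximalIdeal Rp).map (algebraMap Rp B)) := by
    refine Ring.KrullDimLE.mk₀ fun Q _ => ?_
    let Q₁ : Ideal B := Q.comap (Ideal.Quotient.mk _)
    let Q₀ : Ideal A := Q₁.comap (algebraMap A B)
    have hle : Q₀ ≤ P := by
      have := IsLocalRing.le_maximalIdeal (Ideal.IsPrime.ne_top (inferInstance : Q₁.IsPrime))
      exact (Ideal.comap_mono this).trans_eq (IsLocalization.AtPrime.under_maximalIdeal B P)
    have hpQ : p ≤ Q₀.comap (algebraMap R A) := by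
      intro r hr
      show algebraMap A B (algebraMap R A r) ∈ Q₁
      rw [← IsScalarTower.algebraMap_apply R A B, IsScalarTower.algebraMap_apply R Rp B]
      show Ideal.Quotient.mk _ _ ∈ Q
      rw [Ideal.Quotient.eq_zero_iff_mem.mpr (Ideal.mem_map_of_mem _
        ((IsLocalization.AtPrime.to_map_mem_maximal_iff Rp p r).mpr hr))]
      exact zero_mem _
    have heq : Q₀ = P := by
      by_contra hne
      exact (Ideal.IntegralClosure.comap_lt_comap (lt_of_le_of_ne hle hne)).not_ge hpQ
    have hQ₁ : Q₁ = maximalIdeal B := by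
      rw [← IsLocalization.map_comap P.primeCompl B Q₁]
      exact (congrArg (Ideal.map (algebraMap A B)) heq).trans (Localization.AtPrime.map_eq_maximalIdeal)
    rw [← Ideal.map_comap_of_surjective _ Ideal.Quotient.mk_surjective Q]
    haveI : Q₁.IsMaximal := hQ₁ ▸ maximalIdeal.isMaximal B
    refine (Ideal.map_eq_top_or_isMaximal_of_surjective _ Ideal.Quotient.mk_surjective
      (I := Q₁) ‹_›).resolve_left ?_
    rw [Ideal.map_comap_of_surjective _ Ideal.Quotient.mk_surjective]
    exact Ideal.IsPrime.ne_top ‹_›
  haveI : Module.Flat Rp B := by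
    refine H20.RegularFlat.flat_of_supportDim_eq Rp B B Depth.CM.isCohenMacaulayModule_self ?_
    rw [Module.supportDim_eq_of_equiv (Submodule.quotEquivOfEq _
        ((maximalIdeal Rp).map (algebraMap Rp B)) (by simp)),
      Module.supportDim_quotient_eq_ringKrullDim, Module.supportDim_self_eq_ringKrullDim]
    refine le_trans (add_le_add (b := (0 : WithBot ℕ∞)) ((Ring.krullDimLE_iff (n := 0)).mp ‹_›) le_rfl) ?_
    rw [zero_add, IsLocalization.AtPrime.ringKrullDim_eq_height p Rp,
      IsLocalization.AtPrime.ringKrullDim_eq_height P B]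
    exact_mod_cast hh
  exact Module.Flat.trans R Rp B

/-- Components of an affine open. -/
theorem closure_mem_iff {X : Scheme.{u}} (x : X) :
    closure ({x} : Set X) ∈ irreducibleComponents (X : Type u) ↔ ∀ y : X, y ⤳ x → y = x := by
  constructor
  · intro h y hy
    have h1 : closure ({x} : Set X) ⊆ closure {y} := specializes_iff_closure_subset.mp hy
    have h2 := h.2 isIrreducible_singleton.closure h1
    exact hy.antisymm (specializes_iff_closure_subset.mpr h2) |>.eq
  · intro h
    obtain ⟨Z, hZ, hxZ⟩ := exists_mem_irreducibleComponents_subset_of_isIrreducible _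
      (isIrreducible_singleton (x := x)).closure
    obtain ⟨z, hz⟩ := QuasiSober.sober hZ.1 (isClosed_of_mem_irreducibleComponents Z hZ)
    have hzx : z ⤳ x := hz.specializes (hxZ (subset_closure rfl))
    obtain rfl := h z hzx
    rwa [hz.def]

/-- A finite morphism f : X → Y between regular schemes (locally Noetherian with regular local rings)
under which each irreducible component of X dominates some irreducible component of Y is flat, hence
finite locally free. (The published statement asks only that f be dominant; for X the disjoint union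
of the affine line and a point, mapped to the affine line Y by the identity and the inclusion of a
closed point, f is finite and dominant between regular schemes but not flat, and the published
argument uses injectivity of the local ring maps, which holds exactly under the component-wise
dominance assumed here.) -/
theorem result {X Y : Scheme.{u}} (f : X ⟶ Y) [IsFinite f]
    [IsLocallyNoetherian X] [IsLocallyNoetherian Y]
    (hX : ∀ x : X, IsRegularLocalRing (X.presheaf.stalk x))
    (hY : ∀ y : Y, IsRegularLocalRing (Y.presheaf.stalk y))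
    (hdom : ∀ Z ∈ irreducibleComponents (X : Type u), closure (f.base '' Z) ∈ irreducibleComponents (Y : Type u)) :
    Flat f := by
  refine ⟨fun {U} hU {V} hV e => ?_⟩
  have hW : IsAffineOpen (f ⁻¹ᵁ U) := hU.preimage f
  rw [← Scheme.Hom.appLE_map (f := f) (i := homOfLE e |>.op) (e := le_rfl), CommRingCat.hom_comp]
  refine RingHom.Flat.comp ?_ (by
    have h := (𝟙 X : X ⟶ X).flat_appLE hW hV e
    simp only [Scheme.Hom.appLE, Scheme.Hom.id_app] at h
    erw [Category.id_comp] at h
    exact h)
  rw [Scheme.Hom.appLE_eq_app]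
  letI : Algebra Γ(Y, U) Γ(X, f ⁻¹ᵁ U) := (f.app U).hom.toAlgebra
  haveI : Module.Finite Γ(Y, U) Γ(X, f ⁻¹ᵁ U) := f.finite_app U hU
  haveI : IsNoetherianRing Γ(Y, U) := IsLocallyNoetherian.component_noetherian ⟨U, hU⟩
  refine flat_alg (R := Γ(Y, U)) (A := Γ(X, f ⁻¹ᵁ U)) ?_ ?_ ?_
  · intro P _
    let z : PrimeSpectrum Γ(X, f ⁻¹ᵁ U) := ⟨P, inferInstance⟩
    have hz : hW.fromSpec z ∈ f ⁻¹ᵁ U := hW.range_fromSpec.le ⟨z, rfl⟩
    letI : Algebra Γ(X, f ⁻¹ᵁ U) (X.presheaf.stalk (hW.fromSpec z)) :=
      X.presheaf.algebra_section_stalk ⟨_, hz⟩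
    haveI : IsLocalization.AtPrime (X.presheaf.stalk (hW.fromSpec z)) P := hW.isLocalization_stalk' z hz
    haveI := hX (hW.fromSpec z)
    exact IsRegularLocalRing.of_ringEquiv
      (IsLocalization.algEquiv P.primeCompl (X.presheaf.stalk (hW.fromSpec z)) (Localization.AtPrime P)).toRingEquiv
  · intro P _
    let z : PrimeSpectrum Γ(Y, U) := ⟨P, inferInstance⟩
    have hz : hU.fromSpec z ∈ U := hU.range_fromSpec.le ⟨z, rfl⟩
    letI : Algebra Γ(Y, U) (Y.presheaf.stalk (hU.fromSpec z)) :=
      Y.presheaf.algebra_section_stalk ⟨_, hz⟩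
    haveI : IsLocalization.AtPrime (Y.presheaf.stalk (hU.fromSpec z)) P := hU.isLocalization_stalk' z hz
    haveI := hY (hU.fromSpec z)
    exact IsRegularLocalRing.of_ringEquiv
      (IsLocalization.algEquiv P.primeCompl (Y.presheaf.stalk (hU.fromSpec z)) (Localization.AtPrime P)).toRingEquiv
  · intro q hq
    haveI := hq.1.1
    let zq : ↥(Spec Γ(X, f ⁻¹ᵁ U)) := (⟨q, hq.1.1⟩ : PrimeSpectrum Γ(X, f ⁻¹ᵁ U))
    have hcomp : closure ({hW.fromSpec zq} : Set X) ∈ irreducibleComponents (X : Type u) := by
      refine (closure_mem_iff _).mpr fun y hy => ?_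
      obtain ⟨z', rfl⟩ := hy.mem_open hW.fromSpec.isOpenEmbedding.isOpen_range ⟨zq, rfl⟩
      have hle : z'.asIdeal ≤ q := (PrimeSpectrum.le_iff_specializes z' zq).mpr
        (hW.fromSpec.isOpenEmbedding.isInducing.specializes_iff.mp hy)
      exact congrArg hW.fromSpec (PrimeSpectrum.ext (hle.antisymm (hq.2 ⟨z'.isPrime, bot_le⟩ hle)))
    have h := hdom _ hcomp
    rw [closure_image_closure f.continuous, Set.image_singleton, closure_mem_iff] at h
    refine ⟨⟨Ideal.comap_isPrime _ _, bot_le⟩, fun q' hq' hle => ?_⟩
    haveI := hq'.1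
    let z' : ↥(Spec Γ(Y, U)) := (⟨q', hq'.1⟩ : PrimeSpectrum Γ(Y, U))
    let z₀ : ↥(Spec Γ(Y, U)) := Spec.map (f.app U) zq
    have hfz : hU.fromSpec z₀ = f (hW.fromSpec zq) := by
      have := hU.SpecMap_appLE_fromSpec f hW le_rfl
      rw [Scheme.Hom.appLE_eq_app] at this
      exact congrArg (fun g => g zq) (congrArg (fun m : Spec Γ(X, f ⁻¹ᵁ U) ⟶ Y => (m.base : _ → _)) this)
    have hsp : hU.fromSpec z' ⤳ f (hW.fromSpec zq) := by
      rw [← hfz]
      exact ((PrimeSpectrum.le_iff_specializes z' z₀).mp hle).map hU.fromSpec.continuous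
    have := h _ hsp
    rw [← hfz] at this
    exact (congrArg PrimeSpectrum.asIdeal (hU.fromSpec.isOpenEmbedding.injective this)).ge

end Groth.Agent.S10881
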