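import Groth.Statements.S10882
import Groth.Agent.H68.EquidimStalk
import Groth.Agent.H68.SmoothCrit
import Groth.Agent.S2082
import Mathlib.AlgebraicGeometry.Morphisms.FlatRank

set_option autoImplicit false
universe u
open CategoryTheory AlgebraicGeometry
open FlatMor

namespace Groth.Agent.S10882

/-- Let X and Y be schemes locally of finite type over a field k and f : X → Y a k-morphism, with Y
regular (all local rings regular), X Cohen–Macaulay (all local rings Cohen–Macaulay), X
equidimensional of dimension e, Y equidimensional of dimension d ≤ e, and all fibres of f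
equidimensional of dimension e − d (every irreducible component of every fibre has dimension e − d).
Then f is flat. -/
theorem result (k : Type u) [Field k] {X Y : Scheme.{u}}
    (q : Y ⟶ Spec (CommRingCat.of k)) [LocallyOfFiniteType q] (f : X ⟶ Y) [LocallyOfFiniteType (f ≫ q)]
    (hY : ∀ y : Y, IsRegularLocalRing (Y.presheaf.stalk y))
    (hX : ∀ x : X, LocCoh.IsCohenMacaulayLocalRing (X.presheaf.stalk x))
    (e d : ℕ) (hde : d ≤ e)
    (hXe : ∀ Z ∈ irreducibleComponents (X : Type u), topologicalKrullDim Z = e)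
    (hYd : ∀ Z ∈ irreducibleComponents (Y : Type u), topologicalKrullDim Z = d)
    (hfib : ∀ y : Y, ∀ Z ∈ irreducibleComponents (f.base ⁻¹' {y}), topologicalKrullDim Z = (e - d : ℕ)) :
    Flat f := by
  haveI : LocallyOfFiniteType f := locallyOfFiniteType_of_comp f q
  haveI : IsLocallyNoetherian Y := LocallyOfFiniteType.isLocallyNoetherian q
  refine (Flat.iff_flat_stalkMap f).mpr fun x => ?_
  haveI := hY (f x)
  haveI := hX x
  haveI hlft : LocallyOfFiniteType (X := f.fiber (f x)) (Y := Spec (CommRingCat.of (Y.residueField (f x))))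
      (f.fiberToSpecResidueField (f x)) :=
    MorphismProperty.pullback_snd _ _ ‹_›
  obtain ⟨nx, tx, hnx, htx, hex⟩ := H68.EquidimStalk.exists_nat_eq (f ≫ q) x e hXe
  obtain ⟨ny, ty, hny, hty, hey⟩ := H68.EquidimStalk.exists_nat_eq q (f x) d hYd
  obtain ⟨nf, tf, hnf, htf, hef⟩ := @H68.EquidimStalk.exists_nat_eq (f.fiber (f x))
    (Y.residueField (f x)) _ (f.fiberToSpecResidueField (f x)) hlft
    (f.asFiber x) (e - d) (H68.EquidimStalk.equidim_of_homeomorph (f.fiberHomeo (f x)) (hfib (f x)))
  rw [Lib.Cyc.FieldDim.trdegAt_fiber, f.fiberι_asFiber x] at htf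
  rw [Lib.Cyc.Residue.trdegAt_comp, hty, htf] at htx
  have ht : ty + tf = tx := by exact_mod_cast htx
  obtain ⟨ρ, hρs, hρk, -⟩ :=
    H68.SmoothCrit.exists_rho f (f x) (f.asFiber x) x (f.fiberι_asFiber x)
  have hq : ringKrullDim (X.presheaf.stalk x ⧸
      (IsLocalRing.maximalIdeal (Y.presheaf.stalk (f x))).map (f.stalkMap x).hom) = nf := by
    rw [← hnf]
    exact ringKrullDim_eq_of_ringEquiv
      ((Ideal.quotEquivOfEq hρk.symm).trans (RingHom.quotientKerEquivOfSurjective hρs))
  letI := (f.stalkMap x).hom.toAlgebra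
  haveI : IsLocalHom (algebraMap (Y.presheaf.stalk (f x)) (X.presheaf.stalk x)) :=
    inferInstanceAs (IsLocalHom (f.stalkMap x).hom)
  exact Groth.Agent.S2082.result (R := Y.presheaf.stalk (f x)) (S := X.presheaf.stalk x) (by
    rw [RingHom.algebraMap_toAlgebra, hq, hnx, hny]
    exact_mod_cast (show nx = ny + nf by omega))

end Groth.Agent.S10882
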