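import Groth.Statements.S10883
import Groth.Agent.H21.DetSmooth
-- import your own Groth.Agent.* helpers here

set_option autoImplicit false
universe u
open CAlgX

namespace Groth.Agent.S10883

/-- Let k be a field and 0 < r < min(n, m), and let B be the coordinate ring of the affine determinantal
scheme of n × m matrices of rank at most r over k (polynomial ring on the entries of the generic
matrix modulo its (r+1) × (r+1) minors). A prime P of B is a smooth point over k (the localization
B_P is formally smooth over k) exactly when it corresponds to a matrix of rank exactly r, i.e. when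
P does not contain the image of the ideal generated by the r × r minors. -/
theorem result (k : Type u) [Field k] (n m r : ℕ) (hr0 : 0 < r)
    (hr : r < min n m)
    (P : PrimeSpectrum (MvPolynomial (Fin n × Fin m) k ⧸ CAlgX.minorIdeal (Matrix.of fun (i : Fin n) (j : Fin m) => (MvPolynomial.X (i, j) : MvPolynomial (Fin n × Fin m) k)) (r + 1))) :
    P ∈ Algebra.smoothLocus k (MvPolynomial (Fin n × Fin m) k ⧸ CAlgX.minorIdeal (Matrix.of fun (i : Fin n) (j : Fin m) => (MvPolynomial.X (i, j) : MvPolynomial (Fin n × Fin m) k)) (r + 1)) ↔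
      ¬ (CAlgX.minorIdeal (Matrix.of fun (i : Fin n) (j : Fin m) => (MvPolynomial.X (i, j) : MvPolynomial (Fin n × Fin m) k)) r).map
          (Ideal.Quotient.mk (CAlgX.minorIdeal (Matrix.of fun (i : Fin n) (j : Fin m) => (MvPolynomial.X (i, j) : MvPolynomial (Fin n × Fin m) k)) (r + 1))) ≤ P.asIdeal := by
  refine ⟨fun hs hle => Groth.Agent.H21.DetSmooth.not_formallySmooth hr P.asIdeal hle hs, fun h => ?_⟩
  obtain ⟨x, hx, hxP⟩ : ∃ x ∈ Set.range (fun fg : (Fin r → Fin n) × (Fin r → Fin m) =>
      ((Groth.Agent.H21.DetSmooth.gen k n m).submatrix fg.1 fg.2).det),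
      Ideal.Quotient.mk _ x ∉ P.asIdeal := by
    by_contra hc
    simp only [not_exists, not_and, not_not] at hc
    exact h (Ideal.map_le_iff_le_comap.2 (Ideal.span_le.2 hc))
  obtain ⟨fg, rfl⟩ := hx
  haveI : Algebra.FinitePresentation k (Groth.Agent.H21.DetSmooth.DRing k n m r) :=
    Algebra.FinitePresentation.of_finiteType.1 inferInstance
  exact Algebra.basicOpen_subset_smoothLocus_iff_smooth.2
    (Groth.Agent.H21.DetSmooth.smooth_away fg.1 fg.2) hxP

end Groth.Agent.S10883
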