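import Groth.Statements.S10884
import Groth.Agent.Lib.VarDim.Fibre
-- import your own Groth.Agent.* helpers here

set_option autoImplicit false
universe u
open CategoryTheory AlgebraicGeometry
open Variety

namespace Groth.Agent.S10884

open Groth.Agent.Lib.VarDim.Basic Groth.Agent.Lib.VarDim.Fibre in
/-- Let Y be a scheme of finite type over a field k and f : X → Y a dominant morphism of finite type all
of whose non-empty fibres have dimension r. Then dim X = r + dim Y. -/
theorem result (k : Type u) [Field k] {X Y : Scheme.{u}}
    (q : Y ⟶ Spec (CommRingCat.of k)) [LocallyOfFiniteType q] [QuasiCompact q]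
    (f : X ⟶ Y) [LocallyOfFiniteType f] [QuasiCompact f] (hdom : DenseRange f.base) (r : ℕ)
    (hfib : ∀ y : Y, (f.base ⁻¹' {y}).Nonempty → topologicalKrullDim (f.base ⁻¹' {y}) = r) :
    topologicalKrullDim X = (r : WithBot ℕ∞) + topologicalKrullDim Y := by
  haveI : LocallyOfFiniteType (f ≫ q) := inferInstance
  refine le_antisymm ?_ ?_
  · refine (topologicalKrullDim_scheme_le_iff (f ≫ q) _).2 fun x => ?_
    rw [pdim_eq_add (f ≫ q) q f rfl x, Nat.cast_add, add_comm]
    exact add_le_add ((tdAt_le_topologicalKrullDim_fibre f x).trans_eq (hfib (f x) ⟨x, rfl⟩))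
      (pdim_le_topologicalKrullDim_scheme q (f x))
  · by_cases hY : IsEmpty Y
    · have : topologicalKrullDim Y = ⊥ := Order.krullDim_eq_bot_iff.2
        ⟨fun C => by obtain ⟨z, -⟩ := C.2.nonempty; exact hY.false z⟩
      rw [this, WithBot.add_bot]; exact bot_le
    have key : ∀ y : Y, ((r + pdim q y : ℕ) : WithBot ℕ∞) ≤ topologicalKrullDim X := by
      intro y
      obtain ⟨η, -, hηy, hmax, -⟩ := exists_maximal (T := (Set.univ : Set ↥Y)) isClosed_univ
        (Set.mem_univ y)
      obtain ⟨x, hx⟩ := exists_eq_of_maximal f (hdom η) (fun y' hy' => hmax y' trivial hy')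
      obtain ⟨x', hx', hr⟩ := exists_tdAt_ge f η r (hfib η ⟨x, hx⟩).ge
      refine le_trans ?_ (pdim_le_topologicalKrullDim_scheme (f ≫ q) x')
      have h1 := pdim_eq_add (f ≫ q) q f rfl x'
      have h2 := pdim_le q hηy
      rw [hx'] at h1
      exact_mod_cast (by omega : r + pdim q y ≤ pdim (f ≫ q) x')
    cases hd : topologicalKrullDim X with
    | bot =>
      obtain ⟨y⟩ := not_isEmpty_iff.1 hY
      have := key y
      rw [hd] at this
      exact absurd this (by simp)
    | coe a =>
      cases a with
      | top => exact le_top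
      | coe D =>
        have hD : ∀ y : Y, r + pdim q y ≤ D := fun y => by
          have := key y; rw [hd] at this; norm_cast at this
        obtain ⟨y₀⟩ := not_isEmpty_iff.1 hY
        have hle : topologicalKrullDim Y ≤ ((D - r : ℕ) : WithBot ℕ∞) :=
          (topologicalKrullDim_scheme_le_iff q _).2 fun y => by
            exact_mod_cast (by have := hD y; omega : pdim q y ≤ D - r)
        refine (add_le_add le_rfl hle).trans ?_
        have := hD y₀
        exact le_of_eq (by rw [← Nat.cast_add, show r + (D - r) = D by omega]; rfl)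

end Groth.Agent.S10884
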