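import Groth.Statements.S10885
import Groth.Agent.Lib.VarDim.Fibre
-- import your own Groth.Agent.* helpers here

set_option autoImplicit false
universe u
open CategoryTheory AlgebraicGeometry
open Variety

namespace Groth.Agent.S10885

open Groth.Agent.Lib.VarDim.Basic Groth.Agent.Lib.VarDim.Fibre in
/-- Let Y be a scheme of finite type over a field k, r ≥ 0, and f : X → Y a morphism of finite type
whose fibre over every maximal point of Y has dimension at least r. Then dim X ≥ r + dim Y. -/
theorem result (k : Type u) [Field k] {X Y : Scheme.{u}}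
    (q : Y ⟶ Spec (CommRingCat.of k)) [LocallyOfFiniteType q] [QuasiCompact q]
    (f : X ⟶ Y) [LocallyOfFiniteType f] [QuasiCompact f] (r : ℕ)
    (hfib : ∀ η : Y, (∀ y : Y, y ⤳ η → y = η) → (r : WithBot ℕ∞) ≤ topologicalKrullDim (f.base ⁻¹' {η})) :
    (r : WithBot ℕ∞) + topologicalKrullDim Y ≤ topologicalKrullDim X := by
  haveI : LocallyOfFiniteType (f ≫ q) := inferInstance
  by_cases hY : IsEmpty Y
  · have : topologicalKrullDim Y = ⊥ := Order.krullDim_eq_bot_iff.2
      ⟨fun C => by obtain ⟨z, -⟩ := C.2.nonempty; exact hY.false z⟩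
    rw [this, WithBot.add_bot]; exact bot_le
  have key : ∀ y : Y, ((r + pdim q y : ℕ) : WithBot ℕ∞) ≤ topologicalKrullDim X := by
    intro y
    obtain ⟨η, -, hηy, hmax, -⟩ := exists_maximal (T := (Set.univ : Set ↥Y)) isClosed_univ
      (Set.mem_univ y)
    obtain ⟨x', hx', hr⟩ := exists_tdAt_ge f η r (hfib η fun z hz => hmax z trivial hz)
    refine le_trans ?_ (pdim_le_topologicalKrullDim_scheme (f ≫ q) x')
    have h1 := pdim_eq_add (f ≫ q) q f rfl x'
    have h2 := pdim_le q hηy
    rw [hx'] at h1
    exact_mod_cast (by omega : r + pdim q y ≤ pdim (f ≫ q) x')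
  cases hd : topologicalKrullDim X with
  | bot =>
    obtain ⟨y⟩ := not_isEmpty_iff.1 hY
    have := key y
    rw [hd] at this
    exact absurd this (by simp)
  | coe a =>
    cases a with
    | top => exact le_top
    | coe D =>
      have hD : ∀ y : Y, r + pdim q y ≤ D := fun y => by
        have := key y; rw [hd] at this; norm_cast at this
      obtain ⟨y₀⟩ := not_isEmpty_iff.1 hY
      have hle : topologicalKrullDim Y ≤ ((D - r : ℕ) : WithBot ℕ∞) :=
        (topologicalKrullDim_scheme_le_iff q _).2 fun y => by
          exact_mod_cast (by have := hD y; omega : pdim q y ≤ D - r)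
      refine (add_le_add le_rfl hle).trans ?_
      have := hD y₀
      exact le_of_eq (by rw [← Nat.cast_add, show r + (D - r) = D by omega]; rfl)

end Groth.Agent.S10885
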