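import Groth.Statements.S10886
import Mathlib.Topology.Constructible
import Mathlib.Topology.KrullDimension
import Mathlib.Topology.NoetherianSpace
import Mathlib.AlgebraicGeometry.Noetherian

set_option autoImplicit false
universe u
open CategoryTheory AlgebraicGeometry
open Curves

namespace Groth.Agent.S10886

/-- In an irreducible Noetherian scheme of dimension one every constructible subset is either a finite
set of closed points or the complement of such a set; in particular it is open or closed. -/
theorem result {X : Scheme.{u}} [IsNoetherian X]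
    [IrreducibleSpace X] (hX : topologicalKrullDim X = 1) (s : Set X) (hs : Topology.IsConstructible s) :
    (s.Finite ∧ (∀ x ∈ s, IsClosed ({x} : Set X))) ∨ (sᶜ.Finite ∧ ∀ x ∈ sᶜ, IsClosed ({x} : Set X)) := by
  have hclosed : ∀ Z : Set X, IsClosed Z → Z ≠ Set.univ → Z.Finite ∧ ∀ x ∈ Z, IsClosed ({x} : Set X) := by
    intro Z hZ hne
    have hpt : ∀ x ∈ Z, IsClosed ({x} : Set X) := by
      intro x hx
      rw [← closure_eq_iff_isClosed]
      by_contra hcx
      obtain ⟨y, hy, hyx⟩ : ∃ y ∈ closure ({x} : Set X), y ≠ x := by
        by_contra! hall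
        exact hcx (subset_antisymm (fun y hy => hall y hy) subset_closure)
      let a : TopologicalSpace.IrreducibleCloseds X := ⟨closure {y}, isIrreducible_singleton.closure, isClosed_closure⟩
      let b : TopologicalSpace.IrreducibleCloseds X := ⟨closure {x}, isIrreducible_singleton.closure, isClosed_closure⟩
      let c : TopologicalSpace.IrreducibleCloseds X := ⟨Set.univ, ⟨Set.univ_nonempty, PreirreducibleSpace.isPreirreducible_univ⟩, isClosed_univ⟩
      have hab : a < b := by
        refine lt_of_le_of_ne (closure_minimal (Set.singleton_subset_iff.mpr hy) isClosed_closure) fun h => hyx ?_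
        exact ((inseparable_iff_closure_eq.mpr (congr_arg TopologicalSpace.IrreducibleCloseds.carrier h)).eq)
      have hbc : b < c := by
        refine lt_of_le_of_ne (Set.subset_univ _) fun h => hne ?_
        exact Set.eq_univ_of_univ_subset ((congr_arg TopologicalSpace.IrreducibleCloseds.carrier h).ge.trans
          (closure_minimal (by simpa using hx) hZ))
      have h2 : (2 : WithBot ℕ∞) ≤ topologicalKrullDim X :=
        Order.le_krullDim_iff.mpr ⟨⟨2, ![a, b, c], fun i => by fin_cases i <;> [exact hab; exact hbc]⟩, rfl⟩
      rw [hX] at h2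
      norm_cast at h2
    refine ⟨?_, hpt⟩
    obtain ⟨S, hfin, hSc, hSi, hS⟩ := TopologicalSpace.NoetherianSpace.exists_finite_set_isClosed_irreducible hZ
    rw [hS] at hpt ⊢
    refine Set.Finite.sUnion hfin fun W hW => ?_
    refine (Set.subsingleton_of_forall_eq (IsIrreducible.genericPoint (hSi W hW)) fun w hw => ?_).finite
    have hg := (hSi W hW).isGenericPoint_genericPoint (hSc W hW)
    have hgW : IsIrreducible.genericPoint (hSi W hW) ∈ W := hg.mem
    have hw' : w ∈ closure ({IsIrreducible.genericPoint (hSi W hW)} : Set X) := by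
      rw [hg.def]; exact hw
    rwa [(hpt _ ⟨W, hW, hgW⟩).closure_eq, Set.mem_singleton_iff] at hw'
  induction hs using Topology.IsConstructible.empty_union_induction with
  | open_retrocompact U hU _ =>
    rcases U.eq_empty_or_nonempty with rfl | ⟨x, hx⟩
    · exact Or.inl ⟨Set.finite_empty, by simp⟩
    · exact Or.inr (hclosed _ hU.isClosed_compl fun h => (Set.eq_univ_iff_forall.mp h x) hx)
  | union s _ t _ hs ht =>
    rcases hs with ⟨hs1, hs2⟩ | ⟨hs1, hs2⟩
    · rcases ht with ⟨ht1, ht2⟩ | ⟨ht1, ht2⟩
      · exact Or.inl ⟨hs1.union ht1, fun x hx => hx.elim (hs2 x) (ht2 x)⟩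
      · exact Or.inr ⟨ht1.subset (Set.compl_subset_compl.mpr Set.subset_union_right),
          fun x hx => ht2 x fun h => hx (Or.inr h)⟩
    · exact Or.inr ⟨hs1.subset (Set.compl_subset_compl.mpr Set.subset_union_left),
        fun x hx => hs2 x fun h => hx (Or.inl h)⟩
  | compl s _ h =>
    rcases h with h | h
    · exact Or.inr (by rwa [compl_compl])
    · exact Or.inl h

end Groth.Agent.S10886
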