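import Groth.Statements.S10890
import Groth.Agent.H80.BE.Split

set_option autoImplicit false
universe u
open CAlgX

namespace Groth.Agent.S10890

/-- (i) ⇔ (ii): let R be a local ring, A an n × m matrix over R regarded as a linear map R^m → R^n, and
1 ≤ r ≤ n. Then the image of A is a direct summand of R^n of rank r if and only if every (r+1) ×
(r+1) minor of A is zero and the r × r minors of A generate the unit ideal. (The printed statement
is over an arbitrary ring with 'direct summand of rank r'; its proof localises at once, and this row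
states the local case, where a direct summand of R^n is free and its rank is its finrank.) -/
theorem result (R : Type u) [CommRing R] [IsLocalRing R] (n m r : ℕ)
    (hr : 1 ≤ r) (hrn : r ≤ n) (A : Matrix (Fin n) (Fin m) R) :
    (∃ N' : Submodule R (Fin n → R), IsCompl (LinearMap.range (Matrix.mulVecLin A)) N' ∧
        Module.finrank R (LinearMap.range (Matrix.mulVecLin A)) = r) ↔
      (CAlgX.minorIdeal A (r + 1) = ⊥ ∧ CAlgX.minorIdeal A r = ⊤) := by
  constructor
  · rintro ⟨N', hN', hr'⟩
    have h := Groth.Agent.H80.BE.Split.splitRank_of_range (A := A) ⟨Submodule.projectionOnto _ _ hN',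
      LinearMap.ext fun x => Submodule.projectionOnto_apply_left hN' x⟩ hr'
    exact ⟨Groth.Agent.H80.BE.Split.minorIdeal_eq_bot h (Nat.lt_succ_self r),
      Groth.Agent.H80.BE.Split.minorIdeal_eq_top h⟩
  · rintro ⟨hbot, htop⟩
    obtain ⟨P, Q, L, S, rfl, hL, hS⟩ := Groth.Agent.H80.BE.Split.splitRank_of_minors htop hbot
    have hrange : LinearMap.range (P * Q).mulVecLin = LinearMap.range P.mulVecLin := by
      rw [Matrix.mulVecLin_mul]
      refine LinearMap.range_comp_of_range_eq_top _ (LinearMap.range_eq_top.2 fun v => ⟨S.mulVec v, ?_⟩)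
      rw [Matrix.mulVecLin_apply, Matrix.mulVec_mulVec, hS, Matrix.one_mulVec]
    have hLP : ∀ v, L.mulVecLin (P.mulVecLin v) = v := fun v => by
      rw [Matrix.mulVecLin_apply, Matrix.mulVecLin_apply, Matrix.mulVec_mulVec, hL, Matrix.one_mulVec]
    have hinj : Function.Injective P.mulVecLin := Function.LeftInverse.injective hLP
    refine ⟨LinearMap.ker L.mulVecLin, ?_, ?_⟩
    · rw [hrange]
      refine ⟨Submodule.disjoint_def.2 ?_, codisjoint_iff.2 (Submodule.eq_top_iff'.2 fun x => ?_)⟩
      · rintro _ ⟨v, rfl⟩ hv
        rw [LinearMap.mem_ker, hLP] at hv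
        rw [hv, map_zero]
      · refine Submodule.mem_sup.2 ⟨P.mulVecLin (L.mulVecLin x), ⟨_, rfl⟩,
          x - P.mulVecLin (L.mulVecLin x), ?_, add_sub_cancel _ _⟩
        rw [LinearMap.mem_ker, map_sub, hLP, sub_self]
    · rw [hrange, LinearMap.finrank_range_of_inj hinj, Module.finrank_fin_fun]

end Groth.Agent.S10890
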