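import Groth.Statements.S10891
import Mathlib.Tactic.Ring

set_option autoImplicit false
universe u
open CAlg

namespace Groth.Agent.S10891

/-- Let k be a field containing a primitive r-th root of unity ζ and 0 < a < r. The cyclic group of r-th
roots of unity acts on k[X, Y] through the generator X ↦ ζ⁻¹ X, Y ↦ ζ^(−a) Y, and the ring of
invariants of this action is generated as a k-algebra by the monomials X^i Y^j with 0 ≤ i, j ≤ r,
(i, j) ≠ (r, r) and i + a·j ≡ 0 (mod r). (The printed statement writes n for the order of the group,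
which the surrounding section calls r.) -/
theorem result (k : Type u) [Field k] (r a : ℕ) (ha : 0 < a) (har : a < r)
    (ζ : k) (hζ : IsPrimitiveRoot ζ r) (p : MvPolynomial (Fin 2) k) :
    MvPolynomial.aeval (fun i : Fin 2 => if i = 0 then MvPolynomial.C ζ⁻¹ * MvPolynomial.X 0
        else MvPolynomial.C (ζ⁻¹ ^ a) * (MvPolynomial.X 1 : MvPolynomial (Fin 2) k)) p = p ↔
      p ∈ Algebra.adjoin k {q : MvPolynomial (Fin 2) k | ∃ i j : ℕ, i ≤ r ∧ j ≤ r ∧ ¬ (i = r ∧ j = r) ∧
        r ∣ i + a * j ∧ q = MvPolynomial.X 0 ^ i * MvPolynomial.X 1 ^ j} := by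
  classical
  have hr : 0 < r := lt_of_le_of_lt (Nat.zero_le a) har
  set σ : MvPolynomial (Fin 2) k →ₐ[k] MvPolynomial (Fin 2) k := MvPolynomial.aeval (fun i : Fin 2 => if i = 0 then MvPolynomial.C ζ⁻¹ * MvPolynomial.X 0
        else MvPolynomial.C (ζ⁻¹ ^ a) * (MvPolynomial.X 1 : MvPolynomial (Fin 2) k))
  set T := {q : MvPolynomial (Fin 2) k | ∃ i j : ℕ, i ≤ r ∧ j ≤ r ∧ ¬ (i = r ∧ j = r) ∧ r ∣ i + a * j ∧ q = MvPolynomial.X 0 ^ i * MvPolynomial.X 1 ^ j}
  have hσm : ∀ i j : ℕ, σ (MvPolynomial.X 0 ^ i * MvPolynomial.X 1 ^ j) = MvPolynomial.C (ζ⁻¹ ^ (i + a * j)) * (MvPolynomial.X 0 ^ i * MvPolynomial.X 1 ^ j) := by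
    intro i j
    simp only [σ, map_mul, map_pow, MvPolynomial.aeval_X, if_true, show ((1 : Fin 2) = 0) = False by simp, if_false, mul_pow, ← pow_mul, pow_add]
    ring
  constructor
  · intro hp
    have hmon : ∀ i j : ℕ, r ∣ i + a * j → (MvPolynomial.X 0 ^ i * MvPolynomial.X 1 ^ j : MvPolynomial (Fin 2) k) ∈ Algebra.adjoin k T := by
      intro i j
      induction hn : i + j using Nat.strong_induction_on generalizing i j with
      | _ n ih =>
        intro hd
        by_cases h1 : r ≤ i ∧ 0 < (i - r) + j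
        · obtain ⟨t, rfl⟩ := Nat.exists_eq_add_of_le h1.1
          rw [pow_add, mul_assoc]
          refine Subalgebra.mul_mem _ (Algebra.subset_adjoin ⟨r, 0, le_rfl, hr.le, by omega, by simp, by simp⟩) ?_
          exact ih (t + j) (by omega) t j rfl ((Nat.dvd_add_right (dvd_refl r)).1 (by rwa [← add_assoc]))
        by_cases h2 : r ≤ j ∧ 0 < i + (j - r)
        · obtain ⟨t, rfl⟩ := Nat.exists_eq_add_of_le h2.1
          rw [pow_add, mul_left_comm]
          refine Subalgebra.mul_mem _ (Algebra.subset_adjoin ⟨0, r, hr.le, le_rfl, by omega, by simp, by simp⟩) ?_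
          exact ih (i + t) (by omega) i t rfl ((Nat.dvd_add_right (dvd_mul_left r a)).1 (by rwa [show a * r + (i + a * t) = i + a * (r + t) by ring]))
        exact Algebra.subset_adjoin ⟨i, j, by omega, by omega, by omega, hd, rfl⟩
    have hm : ∀ (m : Fin 2 →₀ ℕ) (c : k), MvPolynomial.monomial m c = MvPolynomial.C c * (MvPolynomial.X 0 ^ m 0 * MvPolynomial.X 1 ^ m 1) := by
      intro m c
      rw [MvPolynomial.monomial_eq, Finsupp.prod_fintype _ _ (fun _ => pow_zero _), Fin.prod_univ_two]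
    have hσc : ∀ (m : Fin 2 →₀ ℕ) (c : k), σ (MvPolynomial.monomial m c) = MvPolynomial.monomial m (c * ζ⁻¹ ^ (m 0 + a * m 1)) := by
      intro m c
      rw [hm, map_mul, hσm, show σ (MvPolynomial.C c) = MvPolynomial.C c from σ.commutes c, hm, map_mul]; ring
    have hcoef : ∀ (w : MvPolynomial (Fin 2) k) (m : Fin 2 →₀ ℕ), MvPolynomial.coeff m (σ w) = MvPolynomial.coeff m w * ζ⁻¹ ^ (m 0 + a * m 1) := by
      intro w m
      induction w using MvPolynomial.induction_on' with
      | monomial u c => rw [hσc, MvPolynomial.coeff_monomial, MvPolynomial.coeff_monomial]; split_ifs with h <;> simp [h]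
      | add u v hu hv => rw [map_add, MvPolynomial.coeff_add, MvPolynomial.coeff_add, hu, hv, add_mul]
    rw [p.as_sum]
    refine Subalgebra.sum_mem _ fun m hm' => ?_
    rw [hm]
    refine Subalgebra.mul_mem _ (Subalgebra.algebraMap_mem _ _) (hmon _ _ ?_)
    have h := hcoef p m
    rw [hp, eq_comm, mul_eq_left₀ (MvPolynomial.mem_support_iff.1 hm'), inv_pow, inv_eq_one] at h
    exact (hζ.pow_eq_one_iff_dvd _).1 h
  · intro hp
    induction hp using Algebra.adjoin_induction with
    | mem q hq =>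
      obtain ⟨i, j, -, -, -, hd, rfl⟩ := hq
      rw [hσm, inv_pow, (hζ.pow_eq_one_iff_dvd _).2 hd, inv_one, map_one, one_mul]
    | algebraMap c => exact σ.commutes c
    | add u v _ _ hu hv => rw [map_add, hu, hv]
    | mul u v _ _ hu hv => rw [map_mul, hu, hv]

end Groth.Agent.S10891
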