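import Groth.Statements.S10893
import Groth.Agent.Lib.MeroCurve.Component

set_option autoImplicit false
universe u
open CategoryTheory AlgebraicGeometry
open Curves

namespace Groth.Agent.S10893

/-- Let C be an absolute curve (Noetherian, local rings at closed points one-dimensional) none of whose
points is open, and U ⊆ C an open dense subset. Then there is an effective divisor D on C with
support contained in U and meeting every irreducible component of C. -/
theorem result {C : Scheme.{u}} [IsNoetherian C]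
    (hC : ∀ x : C, IsClosed ({x} : Set C) → ringKrullDim (C.presheaf.stalk x) = 1)
    (hpt : ∀ x : C, ¬ IsOpen ({x} : Set C)) (U : C.Opens) (hU : Dense (U : Set C)) :
    ∃ D : Mero.Divisor C, Mero.IsEffective D ∧ Mero.supp D ⊆ (U : Set C) ∧
      ∀ Z ∈ irreducibleComponents (C : Type u), (Mero.supp D ∩ Z).Nonempty := by
  classical
  open Groth.Agent.Lib.MeroCurve in
  -- a point with a regular nonunit on every component
  have hsel : ∀ Z ∈ irreducibleComponents (C : Type u), ∃ x : C, x ∈ (U : Set C) ∧ x ∈ Z ∧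
      ∃ a : Mero.regStalk C x, ¬ IsUnit a.1 := by
    intro Z hZ
    exact exists_regular_nonunit hC hpt U hU Z hZ
  choose x hxU hxZ hx using hsel
  open Groth.Agent.Lib.MeroCurve in
  let g : ∀ y : C, Mero.Germ C y := fun y =>
    if h : (∃ Z hZ, x Z hZ = y) ∧ ∃ a : Mero.regStalk C y, ¬ IsUnit a.1 then cls h.2.choose else 1
  have hfinS : {y : C | ∃ Z hZ, x Z hZ = y}.Finite := by
    have := (TopologicalSpace.NoetherianSpace.finite_irreducibleComponents (α := C)).to_subtype
    exact (Set.finite_range fun Z : irreducibleComponents (C : Type u) => x Z.1 Z.2).subset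
      fun y ⟨Z, hZ, h⟩ => ⟨⟨Z, hZ⟩, h⟩
  open Groth.Agent.Lib.MeroCurve in
  have hg : g ∈ Mero.divisorGroup C := by
    refine (mem_divisorGroup_iff hC _).mpr ⟨hfinS.subset fun y hy => ?_, fun y hy => germ_eq_one hC hy _⟩
    by_contra h
    exact hy (dif_neg fun h' => h h'.1)
  open Groth.Agent.Lib.MeroCurve in
  refine ⟨⟨g, hg⟩, fun y => ?_, fun y hy => ?_, fun Z hZ => ⟨x Z hZ, ?_, hxZ Z hZ⟩⟩
  · by_cases h : (∃ Z hZ, x Z hZ = y) ∧ ∃ a : Mero.regStalk C y, ¬ IsUnit a.1
    · exact ⟨h.2.choose, dif_pos h⟩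
    · exact ⟨1, (dif_neg h).trans (Groth.Agent.Lib.MeroCurve.cls_eq_one _ isUnit_one).symm⟩
  · by_contra h
    apply hy
    refine dif_neg ?_
    rintro ⟨⟨Z, hZ, rfl⟩, _⟩
    exact h (hxU Z hZ)
  · have h : (∃ Z' hZ', x Z' hZ' = x Z hZ) ∧ ∃ a : Mero.regStalk C (x Z hZ), ¬ IsUnit a.1 :=
      ⟨⟨Z, hZ, rfl⟩, hx Z hZ⟩
    show g (x Z hZ) ≠ 1
    simp only [g, dif_pos h]
    exact Groth.Agent.Lib.MeroCurve.cls_ne_one _ h.2.choose_spec

end Groth.Agent.S10893
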