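import Groth.Statements.S10894
import Groth.Agent.Lib.MeroCurve.Basic

set_option autoImplicit false
universe u
open CategoryTheory AlgebraicGeometry
open Curves

namespace Groth.Agent.S10894

/-- On an absolute curve C (Noetherian, local rings at closed points one-dimensional) every divisor D is
a difference of two effective divisors each supported inside the support of D (divisors are written
multiplicatively, so the difference is D₁ · D₂⁻¹). -/
theorem result {C : Scheme.{u}} [IsNoetherian C]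
    (hC : ∀ x : C, IsClosed ({x} : Set C) → ringKrullDim (C.presheaf.stalk x) = 1) (D : Mero.Divisor C) :
    ∃ D₁ D₂ : Mero.Divisor C, Mero.IsEffective D₁ ∧ Mero.IsEffective D₂ ∧ D = D₁ * D₂⁻¹ ∧
      Mero.supp D₁ ⊆ Mero.supp D ∧ Mero.supp D₂ ⊆ Mero.supp D := by
  classical
  open Groth.Agent.Lib.MeroCurve in
  obtain ⟨hfin, hnc⟩ := (mem_divisorGroup_iff hC D.1).mp D.2
  have hcl : ∀ x, D.1 x ≠ 1 → IsClosed ({x} : Set C) := fun x hx => by
    by_contra h; exact hx (hnc x h)
  open Groth.Agent.Lib.MeroCurve in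
  choose a b hab using fun x (hx : D.1 x ≠ 1) => exists_eq_div hC (hcl x hx) (D.1 x)
  open Groth.Agent.Lib.MeroCurve in
  let F (a : ∀ x, D.1 x ≠ 1 → Mero.regStalk C x) (x : C) : Mero.regStalk C x :=
    if hx : D.1 x ≠ 1 then a x hx else 1
  open Groth.Agent.Lib.MeroCurve in
  have hF : ∀ a, (fun x => cls (F a x)) ∈ Mero.divisorGroup C := fun a => by
    refine (mem_divisorGroup_iff hC _).mpr ⟨hfin.subset fun x hx => ?_, fun x hx => germ_eq_one hC hx _⟩
    by_contra h
    exact hx (show cls (F a x) = 1 by simp only [F]; rw [dif_neg (show ¬ D.1 x ≠ 1 from h)]; exact cls_eq_one _ isUnit_one)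
  have hsupp : ∀ a, Mero.supp ⟨_, hF a⟩ ⊆ Mero.supp D := fun a x hx => by
    show D.1 x ≠ 1
    by_contra h
    exact hx (by
      show Groth.Agent.Lib.MeroCurve.cls (F a x) = 1
      simp only [F, dif_neg (not_not.mpr h)]
      exact Groth.Agent.Lib.MeroCurve.cls_eq_one _ isUnit_one)
  refine ⟨⟨_, hF a⟩, ⟨_, hF b⟩, fun x => ⟨_, rfl⟩, fun x => ⟨_, rfl⟩, Subtype.ext (funext fun x => ?_),
    hsupp a, hsupp b⟩
  show D.1 x = Groth.Agent.Lib.MeroCurve.cls (F a x) * (Groth.Agent.Lib.MeroCurve.cls (F b x))⁻¹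
  by_cases hx : D.1 x ≠ 1
  · simp only [F, dif_pos hx]
    exact (hab x hx).trans (div_eq_mul_inv _ _)
  · simp only [F, dif_neg hx, mul_inv_cancel]
    exact not_not.mp hx

end Groth.Agent.S10894
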