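import Groth.Statements.S10895
import Mathlib.AlgebraicGeometry.Morphisms.Flat
import Mathlib.AlgebraicGeometry.Morphisms.ClosedImmersion
import Mathlib.RingTheory.FinitePresentation
import Mathlib.RingTheory.RingHom.FaithfullyFlat

set_option autoImplicit false
universe u
open CategoryTheory AlgebraicGeometry
open FlatMor

namespace Groth.Agent.S10895

/-- A closed immersion of finite presentation which is flat at a point x is an isomorphism over some
open neighbourhood of the image of x. -/
theorem result {X Y : Scheme.{u}} (f : X ⟶ Y) [IsClosedImmersion f]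
    [LocallyOfFinitePresentation f] (x : X) (hflat : (f.stalkMap x).hom.Flat) :
    ∃ V : Y.Opens, f.base x ∈ V ∧ IsIso (f ∣_ V) := by
  obtain ⟨V, hV, hxV, -⟩ := exists_isAffineOpen_mem_and_subset (x := f x) (U := ⊤) (by trivial)
  have hU : IsAffineOpen (f ⁻¹ᵁ V) := hV.preimage f
  have hsurj : Function.Surjective (f.app V).hom := f.app_surjective V hV
  have hfp : (f.app V).hom.FinitePresentation := by
    rw [Scheme.Hom.app_eq_appLE]
    exact HasRingHomProperty.appLE @LocallyOfFinitePresentation f ‹_› ⟨V, hV⟩ ⟨_, hU⟩ le_rfl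
  have hfg : (RingHom.ker (f.app V).hom).FG := by
    algebraize [(f.app V).hom]
    exact Algebra.FinitePresentation.ker_fG_of_surjective
      (Algebra.ofId Γ(Y, V) Γ(X, f ⁻¹ᵁ V)) hsurj
  have hinj : Function.Injective (f.stalkMap x).hom := by
    algebraize [(f.stalkMap x).hom]
    have : Module.FaithfullyFlat (Y.presheaf.stalk (f x)) (X.presheaf.stalk x) :=
      @Module.FaithfullyFlat.of_flat_of_isLocalHom _ _ _ _ _ _ _ hflat (f.toLRSHom.prop x)
    exact (RingHom.faithfullyFlat_algebraMap_iff.2 this).injective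
  obtain ⟨G, hG⟩ := hfg
  have hgerm : ∀ a ∈ RingHom.ker (f.app V).hom, Y.presheaf.germ V (f x) hxV a = 0 := by
    intro a ha
    apply hinj
    rw [map_zero, Scheme.Hom.germ_stalkMap_apply, RingHom.mem_ker.1 ha, map_zero]
  have hW : ∀ a ∈ G, ∃ W : Y.Opens, f x ∈ W ∧ ∃ (h : W ≤ V), Y.presheaf.map (homOfLE h).op a = 0 := by
    intro a ha
    obtain ⟨W, hxW, i, j, e⟩ := Y.presheaf.germ_eq (f x) hxV hxV a 0
      (by rw [hgerm a (hG ▸ Ideal.subset_span ha), map_zero])
    exact ⟨W, hxW, i.le, by rw [map_zero] at e; exact e⟩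
  choose W hxW hWV hW0 using hW
  let W0 : Y.Opens := G.attach.inf fun a ↦ W a.1 a.2
  have hxW0 : f x ∈ W0 :=
    Finset.inf_induction (p := fun U : Y.Opens ↦ f x ∈ U) trivial (fun _ h₁ _ h₂ ↦ ⟨h₁, h₂⟩)
      fun a _ ↦ hxW a.1 a.2
  obtain ⟨s, hs, hxs⟩ := hV.exists_basicOpen_le (V := W0) ⟨f x, hxW0⟩ hxV
  let D := Y.basicOpen s
  have hDV : D ≤ V := Y.basicOpen_le s
  have hker : ∀ a ∈ RingHom.ker (f.app V).hom, Y.presheaf.map (homOfLE hDV).op a = 0 := by
    intro a ha
    have hle : RingHom.ker (f.app V).hom ≤ RingHom.ker (Y.presheaf.map (homOfLE hDV).op).hom := by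
      rw [← hG, Ideal.span_le]
      intro b hb
      have hDW : D ≤ W b hb :=
        hs.trans (Finset.inf_le (f := fun a : {x // x ∈ G} ↦ W a.1 a.2) (Finset.mem_attach G ⟨b, hb⟩))
      rw [SetLike.mem_coe, RingHom.mem_ker,
        show (homOfLE hDV).op = (homOfLE (hWV b hb)).op ≫ (homOfLE hDW).op from Subsingleton.elim _ _,
        Functor.map_comp]
      exact (congrArg (Y.presheaf.map (homOfLE hDW).op) (hW0 b hb)).trans (map_zero _)
    exact hle ha
  refine ⟨D, hxs, ?_⟩
  have : IsAffine D.toScheme := hV.basicOpen s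
  refine IsClosedImmersion.isIso_of_injective_of_isAffine ?_
  suffices h : Function.Injective (f.app D).hom by
    have key : ∀ D' : Y.Opens, D' = D → Function.Injective (f.app D').hom := by rintro _ rfl; exact h
    rw [Scheme.Hom.appTop, morphismRestrict_app]
    exact (ConcreteCategory.bijective_of_isIso (X.presheaf.map _)).injective.comp
      (key _ D.ι_image_top)
  have : IsLocalization.Away s Γ(Y, D) := hV.isLocalization_basicOpen s
  rw [injective_iff_map_eq_zero]
  intro b hb
  obtain ⟨⟨a, m, k, rfl⟩, hab⟩ := IsLocalization.surj (Submonoid.powers s) b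
  simp only [RingHom.algebraMap_toAlgebra] at hab
  have hnat : ∀ c, f.app D (Y.presheaf.map (homOfLE hDV).op c) =
      X.presheaf.map (homOfLE (f.preimage_mono hDV)).op (f.app V c) := fun c ↦
    congr($(f.naturality (homOfLE hDV).op) c)
  have h2 : X.presheaf.map (homOfLE (f.preimage_mono hDV)).op (f.app V a) = 0 := by
    rw [← hnat, ← hab, map_mul, hb, zero_mul]
  have hpre : f ⁻¹ᵁ D = X.basicOpen (f.app V s) := Scheme.preimage_basicOpen f s
  obtain ⟨l, hl⟩ : ∃ l : ℕ, f.app V s ^ l * f.app V a = 0 := by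
    have : IsLocalization.Away (f.app V s) Γ(X, X.basicOpen (f.app V s)) :=
      hU.isLocalization_basicOpen _
    have h3 : algebraMap Γ(X, f ⁻¹ᵁ V) Γ(X, X.basicOpen (f.app V s)) (f.app V a) = 0 := by
      have := congrArg (X.presheaf.map (eqToHom hpre.symm).op) h2
      rw [map_zero, ← CommRingCat.comp_apply, ← Functor.map_comp] at this
      exact this
    obtain ⟨⟨_, l, rfl⟩, hl⟩ := (IsLocalization.map_eq_zero_iff
      (Submonoid.powers (f.app V s)) _ _).1 h3
    exact ⟨l, hl⟩
  have h4 := hker (s ^ l * a) (by rw [RingHom.mem_ker, map_mul, map_pow]; exact hl)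
  rw [map_mul, ← hab, map_pow] at h4
  have hu : IsUnit (Y.presheaf.map (homOfLE hDV).op s) := by
    have := IsLocalization.Away.algebraMap_isUnit (S := Γ(Y, D)) s
    rwa [RingHom.algebraMap_toAlgebra] at this
  have hu1 : IsUnit (Y.presheaf.map (homOfLE hDV).op (s ^ k)) := by
    rw [map_pow]; exact hu.pow k
  rw [(hu.pow l).mul_right_eq_zero] at h4
  exact hu1.mul_left_eq_zero.1 h4


end Groth.Agent.S10895
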