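import Groth.Statements.S10897
import Groth.Agent.H83.Cubic.Eckardt

set_option autoImplicit false
universe u
open Cubic

namespace Groth.Agent.S10897

/-- Over an algebraically closed field of characteristic zero, through a point s of a smooth cubic
surface S = V_+(f) ⊂ P^3 there pass at most three lines contained in S, and these lines are
coplanar. With s given by a nonzero vector v with f(v) = 0, the lines through s on S are the
2-dimensional subspaces of k^4 containing v on which f vanishes; there are at most three of them and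
one 3-dimensional subspace contains them all. -/
theorem result (k : Type u) [Field k] [IsAlgClosed k] [CharZero k]
    (f : MvPolynomial (Fin 4) k) (hf : f.IsHomogeneous 3) (hf0 : f ≠ 0)
    (hsm : ∀ v : Fin 4 → k, v ≠ 0 → MvPolynomial.eval v f = 0 →
      ∃ i : Fin 4, MvPolynomial.eval v (MvPolynomial.pderiv i f) ≠ 0)
    (v : Fin 4 → k) (hv : v ≠ 0) (hfv : MvPolynomial.eval v f = 0) :
    {U : Submodule k (Fin 4 → k) | v ∈ U ∧ (Module.finrank k ↥U = 2 ∧ ∀ u ∈ U, MvPolynomial.eval u f = 0)}.Finite ∧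
      {U : Submodule k (Fin 4 → k) | v ∈ U ∧ (Module.finrank k ↥U = 2 ∧ ∀ u ∈ U, MvPolynomial.eval u f = 0)}.ncard ≤ 3 ∧
      ∃ H : Submodule k (Fin 4 → k), Module.finrank k ↥H = 3 ∧
        ∀ U : Submodule k (Fin 4 → k), v ∈ U → (Module.finrank k ↥U = 2 ∧ ∀ u ∈ U, MvPolynomial.eval u f = 0) → U ≤ H := by
  classical
  obtain ⟨T, hT⟩ := Groth.Agent.H83.Cubic.exists_isPolar hf
  have hs := hT.smooth hsm
  have hvv : T v v v = 0 := by rw [← hT.eval_eq, hfv]
  obtain ⟨i, hi⟩ := Function.ne_iff.1 hv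
  set φ : (Fin 4 → k) →ₗ[k] k := (v i)⁻¹ • LinearMap.proj i
  have hφv : φ v = 1 := by
    simp only [φ, LinearMap.smul_apply, LinearMap.proj_apply, smul_eq_mul]
    exact inv_mul_cancel₀ hi
  obtain ⟨u₁, u₂, hu₁, hu₂, hind⟩ := Groth.Agent.H83.Cubic.exists_indep_of_two_le
    (U := LinearMap.ker ((T v v).prod φ)) (by
    have hrk := ((T v v).prod φ).finrank_range_add_finrank_ker
    have := Submodule.finrank_le (LinearMap.range ((T v v).prod φ))
    rw [Module.finrank_prod, Module.finrank_self] at this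
    rw [Module.finrank_fintype_fun_eq_card, Fintype.card_fin] at hrk
    omega)
  replace hu₁ : T v v u₁ = 0 ∧ φ u₁ = 0 := by simpa using hu₁
  replace hu₂ : T v v u₂ = 0 ∧ φ u₂ = 0 := by simpa using hu₂
  have hindE : ∀ x y z : k, x • v + y • u₁ + z • u₂ = 0 → x = 0 ∧ y = 0 ∧ z = 0 := by
    intro x y z hxyz
    have hx : x = 0 := by simpa [hφv, hu₁.2, hu₂.2] using congrArg φ hxyz
    rw [hx, zero_smul, zero_add] at hxyz
    exact ⟨hx, hind y z hxyz⟩
  have hℓ := hs v hv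
  -- the two forms cutting out the lines
  have hF : ∀ a b : k, T (a • u₁ + b • u₂) (a • u₁ + b • u₂) (a • u₁ + b • u₂) =
      T u₁ u₁ u₁ * a ^ 3 + 3 * T u₁ u₁ u₂ * (a ^ 2 * b) + 3 * T u₁ u₂ u₂ * (a * b ^ 2) +
        T u₂ u₂ u₂ * b ^ 3 := fun a b => by
    simp only [map_add, map_smul, LinearMap.add_apply, LinearMap.smul_apply, smul_eq_mul,
      hT.symm₁ u₂ u₁ u₁, hT.symm₂ u₁ u₂ u₁, hT.symm₁ u₂ u₁ u₂, hT.symm₃ u₂ u₂ u₁]
    ring
  have hQ : ∀ a b : k, T v (a • u₁ + b • u₂) (a • u₁ + b • u₂) =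
      T v u₁ u₁ * a ^ 2 + 2 * T v u₁ u₂ * (a * b) + T v u₂ u₂ * b ^ 2 := fun a b => by
    simp only [map_add, map_smul, LinearMap.add_apply, LinearMap.smul_apply, smul_eq_mul,
      hT.symm₂ v u₂ u₁]
    ring
  have hzeros : ∃ s : Finset (k × k), s.card ≤ 3 ∧ ∀ a b : k, (a ≠ 0 ∨ b ≠ 0) →
      T (a • u₁ + b • u₂) (a • u₁ + b • u₂) (a • u₁ + b • u₂) = 0 →
      T v (a • u₁ + b • u₂) (a • u₁ + b • u₂) = 0 →
      ∃ p ∈ s, ∃ r : k, r ≠ 0 ∧ a = r * p.1 ∧ b = r * p.2 := by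
    by_cases h0 : T u₁ u₁ u₁ = 0 ∧ 3 * T u₁ u₁ u₂ = 0 ∧ 3 * T u₁ u₂ u₂ = 0 ∧ T u₂ u₂ u₂ = 0
    · obtain ⟨s, hs3, hsz⟩ := Groth.Agent.H83.Cubic.exists_proj_zeros 0 (T v u₁ u₁)
        (2 * T v u₁ u₂) (T v u₂ u₂) (by
        rintro ⟨-, q1, q2, q3⟩
        obtain ⟨x, hx, hxf⟩ :=
          Groth.Agent.H83.Cubic.exists_eval_ne_zero_of_ker hT hs (by simp) (T v v)
        obtain ⟨p, a, b, rfl⟩ :=
          Groth.Agent.H83.Cubic.span_eq_ker hℓ hindE hvv hu₁.1 hu₂.1 hx
        apply hxf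
        rw [add_assoc, add_comm, hT.eval_add_smul, hT.eval_eq, hF,
          hT.symm₃ (a • u₁ + b • u₂) (a • u₁ + b • u₂) v, hQ, h0.1, h0.2.1, h0.2.2.1, h0.2.2.2,
          q1, q2, q3, hT.symm₃ (a • u₁ + b • u₂) v v, map_add, map_smul, map_smul, hu₁.1, hu₂.1,
          hT.eval_eq v, hvv]
        simp)
      refine ⟨s, hs3, fun a b hab _ he => hsz a b hab ?_⟩
      rw [hQ] at he
      linear_combination b * he
    · obtain ⟨s, hs3, hsz⟩ := Groth.Agent.H83.Cubic.exists_proj_zeros _ _ _ _ h0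
      exact ⟨s, hs3, fun a b hab he _ => hsz a b hab (by rw [← hF]; exact he)⟩
  obtain ⟨s, hs3, hsz⟩ := hzeros
  let L : k × k → Submodule k (Fin 4 → k) := fun p =>
    Submodule.span k {v, p.1 • u₁ + p.2 • u₂}
  have hsub : {U : Submodule k (Fin 4 → k) | v ∈ U ∧ (Module.finrank k ↥U = 2 ∧
      ∀ u ∈ U, MvPolynomial.eval u f = 0)} ⊆ ↑(s.image L) := by
    rintro U ⟨hvU, hU2, hU⟩
    obtain ⟨w, hwU, hwv, rfl⟩ := Groth.Agent.H83.Cubic.mem_line_iff hU2 hv hvU
    have hz : ∀ {x y z}, x ∈ Submodule.span k {v, w} → y ∈ Submodule.span k {v, w} →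
        z ∈ Submodule.span k {v, w} → T x y z = 0 := fun hx hy hz =>
      hT.eq_zero_of_eval_eq_zero hU hx hy hz
    obtain ⟨p, a, b, hw⟩ := Groth.Agent.H83.Cubic.span_eq_ker hℓ hindE hvv hu₁.1 hu₂.1
      (hz hvU hvU hwU)
    have hw' : a • u₁ + b • u₂ ∈ Submodule.span k {v, w} := by
      have : a • u₁ + b • u₂ = w - p • v := by rw [hw]; module
      rw [this]
      exact Submodule.sub_mem _ hwU (Submodule.smul_mem _ _ hvU)
    have hab : a ≠ 0 ∨ b ≠ 0 := by
      by_contra hc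
      push Not at hc
      exact hwv (Submodule.mem_span_singleton.2 ⟨p, by rw [hw, hc.1, hc.2]; module⟩)
    obtain ⟨q, hq, r, hr, ha, hb⟩ := hsz a b hab (hz hw' hw' hw') (hz hvU hw' hw')
    simp only [Finset.coe_image, Set.mem_image, Finset.mem_coe]
    refine ⟨q, hq, le_antisymm ?_ ?_⟩ <;> rw [Submodule.span_le] <;> rintro x (rfl | rfl)
    · exact hvU
    · have : q.1 • u₁ + q.2 • u₂ = r⁻¹ • (a • u₁ + b • u₂) := by
        rw [ha, hb, eq_inv_smul_iff₀ hr]; module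
      rw [this]
      exact Submodule.smul_mem _ _ hw'
    · exact Submodule.subset_span (by simp)
    · refine Submodule.mem_span_pair.2 ⟨p, r, ?_⟩
      rw [hw, ha, hb]; module
  refine ⟨(Finset.finite_toSet _).subset hsub, ?_, LinearMap.ker (T v v), ?_, ?_⟩
  · exact (Set.ncard_le_ncard hsub (Finset.finite_toSet _)).trans
      (by rw [Set.ncard_coe_finset]; exact Finset.card_image_le.trans hs3)
  · have hrk := (T v v).finrank_range_add_finrank_ker
    obtain ⟨y, hy⟩ := Groth.Agent.H83.Cubic.exists_apply_eq_one hℓ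
    rw [LinearMap.range_eq_top.2 fun c => ⟨c • y, by simp [hy]⟩, finrank_top, Module.finrank_self,
      Module.finrank_fintype_fun_eq_card, Fintype.card_fin] at hrk
    omega
  · rintro U hvU ⟨hU2, hU⟩ w hw
    exact hT.eq_zero_of_eval_eq_zero hU hvU hvU hw

end Groth.Agent.S10897
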