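import Groth.Statements.S10901
import Groth.Agent.Lib.WDivAff85.Affine

set_option autoImplicit false
universe u
open CategoryTheory CategoryTheory.Limits AlgebraicGeometry TopologicalSpace
open WDiv

namespace Groth.Agent.S10901

/-- Let X be an integral Noetherian separated scheme which is regular in codimension 1 (the local ring
at every point of coheight 1 is a discrete valuation ring), and p : A^m_X → X the affine m-space
over X. Then pulling back along p is surjective on divisor classes: for every Weil divisor D' on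
A^m_X (an integer-valued function on its points with finite support inside the points of coheight 1)
there are a Weil divisor D on X and a nonzero rational function g on A^m_X such that D'(y) = D(p(y))
+ ord_y(g) at every point y of A^m_X of coheight 1. -/
theorem result (m : ℕ) (X : Scheme.{u}) [IsIntegral X]
    [IsNoetherian X] [X.IsSeparated] [IsLocallyNoetherian 𝔸(ULift.{u} (Fin m); X)]
    (hR1 : ∀ x : ↥X, Order.coheight x = 1 → IsDiscreteValuationRing ↑(X.presheaf.stalk x))
    (D' : ↥(𝔸(ULift.{u} (Fin m); X)) → ℤ) (hD' : ∀ y, Order.coheight y ≠ 1 → D' y = 0) (hfin : {y | D' y ≠ 0}.Finite) :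
    ∃ (D : ↥X → ℤ) (g : ↑(𝔸(ULift.{u} (Fin m); X)).functionField), (∀ x, Order.coheight x ≠ 1 → D x = 0) ∧
      {x | D x ≠ 0}.Finite ∧ g ≠ 0 ∧
        ∀ y : ↥(𝔸(ULift.{u} (Fin m); X)), Order.coheight y = 1 → D' y = D ((𝔸(ULift.{u} (Fin m); X) ↘ X) y) + Scheme.ord g y := by
  classical
  obtain ⟨g, hg, hord⟩ := Groth.Agent.Lib.WDivAff85.exists_div_generic _ D' hD' hfin
  set p : 𝔸(ULift.{u} (Fin m); X) ⟶ X := 𝔸(ULift.{u} (Fin m); X) ↘ X
  haveI : CompactSpace ↥(𝔸(ULift.{u} (Fin m); X)) := QuasiCompact.compactSpace_of_compactSpace p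
  haveI : IsNoetherian 𝔸(ULift.{u} (Fin m); X) := ⟨⟩
  have hex : ∀ x : ↥X, ∃ y : ↥(𝔸(ULift.{u} (Fin m); X)),
      Order.coheight x = 1 → p y = x ∧ Order.coheight y = 1 := fun x => by
    by_cases hx : Order.coheight x = 1
    · haveI := hR1 x hx
      obtain ⟨y, h1, h2⟩ :=
        Groth.Agent.Lib.WDivAff85.exists_codim_one_fibre (ULift.{u} (Fin m)) x hx
      exact ⟨y, fun _ => ⟨h1, h2⟩⟩
    · exact ⟨genericPoint _, fun h => absurd h hx⟩
  choose η hη using hex
  let D : ↥X → ℤ := fun x => if Order.coheight x = 1 then D' (η x) - Scheme.ord g (η x) else 0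
  refine ⟨D, g, fun x hx => if_neg hx, ?_, hg, fun y hy => ?_⟩
  · refine ((hfin.union (Groth.Agent.Lib.WDivAff85.finite_ord_ne_zero hg)).image p).subset
      fun x hx => ?_
    have hx1 : Order.coheight x = 1 := by
      by_contra h
      exact hx (if_neg h)
    refine ⟨η x, ?_, (hη x hx1).1⟩
    simp only [Set.mem_union, Set.mem_ofPred]
    by_contra h
    simp only [not_or, not_not] at h
    exact hx (by simp only [D, if_pos hx1, h.1, h.2, sub_zero])
  · by_cases hy' : p y = genericPoint X
    · have h0 : D (p y) = 0 := if_neg (by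
        rw [Groth.Agent.Lib.WDivAff85.coheight_eq_zero_iff_generic.mpr hy']; simp)
      rw [h0, zero_add, hord y hy hy']
    · obtain ⟨h1, -, huniq⟩ := Groth.Agent.Lib.WDivAff85.codim_one_cases _ hy hy'
      have e : η (p y) = y := huniq _ (hη _ h1).2 (hη _ h1).1
      have h1' : Order.coheight (p y) = 1 := h1
      simp only [D, if_pos h1', e]
      ring

end Groth.Agent.S10901
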