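import Groth.Statements.S4526
import Groth.Agent.S4525
import Mathlib.RingTheory.Finiteness.Descent
import Mathlib.RingTheory.Flat.FaithfullyFlat.Basic

set_option autoImplicit false
universe u
open EGA41

namespace Groth.Agent.S4526

/-- Let k ⊆ K ⊆ L be three fields with L an extension of finite type of k. Then Ω_{L/k} and Ω_{K/k} are
finite-dimensional and rank_L Ω_{L/k} − rank_K Ω_{K/k} ≥ trdeg_K L. (The published statement also
gives the exact value trdeg_K L + d(L/K, k) and an equality criterion; this row states only the
inequality.) -/
theorem result {k K L : Type u} [Field k] [Field K] [Field L]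
    [Algebra k K] [Algebra K L] [Algebra k L] [IsScalarTower k K L] [Algebra.EssFiniteType k L] :
    Module.Finite L (Ω[L⁄k]) ∧ Module.Finite K (Ω[K⁄k]) ∧
      (Cardinal.toNat (Algebra.trdeg K L) : ℤ) ≤ (Module.finrank L (Ω[L⁄k]) : ℤ) - Module.finrank K (Ω[K⁄k]) := by
  haveI : Algebra.EssFiniteType K L := Algebra.EssFiniteType.of_comp k K L
  obtain ⟨h1, h2, h3⟩ := Groth.Agent.S4525.result (k := k) (K := K) (L := L)
  let f := KaehlerDifferential.mapBaseChange k K L
  let g := KaehlerDifferential.map k K L L
  have hex : Function.Exact f g := KaehlerDifferential.exact_mapBaseChange_map k K L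
  have hg : Function.Surjective g := KaehlerDifferential.map_surjective k K L
  haveI hL : Module.Finite L (Ω[L⁄k]) := inferInstance
  haveI : Module.Finite L (LinearMap.ker f) := h2
  haveI : Module.Finite L (TensorProduct K L (Ω[K⁄k])) :=
    haveI := Module.Finite.equiv f.quotKerEquivRange.symm
    Module.Finite.of_submodule_quotient (LinearMap.ker f)
  haveI hK : Module.Finite K (Ω[K⁄k]) := Module.Finite.of_finite_tensorProduct_of_faithfullyFlat L
  refine ⟨hL, hK, ?_⟩
  have e1 := f.finrank_range_add_finrank_ker
  have e2 := g.finrank_range_add_finrank_ker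
  rw [hex.linearMap_ker_eq, LinearMap.range_eq_top.2 hg, finrank_top] at e2
  rw [Module.finrank_baseChange] at e1
  have e3 : Module.finrank L (LinearMap.ker f) = Module.finrank L (EGA41.imperfection k K L) := rfl
  omega

end Groth.Agent.S4526
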