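import Groth.Statements.S10902
import Groth.Agent.S4526
import Groth.Agent.Lib.Dim.Basic
import Mathlib.RingTheory.LocalRing.Module
import Mathlib.RingTheory.Unramified.Field
import Mathlib.RingTheory.Kaehler.JacobiZariski

set_option autoImplicit false
universe u
open TensorProduct
open SmVar

namespace Groth.Agent.S10902

/-- Let k be a field and A a k-algebra of finite type (X = Spec A a k-scheme of finite type), P a prime
ideal of A, and suppose P contains a prime q with dim A/q ≥ n, i.e. the point P lies on an
irreducible component of X of dimension at least n. Then the fibre at P of the sheaf of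
differentials of X over k has dimension at least n over the residue field: dim_{κ(P)} (κ(P) ⊗_A
Ω_{A/k}) ≥ n. (The published statement asks every irreducible component of X to have dimension ≥ n
and concludes this at every point.) -/
theorem result (k : Type u) [Field k]
    (A : Type u) [CommRing A] [Algebra k A] [Algebra.FiniteType k A] (n : ℕ)
    (P : Ideal A) [P.IsPrime] (q : Ideal A) [q.IsPrime] (hqP : q ≤ P)
    (hq : (n : WithBot ℕ∞) ≤ ringKrullDim (A ⧸ q)) :
    n ≤ Module.finrank P.ResidueField (P.ResidueField ⊗[A] (Ω[A⁄k])) := by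
  let W := Ω[A⁄k]
  let KP := P.ResidueField
  let Kq := q.ResidueField
  have : Module.Finite A W := inferInstanceAs (Module.Finite A Ω[A⁄k])
  -- lift a basis of the fibre at `P`
  let F := P.ResidueField ⊗[A] W
  have hmk : Submodule.span KP (Set.range (TensorProduct.mk A KP W 1)) = ⊤ := by
    rw [eq_top_iff]
    intro z _
    induction z using TensorProduct.induction_on with
    | zero => exact zero_mem _
    | add x y hx hy => exact add_mem (hx trivial) (hy trivial)
    | tmul c w =>
      rw [show c ⊗ₜ[A] w = c • ((1 : KP) ⊗ₜ[A] w) by rw [TensorProduct.smul_tmul', smul_eq_mul, mul_one]]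
      exact Submodule.smul_mem _ c (Submodule.subset_span ⟨w, rfl⟩)
  obtain ⟨b, hbsub, hbspan, hbind⟩ := exists_linearIndependent KP (Set.range (TensorProduct.mk A KP W 1))
  rw [hmk] at hbspan
  have : Finite b := hbind.finite
  have : Fintype b := Fintype.ofFinite b
  choose ω hω using fun z : b => hbsub z.2
  let S : Submodule A W := Submodule.span A (Set.range ω)
  have hsurj : ∀ (K : Type u) [CommRing K] [Algebra A K],
      Function.Surjective (S.mkQ.baseChange K) := fun K _ _ => by
    intro z
    induction z using TensorProduct.induction_on with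
    | zero => exact ⟨0, map_zero _⟩
    | add x y hx hy =>
      obtain ⟨a, rfl⟩ := hx; obtain ⟨c, rfl⟩ := hy
      exact ⟨a + c, map_add _ _ _⟩
    | tmul c w =>
      obtain ⟨w, rfl⟩ := S.mkQ_surjective w
      exact ⟨c ⊗ₜ w, by simp⟩
  have hP : (⟨P, inferInstance⟩ : PrimeSpectrum A) ∉ Module.support A (W ⧸ S) := by
    rw [Module.mem_support_iff_nontrivial_residueField_tensorProduct]
    rw [not_nontrivial_iff_subsingleton]
    refine subsingleton_of_forall_eq 0 fun z => ?_
    obtain ⟨y, rfl⟩ := hsurj KP z
    have hy : y ∈ Submodule.span KP b := hbspan.symm ▸ Submodule.mem_top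
    refine LinearMap.mem_ker.1 (Submodule.span_le.2 ?_ hy)
    intro x hx
    have hh : TensorProduct.mk A KP W 1 (ω ⟨x, hx⟩) = x := hω ⟨x, hx⟩
    rw [SetLike.mem_coe, LinearMap.mem_ker, ← hh, TensorProduct.mk_apply, LinearMap.baseChange_tmul,
      Submodule.mkQ_apply, (Submodule.Quotient.mk_eq_zero S).2 (Submodule.subset_span ⟨⟨x, hx⟩, rfl⟩), TensorProduct.tmul_zero]
  have hq' : (⟨q, inferInstance⟩ : PrimeSpectrum A) ∉ Module.support A (W ⧸ S) := fun h =>
    hP (Module.mem_support_mono (show (⟨q, inferInstance⟩ : PrimeSpectrum A) ≤ ⟨P, inferInstance⟩ from hqP) h)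
  rw [Module.mem_support_iff_nontrivial_residueField_tensorProduct, not_nontrivial_iff_subsingleton] at hq'
  have hqspan : Submodule.span Kq (Set.range fun z => (1 : Kq) ⊗ₜ[A] ω z) = (⊤ : Submodule Kq (Kq ⊗[A] W)) := by
    rw [eq_top_iff]
    intro y _
    have hex : Function.Exact (S.subtype.baseChange Kq) (S.mkQ.baseChange Kq) :=
      lTensor_exact Kq (LinearMap.exact_subtype_mkQ S) S.mkQ_surjective
    obtain ⟨x, rfl⟩ := (hex y).1 (Subsingleton.elim _ _)
    induction x using TensorProduct.induction_on with
    | zero => simp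
    | add a c ha hc => rw [map_add]; exact add_mem (ha trivial) (hc trivial)
    | tmul c s =>
      rw [LinearMap.baseChange_tmul, Submodule.subtype_apply]
      obtain ⟨f, hf⟩ := (Submodule.mem_span_range_iff_exists_fun A).1 s.2
      rw [← hf, TensorProduct.tmul_sum]
      refine Submodule.sum_mem _ fun z _ => ?_
      rw [TensorProduct.tmul_smul,
        show c ⊗ₜ[A] ω z = c • ((1 : Kq) ⊗ₜ[A] ω z) by rw [TensorProduct.smul_tmul', smul_eq_mul, mul_one]]
      exact Submodule.smul_of_tower_mem _ _ (Submodule.smul_mem _ _ (Submodule.subset_span ⟨z, rfl⟩))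
  have h1 : Module.finrank Kq (Kq ⊗[A] W) ≤ Fintype.card b := by
    rw [← finrank_top Kq (Kq ⊗[A] W), ← hqspan]
    exact finrank_range_le_card _
  have h2 : Fintype.card b ≤ Module.finrank KP (KP ⊗[A] W) := hbind.fintype_card_le_finrank
  have hu : Algebra.FormallyUnramified A Kq := by
    have h1 : Algebra.FormallyUnramified A (A ⧸ q) :=
      Algebra.FormallyUnramified.of_surjective (Algebra.ofId A (A ⧸ q)) Ideal.Quotient.mk_surjective
    have h2 : Algebra.FormallyUnramified (A ⧸ q) Kq :=
      Algebra.FormallyUnramified.of_isLocalization (nonZeroDivisors (A ⧸ q))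
    exact Algebra.FormallyUnramified.comp A (A ⧸ q) Kq
  have hsur : Function.Surjective (KaehlerDifferential.mapBaseChange k A Kq) := by
    intro x
    exact ((KaehlerDifferential.exact_mapBaseChange_map k A Kq) x).1 (Subsingleton.elim _ _)
  have : Algebra.EssFiniteType k Kq := by
    have : Algebra.EssFiniteType A Kq := inferInstance
    exact Algebra.EssFiniteType.comp k A Kq
  obtain ⟨-, -, h3⟩ := Groth.Agent.S4526.result (k := k) (K := k) (L := Kq)
  have h4 : Module.finrank k Ω[k⁄k] = 0 := Module.finrank_zero_of_subsingleton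
  have h5 := LinearMap.finrank_le_finrank_of_surjective hsur
  have h6 := Groth.Agent.Lib.Dim.Basic.trdeg_residueField k q
  rw [h6, Cardinal.toNat_natCast, h4] at h3
  rw [Groth.Agent.Lib.Dim.Basic.ringKrullDim_quotient_prime k q] at hq
  have hn : n ≤ Groth.Agent.Lib.Dim.Basic.dimQ k q := by exact_mod_cast hq
  simp only [W, KP, Kq] at *
  omega

end Groth.Agent.S10902
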