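import Groth.Statements.S10903
import Groth.Agent.Lib.Grass.RegSeq
import Groth.Agent.H20.CMRegular
import Groth.Agent.Lib.Depth.Local
import Mathlib.RingTheory.Regular.Flat
import Mathlib.RingTheory.KrullDimension.Polynomial
import Mathlib.RingTheory.KrullDimension.NonZeroDivisors
import Mathlib.RingTheory.MvPolynomial.Ideal


set_option autoImplicit false
universe u
open CInt

namespace Groth.Agent.S10903

open RingTheory.Sequence IsLocalRing in
theorem quotient_add_height_le {R : Type u} [CommRing R] [Nontrivial R] {I : Ideal R} (hI : I ≠ ⊤) :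
    ringKrullDim (R ⧸ I) + (I.height : WithBot ℕ∞) ≤ ringKrullDim R := by
  have : Nonempty (PrimeSpectrum R) := inferInstance
  obtain ⟨p, hp, hpI⟩ := Ideal.exists_le_maximal I hI
  have : Nonempty (PrimeSpectrum.zeroLocus (R := R) I) := ⟨⟨⟨p, hp.isPrime⟩, hpI⟩⟩
  rw [ringKrullDim_quotient, Order.krullDim_eq_iSup_length, ringKrullDim,
    Order.krullDim_eq_iSup_height_add_coheight_of_nonempty, ← WithBot.coe_add, WithBot.coe_le_coe,
    ENat.iSup_add]
  refine iSup_le fun l => ?_
  refine le_trans ?_ (le_iSup _ (l.head : PrimeSpectrum R))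
  rw [add_comm]
  refine add_le_add ?_ ?_
  · calc I.height ≤ (l.head : PrimeSpectrum R).asIdeal.height := Ideal.height_mono l.head.2
      _ = _ := PrimeSpectrum.height_eq_orderHeight _
  · refine le_trans ?_ (Order.coheight_le_coheight_apply_of_strictMono Subtype.val
      (fun a b h => h) l.head)
    exact Order.length_le_coheight_head

theorem ker_constantCoeff_le {σ : Type*} {k : Type u} [Field k] :
    RingHom.ker (MvPolynomial.constantCoeff (σ := σ) (R := k)) ≤
      Ideal.span (Set.range MvPolynomial.X) := by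
  intro x hx
  rw [← Set.image_univ, MvPolynomial.mem_ideal_span_X_image]
  intro m hm
  by_contra h
  push_neg at h
  have : m = 0 := Finsupp.ext fun i => h i (Set.mem_univ i)
  subst this
  exact MvPolynomial.mem_support_iff.mp hm hx

set_option maxHeartbeats 1000000 in
open RingTheory.Sequence IsLocalRing in
theorem localized_mem (k : Type u) [Field k] (n r : ℕ)
    (hr : r ≤ n) (f : Fin r → MvPolynomial (Fin (n + 1)) k)
    (hf : ∀ i, MvPolynomial.constantCoeff (f i) = 0)
    (hJ : (Ideal.span (Set.range f)).height = r) (g : MvPolynomial (Fin (n + 1)) k)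
    (A : Ideal (MvPolynomial (Fin (n + 1)) k)) (hA : ∀ s, s ∈ A ↔ s * g ∈ Ideal.span (Set.range f))
    (hmA : RingHom.ker MvPolynomial.constantCoeff ≤ A.radical) :
    ∃ s, MvPolynomial.constantCoeff s ≠ 0 ∧ s * g ∈ Ideal.span (Set.range f) := by
  let S := MvPolynomial (Fin (n + 1)) k
  let m : Ideal S := RingHom.ker MvPolynomial.constantCoeff
  have : m.IsMaximal := RingHom.ker_isMaximal_of_surjective _
    fun c => ⟨MvPolynomial.C c, MvPolynomial.constantCoeff_C _ c⟩
  let R := Localization.AtPrime m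
  let φ : S →+* R := algebraMap S R
  have : IsNoetherianRing R := IsLocalization.isNoetherianRing m.primeCompl R inferInstance
  have hmax : maximalIdeal R = m.map φ := (Localization.AtPrime.map_eq_maximalIdeal).symm
  have hφm : ∀ x ∈ m, φ x ∈ maximalIdeal R := fun x hx => hmax ▸ Ideal.mem_map_of_mem φ hx
  -- regular sequence
  let xs : List R := (List.ofFn fun i : Fin (n + 1) => (MvPolynomial.X i : S)).map φ
  have hxs : IsWeaklyRegular R xs := by
    refine IsWeaklyRegular.of_flat ?_
    simpa using Groth.Agent.Lib.Grass.RegSeq.isWeaklyRegular_X_sub_C (F := k) (n + 1) 0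
  have hxm : ∀ r ∈ xs, r ∈ maximalIdeal R := by
    simp only [xs, List.mem_map, List.mem_ofFn]
    rintro _ ⟨_, ⟨i, rfl⟩, rfl⟩
    exact hφm _ (MvPolynomial.constantCoeff_X k i)
  have hxreg : IsRegular R xs := Groth.Agent.Lib.Depth.Basic.isRegular_of_mem
    (Groth.Agent.Lib.Depth.Basic.smul_top_ne_top Ideal.IsPrime.ne_top') hxs hxm
  have hlen : xs.length = n + 1 := by simp [xs]
  have hle : ringKrullDim R ≤ (n + 1 : ℕ) := by
    rw [IsLocalization.AtPrime.ringKrullDim_eq_height m R]
    refine (Ideal.height_le_ringKrullDim_of_ne_top (Ideal.IsPrime.ne_top inferInstance)).trans ?_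
    rw [MvPolynomial.ringKrullDim_of_isNoetherianRing, ringKrullDim_eq_zero_of_field]
    simp
  have : LocCoh.IsCohenMacaulayLocalRing R :=
    Groth.Agent.Lib.Depth.CM.isCohenMacaulayLocalRing_of_isRegular hxreg (by rw [hlen]; exact hle)
  have hdim : ringKrullDim R = (n + 1 : ℕ) := by
    refine le_antisymm hle ?_
    rw [← ringKrullDim_add_length_eq_ringKrullDim_of_isRegular xs hxreg, hlen]
    refine le_add_of_nonneg_left ?_
    have : Nontrivial (R ⧸ Ideal.ofList xs) := Ideal.Quotient.nontrivial_iff.mpr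
      (ne_top_of_le_ne_top Ideal.IsPrime.ne_top' (Ideal.span_le.mpr hxm : _ ≤ maximalIdeal R))
    exact ringKrullDim_nonneg_of_nontrivial
  -- f regular in R
  let fs : List R := List.ofFn fun i => φ (f i)
  have hfs : Ideal.ofList fs = (Ideal.span (Set.range f)).map φ := by
    simp only [Ideal.ofList, fs, List.mem_ofFn, Ideal.map_span, ← Set.range_comp]
    rfl
  have hfm : ∀ r ∈ fs, r ∈ maximalIdeal R := by
    simp only [fs, List.mem_ofFn]
    rintro _ ⟨i, rfl⟩
    exact hφm _ (hf i)
  have hJle : Ideal.ofList fs ≤ maximalIdeal R := Ideal.span_le.mpr hfm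
  have hne : Ideal.ofList fs ≠ ⊤ := ne_top_of_le_ne_top Ideal.IsPrime.ne_top' hJle
  have hh : (r : ℕ∞) ≤ (Ideal.ofList fs).height := by
    rw [← hJ, ← IsLocalization.height_under m.primeCompl (Ideal.ofList fs), hfs]
    exact Ideal.height_mono (Ideal.le_comap_map)
  have hreg : IsRegular R fs := by
    refine Groth.Agent.H20.CMRegular.isRegular_of_ringKrullDim_le fs hfm ?_
    refine le_trans (add_le_add le_rfl ?_) (quotient_add_height_le hne)
    have : fs.length = r := by simp [fs]
    rw [this]
    exact_mod_cast hh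
  -- depth
  have hd := Groth.Agent.Lib.Depth.Local.idealDepth_quot_ofList hfm hreg.toIsWeaklyRegular
  have hdR : LocCoh.idealDepth (maximalIdeal R) R = (n + 1 : ℕ) := by
    have := Groth.Agent.Lib.Depth.CM.ringKrullDim_eq_depth (R := R)
    rw [hdim] at this
    exact (WithBot.coe_eq_coe.mp this).symm
  rw [hdR, show fs.length = r by simp [fs]] at hd
  have h1 : ((0 + 1 : ℕ) : ℕ∞) ≤
      LocCoh.idealDepth (maximalIdeal R) (R ⧸ Ideal.ofList fs • (⊤ : Submodule R R)) := by
    by_contra hlt
    rw [zero_add, Nat.cast_one, not_le, ENat.lt_one_iff_eq_zero] at hlt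
    rw [hlt, zero_add] at hd
    exact absurd (Nat.cast_inj.mp hd) (by omega)
  have htop := Groth.Agent.Lib.Depth.Local.ofList_smul_top_ne_top (I := maximalIdeal R) (M := R)
    (Groth.Agent.Lib.Depth.Basic.smul_top_ne_top Ideal.IsPrime.ne_top') hfm
  obtain ⟨x, hx, hxr, -⟩ :=
    Groth.Agent.Lib.Depth.Basic.exists_isSMulRegular_of_succ_le htop h1
  have hxA : x ∈ (A.map φ).radical :=
    Ideal.map_radical_le φ (Ideal.map_mono hmA (hmax ▸ hx))
  obtain ⟨N, hN⟩ := hxA
  have hG : x ^ N * φ g ∈ Ideal.ofList fs := by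
    have hle : A.map φ ≤ Submodule.comap (LinearMap.mulRight R (φ g)) (Ideal.ofList fs) := by
      refine Ideal.map_le_iff_le_comap.mpr fun s hs => ?_
      show φ s * φ g ∈ Ideal.ofList fs
      rw [← map_mul, hfs]
      exact Ideal.mem_map_of_mem φ ((hA s).mp hs)
    exact hle hN
  have hgm : φ g ∈ Ideal.ofList fs := by
    have h2 : (Submodule.Quotient.mk (φ g) : R ⧸ Ideal.ofList fs • (⊤ : Submodule R R)) = 0 := by
      refine (hxr.pow N).right_eq_zero_of_smul ?_
      rw [← Submodule.Quotient.mk_smul, Submodule.Quotient.mk_eq_zero]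
      simpa using hG
    simpa using (Submodule.Quotient.mk_eq_zero _).mp h2
  rw [hfs, IsLocalization.algebraMap_mem_map_algebraMap_iff m.primeCompl] at hgm
  obtain ⟨s, hs, hsg⟩ := hgm
  exact ⟨s, hs, hsg⟩

/-- Let k be a field, S = k[x_0, …, x_n], and f_1, …, f_r with r ≤ n homogeneous polynomials of positive
degrees whose ideal J = (f_1, …, f_r) has height r — the subscheme of P^n_k cut out by the
hypersurfaces f_i = 0 has codimension r, an ideal-theoretic complete intersection. Then J is
saturated with respect to the irrelevant ideal (x_0, …, x_n): an element g of S such that, for each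
i, x_i^m g ∈ J for some m, already lies in J. Hence J is the full homogeneous ideal of that
subscheme (a global complete intersection). -/
theorem result (k : Type u) [Field k] (n r : ℕ)
    (hr : r ≤ n) (f : Fin r → MvPolynomial (Fin (n + 1)) k) (d : Fin r → ℕ)
    (hf : ∀ i, (f i).IsHomogeneous (d i)) (hd : ∀ i, 0 < d i)
    (hJ : (Ideal.span (Set.range f)).height = r) (g : MvPolynomial (Fin (n + 1)) k)
    (hg : ∀ i : Fin (n + 1), ∃ m : ℕ, MvPolynomial.X i ^ m * g ∈ Ideal.span (Set.range f)) :
    g ∈ Ideal.span (Set.range f) := by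
  have hf0 : ∀ i, MvPolynomial.constantCoeff (f i) = 0 := fun i =>
    (hf i).coeff_eq_zero (by simpa using (hd i).ne)
  let A : Ideal (MvPolynomial (Fin (n + 1)) k) :=
    Submodule.comap (LinearMap.mulRight (MvPolynomial (Fin (n + 1)) k) g) (Ideal.span (Set.range f))
  have hA : ∀ s, s ∈ A ↔ s * g ∈ Ideal.span (Set.range f) := fun s => Iff.rfl
  have hmA : RingHom.ker MvPolynomial.constantCoeff ≤ A.radical := by
    refine ker_constantCoeff_le.trans (Ideal.span_le.mpr ?_)
    rintro _ ⟨i, rfl⟩
    obtain ⟨m, hm⟩ := hg i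
    exact ⟨m, hm⟩
  obtain ⟨s, hs, hsg⟩ := localized_mem k n r hr f hf0 hJ g A hA hmA
  have h1 : MvPolynomial.C (MvPolynomial.constantCoeff s) ∈ A.radical := by
    have h2 : s - MvPolynomial.C (MvPolynomial.constantCoeff s) ∈ A.radical := hmA (by simp)
    simpa using sub_mem (Ideal.le_radical ((hA s).mpr hsg)) h2
  have h3 : A.radical = ⊤ := Ideal.eq_top_of_isUnit_mem _ h1 ((IsUnit.mk0 _ hs).map MvPolynomial.C)
  rw [Ideal.radical_eq_top] at h3
  simpa [h3] using (hA 1).mp (h3 ▸ Submodule.mem_top)

end Groth.Agent.S10903
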