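import Groth.Statements.S10904
import Groth.Agent.H15.BezoutHilbert
import Mathlib.Algebra.Polynomial.Taylor
import Mathlib.Algebra.Polynomial.Roots

set_option autoImplicit false
universe u
open Polynomial
open ProjDeg

namespace Groth.Agent.S10904

/-- Let k be a field, R = k[X_0, …, X_n] graded by degree, I a homogeneous prime ideal of R, f a
homogeneous element of degree d ≥ 1 not in I, and I' = I + (f). Let P be the Hilbert polynomial of
R/I and Q that of R/I': rational polynomials whose value at every large integer m is the k-dimension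
of the degree-m piece, i.e. dim R_m − dim (I ∩ R_m). Assume P has degree at least 1, i.e. the
projective variety V(I) ⊆ P^n_k has dimension ≥ 1. Then Q has degree deg P − 1, and the degrees of
the projective schemes, (degree of the Hilbert polynomial)! times its leading coefficient, satisfy
deg V(I') = d · deg V(I). (The published statement has no dimension hypothesis; for V(I) a single
point the left side is 0 and the right side is d · deg V(I) ≠ 0, and the printed proof uses dim
V(I') = dim V(I) − 1.) -/
theorem result (k : Type u) [Field k] (n : ℕ)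
    (I : Ideal (MvPolynomial (Fin (n + 1)) k)) (hIh : I.IsHomogeneous (CohB1.polyGrading n k)) [I.IsPrime]
    (f : MvPolynomial (Fin (n + 1)) k) (d : ℕ) (hd : 0 < d) (hf : f.IsHomogeneous d) (hfI : f ∉ I)
    (P Q : ℚ[X])
    (hP : ∃ m₀ : ℕ, ∀ m : ℕ, m₀ ≤ m → P.eval (m : ℚ) =
      (Module.finrank k ↥(CohB1.polyGrading n k m) : ℚ) -
        Module.finrank k ↥(Submodule.restrictScalars k I ⊓ CohB1.polyGrading n k m))
    (hQ : ∃ m₀ : ℕ, ∀ m : ℕ, m₀ ≤ m → Q.eval (m : ℚ) =
      (Module.finrank k ↥(CohB1.polyGrading n k m) : ℚ) -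
        Module.finrank k ↥(Submodule.restrictScalars k (I ⊔ Ideal.span {f}) ⊓ CohB1.polyGrading n k m))
    (hdim : 1 ≤ P.natDegree) :
    Q.natDegree + 1 = P.natDegree ∧
      (Q.natDegree.factorial : ℚ) * Q.leadingCoeff =
        d * ((P.natDegree.factorial : ℚ) * P.leadingCoeff) := by
  classical
  obtain ⟨m₁, hP⟩ := hP
  obtain ⟨m₂, hQ⟩ := hQ
  have hd1 := hd
  have heq : Q = P - Polynomial.taylor (-(d : ℚ)) P := by
    refine Polynomial.eq_of_infinite_eval_eq _ _ (Set.Infinite.mono ?_
      ((Set.infinite_image_iff (f := fun j : ℕ => (j : ℚ)) (Nat.cast_injective.injOn)).2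
        (Set.Ici_infinite (m₁ + m₂ + d))))
    rintro _ ⟨m, hm, rfl⟩
    rw [Set.mem_Ici] at hm
    have hstep := Groth.Agent.H15.BezoutHilbert.idim_step hIh hf
      (fun g hg => ((Ideal.IsPrime.mem_or_mem ‹I.IsPrime› hg).resolve_right hfI)) (m := m) (by omega)
    have hle : ∀ (J : Ideal (MvPolynomial (Fin (n + 1)) k)) (j : ℕ), Groth.Agent.H15.BezoutHilbert.idim J j ≤ (j + n).choose n := by
      intro J j
      have : Module.Finite k ↥(MvPolynomial.homogeneousSubmodule (Fin (n + 1)) k j) :=
        Module.Finite.iff_fg.2 (MvPolynomial.homogeneousSubmodule_fg _ _ j)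
      rw [← Groth.Agent.H15.BezoutHilbert.finrank_homogeneous (k := k)]
      exact Submodule.finrank_mono inf_le_right
    rw [Set.mem_setOf_eq, Polynomial.eval_sub, Polynomial.taylor_eval, hQ m (by omega), hP m (by omega),
      show (m : ℚ) + -(d : ℚ) = ((m - d : ℕ) : ℚ) by rw [Nat.cast_sub (by omega)]; ring, hP (m - d) (by omega)]
    have h' : (Groth.Agent.H15.BezoutHilbert.idim (I ⊔ Ideal.span {f}) m : ℚ) + Groth.Agent.H15.BezoutHilbert.idim I (m - d) =
        Groth.Agent.H15.BezoutHilbert.idim I m + ((m - d + n).choose n : ℕ) := by exact_mod_cast hstep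
    simp only [CohB1.polyGrading, Groth.Agent.H15.BezoutHilbert.finrank_homogeneous, Groth.Agent.H15.BezoutHilbert.idim] at h' ⊢
    linarith
  obtain ⟨e, he⟩ : ∃ e, P.natDegree = e + 1 := ⟨P.natDegree - 1, by omega⟩
  have hlin : (Polynomial.hasseDeriv e P).natDegree < 2 := by
    have := Polynomial.natDegree_hasseDeriv_le P e
    omega
  have hce : Q.coeff e = (d : ℚ) * (e + 1) * P.coeff (e + 1) := by
    rw [heq, Polynomial.coeff_sub, Polynomial.taylor_coeff, Polynomial.eval_eq_sum_range' hlin]
    simp only [Finset.sum_range_succ, Finset.sum_range_zero, Polynomial.hasseDeriv_coeff, zero_add, pow_zero, pow_one,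
      mul_one, Nat.choose_self, Nat.cast_one, one_mul]
    rw [Nat.add_comm 1 e, Nat.choose_succ_self_right]
    push_cast
    ring
  have hlc : P.coeff (e + 1) ≠ 0 := by
    rw [← he]
    exact Polynomial.leadingCoeff_ne_zero.2 (fun h => by rw [h, Polynomial.natDegree_zero] at he; omega)
  have hQd : Q.natDegree = e := by
    refine le_antisymm (Polynomial.natDegree_le_iff_coeff_eq_zero.2 fun j hj => ?_) (Polynomial.le_natDegree_of_ne_zero ?_)
    · rw [heq, Polynomial.coeff_sub]
      rcases Nat.lt_or_ge (e + 1) j with h | h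
      · rw [Polynomial.coeff_eq_zero_of_natDegree_lt (by omega),
          Polynomial.coeff_eq_zero_of_natDegree_lt (by rw [Polynomial.natDegree_taylor]; omega), sub_zero]
      · have : j = P.natDegree := by omega
        rw [this, Polynomial.coeff_taylor_natDegree, Polynomial.coeff_natDegree, sub_self]
    · rw [hce]
      exact mul_ne_zero (mul_ne_zero (Nat.cast_ne_zero.2 (by omega)) (by positivity)) hlc
  refine ⟨by omega, ?_⟩
  have hP' : P.leadingCoeff = P.coeff (e + 1) := by rw [Polynomial.leadingCoeff, he]
  have hQ' : Q.leadingCoeff = Q.coeff e := by rw [Polynomial.leadingCoeff, hQd]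
  rw [hQd, hQ', hce, hP', he, Nat.factorial_succ]
  push_cast
  ring

end Groth.Agent.S10904
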