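import Groth.Statements.S14437
import Mathlib

set_option autoImplicit false
universe u
open CAlg

namespace Groth.Agent.S14437

/-- Let k be a field and A → B a local homomorphism of Noetherian local k-algebras with residue fields k
(k → A/m_A and k → B/m_B bijective) — for instance the local rings at a closed point x and at its
image y under a morphism of schemes of finite type over an algebraically closed k. Then dim_k
(Ω_{B/A} ⊗_B B/m_B) + rank(m_A/m_A² → m_B/m_B²) = dim_k (m_B/m_B²): the fibre at x of the sheaf of
relative differentials is dual to the kernel of the tangent map T_x X → T_y Y. (The published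
statement is the canonical isomorphism (Ω_{X/Y})_(x)^∨ ≅ ker(df_x); stated here as the resulting
equality of dimensions. Its second assertion, dim (Ω_{X/Y})_(x) ≥ r when the fibre has an
r-dimensional component through x, is not included.) -/
theorem result (k : Type u) [Field k]
    (A B : Type u) [CommRing A] [CommRing B] [IsLocalRing A] [IsLocalRing B] [IsNoetherianRing A] [IsNoetherianRing B]
    [Algebra k A] [Algebra k B] [Algebra A B] [IsScalarTower k A B]
    (hle : IsLocalRing.maximalIdeal A ≤ Ideal.comap (IsScalarTower.toAlgHom k A B) (IsLocalRing.maximalIdeal B))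
    (hA : Function.Bijective (algebraMap k (IsLocalRing.ResidueField A)))
    (hB : Function.Bijective (algebraMap k (IsLocalRing.ResidueField B))) :
    Module.finrank (IsLocalRing.ResidueField B) (TensorProduct B (IsLocalRing.ResidueField B) (Ω[B⁄A])) +
      Module.finrank k ↥(LinearMap.range (Ideal.mapCotangent (IsLocalRing.maximalIdeal A) (IsLocalRing.maximalIdeal B)
        (IsScalarTower.toAlgHom k A B) hle)) =
      Module.finrank k (IsLocalRing.CotangentSpace B) := by
  classical
  let φ := IsScalarTower.toAlgHom k A B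
  let κ := IsLocalRing.ResidueField B
  let W : Submodule k (IsLocalRing.CotangentSpace B) := LinearMap.range (Ideal.mapCotangent
    (IsLocalRing.maximalIdeal A) (IsLocalRing.maximalIdeal B) φ hle)
  show _ + Module.finrank k W = _
  let mB := IsLocalRing.maximalIdeal B
  have hres : ∀ r : k, algebraMap k κ r = IsLocalRing.residue B (algebraMap k B r) := fun r =>
    IsScalarTower.algebraMap_apply k B κ r
  have hex : ∀ b : B, ∃ r : k, b - algebraMap k B r ∈ mB := fun b => by
    obtain ⟨r, hr⟩ := hB.2 (IsLocalRing.residue B b)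
    exact ⟨r, by rw [← IsLocalRing.residue_eq_zero_iff, map_sub, ← hres, hr, sub_self]⟩
  choose c hc using hex
  let W' : Submodule B (IsLocalRing.CotangentSpace B) := Submodule.span B (W : Set (IsLocalRing.CotangentSpace B))
  have hsmul : ∀ (b : B) (v : IsLocalRing.CotangentSpace B), b • v = c b • v := fun b v => by
    conv_lhs => rw [← sub_add_cancel b (algebraMap k B (c b)), add_smul,
      Ideal.Cotangent.smul_eq_zero_of_mem (hc b), zero_add, algebraMap_smul]
  have hW : ∀ v, v ∈ W' ↔ v ∈ W := fun v => by
    refine ⟨fun hv => ?_, fun hv => Submodule.subset_span hv⟩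
    induction hv using Submodule.span_induction with
    | mem x hx => exact hx
    | zero => exact zero_mem _
    | add x y _ _ hx hy => exact add_mem hx hy
    | smul b x _ hx => rw [hsmul]; exact W.smul_mem _ hx
  let Q := IsLocalRing.CotangentSpace B ⧸ W'
  let δ : B → Q := fun b => Submodule.Quotient.mk (mB.toCotangent ⟨_, hc b⟩)
  have hδ : ∀ (b : B) (r : k) (h : b - algebraMap k B r ∈ mB), δ b = Submodule.Quotient.mk (mB.toCotangent ⟨_, h⟩) := by
    intro b r h
    have hr : c b = r := by
      refine hB.1 ?_
      rw [hres, hres, ← sub_eq_zero, ← map_sub, IsLocalRing.residue_eq_zero_iff]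
      have := sub_mem h (hc b)
      rwa [sub_sub_sub_cancel_left] at this
    subst hr
    rfl
  have hkill : ∀ b ∈ mB, ∀ q : Q, b • q = 0 := fun b hb q => by
    obtain ⟨v, rfl⟩ := Submodule.Quotient.mk_surjective _ q
    rw [← Submodule.Quotient.mk_smul, Ideal.Cotangent.smul_eq_zero_of_mem hb, Submodule.Quotient.mk_zero]
  have hadd : ∀ b b', δ (b + b') = δ b + δ b' := fun b b' => by
    have h : (b + b') - algebraMap k B (c b + c b') ∈ mB := by
      rw [map_add, add_sub_add_comm]; exact add_mem (hc b) (hc b')
    rw [hδ _ _ h, ← Submodule.Quotient.mk_add, ← map_add]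
    congr 2
    exact Subtype.ext (show b + b' - algebraMap k B (c b + c b') = (b - algebraMap k B (c b)) + (b' - algebraMap k B (c b')) by
      rw [map_add, add_sub_add_comm])
  have hmul : ∀ b b', δ (b * b') = b • δ b' + b' • δ b := fun b b' => by
    have h : b * b' - algebraMap k B (c b * c b') ∈ mB := by
      have : b * b' - algebraMap k B (c b * c b') = b * (b' - algebraMap k B (c b')) + algebraMap k B (c b') * (b - algebraMap k B (c b)) := by
        rw [map_mul]; ring
      rw [this]
      exact add_mem (mB.mul_mem_left _ (hc b')) (mB.mul_mem_left _ (hc b))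
    rw [hδ _ _ h, ← Submodule.Quotient.mk_smul, ← Submodule.Quotient.mk_smul, ← Submodule.Quotient.mk_add]
    congr 1
    rw [← map_smul, ← map_smul, ← map_add, Ideal.toCotangent_eq, pow_two]
    have : (b * b' - algebraMap k B (c b * c b')) - (b • (⟨_, hc b'⟩ : mB) + b' • (⟨_, hc b⟩ : mB) : mB) =
        -((b - algebraMap k B (c b)) * (b' - algebraMap k B (c b'))) := by
      simp only [Submodule.coe_add, Submodule.coe_smul, smul_eq_mul, map_mul]; ring
    rw [this]
    exact neg_mem (Ideal.mul_mem_mul (hc b) (hc b'))
  have hA0 : ∀ a : A, δ (algebraMap A B a) = 0 := fun a => by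
    obtain ⟨r, hr⟩ := hA.2 (IsLocalRing.residue A a)
    have hra : a - algebraMap k A r ∈ IsLocalRing.maximalIdeal A := by
      rw [← IsLocalRing.residue_eq_zero_iff, map_sub, ← hr,
        IsScalarTower.algebraMap_apply k A (IsLocalRing.ResidueField A) r]
      exact sub_self _
    have e : φ (a - algebraMap k A r) = algebraMap A B a - algebraMap k B r := by
      rw [map_sub, AlgHom.commutes]; rfl
    rw [hδ _ r (e ▸ hle hra), Submodule.Quotient.mk_eq_zero]
    refine Submodule.subset_span ⟨Ideal.toCotangent _ ⟨_, hra⟩, ?_⟩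
    rw [Ideal.mapCotangent_toCotangent]
    congr 1
    exact Subtype.ext e
  let D : Derivation A B Q := Derivation.mk'
    { toFun := δ
      map_add' := hadd
      map_smul' := fun a b => by
        rw [Algebra.smul_def, hmul, hA0, smul_zero, add_zero]; exact algebraMap_smul B a (δ b) }
    (fun b b' => hmul b b')
  let L : Ω[B⁄A] →ₗ[B] Q := D.liftKaehlerDifferential
  let Ψ0 : κ →ₗ[B] Ω[B⁄A] →ₗ[B] Q := Submodule.liftQ mB (LinearMap.toSpanSingleton B _ L) fun b hb => by
    refine LinearMap.ext fun ω => ?_
    show b • L ω = 0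
    exact hkill b hb _
  let Ψ : TensorProduct B κ (Ω[B⁄A]) →ₗ[B] Q := TensorProduct.lift Ψ0
  let T := TensorProduct B κ (Ω[B⁄A])
  have hkillT : ∀ b ∈ mB, ∀ z : T, b • z = 0 := fun b hb z => by
    induction z using TensorProduct.induction_on with
    | zero => rw [smul_zero]
    | add x y hx hy => rw [smul_add, hx, hy, add_zero]
    | tmul r ω =>
      rw [TensorProduct.smul_tmul', Algebra.smul_def, show algebraMap B κ b = 0 from (IsLocalRing.residue_eq_zero_iff b).mpr hb,
        zero_mul, TensorProduct.zero_tmul]
  let Φ0 : mB →ₗ[B] T :=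
    { toFun := fun x => (1 : κ) ⊗ₜ[B] KaehlerDifferential.D A B (x : B)
      map_add' := fun x y => by rw [Submodule.coe_add, map_add, TensorProduct.tmul_add]
      map_smul' := fun b x => by
        rw [RingHom.id_apply, Submodule.coe_smul, smul_eq_mul, Derivation.leibniz, TensorProduct.tmul_add,
          TensorProduct.tmul_smul, TensorProduct.tmul_smul, hkillT (x : B) x.2, add_zero] }
  let Φ1 : IsLocalRing.CotangentSpace B →ₗ[B] T := Ideal.Cotangent.lift Φ0 fun x y => by
    show (1 : κ) ⊗ₜ[B] KaehlerDifferential.D A B ((x : B) * (y : B)) = 0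
    rw [Derivation.leibniz, TensorProduct.tmul_add,
      TensorProduct.tmul_smul, TensorProduct.tmul_smul, hkillT (x : B) x.2, hkillT (y : B) y.2, add_zero]
  let Φ : Q →ₗ[B] T := W'.liftQ Φ1 (by
    rw [Submodule.span_le]
    rintro _ ⟨v, rfl⟩
    obtain ⟨a, rfl⟩ := Ideal.toCotangent_surjective _ v
    show Φ1 _ = 0
    rw [Ideal.mapCotangent_toCotangent]
    show (1 : κ) ⊗ₜ[B] KaehlerDifferential.D A B (algebraMap A B (a : A)) = 0
    rw [Derivation.map_algebraMap, TensorProduct.tmul_zero])
  have hΦ : ∀ (x : mB), Φ (Submodule.Quotient.mk (mB.toCotangent x)) = (1 : κ) ⊗ₜ[B] KaehlerDifferential.D A B (x : B) :=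
    fun x => rfl
  have hD0 : ∀ r : k, KaehlerDifferential.D A B (algebraMap k B r) = 0 := fun r => by
    rw [IsScalarTower.algebraMap_apply k A B, Derivation.map_algebraMap]
  have h12 : Φ.comp Ψ = LinearMap.id := by
    refine TensorProduct.ext' fun r ω => ?_
    obtain ⟨b, rfl⟩ := IsLocalRing.residue_surjective r
    show Φ (b • L ω) = IsLocalRing.residue B b ⊗ₜ[B] ω
    rw [map_smul, show IsLocalRing.residue B b = b • (1 : κ) from (by rw [Algebra.smul_def, mul_one]; rfl), ← TensorProduct.smul_tmul']
    congr 1
    refine LinearMap.congr_fun (f := Φ.comp L) (g := TensorProduct.mk B κ _ 1) ?_ ω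
    refine Derivation.liftKaehlerDifferential_unique _ _ (Derivation.ext fun b => ?_)
    show Φ (L (KaehlerDifferential.D A B b)) = (1 : κ) ⊗ₜ[B] KaehlerDifferential.D A B b
    rw [Derivation.liftKaehlerDifferential_comp_D]
    show Φ (δ b) = _
    rw [hΦ, map_sub, hD0, sub_zero]
  have h21 : Ψ.comp Φ = LinearMap.id := by
    refine LinearMap.ext fun q => ?_
    obtain ⟨v, rfl⟩ := Submodule.Quotient.mk_surjective _ q
    obtain ⟨x, rfl⟩ := Ideal.toCotangent_surjective _ v
    rw [LinearMap.comp_apply, LinearMap.id_apply, hΦ]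
    show (1 : B) • L (KaehlerDifferential.D A B (x : B)) = _
    rw [one_smul, Derivation.liftKaehlerDifferential_comp_D]
    show δ (x : B) = _
    have h : (x : B) - algebraMap k B 0 ∈ mB := by rw [map_zero, sub_zero]; exact x.2
    rw [hδ _ 0 h]
    congr 2
    exact Subtype.ext (show (x : B) - algebraMap k B 0 = (x : B) by rw [map_zero, sub_zero])
  let e : T ≃ₗ[B] Q := LinearEquiv.ofLinear Ψ Φ h21 h12
  have hk1 : Module.finrank k κ = 1 := by
    rw [← (LinearEquiv.ofBijective (Algebra.linearMap k κ) hB).finrank_eq, Module.finrank_self]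
  haveI : Module.Finite k κ := Module.Finite.equiv (LinearEquiv.ofBijective (Algebra.linearMap k κ) hB)
  haveI : IsScalarTower k κ (IsLocalRing.CotangentSpace B) := IsScalarTower.of_algebraMap_smul fun r v => by
    rw [hres, show (IsLocalRing.residue B (algebraMap k B r)) • v = algebraMap k B r • v from rfl, algebraMap_smul]
  haveI : FiniteDimensional k (IsLocalRing.CotangentSpace B) := Module.Finite.trans κ _
  have h1 : Module.finrank κ T = Module.finrank k Q := by
    rw [← one_mul (Module.finrank κ T), ← hk1, Module.finrank_mul_finrank k κ T]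
    exact (e.restrictScalars k).finrank_eq
  rw [h1]
  have h2 : W'.restrictScalars k = W := Submodule.ext hW
  rw [← (Submodule.Quotient.restrictScalarsEquiv k W').finrank_eq, h2]
  exact Submodule.finrank_quotient_add_finrank W

end Groth.Agent.S14437
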