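import Groth.Statements.S11311
import Mathlib
import Groth.Agent.S14437
import Groth.Agent.Lib.JacCrit.SmoothLocal

set_option autoImplicit false
universe u
open CAlg

namespace Groth.Agent.S11311

/-- Let k be a field and B a local ring containing k whose residue field is k (the composite k → B → B/m
is bijective), and which is a localization of a finitely generated k-algebra (essentially of finite
type over k); let d = dim B. If the module of differentials Ω_{B/k} is free of rank d then B is a
regular local ring. Conversely, if k is perfect and B is a regular local ring, then Ω_{B/k} is free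
of rank d. (The published statement assumes k perfect as one of its hypotheses and asserts the
equivalence; its proof of the first implication does not use perfectness, so that hypothesis is
placed on the converse only.) -/
theorem result (k B : Type u) [Field k] [CommRing B] [Algebra k B]
    [IsLocalRing B] [Algebra.EssFiniteType k B]
    (hres : Function.Bijective (algebraMap k (IsLocalRing.ResidueField B)))
    (d : ℕ) (hd : ringKrullDim B = (d : WithBot ℕ∞)) :
    ((Module.Free B (KaehlerDifferential k B) ∧ Module.finrank B (KaehlerDifferential k B) = d) →
        IsRegularLocalRing B) ∧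
      (PerfectField k → IsRegularLocalRing B →
        Module.Free B (KaehlerDifferential k B) ∧ Module.finrank B (KaehlerDifferential k B) = d) := by
  haveI : IsNoetherianRing B := Algebra.EssFiniteType.isNoetherianRing k B
  have hle : IsLocalRing.maximalIdeal k ≤ Ideal.comap (IsScalarTower.toAlgHom k k B) (IsLocalRing.maximalIdeal B) := by
    rw [IsLocalRing.isField_iff_maximalIdeal_eq.mp (Field.toIsField k)]; exact bot_le
  have hk : Function.Bijective (algebraMap k (IsLocalRing.ResidueField k)) :=
    ⟨(algebraMap k (IsLocalRing.ResidueField k)).injective, IsLocalRing.residue_surjective⟩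
  have h0 := Groth.Agent.S14437.result k k B hle hk hres
  haveI : Subsingleton (IsLocalRing.maximalIdeal k).Cotangent := by
    rw [Ideal.cotangent_subsingleton_iff, IsIdempotentElem, IsLocalRing.isField_iff_maximalIdeal_eq.mp (Field.toIsField k), Ideal.bot_mul]
  have hr0 : LinearMap.range (Ideal.mapCotangent (IsLocalRing.maximalIdeal k) (IsLocalRing.maximalIdeal B)
      (IsScalarTower.toAlgHom k k B) hle) = ⊥ := by
    rw [LinearMap.range_eq_bot]
    exact LinearMap.ext fun x => by rw [Subsingleton.elim x 0, map_zero, map_zero]
  rw [hr0, finrank_bot, add_zero] at h0
  have hcot : Module.finrank k (IsLocalRing.CotangentSpace B) = (IsLocalRing.maximalIdeal B).spanFinrank := by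
    haveI : IsScalarTower k (IsLocalRing.ResidueField B) (IsLocalRing.CotangentSpace B) :=
      IsScalarTower.of_algebraMap_smul fun r v => by
        rw [IsScalarTower.algebraMap_apply k B (IsLocalRing.ResidueField B) r,
          show (algebraMap B (IsLocalRing.ResidueField B) (algebraMap k B r)) • v = algebraMap k B r • v from
            algebraMap_smul (IsLocalRing.ResidueField B) (algebraMap k B r) v, algebraMap_smul]
    rw [← Module.finrank_mul_finrank k (IsLocalRing.ResidueField B) (IsLocalRing.CotangentSpace B),
      ← (LinearEquiv.ofBijective (Algebra.linearMap k (IsLocalRing.ResidueField B)) hres).finrank_eq,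
      Module.finrank_self, one_mul, IsLocalRing.spanFinrank_maximalIdeal_eq_finrank_cotangentSpace]
  constructor
  · rintro ⟨hfree, hfin⟩
    haveI := hfree
    rw [Module.finrank_baseChange, hfin, hcot] at h0
    refine IsRegularLocalRing.of_spanFinrank_maximalIdeal_le B ?_
    rw [hd, ← h0]
  · intro hperf hreg
    obtain ⟨F, _, _, _, q, _, ⟨e⟩⟩ := Groth.Agent.Lib.JacCrit.SmoothLocal.exists_model k B
    obtain ⟨n, g, hg⟩ := Algebra.FiniteType.iff_quotient_mvPolynomial''.mp (inferInstance : Algebra.FiniteType k F)
    let M := q.comap g.toRingHom
    let P := Localization.AtPrime M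
    let φ : P →+* B := e.toAlgHom.toRingHom.comp (Localization.localRingHom M q g.toRingHom rfl)
    have hφ : Function.Surjective φ :=
      e.surjective.comp (RingHom.surjective_localRingHom_of_surjective g.toRingHom hg q)
    letI : Algebra P B := φ.toAlgebra
    haveI : IsScalarTower k P B := IsScalarTower.of_algebraMap_eq fun r => by
      show _ = e (Localization.localRingHom M q g.toRingHom rfl (algebraMap k P r))
      rw [IsScalarTower.algebraMap_apply k (MvPolynomial (Fin n) k) P, Localization.localRingHom_to_map]
      show _ = e (algebraMap F (Localization.AtPrime q) (g (algebraMap k _ r)))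
      rw [g.commutes, ← IsScalarTower.algebraMap_apply, e.commutes]
    haveI : Algebra.EssFiniteType k P := by
      haveI : Algebra.EssFiniteType (MvPolynomial (Fin n) k) P := Algebra.EssFiniteType.of_isLocalization P M.primeCompl
      exact Algebra.EssFiniteType.comp k (MvPolynomial (Fin n) k) P
    haveI : Algebra.FormallySmooth (MvPolynomial (Fin n) k) P := Algebra.FormallySmooth.of_isLocalization M.primeCompl
    haveI : Algebra.FormallySmooth k P := Algebra.FormallySmooth.comp k (MvPolynomial (Fin n) k) P
    haveI : IsRegularLocalRing P := Groth.Agent.Lib.JacCrit.SmoothLocal.isRegularLocalRing_of_formallySmooth k P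
    haveI : Module.Free P (KaehlerDifferential k P) := Module.free_of_flat_of_isLocalRing
    haveI : Algebra.EssFiniteType k (IsLocalRing.ResidueField B) := by
      haveI : Module.Finite k (IsLocalRing.ResidueField B) :=
        Module.Finite.equiv (LinearEquiv.ofBijective (Algebra.linearMap k (IsLocalRing.ResidueField B)) hres)
      infer_instance
    haveI : Algebra.FormallySmooth k B := Groth.Agent.Lib.JacCrit.Regular.formallySmooth_of_surjective k (P := P) hφ
    haveI : Module.Free B (KaehlerDifferential k B) := Module.free_of_flat_of_isLocalRing
    refine ⟨inferInstance, ?_⟩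
    rw [Module.finrank_baseChange, hcot] at h0
    rw [h0]
    have := IsRegularLocalRing.spanFinrank_maximalIdeal (R := B)
    rw [hd] at this
    exact_mod_cast this

end Groth.Agent.S11311
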