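import Groth.Statements.S10909
import Mathlib
import Groth.Agent.S11311
import Groth.Agent.Lib.Dim.Local
import Groth.Agent.Lib.Regular45.Global

set_option autoImplicit false
universe u
open TensorProduct
open SmVar

namespace Groth.Agent.S10909

/-- Let k be an algebraically closed field and A a k-algebra of finite type with irreducible spectrum
(the nilradical of A is prime) and Krull dimension n; X = Spec A is then an irreducible separated
k-scheme of finite type of dimension n. Then X is a nonsingular variety — A is reduced and every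
localization of A at a prime is a regular local ring — if and only if the module of Kähler
differentials Ω_{A/k} is locally free of rank n: projective, with fibre κ(P) ⊗_A Ω_{A/k} of
dimension n at every prime P. -/
theorem result (k : Type u) [Field k]
    [IsAlgClosed k] (A : Type u) [CommRing A] [Algebra k A] [Algebra.FiniteType k A]
    (hirr : (nilradical A).IsPrime) (n : ℕ) (hn : ringKrullDim A = n) :
    (IsReduced A ∧ IsRegularRing A) ↔
      (Module.Projective A (Ω[A⁄k]) ∧
        ∀ (P : Ideal A) [P.IsPrime],
          Module.finrank P.ResidueField (P.ResidueField ⊗[A] Ω[A⁄k]) = n) := by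
  haveI : IsNoetherianRing A := Algebra.FiniteType.isNoetherianRing k A
  have hmin : minimalPrimes A = {nilradical A} := by
    ext q
    have hN : ∀ p : Ideal A, p.IsPrime → nilradical A ≤ p := fun p hp => nilradical_le_prime p
    constructor
    · intro hq
      exact le_antisymm (hq.2 ⟨hirr, bot_le⟩ (hN q hq.1.1)) (hN q hq.1.1)
    · rintro rfl
      exact ⟨⟨hirr, bot_le⟩, fun p hp _ => hN p hp.1⟩
  haveI : Nontrivial A := by
    by_contra h
    rw [not_nontrivial_iff_subsingleton] at h
    exact hirr.ne_top (Subsingleton.elim _ _)
  have hdimQ : Groth.Agent.Lib.Dim.Basic.dimQ k (nilradical A) = n := by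
    obtain ⟨q, hq, hd, -⟩ := Groth.Agent.Lib.Dim.Local.exists_ringKrullDim_eq_dimQ k (A := A)
    rw [hmin, Set.mem_singleton_iff] at hq
    subst hq
    rw [hn] at hd
    exact_mod_cast hd.symm
  have hdim : ∀ (m : Ideal A) [m.IsMaximal], ringKrullDim (Localization.AtPrime m) = (n : WithBot ℕ∞) := by
    intro m _
    rw [IsLocalization.AtPrime.ringKrullDim_eq_height m, Groth.Agent.Lib.Dim.Local.height_maximal_eq_dimAt k m]
    obtain ⟨q, hq, -, he⟩ := Groth.Agent.Lib.Dim.Local.exists_minimalPrimes_dimAt_eq k m
    rw [hmin, Set.mem_singleton_iff] at hq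
    subst hq
    rw [← he, hdimQ]
    rfl
  have hloc : ∀ (m : Ideal A) [m.IsMaximal],
      (IsRegularLocalRing (Localization.AtPrime m) ↔
        (Module.Free (Localization.AtPrime m) (LocalizedModule m.primeCompl Ω[A⁄k]) ∧
          Module.finrank (Localization.AtPrime m) (LocalizedModule m.primeCompl Ω[A⁄k]) = n)) := by
    intro m _
    haveI : Algebra.EssFiniteType A (Localization.AtPrime m) := Algebra.EssFiniteType.of_isLocalization _ m.primeCompl
    haveI : Algebra.EssFiniteType k (Localization.AtPrime m) := Algebra.EssFiniteType.comp k A _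
    haveI : Module.Finite k (A ⧸ m) := by
      letI := Ideal.Quotient.field m
      exact finite_of_finite_type_of_isJacobsonRing k (A ⧸ m)
    haveI : Module.Finite k m.ResidueField := Module.Finite.equiv
      (LinearEquiv.ofBijective (IsScalarTower.toAlgHom k (A ⧸ m) m.ResidueField).toLinearMap
        (Ideal.bijective_algebraMap_quotient_residueField m))
    have hres : Function.Bijective (algebraMap k (IsLocalRing.ResidueField (Localization.AtPrime m))) := by
      show Function.Bijective (algebraMap k m.ResidueField)
      exact IsAlgClosed.algebraMap_bijective_of_isIntegral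
    obtain ⟨h1, h2⟩ := Groth.Agent.S11311.result k (Localization.AtPrime m) hres n (hdim m)
    let e : LocalizedModule m.primeCompl Ω[A⁄k] ≃ₗ[Localization.AtPrime m] Ω[Localization.AtPrime m⁄k] :=
      LinearEquiv.extendScalarsOfIsLocalization m.primeCompl (Localization.AtPrime m)
        (IsLocalizedModule.linearEquiv m.primeCompl (LocalizedModule.mkLinearMap m.primeCompl Ω[A⁄k])
          (KaehlerDifferential.map k k A (Localization.AtPrime m)))
    constructor
    · intro h
      obtain ⟨hf, hr⟩ := h2 inferInstance h
      exact ⟨Module.Free.of_equiv e.symm, e.finrank_eq.trans hr⟩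
    · rintro ⟨hf, hr⟩
      exact h1 ⟨Module.Free.of_equiv e, e.finrank_eq.symm.trans hr⟩
  haveI : Module.FinitePresentation A Ω[A⁄k] := Module.finitePresentation_of_finite A _
  have hfib : ∀ (P : Ideal A) [P.IsPrime] [Module.Projective A Ω[A⁄k]],
      Module.finrank P.ResidueField (P.ResidueField ⊗[A] Ω[A⁄k]) =
        Module.rankAtStalk Ω[A⁄k] ⟨P, inferInstance⟩ :=
    fun P _ _ => (Module.rankAtStalk_eq (M := Ω[A⁄k]) ⟨P, inferInstance⟩).symm
  constructor
  · rintro ⟨hred, hreg⟩
    have hregm : ∀ (m : Ideal A) [m.IsMaximal], IsRegularLocalRing (Localization.AtPrime m) :=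
      fun m _ => isRegularRing_iff.mp hreg m
    haveI : Module.Projective A Ω[A⁄k] := Module.projective_of_localization_maximal fun m _ => by
      haveI := ((hloc m).mp (hregm m)).1
      exact Module.Projective.of_free
    refine ⟨inferInstance, fun P _ => ?_⟩
    obtain ⟨m, hm, hPm⟩ := Ideal.exists_le_maximal P (Ideal.IsPrime.ne_top inferInstance)
    rw [hfib P]
    haveI : IsDomain A := by
      have : (⊥ : Ideal A).IsPrime := by
        rwa [nilradical_eq_zero, Ideal.zero_eq_bot] at hirr
      exact (MulEquiv.isDomain (A ⧸ (⊥ : Ideal A)) (RingEquiv.quotientBot A).symm.toMulEquiv)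
    rw [(Module.isLocallyConstant_rankAtStalk (R := A) (M := Ω[A⁄k])).apply_eq_of_preconnectedSpace
      ⟨P, inferInstance⟩ ⟨m, hm.isPrime⟩]
    exact ((hloc m).mp (hregm m)).2
  · rintro ⟨hproj, hrank⟩
    have hregm : ∀ (m : Ideal A) [m.IsMaximal], IsRegularLocalRing (Localization.AtPrime m) := by
      intro m _
      refine (hloc m).mpr ⟨Module.free_of_flat_of_isLocalRing, ?_⟩
      rw [← hrank m, hfib m]
      rfl
    refine ⟨?_, Groth.Agent.Lib.Regular45.Global.of_forall_maximal hregm⟩
    apply isReduced_ofLocalizationMaximal
    intro m hm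
    haveI := hregm m
    haveI : IsDomain (Localization.AtPrime m) := Groth.Agent.Lib.Regular.Quotient.isDomain _
    infer_instance

end Groth.Agent.S10909
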