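import Groth.Statements.S10910
import Groth.Agent.H52.FBase.GeomRed
import Groth.Agent.Lib.PBasis.FieldSmooth
import Groth.Agent.Lib.JacCrit.Regular
import Groth.Agent.Lib.JacCrit.RegularOfSmooth

set_option autoImplicit false
set_option linter.style.haveILetI false
universe u
open TensorProduct
open SmVar

namespace Groth.Agent.S10910

/-- Let k be an algebraically closed field, A a k-algebra of finite type which is an integral domain all
of whose localizations at primes are regular (X = Spec A is a nonsingular affine variety), and B an
A-algebra with surjective structure map A → B whose nilradical is prime (Y = Spec B is an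
irreducible closed subscheme of X, with ideal I = ker(A → B)). Then every localization of B is
regular (Y is nonsingular) if and only if (i) Ω_{B/k} is a projective B-module (locally free) and
(ii) the conormal map I/I² → B ⊗_A Ω_{A/k}, class of x ↦ 1 ⊗ dx, is injective, i.e. the conormal
sequence 0 → I/I² → B ⊗_A Ω_{A/k} → Ω_{B/k} → 0 is exact on the left as well. -/
theorem result (k : Type u) [Field k]
    [IsAlgClosed k] (A B : Type u) [CommRing A] [CommRing B] [Algebra k A] [Algebra.FiniteType k A]
    [IsDomain A] [IsRegularRing A] [Algebra A B] [Algebra k B] [IsScalarTower k A B]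
    (hsurj : Function.Surjective (algebraMap A B)) (hirr : (nilradical B).IsPrime) :
    IsRegularRing B ↔
      (Module.Projective B (Ω[B⁄k]) ∧
        Function.Injective (KaehlerDifferential.kerCotangentToTensor k A B)) := by
  have key : ∀ (C : Type u) [CommRing C] [Algebra k C] [Algebra.FiniteType k C],
      IsRegularRing C ↔ Algebra.FormallySmooth k C := by
    intro C _ _ _
    haveI : Algebra.FinitePresentation k C := Algebra.FinitePresentation.of_finiteType.mp ‹_›
    haveI : IsNoetherianRing C := Algebra.FiniteType.isNoetherianRing k C
    constructor
    · intro h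
      have hall : ∀ q : PrimeSpectrum C, q ∈ Algebra.smoothLocus k C := fun q => by
        haveI := isRegularRing_iff.1 h q.asIdeal
        haveI : Algebra.IsGeometricallyReduced k q.asIdeal.ResidueField :=
          H52.FBase.GeomRed.isGeometricallyReduced_of_perfectField
        haveI : Algebra.FormallySmooth k q.asIdeal.ResidueField :=
          Lib.PBasis.FieldSmooth.formallySmooth_iff_isGeometricallyReduced.2 inferInstance
        exact Lib.JacCrit.Regular.isSmoothAt k q.asIdeal
      exact Algebra.smoothLocus_eq_univ_iff.1 (Set.eq_univ_of_forall hall)
    · intro h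
      haveI := h
      haveI : Algebra.Smooth k C := ⟨inferInstance, inferInstance⟩
      refine isRegularRing_iff.2 fun q _ => ?_
      exact Lib.JacCrit.RegularOfSmooth.isRegularLocalRing k q
  haveI : Algebra.FiniteType k B :=
    Algebra.FiniteType.of_surjective (IsScalarTower.toAlgHom k A B) hsurj
  haveI : Algebra.FormallySmooth k A := (key A).1 inferInstance
  rw [key B]
  constructor
  · intro h
    haveI := h
    refine ⟨inferInstance, ?_⟩
    obtain ⟨l, hl⟩ := (Algebra.FormallySmooth.iff_split_injection (P := A) hsurj).1 h
    exact fun x y hxy => by
      have := congrArg l hxy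
      rwa [← LinearMap.comp_apply, ← LinearMap.comp_apply, hl] at this
  · rintro ⟨hproj, hinj⟩
    refine (Algebra.FormallySmooth.iff_split_injection (P := A) hsurj).2 ?_
    haveI := hproj
    have hex := KaehlerDifferential.exact_kerCotangentToTensor_mapBaseChange k A B hsurj
    have hsurj' := KaehlerDifferential.mapBaseChange_surjective k A B hsurj
    obtain ⟨s, hs⟩ := Module.projective_lifting_property (KaehlerDifferential.mapBaseChange k A B)
      (LinearMap.id) hsurj'
    let f := KaehlerDifferential.kerCotangentToTensor k A B
    let g := KaehlerDifferential.mapBaseChange k A B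
    have hmem : ∀ z, z - s (g z) ∈ LinearMap.range f := fun z => by
      refine (hex _).1 ?_
      rw [map_sub]
      exact sub_eq_zero.2 (LinearMap.congr_fun hs (g z)).symm
    let h : TensorProduct A B (Ω[A⁄k]) →ₗ[A] LinearMap.range f :=
      (LinearMap.id - (s.comp g).restrictScalars A).codRestrict _ hmem
    refine ⟨(LinearEquiv.ofInjective f hinj).symm.toLinearMap.comp h, LinearMap.ext fun x => ?_⟩
    show (LinearEquiv.ofInjective f hinj).symm (h (f x)) = x
    rw [LinearEquiv.symm_apply_eq]
    refine Subtype.ext ?_
    show f x - s (g (f x)) = f x
    rw [hex.apply_apply_eq_zero, map_zero, sub_zero]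

end Groth.Agent.S10910
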