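import Groth.Statements.S10915
import Groth.Agent.Lib.Dim.Local
import Mathlib.RingTheory.GradedAlgebra.Radical
import Mathlib.RingTheory.Finiteness.Ideal
import Mathlib.Algebra.Module.Submodule.Union

set_option autoImplicit false
universe u
open ProjDeg

namespace Groth.Agent.S10915

/-- Let k be an algebraically closed field, R = k[X_0, …, X_n] graded by degree, and I a homogeneous
prime ideal with dim R/I = r + 1, so that X = V_+(I) ⊆ P^n_k is a projective variety of dimension r.
Then there are r + 1 linear forms h_1, …, h_{r+1} (homogeneous of degree 1) whose common zero set in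
P^n_k does not meet X, i.e. the ideal I + (h_1, …, h_{r+1}) contains some power of the irrelevant
ideal (X_0, …, X_n). (The published statement says that a generic linear subspace of dimension n − r
− 1 misses X; this row asserts only that one such subspace, cut out by r + 1 linear forms, exists.) -/
theorem result (k : Type u) [Field k] [IsAlgClosed k]
    (n r : ℕ) (I : Ideal (MvPolynomial (Fin (n + 1)) k)) (hIh : I.IsHomogeneous (CohB1.polyGrading n k)) [I.IsPrime]
    (hdim : ringKrullDim (MvPolynomial (Fin (n + 1)) k ⧸ I) = (r : WithBot ℕ∞) + 1) :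
    ∃ h : Fin (r + 1) → MvPolynomial (Fin (n + 1)) k, (∀ i, (h i).IsHomogeneous 1) ∧
      ∃ N : ℕ, (Ideal.span (Set.range (MvPolynomial.X : Fin (n + 1) → MvPolynomial (Fin (n + 1)) k))) ^ N ≤
        I ⊔ Ideal.span (Set.range h) := by
  classical
  let S := MvPolynomial (Fin (n + 1)) k
  let m : Ideal (MvPolynomial (Fin (n + 1)) k) := Ideal.span (Set.range MvPolynomial.X)
  have hker : m = RingHom.ker (MvPolynomial.constantCoeff (R := k) (σ := Fin (n + 1))) :=
    le_antisymm (Ideal.span_le.2 (by rintro _ ⟨j, rfl⟩; exact MvPolynomial.constantCoeff_X _ j)) fun f hf => by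
      rw [f.as_sum]
      refine sum_mem fun e he => ?_
      have he0 : e ≠ 0 := by rintro rfl; exact (MvPolynomial.mem_support_iff.1 he) hf
      obtain ⟨j, hj⟩ := Finsupp.ne_iff.1 he0
      exact Ideal.mem_of_dvd _ (MvPolynomial.X_dvd_monomial.2 (Or.inr hj)) (Ideal.subset_span ⟨j, rfl⟩)
  have hm : m.IsMaximal := by
    rw [hker]
    exact RingHom.ker_isMaximal_of_surjective _ fun x => ⟨MvPolynomial.C x, MvPolynomial.constantCoeff_C _ x⟩
  have hsub : ∀ (J : Ideal (MvPolynomial (Fin (n + 1)) k)), J.IsHomogeneous (CohB1.polyGrading n k) →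
      ∀ q ∈ J.minimalPrimes, q ≤ m := by
    intro J hJ q hq f hf
    have hc : (q.homogeneousCore (CohB1.polyGrading n k)).toIdeal.IsPrime := hq.1.1.homogeneousCore
    have hJc : J ≤ (q.homogeneousCore (CohB1.polyGrading n k)).toIdeal := fun g hg => by
      rw [← DirectSum.sum_support_decompose (CohB1.polyGrading n k) g]
      exact sum_mem fun e _ => Ideal.mem_homogeneousCore_of_homogeneous_of_mem ⟨e, SetLike.coe_mem _⟩ (hq.1.2 (hJ e hg))
    have hfc := hq.2 ⟨hc, hJc⟩ (Ideal.toIdeal_homogeneousCore_le _ q) hf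
    by_contra hfm
    have h0 := (q.homogeneousCore (CohB1.polyGrading n k)).is_homogeneous' 0 hfc
    rw [show (DirectSum.decompose (CohB1.polyGrading n k) f 0 : MvPolynomial (Fin (n + 1)) k) = MvPolynomial.C (MvPolynomial.coeff 0 f) from
      (MvPolynomial.decomposition.decompose'_apply f 0).trans (MvPolynomial.homogeneousComponent_zero f)] at h0
    rw [hker, RingHom.mem_ker, MvPolynomial.constantCoeff_eq] at hfm
    exact hc.ne_top (Ideal.eq_top_of_isUnit_mem _ h0 ((Ne.isUnit hfm).map MvPolynomial.C))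
  have key : ∀ j ≤ r + 1, ∃ h : Fin j → MvPolynomial (Fin (n + 1)) k, (∀ i, (h i).IsHomogeneous 1) ∧
      ∀ q ∈ (I ⊔ Ideal.span (Set.range h)).minimalPrimes, Groth.Agent.Lib.Dim.Basic.dimQ k q + j ≤ r + 1 ∨ q = m := by
    intro j hj
    induction j with
    | zero =>
      refine ⟨Fin.elim0, fun i => i.elim0, fun q hq => Or.inl ?_⟩
      rw [show Set.range (Fin.elim0 : Fin 0 → MvPolynomial (Fin (n + 1)) k) = ∅ from Set.range_eq_empty _, Ideal.span_empty,
        sup_bot_eq, Ideal.minimalPrimes_eq_subsingleton_self, Set.mem_singleton_iff] at hq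
      subst hq
      have h' := (Groth.Agent.Lib.Dim.Basic.ringKrullDim_quotient_prime k q).symm.trans hdim
      have : Groth.Agent.Lib.Dim.Basic.dimQ k q = r + 1 := by exact_mod_cast h'
      omega
    | succ j ih =>
      obtain ⟨h, hh, hdimq⟩ := ih (by omega)
      set J := I ⊔ Ideal.span (Set.range h) with hJdef
      have hJh : J.IsHomogeneous (CohB1.polyGrading n k) :=
        hIh.sup (Ideal.homogeneous_span _ _ (by rintro _ ⟨i, rfl⟩; exact ⟨1, hh i⟩))
      have hfin := Ideal.finite_minimalPrimes_of_isNoetherianRing _ J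
      let W := MvPolynomial.homogeneousSubmodule (Fin (n + 1)) k 1
      let T := {q // q ∈ J.minimalPrimes ∧ q ≠ m}
      have : Finite T := (hfin.subset fun q hq => hq.1 : {q | q ∈ J.minimalPrimes ∧ q ≠ m}.Finite).to_subtype
      obtain ⟨x, hx⟩ := Submodule.exists_forall_notMem_of_forall_ne_top
        (fun q : T => (q.1.restrictScalars k).comap W.subtype) fun q htop => q.2.2 (le_antisymm (hsub J hJh _ q.2.1)
          (Ideal.span_le.2 (by
            rintro _ ⟨l, rfl⟩
            exact Submodule.eq_top_iff'.1 htop ⟨MvPolynomial.X l, MvPolynomial.isHomogeneous_X k l⟩)))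
      refine ⟨Fin.snoc h x.1, fun i => ?_, fun q' hq' => ?_⟩
      · induction i using Fin.lastCases with
        | last => rw [Fin.snoc_last]; exact x.2
        | cast i => rw [Fin.snoc_castSucc]; exact hh i
      · have : q'.IsPrime := hq'.1.1
        have hJq : J ≤ q' := by
          refine le_trans (sup_le_sup le_rfl (Ideal.span_mono ?_)) hq'.1.2
          rintro _ ⟨i, rfl⟩
          exact ⟨i.castSucc, Fin.snoc_castSucc (α := fun _ => MvPolynomial (Fin (n + 1)) k) _ _ _⟩
        have hxq : (x.1 : MvPolynomial (Fin (n + 1)) k) ∈ q' :=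
          hq'.1.2 (Ideal.mem_sup_right (Ideal.subset_span ⟨Fin.last j, Fin.snoc_last (α := fun _ => MvPolynomial (Fin (n + 1)) k) _ _⟩))
        obtain ⟨q, hq, hle⟩ := Ideal.exists_minimalPrimes_le hJq
        have : q.IsPrime := hq.1.1
        by_cases hqm : q = m
        · exact Or.inr ((hm.eq_of_le hq'.1.1.ne_top (hqm ▸ hle)).symm)
        · have hlt : q < q' := lt_of_le_of_ne hle fun e => hx ⟨q, hq, hqm⟩ (show x.1 ∈ q from e ▸ hxq)
          have := Groth.Agent.Lib.Dim.Basic.dimQ_lt_of_lt k hlt
          rcases hdimq q hq with h' | h'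
          · exact Or.inl (by omega)
          · exact absurd h' hqm
  obtain ⟨h, hh, hq⟩ := key (r + 1) le_rfl
  refine ⟨h, hh, Ideal.exists_pow_le_of_le_radical_of_fg ?_ (IsNoetherian.noetherian _)⟩
  rw [Ideal.radical_eq_sInf]
  refine le_sInf fun Q hQ => ?_
  have : Q.IsPrime := hQ.2
  obtain ⟨q, hqm, hle⟩ := Ideal.exists_minimalPrimes_le hQ.1
  have : q.IsPrime := hqm.1.1
  rcases hq q hqm with h' | h'
  · have hJh : (I ⊔ Ideal.span (Set.range h)).IsHomogeneous (CohB1.polyGrading n k) :=
      hIh.sup (Ideal.homogeneous_span _ _ (by rintro _ ⟨i, rfl⟩; exact ⟨1, hh i⟩))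
    rcases (hsub _ hJh q hqm).eq_or_lt with e | e
    · exact e.ge.trans hle
    · have := hm.isPrime
      have := Groth.Agent.Lib.Dim.Basic.dimQ_lt_of_lt k e
      omega
  · exact h'.ge.trans hle

end Groth.Agent.S10915
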