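import Groth.Statements.S10920
import Groth.Agent.H22.StrictTransform.Closed

set_option autoImplicit false
universe u
open CategoryTheory AlgebraicGeometry
open SDiv

namespace Groth.Agent.S10920

/-- Let X be a Noetherian scheme, I a quasi-coherent ideal sheaf on X, f : Y → X a closed immersion, b :
X' → X a blowing up of X in I and b' : Y' → Y a blowing up of Y in the inverse image ideal sheaf
I·O_Y (blow-ups in the sense of the universal property: the inverse image ideal becomes effective
Cartier, universally). If f' : Y' → X' is the morphism compatible with the blow-ups, b ∘ f' = f ∘ b'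
(it exists and is unique by the universal property), then f' is a closed immersion; Y' is the strict
transform of Y. -/
theorem result {X Y X' Y' : Scheme.{u}} [IsNoetherian X]
    (𝓘 : X.IdealSheafData) (f : Y ⟶ X) [IsClosedImmersion f]
    (b : X' ⟶ X) (hb : BlowUp.IsBlowUp b 𝓘) (b' : Y' ⟶ Y) (hb' : BlowUp.IsBlowUp b' (𝓘.comap f))
    (f' : Y' ⟶ X') (hf' : f' ≫ b = b' ≫ f) : IsClosedImmersion f' := by
  let e := f.toImage
  haveI : IsIso e := inferInstanceAs (IsIso f.toImage)
  have he : e ≫ f.imageι = f := f.toImage_imageι
  have hb'' : BlowUp.IsBlowUp (b' ≫ e) (𝓘.comap f.ker.subschemeι) := by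
    have hc : ∀ {Z : Scheme.{u}} (g : Z ⟶ f.ker.subscheme),
        (𝓘.comap f.ker.subschemeι).comap g = (𝓘.comap f).comap (g ≫ inv e) := by
      intro Z g
      rw [← Scheme.IdealSheafData.comap_comp, ← Scheme.IdealSheafData.comap_comp, Category.assoc]
      congr 2
      exact ((IsIso.inv_comp_eq e).2 he.symm).symm
    refine ⟨?_, fun Z g hg => ?_⟩
    · rw [hc, Category.assoc, IsIso.hom_inv_id, Category.comp_id]; exact hb'.1
    · rw [hc] at hg
      obtain ⟨h, hh, huniq⟩ := hb'.2 _ _ hg
      refine ⟨h, ?_, fun h' hh' => huniq h' ?_⟩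
      · show h ≫ b' ≫ e = g
        rw [← Category.assoc, hh, Category.assoc, IsIso.inv_hom_id, Category.comp_id]
      · show h' ≫ b' = g ≫ inv e
        rw [← hh', Category.assoc, Category.assoc, IsIso.hom_inv_id, Category.comp_id]
  refine Groth.Agent.H22.StrictTransform.isClosedImmersion_lift hb hb'' ?_
  rw [hf', Category.assoc]
  congr 1
  exact he.symm

end Groth.Agent.S10920
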