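import Groth.Statements.S10922
import Groth.Agent.H26.CIExist
import Groth.Agent.H26.CIVertex


set_option autoImplicit false
universe u
open CInt

namespace Groth.Agent.S10922

open Groth.Agent.H26

/-- Let k be an algebraically closed field, n ≥ 1, r < n, and d_1, …, d_r positive integers. Then there
are homogeneous polynomials f_1, …, f_r in S = k[x_0, …, x_n] of degrees d_1, …, d_r such that each
hypersurface V(f_i) ⊆ P^n_k is nonsingular and Y = V(f_1, …, f_r) is a nonsingular irreducible
variety of codimension r, hence a global complete intersection of the V(f_i). Nonsingularity and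
irreducibility are expressed on the affine cones: S/(f_i) and S/(f_1, …, f_r) have regular
localizations at every prime not containing all the x_j (every point of the cone other than the
vertex), S/(f_1, …, f_r) is an integral domain, and the ideal (f_1, …, f_r) has height r. -/
theorem result (k : Type u) [Field k] [IsAlgClosed k]
    (n r : ℕ) (hr : r < n) (d : Fin r → ℕ) (hd : ∀ i, 0 < d i) :
    ∃ f : Fin r → MvPolynomial (Fin (n + 1)) k,
      (∀ i, (f i).IsHomogeneous (d i)) ∧
      (∀ (i : Fin r) (Q : Ideal (MvPolynomial (Fin (n + 1)) k ⧸ Ideal.span {f i})) [Q.IsPrime],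
        (∃ j, Ideal.Quotient.mk (Ideal.span {f i}) (MvPolynomial.X j) ∉ Q) →
          IsRegularLocalRing (Localization.AtPrime Q)) ∧
      IsDomain (MvPolynomial (Fin (n + 1)) k ⧸ Ideal.span (Set.range f)) ∧
      (Ideal.span (Set.range f)).height = r ∧
      ∀ (Q : Ideal (MvPolynomial (Fin (n + 1)) k ⧸ Ideal.span (Set.range f))) [Q.IsPrime],
        (∃ j, Ideal.Quotient.mk (Ideal.span (Set.range f)) (MvPolynomial.X j) ∉ Q) →
          IsRegularLocalRing (Localization.AtPrime Q) := by
  obtain ⟨f, hf⟩ := CIExist.exists_good (k := k) r hr.le d hd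
  have hreg : ∀ (Q : Ideal (MvPolynomial (Fin (n + 1)) k ⧸ Ideal.span (Set.range f))) [Q.IsPrime],
      (∃ j, Ideal.Quotient.mk (Ideal.span (Set.range f)) (MvPolynomial.X j) ∉ Q) →
        IsRegularLocalRing (Localization.AtPrime Q) := by
    rintro Q _ ⟨j, hj⟩
    exact CIChart.regular_of_chart j f d hf.homog _ rfl
      (CIChart.isRegularRing_of_cover fun q hq => (hf.full j q hq).imp fun g hg =>
        ⟨hg.1, by haveI := hg.2; exact Algebra.IsStandardSmoothOfRelativeDimension.isStandardSmooth (n - r) (R := k)⟩) Q hj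
  have hfm : Ideal.span (Set.range f) ≤
      RingHom.ker (MvPolynomial.constantCoeff : MvPolynomial (Fin (n + 1)) k →+* k) := by
    rw [Ideal.span_le]
    rintro _ ⟨i, rfl⟩
    rw [SetLike.mem_coe, RingHom.mem_ker, MvPolynomial.constantCoeff_eq]
    exact (hf.homog i).coeff_eq_zero (by simpa using (hd i).ne)
  have hne : Ideal.span (Set.range f) ≠ ⊤ := fun h =>
    RingHom.ker_ne_top (MvPolynomial.constantCoeff : MvPolynomial (Fin (n + 1)) k →+* k) (top_le_iff.mp (h ▸ hfm))
  have hle : (r : ℕ∞) ≤ (Ideal.span (Set.range f)).height := by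
    rw [Ideal.height_eq_inf_minimalPrimes]
    refine le_iInf₂ fun P hP => ?_
    haveI := hP.1.1
    by_cases hX : ∃ j, MvPolynomial.X j ∉ P
    · exact hf.height_le P inferInstance hP.1.2 hX
    · push Not at hX
      refine le_trans ?_ (Ideal.height_mono (CIVertex.ker_constantCoeff_le P hX))
      haveI : (RingHom.ker (MvPolynomial.constantCoeff : MvPolynomial (Fin (n + 1)) k →+* k)).IsMaximal :=
        RingHom.ker_isMaximal_of_surjective _ fun a => ⟨MvPolynomial.C a, MvPolynomial.constantCoeff_C _ a⟩
      have h1 := Groth.Agent.Lib.Dim.Basic.height_add_dimQ k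
        (RingHom.ker (MvPolynomial.constantCoeff : MvPolynomial (Fin (n + 1)) k →+* k))
      rw [Groth.Agent.Lib.FlatCI.Exist.trdegNat_mvPolynomial,
        Groth.Agent.Lib.Dim.Basic.dimQ_eq_zero_of_isMaximal k
          (RingHom.ker (MvPolynomial.constantCoeff : MvPolynomial (Fin (n + 1)) k →+* k))] at h1
      simp only [Nat.cast_zero, add_zero] at h1
      rw [h1]
      exact_mod_cast (show r ≤ n + 1 by omega)
  refine ⟨f, hf.homog, ?_, ?_, ?_, hreg⟩
  · rintro i Q _ ⟨j, hj⟩
    refine CIChart.regular_of_chart j (fun _ : Unit => f i) (fun _ => d i) (fun _ => hf.homog i) _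
      (by rw [Set.range_const]) ?_ Q hj
    have he : Set.range (CIChart.deh j ∘ fun _ : Unit => f i) = {CIChart.deh j (f i)} := by
      ext; simp [eq_comm]
    rw [he]
    exact CIChart.isRegularRing_of_cover fun q hq => (hf.single i j q hq).imp fun g hg =>
      ⟨hg.1, by haveI := hg.2; exact Algebra.IsStandardSmoothOfRelativeDimension.isStandardSmooth (n - 1) (R := k)⟩
  · exact (CIVertex.normal_of_off_vertex hr f d hf.homog hd hle fun Q _ hQ =>
      haveI := hreg Q hQ
      ⟨Groth.Agent.Lib.Regular.Quotient.isDomain (Localization.AtPrime Q), Groth.Agent.Lib.Regular.UFD.isIntegrallyClosed (Localization.AtPrime Q)⟩).1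
  · refine le_antisymm ((Ideal.height_le_spanFinrank _ hne).trans ?_) hle
    exact_mod_cast (Submodule.spanFinrank_span_le_ncard_of_finite (Set.finite_range f)).trans
      ((Finite.card_range_le f).trans_eq (Nat.card_fin r))

end Groth.Agent.S10922
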