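import Groth.Statements.S10927
import Groth.Agent.H26.Kleiman


set_option autoImplicit false
set_option maxHeartbeats 1000000
set_option linter.all false
universe u
open CategoryTheory CategoryTheory.Limits MonoidalCategory CartesianMonoidalCategory MonObj GrpObj AlgebraicGeometry
open Variety

namespace Groth.Agent.S10927

/-- Let k be an algebraically closed field of characteristic zero, G a group variety over k (an
integral, separated k-group scheme of finite type) and X a homogeneous space for G: a k-variety
(integral, separated, of finite type over k) with an action of G such that G(k) acts transitively on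
X(k). Then for every k-point x of X the orbit map G → X, g ↦ g · x, is smooth. -/
theorem result (k : Type u) [Field k] [IsAlgClosed k] [CharZero k]
    (G X : Over (Spec (CommRingCat.of k))) [GrpObj G] (a : AlgGrp.Action G X)
    [IsIntegral G.left] [IsSeparated G.hom] [LocallyOfFiniteType G.hom] [QuasiCompact G.hom]
    [IsIntegral X.left] [IsSeparated X.hom] [LocallyOfFiniteType X.hom] [QuasiCompact X.hom]
    (htrans : ∀ x x' : 𝟙_ (Over (Spec (CommRingCat.of k))) ⟶ X,
      ∃ σ : 𝟙_ (Over (Spec (CommRingCat.of k))) ⟶ G, CartesianMonoidalCategory.lift σ x ≫ a.act = x')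
    (x : 𝟙_ (Over (Spec (CommRingCat.of k))) ⟶ X) :
    Smooth (a.orbitMap x).left := by
  haveI : GrpObj (Over.mk G.hom) := inferInstanceAs (GrpObj G)
  haveI hG : Smooth G.hom := Groth.Agent.H1.Classical.Smooth.smooth_of_isReduced G.hom
  haveI : JacobsonSpace X.left := LocallyOfFiniteType.jacobsonSpace X.hom
  let b : AlgGrp.Action G G := Groth.Agent.Lib.GrpSch.actionMk (fst G G * snd G G)
    (fun T g => by rw [MonObj.comp_mul, lift_fst, lift_snd, _root_.one_mul])
    (fun T g h x => by simp only [MonObj.comp_mul, lift_fst, lift_snd, _root_.mul_assoc])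
  let φ := a.orbitMap x
  have hφ : (G ◁ φ) ≫ a.act = b.act ≫ φ := by
    change (G ◁ φ) ≫ a.act = (fst G G * snd G G) ≫ lift (𝟙 G) (toUnit G ≫ x) ≫ a.act
    rw [comp_lift_assoc, Category.comp_id, ← Category.assoc, toUnit_unique ((fst G G * snd G G) ≫ toUnit G) (toUnit _),
      Groth.Agent.Lib.GrpSch.act_mul]
    have e : G ◁ φ = lift (fst G G) (snd G G ≫ φ) := by
      apply CartesianMonoidalCategory.hom_ext <;> simp
    rw [e]
    congr 1
    apply CartesianMonoidalCategory.hom_ext
    · simp
    · simp only [lift_snd, φ, AlgGrp.Action.orbitMap, comp_lift_assoc, Category.comp_id]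
      rw [← Category.assoc, toUnit_unique (snd G G ≫ toUnit G) (toUnit _)]
  haveI : Smooth (φ.left ≫ X.hom) := by rw [Over.w]; infer_instance
  haveI : QuasiCompact (φ.left ≫ X.hom) := by rw [Over.w]; infer_instance
  obtain ⟨U, hUne, hU⟩ := Groth.Agent.H26.GenSmooth.exists_open_smooth φ.left X.hom
  obtain ⟨u, huU, huc⟩ := nonempty_inter_closedPoints (X := X.left) hUne U.2.isLocallyClosed
  obtain ⟨pu, hpu⟩ := Groth.Agent.H26.Kleiman.exists_point X u huc
  refine Groth.Agent.H26.Kleiman.smooth_of_forall_closedPoints φ.left fun y hy => ?_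
  obtain ⟨py, hpy⟩ := Groth.Agent.H26.Kleiman.exists_point X y hy
  obtain ⟨σ, hσ⟩ := htrans py pu
  refine ⟨(Groth.Agent.H26.Kleiman.trans G X a σ).left ⁻¹ᵁ U, ?_,
    Groth.Agent.H26.Kleiman.smooth_restrict_of_square φ.left (Groth.Agent.H26.Kleiman.isPullback_trans a b φ hφ σ) U⟩
  have e : py ≫ Groth.Agent.H26.Kleiman.trans G X a σ = pu := by
    rw [Groth.Agent.H26.Kleiman.comp_trans, toUnit_unique (toUnit (𝟙_ _)) (𝟙 _), Category.id_comp, hσ]
  show (Groth.Agent.H26.Kleiman.trans G X a σ).left y ∈ U
  rw [← hpy (IsLocalRing.closedPoint k), ← Scheme.Hom.comp_apply, ← Over.comp_left, e, hpu]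
  exact huU

end Groth.Agent.S10927
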