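import Groth.Statements.S10929
import Mathlib

set_option autoImplicit false
universe u
open CategoryTheory CategoryTheory.Limits AlgebraicGeometry
open Variety

namespace Groth.Agent.S10929

theorem key {A B : Type u} [CommRing A] [CommRing B] [IsDomain A] [IsDomain B] [IsNoetherianRing A] [CharZero A]
    (φ : A →+* B) (hinj : Function.Injective φ) (hft : φ.FiniteType) :
    ∃ g : B, g ≠ 0 ∧ letI := φ.toAlgebra; ∀ (C : Type u) [CommRing C] [Algebra B C] [IsLocalization.Away g C] [Algebra A C]
      [IsScalarTower A B C], Algebra.Smooth A C := by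
  letI := φ.toAlgebra
  haveI : Algebra.FiniteType A B := hft
  haveI : Algebra.FinitePresentation A B := Algebra.FinitePresentation.of_finiteType.mp inferInstance
  let K := FractionRing A
  let L := FractionRing B
  haveI : FaithfulSMul A L := (faithfulSMul_iff_algebraMap_injective A L).mpr (by
    rw [IsScalarTower.algebraMap_eq A B L]
    exact (IsFractionRing.injective B L).comp hinj)
  letI : Algebra K L := FractionRing.liftAlgebra A L
  haveI : CharZero K := charZero_of_injective_algebraMap (IsFractionRing.injective A K)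
  haveI : Algebra.EssFiniteType B L := Algebra.EssFiniteType.of_isLocalization L (nonZeroDivisors B)
  haveI : Algebra.EssFiniteType A L := Algebra.EssFiniteType.comp A B L
  haveI : Algebra.EssFiniteType K L := Algebra.EssFiniteType.of_comp A K L
  haveI : Algebra.FormallySmooth A K := Algebra.FormallySmooth.of_isLocalization (nonZeroDivisors A)
  haveI : Algebra.FormallySmooth A L := Algebra.FormallySmooth.comp A K L
  have hM : (⊥ : Ideal B).primeCompl = nonZeroDivisors B := Submonoid.ext fun x => by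
    rw [mem_nonZeroDivisors_iff_ne_zero]
    show x ∉ (⊥ : Ideal B) ↔ _
    rw [Ideal.mem_bot]
  haveI : IsLocalization (⊥ : Ideal B).primeCompl L := by rw [hM]; infer_instance
  haveI : Algebra.IsSmoothAt A (⊥ : Ideal B) :=
    Algebra.FormallySmooth.of_equiv
      (((IsLocalization.algEquiv (⊥ : Ideal B).primeCompl (Localization.AtPrime (⊥ : Ideal B)) L).symm).restrictScalars A)
  obtain ⟨g, hg, hs⟩ := Algebra.IsSmoothAt.exists_notMem_smooth A (⊥ : Ideal B)
  refine ⟨g, fun h => hg (h ▸ zero_mem _), fun C _ _ _ _ _ => ?_⟩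
  exact Algebra.Smooth.of_equiv
    (((IsLocalization.algEquiv (Submonoid.powers g) (Localization.Away g) C)).restrictScalars A)


/-- Let k be an algebraically closed field of characteristic zero, X and Y integral schemes of finite
type over k and f : X → Y a dominant k-morphism. Then there is a nonempty open subscheme U of X such
that f restricted to U is a smooth morphism U → Y. -/
theorem result (k : Type u) [Field k] [IsAlgClosed k] [CharZero k]
    {X Y : Scheme.{u}} (qX : X ⟶ Spec (CommRingCat.of k)) (qY : Y ⟶ Spec (CommRingCat.of k))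
    [LocallyOfFiniteType qX] [QuasiCompact qX] [LocallyOfFiniteType qY] [QuasiCompact qY]
    [IsIntegral X] [IsIntegral Y] (f : X ⟶ Y) (hf : f ≫ qY = qX) (hdom : DenseRange f.base) :
    ∃ U : X.Opens, (U : Set ↥X).Nonempty ∧ Smooth (U.ι ≫ f) := by
  haveI : LocallyOfFiniteType (f ≫ qY) := hf ▸ inferInstance
  haveI : LocallyOfFiniteType f := locallyOfFiniteType_of_comp f qY
  haveI : IsLocallyNoetherian Y := LocallyOfFiniteType.isLocallyNoetherian qY
  obtain ⟨y, -⟩ : ∃ y : Y, y = genericPoint Y := ⟨_, rfl⟩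
  obtain ⟨U, hU, hyU, -⟩ := exists_isAffineOpen_mem_and_subset (X := Y) (x := y) (U := ⊤) trivial
  obtain ⟨x, hx⟩ : ∃ x : X, f.base x ∈ U := hdom.exists_mem_open U.isOpen ⟨y, hyU⟩
  obtain ⟨V, hV, hxV, hVU⟩ := exists_isAffineOpen_mem_and_subset (X := X) (x := x) (U := f ⁻¹ᵁ U) hx
  haveI : Nonempty U := ⟨⟨y, hyU⟩⟩
  haveI : Nonempty V := ⟨⟨x, hxV⟩⟩
  let φ := f.appLE U V hVU
  have hinj : Function.Injective φ.hom := by
    rw [injective_iff_map_eq_zero]
    intro a ha
    by_contra ha0
    have hne : (Y.basicOpen a : Set Y).Nonempty := by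
      rw [Set.nonempty_iff_ne_empty]
      intro h
      exact ha0 ((basicOpen_eq_bot_iff a).mp (TopologicalSpace.Opens.ext h))
    obtain ⟨x', hz1⟩ := hdom.exists_mem_open (Y.basicOpen a).isOpen hne
    obtain ⟨w, hw1, hw2⟩ := nonempty_preirreducible_inter V.isOpen (f ⁻¹ᵁ Y.basicOpen a).isOpen ⟨x, hxV⟩ ⟨x', hz1⟩
    have hmem : w ∈ X.basicOpen (φ.hom a) := (Scheme.basicOpen_appLE f V U hVU a).symm.le ⟨hw1, hw2⟩
    rw [ha, Scheme.basicOpen_zero] at hmem
    exact hmem
  haveI : IsNoetherianRing Γ(Y, U) := IsLocallyNoetherian.component_noetherian ⟨U, hU⟩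
  let κ : k →+* Γ(Y, U) := (qY.appLE ⊤ U le_top).hom.comp (Scheme.ΓSpecIso (CommRingCat.of k)).inv.hom
  haveI : CharZero Γ(Y, U) := charZero_of_injective_ringHom κ.injective
  obtain ⟨g, hg, hs⟩ := key φ.hom hinj (f.finiteType_appLE hU hV hVU)
  refine ⟨X.basicOpen g, Set.nonempty_iff_ne_empty.mpr fun h => hg ((basicOpen_eq_bot_iff g).mp (TopologicalSpace.Opens.ext h)), ?_⟩
  have hle : X.basicOpen g ≤ f ⁻¹ᵁ U := (X.basicOpen_le g).trans hVU
  have hψ : (f.appLE U (X.basicOpen g) hle).hom.Smooth := by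
    letI := φ.hom.toAlgebra
    letI := (f.appLE U (X.basicOpen g) hle).hom.toAlgebra
    haveI : IsScalarTower Γ(Y, U) Γ(X, V) Γ(X, X.basicOpen g) := IsScalarTower.of_algebraMap_eq' (by
      show _ = (X.presheaf.map (homOfLE (X.basicOpen_le g)).op).hom.comp φ.hom
      show (f.appLE U (X.basicOpen g) hle).hom = _
      rw [← CommRingCat.hom_comp]
      exact congrArg CommRingCat.Hom.hom (Scheme.Hom.appLE_map f hVU _).symm)
    haveI := hV.isLocalization_basicOpen g
    exact hs _
  rw [← (hV.basicOpen g).isoSpec_hom_fromSpec, Category.assoc, ← hU.SpecMap_appLE_fromSpec f (hV.basicOpen g) hle]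
  haveI : Smooth (Spec.map (f.appLE U (X.basicOpen g) hle)) :=
    (HasRingHomProperty.Spec_iff (P := @Smooth)).mpr hψ
  infer_instance

end Groth.Agent.S10929
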