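import Groth.Statements.S1093
import Groth.Agent.H56.RelPC.FppfPC

set_option autoImplicit false
universe u
open CategoryTheory CategoryTheory.Limits AlgebraicGeometry Opposite
attribute [local instance] HasDerivedCategory.standard
open Perf

namespace Groth.Agent.S1093

/-- Let f : X' → X be a flat, surjective morphism of schemes locally of finite presentation (an fppf
covering by a single morphism), and assume Lf^* exists. Then an object E of D(𝒪_X) is
m-pseudo-coherent if and only if Lf^*E is m-pseudo-coherent. -/
theorem result {X' X : Scheme.{u}} (f : X' ⟶ X) [Flat f] [Surjective f] [LocallyOfFinitePresentation f]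
    [DCoh.HasLpull f] (E : DCoh.D X) (m : ℤ) :
    DCoh.IsPseudoCoherentD m E ↔ DCoh.IsPseudoCoherentD m ((DCoh.Lpull f).obj E) := by
  obtain ⟨e⟩ := Groth.Agent.H56.RelPC.nonempty_lpull_iso f E
  rw [Groth.Agent.Lib.Perfect.PseudoCoh.iff_forall, Groth.Agent.Lib.Perfect.PseudoCoh.iff_forall]
  refine ⟨fun h y => (Groth.Agent.H56.RelPC.pcAt_FPD f h y).of_iso e.symm, fun h x => ?_⟩
  obtain ⟨y, rfl⟩ := f.surjective x
  exact Groth.Agent.H56.RelPC.Fppf.pcAt_of_pullback f ((h y).of_iso e)

end Groth.Agent.S1093
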