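import Groth.Statements.S10930
import Groth.Agent.Lib.JacCrit.OverField
import Groth.Agent.Lib.JacCrit.SmoothLocal
import Groth.Agent.Lib.Ideal.EffCartier
import Mathlib

set_option autoImplicit false
universe u
open CategoryTheory CategoryTheory.Limits AlgebraicGeometry
open Variety

namespace Groth.Agent.S10930
theorem isSmoothAt_of_regular {A B : Type u} [CommRing A] [IsDomain A] [CharZero A] [CommRing B]
    [Algebra A B] [Algebra.FinitePresentation A B] (q : Ideal B) [q.IsPrime]
    (hq : ∀ a : A, algebraMap A B a ∈ q → a = 0) (hreg : IsRegularLocalRing (Localization.AtPrime q)) :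
    Algebra.IsSmoothAt A q := by
  let K := FractionRing A
  let L := Localization.AtPrime q
  haveI : CharZero K := charZero_of_injective_algebraMap (IsFractionRing.injective A K)
  let ψ : K →+* L := IsLocalization.lift (M := nonZeroDivisors A) (g := algebraMap A L) fun a => by
    rw [IsScalarTower.algebraMap_apply A B L]
    exact IsLocalization.map_units L (⟨algebraMap A B a, fun h => nonZeroDivisors.ne_zero a.2 (hq _ h)⟩ : q.primeCompl)
  letI : Algebra K L := ψ.toAlgebra
  haveI : IsScalarTower A K L := IsScalarTower.of_algebraMap_eq' (IsLocalization.lift_comp _).symm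
  haveI : Algebra.EssFiniteType B L := Algebra.EssFiniteType.of_isLocalization L q.primeCompl
  haveI : Algebra.EssFiniteType A L := Algebra.EssFiniteType.comp A B L
  haveI : Algebra.EssFiniteType K L := Algebra.EssFiniteType.of_comp A K L
  haveI : Algebra.FormallySmooth A K := Algebra.FormallySmooth.of_isLocalization (nonZeroDivisors A)
  obtain ⟨F, _, _, _, Q, _, ⟨e⟩⟩ := Lib.JacCrit.SmoothLocal.exists_model K L
  haveI := hreg
  haveI : IsRegularLocalRing (Localization.AtPrime Q) :=
    IsRegularLocalRing.of_ringEquiv (R := L) e.symm.toRingEquiv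
  haveI : Algebra.EssFiniteType F (Localization.AtPrime Q) := .of_isLocalization _ Q.primeCompl
  haveI : Algebra.EssFiniteType K (Localization.AtPrime Q) := .comp _ F _
  haveI : Algebra.EssFiniteType (Localization.AtPrime Q) Q.ResidueField := .of_surjective
    (IsScalarTower.toAlgHom (Localization.AtPrime Q) (Localization.AtPrime Q) Q.ResidueField)
    IsLocalRing.residue_surjective
  haveI : Algebra.EssFiniteType K Q.ResidueField := .comp _ (Localization.AtPrime Q) _
  haveI : Algebra.FormallySmooth K Q.ResidueField := Algebra.FormallySmooth.of_perfectField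
  haveI : Algebra.IsSmoothAt K Q := Lib.JacCrit.Regular.isSmoothAt K Q
  haveI : Algebra.FormallySmooth K L := Algebra.FormallySmooth.of_equiv e
  exact Algebra.FormallySmooth.comp A K L


/-- Let k be an algebraically closed field of characteristic zero, X and Y varieties over k (integral,
separated and of finite type over k) with X nonsingular, i.e. smooth over k, and f : X → Y a
k-morphism. Then there is a nonempty open subscheme V of Y such that the restriction f⁻¹(V) → V of f
is smooth. -/
theorem result (k : Type u) [Field k] [IsAlgClosed k] [CharZero k]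
    {X Y : Scheme.{u}} (qX : X ⟶ Spec (CommRingCat.of k)) (qY : Y ⟶ Spec (CommRingCat.of k))
    [LocallyOfFiniteType qX] [QuasiCompact qX] [IsSeparated qX] [Smooth qX]
    [LocallyOfFiniteType qY] [QuasiCompact qY] [IsSeparated qY]
    [IsIntegral X] [IsIntegral Y] (f : X ⟶ Y) (hf : f ≫ qY = qX) :
    ∃ V : Y.Opens, (V : Set ↥Y).Nonempty ∧ Smooth (f ∣_ V) := by
  haveI : LocallyOfFiniteType (f ≫ qY) := hf ▸ inferInstance
  haveI : QuasiCompact (f ≫ qY) := hf ▸ inferInstance
  haveI : LocallyOfFiniteType f := locallyOfFiniteType_of_comp f qY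
  haveI : IsLocallyNoetherian Y := LocallyOfFiniteType.isLocallyNoetherian qY
  haveI : LocallyOfFinitePresentation f := inferInstance
  haveI : IsLocallyNoetherian X := LocallyOfFiniteType.isLocallyNoetherian qX
  haveI : CompactSpace X := QuasiCompact.compactSpace_of_compactSpace qX
  haveI : IsNoetherian X := {}
  have key : ∀ ξ : X, f.base ξ = genericPoint Y → ξ ∈ f.smoothLocus := by
    intro ξ hξ
    obtain ⟨U, hU, hyU, -⟩ := exists_isAffineOpen_mem_and_subset (X := Y) (x := f.base ξ) (U := ⊤) trivial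
    obtain ⟨W, hW, hξW, hWU⟩ := exists_isAffineOpen_mem_and_subset (X := X) (x := ξ) (U := f ⁻¹ᵁ U) hyU
    haveI : Nonempty U := ⟨⟨_, hyU⟩⟩
    let κ : k →+* Γ(Y, U) := (qY.appLE ⊤ U le_top).hom.comp (Scheme.ΓSpecIso (CommRingCat.of k)).inv.hom
    haveI : CharZero Γ(Y, U) := charZero_of_injective_ringHom κ.injective
    rw [Scheme.Hom.mem_smoothLocus, formallySmooth_stalkMap_iff U hU W hW hWU hξW]
    letI := (f.appLE U W hWU).hom.toAlgebra
    haveI : Algebra.FinitePresentation Γ(Y, U) Γ(X, W) := f.finitePresentation_appLE hU hW hWU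
    refine isSmoothAt_of_regular (hW.primeIdealOf ⟨ξ, hξW⟩).asIdeal (fun a ha => ?_) ?_
    · by_contra ha0
      have hne : (Y.basicOpen a : Set Y).Nonempty := Set.nonempty_iff_ne_empty.mpr fun h =>
        ha0 ((basicOpen_eq_bot_iff a).mp (TopologicalSpace.Opens.ext h))
      have h1 : genericPoint Y ∈ Y.basicOpen a :=
        ((genericPoint_spec Y).mem_open_set_iff (Y.basicOpen a).isOpen).mpr (by simpa using hne)
      have h2 : ξ ∈ X.basicOpen ((f.appLE U W hWU).hom a) := by
        rw [Scheme.basicOpen_appLE]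
        exact ⟨hξW, show f.base ξ ∈ Y.basicOpen a from hξ ▸ h1⟩
      exact (Lib.Ideal.EffCartier.mem_basicOpen_iff_notMem_prime hW hξW _).mp h2 ha
    · letI := X.presheaf.algebra_section_stalk ⟨ξ, hξW⟩
      haveI := hW.isLocalization_stalk ⟨ξ, hξW⟩
      haveI : IsRegularLocalRing (X.presheaf.stalk ξ) :=
        Lib.JacCrit.OverField.isRegularLocalRing_stalk (f := qX) (x := ξ) (by rw [qX.smoothLocus_eq_top]; trivial)
      exact IsRegularLocalRing.of_ringEquiv (IsLocalization.algEquiv (hW.primeIdealOf ⟨ξ, hξW⟩).asIdeal.primeCompl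
        (X.presheaf.stalk ξ) (Localization.AtPrime (hW.primeIdealOf ⟨ξ, hξW⟩).asIdeal)).toRingEquiv
  obtain ⟨T, hTf, hTc, hTi, hT⟩ := TopologicalSpace.NoetherianSpace.exists_finite_set_isClosed_irreducible
    f.smoothLocus.isOpen.isClosed_compl
  choose g hg using fun Z : T => QuasiSober.sober (hTi Z.1 Z.2) (hTc Z.1 Z.2)
  haveI : Finite T := hTf.to_subtype
  let C : Set Y := ⋃ Z : T, closure {f.base (g Z)}
  refine ⟨⟨Cᶜ, (isClosed_iUnion_of_finite fun _ => isClosed_closure).isOpen_compl⟩, ⟨genericPoint Y, ?_⟩, ?_⟩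
  · intro h
    obtain ⟨Z, hZ⟩ := Set.mem_iUnion.mp h
    have h1 : f.base (g Z) = genericPoint Y :=
      ((specializes_iff_mem_closure.mpr hZ).antisymm ((genericPoint_spec Y).specializes (Set.mem_univ _))).eq
    have h2 : g Z ∈ (f.smoothLocus : Set X)ᶜ := hT ▸ Set.mem_sUnion_of_mem (hg Z).mem Z.2
    exact h2 (key _ h1)
  · rw [← Scheme.Hom.smoothLocus_eq_top_iff, eq_top_iff]
    intro x _
    rw [Scheme.Hom.mem_smoothLocus]
    refine (RingHom.FormallySmooth.respectsIso.arrow_mk_iso_iff (morphismRestrictStalkMap f _ x)).mpr ?_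
    have hx : x.1 ∈ f.smoothLocus := by
      by_contra hns
      obtain ⟨Z, hZ, hxZ⟩ : x.1 ∈ ⋃₀ T := hT ▸ hns
      refine x.2 (Set.mem_iUnion.mpr ⟨⟨Z, hZ⟩, ?_⟩)
      exact ((hg ⟨Z, hZ⟩).specializes hxZ).map f.continuous |>.mem_closure
    exact hx

end Groth.Agent.S10930
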