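import Groth.Statements.S10931
import Groth.Agent.Lib.FundLocal.SerreDual
import Groth.Agent.Lib.FundLocal.WedgeDual
import Groth.Agent.Lib.FundLocal.InvHom
import Groth.Agent.Lib.FundLocal.ExtPowExists
import Groth.Agent.Lib.ProjSpace.Canonical
import Groth.Agent.Lib.Curves.LES

set_option linter.style.haveILetI false

set_option autoImplicit false
universe u
open CategoryTheory CategoryTheory.Limits AlgebraicGeometry
open ProjDual

namespace Groth.Agent.S10931

/-- Let k be a field, p ≤ r and q ≤ r natural numbers, P = P^r_k with structure map to Spec k, Ω =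
Ω^1_{P/k} (the conormal sheaf of the diagonal), L an O_P-module which is a p-th exterior power of Ω
and L' one which is an (r − p)-th exterior power of Ω, and d an integer; write M(d) = M ⊗ O_P(d).
Then H^q(P, L(d)) = H^q(P^r, Ω^p(d)) and H^{r−q}(P, L'(−d)) = H^{r−q}(P^r, Ω^{r−p}(−d)) have the
same dimension over k. (The published statement asserts an isomorphism between these two cohomology
groups, obtained from Serre duality; this row records the equality of dimensions.) -/
theorem result (k : Type u) [Field k] (r p q : ℕ)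
    (hp : p ≤ r) (hq : q ≤ r) (L L' : (CohB1.ProjSpace r k).Modules)
    (hL : ExtPow.IsExtPow p (Omega.sheaf (CohB1.ProjSpace.toSpec r k)) L)
    (hL' : ExtPow.IsExtPow (r - p) (Omega.sheaf (CohB1.ProjSpace.toSpec r k)) L') (d : ℤ) :
    Module.finrank k (Coh.HH (CohB1.ProjSpace r k) (CohB1.tensorMod L (Twist.twistProjSpace r k d)) q) =
      Module.finrank k (Coh.HH (CohB1.ProjSpace r k)
        (CohB1.tensorMod L' (Twist.twistProjSpace r k (-d))) (r - q)) := by
  let P := CohB1.ProjSpace r k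
  let c := CohB1.ProjSpace.toSpec r k
  haveI := Groth.Agent.Lib.ProjSpace.Basic.isProper_toSpec r k
  haveI := Groth.Agent.Lib.ProjCoh.Coherent.isLocallyNoetherian_projSpace (n := r) (R := k)
  have hΩ := Groth.Agent.Lib.FundLocal.Rank.isFinLocFreeOfRank_omega c r
  haveI := Groth.Agent.Lib.CurveBundle.Coherent.isQCoh (Groth.Agent.Lib.TensorMod.LocFree.of_rank hΩ)
  obtain ⟨D, hD⟩ := Groth.Agent.Lib.FundLocal.ExtPowExists.exists_isExtPow (Omega.sheaf c) r
  haveI : ModSite.HasSheafHom (O := P.sheaf) L := Groth.Agent.Lib.ModTensor.ModSite.hasSheafHom L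
  obtain ⟨w⟩ := Groth.Agent.Lib.FundLocal.WedgeDual.nonempty_iso (p := p) (q := r - p) (by omega) hΩ hL hL' hD
  let T := Twist.twistProjSpace r k d
  let T' := Twist.twistProjSpace r k (-d)
  have hcov := Groth.Agent.Lib.ProjSpace.Canonical.hcov r k
  obtain ⟨j₀⟩ := Groth.Agent.Lib.ProjTilde.Tensor.twist_iso_tensorPow hcov 0
  let e : CohB1.tensorMod T T' ≅ Coh.structureModule P :=
    Groth.Agent.Lib.ProjTilde.Tensor.twistTensorIso hcov d (-d) ≪≫
      eqToIso (congrArg (Twist.twist _) (by push_cast; ring)) ≪≫ j₀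
  let F := CohB1.tensorMod L T
  let N : (DCoh.tensorBi (X := P)).obj T ⋙ (DCoh.tensorBi (X := P)).obj L ≅ (DCoh.tensorBi (X := P)).obj F :=
    NatIso.ofComponents (fun M => (Groth.Agent.Lib.TensorMod.Basic.assoc L T M).symm) fun {M M'} g => by
      have h := Groth.Agent.Lib.TensorMod.Basic.assoc_natural (𝟙 L) (𝟙 T) g
      rw [Groth.Agent.Lib.TensorMod.Basic.tmap_id] at h
      simp only [Functor.comp_map, Iso.symm_hom, Groth.Agent.Lib.DerivedOX.PullTensor.tensorBi_obj_map]
      rw [Iso.comp_inv_eq, Category.assoc]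
      exact ((Iso.inv_comp_eq _).2 h).symm
  let A := (((Groth.Agent.Lib.FundLocal.InvHom.adjInv e).ofNatIsoLeft
    (Groth.Agent.Lib.FundLocal.InvHom.flipIso T).symm).comp (Groth.Agent.Lib.ExtShStalk.Hom.adj L)).ofNatIsoLeft N
  haveI : DCoh.HasSheafHom F := ⟨_, ⟨A⟩⟩
  let j : CohB1.tensorMod L' T' ≅ (DCoh.sheafHom F).obj D :=
    Groth.Agent.Lib.TensorMod.Basic.tensorIso w (Iso.refl _) ≪≫
      (A.rightAdjointUniq (DCoh.sheafHomAdj F)).app D
  have hF : FlatMod.IsFinLocFree F := Groth.Agent.Lib.TensorMod.LocFree.isFinLocFree_tensorMod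
    (Groth.Agent.Lib.GrassGen.ExtPowFree.isFinLocFree (Groth.Agent.Lib.TensorMod.LocFree.of_rank hΩ) hL)
    (Groth.Agent.Lib.TensorMod.LocFree.of_rank (Groth.Agent.Lib.TensorMod.LocFree.of_isInvertible
      (Groth.Agent.Lib.TensorMod.Gen.isInvertible_iff.2 fun x => by
        obtain ⟨i, hi⟩ := TopologicalSpace.Opens.mem_iSup.1
          (show x ∈ iSup (Groth.Agent.Lib.PicProj.Main.U r k) from
            (Groth.Agent.Lib.ProjSpace.Basic.iSup_basicOpen_X_eq_top r k).ge trivial)
        exact ⟨_, Groth.Agent.Lib.PicProj.Main.gen d i, hi, Groth.Agent.Lib.ProjSpace.TwistBC.isGen_gen' d i⟩)))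
  haveI : SmoothOfRelativeDimension r (P ↘ Spec (CommRingCat.of k)) :=
    Groth.Agent.Lib.ProjSpace.Basic.smoothOfRelativeDimension_toSpec r k
  obtain ⟨s⟩ := Groth.Agent.Lib.FundLocal.SerreDual.nonempty_dual_equiv k r r P (𝟙 P) (Category.id_comp _) D hD F hF q hq
  rw [← Subspace.dual_finrank_eq, s.finrank_eq, (Groth.Agent.Lib.Curves.LES.isoK k j (r - q)).finrank_eq]

end Groth.Agent.S10931
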