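import Groth.Statements.S10933
import Groth.Agent.H18.PDBase

set_option autoImplicit false
universe u
open CategoryTheory
open CAlg

namespace Groth.Agent.S10933

/-- Let A be a (Noetherian) regular local ring, M a finitely generated A-module and d a natural number.
Then the projective dimension of M equals d if and only if Ext^j_A(M, A) = 0 for every j > d and
Ext^d_A(M, A) ≠ 0. (Projective dimension valued in WithBot ℕ∞, the zero module having projective
dimension ⊥.) -/
theorem result (A : Type u) [CommRing A] [IsRegularLocalRing A]
    (M : Type u) [AddCommGroup M] [Module A M] [Module.Finite A M] (d : ℕ) :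
    projectiveDimension (ModuleCat.of A M) = (d : WithBot ℕ∞) ↔
      ((∀ j : ℕ, d < j → Subsingleton (Abelian.Ext (ModuleCat.of A M) (ModuleCat.of A A) j)) ∧
        Nontrivial (Abelian.Ext (ModuleCat.of A M) (ModuleCat.of A A) d)) := by
  have fwd : ∀ (e : ℕ) [Nontrivial M], projectiveDimension (ModuleCat.of A M) = (e : WithBot ℕ∞) →
      (∀ j : ℕ, e < j → Subsingleton (Abelian.Ext (ModuleCat.of A M) (ModuleCat.of A A) j)) ∧
        Nontrivial (Abelian.Ext (ModuleCat.of A M) (ModuleCat.of A A) e) := by
    intro e _ he
    have hp : Groth.Agent.Lib.Regular.PD.PDle A M e :=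
      (Groth.Agent.H20.PDDepth.pdle_iff_projectiveDimension_le M e).mpr he.le
    refine ⟨fun j hj => ?_, Groth.Agent.H18.PDBase.nontrivial_ext e M hp fun c hc h => ?_⟩
    · have : HasProjectiveDimensionLT (ModuleCat.of A M) (e + 1) := hp
      exact HasProjectiveDimensionLT.subsingleton (ModuleCat.of A M) (e + 1) j hj _
    · rw [Groth.Agent.H20.PDDepth.pdle_iff_projectiveDimension_le, he] at h
      have : e ≤ c := by exact_mod_cast h
      omega
  constructor
  · intro h
    have : Nontrivial M := by
      rw [← not_subsingleton_iff_nontrivial]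
      intro hs
      rw [(projectiveDimension_eq_bot_iff _).mpr (ModuleCat.isZero_iff_subsingleton.mpr hs)] at h
      exact absurd h.symm (by simp)
    exact fwd d h
  · rintro ⟨hvan, hne⟩
    have hnt : Nontrivial M := by
      rw [← not_subsingleton_iff_nontrivial]
      intro hs
      have hz : HasProjectiveDimensionLT (ModuleCat.of A M) 0 := by
        rw [hasProjectiveDimensionLT_zero_iff_isZero]
        exact ModuleCat.isZero_iff_subsingleton.mpr hs
      exact not_subsingleton_iff_nontrivial.mpr hne
        (HasProjectiveDimensionLT.subsingleton (ModuleCat.of A M) 0 d (Nat.zero_le d) _)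
    obtain ⟨e, he⟩ : ∃ e : ℕ, projectiveDimension (ModuleCat.of A M) = (e : WithBot ℕ∞) := by
      have hle := (Groth.Agent.H20.PDDepth.pdle_iff_projectiveDimension_le M _).mp
        (Groth.Agent.Lib.Regular.Serre.pdle_all (R := A) M)
      cases hpd : projectiveDimension (ModuleCat.of A M) with
      | bot =>
        exact absurd (ModuleCat.isZero_iff_subsingleton.mp ((projectiveDimension_eq_bot_iff _).mp hpd))
          (not_subsingleton_iff_nontrivial.mpr hnt)
      | coe x =>
        cases x with
        | top =>
          rw [hpd] at hle
          exact absurd (WithBot.coe_le_coe.mp hle) (not_le.mpr (ENat.natCast_lt_top _))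
        | coe n => exact ⟨n, rfl⟩
    obtain ⟨h1, h2⟩ := fwd e he
    have hed : e = d := by
      rcases lt_trichotomy e d with hlt | heq | hgt
      · exact absurd (h1 d hlt) (not_subsingleton_iff_nontrivial.mpr hne)
      · exact heq
      · exact absurd (hvan e hgt) (not_subsingleton_iff_nontrivial.mpr h2)
    rw [he, hed]

end Groth.Agent.S10933
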