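import Groth.Statements.S10934
import Groth.Agent.Lib.ProjCoh.ClosedSub
import Groth.Agent.Lib.Perfect.Coherent
import Groth.Agent.Lib.RefHull.LocFree

set_option autoImplicit false
universe u
open CategoryTheory CategoryTheory.Limits AlgebraicGeometry
open ProjDual

namespace Groth.Agent.S10934

open Groth.Agent.Lib in
theorem depth_free {R : Type u} [CommRing R] [IsLocalRing R] [IsNoetherianRing R] {M : Type u}
    [AddCommGroup M] [Module R M] [Module.Free R M] [Module.Finite R M] (n : ℕ)
    (h : (n : ℕ∞) ≤ LocCoh.depth R R) : (n : ℕ∞) ≤ LocCoh.depth R M := by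
  rw [Depth.Basic.depth_congr (Module.finBasis R M).equivFun]
  exact (Depth.LocalCoh.le_idealDepth_iff_H _ _ n).2 fun i hi =>
    LCFin.Cd.subsingleton_pi ((Depth.LocalCoh.le_idealDepth_iff_H _ _ n).1 h i hi) _

/-- (a)⇔(b): let k be a field, i : X → P^N_k a closed immersion with X of dimension n, and write F(−q) =
F ⊗ i^*O(−q). Then X is an equidimensional Cohen–Macaulay scheme of dimension n — the local ring of
X at every closed point is Cohen–Macaulay of Krull dimension n — if and only if for every finite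
locally free O_X-module F (vector bundle) there is q₀ such that H^j(X, F(−q)) = 0 for all j < n and
all q ≥ q₀. -/
theorem result (k : Type u) [Field k] (N n : ℕ)
    {X : Scheme.{u}} (i : X ⟶ CohB1.ProjSpace N k) [IsClosedImmersion i] (hn : topologicalKrullDim ↥X = n) :
    (∀ x : X, IsClosed ({x} : Set ↥X) →
        LocCoh.IsCohenMacaulayLocalRing (X.presheaf.stalk x) ∧ ringKrullDim (X.presheaf.stalk x) = n) ↔
      ∀ F : X.Modules, FlatMod.IsFinLocFree F → ∃ q₀ : ℕ, ∀ q : ℕ, q₀ ≤ q → ∀ j : ℕ, j < n →
        Subsingleton (Coh.HH X (CohB1.tensorMod F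
          ((Scheme.Modules.pullback i).obj (Twist.twistProjSpace N k (-(q : ℤ))))) j) := by
  haveI := Agent.Lib.ProjCoh.ClosedSub.isLocallyNoetherian i
  constructor
  · intro h F hF
    obtain ⟨m₀, hm⟩ := (Agent.Lib.ProjCoh.ClosedSub.iff_depth i F
      (Agent.Lib.Perfect.Coherent.isCoh_of_isFinLocFree hF) n).2 fun x hx => by
        obtain ⟨hCM, hdim⟩ := h x hx
        haveI := hCM
        haveI := Agent.Lib.RefHull.LocFree.free_stalk hF x
        haveI := Agent.Lib.RefHull.LocFree.finite_stalk
          (Agent.Lib.Perfect.Coherent.isCoh_of_isFinLocFree hF) x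
        refine depth_free n ?_
        have e := (Agent.Lib.Depth.CM.ringKrullDim_eq_depth (R := X.presheaf.stalk x)).symm.trans hdim
        exact_mod_cast e.ge
    exact ⟨m₀.toNat, fun q hq j hj => hm q (by omega) j hj⟩
  · intro h x hx
    obtain ⟨q₀, hq⟩ := h (Coh.structureModule X)
      (Agent.Lib.TensorMod.LocFree.of_rank (Agent.Lib.TensorMod.LocFree.of_isInvertible
        (fun x => (Agent.Lib.TensorMod.Gen.isInvertible_iff (L := Coh.structureModule X)).2 (fun y =>
          ⟨⊤, Agent.Lib.TensorMod.Gen.one X ⊤, trivial, fun W hW => by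
            rw [show (fun a : Γ(X, W) => a • Agent.Lib.TensorMod.Dual.rs (Coh.structureModule X) hW
              (Agent.Lib.TensorMod.Gen.one X ⊤)) = id from funext fun a => by
              show a * (X.presheaf.map (homOfLE hW).op) 1 = a
              rw [map_one, mul_one]]
            exact Function.bijective_id⟩) x)))
    have hd := (Agent.Lib.ProjCoh.ClosedSub.iff_depth i (Coh.structureModule X)
      (Agent.Lib.RefHull.Reflexive.isCoh_structure) n).1
      ⟨q₀, fun m hm j hj => by
        lift m to ℕ using (by omega)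
        exact hq m (by omega) j hj⟩ x hx
    rw [Agent.Lib.Depth.Basic.depth_congr (Agent.Lib.RefHull.Reflexive.oEquiv x)] at hd
    have hle : ringKrullDim (X.presheaf.stalk x) ≤ (n : WithBot ℕ∞) :=
      hn ▸ Agent.Lib.Cyc.TorPD.ringKrullDim_stalk_le x
    have hge : ((n : ℕ∞) : WithBot ℕ∞) ≤ ((LocCoh.depth (X.presheaf.stalk x) (X.presheaf.stalk x) : ℕ∞) : WithBot ℕ∞) :=
      WithBot.coe_le_coe.2 hd
    exact ⟨Agent.Lib.Depth.CM.isCohenMacaulayLocalRing_iff.2 (hle.trans hge),
      le_antisymm hle (hge.trans (Agent.Lib.Depth.Assoc.depth_le_ringKrullDim _))⟩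

end Groth.Agent.S10934
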