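import Groth.Statements.S10938
import Groth.Agent.Lib.Dim.Basic
import Groth.Agent.Lib.VarDim.Basic
import Groth.Agent.Lib.Cyc.FieldDim
import Groth.Agent.Lib.Kaehler.SmoothMono
import Groth.Agent.Lib.SchTopo.Closure
import Mathlib.AlgebraicGeometry.IdealSheaf.Subscheme
import Mathlib.RingTheory.Smooth.Field
import Mathlib.RingTheory.Etale.Basic
import Mathlib.Algebra.MvPolynomial.PDeriv
import Mathlib.FieldTheory.IsAlgClosed.Basic

set_option autoImplicit false
universe u
open CategoryTheory CategoryTheory.Limits AlgebraicGeometry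
open Variety

namespace Groth.Agent.S10938

open TopologicalSpace IsLocalRing Groth.Agent.Lib

/-- Extending a derivation of a polynomial ring to a field containing it, in characteristic zero. -/
theorem exists_dual_derivations {k : Type u} [Field k] [CharZero k] {B : Type u} [CommRing B] [IsDomain B]
    [Algebra k B] [Algebra.FiniteType k B] {w : ℕ} (g : MvPolynomial (Fin w) k →ₐ[k] B) (hg : Function.Injective g) :
    ∃ (s : B), s ≠ 0 ∧ ∃ E : Fin w → B →+ B, (∀ i x y, E i (x * y) = x * E i y + y * E i x) ∧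
      (∀ i (c : k), E i (algebraMap k B c) = 0) ∧ ∀ i j, E i (g (MvPolynomial.X j)) = if i = j then s else 0 := by
  classical
  let L := FractionRing B
  let P := MvPolynomial (Fin w) k
  letI : Algebra P L := ((algebraMap B L).comp g.toRingHom).toAlgebra
  have hinj : Function.Injective (algebraMap P L) := (IsFractionRing.injective B L).comp hg
  haveI : FaithfulSMul P L := (faithfulSMul_iff_algebraMap_injective _ _).mpr hinj
  haveI : IsScalarTower k P L := IsScalarTower.of_algebraMap_eq fun c => by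
    show algebraMap k L c = algebraMap B L (g (algebraMap k P c))
    rw [g.commutes, ← IsScalarTower.algebraMap_apply]
  letI : Algebra (FractionRing P) L := FractionRing.liftAlgebra P L
  haveI : IsScalarTower k (FractionRing P) L := IsScalarTower.of_algebraMap_eq fun c => by
    rw [IsScalarTower.algebraMap_apply k P (FractionRing P), ← IsScalarTower.algebraMap_apply P (FractionRing P) L,
      ← IsScalarTower.algebraMap_apply k P L]
  haveI : CharZero (FractionRing P) := charZero_of_injective_algebraMap (algebraMap k (FractionRing P)).injective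
  haveI : Algebra.EssFiniteType B L := Algebra.EssFiniteType.of_isLocalization L (nonZeroDivisors B)
  haveI : Algebra.EssFiniteType k L := Algebra.EssFiniteType.comp k B L
  haveI : Algebra.EssFiniteType (FractionRing P) L := Algebra.EssFiniteType.of_comp k (FractionRing P) L
  haveI : Algebra.FormallySmooth (FractionRing P) L := inferInstance
  haveI : Algebra.FormallyEtale P (FractionRing P) := Algebra.FormallyEtale.of_isLocalization (nonZeroDivisors P)
  have hsm : (algebraMap P L).FormallySmooth := by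
    rw [RingHom.formallySmooth_algebraMap]
    exact Algebra.FormallySmooth.comp P (FractionRing P) L
  have hD : ∀ i : Fin w, ∃ D : L →+ L, (∀ x y, D (x * y) = x * D y + y * D x) ∧
      (∀ c : k, D (algebraMap k L c) = 0) ∧ ∀ p : P, D (algebraMap P L p) = algebraMap P L (MvPolynomial.pderiv i p) := by
    intro i
    obtain ⟨D, hD⟩ := Kaehler.SmoothMono.exists_der_extend (R := CommRingCat.of k) (A := CommRingCat.of P)
      (B := CommRingCat.of L) (CommRingCat.ofHom (algebraMap k P)) (CommRingCat.ofHom (algebraMap P L)) hsm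
      (ModuleCat.of L L) ((algebraMap P L).toAddMonoidHom.comp (MvPolynomial.pderiv i).toLinearMap.toAddMonoidHom)
      (fun a c => by
        show algebraMap P L (MvPolynomial.pderiv i (a * c)) =
          algebraMap P L a * algebraMap P L (MvPolynomial.pderiv i c) + algebraMap P L c * algebraMap P L (MvPolynomial.pderiv i a)
        rw [Derivation.leibniz, map_add, smul_eq_mul, smul_eq_mul, map_mul, map_mul])
      (fun r => by
        show algebraMap P L (MvPolynomial.pderiv i (algebraMap k P r)) = 0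
        rw [Derivation.map_algebraMap, map_zero])
    refine ⟨AddMonoidHom.mk' D.d (fun a b => D.d_add a b), fun x y => D.d_mul x y, fun c => ?_, fun p => hD p⟩
    show D.d _ = 0
    rw [IsScalarTower.algebraMap_apply k P L]
    exact D.d_map c
  choose D hDmul hDk hDP using hD
  obtain ⟨gens, hgens⟩ := Algebra.FiniteType.out (R := k) (A := B)
  obtain ⟨⟨s, hs⟩, hmult⟩ := IsLocalization.exist_integer_multiples (nonZeroDivisors B)
    ((Finset.univ : Finset (Fin w)) ×ˢ gens) (fun q => D q.1 (algebraMap B L q.2))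
  have hall : ∀ i (b : B), ∃ e, algebraMap B L e = algebraMap B L s * D i (algebraMap B L b) := by
    intro i b
    have hb : b ∈ Algebra.adjoin k (gens : Set B) := hgens ▸ Algebra.mem_top
    induction hb using Algebra.adjoin_induction with
    | mem x hx =>
      obtain ⟨e, he⟩ := hmult (i, x) (Finset.mem_product.2 ⟨Finset.mem_univ _, hx⟩)
      exact ⟨e, he.trans (Algebra.smul_def _ _)⟩
    | algebraMap c => exact ⟨0, by rw [← IsScalarTower.algebraMap_apply, hDk, mul_zero, map_zero]⟩
    | add x y _ _ hx hy =>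
      obtain ⟨e, he⟩ := hx
      obtain ⟨e', he'⟩ := hy
      exact ⟨e + e', by rw [map_add, map_add, map_add, he, he', mul_add]⟩
    | mul x y _ _ hx hy =>
      obtain ⟨e, he⟩ := hx
      obtain ⟨e', he'⟩ := hy
      refine ⟨x * e' + y * e, ?_⟩
      rw [map_mul (algebraMap B L) x y, hDmul, map_add, map_mul, map_mul, he, he']
      ring
  choose E hE using hall
  have hi := IsFractionRing.injective B L
  refine ⟨s, nonZeroDivisors.ne_zero hs, fun i => AddMonoidHom.mk' (E i) fun x y => hi ?_, fun i x y => hi ?_,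
    fun i c => hi ?_, fun i j => hi ?_⟩
  · rw [map_add, hE, hE, hE, map_add, map_add, mul_add]
  · show algebraMap B L (E i (x * y)) = algebraMap B L (x * E i y + y * E i x)
    rw [hE, map_mul (algebraMap B L) x y, hDmul, map_add, map_mul, map_mul, hE, hE]
    ring
  · show algebraMap B L (E i (algebraMap k B c)) = algebraMap B L 0
    rw [hE, ← IsScalarTower.algebraMap_apply, hDk, mul_zero, map_zero]
  · show algebraMap B L (E i (g (MvPolynomial.X j))) = _
    rw [hE, show algebraMap B L (g (MvPolynomial.X j)) = algebraMap P L (MvPolynomial.X j) from rfl, hDP,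
      MvPolynomial.pderiv_X]
    rcases eq_or_ne i j with rfl | hne
    · simp
    · rw [if_neg hne, Pi.single_eq_of_ne hne.symm, map_zero, mul_zero, map_zero]

/-- Generic independence of the differentials of a transcendence basis of the image. -/
theorem exists_independent {k A B : Type u} [Field k] [CharZero k] [CommRing A] [CommRing B] [Algebra k A]
    [Algebra k B] [Algebra.FiniteType k A] [Algebra.FiniteType k B] (φ : A →ₐ[k] B) (p : Ideal B) [p.IsPrime] :
    ∃ (b : Fin (Dim.Basic.dimQ k (p.comap φ.toRingHom)) → A) (g : B), g ∉ p ∧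
      ∀ (m : Ideal B) [m.IsPrime], p ≤ m → g ∉ m → ∀ (c : Fin (Dim.Basic.dimQ k (p.comap φ.toRingHom)) → k),
        (∀ j, φ (b j) - algebraMap k B (c j) ∈ m) → ∀ (a : Fin (Dim.Basic.dimQ k (p.comap φ.toRingHom)) → B) (t : B),
        t ∉ m → t * ∑ j, a j * (φ (b j) - algebraMap k B (c j)) ∈ m ^ 2 → ∀ i, a i ∈ m := by
  classical
  set P := p.comap φ.toRingHom with hPdef
  haveI : P.IsPrime := Ideal.IsPrime.comap _
  obtain ⟨s, gn, hgn, -, hs, -⟩ := Dim.Basic.exists_noether k (A ⧸ P)
  have hsw : s = Dim.Basic.dimQ k P := by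
    have := Dim.Basic.trdeg_quotient k P
    rw [hs] at this
    exact_mod_cast this
  subst hsw
  let φ' : A ⧸ P →ₐ[k] B ⧸ p := Ideal.quotientMapₐ p φ le_rfl
  have hφ' : Function.Injective φ' := Ideal.quotientMap_injective
  obtain ⟨σ, hσ, E, hEmul, hEk, hEX⟩ := exists_dual_derivations (φ'.comp gn) (hφ'.comp hgn)
  choose b hb using fun j => Ideal.Quotient.mk_surjective (gn (MvPolynomial.X j))
  obtain ⟨g, hg⟩ := Ideal.Quotient.mk_surjective σ
  refine ⟨b, g, fun h => hσ (by rw [← hg]; exact Ideal.Quotient.eq_zero_iff_mem.2 h), ?_⟩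
  intro m hm hpm hgm c hc a t ht hsum i
  let q := Ideal.Quotient.mk p
  let m' := m.map q
  have hE2 : ∀ u ∈ m ^ 2, E i (q u) ∈ m' := by
    intro u hu
    rw [pow_two] at hu
    refine Submodule.mul_induction_on hu (fun x hx y hy => ?_) (fun x y hx hy => ?_)
    · rw [map_mul, hEmul]
      exact add_mem (Ideal.mul_mem_right _ _ (Ideal.mem_map_of_mem q hx)) (Ideal.mul_mem_right _ _ (Ideal.mem_map_of_mem q hy))
    · rw [map_add, map_add]; exact add_mem hx hy
  have h1 := hE2 _ hsum
  have hval : ∀ j, E i (q (φ (b j) - algebraMap k B (c j))) = if i = j then σ else 0 := fun j => by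
    rw [map_sub, map_sub, show q (algebraMap k B (c j)) = algebraMap k (B ⧸ p) (c j) from rfl, hEk, sub_zero,
      show q (φ (b j)) = (φ'.comp gn) (MvPolynomial.X j) by
        show _ = φ' (gn (MvPolynomial.X j)); rw [← hb j]; rfl]
    exact hEX i j
  rw [map_mul, hEmul] at h1
  have h2 : q t * E i (q (∑ j, a j * (φ (b j) - algebraMap k B (c j)))) ∈ m' := by
    refine (Ideal.add_mem_iff_left _ (Ideal.mul_mem_right _ _ (Ideal.mem_map_of_mem q ?_))).1 h1
    exact Ideal.sum_mem _ fun j _ => Ideal.mul_mem_left _ _ (hc j)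
  rw [map_sum, map_sum, Finset.mul_sum] at h2
  have h3 : q t * (q (a i) * σ) ∈ m' := by
    have e : ∀ j, q t * E i (q (a j * (φ (b j) - algebraMap k B (c j)))) =
        q t * (q (a j) * (if i = j then σ else 0)) + q t * (q (φ (b j) - algebraMap k B (c j)) * E i (q (a j))) := fun j => by
      rw [map_mul, hEmul, hval, mul_add]
    rw [Finset.sum_congr rfl (fun j _ => e j), Finset.sum_add_distrib] at h2
    have h4 : ∑ j, q t * (q (φ (b j) - algebraMap k B (c j)) * E i (q (a j))) ∈ m' :=
      Ideal.sum_mem _ fun j _ => Ideal.mul_mem_left _ _ (Ideal.mul_mem_right _ _ (Ideal.mem_map_of_mem q (hc j)))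
    have h5 := (Ideal.add_mem_iff_left _ h4).1 h2
    simpa using h5
  rw [← hg, ← map_mul, ← map_mul] at h3
  have h6 : t * (a i * g) ∈ m := by
    have : t * (a i * g) ∈ m'.comap q := h3
    rwa [Ideal.comap_map_of_surjective q Ideal.Quotient.mk_surjective, ← RingHom.ker_eq_comap_bot, Ideal.mk_ker,
      sup_eq_left.2 hpm] at this
  rcases hm.mem_or_mem h6 with h | h
  · exact absurd h ht
  · exact (hm.mem_or_mem h).resolve_right hgm

/-- Let k be an algebraically closed field of characteristic zero, X and Y schemes of finite type over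
k, f : X → Y a k-morphism and r a natural number. Let X_r be the set of closed points x of X such
that the tangent map T_x f : T_x X → T_{f(x)} Y has rank at most r — equivalently, the image of the
cotangent map m_{f(x)}/m_{f(x)}^2 → m_x/m_x^2 is contained in the span of at most r vectors over the
residue field. Then the closure of f(X_r) in Y has (topological Krull) dimension at most r. -/
theorem result (k : Type u) [Field k] [IsAlgClosed k] [CharZero k]
    {X Y : Scheme.{u}} (qX : X ⟶ Spec (CommRingCat.of k)) (qY : Y ⟶ Spec (CommRingCat.of k))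
    [LocallyOfFiniteType qX] [QuasiCompact qX] [LocallyOfFiniteType qY] [QuasiCompact qY]
    (f : X ⟶ Y) (hf : f ≫ qY = qX) (r : ℕ) :
    topologicalKrullDim ↥(closure (f.base '' {x : ↥X | IsClosed ({x} : Set ↥X) ∧
      ∃ S : Finset (IsLocalRing.CotangentSpace (X.presheaf.stalk x)), S.card ≤ r ∧
        (LinearMap.range (FixPt.cotangentMapAt f x (f.base x) rfl) : Set (IsLocalRing.CotangentSpace (X.presheaf.stalk x))) ⊆
          (Submodule.span (IsLocalRing.ResidueField (X.presheaf.stalk x))
            (S : Set (IsLocalRing.CotangentSpace (X.presheaf.stalk x))) : Set (IsLocalRing.CotangentSpace (X.presheaf.stalk x)))})) ≤ r := by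
  classical
  haveI : IsLocallyNoetherian X := LocallyOfFiniteType.isLocallyNoetherian qX
  haveI : IsLocallyNoetherian Y := LocallyOfFiniteType.isLocallyNoetherian qY
  haveI : CompactSpace X := QuasiCompact.compactSpace_of_compactSpace qX
  haveI : IsNoetherian X := {}
  haveI : LocallyOfFiniteType (f ≫ qY) := by rw [hf]; infer_instance
  haveI : QuasiCompact f := inferInstance
  rw [VarDim.Basic.topologicalKrullDim_le_iff qY isClosed_closure.isLocallyClosed]
  set Xr := {x : ↥X | IsClosed ({x} : Set ↥X) ∧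
      ∃ S : Finset (IsLocalRing.CotangentSpace (X.presheaf.stalk x)), S.card ≤ r ∧
        (LinearMap.range (FixPt.cotangentMapAt f x (f.base x) rfl) : Set (IsLocalRing.CotangentSpace (X.presheaf.stalk x))) ⊆
          (Submodule.span (IsLocalRing.ResidueField (X.presheaf.stalk x))
            (S : Set (IsLocalRing.CotangentSpace (X.presheaf.stalk x))) : Set (IsLocalRing.CotangentSpace (X.presheaf.stalk x)))}
  intro y hy
  -- a point of the closure of `Xr` above a generization of `y`
  let Sc : Closeds X := ⟨closure Xr, isClosed_closure⟩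
  let ι := (Scheme.IdealSheafData.vanishingIdeal Sc).subschemeι
  have hι : Set.range ι = closure Xr := by
    simp [ι, Scheme.IdealSheafData.range_subschemeι, Scheme.IdealSheafData.coe_support_vanishingIdeal, Sc]
  have hy' : y ∈ closure (Set.range (ι ≫ f)) := by
    refine closure_mono ?_ hy
    rintro _ ⟨x, hx, rfl⟩
    obtain ⟨z, rfl⟩ : x ∈ Set.range ι := hι.symm ▸ subset_closure hx
    exact ⟨z, rfl⟩
  obtain ⟨z, hz⟩ := SchTopo.Closure.exists_specializes_of_mem_closure_range (ι ≫ f) hy'
  -- move to the generic point of a component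
  obtain ⟨Ss, hSs, hSc, hSi, hSu⟩ :=
    NoetherianSpace.exists_finite_set_isClosed_irreducible (isClosed_closure : IsClosed (closure Xr))
  obtain ⟨ξ, ⟨hξz, hξcl⟩, O, hO, hξO, hOsub⟩ : ∃ ξ, (ξ ⤳ ι z ∧ ξ ∈ closure Xr) ∧ ∃ O : Set X, IsOpen O ∧ ξ ∈ O ∧ ∀ x ∈ Xr, x ∈ O → ξ ⤳ x := by
    have hmem : ι z ∈ ⋃₀ Ss := (Set.ext_iff.mp hSu _).mp (hι ▸ Set.mem_range_self z)
    obtain ⟨s₀, hs₀, hzs₀⟩ := hmem
    -- a maximal member
    obtain ⟨s, ⟨hs, hle⟩, hmax⟩ := Set.Finite.exists_maximal (s := {s | s ∈ Ss ∧ s₀ ⊆ s})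
      (hSs.subset fun s hs => hs.1) ⟨s₀, hs₀, subset_rfl⟩
    obtain ⟨ξ, hξ⟩ := QuasiSober.sober (hSi s hs) (hSc s hs)
    refine ⟨ξ, ⟨hξ.specializes (hle hzs₀), (Set.ext_iff.mp hSu _).mpr ⟨s, hs, hξ.mem⟩⟩, (⋃ t ∈ {t ∈ Ss | ¬ t ⊆ s}, t)ᶜ,
      ((hSs.subset fun t ht => ht.1).isClosed_biUnion fun t ht => hSc t ht.1).isOpen_compl, ?_, ?_⟩
    · intro h
      obtain ⟨t, ⟨ht, hts⟩, hξt⟩ := Set.mem_iUnion₂.1 h
      have hst : s ⊆ t := by
        rw [← hξ.def]; exact closure_minimal (Set.singleton_subset_iff.2 hξt) (hSc t ht)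
      exact hts (hmax ⟨ht, hle.trans hst⟩ hst)
    · intro x hx hxO
      obtain ⟨t, ht, hxt⟩ := (Set.ext_iff.mp hSu x).mp (subset_closure hx)
      by_cases hts : t ⊆ s
      · exact hξ.specializes (hts hxt)
      · exact absurd (Set.mem_iUnion₂.2 ⟨t, ⟨ht, hts⟩, hxt⟩) hxO
  have hyξ : f ξ ⤳ y := by
    have hz' : f (ι z) ⤳ y := hz
    exact (hξz.map f.continuous).trans hz'
  refine le_trans (by exact_mod_cast VarDim.Basic.pdim_le qY hyξ) (b := ((VarDim.Basic.pdim qY (f ξ) : ℕ) : WithBot ℕ∞)) ?_
  -- affine charts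
  obtain ⟨V, hV, hηV, -⟩ := exists_isAffineOpen_mem_and_subset (U := (⊤ : Y.Opens)) (x := f ξ) trivial
  obtain ⟨U, hU, hξU, hUle⟩ := exists_isAffineOpen_mem_and_subset (U := f ⁻¹ᵁ V) (x := ξ) hηV
  letI : Algebra k Γ(Y, V) := (Cyc.FieldDim.structHom qY V).toAlgebra
  letI : Algebra k Γ(X, U) := (Cyc.FieldDim.structHom qX U).toAlgebra
  haveI : Algebra.FiniteType k Γ(Y, V) := Cyc.FieldDim.structHom_finiteType qY hV
  haveI : Algebra.FiniteType k Γ(X, U) := Cyc.FieldDim.structHom_finiteType qX hU
  let φ : Γ(Y, V) →ₐ[k] Γ(X, U) := { (f.appLE V U hUle).hom with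
    commutes' := fun c => by
      show f.appLE V U hUle (Cyc.FieldDim.structHom qY V c) = Cyc.FieldDim.structHom qX U c
      simp only [Cyc.FieldDim.structHom]
      rw [← hf, ← ConcreteCategory.comp_apply, Category.assoc, Scheme.Hom.appLE_comp_appLE] }
  set p := (hU.primeIdealOf ⟨ξ, hξU⟩).asIdeal with hpdef
  have hPeq : (hV.primeIdealOf ⟨f ξ, hηV⟩).asIdeal = p.comap φ.toRingHom :=
    congrArg PrimeSpectrum.asIdeal (IsAffineOpen.comap_primeIdealOf_appLE (U := V) (hU := hV) (V := U) (hV := hU) (hVU := hUle) (x := ξ) (hx := hξU)).symm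
  have hw : VarDim.Basic.pdim qY (f ξ) = Dim.Basic.dimQ k (p.comap φ.toRingHom) := by
    have h := Cyc.FieldDim.trdegAt_eq_dimQ qY hV hηV
    rw [VarDim.Basic.trdegAt_eq_pdim, hPeq] at h
    exact_mod_cast h
  obtain ⟨b, g, hgp, hind⟩ := exists_independent φ p
  -- a point of `Xr` where the minor is invertible
  have hξg : ξ ∈ X.basicOpen g := by
    by_contra h
    exact hgp ((Cyc.FieldDim.mem_primeIdealOf_iff hU hξU g).2
      ((Scheme.evaluation_eq_zero_iff_notMem_basicOpen _ _ hξU g).2 h))
  obtain ⟨x, ⟨hxO, hxg⟩, hxr⟩ := mem_closure_iff.1 hξcl (O ∩ X.basicOpen g) (hO.inter (X.basicOpen g).2) ⟨hξO, hξg⟩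
  have hxU : x ∈ U := X.basicOpen_le g hxg
  obtain ⟨hxcl, S, hScard, hSspan⟩ := hxr
  set m := (hU.primeIdealOf ⟨x, hxU⟩).asIdeal with hmdef
  have hpm : p ≤ m := (PrimeSpectrum.asIdeal_le_asIdeal _ _).2
    ((Cyc.FieldDim.primeIdealOf_le_iff hU hxU hξU).2 (hOsub x ⟨hxcl, S, hScard, hSspan⟩ hxO))
  have hgm : g ∉ m := fun h =>
    (Scheme.evaluation_eq_zero_iff_notMem_basicOpen _ _ hxU g).1 ((Cyc.FieldDim.mem_primeIdealOf_iff hU hxU g).1 h) hxg
  haveI hmax : m.IsMaximal := by
    rw [← PrimeSpectrum.isClosed_singleton_iff_isMaximal]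
    have h := hxcl.preimage hU.fromSpec.continuous
    rwa [show hU.fromSpec ⁻¹' {x} = {hU.primeIdealOf ⟨x, hxU⟩} from Set.ext fun v => by
      refine ⟨fun hv => hU.fromSpec.isOpenEmbedding.injective (hv.trans (hU.fromSpec_primeIdealOf ⟨x, hxU⟩).symm), ?_⟩
      rintro rfl
      exact hU.fromSpec_primeIdealOf ⟨x, hxU⟩] at h
  letI := Ideal.Quotient.field m
  haveI : Module.Finite k (Γ(X, U) ⧸ m) := finite_of_finite_type_of_isJacobsonRing k (Γ(X, U) ⧸ m)
  have hconst : ∀ j, ∃ c : k, φ (b j) - algebraMap k Γ(X, U) c ∈ m := fun j => by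
    obtain ⟨c, hc⟩ := (IsAlgClosed.algebraMap_bijective_of_isIntegral (k := k) (K := Γ(X, U) ⧸ m)).2
      (Ideal.Quotient.mk m (φ (b j)))
    exact ⟨c, Ideal.Quotient.eq.1 hc.symm⟩
  choose c hc using hconst
  -- the images of `b j - c j` in the cotangent space
  let O' := X.presheaf.stalk x
  letI : Algebra Γ(X, U) O' := TopCat.Presheaf.algebra_section_stalk X.presheaf ⟨x, hxU⟩
  haveI : IsLocalization.AtPrime O' m := hU.isLocalization_stalk ⟨x, hxU⟩
  let u : Fin (Dim.Basic.dimQ k (p.comap φ.toRingHom)) → O' := fun j =>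
    algebraMap Γ(X, U) O' (φ (b j) - algebraMap k Γ(X, U) (c j))
  have hu : ∀ j, u j ∈ maximalIdeal O' := fun j => (IsLocalization.AtPrime.to_map_mem_maximal_iff O' m _).2 (hc j)
  let v : Fin (Dim.Basic.dimQ k (p.comap φ.toRingHom)) → CotangentSpace O' := fun j =>
    (maximalIdeal O').toCotangent ⟨u j, hu j⟩
  have hvS : ∀ j, v j ∈ Submodule.span (ResidueField O') (S : Set (CotangentSpace O')) := by
    intro j
    apply hSspan
    let gY := Y.presheaf.germ V (f x) (hUle hxU) (b j - algebraMap k Γ(Y, V) (c j))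
    have hgY : f.stalkMap x gY = u j := by
      refine (Scheme.Hom.germ_stalkMap_apply f V x (hUle hxU) _).trans ?_
      refine ((TopCat.Presheaf.germ_res_apply X.presheaf (homOfLE hUle) x hxU _).symm).trans ?_
      show algebraMap Γ(X, U) O' (φ (b j - algebraMap k Γ(Y, V) (c j))) = u j
      rw [map_sub φ, φ.commutes]
    have hst : FixPt.stalkMapAt f x (f.base x) rfl gY = u j := by
      rw [← hgY]
      show f.stalkMap x (Y.presheaf.stalkSpecializes (specializes_refl (f x)) gY) = _
      rw [TopCat.Presheaf.stalkSpecializes_refl]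
      rfl
    have hmem : gY ∈ maximalIdeal (Y.presheaf.stalk (f x)) := (mem_maximalIdeal _).2 fun hun =>
      (mem_maximalIdeal _).1 (hu j) (hgY ▸ hun.map (f.stalkMap x).hom)
    exact ⟨(maximalIdeal _).toCotangent ⟨gY, hmem⟩,
      congrArg (maximalIdeal O').toCotangent (Subtype.ext hst)⟩
  have hli : LinearIndependent (ResidueField O') v := by
    rw [Fintype.linearIndependent_iff]
    intro a ha i
    choose al hal using fun j => IsLocalRing.residue_surjective (a j)
    obtain ⟨⟨t, ht⟩, hta⟩ := IsLocalization.exist_integer_multiples_of_finite m.primeCompl al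
    choose a' ha' using hta
    have hsum : ∑ j, al j * u j ∈ maximalIdeal O' ^ 2 := by
      have h0 : (maximalIdeal O').toCotangent (∑ j, al j • (⟨u j, hu j⟩ : maximalIdeal O')) = 0 := by
        rw [map_sum, ← ha]
        refine Finset.sum_congr rfl fun j _ => ?_
        rw [map_smul, ← hal j]
        rfl
      rw [Ideal.toCotangent_eq_zero] at h0
      simpa using h0
    have h1 : algebraMap Γ(X, U) O' (∑ j, a' j * (φ (b j) - algebraMap k Γ(X, U) (c j))) ∈ (m ^ 2).map (algebraMap Γ(X, U) O') := by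
      rw [Ideal.map_pow, IsLocalization.AtPrime.map_eq_maximalIdeal m O', map_sum]
      refine (show ∑ j, algebraMap Γ(X, U) O' (a' j * (φ (b j) - algebraMap k Γ(X, U) (c j))) =
        algebraMap Γ(X, U) O' t * ∑ j, al j * u j from ?_) ▸ Ideal.mul_mem_left _ _ hsum
      rw [Finset.mul_sum]
      refine Finset.sum_congr rfl fun j _ => ?_
      rw [map_mul, ha' j, Algebra.smul_def, mul_assoc]
    obtain ⟨t', ht', h2⟩ := (IsLocalization.algebraMap_mem_map_algebraMap_iff m.primeCompl O' (m ^ 2) _).1 h1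
    have h3 : a' i ∈ m := hind m hpm hgm c hc a' t' ht' h2 i
    have h4 : al i ∈ maximalIdeal O' := by
      have h5 := (IsLocalization.AtPrime.to_map_mem_maximal_iff O' m _).2 h3
      rw [ha' i, Algebra.smul_def] at h5
      exact ((maximalIdeal.isMaximal O').isPrime.mem_or_mem h5).resolve_left fun h =>
        ht ((IsLocalization.AtPrime.to_map_mem_maximal_iff O' m _).1 h)
    rw [← hal i]
    exact residue_eq_zero_iff _ |>.2 h4
  have hwr : Dim.Basic.dimQ k (p.comap φ.toRingHom) ≤ r := by
    let v' : Fin (Dim.Basic.dimQ k (p.comap φ.toRingHom)) → Submodule.span (ResidueField O') (S : Set (CotangentSpace O')) :=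
      fun j => ⟨v j, hvS j⟩
    have hli' : LinearIndependent (ResidueField O') v' :=
      LinearIndependent.of_comp (Submodule.subtype _) (show LinearIndependent (ResidueField O') (Submodule.subtype _ ∘ v') from hli)
    have h1 := hli'.fintype_card_le_finrank
    rw [Fintype.card_fin] at h1
    exact h1.trans ((finrank_span_finset_le_card S).trans hScard)
  rw [hw]
  exact_mod_cast hwr

end Groth.Agent.S10938
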