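import Groth.Statements.S10939
import Groth.Agent.Lib.ProjDim.Avoid
import Mathlib.AlgebraicGeometry.Morphisms.ClosedImmersion
import Mathlib.AlgebraicGeometry.Morphisms.Finite

set_option autoImplicit false
universe u
open CategoryTheory CategoryTheory.Limits AlgebraicGeometry
open Variety

namespace Groth.Agent.S10939

open Groth.Agent.Lib.ProjDim.Graded Groth.Agent.Lib.ProjDim.Topology Groth.Agent.Lib.ProjDim.Avoid

/-- Let k be a field, P = P^n_k = Proj k[x_0, …, x_n], and i_X : X → P, i_Y : Y → P closed immersions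
with X of dimension r. Then there are homogeneous polynomials h_1, …, h_{r+1} of positive degree,
with basic opens D_j = D_+(h_j) and hypersurfaces H_j = P ∖ D_j, such that every H_j contains Y and
X ∖ Y = ⋃_j (X ∖ H_j), i.e. every point of X outside Y lies in some D_j; moreover each X ∖ H_j = X ∩
D_j is affine. (The published statement takes X and Y reduced; the assertion only concerns the
underlying closed sets.) -/
theorem result (k : Type u) [Field k] (n r : ℕ)
    {X Y : Scheme.{u}} (iX : X ⟶ CohB1.ProjSpace n k) (iY : Y ⟶ CohB1.ProjSpace n k)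
    [IsClosedImmersion iX] [IsClosedImmersion iY] (hX : topologicalKrullDim ↥X = r) :
    ∃ (h : Fin (r + 1) → MvPolynomial (Fin (n + 1)) k) (D : Fin (r + 1) → (CohB1.ProjSpace n k).Opens),
      (∀ j, D j = Proj.basicOpen (CohB1.polyGrading n k) (h j)) ∧
      (∀ j, ∃ d : ℕ, 0 < d ∧ (h j).IsHomogeneous d) ∧
      (∀ j, Set.range iY.base ⊆ (D j : Set ↥(CohB1.ProjSpace n k))ᶜ) ∧
      (Set.range iX.base \ Set.range iY.base ⊆ ⋃ j, (D j : Set ↥(CohB1.ProjSpace n k))) ∧
      ∀ j, IsAffineOpen (iX ⁻¹ᵁ (D j)) := by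
  let X' : Set (ProjectiveSpectrum (CohB1.polyGrading n k)) := Set.range iX.base
  let Y' : Set (ProjectiveSpectrum (CohB1.polyGrading n k)) := Set.range iY.base
  have hX' : IsClosed X' := iX.isClosedEmbedding.isClosed_range
  have hY' : IsClosed Y' := iY.isClosedEmbedding.isClosed_range
  have hdim : ∀ x ∈ X', dp x ≤ r := fun x hx => by
    have h := le_dim hX' hx
    have e : topologicalKrullDim ↥X' = topologicalKrullDim ↥X :=
      iX.isClosedEmbedding.isEmbedding.toHomeomorph.symm.isHomeomorph.topologicalKrullDim_eq _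
    rw [e, hX] at h
    exact_mod_cast h
  obtain ⟨h, hh, hY, hcov⟩ := exists_cover hX' hY' r hdim
  refine ⟨h, fun j => Proj.basicOpen (CohB1.polyGrading n k) (h j), fun j => rfl, hh,
    fun j y hy hyD => hyD (hY j y hy), fun x hx => ?_, fun j => ?_⟩
  · obtain ⟨j, hj⟩ := hcov x hx.1 hx.2
    exact Set.mem_iUnion.2 ⟨j, hj⟩
  · obtain ⟨d, hd, hhd⟩ := hh j
    have hD : @IsAffineOpen (CohB1.ProjSpace n k) (Proj.basicOpen (CohB1.polyGrading n k) (h j)) :=
      Proj.isAffineOpen_basicOpen (CohB1.polyGrading n k) (h j)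
        ((MvPolynomial.mem_homogeneousSubmodule d _).2 hhd) hd
    exact @IsAffineOpen.preimage _ (CohB1.ProjSpace n k) _ hD iX inferInstance

end Groth.Agent.S10939
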