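import Groth.Statements.S10940
import Groth.Agent.Lib.ProjDim.Avoid
import Groth.Agent.Lib.VarDim.Basic
import Groth.Agent.Lib.ProjSpace.Basic
import Mathlib.AlgebraicGeometry.Morphisms.ClosedImmersion
import Mathlib.AlgebraicGeometry.Morphisms.Immersion
import Mathlib.AlgebraicGeometry.Morphisms.Finite

set_option autoImplicit false
universe u
open CategoryTheory CategoryTheory.Limits AlgebraicGeometry
open Variety

namespace Groth.Agent.S10940

open Groth.Agent.Lib.ProjDim.Graded Groth.Agent.Lib.ProjDim.Topology Groth.Agent.Lib.ProjDim.Avoid

/-- Let k be a field and X a quasi-projective variety over k of dimension r: an integral scheme with an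
immersion j : X → P^n_k. Then X admits a cover by r + 1 affine open subschemes. (Consequently the
cohomology of every quasi-coherent O_X-module vanishes above degree r; that consequence is the
general vanishing above the number of affines in a cover and is not restated here. The published
statement is for varieties over an algebraically closed field; the argument, r + 1 hypersurfaces
through the boundary of the closure of X, works over any field, so k is an arbitrary field here.) -/
theorem result (k : Type u) [Field k] (n r : ℕ)
    {X : Scheme.{u}} (j : X ⟶ CohB1.ProjSpace n k) [IsImmersion j] [IsIntegral X]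
    (hX : topologicalKrullDim ↥X = r) :
    ∃ U : Fin (r + 1) → X.Opens, (∀ i, IsAffineOpen (U i)) ∧ ⨆ i, U i = ⊤ := by
  let P := CohB1.ProjSpace n k
  let X' : Set ↥P := closure (Set.range j.base)
  let Y' : Set ↥P := coborder (Set.range j.base)
  have hlc : IsLocallyClosed (Set.range j.base) := j.isLocallyClosed_range
  have hco : IsOpen Y' := hlc.isOpen_coborder
  have hY'c : IsClosed Y'ᶜ := hco.isClosed_compl
  have hdim : ∀ x ∈ X', dp (k := k) (n := n) x ≤ r := fun x hx => by
    let q := CohB1.ProjSpace.toSpec n k
    have hgen : IsGenericPoint (j.base (genericPoint X)) X' := by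
      have h := (genericPoint_spec X).image j.continuous
      rwa [Set.image_univ] at h
    have e1 : topologicalKrullDim ↥(Set.range j.base) = r := by
      rw [← hX]
      exact j.isEmbedding.toHomeomorph.symm.isHomeomorph.topologicalKrullDim_eq _
    have h1 := Groth.Agent.Lib.VarDim.Basic.pdim_le_topologicalKrullDim q hlc
      (Set.mem_range_self (genericPoint X))
    rw [e1] at h1
    have h2 := Groth.Agent.Lib.VarDim.Basic.topologicalKrullDim_isGenericPoint q hgen
    let X'' : Set (ProjectiveSpectrum (CohB1.polyGrading n k)) := X'
    have h3 := le_dim (k := k) (n := n) (T := X'') isClosed_closure hx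
    have h4 : topologicalKrullDim ↥X'' ≤ (r : WithBot ℕ∞) := le_of_eq_of_le h2 h1
    exact_mod_cast h3.trans h4
  obtain ⟨h, hh, hY, hcov⟩ := exists_cover (k := k) (n := n) (X := X') (Y := Y'ᶜ)
    isClosed_closure hY'c r hdim
  let D : Fin (r + 1) → P.Opens := fun i => Proj.basicOpen (CohB1.polyGrading n k) (h i)
  refine ⟨fun i => j ⁻¹ᵁ D i, fun i => ?_, ?_⟩
  · obtain ⟨d, hd, hhd⟩ := hh i
    have hD : IsAffineOpen (D i) := Proj.isAffineOpen_basicOpen (CohB1.polyGrading n k) (h i)
      ((MvPolynomial.mem_homogeneousSubmodule d _).2 hhd) hd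
    have hDY : (D i : Set ↥P) ⊆ Y' := fun z hz => by
      by_contra hc
      exact hz (hY i z hc)
    have : IsImmersion (j ∣_ D i) := IsZariskiLocalAtTarget.restrict ‹_› (D i)
    have hcl : IsClosed (Set.range (j ∣_ D i).base) := by
      have hr : Set.range (j ∣_ D i).base =
          (D i).ι.base ⁻¹' (X' : Set ↥P) := by
        apply Set.Subset.antisymm
        · rintro _ ⟨z, rfl⟩
          refine subset_closure ⟨(j ⁻¹ᵁ D i).ι.base z, ?_⟩
          rw [← Scheme.Hom.comp_apply, ← morphismRestrict_ι]
          rfl
        · intro z hz
          have hzY : (D i).ι.base z ∈ Y' := hDY z.2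
          have hz' : (D i).ι.base z ∈ Set.range j.base := by
            have := closure_inter_coborder (s := Set.range j.base)
            exact this.le ⟨hz, hzY⟩
          obtain ⟨w, hw⟩ := hz'
          refine ⟨⟨w, show j.base w ∈ D i from hw ▸ z.2⟩, ?_⟩
          exact Subtype.ext ((morphismRestrict_base_coe j (D i) _).trans hw)
      rw [hr]
      exact isClosed_closure.preimage (D i).ι.continuous
    have : IsClosedImmersion (j ∣_ D i) := IsClosedImmersion.of_isPreimmersion _ hcl
    have : IsAffine (D i : Scheme.{u}) := hD
    exact isAffine_of_isAffineHom (j ∣_ D i)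
  · refine eq_top_iff.2 fun z _ => ?_
    have hz : j.base z ∈ X' := subset_closure (Set.mem_range_self z)
    have hzY : j.base z ∉ (Y'ᶜ : Set ↥P) := fun hc => hc (subset_coborder (Set.mem_range_self z))
    obtain ⟨i, hi⟩ := hcov _ hz hzY
    exact TopologicalSpace.Opens.mem_iSup.2 ⟨i, hi⟩

end Groth.Agent.S10940
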