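import Groth.Statements.S10944
import Groth.Agent.Lib.Flat55.GenericPoints

set_option autoImplicit false
universe u
open CategoryTheory AlgebraicGeometry
open FlatMor

namespace Groth.Agent.S10944

/-- Let f : X → Y be a flat morphism of Noetherian schemes and Y' an irreducible component of Y. Then
f⁻¹(Y') is the union of the irreducible components Z of X with f(Z) ⊆ Y'. -/
theorem result {X Y : Scheme.{u}}
    [IsNoetherian X] [IsNoetherian Y] (f : X ⟶ Y) [Flat f]
    (Y' : Set ↥Y) (hY' : Y' ∈ irreducibleComponents ↥Y) :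
    f.base ⁻¹' Y' = ⋃₀ {Z : Set ↥X | Z ∈ irreducibleComponents ↥X ∧ f.base '' Z ⊆ Y'} := by
  obtain ⟨η, hη, rfl⟩ := Lib.Flat55.GenericPoints.exists_closure_eq hY'
  ext x
  constructor
  · intro hx
    obtain ⟨x', hx', hfx'⟩ := Flat.generalizingMap f (specializes_iff_mem_closure.2 hx)
    obtain ⟨ξ, hξ, hξx'⟩ := Lib.Flat55.GenericPoints.exists_specializes x'
    refine ⟨closure {ξ}, ⟨hξ, ?_⟩, (hξx'.trans hx').mem_closure⟩
    have h1 : f.base ξ = η := Lib.Flat55.GenericPoints.eq_of_specializes hη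
      (hfx' ▸ hξx'.map f.continuous)
    rintro _ ⟨z, hz, rfl⟩
    exact h1 ▸ ((specializes_iff_mem_closure.2 hz).map f.continuous).mem_closure
  · rintro ⟨Z, ⟨-, hZ⟩, hxZ⟩
    exact hZ ⟨x, hxZ, rfl⟩

end Groth.Agent.S10944
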