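import Groth.Statements.S10945
import Mathlib.Algebra.Category.ModuleCat.Sheaf.Free

set_option autoImplicit false
set_option linter.style.haveILetI false
universe u
open CategoryTheory AlgebraicGeometry Opposite
open Coherent

namespace Groth.Agent.S10945

/-- Let X be a scheme and 0 → F' → F → F'' → 0 a short exact sequence of O_X-modules whose map on global
sections Γ(X, F) → Γ(X, F'') is surjective. If F' and F'' are generated by global sections (each is
a quotient of a free O_X-module), then F is generated by global sections. -/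
theorem result (X : Scheme.{u})
    (S : ShortComplex X.Modules) (hS : S.ShortExact)
    (hsurj : Function.Surjective (S.g.val.app (op ⊤)).hom)
    (h1 : Curv2.IsGloballyGenerated S.X₁) (h3 : Curv2.IsGloballyGenerated S.X₃) :
    Curv2.IsGloballyGenerated S.X₂ := by
  obtain ⟨ι₁, p₁, hp₁⟩ := h1
  obtain ⟨ι₃, p₃, hp₃⟩ := h3
  haveI := hp₁
  haveI := hp₃
  haveI := hS.mono_f
  haveI := hS.epi_g
  have lift : ∀ s : S.X₃.val.sections, ∃ t : S.X₂.val.sections, PresheafOfModules.sectionsMap S.g.val t = s := by
    intro s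
    obtain ⟨x, hx⟩ := hsurj (s.1 (op ⊤))
    refine ⟨PresheafOfModules.sectionsMk (fun U => S.X₂.val.map (homOfLE (le_top : U.unop ≤ ⊤)).op x) ?_, ?_⟩
    · intro U V g
      exact (PresheafOfModules.map_comp_apply S.X₂.val _ _ _).symm
    · apply Subtype.ext
      funext U
      show (S.g.val.app U).hom (S.X₂.val.map (homOfLE (le_top : U.unop ≤ ⊤)).op x) = _
      refine (PresheafOfModules.naturality_apply S.g.val (homOfLE (le_top : U.unop ≤ ⊤)).op x).trans ?_
      exact (congrArg _ hx).trans (PresheafOfModules.sections_property s _)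
  choose t ht using lift
  let σ : ι₁ ⊕ ι₃ → SheafOfModules.sections S.X₂ := Sum.elim
    (fun i => SheafOfModules.freeHomEquiv S.X₂ (p₁ ≫ S.f) i)
    (fun i => t (SheafOfModules.freeHomEquiv S.X₃ p₃ i))
  let p := (SheafOfModules.freeHomEquiv S.X₂).symm σ
  have hl : SheafOfModules.freeMap Sum.inl ≫ p = p₁ ≫ S.f := by
    apply (SheafOfModules.freeHomEquiv S.X₂).injective
    funext i
    rw [SheafOfModules.freeHomEquiv_comp_apply, SheafOfModules.freeHomEquiv_freeMap]
    exact SheafOfModules.sectionsMap_freeHomEquiv_symm_freeSection σ (Sum.inl i)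
  have hr : SheafOfModules.freeMap Sum.inr ≫ p ≫ S.g = p₃ := by
    apply (SheafOfModules.freeHomEquiv S.X₃).injective
    funext i
    rw [← Category.assoc, SheafOfModules.freeHomEquiv_comp_apply, SheafOfModules.freeHomEquiv_comp_apply,
      SheafOfModules.freeHomEquiv_freeMap]
    refine (congrArg (SheafOfModules.sectionsMap S.g) ?_).trans (ht _)
    exact SheafOfModules.sectionsMap_freeHomEquiv_symm_freeSection σ (Sum.inr i)
  refine ⟨ι₁ ⊕ ι₃, p, Preadditive.epi_of_cancel_zero _ fun {Z} h hh => ?_⟩
  have hfh : S.f ≫ h = 0 := by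
    refine (cancel_epi p₁).1 ?_
    exact (Category.assoc _ _ _).symm.trans ((congrArg (· ≫ h) hl.symm).trans
      ((Category.assoc _ _ _).trans ((congrArg (SheafOfModules.freeMap Sum.inl ≫ ·) hh).trans
        (Limits.comp_zero.trans Limits.comp_zero.symm))))
  obtain ⟨k, hk⟩ : ∃ k, S.g ≫ k = h := ⟨hS.exact.desc h hfh, hS.exact.g_desc h hfh⟩
  have hk0 : k = 0 := by
    refine (cancel_epi p₃).1 ?_
    exact (congrArg (· ≫ k) hr.symm).trans ((Category.assoc _ _ _).trans
      ((congrArg (SheafOfModules.freeMap Sum.inr ≫ ·)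
        ((Category.assoc _ _ _).trans ((congrArg (p ≫ ·) hk).trans hh))).trans
          (Limits.comp_zero.trans Limits.comp_zero.symm)))
  exact hk.symm.trans ((congrArg (S.g ≫ ·) hk0).trans Limits.comp_zero)

end Groth.Agent.S10945
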