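import Groth.Statements.S10946
import Groth.Agent.S0013
import Groth.Agent.Lib.CohDelta.IdealMul.DevTools
import Groth.Agent.Lib.Modules.ExtendFT

set_option autoImplicit false
universe u
open CategoryTheory AlgebraicGeometry
open Coherent

namespace Groth.Agent.S10946

open Groth.Agent.Lib Groth.Agent.Lib.Cech.Complex Groth.Agent.Lib.CohDelta.IdealMul
open CategoryTheory CategoryTheory.Limits AlgebraicGeometry TopologicalSpace Opposite
set_option linter.style.haveILetI false
attribute [local instance] HasFiniteBiproducts.of_hasFiniteProducts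

variable {X : Scheme.{u}}

theorem isAffineOpen_biInf [X.IsSeparated] {ι : Type u} (U : ι → X.Opens)
    (hU : ∀ i, IsAffineOpen (U i)) :
    ∀ s : Finset ι, s.Nonempty → IsAffineOpen (⨅ i ∈ s, U i) := by
  classical
  intro s hs
  induction hs using Finset.Nonempty.cons_induction with
  | singleton a => simpa using hU a
  | cons a s _ _ ih =>
    rw [Finset.cons_eq_insert, Finset.iInf_insert]
    exact (hU a).inf ih

/-- Finitely many sections lie in a coherent submodule. -/
theorem exists_coh_sub [IsNoetherian X] (G : X.Modules) [G.IsQuasicoherent] {κ : Type u} [Finite κ]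
    (W : κ → X.Opens) (hW : ∀ k, IsAffineOpen (W k)) (t : ∀ k, Γ(G, W k)) :
    ∃ (F : X.Modules) (i : F ⟶ G), Mono i ∧ Coh.IsCoh F ∧ ∀ k, ∃ g, i.app (W k) g = t k := by
  classical
  have hX : ∀ y : X, ∃ U : X.Opens, y ∈ U ∧ NoetherianSpace (U : Set X) := fun y =>
    ⟨⊤, trivial, inferInstance⟩
  choose F i hi hFq hFf g hg using fun k =>
    Modules.ExtendFT.exists_through_section (F := G) hX (hW k) (t k)
  obtain ⟨n, ⟨e⟩⟩ := Finite.exists_equiv_fin κ
  let A : Fin n → X.Modules := fun a => F (e.symm a)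
  have hA : Coh.IsCoh (⨁ A) := DevExt.isCoh_biproduct A fun a => ⟨hFq _, hFf _⟩
  let d : (⨁ A) ⟶ G := biproduct.desc fun a => i (e.symm a)
  haveI := hA.1
  haveI := QCoh.Closure.isQCoh_cokernel d
  haveI : (Abelian.image d).IsQuasicoherent := QCoh.Closure.isQCoh_kernel (cokernel.π d)
  refine ⟨Abelian.image d, Abelian.image.ι d, inferInstanceAs (Mono (kernel.ι (cokernel.π d))),
    CohBasics.Closure.isCoh_of_epi (Abelian.factorThruImage d) hA, fun k => ?_⟩
  obtain ⟨a, rfl⟩ := e.symm.surjective k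
  refine ⟨(biproduct.ι A a ≫ Abelian.factorThruImage d).app _ (g (e.symm a)), ?_⟩
  rw [← ConcreteCategory.comp_apply, ← Scheme.Modules.Hom.comp_app, Category.assoc,
    Abelian.image.fac, biproduct.ι_desc]
  exact hg _

/-- Let X be a Noetherian separated scheme and n a natural number such that H^i(X, F) = 0 for all
coherent O_X-modules F and all i > n. Then H^i(X, G) = 0 for all quasi-coherent O_X-modules G and
all i > n. -/
theorem result (X : Scheme.{u}) [IsNoetherian X]
    [X.IsSeparated] (n : ℕ)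
    (h : ∀ F : X.Modules, Coh.IsCoh F → ∀ i : ℕ, n < i → Subsingleton (Coh.HH X F i))
    (G : X.Modules) (hG : Coh.IsQCoh G) (i : ℕ) (hi : n < i) :
    Subsingleton (Coh.HH X G i) := by
  classical
  haveI : G.IsQuasicoherent := hG
  obtain ⟨q, rfl⟩ : ∃ q, i = q + 1 := ⟨i - 1, by omega⟩
  obtain ⟨s, hs⟩ := (isCompact_univ (X := X)).elim_finite_subcover
    (fun U : X.affineOpens => (U.1 : Set X)) (fun U => U.1.2) fun x _ => by
      obtain ⟨W, hW, hx, -⟩ := exists_isAffineOpen_mem_and_subset (U := (⊤ : X.Opens)) (x := x) trivial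
      exact Set.mem_iUnion.mpr ⟨⟨W, hW⟩, hx⟩
  let U : {W // W ∈ s} → X.Opens := fun k => k.1.1
  have hcov : ⨆ k, U k = ⊤ := eq_top_iff.mpr fun x _ => by
    obtain ⟨W, hWs, hx⟩ := Set.mem_iUnion₂.mp (hs (Set.mem_univ x))
    exact Opens.mem_iSup.mpr ⟨⟨W, hWs⟩, hx⟩
  have hU : ∀ t : Finset {W // W ∈ s}, t.Nonempty → IsAffineOpen (⨅ k ∈ t, U k) :=
    isAffineOpen_biInf U fun k => k.1.2
  have haff : ∀ (m : ℕ) (k : Fin (m + 1) → {W // W ∈ s}), IsAffineOpen (inter U k) := fun m k => by
    have h := hU (Finset.univ.image k) (Finset.univ_nonempty.image k)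
    convert h using 1
    refine le_antisymm (le_iInf₂ fun a ha => ?_)
      (le_iInf fun a => iInf₂_le _ (Finset.mem_image_of_mem k (Finset.mem_univ a)))
    obtain ⟨b, -, rfl⟩ := Finset.mem_image.1 ha
    exact iInf_le _ b
  suffices hex : ExactSucc U G.presheaf q by
    haveI : Coh.IsQCoh G := hG
    obtain ⟨e⟩ := Groth.Agent.S0013.result X U hcov hU G (q + 1)
    haveI : Subsingleton (CohB1.cechH U G (q + 1) : Type u) :=
      AddCommGrpCat.subsingleton_of_isZero ((isZero_homology_succ_iff U G.presheaf q).mpr hex)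
    exact e.symm.toEquiv.subsingleton
  intro c hc
  obtain ⟨F, j, hj, hF, hg⟩ := exists_coh_sub G (fun k : Fin (q + 1 + 1) → {W // W ∈ s} => inter U k)
    (fun k => haff _ k) c
  choose c' hc' using hg
  let φ : F.presheaf ⟶ G.presheaf := j.mapPresheaf
  have hmap : map φ (q + 1) c' = c := funext hc'
  haveI : Coh.IsQCoh F := hF.1
  have hex : ExactSucc U F.presheaf q := by
    obtain ⟨e⟩ := Groth.Agent.S0013.result X U hcov hU F (q + 1)
    haveI := h F hF (q + 1) hi
    haveI : Subsingleton (CohB1.cechH U F (q + 1) : Type u) := e.toEquiv.subsingleton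
    exact (isZero_homology_succ_iff U F.presheaf q).mp
      (AddCommGrpCat.isZero_of_subsingleton (CohB1.cechH U F (q + 1)))
  have hinj : ∀ (m : ℕ), Function.Injective (map (U := U) φ m) := fun m a b hab => funext fun k => by
    haveI := hj
    exact QCoh.Closure.sections_injective_of_mono j (inter U k) (congrFun hab k)
  obtain ⟨b', hb'⟩ := hex c' (hinj (q + 1 + 1) (by rw [map_dC, hmap, hc, map_zero]))
  exact ⟨map φ q b', by rw [← map_dC, hb', hmap]⟩

end Groth.Agent.S10946
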