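import Groth.Statements.S10947
import Groth.Agent.Lib.ResDescend36.Ample
import Groth.Agent.Lib.HProj.QuasiProj
import Groth.Agent.Lib.ZarCoh.Bounded
import Groth.Agent.Lib.Curves.LES
import Groth.Agent.Lib.CohBasics.Closure
import Groth.Agent.Lib.Perfect.Coherent
import Groth.Agent.Lib.ProperFin.Projective

set_option autoImplicit false
universe u
open CategoryTheory AlgebraicGeometry
open Coherent

namespace Groth.Agent.S10947

open CategoryTheory.Limits in
/-- Let k be a field and X a quasi-projective scheme over k, given with an immersion ι : X → P^N_k into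
a projective space. If n is a natural number with H^i(X, E) = 0 for all finite locally free
O_X-modules E and all i > n, then H^i(X, F) = 0 for all coherent O_X-modules F (quasi-coherent of
finite type) and all i > n. -/
theorem result
    (k : Type u) [Field k] (N : ℕ) {X : Scheme.{u}} (ι : X ⟶ CohB1.ProjSpace N k) [IsImmersion ι]
    (n : ℕ) (h : ∀ E : X.Modules, FlatMod.IsFinLocFree E → ∀ i : ℕ, n < i → Subsingleton (Coh.HH X E i))
    (F : X.Modules) (hF : Coh.IsCoh F) (i : ℕ) (hi : n < i) :
    Subsingleton (Coh.HH X F i) := by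
  haveI : IsLocallyNoetherian (CohB1.ProjSpace N k) := Lib.ProperFin.Projective.isNoetherian_projSpace
  haveI := Lib.ProjSpace.Basic.isProper_toSpec N k
  haveI : CompactSpace (CohB1.ProjSpace N k) :=
    QuasiCompact.compactSpace_of_compactSpace (CohB1.ProjSpace.toSpec N k)
  haveI : IsNoetherian (CohB1.ProjSpace N k) := { }
  haveI : TopologicalSpace.NoetherianSpace X := ι.isEmbedding.isInducing.noetherianSpace
  haveI : IsLocallyNoetherian X := LocallyOfFiniteType.isLocallyNoetherian ι
  have hqa : Mor2.IsQuasiAffine ι := ⟨inferInstance, fun V hV => by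
    haveI : IsAffine (V : Scheme.{u}) := hV
    haveI : CompactSpace (ι ⁻¹ᵁ V : Scheme.{u}) := isCompact_iff_compactSpace.mp (TopologicalSpace.NoetherianSpace.isCompact _)
    haveI : IsImmersion (ι ∣_ V) :=
      MorphismProperty.of_isPullback (isPullback_morphismRestrict ι V).flip (inferInstance : IsImmersion ι)
    exact Scheme.IsQuasiAffine.of_isImmersion (ι ∣_ V)⟩
  have hL := Lib.Ample.Pullback.isAmple_pullback ι hqa (Lib.HProj.QuasiProj.isAmple_twist_projSpace N k)
  have hres := Lib.ResDescend36.Ample.hasResolutionProperty _ hL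
  obtain ⟨d, hd⟩ := Lib.ZarCoh.Bounded.exists_bound_HH X
  suffices H : ∀ j i : ℕ, d ≤ i + j → n < i → ∀ G : X.Modules, Coh.IsCoh G → Subsingleton (Coh.HH X G i) from
    H d i (by omega) hi F hF
  intro j
  induction j with
  | zero => exact fun i hi' _ G hG => hd G hG.1 i (by omega)
  | succ j ih =>
    intro i hi' hn G hG
    obtain ⟨E, π, hE, hπ⟩ := hres G hG.1 hG.2
    have hEc : Coh.IsCoh E := Lib.Perfect.Coherent.isCoh_of_isFinLocFree hE
    let S : ShortComplex X.Modules := ShortComplex.mk (kernel.ι π) π (kernel.condition π)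
    have hS : S.ShortExact :=
      { exact := ShortComplex.exact_of_f_is_kernel _ (kernelIsKernel π), epi_g := hπ }
    haveI : Subsingleton (Coh.HH X S.X₂ i) := h E hE i hn
    haveI : Subsingleton (Coh.HH X S.X₁ (i + 1)) :=
      ih (i + 1) (by omega) (by omega) _ (Lib.CohBasics.Closure.isCoh_kernel π hEc hG.1)
    refine subsingleton_of_forall_eq 0 fun x => ?_
    have hex := Lib.Curves.LES.postcomp_exact₃ (Lib.Curves.LES.cst X)
      (Lib.Curves.LES.shortExact_abSES hS) i (i + 1) rfl
    obtain ⟨y, rfl⟩ := (hex x).mp (@Subsingleton.elim _ ‹Subsingleton (Coh.HH X S.X₁ (i + 1))› _ _)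
    rw [@Subsingleton.elim _ ‹Subsingleton (Coh.HH X S.X₂ i)› y 0]
    exact map_zero _

end Groth.Agent.S10947
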