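import Groth.Statements.S10948
import Groth.Agent.Lib.CohDelta.IdealMul.FinGen

set_option autoImplicit false
set_option linter.style.haveILetI false
universe u
open CategoryTheory AlgebraicGeometry
open Coherent

namespace Groth.Agent.S10948

theorem bij_comp {Y : Scheme.{u}} {A B C : Y.Modules} (u : A ≅ B) (v : B ⟶ C) (y : Y)
    (hv : Function.Bijective (Groth.Agent.Lib.Modules.StalkModule.stalkMapₗ v y)) :
    Function.Bijective (Groth.Agent.Lib.Modules.StalkModule.stalkMapₗ (u.hom ≫ v) y) := by
  rw [Groth.Agent.Lib.Modules.StalkModule.stalkMapₗ_comp, LinearMap.coe_comp]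
  exact hv.comp ((Groth.Agent.Lib.Modules.StalkModule.isIso_iff_stalkMapₗ_bijective u.hom).mp
    inferInstance y)

/-- Let f : X → Y be a finite surjective morphism of integral Noetherian schemes. Then there are an
integer r ≥ 1, a coherent O_X-module M (quasi-coherent of finite type) and a morphism of O_Y-modules
α : O_Y^r → f_*M (O_Y^r the free O_Y-module on r generators) such that the map induced by α on
stalks of the underlying abelian sheaves at the generic point of Y is an isomorphism. -/
theorem result
    {X Y : Scheme.{u}} [IsIntegral X] [IsNoetherian X] [IsIntegral Y] [IsNoetherian Y]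
    (f : X ⟶ Y) [IsFinite f] [Surjective f] :
    ∃ (r : ℕ) (M : X.Modules) (α : (SheafOfModules.free (ULift.{u} (Fin r)) : Y.Modules) ⟶
        (Scheme.Modules.pushforward f).obj M),
      0 < r ∧ Coh.IsCoh M ∧
      IsIso ((TopCat.Presheaf.stalkFunctor AddCommGrpCat.{u} (genericPoint ↥Y)).map
        ((SheafOfModules.toSheaf Y.ringCatSheaf).map α).hom) := by
  obtain ⟨r, M, α, hr, hM, hα⟩ := Groth.Agent.Lib.CohDelta.IdealMul.FinGen.exists_free_to_push f
  let e : (SheafOfModules.free (ULift.{u} (Fin r)) : Y.Modules) ≅ FlatMod.freeMod Y r :=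
    Limits.Sigma.whiskerEquiv (f := fun _ : ULift.{u} (Fin r) => Coh.structureModule Y)
      (g := fun _ : Fin r => Coh.structureModule Y) Equiv.ulift (fun _ => Iso.refl _)
  refine ⟨r, M, e.hom ≫ α, hr, hM, ?_⟩
  rw [← Groth.Agent.Lib.CohDelta.IdealMul.FinGen.map_genericPoint f]
  refine (ConcreteCategory.isIso_iff_bijective _).mpr ?_
  show Function.Bijective (Groth.Agent.Lib.Modules.StalkModule.stalkMapₗ (e.hom ≫ α) (f (genericPoint X)))
  exact bij_comp e α _ hα

end Groth.Agent.S10948
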