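import Groth.Statements.S1095
import Groth.Agent.Lib.KoszulOrth36.Sheaf
import Groth.Agent.Lib.KoszulOrth36.Trunc
import Groth.Agent.Lib.KoszulOrth36.Qc
import Groth.Agent.S0998

set_option autoImplicit false
universe u
open CategoryTheory CategoryTheory.Limits AlgebraicGeometry Opposite
attribute [local instance] HasDerivedCategory.standard
open Perf

namespace Groth.Agent.S1095

/-- Let A be a ring, f₁, …, f_r ∈ A, X = Spec A, j : U ⟶ X the inclusion of the complement of V(f₁, …,
f_r), K the object of D(O_X) attached to the Koszul complex on f₁, …, f_r (in degrees −r, …, 0), E ∈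
D(O_X) with quasi-coherent cohomology sheaves and a ∈ ℤ. The restriction j^* and Rj_* are assumed to
exist, with an adjunction j^* ⊣ Rj_* given as data whose unit is the canonical map E ⟶ Rj_*(E|_U).
Then: if every morphism K[−n] ⟶ E with n ≤ a vanishes, τ_{≤a−1} of the unit at E is an isomorphism;
and if τ_{≤a−1} of the unit at E is an isomorphism, every morphism K[−n] ⟶ E with n ≤ a − 1
vanishes. (The published statement has τ_{≤a} in both clauses. With that index the first implication
is false, e.g. for A = ℤ, r = 1, f₁ = 2, E = O_X, a = 0: every K[−n] ⟶ E with n ≤ 0 vanishes, but H⁰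
of the unit is ℤ ⟶ ℤ[1/2]; the index a − 1 used here is the correct one. The second clause thereby
becomes slightly stronger than published (same conclusion from the weaker hypothesis at index a −
1); both clauses as stated here are sharp.) -/
theorem result (A : Type u) [CommRing A] (fs : List A) [PreservesFiniteLimits (tilde.functor (CommRingCat.of A))]
    [PreservesFiniteLimits (Scheme.Modules.restrictFunctor (LocCoh.puncturedOpen A (Ideal.span {a | a ∈ fs})).ι)] [DCoh.HasRpush (LocCoh.puncturedOpen A (Ideal.span {a | a ∈ fs})).ι]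
    (adj : DCoh.restrictD (LocCoh.puncturedOpen A (Ideal.span {a | a ∈ fs})).ι ⊣ DCoh.Rpush (LocCoh.puncturedOpen A (Ideal.span {a | a ∈ fs})).ι)
    (E : DCoh.D (Spec (CommRingCat.of A))) (hE : DCoh.IsQCohD E) (a : ℤ) :
    ((∀ n : ℤ, n ≤ a → ∀ φ : ((DCoh.tildeD (CommRingCat.of A)).obj (DerivedCategory.Q.obj (Koszul.koszul A fs)))⟦-n⟧ ⟶ E, φ = 0) →
      IsIso (((DerivedCategory.TStructure.t : CategoryTheory.Triangulated.TStructure (DCoh.D (Spec (CommRingCat.of A)))).truncLE (a - 1)).map (adj.unit.app E))) ∧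
    (IsIso (((DerivedCategory.TStructure.t : CategoryTheory.Triangulated.TStructure (DCoh.D (Spec (CommRingCat.of A)))).truncLE (a - 1)).map (adj.unit.app E)) →
      ∀ n : ℤ, n ≤ a - 1 → ∀ φ : ((DCoh.tildeD (CommRingCat.of A)).obj (DerivedCategory.Q.obj (Koszul.koszul A fs)))⟦-n⟧ ⟶ E, φ = 0) := by
  open Groth.Agent.Lib.KoszulOrth36 in
  let U := LocCoh.puncturedOpen A (Ideal.span {a | a ∈ fs})
  let t : CategoryTheory.Triangulated.TStructure (DCoh.D (Spec (CommRingCat.of A))) :=
    DerivedCategory.TStructure.t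
  refine ⟨fun h => ?_, fun h n hn φ => ?_⟩
  · have hR : DCoh.IsQCohD ((DCoh.Rpush U.ι).obj ((DCoh.restrictD U.ι).obj E)) := by
      haveI : QuasiCompact U.ι := Groth.Agent.Lib.KoszulOrth36.Qc.quasiCompact_ι A fs
      exact Groth.Agent.S0998.result U.ι _ (Groth.Agent.Lib.KoszulOrth36.Qc.isQCohD_restrict U E hE)
    obtain ⟨C, ι, δ, hT, htor⟩ := Groth.Agent.Lib.KoszulOrth36.Sheaf.exists_fibre A fs adj E hE hR
    refine Groth.Agent.Lib.KoszulOrth36.Trunc.isIso_truncLE_map _ _ fun i hi => ?_
    exact Groth.Agent.Lib.KoszulOrth36.Trunc.isIso_homologyMap_mor₂_of_isZero _ hT i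
      (Groth.Agent.Lib.KoszulOrth36.Sheaf.isZero_H_fibre A fs adj hT htor i (h i (by lia)))
      (Groth.Agent.Lib.KoszulOrth36.Sheaf.isZero_H_fibre A fs adj hT htor (i + 1) (h (i + 1) (by lia)))
  · let K := (DCoh.tildeD (CommRingCat.of A)).obj (DerivedCategory.Q.obj (Koszul.koszul A fs))
    haveI : K.IsLE 0 := Groth.Agent.Lib.KoszulOrth36.Sheaf.isLE_tildeD A
      (Groth.Agent.Lib.KoszulOrth36.Algebra.isLE_X fs)
    haveI : t.IsLE (K⟦-n⟧) n := t.isLE_shift K 0 (-n) n (by lia)
    haveI : t.IsLE (K⟦-n⟧) (a - 1) := t.isLE_of_le _ n (a - 1) hn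
    have h0 : φ ≫ adj.unit.app E = 0 :=
      @Subsingleton.elim _ (Groth.Agent.Lib.KoszulOrth36.Sheaf.subsingleton_hom_Rpush A fs adj (-n) _) _ _
    have h1 : t.liftTruncLE φ (a - 1) ≫ (t.truncLE (a - 1)).map (adj.unit.app E) = 0 := by
      apply t.to_truncLE_obj_ext
      rw [zero_comp, Category.assoc, (t.truncLEι (a - 1)).naturality (adj.unit.app E)]
      exact ((Category.assoc _ _ _).symm.trans (congrArg (· ≫ _) (t.liftTruncLE_ι φ (a - 1)))).trans h0
    haveI := h
    have h2 : t.liftTruncLE φ (a - 1) = 0 := zero_of_comp_mono _ h1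
    rw [← t.liftTruncLE_ι φ (a - 1), h2, zero_comp]

end Groth.Agent.S1095
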