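import Groth.Statements.S10953
import Mathlib.AlgebraicGeometry.Morphisms.Immersion
import Mathlib.AlgebraicGeometry.Morphisms.Separated
import Mathlib.AlgebraicGeometry.PullbackCarrier

set_option autoImplicit false
universe u
open RedSep

namespace Groth.Agent.S10953

open CategoryTheory

open AlgebraicGeometry CategoryTheory in
/-- For a morphism of schemes f : X → S to an affine scheme S such that any two points of X with the
same image in S lie in one common affine open subset of X, the morphism f is separated. -/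
theorem result {X S : Scheme.{u}} [IsAffine S] (f : X ⟶ S)
    (h : ∀ x y : X, f x = f y → ∃ U : X.Opens, IsAffineOpen U ∧ x ∈ U ∧ y ∈ U) :
    IsSeparated f := by
  constructor
  have hc : IsClosed (Set.range (Limits.pullback.diagonal f)) := by
    rw [← isOpen_compl_iff, isOpen_iff_forall_mem_open]
    intro z hz
    have hfz : f (Limits.pullback.fst f f z) = f (Limits.pullback.snd f f z) := by
      rw [← Scheme.Hom.comp_apply, ← Scheme.Hom.comp_apply, Limits.pullback.condition]
    obtain ⟨U, hU, hx, hy⟩ := h _ _ hfz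
    have : IsAffine U := hU
    let m : Limits.pullback (U.ι ≫ f) (U.ι ≫ f) ⟶ Limits.pullback f f :=
      Limits.pullback.map _ _ _ _ U.ι U.ι (𝟙 S) (by simp) (by simp)
    have e : Limits.pullback.diagonal (U.ι ≫ f) ≫ m = U.ι ≫ Limits.pullback.diagonal f := by
      apply Limits.pullback.hom_ext <;> simp only [m, Limits.pullback.map, Category.assoc] <;> simp [Limits.pullback.lift_fst, Limits.pullback.lift_snd]
    have hm : Set.range m = Limits.pullback.fst f f ⁻¹' (U : Set X) ∩ Limits.pullback.snd f f ⁻¹' (U : Set X) := by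
      simp [m, Scheme.Pullback.range_map]
    obtain ⟨z', rfl⟩ : z ∈ Set.range m := by rw [hm]; exact ⟨hx, hy⟩
    refine ⟨m '' (Set.range (Limits.pullback.diagonal (U.ι ≫ f)))ᶜ, ?_, m.isOpenEmbedding.isOpenMap _
      (Limits.pullback.diagonal (U.ι ≫ f)).isClosedEmbedding.isClosed_range.isOpen_compl, ?_⟩
    · rintro _ ⟨w, hw, rfl⟩ ⟨a, ha⟩
      have ha' : a ∈ U := by
        have : m w ∈ Set.range m := ⟨w, rfl⟩
        rw [hm, ← ha] at this
        have h1 := this.1
        rw [Set.mem_preimage, ← Scheme.Hom.comp_apply, Limits.pullback.diagonal_fst] at h1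
        exact h1
      refine hw ⟨⟨a, ha'⟩, m.isOpenEmbedding.injective ?_⟩
      have h2 : m (Limits.pullback.diagonal (U.ι ≫ f) (⟨a, ha'⟩ : (U : Scheme))) = Limits.pullback.diagonal f a :=
        congrArg (fun φ : (U : Scheme) ⟶ Limits.pullback f f => φ (⟨a, ha'⟩ : (U : Scheme))) e
      exact h2.trans ha
    · refine ⟨z', fun ⟨a, ha⟩ => hz ⟨U.ι a, ?_⟩, rfl⟩
      rw [← Scheme.Hom.comp_apply, ← e, Scheme.Hom.comp_apply, ha]
  exact IsClosedImmersion.of_isPreimmersion _ hc

end Groth.Agent.S10953
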