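import Groth.Statements.S10954
import Groth.Agent.Lib.ZarCoh.SerreAff

set_option autoImplicit false
universe u
open Coherent

namespace Groth.Agent.S10954

open AlgebraicGeometry CategoryTheory CategoryTheory.Limits Opposite in
/-- Let X be a quasi-compact scheme such that, for every short exact sequence 0 → F' → F → F'' → 0 of
quasi-coherent O_X-modules whose first term F' admits a monomorphism into a finite direct sum of
copies of O_X, taking global sections gives a surjection F(X) → F''(X). Then X is affine. (The
published statement is an equivalence of three conditions on a quasi-compact scheme; this row states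
the implication from exactness of global sections on such sequences to affineness.) -/
theorem result (X : Scheme.{u}) [CompactSpace X]
    (h : ∀ (S : ShortComplex X.Modules) (n : ℕ)
      (j : S.X₁ ⟶ ∏ᶜ (fun _ : Fin n => Coh.structureModule X)),
      S.ShortExact → Mono j → Coh.IsQCoh S.X₁ → Coh.IsQCoh S.X₂ → Coh.IsQCoh S.X₃ →
        Function.Surjective (S.g.val.app (op ⊤)).hom) :
    IsAffine X := by
  have hO : (Coh.structureModule X).IsQuasicoherent :=
    Groth.Agent.Lib.TensorMod.QCohInv.isQCoh_structureModule X
  refine ZarCoh.SerreAff.isAffine_of_surjective (fun K => ?_) (fun n f hf => ?_)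
  · have hQ : ((ClSub.quotMod K) : X.Modules).IsQuasicoherent := by
      have := Groth.Agent.Lib.TensorMod.QCohInv.isQCoh_structureModule K.subscheme
      exact Groth.Agent.Lib.QCoh.Pushforward.isQCoh_pushforward K.subschemeι
        (M := Coh.structureModule K.subscheme)
    have hI : (ClSub.idealMod K).IsQuasicoherent :=
      Groth.Agent.Lib.QCoh.Closure.isQCoh_kernel (ClSub.toSubscheme K)
    have := Groth.Agent.Lib.ClSub.Quot.mono_idealModι K
    let d : Coh.structureModule X ⟶ ∏ᶜ (fun _ : Fin 1 => Coh.structureModule X) :=
      CategoryTheory.Limits.Pi.lift fun _ => 𝟙 _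
    have : Mono d := mono_of_mono_fac
      (CategoryTheory.Limits.Pi.lift_π (fun _ : Fin 1 => 𝟙 (Coh.structureModule X)) 0)
    exact h (Groth.Agent.Lib.ClSub.Quot.idealSeq K) 1 (ClSub.idealModι K ≫ d)
      (Groth.Agent.Lib.ClSub.Quot.idealSeq_shortExact K) (mono_comp' ‹_› ‹_›) hI hO hQ
  · have hF := ZarCoh.SerreAff.isQCoh_free (X := X) n
    let S : ShortComplex X.Modules := ShortComplex.mk _ _
      (CategoryTheory.Limits.kernel.condition (ZarCoh.SerreAff.row f))
    have hS : S.ShortExact :=
      { exact := ShortComplex.exact_of_f_is_kernel _ (CategoryTheory.Limits.kernelIsKernel _)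
        mono_f := inferInstanceAs (Mono (CategoryTheory.Limits.kernel.ι (ZarCoh.SerreAff.row f)))
        epi_g := hf }
    exact h S n (CategoryTheory.Limits.kernel.ι (ZarCoh.SerreAff.row f)) hS inferInstance
      (Groth.Agent.Lib.QCoh.Closure.isQCoh_kernel _) hF hO

end Groth.Agent.S10954
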