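import Groth.Statements.S10956
import Mathlib.RingTheory.Kaehler.TensorProduct
-- import your own Groth.Agent.* helpers here

set_option autoImplicit false
universe u
open scoped TensorProduct
open CAlg

namespace Groth.Agent.S10956

attribute [local instance] Algebra.TensorProduct.rightAlgebra

/-- Let R be a commutative ring, A and B commutative R-algebras and T = A ⊗_R B, an A-algebra through
the left factor. There is a T-linear map r from Ω_{T/R} to T ⊗_A Ω_{A/R} sending d(a ⊗ b) to (1 ⊗ b)
⊗ da for all a in A and b in B, and together with the canonical map Ω_{T/R} → Ω_{T/A} it identifies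
Ω_{T/R} with the product (T ⊗_A Ω_{A/R}) × Ω_{T/A}. (The published statement is the isomorphism of
(Ω_{A/R} ⊗_R B) ⊕ (A ⊗_R Ω_{B/R}) with Ω_{T/R} matching the exterior differentials; it is stated
here through the canonical identifications T ⊗_A Ω_{A/R} = Ω_{A/R} ⊗_R B and Ω_{T/A} = A ⊗_R
Ω_{B/R}.) -/
theorem result (R A B : Type u) [CommRing R] [CommRing A] [CommRing B]
    [Algebra R A] [Algebra R B] :
    ∃ r : Ω[(A ⊗[R] B)⁄R] →ₗ[A ⊗[R] B] ((A ⊗[R] B) ⊗[A] Ω[A⁄R]),
      (∀ (a : A) (b : B), r (KaehlerDifferential.D R (A ⊗[R] B) (a ⊗ₜ[R] b)) =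
          ((1 : A) ⊗ₜ[R] b) ⊗ₜ[A] KaehlerDifferential.D R A a) ∧
        Function.Bijective (fun ω : Ω[(A ⊗[R] B)⁄R] =>
          (r ω, KaehlerDifferential.map R A (A ⊗[R] B) (A ⊗[R] B) ω)) := by
  let e := KaehlerDifferential.tensorKaehlerEquiv R B A (A ⊗[R] B)
  let r : Ω[(A ⊗[R] B)⁄R] →ₗ[A ⊗[R] B] ((A ⊗[R] B) ⊗[A] Ω[A⁄R]) :=
    e.symm.toLinearMap ∘ₗ KaehlerDifferential.map R B (A ⊗[R] B) (A ⊗[R] B)
  have hr : ∀ (a : A) (b : B), r (KaehlerDifferential.D R (A ⊗[R] B) (a ⊗ₜ[R] b)) =
      ((1 : A) ⊗ₜ[R] b) ⊗ₜ[A] KaehlerDifferential.D R A a := fun a b => by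
    simp only [r, LinearMap.comp_apply, LinearEquiv.coe_coe, KaehlerDifferential.map_D]
    exact KaehlerDifferential.tensorKaehlerEquiv_symm_D_tmul' R B A b a
  have hri : ∀ z, r (KaehlerDifferential.mapBaseChange R A (A ⊗[R] B) z) = z := by
    intro z
    induction z using TensorProduct.induction_on with
    | zero => simp
    | add x y hx hy => rw [map_add, map_add, hx, hy]
    | tmul t w =>
      rw [KaehlerDifferential.mapBaseChange_tmul, map_smul]
      have hw : w ∈ Submodule.span A (Set.range (KaehlerDifferential.D R A)) := by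
        rw [KaehlerDifferential.span_range_derivation]
        trivial
      induction hw using Submodule.span_induction with
      | mem v hv =>
        obtain ⟨a, rfl⟩ := hv
        rw [KaehlerDifferential.map_D, show algebraMap A (A ⊗[R] B) a = a ⊗ₜ[R] (1 : B) from rfl, hr,
          TensorProduct.smul_tmul', smul_eq_mul, ← Algebra.TensorProduct.one_def, mul_one]
      | zero => simp
      | add x y _ _ hx hy => rw [map_add, map_add, smul_add, hx, hy, TensorProduct.tmul_add]
      | smul c x _ hx =>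
        rw [map_smul, ← algebraMap_smul (A ⊗[R] B) c, map_smul, smul_comm, hx, algebraMap_smul,
          TensorProduct.tmul_smul]
  refine ⟨r, hr, ?_, ?_⟩
  · intro ω ω' h
    rw [← sub_eq_zero]
    simp only [Prod.mk.injEq] at h
    obtain ⟨z, hz⟩ := (KaehlerDifferential.exact_mapBaseChange_map R A (A ⊗[R] B) (ω - ω')).1
      (by rw [map_sub, h.2, sub_self])
    have h1 := hri z
    rw [hz, map_sub, h.1, sub_self] at h1
    rw [← hz, ← h1, map_zero]
  · rintro ⟨u, v⟩
    obtain ⟨ω, rfl⟩ := KaehlerDifferential.map_surjective R A (A ⊗[R] B) v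
    refine ⟨ω + KaehlerDifferential.mapBaseChange R A (A ⊗[R] B) (u - r ω), Prod.ext ?_ ?_⟩
    · simp [hri]
    · simp [(KaehlerDifferential.exact_mapBaseChange_map R A (A ⊗[R] B)).apply_apply_eq_zero]

end Groth.Agent.S10956
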