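import Groth.Statements.S10957
import Groth.Agent.Lib.Excellent.QuotientNormal


set_option autoImplicit false
universe u
open CAlg

namespace Groth.Agent.S10957

/-- Let A be a Noetherian local integral domain that is normal (integrally closed in its field of
fractions). If there is a nonzero element a of A such that the maximal ideal of A is an associated
prime of the A-module A/(a), then A is a discrete valuation ring. (The other conditions listed in
the published result — normal of dimension one, maximal ideal nonzero principal, regular of
dimension one — are the library's standard characterisations; this row records the criterion through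
an associated prime.) -/
theorem result
    (A : Type u) [CommRing A] [IsDomain A] [IsNoetherianRing A] [IsLocalRing A] [IsIntegrallyClosed A]
    (a : A) (ha : a ≠ 0)
    (hass : IsLocalRing.maximalIdeal A ∈ associatedPrimes A (A ⧸ Ideal.span ({a} : Set A))) :
    IsDiscreteValuationRing A := by
  have : Nontrivial (A ⧸ Ideal.span ({a} : Set A)) := by
    by_contra hc
    rw [not_nontrivial_iff_subsingleton] at hc
    simp [associatedPrimes.eq_empty_of_subsingleton] at hass
  have ham : a ∈ IsLocalRing.maximalIdeal A := fun hu =>
    Ideal.Quotient.nontrivial_iff.mp this (Ideal.span_singleton_eq_top.mpr hu)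
  obtain ⟨z, hz0, hz⟩ :=
    Groth.Agent.Lib.Excellent.QuotientNormal.exists_maximalIdeal_eq_span A ham ha hass
  have hnf : ¬ IsField A := fun hf => ha (by
    have := IsLocalRing.isField_iff_maximalIdeal_eq.mp hf
    rw [this] at ham
    exact ham)
  have hp : (IsLocalRing.maximalIdeal A).IsPrincipal := ⟨z, hz⟩
  exact ((IsDiscreteValuationRing.TFAE A hnf).out 4 0 rfl rfl).mp hp

end Groth.Agent.S10957
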