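import Groth.Statements.S10959
import Groth.Agent.H52.AvoidTrans

set_option autoImplicit false
universe u
open CategoryTheory MonoidalCategory CartesianMonoidalCategory MonObj GrpObj AlgebraicGeometry
open AbVar

namespace Groth.Agent.S10959

/-- Let K be an algebraically closed field and A an abelian variety over K (a group scheme over Spec K
with proper smooth structure morphism and irreducible underlying space). Let Z be a closed subset of
A which is not all of A, and z a K-valued point of A. Then there is a K-valued point x of A such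
that the point underlying z lies neither in the translate of Z by x nor in the translate of Z by the
inverse of x; here the translation by x is the morphism A → A given on points by a ↦ a·x, the
product of the identity and the constant map x in the group of morphisms into A. (The published
statement takes Z to be the support of an effective divisor; this row allows any closed subset other
than A.) -/
theorem result
    (K : Type u) [Field K] [IsAlgClosed K] (A : Over (Spec (CommRingCat.of K)))
    [GrpObj A] [IsProper A.hom] [Smooth A.hom] [IrreducibleSpace A.left]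
    (Z : Set A.left) (hZ : IsClosed Z) (hZne : Z ≠ Set.univ)
    (z : 𝟙_ (Over (Spec (CommRingCat.of K))) ⟶ A) :
    ∃ x : 𝟙_ (Over (Spec (CommRingCat.of K))) ⟶ A,
      Disjoint (Set.range z.left.base)
        ((𝟙 A * (toUnit A ≫ x)).left.base '' Z ∪ (𝟙 A * (toUnit A ≫ x)⁻¹).left.base '' Z) := by
  obtain ⟨x, hx₁, hx₂⟩ := Groth.Agent.H52.AvoidTrans.exists_point (⟨Zᶜ, hZ.isOpen_compl⟩ : A.left.Opens)
    (Set.nonempty_compl.2 hZne) z
  refine ⟨x, Set.disjoint_left.2 ?_⟩
  rintro _ ⟨c, rfl⟩ hmem
  have hc : z.left.base c = Groth.Agent.Lib.GrpQ.MonoClosed.ptOf z := by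
    haveI : Subsingleton (𝟙_ (Over (Spec (CommRingCat.of K)))).left :=
      inferInstanceAs (Subsingleton (PrimeSpectrum K))
    rw [Subsingleton.elim c (IsLocalRing.closedPoint K : (𝟙_ (Over (Spec (CommRingCat.of K)))).left)]
    rfl
  rw [hc] at hmem
  have hinv : (toUnit A ≫ x)⁻¹ = toUnit A ≫ x⁻¹ := (GrpObj.comp_inv _ _).symm
  have key : ∀ (y : 𝟙_ (Over (Spec (CommRingCat.of K))) ⟶ A) (a : A.left),
      (𝟙 A * (toUnit A ≫ y)).left a = Groth.Agent.Lib.GrpQ.MonoClosed.ptOf z →
        a = Groth.Agent.Lib.GrpQ.MonoClosed.ptOf (z * y⁻¹) := fun y a ha => by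
    have e : (𝟙 A * (toUnit A ≫ y)) ≫ (𝟙 A * (toUnit A ≫ y⁻¹)) = 𝟙 A := by
      rw [MonObj.comp_mul, Category.comp_id, comp_toUnit_assoc, GrpObj.comp_inv, mul_inv_cancel_right]
    rw [← Groth.Agent.H52.AvoidTrans.transl_apply y⁻¹ z, ← ha]
    rw [← Scheme.Hom.comp_apply, ← Over.comp_left, e]
    rfl
  rcases hmem with ⟨a, ha, h⟩ | ⟨a, ha, h⟩
  · exact hx₂ (key x a h ▸ ha)
  · rw [hinv] at h
    have e := key x⁻¹ a h
    rw [_root_.inv_inv] at e
    exact hx₁ (e ▸ ha)

end Groth.Agent.S10959
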