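import Groth.Statements.S1096
import Groth.Agent.Lib.KoszulOrth36.Sheaf
import Groth.Agent.Lib.KoszulOrth36.Trunc
import Groth.Agent.Lib.KoszulOrth36.Qc
import Groth.Agent.S0998

set_option autoImplicit false
universe u
open CategoryTheory CategoryTheory.Limits AlgebraicGeometry Opposite
attribute [local instance] HasDerivedCategory.standard
open Perf

namespace Groth.Agent.S1096

/-- Let A be a ring, f₁, …, f_r ∈ A, X = Spec A, j : U ⟶ X the inclusion of the complement of V(f₁, …,
f_r), K the object of D(O_X) attached to the Koszul complex on f₁, …, f_r (in degrees −r, …, 0), E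
an object of D(O_X) with quasi-coherent cohomology sheaves, and a ∈ ℤ; the adjunction j^* ⊣ Rj_* is
given as data, with unit the canonical map E ⟶ Rj_*(E|_U). Then: if every morphism K[−n] ⟶ E with n
≥ a vanishes, τ_{≥ a} of the unit at E is an isomorphism; and if τ_{≥ a} of the unit at E is an
isomorphism, then every morphism K[−n] ⟶ E with n ≥ a + r vanishes, where r is the length of the
list (f₁, …, f_r). (The published statement gives the second clause with the bound a + 1 in place of
a + r. For r ≥ 2 that is false, e.g. for A = k[x, y], (f₁, f₂) = (x, y) and E the residue field k =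
A/(x, y) placed in degree a − 1; the bound a + r is true and sharp.) -/
theorem result (A : Type u) [CommRing A] (fs : List A) [PreservesFiniteLimits (tilde.functor (CommRingCat.of A))]
    [PreservesFiniteLimits (Scheme.Modules.restrictFunctor (LocCoh.puncturedOpen A (Ideal.span {a | a ∈ fs})).ι)] [DCoh.HasRpush (LocCoh.puncturedOpen A (Ideal.span {a | a ∈ fs})).ι]
    (adj : DCoh.restrictD (LocCoh.puncturedOpen A (Ideal.span {a | a ∈ fs})).ι ⊣ DCoh.Rpush (LocCoh.puncturedOpen A (Ideal.span {a | a ∈ fs})).ι)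
    (E : DCoh.D (Spec (CommRingCat.of A))) (hE : DCoh.IsQCohD E) (a : ℤ) :
    ((∀ n : ℤ, a ≤ n → ∀ φ : ((DCoh.tildeD (CommRingCat.of A)).obj (DerivedCategory.Q.obj (Koszul.koszul A fs)))⟦-n⟧ ⟶ E, φ = 0) →
      IsIso (((DerivedCategory.TStructure.t : CategoryTheory.Triangulated.TStructure (DCoh.D (Spec (CommRingCat.of A)))).truncGE a).map (adj.unit.app E))) ∧
    (IsIso (((DerivedCategory.TStructure.t : CategoryTheory.Triangulated.TStructure (DCoh.D (Spec (CommRingCat.of A)))).truncGE a).map (adj.unit.app E)) →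
      ∀ n : ℤ, a + (fs.length : ℤ) ≤ n → ∀ φ : ((DCoh.tildeD (CommRingCat.of A)).obj (DerivedCategory.Q.obj (Koszul.koszul A fs)))⟦-n⟧ ⟶ E, φ = 0) := by
  let U := LocCoh.puncturedOpen A (Ideal.span {a | a ∈ fs})
  let t : CategoryTheory.Triangulated.TStructure (DCoh.D (Spec (CommRingCat.of A))) :=
    DerivedCategory.TStructure.t
  refine ⟨fun h => ?_, fun h n hn φ => ?_⟩
  · have hR : DCoh.IsQCohD ((DCoh.Rpush U.ι).obj ((DCoh.restrictD U.ι).obj E)) := by
      haveI : QuasiCompact U.ι := Groth.Agent.Lib.KoszulOrth36.Qc.quasiCompact_ι A fs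
      exact Groth.Agent.S0998.result U.ι _ (Groth.Agent.Lib.KoszulOrth36.Qc.isQCohD_restrict U E hE)
    obtain ⟨C, ι, δ, hT, htor⟩ := Groth.Agent.Lib.KoszulOrth36.Sheaf.exists_fibre A fs adj E hE hR
    refine Groth.Agent.Lib.KoszulOrth36.Trunc.isIso_truncGE_map _ _ fun i hi => ?_
    exact Groth.Agent.Lib.KoszulOrth36.Trunc.isIso_homologyMap_mor₂_of_isZero _ hT i
      (Groth.Agent.Lib.KoszulOrth36.Sheaf.isZero_H_fibre A fs adj hT htor i (h i hi))
      (Groth.Agent.Lib.KoszulOrth36.Sheaf.isZero_H_fibre A fs adj hT htor (i + 1) (h (i + 1) (by lia)))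
  · have h0 : φ ≫ adj.unit.app E = 0 :=
      @Subsingleton.elim _ (Groth.Agent.Lib.KoszulOrth36.Sheaf.subsingleton_hom_Rpush A fs adj (-n) _) _ _
    haveI := h
    have h1 : φ ≫ (t.truncGEπ a).app E = 0 := by
      apply zero_of_comp_mono ((t.truncGE a).map (adj.unit.app E))
      rw [Category.assoc, t.truncGEπ_naturality]
      exact (Category.assoc _ _ _).symm.trans ((congrArg (· ≫ _) h0).trans zero_comp)
    obtain ⟨ψ, hψ⟩ := Pretriangulated.Triangle.coyoneda_exact₂ _ (t.triangleLTGE_distinguished a E) φ h1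
    obtain ⟨Y, ⟨e⟩⟩ := Groth.Agent.Lib.DerivedOX.TildeEquiv.exists_preimage (CommRingCat.of A)
      ((t.truncLT a).obj E) (Groth.Agent.Lib.WayOut.Bounded.hasP_truncLT
        (P := Groth.Agent.Lib.WayOut.Scheme.qc _) hE a)
    haveI hLT : ((t.truncLT a).obj E).IsLE (a - 1) := (inferInstance : t.IsLE ((t.truncLT a).obj E) (a - 1))
    have hY : Y.IsLE (a - 1) := Groth.Agent.Lib.KoszulOrth36.Sheaf.isLE_preimage A
      (Groth.Agent.Lib.DR.Basic.isLE_of_iso' e.symm hLT)
    haveI := Groth.Agent.Lib.KoszulOrth36.Algebra.subsingleton_hom_of_isLE fs Y (a - 1) hY n (by lia)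
    haveI := Groth.Agent.Lib.DerivedOX.TildeEquiv.full (CommRingCat.of A)
    have : Subsingleton (((DCoh.tildeD (CommRingCat.of A)).obj
        (DerivedCategory.Q.obj (Koszul.koszul A fs)))⟦-n⟧ ⟶ (t.truncLT a).obj E) := by
      have hs : Subsingleton ((DCoh.tildeD (CommRingCat.of A)).obj
          ((DerivedCategory.Q.obj (Koszul.koszul A fs))⟦-n⟧) ⟶
          (DCoh.tildeD (CommRingCat.of A)).obj Y) :=
        (DCoh.tildeD (CommRingCat.of A)).map_surjective.subsingleton
      exact @Equiv.subsingleton _ _ (Iso.homCongr (((DCoh.tildeD (CommRingCat.of A)).commShiftIso (-n)).app _) e).symm hs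
    rw [hψ]
    exact (congrArg (· ≫ _) (@Subsingleton.elim _ this ψ 0)).trans zero_comp

end Groth.Agent.S1096
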