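import Groth.Statements.S10961
import Groth.Agent.Lib.MeroK.Extend
import Groth.Agent.Lib.MeroK.LocFin
import Groth.Agent.Lib.MeroK.RegMero

set_option autoImplicit false
universe u
open CategoryTheory AlgebraicGeometry TopologicalSpace
open Mero

namespace Groth.Agent.S10961

open Groth.Agent.Lib Groth.Agent.Lib.AssPt.Basic Groth.Agent.Lib.MeroK

theorem maximal_of_mem_irreducibleComponents {X : Scheme.{u}} {x : X}
    (h : closure ({x} : Set X) ∈ irreducibleComponents (X : Type u)) : ∀ y : X, y ⤳ x → y = x := by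
  intro y hy
  have h1 : closure ({x} : Set X) ⊆ closure {y} :=
    closure_minimal (Set.singleton_subset_iff.mpr (specializes_iff_mem_closure.mp hy)) isClosed_closure
  have h2 : closure ({y} : Set X) ⊆ closure {x} := h.2 isIrreducible_singleton.closure h1
  exact (hy.antisymm (specializes_iff_mem_closure.mpr (h2 (subset_closure rfl)))).eq

theorem isField_stalk {X : Scheme.{u}} [IsReduced X] {x : X} (hx : ∀ y : X, y ⤳ x → y = x) :
    IsField (X.presheaf.stalk x) := by
  rw [IsLocalRing.isField_iff_maximalIdeal_eq, eq_bot_iff]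
  intro z hz
  obtain ⟨U, hU, hxU, -⟩ := exists_isAffineOpen_mem_and_subset (show x ∈ (⊤ : X.Opens) from trivial)
  letI := X.presheaf.algebra_section_stalk ⟨x, hxU⟩
  haveI := hU.isLocalization_stalk ⟨x, hxU⟩
  obtain ⟨a, s, rfl⟩ := IsLocalization.exists_mk'_eq (hU.primeIdealOf ⟨x, hxU⟩).asIdeal.primeCompl z
  have ha : a ∈ (hU.primeIdealOf ⟨x, hxU⟩).asIdeal :=
    (IsLocalization.AtPrime.mk'_mem_maximal_iff (X.presheaf.stalk x) _ a s).mp hz
  have h0 : algebraMap Γ(X, U) (X.presheaf.stalk x) a = 0 :=
    IsNilpotent.eq_zero (RegMero.isNilpotent_of_maximalPoint hU hxU hx ha :)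
  rw [Submodule.mem_bot]
  refine (IsLocalization.mk'_eq_zero_iff a s).mpr ?_
  exact (IsLocalization.map_eq_zero_iff _ _ a).mp h0

theorem bijective_algebraMap_KStalk {X : Scheme.{u}} {x : X} (h : IsField (X.presheaf.stalk x)) :
    Function.Bijective (algebraMap (X.presheaf.stalk x) (Mero.KStalk X x)) := by
  let e := IsLocalization.atUnits (X.presheaf.stalk x) (Mero.regStalk X x)
    (S := Mero.KStalk X x) (fun r hr => by
      obtain ⟨r', hr'⟩ := h.mul_inv_cancel
        (nonZeroDivisors.ne_zero (Mero.regStalk_le_nonZeroDivisors x hr))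
      exact IsUnit.of_mul_eq_one r' hr')
  rw [show (algebraMap (X.presheaf.stalk x) (Mero.KStalk X x) : _ → _) = e from
    funext fun r => (e.commutes r).symm]
  exact e.bijective

theorem finite_maximalPoints_of_finite {X : Scheme.{u}}
    (hfin : (irreducibleComponents (X : Type u)).Finite) :
    {y : X | ∀ z : X, z ⤳ y → z = y}.Finite := by
  refine Set.Finite.of_finite_image (f := fun y : X => closure ({y} : Set X))
    (hfin.subset ?_) ?_
  · rintro _ ⟨y, hy, rfl⟩
    exact LocFin.closure_mem_irreducibleComponents hy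
  · intro y hy z _ h
    have hmem : y ∈ closure ({z} : Set X) := by
      simp only at h
      rw [← h]; exact subset_closure rfl
    exact (hy z (specializes_iff_mem_closure.mpr hmem)).symm

theorem exists_maximal {X : Scheme.{u}} (y : X) :
    ∃ z : X, z ⤳ y ∧ ∀ w : X, w ⤳ z → w = z := by
  obtain ⟨U, hU, hyU, -⟩ := exists_isAffineOpen_mem_and_subset
    (show y ∈ (⊤ : X.Opens) from trivial)
  obtain ⟨q, hq, hqle⟩ := Ideal.exists_minimalPrimes_le (I := (⊥ : Ideal Γ(X, U)))
    (J := (hU.primeIdealOf ⟨y, hyU⟩).asIdeal) bot_le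
  haveI : q.IsPrime := hq.1.1
  obtain ⟨z, hz, rfl⟩ := exists_point_of_prime hU q
  exact ⟨z, (specializes_iff_primeIdealOf hU hyU hz).mpr hqle,
    (maximalPoint_iff_minimalPrime hU hz).mpr hq⟩


/-- Let X be a reduced scheme with only finitely many irreducible components, with generic points x_1,
…, x_r, and let U be an open subset of X. Then the ring of sections over U of the sheaf of
meromorphic functions K_X maps bijectively, by evaluation, onto the product of the rings K_{X,x_i}
over those generic points x_i that lie in U; moreover for each generic point x_i the local ring of X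
at x_i is a field and maps bijectively onto K_{X,x_i}, so that K_{X,x_i} is the residue field of
x_i. (The hypothesis holds for every Noetherian scheme; for X integral it says that K_X is the
constant sheaf with value the function field.) -/
theorem result
    (X : Scheme.{u}) [IsReduced X] (hfin : (irreducibleComponents (X : Type u)).Finite) (U : X.Opens) :
    Function.Bijective (fun s : Γ(Mero.kmod X, U) =>
      fun x : {x : U // closure ({x.1} : Set X) ∈ irreducibleComponents (X : Type u)} =>
        Mero.evalK X U x.1 s) ∧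
    (∀ x : X, closure ({x} : Set X) ∈ irreducibleComponents (X : Type u) →
      IsField (X.presheaf.stalk x) ∧
        Function.Bijective (algebraMap (X.presheaf.stalk x) (Mero.KStalk X x))) := by
  classical
  refine ⟨⟨?_, ?_⟩, fun x hx => ⟨isField_stalk (maximal_of_mem_irreducibleComponents hx),
    bijective_algebraMap_KStalk (isField_stalk (maximal_of_mem_irreducibleComponents hx))⟩⟩
  · intro s s' h
    rw [← sub_eq_zero]
    refine Subtype.ext (funext fun y => ?_)
    obtain ⟨W, hW, hyW, a, b, hab⟩ := Basic.exists_rep (s - s') y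
    have ha : a = 0 := eq_zero_of_germ_eq_zero_maxAssoc a fun z hz hass => by
      have hz' : closure ({z} : Set X) ∈ irreducibleComponents (X : Type u) :=
        LocFin.closure_mem_irreducibleComponents ((maxAssoc_iff_maximalPoint z).mp hass)
      refine Mero.algebraMap_KStalk_injective z ?_
      rw [map_zero, ← hab z hz]
      have h1 : Mero.evalK X U ⟨z, hW hz⟩ s = Mero.evalK X U ⟨z, hW hz⟩ s' :=
        congrFun h ⟨⟨z, hW hz⟩, hz'⟩
      change Mero.evalK X U ⟨z, hW hz⟩ (s - s') * _ = 0
      rw [map_sub, h1, sub_self, zero_mul]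
    have h2 := hab y.1 hyW
    rw [ha, map_zero, map_zero, Basic.mul_algebraMap_regStalk_eq_zero_iff
      (Mero.germ_mem_regStalk ⟨y.1, hyW⟩ b.2)] at h2
    exact h2
  · intro v
    let F : Set X := {y | y ∈ U ∧ ∀ z : X, z ⤳ y → z = y}
    have hF : F.Finite := (finite_maximalPoints_of_finite hfin).subset fun y hy => hy.2
    have hloc : ∀ i : F, ∃ (W : X.Opens) (_ : i.1 ∈ W) (_ : W ≤ U) (c : Γ(X, W)),
        (∀ z ∈ W, ∀ m ∈ F, m ⤳ z → m = i.1) ∧
        ∀ hi : i.1 ∈ W, algebraMap (X.presheaf.stalk i.1) (Mero.KStalk X i.1)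
          (X.presheaf.germ W i.1 hi c) =
          v ⟨⟨i.1, i.2.1⟩, LocFin.closure_mem_irreducibleComponents i.2.2⟩ := by
      intro i
      obtain ⟨r, hr⟩ := (bijective_algebraMap_KStalk (isField_stalk i.2.2)).2
        (v ⟨⟨i.1, i.2.1⟩, LocFin.closure_mem_irreducibleComponents i.2.2⟩)
      obtain ⟨W, hiW, c, hc⟩ := X.presheaf.exists_germ_eq r
      let C : Set X := ⋃ m ∈ {m ∈ F | m ≠ i.1}, closure {m}
      have hC : IsClosed C :=
        (hF.subset fun m hm => hm.1).isClosed_biUnion fun _ _ => isClosed_closure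
      let W' : X.Opens := W ⊓ U ⊓ ⟨Cᶜ, hC.isOpen_compl⟩
      have hiC : i.1 ∉ C := fun hc => by
        obtain ⟨m, hm, him⟩ := Set.mem_iUnion₂.mp hc
        exact hm.2 (i.2.2 m (specializes_iff_mem_closure.mpr him))
      refine ⟨W', ⟨⟨hiW, i.2.1⟩, hiC⟩, inf_le_left.trans inf_le_right,
        X.presheaf.map (homOfLE (inf_le_left.trans inf_le_left : W' ≤ W)).op c,
        fun z hz m hm hmz => ?_, fun hi => ?_⟩
      · by_contra hne
        exact hz.2 (Set.mem_iUnion₂.mpr ⟨m, ⟨hm, hne⟩, specializes_iff_mem_closure.mp hmz⟩)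
      · rw [TopCat.Presheaf.germ_res_apply, hc, hr]
    choose W hiW hWU c hsep hval using hloc
    obtain ⟨g, hg, -⟩ := TopCat.Sheaf.existsUnique_gluing' X.sheaf W (iSup W)
      (fun i => homOfLE (le_iSup W i)) le_rfl c fun i j => by
        refine TopCat.Presheaf.section_ext X.sheaf _ _ _ fun z hz => ?_
        obtain ⟨m, hmz, hm⟩ := exists_maximal z
        have hmF : m ∈ F := ⟨hmz.mem_open U.isOpen (hWU i hz.1), hm⟩
        obtain rfl : i = j := Subtype.ext
          ((hsep i z hz.1 m hmF hmz).symm.trans (hsep j z hz.2 m hmF hmz))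
        rfl
    have hVU : iSup W ≤ U := iSup_le hWU
    obtain ⟨s, hs⟩ := Extend.exists_kmod_extend hVU
      (fun W' _ _ => (finite_maximalPoints_of_finite hfin).subset
        fun y hy => (maxAssoc_iff_maximalPoint y).mp hy.2)
      (fun y hy ha => Opens.mem_iSup.mpr
        ⟨⟨y, hy, (maxAssoc_iff_maximalPoint y).mp ha⟩, hiW _⟩) g
    refine ⟨s, funext fun x => ?_⟩
    have hxF : x.1.1 ∈ F := ⟨x.1.2, maximal_of_mem_irreducibleComponents x.2⟩
    let i : F := ⟨x.1.1, hxF⟩
    have hxV : x.1.1 ∈ iSup W := Opens.mem_iSup.mpr ⟨i, hiW i⟩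
    have h1 : Mero.evalK X U x.1 s = (Mero.toK X (iSup W) g).1 ⟨x.1.1, hxV⟩ := by
      rw [← hs]; rfl
    change Mero.evalK X U x.1 s = v x
    rw [h1, Basic.toK_eq_algebraMap]
    refine Eq.trans (congrArg _ ?_) (hval i (hiW i))
    have h2 := congrArg (X.presheaf.germ (W i) x.1.1 (hiW i)) (hg i)
    change X.presheaf.germ (W i) x.1.1 (hiW i) (X.presheaf.map _ g) = _ at h2
    rw [TopCat.Presheaf.germ_res_apply] at h2
    exact h2

end Groth.Agent.S10961
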