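import Groth.Statements.S10962
import Groth.Agent.S0844
import Groth.Agent.Lib.Ample.GG
import Groth.Agent.Lib.Ample.Pow
import Groth.Agent.Lib.ProjCoh.Coherent
import Groth.Agent.Lib.ProjSpace.Basic
import Groth.Agent.Lib.Curves.GlobalSections
import Mathlib.RingTheory.Spectrum.Prime.Basic

set_option autoImplicit false
universe u
open CategoryTheory CategoryTheory.Limits AlgebraicGeometry TopologicalSpace
open SDiv

namespace Groth.Agent.S10962

section
open Groth.Agent.Lib Groth.Agent.Lib.ProjCoh.Coherent Groth.Agent.Lib.TensorMod.Basic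
  Groth.Agent.Lib.Ample.GenLocus Groth.Agent.Lib.TensorMod.Dual

variable {n : ℕ} {R : Type u} [CommRing R]

theorem twPow (d : ℤ) : ∀ k : ℕ, Nonempty (CohB1.tensorPow (tw n R d) k ≅ tw n R ((k : ℤ) * d))
  | 0 => by
    obtain ⟨i⟩ := ProjTilde.Tensor.twist_iso_tensorPow (𝒜 := CohB1.polyGrading n R) hcov 0
    exact ⟨i.symm ≪≫ eqToIso (congrArg (tw n R) (by simp))⟩
  | k + 1 => by
    obtain ⟨i⟩ := twPow d k
    exact ⟨tensorIso i (Iso.refl _) ≪≫ ProjTilde.Tensor.twistTensorIso hcov _ d ≪≫
      eqToIso (congrArg (tw n R) (by push_cast; ring))⟩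

theorem nonempty_projSpace [Nontrivial R] : Nonempty (CohB1.ProjSpace n R) := by
  haveI := ProjSpace.Basic.surjective_toSpec n R
  obtain ⟨p⟩ : Nonempty (Spec (CommRingCat.of R)) := inferInstanceAs (Nonempty (PrimeSpectrum R))
  exact ⟨((CohB1.ProjSpace.toSpec n R).surjective p).choose⟩

theorem not_isAmple (hn : 0 < n) [Nontrivial R] {d : ℤ} (hd : d ≤ 0) : ¬ CohB1.IsAmple (tw n R d) := by
  intro h
  haveI : QuasiSeparatedSpace (CohB1.ProjSpace n R) := by
    haveI := ProjSpace.Basic.isProper_toSpec n R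
    exact quasiSeparatedSpace_of_quasiSeparated (CohB1.ProjSpace.toSpec n R)
  obtain ⟨x⟩ := nonempty_projSpace (n := n) (R := R)
  obtain ⟨m, hm⟩ := Ample.GG.eventually_genAt_twist h (tw n R (-1))
    (Ample.GG.isCoh_of_isInvertible (isInvertible_tw (-1)))
  obtain ⟨i⟩ := twPow (n := n) (R := R) d m
  let c : ℤ := -1 + (m : ℤ) * d
  have hc : c < 0 := by
    have : (m : ℤ) * d ≤ 0 := mul_nonpos_of_nonneg_of_nonpos (Int.natCast_nonneg m) hd
    omega
  have hg : Ample.GG.GenAt (tw n R c) x := (hm m le_rfl x).of_iso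
    (tensorIso (Iso.refl _) i ≪≫ ProjTilde.Tensor.twistTensorIso hcov (-1) ((m : ℤ) * d))
  obtain ⟨s, hs⟩ := Ample.GG.exists_genLocus_of_genAt (isInvertible_tw c) hg
  haveI : Subsingleton (Coh.HH (CohB1.ProjSpace n R) (tw n R c) 0) :=
    Groth.Agent.S0844.result R n c 0 (by omega) (by omega)
  haveI : Subsingleton Γ(tw n R c, ⊤) :=
    (Curves.GlobalSections.h0Equiv (tw n R c)).symm.toEquiv.subsingleton
  obtain ⟨U, hxU, hU⟩ := (mem_genLocus_iff s).1 hs
  rw [← rs_sv s (le_top : U ≤ ⊤), Subsingleton.elim (sv s ⊤) 0,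
    show rs (tw n R c) (le_top : U ≤ ⊤) 0 = 0 from map_zero _] at hU
  have h01 : (1 : Γ(CohB1.ProjSpace n R, U)) = 0 := (hU U le_rfl).1 (by simp)
  have := congrArg ((CohB1.ProjSpace n R).presheaf.germ U x hxU) h01
  rw [map_one, map_zero] at this
  exact one_ne_zero this

theorem isAmple_pos {d : ℤ} (hd : 0 < d) : CohB1.IsAmple (tw n R d) := by
  obtain ⟨k, rfl⟩ : ∃ k : ℕ, d = k := ⟨d.toNat, by omega⟩
  obtain ⟨i⟩ := ProjTilde.Tensor.twist_iso_tensorPow (𝒜 := CohB1.polyGrading n R) hcov k
  have h2 := (Ample.Pow.isAmple_tensorPow_iff (L := tw n R 1) (isInvertible_tw 1) (n := k)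
    (by omega)).1 (HProj.QuasiProj.isAmple_twist_projSpace n R)
  exact Ample.Pow.isAmple_of_iso (X := CohB1.ProjSpace n R) (M := tw n R (k : ℤ)) i.symm h2

end

/-- Let R be a nonzero ring and n ≥ 1, and let X be projective n-space over R. For an integer d, the
Serre twist O_X(d) is ample if and only if d > 0. (Ample is taken in the sense that X is
quasi-compact and covered by the affine open non-vanishing loci X_s of global sections s of positive
tensor powers; for the quasi-compact separated scheme X this agrees with the definition through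
finitely many generating sections with quasi-affine non-vanishing loci. The published remark also
asserts that O_X(d) is very ample relative to R for d > 0; that clause is not part of this row.) -/
theorem result (R : Type u) [CommRing R] [Nontrivial R] (n : ℕ) (hn : 1 ≤ n) (d : ℤ) :
    CohB1.IsAmple (Twist.twistProjSpace n R d) ↔ 0 < d := by
  refine ⟨fun h => ?_, fun h => isAmple_pos h⟩
  by_contra hd
  exact not_isAmple hn (not_lt.1 hd) h

end Groth.Agent.S10962
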