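import Groth.Statements.S10964
import Groth.Agent.Lib.TensorMod.HomGlue

set_option autoImplicit false
universe u
open CategoryTheory AlgebraicGeometry TopologicalSpace Opposite
open PicF

namespace Groth.Agent.S10964

open Groth.Agent.Lib.TensorMod

/-- Let X be a scheme with an open cover (U_i)_{i ∈ ι}. Let L and L' be O_X-modules with sections s_i of
L and s'_i of L' over U_i that generate there (for every open V ⊆ U_i, r ↦ r · s_i|_V is a bijection
from functions on V onto sections of L over V, and likewise for s'_i), and let η_ij, η'_ij be the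
functions on U_i ∩ U_j with s_i = η_ij · s_j and s'_i = η'_ij · s'_j there. Then L and L' are
isomorphic as O_X-modules if and only if there is a family of units u_i of the rings of functions on
the U_i with η'_ij · u_i|_{U_i ∩ U_j} = u_j|_{U_i ∩ U_j} · η_ij for all i, j. (So two invertible
modules trivialised by the cover are isomorphic exactly when their transition cocycles define the
same Čech cohomology class.) -/
theorem result (X : Scheme.{u}) {ι : Type u} (U : ι → X.Opens)
    (hU : iSup U = ⊤) (L L' : X.Modules) (s : ∀ i : ι, Γ(L, U i)) (s' : ∀ i : ι, Γ(L', U i))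
    (hs : ∀ (i : ι) (V : X.Opens) (h : V ≤ U i),
        Function.Bijective (fun r : Γ(X, V) => r • L.presheaf.map (homOfLE h).op (s i)))
    (hs' : ∀ (i : ι) (V : X.Opens) (h : V ≤ U i),
        Function.Bijective (fun r : Γ(X, V) => r • L'.presheaf.map (homOfLE h).op (s' i)))
    (η η' : ∀ i j : ι, Γ(X, U i ⊓ U j))
    (hη : ∀ i j : ι, L.presheaf.map (homOfLE (inf_le_left : U i ⊓ U j ≤ U i)).op (s i) =
        η i j • L.presheaf.map (homOfLE (inf_le_right : U i ⊓ U j ≤ U j)).op (s j))
    (hη' : ∀ i j : ι, L'.presheaf.map (homOfLE (inf_le_left : U i ⊓ U j ≤ U i)).op (s' i) =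
        η' i j • L'.presheaf.map (homOfLE (inf_le_right : U i ⊓ U j ≤ U j)).op (s' j)) :
    Nonempty (L ≅ L') ↔ ∃ u : ∀ i : ι, (Γ(X, U i))ˣ, ∀ i j : ι,
      η' i j * X.presheaf.map (homOfLE (inf_le_left : U i ⊓ U j ≤ U i)).op (u i : Γ(X, U i)) =
        X.presheaf.map (homOfLE (inf_le_right : U i ⊓ U j ≤ U j)).op (u j : Γ(X, U j)) * η i j := by
  constructor
  · rintro ⟨φ⟩
    choose a ha using fun i => (hs' i (U i) le_rfl).2 (φ.hom.app (U i) (s i))
    choose b hb using fun i => (hs i (U i) le_rfl).2 (φ.inv.app (U i) (s' i))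
    simp only [Dual.rs_self] at ha hb
    have hab : ∀ i, a i * b i = 1 := by
      intro i
      have h2 : b i • φ.hom.app (U i) (s i) = s' i := by
        rw [← Scheme.Modules.Hom.app_smul, hb]
        exact congrArg (fun t : L' ⟶ L' => t.app (U i) (s' i)) φ.inv_hom_id
      rw [← ha i, smul_smul, mul_comm] at h2
      refine (hs' i (U i) le_rfl).1 ?_
      simpa only [Dual.rs_self, one_smul] using h2
    refine ⟨fun i => ⟨a i, b i, hab i, (mul_comm _ _).trans (hab i)⟩, fun i j => ?_⟩
    have h := congrArg (fun t => φ.hom.app (U i ⊓ U j) t) (hη i j)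
    simp only [Scheme.Modules.Hom.app_smul] at h
    rw [← HomGlue.rs_app, ← HomGlue.rs_app, ← ha i, ← ha j, Dual.rs_smul, Dual.rs_smul,
      show Dual.rs L' inf_le_left (s' i) = _ from hη' i j, smul_smul, smul_smul] at h
    exact ((mul_comm _ _).trans ((hs' j (U i ⊓ U j) inf_le_right).1 h)).trans (mul_comm _ _)
  · rintro ⟨u, hu⟩
    have hgen : ∀ i, Gen.IsGen L' (U i) ((u i : Γ(X, U i)) • s' i) := fun i V h => by
      have hu' : IsUnit (Dual.rf h (u i : Γ(X, U i))) := (u i).isUnit.map _
      have := (hs' i V h).comp (Units.mulRight hu'.unit).bijective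
      convert this using 1
      funext r
      simp [Dual.rs_smul, smul_smul]
    suffices hm : ∀ (i j : ι) (W : X.Opens) (hi : W ≤ U i) (hj : W ≤ U j) (c : Γ(X, W)),
        Dual.rs L hi (s i) = c • Dual.rs L hj (s j) →
          Dual.rs L' hi ((u i : Γ(X, U i)) • s' i) = c • Dual.rs L' hj ((u j : Γ(X, U j)) • s' j) by
      obtain ⟨φ, -⟩ := HomGlue.exists_iso_of_gen hU s hs (fun i => (u i : Γ(X, U i)) • s' i) hgen hm
      exact ⟨φ⟩
    intro i j W hi hj c hc
    have hW : W ≤ U i ⊓ U j := le_inf hi hj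
    have h1 := congrArg (Dual.rs L hW) (hη i j)
    rw [Dual.rs_smul, Dual.rs_rs, Dual.rs_rs, hc] at h1
    have hc' := (hs j W hj).1 h1
    have h2 := congrArg (Dual.rs L' hW) (hη' i j)
    rw [Dual.rs_smul, Dual.rs_rs, Dual.rs_rs] at h2
    have h3 := congrArg (Dual.rf hW) (hu i j)
    simp only [Dual.rf, map_mul] at h3
    rw [Dual.rs_smul, Dual.rs_smul, h2, smul_smul, smul_smul, hc']
    refine congrArg (· • Dual.rs L' hj (s' j)) ?_
    calc Dual.rf hi (u i : Γ(X, U i)) * Dual.rf hW (η' i j)
        = Dual.rf hW (η' i j) * Dual.rf hW (Dual.rf inf_le_left (u i : Γ(X, U i))) := by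
          rw [mul_comm, Dual.rf_rf]
      _ = Dual.rf hW (Dual.rf inf_le_right (u j : Γ(X, U j))) * Dual.rf hW (η i j) := h3
      _ = Dual.rf hW (η i j) * Dual.rf hj (u j : Γ(X, U j)) := by rw [mul_comm, Dual.rf_rf]

end Groth.Agent.S10964
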