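import Groth.Statements.S10967
import Groth.Agent.H54.IndQAff
-- import your own Groth.Agent.* helpers here

set_option autoImplicit false
universe u
open CategoryTheory AlgebraicGeometry TopologicalSpace
open MoreMor

namespace Groth.Agent.S10967

/-- Quasi-affine over an affine base: call a morphism f : X → Y quasi-affine when Y has a cover by
affine opens V_i whose preimages f⁻¹(V_i) are quasi-affine schemes (quasi-compact open subschemes of
affine schemes; equivalently quasi-compact with X → Spec Γ(X, O_X) an immersion). If Y is affine and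
f is quasi-affine in this sense, then X is a quasi-affine scheme. -/
theorem result {X Y : Scheme.{u}} [IsAffine Y]
    (f : X ⟶ Y) {ι : Type u} (V : ι → Y.Opens) (hV : iSup V = ⊤) (hVa : ∀ i, IsAffineOpen (V i))
    (hq : ∀ i, Scheme.IsQuasiAffine (↑(f ⁻¹ᵁ V i) : Scheme.{u})) :
    X.IsQuasiAffine := by
  have hf : MoreMor.IsIndQuasiAffineHom f := Groth.Agent.H54.IndQAff.isIndQuasiAffineHom_of_cover fun y => by
    obtain ⟨i, hi⟩ := TopologicalSpace.Opens.mem_iSup.mp
      (show y ∈ iSup V by rw [hV]; trivial)
    exact ⟨V i, hi, fun U hle hU => Groth.Agent.H54.IndQAff.isQuasiAffine_of_open_le hle hU (hq i)⟩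
  have : CompactSpace X := by
    obtain ⟨t, ht⟩ := isCompact_univ.elim_finite_subcover (fun i => (V i : Set Y)) (fun i => (V i).isOpen)
      (fun y _ => by
        simpa using (TopologicalSpace.Opens.mem_iSup.mp (show y ∈ iSup V by rw [hV]; trivial)))
    refine ⟨?_⟩
    have hu : (Set.univ : Set X) = ⋃ i ∈ t, ((f ⁻¹ᵁ V i : X.Opens) : Set X) := by
      refine Set.Subset.antisymm (fun x _ => ?_) (Set.subset_univ _)
      simpa using ht (Set.mem_univ (f x))
    rw [hu]
    exact t.finite_toSet.isCompact_biUnion fun i _ => isCompact_iff_compactSpace.mpr (hq i).toCompactSpace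
  exact Groth.Agent.H54.IndQAff.isQuasiAffine_of_hom hf

end Groth.Agent.S10967
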