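import Groth.Statements.S10969
import Groth.Agent.Lib.FunFld.Degree
-- import your own Groth.Agent.* helpers here

set_option autoImplicit false
open FunFld

namespace Groth.Agent.S10969
open Groth.Agent.Lib.FunFld.Place Groth.Agent.Lib.FunFld.Bound Groth.Agent.Lib.FunFld.Existence Groth.Agent.Lib.FunFld.Degree

/-- For `x` transcendental over `k` in a function field of one variable `K/k`, the degree of the divisor
of zeros of `x` equals `[K : k(x)]`. -/
theorem result (k K : Type*) [Field k] [Field K] [Algebra k K]
    (hK : FunFld.IsFunctionField k K) (x : K) (hx : Transcendental k x) :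
    (∑ P ∈ (FunFld.div k x).support with 0 < FunFld.div k x P,
        FunFld.div k x P * (P.deg : ℤ)) =
      Module.finrank (IntermediateField.adjoin k ({x} : Set K)) K := by
  classical
  rw [← deg_zeroDiv hK hx, FunFld.Divisor.deg, Finsupp.sum,
    show (zeroDiv (k := k) x).support = (FunFld.div k x).support.filter (fun P => 0 < FunFld.div k x P) by
      ext P
      rw [Finset.mem_filter, Finsupp.mem_support_iff, Finsupp.mem_support_iff, zeroDiv_apply hK, div_apply hK]
      omega]
  refine Finset.sum_congr (by congr) fun P hP => ?_
  rw [Finset.mem_filter, div_apply hK] at hP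
  rw [zeroDiv_apply hK, div_apply hK, max_eq_left (le_of_lt hP.2)]

end Groth.Agent.S10969
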