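import Groth.Statements.S10975
import Groth.Agent.Lib.FunFld.Degree
-- import your own Groth.Agent.* helpers here

set_option autoImplicit false
open FunFld

namespace Groth.Agent.S10975

/-- `A(D₁ ⊔ D₂) = A(D₁) + A(D₂)` for divisors of a function field of one variable. -/
theorem result (k K : Type*) [Field k] [Field K] [Algebra k K] (D₁ D₂ : FunFld.Divisor k K) :
    FunFld.AD (D₁ ⊔ D₂) = FunFld.AD D₁ ⊔ FunFld.AD D₂ := by
  classical
  refine le_antisymm (fun a ha => ?_) (sup_le (fun a ha P => (ha P).trans ?_) (fun a ha P => (ha P).trans ?_))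
  · refine Submodule.mem_sup.mpr ⟨fun P => if D₂ P ≤ D₁ P then a P else 0, fun P => ?_,
      fun P => if D₂ P ≤ D₁ P then 0 else a P, fun P => ?_, funext fun P => ?_⟩
    · have h : P.1 (a P) ≤ WithZero.exp ((D₁ ⊔ D₂) P) := ha P
      simp only [Finsupp.sup_apply] at h
      dsimp only
      split_ifs with hle
      · rwa [max_eq_left hle] at h
      · simp
    · have h : P.1 (a P) ≤ WithZero.exp ((D₁ ⊔ D₂) P) := ha P
      simp only [Finsupp.sup_apply] at h
      dsimp only
      split_ifs with hle
      · simp
      · rwa [max_eq_right (not_le.mp hle).le] at h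
    · simp only [Pi.add_apply]; split_ifs <;> simp
  · exact WithZero.exp_le_exp.mpr (by simp)
  · exact WithZero.exp_le_exp.mpr (by simp)

end Groth.Agent.S10975
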