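import Groth.Statements.S10995
import Groth.Agent.Lib.FunFld.Rational
-- import your own Groth.Agent.* helpers here

set_option autoImplicit false
open FunFld

namespace Groth.Agent.S10995
open Groth.Agent.Lib.FunFld.Place Groth.Agent.Lib.FunFld.Bound Groth.Agent.Lib.FunFld.Existence Groth.Agent.Lib.FunFld.Degree Groth.Agent.Lib.FunFld.Riemann Groth.Agent.Lib.FunFld.Weil Groth.Agent.Lib.FunFld.Rational

/-- A function field of one variable has an element with pole divisor of degree `1` iff it is a rational
function field. -/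
theorem result (k K : Type*) [Field k] [Field K] [Algebra k K]
    (hK : FunFld.IsFunctionField k K) :
    (∃ (x : K) (P : FunFld.Place k K), P.deg = 1 ∧ P.ord x = -1 ∧
        ∀ Q : FunFld.Place k K, Q ≠ P → 0 ≤ Q.ord x) ↔
      ∃ x : K, IntermediateField.adjoin k ({x} : Set K) = ⊤ := by
  constructor
  · rintro ⟨x, P, hP, h1, h2⟩
    exact ⟨x, adjoin_eq_top_of_simple_pole hK hP h1 h2⟩
  · rintro ⟨x, hx⟩
    obtain ⟨P, hP⟩ := exists_place_deg_one_of_adjoin_eq_top hK hx
    exact ⟨x, P, hP⟩

end Groth.Agent.S10995
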