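import Groth.Statements.S10996
import Groth.Agent.Lib.FunFld.Rational
-- import your own Groth.Agent.* helpers here

set_option autoImplicit false
open FunFld

namespace Groth.Agent.S10996
open Groth.Agent.Lib.FunFld.Place Groth.Agent.Lib.FunFld.Bound Groth.Agent.Lib.FunFld.Existence Groth.Agent.Lib.FunFld.Degree Groth.Agent.Lib.FunFld.Riemann Groth.Agent.Lib.FunFld.Weil Groth.Agent.Lib.FunFld.Rational

/-- In a function field of one variable of positive genus, distinct places of degree one are not
linearly equivalent. -/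
theorem result (k K : Type*) [Field k] [Field K] [Algebra k K]
    (hK : FunFld.IsFunctionField k K) (hg : 0 < FunFld.genus k K) (P P' : FunFld.Place k K) (hP : P.deg = 1) (hP' : P'.deg = 1)
    (x : K) (hx : x ≠ 0) (h : Finsupp.single P 1 - Finsupp.single P' 1 = FunFld.div k x) : P = P' := by
  classical
  by_contra hne
  have hv : ∀ Q, Q.ord x = (Finsupp.single P (1 : ℤ) - Finsupp.single P' 1 : FunFld.Divisor k K) Q :=
    fun Q => by rw [h, div_apply hK]
  have h1 : P'.ord x = -1 := by simp [hv, Finsupp.single_eq_of_ne (Ne.symm hne)]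
  have h2 : ∀ Q, Q ≠ P' → 0 ≤ Q.ord x := fun Q hQ => by
    rw [hv]
    rcases eq_or_ne Q P with rfl | hQP
    · simp [Finsupp.single_eq_of_ne hQ]
    · simp [Finsupp.single_eq_of_ne hQP, Finsupp.single_eq_of_ne hQ]
  have := genus_eq_zero_of_adjoin_eq_top hK (adjoin_eq_top_of_simple_pole hK hP' h1 h2)
  omega

end Groth.Agent.S10996
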