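import Groth.Statements.S10997
import Groth.Agent.Lib.FunFld.Rational
-- import your own Groth.Agent.* helpers here

set_option autoImplicit false
open FunFld

namespace Groth.Agent.S10997
open Groth.Agent.Lib.FunFld.Place Groth.Agent.Lib.FunFld.Bound Groth.Agent.Lib.FunFld.Existence Groth.Agent.Lib.FunFld.Degree Groth.Agent.Lib.FunFld.Riemann Groth.Agent.Lib.FunFld.Weil Groth.Agent.Lib.FunFld.Rational

/-- Given distinct places `P∞, P_1, …, P_n` of a function field of one variable, elements `x_i` and
integers `m_i`, some `x ∈ K` has `ord_{P_i}(x - x_i) = m_i` for all `i` and is integral outside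
`{P∞, P_1, …, P_n}`. -/
theorem result (k K : Type*) [Field k] [Field K] [Algebra k K]
    (hK : FunFld.IsFunctionField k K) (Pinf : FunFld.Place k K) (n : ℕ) (P : Fin n → FunFld.Place k K) (hP : Function.Injective P)
    (hinf : Pinf ∉ Set.range P) (x : Fin n → K) (m : Fin n → ℤ) :
    ∃ y : K, (∀ i, (P i).1 (y - x i) = WithZero.exp (-(m i))) ∧
      ∀ Q : FunFld.Place k K, Q ≠ Pinf → Q ∉ Set.range P → Q.1 y ≤ 1 := by
  classical
  choose z hz using fun i => exists_val_eq_exp (P i) (-(m i))
  obtain ⟨N₀, hN₀⟩ := exists_bound_delta_eq hK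
  let E : FunFld.Divisor k K := ∑ i, Finsupp.single (P i) (-(m i) - 1)
  let N : ℤ := max 0 (N₀ - E.deg)
  let D : FunFld.Divisor k K := Finsupp.single Pinf N + E
  have hdeg : N₀ ≤ D.deg := by
    simp only [D, deg_add, deg_single]
    have h1 : N * 1 ≤ N * (Pinf.deg : ℤ) :=
      mul_le_mul_of_nonneg_left (by exact_mod_cast deg_pos hK Pinf) (le_max_left _ _)
    have h2 : N₀ - E.deg ≤ N := le_max_right _ _
    linarith
  let a : FunFld.Place k K → K := fun Q => if h : ∃ i, P i = Q then x h.choose + z h.choose else 0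
  have ha : a ∈ FunFld.adele k K := by
    refine Filter.mem_cofinite.mpr ((Set.finite_range P).subset fun Q hQ => ?_)
    by_contra hc
    exact hQ (show Q.1 (a Q) ≤ 1 by simp [a, show ¬ ∃ i, P i = Q from hc])
  rw [adele_eq_of_delta_eq hK (hN₀ D hdeg)] at ha
  obtain ⟨b, hb, _, ⟨y, rfl⟩, hby⟩ := Submodule.mem_sup.mp ha
  have hy : ∀ Q, y = a Q - b Q := fun Q => by rw [← hby]; simp [FunFld.diag]
  have hE : ∀ i, E (P i) = -(m i) - 1 := fun i => by
    simp only [E, Finsupp.finsetSum_apply]
    rw [Finset.sum_eq_single i (fun j _ hj => Finsupp.single_eq_of_ne (fun hh => hj (hP hh).symm))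
      (by simp), Finsupp.single_eq_same]
  refine ⟨y, fun i => ?_, fun Q hQ hQr => ?_⟩
  · have hex : ∃ j, P j = P i := ⟨i, rfl⟩
    have hai : a (P i) = x i + z i := by
      simp only [a, dif_pos hex, hP hex.choose_spec]
    have hbi : (P i).1 (-b (P i)) < (P i).1 (z i) := by
      have := hb (P i)
      simp only [D, Finsupp.add_apply, hE,
        Finsupp.single_eq_of_ne (show P i ≠ Pinf from fun hh => hinf ⟨i, hh⟩), zero_add] at this
      rw [Valuation.map_neg, hz i]
      exact this.trans_lt (WithZero.exp_lt_exp.mpr (by omega))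
    rw [hy (P i), hai, show x i + z i - b (P i) - x i = z i + -b (P i) by ring,
      (P i).1.map_add_eq_of_lt_left hbi, hz i]
  · have hbQ := hb Q
    have hE0 : E Q = 0 := by
      simp only [E, Finsupp.finsetSum_apply]
      exact Finset.sum_eq_zero fun j _ => Finsupp.single_eq_of_ne (fun hh => hQr ⟨j, hh.symm⟩)
    simp only [D, Finsupp.add_apply, hE0, Finsupp.single_eq_of_ne hQ, add_zero,
      WithZero.exp_zero] at hbQ
    rw [hy Q, show a Q = 0 from dif_neg (fun hh => hQr hh), zero_sub, Valuation.map_neg]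
    exact hbQ

end Groth.Agent.S10997
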