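import Groth.Statements.S10998
import Groth.Agent.Lib.FunFld.Elliptic
-- import your own Groth.Agent.* helpers here

set_option autoImplicit false
open FunFld

namespace Groth.Agent.S10998
open Groth.Agent.Lib.FunFld

/-- A genus-one function field with a place `P₀` of degree one is `k(x, y)` with `x ∈ L(2P₀)`, `y ∈
L(3P₀)` of pole orders `2` and `3`, and `y² + f(x) y + g(x) = 0` for polynomials `f` of degree `≤ 1`
and `g` of degree `3`. -/
theorem result (k K : Type*) [Field k] [Field K] [Algebra k K]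
    (hK : FunFld.IsFunctionField k K) (hg : FunFld.genus k K = 1) (P₀ : FunFld.Place k K) (hP : P₀.deg = 1) :
    ∃ x y : K, x ∈ FunFld.L (Finsupp.single P₀ 2) ∧ y ∈ FunFld.L (Finsupp.single P₀ 3) ∧
      P₀.ord x = -2 ∧ P₀.ord y = -3 ∧
      IntermediateField.adjoin k ({x, y} : Set K) = ⊤ ∧
      ∃ f g : Polynomial k, f.natDegree ≤ 1 ∧ g.natDegree = 3 ∧
        y ^ 2 + Polynomial.aeval x f * y + Polynomial.aeval x g = 0 := by
  classical
  obtain ⟨x, hx, hx2⟩ := Elliptic.exists_ord hK hg hP (n := 2) le_rfl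
  obtain ⟨y, hy, hy3⟩ := Elliptic.exists_ord hK hg hP (n := 3) (by norm_num)
  rw [Nat.cast_ofNat] at hx hx2 hy hy3
  refine ⟨x, y, hx, hy, hx2, hy3, Elliptic.adjoin_pair_eq_top hK hP hx hx2 hy hy3, ?_⟩
  have hy2 : y ^ 2 ∈ FunFld.L (Finsupp.single P₀ ((6 : ℕ) : ℤ)) :=
    Elliptic.pow_mem_L (n := 3) hy 2 le_rfl
  rw [← (Elliptic.fam_spec hK hg hP hx hx2 hy hy3 (n := 6) (by norm_num)).2,
    Submodule.mem_span_range_iff_exists_fun] at hy2
  obtain ⟨c, hc⟩ := hy2
  rw [Fintype.sum_sum_type] at hc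
  simp only [Elliptic.fam, Sum.elim_inl, Sum.elim_inr] at hc
  rw [Fin.sum_univ_four, Fin.sum_univ_two] at hc
  simp only [Fin.val_zero, Fin.val_one, Fin.val_two, pow_zero, pow_one, one_mul,
    show ((3 : Fin 4) : ℕ) = 3 from rfl] at hc
  set a₀ := c (Sum.inl 0)
  set a₁ := c (Sum.inl 1)
  set a₂ := c (Sum.inl 2)
  set a₃ := c (Sum.inl 3)
  set b₀ := c (Sum.inr 0)
  set b₁ := c (Sum.inr 1)
  have ha : a₃ ≠ 0 := by
    intro h0
    rw [h0, zero_smul, add_zero] at hc
    have h5 : y ^ 2 ∈ FunFld.L (Finsupp.single P₀ (5 : ℤ)) := by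
      rw [← hc]
      refine add_mem (add_mem (add_mem ?_ ?_) ?_) (add_mem ?_ ?_) <;> refine Submodule.smul_mem _ _ ?_
      · rw [← pow_zero x]; exact Elliptic.pow_mem_L (n := 2) (m := 5) hx 0 (by norm_num)
      · simpa using Elliptic.pow_mem_L (n := 2) (m := 5) hx 1 (by norm_num)
      · exact Elliptic.pow_mem_L (n := 2) (m := 5) hx 2 (by norm_num)
      · exact Degree.L_mono (Finsupp.single_mono (by norm_num)) hy
      · exact Elliptic.mul_mem_L hx hy (by norm_num)
    have h6 := ((Degree.mem_L_iff_ord).mp h5).resolve_left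
      (pow_ne_zero 2 (Elliptic.ne_zero_of_ord P₀ (by omega))) P₀
    rw [Place.ord_pow, hy3, Finsupp.single_eq_same] at h6
    norm_num at h6
  refine ⟨-(Polynomial.C b₁ * Polynomial.X + Polynomial.C b₀),
    -(Polynomial.C a₃ * Polynomial.X ^ 3 + Polynomial.C a₂ * Polynomial.X ^ 2 +
      Polynomial.C a₁ * Polynomial.X + Polynomial.C a₀), ?_, ?_, ?_⟩
  · rw [Polynomial.natDegree_neg]; compute_degree
  · rw [Polynomial.natDegree_neg]; exact Polynomial.natDegree_cubic ha
  · simp only [map_neg, map_add, map_mul, map_pow, Polynomial.aeval_C, Polynomial.aeval_X]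
    simp only [Algebra.smul_def] at hc
    linear_combination -hc

end Groth.Agent.S10998
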