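import Groth.Statements.S10999
import Groth.Agent.Lib.FunFld.Elliptic
-- import your own Groth.Agent.* helpers here

set_option autoImplicit false
open FunFld

namespace Groth.Agent.S10999
open Groth.Agent.Lib.FunFld

/-- In a genus-one function field with a place `P₀` of degree one, `P ↦ P - P₀` is a bijection from the
places of degree one onto the divisor classes of degree zero. The geometric description of the group
law is not stated. -/
theorem result (k K : Type*) [Field k] [Field K] [Algebra k K]
    (hK : FunFld.IsFunctionField k K) (hg : FunFld.genus k K = 1) (P₀ : FunFld.Place k K) (hP : P₀.deg = 1)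
    (D : FunFld.Divisor k K) (hD : D.deg = 0) :
    ∃! P : FunFld.Place k K, P.deg = 1 ∧
      ∃ x : K, x ≠ 0 ∧ D = Finsupp.single P 1 - Finsupp.single P₀ 1 + FunFld.div k x := by
  classical
  have hdeg : (D + Finsupp.single P₀ 1).deg = 1 := by
    rw [Degree.deg_add, Degree.deg_single, hD, hP]; norm_num
  have hell := SmallGenus.ell_genus_one hK hg (D := D + Finsupp.single P₀ 1) (by omega)
  obtain ⟨T, x, hx, hT⟩ := SmallGenus.exists_place_of_deg_one hK (E := D + Finsupp.single P₀ 1)
    (by omega) hdeg
  have hT1 : T.deg = 1 := by
    have := congrArg FunFld.Divisor.deg hT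
    rw [hdeg, Degree.deg_add, Degree.deg_single, Degree.deg_div hK] at this
    omega
  refine ⟨T, ⟨hT1, x, hx, by linear_combination (norm := abel) hT⟩, ?_⟩
  rintro T' ⟨hT', y, hy, hyD⟩
  have he : (Finsupp.single T' 1 : FunFld.Divisor k K) = Finsupp.single T 1 + FunFld.div k (x * y⁻¹) := by
    rw [Degree.div_mul hK hx (inv_ne_zero hy), Degree.div_inv hK]
    linear_combination (norm := abel) hT - hyD
  have := SmallGenus.eq_of_ell_le_one hK (Rational.ell_single_one_eq_one hK (by omega) hT1).le
    (Finsupp.single_nonneg.mpr zero_le_one) (Finsupp.single_nonneg.mpr zero_le_one)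
    (mul_ne_zero hx (inv_ne_zero hy)) he
  exact Finsupp.single_left_injective one_ne_zero this

end Groth.Agent.S10999
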