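import Groth.Statements.S11003
import Groth.Agent.H81.FunFldSep

set_option autoImplicit false
universe u v
open FunFld

namespace Groth.Agent.S11003

/-- `dim_K Ω_{K/k} = 1` for a geometric function field of one variable `K/k`. -/
theorem result (k : Type u) (K : Type v) [Field k] [Field K] [Algebra k K]
    (hK : FunFld.IsFunctionField k K) (hg : FunFld.IsGeometric k K) :
    Module.finrank K (KaehlerDifferential k K) = 1 := by
  obtain ⟨x₀, hs⟩ := Lib.FunFld.Hasse.Separable.exists_isSep_of_geometric hK hg
  by_cases ht : Transcendental k x₀
  · rw [← finrank_top, ← Lib.FunFld.Hasse.Separable.span_D_eq_top hs,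
      finrank_span_singleton (H81.FunFldSep.D_ne_zero_of_isSep ht hs)]
  · exfalso
    obtain ⟨c, rfl⟩ := hK.2 x₀ (by simpa [Transcendental] using ht)
    obtain ⟨t, ht'⟩ := Lib.FunFld.Riemann.exists_transcendental hK
    have : Algebra.IsSeparable (IntermediateField.adjoin k ({algebraMap k K c} : Set K)) K := hs
    rw [IntermediateField.adjoin_simple_eq_bot_iff.2
      ((⊥ : IntermediateField k K).algebraMap_mem c)] at this
    exact ht' ((Algebra.IsSeparable.isSeparable (⊥ : IntermediateField k K) t).isIntegral.isAlgebraic.restrictScalars k)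

end Groth.Agent.S11003
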