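import Groth.Statements.S11004
import Groth.Agent.Lib.FunFld.Hasse.Separable
import Groth.Agent.Lib.FunFld.Approx
import Groth.Agent.Lib.FunFld.Gen.Degree
import Mathlib.FieldTheory.PrimitiveElement

set_option autoImplicit false
universe u v
open FunFld WithZero Polynomial IntermediateField Groth.Agent.Lib.FunFld Groth.Agent.Lib.FunFld.Place

namespace Groth.Agent.S11004

section
variable {k : Type u} {K : Type v} [Field k] [Field K] [Algebra k K]

/-- There are infinitely many places. -/
theorem infinite_places (hK : FunFld.IsFunctionField k K) : (Set.univ : Set (FunFld.Place k K)).Infinite := by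
  intro hfin
  choose a ha using fun R : FunFld.Place k K => exists_val_eq_exp R (-1)
  obtain ⟨w, hw⟩ := Approx.approximation hfin.toFinset a (fun _ => -2)
  have hval : ∀ R : FunFld.Place k K, R.1 w = exp (-1) := fun R => by
    rw [← ha R]
    exact R.1.map_eq_of_sub_lt ((hw R (hfin.mem_toFinset.2 trivial)).trans_lt (by
      rw [ha R, exp_lt_exp]; norm_num))
  obtain ⟨x, hx, -⟩ := hK.1
  obtain ⟨R₀, -⟩ := Gen.Existence.exists_zero hK.1 hx
  have ht : Transcendental k w := fun halg => by
    obtain ⟨c, hc⟩ := hK.2 w halg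
    have h1 := hval R₀
    have h2 := ord_algebraMap R₀ c
    rw [hc, ord_eq_of_val_eq_exp R₀ h1] at h2
    omega
  obtain ⟨R, hR⟩ := Gen.Existence.exists_pole hK.1 ht
  rw [ord_eq_of_val_eq_exp R (hval R)] at hR
  omega

set_option backward.isDefEq.respectTransparency false in
/-- A simple root of a polynomial over `k` generating the residue field makes it separable. -/
theorem isSeparable_residue (Q : FunFld.Place k K) (hfinQ : FiniteDimensional k (IsLocalRing.ResidueField Q.O))
    {x y : K} {c : k} (hx : Q.1 (x - algebraMap k K c) < 1) (hy : Q.1 y ≤ 1)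
    (hπ0 : x - algebraMap k K c ≠ 0)
    (hgen : ∀ z : K, ∃ a ∈ Algebra.adjoin k ({x, y} : Set K), ∃ s : k[X], aeval x s ≠ 0 ∧ z = a / aeval x s)
    (n : ℕ) (P : ℕ → k[X]) (h0 : ∑ i ∈ Finset.range n, aeval x (P i) * y ^ i = 0)
    (h1 : Q.1 (∑ i ∈ Finset.range n, aeval x (P i) * ((i : K) * y ^ (i - 1))) = 1) :
    Algebra.IsSeparable k (IsLocalRing.ResidueField Q.O) := by
  let π := x - algebraMap k K c
  let A := Algebra.adjoin k ({x, y} : Set K)
  have hxA : x ∈ A := Algebra.subset_adjoin (by simp)
  have hyA : y ∈ A := Algebra.subset_adjoin (by simp)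
  have hx1 : Q.1 x ≤ 1 := by
    have h2 := Q.1.map_add π (algebraMap k K c)
    rw [sub_add_cancel] at h2
    exact h2.trans (max_le hx.le (Q.2.1 c))
  have hAO : ∀ a ∈ A, Q.1 a ≤ 1 := fun a ha => by
    induction ha using Algebra.adjoin_induction with
    | mem z hz =>
      rcases hz with rfl | rfl
      · exact hx1
      · exact hy
    | algebraMap r => exact Q.2.1 r
    | add a b _ _ ha hb => exact (Q.1.map_add a b).trans (max_le ha hb)
    | mul a b _ _ ha hb => rw [map_mul]; exact mul_le_one₀ ha zero_le hb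
  have hpA : ∀ p : k[X], aeval y p ∈ A := fun p => Algebra.adjoin_mono (by simp) (aeval_mem_adjoin_singleton k y (p := p))
  have hred : ∀ a ∈ A, ∃ p : k[X], ∃ b ∈ A, a = aeval y p + π * b := fun a ha => by
    induction ha using Algebra.adjoin_induction with
    | mem z hz =>
      rcases hz with rfl | rfl
      · exact ⟨C c, 1, A.one_mem, by simp [π]⟩
      · exact ⟨X, 0, A.zero_mem, by simp⟩
    | algebraMap r => exact ⟨C r, 0, A.zero_mem, by simp⟩
    | add a b _ _ ha hb =>
      obtain ⟨p, u, hu, rfl⟩ := ha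
      obtain ⟨q, v, hv, rfl⟩ := hb
      exact ⟨p + q, u + v, A.add_mem hu hv, by rw [map_add]; ring⟩
    | mul a b _ _ ha hb =>
      obtain ⟨p, u, hu, rfl⟩ := ha
      obtain ⟨q, v, hv, rfl⟩ := hb
      refine ⟨p * q, aeval y p * v + u * aeval y q + π * u * v, ?_, by rw [map_mul]; ring⟩
      exact A.add_mem (A.add_mem (A.mul_mem (hpA p) hv) (A.mul_mem hu (hpA q)))
        (A.mul_mem (A.mul_mem (A.sub_mem hxA (A.algebraMap_mem c)) hu) hv)
  let yO : Q.O := ⟨y, hy⟩
  let yb := IsLocalRing.residue Q.O yO
  let ρ : Q.O →ₐ[k] IsLocalRing.ResidueField Q.O := IsScalarTower.toAlgHom k Q.O (IsLocalRing.ResidueField Q.O)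
  have hcoe : ∀ p : k[X], ((aeval yO p : Q.O) : K) = aeval y p := fun p =>
    (aeval_algHom_apply (IsScalarTower.toAlgHom k Q.O K) yO p).symm
  have hres : ∀ p : k[X], aeval yb p = 0 ↔ Q.1 (aeval y p) < 1 := fun p => by
    rw [show aeval yb p = IsLocalRing.residue Q.O (aeval yO p) from aeval_algHom_apply ρ yO p,
      res_eq_zero_iff, hcoe]
  have hπ1 : Q.1 π < 1 := hx
  have hsplit : ∀ p : k[X], ∀ b ∈ A, Q.1 (aeval y p + π * b) < 1 → Q.1 (aeval y p) < 1 := fun p b hb h => by
    have hb' : Q.1 (π * b) < 1 := by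
      rw [map_mul]; exact (mul_le_of_le_one_right' (hAO b hb)).trans_lt hπ1
    have := Q.1.map_sub_lt h hb'
    rwa [add_sub_cancel_right] at this
  have hsum : ∀ g : ℕ → K, (∀ i, g i ∈ A) → ∃ b ∈ A,
      ∑ i ∈ Finset.range n, aeval x (P i) * g i =
        ∑ i ∈ Finset.range n, algebraMap k K ((P i).eval c) * g i + π * b := fun g hg => by
    have : ∀ i, ∃ q : k[X], P i = C ((P i).eval c) + (X - C c) * q := fun i => by
      obtain ⟨q, hq⟩ := X_sub_C_dvd_sub_C_eval (a := c) (p := P i)
      exact ⟨q, by rw [← hq]; ring⟩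
    choose q hq using this
    refine ⟨∑ i ∈ Finset.range n, aeval x (q i) * g i, A.sum_mem fun i _ => A.mul_mem
      (Algebra.adjoin_mono (by simp) (aeval_mem_adjoin_singleton k x)) (hg i), ?_⟩
    rw [Finset.mul_sum, ← Finset.sum_add_distrib]
    refine Finset.sum_congr rfl fun i _ => ?_
    conv_lhs => rw [hq i]
    simp [π]
    ring
  let f : k[X] := ∑ i ∈ Finset.range n, C ((P i).eval c) * X ^ i
  have hf0 : ∃ r₀ ∈ A, aeval y f = π * r₀ := by
    obtain ⟨b, hb, hb'⟩ := hsum (fun i => y ^ i) fun i => A.pow_mem hyA i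
    rw [h0] at hb'
    refine ⟨-b, A.neg_mem hb, ?_⟩
    have : aeval y f = ∑ i ∈ Finset.range n, algebraMap k K ((P i).eval c) * y ^ i := by simp [f]
    rw [this]; linear_combination -hb'
  obtain ⟨r₀, hr₀, hfr⟩ := hf0
  have hfroot : aeval yb f = 0 := (hres f).2 (by
    rw [hfr, map_mul]; exact (mul_le_of_le_one_right' (hAO r₀ hr₀)).trans_lt hπ1)
  have hfd : aeval yb (derivative f) ≠ 0 := fun h => by
    obtain ⟨b, hb, hb'⟩ := hsum (fun i => (i : K) * y ^ (i - 1)) fun i =>
      A.mul_mem (natCast_mem A i) (A.pow_mem hyA _)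
    have : aeval y (derivative f) =
        ∑ i ∈ Finset.range n, algebraMap k K ((P i).eval c) * ((i : K) * y ^ (i - 1)) := by
      simp only [f, derivative_sum, derivative_C_mul_X_pow, map_sum, map_mul, map_pow, aeval_C, aeval_X, map_natCast]
      exact Finset.sum_congr rfl fun i _ => by ring
    rw [← this] at hb'
    rw [hb'] at h1
    have hb2 : Q.1 (π * b) < 1 := by
      rw [map_mul]; exact (mul_le_of_le_one_right' (hAO b hb)).trans_lt hπ1
    exact absurd h1 ((Q.1.map_add _ _).trans_lt (max_lt ((hres _).1 h) hb2)).ne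
  have hint : IsIntegral k yb := Algebra.IsIntegral.isIntegral _
  obtain ⟨q, hq⟩ := minpoly.dvd k yb hfroot
  have hq1 : aeval yb (derivative (minpoly k yb)) ≠ 0 ∧ aeval yb q ≠ 0 := by
    rw [hq, derivative_mul, map_add, map_mul, map_mul, minpoly.aeval, zero_mul, add_zero] at hfd
    exact ⟨left_ne_zero_of_mul hfd, right_ne_zero_of_mul hfd⟩
  have hsepy : IsSeparable k yb := (separable_iff_derivative_ne_zero (minpoly.irreducible hint)).2
    fun h => hq1.1 (by rw [h, map_zero])
  have hqv : Q.1 (aeval y q) = 1 :=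
    (hAO _ (hpA q)).antisymm (not_lt.1 fun h => hq1.2 ((hres q).2 h))
  let L := adjoin k ({yb} : Set (IsLocalRing.ResidueField Q.O))
  have hyL : ∀ p : k[X], aeval yb p ∈ L := fun p =>
    algebra_adjoin_le_adjoin k _ (aeval_mem_adjoin_singleton k yb)
  have hkey : ∀ (m : ℕ) (a : K) (_ : a ∈ A) (z : Q.O), a = π ^ m * z →
      IsLocalRing.residue Q.O z ∈ L := by
    intro m
    induction m with
    | zero =>
      intro a ha z hz
      rw [pow_zero, one_mul] at hz
      obtain ⟨p, b, hb, hab⟩ := hred a ha
      rw [show IsLocalRing.residue Q.O z = aeval yb p from ?_]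
      · exact hyL p
      rw [show aeval yb p = IsLocalRing.residue Q.O (aeval yO p) from aeval_algHom_apply ρ yO p,
        ← sub_eq_zero, ← map_sub, res_eq_zero_iff]
      show Q.1 ((z : K) - (aeval yO p : Q.O)) < 1
      rw [hcoe, ← hz, hab, add_sub_cancel_left, map_mul]
      exact (mul_le_of_le_one_right' (hAO b hb)).trans_lt hπ1
    | succ m ih =>
      intro a ha z hz
      obtain ⟨p, b, hb, hab⟩ := hred a ha
      have hpy : Q.1 (aeval y p) < 1 := hsplit p b hb (by
        rw [← hab, hz, map_mul, map_pow]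
        exact (mul_le_of_le_one_right' z.2).trans_lt (pow_lt_one₀ zero_le hπ1 (Nat.succ_ne_zero m)))
      obtain ⟨s, rfl⟩ := minpoly.dvd k yb ((hres p).2 hpy)
      let qO : Q.O := ⟨aeval y q, hAO _ (hpA q)⟩
      have hz' := ih (aeval y s * r₀ + b * aeval y q)
        (A.add_mem (A.mul_mem (hpA s) hr₀) (A.mul_mem hb (hpA q))) (z * qO) (by
          refine mul_left_cancel₀ hπ0 ?_
          have e1 : aeval y (minpoly k yb) * aeval y q = π * r₀ := by rw [← map_mul, ← hq, hfr]
          rw [map_mul] at hab
          show _ = π * (π ^ m * ((z : K) * aeval y q))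
          linear_combination (-(aeval y q)) * hab + (aeval y q) * hz - (aeval y s) * e1)
      rw [map_mul] at hz'
      have hqL : IsLocalRing.residue Q.O qO ∈ L := by
        rw [show qO = aeval yO q from Subtype.ext (hcoe q).symm,
          ← show aeval yb q = IsLocalRing.residue Q.O (aeval yO q) from aeval_algHom_apply ρ yO q]
        exact hyL q
      have hq0 : IsLocalRing.residue Q.O qO ≠ 0 := fun h => absurd hqv ((res_eq_zero_iff Q _).1 h).ne
      have := L.div_mem hz' hqL
      rwa [mul_div_cancel_right₀ _ hq0] at this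
  have htop : L = ⊤ := by
    rw [eq_top_iff]
    rintro w -
    obtain ⟨z, rfl⟩ := IsLocalRing.residue_surjective w
    obtain ⟨a, ha, s, hs, hzs⟩ := hgen (z : K)
    obtain ⟨m, s₁, hs₁, rfl⟩ : ∃ (m : ℕ) (s₁ : k[X]), s₁.eval c ≠ 0 ∧ s = (X - C c) ^ m * s₁ := by
      have hs0 : s ≠ 0 := fun h => hs (by rw [h, map_zero])
      obtain ⟨s₁, h1, h2⟩ := exists_eq_pow_rootMultiplicity_mul_and_not_dvd s hs0 c
      exact ⟨_, s₁, fun h => h2 (dvd_iff_isRoot.2 h), h1⟩
    rw [map_mul, map_pow] at hs hzs
    have hax : aeval x (X - C c) = π := by simp [π]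
    rw [hax] at hs hzs
    have hv1 : Q.1 (aeval x s₁) = 1 := by
      obtain ⟨q', hq'⟩ := X_sub_C_dvd_sub_C_eval (a := c) (p := s₁)
      have e : aeval x s₁ = algebraMap k K (s₁.eval c) + π * aeval x q' := by
        have := congrArg (aeval x) hq'
        rw [map_mul, hax, map_sub, aeval_C] at this
        linear_combination this
      have h3 : Q.1 (π * aeval x q') < 1 := by
        rw [map_mul]
        exact (mul_le_of_le_one_right' (hAO _ (Algebra.adjoin_mono (by simp) (aeval_mem_adjoin_singleton k x)))).trans_lt hπ1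
      rw [e, Valuation.map_add_eq_of_lt_left _ (by rwa [val_algebraMap Q hs₁]), val_algebraMap Q hs₁]
    let sO : Q.O := ⟨aeval x s₁, hv1.le⟩
    have h2 := hkey m a ha (z * sO) (by
      show a = π ^ m * ((z : K) * aeval x s₁)
      rw [hzs]; linear_combination -(div_mul_cancel₀ a hs))
    have hsL : IsLocalRing.residue Q.O sO ∈ L := by
      obtain ⟨p, b, hb, hab⟩ := hred (aeval x s₁) (Algebra.adjoin_mono (by simp) (aeval_mem_adjoin_singleton k x))
      exact hkey 0 (aeval x s₁) (Algebra.adjoin_mono (by simp) (aeval_mem_adjoin_singleton k x)) sO (by simp [sO])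
    rw [map_mul] at h2
    have hs0 : IsLocalRing.residue Q.O sO ≠ 0 := fun h => absurd hv1 ((res_eq_zero_iff Q _).1 h).ne
    have := L.div_mem h2 hsL
    rwa [mul_div_cancel_right₀ _ hs0] at this
  have hL : Algebra.IsSeparable k L := (isSeparable_adjoin_simple_iff_isSeparable k _).2 hsepy
  rw [htop] at hL
  exact AlgEquiv.Algebra.isSeparable (IntermediateField.topEquiv (F := k))

end

set_option backward.isDefEq.respectTransparency false in
/-- A geometric function field of one variable has infinitely many places with residue field separable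
over `k`. -/
theorem result (k : Type u) (K : Type v) [Field k] [Field K] [Algebra k K]
    (hK : FunFld.IsFunctionField k K) (hg : FunFld.IsGeometric k K) :
    {P : FunFld.Place k K | Algebra.IsSeparable k (IsLocalRing.ResidueField P.O)}.Infinite := by
  rcases finite_or_infinite k with hk | hk
  · have := PerfectField.ofFinite (K := k)
    refine (infinite_places hK).mono fun Q _ => ?_
    have := Gen.Existence.finiteDimensional_residueField hK.1 Q
    have : Algebra.IsAlgebraic k (IsLocalRing.ResidueField Q.O) := Algebra.IsAlgebraic.of_finite k _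
    exact Algebra.IsAlgebraic.isSeparable_of_perfectField
  obtain ⟨x, hx⟩ := Hasse.Separable.exists_isSep_of_geometric hK hg
  have ht : Transcendental k x := fun halg => by
    obtain ⟨c, rfl⟩ := hK.2 x halg
    obtain ⟨t, ht, -⟩ := hK.1
    have : Algebra.IsSeparable (adjoin k ({algebraMap k K c} : Set K)) K := hx
    rw [adjoin_simple_eq_bot_iff.2 ((⊥ : IntermediateField k K).algebraMap_mem c)] at this
    exact ht ((Algebra.IsSeparable.isSeparable (⊥ : IntermediateField k K) t).isIntegral.isAlgebraic.restrictScalars k)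
  let F := adjoin k ({x} : Set K)
  have : Algebra.IsSeparable F K := hx
  have := Bound.finiteDimensional_adjoin_transcendental hK ht
  obtain ⟨y, hy⟩ := Field.exists_primitive_element F K
  have hint : IsIntegral F y := Algebra.IsIntegral.isIntegral y
  have hfrac : ∀ a : F, ∃ r s : k[X], aeval x s ≠ 0 ∧ (a : K) = aeval x r / aeval x s := fun a => by
    obtain ⟨r, s, hrs⟩ := (mem_adjoin_simple_iff k (a : K)).1 a.2
    by_cases h : aeval x s = 0
    · exact ⟨0, 1, by simp, by simp [hrs, h]⟩
    · exact ⟨r, s, h, hrs⟩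
  let f := minpoly F y
  choose r s hs hrs using fun i => hfrac (f.coeff i)
  let n := f.natDegree + 1
  let P : ℕ → k[X] := fun i => r i * ∏ j ∈ (Finset.range n).erase i, s j
  let S := aeval x (∏ j ∈ Finset.range n, s j)
  have hS : S ≠ 0 := by
    simp only [S, map_prod]
    exact Finset.prod_ne_zero_iff.2 fun j _ => hs j
  have hP : ∀ i ∈ Finset.range n, aeval x (P i) = S * (f.coeff i : K) := fun i hi => by
    simp only [P, S, map_mul, hrs]
    rw [← Finset.mul_prod_erase _ s hi, map_mul]
    field_simp [hs i]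
  have h0 : ∑ i ∈ Finset.range n, aeval x (P i) * y ^ i = 0 := by
    have := minpoly.aeval F y
    rw [aeval_eq_sum_range' (show f.natDegree < n by omega)] at this
    rw [← mul_zero S, ← this, Finset.mul_sum]
    exact Finset.sum_congr rfl fun i hi => by rw [hP i hi, Algebra.smul_def]; exact mul_assoc _ _ _
  let D := ∑ i ∈ Finset.range n, aeval x (P i) * ((i : K) * y ^ (i - 1))
  have hD : D ≠ 0 := by
    have e : D = S * aeval y (derivative f) := by
      rw [show derivative f = ∑ i ∈ Finset.range n, C (f.coeff i * i) * X ^ (i - 1) from by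
        conv_lhs => rw [f.as_sum_range_C_mul_X_pow' (show f.natDegree < n by omega)]
        rw [derivative_sum]
        exact Finset.sum_congr rfl fun i _ => derivative_C_mul_X_pow _ _, map_sum, Finset.mul_sum]
      refine Finset.sum_congr rfl fun i hi => ?_
      rw [hP i hi, map_mul, map_pow, aeval_C, aeval_X, map_mul, map_natCast,
        show algebraMap F K (f.coeff i) = (f.coeff i : K) from rfl]
      ring
    rw [e]
    exact mul_ne_zero hS ((Algebra.IsSeparable.isSeparable F y).aeval_derivative_ne_zero (minpoly.aeval F y))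
  have hbad := (Gen.Degree.finite_support_ord hK.1 y).union (Gen.Degree.finite_support_ord hK.1 D)
  have hπt : ∀ c : k, Transcendental k (x - algebraMap k K c) := fun c h =>
    ht (by simpa using h.add (isAlgebraic_algebraMap (R := k) (A := K) c))
  choose Qc hQc using fun c : k => Gen.Existence.exists_zero hK.1 (hπt c)
  have hlt : ∀ c, (Qc c).1 (x - algebraMap k K c) < 1 := fun c => (val_lt_one_iff _).2 (Or.inr (hQc c))
  have hinj : Function.Injective Qc := fun c c' h => by
    by_contra hne
    have h2 := (Qc c).1.map_sub_lt (hlt c) (h ▸ hlt c' : (Qc c).1 (x - algebraMap k K c') < 1)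
    rw [sub_sub_sub_cancel_left, ← map_sub, val_algebraMap _ (sub_ne_zero.2 (Ne.symm hne))] at h2
    exact lt_irrefl _ h2
  have hinf := (Set.infinite_range_of_injective hinj).sdiff hbad
  refine hinf.mono ?_
  rintro _ ⟨⟨c, rfl⟩, hnb⟩
  simp only [Set.mem_union, not_or, Function.mem_support, not_not] at hnb
  refine isSeparable_residue (Qc c) (Gen.Existence.finiteDimensional_residueField hK.1 _) (hlt c)
    ((val_le_one_iff _).2 hnb.1.ge) (Bound.ne_zero_of_transcendental (hπt c)) ?_ n P h0 ?_
  · intro z
    have hz : z ∈ (IntermediateField.adjoin F ({y} : Set K)).toSubalgebra := by rw [hy]; trivial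
    rw [IntermediateField.adjoin_simple_toSubalgebra_of_isAlgebraic hint.isAlgebraic] at hz
    induction hz using Algebra.adjoin_induction with
    | mem w hw =>
      rw [Set.mem_singleton_iff] at hw
      exact ⟨y, Algebra.subset_adjoin (by simp), 1, by simp, by simp [hw]⟩
    | algebraMap a =>
      obtain ⟨r', s', h1, h2⟩ := hfrac a
      exact ⟨_, Algebra.adjoin_mono (by simp) (aeval_mem_adjoin_singleton k x), s', h1, h2⟩
    | add a b _ _ ha hb =>
      obtain ⟨u, hu, s', h1, rfl⟩ := ha
      obtain ⟨v, hv, t', h2, rfl⟩ := hb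
      have hm : ∀ p : k[X], aeval x p ∈ Algebra.adjoin k ({x, y} : Set K) := fun p =>
        Algebra.adjoin_mono (by simp) (aeval_mem_adjoin_singleton k x)
      exact ⟨u * aeval x t' + v * aeval x s',
        add_mem (mul_mem hu (hm _)) (mul_mem hv (hm _)), s' * t', by simp [h1, h2],
        by rw [map_mul]; field_simp⟩
    | mul a b _ _ ha hb =>
      obtain ⟨u, hu, s', h1, rfl⟩ := ha
      obtain ⟨v, hv, t', h2, rfl⟩ := hb
      exact ⟨u * v, mul_mem hu hv, s' * t', by simp [h1, h2], by rw [map_mul, div_mul_div_comm]⟩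
  · rw [val_eq_exp (Qc c) hD, hnb.2]; simp

end Groth.Agent.S11004
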