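import Groth.Statements.S11006
import Groth.Agent.Lib.FunFld.Ext
import Mathlib.RingTheory.TensorProduct.Finite

set_option autoImplicit false
universe u v
open FunFld IntermediateField
open scoped TensorProduct

namespace Groth.Agent.S11006

theorem finrank_eq_one_of_isField {k' : Type u} {K' : Type v} [Field k'] [Field K'] [Algebra k' K']
    {L : Type u} [Field L] [Algebra k' L] (i : L →ₐ[k'] K') (hL : IsField (L ⊗[k'] K')) (y : L) :
    y ∈ Set.range (algebraMap k' L) := by
  let := hL.toField
  let m : L ⊗[k'] K' →ₐ[k'] K' := Algebra.TensorProduct.lift i (AlgHom.id k' K') fun _ _ => .all _ _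
  have hinj : Function.Injective m := RingHom.injective (m.toRingHom)
  have he : y ⊗ₜ[k'] (1 : K') = (1 : L) ⊗ₜ[k'] i y := hinj (by simp [m])
  by_contra hy
  obtain ⟨φ, hφy, hφ1⟩ : ∃ φ : L →ₗ[k'] k', φ y ≠ 0 ∧ φ 1 = 0 := by
    have hy' : y ∉ Submodule.span k' {(1 : L)} := fun h => by
      obtain ⟨c, hc⟩ := Submodule.mem_span_singleton.1 h
      exact hy ⟨c, by rw [← hc, Algebra.smul_def, mul_one]⟩
    obtain ⟨φ, hφ, hker⟩ := Submodule.exists_dual_map_eq_bot_of_notMem hy' inferInstance
    refine ⟨φ, hφ, ?_⟩
    simpa [Submodule.map_span, Submodule.span_singleton_eq_bot] using hker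
  have h2 := congrArg (fun t => TensorProduct.lid k' K' (TensorProduct.map φ LinearMap.id t)) he
  simp [hφ1, hφy] at h2

theorem isGeometric_baseChange (k k' : Type u) (K K' : Type v) [Field k] [Field k'] [Field K] [Field K']
    [Algebra k k'] [FiniteDimensional k k'] [Algebra k K] [Algebra K K'] [Algebra k' K'] [Algebra k K']
    [IsScalarTower k k' K'] [IsScalarTower k K K']
    (h : Function.Bijective (Algebra.TensorProduct.productMap
      (IsScalarTower.toAlgHom k k' K') (IsScalarTower.toAlgHom k K K')))
    (hg : FunFld.IsGeometric k K) : FunFld.IsGeometric k' K' := by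
  intro L _ _ hL
  let : Algebra k L := Algebra.compHom L (algebraMap k k')
  have : IsScalarTower k k' L := IsScalarTower.of_algebraMap_eq fun _ => rfl
  have : FiniteDimensional k L := FiniteDimensional.trans k k' L
  let e : k' ⊗[k] K →ₐ[k'] K' :=
    Algebra.TensorProduct.lift (Algebra.ofId k' K') (IsScalarTower.toAlgHom k K K') fun _ _ => .all _ _
  have he : Function.Bijective e := by
    convert h using 1
    funext z
    induction z using TensorProduct.induction_on with
    | zero => simp
    | tmul a b => simp [e]
    | add a b ha hb => simp [ha, hb]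
  let e' : L ⊗[k] K ≃ₐ[L] L ⊗[k'] K' :=
    (Algebra.TensorProduct.cancelBaseChange k k' L L K).symm.trans
      (Algebra.TensorProduct.congr (AlgEquiv.refl (R := L) (A₁ := L)) (AlgEquiv.ofBijective e he))
  exact MulEquiv.isField (hg L inferInstance) e'.symm.toMulEquiv

/-- For `K/k` a geometric function field of one variable and `k'/k` finite, the field `K' = k' ⊗_k K` is
a geometric function field of one variable over `k'`: some element of `K'` is transcendental over
`k'` with `K'` of finite degree over the subfield it generates over `k'`, `k'` is algebraically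
closed in `K'`, and `K'` stays a field after tensoring over `k'` with any finite field extension of
`k'`. -/
theorem result (k k' : Type u) (K K' : Type v) [Field k] [Field k'] [Field K] [Field K']
    [Algebra k k'] [FiniteDimensional k k'] [Algebra k K] [Algebra K K'] [Algebra k' K'] [Algebra k K']
    [IsScalarTower k k' K'] [IsScalarTower k K K']
    (h : Function.Bijective (Algebra.TensorProduct.productMap
      (IsScalarTower.toAlgHom k k' K') (IsScalarTower.toAlgHom k K K')))
    (hK : FunFld.IsFunctionField k K) (hg : FunFld.IsGeometric k K) :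
    FunFld.IsFunctionField k' K' ∧ FunFld.IsGeometric k' K' := by
  have hg' := isGeometric_baseChange k k' K K' h hg
  refine ⟨⟨?_, fun y hy => ?_⟩, hg'⟩
  · have : FiniteDimensional K K' := by
      have : Function.Surjective (Algebra.TensorProduct.lift (Algebra.ofId K K')
          (IsScalarTower.toAlgHom k k' K') fun _ _ => .all _ _ : K ⊗[k] k' →ₐ[K] K') := fun z => by
        obtain ⟨w, rfl⟩ := h.2 z
        refine ⟨Algebra.TensorProduct.comm k k' K w, ?_⟩
        induction w using TensorProduct.induction_on with
        | zero => simp
        | tmul a b => simp [mul_comm]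
        | add a b ha hb => simp [ha, hb]
      exact Module.Finite.of_surjective _ (this : Function.Surjective
        (Algebra.TensorProduct.lift (Algebra.ofId K K')
          (IsScalarTower.toAlgHom k k' K') fun _ _ => .all _ _ : K ⊗[k] k' →ₐ[K] K').toLinearMap)
    obtain ⟨x, hx, hfin⟩ := hK.1
    refine ⟨algebraMap K K' x, fun ha => Lib.FunFld.Ext.transcendental_map (K' := K') hx (ha.restrictScalars k), ?_⟩
    let F := adjoin k ({x} : Set K)
    let F' := adjoin k' ({algebraMap K K' x} : Set K')
    have hle : F ≤ (F'.restrictScalars k).comap (IsScalarTower.toAlgHom k K K') :=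
      adjoin_simple_le_iff.2 (mem_adjoin_simple_self k' (algebraMap K K' x))
    let f : F →+* F' := RingHom.codRestrict ((algebraMap K K').comp (algebraMap F K)) F'.toSubfield.toSubring
      fun a => hle a.2
    let : Algebra F F' := f.toAlgebra
    have : IsScalarTower F F' K' := IsScalarTower.of_algebraMap_eq fun a => rfl
    have : FiniteDimensional F K' := FiniteDimensional.trans F K K'
    exact Module.Finite.of_restrictScalars_finite F F' K'
  · have hint := hy.isIntegral
    have := Fact.mk (minpoly.irreducible hint)
    have : FiniteDimensional k' (AdjoinRoot (minpoly k' y)) :=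
      (AdjoinRoot.powerBasis (minpoly.ne_zero hint)).finite
    let i : AdjoinRoot (minpoly k' y) →ₐ[k'] K' :=
      AdjoinRoot.liftAlgHom _ (Algebra.ofId k' K') y (minpoly.aeval k' y)
    obtain ⟨c, hc⟩ := finrank_eq_one_of_isField i (hg' _ inferInstance) (AdjoinRoot.root _)
    exact ⟨c, (i.commutes c).symm.trans ((congrArg i hc).trans (AdjoinRoot.liftAlgHom_root ..))⟩

end Groth.Agent.S11006
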