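import Groth.Statements.S11009
import Groth.Agent.Lib.FunFld.Ext
-- import your own Groth.Agent.* helpers here

set_option autoImplicit false
open FunFld

namespace Groth.Agent.S11009
open Groth.Agent.Lib.FunFld

/-- For a place `P` of a function field of one variable `K/k` and a finite extension `K'/K`, `∑_{Q | P}
e(Q|P) f(Q|P) = [K' : K]`; written here as `∑ e(Q|P) [F_Q : k] = [K' : K] [F_P : k]` over the
finitely many places `Q` of `K'` above `P`. -/
theorem result (k K K' : Type*) [Field k] [Field K] [Field K'] [Algebra k K] [Algebra K K'] [Algebra k K']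
    [IsScalarTower k K K'] [FiniteDimensional K K'] (hK : FunFld.IsFunctionField k K) (P : FunFld.Place k K) :
    {Q : FunFld.Place k K' | FunFld.IsOver Q P}.Finite ∧
    ∀ (Qs : Finset (FunFld.Place k K')), (∀ Q, Q ∈ Qs ↔ FunFld.IsOver Q P) →
      (∑ Q ∈ Qs, FunFld.ramIdx Q P * Q.deg) = Module.finrank K K' * P.deg := by
  obtain ⟨hfin, hsum⟩ := Ext.sum_ramIdx_mul_deg (K' := K') hK P
  refine ⟨hfin, fun Qs hQs => ?_⟩
  rw [show Qs = hfin.toFinset from Finset.ext fun Q => by rw [hQs, hfin.mem_toFinset]; exact Iff.rfl]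
  exact hsum

end Groth.Agent.S11009
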