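import Groth.Statements.S11010
import Groth.Agent.H81.FunFldGeom
import Groth.Agent.Lib.FunFld.Hasse.Separable

set_option autoImplicit false
universe u v
open FunFld IntermediateField

namespace Groth.Agent.S11010

/-- A finite separable extension `K'/k'` of a geometric function field of one variable `K/k` (with `k'`
the constant field of `K'`) is again geometric. (The published statement has no separability
hypothesis on `K'/K`; for `k = 𝔽_p(s,t)`, `K = k(x)` and `K' = K(y)` with `y^p = s x^p + t`, the
field `k` is algebraically closed in `K'` yet `k(s^{1/p}, t^{1/p}) ⊗_k K'` has nonzero nilpotents,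
so `K'/K` is taken separable here.) -/
theorem result (k k' : Type u) (K K' : Type v) [Field k] [Field k'] [Field K] [Field K']
    [Algebra k k'] [Algebra k K] [Algebra K K'] [Algebra k' K'] [Algebra k K']
    [IsScalarTower k k' K'] [IsScalarTower k K K'] [FiniteDimensional K K'] [Algebra.IsSeparable K K']
    (hK : FunFld.IsFunctionField k K) (hg : FunFld.IsGeometric k K)
    (hK' : FunFld.IsFunctionField k' K') : FunFld.IsGeometric k' K' := by
  obtain ⟨x, hx⟩ := Lib.FunFld.Hasse.Separable.exists_isSep_of_geometric hK hg
  let F := adjoin k ({x} : Set K)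
  let F' := adjoin k' ({algebraMap K K' x} : Set K')
  have : Algebra.IsSeparable F K := hx
  have : Algebra.IsSeparable F K' := Algebra.IsSeparable.trans F K K'
  have hle : F ≤ (F'.restrictScalars k).comap (IsScalarTower.toAlgHom k K K') :=
    adjoin_simple_le_iff.2 (mem_adjoin_simple_self k' (algebraMap K K' x))
  let f : F →+* F' := RingHom.codRestrict ((algebraMap K K').comp (algebraMap F K)) F'.toSubfield.toSubring
    fun a => hle a.2
  let : Algebra F F' := f.toAlgebra
  have : IsScalarTower F F' K' := IsScalarTower.of_algebraMap_eq fun a => rfl
  refine H81.FunFldGeom.isGeometric_of_isSep hK' (x := algebraMap K K' x) ?_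
  exact ⟨fun y => IsSeparable.tower_top F' (Algebra.IsSeparable.isSeparable F y)⟩

end Groth.Agent.S11010
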