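import Groth.Statements.S11014
import Groth.Agent.H81.Hyperelliptic

set_option autoImplicit false
open FunFld Polynomial

namespace Groth.Agent.S11014

/-- For `char k ≠ 2` and `K = k(x, y)` with `y² = f(x)`, `f` squarefree of degree `d ≥ 1`, the genus is
`(d - 2)/2` for `d` even and `(d - 1)/2` for `d` odd. -/
theorem result (k K : Type*) [Field k] [Field K] [Algebra k K]
    (hK : FunFld.IsFunctionField k K) (h2 : ringChar k ≠ 2) (x y : K) (hx : Transcendental k x)
    (hxy : IntermediateField.adjoin k ({x, y} : Set K) = ⊤)
    (f : Polynomial k) (hf : Squarefree f) (hd : 1 ≤ f.natDegree)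
    (heq : y ^ 2 = Polynomial.aeval x f) :
    FunFld.genus k K = (f.natDegree - 1) / 2 := by
  let g : RatFunc k →ₐ[k] K := RatFunc.liftAlgHom (Polynomial.aeval x)
    (nonZeroDivisors_le_comap_nonZeroDivisors_of_injective _ (transcendental_iff_injective.1 hx))
  let : Algebra (RatFunc k) K := g.toAlgebra
  have : IsScalarTower k (RatFunc k) K := IsScalarTower.of_algebraMap_eq fun c => (g.commutes c).symm
  have hι : ∀ p : k[X], algebraMap (RatFunc k) K (algebraMap k[X] (RatFunc k) p) = aeval x p := fun p => by
    show g _ = _
    simp [g, RatFunc.liftAlgHom_apply, RatFunc.num_algebraMap, RatFunc.denom_algebraMap]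
  have heq' : y ^ 2 = algebraMap (RatFunc k) K (algebraMap k[X] (RatFunc k) f) := by rw [hι, heq]
  have hint : IsIntegral (RatFunc k) y := IsIntegral.of_pow two_pos (heq' ▸ isIntegral_algebraMap)
  have htop : IntermediateField.adjoin (RatFunc k) ({y} : Set K) = ⊤ := by
    rw [eq_top_iff]
    intro z _
    have h : z ∈ IntermediateField.adjoin k ({x, y} : Set K) := hxy ▸ IntermediateField.mem_top
    refine (IntermediateField.adjoin_le_iff (T := (IntermediateField.adjoin (RatFunc k) ({y} : Set K)).restrictScalars k)).2 ?_ h
    rintro w (rfl | rfl)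
    · have := hι Polynomial.X
      rw [aeval_X] at this
      show w ∈ (IntermediateField.adjoin (RatFunc k) ({y} : Set K)).restrictScalars k
      rw [IntermediateField.mem_restrictScalars, ← this]
      exact (IntermediateField.adjoin (RatFunc k) ({y} : Set K)).algebraMap_mem _
    · show w ∈ (IntermediateField.adjoin (RatFunc k) ({w} : Set K)).restrictScalars k
      rw [IntermediateField.mem_restrictScalars]
      exact IntermediateField.mem_adjoin_simple_self (RatFunc k) w
  have hf0 : f ≠ 0 := hf.ne_zero
  have hdeg : Module.finrank (RatFunc k) K = 2 := by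
    have hyr : y ∉ Set.range (algebraMap (RatFunc k) K) := by
      rintro ⟨c, rfl⟩
      rw [← map_pow] at heq'
      have h3 := (algebraMap (RatFunc k) K).injective heq'
      obtain ⟨r, hr⟩ := IsIntegrallyClosed.isIntegral_iff.1
        (IsIntegral.of_pow two_pos (h3 ▸ isIntegral_algebraMap) : IsIntegral (Polynomial k) c)
      rw [← hr, ← map_pow] at h3
      have h4 := IsFractionRing.injective (Polynomial k) (RatFunc k) h3
      have h5 : IsUnit r := hf r ⟨1, by rw [← h4]; ring⟩
      have h6 := congrArg natDegree h4
      rw [natDegree_pow, natDegree_eq_zero_of_isUnit h5] at h6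
      omega
    rw [← IntermediateField.finrank_top', ← htop, IntermediateField.adjoin.finrank hint]
    refine le_antisymm ?_ ((minpoly.two_le_natDegree_iff hint).2 hyr)
    exact (natDegree_le_of_dvd (minpoly.dvd _ y (by simp [heq'] : aeval y (X ^ 2 - C (algebraMap k[X] (RatFunc k) f)) = 0))
      (monic_X_pow_sub_C _ two_ne_zero).ne_zero).trans_eq (natDegree_X_pow_sub_C)
  exact H81.Hyperelliptic.genus_eq hK h2 hdeg y f hf hd heq'


end Groth.Agent.S11014
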