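import Groth.Statements.S11017
import Groth.Agent.Lib.FunFld.Degree
-- import your own Groth.Agent.* helpers here

set_option autoImplicit false
open FunFld

namespace Groth.Agent.S11017

/-- For a Weil differential `ω` with divisor `C`, `ord_P [ω] ≥ e` iff `ω` kills every repartition
concentrated at `P` with `P`-component of order at least `-e`. -/
theorem result (k K : Type*) [Field k] [Field K] [Algebra k K] (ω : Module.Dual k (FunFld.adele k K)) (C : FunFld.Divisor k K) (hω : FunFld.IsDivOf ω C)
    (P : FunFld.Place k K) (e : ℤ) :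
    e ≤ C P ↔ ∀ (a : FunFld.Place k K → K) (ha : a ∈ FunFld.adele k K),
      (∀ Q, Q ≠ P → a Q = 0) → P.1 (a P) ≤ WithZero.exp e → ω ⟨a, ha⟩ = 0 := by
  classical
  constructor
  · intro he a ha hsupp hPa
    have h := (hω (C + 0)).mpr (by simp)
    rw [add_zero, FunFld.WD, Submodule.mem_dualAnnihilator] at h
    refine h _ (Submodule.mem_sup_left fun Q => ?_)
    rcases eq_or_ne Q P with rfl | hQ
    · exact hPa.trans (WithZero.exp_le_exp.mpr he)
    · change Q.1 (a Q) ≤ _
      rw [hsupp Q hQ]; simp
  · intro h
    suffices hE : C ⊔ (C + Finsupp.single P (e - C P)) ≤ C by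
      have := Finsupp.le_def.mp hE P
      simp at this
      omega
    refine (hω _).mp ?_
    rw [FunFld.WD, Submodule.mem_dualAnnihilator]
    rintro ⟨a, ha⟩ haE
    obtain ⟨b, hb, c, hc, hbc⟩ := Submodule.mem_sup.mp haE
    have hcad : c ∈ FunFld.adele k K → ω ⟨a, ha⟩ = 0 := by
      intro hcA
      have hb' : b ∈ FunFld.adele k K := by
        have : b = a - c := eq_sub_of_add_eq hbc
        rw [this]; exact sub_mem ha hcA
      let s : FunFld.Place k K → K := fun Q => if Q = P then (if e ≤ C P then 0 else b P) else 0
      have hs : s ∈ FunFld.adele k K := by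
        refine Filter.mem_cofinite.mpr ((Set.finite_singleton P).subset fun Q hQ => ?_)
        by_contra hne
        exact hQ (show Q.1 (s Q) ≤ 1 by simp [s, show Q ≠ P from hne])
      have hω0 := (hω C).mpr le_rfl
      rw [FunFld.WD, Submodule.mem_dualAnnihilator] at hω0
      have e1 : ω (⟨a, ha⟩ - ⟨s, hs⟩) = 0 := by
        refine hω0 _ (Submodule.mem_sup.mpr ⟨b - s, fun Q => ?_, c, hc, ?_⟩)
        · have hbQ : Q.1 (b Q) ≤ _ := hb Q
          rcases eq_or_ne Q P with rfl | hQ
          · simp only [Finsupp.sup_apply, Finsupp.add_apply, Finsupp.single_eq_same] at hbQ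
            by_cases hle : e ≤ C Q
            · rw [max_eq_left (by omega)] at hbQ
              simpa [s, hle] using hbQ
            · simp [s, hle]
          · simp only [Finsupp.sup_apply, Finsupp.add_apply, Finsupp.single_eq_of_ne hQ, add_zero,
              max_self] at hbQ
            simpa [s, hQ] using hbQ
        · change b - s + c = a - s
          have hbc' : b + c = a := hbc
          rw [← hbc']; abel
      have e2 : ω ⟨s, hs⟩ = 0 := by
        refine h s hs (fun Q hQ => by simp [s, hQ]) ?_
        by_cases hle : e ≤ C P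
        · simp [s, hle]
        · have hbP : P.1 (b P) ≤ _ := hb P
          simp only [Finsupp.sup_apply, Finsupp.add_apply, Finsupp.single_eq_same] at hbP
          rw [max_eq_right (by omega), add_sub_cancel] at hbP
          simpa [s, hle] using hbP
      rw [map_sub, e2, sub_zero] at e1
      exact e1
    have hbad : b ∈ FunFld.adele k K := by
      refine Filter.mem_cofinite.mpr
        ((C ⊔ (C + Finsupp.single P (e - C P))).finite_support.subset fun Q hQ h0 => hQ ?_)
      have hbQ : Q.1 (b Q) ≤ _ := hb Q
      rw [h0] at hbQ
      exact hbQ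
    refine hcad ?_
    rw [show c = a - b from eq_sub_of_add_eq (by rw [add_comm]; exact hbc)]
    exact sub_mem ha hbad

end Groth.Agent.S11017
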