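import Groth.Statements.S11019
import Mathlib

set_option autoImplicit false
open FunFld

namespace Groth.Agent.S11019

open Polynomial in
theorem no_sq {k : Type*} [Field k] {f : Polynomial k} (hf : Squarefree f) (hd : 1 ≤ f.natDegree)
    (a : RatFunc k) : a ^ 2 ≠ algebraMap (Polynomial k) (RatFunc k) f := by
  intro h
  have hq : a.denom ≠ 0 := a.denom_ne_zero
  have hq' : algebraMap (Polynomial k) (RatFunc k) a.denom ≠ 0 :=
    (map_ne_zero_iff _ (IsFractionRing.injective _ _)).mpr hq
  have h1 : a.num ^ 2 = f * a.denom ^ 2 := by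
    apply IsFractionRing.injective (Polynomial k) (RatFunc k)
    rw [← a.num_div_denom, div_pow, div_eq_iff (pow_ne_zero 2 hq')] at h
    simpa using h
  have hcop : IsCoprime a.num a.denom := a.isCoprime_num_denom
  have hu : IsUnit a.denom := by
    apply (hcop.pow_left (m := 2)).isUnit_of_dvd' _ dvd_rfl
    rw [h1]; exact ⟨f * a.denom, by ring⟩
  have hd' : a.denom.natDegree = 0 := natDegree_eq_zero_of_isUnit hu
  have hf0 : f ≠ 0 := by rintro rfl; simp at hd
  have h2 := congrArg natDegree h1
  rw [natDegree_pow, natDegree_mul hf0 (pow_ne_zero 2 hq), natDegree_pow, hd'] at h2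
  have hdvd : a.num * a.num ∣ f := by
    rw [← pow_two, h1]
    exact (associated_mul_unit_left f _ (hu.pow 2)).dvd
  have := natDegree_eq_zero_of_isUnit (hf _ hdvd)
  omega

open Polynomial in
theorem no_const {k : Type*} [Field k] {f : Polynomial k} (hf : Squarefree f) (hd : 1 ≤ f.natDegree)
    (b : RatFunc k) (c : k) (h : b ^ 2 * algebraMap (Polynomial k) (RatFunc k) f = algebraMap k (RatFunc k) c) :
    b = 0 := by
  by_contra hb
  have hq' : algebraMap (Polynomial k) (RatFunc k) b.denom ≠ 0 :=
    (map_ne_zero_iff _ (IsFractionRing.injective _ _)).mpr b.denom_ne_zero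
  have h1 : b.num ^ 2 * f = C c * b.denom ^ 2 := by
    apply IsFractionRing.injective (Polynomial k) (RatFunc k)
    rw [← b.num_div_denom, div_pow, div_mul_eq_mul_div, div_eq_iff (pow_ne_zero 2 hq'),
      IsScalarTower.algebraMap_apply k (Polynomial k) (RatFunc k)] at h
    simpa [Polynomial.algebraMap_eq] using h
  have hcop : IsCoprime b.num b.denom := b.isCoprime_num_denom
  have hdvd : b.denom ^ 2 ∣ f := by
    refine (hcop.symm.pow (m := 2) (n := 2)).dvd_of_dvd_mul_left ?_
    rw [h1]; exact Dvd.intro_left _ rfl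
  have hq := natDegree_eq_zero_of_isUnit (hf _ (by rwa [← pow_two]))
  have hf0 : f ≠ 0 := by rintro rfl; simp at hd
  have h2 := congrArg natDegree h1
  rw [natDegree_mul (pow_ne_zero 2 (RatFunc.num_ne_zero hb)) hf0, natDegree_pow] at h2
  have h3 : (C c * b.denom ^ 2).natDegree ≤ 0 := natDegree_mul_le.trans (by simp [natDegree_pow, hq])
  omega

/-- For `char k ≠ 2` and `K = k(x, y)` with `x` transcendental and `y² = f(x)`, `f` squarefree of degree
`≥ 1`: the field `k` is algebraically closed in `K` (whatever in `K` is algebraic over `k` lies in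
`k`), and `K/k` is a function field of one variable. -/
theorem result (k K : Type*) [Field k] [Field K] [Algebra k K] (h2 : ringChar k ≠ 2) (x y : K) (hx : Transcendental k x)
    (hxy : IntermediateField.adjoin k ({x, y} : Set K) = ⊤)
    (f : Polynomial k) (hf : Squarefree f) (hd : 1 ≤ f.natDegree)
    (heq : y ^ 2 = Polynomial.aeval x f) : FunFld.IsFunctionField k K := by
  let F : IntermediateField k K := IntermediateField.adjoin k ({x} : Set K)
  let φ : RatFunc k →ₐ[k] K := F.val.comp (RatFunc.algEquivOfTranscendental x hx).toAlgHom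
  letI : Algebra (RatFunc k) K := φ.toRingHom.toAlgebra
  haveI : IsScalarTower k (RatFunc k) K := IsScalarTower.of_algebraMap_eq fun c => (φ.commutes c).symm
  have hinj : Function.Injective φ := φ.toRingHom.injective
  have hF : ∀ w ∈ F, ∃ u, φ u = w := fun w hw =>
    ⟨(RatFunc.algEquivOfTranscendental x hx).symm ⟨w, hw⟩, by simp [φ]⟩
  have hφX : φ RatFunc.X = x := by simp [φ, RatFunc.algEquivOfTranscendental_X]
  have hφp : ∀ p : Polynomial k, φ (algebraMap (Polynomial k) (RatFunc k) p) = Polynomial.aeval x p := by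
    intro p
    rw [← hφX, Polynomial.aeval_algHom_apply, RatFunc.aeval_X_left_eq_algebraMap]
  have hy : ∀ u, φ u ≠ y := by
    intro u hu
    refine no_sq hf hd u (hinj ?_)
    rw [map_pow, hu, hφp, heq]
  have hyF : y ∉ F := fun h => by obtain ⟨u, hu⟩ := hF y h; exact hy u hu
  let fF : F := (RatFunc.algEquivOfTranscendental x hx) (algebraMap (Polynomial k) (RatFunc k) f)
  have hfF : (fF : K) = Polynomial.aeval x f := hφp f
  have hint : IsIntegral F y := ⟨Polynomial.X ^ 2 - Polynomial.C fF, Polynomial.monic_X_pow_sub_C _ two_ne_zero, by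
    show Polynomial.eval₂ (algebraMap F K) y _ = 0
    rw [Polynomial.eval₂_sub, Polynomial.eval₂_X_pow, Polynomial.eval₂_C, heq,
      IntermediateField.algebraMap_apply, hfF, sub_self]⟩
  have htop : IntermediateField.adjoin F ({y} : Set K) = ⊤ := by
    have h1 := IntermediateField.adjoin_adjoin_left k ({x} : Set K) ({y} : Set K)
    rw [Set.singleton_union, hxy] at h1
    exact IntermediateField.restrictScalars_eq_top_iff.mp h1
  refine ⟨⟨x, hx, ?_⟩, ?_⟩
  · have := IntermediateField.adjoin.finiteDimensional hint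
    exact LinearEquiv.finiteDimensional
      (((IntermediateField.equivOfEq htop).trans IntermediateField.topEquiv).toLinearEquiv)
  intro z hz
  have hdec : ∃ a b : RatFunc k, z = φ a + φ b * y := by
    have hmem : z ∈ (IntermediateField.adjoin F ({y} : Set K)).toSubalgebra := by rw [htop]; trivial
    rw [IntermediateField.adjoin_simple_toSubalgebra_of_isAlgebraic hint.isAlgebraic,
      Algebra.adjoin_singleton_eq_range_aeval] at hmem
    obtain ⟨p, rfl⟩ := hmem
    set R : Polynomial F := Polynomial.X ^ 2 - Polynomial.C fF with hR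
    have hRm : R.Monic := Polynomial.monic_X_pow_sub_C _ two_ne_zero
    have hR0 : Polynomial.aeval y R = 0 := by
      simp [R, heq, IntermediateField.algebraMap_apply, hfF]
    obtain ⟨u, hu⟩ := hF _ ((p %ₘ R).coeff 0).2
    obtain ⟨v, hv⟩ := hF _ ((p %ₘ R).coeff 1).2
    refine ⟨u, v, ?_⟩
    show Polynomial.aeval y p = _
    rw [← Polynomial.aeval_modByMonic_eq_self_of_root hR0]
    have hdeg : (p %ₘ R).natDegree ≤ 1 := by
      have := Polynomial.natDegree_modByMonic_lt p hRm (by
        intro h; have := congrArg Polynomial.natDegree h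
        simp [R] at this)
      simp only [R, Polynomial.natDegree_X_pow_sub_C] at this ⊢; omega
    conv_lhs => rw [Polynomial.eq_X_add_C_of_natDegree_le_one hdeg]
    simp [hu, hv, IntermediateField.algebraMap_apply, add_comm]
  obtain ⟨a, b, rfl⟩ := hdec
  have hconst : ∀ u : RatFunc k, IsAlgebraic k (φ u) → ∃ c, u = algebraMap k (RatFunc k) c := by
    intro u hu
    by_contra hc
    refine RatFunc.transcendental_of_ne_C u (fun ⟨c, h⟩ => hc ⟨c, ?_⟩) ?_
    · rw [h, RatFunc.algebraMap_eq_C]
    · exact (isAlgebraic_algHom_iff φ hinj).mp hu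
  have hlin : ∀ A B : RatFunc k, φ A + φ B * y = 0 → A = 0 ∧ B = 0 := by
    intro A B h
    have hB : B = 0 := by
      by_contra hB
      refine hy (-A / B) ?_
      have hB' : φ B ≠ 0 := (map_ne_zero_iff φ hinj).mpr hB
      rw [map_div₀, map_neg, div_eq_iff hB']
      linear_combination -h
    subst hB
    exact ⟨hinj (by simpa using h), rfl⟩
  have hconj : IsAlgebraic k (φ a - φ b * y) := by
    obtain ⟨g, hg0, hg⟩ := hz
    refine ⟨g, hg0, ?_⟩
    set Q : Polynomial (RatFunc k) := Polynomial.X ^ 2 - Polynomial.C (algebraMap (Polynomial k) (RatFunc k) f) with hQ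
    have hQm : Q.Monic := Polynomial.monic_X_pow_sub_C _ two_ne_zero
    have hroot : ∀ w : K, w ^ 2 = y ^ 2 → Polynomial.aeval w Q = 0 := fun w hw => by
      simp only [Q, map_sub, map_pow, Polynomial.aeval_X, Polynomial.aeval_C, hw, heq]
      exact sub_eq_zero.mpr (hφp f).symm
    let P : Polynomial (RatFunc k) := Polynomial.aeval (Polynomial.C a + Polynomial.C b * Polynomial.X) g
    have hP : ∀ w : K, Polynomial.aeval w P = Polynomial.aeval (φ a + φ b * w) g := fun w => by
      have := (Polynomial.aeval_algHom_apply ((Polynomial.aeval w : Polynomial (RatFunc k) →ₐ[RatFunc k] K).restrictScalars k)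
        (Polynomial.C a + Polynomial.C b * Polynomial.X) g).symm
      simp only [AlgHom.restrictScalars_apply, map_add, map_mul, Polynomial.aeval_C, Polynomial.aeval_X] at this
      exact this
    have hdeg : (P %ₘ Q).natDegree ≤ 1 := by
      have := Polynomial.natDegree_modByMonic_lt P hQm (by
        intro h; have := congrArg Polynomial.natDegree h
        simp [Q] at this)
      simp only [Q, Polynomial.natDegree_X_pow_sub_C] at this ⊢; omega
    have hz0 : Polynomial.aeval y (P %ₘ Q) = 0 := by
      rw [Polynomial.aeval_modByMonic_eq_self_of_root (hroot y rfl), hP, hg]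
    rw [Polynomial.eq_X_add_C_of_natDegree_le_one hdeg] at hz0
    simp only [map_add, map_mul, Polynomial.aeval_C, Polynomial.aeval_X] at hz0
    obtain ⟨h0, h1⟩ := hlin _ _ (by rw [add_comm]; exact hz0)
    have hmod : P %ₘ Q = 0 := by
      rw [Polynomial.eq_X_add_C_of_natDegree_le_one hdeg, h0, h1]; simp
    have := Polynomial.aeval_modByMonic_eq_self_of_root (p := P) (hroot (-y) (by ring))
    rw [hmod, map_zero, hP, mul_neg, ← sub_eq_add_neg] at this
    exact this.symm
  have h2' : (2 : RatFunc k) ≠ 0 := by
    intro h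
    have h' : algebraMap k (RatFunc k) 2 = 0 := by rw [map_ofNat]; exact h
    exact h2 ((CharP.ringChar_of_prime_eq_zero Nat.prime_two (by simpa using h')))
  have h2a : IsAlgebraic k (φ (2 * a)) := by
    have := hz.isIntegral.add hconj.isIntegral
    have e : φ (2 * a) = φ a + φ b * y + (φ a - φ b * y) := by rw [map_mul, map_ofNat]; ring
    rw [e]
    exact this.isAlgebraic
  obtain ⟨c, hc⟩ := hconst _ h2a
  have ha : ∃ c', a = algebraMap k (RatFunc k) c' := ⟨c / 2, by
    rw [map_div₀, map_ofNat, ← hc, mul_div_cancel_left₀ a h2']⟩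
  obtain ⟨c', rfl⟩ := ha
  have hby : IsAlgebraic k (φ (b ^ 2 * algebraMap (Polynomial k) (RatFunc k) f)) := by
    have h3 : IsIntegral k (φ b * y) := by
      have := hz.isIntegral.sub (isIntegral_algebraMap (R := k) (A := K) (x := c'))
      rwa [AlgHom.commutes, add_sub_cancel_left] at this
    have h4 := (h3.pow 2).isAlgebraic
    rw [mul_pow, heq, ← hφp] at h4
    simpa using h4
  obtain ⟨d, hd'⟩ := hconst _ hby
  have hb := no_const hf hd b d hd'
  exact ⟨c', by rw [hb, map_zero, zero_mul, add_zero, AlgHom.commutes]⟩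

end Groth.Agent.S11019
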