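import Groth.Statements.S11020
import Groth.Agent.Lib.FunFld.Ext
import Mathlib.FieldTheory.PrimitiveElement
import Mathlib.RingTheory.Localization.Integral

set_option autoImplicit false
open FunFld Polynomial WithZero

namespace Groth.Agent.S11020

universe u v w
variable {k : Type u} {K : Type v} {K' : Type w} [Field k] [Field K] [Field K'] [Algebra k K]
  [Algebra K K'] [Algebra k K']

/-- Where the coefficients are integral and the derivative is a unit, the ramification index is one. -/
theorem surjective_comap (Q : FunFld.Place k K') (P : FunFld.Place k K) {e : ℕ} (he0 : 0 < e)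
    (he : ∀ a, Q.1 (algebraMap K K' a) = P.1 a ^ e) {y : K'} {f : P.O[X]} (hf : f.Monic)
    (hfy : eval₂ ((algebraMap K K').comp P.O.subtype) y f = 0)
    (hd : Q.1 (eval₂ ((algebraMap K K').comp P.O.subtype) y (derivative f)) = 1)
    (hgen : ∀ z : K', ∃ g : K[X], aeval y g = z) : e = 1 := by
  let ι : P.O →+* K' := (algebraMap K K').comp P.O.subtype
  have hι : ∀ a, Q.1 (ι a) ≤ 1 := fun a => (he a).trans_le (pow_le_one₀ zero_le a.2)
  have hy : Q.1 y ≤ 1 := by
    by_contra hy
    rw [not_le] at hy
    have hy0 : (0 : WithZero (Multiplicative ℤ)) < Q.1 y := zero_lt_one.trans hy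
    have h1 : f.natDegree ≠ 0 := by
      intro h0
      rw [hf.natDegree_eq_zero.1 h0] at hfy
      simp at hfy
    rw [eval₂_eq_sum_range, Finset.sum_range_succ, hf.coeff_natDegree, map_one, one_mul, add_eq_zero_iff_neg_eq] at hfy
    have h2 : Q.1 (y ^ f.natDegree) ≤ Q.1 y ^ (f.natDegree - 1) := by
      rw [← hfy, Valuation.map_neg]
      refine Q.1.map_sum_le fun i hi => ?_
      rw [map_mul, map_pow]
      exact (mul_le_of_le_one_left' (hι _)).trans (pow_le_pow_right₀ hy.le (by
        have := Finset.mem_range.1 hi; omega))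
    rw [map_pow] at h2
    have := pow_lt_pow_right₀ hy (show f.natDegree - 1 < f.natDegree by omega)
    exact absurd (h2.trans_lt this) (lt_irrefl _)
  let v : P.O[X] → WithZero (Multiplicative ℤ) := fun g => Q.1 (eval₂ ι y g)
  have hv : ∀ g, v g ≤ 1 := fun g => by
    show Q.1 (eval₂ ι y g) ≤ 1
    rw [eval₂_eq_sum_range]
    refine Q.1.map_sum_le fun i _ => ?_
    rw [map_mul, map_pow]
    exact mul_le_one₀ (hι _) zero_le (pow_le_one₀ zero_le hy)
  have vmul : ∀ a b, v (a * b) = v a * v b := fun a b => by simp [v, eval₂_mul]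
  have vadd : ∀ a b, v (a + b) ≤ max (v a) (v b) := fun a b => by simpa [v] using Q.1.map_add _ _
  let M : Ideal P.O[X] :=
    { carrier := {g | v g < 1}
      zero_mem' := by simp [v]
      add_mem' := fun {a b} ha hb => (vadd a b).trans_lt (max_lt ha hb)
      smul_mem' := fun c g hg => by
        show v (c * g) < 1
        rw [vmul]; exact (mul_le_of_le_one_left' (hv c)).trans_lt hg }
  obtain ⟨π, hπ⟩ : ∃ π : P.O, P.1 (π : K) = exp (-1) :=
    ⟨⟨Lib.FunFld.Place.unif P, by
      rw [Lib.FunFld.Place.mem_O_iff, Lib.FunFld.Place.val_unif]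
      exact (exp_le_exp.2 (by norm_num)).trans exp_zero.le⟩, Lib.FunFld.Place.val_unif P⟩
  have hvπ : v (C π) = exp (-(e : ℤ)) := by
    show Q.1 (eval₂ ι y (C π)) = _
    rw [eval₂_C]
    show Q.1 (algebraMap K K' (π : K)) = _
    rw [he, hπ, ← exp_nsmul]
    simp
  have hπ1 : v (C π) < 1 := by
    rw [hvπ]; exact (exp_lt_exp.2 (by omega)).trans_eq exp_zero
  obtain ⟨hb, hhb⟩ := (IsPrincipalIdealRing.principal (M.map (mapRingHom (IsLocalRing.residue P.O)))).principal
  obtain ⟨h, hhM, hh⟩ := (Ideal.mem_map_iff_of_surjective _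
    (map_surjective _ IsLocalRing.residue_surjective)).1 (hhb ▸ Submodule.mem_span_singleton_self hb :
      hb ∈ M.map (mapRingHom (IsLocalRing.residue P.O)))
  have hdec : ∀ g ∈ M, ∃ q r, g = h * q + C π * r := by
    intro g hg
    have := Ideal.mem_map_of_mem (mapRingHom (IsLocalRing.residue P.O)) hg
    rw [hhb, Submodule.mem_span_singleton] at this
    obtain ⟨qb, hq⟩ := this
    obtain ⟨q, rfl⟩ := map_surjective _ IsLocalRing.residue_surjective qb
    have hdvd : C π ∣ g - h * q := by
      rw [C_dvd_iff_dvd_coeff]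
      intro i
      have h0 : IsLocalRing.residue P.O ((g - h * q).coeff i) = 0 := by
        rw [← coeff_map]
        rw [← hh, smul_eq_mul] at hq
        simp only [coe_mapRingHom] at hq
        rw [Polynomial.map_sub, Polynomial.map_mul, ← hq, mul_comm, sub_self, coeff_zero]
      rw [Lib.FunFld.Place.res_eq_zero_iff] at h0
      generalize (g - h * q).coeff i = a at h0 ⊢
      have ha : P.1 ((a : K) / π) ≤ 1 := by
        rw [map_div₀, hπ, div_le_one₀ exp_pos]
        rcases eq_or_ne (P.1 (a : K)) 0 with h1 | h1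
        · rw [h1]; exact zero_le
        · rw [← exp_log h1] at h0
          have h2 := exp_lt_exp.1 (h0.trans_eq exp_zero.symm)
          rw [← exp_log h1, exp_le_exp]; omega
      refine ⟨⟨_, ha⟩, Subtype.ext ?_⟩
      have : (π : K) ≠ 0 := fun h0 => exp_ne_zero (a := (-1 : ℤ)) (by rw [← hπ, h0, map_zero])
      exact (mul_div_cancel₀ (a : K) this).symm
    obtain ⟨r, hr⟩ := hdvd
    exact ⟨q, r, by rw [← hr]; ring⟩
  have hfM : f ∈ M := by show Q.1 (eval₂ ι y f) < 1; rw [hfy, map_zero]; exact zero_lt_one
  obtain ⟨qf, rf, hf'⟩ := hdec f hfM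
  have hqf : v qf = 1 := by
    refine (hv qf).antisymm (not_lt.1 fun hlt => ?_)
    have hm : derivative f ∈ M := by
      rw [hf']
      simp only [derivative_add, derivative_mul, derivative_C, zero_mul, zero_add]
      exact M.add_mem (M.add_mem (M.mul_mem_left _ hlt) (M.mul_mem_right _ hhM)) (M.mul_mem_right _ hπ1)
    exact absurd hd (show v (derivative f) < 1 from hm).ne
  have key : ∀ n : ℕ, ∀ g, v g = exp (-(n : ℤ)) → e ∣ n := by
    intro n
    induction n using Nat.strong_induction_on with
    | _ n ih =>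
      intro g hg
      rcases Nat.eq_zero_or_pos n with rfl | hn
      · exact dvd_zero e
      obtain ⟨q, r, rfl⟩ := hdec g (show v g < 1 by rw [hg]; exact (exp_lt_exp.2 (by omega)).trans_eq exp_zero)
      have he1 : eval₂ ι y ((h * q + C π * r) * qf) = eval₂ ι y (C π * (r * qf - rf * q)) := by
        have h0 := hfy
        rw [hf'] at h0
        simp only [eval₂_mul, eval₂_add, eval₂_sub] at h0 ⊢
        linear_combination (eval₂ ι y q) * h0
      have h1 : v ((h * q + C π * r) * qf) = v (C π * (r * qf - rf * q)) := congrArg Q.1 he1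
      rw [vmul, vmul, hg, hqf, mul_one, hvπ] at h1
      have hs : v (r * qf - rf * q) ≠ 0 := fun h0 => exp_ne_zero (by rw [h1, h0, mul_zero])
      have hle := hv (r * qf - rf * q)
      rw [← exp_log hs] at hle
      replace hle := exp_le_exp.1 (hle.trans exp_zero.symm.le)
      rw [← exp_log hs, ← exp_add, exp_inj] at h1
      obtain ⟨m, hm⟩ := Int.eq_ofNat_of_zero_le (a := -log (v (r * qf - rf * q))) (by omega)
      have := ih m (by omega) _ (by rw [← hm, neg_neg, exp_log hs] : v (r * qf - rf * q) = exp (-(m : ℤ)))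
      have hnm : n = e + m := by omega
      exact hnm ▸ dvd_add dvd_rfl this
  obtain ⟨t, ht⟩ := Q.2.2 (exp (-1))
  obtain ⟨g, hg⟩ := hgen t
  obtain ⟨b', hbm, hb0⟩ := IsLocalization.integerNormalization_spec (nonZeroDivisors P.O) g
  let b : nonZeroDivisors P.O := ⟨b', hbm⟩
  replace hb0 : _ = (b : P.O) • g := hb0
  have h1 : eval₂ ι y (IsLocalization.integerNormalization (nonZeroDivisors P.O) g) = ι b * t := by
    have := congrArg (aeval y) hb0
    rw [hg.symm]
    simp only [Algebra.smul_def, map_mul, aeval_map_algebraMap] at this ⊢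
    rw [Polynomial.algebraMap_apply, aeval_C] at this
    exact this
  have hb1 : P.1 ((b : P.O) : K) ≠ 0 := (P.1.ne_zero_iff).2 fun h0 =>
    nonZeroDivisors.ne_zero b.2 (Subtype.ext h0)
  have hbl : log (P.1 ((b : P.O) : K)) ≤ 0 := by
    have := (b : P.O).2
    rw [Lib.FunFld.Place.mem_O_iff, ← exp_log hb1] at this
    exact exp_le_exp.1 (this.trans exp_zero.symm.le)
  obtain ⟨m, hm⟩ := Int.eq_ofNat_of_zero_le (a := -log (P.1 ((b : P.O) : K))) (by omega)
  have h2 : v (IsLocalization.integerNormalization (nonZeroDivisors P.O) g) = exp (-((e * m + 1 : ℕ) : ℤ)) := by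
    show Q.1 (eval₂ ι y _) = _
    rw [h1, map_mul, ht]
    show Q.1 (algebraMap K K' ((b : P.O) : K)) * _ = _
    rw [he, ← exp_log hb1, ← exp_nsmul, ← exp_add]
    push_cast
    rw [← hm, nsmul_eq_mul]
    ring_nf
  have := key _ _ h2
  exact Nat.dvd_one.1 ((Nat.dvd_add_right (dvd_mul_right e m)).1 this)

/-- In a finite separable extension `K'/K` of function fields of one variable, almost all places `Q` of
`K'` have `e(Q|P) = 1` over the place `P` of `K` below. (The published statement also gives
separability of almost all residue extensions `F_Q/F_P`; only the ramification part is stated here.) -/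
theorem result (k K K' : Type*) [Field k] [Field K] [Field K'] [Algebra k K] [Algebra K K'] [Algebra k K']
    [IsScalarTower k K K'] [FiniteDimensional K K'] (hK : FunFld.IsFunctionField k K) [Algebra.IsSeparable K K'] :
    {Q : FunFld.Place k K' | ¬ Function.Surjective (Q.1.comap (algebraMap K K'))}.Finite := by
  obtain ⟨y, hy⟩ := Field.exists_primitive_element K K'
  have hint : IsIntegral K y := Algebra.IsIntegral.isIntegral y
  let f := minpoly K y
  have hFF := Lib.FunFld.Ext.isFF_of_finite (K' := K') hK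
  have hd0 : aeval y (derivative f) ≠ 0 :=
    (Algebra.IsSeparable.isSeparable K y).aeval_derivative_ne_zero (minpoly.aeval K y)
  let fin := Lib.FunFld.Gen.Degree.finite_support_ord hFF
  refine ((fin (aeval y (derivative f))).union
    ((Finset.range (f.natDegree + 1)).finite_toSet.biUnion fun i _ => fin (algebraMap K K' (f.coeff i)))).subset ?_
  intro Q hQ
  by_contra hn
  simp only [Set.mem_union, Set.mem_iUnion, not_or, not_exists, Function.mem_support, not_not] at hn
  refine hQ ?_
  obtain ⟨P, e, he0, he⟩ := Lib.FunFld.Ext.exists_place_below hK Q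
  have hcoef : (f.coeffs : Set K) ⊆ P.O.toSubring := by
    intro a ha
    obtain ⟨i, hi, rfl⟩ := mem_coeffs_iff.1 ha
    show P.1 (f.coeff i) ≤ 1
    by_contra hlt
    rw [not_le] at hlt
    have h1 : 1 < Q.1 (algebraMap K K' (f.coeff i)) := he (f.coeff i) ▸ one_lt_pow₀ hlt he0.ne'
    have h2 := hn.2 i (Finset.mem_coe.2 (Finset.mem_range.2 (by
      have := le_natDegree_of_mem_supp i hi; omega)))
    have := (Lib.FunFld.Place.one_lt_val_iff Q).1 h1
    omega
  let f₀ : P.O[X] := f.toSubring P.O.toSubring hcoef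
  have hmap : f₀.map P.O.subtype = f := map_toSubring ..
  have hfy : eval₂ ((algebraMap K K').comp P.O.subtype) y f₀ = 0 := by
    rw [← eval₂_map, hmap]; exact minpoly.aeval K y
  have hd : Q.1 (eval₂ ((algebraMap K K').comp P.O.subtype) y (derivative f₀)) = 1 := by
    rw [← eval₂_map, ← derivative_map, hmap]
    show Q.1 (aeval y (derivative f)) = 1
    rw [Lib.FunFld.Place.val_eq_exp Q hd0, hn.1]
    simp
  have h1 := surjective_comap Q P he0 he ((monic_toSubring _ _ _).2 (minpoly.monic hint)) hfy hd fun z => by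
    have hz : z ∈ (IntermediateField.adjoin K ({y} : Set K')).toSubalgebra := by rw [hy]; trivial
    rw [IntermediateField.adjoin_simple_toSubalgebra_of_isAlgebraic hint.isAlgebraic,
      Algebra.adjoin_singleton_eq_range_aeval] at hz
    exact hz
  intro x
  obtain ⟨a, ha⟩ := P.2.2 x
  exact ⟨a, by show Q.1 (algebraMap K K' a) = x; rw [he, h1, pow_one, ha]⟩

end Groth.Agent.S11020
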