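import Groth.Statements.S11025
import Groth.Agent.H81.Ramification

set_option autoImplicit false
open FunFld

namespace Groth.Agent.S11025

/-- For `i ≥ 2` the ramification quotient `G_i/G_{i+1}` embeds in the additive group of the residue
field: it is abelian, trivial in characteristic `0`, and elementary abelian of exponent `p` in
characteristic `p`. (Residue field of `Q` assumed separable over `k`.) -/
theorem result (k K K' : Type*) [Field k] [Field K] [Field K'] [Algebra k K] [Algebra K K'] [Algebra k K']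
    [IsScalarTower k K K'] [FiniteDimensional K K'] (hK : FunFld.IsFunctionField k K) (hg : FunFld.IsGeometric k K) [IsGalois K K'] (Q : FunFld.Place k K') [Algebra.IsSeparable k (IsLocalRing.ResidueField Q.O)]
    (i : ℕ) (hi : 2 ≤ i) (σ τ : K' ≃ₐ[K] K') (hσ : (∀ x : K', Q.1 x ≤ 1 → Q.1 (σ x - x) ≤ WithZero.exp (-(i : ℤ)))) (hτ : (∀ x : K', Q.1 x ≤ 1 → Q.1 (τ x - x) ≤ WithZero.exp (-(i : ℤ)))) :
    (∀ x : K', Q.1 x ≤ 1 → Q.1 ((σ * τ * σ⁻¹ * τ⁻¹) x - x) ≤ WithZero.exp (-((i + 1) : ℤ))) ∧
    (ringChar K = 0 → (∀ x : K', Q.1 x ≤ 1 → Q.1 (σ x - x) ≤ WithZero.exp (-((i + 1) : ℤ)))) ∧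
    ∀ p : ℕ, p.Prime → ringChar K = p → (∀ x : K', Q.1 x ≤ 1 → Q.1 ((σ ^ p) x - x) ≤ WithZero.exp (-((i + 1) : ℤ))) := by
  obtain ⟨t, ht⟩ : ∃ t, Q.1 t = WithZero.exp (-1) := Q.2.2 _
  let r := H81.Ramification.res (k := k) (K := K) (K' := K')
  have hfin : ∀ g : K' ≃ₐ[K] K', IsOfFinOrder (r g) := fun g => r.isOfFinOrder (isOfFinOrder_of_finite g)
  have hσ' : H81.Ramification.InG Q (r σ) i := fun x hx => hσ x hx
  have hτ' : H81.Ramification.InG Q (r τ) i := fun x hx => hτ x hx
  refine ⟨fun x hx => ?_, fun h0 x hx => ?_, fun p hp hchar x hx => ?_⟩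
  · have h := H81.Ramification.inG_commutator ht (hfin σ) (hfin τ) hi hσ' hτ' x hx
    rw [← map_inv, ← map_inv, ← map_mul, ← map_mul, ← map_mul] at h
    simpa using! h
  · have : CharP K 0 := h0 ▸ ringChar.charP K
    have : CharP k 0 := (algebraMap k K).charP (algebraMap k K).injective 0
    have : CharZero k := CharP.charP_to_charZero k
    have h := H81.Ramification.inG_of_charZero ht (hfin σ) hi hσ' x hx
    simpa using! h
  · have : CharP K p := hchar ▸ ringChar.charP K
    have hp0 : (p : K') = 0 := by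
      rw [← map_natCast (algebraMap K K'), CharP.cast_eq_zero, map_zero]
    have h := H81.Ramification.inG_pow_of_natCast ht hi hσ' hp0 x hx
    rw [← map_pow] at h
    simpa using! h

end Groth.Agent.S11025
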