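import Groth.Statements.S11026
import Groth.Agent.H81.FunFldSub

set_option autoImplicit false
universe u v
open FunFld

namespace Groth.Agent.S11026

/-- A weakly separable finite extension `K'/k'` of a geometric function field `K/k` (the map `Ω_{K/k} →
Ω_{K'/k'}` injective) is separable over the compositum `k'K`. -/
theorem result (k k' : Type u) (K K' : Type v) [Field k] [Field k'] [Field K] [Field K']
    [Algebra k k'] [Algebra k K] [Algebra K K'] [Algebra k' K'] [Algebra k K']
    [IsScalarTower k k' K'] [IsScalarTower k K K'] [FiniteDimensional K K']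
    (hK : FunFld.IsFunctionField k K) (hg : FunFld.IsGeometric k K)
    (hK' : FunFld.IsFunctionField k' K') (hg' : FunFld.IsGeometric k' K')
    (hw : Function.Injective (KaehlerDifferential.map k k' K K')) :
    Algebra.IsSeparable (IntermediateField.adjoin K (Set.range (algebraMap k' K'))) K' := by
  obtain ⟨x, hx⟩ := Lib.FunFld.Hasse.Separable.exists_isSep_of_geometric hK hg
  have hD : KaehlerDifferential.D k K x ≠ 0 := by
    by_cases ht : Transcendental k x
    · exact H81.FunFldSep.D_ne_zero_of_isSep ht hx
    · exfalso
      obtain ⟨c, rfl⟩ := hK.2 x (by simpa [Transcendental] using ht)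
      obtain ⟨t, ht'⟩ := Lib.FunFld.Riemann.exists_transcendental hK
      have : Algebra.IsSeparable (IntermediateField.adjoin k ({algebraMap k K c} : Set K)) K := hx
      rw [IntermediateField.adjoin_simple_eq_bot_iff.2
        ((⊥ : IntermediateField k K).algebraMap_mem c)] at this
      exact ht' ((Algebra.IsSeparable.isSeparable (⊥ : IntermediateField k K) t).isIntegral.isAlgebraic.restrictScalars k)
  have hD' : KaehlerDifferential.D k' K' (algebraMap K K' x) ≠ 0 := by
    intro h
    apply hD
    apply hw
    rw [KaehlerDifferential.map_D, map_zero, h]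
  have hsep : Algebra.IsSeparable (IntermediateField.adjoin k' ({algebraMap K K' x} : Set K')) K' :=
    Lib.FunFld.Hasse.Separable.isSep_of_D_ne_zero hK'
      (Lib.FunFld.Hasse.Separable.exists_isSep_of_geometric hK' hg') hD'
  let L := IntermediateField.adjoin K (Set.range (algebraMap k' K'))
  let Lk : IntermediateField k' K' :=
    { L.toSubfield with
      algebraMap_mem' := fun c => IntermediateField.subset_adjoin _ _ ⟨c, rfl⟩ }
  have hle : IntermediateField.adjoin k' ({algebraMap K K' x} : Set K') ≤ Lk :=
    IntermediateField.adjoin_simple_le_iff.2 (L.algebraMap_mem x)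
  let _ : Algebra (IntermediateField.adjoin k' ({algebraMap K K' x} : Set K')) L :=
    ((algebraMap (IntermediateField.adjoin k' ({algebraMap K K' x} : Set K')) K').codRestrict L
      fun a => hle a.2).toAlgebra
  have : IsScalarTower (IntermediateField.adjoin k' ({algebraMap K K' x} : Set K')) L K' :=
    IsScalarTower.of_algebraMap_eq' rfl
  exact Algebra.isSeparable_tower_top_of_isSeparable
    (IntermediateField.adjoin k' ({algebraMap K K' x} : Set K')) L K'

end Groth.Agent.S11026
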