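import Groth.Statements.S11028
import Groth.Agent.H81.ASGenus

set_option autoImplicit false
open FunFld

namespace Groth.Agent.S11028

/-- For `k` perfect of characteristic `2` and `K = k(x, y)` with `y² + y = f(x)`, all poles of `f` of
odd order `2d_i - 1` at places `p_i` of `k(x)`, the genus of `K` is `-1 + ∑ d_i deg p_i`. -/
theorem result (k K : Type*) [Field k] [Field K] [PerfectField k] (h2 : ringChar k = 2) [Algebra k K]
    [Algebra (RatFunc k) K] [IsScalarTower k (RatFunc k) K] (hK : FunFld.IsFunctionField k K)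
    (hdeg : Module.finrank (RatFunc k) K = 2) (y : K) (hy : y ∉ Set.range (algebraMap (RatFunc k) K))
    (f : RatFunc k) (heq : y ^ 2 + y = algebraMap (RatFunc k) K f)
    (hodd : ∀ P : FunFld.Place k (RatFunc k), FunFld.div k f P < 0 → Odd (FunFld.div k f P)) :
    (FunFld.genus k K : ℤ) = -1 + ∑ P ∈ (FunFld.div k f).support with FunFld.div k f P < 0,
      (1 - FunFld.div k f P) / 2 * (P.deg : ℤ) := by
  classical
  have : CharP k 2 := h2 ▸ ringChar.charP k
  have hK₀ := H81.RatPlace.isFunctionField (k := k)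
  have hdiv := Lib.FunFld.Degree.div_apply hK₀ f
  simp only [hdiv] at hodd ⊢
  refine H81.ASGenus.genus_eq hK hdeg y hy f heq hodd _ fun P => ?_
  rw [Finset.mem_filter, Finsupp.mem_support_iff, hdiv]
  exact ⟨fun h => h.2, fun h => ⟨h.ne, h⟩⟩

end Groth.Agent.S11028
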