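import Groth.Statements.S11029
import Groth.Agent.H81.Inertia
import Mathlib.FieldTheory.Galois.Basic

set_option autoImplicit false
open FunFld WithZero IntermediateField Groth.Agent.Lib.FunFld Groth.Agent.Lib.FunFld.Place
open scoped Pointwise

namespace Groth.Agent.S11029

/-- Membership in the inertia group, as automorphisms. -/
theorem mem_map_inertia {K L : Type*} [Field K] [Field L] [Algebra K L] (A : ValuationSubring L)
    (σ : L ≃ₐ[K] L) :
    σ ∈ (A.inertiaSubgroup K).map (A.decompositionSubgroup K).subtype ↔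
      σ • A = A ∧ ∀ (x : L) (hx : x ∈ A), ∃ h : σ x ∈ A, ∃ y, (⟨σ x, h⟩ : A) - ⟨x, hx⟩ = y ∧
        y ∈ IsLocalRing.maximalIdeal A := by
  have key : ∀ τ : A.decompositionSubgroup K, τ ∈ A.inertiaSubgroup K ↔
      ∀ x : A, τ • IsLocalRing.residue A x = IsLocalRing.residue A x := fun τ => by
    refine ⟨fun h x => ?_, fun h => RingEquiv.ext fun y => ?_⟩
    · exact DFunLike.congr_fun (MonoidHom.mem_ker.1 h) _
    · obtain ⟨x, rfl⟩ := IsLocalRing.residue_surjective y
      exact h x
  constructor
  · rintro ⟨τ, hτ, rfl⟩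
    refine ⟨τ.2, fun x hx => ⟨(τ • (⟨x, hx⟩ : A) : A).2, _, rfl, ?_⟩⟩
    rw [← IsLocalRing.residue_eq_zero_iff, map_sub, sub_eq_zero]
    exact (key τ).1 hτ ⟨x, hx⟩
  · rintro ⟨hσ, h⟩
    refine ⟨⟨σ, hσ⟩, (key _).2 fun x => ?_, rfl⟩
    obtain ⟨h', y, rfl, hy⟩ := h x x.2
    rw [← IsLocalRing.residue_eq_zero_iff, map_sub, sub_eq_zero] at hy
    exact hy

set_option backward.isDefEq.respectTransparency false in
/-- For an intermediate field `E` of a finite Galois extension `K'/K` of a geometric function field of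
one variable and a place `Q` of `K'`, `e(Q ∩ E | Q ∩ K) = 1` iff `E` lies in the inertia field `K₁`
of `Q`. (Residue field of `Q` assumed separable over `k`; the total ramification of `K'/K₁` is not
stated.) -/
theorem result (k K K' : Type*) [Field k] [Field K] [Field K'] [Algebra k K] [Algebra K K'] [Algebra k K']
    [IsScalarTower k K K'] [FiniteDimensional K K'] (hK : FunFld.IsFunctionField k K) (hg : FunFld.IsGeometric k K) [IsGalois K K'] (Q : FunFld.Place k K') [Algebra.IsSeparable k (IsLocalRing.ResidueField Q.O)]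
    (E : IntermediateField K K') :
    Set.range (Q.1.comap (algebraMap E K')) = Set.range (Q.1.comap (algebraMap K K')) ↔
      E ≤ IntermediateField.fixedField
        (((Q.O).inertiaSubgroup K).map ((Q.O).decompositionSubgroup K).subtype) := by
  classical
  obtain ⟨P, e, he0, he⟩ := Ext.exists_place_below hK Q
  have : IsScalarTower k E K' := IsScalarTower.of_algebraMap_eq fun c => by
    rw [IsScalarTower.algebraMap_apply k K K', IsScalarTower.algebraMap_apply K E K', ← IsScalarTower.algebraMap_apply k K E]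
  obtain ⟨x, hx, hxfin⟩ := Ext.isFF_of_finite (K' := E) hK
  obtain ⟨R, eE, heE0, heE⟩ := Ext.exists_place_below' (K := E) (K' := K') ⟨x, hx, hxfin⟩ Q
  have hrange : Set.range (Q.1.comap (algebraMap E K')) = Set.range (Q.1.comap (algebraMap K K')) ↔ eE = e := by
    constructor
    · intro h
      obtain ⟨a, ha⟩ : exp (-(e : ℤ)) ∈ Set.range (Q.1.comap (algebraMap E K')) := h ▸ ⟨unif P, by
        rw [Valuation.comap_apply, he, val_unif, ← exp_nsmul]; simp⟩
      obtain ⟨b, hb⟩ : exp (-(eE : ℤ)) ∈ Set.range (Q.1.comap (algebraMap K K')) := h ▸ ⟨unif R, by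
        rw [Valuation.comap_apply, heE, val_unif, ← exp_nsmul]; simp⟩
      rw [Valuation.comap_apply, heE] at ha
      rw [Valuation.comap_apply, he] at hb
      have h1 := congrArg log ha
      have h2 := congrArg log hb
      rw [log_pow, log_exp, nsmul_eq_mul] at h1 h2
      have d1 : (eE : ℤ) ∣ e := ⟨-log (R.1 a), by linear_combination h1⟩
      have d2 : (e : ℤ) ∣ eE := ⟨-log (P.1 b), by linear_combination h2⟩
      exact Nat.dvd_antisymm (Int.natCast_dvd_natCast.1 d1) (Int.natCast_dvd_natCast.1 d2)
    · intro h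
      subst h
      ext y
      constructor
      · rintro ⟨a, rfl⟩
        obtain ⟨b, hb⟩ := P.2.2 (R.1 a)
        exact ⟨b, by rw [Valuation.comap_apply, Valuation.comap_apply, he, heE, hb]⟩
      · rintro ⟨b, rfl⟩
        obtain ⟨a, ha⟩ := R.2.2 (P.1 b)
        exact ⟨a, by rw [Valuation.comap_apply, Valuation.comap_apply, he, heE, ha]⟩
  rw [hrange, IntermediateField.le_iff_le]
  let C := algebraicClosure k E
  have : Algebra.IsAlgebraic k C := algebraicClosure.isAlgebraic k E
  have hCE : FunFld.IsFunctionField C E := by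
    refine ⟨⟨x, fun ha => hx (ha.restrictScalars k), ?_⟩, fun y hy => ⟨⟨y, ?_⟩, rfl⟩⟩
    · let F := adjoin k ({x} : Set E)
      let F' := adjoin C ({x} : Set E)
      have hle : F ≤ F'.restrictScalars k := adjoin_simple_le_iff.2 (mem_adjoin_simple_self C x)
      let : Algebra F F' := (RingHom.codRestrict (algebraMap F E) F'.toSubfield.toSubring fun a => hle a.2).toAlgebra
      have : IsScalarTower F F' E := IsScalarTower.of_algebraMap_eq fun a => rfl
      exact Module.Finite.of_restrictScalars_finite F F' E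
    · exact (mem_algebraicClosure_iff (F := k)).2 (hy.restrictScalars k)
  let : Algebra C K' := ((algebraMap E K').comp C.toSubfield.subtype).toAlgebra
  have : IsScalarTower C E K' := IsScalarTower.of_algebraMap_eq fun _ => rfl
  have : IsScalarTower k C K' := IsScalarTower.of_algebraMap_eq fun c =>
    IsScalarTower.algebraMap_apply k E K' c
  have hle1 : ∀ (V : Valuation K' (WithZero (Multiplicative ℤ))), (∀ c : k, V (algebraMap k K' c) ≤ 1) →
      ∀ c : C, V (algebraMap C K' c) ≤ 1 := fun V hV c => by
    have hint : IsIntegral k (algebraMap C K' c) := (Algebra.IsIntegral.isIntegral c).map (IsScalarTower.toAlgHom k C K')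
    obtain ⟨p, hp, hp0⟩ := hint
    refine Valuation.Integers.mem_of_integral (Valuation.integer.integers V) (x := algebraMap C K' c)
      ⟨p.map ((algebraMap k K').codRestrict V.integer hV), hp.map _, ?_⟩
    rw [Polynomial.eval₂_map]
    exact hp0
  let Q' : FunFld.Place C K' := ⟨Q.1, hle1 Q.1 Q.2.1, Q.2.2⟩
  let R' : FunFld.Place C E := ⟨R.1, fun c => by
    have h1 := hle1 Q.1 Q.2.1 c
    rw [IsScalarTower.algebraMap_apply C E K', heE] at h1
    exact (pow_le_one_iff_of_nonneg zero_le heE0.ne').1 h1, R.2.2⟩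
  have : IsScalarTower k C (IsLocalRing.ResidueField Q'.O) := IsScalarTower.of_algebraMap_eq fun c => by
    show IsLocalRing.residue Q.O (algebraMap k Q.O c) = IsLocalRing.residue Q'.O (algebraMap C Q'.O (algebraMap k C c))
    exact congrArg (IsLocalRing.residue Q.O) (Subtype.ext (IsScalarTower.algebraMap_apply k C K' c))
  have : Algebra.IsSeparable k (IsLocalRing.ResidueField Q'.O) := ‹Algebra.IsSeparable k (IsLocalRing.ResidueField Q.O)›
  have : Algebra.IsSeparable C (IsLocalRing.ResidueField Q'.O) :=
    Algebra.isSeparable_tower_top_of_isSeparable k C _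
  have hcE := H81.Inertia.card_inertia (K' := K') hCE Q' R' (e := eE) heE
  have hc := H81.Inertia.card_inertia hK Q P he
  let ρ : (K' ≃ₐ[E] K') →* (K' ≃ₐ[K] K') := H81.Inertia.resScalars
  have hρ : Function.Injective ρ := fun a b h => AlgEquiv.ext fun y => congrArg (fun t => t y) h
  let I := ((Q.O).inertiaSubgroup K).map ((Q.O).decompositionSubgroup K).subtype
  let IE := ((Q'.O).inertiaSubgroup E).map ((Q'.O).decompositionSubgroup E).subtype
  have hI : Nat.card I = e := by
    rw [← hc]; exact Subgroup.card_map_of_injective Subtype.val_injective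
  have hIE : Nat.card (IE.map ρ) = eE := by
    rw [← hcE, Subgroup.card_map_of_injective hρ]; exact Subgroup.card_map_of_injective Subtype.val_injective
  have hmap : IE.map ρ = I ⊓ E.fixingSubgroup := by
    ext σ
    constructor
    · rintro ⟨τ, hτ, rfl⟩
      refine Subgroup.mem_inf.2 ⟨(mem_map_inertia _ _).2 ?_, ?_⟩
      · exact (mem_map_inertia Q'.O τ).1 hτ
      · rw [IntermediateField.mem_fixingSubgroup_iff]
        exact fun y hy => τ.commutes ⟨y, hy⟩
    · intro hσ
      obtain ⟨h1, h2⟩ := Subgroup.mem_inf.1 hσ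
      rw [IntermediateField.mem_fixingSubgroup_iff] at h2
      exact ⟨{ σ.toRingEquiv with commutes' := fun y => h2 y y.2 },
        (mem_map_inertia Q'.O _).2 ((mem_map_inertia Q.O σ).1 h1), AlgEquiv.ext fun _ => rfl⟩
  constructor
  · intro h
    have h3 : I ⊓ E.fixingSubgroup = I :=
      Subgroup.eq_of_le_of_card_ge inf_le_left (by rw [← hmap, hIE, hI, h])
    exact inf_eq_left.1 h3
  · intro h
    rw [← hIE, hmap, inf_eq_left.2 h, hI]

end Groth.Agent.S11029
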