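import Groth.Statements.S11034
import Groth.Agent.H81.RatPlace
import Groth.Agent.H81.Quadratic

set_option autoImplicit false
open FunFld

namespace Groth.Agent.S11034

/-- For `char k ≠ 2` and `K = k(x, y)`, `y² = f(x)` with `f` squarefree, each irreducible factor `p` of
`f` has a unique place `P` of `K` above it, with `e(P|p) = 2`, `f(P|p) = 1` and `deg P = deg p`. The
zero divisor of `y` and the behaviour above the infinite place of `k(x)` are not stated. -/
theorem result (k K : Type*) [Field k] [Field K] (h2 : ringChar k ≠ 2) [Algebra k K]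
    [Algebra (RatFunc k) K] [IsScalarTower k (RatFunc k) K]
    (hdeg : Module.finrank (RatFunc k) K = 2) (y : K) (f : Polynomial k) (hf : Squarefree f)
    (hd : 1 ≤ f.natDegree)
    (heq : y ^ 2 = algebraMap (RatFunc k) K (algebraMap (Polynomial k) (RatFunc k) f))
    (p : Polynomial k) (hp : Irreducible p) (hpf : p ∣ f)
    (P₀ : FunFld.Place k (RatFunc k)) (hP₀ : P₀.1 (algebraMap (Polynomial k) (RatFunc k) p) < 1) :
    (∃! P : FunFld.Place k K, FunFld.IsOver P P₀) ∧
    ∀ P : FunFld.Place k K, FunFld.IsOver P P₀ → FunFld.IsOverWith P P₀ 2 ∧ P.deg = P₀.deg := by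
  obtain ⟨g, rfl⟩ := hpf
  have hg : IsCoprime p g := hp.coprime_iff_not_dvd.2 fun ⟨c, hc⟩ => hp.not_isUnit (hf p ⟨c, by rw [hc]; ring⟩)
  have hp0 := H81.RatPlace.ι_ne_zero (k := k) hp.ne_zero
  have hg0 : g ≠ 0 := by rintro rfl; simp at hd
  have hord : P₀.ord (algebraMap (Polynomial k) (RatFunc k) (p * g)) = 1 := by
    rw [map_mul, Lib.FunFld.Place.ord_mul P₀ hp0 (H81.RatPlace.ι_ne_zero hg0),
      H81.RatPlace.ord_irreducible P₀ hp hP₀, H81.RatPlace.ord_eq_zero_of_isCoprime P₀ hp hP₀ hg]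
    rfl
  have : FiniteDimensional (RatFunc k) K := Module.finite_of_finrank_eq_succ hdeg
  refine H81.Quadratic.ramified H81.RatPlace.isFunctionField hdeg P₀ (m := 1) odd_one fun Q e he => ?_
  have h1 := Lib.FunFld.Ext.ord_map he (algebraMap (Polynomial k) (RatFunc k) (p * g))
  rw [← heq, Lib.FunFld.Place.ord_pow, hord] at h1
  exact ⟨Q.ord y, h1.symm⟩

end Groth.Agent.S11034
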