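import Groth.Statements.S11041
import Groth.Agent.Lib.FunFld.Zeta.Roots
-- import your own Groth.Agent.* helpers here

set_option autoImplicit false
open FunFld

namespace Groth.Agent.S11041
open Groth.Agent.Lib.FunFld Groth.Agent.Lib.FunFld.Zeta

/-- The Riemann hypothesis for a function field `K` of one variable over a finite field with `q`
elements: every complex root `z` of `L_K(t) = (1 - t)(1 - q t) Z_K(t)` satisfies `|z|² q = 1`;
equivalently the reciprocal roots `αᵢ` all have `|αᵢ| = q^{1/2}`. -/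
theorem result
    (k K : Type*) [Field k] [Finite k] [Field K] [Algebra k K]
    (hK : FunFld.IsFunctionField k K) (p : Polynomial ℤ)
    (hp : (p : PowerSeries ℤ) = FunFld.numerZ k K) (z : ℂ)
    (hz : (p.map (Int.castRingHom ℂ)).IsRoot z) :
    ‖z‖ ^ 2 * (Nat.card k : ℝ) = 1 := by
  obtain ⟨α, h⟩ := Roots.exists_fin hK
  have he : p.map (Int.castRingHom ℂ) = ∏ i, (1 - Polynomial.C (α i) * Polynomial.X) := by
    rw [← Polynomial.coe_inj, Polynomial.polynomial_map_coe, hp]
    exact Roots.map_numerZ_fin hK α h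
  rw [he, Polynomial.IsRoot, Polynomial.eval_prod, Finset.prod_eq_zero_iff] at hz
  obtain ⟨i, -, hi⟩ := hz
  simp only [Polynomial.eval_sub, Polynomial.eval_one, Polynomial.eval_mul, Polynomial.eval_C,
    Polynomial.eval_X, sub_eq_zero] at hi
  have hn := congrArg (‖·‖) hi
  simp only [norm_one, norm_mul,
    Roots.norm_eq hK (h ▸ Multiset.mem_coe.mpr (List.mem_ofFn.mpr ⟨i, rfl⟩) : α i ∈ Roots.M k K)] at hn
  have h2 := congrArg (· ^ 2) hn
  simp only [one_pow, mul_pow, Real.sq_sqrt (Nat.cast_nonneg _)] at h2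
  linarith

end Groth.Agent.S11041
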