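import Groth.Statements.S11043
import Mathlib.RingTheory.Polynomial.Cyclotomic.Basic
import Mathlib.RingTheory.RootsOfUnity.Complex
-- import your own Groth.Agent.* helpers here

set_option autoImplicit false
open FunFld

namespace Groth.Agent.S11043

/-- For positive integers `n`, `d` with `e = gcd(n, d)`, in `ℂ[t]` one has `(1 - t^{nd/e})^e = ∏_{θⁿ =
1} (1 - (θ t)^d)`, the product over the complex `n`-th roots of unity. -/
theorem result (n d : ℕ) (hn : 0 < n) (hd : 0 < d) :
    ((1 : Polynomial ℂ) - Polynomial.X ^ (n * d / Nat.gcd n d)) ^ Nat.gcd n d =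
      ∏ θ ∈ Polynomial.nthRootsFinset n (1 : ℂ),
        (1 - Polynomial.C (θ ^ d) * Polynomial.X ^ d) := by
  classical
  open Polynomial in
  have hroots : ∀ {R : Type} [CommRing R] [IsDomain R] {z : R} {m : ℕ}, 0 < m → IsPrimitiveRoot z m →
      ∀ f : R → ℂ[X], ∏ μ ∈ nthRootsFinset m (1 : R), f μ = ∏ i ∈ Finset.range m, f (z ^ i) := by
    intro R _ _ z m hm hz f
    have : NeZero m := ⟨hm.ne'⟩
    symm
    refine Finset.prod_bij (fun i _ => z ^ i) ?_ ?_ ?_ (fun _ _ => rfl)
    · intro i _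
      rw [mem_nthRootsFinset hm, ← pow_mul, mul_comm, pow_mul, hz.pow_eq_one, one_pow]
    · intro i hi j hj hij
      exact hz.pow_inj (Finset.mem_range.mp hi) (Finset.mem_range.mp hj) hij
    · intro μ hμ
      obtain ⟨i, hi, rfl⟩ := hz.eq_pow_of_pow_eq_one ((mem_nthRootsFinset hm _).mp hμ)
      exact ⟨i, Finset.mem_range.mpr hi, rfl⟩
  have hζ := Complex.isPrimitiveRoot_exp n hn.ne'
  set ζ := Complex.exp (2 * Real.pi * Complex.I / n)
  set e := Nat.gcd n d with he
  have hed : e ∣ n := Nat.gcd_dvd_left n d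
  have he0 : 0 < e := Nat.gcd_pos_of_pos_left d hn
  obtain ⟨m, hm⟩ := hed
  have hm0 : 0 < m := Nat.pos_of_ne_zero fun h => by rw [h, mul_zero] at hm; omega
  have hη : IsPrimitiveRoot (ζ ^ d) m := by
    have h1 := orderOf_pow' ζ hd.ne'
    rw [← hζ.eq_orderOf, ← he, hm, Nat.mul_div_cancel_left _ he0] at h1
    exact h1 ▸ IsPrimitiveRoot.orderOf _
  have hC : IsPrimitiveRoot (Polynomial.C (ζ ^ d)) m :=
    hη.map_of_injective Polynomial.C_injective
  have key : ∏ i ∈ Finset.range m, (1 - Polynomial.C ((ζ ^ d) ^ i) * Polynomial.X ^ d) =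
      1 - Polynomial.X ^ (m * d) := by
    have h1 := hC.pow_sub_pow_eq_prod_sub_mul (1 : Polynomial ℂ) (Polynomial.X ^ d) hm0
    rw [hroots hm0 hC (fun μ => 1 - μ * Polynomial.X ^ d), one_pow, ← pow_mul, mul_comm d m] at h1
    rw [h1]
    exact Finset.prod_congr rfl fun i _ => by rw [map_pow]
  rw [hroots hn hζ fun θ => 1 - Polynomial.C (θ ^ d) * Polynomial.X ^ d]
  have hexp : n * d / e = m * d := by
    rw [hm, mul_assoc, Nat.mul_div_cancel_left _ he0]
  rw [hexp, hm]
  have hstep : ∀ j : ℕ, ∏ i ∈ Finset.range (j * m),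
      (1 - Polynomial.C ((ζ ^ i) ^ d) * Polynomial.X ^ d) =
        (1 - Polynomial.X ^ (m * d) : Polynomial ℂ) ^ j := by
    intro j
    induction j with
    | zero => simp
    | succ j ih =>
      rw [Nat.succ_mul, Finset.prod_range_add, ih, pow_succ, ← key]
      congr 1
      refine Finset.prod_congr rfl fun i _ => ?_
      rw [← pow_mul, mul_comm (j * m + i) d, pow_mul, pow_add, mul_comm j m, pow_mul, hη.pow_eq_one,
        one_pow, one_mul]
  rw [hstep e]

end Groth.Agent.S11043
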