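import Groth.Statements.S11044
import Groth.Agent.Lib.FunFld.Rational
-- import your own Groth.Agent.* helpers here

set_option autoImplicit false
open FunFld

namespace Groth.Agent.S11044
open Groth.Agent.Lib.FunFld.Place Groth.Agent.Lib.FunFld.Bound Groth.Agent.Lib.FunFld.Existence Groth.Agent.Lib.FunFld.Degree Groth.Agent.Lib.FunFld.Riemann Groth.Agent.Lib.FunFld.Weil Groth.Agent.Lib.FunFld.Rational

/-- Over an algebraically closed constant field, if the genus `g` is positive and `D` has degree at
least `2g` or is canonical, then `ℓ(D - P) < ℓ(D)` for every place `P`; that is, `D` is the divisor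
of the projective map given by `L(D)`. -/
theorem result
    (k K : Type*) [Field k] [IsAlgClosed k] [Field K] [Algebra k K]
    (hK : FunFld.IsFunctionField k K) (hg : 0 < FunFld.genus k K)
    (D : FunFld.Divisor k K)
    (hD : 2 * (FunFld.genus k K : ℤ) ≤ D.deg ∨ FunFld.IsCanonical k K D) (P : FunFld.Place k K) :
    FunFld.ell (D - Finsupp.single P 1) < FunFld.ell D := by
  obtain ⟨C, hC⟩ := exists_isCanonical hK
  have hP := deg_eq_one hK P
  have hdeg : (D - Finsupp.single P 1).deg = D.deg - 1 := by
    rw [deg_sub, deg_single, hP]; rfl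
  rcases hD with hD | hD
  · have h1 := ell_eq_of_deg_ge hK (D := D) (by omega)
    have h2 := ell_eq_of_deg_ge hK (D := D - Finsupp.single P 1) (by omega)
    omega
  · have h1 := Groth.Agent.Lib.FunFld.Weil.riemann_roch hK hD (D - Finsupp.single P 1)
    rw [sub_sub_cancel, ell_single_one_eq_one hK hg hP, hdeg, deg_canonical hK hD] at h1
    have h2 := ell_canonical hK hD
    omega

end Groth.Agent.S11044
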