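import Groth.Statements.S11045
import Groth.Agent.Lib.FunFld.Gaps
import Groth.Agent.Lib.FunFld.Hasse.Wdiv
-- import your own Groth.Agent.* helpers here

set_option autoImplicit false
open FunFld

namespace Groth.Agent.S11045
open Groth.Agent.Lib.FunFld

/-- Over an algebraically closed constant field, if `n ≥ 1` is a gap number at the place `P` (no
function has a pole of exact order `n` at `P` and no other pole, i.e. `L(nP) = L((n-1)P)`), then the
gap numbers at `P` make up at least half of the positive integers below `n`. -/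
theorem result
    (k K : Type*) [Field k] [IsAlgClosed k] [Field K] [Algebra k K]
    (hK : FunFld.IsFunctionField k K) (P : FunFld.Place k K) (n : ℕ) (hn : 1 ≤ n)
    (hgap : FunFld.L (Finsupp.single P (n : ℤ)) = FunFld.L (Finsupp.single P ((n : ℤ) - 1))) :
    n - 1 ≤ 2 * Set.ncard {m : ℕ | 1 ≤ m ∧ m < n ∧
      FunFld.L (Finsupp.single P (m : ℤ)) = FunFld.L (Finsupp.single P ((m : ℤ) - 1))} := by
  have hP := Hasse.Wdiv.deg_eq_one hK P
  have hset : {m : ℕ | 1 ≤ m ∧ m < n ∧ FunFld.L (Finsupp.single P (m : ℤ)) =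
      FunFld.L (Finsupp.single P ((m : ℤ) - 1))} = {m : ℕ | 1 ≤ m ∧ m ≤ n - 1 ∧
      FunFld.L (Finsupp.single P (m : ℤ)) = FunFld.L (Finsupp.single P ((m : ℤ) - 1))} :=
    Set.ext fun m => ⟨fun h => ⟨h.1, by have := h.2.1; omega, h.2.2⟩,
      fun h => ⟨h.1, by have := h.2.1; omega, h.2.2⟩⟩
  rw [hset, Gaps.ncard_eq]
  classical
  have h1 := Gaps.succ_le_two_mul_card P ((Gaps.L_eq_iff P n).mp hgap)
  have h2 : Gaps.gapsTo P n ⊆ insert n (Gaps.gapsTo P (n - 1)) := fun m hm => by
    rw [Gaps.mem_gapsTo] at hm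
    rw [Finset.mem_insert, Gaps.mem_gapsTo]
    rcases eq_or_lt_of_le hm.1.2 with he | hl
    · exact Or.inl he
    · exact Or.inr ⟨⟨hm.1.1, by omega⟩, hm.2⟩
  have h3 := (Finset.card_le_card h2).trans (Finset.card_insert_le _ _)
  omega

end Groth.Agent.S11045
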