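import Groth.Statements.S11047
import Groth.Agent.Lib.FunFld.Auto
-- import your own Groth.Agent.* helpers here

set_option autoImplicit false
open FunFld

namespace Groth.Agent.S11047
open Groth.Agent.Lib.FunFld

/-- Over an algebraically closed constant field, a `k`-automorphism of a function field of one variable
of genus `g` that fixes more than `2g + 2` places is the identity. -/
theorem result
    (k K : Type*) [Field k] [IsAlgClosed k] [Field K] [Algebra k K]
    (hK : FunFld.IsFunctionField k K) (σ : K ≃ₐ[k] K)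
    (h : ((2 * FunFld.genus k K + 2 : ℕ) : ℕ∞) <
      Set.encard {P : FunFld.Place k K | ∀ x : K, P.1 x < 1 → P.1 (σ x) < 1}) :
    σ = 1 := by
  classical
  obtain ⟨S, hS, hcard⟩ : ∃ S : Finset (FunFld.Place k K),
      ↑S ⊆ {P : FunFld.Place k K | ∀ x : K, P.1 x < 1 → P.1 (σ x) < 1} ∧
        2 * FunFld.genus k K + 2 < S.card := by
    set T := {P : FunFld.Place k K | ∀ x : K, P.1 x < 1 → P.1 (σ x) < 1}
    obtain ⟨t, htT, ht⟩ := Set.exists_subset_encard_eq (Order.add_one_le_of_lt h)
    have hfin : t.Finite := Set.finite_of_encard_eq_coe (k := 2 * FunFld.genus k K + 2 + 1) (by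
      rw [ht]; push_cast; rfl)
    refine ⟨hfin.toFinset, by rwa [Set.Finite.coe_toFinset], ?_⟩
    rw [hfin.encard_eq_coe_toFinset_card] at ht
    have : hfin.toFinset.card = 2 * FunFld.genus k K + 2 + 1 := by exact_mod_cast ht
    omega
  exact Auto.eq_one_of_fixed hK σ (fun P hP => (Auto.isFixedPt_iff σ P).mp (hS hP)) hcard

end Groth.Agent.S11047
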