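import Groth.Statements.S11048
import Groth.Agent.Lib.FunFld.Hasse.Weierstrass
-- import your own Groth.Agent.* helpers here

set_option autoImplicit false
open FunFld

namespace Groth.Agent.S11048
open Groth.Agent.Lib.FunFld.Hasse Groth.Agent.Lib.FunFld

/-- Over an algebraically closed constant field of characteristic `0` or greater than `2g - 2`, a
function field of one variable of genus `g > 1` has only finitely many automorphisms over the
constants. -/
theorem result
    (k K : Type*) [Field k] [IsAlgClosed k] [Field K] [Algebra k K]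
    (hK : FunFld.IsFunctionField k K) (hg : 1 < FunFld.genus k K)
    (hp : ringChar k = 0 ∨ 2 * FunFld.genus k K - 2 < ringChar k) :
    Finite (K ≃ₐ[k] K) := by
  obtain ⟨C, hC⟩ := Weil.exists_isCanonical hK
  have := Degree.finiteDimensional_L hK C
  obtain ⟨n, hn⟩ : ∃ n, Module.finrank k (FunFld.L C) = n + 1 := by
    have h := Weil.ell_canonical hK hC
    simp only [FunFld.ell] at h
    exact ⟨FunFld.genus k K - 1, by omega⟩
  let b := Module.finBasisOfFinrankEq k (FunFld.L C) hn
  let φ : Fin (n + 1) → K := fun i => (b i : K)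
  have hφ : LinearIndependent k φ := b.linearIndependent.map' (FunFld.L C).subtype (Submodule.ker_subtype _)
  have hspan : Submodule.span k (Set.range φ) = FunFld.L C := by
    rw [show φ = (FunFld.L C).subtype ∘ b from rfl, Set.range_comp, Submodule.span_image, b.span_eq,
      Submodule.map_top, Submodule.range_subtype]
  obtain ⟨t, ht⟩ := Riemann.exists_transcendental hK
  obtain ⟨P, -⟩ := Existence.exists_zero hK ht
  obtain ⟨s, ψ, H, -, -, -, hH⟩ := Wdiv.exists_local hK P
  obtain ⟨Φ, hΦ⟩ := Wdiv.exists_expansions hK
  obtain ⟨J, hJ⟩ := Param.exists_orders (AlgHom.id k K) φ hK hφ hH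
  have hfin := Weierstrass.finite_wt hK hg hp hC hφ hspan hH hJ Φ hΦ
  have hS : ∀ P, P ∈ hfin.toFinset ↔ Weierstrass.wt P ≠ 0 := fun P => Set.Finite.mem_toFinset hfin
  exact Weierstrass.finite_algEquiv hK hg hfin.toFinset hS
    (Weierstrass.count hK hg hp hC hφ hspan hH hJ Φ hΦ hfin.toFinset hS)

end Groth.Agent.S11048
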