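import Groth.Statements.S11049
import Mathlib.LinearAlgebra.Dimension.RankNullity
import Mathlib.LinearAlgebra.Isomorphisms
import Mathlib.LinearAlgebra.Dimension.DivisionRing
import Mathlib.LinearAlgebra.Dimension.Finite
import Mathlib.RingTheory.Finiteness.Cardinality

set_option autoImplicit false
open CAlg

namespace Groth.Agent.S11049

/-- For `k`-algebras `S ⊆ R` with `R` an integral domain and a nonzero `x ∈ S`, if `R/S` and `R/Rx` are
finite-dimensional over `k` then `dim_k R/Rx = dim_k S/Sx`. (The published statement allows `x = 0`;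
then `R` is a field finite over `k` and the two sides are `dim_k R` and `dim_k S`, which differ for
`S = k ⊊ R`; the published proof multiplies by `x` as an injection, so `x ≠ 0` is assumed here.) -/
theorem result
    (k R : Type*) [Field k] [CommRing R]
    [IsDomain R] [Algebra k R] (S : Subalgebra k R) (x : S) (hx : (x : R) ≠ 0)
    [Module.Finite k (R ⧸ Subalgebra.toSubmodule S)]
    [Module.Finite k (R ⧸ Ideal.span {(x : R)})] :
    Module.finrank k (R ⧸ Ideal.span {(x : R)}) = Module.finrank k (S ⧸ Ideal.span {x}) := by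
  set xR : Submodule k R := (Ideal.span {(x : R)} : Ideal R).restrictScalars k with hxR
  set μ : R →ₗ[k] R := LinearMap.mulLeft k (x : R) with hμ
  set W : Submodule k R := Submodule.map μ (Subalgebra.toSubmodule S) with hW
  set SS := Subalgebra.toSubmodule S with hSS
  have hμinj : Function.Injective μ := mul_right_injective₀ hx
  have hWle : W ≤ xR := by
    rintro _ ⟨y, -, rfl⟩
    exact Ideal.mul_mem_right _ _ (Ideal.mem_span_singleton_self _)
  have hWS : W ≤ SS := by
    rintro _ ⟨y, hy, rfl⟩
    exact S.mul_mem x.2 hy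
  have hrange : LinearMap.range μ = xR := by
    ext z
    simp only [LinearMap.mem_range, hxR, Submodule.restrictScalars_mem, Ideal.mem_span_singleton',
      hμ, LinearMap.mulLeft_apply, mul_comm (x : R)]
  -- the quotient `xR / xS` is `R / S`
  let eA : (R ⧸ SS) ≃ₗ[k] (↥xR ⧸ Submodule.comap xR.subtype W) :=
    Submodule.Quotient.equiv SS (Submodule.comap xR.subtype W)
      ((LinearEquiv.ofInjective μ hμinj).trans (LinearEquiv.ofEq _ _ hrange)) (by
      ext z
      constructor
      · rintro ⟨y, hy, rfl⟩
        exact ⟨y, hy, rfl⟩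
      · rintro ⟨y, hy, hyz⟩
        exact ⟨y, hy, Subtype.ext hyz⟩)
  -- the quotient `S / xS`
  let eB : (S ⧸ Ideal.span {x}) ≃ₗ[k] (↥SS ⧸ Submodule.comap SS.subtype W) :=
    (Submodule.Quotient.restrictScalarsEquiv k (Ideal.span {x})).symm.trans
      (Submodule.Quotient.equiv ((Ideal.span {x}).restrictScalars k) (Submodule.comap SS.subtype W)
        (LinearEquiv.refl k S) (by
        ext z
        constructor
        · rintro ⟨y, hy, rfl⟩
          obtain ⟨c, rfl⟩ := Ideal.mem_span_singleton'.mp hy
          exact ⟨(c : R), c.2, by simp [hμ, mul_comm]⟩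
        · rintro ⟨c, hc, hcz⟩
          refine ⟨z, Ideal.mem_span_singleton'.mpr ⟨⟨c, hc⟩, Subtype.ext ?_⟩, rfl⟩
          have h : (x : R) * c = z := hcz
          simpa [mul_comm] using h))
  haveI hfinA : Module.Finite k (↥xR ⧸ Submodule.comap xR.subtype W) := Module.Finite.equiv eA
  haveI hfinX : Module.Finite k (R ⧸ xR) :=
    Module.Finite.equiv (Submodule.Quotient.restrictScalarsEquiv k (Ideal.span {(x : R)})).symm
  have split : ∀ U : Submodule k R, W ≤ U →
      Module.rank k (R ⧸ U) + Module.rank k (↥U ⧸ Submodule.comap U.subtype W) =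
        Module.rank k (R ⧸ W) := by
    intro U hU
    have e := Submodule.quotientQuotientEquivQuotient W U hU
    rw [← Submodule.rank_quotient_add_rank (U.map W.mkQ), e.rank_eq]
    congr 1
    let φ : (↥U ⧸ Submodule.comap U.subtype W) →ₗ[k] (R ⧸ W) :=
      (Submodule.comap U.subtype W).mapQ W U.subtype le_rfl
    have hφ : Function.Injective φ := by
      rw [← LinearMap.ker_eq_bot, Submodule.eq_bot_iff]
      intro q hq
      obtain ⟨u, rfl⟩ := Submodule.Quotient.mk_surjective _ q
      rw [LinearMap.mem_ker, Submodule.mapQ_apply, Submodule.Quotient.mk_eq_zero] at hq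
      exact (Submodule.Quotient.mk_eq_zero _).mpr hq
    have hr : LinearMap.range φ = U.map W.mkQ := by
      rw [Submodule.range_mapQ, Submodule.range_subtype]
    rw [← hr]
    exact (LinearEquiv.ofInjective φ hφ).rank_eq
  have h1 := split xR hWle
  have h2 := split SS hWS
  rw [← h2, ← eA.rank_eq, add_comm (Module.rank k (R ⧸ SS))] at h1
  have hA : Module.rank k (R ⧸ SS) < Cardinal.aleph0 := Module.rank_lt_aleph0 k _
  have h3 := Cardinal.eq_of_add_eq_add_right h1 hA
  show Cardinal.toNat (Module.rank k (R ⧸ Ideal.span {(x : R)})) = Cardinal.toNat _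
  rw [← (Submodule.Quotient.restrictScalarsEquiv k (Ideal.span {(x : R)})).rank_eq, h3, ← eB.rank_eq]

end Groth.Agent.S11049
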