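import Groth.Statements.S11052
import Groth.Agent.Lib.FunFld.MapDiv
-- import your own Groth.Agent.* helpers here

set_option autoImplicit false
open FunFld

namespace Groth.Agent.S11052
open Groth.Agent.Lib.FunFld

/-- Over an algebraically closed constant field, for a `k`-embedding `τ` of the function field `K` into
itself and a projective map `φ = (φ₀, …, φₙ)` (a linearly independent tuple), the degree of the map
`τ(φ)` is `deg τ · deg φ`, where `deg τ = [K : τ(K)]`. -/
theorem result
    (k K : Type*) [Field k] [IsAlgClosed k] [Field K] [Algebra k K]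
    (hK : FunFld.IsFunctionField k K) (τ : K →ₐ[k] K) {n : ℕ}
    (φ : Fin (n + 1) → K) (hφ : LinearIndependent k φ) :
    (FunFld.mapDiv k (τ ∘ φ)).deg =
      Module.finrank τ.fieldRange K * (FunFld.mapDiv k φ).deg := by
  obtain ⟨x, hx, -⟩ := hK.1
  have hx' : Transcendental k (τ x) := fun h => hx ((isAlgebraic_algHom_iff τ τ.toRingHom.injective).mp h)
  have hfin := Bound.finiteDimensional_adjoin_transcendental hK hx'
  let F := IntermediateField.adjoin k ({τ x} : Set K)
  have hle : F ≤ τ.fieldRange :=
    IntermediateField.adjoin_le_iff.mpr (Set.singleton_subset_iff.mpr ⟨x, rfl⟩)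
  have hfr : FiniteDimensional τ.fieldRange K := by
    let _ : Algebra F τ.fieldRange := (IntermediateField.inclusion hle).toRingHom.toAlgebra
    have : IsScalarTower F τ.fieldRange K := IsScalarTower.of_algebraMap_eq fun _ => rfl
    exact Module.Finite.of_restrictScalars_finite F τ.fieldRange K
  have hst : @IsScalarTower k K K _ τ.toRingHom.toAlgebra.toSMul _ :=
    @IsScalarTower.of_algebraMap_eq k K K _ _ _ _ τ.toRingHom.toAlgebra _ fun c => (τ.commutes c).symm
  let j : K ≃+* τ.fieldRange :=
    RingEquiv.ofBijective τ.rangeRestrict.toRingHom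
      ⟨fun a b h => τ.toRingHom.injective (congrArg Subtype.val h), fun ⟨y, z, hz⟩ => ⟨z, Subtype.ext hz⟩⟩
  have hrank : @Module.finrank K K _ _ τ.toRingHom.toAlgebra.toModule =
      Module.finrank τ.fieldRange K :=
    @Algebra.finrank_eq_of_equiv_equiv K K _ _ τ.toRingHom.toAlgebra τ.fieldRange K _ _ _ j
      (RingEquiv.refl K) (RingHom.ext fun a => rfl)
  have hfd : @FiniteDimensional K K _ _ τ.toRingHom.toAlgebra.toModule :=
    @FiniteDimensional.of_finrank_pos K K _ _ τ.toRingHom.toAlgebra.toModule
      (hrank ▸ Module.finrank_pos (R := τ.fieldRange) (M := K))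
  have h1 := @MapDiv.mapDiv_map k K _ _ _ K _ τ.toRingHom.toAlgebra _ hst hfd hK (Fin (n + 1)) _ _ φ
  have h2 := @Ext.deg_conorm k K K _ _ _ _ τ.toRingHom.toAlgebra _ hst hfd hK (FunFld.mapDiv k φ)
  rw [show (τ ∘ φ) = fun i => @algebraMap K K _ _ τ.toRingHom.toAlgebra (φ i) from rfl, h1, h2, hrank]

end Groth.Agent.S11052
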