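import Groth.Statements.S11056
import Groth.Agent.Lib.FunFld.LinSys.VeryAmple
-- import your own Groth.Agent.* helpers here

set_option autoImplicit false
open FunFld

namespace Groth.Agent.S11056
open Groth.Agent.Lib.FunFld.Place Groth.Agent.Lib.FunFld.LinSys

/-- Over an algebraically closed constant field, if `deg D ≥ 2g + 1` then the projective map given by a
basis of `L(D)` is an embedding, i.e. nonsingular at every place. Here a projective map is
nonsingular at a place when its local ring there (quotients of polynomials over `k` in the ratios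
`φᵢ/φⱼ`, `φⱼ` of least order at the place, with denominator a unit there) is the whole valuation
ring. -/
theorem result
    (k K : Type*) [Field k] [IsAlgClosed k] [Field K] [Algebra k K]
    (hK : FunFld.IsFunctionField k K) (D : FunFld.Divisor k K)
    (hD : 2 * (FunFld.genus k K : ℤ) + 1 ≤ D.deg) {n : ℕ} (φ : Fin (n + 1) → K)
    (hφ : LinearIndependent k φ) (hspan : Submodule.span k (Set.range φ) = FunFld.L D)
    (P : FunFld.Place k K) : FunFld.IsNonsingularAt φ P := by
  refine VeryAmple.isNonsingularAt_of_ell hK (fun i => hφ.ne_zero i) hspan (fun A B => ?_) P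
  have d1 : (D - Finsupp.single A 1 - Finsupp.single B 1).deg = D.deg - 2 := by
    rw [Groth.Agent.Lib.FunFld.Degree.deg_sub, Groth.Agent.Lib.FunFld.Degree.deg_sub,
      Groth.Agent.Lib.FunFld.Degree.deg_single, Groth.Agent.Lib.FunFld.Degree.deg_single,
      Groth.Agent.Lib.FunFld.Rational.deg_eq_one hK, Groth.Agent.Lib.FunFld.Rational.deg_eq_one hK]
    push_cast; ring
  have e1 := Groth.Agent.Lib.FunFld.Weil.ell_eq_of_deg_ge hK (D := D) (by omega)
  have e2 := Groth.Agent.Lib.FunFld.Weil.ell_eq_of_deg_ge hK
    (D := D - Finsupp.single A 1 - Finsupp.single B 1) (by omega)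
  omega

end Groth.Agent.S11056
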