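import Groth.Statements.S11057
import Groth.Agent.Lib.FunFld.LinSys.VeryAmple
-- import your own Groth.Agent.* helpers here

set_option autoImplicit false
open FunFld

namespace Groth.Agent.S11057
open Groth.Agent.Lib.FunFld.Place Groth.Agent.Lib.FunFld.LinSys

/-- Over an algebraically closed constant field, if `K` has degree at least `3` over every subfield
`k(x)` generated by a nonconstant element, then the canonical map (given by a basis of `L(D)` for a
canonical divisor `D`) is an embedding, i.e. nonsingular at every place. Here a projective map is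
nonsingular at a place when its local ring there (quotients of polynomials over `k` in the ratios
`φᵢ/φⱼ`, `φⱼ` of least order at the place, with denominator a unit there) is the whole valuation
ring. -/
theorem result
    (k K : Type*) [Field k] [IsAlgClosed k] [Field K] [Algebra k K]
    (hK : FunFld.IsFunctionField k K)
    (h2 : ∀ x : K, Transcendental k x →
      2 < Module.finrank (IntermediateField.adjoin k ({x} : Set K)) K)
    (D : FunFld.Divisor k K) (hD : FunFld.IsCanonical k K D) {n : ℕ} (φ : Fin (n + 1) → K)
    (hφ : LinearIndependent k φ) (hspan : Submodule.span k (Set.range φ) = FunFld.L D)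
    (P : FunFld.Place k K) : FunFld.IsNonsingularAt φ P := by
  refine VeryAmple.isNonsingularAt_of_ell hK (fun i => hφ.ne_zero i) hspan (fun A B => ?_) P
  have h0 : (0 : FunFld.Divisor k K) ≤ Finsupp.single A 1 + Finsupp.single B 1 :=
    add_nonneg (Finsupp.single_nonneg.mpr zero_le_one) (Finsupp.single_nonneg.mpr zero_le_one)
  have hdeg : FunFld.Divisor.deg (Finsupp.single A 1 + Finsupp.single B 1) = 2 := by
    rw [Groth.Agent.Lib.FunFld.Degree.deg_add, Groth.Agent.Lib.FunFld.Degree.deg_single,
      Groth.Agent.Lib.FunFld.Degree.deg_single, Groth.Agent.Lib.FunFld.Rational.deg_eq_one hK,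
      Groth.Agent.Lib.FunFld.Rational.deg_eq_one hK]
    norm_num
  have hell : FunFld.ell (Finsupp.single A 1 + Finsupp.single B 1) = 1 := by
    refine le_antisymm (not_lt.mp fun hlt => ?_) ?_
    · have := Groth.Agent.Lib.FunFld.Degree.finiteDimensional_L hK (0 : FunFld.Divisor k K)
      obtain ⟨x, hx, hx0⟩ : ∃ x ∈ FunFld.L (Finsupp.single A 1 + Finsupp.single B 1),
          x ∉ FunFld.L (0 : FunFld.Divisor k K) := by
        by_contra hc
        simp only [not_exists, not_and, not_not] at hc
        have hle := Submodule.finrank_mono (R := k)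
          (s := FunFld.L (Finsupp.single A 1 + Finsupp.single B 1))
          (t := FunFld.L (0 : FunFld.Divisor k K)) hc
        have h1 := Groth.Agent.Lib.FunFld.Degree.ell_zero hK
        unfold FunFld.ell at hlt h1
        omega
      rw [Groth.Agent.Lib.FunFld.Degree.L_zero hK, Submodule.mem_one] at hx0
      have htr : Transcendental k x := fun halg => hx0 (hK.2 x halg)
      have hle : Groth.Agent.Lib.FunFld.Degree.poleDiv (k := k) x ≤
          Finsupp.single A 1 + Finsupp.single B 1 := by
        refine Finsupp.le_def.mpr fun R => ?_
        rw [Groth.Agent.Lib.FunFld.Degree.poleDiv_apply hK]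
        refine max_le ?_ (Finsupp.le_def.mp h0 R)
        rcases (Conductor.mem_L_iff_of_le.mp hx) with hx' | hx'
        · subst hx'; exact absurd isAlgebraic_zero htr
        · have := hx' R; omega
      have h3 := Groth.Agent.Lib.FunFld.Degree.deg_mono hle
      rw [Groth.Agent.Lib.FunFld.Degree.deg_poleDiv hK htr, hdeg] at h3
      have := h2 x htr
      omega
    · have := Groth.Agent.Lib.FunFld.Degree.finiteDimensional_L hK
        (Finsupp.single A 1 + Finsupp.single B 1)
      rw [← Groth.Agent.Lib.FunFld.Degree.ell_zero hK]
      exact Submodule.finrank_mono (Groth.Agent.Lib.FunFld.Degree.L_mono h0)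
  have hrr := Groth.Agent.Lib.FunFld.Weil.riemann_roch hK hD (Finsupp.single A 1 + Finsupp.single B 1)
  rw [hdeg, hell, ← sub_sub] at hrr
  have := Groth.Agent.Lib.FunFld.Weil.ell_canonical hK hD
  omega

end Groth.Agent.S11057
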