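import Groth.Statements.S11060
import Groth.Agent.Lib.FunFld.LinSys.PlaneGenus
-- import your own Groth.Agent.* helpers here

set_option autoImplicit false
open FunFld

namespace Groth.Agent.S11060
open Groth.Agent.Lib.FunFld.LinSys

/-- Over an algebraically closed constant field, a function field of genus `g` with a nonsingular plane
model has `g` a triangular number. Here a projective map is nonsingular at a place when its local
ring there (quotients of polynomials over `k` in the ratios `φᵢ/φⱼ`, `φⱼ` of least order at the
place, with denominator a unit there) is the whole valuation ring. -/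
theorem result
    (k K : Type*) [Field k] [IsAlgClosed k] [Field K] [Algebra k K]
    (hK : FunFld.IsFunctionField k K)
    (h : ∃ x y : K, IntermediateField.adjoin k ({x, y} : Set K) = ⊤ ∧
      ∀ P : FunFld.Place k K, FunFld.IsNonsingularAt ![(1 : K), x, y] P) :
    ∃ m : ℕ, 2 * FunFld.genus k K = m * (m + 1) := by
  obtain ⟨x, y, hxy, hns⟩ := h
  have h := (PlaneGenus.two_genus_eq_iff hK x y hxy).mpr hns
  obtain ⟨e, hdeg, he, -⟩ := PlaneGenus.finrank_sp_pow hK x y hxy
  rw [hdeg] at h
  rcases Nat.lt_or_ge e 2 with h2 | h2
  · obtain rfl : e = 1 := by omega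
    refine ⟨0, ?_⟩
    norm_num at h
    omega
  · obtain ⟨m, rfl⟩ := Nat.exists_eq_add_of_le h2
    refine ⟨m, ?_⟩
    push_cast at h
    have h' : ((2 * FunFld.genus k K : ℕ) : ℤ) = ((m * (m + 1) : ℕ) : ℤ) := by
      push_cast; linarith
    exact_mod_cast h'

end Groth.Agent.S11060
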