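import Groth.Statements.S11066
import Groth.Agent.Lib.FunFld.LinSys.VeryAmple
-- import your own Groth.Agent.* helpers here

set_option autoImplicit false
open FunFld

namespace Groth.Agent.S11066
open Groth.Agent.Lib.FunFld.Place Groth.Agent.Lib.FunFld.LinSys

/-- Over an algebraically closed constant field, for an effective projective map `φ` normalized at the
place `P` (`1` in the span of the entries, all entries integral at `P`), the local ring of `φ` at
`P` has an element of order one at `P` (a local parameter) exactly when the span of the entries has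
one. The local ring consists of the quotients of polynomials over `k` in the ratios `φᵢ/φⱼ`, `φⱼ` of
least order at `P`, with denominator a unit at `P`. -/
theorem result
    (k K : Type*) [Field k] [IsAlgClosed k] [Field K] [Algebra k K]
    (hK : FunFld.IsFunctionField k K) {n : ℕ} (φ : Fin (n + 1) → K)
    (P : FunFld.Place k K) (heff : (1 : K) ∈ Submodule.span k (Set.range φ))
    (hnorm : ∀ i, P.1 (φ i) ≤ 1) :
    (∃ t : K, FunFld.InLocRing φ P t ∧ P.1 t = WithZero.exp (-1)) ↔
      ∃ t ∈ Submodule.span k (Set.range φ), P.1 t = WithZero.exp (-1) := by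
  have hone : ∃ j, P.1 (φ j) = 1 := by
    by_contra hc
    simp only [not_exists] at hc
    have key : ∀ f ∈ Submodule.span k (Set.range φ), P.1 f < 1 := by
      intro f hf
      induction hf using Submodule.span_induction with
      | mem x hx => obtain ⟨i, rfl⟩ := hx; exact lt_of_le_of_ne (hnorm i) (hc i)
      | zero => simp
      | add x y _ _ h1 h2 => exact P.1.map_add_lt h1 h2
      | smul c x _ h1 =>
        rw [Algebra.smul_def, map_mul]
        exact (mul_le_of_le_one_left' (val_algebraMap_le P c)).trans_lt h1
    exact absurd (key 1 heff) (by simp)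
  obtain ⟨j, hj1⟩ := hone
  have hj0 : φ j ≠ 0 := by intro h; rw [h, map_zero] at hj1; exact zero_ne_one hj1
  have hj : Chart.IsMax φ j P := ⟨hj0, fun i => (hnorm i).trans hj1.ge⟩
  have hmem : Submodule.span k (Set.range φ) ≤
      (Chart.ring k φ j).toSubmodule.comap (LinearMap.mulRight k (φ j)⁻¹) :=
    Submodule.span_le.mpr (by
      rintro _ ⟨i, rfl⟩
      change φ i * (φ j)⁻¹ ∈ Chart.ring k φ j
      rw [← div_eq_mul_inv]
      exact Chart.ratio_mem φ i j)
  constructor
  · rintro ⟨t, ht, ht1⟩
    by_contra hc
    simp only [not_exists, not_and] at hc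
    refine VeryAmple.no_uniformizer hj (fun i => ?_) ht ht1
    obtain ⟨c, hlt⟩ := Chart.exists_const hK P (Chart.val_ratio_le hj i)
    refine ⟨c, ?_⟩
    have e : φ i / φ j - algebraMap k K c = (φ i - c • φ j) / φ j := by
      rw [sub_div, Algebra.smul_def, mul_div_assoc, div_self hj.1, mul_one]
    rw [e, map_div₀, hj1, div_one] at hlt ⊢
    have hne := hc _ (sub_mem (Submodule.subset_span ⟨i, rfl⟩)
      (Submodule.smul_mem _ c (Submodule.subset_span ⟨j, rfl⟩)))
    rw [val_le_exp_iff]
    rcases eq_or_ne (φ i - c • φ j) 0 with h0 | h0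
    · exact Or.inl h0
    · rw [val_eq_exp P h0, ← WithZero.exp_zero, WithZero.exp_lt_exp] at hlt
      rw [val_eq_exp P h0, WithZero.exp_inj] at hne
      exact Or.inr (by omega)
  · rintro ⟨t, ht, ht1⟩
    refine ⟨t, (Chart.mem_locRing_iff hj t).mpr ⟨t * (φ j)⁻¹, hmem ht, (φ j)⁻¹, ?_, ?_, rfl⟩, ht1⟩
    · have := hmem heff
      rwa [Submodule.mem_comap, LinearMap.mulRight_apply, one_mul] at this
    · rw [map_inv₀, hj1, inv_one]

end Groth.Agent.S11066
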