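import Groth.Statements.S11068
import Groth.Agent.Lib.FunFld.Zeta.Count
-- import your own Groth.Agent.* helpers here

set_option autoImplicit false
open FunFld

namespace Groth.Agent.S11068
open Groth.Agent.Lib.FunFld Groth.Agent.Lib.FunFld.Zeta

/-- Over a finite constant field with `q` elements, let `K̄ = k̄ ⊗ K` be the constant-field extension to
an algebraic closure and `F` its Frobenius map (identity on `k̄`, `q`-th power on `K`). A place `Q`
of `K̄/k̄` satisfies `Q^F = Q` (the maximal ideal of `Q` is exactly the preimage of itself under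
`F`) if and only if `Q` is defined over `k`, i.e. the place of `K` below `Q` has degree one. -/
theorem result
    (k K kb Kb : Type*) [Field k] [Finite k] [Field K] [Algebra k K] [Field kb] [Algebra k kb]
    [IsAlgClosure k kb] [Field Kb] [Algebra K Kb] [Algebra kb Kb]
    (hK : FunFld.IsFunctionField k K)
    (hc : ∀ c : k, algebraMap K Kb (algebraMap k K c) = algebraMap kb Kb (algebraMap k kb c))
    (hgen : Algebra.adjoin K (Set.range (algebraMap kb Kb)) = ⊤)
    (F : Kb →+* Kb) (hF1 : ∀ c : kb, F (algebraMap kb Kb c) = algebraMap kb Kb c)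
    (hF2 : ∀ x : K, F (algebraMap K Kb x) = algebraMap K Kb x ^ Nat.card k)
    (Q : FunFld.Place kb Kb) :
    (∀ z : Kb, Q.1 (F z) < 1 ↔ Q.1 z < 1) ↔
      ∃ P : FunFld.Place k K, (∀ x : K, Q.1 (algebraMap K Kb x) ≤ 1 ↔ P.1 x ≤ 1) ∧ P.deg = 1 := by
  classical
  let : Algebra k Kb := ((algebraMap K Kb).comp (algebraMap k K)).toAlgebra
  have : IsScalarTower k K Kb := IsScalarTower.of_algebraMap_eq fun c => rfl
  have : IsScalarTower k kb Kb := IsScalarTower.of_algebraMap_eq fun c => hc c
  have : IsAlgClosed kb := IsAlgClosure.isAlgClosed k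
  have : Algebra.IsAlgebraic k kb := IsAlgClosure.isAlgebraic
  obtain ⟨σ, hσ⟩ := Places.exists_frob (kb := kb) (Kb := Kb) hK hgen
  have := Fintype.ofFinite k
  obtain ⟨e, hp, he⟩ := FiniteField.card k (ringChar k)
  have : Fact (ringChar k).Prime := ⟨hp⟩
  have : CharP Kb (ringChar k) := charP_of_injective_algebraMap (algebraMap k Kb).injective _
  rw [← Nat.card_eq_fintype_card] at he
  have hq0 : Nat.card k ≠ 0 := Nat.card_pos.ne'
  have hFz : ∀ z : Kb, F z = σ.symm z ^ Nat.card k := by
    intro z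
    have hz : z ∈ Algebra.adjoin K (Set.range (algebraMap kb Kb)) := hgen ▸ Algebra.mem_top
    induction hz using Algebra.adjoin_induction with
    | mem x hx =>
      obtain ⟨c, rfl⟩ := hx
      have h1 : σ.symm (algebraMap kb Kb c ^ Nat.card k) = algebraMap kb Kb c :=
        σ.symm_apply_eq.mpr (hσ c).symm
      rw [hF1, ← map_pow]
      exact h1.symm
    | algebraMap r => rw [hF2, AlgEquiv.commutes]
    | add x y _ _ hx hy =>
      rw [map_add, map_add, hx, hy, he, add_pow_char_pow]
    | mul x y _ _ hx hy => rw [map_mul, map_mul, hx, hy, mul_pow]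
  have hlt : ∀ z : Kb, Q.1 (F z) < 1 ↔ Q.1 (σ.symm z) < 1 := fun z => by
    rw [hFz, map_pow, pow_lt_one_iff_of_nonneg zero_le hq0]
  have hσ' : Twist.IsTwist (kb := kb) (Nat.card k ^ 1) (σ ^ 1).toRingEquiv :=
    Places.isTwist_pow σ hσ 1
  have key : (∀ z : Kb, Q.1 (F z) < 1 ↔ Q.1 z < 1) ↔
      Q ∈ Twist.fixedSet (kb := kb) (σ ^ 1).toRingEquiv := by
    constructor
    · intro h
      rw [Twist.mem_fixedSet_iff _ hσ']
      refine Auto.eq_of_lt_imp_lt fun z hz => ?_
      rw [Twist.pull_apply] at hz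
      change Q.1 ((σ ^ 1) z) < 1 at hz
      rw [pow_one, ← h, hlt, σ.symm_apply_apply] at hz
      exact hz
    · intro h z
      rw [hlt, ← h (σ.symm z)]
      change Q.1 ((σ ^ 1) (σ.symm z)) < 1 ↔ _
      rw [pow_one, σ.apply_symm_apply]
  rw [key]
  constructor
  · intro h
    obtain ⟨P, hP⟩ := Places.exists_below (k := k) hK hgen Q
    exact ⟨P, hP, Nat.dvd_one.mp ((Count.mem_fixedSet_iff hK hgen σ hσ 1 hP).mp h)⟩
  · rintro ⟨P, hP, hd⟩
    exact (Count.mem_fixedSet_iff hK hgen σ hσ 1 hP).mpr (Nat.dvd_one.mpr hd)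

end Groth.Agent.S11068
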