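import Groth.Statements.S11071
import Groth.Agent.Lib.FunFld.PlaneCurve.Plane
-- import your own Groth.Agent.* helpers here

set_option autoImplicit false
open FunFld

namespace Groth.Agent.S11071
open Groth.Agent.Lib.FunFld Groth.Agent.Lib.FunFld.LinSys

/-- Over an algebraically closed constant field, let `φ = (φ₀, …, φₙ)`, `n ≥ 1`, be a birational
projective map, `f₁, …, f_r` homogeneous generators of its ideal of homogeneous relations (the ideal
of the image curve), and `P` a place at which all `φᵢ/φ₀` are integral, with image point `a`. Then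
`φ` is nonsingular at `P` if and only if the matrix `(∂fᵢ/∂Xⱼ(a))`, `1 ≤ j ≤ n`, has rank `n - 1`
(entries read in the residue field of `P`). Here the local ring of `φ` at `P` consists of the
quotients of polynomials over `k` in the ratios `φᵢ/φ₀` with denominator a unit at `P`; `φ` is
nonsingular at `P` when this ring is the whole valuation ring. -/
theorem result (k K : Type*) [Field k] [IsAlgClosed k] [Field K] [Algebra k K]
    (hK : FunFld.IsFunctionField k K) {n : ℕ} (hn : 1 ≤ n)
    (φ : Fin (n + 1) → K) (hφ : LinearIndependent k φ)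
    (hbir : IntermediateField.adjoin k (Set.range fun i => φ i / φ 0) = ⊤)
    (P : FunFld.Place k K) (hP : ∀ i, P.1 (φ i) ≤ P.1 (φ 0)) {r : ℕ}
    (f : Fin r → MvPolynomial (Fin (n + 1)) k)
    (hhom : ∀ i, (f i).IsHomogeneous (f i).totalDegree)
    (hgen : Ideal.span (Set.range f) =
      RingHom.ker (MvPolynomial.aeval fun i => Polynomial.C (φ i) * Polynomial.X))
    (M : Matrix (Fin r) (Fin n) P.O)
    (hM : ∀ i j, ((M i j : P.O) : K) =
      MvPolynomial.aeval (fun l => φ l / φ 0) (MvPolynomial.pderiv j.succ (f i))) :
    FunFld.IsNonsingularAt φ P ↔ (M.map (IsLocalRing.residue P.O)).rank = n - 1 := by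
  classical
  have hne : ∀ i, φ i ≠ 0 := fun i => hφ.ne_zero i
  have hj : Chart.IsMax φ 0 P := ⟨hne 0, hP⟩
  choose a ha using fun i => Chart.exists_const hK P (Chart.val_ratio_le hj i)
  let e : k ≃+* IsLocalRing.ResidueField P.O :=
    RingEquiv.ofBijective (algebraMap k _) (Hasse.Param.res_bijective hK P)
  have hMA : M.map (IsLocalRing.residue P.O) =
      (Matrix.of fun i (j : Fin n) => PlaneCurve.Local.dlin a (f i) j.succ).map e := by
    ext i j
    exact PlaneCurve.Plane.residue_aeval ha _ _ (hM i j)
  rw [hMA, PlaneCurve.Plane.rank_map, PlaneCurve.Local.iff_finrank hK hj hbir ha,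
    PlaneCurve.Local.W_eq_span f (fun i => (f i).totalDegree) hhom hj.1 hgen ha,
    PlaneCurve.Plane.finrank_span_union, Fintype.card_fin]
  omega

end Groth.Agent.S11071
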