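import Groth.Statements.S11073
import Groth.Agent.Lib.FunFld.PlaneCurve.Homog
-- import your own Groth.Agent.* helpers here

set_option autoImplicit false
open FunFld

namespace Groth.Agent.S11073
open Groth.Agent.Lib.FunFld

/-- Over an algebraically closed constant field, the ideal of a projective plane curve — here the curve
with function field `K = k(x, y)`, whose ideal is the kernel of `X₀ ↦ T, X₁ ↦ xT, X₂ ↦ yT` into
`K[T]` — is principal, with an irreducible homogeneous generator. -/
theorem result
    (k K : Type*) [Field k] [IsAlgClosed k] [Field K] [Algebra k K]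
    (hK : FunFld.IsFunctionField k K) (x y : K)
    (hxy : IntermediateField.adjoin k ({x, y} : Set K) = ⊤) :
    ∃ f : MvPolynomial (Fin 3) k, Irreducible f ∧ f.IsHomogeneous f.totalDegree ∧
      RingHom.ker (MvPolynomial.aeval fun i => Polynomial.C (![(1 : K), x, y] i) * Polynomial.X) =
        Ideal.span {f} := by
  obtain ⟨f, hf, hfxy⟩ := LinSys.PlaneGenus.exists_equation hK x y
  obtain ⟨h1, h2⟩ := PlaneCurve.Homog.ker_eq_span hK hxy hf hfxy
  refine ⟨_, h2, ?_, h1⟩
  have h := PlaneCurve.Homog.hom_isHomogeneous (le_refl f.totalDegree)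
  rw [h.totalDegree h2.ne_zero]
  exact h

end Groth.Agent.S11073
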