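import Groth.Statements.S11075
import Groth.Agent.Lib.FunFld.LinSys.VeryAmple
import Mathlib.Algebra.BigOperators.Field
-- import your own Groth.Agent.* helpers here

set_option autoImplicit false
open FunFld

namespace Groth.Agent.S11075
open Groth.Agent.Lib.FunFld.Place Groth.Agent.Lib.FunFld.LinSys

/-- Over an algebraically closed constant field, let `φ = (φ₀, …, φₙ)`, `n ≥ 1`, be a projective map
onto the curve `V`. (a) A homogeneous `g` not vanishing identically on `V` vanishes at the image
point of only finitely many places (so a closed set not containing `V` meets `V` in a finite set);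
(b) each fibre of `φ` is finite. Here `g` vanishes at `φ(P)` when `g(φ₀/φⱼ, …, φₙ/φⱼ)` lies in the
maximal ideal of `P` for an entry `φⱼ` of least order at `P`. Two places have the same image point
when some entry `φⱼ` has least order at both and each `φᵢ/φⱼ` is congruent to one constant modulo
both maximal ideals. -/
theorem result (k K : Type*) [Field k] [IsAlgClosed k] [Field K] [Algebra k K]
    (hK : FunFld.IsFunctionField k K) {n : ℕ} (hn : 1 ≤ n)
    (φ : Fin (n + 1) → K) (hφ : LinearIndependent k φ) :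
    (∀ g : MvPolynomial (Fin (n + 1)) k, g.IsHomogeneous g.totalDegree →
      MvPolynomial.aeval φ g ≠ 0 →
        {P : FunFld.Place k K | ∃ j, φ j ≠ 0 ∧ (∀ i, P.1 (φ i) ≤ P.1 (φ j)) ∧
          P.1 (MvPolynomial.aeval (fun i => φ i / φ j) g) < 1}.Finite) ∧
    ∀ P : FunFld.Place k K, {Q : FunFld.Place k K | FunFld.SameImage φ P Q}.Finite := by
  have hne : ∀ i, φ i ≠ 0 := fun i => hφ.ne_zero i
  refine ⟨fun g hg hg0 => ?_, fun P => ?_⟩
  · refine (Set.finite_iUnion fun j : Fin (n + 1) => Groth.Agent.Lib.FunFld.Degree.finite_zeros hK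
      (MvPolynomial.aeval φ g / φ j ^ g.totalDegree)).subset ?_
    rintro P ⟨j, hj0, -, hlt⟩
    refine Set.mem_iUnion.mpr ⟨j, ?_⟩
    have e : MvPolynomial.aeval (fun i => φ i / φ j) g =
        MvPolynomial.aeval φ g / φ j ^ g.totalDegree := by
      rw [MvPolynomial.aeval_def, MvPolynomial.aeval_def, MvPolynomial.eval₂_eq,
        MvPolynomial.eval₂_eq, Finset.sum_div]
      refine Finset.sum_congr rfl fun s hs => ?_
      have hs' : ∑ i ∈ s.support, s i = g.totalDegree :=
        (hg.degree_eq_sum_deg_support hs).symm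
      rw [mul_div_assoc, ← hs', ← Finset.prod_pow_eq_pow_sum, ← Finset.prod_div_distrib]
      simp only [div_pow]
    rw [e] at hlt
    exact (ord_pos_iff _).mpr ⟨div_ne_zero hg0 (pow_ne_zero _ hj0), hlt⟩
  · have hnc : ∀ i j : Fin (n + 1), i ≠ j → ∀ c : k, φ i / φ j - algebraMap k K c ≠ 0 := by
      intro i j hij c h
      rw [sub_eq_zero, div_eq_iff (hne j), ← Algebra.smul_def] at h
      refine hφ.notMem_span_image (s := {j}) (x := i) (by simpa using hij) ?_
      rw [Set.image_singleton, h]
      exact Submodule.smul_mem _ c (Submodule.mem_span_singleton_self _)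
    obtain ⟨m, rfl⟩ := Nat.exists_eq_add_of_le hn
    have hoth : ∀ j : Fin (1 + m + 1), ∃ i, i ≠ j := fun j => exists_ne j
    choose o ho using hoth
    have hfin : ∀ j : Fin (1 + m + 1), {Q : FunFld.Place k K | ∃ c : k,
        P.1 (φ (o j) / φ j - algebraMap k K c) < 1 ∧
        Q.1 (φ (o j) / φ j - algebraMap k K c) < 1}.Finite := by
      intro j
      by_cases hex : ∃ c : k, P.1 (φ (o j) / φ j - algebraMap k K c) < 1
      · obtain ⟨c, hc⟩ := hex
        refine (Groth.Agent.Lib.FunFld.Degree.finite_zeros hK (φ (o j) / φ j - algebraMap k K c)).subset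
          fun Q ⟨d, hd, hdQ⟩ => ?_
        rw [← Chart.const_unique P hc hd] at hdQ
        exact (ord_pos_iff _).mpr ⟨hnc _ j (ho j) c, hdQ⟩
      · exact Set.finite_empty.subset fun Q ⟨d, hd, _⟩ => hex ⟨d, hd⟩
    refine (Set.finite_iUnion hfin).subset fun Q hQ => ?_
    obtain ⟨j, -, -, -, hc⟩ := hQ
    exact Set.mem_iUnion.mpr ⟨j, hc (o j)⟩

end Groth.Agent.S11075
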