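import Groth.Statements.S11079
import Mathlib.LinearAlgebra.Dual.Lemmas
import Mathlib.LinearAlgebra.Matrix.Basis
import Mathlib.LinearAlgebra.LinearIndependent.Basic
import Mathlib.FieldTheory.Galois.Basic
import Mathlib.LinearAlgebra.Matrix.GeneralLinearGroup.Defs

set_option autoImplicit false
universe u
open CAlg

namespace Groth.Agent.S11079

/-- Let L/K be a finite Galois extension of fields, n a natural number, and B a map from the Galois
group of L over K to the invertible n × n matrices over L such that B(σ) · σ(B(τ)) = B(στ) for all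
σ, τ, where σ acts on matrices entrywise and στ is the automorphism applying τ first. Then there is
an invertible matrix A over L with B(σ) = A⁻¹ · σ(A) for every σ; that is, every 1-cocycle of the
Galois group with values in GL_n(L) is a coboundary. -/
theorem result (K L : Type u) [Field K] [Field L]
    [Algebra K L] [FiniteDimensional K L] [IsGalois K L] (n : ℕ)
    (B : (L ≃ₐ[K] L) → GL (Fin n) L)
    (hB : ∀ σ τ : L ≃ₐ[K] L,
      (B σ : Matrix (Fin n) (Fin n) L) * (B τ : Matrix (Fin n) (Fin n) L).map σ = (B (σ * τ) : Matrix (Fin n) (Fin n) L)) :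
    ∃ A : GL (Fin n) L, ∀ σ : L ≃ₐ[K] L,
      (B σ : Matrix (Fin n) (Fin n) L) = ((A⁻¹ : GL (Fin n) L) : Matrix (Fin n) (Fin n) L) * (A : Matrix (Fin n) (Fin n) L).map σ := by
  classical
  let G := L ≃ₐ[K] L
  let T : G → (Fin n → L) → (Fin n → L) := fun σ v => (B σ : Matrix (Fin n) (Fin n) L).mulVec fun i => σ (v i)
  let φ : (Fin n → L) → (Fin n → L) := fun v => ∑ σ : G, T σ v
  have hfix : ∀ τ v, T τ (φ v) = φ v := by
    intro τ v
    show (B τ : Matrix (Fin n) (Fin n) L).mulVec (fun i => τ ((∑ σ : G, T σ v) i)) = ∑ σ : G, T σ v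
    rw [show (fun i => τ ((∑ σ : G, T σ v) i)) = ∑ σ : G, fun i => τ (T σ v i) from
      funext fun i => by rw [Finset.sum_apply, Finset.sum_apply, map_sum], Matrix.mulVec_sum]
    refine Fintype.sum_equiv (Equiv.mulLeft τ) _ _ fun σ => ?_
    show _ = T (τ * σ) v
    simp only [T]
    rw [← hB, ← Matrix.mulVec_mulVec]
    congr 1
    exact funext fun i => RingHom.map_mulVec (τ : L →+* L) _ _ i
  have hspan : Submodule.span L (Set.range φ) = ⊤ := by
    rw [← Subspace.dualAnnihilator_inj, Submodule.dualAnnihilator_top, eq_bot_iff]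
    intro u hu
    rw [Submodule.mem_dualAnnihilator] at hu
    rw [Submodule.mem_bot]
    refine LinearMap.ext fun w => ?_
    let v : Fin n → L := ((B 1)⁻¹ : GL (Fin n) L).val.mulVec w
    have hli : LinearIndependent L (fun σ : G => ((σ : L →* L) : L → L)) :=
      (linearIndependent_monoidHom L L).comp (fun σ : G => (σ : L →* L))
        fun σ τ h => AlgEquiv.ext fun x => DFunLike.congr_fun h x
    have hz := Fintype.linearIndependent_iff.mp hli (fun σ => u (T σ v)) (funext fun c => ?_) 1
    · rw [show T 1 v = w from ?_] at hz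
      · exact hz
      · show (B 1).val.mulVec v = w
        rw [Matrix.mulVec_mulVec, ← Units.val_mul, mul_inv_cancel, Units.val_one, Matrix.one_mulVec]
    · rw [Finset.sum_apply, Pi.zero_apply, ← hu _ (Submodule.subset_span ⟨c • v, rfl⟩), map_sum]
      refine Finset.sum_congr rfl fun σ _ => ?_
      rw [show T σ (c • v) = σ c • T σ v by
        simp only [T]
        refine Eq.trans ?_ (Matrix.mulVec_smul _ _ _); congr 1; exact funext fun i => map_mul σ _ _,
        map_smul, smul_eq_mul, Pi.smul_apply, smul_eq_mul, mul_comm]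
      rfl
  obtain ⟨b, hb, hbspan, hbli⟩ := exists_linearIndependent L (Set.range φ)
  let β := Module.Basis.mk hbli (by rw [Subtype.range_coe, hbspan, hspan])
  haveI : Fintype b := FiniteDimensional.fintypeBasisIndex β
  let β' := β.reindex (Fintype.equivFinOfCardEq (by rw [← Module.finrank_eq_card_basis β, Module.finrank_fin_fun]))
  let P : Matrix (Fin n) (Fin n) L := fun i j => β' j i
  have hP : IsUnit P := by
    have hPe : P = (Pi.basisFun L (Fin n)).toMatrix β' := by ext i j; simp [P, Module.Basis.toMatrix_apply]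
    rw [hPe]
    haveI := Module.Basis.invertibleToMatrix (Pi.basisFun L (Fin n)) β'
    exact isUnit_of_invertible _
  obtain ⟨P, hPP⟩ := hP
  have hfixP : ∀ τ : G, (B τ : Matrix (Fin n) (Fin n) L) * (P : Matrix (Fin n) (Fin n) L).map τ = P := by
    intro τ
    rw [hPP]
    ext i j
    obtain ⟨v, hv⟩ := hb (Subtype.coe_prop ((Fintype.equivFinOfCardEq
      (by rw [← Module.finrank_eq_card_basis β, Module.finrank_fin_fun]) : b ≃ Fin n).symm j))
    have hj : β' j = φ v := by
      rw [Module.Basis.reindex_apply, Module.Basis.mk_apply]; exact hv.symm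
    rw [Matrix.mul_apply]
    refine Eq.trans ?_ ((congrFun (hfix τ v) i).trans (congrFun hj i).symm)
    show _ = ∑ k, (B τ : Matrix (Fin n) (Fin n) L) i k * τ (φ v k)
    refine Finset.sum_congr rfl fun k _ => ?_
    rw [Matrix.map_apply]
    exact congrArg (fun t => _ * τ t) (congrFun hj k)
  refine ⟨P⁻¹, fun σ => ?_⟩
  rw [inv_inv]
  have h1 : (P : Matrix (Fin n) (Fin n) L).map σ * ((P⁻¹ : GL (Fin n) L) : Matrix (Fin n) (Fin n) L).map σ = 1 := by
    rw [← Matrix.map_mul, ← Units.val_mul, mul_inv_cancel, Units.val_one, Matrix.map_one _ (map_zero σ) (map_one σ)]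
  conv_rhs => rw [← hfixP σ]
  rw [Matrix.mul_assoc, h1, Matrix.mul_one]

end Groth.Agent.S11079
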