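import Groth.Statements.S11080
import Mathlib.RingTheory.DedekindDomain.AdicValuation
import Mathlib.RingTheory.Valuation.ValuationSubring

set_option autoImplicit false
universe u
open CAlg

namespace Groth.Agent.S11080

/-- Valuation rings over a curve: let A be a Dedekind domain with fraction field K. A valuation subring
O of K contains A and is different from K if and only if O is the valuation ring of the v-adic
valuation of K at some nonzero prime v of A (equivalently O is the local ring of A at a maximal
ideal, a discrete valuation ring). (The published statement takes A to be the coordinate ring of a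
nonsingular affine curve over an algebraically closed field, which is such a Dedekind domain; its
proof uses only that the local rings of A at nonzero primes are discrete valuation rings and that
nonzero primes are maximal.) -/
theorem result (A K : Type u) [CommRing A]
    [IsDedekindDomain A] [Field K] [Algebra A K] [IsFractionRing A K] (O : ValuationSubring K) :
    ((algebraMap A K).range ≤ O.toSubring ∧ O ≠ ⊤) ↔
      ∃ v : IsDedekindDomain.HeightOneSpectrum A, O = (v.valuation K).valuationSubring := by
  classical
  constructor
  · rintro ⟨hAO, hne⟩
    have hmem : ∀ a : A, algebraMap A K a ∈ O := fun a => hAO ⟨a, rfl⟩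
    let P : Ideal A :=
      { carrier := {a | O.valuation (algebraMap A K a) < 1}
        zero_mem' := by simp
        add_mem' := fun {a b} ha hb => by
          show O.valuation (algebraMap A K (a + b)) < 1
          rw [map_add]
          exact Valuation.map_add_lt _ ha hb
        smul_mem' := fun r a ha => by
          show O.valuation (algebraMap A K (r * a)) < 1
          rw [map_mul, map_mul]
          exact mul_lt_one_of_nonneg_of_lt_one_right ((O.valuation_le_one_iff _).2 (hmem r)) zero_le ha }
    have hP : P.IsPrime := by
      constructor
      · rw [Ideal.ne_top_iff_one]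
        show ¬ O.valuation (algebraMap A K 1) < 1
        simp
      · intro a b hab
        by_contra hcon
        push_neg at hcon
        have ha : O.valuation (algebraMap A K a) = 1 :=
          le_antisymm ((O.valuation_le_one_iff _).2 (hmem a)) (not_lt.1 hcon.1)
        have hb : O.valuation (algebraMap A K b) = 1 :=
          le_antisymm ((O.valuation_le_one_iff _).2 (hmem b)) (not_lt.1 hcon.2)
        have hab' : O.valuation (algebraMap A K (a * b)) < 1 := hab
        rw [map_mul, map_mul, ha, hb, mul_one] at hab'
        exact lt_irrefl _ hab'
    have hP0 : P ≠ ⊥ := by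
      intro h0
      apply hne
      refine top_unique fun x _ => ?_
      obtain ⟨a, b, hb, rfl⟩ := IsFractionRing.div_surjective A x
      have hb1 : O.valuation (algebraMap A K b) = 1 := by
        refine le_antisymm ((O.valuation_le_one_iff _).2 (hmem b)) (not_lt.1 fun hlt => ?_)
        exact nonZeroDivisors.ne_zero hb ((Submodule.eq_bot_iff _).1 h0 b hlt)
      rw [← O.valuation_le_one_iff, map_div₀, hb1, div_one]
      exact (O.valuation_le_one_iff _).2 (hmem a)
    let v : IsDedekindDomain.HeightOneSpectrum A := ⟨P, hP, hP0⟩
    refine ⟨v, ?_⟩
    have hunit : ∀ b : A, b ∉ P → O.valuation (algebraMap A K b) = 1 := fun b hb =>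
      le_antisymm ((O.valuation_le_one_iff _).2 (hmem b)) (not_lt.1 hb)
    ext x
    rw [Valuation.mem_valuationSubring_iff]
    constructor
    · intro hx
      by_contra hgt
      rw [not_le] at hgt
      have hx0 : x ≠ 0 := fun h => by simp [h] at hgt
      have hinv : v.valuation K x⁻¹ ≤ 1 := by
        rw [map_inv₀]; exact inv_le_one_of_one_le₀ hgt.le
      obtain ⟨n, ⟨d, hd⟩, hnd⟩ := v.exists_primeCompl_mul_eq_of_integer x⁻¹ hinv
      -- `d = x * n`, with `n ∈ P`
      have hn : n ∈ P := by
        by_contra hn
        have h1 : v.valuation K (algebraMap A K n) = 1 :=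
          le_antisymm (v.valuation_le_one n) (not_lt.1 fun hlt => hn ((v.valuation_lt_one_iff_mem n).1 hlt))
        have h2 : v.valuation K (algebraMap A K d) = 1 :=
          le_antisymm (v.valuation_le_one d) (not_lt.1 fun hlt => hd ((v.valuation_lt_one_iff_mem d).1 hlt))
        have := congrArg (v.valuation K) hnd
        simp only [map_mul, map_inv₀, h1, h2, mul_one, one_mul] at this
        simp [inv_eq_one] at this
        exact hgt.ne' this
      have hval := congrArg O.valuation hnd
      rw [map_mul, map_inv₀, hunit d hd] at hval
      simp only [mul_one, one_mul] at hval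
      have hn' : O.valuation (algebraMap A K n) < 1 := hn
      rw [← hval] at hn'
      refine absurd ((O.valuation_le_one_iff _).2 hx) (not_le.2 ?_)
      exact (inv_lt_one₀ (zero_lt_iff.2 ((Valuation.ne_zero_iff _).2 hx0))).1 hn'
    · intro hx
      obtain ⟨n, ⟨d, hd⟩, hnd⟩ := v.exists_primeCompl_mul_eq_of_integer x hx
      have hval := congrArg O.valuation hnd
      rw [map_mul, hunit d hd] at hval
      simp only [mul_one, one_mul] at hval
      rw [← O.valuation_le_one_iff, hval]
      exact (O.valuation_le_one_iff _).2 (hmem n)
  · rintro ⟨v, rfl⟩
    refine ⟨?_, ?_⟩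
    · rintro _ ⟨a, rfl⟩
      exact v.valuation_le_one a
    · intro h
      obtain ⟨π, hπ⟩ := v.valuation_exists_uniformizer K
      have : v.valuation K π⁻¹ ≤ 1 := (Valuation.mem_valuationSubring_iff _ _).1 (h ▸ ValuationSubring.mem_top _)
      rw [map_inv₀, hπ, inv_le_one₀ (by simp)] at this
      exact absurd this (not_le.2 (by rw [← WithZero.exp_zero, WithZero.exp_lt_exp]; omega))

end Groth.Agent.S11080
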