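import Groth.Statements.S11081
import Groth.Agent.Lib.Curves.DifferentLength
import Mathlib

set_option autoImplicit false
set_option backward.isDefEq.respectTransparency false
universe u
attribute [local instance] FractionRing.liftAlgebra
open CAlg

namespace Groth.Agent.S11081

open UniqueFactorizationMonoid

theorem trace_pi {k ι : Type*} [CommRing k] [Fintype ι] (R : ι → Type*) [∀ i, CommRing (R i)]
    [∀ i, Algebra k (R i)] [∀ i, Module.Free k (R i)] [∀ i, Module.Finite k (R i)] (x : ∀ i, R i) :
    Algebra.trace k (∀ i, R i) x = ∑ i, Algebra.trace k (R i) (x i) := by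
  classical
  let b := fun i => Module.Free.chooseBasis k (R i)
  rw [Algebra.trace_eq_matrix_trace (Pi.basis b), Matrix.trace]
  simp only [Matrix.diag]
  rw [Fintype.sum_sigma]
  refine Finset.sum_congr rfl fun i _ => ?_
  rw [Algebra.trace_eq_matrix_trace (b i), Matrix.trace]
  refine Finset.sum_congr rfl fun a _ => ?_
  simp [Algebra.leftMulMatrix_eq_repr_mul, Pi.basis_apply]

variable {A B : Type*} [CommRing A] [IsDedekindDomain A] [CommRing B] [IsDedekindDomain B] [Algebra A B]

theorem map_le_pow_count (p : Ideal A) (hpB : p.map (algebraMap A B) ≠ ⊥) (P : Ideal B)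
    (hP : P ∈ factors (p.map (algebraMap A B))) :
    p.map (algebraMap A B) ≤ P ^ (factors (p.map (algebraMap A B))).count P := by
  classical
  refine Ideal.le_of_dvd ?_
  have h := Multiset.prod_dvd_prod_of_le (Multiset.le_count_iff_replicate_le.mp
    (le_refl ((factors (p.map (algebraMap A B))).count P)))
  rw [Multiset.prod_replicate] at h
  exact h.trans (factors_prod hpB).dvd

/-- Let A be a Dedekind domain, B a Dedekind domain which is a finitely generated torsion-free A-algebra
whose fraction field is separable over that of A (B is the integral closure of A in a finite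
separable extension), p a nonzero prime ideal of A and y an element of B. Then the class modulo p of
the trace of y from B to A is the sum over the primes Q of B lying over p of e(Q|p) times the trace,
from B/Q to A/p, of the class of y modulo Q. -/
theorem result (A B : Type u) [CommRing A] [CommRing B]
    [IsDedekindDomain A] [IsDedekindDomain B] [Algebra A B] [Module.Finite A B] [Module.IsTorsionFree A B]
    [Algebra.IsSeparable (FractionRing A) (FractionRing B)]
    (p : Ideal A) [p.IsMaximal] (hp : p ≠ ⊥) (y : B) :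
    Ideal.Quotient.mk p (Algebra.intTrace A B y) =
      ∑ᶠ Q : p.primesOver B,
        Q.1.ramificationIdx A •
          Algebra.trace (A ⧸ p) (B ⧸ Q.1) (Ideal.Quotient.mk Q.1 y) := by
  classical
  letI : Field (A ⧸ p) := Ideal.Quotient.field p
  rw [← Algebra.trace_quotient_eq_of_isDedekindDomain]
  set I := p.map (algebraMap A B) with hI
  have hpB : I ≠ ⊥ := Ideal.map_ne_bot_of_ne_bot hp
  let T := (UniqueFactorizationMonoid.factors I).toFinset
  have hT : ∀ Q : Ideal B, Q ∈ T ↔ Q ∈ p.primesOver B := fun Q =>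
    IsDedekindDomain.mem_primesOverFinset_iff hp B
  haveI : ∀ P : T, (P : Ideal B).IsPrime := fun P => ((hT P).mp P.2).1
  haveI : ∀ P : T, (P : Ideal B).LiesOver p := fun P => ((hT P).mp P.2).2
  have hPbot : ∀ P : T, (P : Ideal B) ≠ ⊥ := fun P =>
    (UniqueFactorizationMonoid.irreducible_of_factor _ (Multiset.mem_toFinset.mp P.2)).ne_zero
  haveI : ∀ P : T, (P : Ideal B).IsMaximal := fun P => Ideal.IsPrime.isMaximal inferInstance (hPbot P)
  let e : T → ℕ := fun P => (UniqueFactorizationMonoid.factors I).count (P : Ideal B)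
  have hle : ∀ P : T, I ≤ (P : Ideal B) ^ e P := fun P =>
    map_le_pow_count p hpB _ (Multiset.mem_toFinset.mp P.2)
  letI : ∀ P : T, Algebra (A ⧸ p) (B ⧸ (P : Ideal B) ^ e P) := fun P =>
    Ideal.Quotient.algebraQuotientOfLEComap (Ideal.map_le_iff_le_comap.mp (hle P))
  haveI : ∀ P : T, IsScalarTower A (A ⧸ p) (B ⧸ (P : Ideal B) ^ e P) := fun P => .of_algebraMap_eq' rfl
  haveI : ∀ P : T, Module.Finite (A ⧸ p) (B ⧸ (P : Ideal B) ^ e P) := fun P =>
    .of_restrictScalars_finite A _ _
  let φ : (B ⧸ I) ≃+* (∀ P : T, B ⧸ (P : Ideal B) ^ e P) := IsDedekindDomain.quotientEquivPiFactors hpB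
  have h1 := Algebra.trace_eq_of_equiv_equiv (RingEquiv.refl (A ⧸ p)) φ
    (RingHom.ext fun a => by
      obtain ⟨a, rfl⟩ := Ideal.Quotient.mk_surjective a
      rfl) (Ideal.Quotient.mk I y)
  rw [h1]
  show Algebra.trace (A ⧸ p) (∀ P : T, B ⧸ (P : Ideal B) ^ e P) (fun P => Ideal.Quotient.mk _ y) = _
  rw [trace_pi]
  have h2 : ∀ P : T, Algebra.trace (A ⧸ p) (B ⧸ (P : Ideal B) ^ e P) (Ideal.Quotient.mk _ y) =
      (P : Ideal B).ramificationIdx A • Algebra.trace (A ⧸ p) (B ⧸ (P : Ideal B)) (Ideal.Quotient.mk _ y) := by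
    intro P
    have he : e P ≠ 0 := (Multiset.count_pos.mpr (Multiset.mem_toFinset.mp P.2)).ne'
    have hram : (P : Ideal B).ramificationIdx A = e P :=
      Ideal.IsDedekindDomain.ramificationIdx_eq_factors_count p _ hpB
    rw [hram]
    exact Groth.Agent.Lib.Curves.DifferentLength.trace_pow (P : Ideal B) (hPbot P) (e P) he (hle P) y
  simp only [h2]
  let ε : T ≃ p.primesOver B := Equiv.subtypeEquivRight hT
  letI : Fintype (p.primesOver B) := Fintype.ofEquiv _ ε
  rw [finsum_eq_sum_of_fintype]
  exact Fintype.sum_equiv ε _ _ fun P => rfl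

end Groth.Agent.S11081
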