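import Groth.Statements.S11084
import Mathlib

set_option autoImplicit false
universe u
open CAlg

namespace Groth.Agent.S11084

/-- Let k be a field and O a valuation subring of the field of rational functions k(x). Then O contains
the constants k and is different from k(x) if and only if O is the valuation ring of the P-adic
valuation at a nonzero prime P of the polynomial ring k[x], or O is the valuation ring of the
valuation at infinity (given by the degree). (The published statement has k algebraically closed, so
that these valuation rings correspond to the points of the projective line; the published proof does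
not use that k is algebraically closed. The published statement also asserts that distinct points
give distinct valuation rings, which this row does not state, and counts k(x) itself among the
valuation rings containing k; this row excludes it.) -/
theorem result (k : Type u) [Field k] [DecidableEq (RatFunc k)]
    (O : ValuationSubring (RatFunc k)) :
    ((algebraMap k (RatFunc k)).range ≤ O.toSubring ∧ O ≠ ⊤) ↔
      ((∃ v : IsDedekindDomain.HeightOneSpectrum (Polynomial k), O = (v.valuation (RatFunc k)).valuationSubring) ∨
        O = (RatFunc.inftyValuation k).valuationSubring) := by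
  classical
  constructor
  · rintro ⟨hk, hne⟩
    set v := O.valuation with hv
    have hO : v.valuationSubring = O := O.valuationSubring_valuation
    haveI : v.IsTrivialOn k := ⟨fun a ha => by
      have h1 : v (algebraMap k (RatFunc k) a) ≤ 1 := (O.valuation_le_one_iff _).2 (hk ⟨a, rfl⟩)
      have h2 : v (algebraMap k (RatFunc k) a⁻¹) ≤ 1 := (O.valuation_le_one_iff _).2 (hk ⟨a⁻¹, rfl⟩)
      rw [map_inv₀, map_inv₀, inv_le_one₀ (zero_lt_iff.2 (by simpa using ha))] at h2
      exact le_antisymm h1 h2⟩
    rcases lt_or_ge 1 (v RatFunc.X) with hlt | hle
    · right
      refine hO.symm.trans ?_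
      exact (Valuation.isEquiv_iff_valuationSubring _ _).1 (RatFunc.valuation_isEquiv_inftyValuation_of_one_lt_valuation_X hlt)
    · left
      haveI : v.IsNontrivial := by
        obtain ⟨x, hx⟩ : ∃ x, x ∉ O := by
          by_contra! h
          exact hne (SetLike.ext fun x => ⟨fun _ => ValuationSubring.mem_top x, fun _ => h x⟩)
        exact ⟨x, fun h => hx (by rw [← O.valuation_le_one_iff]; exact h ▸ zero_le_one), fun h => hx ((O.valuation_le_one_iff x).1 h.le)⟩
      refine ⟨RatFunc.valuationIdeal hle, ?_⟩
      refine hO.symm.trans ?_
      refine (Valuation.isEquiv_iff_valuationSubring _ _).1 (Valuation.isEquiv_iff_val_le_one.2 fun {f} => ?_)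
      rcases eq_or_ne f 0 with rfl | hf0
      · simp
      · induction f using RatFunc.induction_on with
        | f p q hq0 =>
          have hp0 : p ≠ 0 := by simp_all
          have hlt1 := RatFunc.valuation_uniformizingPolynomial_lt_one hle
          have h00 : 0 < v ↑(RatFunc.uniformizingPolynomial hle) := zero_lt_iff.2 (by simpa using RatFunc.uniformizingPolynomial_ne_zero hle)
          simp only [map_div₀, IsDedekindDomain.HeightOneSpectrum.valuation_of_algebraMap, IsDedekindDomain.HeightOneSpectrum.intValuation_def, WithZero.exp_neg, if_neg hp0,
            if_neg hq0, div_inv_eq_mul]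
          rw [RatFunc.valuation_eq_valuation_uniformizingPolynomial_pow_of_valuation_X_le_one hle hp0,
            RatFunc.valuation_eq_valuation_uniformizingPolynomial_pow_of_valuation_X_le_one hle hq0]
          simp_all [div_le_one₀, inv_mul_le_one₀, pow_pos, pow_le_pow_iff_right_of_lt_one₀]
  · intro h
    have htriv : ∀ {Γ : Type} [LinearOrderedCommGroupWithZero Γ] (w : Valuation (RatFunc k) Γ), (∀ c : k, w (algebraMap k (RatFunc k) c) ≤ 1) → (∃ x, 1 < w x) → O = w.valuationSubring → ((algebraMap k (RatFunc k)).range ≤ O.toSubring ∧ O ≠ ⊤) := by
      intro Γ _ w hc hx hO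
      refine ⟨?_, ?_⟩
      · rintro _ ⟨c, rfl⟩
        show _ ∈ O
        rw [hO, Valuation.mem_valuationSubring_iff]
        exact hc c
      · intro htop
        obtain ⟨x, hx⟩ := hx
        have : x ∈ O := htop ▸ trivial
        rw [hO, Valuation.mem_valuationSubring_iff] at this
        exact absurd this (not_le.2 hx)
    rcases h with ⟨v, hv⟩ | hv
    · refine htriv (v.valuation (RatFunc k)) (fun c => ?_) ?_ hv
      · rw [IsScalarTower.algebraMap_apply k (Polynomial k) (RatFunc k)]
        exact v.valuation_le_one _
      · obtain ⟨π, hπ⟩ := v.valuation_exists_uniformizer (RatFunc k)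
        refine ⟨π⁻¹, ?_⟩
        rw [map_inv₀, hπ, ← WithZero.exp_neg, ← WithZero.exp_zero, WithZero.exp_lt_exp]
        norm_num
    · refine htriv (RatFunc.inftyValuation k) (fun c => ?_) ⟨RatFunc.X, ?_⟩ hv
      · rcases eq_or_ne c 0 with rfl | hc
        · simp
        · rw [RatFunc.algebraMap_eq_C, RatFunc.inftyValuation.C k hc]
      · rw [RatFunc.inftyValuation.X, ← WithZero.exp_zero, WithZero.exp_lt_exp]
        norm_num

end Groth.Agent.S11084
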