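import Groth.Statements.S11085
import Groth.Agent.S11080
import Groth.Agent.Lib.Normalization.FiniteField
import Groth.Agent.Lib.Dim.Integral
import Groth.Agent.Lib.Dim.Basic
import Mathlib.RingTheory.DedekindDomain.Factorization
import Mathlib.FieldTheory.IntermediateField.Adjoin.Basic
import Mathlib.RingTheory.DedekindDomain.IntegralClosure
import Mathlib.RingTheory.Bezout
import Mathlib.RingTheory.Valuation.Integral
-- import your own Groth.Agent.* helpers here

set_option autoImplicit false
universe u
open CAlg

namespace Groth.Agent.S11085

/-- Let k be a field, A a finitely generated k-algebra which is an integral domain of Krull dimension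
one (the coordinate ring of an affine curve), and F its field of fractions. Then the set of
valuation subrings of F which contain k but do not contain A is finite. (The published statement
speaks of all valuation rings of F different from F and not containing A, over an algebraically
closed k; valuation rings not containing k must be excluded — for k an algebraic closure of a
rational function field in one variable t over a finite field and F = k(x), the t-adic valuation of
k has infinitely many extensions to F, none of whose rings contains A — and the published proof,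
through the valuation at infinity of k(x), treats valuation rings containing k; it does not use that
k is algebraically closed.) -/
theorem result (k A F : Type u) [Field k]
    [CommRing A] [IsDomain A] [Algebra k A] [Algebra.FiniteType k A] (hA : ringKrullDim A = 1)
    [Field F] [Algebra A F] [IsFractionRing A F] [Algebra k F] [IsScalarTower k A F] :
    {O : ValuationSubring F | (algebraMap k F).range ≤ O.toSubring ∧
        ¬ (algebraMap A F).range ≤ O.toSubring}.Finite := by
  classical
  obtain ⟨n, g, hginj, hgfin⟩ := exists_finite_inj_algHom_of_fg k A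
  letI : Algebra (MvPolynomial (Fin n) k) A := g.toRingHom.toAlgebra
  haveI : Module.Finite (MvPolynomial (Fin n) k) A := hgfin
  haveI : FaithfulSMul (MvPolynomial (Fin n) k) A := (faithfulSMul_iff_algebraMap_injective _ _).2 hginj
  have hn : n = 1 := by
    have h := Groth.Agent.Lib.Dim.Integral.ringKrullDim_eq_of_isIntegral (R := MvPolynomial (Fin n) k) (A := A)
    rw [hA, Groth.Agent.Lib.Dim.Basic.ringKrullDim_mvPolynomial k, Nat.card_fin] at h
    exact_mod_cast h.symm
  subst hn
  let t : F := algebraMap A F (g (MvPolynomial.X 0))
  let f : MvPolynomial (Fin 1) k →ₐ[k] F := (IsScalarTower.toAlgHom k A F).comp g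
  have hf : Function.Injective f := (IsFractionRing.injective A F).comp hginj
  have ht : Transcendental k t := by
    rw [transcendental_iff_injective]
    intro p q hpq
    have h : ∀ r : Polynomial k, Polynomial.aeval t r = f (Polynomial.aeval (MvPolynomial.X 0) r) := fun r =>
      Polynomial.aeval_algHom_apply f _ r
    rw [h, h] at hpq
    exact (MvPolynomial.transcendental_X k (0 : Fin 1) |> transcendental_iff_injective.1) (hf hpq)
  have hu : Transcendental k t⁻¹ := fun h => ht (IsAlgebraic.inv_iff.1 h)
  letI : Algebra (Polynomial k) F := (Polynomial.aeval t⁻¹ : Polynomial k →ₐ[k] F).toRingHom.toAlgebra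
  have hP : Function.Injective (algebraMap (Polynomial k) F) := transcendental_iff_injective.1 hu
  letI : Algebra (FractionRing (Polynomial k)) F := (IsFractionRing.lift hP).toAlgebra
  haveI : IsScalarTower (Polynomial k) (FractionRing (Polynomial k)) F :=
    .of_algebraMap_eq fun x => (IsFractionRing.lift_algebraMap hP x).symm
  haveI : IsScalarTower k (Polynomial k) F :=
    .of_algebraMap_eq fun x => ((Polynomial.aeval t⁻¹ : Polynomial k →ₐ[k] F).commutes x).symm
  haveI : IsScalarTower k (FractionRing (Polynomial k)) F := .of_algebraMap_eq fun x => by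
    rw [IsScalarTower.algebraMap_apply k (Polynomial k) (FractionRing (Polynomial k)),
      ← IsScalarTower.algebraMap_apply (Polynomial k) (FractionRing (Polynomial k)) F,
      ← IsScalarTower.algebraMap_apply]
  let e : MvPolynomial (Fin 1) k →ₐ[k] FractionRing (Polynomial k) :=
    MvPolynomial.aeval fun _ => (algebraMap (Polynomial k) (FractionRing (Polynomial k)) Polynomial.X)⁻¹
  have he : ∀ p, algebraMap (FractionRing (Polynomial k)) F (e p) = algebraMap A F (g p) := by
    have h : (IsScalarTower.toAlgHom k (FractionRing (Polynomial k)) F).comp e = f :=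
      MvPolynomial.algHom_ext fun i => by
        obtain rfl : i = 0 := Subsingleton.elim _ _
        simp only [e, AlgHom.comp_apply, MvPolynomial.aeval_X, IsScalarTower.coe_toAlgHom', map_inv₀,
          ← IsScalarTower.algebraMap_apply (Polynomial k) (FractionRing (Polynomial k)) F]
        show (Polynomial.aeval t⁻¹ Polynomial.X)⁻¹ = t
        rw [Polynomial.aeval_X, inv_inv]
    exact fun p => DFunLike.congr_fun h p
  have hint : ∀ a : A, IsIntegral (FractionRing (Polynomial k)) (algebraMap A F a) := fun a => by
    obtain ⟨p, hm, hp⟩ := Algebra.IsIntegral.isIntegral (R := MvPolynomial (Fin 1) k) a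
    refine ⟨p.map e.toRingHom, hm.map _, ?_⟩
    rw [Polynomial.eval₂_map, show (algebraMap (FractionRing (Polynomial k)) F).comp e.toRingHom =
      (algebraMap A F).comp (algebraMap (MvPolynomial (Fin 1) k) A) from RingHom.ext he,
      ← Polynomial.hom_eval₂, hp, map_zero]
  obtain ⟨G, hG⟩ := (‹Algebra.FiniteType k A›).out
  let E := IntermediateField.adjoin (FractionRing (Polynomial k)) (algebraMap A F '' (G : Set A))
  haveI : FiniteDimensional (FractionRing (Polynomial k)) E := by
    haveI := (G.finite_toSet.image (algebraMap A F)).to_subtype
    exact IntermediateField.finiteDimensional_adjoin (by rintro _ ⟨a, -, rfl⟩; exact hint a)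
  have hAE : ∀ a : A, algebraMap A F a ∈ E := fun a => by
    have ha : a ∈ Algebra.adjoin k (G : Set A) := by rw [hG]; trivial
    induction ha using Algebra.adjoin_induction with
    | mem x hx => exact IntermediateField.subset_adjoin _ _ ⟨x, hx, rfl⟩
    | algebraMap c =>
      rw [← IsScalarTower.algebraMap_apply, IsScalarTower.algebraMap_apply k (FractionRing (Polynomial k)) F]
      exact E.algebraMap_mem _
    | add x y _ _ hx hy => rw [map_add]; exact add_mem hx hy
    | mul x y _ _ hx hy => rw [map_mul]; exact mul_mem hx hy
  have hE : E = ⊤ := top_unique fun x _ => by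
    obtain ⟨a, b, -, rfl⟩ := IsFractionRing.div_surjective (A := A) x
    exact div_mem (hAE a) (hAE b)
  haveI : FiniteDimensional (FractionRing (Polynomial k)) F :=
    Module.Finite.equiv ((IntermediateField.equivOfEq hE).trans IntermediateField.topEquiv).toLinearEquiv
  let C := integralClosure (Polynomial k) F
  haveI : Module.Finite (Polynomial k) C := Groth.Agent.Lib.Normalization.FiniteField.finite_integralClosure
    k (Polynomial k) (FractionRing (Polynomial k)) F
  haveI : IsNoetherianRing C := IsNoetherianRing.of_finite (Polynomial k) C
  haveI : IsFractionRing C F :=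
    integralClosure.isFractionRing_of_finite_extension (FractionRing (Polynomial k)) F
  haveI : IsIntegrallyClosed C :=
    integralClosure.isIntegrallyClosedOfFiniteExtension (FractionRing (Polynomial k))
  haveI : Ring.DimensionLEOne C := Ring.DimensionLEOne.integralClosure (Polynomial k) F
  haveI : IsDedekindDomain C := { }
  let u : C := ⟨t⁻¹, by
    have h : (Polynomial.aeval t⁻¹ : Polynomial k →ₐ[k] F) Polynomial.X = t⁻¹ := Polynomial.aeval_X _
    rw [← h]
    exact isIntegral_algebraMap⟩
  have hu0 : u ≠ 0 := fun h => hu (by
    rw [show t⁻¹ = (0 : F) from congrArg Subtype.val h]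
    exact isAlgebraic_zero)
  refine (((Ideal.finite_factors (I := Ideal.span {u}) (by simpa using hu0))).image
    fun v => (v.valuation F).valuationSubring).subset ?_
  rintro O ⟨hk, hAO⟩
  have hint' : Valuation.Integers O.valuation O := ⟨Subtype.val_injective,
    fun x => (O.valuation_le_one_iff _).2 x.2,
    fun r hr => ⟨⟨r, (O.valuation_le_one_iff r).1 hr⟩, rfl⟩⟩
  have htO : t ∉ O := by
    intro htO
    apply hAO
    rintro _ ⟨a, rfl⟩
    obtain ⟨p, hm, hp⟩ := Algebra.IsIntegral.isIntegral (R := MvPolynomial (Fin 1) k) a
    have hfO : ∀ q, f q ∈ O := fun q => by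
      induction q using MvPolynomial.induction_on with
      | C c => exact hk ⟨c, (f.commutes c).symm⟩
      | add x y hx hy => rw [map_add]; exact add_mem hx hy
      | mul_X x i hx =>
        obtain rfl : i = 0 := Subsingleton.elim _ _
        rw [map_mul]
        exact mul_mem hx htO
    let φ : MvPolynomial (Fin 1) k →+* O := f.toRingHom.codRestrict O.toSubring hfO
    have hi : IsIntegral O (algebraMap A F a) := ⟨p.map φ, hm.map _, by
      rw [Polynomial.eval₂_map, show (algebraMap O F).comp φ =
        (algebraMap A F).comp (algebraMap (MvPolynomial (Fin 1) k) A) from RingHom.ext fun _ => rfl,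
        ← Polynomial.hom_eval₂, hp, map_zero]⟩
    exact (O.valuation_le_one_iff _).1 (hint'.mem_of_integral hi)
  have huO : t⁻¹ ∈ O := (O.mem_or_inv_mem t).resolve_left htO
  have hPO : ∀ p : Polynomial k, algebraMap (Polynomial k) F p ∈ O := fun p => by
    show Polynomial.aeval t⁻¹ p ∈ O
    induction p using Polynomial.induction_on with
    | C c => rw [Polynomial.aeval_C]; exact hk ⟨c, rfl⟩
    | add x y hx hy => rw [map_add]; exact add_mem hx hy
    | monomial m c _ =>
      rw [map_mul, Polynomial.aeval_C, map_pow, Polynomial.aeval_X]
      exact mul_mem (hk ⟨c, rfl⟩) (pow_mem huO _)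
  have hCO : (algebraMap C F).range ≤ O.toSubring := by
    rintro _ ⟨⟨x, ⟨p, hm, hp⟩⟩, rfl⟩
    let φ : Polynomial k →+* O := (algebraMap (Polynomial k) F).codRestrict O.toSubring hPO
    have hi : IsIntegral O x := ⟨p.map φ, hm.map _, by
      rw [Polynomial.eval₂_map, show (algebraMap O F).comp φ = algebraMap (Polynomial k) F from
        RingHom.ext fun _ => rfl]
      exact hp⟩
    exact (O.valuation_le_one_iff _).1 (hint'.mem_of_integral hi)
  obtain ⟨v, rfl⟩ := (Groth.Agent.S11080.result C F O).1
    ⟨hCO, fun h => htO (h ▸ trivial)⟩
  refine ⟨v, ?_, rfl⟩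
  show v.asIdeal ∣ Ideal.span {u}
  rw [Ideal.dvd_iff_le, Ideal.span_singleton_le_iff_mem]
  by_contra hnot
  apply htO
  have h1 : v.valuation F (algebraMap C F u) = 1 :=
    le_antisymm (v.valuation_le_one u) (not_lt.1 fun hlt => hnot ((v.valuation_lt_one_iff_mem u).1 hlt))
  rw [show algebraMap C F u = t⁻¹ from rfl, map_inv₀, inv_eq_one] at h1
  exact (Valuation.mem_valuationSubring_iff _ _).2 h1.le

end Groth.Agent.S11085
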