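import Groth.Statements.S11086
import Mathlib.RingTheory.DedekindDomain.Different
-- import your own Groth.Agent.* helpers here

set_option autoImplicit false
universe u
attribute [local instance] FractionRing.liftAlgebra
open CAlg

namespace Groth.Agent.S11086

/-- Let A be a Dedekind domain, B a Dedekind domain which is a finitely generated torsion-free A-algebra
with fraction field separable over that of A (the integral closure of A in a finite separable
extension), and S a submonoid of A consisting of non-zero-divisors. Let A_S and B_S be localizations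
of A at S and of B at the image of S, with B_S an algebra over A_S compatibly with A and B (so A_S
is integrally closed and B_S is a Dedekind domain, torsion-free over A_S). Then the ideal of B_S
generated by the different of B over A is the different of B_S over A_S. -/
theorem result (A B : Type u) [CommRing A] [CommRing B]
    [IsDedekindDomain A] [IsDedekindDomain B] [Algebra A B] [Module.Finite A B] [Module.IsTorsionFree A B]
    [Algebra.IsSeparable (FractionRing A) (FractionRing B)]
    (S : Submonoid A) (hS : S ≤ nonZeroDivisors A)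
    (Aₛ Bₛ : Type u) [CommRing Aₛ] [CommRing Bₛ] [Algebra A Aₛ] [Algebra B Bₛ] [Algebra Aₛ Bₛ]
    [Algebra A Bₛ] [IsScalarTower A Aₛ Bₛ] [IsScalarTower A B Bₛ]
    [IsLocalization S Aₛ] [IsLocalization (Algebra.algebraMapSubmonoid B S) Bₛ]
    [IsDomain Aₛ] [IsIntegrallyClosed Aₛ] [IsDedekindDomain Bₛ] [Module.IsTorsionFree Aₛ Bₛ] :
    Ideal.map (algebraMap B Bₛ) (differentIdeal A B) = differentIdeal Aₛ Bₛ := by
  classical
  let K := FractionRing A
  let L := FractionRing B
  haveI : FaithfulSMul A B := Module.IsTorsionFree.to_faithfulSMul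
  have hinj : Function.Injective (algebraMap A B) := FaithfulSMul.algebraMap_injective A B
  have hS' : Algebra.algebraMapSubmonoid B S ≤ nonZeroDivisors B := by
    rintro _ ⟨a, ha, rfl⟩
    exact map_mem_nonZeroDivisors _ hinj (hS ha)
  letI : Algebra Aₛ K := IsLocalization.localizationAlgebraOfSubmonoidLe Aₛ K S (nonZeroDivisors A) hS
  haveI : IsScalarTower A Aₛ K :=
    IsLocalization.localization_isScalarTower_of_submonoid_le Aₛ K S (nonZeroDivisors A) hS
  haveI : IsFractionRing Aₛ K := IsFractionRing.isFractionRing_of_isDomain_of_isLocalization S Aₛ K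
  letI : Algebra Bₛ L :=
    IsLocalization.localizationAlgebraOfSubmonoidLe Bₛ L (Algebra.algebraMapSubmonoid B S) (nonZeroDivisors B) hS'
  haveI : IsScalarTower B Bₛ L :=
    IsLocalization.localization_isScalarTower_of_submonoid_le Bₛ L (Algebra.algebraMapSubmonoid B S) (nonZeroDivisors B) hS'
  haveI : IsFractionRing Bₛ L :=
    IsFractionRing.isFractionRing_of_isDomain_of_isLocalization (Algebra.algebraMapSubmonoid B S) Bₛ L
  letI : Algebra Aₛ L := ((algebraMap Bₛ L).comp (algebraMap Aₛ Bₛ)).toAlgebra
  haveI : IsScalarTower Aₛ Bₛ L := IsScalarTower.of_algebraMap_eq' rfl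
  haveI : IsScalarTower A Bₛ L := IsScalarTower.of_algebraMap_eq fun a => by
    rw [IsScalarTower.algebraMap_apply A B Bₛ, ← IsScalarTower.algebraMap_apply B Bₛ L,
      ← IsScalarTower.algebraMap_apply A B L]
  haveI : IsScalarTower Aₛ K L := IsScalarTower.of_algebraMap_eq' <|
    IsLocalization.ringHom_ext S <| RingHom.ext fun a => by
      simp only [RingHom.comp_apply]
      rw [IsScalarTower.algebraMap_apply Aₛ Bₛ L, ← IsScalarTower.algebraMap_apply A Aₛ Bₛ,
        ← IsScalarTower.algebraMap_apply A Bₛ L, ← IsScalarTower.algebraMap_apply A Aₛ K,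
        ← IsScalarTower.algebraMap_apply A K L]
  haveI : IsScalarTower A Aₛ L := IsScalarTower.of_algebraMap_eq fun a => by
    rw [IsScalarTower.algebraMap_apply Aₛ Bₛ L, ← IsScalarTower.algebraMap_apply A Aₛ Bₛ,
      ← IsScalarTower.algebraMap_apply A Bₛ L]
  haveI : FiniteDimensional K L := .of_isLocalization A B (nonZeroDivisors A)
  haveI : Module.Finite Aₛ Bₛ := .of_isLocalization A B S
  haveI : IsIntegralClosure B A L := IsIntegralClosure.of_isIntegrallyClosed B A L
  haveI : IsIntegralClosure Bₛ Aₛ L := IsIntegralClosure.of_isIntegrallyClosed Bₛ Aₛ L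
  haveI : FaithfulSMul B Bₛ := (faithfulSMul_iff_algebraMap_injective B Bₛ).2
    (IsLocalization.injective Bₛ hS')
  haveI : Module.IsTorsionFree B Bₛ := FaithfulSMul.to_isTorsionFree B Bₛ
  rw [← FractionalIdeal.coeIdeal_inj (K := L), ← FractionalIdeal.extendedHom_coeIdeal_eq_map (K := L),
    coeIdeal_differentIdeal A K, coeIdeal_differentIdeal Aₛ K, map_inv₀]
  congr 1
  have hid : ∀ x : L, IsLocalization.map (S := L) (M := nonZeroDivisors B) (T := nonZeroDivisors Bₛ) L (algebraMap B Bₛ)
      (nonZeroDivisors_le_comap_nonZeroDivisors_of_injective _ (FaithfulSMul.algebraMap_injective B Bₛ)) x = x :=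
    fun x => DFunLike.congr_fun (IsLocalization.ringHom_ext (nonZeroDivisors B)
      (j := IsLocalization.map (S := L) L (algebraMap B Bₛ) _) (k := RingHom.id L)
      (RingHom.ext fun b => by
        simp only [RingHom.comp_apply, IsLocalization.map_eq, RingHom.id_apply]
        exact (IsScalarTower.algebraMap_apply B Bₛ L b).symm)) x
  have hmem : ∀ x : L, x ∈ FractionalIdeal.dual A K (1 : FractionalIdeal (nonZeroDivisors B) L) ↔
      ∀ b : B, Algebra.trace K L (x * algebraMap B L b) ∈ (algebraMap A K).range := fun x => by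
    rw [FractionalIdeal.mem_dual (A := A) (K := K) (one_ne_zero : (1 : FractionalIdeal (nonZeroDivisors B) L) ≠ 0)]
    refine ⟨fun h b => h _ ((FractionalIdeal.mem_one_iff _).2 ⟨b, rfl⟩), fun h a ha => ?_⟩
    obtain ⟨b, rfl⟩ := (FractionalIdeal.mem_one_iff _).1 ha
    exact h b
  ext x
  rw [FractionalIdeal.mem_dual (A := Aₛ) (K := K) (one_ne_zero : (1 : FractionalIdeal (nonZeroDivisors Bₛ) L) ≠ 0)]
  refine Iff.trans (FractionalIdeal.mem_extended_iff L _ _ x) ⟨fun hx => ?_, fun h => ?_⟩
  · intro z hz
    obtain ⟨z, rfl⟩ := (FractionalIdeal.mem_one_iff _).1 hz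
    clear hz
    induction hx using Submodule.span_induction generalizing z with
    | mem y hy =>
      obtain ⟨y, hy, rfl⟩ := hy
      rw [hid, Algebra.traceForm_apply]
      obtain ⟨b, ⟨_, a, ha, rfl⟩, rfl⟩ := IsLocalization.exists_mk'_eq (Algebra.algebraMapSubmonoid B S) z
      obtain ⟨c, hc⟩ := (hmem y).1 hy b
      refine ⟨IsLocalization.mk' Aₛ c ⟨a, ha⟩, ?_⟩
      have ha0 : algebraMap A K a ≠ 0 := fun h0 =>
        nonZeroDivisors.ne_zero (hS ha) ((map_eq_zero_iff _ (IsFractionRing.injective A K)).1 h0)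
      apply mul_left_cancel₀ ha0
      have e1 : algebraMap A Aₛ a * IsLocalization.mk' Aₛ c (⟨a, ha⟩ : S) = algebraMap A Aₛ c :=
        IsLocalization.mk'_spec' Aₛ c (⟨a, ha⟩ : S)
      rw [IsScalarTower.algebraMap_apply A Aₛ K, ← map_mul, e1, ←
        IsScalarTower.algebraMap_apply A Aₛ K, hc, ← IsScalarTower.algebraMap_apply A Aₛ K]
      rw [← smul_eq_mul (algebraMap A K a), ← map_smul, Algebra.smul_def,
        ← IsScalarTower.algebraMap_apply A K L, IsScalarTower.algebraMap_apply A B L,
        IsScalarTower.algebraMap_apply B Bₛ L, IsScalarTower.algebraMap_apply B Bₛ L (algebraMap A B a)]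
      congr 1
      rw [mul_left_comm, ← map_mul]
      refine congrArg (fun w => y * algebraMap Bₛ L w) (Eq.symm ?_)
      exact IsLocalization.mk'_spec' (M := Algebra.algebraMapSubmonoid B S) Bₛ b ⟨algebraMap A B a, Algebra.mem_algebraMapSubmonoid_of_mem ⟨a, ha⟩⟩
    | zero => exact ⟨0, by simp⟩
    | add u v _ _ hu hv =>
      obtain ⟨p, hp⟩ := hu z
      obtain ⟨q, hq⟩ := hv z
      exact ⟨p + q, by simp [hp, hq]⟩
    | smul c u _ hu =>
      obtain ⟨p, hp⟩ := hu (c * z)
      refine ⟨p, hp.trans ?_⟩
      rw [Algebra.traceForm_apply, Algebra.traceForm_apply, Algebra.smul_def, map_mul (algebraMap Bₛ L)]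
      congr 1
      ring
  · obtain ⟨gens, hgens⟩ := (Module.Finite.fg_top : (⊤ : Submodule A B).FG)
    have hb : ∀ b : B, ∃ c : Aₛ, algebraMap Aₛ K c = Algebra.trace K L (x * algebraMap B L b) := fun b =>
      h _ ((FractionalIdeal.mem_one_iff _).2 ⟨algebraMap B Bₛ b, (IsScalarTower.algebraMap_apply B Bₛ L b).symm⟩)
    choose c hc using hb
    obtain ⟨s, hs⟩ := IsLocalization.exist_integer_multiples S gens c
    have hy : algebraMap A L s * x ∈ FractionalIdeal.dual A K (1 : FractionalIdeal (nonZeroDivisors B) L) := by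
      rw [hmem]
      intro b
      have hb : b ∈ Submodule.span A (gens : Set B) := by rw [hgens]; trivial
      induction hb using Submodule.span_induction with
      | mem g hg =>
        obtain ⟨a, ha⟩ := hs g hg
        refine ⟨a, ?_⟩
        rw [IsScalarTower.algebraMap_apply A Aₛ K, ha, Algebra.smul_def, map_mul,
          ← IsScalarTower.algebraMap_apply A Aₛ K, hc, mul_assoc, IsScalarTower.algebraMap_apply A K L,
          ← Algebra.smul_def (R := K) (A := L), map_smul, smul_eq_mul]
      | zero => exact ⟨0, by simp⟩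
      | add u v _ _ hu hv =>
        obtain ⟨p, hp⟩ := hu
        obtain ⟨q, hq⟩ := hv
        exact ⟨p + q, by simp [hp, hq, mul_add]⟩
      | smul r u _ hu =>
        obtain ⟨p, hp⟩ := hu
        refine ⟨r * p, ?_⟩
        rw [Algebra.smul_def, map_mul (algebraMap B L), map_mul, hp, ← IsScalarTower.algebraMap_apply A B L,
          mul_left_comm, IsScalarTower.algebraMap_apply A K L r, ← Algebra.smul_def (algebraMap A K r), map_smul, smul_eq_mul]
    obtain ⟨u, hu⟩ := IsLocalization.map_units Aₛ s
    have hxe : x = algebraMap Aₛ Bₛ (↑u⁻¹ : Aₛ) • (algebraMap A L s * x) := by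
      rw [Algebra.smul_def, ← IsScalarTower.algebraMap_apply Aₛ Bₛ L,
        IsScalarTower.algebraMap_apply A Aₛ L, ← mul_assoc, ← map_mul, ← hu, Units.inv_mul, map_one, one_mul]
    rw [hxe]
    exact Submodule.smul_mem _ _ (Submodule.subset_span ⟨_, hy, hid _⟩)

end Groth.Agent.S11086
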