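import Groth.Statements.S11087
import Groth.Agent.H80.CompleteDVRExt

set_option autoImplicit false
set_option backward.isDefEq.respectTransparency false
universe u
attribute [local instance] FractionRing.liftAlgebra
open CAlg

namespace Groth.Agent.S11087

/-- Let A be a complete discrete valuation ring and K a perfect field contained in A such that K → A →
A/m is bijective. Let B be a Dedekind domain which is a finite torsion-free A-algebra with fraction
field separable over that of A (the integral closure of A in a finite separable extension of its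
fraction field). Then for every maximal ideal M of B and every b in B there is exactly one element c
of B which is algebraic over K and congruent to b modulo M; in other words the algebraic closure of
K in B is a subfield mapping isomorphically onto B/M. -/
theorem result (K A B : Type u) [Field K]
    [PerfectField K] [CommRing A] [IsDomain A] [IsDiscreteValuationRing A]
    [IsAdicComplete (IsLocalRing.maximalIdeal A) A]
    [Algebra K A] (hK : Function.Bijective ((IsLocalRing.residue A).comp (algebraMap K A)))
    [CommRing B] [IsDedekindDomain B] [Algebra A B] [Module.Finite A B] [Module.IsTorsionFree A B]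
    [Algebra.IsSeparable (FractionRing A) (FractionRing B)] [Algebra K B] [IsScalarTower K A B]
    (M : Ideal B) [M.IsMaximal] (b : B) :
    ∃! c : B, IsAlgebraic K c ∧ b - c ∈ M := by
  classical
  haveI := Groth.Agent.H80.CompleteDVRExt.henselianLocalRing_finite A B
  obtain rfl : M = IsLocalRing.maximalIdeal B := IsLocalRing.eq_maximalIdeal inferInstance
  have hunit : ∀ c : B, IsAlgebraic K c → c ∈ IsLocalRing.maximalIdeal B → c = 0 := by
    intro c hc hcM
    by_contra h0
    obtain ⟨r, hr, d, hd⟩ := hc.exists_nonzero_dvd (mem_nonZeroDivisors_of_ne_zero h0)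
    exact ((IsLocalRing.mem_maximalIdeal _).mp hcM)
      (isUnit_of_dvd_unit ⟨d, hd⟩ ((IsUnit.mk0 r hr).map (algebraMap K B)))
  let σ : A →+* K := (RingEquiv.ofBijective _ hK).symm.toRingHom.comp (IsLocalRing.residue A)
  have hσ : ∀ a : A, IsLocalRing.residue B (algebraMap K B (σ a)) = IsLocalRing.residue B (algebraMap A B a) := by
    intro a
    rw [← sub_eq_zero, ← map_sub, IsLocalRing.residue_eq_zero_iff, IsScalarTower.algebraMap_apply K A B,
      ← map_sub]
    have h1 : algebraMap K A (σ a) - a ∈ IsLocalRing.maximalIdeal A := by
      rw [← IsLocalRing.residue_eq_zero_iff, map_sub, sub_eq_zero]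
      exact (RingEquiv.ofBijective _ hK).apply_symm_apply (IsLocalRing.residue A a)
    exact Ideal.mem_comap.mp ((IsLocalRing.eq_maximalIdeal
      (Ideal.isMaximal_comap_of_isIntegral_of_isMaximal (R := A) (IsLocalRing.maximalIdeal B))).ge h1)
  let φ : K →+* IsLocalRing.ResidueField B := (IsLocalRing.residue B).comp (algebraMap K B)
  letI := φ.toAlgebra
  have hint : IsIntegral K (IsLocalRing.residue B b) := by
    obtain ⟨P, hP, hPb⟩ := Algebra.IsIntegral.isIntegral (R := A) b
    refine ⟨P.map σ, hP.map σ, ?_⟩
    rw [Polynomial.eval₂_map, show (algebraMap K (IsLocalRing.ResidueField B)).comp σ =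
      (IsLocalRing.residue B).comp (algebraMap A B) from RingHom.ext hσ, ← Polynomial.hom_eval₂, hPb,
      map_zero]
  let g := minpoly K (IsLocalRing.residue B b)
  have hroot : g.eval₂ φ (IsLocalRing.residue B b) = 0 := minpoly.aeval K (IsLocalRing.residue B b)
  have hsep : g.Separable := PerfectField.separable_of_irreducible (minpoly.irreducible hint)
  have hder : g.derivative.eval₂ φ (IsLocalRing.residue B b) ≠ 0 :=
    hsep.aeval_derivative_ne_zero hroot
  obtain ⟨c, hc, hcb⟩ := HenselianLocalRing.is_henselian (R := B) (g.map (algebraMap K B))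
    ((minpoly.monic hint).map _) b
    (by rw [← IsLocalRing.residue_eq_zero_iff, Polynomial.eval_map, Polynomial.hom_eval₂]; exact hroot)
    (by
      rw [← IsLocalRing.notMem_maximalIdeal, ← IsLocalRing.residue_eq_zero_iff, Polynomial.derivative_map,
        Polynomial.eval_map, Polynomial.hom_eval₂]
      exact hder)
  have hcalg : IsAlgebraic K c := ⟨g, (minpoly.monic hint).ne_zero, by
    rw [Polynomial.IsRoot, Polynomial.eval_map] at hc; exact hc⟩
  refine ⟨c, ⟨hcalg, by rw [← neg_sub]; exact neg_mem hcb⟩, fun c' ⟨hc', hcb'⟩ => ?_⟩
  refine sub_eq_zero.mp (hunit _ ((hc'.isIntegral.sub hcalg.isIntegral).isAlgebraic) ?_)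
  have h2 : c' - c = (b - c) - (b - c') := by ring
  rw [h2]
  exact sub_mem (by rw [← neg_sub]; exact neg_mem hcb) hcb'

end Groth.Agent.S11087
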