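import Groth.Statements.S11088
import Groth.Agent.H80.CompleteDVRExt
import Mathlib
-- import your own Groth.Agent.* helpers here

set_option autoImplicit false
universe u
attribute [local instance] FractionRing.liftAlgebra
open CAlg

namespace Groth.Agent.S11088


/-- Let A be a complete discrete valuation ring with maximal ideal m and B a Dedekind domain which is a
finite torsion-free A-algebra with fraction field separable over that of A (the integral closure of
A in a finite separable extension). Then for every maximal ideal M of B, with f the degree of B/M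
over A/m, and every nonzero x in B, the multiplicity of m in the ideal generated by the norm of x
equals f times the multiplicity of M in the ideal generated by x: v(N(x)) = f · w(x). -/
theorem result (A B : Type u) [CommRing A] [IsDomain A] [IsDiscreteValuationRing A]
    [IsAdicComplete (IsLocalRing.maximalIdeal A) A]
    [CommRing B] [IsDedekindDomain B] [Algebra A B] [Module.Finite A B] [Module.IsTorsionFree A B]
    [Algebra.IsSeparable (FractionRing A) (FractionRing B)]
    (M : Ideal B) [M.IsMaximal] (x : B) (hx : x ≠ 0) :
    emultiplicity (IsLocalRing.maximalIdeal A) (Ideal.span {Algebra.intNorm A B x}) =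
      (M.inertiaDeg A : ℕ∞) * emultiplicity M (Ideal.span {x}) := by
  classical
  haveI := Groth.Agent.H80.CompleteDVRExt.henselianLocalRing_finite A B
  obtain rfl : M = IsLocalRing.maximalIdeal B := IsLocalRing.eq_maximalIdeal inferInstance
  set p := IsLocalRing.maximalIdeal A with hp
  set M := IsLocalRing.maximalIdeal B with hM
  haveI : M.LiesOver p :=
    ⟨((IsLocalRing.eq_maximalIdeal (Ideal.isMaximal_comap_of_isIntegral_of_isMaximal (R := A) M))).symm⟩
  have hp0 : p ≠ ⊥ := IsDiscreteValuationRing.not_a_field A
  have hpB : p.map (algebraMap A B) ≠ ⊥ := Ideal.map_ne_bot_of_ne_bot hp0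
  have hMne : M ≠ ⊥ := fun h => hpB (le_bot_iff.mp (h ▸ Ideal.map_le_iff_le_comap.mpr (Ideal.over_def M p).le))
  have hpp : Prime p := Ideal.prime_of_isPrime hp0 inferInstance
  have hMp : Prime M := Ideal.prime_of_isPrime hMne inferInstance
  have hpow : ∀ I : Ideal B, I ≠ ⊥ → ∃ k, I = M ^ k := by
    intro I hI
    refine ⟨Multiset.card (UniqueFactorizationMonoid.normalizedFactors I), ?_⟩
    have h1 := associated_iff_eq.mp (UniqueFactorizationMonoid.prod_normalizedFactors (a := I) hI)
    conv_lhs => rw [← h1]
    rw [show UniqueFactorizationMonoid.normalizedFactors I = Multiset.replicate _ M from Multiset.eq_replicate_card.mpr (fun q hq => ?_),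
      Multiset.prod_replicate, Multiset.card_replicate]
    have hq' := UniqueFactorizationMonoid.prime_of_normalized_factor q hq
    exact IsLocalRing.eq_maximalIdeal ((Ideal.isPrime_of_prime hq').isMaximal hq'.ne_zero)
  obtain ⟨e, he⟩ := hpow _ hpB
  letI : Unique (p.primesOver B) :=
    { default := ⟨M, inferInstance, inferInstance⟩
      uniq := fun ⟨P, hP, hPp⟩ => Subtype.ext (IsLocalRing.eq_maximalIdeal (hP.isMaximal fun h => hp0 (by
        rw [hPp.over, h]
        exact (RingHom.injective_iff_ker_eq_bot _).mp (FaithfulSMul.algebraMap_injective A B)))) }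
  have hsum : M.ramificationIdx A * M.inertiaDeg A = Module.finrank A B := by
    letI : Fintype (p.primesOver B) := Fintype.ofSubsingleton default
    have h := Ideal.sum_ramification_inertia_eq_finrank p B
    rw [Fintype.sum_unique] at h
    exact h
  have hram : M.ramificationIdx A = e := by
    rw [Ideal.IsDedekindDomain.ramificationIdx_eq_multiplicity p _ hpB, he,
      multiplicity_pow_self hMne hMp.not_isUnit e]
  have he0 : e ≠ 0 := by
    rintro rfl
    rw [pow_zero, Ideal.one_eq_top] at he
    exact (inferInstance : M.IsPrime).ne_top (top_le_iff.mp (he ▸ Ideal.map_le_iff_le_comap.mpr (Ideal.over_def M p).le))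
  obtain ⟨s, hs⟩ := Ideal.exists_relNorm_eq_pow_of_isPrime M p
  have hse : p ^ (s * e) = p ^ Module.finrank A B := by
    rw [pow_mul, ← hs, ← map_pow, ← he, Ideal.relNorm_algebraMap]
  have hse' : s * e = Module.finrank A B := by
    have := congrArg (emultiplicity p) hse
    rwa [emultiplicity_pow_self_of_prime hpp, emultiplicity_pow_self_of_prime hpp, Nat.cast_inj] at this
  have hsf : s = M.inertiaDeg A := by
    rw [← hsum, hram, mul_comm e] at hse'
    exact mul_right_cancel₀ he0 hse'
  obtain ⟨w, hw⟩ := hpow (Ideal.span {x}) (fun h => hx (Ideal.span_singleton_eq_bot.mp h))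
  rw [← Ideal.relNorm_singleton, hw, map_pow, hs, ← pow_mul, emultiplicity_pow_self_of_prime hpp,
    emultiplicity_pow_self_of_prime hMp, hsf, Nat.cast_mul]

end Groth.Agent.S11088
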