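import Groth.Statements.S11089
import Groth.Agent.H80.CompleteDVRExt

set_option autoImplicit false
set_option backward.isDefEq.respectTransparency false
universe u
attribute [local instance] FractionRing.liftAlgebra
open CAlg

namespace Groth.Agent.S11089

/-- Let A be a complete discrete valuation ring containing a field K with K → A → A/m bijective, and B a
Dedekind domain which is a finite torsion-free A-algebra of rank m with fraction field separable
over that of A (the integral closure of A in a finite separable extension E of F = Frac A). If the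
extension is totally ramified — the maximal ideal M of B has ramification index m — and m is a unit
in A, then some uniformizer u of B (an element of M not in M²) satisfies u^m ∈ A and generates E
over F: its minimal polynomial over A has degree m. -/
theorem result (K A B : Type u) [Field K]
    [CommRing A] [IsDomain A] [IsDiscreteValuationRing A]
    [IsAdicComplete (IsLocalRing.maximalIdeal A) A]
    [Algebra K A] (hK : Function.Bijective ((IsLocalRing.residue A).comp (algebraMap K A)))
    [CommRing B] [IsDedekindDomain B] [Algebra A B] [Module.Finite A B] [Module.IsTorsionFree A B]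
    [Algebra.IsSeparable (FractionRing A) (FractionRing B)]
    (M : Ideal B) [M.IsMaximal] (hram : M.ramificationIdx A = Module.finrank A B)
    (hm : IsUnit ((Module.finrank A B : ℕ) : A)) :
    ∃ u : B, u ∈ M ∧ u ∉ M ^ 2 ∧ u ^ Module.finrank A B ∈ (algebraMap A B).range ∧
      (minpoly A u).natDegree = Module.finrank A B := by
  classical
  haveI := Groth.Agent.H80.CompleteDVRExt.henselianLocalRing_finite A B
  obtain rfl : M = IsLocalRing.maximalIdeal B := IsLocalRing.eq_maximalIdeal inferInstance
  haveI hf : FaithfulSMul A B := inferInstance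
  let p := IsLocalRing.maximalIdeal A
  haveI : (IsLocalRing.maximalIdeal B).LiesOver p :=
    ⟨((IsLocalRing.eq_maximalIdeal (Ideal.isMaximal_comap_of_isIntegral_of_isMaximal (R := A)
      (IsLocalRing.maximalIdeal B)))).symm⟩
  obtain ⟨ϖ, hϖ⟩ := IsDiscreteValuationRing.exists_irreducible A
  have hp : p = Ideal.span {ϖ} := hϖ.maximalIdeal_eq
  have hpB : p.map (algebraMap A B) ≠ ⊥ := Ideal.map_ne_bot_of_ne_bot (by
    rw [hp, ne_eq, Ideal.span_singleton_eq_bot]; exact hϖ.ne_zero)
  have hBfield : ¬ IsField B := fun h => hpB (by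
    have : p.map (algebraMap A B) ≤ IsLocalRing.maximalIdeal B :=
      Ideal.map_le_iff_le_comap.mpr (Ideal.over_def (IsLocalRing.maximalIdeal B) p).le
    rw [IsLocalRing.isField_iff_maximalIdeal_eq.mp h] at this
    exact le_bot_iff.mp this)
  haveI : IsPrincipalIdealRing B := IsPrincipalIdealRing.of_finite_primes (by
    refine Set.Finite.subset (Set.finite_singleton (IsLocalRing.maximalIdeal B) |>.union (Set.finite_singleton ⊥)) ?_
    intro P hP
    rcases eq_or_ne P ⊥ with h | h
    · exact Or.inr h
    · exact Or.inl (IsLocalRing.eq_maximalIdeal (hP.isMaximal h)))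
  haveI : IsDiscreteValuationRing B :=
    { not_a_field' := fun h => hBfield (IsLocalRing.isField_iff_maximalIdeal_eq.mpr h) }
  obtain ⟨w, hw⟩ := IsDiscreteValuationRing.exists_irreducible B
  have hwM : IsLocalRing.maximalIdeal B = Ideal.span {w} := hw.maximalIdeal_eq
  have hne : algebraMap A B ϖ ≠ 0 := by
    rw [map_ne_zero_iff _ (FaithfulSMul.algebraMap_injective A B)]; exact hϖ.ne_zero
  obtain ⟨n, ε, hεn⟩ := IsDiscreteValuationRing.eq_unit_mul_pow_irreducible hne hw
  have hmap : p.map (algebraMap A B) = IsLocalRing.maximalIdeal B ^ n := by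
    rw [hp, Ideal.map_span, Set.image_singleton, hwM, Ideal.span_singleton_pow, hεn,
      Ideal.span_singleton_mul_left_unit ε.isUnit]
  have hMne : IsLocalRing.maximalIdeal B ≠ ⊥ := fun h => hBfield (IsLocalRing.isField_iff_maximalIdeal_eq.mpr h)
  have hn : n = Module.finrank A B := by
    rw [← hram, Ideal.IsDedekindDomain.ramificationIdx_eq_multiplicity p _ hpB, hmap,
      multiplicity_pow_self hMne ((Ideal.isUnit_iff).not.mpr Ideal.IsPrime.ne_top') n]
  set m := Module.finrank A B
  letI : Unique (p.primesOver B) :=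
    { default := ⟨IsLocalRing.maximalIdeal B, inferInstance, inferInstance⟩
      uniq := fun ⟨P, hP, hPp⟩ => Subtype.ext (IsLocalRing.eq_maximalIdeal (hP.isMaximal fun h => by
        subst h
        refine hϖ.ne_zero ((map_eq_zero_iff _ (FaithfulSMul.algebraMap_injective A B)).mp ?_)
        rw [← Ideal.mem_bot, ← Ideal.mem_comap]
        exact hPp.over.le (hp ▸ Ideal.mem_span_singleton_self ϖ))) }
  have hf1 : (IsLocalRing.maximalIdeal B).inertiaDeg A = 1 := by
    letI : Fintype (p.primesOver B) := Fintype.ofSubsingleton default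
    have h := Ideal.sum_ramification_inertia_eq_finrank p B
    rw [Fintype.sum_unique] at h
    simp only [show ((default : p.primesOver B) : Ideal B) = IsLocalRing.maximalIdeal B from rfl, hram] at h
    exact mul_left_cancel₀ (fun h0 => not_isUnit_zero (M₀ := A) (by rw [h0, Nat.cast_zero] at hm; exact hm))
      (h.trans (mul_one m).symm)
  rw [Ideal.inertiaDeg_eq_of_isMaximal p (IsLocalRing.maximalIdeal B)] at hf1
  letI : Field (A ⧸ p) := Ideal.Quotient.field p
  obtain ⟨q, hq⟩ := Ideal.Quotient.mk_surjective (Classical.choose ((finrank_eq_one_iff_of_nonzero'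
    (1 : B ⧸ IsLocalRing.maximalIdeal B) one_ne_zero).mp hf1 (Ideal.Quotient.mk _ (ε : B))))
  have hqe := Classical.choose_spec ((finrank_eq_one_iff_of_nonzero'
    (1 : B ⧸ IsLocalRing.maximalIdeal B) one_ne_zero).mp hf1 (Ideal.Quotient.mk _ (ε : B)))
  rw [← hq] at hqe
  have haε : algebraMap A B q - (ε : B) ∈ IsLocalRing.maximalIdeal B := by
    rw [← Ideal.Quotient.eq, ← hqe, ← Ideal.Quotient.algebraMap_eq p, algebraMap_smul]
    simp [Algebra.smul_def]
  have hqu : IsUnit q := by
    by_contra h
    have hqB : algebraMap A B q ∈ IsLocalRing.maximalIdeal B :=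
      (Ideal.over_def (IsLocalRing.maximalIdeal B) p).le h
    have := sub_mem hqB haε
    rw [sub_sub_cancel] at this
    exact this ε.isUnit
  obtain ⟨a, rfl⟩ := hqu
  let ε₁ : B := (ε : B) * algebraMap A B (↑a⁻¹ : A)
  have hε₁ : ε₁ - 1 ∈ IsLocalRing.maximalIdeal B := by
    have : ε₁ - 1 = -(algebraMap A B (↑a⁻¹ : A)) * (algebraMap A B (a : A) - ε) := by
      rw [mul_sub, neg_mul, ← map_mul, Units.inv_mul, map_one]; ring
    rw [this]
    exact Ideal.mul_mem_left _ _ haε
  have hm0 : 0 < m := Module.finrank_pos
  obtain ⟨η, hη, hη1⟩ := HenselianLocalRing.is_henselian (Polynomial.X ^ m - Polynomial.C ε₁)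
    (Polynomial.monic_X_pow_sub_C _ hm0.ne') 1
    (by simpa [sub_mem_comm_iff] using hε₁)
    (by simpa [Polynomial.derivative_X_pow] using (hm.map (algebraMap A B)))
  simp only [Polynomial.IsRoot, Polynomial.eval_sub, Polynomial.eval_pow, Polynomial.eval_X,
    Polynomial.eval_C, sub_eq_zero] at hη
  have hηu : IsUnit η := by
    by_contra h
    have := sub_mem (show η ∈ IsLocalRing.maximalIdeal B from h) hη1
    rw [sub_sub_cancel] at this
    exact this isUnit_one
  have hum : (w * η) ^ m = algebraMap A B (ϖ * (↑a⁻¹ : A)) := by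
    rw [mul_pow, hη, map_mul, hεn, hn]; ring
  refine ⟨w * η, ?_, ?_, ⟨_, hum.symm⟩, ?_⟩
  · rw [hwM]; exact Ideal.mem_span_singleton.mpr (Dvd.intro η rfl)
  · rw [hwM, Ideal.span_singleton_pow, Ideal.mem_span_singleton, hηu.dvd_mul_right]
    intro h
    obtain ⟨c, hc⟩ := h
    refine hw.not_isUnit (IsUnit.of_mul_eq_one c ?_)
    refine mul_left_cancel₀ hw.ne_zero ?_
    linear_combination -hc
  · let P : Polynomial A := Polynomial.X ^ m - Polynomial.C (ϖ * (↑a⁻¹ : A))
    have hP : P.Monic := Polynomial.monic_X_pow_sub_C _ hm0.ne'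
    have hdeg : P.natDegree = m := Polynomial.natDegree_X_pow_sub_C
    have hirr : Irreducible P := by
      refine Polynomial.IsEisensteinAt.irreducible (𝓟 := p) ⟨?_, ?_, ?_⟩ inferInstance hP.isPrimitive
        (hdeg ▸ hm0)
      · rw [hP.leadingCoeff]; exact p.one_notMem
      · intro i hi
        rw [hdeg] at hi
        rw [Polynomial.coeff_sub, Polynomial.coeff_X_pow, if_neg hi.ne, Polynomial.coeff_C, zero_sub,
          neg_mem_iff]
        split_ifs with h
        · exact Ideal.mul_mem_right _ _ (hp ▸ Ideal.mem_span_singleton_self ϖ)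
        · exact zero_mem _
      · rw [Polynomial.coeff_sub, Polynomial.coeff_X_pow, if_neg hm0.ne, Polynomial.coeff_C, if_pos rfl,
          zero_sub, neg_mem_iff, hp, Ideal.span_singleton_pow, Ideal.mem_span_singleton]
        intro h
        rw [(Units.isUnit _).dvd_mul_right] at h
        obtain ⟨c, hc⟩ := h
        refine hϖ.not_isUnit (IsUnit.of_mul_eq_one c (mul_left_cancel₀ hϖ.ne_zero ?_))
        linear_combination -hc
    have hint : IsIntegral A (w * η) := Algebra.IsIntegral.isIntegral _
    have hdvd : minpoly A (w * η) ∣ P :=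
      minpoly.isIntegrallyClosed_dvd hint (by simp [P, hum])
    rw [Polynomial.eq_of_monic_of_associated (minpoly.monic hint) hP
      ((minpoly.irreducible hint).associated_of_dvd hirr hdvd), hdeg]

end Groth.Agent.S11089
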