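import Groth.Statements.S11092
import Groth.Agent.H21.KBasis
import Mathlib.RingTheory.Flat.FaithfullyFlat.Algebra
import Mathlib.LinearAlgebra.Dimension.FreeAndStrongRankCondition
import Mathlib.LinearAlgebra.FiniteDimensional.Lemmas

set_option autoImplicit false
universe u v
open CAlg

namespace Groth.Agent.S11092

/-- Let k be an algebraically closed field, K a field finitely generated over k admitting a one-element
transcendence basis over k (a function field of dimension one), and L a finite extension field of K
with the compatible k-algebra structure. Then the K-linear map from the Kähler differentials of K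
over k to those of L over k induced by the inclusion is either the zero map or injective, and it is
injective if and only if L is separable over K. (The published statement takes K ⊆ L to be the
function fields of two elliptic curves related by a nonzero homomorphism; its proof uses only that
they are function fields of dimension one over k.) -/
theorem result (k : Type u) (K L : Type v)
    [Field k] [IsAlgClosed k] [Field K] [Field L] [Algebra k K] [Algebra k L] [Algebra K L]
    [IsScalarTower k K L] (hK : (⊤ : IntermediateField k K).FG)
    (hx : ∃ x : K, IsTranscendenceBasis k (fun _ : Unit => x)) [FiniteDimensional K L] :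
    (KaehlerDifferential.map k k K L = 0 ∨ Function.Injective (KaehlerDifferential.map k k K L)) ∧
      (Function.Injective (KaehlerDifferential.map k k K L) ↔ Algebra.IsSeparable K L) := by
  obtain ⟨x, hx⟩ := hx
  haveI : Algebra.EssFiniteType k K := IntermediateField.fg_top_iff.1 hK
  haveI : Algebra.IsAlgebraic K L := Algebra.IsAlgebraic.of_finite K L
  haveI : Algebra.EssFiniteType k L := Algebra.EssFiniteType.comp k K L
  obtain ⟨s, hs, hsep⟩ := exists_isTranscendenceBasis_and_isSeparable_of_perfectField k K
  have hsep' : Algebra.IsSeparable (IntermediateField.adjoin k (Set.range ((↑) : s → K))) K := by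
    convert! hsep <;> simp
  have hcard : Cardinal.mk s = 1 := by
    have := hx.lift_cardinalMk_eq hs
    simpa using this.symm
  obtain ⟨hsub, ⟨i0⟩⟩ := Cardinal.eq_one_iff_unique.1 hcard
  obtain ⟨b, hb⟩ := Groth.Agent.H21.KBasis.exists_basis_of_isSeparable hs.1 hsep'
  let φ := KaehlerDifferential.map k k K L
  have hv : ∀ v, ∃ c : K, v = c • b i0 := fun v => by
    refine ⟨b.repr v i0, ?_⟩
    conv_lhs => rw [← b.sum_repr v]
    rw [Fintype.sum_subsingleton _ i0]
  have hinj0 : φ (b i0) ≠ 0 → Function.Injective φ := fun hne => by
    rw [injective_iff_map_eq_zero]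
    intro v hv0
    obtain ⟨c, rfl⟩ := hv v
    rw [map_smul, ← algebraMap_smul L c (φ (b i0)), smul_eq_zero] at hv0
    rcases hv0 with h | h
    · rw [(map_eq_zero _).1 h, zero_smul]
    · exact absurd h hne
  refine ⟨?_, ⟨fun hinj => ?_, fun hLK => ?_⟩⟩
  · by_cases h : φ (b i0) = 0
    · refine Or.inl (LinearMap.ext fun v => ?_)
      obtain ⟨c, rfl⟩ := hv v
      show φ (c • b i0) = 0
      rw [map_smul, h, smul_zero]
    · exact Or.inr (hinj0 h)
  · have hne : φ (b i0) ≠ 0 := fun h => b.ne_zero i0 (hinj (h.trans (map_zero φ).symm))
    have hrank : Module.rank L (KaehlerDifferential k L) = 1 := by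
      have hL : IsTranscendenceBasis k (algebraMap K L ∘ ((↑) : s → K)) := hs.algebraMap_comp
      have := Groth.Agent.H21.KBasis.lift_rank_eq hL
      rw [hcard, Cardinal.lift_one, Cardinal.lift_eq_one] at this
      exact this
    have hfin : Module.finrank L (KaehlerDifferential k L) = 1 :=
      Module.finrank_eq_of_rank_eq (by simpa using hrank)
    have hspan : Submodule.span L {φ (b i0)} = ⊤ :=
      (finrank_eq_one_iff_of_nonzero (φ (b i0)) hne).1 hfin
    haveI : Algebra.EssFiniteType K L := Algebra.EssFiniteType.of_comp k K L
    haveI : Algebra.FormallyUnramified K L := by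
      refine ⟨⟨fun u v => ?_⟩⟩
      suffices H : ∀ w, w = (0 : KaehlerDifferential K L) from (H u).trans (H v).symm
      intro w
      obtain ⟨w', rfl⟩ := KaehlerDifferential.map_surjective k K L w
      obtain ⟨c, rfl⟩ := Submodule.mem_span_singleton.1 (hspan ▸ Submodule.mem_top : w' ∈ _)
      rw [map_smul, hb i0]
      simp [φ, KaehlerDifferential.map_D]
    exact Algebra.FormallyUnramified.isSeparable K L
  · haveI := hLK
    haveI : Algebra.FormallyEtale K L := Algebra.FormallyEtale.of_isSeparable K L
    let e := KaehlerDifferential.tensorKaehlerEquivOfFormallyEtale k K L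
    intro u v huv
    apply Module.FaithfullyFlat.tensorProduct_mk_injective (A := K) (B := L)
    apply e.injective
    simpa [e, φ] using huv

end Groth.Agent.S11092
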