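import Groth.Statements.S11093
import Groth.Agent.Lib.ASNormal98.Basic
-- import your own Groth.Agent.* helpers here

set_option autoImplicit false
universe u
attribute [local instance] FractionRing.liftAlgebra
open CAlg

namespace Groth.Agent.S11093

/-- Second assertion: (Artin–Schreier normal form): let K be a perfect field of characteristic p > 0, A
= K[[t]] the power series ring with fraction field F, and B a Dedekind domain which is a finite
torsion-free A-algebra whose fraction field E is Galois of degree p over F and totally ramified: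
some maximal ideal of B has ramification index p over A. Then there are x in E generating E over F
and α in F with x^p − x + α = 0, where α = a / t^m for a power series a with nonzero constant term
and a positive integer m not divisible by p. -/
theorem result (p : ℕ) [Fact p.Prime] (K : Type u) [Field K]
    [CharP K p] [PerfectField K] (B : Type u) [CommRing B] [IsDedekindDomain B]
    [Algebra (PowerSeries K) B] [Module.Finite (PowerSeries K) B] [Module.IsTorsionFree (PowerSeries K) B]
    [IsGalois (FractionRing (PowerSeries K)) (FractionRing B)]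
    (hdeg : Module.finrank (FractionRing (PowerSeries K)) (FractionRing B) = p)
    (M : Ideal B) [M.IsMaximal] (hram : M.ramificationIdx (PowerSeries K) = p) :
    ∃ x : FractionRing B, ∃ m : ℕ, ∃ a : PowerSeries K,
      IntermediateField.adjoin (FractionRing (PowerSeries K)) {x} = ⊤ ∧ 0 < m ∧ ¬ p ∣ m ∧
      PowerSeries.constantCoeff a ≠ 0 ∧
      x ^ p - x + algebraMap (FractionRing (PowerSeries K)) (FractionRing B)
        (algebraMap (PowerSeries K) (FractionRing (PowerSeries K)) a /
          algebraMap (PowerSeries K) (FractionRing (PowerSeries K)) (PowerSeries.X ^ m)) = 0 := by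
  open Groth.Agent.Lib in
  classical
  let A := PowerSeries K
  let F := FractionRing (PowerSeries K)
  let E := FractionRing B
  haveI : FiniteDimensional F E := Module.finite_of_finrank_pos (hdeg ▸ (Fact.out : p.Prime).pos)
  haveI : CharP A p := charP_of_injective_ringHom (f := (PowerSeries.C (R := K))) PowerSeries.C_injective p
  haveI : CharP F p := charP_of_injective_algebraMap (IsFractionRing.injective A F) p
  haveI : CharP E p := charP_of_injective_algebraMap (algebraMap F E).injective p
  obtain ⟨σ, x₀, hx₀, hfix⟩ := ASNormal98.Basic.exists_generator p F E hdeg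
  let q : ℕ → A → F := fun m a => algebraMap A F a / algebraMap A F (PowerSeries.X ^ m)
  have hX : ∀ m : ℕ, algebraMap A F (PowerSeries.X ^ m) ≠ 0 := fun m =>
    IsFractionRing.to_map_ne_zero_of_mem_nonZeroDivisors
      (mem_nonZeroDivisors_of_ne_zero (pow_ne_zero m PowerSeries.X_ne_zero))
  let Q : ℕ → Prop := fun m => ∃ (x : E) (a : A), σ x = x + 1 ∧ x ^ p - x + algebraMap F E (q m a) = 0
  have hex : ∃ m, Q m := by
    obtain ⟨b, hb⟩ := hfix (x₀ ^ p - x₀) (by rw [map_sub, map_pow, hx₀, add_pow_char, one_pow]; ring)
    obtain ⟨a, d, hd, hbd⟩ := IsFractionRing.div_surjective A (-b)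
    have hd0 : d ≠ 0 := nonZeroDivisors.ne_zero hd
    have hu : IsUnit (PowerSeries.divXPowOrder d) := PowerSeries.isUnit_iff_constantCoeff.2
      (isUnit_iff_ne_zero.2 fun h => hd0 (PowerSeries.constantCoeff_divXPowOrder_eq_zero_iff.1 h))
    obtain ⟨w, hw⟩ := hu.exists_right_inv
    refine ⟨d.order.toNat, x₀, a * w, hx₀, ?_⟩
    have he : q d.order.toNat (a * w) = -b := by
      rw [← hbd]
      simp only [q]
      rw [div_eq_div_iff (hX _) (IsFractionRing.to_map_ne_zero_of_mem_nonZeroDivisors hd), ← map_mul,
        ← map_mul]
      refine congrArg _ ?_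
      conv_lhs => rw [← PowerSeries.X_pow_order_mul_divXPowOrder (f := d)]
      linear_combination (PowerSeries.X ^ d.order.toNat * a) * hw
    rw [he, map_neg, hb]
    exact add_neg_cancel _
  let m := Nat.find hex
  obtain ⟨x, a, hx, hxa⟩ := Nat.find_spec hex
  change x ^ p - x + algebraMap F E (q m a) = 0 at hxa
  have hmin : ∀ j, j < m → ¬ Q j := fun j hj => Nat.find_min hex hj
  have hm0 : 0 < m := by
    by_contra h
    obtain h0 : m = 0 := by omega
    rw [h0] at hxa
    simp only [q, pow_zero, map_one, div_one, ← IsScalarTower.algebraMap_apply] at hxa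
    refine ASNormal98.Basic.false_of_integral p hdeg M hram σ hx
      ⟨Polynomial.X ^ p - Polynomial.X + Polynomial.C a, ?_, ?_⟩
    · rw [sub_add]
      refine Polynomial.monic_X_pow_sub ?_
      refine (Polynomial.degree_sub_le _ _).trans_lt (max_lt ?_ ?_)
      · rw [Polynomial.degree_X]; exact_mod_cast (Fact.out : p.Prime).one_lt
      · exact Polynomial.degree_C_le.trans_lt (by exact_mod_cast (Fact.out : p.Prime).pos)
    · rw [Polynomial.eval₂_add, Polynomial.eval₂_sub, Polynomial.eval₂_X_pow, Polynomial.eval₂_X,
        Polynomial.eval₂_C]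
      exact hxa
  have hdiv : ∀ a' : A, PowerSeries.constantCoeff a' = 0 →
      ∃ a'' : A, q m a' = q (m - 1) a'' := fun a' h => by
    obtain ⟨a'', rfl⟩ := PowerSeries.X_dvd_iff.2 h
    refine ⟨a'', ?_⟩
    simp only [q]
    rw [div_eq_div_iff (hX _) (hX _), ← map_mul, ← map_mul]
    refine congrArg _ ?_
    rw [mul_comm PowerSeries.X a'', mul_assoc, ← pow_succ', show m - 1 + 1 = m by omega]
  have ha0 : PowerSeries.constantCoeff a ≠ 0 := fun h => by
    obtain ⟨a'', ha''⟩ := hdiv a h
    exact hmin (m - 1) (by omega) ⟨x, a'', hx, ha'' ▸ hxa⟩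
  have hpm : ¬ p ∣ m := fun ⟨l, hl⟩ => by
    have hlm : l < m := by
      have := (Fact.out : p.Prime).two_le
      rcases Nat.eq_zero_or_pos l with h | h
      · omega
      · nlinarith
    obtain ⟨c, hc⟩ := (bijective_frobenius K p).2 (PowerSeries.constantCoeff a)
    change c ^ p = PowerSeries.constantCoeff a at hc
    let a' : A := a - PowerSeries.C (c ^ p) + PowerSeries.C c * PowerSeries.X ^ (m - l)
    have ha' : PowerSeries.constantCoeff a' = 0 := by
      simp only [a', map_add, map_sub, map_mul, map_pow, PowerSeries.constantCoeff_C,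
        PowerSeries.constantCoeff_X, zero_pow (show m - l ≠ 0 by omega), hc, sub_self, mul_zero, add_zero]
    obtain ⟨a'', ha''⟩ := hdiv a' ha'
    refine hmin (m - 1) (by omega) ⟨x + algebraMap F E (q l (PowerSeries.C c)), a'', ?_, ?_⟩
    · rw [map_add, AlgEquiv.commutes, hx]
      ring
    · rw [← ha'', add_pow_char]
      have hq : q m a' = q m a - q l (PowerSeries.C c) ^ p + q l (PowerSeries.C c) := by
        have hsplit : algebraMap A F (PowerSeries.X ^ m) =
            algebraMap A F (PowerSeries.X ^ (m - l)) * algebraMap A F (PowerSeries.X ^ l) := by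
          rw [← map_mul, ← pow_add, show m - l + l = m by omega]
        have hpow : q l (PowerSeries.C c) ^ p = algebraMap A F (PowerSeries.C (c ^ p)) /
            algebraMap A F (PowerSeries.X ^ m) := by
          simp only [q]
          rw [div_pow, ← map_pow, ← map_pow, ← map_pow, ← pow_mul, mul_comm l p, ← hl]
        have hq2 : q l (PowerSeries.C c) = algebraMap A F (PowerSeries.C c * PowerSeries.X ^ (m - l)) /
            algebraMap A F (PowerSeries.X ^ m) := by
          rw [hsplit, map_mul, mul_comm (algebraMap A F (PowerSeries.X ^ (m - l))),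
            mul_div_mul_right _ _ (hX _)]
        rw [hpow, hq2]
        simp only [q, a', map_add, map_sub]
        ring
      rw [hq, map_add, map_sub, map_pow]
      linear_combination hxa
  refine ⟨x, m, a, ?_, hm0, hpm, ha0, hxa⟩
  haveI : IsSimpleOrder (IntermediateField F E) :=
    IntermediateField.isSimpleOrder_of_finrank_prime (F := F) (E := E) (hdeg ▸ (Fact.out : p.Prime))
  refine (eq_bot_or_eq_top _).resolve_left fun h => ?_
  obtain ⟨y, hy⟩ := IntermediateField.mem_bot.1 (h ▸ IntermediateField.mem_adjoin_simple_self F x)
  rw [← hy, AlgEquiv.commutes] at hx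
  exact one_ne_zero (left_eq_add.1 hx)

end Groth.Agent.S11093
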