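import Groth.Statements.S11095
import Mathlib.FieldTheory.PrimitiveElement
import Mathlib.FieldTheory.AlgebraicClosure
import Mathlib.RingTheory.AdjoinRoot
import Mathlib.RingTheory.IntegralClosure.IntegrallyClosed
import Mathlib.RingTheory.Polynomial.GaussLemma
import Mathlib.LinearAlgebra.Dimension.Constructions
import Mathlib.RingTheory.TensorProduct.Nontrivial
import Mathlib.FieldTheory.Perfect

set_option autoImplicit false
universe u
open CAlg

namespace Groth.Agent.S11095

/-- Let K₀ be a perfect field, K an algebraic extension of K₀ and F₀ a field extension of K₀ such that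
K₀ is algebraically closed in F₀. Then the K₀-algebra F₀ ⊗ K is a field; consequently F₀ and K,
embedded in it by x ↦ x ⊗ 1 and y ↦ 1 ⊗ y, are linearly disjoint over K₀. -/
theorem result (K₀ F₀ K : Type u)
    [Field K₀] [PerfectField K₀] [Field F₀] [Algebra K₀ F₀] [Field K] [Algebra K₀ K]
    [Algebra.IsAlgebraic K₀ K] (h : algebraicClosure K₀ F₀ = ⊥) :
    IsField (TensorProduct K₀ F₀ K) := by
  classical
  have key : ∀ K₁ : IntermediateField K₀ K, FiniteDimensional K₀ K₁ → IsField (TensorProduct K₀ F₀ K₁) := by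
    intro K₁ _
    haveI : Algebra.IsSeparable K₀ K₁ := Algebra.IsAlgebraic.isSeparable_of_perfectField
    let pb := Field.powerBasisOfFiniteOfSeparable K₀ K₁
    let p := minpoly K₀ pb.gen
    have hp : Irreducible p := minpoly.irreducible pb.isIntegral_gen
    have hpm : p.Monic := minpoly.monic pb.isIntegral_gen
    let q := p.map (algebraMap K₀ F₀)
    have hqm : q.Monic := hpm.map _
    have hirr : Irreducible q := by
      have hq1 : q ≠ 1 := fun h1 => hp.not_isUnit (by
        rw [show p = 1 from Polynomial.map_injective _ (algebraMap K₀ F₀).injective (h1.trans (Polynomial.map_one _).symm)]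
        exact isUnit_one)
      rw [hqm.irreducible_iff_natDegree]
      refine ⟨hq1, fun g g' hg hg' hgg => ?_⟩
      have hlift : ∀ g : Polynomial F₀, g.Monic → g ∣ q → ∃ g₀ : Polynomial K₀, g₀.map (algebraMap K₀ F₀) = g := by
        intro g hg hgq
        obtain ⟨g₁, hg₁, -⟩ := Polynomial.lifts_and_natDegree_eq_and_monic
          (integralClosure.mem_lifts_of_monic_of_dvd_map F₀ hpm hg hgq) hg
        refine (Polynomial.mem_lifts _).mp ((Polynomial.lifts_iff_coeff_lifts g).mpr fun m => ?_)
        have hint : IsIntegral K₀ (g.coeff m) := by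
          rw [← hg₁, Polynomial.coeff_map]
          exact (g₁.coeff m).2
        have hmem : g.coeff m ∈ algebraicClosure K₀ F₀ := mem_algebraicClosure_iff.mpr hint.isAlgebraic
        rw [h] at hmem
        exact IntermediateField.mem_bot.mp hmem
      obtain ⟨g₀, rfl⟩ := hlift g hg ⟨g', hgg.symm⟩
      obtain ⟨g₀', rfl⟩ := hlift g' hg' ⟨_, by rw [← hgg, mul_comm]⟩
      rw [← Polynomial.map_mul] at hgg
      have hp' := Polynomial.map_injective _ (algebraMap K₀ F₀).injective hgg
      rw [Polynomial.natDegree_map, Polynomial.natDegree_map]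
      exact (hp.isUnit_or_isUnit hp'.symm).imp Polynomial.natDegree_eq_zero_of_isUnit Polynomial.natDegree_eq_zero_of_isUnit
    haveI : Fact (Irreducible q) := ⟨hirr⟩
    let φ : K₁ →ₐ[K₀] AdjoinRoot q := pb.lift (AdjoinRoot.root q) (by
      rw [← Polynomial.aeval_map_algebraMap F₀, AdjoinRoot.aeval_eq]; exact AdjoinRoot.mk_self)
    let Φ : TensorProduct K₀ F₀ K₁ →ₐ[F₀] AdjoinRoot q :=
      Algebra.TensorProduct.lift (Algebra.ofId F₀ _) φ fun _ _ => Commute.all _ _
    have hsurj : Function.Surjective Φ := by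
      rw [← AlgHom.range_eq_top, eq_top_iff, ← AdjoinRoot.adjoinRoot_eq_top, Algebra.adjoin_le_iff,
        Set.singleton_subset_iff]
      exact ⟨1 ⊗ₜ[K₀] pb.gen, by simp [Φ, φ]⟩
    haveI : Module.Finite F₀ (AdjoinRoot q) := hqm.finite_adjoinRoot
    have hdim : Module.finrank F₀ (TensorProduct K₀ F₀ K₁) = Module.finrank F₀ (AdjoinRoot q) := by
      rw [Module.finrank_baseChange, pb.finrank, (AdjoinRoot.powerBasis hirr.ne_zero).finrank,
        AdjoinRoot.powerBasis_dim, Polynomial.natDegree_map, PowerBasis.natDegree_minpoly]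
    have hinj : Function.Injective Φ.toLinearMap :=
      (LinearMap.injective_iff_surjective_of_finrank_eq_finrank hdim).mpr hsurj
    exact (AlgEquiv.ofBijective Φ ⟨hinj, hsurj⟩).toMulEquiv.isField (Field.toIsField _)
  have hrange : ∀ z : TensorProduct K₀ F₀ K, ∃ K₁ : IntermediateField K₀ K, FiniteDimensional K₀ K₁ ∧
      z ∈ (Algebra.TensorProduct.map (AlgHom.id F₀ F₀) K₁.val).range := by
    intro z
    induction z with
    | zero => exact ⟨⊥, inferInstance, zero_mem _⟩
    | tmul c a =>
      refine ⟨IntermediateField.adjoin K₀ {a}, IntermediateField.adjoin.finiteDimensional (Algebra.IsIntegral.isIntegral a),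
        c ⊗ₜ ⟨a, IntermediateField.mem_adjoin_simple_self K₀ a⟩, rfl⟩
    | add x y hx hy =>
      obtain ⟨K₁, h₁, x', rfl⟩ := hx
      obtain ⟨K₂, h₂, y', rfl⟩ := hy
      refine ⟨K₁ ⊔ K₂, IntermediateField.finiteDimensional_sup K₁ K₂, add_mem ?_ ?_⟩
      · refine ⟨Algebra.TensorProduct.map (AlgHom.id F₀ F₀) (IntermediateField.inclusion le_sup_left) x', ?_⟩
        induction x' with
        | zero => simp
        | tmul c a => rfl
        | add a b ha hb => simp only [map_add]; exact congrArg₂ (· + ·) ha hb
      · refine ⟨Algebra.TensorProduct.map (AlgHom.id F₀ F₀) (IntermediateField.inclusion le_sup_right) y', ?_⟩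
        induction y' with
        | zero => simp
        | tmul c a => rfl
        | add a b ha hb => simp only [map_add]; exact congrArg₂ (· + ·) ha hb
  haveI : Nontrivial (TensorProduct K₀ F₀ K) :=
    Algebra.TensorProduct.nontrivial_of_algebraMap_injective_of_isDomain K₀ F₀ K
      (algebraMap K₀ F₀).injective (algebraMap K₀ K).injective
  refine ⟨⟨0, 1, zero_ne_one⟩, mul_comm, fun {z} hz => ?_⟩
  obtain ⟨K₁, hfin, z', rfl⟩ := hrange z
  have hz' : z' ≠ 0 := fun h0 => hz (by rw [h0, map_zero])
  obtain ⟨w, hw⟩ := (key K₁ hfin).mul_inv_cancel hz'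
  exact ⟨_, (map_mul _ _ _).symm.trans ((congrArg _ hw).trans (map_one _))⟩

end Groth.Agent.S11095
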