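import Groth.Statements.S11096
import Mathlib.RingTheory.Ideal.Quotient.Operations
import Mathlib.Tactic.LinearCombination
-- import your own Groth.Agent.* helpers here

set_option autoImplicit false
universe u
open Neron

namespace Groth.Agent.S11096

/-- Let a Weierstrass equation have coefficients in a commutative ring R and let I be an ideal with a₃,
a₄, a₆ ∈ I. If the discriminant Δ does not lie in I ^ 2, then a₆ does not lie in I ^ 2 and b₂ does
not lie in I. (For a discrete valuation ring with maximal ideal (π): if π divides a₃, a₄, a₆ and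
v(Δ) = 1, then v(a₆) = 1 and π does not divide b₂.) -/
theorem result {R : Type u} [CommRing R] (W : WeierstrassCurve R)
    (I : Ideal R) (h3 : W.a₃ ∈ I) (h4 : W.a₄ ∈ I) (h6 : W.a₆ ∈ I) (hΔ : W.Δ ∉ I ^ 2) :
    W.a₆ ∉ I ^ 2 ∧ W.b₂ ∉ I := by
  constructor
  · intro h
    apply hΔ
    have h33 : W.a₃ * W.a₃ ∈ I ^ 2 := by rw [pow_two]; exact Ideal.mul_mem_mul h3 h3
    have h34 : W.a₃ * W.a₄ ∈ I ^ 2 := by rw [pow_two]; exact Ideal.mul_mem_mul h3 h4
    have h44 : W.a₄ * W.a₄ ∈ I ^ 2 := by rw [pow_two]; exact Ideal.mul_mem_mul h4 h4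
    rw [← Ideal.Quotient.eq_zero_iff_mem] at h h33 h34 h44 ⊢
    simp only [WeierstrassCurve.Δ, WeierstrassCurve.b₂, WeierstrassCurve.b₄, WeierstrassCurve.b₆,
      WeierstrassCurve.b₈, map_add, map_sub, map_mul, map_pow, map_neg, map_ofNat] at h h33 h34 h44 ⊢
    grind
  · intro h
    apply hΔ
    have e3 : W.b₄ ∈ I := by
      rw [WeierstrassCurve.b₄]
      exact I.add_mem (I.mul_mem_left _ h4) (I.mul_mem_left _ h3)
    have e6 : W.b₆ ∈ I := by
      rw [WeierstrassCurve.b₆]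
      exact I.add_mem (Ideal.pow_mem_of_mem _ h3 _ (by norm_num)) (I.mul_mem_left _ h6)
    rw [WeierstrassCurve.Δ]
    have a1 : W.b₂ * W.b₂ ∈ I ^ 2 := by rw [pow_two]; exact Ideal.mul_mem_mul h h
    have a2 : W.b₄ * W.b₄ ∈ I ^ 2 := by rw [pow_two]; exact Ideal.mul_mem_mul e3 e3
    have a3 : W.b₆ * W.b₆ ∈ I ^ 2 := by rw [pow_two]; exact Ideal.mul_mem_mul e6 e6
    have a4 : W.b₂ * W.b₄ ∈ I ^ 2 := by rw [pow_two]; exact Ideal.mul_mem_mul h e3
    rw [← Ideal.Quotient.eq_zero_iff_mem] at a1 a2 a3 a4 ⊢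
    simp only [map_add, map_sub, map_mul, map_pow, map_neg, map_ofNat] at a1 a2 a3 a4 ⊢
    grind

end Groth.Agent.S11096
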