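import Groth.Statements.S11100
import Groth.Agent.Lib.SectionSmooth.Basic
import Groth.Agent.Lib.ModelFibre.Chart
import Groth.Agent.H26.SectionExtendDvr

set_option autoImplicit false
universe u
open CategoryTheory AlgebraicGeometry
open Neron

namespace Groth.Agent.S11100

open CategoryTheory AlgebraicGeometry

/-- Let R be a Dedekind domain and p : X → Spec R flat and locally of finite presentation with X regular
(all local rings regular). Then every section s of p factors through the smooth locus of p: for
every point t of Spec R, p is smooth at s(t). (The published statement is for regular arithmetic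
surfaces over a Dedekind domain with perfect residue fields; this row assumes only that X is flat,
locally of finite presentation and regular.) -/
theorem result {R : Type u} [CommRing R] [IsDedekindDomain R]
    {X : Scheme.{u}} (p : X ⟶ Spec (CommRingCat.of R)) [Flat p] [LocallyOfFinitePresentation p]
    (hreg : ∀ x : X, IsRegularLocalRing (X.presheaf.stalk x))
    (s : Spec (CommRingCat.of R) ⟶ X) (hs : s ≫ p = 𝟙 _) (t : Spec (CommRingCat.of R)) :
    s.base t ∈ p.smoothLocus := by
  obtain ⟨_, ⟨U, hU, rfl⟩, hxU, -⟩ :=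
    X.isBasis_affineOpens.exists_subset_of_mem_open (Set.mem_univ (s.base t)) isOpen_univ
  have : IsOpenImmersion hU.fromSpec := hU.isOpenImmersion_fromSpec
  let φ := Groth.Agent.Lib.ModelFibre.Chart.chartHom p hU
  have hφ : Spec.map φ = hU.fromSpec ≫ p := Spec.map_preimage _
  let _ : Algebra R Γ(X, U) := φ.hom.toAlgebra
  have : Algebra.FinitePresentation R Γ(X, U) := by
    show φ.hom.FinitePresentation
    rw [← HasRingHomProperty.Spec_iff (P := @LocallyOfFinitePresentation), hφ]
    infer_instance
  have : Module.Flat R Γ(X, U) := by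
    show φ.hom.Flat
    rw [← HasRingHomProperty.Spec_iff (P := @Flat), hφ]
    infer_instance
  let q₀ : Ideal R := (t : PrimeSpectrum R).asIdeal
  let j : Spec (CommRingCat.of (Localization.AtPrime q₀)) ⟶ Spec (CommRingCat.of R) :=
    Spec.map (CommRingCat.ofHom (algebraMap R (Localization.AtPrime q₀)))
  have hj : j (IsLocalRing.closedPoint (Localization.AtPrime q₀)) = t :=
    PrimeSpectrum.ext (Localization.AtPrime.comap_maximalIdeal)
  have hr : Set.range (j ≫ s) ⊆ Set.range hU.fromSpec := by
    rw [IsAffineOpen.range_fromSpec]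
    rintro _ ⟨z, rfl⟩
    refine Groth.Agent.H26.SectionExtend.forall_mem_of_closedPoint (j ≫ s) U ?_ z
    rw [Scheme.Hom.comp_apply, hj]
    exact hxU
  let σ₀ := Spec.preimage (IsOpenImmersion.lift hU.fromSpec (j ≫ s) hr)
  have hσ₀ : Spec.map σ₀ ≫ hU.fromSpec = j ≫ s := by
    rw [Spec.map_preimage, IsOpenImmersion.lift_fac]
  have hcomm : φ ≫ σ₀ = CommRingCat.ofHom (algebraMap R (Localization.AtPrime q₀)) := by
    apply Spec.map_injective
    rw [Spec.map_comp, hφ, ← Category.assoc, hσ₀, Category.assoc, hs, Category.comp_id]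
  let σ : Γ(X, U) →ₐ[R] Localization.AtPrime q₀ :=
    { σ₀.hom with commutes' := fun r => congr($(hcomm).hom r) }
  let q := Groth.Agent.Lib.SectionSmooth.point q₀ σ
  let z : Spec Γ(X, U) := ⟨q, inferInstance⟩
  have hz : hU.fromSpec z = s.base t := by
    have : Spec.map σ₀ (IsLocalRing.closedPoint (Localization.AtPrime q₀)) = z := rfl
    rw [← this, ← Scheme.Hom.comp_apply, hσ₀, Scheme.Hom.comp_apply, hj]
  have hzq : hU.primeIdealOf ⟨s.base t, hxU⟩ = z :=
    hU.fromSpec.isOpenEmbedding.injective ((hU.fromSpec_primeIdealOf ⟨_, hxU⟩).trans hz.symm)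
  let _ := X.presheaf.algebra_section_stalk ⟨s.base t, hxU⟩
  have hl : IsLocalization.AtPrime (X.presheaf.stalk (s.base t)) q := by
    have := hU.isLocalization_stalk ⟨s.base t, hxU⟩
    rw [hzq] at this
    exact this
  have := hreg (s.base t)
  have : IsRegularLocalRing (Localization.AtPrime (Groth.Agent.Lib.SectionSmooth.point q₀ σ)) :=
    IsRegularLocalRing.of_ringEquiv (R := X.presheaf.stalk (s.base t))
      (IsLocalization.algEquiv q.primeCompl (X.presheaf.stalk (s.base t))
        (Localization.AtPrime q)).toRingEquiv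
  have := Groth.Agent.Lib.SectionSmooth.isSmoothAt_point q₀ σ
  obtain ⟨g, hg, hsm⟩ := Algebra.IsSmoothAt.exists_notMem_smooth R q
  let c : Γ(X, U) ⟶ CommRingCat.of (Localization.Away g) :=
    CommRingCat.ofHom (algebraMap Γ(X, U) (Localization.Away g))
  have : IsOpenImmersion (Spec.map c) := IsOpenImmersion.of_isLocalization g
  have : Smooth (Spec.map c ≫ hU.fromSpec ≫ p) := by
    rw [← hφ, ← Spec.map_comp, HasRingHomProperty.Spec_iff (P := @Smooth)]
    show ((algebraMap Γ(X, U) (Localization.Away g)).comp φ.hom).Smooth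
    rw [show (algebraMap Γ(X, U) (Localization.Away g)).comp φ.hom =
      algebraMap R (Localization.Away g) from
        (IsScalarTower.algebraMap_eq R Γ(X, U) (Localization.Away g)).symm,
      RingHom.smooth_algebraMap]
    exact hsm
  obtain ⟨w, hw⟩ : z ∈ Set.range (Spec.map c) := by
    have h : (PrimeSpectrum.comap (algebraMap Γ(X, U) (Localization.Away g))) '' Set.univ =
        PrimeSpectrum.basicOpen g := by
      rw [Set.image_univ]
      exact PrimeSpectrum.localization_away_comap_range (Localization.Away g) g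
    have hzg : (z : PrimeSpectrum Γ(X, U)) ∈ (PrimeSpectrum.basicOpen g : Set (PrimeSpectrum Γ(X, U))) :=
      (PrimeSpectrum.mem_basicOpen g _).mpr hg
    rw [← h, Set.image_univ] at hzg
    exact hzg
  have hmem : w ∈ (Spec.map c ≫ hU.fromSpec) ⁻¹ᵁ p.smoothLocus := by
    rw [Scheme.Hom.preimage_smoothLocus_eq]
    have : Smooth ((Spec.map c ≫ hU.fromSpec) ≫ p) := by rw [Category.assoc]; infer_instance
    rw [Scheme.Hom.smoothLocus_eq_top]
    trivial
  change (Spec.map c ≫ hU.fromSpec) w ∈ p.smoothLocus at hmem
  rwa [Scheme.Hom.comp_apply, hw, hz] at hmem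

end Groth.Agent.S11100
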