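import Groth.Statements.S11103
import Mathlib.AlgebraicGeometry.Morphisms.Smooth
import Mathlib.RingTheory.Flat.TorsionFree
import Mathlib.RingTheory.Algebraic.Integral
import Mathlib.RingTheory.RingHom.Smooth
import Groth.Agent.Lib.TorsorSch.Neron

set_option autoImplicit false
universe u
open CategoryTheory CategoryTheory.Limits AlgebraicGeometry
open Neron

namespace Groth.Agent.S11103

open CategoryTheory.Limits MonoidalCategory CartesianMonoidalCategory in
/-- Bijectivity of restriction to the generic fibre is stable under base change. -/
theorem transfer {S S' K K' : Scheme.{u}} (d : S' ⟶ S) (g : K ⟶ S) (g' : K' ⟶ S') (h : K' ⟶ K)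
    (sq : IsPullback g' h d g) (N : Over S) (Y : Over S')
    (hb : Function.Bijective
      (fun f : Over.mk (Y.hom ≫ d) ⟶ N => fst (Over.mk (Y.hom ≫ d)) (Over.mk g) ≫ f)) :
    Function.Bijective
      (fun f : Y ⟶ (Over.pullback d).obj N => fst Y (Over.mk g') ≫ f) := by
  let Yo : Over S := Over.mk (Y.hom ≫ d)
  have big : IsPullback (pullback.fst Y.hom (g'))
      (pullback.snd Y.hom (g') ≫ h)
      Yo.hom g :=
    (IsPullback.of_hasPullback Y.hom g').paste_vert sq
  refine ⟨fun f₁ f₂ hg => ?_, fun k => ?_⟩
  · have key : (Over.homMk (f₁.left ≫ pullback.fst N.hom d) (by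
        rw [Category.assoc, pullback.condition, ← Category.assoc]
        exact congrArg (· ≫ d) (Over.w f₁)) : Yo ⟶ N) =
        (Over.homMk (f₂.left ≫ pullback.fst N.hom d) (by
        rw [Category.assoc, pullback.condition, ← Category.assoc]
        exact congrArg (· ≫ d) (Over.w f₂)) : Yo ⟶ N) := by
      apply hb.1
      apply Over.OverMorphism.ext
      change pullback.fst Yo.hom g ≫ f₁.left ≫ _ =
        pullback.fst Yo.hom g ≫ f₂.left ≫ _
      rw [← big.isoPullback_inv_fst]
      have e : pullback.fst Y.hom (g') ≫ f₁.left =
          pullback.fst Y.hom (g') ≫ f₂.left := congrArg CommaMorphism.left hg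
      simp only [Category.assoc]
      rw [reassoc_of% e]
    apply Over.OverMorphism.ext
    apply pullback.hom_ext
    · exact congrArg CommaMorphism.left key
    · exact (Over.w f₁).trans (Over.w f₂).symm
  · have hk : k.left ≫ pullback.snd N.hom d =
        pullback.fst Y.hom (g') ≫ Y.hom := Over.w k
    obtain ⟨u, hu⟩ := hb.2 (Over.homMk (big.isoPullback.inv ≫ k.left ≫ pullback.fst N.hom d) (by
      rw [Category.assoc, Category.assoc, pullback.condition, reassoc_of% hk]
      exact big.isoPullback_inv_fst_assoc _))
    refine ⟨Over.homMk (pullback.lift u.left Y.hom (Over.w u)) (pullback.lift_snd _ _ _), ?_⟩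
    apply Over.OverMorphism.ext
    change pullback.fst Y.hom (g') ≫ pullback.lift u.left Y.hom _ = k.left
    apply pullback.hom_ext
    · rw [Category.assoc, pullback.lift_fst]
      have e : pullback.fst Yo.hom g ≫ u.left =
          big.isoPullback.inv ≫ k.left ≫ pullback.fst N.hom d := congrArg CommaMorphism.left hu
      rw [← big.isoPullback_inv_fst, Category.assoc] at e
      exact (cancel_epi _).mp e
    · rw [Category.assoc, pullback.lift_snd, hk]

/-- Let R be a Dedekind domain with fraction field K, let R' be a Dedekind domain finite étale over R
(the integral closure of R in a finite unramified extension K' of K), and let N be a Néron model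
over Spec R of its generic fibre N_K. Then the base change N' = N ×_R R' is a Néron model over Spec
R' of its generic fibre N'_{K'}: it is smooth, separated and of finite type over Spec R', and every
K'-morphism from the generic fibre of a smooth R'-scheme to N'_{K'} extends uniquely to an
R'-morphism into N'. (The published statement concerns the Néron model of an elliptic curve with the
mapping property for rational maps; this row allows any N and tests the mapping property on
morphisms from smooth schemes. The property generally fails for ramified extensions.) -/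
theorem result (R R' : Type u) [CommRing R] [IsDedekindDomain R]
    [CommRing R'] [IsDedekindDomain R'] [Algebra R R'] [Module.Finite R R'] [Algebra.Etale R R']
    (N : Over (Spec (CommRingCat.of R)))
    (hN : Neron.IsNeronModelOf R N ((Neron.genericFibre R).obj N) (Iso.refl _)) :
    Neron.IsNeronModelOf R'
      ((Over.pullback (Spec.map (CommRingCat.ofHom (algebraMap R R')))).obj N)
      ((Neron.genericFibre R').obj ((Over.pullback (Spec.map (CommRingCat.ofHom (algebraMap R R')))).obj N))
      (Iso.refl _) := by
  obtain ⟨h1, h2, h3, h4, h5⟩ := hN
  set d := Spec.map (CommRingCat.ofHom (algebraMap R R')) with hd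
  have hfl : Module.Flat R R' := inferInstance
  have hinj : Function.Injective (algebraMap R R') := by
    rw [injective_iff_map_eq_zero]
    intro r hr
    by_contra hne
    have h0 : r • (1 : R') = r • (0 : R') := by
      rw [smul_zero, Algebra.smul_def, hr, zero_mul]
    exact one_ne_zero
      (Module.Flat.isSMulRegular_of_nonZeroDivisors (mem_nonZeroDivisors_of_ne_zero hne) h0)
  have hff : FaithfulSMul R R' := (faithfulSMul_iff_algebraMap_injective R R').mpr hinj
  have hds : Smooth d := by
    rw [hd, HasRingHomProperty.Spec_iff (P := @Smooth)]
    exact RingHom.smooth_algebraMap.mpr inferInstance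
  have hj : Function.Injective ((algebraMap R' (FractionRing R')).comp (algebraMap R R')) :=
    (IsFractionRing.injective R' (FractionRing R')).comp hinj
  let fm : FractionRing R →+* FractionRing R' := IsFractionRing.lift hj
  have hfm : fm.comp (algebraMap R (FractionRing R)) =
      (algebraMap R' (FractionRing R')).comp (algebraMap R R') := by
    apply RingHom.ext
    intro r
    rw [RingHom.comp_apply]
    exact IsFractionRing.lift_algebraMap hj r
  have : IsLocalization ((nonZeroDivisors R).map (algebraMap R R')) (FractionRing R') :=
    inferInstanceAs (IsLocalization (Algebra.algebraMapSubmonoid R' (nonZeroDivisors R)) _)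
  have sq : IsPullback (Neron.genPt R') (Spec.map (CommRingCat.ofHom fm)) d (Neron.genPt R) :=
    isPullback_SpecMap_of_isPushout _ _ _ _
      (CommRingCat.isPushout_of_isLocalization (algebraMap R R') fm hfm (nonZeroDivisors R))
  refine ⟨MorphismProperty.pullback_snd N.hom d h1, MorphismProperty.pullback_snd N.hom d h2,
    MorphismProperty.pullback_snd N.hom d h3, MorphismProperty.pullback_snd N.hom d h4,
    fun Y hY => ?_⟩
  change Function.Bijective fun g => (Neron.genericFibre R').map g ≫ 𝟙 _
  simp only [Category.comp_id]
  rw [Groth.Agent.Lib.TorsorSch.Neron.bijective_pullback_map_iff]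
  let Yo : Over (Spec (CommRingCat.of R)) := Over.mk (Y.hom ≫ d)
  have hYo : Smooth Yo.hom := MorphismProperty.comp_mem @Smooth _ _ hY hds
  have hb := h5 Yo hYo
  simp only [Iso.refl_hom, Category.comp_id] at hb
  rw [Groth.Agent.Lib.TorsorSch.Neron.bijective_pullback_map_iff] at hb
  exact transfer d (Neron.genPt R) (Neron.genPt R') _ sq N Y hb

end Groth.Agent.S11103
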