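import Groth.Statements.S11114
import Groth.Agent.Lib.DerivedOX.Exists
import Groth.Agent.Lib.DerivedOX.RestrictKInj
import Groth.Agent.Lib.Modules.Local
import Groth.Agent.Lib.DerivedOX.RpushTriangulated
import Mathlib.Algebra.Homology.ShortComplex.ConcreteCategory

set_option autoImplicit false
universe u
open CategoryTheory CategoryTheory.Limits AlgebraicGeometry
attribute [local instance] HasDerivedCategory.standard
open DCoh

namespace Groth.Agent.S11114

open AlgebraicGeometry CategoryTheory.Limits Opposite TopologicalSpace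

/-- A complex of modules with exact sections on all affine opens is exact. -/
theorem exact_of_affine {X : Scheme.{u}} (S : ShortComplex X.Modules)
    (h : ∀ U : X.Opens, IsAffineOpen U →
      (S.map (Scheme.Modules.restrictFunctor U.ι ⋙ DCoh.gammaAb (U : Scheme.{u}))).Exact) :
    S.Exact := by
  rw [Groth.Agent.Lib.Modules.Stalk.exact_iff_stalk]
  intro x
  rw [ShortComplex.ab_exact_iff]
  intro s (hs : ((TopCat.Presheaf.stalkFunctor AddCommGrpCat.{u} x).map S.g.mapPresheaf) s = 0)
  obtain ⟨W, hxW, z, rfl⟩ := S.X₂.presheaf.germ_exist s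
  have hs' : (S.X₃.presheaf.germ W x hxW) (S.g.mapPresheaf.app (op W) z) =
      (S.X₃.presheaf.germ W x hxW) 0 :=
    (((TopCat.Presheaf.stalkFunctor_map_germ_apply' W x hxW S.g.mapPresheaf z).symm.trans hs).trans
      (map_zero (S.X₃.presheaf.germ W x hxW).hom).symm)
  obtain ⟨V, hxV, iV, iV', hV⟩ := S.X₃.presheaf.germ_eq x hxW hxW _ _ hs'
  obtain ⟨U, hU, hxU, hUV⟩ := exists_isAffineOpen_mem_and_subset (U := V) (x := x) hxV
  have hV' : U.ι ''ᵁ ⊤ ≤ V := le_trans (U.ι_image_le ⊤) hUV
  have hW' : U.ι ''ᵁ ⊤ ≤ W := le_trans hV' iV.le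
  have hx' : x ∈ U.ι ''ᵁ ⊤ := by rw [Scheme.Opens.ι_image_top]; exact hxU
  have h1 := (ShortComplex.ab_exact_iff _).1 (h U hU)
  obtain ⟨w, hw⟩ := h1 (S.X₂.presheaf.map (homOfLE hW').op z) (by
    change S.g.app (U.ι ''ᵁ ⊤) (S.X₂.presheaf.map (homOfLE hW').op z) = 0
    have n1 : S.g.app (U.ι ''ᵁ ⊤) (S.X₂.presheaf.map (homOfLE hW').op z) =
        S.X₃.presheaf.map (homOfLE hW').op (S.g.app W z) :=
      ConcreteCategory.congr_hom (S.g.mapPresheaf.naturality (homOfLE hW').op) z
    rw [n1]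
    have e : S.X₃.presheaf.map (homOfLE hW').op =
        S.X₃.presheaf.map iV.op ≫ S.X₃.presheaf.map (homOfLE hV').op := by
      rw [← Functor.map_comp]; exact congrArg S.X₃.presheaf.map (Subsingleton.elim _ _)
    rw [e, ConcreteCategory.comp_apply]
    erw [hV, map_zero, map_zero])
  refine ⟨S.X₁.presheaf.germ (U.ι ''ᵁ ⊤) x hx' w, ?_⟩
  change ((TopCat.Presheaf.stalkFunctor AddCommGrpCat.{u} x).map S.f.mapPresheaf) _ = _
  refine (TopCat.Presheaf.stalkFunctor_map_germ_apply' (U.ι ''ᵁ ⊤) x hx' S.f.mapPresheaf w).trans ?_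
  exact (congrArg (S.X₂.presheaf.germ (U.ι ''ᵁ ⊤) x hx') hw).trans
    (TopCat.Presheaf.germ_res_apply S.X₂.presheaf (homOfLE hW') x hx' z)

open Groth.Agent.Lib.DerivedOX in
/-- Vanishing on affines. -/
theorem isZero_of_affine {X : Scheme.{u}} [hR : ∀ U : X.Opens, DCoh.HasRΓ (U : Scheme.{u})]
    (C : DCoh.D X)
    (h : ∀ U : X.Opens, IsAffineOpen U →
      IsZero ((DCoh.RΓ (U : Scheme.{u})).obj ((DCoh.restrictD U.ι).obj C))) : IsZero C := by
  let K := DerivedCategory.Q.objPreimage C
  obtain ⟨I, i, hI, hi⟩ := Groth.Agent.Lib.DerCat.KInjExists.hasKInjRes K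
  haveI := hI
  haveI := hi
  let eC : C ≅ DerivedCategory.Q.obj I :=
    (DerivedCategory.Q.objObjPreimageIso C).symm ≪≫ asIso (DerivedCategory.Q.map i)
  refine IsZero.of_iso (RightDerived.isZero_Qh_obj_of_acyclic fun n => ?_)
    (eC ≪≫ ((DerivedCategory.quotientCompQhIso _).app I).symm)
  rw [HomologicalComplex.exactAt_iff]
  refine exact_of_affine _ fun U hU => ?_
  let I' := ((Scheme.Modules.restrictFunctor U.ι).mapHomologicalComplex (ComplexShape.up ℤ)).obj I
  haveI : CochainComplex.IsKInjective I' := RestrictKInj.isKInjective_restrict U hI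
  haveI := RightDerived.isIso_totalRightDerivedUnit_app_of_isKInjective (DCoh.gammaKh (U : Scheme.{u})) I'
  let G : CochainComplex AddCommGrpCat.{u} ℤ :=
    ((DCoh.gammaAb (U : Scheme.{u})).mapHomologicalComplex (ComplexShape.up ℤ)).obj I'
  have eG : (DCoh.RΓ (U : Scheme.{u})).obj ((DCoh.restrictD U.ι).obj C) ≅ DerivedCategory.Q.obj G :=
    (DCoh.RΓ (U : Scheme.{u})).mapIso ((DCoh.restrictD U.ι).mapIso eC ≪≫
      (Scheme.Modules.restrictFunctor U.ι).mapDerivedCategoryFactors.app I ≪≫
      ((DerivedCategory.quotientCompQhIso _).app I').symm) ≪≫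
    (asIso (((DCoh.gammaKh (U : Scheme.{u})).totalRightDerivedUnit DerivedCategory.Qh
      (HomotopyCategory.quasiIso (U : Scheme.{u}).Modules (ComplexShape.up ℤ))).app
        ((HomotopyCategory.quotient (U : Scheme.{u}).Modules (ComplexShape.up ℤ)).obj I'))).symm ≪≫
    (DerivedCategory.quotientCompQhIso AddCommGrpCat.{u}).app G
  have hG : IsZero (G.homology n) :=
    ((DerivedCategory.homologyFunctor AddCommGrpCat.{u} n).map_isZero ((h U hU).of_iso eG.symm)).of_iso
      ((DerivedCategory.homologyFunctorFactors AddCommGrpCat.{u} n).app G).symm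
  exact (HomologicalComplex.exactAt_iff _ _).1 ((HomologicalComplex.exactAt_iff_isZero_homology _ _).2 hG)

end Groth.Agent.S11114

namespace Groth.Agent.S11114

/-- Let Y be a quasi-compact quasi-separated scheme and assume the unbounded derived functor of global
sections RΓ(U, -) exists for every open U of Y (existence binder). A morphism φ : G₁ ⟶ G₂ in D(O_Y)
is an isomorphism if and only if for every affine open U of Y the morphism RΓ(U, φ|_U) of D(Ab),
obtained from φ through restriction to U and derived global sections, is an isomorphism. -/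
theorem result {Y : Scheme.{u}} [CompactSpace Y] [QuasiSeparatedSpace Y]
    [hR : ∀ U : Y.Opens, DCoh.HasRΓ (U : Scheme.{u})] {G₁ G₂ : DCoh.D Y} (φ : G₁ ⟶ G₂) :
    IsIso φ ↔ ∀ U : Y.Opens, IsAffineOpen U →
      IsIso ((DCoh.RΓ (U : Scheme.{u})).map ((DCoh.restrictD U.ι).map φ)) := by
  refine ⟨fun _ U _ => inferInstance, fun h => ?_⟩
  obtain ⟨C, g, k, hT⟩ := Pretriangulated.distinguished_cocone_triangle φ
  refine (Pretriangulated.Triangle.isZero₃_iff_isIso₁ _ hT).1 (isZero_of_affine C fun U hU => ?_)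
  let e := Groth.Agent.Lib.DerivedOX.RightDerived.totalRightDerivedIso (DCoh.gammaKh (U : AlgebraicGeometry.Scheme.{u}))
  letI : (DCoh.RΓ (U : AlgebraicGeometry.Scheme.{u})).CommShift ℤ := Functor.CommShift.ofIso e ℤ
  haveI : (DCoh.RΓ (U : AlgebraicGeometry.Scheme.{u})).IsTriangulated :=
    haveI : NatTrans.CommShift e.hom ℤ := Functor.CommShift.ofIso_compatibility e ℤ
    Functor.isTriangulated_of_iso e
  exact (Pretriangulated.Triangle.isZero₃_iff_isIso₁ _
    ((DCoh.restrictD U.ι ⋙ DCoh.RΓ (U : AlgebraicGeometry.Scheme.{u})).map_distinguished _ hT)).2 (h U hU)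

end Groth.Agent.S11114
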