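import Groth.Statements.S11124
import Groth.Agent.Lib.DerivedOX.GammaAcyclic
import Groth.Agent.Lib.DerivedOX.RestrictKInj
import Groth.Agent.Lib.DerivedOX.Exists
import Groth.Agent.Lib.Modules.Local

set_option autoImplicit false
universe u
open CategoryTheory CategoryTheory.Limits AlgebraicGeometry
attribute [local instance] HasDerivedCategory.standard
open Perf

namespace Groth.Agent.S11124

/-- Let f : X ⟶ Y be a morphism of schemes, B a K-injective cochain complex of O_X-modules and U an open
subset of Y, and assume the unbounded derived functor of global sections on U exists. Then the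
termwise direct image f_*B, restricted to U, is acyclic for global sections: the canonical map Γ(U,
f_*B) ⟶ RΓ(U, (f_*B)|_U) in D(Ab), the unit of the total right derived functor at this complex, is
an isomorphism. (The published statement is for ringed spaces; this row is the case of schemes.) -/
theorem result {X Y : Scheme.{u}} (f : X ⟶ Y) (B : CochainComplex X.Modules ℤ)
    [B.IsKInjective] (U : Y.Opens) [DCoh.HasRΓ (U : Scheme.{u})] :
    IsIso (((DCoh.gammaKh (U : Scheme.{u})).totalRightDerivedUnit DerivedCategory.Qh
      (HomotopyCategory.quasiIso (U : Scheme.{u}).Modules (ComplexShape.up ℤ))).app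
      ((HomotopyCategory.quotient (U : Scheme.{u}).Modules (ComplexShape.up ℤ)).obj
        ((DCoh.restrictCx U).obj (((Scheme.Modules.pushforward f).mapHomologicalComplex (ComplexShape.up ℤ)).obj B)))) := by
  obtain ⟨L, i, hL, hi⟩ := Groth.Agent.Lib.DerCat.KInjExists.hasKInjRes
    (((Scheme.Modules.pushforward f).mapHomologicalComplex (ComplexShape.up ℤ)).obj B)
  haveI := hL
  haveI := hi
  let F := DCoh.gammaKh (U : Scheme.{u})
  let q := HomotopyCategory.quotient (U : Scheme.{u}).Modules (ComplexShape.up ℤ)
  let W := HomotopyCategory.quasiIso (U : Scheme.{u}).Modules (ComplexShape.up ℤ)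
  let η := F.totalRightDerivedUnit DerivedCategory.Qh W
  haveI hq : QuasiIso ((DCoh.restrictCx U).map i) := inferInstance
  haveI : ((DCoh.restrictCx U).obj L).IsKInjective :=
    Groth.Agent.Lib.DerivedOX.RestrictKInj.isKInjective_restrict U hL
  haveI h1 : IsIso (η.app (q.obj ((DCoh.restrictCx U).obj L))) :=
    Groth.Agent.Lib.DerivedOX.RightDerived.isIso_totalRightDerivedUnit_app_of_isKInjective F _
  let e : Scheme.Modules.restrictFunctor U.ι ⋙ DCoh.gammaAb (U : Scheme.{u}) ≅
      Groth.Agent.Lib.DerivedOX.GammaAcyclic.sect (U.ι ''ᵁ ⊤) :=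
    NatIso.ofComponents (fun M => Iso.refl _) fun _ => rfl
  let ψ := NatIso.mapHomologicalComplex e (ComplexShape.up ℤ)
  have hg : QuasiIso (((DCoh.gammaAb (U : Scheme.{u})).mapHomologicalComplex (ComplexShape.up ℤ)).map
      ((DCoh.restrictCx U).map i)) := by
    haveI := Groth.Agent.Lib.DerivedOX.GammaAcyclic.quasiIso_sect f B i (U.ι ''ᵁ ⊤)
    exact (quasiIso_iff_of_arrow_mk_iso _ _
      (Arrow.isoMk (ψ.app _) (ψ.app _) (ψ.hom.naturality i).symm)).2 (by assumption)
  haveI h2 : IsIso (F.map (q.map ((DCoh.restrictCx U).map i))) :=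
    Localization.inverts DerivedCategory.Qh (HomotopyCategory.quasiIso AddCommGrpCat.{u} (.up ℤ)) _
      ((HomotopyCategory.quotient_map_mem_quasiIso_iff _).2 hg)
  haveI h3 : IsIso ((F.totalRightDerived DerivedCategory.Qh W).map
      (DerivedCategory.Qh.map (q.map ((DCoh.restrictCx U).map i)))) :=
    haveI := Localization.inverts DerivedCategory.Qh W _
      ((HomotopyCategory.quotient_map_mem_quasiIso_iff _).2 hq)
    Functor.map_isIso _ _
  have hnat := η.naturality (q.map ((DCoh.restrictCx U).map i))
  haveI : IsIso (η.app _ ≫ (DerivedCategory.Qh ⋙ F.totalRightDerived DerivedCategory.Qh W).map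
      (q.map ((DCoh.restrictCx U).map i))) := by
    rw [← hnat]
    infer_instance
  exact @IsIso.of_isIso_comp_right _ _ _ _ _ (η.app _)
    ((DerivedCategory.Qh ⋙ F.totalRightDerived DerivedCategory.Qh W).map
      (q.map ((DCoh.restrictCx U).map i))) h3 this

end Groth.Agent.S11124
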