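import Groth.Statements.S11125
import Groth.Agent.Lib.DerCat.KInjLift
import Mathlib.Algebra.Homology.Double
import Mathlib.Algebra.Homology.HomotopyCategory.Pretriangulated

set_option autoImplicit false
universe v u
open CategoryTheory
open CohDer

namespace Groth.Agent.S11125

/-- In an abelian category, a cochain complex I is K-injective with injective terms if and only if for
every short exact sequence 0 → A → B → C → 0 of cochain complexes whose third term C is acyclic,
every chain map A → I extends to a chain map B → I. -/
theorem result {A : Type u} [Category.{v} A] [Abelian A]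
    (I : CochainComplex A ℤ) :
    (I.IsKInjective ∧ ∀ n : ℤ, Injective (I.X n)) ↔
      ∀ (S : ShortComplex (CochainComplex A ℤ)), S.ShortExact → S.X₃.Acyclic →
        ∀ φ : S.X₁ ⟶ I, ∃ ψ : S.X₂ ⟶ I, S.f ≫ ψ = φ := by
  constructor
  · rintro ⟨hI, hI'⟩ S hS h₃ φ
    exact Groth.Agent.Lib.DerCat.KInjLift.exists_lift S hS h₃ I hI' φ
  · intro h
    refine ⟨⟨fun {K} f hK => ?_⟩, fun n => ⟨fun {X Y} φ m hm => ?_⟩⟩
    · let S := CochainComplex.mappingCone.triangleRotateShortComplex (𝟙 K)
      have hS : S.ShortExact := (HomologicalComplex.shortExact_iff_degreewise_shortExact S).2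
        fun n => (CochainComplex.mappingCone.triangleRotateShortComplexSplitting (𝟙 K) n).shortExact
      have h₃ : S.X₃.Acyclic := by
        rw [← HomotopyCategory.quotient_obj_mem_subcategoryAcyclic_iff_acyclic] at hK ⊢
        exact (HomotopyCategory.subcategoryAcyclic A).prop_of_iso
          (((HomotopyCategory.quotient A (ComplexShape.up ℤ)).commShiftIso (1 : ℤ)).app K).symm
          ((HomotopyCategory.subcategoryAcyclic A).le_shift (1 : ℤ) _ hK)
      obtain ⟨ψ, hψ⟩ := h S hS h₃ f
      exact ⟨(Homotopy.ofEq (by rw [Category.id_comp]; exact hψ.symm)).trans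
        (((CochainComplex.mappingCone.homotopyToZeroOfId K).compRight ψ).compLeft S.f |>.trans
          (Homotopy.ofEq (by simp; rfl)))⟩
    · have hn : (ComplexShape.up ℤ).Rel n (n + 1) := rfl
      have hne : n ≠ n + 1 := by omega
      have acy : ∀ Z : A, (HomologicalComplex.double (𝟙 Z) hn).Acyclic := by
        intro Z k
        by_cases h0 : k = n
        · subst h0
          rw [HomologicalComplex.exactAt_iff' _ (k - 1) k (k + 1) (by simp) (by simp),
            ShortComplex.exact_iff_mono _ (HomologicalComplex.double_d_eq_zero₀ (𝟙 Z) hn _ _ (by omega))]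
          change Mono ((HomologicalComplex.double (𝟙 Z) hn).d k (k + 1))
          rw [HomologicalComplex.double_d _ _ hne]
          infer_instance
        by_cases h1 : k = n + 1
        · subst h1
          rw [HomologicalComplex.exactAt_iff' _ n (n + 1) (n + 2) (by simp) (by simp; omega),
            ShortComplex.exact_iff_epi _ (HomologicalComplex.double_d_eq_zero₁ (𝟙 Z) hn _ _ (by omega))]
          change Epi ((HomologicalComplex.double (𝟙 Z) hn).d n (n + 1))
          rw [HomologicalComplex.double_d _ _ hne]
          infer_instance
        exact ShortComplex.exact_of_isZero_X₂ _ (HomologicalComplex.isZero_double_X (𝟙 Z) hn k h0 h1)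
      let α : HomologicalComplex.double (𝟙 X) hn ⟶ HomologicalComplex.double (𝟙 Y) hn :=
        HomologicalComplex.mkHomFromDouble hn hne
          (m ≫ (HomologicalComplex.doubleXIso₀ (𝟙 Y) hn).inv)
          (m ≫ (HomologicalComplex.doubleXIso₁ (𝟙 Y) hn hne).inv)
          (by rw [HomologicalComplex.double_d _ _ hne]; simp)
          (fun k hk => by
            rw [HomologicalComplex.double_d_eq_zero₀ (𝟙 Y) hn _ _ hne.symm, Limits.comp_zero])
      have hmono : ∀ k, Mono (α.f k) := by
        intro k
        by_cases h0 : k = n
        · subst h0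
          simp only [α, HomologicalComplex.mkHomFromDouble_f₀]
          infer_instance
        by_cases h1 : k = n + 1
        · subst h1
          simp only [α, HomologicalComplex.mkHomFromDouble_f₁]
          infer_instance
        exact ⟨fun _ _ _ => (HomologicalComplex.isZero_double_X (𝟙 X) hn k h0 h1).eq_of_tgt _ _⟩
      have : Mono α := HomologicalComplex.mono_of_mono_f α hmono
      have : QuasiIso α := ⟨fun k => (quasiIsoAt_iff_isIso_homologyMap α k).2
        ⟨0, ((acy X k).isZero_homology).eq_of_src _ _, ((acy Y k).isZero_homology).eq_of_src _ _⟩⟩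
      let e : HomologicalComplex.double (𝟙 X) hn ⟶ I :=
        HomologicalComplex.mkHomFromDouble hn hne φ (φ ≫ I.d n (n + 1)) (by simp) (by simp)
      let S := ShortComplex.mk α (Limits.cokernel.π α) (Limits.cokernel.condition α)
      have hS : S.ShortExact :=
        { exact := ShortComplex.exact_of_g_is_cokernel _ (Limits.cokernelIsCokernel α) }
      obtain ⟨ψ, hψ⟩ := h S hS (Groth.Agent.Lib.DerCat.KInjLift.acyclic_cokernel α) e
      refine ⟨(HomologicalComplex.doubleXIso₀ (𝟙 Y) hn).inv ≫ ψ.f n, ?_⟩
      have h2 := HomologicalComplex.congr_hom hψ n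
      simp only [S, α, e, HomologicalComplex.comp_f, HomologicalComplex.mkHomFromDouble_f₀,
        Category.assoc, cancel_epi] at h2
      exact h2

end Groth.Agent.S11125
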