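import Groth.Statements.S11129
import Groth.Agent.Lib.CohDelta.IdealMul.DevTools
import Groth.Agent.Lib.Modules.ExtendFT
import Mathlib.CategoryTheory.Subobject.NoetherianObject

set_option autoImplicit false
universe u
open CategoryTheory AlgebraicGeometry
open QCohCat

namespace Groth.Agent.S11129

open Groth.Agent.Lib Groth.Agent.Lib.CohDelta.IdealMul Groth.Agent.Lib.CohDelta.IdealMul.Sec
open CategoryTheory CategoryTheory.Limits AlgebraicGeometry TopologicalSpace Opposite
set_option linter.style.haveILetI false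

variable {Y : Scheme.{u}}

/-- A monomorphism of quasi-coherent modules in `QCoh` is a monomorphism of modules. -/
theorem mono_hom {A B : QCohCat.QCoh Y} (f : A ⟶ B) [Mono f] : Mono f.hom := by
  haveI : A.obj.IsQuasicoherent := A.property
  haveI : B.obj.IsQuasicoherent := B.property
  let K : QCohCat.QCoh Y := ⟨kernel f.hom, QCoh.Closure.isQCoh_kernel f.hom⟩
  let k : K ⟶ A := ObjectProperty.homMk (kernel.ι f.hom)
  have hk : k ≫ f = 0 ≫ f := by
    refine ObjectProperty.hom_ext _ ?_
    show kernel.ι f.hom ≫ f.hom = 0 ≫ f.hom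
    rw [kernel.condition, zero_comp]
  have h0 : kernel.ι f.hom = 0 := congrArg (fun φ => φ.hom) ((cancel_mono f).mp hk)
  exact Preadditive.mono_of_kernel_zero h0

/-- The sections of a subobject. -/
noncomputable def secs (M : QCohCat.QCoh Y) (W : Y.Opens) (S : Subobject M) :
    Submodule Γ(Y, W) Γ(M.obj, W) :=
  LinearMap.range (appL S.arrow.hom W)

theorem secs_mono (M : QCohCat.QCoh Y) (W : Y.Opens) : Monotone (secs M W) := by
  intro S T h
  have e : (Subobject.ofLE S T h).hom ≫ T.arrow.hom = S.arrow.hom :=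
    congrArg (fun φ => φ.hom) (Subobject.ofLE_arrow h)
  rintro _ ⟨s, rfl⟩
  exact ⟨appL (Subobject.ofLE S T h).hom W s,
    (LinearMap.congr_fun (appL_comp (Subobject.ofLE S T h).hom T.arrow.hom W) s).symm.trans (by rw [e])⟩

theorem le_of_secs (M : QCohCat.QCoh Y) {S T : Subobject M}
    (h : ∀ x : Y, ∃ W : Y.Opens, IsAffineOpen W ∧ x ∈ W ∧ secs M W S ≤ secs M W T) : S ≤ T := by
  haveI : (S : QCohCat.QCoh Y).obj.IsQuasicoherent := (S : QCohCat.QCoh Y).property
  haveI := mono_hom T.arrow
  obtain ⟨l, hl⟩ := exists_lift T.arrow.hom S.arrow.hom h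
  exact Subobject.le_of_comm (ObjectProperty.homMk l) (ObjectProperty.hom_ext _ hl)

/-- For a noetherian scheme Y, an object M of the category QCoh(O_Y) of quasi-coherent O_Y-modules (a
full subcategory of all O_Y-modules) is a noetherian object of that category if and only if M is
coherent (quasi-coherent of finite type). (The published statement also records that QCoh(O_Y) is a
locally noetherian category; only the characterisation of its noetherian objects is stated here.) -/
theorem result (Y : Scheme.{u}) [IsNoetherian Y] (M : QCohCat.QCoh Y) :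
    IsNoetherianObject M ↔ Coh.IsCoh M.obj := by
  classical
  haveI : M.obj.IsQuasicoherent := M.property
  constructor
  · intro hM
    have hX : ∀ y : Y, ∃ U : Y.Opens, y ∈ U ∧ NoetherianSpace (U : Set Y) := fun y =>
      ⟨⊤, trivial, inferInstance⟩
    have h0 : ∃ S : Subobject M, Coh.IsCoh (S : QCohCat.QCoh Y).obj := by
      rcases isEmpty_or_nonempty Y with hY | hY
      · haveI : Mono (𝟙 M) := inferInstance
        exact ⟨Subobject.mk (𝟙 M), KRes.CohP.isCoh_of_isZero Y
          (Modules.Support.support_eq_empty_iff.mp (Set.eq_empty_of_isEmpty _))⟩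
      · obtain ⟨y⟩ := hY
        obtain ⟨W, hW, hy, -⟩ := exists_isAffineOpen_mem_and_subset (U := (⊤ : Y.Opens)) (x := y) trivial
        obtain ⟨G, i, hi, hGq, hGf, -⟩ :=
          Modules.ExtendFT.exists_through_section (F := M.obj) hX hW 0
        let G' : QCohCat.QCoh Y := ⟨G, hGq⟩
        let i' : G' ⟶ M := ObjectProperty.homMk i
        haveI : Mono i' := by
          haveI : Mono ((ObjectProperty.ι (QCohCat.isQCoh Y)).map i') := hi
          exact (ObjectProperty.ι (QCohCat.isQCoh Y)).mono_of_mono_map this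
        exact ⟨Subobject.mk i', CohBasics.Closure.isCoh_of_iso
          ((ObjectProperty.ι (QCohCat.isQCoh Y)).mapIso (Subobject.underlyingIso i')).symm ⟨hGq, hGf⟩⟩
    obtain ⟨S, hS, hmax⟩ := wellFounded_gt.has_min
      {S : Subobject M | Coh.IsCoh (S : QCohCat.QCoh Y).obj} h0
    haveI := mono_hom S.arrow
    have hsurj : ∀ x : Y, ∃ W : Y.Opens, IsAffineOpen W ∧ x ∈ W ∧
        LinearMap.range (appL (𝟙 M.obj) W) ≤ LinearMap.range (appL S.arrow.hom W) := by
      intro x
      obtain ⟨W, hW, hx, -⟩ := exists_isAffineOpen_mem_and_subset (U := (⊤ : Y.Opens)) (x := x) trivial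
      refine ⟨W, hW, hx, ?_⟩
      rintro t -
      obtain ⟨G, i, hi, hGq, hGf, g, hg⟩ :=
        Modules.ExtendFT.exists_through_section (F := M.obj) hX hW t
      haveI := hS.1
      haveI := hGq
      have hG : Coh.IsCoh G := ⟨hGq, hGf⟩
      let d : (S : QCohCat.QCoh Y).obj ⊞ G ⟶ M.obj := biprod.desc S.arrow.hom i
      haveI : ((S : QCohCat.QCoh Y).obj ⊞ G).IsQuasicoherent := QCoh.Closure.isQCoh_biprod
      haveI := QCoh.Closure.isQCoh_cokernel d
      haveI hIq : (Abelian.image d).IsQuasicoherent := QCoh.Closure.isQCoh_kernel (cokernel.π d)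
      have hI : Coh.IsCoh (Abelian.image d) :=
        CohBasics.Closure.isCoh_of_epi (Abelian.factorThruImage d) (CohBasics.Closure.isCoh_biprod hS hG)
      let I' : QCohCat.QCoh Y := ⟨Abelian.image d, hIq⟩
      let j : I' ⟶ M := ObjectProperty.homMk (Abelian.image.ι d)
      haveI : Mono j := by
        haveI : Mono ((ObjectProperty.ι (QCohCat.isQCoh Y)).map j) :=
          inferInstanceAs (Mono (kernel.ι (cokernel.π d)))
        exact (ObjectProperty.ι (QCohCat.isQCoh Y)).mono_of_mono_map this
      have hle : S ≤ Subobject.mk j := Subobject.le_mk_of_comm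
        (ObjectProperty.homMk (biprod.inl ≫ Abelian.factorThruImage d)) (ObjectProperty.hom_ext _ (by
          show (biprod.inl ≫ Abelian.factorThruImage d) ≫ Abelian.image.ι d = S.arrow.hom
          rw [Category.assoc, Abelian.image.fac, biprod.inl_desc]))
      have heq : Subobject.mk j = S := by
        by_contra hne
        exact hmax (Subobject.mk j) (CohBasics.Closure.isCoh_of_iso
          ((ObjectProperty.ι (QCohCat.isQCoh Y)).mapIso (Subobject.underlyingIso j)).symm hI)
          (lt_of_le_of_ne hle (Ne.symm hne))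
      have hc := congrArg (fun φ => φ.hom) (Subobject.ofMkLE_arrow (le_of_eq heq))
      let l : Abelian.image d ⟶ (S : QCohCat.QCoh Y).obj := (Subobject.ofMkLE j S (le_of_eq heq)).hom
      have hl : l ≫ S.arrow.hom = Abelian.image.ι d := hc
      refine ⟨appL (biprod.inr ≫ Abelian.factorThruImage d ≫ l) W g, ?_⟩
      rw [← LinearMap.comp_apply, ← appL_comp, Category.assoc, Category.assoc, hl, Abelian.image.fac,
        biprod.inr_desc]
      exact hg
    obtain ⟨l, hl⟩ := exists_lift S.arrow.hom (𝟙 M.obj) hsurj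
    haveI : IsSplitEpi S.arrow.hom := IsSplitEpi.mk' ⟨l, hl⟩
    haveI : IsIso S.arrow.hom := isIso_of_mono_of_isSplitEpi _
    exact CohBasics.Closure.isCoh_of_iso (asIso S.arrow.hom) hS
  · intro hM
    rw [isNoetherianObject_iff_monotone_chain_condition]
    intro c
    choose W hW hx using fun x : Y =>
      (exists_isAffineOpen_mem_and_subset (U := (⊤ : Y.Opens)) (x := x) trivial).imp
        fun W h => (⟨h.1, h.2.1⟩ : IsAffineOpen W ∧ x ∈ W)
    obtain ⟨s, hs⟩ := (isCompact_univ (X := Y)).elim_finite_subcover (fun x : Y => (W x : Set Y))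
      (fun x => (W x).2) fun x _ => Set.mem_iUnion.mpr ⟨x, hx x⟩
    have hn : ∀ x : Y, ∃ n, ∀ m, n ≤ m → secs M (W x) (c n) = secs M (W x) (c m) := by
      intro x
      haveI : IsNoetherianRing Γ(Y, W x) := IsLocallyNoetherian.component_noetherian ⟨W x, hW x⟩
      haveI := CohBasics.Closure.finite_sections hM (hW x)
      haveI : IsNoetherian Γ(Y, W x) Γ(M.obj, W x) := isNoetherian_of_isNoetherianRing_of_finite _ _
      exact WellFoundedGT.monotone_chain_condition ⟨fun m => secs M (W x) (c m),
        (secs_mono M (W x)).comp c.2⟩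
    choose n hn using hn
    refine ⟨s.sup n, fun m hm => le_antisymm (c.2 hm) (le_of_secs M fun x => ?_)⟩
    obtain ⟨z, hz, hxz⟩ := Set.mem_iUnion₂.mp (hs (Set.mem_univ x))
    exact ⟨W z, hW z, hxz, ((hn z m ((Finset.le_sup hz).trans hm)).symm.trans
      (hn z _ (Finset.le_sup hz))).le⟩

end Groth.Agent.S11129
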