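import Groth.Statements.S11136
import Mathlib.RingTheory.Invariant.Basic
import Mathlib.RingTheory.Spectrum.Prime.Topology
import Mathlib.RingTheory.Spectrum.Prime.Noetherian
import Mathlib.Topology.NoetherianSpace

set_option autoImplicit false
universe u v
open InvTh

namespace Groth.Agent.S11136

/-- Let a finite group G act on a Noetherian commutative ring R by ring automorphisms, with ring of
invariants A (A → R injective with image the fixed elements). When the prime spectrum of A is
connected, any two connected components of Spec R are exchanged by some element of G: for all points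
x, y of Spec R there is g in G whose induced self-map of Spec R carries the connected component of x
onto the connected component of y. -/
theorem result
    (A : Type u) (R : Type v) [CommRing A] [CommRing R] [Algebra A R] [IsNoetherianRing R]
    (G : Type u) [Group G] [Finite G] [MulSemiringAction G R] [SMulCommClass G A R]
    [Algebra.IsInvariant A R G] [FaithfulSMul A R]
    [ConnectedSpace (PrimeSpectrum A)] (x y : PrimeSpectrum R) :
    ∃ g : G, PrimeSpectrum.comap (MulSemiringAction.toRingHom G R g) '' connectedComponent x =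
      connectedComponent y := by
  haveI : Algebra.IsIntegral A R := Algebra.IsInvariant.isIntegral A R G
  let σ : G → PrimeSpectrum R → PrimeSpectrum R := fun g =>
    PrimeSpectrum.comap (MulSemiringAction.toRingHom G R g)
  have hσ : ∀ g h z, σ g (σ h z) = σ (h * g) z := fun g h z => by
    ext r
    change h • g • r ∈ z.asIdeal ↔ (h * g) • r ∈ z.asIdeal
    rw [mul_smul]
  have hσ1 : ∀ z, σ 1 z = z := fun z => by
    ext r
    change (1 : G) • r ∈ z.asIdeal ↔ r ∈ z.asIdeal
    rw [one_smul]
  have hc : ∀ g, Continuous (σ g) := fun g => PrimeSpectrum.continuous_comap _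
  have himg : ∀ g z, σ g '' connectedComponent z = connectedComponent (σ g z) := by
    intro g z
    refine subset_antisymm ((hc g).image_connectedComponent_subset z) fun w hw => ?_
    refine ⟨σ g⁻¹ w, ?_, by rw [hσ, inv_mul_cancel, hσ1]⟩
    have h1 := (hc g⁻¹).image_connectedComponent_subset (σ g z) ⟨w, hw, rfl⟩
    rwa [hσ, mul_inv_cancel, hσ1] at h1
  have hfin : (irreducibleComponents (PrimeSpectrum R)).Finite :=
    TopologicalSpace.NoetherianSpace.finite_irreducibleComponents
  have hopen : ∀ z : PrimeSpectrum R, IsOpen (connectedComponent z) := by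
    intro z
    rw [← isClosed_compl_iff]
    have h : (connectedComponent z)ᶜ = ⋃ Z ∈ {Z ∈ irreducibleComponents (PrimeSpectrum R) |
        Disjoint Z (connectedComponent z)}, Z := by
      ext w
      simp only [Set.mem_compl_iff, Set.mem_iUnion, Set.mem_ofPred_eq, exists_prop]
      refine ⟨fun hw => ⟨irreducibleComponent w,
        ⟨irreducibleComponent_mem_irreducibleComponents w, ?_⟩, mem_irreducibleComponent⟩, ?_⟩
      · rw [Set.disjoint_left]
        intro v hv hv'
        apply hw
        rw [connectedComponent_eq hv']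
        exact isIrreducible_irreducibleComponent.2.isPreconnected.subset_connectedComponent hv
          mem_irreducibleComponent
      · rintro ⟨Z, ⟨-, hd⟩, hwZ⟩ hw
        exact Set.disjoint_left.mp hd hwZ hw
    rw [h]
    exact (hfin.subset fun Z hZ => hZ.1).isClosed_biUnion fun Z hZ =>
      isClosed_of_mem_irreducibleComponents Z hZ.1
  let π : PrimeSpectrum R → PrimeSpectrum A := PrimeSpectrum.comap (algebraMap A R)
  have hπ : ∀ z w, π z = π w → ∃ g, σ g z = w := by
    intro z w hzw
    obtain ⟨g, hg⟩ := Algebra.IsInvariant.exists_smul_of_under_eq A R G z.asIdeal w.asIdeal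
      (congrArg PrimeSpectrum.asIdeal hzw)
    refine ⟨g⁻¹, ?_⟩
    ext r
    rw [hg]
    exact (Ideal.mem_pointwise_smul_iff_inv_smul_mem).symm
  let C : Set (PrimeSpectrum R) := ⋃ g : G, connectedComponent (σ g x)
  have hstab : ∀ g z, z ∈ C → σ g z ∈ C := by
    intro g z hz
    obtain ⟨h, hz⟩ := Set.mem_iUnion.mp hz
    refine Set.mem_iUnion.mpr ⟨h * g, ?_⟩
    rw [← hσ, ← himg]
    exact ⟨z, hz, rfl⟩
  have hcl : IsClosedMap π :=
    PrimeSpectrum.isClosedMap_comap_of_isIntegral _ Algebra.IsIntegral.isIntegral
  have hsurj : Function.Surjective π := Algebra.IsIntegral.comap_surjective A R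
  have hCclosed : IsClosed C := isClosed_iUnion_of_finite fun g => isClosed_connectedComponent
  have hCopen : IsOpen C := isOpen_iUnion fun g => hopen _
  have hcompl : (π '' C)ᶜ = π '' Cᶜ := by
    ext a
    constructor
    · intro ha
      obtain ⟨z, rfl⟩ := hsurj a
      exact ⟨z, fun hz => ha ⟨z, hz, rfl⟩, rfl⟩
    · rintro ⟨z, hz, rfl⟩ ⟨w, hw, hwz⟩
      obtain ⟨g, rfl⟩ := hπ w z hwz
      exact hz (hstab g w hw)
  have huniv : π '' C = Set.univ := by
    refine IsClopen.eq_univ ⟨hcl _ hCclosed, ?_⟩ ⟨π x, x, ?_, rfl⟩
    · rw [← isClosed_compl_iff, hcompl]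
      exact hcl _ hCopen.isClosed_compl
    · exact Set.mem_iUnion.mpr ⟨1, by rw [hσ1]; exact mem_connectedComponent⟩
  obtain ⟨w, hw, hwy⟩ : π y ∈ π '' C := by rw [huniv]; trivial
  obtain ⟨g, hg⟩ := hπ w y hwy
  obtain ⟨h, hh⟩ := Set.mem_iUnion.mp (hstab g w hw)
  exact ⟨h, (himg h x).trans (connectedComponent_eq (hg ▸ hh))⟩

end Groth.Agent.S11136
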