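import Groth.Statements.S11137
import Mathlib.RingTheory.Invariant.Basic
import Mathlib.RingTheory.Ideal.GoingDown
import Mathlib.RingTheory.Ideal.GoingUp

set_option autoImplicit false
universe u v
open InvTh
open scoped Pointwise

namespace Groth.Agent.S11137

/-- Let G be a finite group acting by ring automorphisms on a Noetherian commutative ring R, and let A
be its ring of invariants (A → R injective with image the fixed elements), with R module-finite over
A. Then the going-down property holds for the extension A → R. (The published statement also asserts
that G acts transitively on the primes of R over a given prime of A; this row states only the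
going-down assertion.) -/
theorem result
    (A : Type u) (R : Type v) [CommRing A] [CommRing R] [Algebra A R] [IsNoetherianRing R]
    (G : Type u) [Group G] [Finite G] [MulSemiringAction G R] [SMulCommClass G A R]
    [Algebra.IsInvariant A R G] [FaithfulSMul A R] [Module.Finite A R] :
    Algebra.HasGoingDown A R := by
  haveI : Algebra.IsIntegral A R := Algebra.IsInvariant.isIntegral A R G
  refine ⟨fun {p} _ q _ hlt => ?_⟩
  obtain ⟨q1, -, hq1p, hq1⟩ := Ideal.exists_ideal_over_prime_of_isIntegral p (⊥ : Ideal R)
    (by simp [Ideal.comap_bot_of_injective _ (FaithfulSMul.algebraMap_injective A R)])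
  obtain ⟨q2, hq12, hq2p, hq2⟩ := Ideal.exists_ideal_over_prime_of_isIntegral (q.under A) q1
    (by rw [hq1]; exact hlt.le)
  obtain ⟨g, hg⟩ := Algebra.IsInvariant.exists_smul_of_under_eq A R G q2 q hq2
  refine ⟨g • q1, ?_, hq1p.smul g, ⟨?_⟩⟩
  · rw [hg]
    exact Ideal.pointwise_smul_le_pointwise_smul_iff.mpr hq12
  · rw [q1.under_smul A g]
    exact hq1.symm

end Groth.Agent.S11137
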