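import Groth.Statements.S11140
import Groth.Agent.Lib.FinGrpQuot.Invariants

set_option autoImplicit false
universe u
open TensorProduct
open InvTh

namespace Groth.Agent.S11140

/-- Let k be a field and H a finite-dimensional commutative Hopf algebra over k (the coordinate ring of
a finite k-group scheme G) which is linearly reductive, i.e. every finite-dimensional H-comodule is
semisimple. Let R be a commutative k-algebra of finite type with an H-comodule structure whose
coaction R → R ⊗ H is multiplicative and unital (an action of G on Spec R), and let A be the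
k-subalgebra of invariants. If R is a Cohen–Macaulay ring, then so is A, and R is maximal
Cohen–Macaulay as a module over A: for every prime p of A the localized module R_p over A_p is
Cohen–Macaulay and its support has Krull dimension equal to that of A_p. -/
theorem result (k : Type u) [Field k]
    (H : Type u) [CommRing H] [HopfAlgebra k H] [Module.Finite k H] (hG : HopfRep.IsLinearlyReductive k H)
    (R : Type u) [CommRing R] [Algebra k R] [Algebra.FiniteType k R] [HopfRep.Comod k H R]
    (hmul : ∀ x y : R, HopfRep.Comod.coact (k := k) (A := H) (x * y) =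
        HopfRep.Comod.coact (k := k) (A := H) x * HopfRep.Comod.coact (k := k) (A := H) y)
    (hone : HopfRep.Comod.coact (k := k) (A := H) (1 : R) = 1)
    (A : Subalgebra k R)
    (hA : ∀ a : R, a ∈ A ↔ HopfRep.Comod.coact (k := k) (A := H) a = a ⊗ₜ[k] (1 : H))
    (hR : LocCoh.IsCohenMacaulayRing R) :
    LocCoh.IsCohenMacaulayRing A ∧ ∀ (p : Ideal A) [p.IsPrime],
      LocCoh.IsCohenMacaulayModule (Localization.AtPrime p) (LocalizedModule p.primeCompl R) ∧
        Module.supportDim (Localization.AtPrime p) (LocalizedModule p.primeCompl R) =
          ringKrullDim (Localization.AtPrime p) := by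
  haveI : GLin.IsCoactAlg k H R := ⟨hone, hmul⟩
  obtain rfl : A = GLin.invariants k H R := SetLike.ext hA
  have h : ∀ (q : Ideal R) [q.IsPrime], min (⊤ : WithBot ℕ∞) (q.height : WithBot ℕ∞) ≤
      (LocCoh.depth (Localization.AtPrime q) (LocalizedModule q.primeCompl R) : WithBot ℕ∞) := by
    intro q _
    have := (hR.isCohenMacaulayLocalRing_localization q).supportDim_eq_depth
    rw [Module.supportDim_self_eq_ringKrullDim, IsLocalization.AtPrime.ringKrullDim_eq_height q] at this
    rw [Groth.Agent.Lib.FinGrpQuot.Invariants.depth_self_localized, min_eq_right le_top, this]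
  haveI := Groth.Agent.Lib.FinGrpQuot.Norm.moduleFinite (k := k) (H := H) (R := R)
  haveI := Groth.Agent.Lib.FinGrpQuot.Norm.finiteType (k := k) (H := H) (R := R)
  haveI : IsNoetherianRing (GLin.invariants k H R) := Algebra.FiniteType.isNoetherianRing k _
  have key := Groth.Agent.Lib.FinGrpQuot.Invariants.min_le_depth hG ⊤ h
  simp only [min_eq_right le_top] at key
  refine ⟨{ isCohenMacaulayLocalRing_localization := fun p _ => ?_ }, fun p _ => ?_⟩
  · obtain ⟨-, h2, -⟩ := key p
    rw [Groth.Agent.Lib.FinGrpQuot.Invariants.depth_self_localized] at h2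
    refine { supportDim_eq_depth := ?_ }
    refine le_antisymm ?_ (Groth.Agent.Lib.Depth.Assoc.depth_le_supportDim _)
    rwa [Module.supportDim_self_eq_ringKrullDim]
  · obtain ⟨h1, -, h3⟩ := key p
    haveI : Nontrivial (LocalizedModule p.primeCompl R) := by
      by_contra hn
      rw [not_nontrivial_iff_subsingleton] at hn
      have hb : (⊥ : WithBot ℕ∞) = ringKrullDim (Localization.AtPrime p) :=
        (Module.supportDim_eq_bot_of_subsingleton (Localization.AtPrime p) _).symm.trans h3
      exact ringKrullDim_ne_bot hb.symm
    haveI : Module.Finite (Localization.AtPrime p) (LocalizedModule p.primeCompl R) :=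
      Module.Finite.of_isLocalizedModule (S := p.primeCompl) (Rₚ := Localization.AtPrime p)
        (LocalizedModule.mkLinearMap p.primeCompl R)
    exact ⟨le_antisymm (h3.trans_le h1) (Groth.Agent.Lib.Depth.Assoc.depth_le_supportDim _), h3⟩

end Groth.Agent.S11140
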