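import Groth.Statements.S11141
import Groth.Agent.Lib.InvNormal.Basic

set_option autoImplicit false
universe u
open TensorProduct
open InvTh

namespace Groth.Agent.S11141

/-- Let k be a field, H a finitely generated commutative Hopf algebra over k (the coordinate ring of a
group scheme affine and of finite type over k), and S a commutative k-algebra which is
ring-isomorphic to a finite product of normal (integrally closed) domains and carries an H-comodule
structure whose coaction S → S ⊗ H is multiplicative and unital. Then the k-subalgebra of invariants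
of S, the elements s whose coaction is s ⊗ 1, is again ring-isomorphic to a finite product of normal
domains. -/
theorem result (k : Type u) [Field k]
    (H : Type u) [CommRing H] [HopfAlgebra k H] [Algebra.FiniteType k H]
    (S : Type u) [CommRing S] [Algebra k S] [HopfRep.Comod k H S]
    (hmul : ∀ x y : S, HopfRep.Comod.coact (k := k) (A := H) (x * y) =
        HopfRep.Comod.coact (k := k) (A := H) x * HopfRep.Comod.coact (k := k) (A := H) y)
    (hone : HopfRep.Comod.coact (k := k) (A := H) (1 : S) = 1)
    {ι : Type u} [Fintype ι] (D : ι → Type u) [∀ i, CommRing (D i)] [∀ i, IsDomain (D i)]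
    [∀ i, IsIntegrallyClosed (D i)] (e : S ≃+* Π i, D i)
    (A : Subalgebra k S)
    (hA : ∀ a : S, a ∈ A ↔ HopfRep.Comod.coact (k := k) (A := H) a = a ⊗ₜ[k] (1 : H)) :
    ∃ (κ : Type u) (_ : Fintype κ) (E : κ → Type u) (_ : ∀ j, CommRing (E j)) (_ : ∀ j, IsDomain (E j))
      (_ : ∀ j, IsIntegrallyClosed (E j)), Nonempty (A ≃+* Π j, E j) := by
  haveI : GLin.IsCoactAlg k H S := ⟨hone, hmul⟩
  let f : (Π i, D i) →+* S ⊗[k] H := (GLin.coactAlgHom k H S).toRingHom.comp e.symm.toRingHom
  let g : (Π i, D i) →+* S ⊗[k] H :=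
    (Algebra.TensorProduct.includeLeft : S →ₐ[k] S ⊗[k] H).toRingHom.comp e.symm.toRingHom
  let B : Subring (Π i, D i) := A.toSubring.map e.toRingHom
  have hB : ∀ a, a ∈ B ↔ ∀ p ∈ ({f, g} : Set _), ∀ q ∈ ({f, g} : Set _), p a = q a := by
    intro a
    have h1 : a ∈ B ↔ f a = g a := by
      simp only [B, Subring.mem_map, Subalgebra.mem_toSubring]
      constructor
      · rintro ⟨x, hx, rfl⟩
        simpa [f, g] using (hA x).mp hx
      · intro h
        exact ⟨e.symm a, (hA _).mpr (by simpa [f, g] using h), e.apply_symm_apply a⟩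
    rw [h1]
    simp only [Set.mem_insert_iff, Set.mem_singleton_iff, forall_eq_or_imp, forall_eq, true_and]
    exact ⟨fun h => ⟨h, h.symm, trivial⟩, fun h => h.1⟩
  have hnzd : ∀ s ∈ nonZeroDivisors (Π i, D i), e.symm s ∈ nonZeroDivisors S := fun s hs =>
    mem_nonZeroDivisors_iff_left.mpr fun y hy => e.injective (by
      rw [map_zero]
      refine mem_nonZeroDivisors_iff_left.mp hs _ ?_
      rw [← e.apply_symm_apply s, ← map_mul, hy, map_zero])
  obtain ⟨κ, hκ, E, h₁, h₂, h₃, ⟨ψ⟩⟩ :=
    Groth.Agent.Lib.InvNormal.Basic.exists_pi_equiv (F := {f, g}) (A := B) (by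
      rintro p (rfl | rfl) s hs
      · exact Groth.Agent.Lib.InvNormal.Basic.coact_mem_nonZeroDivisors (hnzd s hs)
      · exact Groth.Agent.Lib.InvNormal.Basic.tmul_one_mem_nonZeroDivisors H (hnzd s hs)) hB
  exact ⟨κ, hκ, E, h₁, h₂, h₃, ⟨((e.subringMap (s := A.toSubring)) : A ≃+* B).trans ψ⟩⟩

end Groth.Agent.S11141
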