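import Groth.Statements.S3623
import Groth.Agent.Lib.Goren.OfLCI

set_option autoImplicit false
universe u
open CategoryTheory CategoryTheory.Limits AlgebraicGeometry
attribute [local instance] HasDerivedCategory.standard
open Dual3

namespace Groth.Agent.S3623

/-- Let f : Y → X be a local complete intersection morphism (affine-locally given by local complete
intersection ring maps) with X a Gorenstein scheme. Then Y is a Gorenstein scheme. -/
theorem result (Y X : Scheme.{u}) (f : Y ⟶ X) (hf : Dual3.IsLCIMor f) (hX : Dual3.IsGorenstein X) : Dual3.IsGorenstein Y := by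
  obtain ⟨_, hG⟩ := hX
  choose U V e hxU hl using hf
  have hring : ∀ y, LocCoh.IsGorensteinRing Γ(Y, (U y).1) := fun y => by
    have : IsNoetherianRing Γ(X, (V y).1) := IsLocallyNoetherian.component_noetherian (V y)
    have hA : LocCoh.IsGorensteinRing Γ(X, (V y).1) :=
      { isGorensteinLocalRing_localization := fun p _ => by
          let z : PrimeSpectrum Γ(X, (V y).1) := ⟨p, inferInstance⟩
          have hz : (V y).2.fromSpec z ∈ (V y).1 := by
            rw [← SetLike.mem_coe, ← (V y).2.range_fromSpec]
            exact Set.mem_range_self _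
          letI := X.presheaf.algebra_section_stalk ⟨(V y).2.fromSpec z, hz⟩
          have : IsLocalization p.primeCompl (X.presheaf.stalk ((V y).2.fromSpec z)) :=
            (V y).2.isLocalization_stalk' z hz
          have := hG ((V y).2.fromSpec z)
          exact Groth.Agent.Lib.Goren.Flat.isGorensteinLocalRing_ringEquiv
            (IsLocalization.algEquiv p.primeCompl (X.presheaf.stalk ((V y).2.fromSpec z))
              (Localization.AtPrime p)).toRingEquiv }
    letI := (f.appLE (V y).1 (U y).1 (e y)).hom.toAlgebra
    exact Groth.Agent.Lib.Goren.OfLCI.isGorensteinRing_of_isLCI Γ(X, (V y).1) Γ(Y, (U y).1) hA (hl y)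
  refine ⟨isLocallyNoetherian_of_affine_cover (S := U)
    (TopologicalSpace.Opens.ext (Set.eq_univ_of_forall fun y => ?_)) fun y => ?_, fun y => ?_⟩
  · simp only [TopologicalSpace.Opens.coe_iSup, Set.mem_iUnion]
    exact ⟨y, hxU y⟩
  · exact (hring y).toIsNoetherian
  · letI := Y.presheaf.algebra_section_stalk ⟨y, hxU y⟩
    have := (U y).2.isLocalization_stalk ⟨y, hxU y⟩
    have := (hring y).isGorensteinLocalRing_localization ((U y).2.primeIdealOf ⟨y, hxU y⟩).asIdeal
    exact Groth.Agent.Lib.Goren.Flat.isGorensteinLocalRing_ringEquiv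
      (IsLocalization.algEquiv ((U y).2.primeIdealOf ⟨y, hxU y⟩).asIdeal.primeCompl
        (Localization.AtPrime ((U y).2.primeIdealOf ⟨y, hxU y⟩).asIdeal)
        (Y.presheaf.stalk y)).toRingEquiv

end Groth.Agent.S3623
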