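import Groth.Statements.S11146
import Groth.Agent.S11138
import Groth.Agent.S9287
import Groth.Agent.S3623
import Groth.Agent.Lib.Goren.Global
import Groth.Agent.Lib.Goren.Flat
import Groth.Agent.Lib.ProjSpace.Dim
import Mathlib.RingTheory.KrullDimension.Polynomial
import Mathlib.RingTheory.Ideal.KrullsHeightTheorem

set_option autoImplicit false
universe u
open CategoryTheory MonoidalCategory CartesianMonoidalCategory MonObj GrpObj AlgebraicGeometry
attribute [local instance] HasDerivedCategory.standard
open GrpSch

namespace Groth.Agent.S11146

/-- Group schemes over Gorenstein rings: let R be a Gorenstein local ring and G a group scheme over Spec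
R which is flat and of finite type over Spec R. Then G is a Gorenstein scheme (locally Noetherian
with all local rings Gorenstein) and has finite Krull dimension. (The published statement concerns
every member of the diagram Spec R ← G ⇇ G ×_R G of the action groupoid, each of which is Spec R or
again a flat finite-type group scheme over Spec R, and adds that O_S[d], for S = Spec R and d the
dimension of R, is then an equivariant dualizing complex; this row states the first assertion for
G.) -/
theorem result (R : Type u) [CommRing R]
    [LocCoh.IsGorensteinLocalRing R] (G : Over (Spec (CommRingCat.of R))) [GrpObj G] [Flat G.hom]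
    [LocallyOfFiniteType G.hom] [QuasiCompact G.hom] :
    Dual3.IsGorenstein G.left ∧ topologicalKrullDim G.left < ⊤ := by
  have : IsNoetherian (Spec (CommRingCat.of R)) := {}
  have hsyn := Groth.Agent.S11138.result (Spec (CommRingCat.of R)) G
  have hlci : Dual3.IsLCIMor G.hom := fun x => by
    obtain ⟨U, V, e, hx, h⟩ := hsyn x
    let := (G.hom.appLE V.1 U.1 e).hom.toAlgebra
    exact ⟨U, V, e, hx, ((Groth.Agent.S9287.result _ _).1 h).2⟩
  have hR : Dual3.IsGorenstein (Spec (CommRingCat.of R)) := ⟨inferInstance, fun p => by
    have := Lib.Goren.Global.isGorensteinLocalRing_localization (A := R) p.asIdeal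
    exact Lib.Goren.Flat.isGorensteinLocalRing_ringEquiv (R := Localization.AtPrime p.asIdeal)
      (IsLocalization.algEquiv p.asIdeal.primeCompl (Localization.AtPrime p.asIdeal)
        ((AlgebraicGeometry.Spec.structureSheaf R).presheaf.stalk p)).toRingEquiv⟩
  refine ⟨Groth.Agent.S3623.result G.left _ G.hom hlci hR, ?_⟩
  have : CompactSpace G.left := QuasiCompact.compactSpace_of_compactSpace G.hom
  obtain ⟨t, ht⟩ := CompactSpace.elim_nhds_subcover
    (fun x : G.left => ((G.left.affineCover.f (G.left.affineCover.idx x)).opensRange : Set G.left))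
    (fun x => (G.left.affineCover.f (G.left.affineCover.idx x)).opensRange.2.mem_nhds
      (G.left.affineCover.covers x))
  have hfin : ∀ U : G.left.Opens, IsAffineOpen U → topologicalKrullDim ↥(U : Set G.left) < ⊤ := by
    intro U hU
    have hfr : U ≤ G.hom ⁻¹ᵁ ⊤ := le_top
    let B : Type u := Γ(G.left, U)
    let := ((Scheme.ΓSpecIso (CommRingCat.of R)).inv ≫ G.hom.appLE ⊤ U hfr).hom.toAlgebra' fun _ _ => mul_comm _ _
    have hft : ((Scheme.ΓSpecIso (CommRingCat.of R)).inv ≫ G.hom.appLE ⊤ U hfr).hom.FiniteType :=
      (G.hom.finiteType_appLE (isAffineOpen_top _) hU hfr).comp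
        (RingHom.FiniteType.of_surjective _
          (Scheme.ΓSpecIso (CommRingCat.of R)).commRingCatIsoToRingEquiv.symm.surjective)
    have : Algebra.FiniteType R B := hft
    obtain ⟨n, f, hf⟩ := Algebra.FiniteType.iff_quotient_mvPolynomial''.1 this
    rw [show topologicalKrullDim ↥(U : Set G.left) = topologicalKrullDim (PrimeSpectrum B) from
      (IsHomeomorph.topologicalKrullDim_eq _ hU.isoSpec.hom.homeomorph.isHomeomorph),
      PrimeSpectrum.topologicalKrullDim_eq_ringKrullDim]
    refine (ringKrullDim_le_of_surjective f.toRingHom hf).trans_lt ?_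
    rw [MvPolynomial.ringKrullDim_of_isNoetherianRing]
    have := ringKrullDim_ne_top (R := R)
    have := ringKrullDim_ne_bot (R := R)
    generalize ringKrullDim R = d at *
    induction d using WithBot.recBotCoe with
    | bot => contradiction
    | coe d =>
      induction d using ENat.recTopCoe with
      | top => contradiction
      | coe d =>
        norm_cast
        exact WithBot.coe_lt_coe.2 (ENat.natCast_lt_top _)
  refine lt_of_le_of_lt (Lib.ProjSpace.Dim.topologicalKrullDim_le_of_cover
    (fun x : t => (Subtype.val : ↥((G.left.affineCover.f (G.left.affineCover.idx (x : G.left))).opensRange : Set G.left) → G.left))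
    (fun x => ((G.left.affineCover.f (G.left.affineCover.idx (x : G.left))).opensRange).2.isOpenEmbedding_subtypeVal)
    (fun y => ?_) (d := t.sup fun x => topologicalKrullDim
      ↥((G.left.affineCover.f (G.left.affineCover.idx x)).opensRange : Set G.left))
    fun x => Finset.le_sup (f := fun x => topologicalKrullDim
      ↥((G.left.affineCover.f (G.left.affineCover.idx x)).opensRange : Set G.left)) x.2) ?_
  · obtain ⟨x, hx, hy⟩ := Set.mem_iUnion₂.1 (ht.ge (Set.mem_univ y))
    exact ⟨⟨x, hx⟩, ⟨y, hy⟩, rfl⟩
  · exact (Finset.sup_lt_iff (bot_lt_top)).2 fun x _ => hfin _ (isAffineOpen_opensRange _)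

end Groth.Agent.S11146
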