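import Groth.Statements.S11147
import Groth.Agent.Lib.RelFrobEtale
import Mathlib.RingTheory.Etale.Field
import Mathlib.FieldTheory.SeparableClosure
-- import your own Groth.Agent.* helpers here

set_option autoImplicit false
universe u
open FrobAlg

namespace Groth.Agent.S11147

/-- Let p be a prime and k ⊆ K fields of characteristic p such that K is finitely generated over k as a
field. Then the relative Frobenius ring homomorphism K ⊗_{k,Frob} k → K, b ⊗ a ↦ b^p a (the
Radu–André homomorphism of k → K), is bijective exactly when K is algebraic over k and every element
of K is separable over k. -/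
theorem result (p : ℕ) [Fact p.Prime] (k K : Type u) [Field k]
    [Field K] [Algebra k K] [CharP k p] [CharP K p] (hfg : (⊤ : IntermediateField k K).FG) :
    Function.Bijective (FrobAlg.relFrob p k K) ↔ Algebra.IsSeparable k K := by
  have hE : Algebra.EssFiniteType k K := IntermediateField.fg_top_iff.1 hfg
  constructor
  · intro h
    have := Groth.Agent.Lib.RelFrobEtale.formallyEtale_of_bijective p h
    exact (Algebra.FormallyEtale.iff_isSeparable k K).1 this
  · intro h
    have : Module.Finite k K := by
      obtain ⟨s, hs⟩ := hfg
      have : FiniteDimensional k (IntermediateField.adjoin k (s : Set K)) :=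
        IntermediateField.finiteDimensional_adjoin fun x _ => Algebra.IsIntegral.isIntegral x
      rw [hs] at this
      exact Module.Finite.equiv IntermediateField.topEquiv.toLinearEquiv
    have : Algebra.Etale k K := ⟨(Algebra.FormallyEtale.iff_isSeparable k K).2 h, Algebra.FinitePresentation.of_finiteType.1 inferInstance⟩
    exact Groth.Agent.Lib.RelFrobEtale.bijective_of_etale p

end Groth.Agent.S11147
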