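import Groth.Statements.S11148
import Groth.Agent.H66.Watanabe.Main

set_option autoImplicit false
universe u
open InvTh

namespace Groth.Agent.S11148

/-- Let k be a field, G a finite group whose order is invertible in k, and ρ : G → GL_n(k) a group
homomorphism all of whose values have determinant 1. Let G act on the polynomial ring k[X_1, …, X_n]
by ring automorphisms fixing k with g • X_i = Σ_j ρ(g)_{ji} X_j (the induced action on the symmetric
algebra of the representation), and let A be the ring of invariants (A → k[X] injective with image
the fixed elements). Then A is a Gorenstein ring. (The published statement allows any linearly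
reductive finite k-group scheme G with G → GL(V) factoring through SL(V), and also identifies the
canonical module of A with A; this row is the case of a constant group of order invertible in k and
keeps the Gorenstein conclusion.) -/
theorem result (k : Type u) [Field k] (n : ℕ)
    (G : Type u) [Group G] [Finite G] (hG : IsUnit ((Nat.card G : ℕ) : k))
    (ρ : G →* Matrix.GeneralLinearGroup (Fin n) k)
    (hdet : ∀ g : G, Matrix.det ((ρ g : Matrix (Fin n) (Fin n) k)) = 1)
    [MulSemiringAction G (MvPolynomial (Fin n) k)]
    (hC : ∀ (g : G) (c : k), g • (MvPolynomial.C c : MvPolynomial (Fin n) k) = MvPolynomial.C c)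
    (hX : ∀ (g : G) (i : Fin n), g • (MvPolynomial.X i : MvPolynomial (Fin n) k) =
      ∑ j : Fin n, (ρ g : Matrix (Fin n) (Fin n) k) j i • (MvPolynomial.X j : MvPolynomial (Fin n) k))
    (A : Type u) [CommRing A] [Algebra A (MvPolynomial (Fin n) k)]
    [SMulCommClass G A (MvPolynomial (Fin n) k)] [Algebra.IsInvariant A (MvPolynomial (Fin n) k) G]
    [FaithfulSMul A (MvPolynomial (Fin n) k)] :
    LocCoh.IsGorensteinRing A := by
  classical
  haveI := Fintype.ofFinite G
  let M : G →* Matrix (Fin n) (Fin n) k := (Units.coeHom _).comp ρ
  have hcard : (Fintype.card G : k) ≠ 0 := by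
    rw [← Nat.card_eq_fintype_card]
    exact hG.ne_zero
  have hact : ∀ (g : G) (y : MvPolynomial (Fin n) k), H66.Watanabe.sub (M g) y = g • y := by
    intro g y
    induction y using MvPolynomial.induction_on with
    | C a => rw [hC, ← MvPolynomial.algebraMap_eq, AlgHom.commutes]
    | add p q hp hq => rw [map_add, smul_add, hp, hq]
    | mul_X p i hp =>
      rw [map_mul, smul_mul', hp, hX]
      congr 1
      simp [H66.Watanabe.sub, H66.Watanabe.lin_apply, M]
  let f : A →+* H66.Watanabe.inv M :=
    RingHom.codRestrict (algebraMap A (MvPolynomial (Fin n) k)) (H66.Watanabe.inv M).toSubring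
      fun a g => by rw [hact, smul_algebraMap]
  have hf : Function.Bijective f := by
    refine ⟨fun a b h => FaithfulSMul.algebraMap_injective A (MvPolynomial (Fin n) k) (congrArg Subtype.val h),
      fun y => ?_⟩
    obtain ⟨a, ha⟩ := Algebra.IsInvariant.isInvariant (A := A) (G := G) (y : MvPolynomial (Fin n) k)
      fun g => by rw [← hact]; exact y.2 g
    exact ⟨a, Subtype.ext ha⟩
  haveI := H66.Watanabe.gorenstein_inv M hcard hdet
  exact Lib.Goren.Rings.isGorensteinRing_of_ringEquiv (RingEquiv.ofBijective f hf).symm

end Groth.Agent.S11148
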