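import Groth.Agent.Lib.DerCat.InjAmp
-- Template for statement S11153 (row 11152; see the milestone table for weights).
-- Copy to Groth/Agent/S11153.lean and replace the sorry. The statement below is byte-identical to the frozen
-- statement CohDer.GrothFrozen.S11153 (Groth/Statements/S11153.lean; the theorem CohDer.exists_quasiIso_bounded_injective_iff_hom_shift_vanishing);
-- the grader kernel-checks Groth.Agent.S11153.result against that frozen type. Keep the theorem IN THIS FILE
-- (a `result` declared elsewhere and merely imported here is not credited); helpers may live anywhere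
-- under Groth/Agent/.
import Groth.Statements.S11153
-- import your own Groth.Agent.* helpers here

set_option autoImplicit false
universe w v u
open CategoryTheory CategoryTheory.Limits
open CohDer

namespace Groth.Agent.S11153

/-- (i) ⇔ (iii): let A be an abelian category with enough injectives and K a bounded below cochain
complex of objects of A. Then K admits a quasi-isomorphism into a bounded complex of injective
objects of A if and only if there is an integer n₀ such that Hom_{D(A)}(Y[0], K[i]) = 0 for every
object Y of A and every i > n₀. -/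
theorem result {A : Type u} [Category.{v} A] [Abelian A]
    [HasDerivedCategory.{w} A] [EnoughInjectives A]
    (K : CochainComplex A ℤ) (a : ℤ) [K.IsStrictlyGE a] :
    (∃ (I : CochainComplex A ℤ) (b c : ℤ) (f : K ⟶ I), I.IsStrictlyGE b ∧ I.IsStrictlyLE c ∧
        (∀ n : ℤ, Injective (I.X n)) ∧ QuasiIso f) ↔
      ∃ n₀ : ℤ, ∀ (Y : A) (i : ℤ), n₀ < i →
        ∀ φ : (DerivedCategory.singleFunctor A 0).obj Y ⟶ (DerivedCategory.Q.obj K)⟦i⟧, φ = 0 := by
  open Groth.Agent.Lib.DerCat.InjAmp in
  constructor
  · rintro ⟨I, b, c, f, hb, hc, hI, hf⟩
    refine ⟨c, fun Y i hi φ => ?_⟩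
    have := CochainComplex.isKInjective_of_injective I b
    exact van_of_iso (asIso (DerivedCategory.Q.map f)).symm
      (eq_zero_of_isZero_X (I.isZero_of_isStrictlyLE c i hi)) Y φ
  · rintro ⟨n₀, h⟩
    obtain ⟨J, hJ, hJ', hJI, ⟨e⟩⟩ :=
      exists_of_van K a n₀ (fun i hi Y => h Y i hi)
    have := CochainComplex.isKInjective_of_injective J a
    obtain ⟨f, hf⟩ := exists_hom_of_iso e
    exact ⟨J, a, n₀, f, hJ, hJ', hJI, hf⟩

end Groth.Agent.S11153
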