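import Groth.Agent.Lib.DerCat.InjAmp
-- Template for statement S11159 (row 11158; see the milestone table for weights).
-- Copy to Groth/Agent/S11159.lean and replace the sorry. The statement below is byte-identical to the frozen
-- statement CohDer.GrothFrozen.S11159 (Groth/Statements/S11159.lean; the theorem CohDer.exists_iso_bounded_injective_of_distTriang);
-- the grader kernel-checks Groth.Agent.S11159.result against that frozen type. Keep the theorem IN THIS FILE
-- (a `result` declared elsewhere and merely imported here is not credited); helpers may live anywhere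
-- under Groth/Agent/.
import Groth.Statements.S11159
-- import your own Groth.Agent.* helpers here

set_option autoImplicit false
universe w v u
open CategoryTheory CategoryTheory.Limits CategoryTheory.Pretriangulated
open CohDer

namespace Groth.Agent.S11159

/-- Let A be an abelian category with enough injectives and X ⟶ Y ⟶ Z ⟶ X⟦1⟧ a distinguished triangle in
D(A). If X and Z are each isomorphic in D(A) to a bounded complex of injective objects of A, then so
is Y. -/
theorem result {A : Type u} [Category.{v} A] [Abelian A]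
    [HasDerivedCategory.{w} A] [EnoughInjectives A]
    (T : Triangle (DerivedCategory A)) (hT : T ∈ distTriang (DerivedCategory A))
    (h₁ : (∃ (I : CochainComplex A ℤ) (b c : ℤ), I.IsStrictlyGE b ∧ I.IsStrictlyLE c ∧
        (∀ n : ℤ, Injective (I.X n)) ∧ Nonempty (T.obj₁ ≅ DerivedCategory.Q.obj I)))
    (h₃ : (∃ (I : CochainComplex A ℤ) (b c : ℤ), I.IsStrictlyGE b ∧ I.IsStrictlyLE c ∧
        (∀ n : ℤ, Injective (I.X n)) ∧ Nonempty (T.obj₃ ≅ DerivedCategory.Q.obj I))) :
    (∃ (I : CochainComplex A ℤ) (b c : ℤ), I.IsStrictlyGE b ∧ I.IsStrictlyLE c ∧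
        (∀ n : ℤ, Injective (I.X n)) ∧ Nonempty (T.obj₂ ≅ DerivedCategory.Q.obj I)) := by
  open Groth.Agent.Lib.DerCat.InjAmp in
  obtain ⟨I₁, b₁, c₁, hb₁, hc₁, hI₁, ⟨e₁⟩⟩ := h₁
  obtain ⟨I₃, b₃, c₃, hb₃, hc₃, hI₃, ⟨e₃⟩⟩ := h₃
  have := CochainComplex.isKInjective_of_injective I₁ b₁
  have := CochainComplex.isKInjective_of_injective I₃ b₃
  have hv : ∀ i, max c₁ c₃ < i → Van T.obj₂ i := fun i hi Y φ => by
    have v1 := van_of_iso e₁.symm (eq_zero_of_isZero_X (I₁.isZero_of_isStrictlyLE c₁ i (by omega))) Y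
    have v3 := van_of_iso e₃.symm (eq_zero_of_isZero_X (I₃.isZero_of_isStrictlyLE c₃ i (by omega))) Y
    obtain ⟨g, hg⟩ := Triangle.coyoneda_exact₂ _ (Triangle.shift_distinguished T hT i) φ (by
      change φ ≫ (i.negOnePow • (shiftFunctor (DerivedCategory A) i).map T.mor₂) = 0
      rw [Linear.comp_units_smul, v3 (φ ≫ _), smul_zero])
    rw [hg]
    exact (congrArg (· ≫ _) (v1 g)).trans zero_comp
  have g1 : T.obj₁.IsGE (min b₁ b₃) := by
    have : I₁.IsStrictlyGE (min b₁ b₃) := I₁.isStrictlyGE_of_ge _ b₁ (by omega)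
    exact DerivedCategory.TStructure.t.isGE_of_iso e₁.symm _
  have g3 : T.obj₃.IsGE (min b₁ b₃) := by
    have : I₃.IsStrictlyGE (min b₁ b₃) := I₃.isStrictlyGE_of_ge _ b₃ (by omega)
    exact DerivedCategory.TStructure.t.isGE_of_iso e₃.symm _
  have : T.obj₂.IsGE (min b₁ b₃) := DerivedCategory.TStructure.t.isGE₂ T hT _ g1 g3
  obtain ⟨K, hK, ⟨e⟩⟩ := T.obj₂.exists_iso_Q_obj_of_isGE (min b₁ b₃)
  obtain ⟨J, hJ, hJ', hJI, ⟨e'⟩⟩ := exists_of_van K (min b₁ b₃) (max c₁ c₃)
    (fun i hi => van_of_iso e (hv i hi))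
  exact ⟨J, _, _, hJ, hJ', hJI, ⟨e ≪≫ e'⟩⟩

end Groth.Agent.S11159
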