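import Groth.Statements.S11163
import Groth.Agent.Lib.InjMod.ExtCrit
import Groth.Agent.Lib.SpecSeq.Composite
-- import your own Groth.Agent.* helpers here

set_option autoImplicit false
universe u
open CategoryTheory CategoryTheory.Limits AlgebraicGeometry
attribute [local instance] HasDerivedCategory.standard
open Coherent

namespace Groth.Agent.S11163

/-- (i) ⇔ (iv): let X be a locally Noetherian scheme and F a quasi-coherent O_X-module. Then F is an
injective O_X-module if and only if the sheaf Ext¹_{O_X}(G, F) (the first right derived functor of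
the sheaf-Hom functor Hom_{O_X}(G, -), here the right adjoint of G ⊗ -) vanishes for every coherent
O_X-module G. (The binders asserting that G ⊗ - has a right adjoint, that this adjoint is additive
and that O_X-modules have injective resolutions always hold.) -/
theorem result {X : Scheme.{u}} [IsLocallyNoetherian X]
    [HasInjectiveResolutions X.Modules] (F : X.Modules) (hF : Coh.IsQCoh F) :
    Injective F ↔ ∀ (G : X.Modules) [DCoh.HasSheafHom G] [(DCoh.sheafHom G).Additive],
      Coh.IsCoh G → IsZero (((DCoh.sheafHom G).rightDerived 1).obj F) := by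
  refine (Groth.Agent.Lib.InjMod.ExtCrit.injective_iff F hF).trans ⟨fun h G _ _ hG => ?_, fun h G _ _ hG => ?_⟩
  · haveI : ModSite.HasSheafHom (O := X.sheaf) G := Groth.Agent.Lib.ModTensor.ModSite.hasSheafHom (O := X.sheaf) _
    haveI : (Groth.Agent.Lib.ExtShStalk.Hom.R G).Additive :=
      (Groth.Agent.Lib.ExtShStalk.Hom.adj G).right_adjoint_additive
    exact (h G hG).of_iso (Groth.Agent.Lib.SpecSeq.Composite.rightDerivedCongr
      ((DCoh.sheafHomAdj G).rightAdjointUniq (Groth.Agent.Lib.ExtShStalk.Hom.adj G)) 1 F)
  · haveI : DCoh.HasSheafHom G := (Groth.Agent.Lib.ExtShStalk.Hom.adj G).isLeftAdjoint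
    haveI : (DCoh.sheafHom G).Additive := (DCoh.sheafHomAdj G).right_adjoint_additive
    exact (h G hG).of_iso (Groth.Agent.Lib.SpecSeq.Composite.rightDerivedCongr
      ((Groth.Agent.Lib.ExtShStalk.Hom.adj G).rightAdjointUniq (DCoh.sheafHomAdj G)) 1 F)


end Groth.Agent.S11163
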