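import Groth.Statements.S11164
import Groth.Agent.Lib.DerivedOX.KFlat
import Groth.Agent.Lib.Ample.GenLocus
-- import your own Groth.Agent.* helpers here

set_option autoImplicit false
universe u
open CategoryTheory CategoryTheory.Limits AlgebraicGeometry
attribute [local instance] HasDerivedCategory.standard
open Coherent

namespace Groth.Agent.S11164

/-- Every O_X-module on a scheme X is a quotient of a flat O_X-module; precisely, for every O_X-module F
there are opens U_i of X and an epimorphism ∐ j_{U_i !} O_{U_i} ⟶ F, and such a direct sum of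
extensions by zero of structure sheaves of opens is flat (all its stalks are flat over the local
rings). -/
theorem result {X : Scheme.{u}} (F : X.Modules) :
    ∃ (ι : Type u) (U : ι → X.Opens) (p : (∐ fun i => CxOX.extZeroUnit (U i).ι) ⟶ F),
      Epi p ∧ FlatMod.IsFlat (∐ fun i => CxOX.extZeroUnit (U i).ι) := by
  classical
  let T : Type u := Σ U : X.Opens, Γ(F.restrict U.ι, ⊤)
  let one' : ∀ U : X.Opens, Γ(Coh.structureModule (U : Scheme.{u}), ⊤) := fun U => Lib.TensorMod.Gen.one (U : Scheme.{u}) ⊤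
  -- morphisms out of the extension by zero are determined by the canonical section
  have hext : ∀ (U : X.Opens) (M : X.Modules) (a b : CxOX.extZeroUnit U.ι ⟶ M),
      ((CxOX.extZeroAdj U.ι).homEquiv _ _ a).app ⊤ (one' U) = ((CxOX.extZeroAdj U.ι).homEquiv _ _ b).app ⊤ (one' U) →
        a = b := by
    intro U M a b h
    refine ((CxOX.extZeroAdj U.ι).homEquiv _ _).injective (Scheme.Modules.hom_ext _ _ fun W => ?_)
    ext r
    refine (Lib.TensorMod.Gen.app_eq_smul _ r).trans (Eq.trans ?_ (Lib.TensorMod.Gen.app_eq_smul _ r).symm)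
    rw [← Lib.TensorMod.Gen.rs_app_one _ (le_top : W ≤ ⊤)]
    conv_rhs => rw [← Lib.TensorMod.Gen.rs_app_one _ (le_top : W ≤ ⊤)]
    exact congrArg (fun t => (show Γ((U : Scheme.{u}), W) from r) • Lib.TensorMod.Dual.rs _ le_top t) h
  have hflat : ∀ U : X.Opens, FlatMod.IsFlat (CxOX.extZeroUnit U.ι) := by
    intro U
    let E := CxOX.extZeroUnit U.ι
    let e0 : Γ(E.restrict U.ι, ⊤) := ((CxOX.extZeroAdj U.ι).homEquiv _ _ (𝟙 E)).app ⊤ (one' U)
    let f : Lib.DerivedOX.FlatGen.gen (U.ι ''ᵁ ⊤) ⟶ E :=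
      (Lib.DerivedOX.FlatGen.genHomEquiv (U.ι ''ᵁ ⊤) E).symm e0
    let t0 : Γ((Lib.DerivedOX.FlatGen.gen (U.ι ''ᵁ ⊤)).restrict U.ι, ⊤) :=
      Lib.DerivedOX.FlatGen.genHomEquiv (U.ι ''ᵁ ⊤) _ (𝟙 _)
    obtain ⟨φ, hφ⟩ := Lib.Ample.GenLocus.exists_hom_of_sec t0
    let g : E ⟶ Lib.DerivedOX.FlatGen.gen (U.ι ''ᵁ ⊤) := ((CxOX.extZeroAdj U.ι).homEquiv _ _).symm φ
    refine Lib.DerivedOX.KFlat.isFlat_of_retract ⟨g, f, hext U E _ _ ?_⟩ (Lib.DerivedOX.FlatGen.isFlat_gen _)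
    rw [Adjunction.homEquiv_naturality_right, Equiv.apply_symm_apply]
    change ((Scheme.Modules.restrictFunctor U.ι).map f).app ⊤ (φ.app ⊤ (one' U)) = e0
    rw [show φ.app ⊤ (one' U) = t0 from hφ]
    have hnat : f.app (U.ι ''ᵁ ⊤) t0 = Lib.DerivedOX.FlatGen.genHomEquiv (U.ι ''ᵁ ⊤) E f := by
      have h1 := ((Lib.TensorMod.Basic.adj X).homEquiv_naturality_right (𝟙 (Lib.DerivedOX.FlatGen.gen (U.ι ''ᵁ ⊤))) f)
      exact ((congrArg (Lib.DerivedOX.FlatGen.genHomEquiv (U.ι ''ᵁ ⊤) E) (Category.id_comp f).symm).trans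
        (Eq.trans (congrArg PresheafOfModules.freeYonedaEquiv h1) (PresheafOfModules.freeYonedaEquiv_comp _ _))).symm
    exact hnat.trans ((Lib.DerivedOX.FlatGen.genHomEquiv (U.ι ''ᵁ ⊤) E).apply_symm_apply e0)
  choose φ hφ using fun t : T => Lib.Ample.GenLocus.exists_hom_of_sec t.2
  refine ⟨T, fun t => t.1, Sigma.desc fun t => ((CxOX.extZeroAdj t.1.ι).homEquiv _ _).symm (φ t), ⟨fun {M} a b hab => ?_⟩,
    Lib.DerivedOX.KFlat.isFlat_sigma _ fun t => hflat t.1⟩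
  refine Scheme.Modules.hom_ext _ _ fun U => ?_
  ext s
  have hU : U.ι ''ᵁ ⊤ = U := U.ι_image_top
  let s' : Γ(F.restrict U.ι, ⊤) := Lib.TensorMod.Dual.rs F hU.le s
  have h1 := congrArg (fun k => ((CxOX.extZeroAdj U.ι).homEquiv _ _ k).app ⊤ (one' U))
    ((Sigma.ι_desc_assoc _ (⟨U, s'⟩ : T) a).symm.trans ((congrArg (Sigma.ι _ (⟨U, s'⟩ : T) ≫ ·) hab).trans
      (Sigma.ι_desc_assoc _ (⟨U, s'⟩ : T) b)))
  simp only [Adjunction.homEquiv_naturality_right, Equiv.apply_symm_apply] at h1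
  have h2 : a.app (U.ι ''ᵁ ⊤) s' = b.app (U.ι ''ᵁ ⊤) s' := by
    have e : (φ ⟨U, s'⟩).app ⊤ (one' U) = s' := hφ ⟨U, s'⟩
    exact (congrArg (a.app (U.ι ''ᵁ ⊤)) e.symm).trans (h1.trans (congrArg (b.app (U.ι ''ᵁ ⊤)) e))
  have h3 := congrArg (Lib.TensorMod.Dual.rs M hU.ge) h2
  have h4 : ∀ c : F ⟶ M, Lib.TensorMod.Dual.rs M hU.ge (c.app (U.ι ''ᵁ ⊤) s') = c.app U s := fun c =>
    ((Lib.TensorMod.HomGlue.rs_app c hU.ge s').trans (congrArg (c.app U)
      ((Lib.TensorMod.Dual.rs_rs _ _ _ s).trans (Lib.TensorMod.Dual.rs_self _ _ s))))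
  exact (h4 a).symm.trans (h3.trans (h4 b))

end Groth.Agent.S11164
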