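import Groth.Statements.S11165
import Groth.Agent.S4456
import Groth.Agent.S11319
import Groth.Agent.Lib.ZarCoh.Morph

set_option autoImplicit false
universe u
open CategoryTheory CategoryTheory.Limits AlgebraicGeometry
open Coherent

namespace Groth.Agent.S11165

/-- Let f : X ⟶ Y be a separated morphism of schemes, U an open of X on which f restricts to an affine
morphism, i : U ⟶ X the inclusion and F a quasi-coherent O_X-module. Then i_*(F|_U) is acyclic for
f_*: its higher direct images R^j f_* vanish for j > 0. (The binder asserting injective resolutions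
of O_X-modules always holds.) -/
theorem result {X Y : Scheme.{u}} (f : X ⟶ Y) [IsSeparated f]
    (U : X.Opens) [IsAffineHom (U.ι ≫ f)] (F : X.Modules) (hF : Coh.IsQCoh F)
    [HasInjectiveResolutions X.Modules] (j : ℕ) (hj : 0 < j) :
    IsZero ((Coh.Rpush f j).obj ((Scheme.Modules.pushforward U.ι).obj ((Scheme.Modules.restrictFunctor U.ι).obj F))) := by
  haveI : IsAffineHom U.ι := IsAffineHom.of_comp U.ι f
  haveI : F.IsQuasicoherent := hF
  let G := (Scheme.Modules.restrictFunctor U.ι).obj F
  haveI : G.IsQuasicoherent :=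
    inferInstanceAs ((F.restrict U.ι).IsQuasicoherent)
  obtain ⟨n, rfl⟩ := Nat.exists_eq_succ_of_ne_zero hj.ne'
  obtain ⟨i⟩ := Groth.Agent.S4456.result U.ι f G (n + 1)
  obtain ⟨k⟩ := Groth.Agent.S11319.result f ((Scheme.Modules.pushforward U.ι).obj G) (n + 1)
  have h : IsZero (Coh.toAb ((Coh.Rpush f (n + 1)).obj ((Scheme.Modules.pushforward U.ι).obj G))) :=
    ((Groth.Agent.Lib.ZarCoh.Morph.isZero_RpushAb (U.ι ≫ f) G n).of_iso i).of_iso k
  rw [IsZero.iff_id_eq_zero] at h ⊢
  apply (SheafOfModules.toSheaf Y.ringCatSheaf).map_injective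
  exact ((SheafOfModules.toSheaf Y.ringCatSheaf).map_id _).trans
    (h.trans ((SheafOfModules.toSheaf Y.ringCatSheaf).map_zero _ _).symm)

end Groth.Agent.S11165
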