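import Groth.Statements.S11166
import Groth.Agent.Lib.InjMod.Hull
import Groth.Agent.Lib.DerCat.ThickEmb
import Groth.Agent.Lib.QCoh.Closure
import Groth.Agent.H83.QCohGroth.Cat

set_option autoImplicit false
universe u
open CategoryTheory CategoryTheory.Limits AlgebraicGeometry
attribute [local instance] HasDerivedCategory.standard
open Coherent

namespace Groth.Agent.S11166

/-- For a locally Noetherian scheme X the natural functor D⁺(QCoh(X)) ⥤ D⁺_qc(O_X) is an equivalence:
granting that quasi-coherent modules form an abelian full subcategory of all O_X-modules with exact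
inclusion (instance hypotheses that always hold), the induced functor D(QCoh(X)) ⥤ D(O_X) is fully
faithful on cohomologically bounded below objects, and every object of D(O_X) with Hⁱ = 0 for i < a
and quasi-coherent cohomology sheaves is isomorphic to the image of an object of D(QCoh(X)) with Hⁱ
= 0 for i < a. -/
theorem result (X : Scheme.{u}) [IsLocallyNoetherian X]
    [ObjectProperty.ContainsZero (fun M : X.Modules => Coh.IsQCoh M)] [ObjectProperty.IsClosedUnderKernels (fun M : X.Modules => Coh.IsQCoh M)]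
    [ObjectProperty.IsClosedUnderCokernels (fun M : X.Modules => Coh.IsQCoh M)] [ObjectProperty.IsClosedUnderFiniteProducts (fun M : X.Modules => Coh.IsQCoh M)]
    [PreservesFiniteLimits (ObjectProperty.ι (fun M : X.Modules => Coh.IsQCoh M))] [PreservesFiniteColimits (ObjectProperty.ι (fun M : X.Modules => Coh.IsQCoh M))] :
    (∀ (M N : DerivedCategory (ObjectProperty.FullSubcategory (fun M : X.Modules => Coh.IsQCoh M))) (a b : ℤ), M.IsGE a → N.IsGE b →
        Function.Bijective (fun f : M ⟶ N => (ObjectProperty.ι (fun M : X.Modules => Coh.IsQCoh M)).mapDerivedCategory.map f)) ∧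
      ∀ (K : DCoh.D X) (a : ℤ), K.IsGE a → DCoh.IsQCohD K →
        ∃ M : DerivedCategory (ObjectProperty.FullSubcategory (fun M : X.Modules => Coh.IsQCoh M)), M.IsGE a ∧
          Nonempty ((ObjectProperty.ι (fun M : X.Modules => Coh.IsQCoh M)).mapDerivedCategory.obj M ≅ K) := by
  let P : ObjectProperty X.Modules := fun M => Coh.IsQCoh M
  haveI : IsGrothendieckAbelian.{u} (QCohCat.QCoh X) := inferInstance
  haveI : EnoughInjectives (QCohCat.QCoh X) := inferInstance
  haveI : EnoughInjectives P.FullSubcategory :=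
    inferInstanceAs (EnoughInjectives (QCohCat.QCoh X))
  haveI : P.IsClosedUnderIsomorphisms :=
    ⟨fun e h => (SheafOfModules.isQuasicoherent X.ringCatSheaf).prop_of_iso e h⟩
  have hinj : ∀ X' : P.FullSubcategory, ∃ (Y' : P.FullSubcategory) (i : X' ⟶ Y'),
      Mono i ∧ Injective ((ObjectProperty.ι P).obj Y') := fun M => by
    obtain ⟨Q⟩ := EnoughInjectives.presentation M
    exact ⟨Q.J, Q.f, Q.mono, Lib.InjMod.injective_obj_of_injective_qcoh Q.J Q.injective⟩
  have hmem : ∀ M : X.Modules, (ObjectProperty.ι P).essImage M ↔ P M := fun M =>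
    ⟨fun ⟨N, ⟨e⟩⟩ => P.prop_of_iso e N.property, fun h => ⟨⟨M, h⟩, ⟨Iso.refl _⟩⟩⟩
  refine ⟨fun M N a b _ hN => ?_, fun K a hK hq => ?_⟩
  · exact Lib.DerCat.ThickEmb.map_bijective (ObjectProperty.ι P) hinj M N b
  · obtain ⟨I, hI, -, ⟨e⟩⟩ := Lib.DerCat.ThickEmb.exists_iso (ObjectProperty.ι P) hinj
      (fun S hS h1 h3 => by
        rw [hmem] at h1 h3 ⊢
        haveI : S.X₁.IsQuasicoherent := h1
        haveI : S.X₃.IsQuasicoherent := h3
        exact Lib.QCoh.Closure.isQCoh_of_extension hS) K a (fun i => (hmem _).2 (hq i))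
    exact ⟨DerivedCategory.Q.obj I, inferInstance, ⟨e⟩⟩

end Groth.Agent.S11166
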