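import Groth.Statements.S11167
import Groth.Agent.Lib.StalkLoc.Basic
import Groth.Agent.Lib.TensorMod.QCohInv
import Mathlib.Topology.NoetherianSpace

set_option autoImplicit false
universe u
open CategoryTheory CategoryTheory.Limits AlgebraicGeometry
open Coherent

namespace Groth.Agent.S11167

open Groth.Agent.Lib TopologicalSpace

variable {X : Scheme.{u}} (G : X.Modules)

/-- The germs at `x` of a set of sections. -/
def germSet (T : Set (Σ U : X.Opens, Γ(G, U))) (x : X) : Set (G.presheaf.stalk x) :=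
  {v | ∃ p ∈ T, ∃ h : x ∈ p.1, G.presheaf.germ p.1 x h p.2 = v}

variable {G}

theorem exists_generators_near {N : X.Modules} [N.IsQuasicoherent] (ι : G ⟶ N) [Mono ι]
    {η : X} {U : X.Opens} (hU : IsAffineOpen U) (hηU : η ∈ U) [IsNoetherian Γ(X, U) Γ(N, U)]
    {n : ℕ} (s : Fin n → Γ(G, U))
    (hs : Submodule.span (X.presheaf.stalk η) (Set.range fun i => G.presheaf.germ U η hηU (s i)) = ⊤) :
    ∃ a : Γ(X, U), η ∈ X.basicOpen a ∧ ∀ (x : X) (hx : x ∈ X.basicOpen a), η ⤳ x →
      Submodule.span (X.presheaf.stalk x)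
        (Set.range fun i => G.presheaf.germ U x (X.basicOpen_le a hx) (s i)) = ⊤ := by
  let L := Modules.StalkModule.stalkMapₗ ι η
  let K : Submodule (X.presheaf.stalk η) (N.presheaf.stalk η) := LinearMap.range L
  let w : Fin n → Γ(N, U) := fun i => ι.app U (s i)
  let I : Submodule Γ(X, U) Γ(N, U) := Submodule.span _ (Set.range w)
  let J : Submodule Γ(X, U) Γ(N, U) :=
    letI := StalkLoc.Basic.moduleSections N hηU
    { carrier := {b | N.presheaf.germ U η hηU b ∈ K}
      add_mem' := fun {a b} ha hb => by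
        simp only [Set.mem_setOf_eq, map_add] at *
        exact K.add_mem ha hb
      zero_mem' := by simp
      smul_mem' := fun r b hb => by
        simp only [Set.mem_setOf_eq] at *
        rw [Modules.StalkModule.germ_smul]
        exact K.smul_mem _ hb }
  have hK : K = Submodule.span (X.presheaf.stalk η)
      (Set.range fun i => N.presheaf.germ U η hηU (w i)) := by
    rw [show K = Submodule.map L ⊤ from (Submodule.map_top L).symm, ← hs, Submodule.map_span,
      ← Set.range_comp]
    congr 2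
    funext i
    exact Modules.StalkModule.stalkMapₗ_germ ι hηU (s i)
  have hmem : ∀ y ∈ K, ∃ f : Γ(X, U), η ∈ X.basicOpen f ∧ ∃ m ∈ I,
      X.presheaf.germ U η hηU f • y = N.presheaf.germ U η hηU m := by
    intro y hy
    rw [hK] at hy
    induction hy using Submodule.span_induction with
    | mem y hy =>
      obtain ⟨i, rfl⟩ := hy
      exact ⟨1, by rwa [Scheme.basicOpen_of_isUnit _ isUnit_one], w i,
        Submodule.subset_span ⟨i, rfl⟩, by rw [map_one, one_smul]⟩
    | zero => exact ⟨1, by rwa [Scheme.basicOpen_of_isUnit _ isUnit_one], 0, zero_mem _, by simp⟩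
    | add y y' _ _ h h' =>
      obtain ⟨f, hf, m, hm, e⟩ := h
      obtain ⟨f', hf', m', hm', e'⟩ := h'
      refine ⟨f * f', by rw [Scheme.basicOpen_mul]; exact ⟨hf, hf'⟩, f' • m + f • m',
        add_mem (I.smul_mem _ hm) (I.smul_mem _ hm'), ?_⟩
      rw [map_add, Modules.StalkModule.germ_smul, Modules.StalkModule.germ_smul, map_mul, ← e, ← e',
        smul_add, smul_smul, smul_smul, mul_comm (X.presheaf.germ U η hηU f')]
    | smul r y _ h =>
      obtain ⟨f, hf, m, hm, e⟩ := h
      letI := X.presheaf.algebra_section_stalk ⟨η, hηU⟩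
      haveI := hU.isLocalization_stalk ⟨η, hηU⟩
      obtain ⟨⟨a, c⟩, hac⟩ := IsLocalization.surj (hU.primeIdealOf ⟨η, hηU⟩).asIdeal.primeCompl r
      change r * X.presheaf.germ U η hηU (c : Γ(X, U)) = X.presheaf.germ U η hηU a at hac
      have hc : η ∈ X.basicOpen (c : Γ(X, U)) := (X.mem_basicOpen _ η hηU).2
        (IsLocalization.map_units (X.presheaf.stalk η) c)
      refine ⟨c * f, by rw [Scheme.basicOpen_mul]; exact ⟨hc, hf⟩, a • m, I.smul_mem _ hm, ?_⟩
      rw [Modules.StalkModule.germ_smul, ← e, map_mul, smul_smul, smul_smul, ← hac]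
      congr 1
      ring
  have hJI : ∀ b ∈ J, ∃ f : Γ(X, U), η ∈ X.basicOpen f ∧ f • b ∈ I := by
    intro b hb
    obtain ⟨f, hf, m, hm, e⟩ := hmem _ hb
    rw [← Modules.StalkModule.germ_smul] at e
    obtain ⟨g, hg, hgz⟩ := (StalkLoc.Basic.germ_eq_zero_iff hU hηU (f • b - m)).1
      (by rw [map_sub, e, sub_self])
    rw [smul_sub, sub_eq_zero, smul_smul] at hgz
    exact ⟨g * f, by rw [Scheme.basicOpen_mul]; exact ⟨hg, hf⟩, hgz ▸ I.smul_mem _ hm⟩
  choose! F hF hFI using hJI
  obtain ⟨S, hS⟩ := IsNoetherian.noetherian J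
  have hSJ : ∀ b ∈ S, b ∈ J := fun b hb => hS ▸ Submodule.subset_span hb
  refine ⟨∏ b ∈ S, F b, ?_, ?_⟩
  · rw [X.mem_basicOpen _ η hηU, map_prod, IsUnit.prod_iff]
    exact fun b hb => (X.mem_basicOpen _ η hηU).1 (hF b (hSJ b hb))
  intro x hx hsp
  set a := ∏ b ∈ S, F b with ha
  have hxU : x ∈ U := X.basicOpen_le a hx
  have haJ : ∀ b ∈ J, a • b ∈ I := by
    intro b hb
    rw [← hS] at hb
    induction hb using Submodule.span_induction with
    | mem b hb =>
      obtain ⟨c, hc⟩ := Finset.dvd_prod_of_mem F hb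
      rw [ha, hc, mul_comm, mul_smul]
      exact I.smul_mem _ (hFI b (hSJ b hb))
    | zero => rw [smul_zero]; exact zero_mem _
    | add b b' _ _ h h' => rw [smul_add]; exact add_mem h h'
    | smul r b _ h => rw [smul_comm]; exact I.smul_mem _ h
  have hinj := (Modules.StalkModule.mono_iff_stalkMapₗ_injective ι).1 ‹_› x
  rw [eq_top_iff]
  intro t _
  obtain ⟨u, b, hu, hub⟩ := StalkLoc.Basic.exists_smul_eq_germ hU hxU (Modules.StalkModule.stalkMapₗ ι x t)
  obtain ⟨W, hxW, tW, rfl⟩ := TopCat.Presheaf.exists_germ_eq G.presheaf t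
  have hbJ : b ∈ J := by
    let i₁ : W ⊓ U ⟶ W := homOfLE inf_le_left
    let i₂ : W ⊓ U ⟶ U := homOfLE inf_le_right
    have hηW : η ∈ W ⊓ U := ⟨hsp.mem_open W.2 hxW, hηU⟩
    have hxWU : x ∈ W ⊓ U := ⟨hxW, hxU⟩
    have heq : N.presheaf.germ (W ⊓ U) x hxWU
        (X.presheaf.map i₂.op u • ι.app _ (G.presheaf.map i₁.op tW)) =
        N.presheaf.germ (W ⊓ U) x hxWU (N.presheaf.map i₂.op b) := by
      rw [Modules.StalkModule.germ_smul, TopCat.Presheaf.germ_res_apply,
        TopCat.Presheaf.germ_res_apply, ← Modules.StalkModule.stalkMapₗ_germ,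
        TopCat.Presheaf.germ_res_apply]
      exact hub
    obtain ⟨W', hxW', j₁, j₂, hW'⟩ := TopCat.Presheaf.germ_eq N.presheaf x _ _ _ _ heq
    have hηW' : η ∈ W' := hsp.mem_open W'.2 hxW'
    have h2 := congrArg (N.presheaf.germ W' η hηW') hW'
    rw [TopCat.Presheaf.germ_res_apply, TopCat.Presheaf.germ_res_apply,
      Modules.StalkModule.germ_smul, TopCat.Presheaf.germ_res_apply,
      TopCat.Presheaf.germ_res_apply, ← Modules.StalkModule.stalkMapₗ_germ] at h2
    show N.presheaf.germ U η hηU b ∈ K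
    rw [← h2]
    exact K.smul_mem _ (LinearMap.mem_range_self _ _)
  let Sp := Submodule.span (X.presheaf.stalk x) (Set.range fun i => G.presheaf.germ U x hxU (s i))
  have h4 : ∀ m ∈ I, N.presheaf.germ U x hxU m ∈ Sp.map (Modules.StalkModule.stalkMapₗ ι x) := by
    intro m hm
    induction hm using Submodule.span_induction with
    | mem m hm =>
      obtain ⟨i, rfl⟩ := hm
      exact ⟨_, Submodule.subset_span ⟨i, rfl⟩, Modules.StalkModule.stalkMapₗ_germ ι hxU (s i)⟩
    | zero => rw [map_zero]; exact zero_mem _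
    | add m m' _ _ h h' => rw [map_add]; exact add_mem h h'
    | smul r m _ h => rw [Modules.StalkModule.germ_smul]; exact Submodule.smul_mem _ _ h
  have h5 := h4 _ (haJ b hbJ)
  rw [Modules.StalkModule.germ_smul, ← hub, smul_smul,
    Submodule.smul_mem_iff_of_isUnit _ (((X.mem_basicOpen a x hxU).1 hx).mul
      ((X.mem_basicOpen u x hxU).1 hu))] at h5
  obtain ⟨v, hv, hve⟩ := h5
  exact hinj hve ▸ hv

theorem exists_finite_generators [AlgebraicGeometry.IsNoetherian X]
    (ι : G ⟶ Coh.structureModule X) [Mono ι] (Z : Closeds X) :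
    ∃ T : Set (Σ U : X.Opens, Γ(G, U)), T.Finite ∧
      ∀ x ∈ Z, Submodule.span (X.presheaf.stalk x) (germSet G T x) = ⊤ := by
  classical
  haveI := TensorMod.QCohInv.isQCoh_structureModule X
  induction Z using WellFoundedLT.induction with
  | ind Z ih =>
  obtain ⟨S, hSfin, hSirr, hSZ⟩ := NoetherianSpace.exists_finite_set_closeds_irreducible Z
  by_cases hlt : ∀ C ∈ S, C < Z
  · have h := fun C : S => ih C.1 (hlt C.1 C.2)
    choose T hT hTs using h
    haveI := hSfin.to_subtype
    refine ⟨⋃ C, T C, Set.finite_iUnion hT, fun x hx => top_le_iff.1 ?_⟩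
    have hx' : x ∈ ⋃ C ∈ S, (C : Set X) := by
      rw [hSZ] at hx
      rw [← hSfin.coe_toFinset, ← Finset.sup_id_eq_sSup, ← SetLike.mem_coe, Closeds.coe_finset_sup] at hx
      simpa using hx
    obtain ⟨C, hC, hxC⟩ := Set.mem_iUnion₂.1 hx'
    rw [← hTs ⟨C, hC⟩ x hxC]
    exact Submodule.span_mono fun v ⟨p, hp, hv⟩ => ⟨p, Set.mem_iUnion.2 ⟨_, hp⟩, hv⟩
  · push Not at hlt
    obtain ⟨C, hC, hCZ⟩ := hlt
    have hle : C ≤ Z := hSZ ▸ le_sSup hC
    have hCeq : C = Z := hle.eq_of_not_lt hCZ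
    subst hCeq
    have hirr : IsIrreducible (C : Set X) := hSirr C hC
    obtain ⟨η, hη⟩ := QuasiSober.sober hirr C.isClosed
    haveI : IsNoetherian (X.presheaf.stalk η) ((Coh.structureModule X).presheaf.stalk η) := by
      obtain ⟨U, hU, hηU, -⟩ := exists_isAffineOpen_mem_and_subset (show η ∈ (⊤ : X.Opens) from trivial)
      haveI : Module.Finite (X.presheaf.stalk η) ((Coh.structureModule X).presheaf.stalk η) := by
        refine ⟨⟨{(Coh.structureModule X).presheaf.germ U η hηU (1 : Γ(X, U))}, ?_⟩⟩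
        rw [Finset.coe_singleton, eq_top_iff]
        intro v _
        obtain ⟨f, t, hf, hft⟩ := StalkLoc.Basic.exists_smul_eq_germ hU hηU v
        rw [← Submodule.smul_mem_iff_of_isUnit _ ((X.mem_basicOpen f η hηU).1 hf), hft]
        have h1 := Modules.StalkModule.germ_smul (M := Coh.structureModule X) hηU
          (show Γ(X, U) from t) (1 : Γ(X, U))
        rw [show (show Γ(X, U) from t) • (show Γ(Coh.structureModule X, U) from (1 : Γ(X, U))) = t from
          mul_one (show Γ(X, U) from t)] at h1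
        rw [h1]
        exact Submodule.smul_mem _ _ (Submodule.subset_span rfl)
      exact inferInstance
    have hfg : (⊤ : Submodule (X.presheaf.stalk η) (G.presheaf.stalk η)).FG := by
      haveI : IsNoetherian (X.presheaf.stalk η) (G.presheaf.stalk η) :=
        isNoetherian_of_injective (Modules.StalkModule.stalkMapₗ ι η)
          ((Modules.StalkModule.mono_iff_stalkMapₗ_injective ι).1 ‹_› η)
      exact IsNoetherian.noetherian _
    obtain ⟨n, g, hg⟩ := Submodule.fg_iff_exists_fin_generating_family.1 hfg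
    have hrep : ∀ i, ∃ (W : X.Opens) (hW : η ∈ W) (s : Γ(G, W)), G.presheaf.germ W η hW s = g i :=
      fun i => TopCat.Presheaf.exists_germ_eq G.presheaf (g i)
    choose W hW s hs using hrep
    obtain ⟨U, hU, hηU, hUW⟩ := exists_isAffineOpen_mem_and_subset
      (show η ∈ (Finset.univ.inf W : X.Opens) by
        rw [← SetLike.mem_coe, TopologicalSpace.Opens.coe_finset_inf]
        simp [hW])
    haveI : IsNoetherianRing Γ(X, U) := IsLocallyNoetherian.component_noetherian ⟨U, hU⟩
    haveI : IsNoetherian Γ(X, U) Γ(Coh.structureModule X, U) := inferInstanceAs (IsNoetherian Γ(X, U) Γ(X, U))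
    have hUWi : ∀ i, U ≤ W i := fun i => le_trans hUW (Finset.inf_le (Finset.mem_univ i))
    let sU : Fin n → Γ(G, U) := fun i => G.presheaf.map (homOfLE (hUWi i)).op (s i)
    obtain ⟨a, haη, ha⟩ := exists_generators_near ι hU hηU sU (by
      simp only [sU, TopCat.Presheaf.germ_res_apply, hs]
      exact hg)
    let Z' : Closeds X := C ⊓ ⟨((X.basicOpen a : X.Opens) : Set X)ᶜ, (X.basicOpen a).2.isClosed_compl⟩
    obtain ⟨T, hT, hTs⟩ := ih Z' (lt_of_le_of_ne inf_le_left fun e =>
      (e ▸ hη.mem : η ∈ Z').2 haη)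
    refine ⟨T ∪ Set.range fun i => ⟨U, sU i⟩, hT.union (Set.finite_range _), fun x hx => top_le_iff.1 ?_⟩
    by_cases hxa : x ∈ X.basicOpen a
    · rw [← ha x hxa (hη.specializes hx)]
      refine Submodule.span_mono ?_
      rintro _ ⟨i, rfl⟩
      exact ⟨⟨U, sU i⟩, Or.inr ⟨i, rfl⟩, X.basicOpen_le a hxa, rfl⟩
    · rw [← hTs x ⟨hx, hxa⟩]
      exact Submodule.span_mono fun v ⟨p, hp, hv⟩ => ⟨p, Or.inl hp, hv⟩

end Groth.Agent.S11167

namespace Groth.Agent.S11167

/-- Let X be a Noetherian scheme and G ⟶ O_X a sub-O_X-module of the structure sheaf (a sheaf of ideals,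
not necessarily quasi-coherent). Then there are finitely many opens U_i of X and finitely many
sections s_{ij} ∈ G(U_i) such that for every point x of X the germs at x of those s_{ij} with x ∈
U_i generate the stalk G_x as an O_{X,x}-module. -/
theorem result {X : Scheme.{u}} [IsNoetherian X]
    (G : X.Modules) (ι : G ⟶ Coh.structureModule X) [Mono ι] :
    ∃ (m : ℕ) (U : Fin m → X.Opens) (k : Fin m → ℕ)
      (s : (i : Fin m) → Fin (k i) → (G.presheaf.obj (Opposite.op (U i)) : Type u)),
      ∀ x : X, Submodule.span (X.presheaf.stalk x)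
          (Set.range (fun p : (Σ i : {i : Fin m // x ∈ U i}, Fin (k i.1)) =>
            (G.presheaf.germ (U p.1.1) x p.1.2) (s p.1.1 p.2))) = ⊤ := by
  obtain ⟨T, hT, hTs⟩ := exists_finite_generators ι ⊤
  haveI := hT.to_subtype
  obtain ⟨m, ⟨e⟩⟩ := Finite.exists_equiv_fin T
  refine ⟨m, fun i => (e.symm i).1.1, fun _ => 1, fun i _ => (e.symm i).1.2, fun x => ?_⟩
  refine top_le_iff.1 ?_
  rw [← hTs x trivial]
  refine Submodule.span_mono ?_
  rintro v ⟨p, hp, hv⟩
  obtain ⟨i, hi⟩ := e.symm.surjective ⟨p, hp⟩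
  obtain rfl : (e.symm i).1 = p := congrArg Subtype.val hi
  obtain ⟨h, rfl⟩ := hv
  exact ⟨⟨⟨i, h⟩, 0⟩, rfl⟩

end Groth.Agent.S11167
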