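import Groth.Statements.S11170
import Groth.Agent.S4471
import Groth.Agent.S0800
import Groth.Agent.Lib.Modules.ToSheaf
import Groth.Agent.Lib.Modules.ProjFormula
import Groth.Agent.Lib.TensorMod.LocFree
import Groth.Agent.Lib.TensorMod.TensorQCoh
import Groth.Agent.Lib.ZarCoh.AffineBC
import Groth.Agent.Lib.QCoh.Tilde
import Groth.Agent.Lib.QCoh.Pushforward
import Mathlib.Algebra.TrivSqZeroExt.Basic
import Mathlib.CategoryTheory.Limits.Constructions.Filtered

set_option autoImplicit false
universe u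
open CategoryTheory CategoryTheory.Limits AlgebraicGeometry
open Coherent

namespace Groth.Agent.S11170

section
open CategoryTheory CategoryTheory.Limits AlgebraicGeometry TopologicalSpace Opposite
open Groth.Agent.Lib

/-- Direct image of a tilde between affine schemes. -/
noncomputable def pushTildeApp {R A : CommRingCat.{u}} (φ : R ⟶ A) (M : ModuleCat.{u} A) :
    (Scheme.Modules.pushforward (Spec.map φ)).obj ((tilde.functor A).obj M) ≅
      (tilde.functor R).obj ((ModuleCat.restrictScalars φ.hom).obj M) :=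
  haveI := QCoh.Tilde.isQCoh_tildeFunctor_obj (R := A) M
  haveI : ((Scheme.Modules.pushforward (Spec.map φ)).obj ((tilde.functor A).obj M)).IsQuasicoherent :=
    QCoh.Pushforward.isQCoh_pushforward (Spec.map φ)
  (QCoh.Tilde.isoTildeSections _).symm ≪≫ (tilde.functor R).mapIso
    ((Functor.isoWhiskerRight (AlgebraicGeometry.pushforwardCompModulesSpecToSheafIso φ)
      (TopCat.Sheaf.forget _ _ ⋙ (evaluation _ _).obj (op ⊤))).app _ ≪≫
      (ModuleCat.restrictScalars φ.hom).mapIso (QCoh.Tilde.sectionsTildeIso.app M).symm)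

/-- A module is a retract of a ring over it. -/
theorem exists_retract_module {R : CommRingCat.{u}} (N : ModuleCat.{u} R) :
    ∃ (A : CommRingCat.{u}) (φ : R ⟶ A) (a : N ⟶ (ModuleCat.restrictScalars φ.hom).obj (ModuleCat.of A A))
      (b : (ModuleCat.restrictScalars φ.hom).obj (ModuleCat.of A A) ⟶ N), a ≫ b = 𝟙 N := by
  let : Module (R : Type u)ᵐᵒᵖ N := Module.compHom N ((RingHom.id (R : Type u)).fromOpposite mul_comm)
  haveI : IsCentralScalar (R : Type u) N := ⟨fun _ _ => rfl⟩
  let A : CommRingCat.{u} := CommRingCat.of (TrivSqZeroExt R N)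
  let φ : R ⟶ A := CommRingCat.ofHom (algebraMap R (TrivSqZeroExt R N))
  let M' := (ModuleCat.restrictScalars φ.hom).obj (ModuleCat.of A A)
  have hsm : ∀ (r : R) (x : TrivSqZeroExt R N), φ.hom r * x = r • x := fun r x => by
    rw [Algebra.smul_def]; rfl
  let a₀ : N ⟶ M' := ModuleCat.ofHom (X := N) (Y := M')
    { toFun := fun m => (TrivSqZeroExt.inr m : TrivSqZeroExt R N)
      map_add' := fun m m' => TrivSqZeroExt.inr_add _ m m'
      map_smul' := fun r m => (TrivSqZeroExt.inr_smul _ r m).trans (hsm r _).symm }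
  let b₀ : M' ⟶ N := ModuleCat.ofHom (X := M') (Y := N)
    { toFun := fun x => TrivSqZeroExt.snd (show TrivSqZeroExt R N from x)
      map_add' := fun x y => TrivSqZeroExt.snd_add _ _
      map_smul' := fun r x => by
        show TrivSqZeroExt.snd (φ.hom r * (show TrivSqZeroExt R N from x)) = _
        rw [hsm, TrivSqZeroExt.snd_smul]; rfl }
  exact ⟨A, φ, a₀, b₀, ModuleCat.hom_ext (LinearMap.ext fun m => TrivSqZeroExt.snd_inr (R := (R : Type u)) m)⟩

/-- `G` is a direct summand of the direct image of functions on an affine scheme over the base. -/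
theorem exists_retract {R : CommRingCat.{u}} (G : (Spec R).Modules) [G.IsQuasicoherent] :
    ∃ (A : CommRingCat.{u}) (φ : R ⟶ A)
      (a : G ⟶ (Coh.push (Spec.map φ)).obj (Coh.structureModule (Spec A)))
      (b : (Coh.push (Spec.map φ)).obj (Coh.structureModule (Spec A)) ⟶ G), a ≫ b = 𝟙 G := by
  obtain ⟨A, φ, a₀, b₀, h⟩ := exists_retract_module ((QCoh.Tilde.specΓ R).obj G)
  let iso := (Coh.push (Spec.map φ)).mapIso (tildeSelf (R := A)).symm ≪≫ pushTildeApp φ (ModuleCat.of A A)
  let e : (tilde.functor R).obj ((QCoh.Tilde.specΓ R).obj G) ≅ G := QCoh.Tilde.isoTildeSections G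
  exact ⟨A, φ, e.inv ≫ (tilde.functor R).map a₀ ≫ iso.inv,
    iso.hom ≫ (tilde.functor R).map b₀ ≫ e.hom, by
      refine Eq.trans ?_ e.inv_hom_id
      simp only [Category.assoc]
      erw [Iso.inv_hom_id_assoc, ← Functor.map_comp_assoc, h, CategoryTheory.Functor.map_id, Category.id_comp]⟩

/-- Vanishing passes to retracts. -/
theorem subsingleton_retract {X : Scheme.{u}} {A B : X.Modules} (i : A ⟶ B) (p : B ⟶ A) (h : i ≫ p = 𝟙 A)
    (q : ℕ) (hB : Subsingleton (Coh.HH X B q)) : Subsingleton (Coh.HH X A q) := by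
  let F := SheafOfModules.toSheaf X.ringCatSheaf ⋙ Sheaf.functorH _ q
  have hF : F.map i ≫ F.map p = 𝟙 _ := ((F.map_comp i p).symm.trans (congrArg F.map h)).trans (F.map_id A)
  exact @Function.Injective.subsingleton _ _ (F.map i) (Function.LeftInverse.injective
    (g := F.map p) fun x => ConcreteCategory.congr_hom hF x) hB

/-- The vanishing for a pulled back module over an affine base. -/
theorem subsingleton_HH {R : CommRingCat.{u}} (n : ℕ) (G : (Spec R).Modules) [G.IsQuasicoherent] (d : ℤ) (q : ℕ)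
    (h : ¬ ((q = 0 ∧ 0 ≤ d) ∨ (q = n ∧ d ≤ -((n : ℤ) + 1)))) :
    Subsingleton (Coh.HH (CohB1.ProjSpace n R)
      (CohB1.tensorMod ((Scheme.Modules.pullback (CohB1.ProjSpace.toSpec n R)).obj G)
        (Twist.twistProjSpace n R d)) q) := by
  obtain ⟨A, φ, a, b, hab⟩ := exists_retract G
  let T := CohB1.ProjSpace.toSpec n R
  let tw := Twist.twistProjSpace n R d
  let O := (Coh.push (Spec.map φ)).obj (Coh.structureModule (Spec A))
  let g := ProjSpace.BaseChange.projMap n φ.hom
  have sq : IsPullback (CohB1.ProjSpace.toSpec n A) g (Spec.map φ) T :=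
    (ProjSpace.BaseChange.isPullback_projMap n φ.hom).flip
  haveI : IsAffineHom g := MorphismProperty.of_isPullback (P := @IsAffineHom.{u}) sq inferInstance
  haveI : Coh.IsQCoh (Coh.structureModule (Spec A)) := TensorMod.QCohInv.isQCoh_structureModule _
  have := ZarCoh.AffineBC.isIso_bc sq (Coh.structureModule (Spec A))
  obtain ⟨τ⟩ := ProjSpace.TwistBC.nonempty_iso n φ.hom d
  have hD : Modules.DualBasis.HasDBases tw := Modules.DualBasis.hasDBases_of_isFinLocFree
    (TensorMod.LocFree.of_rank (TensorMod.LocFree.of_isInvertible (ProjCoh.Coherent.isInvertible_tw d)))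
  let e : CohB1.tensorMod ((Scheme.Modules.pullback T).obj O) tw ≅
      (Coh.push g).obj (Twist.twistProjSpace n A d) :=
    TensorMod.Basic.tensorIso (asIso (ZarCoh.AffineBC.bc sq (Coh.structureModule (Spec A))) ≪≫
      (Coh.push g).mapIso (_root_.PicLoc.pullbackStructureIso _)) (Iso.refl tw) ≪≫
    TensorMod.Basic.comm _ _ ≪≫
    (Modules.ProjFormula.projIso g hD).app (Coh.structureModule _) ≪≫
    (Coh.push g).mapIso (TensorMod.Basic.rightUnit _ ≪≫ τ)
  haveI : (Twist.twistProjSpace n A d).IsQuasicoherent :=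
    TensorMod.QCohInv.isQCoh_of_isInvertible (ProjCoh.Coherent.isInvertible_tw d)
  have h0 := Groth.Agent.S0844.result A n d q (fun hh => h (Or.inl hh)) (fun hh => h (Or.inr hh))
  have h1 : Subsingleton (Coh.HH _ ((Coh.push g).obj (Twist.twistProjSpace n A d)) q) :=
    @Equiv.subsingleton _ _ (ZarCoh.Morph.affineEquiv g _ q).toEquiv h0
  let i : CohB1.tensorMod ((Scheme.Modules.pullback T).obj G) tw ⟶
      CohB1.tensorMod ((Scheme.Modules.pullback T).obj O) tw :=
    TensorMod.Basic.tmap ((Scheme.Modules.pullback T).map a) (𝟙 tw)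
  let p : CohB1.tensorMod ((Scheme.Modules.pullback T).obj O) tw ⟶
      CohB1.tensorMod ((Scheme.Modules.pullback T).obj G) tw :=
    TensorMod.Basic.tmap ((Scheme.Modules.pullback T).map b) (𝟙 tw)
  have hip : i ≫ p = 𝟙 _ := by
    rw [← TensorMod.Basic.tmap_comp, Category.comp_id, ← Functor.map_comp, hab, CategoryTheory.Functor.map_id]
    exact TensorMod.Basic.tmap_id _ _
  exact subsingleton_retract (i ≫ e.hom) (e.inv ≫ p)
    (by rw [Category.assoc, Iso.hom_inv_id_assoc]; exact hip) q h1

/-- An additive functor commuting with filtered colimits kills a coproduct whose summands it kills. -/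
theorem isZero_sigma {C D : Type*} [Category.{u} C] [Category.{u} D] [Abelian C] [Abelian D] (F : C ⥤ D)
    [F.Additive] {α : Type u} [HasColimitsOfShape (Discrete α) C] [HasColimitsOfShape (Finset (Discrete α)) C]
    [PreservesColimitsOfShape (Finset (Discrete α)) F] (K : α → C)
    (h : ∀ a, IsZero (F.obj (K a))) : IsZero (F.obj (∐ K)) := by
  let L := CoproductsFromFiniteFiltered.liftToFinsetObj (Discrete.functor K)
  let e : ∐ K ≅ colimit L :=
    colimit.isoColimitCocone (CoproductsFromFiniteFiltered.liftToFinsetColimitCocone (Discrete.functor K))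
  refine IsZero.of_iso ?_ (F.mapIso e)
  refine IsColimit.isZero_pt (isColimitOfPreserves F (colimit.isColimit L)) (Functor.isZero _ fun s => ?_)
  refine IsColimit.isZero_pt (isColimitOfPreserves F (colimit.isColimit _)) (Functor.isZero _ ?_)
  rintro ⟨x⟩
  exact h x.1.as

end

/-- Let Y be a locally Noetherian scheme, f : P^n_Y ⟶ Y the projection, G_j quasi-coherent O_Y-modules
and m_j > 0. Then the direct sum L = ∐_j f^*(G_j) ⊗ O(-m_j) has R^i f_*(L) = 0 (higher direct images
of the underlying abelian sheaf) for every i ≠ n. -/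
theorem result (Y : Scheme.{u}) [IsLocallyNoetherian Y]
    (n : ℕ) {ι : Type u} (G : ι → Y.Modules) (hG : ∀ j, Coh.IsQCoh (G j)) (m : ι → ℕ) (hm : ∀ j, 0 < m j)
    (i : ℕ) (hi : i ≠ n) :
    IsZero ((Coh.RpushAb (CohB1.ProjSpaceOver.toBase n Y) i).obj (Coh.toAb
      (∐ fun j => CohB1.tensorMod ((Scheme.Modules.pullback (CohB1.ProjSpaceOver.toBase n Y)).obj (G j))
        (Twist.twistOver n Y (-((m j : ℕ) : ℤ)))))) := by
  let π := CohB1.ProjSpaceOver.toBase n Y
  let M := fun j => CohB1.tensorMod ((Scheme.Modules.pullback π).obj (G j))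
    (Twist.twistOver n Y (-((m j : ℕ) : ℤ)))
  haveI : QuasiCompact π := inferInstance
  haveI : QuasiSeparated π := inferInstance
  haveI := fun J [SmallCategory J] [IsFiltered J] => Groth.Agent.S0800.result π i J
  haveI : PreservesColimitsOfShape (Discrete ι) (SheafOfModules.toSheaf.{u} (CohB1.ProjSpaceOver n Y).ringCatSheaf) :=
    Groth.Agent.Lib.Modules.ToSheaf.toSheaf_preservesColimitsOfShape (R := (CohB1.ProjSpaceOver n Y).ringCatSheaf)
      (Discrete ι)
  refine IsZero.of_iso (isZero_sigma (Coh.RpushAb π i) (fun j => Coh.toAb (M j)) fun j => ?_)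
    ((Coh.RpushAb π i).mapIso (PreservesCoproduct.iso (SheafOfModules.toSheaf _) M))
  have hd : ¬ ((i = 0 ∧ 0 ≤ -((m j : ℕ) : ℤ)) ∨ (i = n ∧ -((m j : ℕ) : ℤ) ≤ -((n : ℤ) + 1))) := by
    rintro (⟨-, h⟩ | ⟨h, -⟩)
    · have := hm j; omega
    · exact hi h
  have hHU : ∀ W ∈ {W : Y.Opens | IsAffineOpen W},
      Subsingleton (CohTop.HU (Coh.toAb (M j)) i (π ⁻¹ᵁ W)) := by
    intro W hW
    obtain ⟨jj, hj, hr, hfst, hbase⟩ := Groth.Agent.S4471.exists_chart n hW
    haveI : Coh.IsQCoh (G j) := hG j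
    let G' := (Scheme.Modules.pullback hW.fromSpec).obj (G j)
    haveI : G'.IsQuasicoherent := Groth.Agent.Lib.QCoh.Pullback.isQCoh_pullback hW.fromSpec (G j)
    obtain ⟨τ⟩ := Groth.Agent.Lib.ProjSpace.TwistBC.nonempty_iso n
      (Groth.Agent.Lib.ProjSpace.BaseChange.ulz Γ(Y, W)) (-((m j : ℕ) : ℤ))
    let ee : (M j).restrict jj ≅ CohB1.tensorMod ((Scheme.Modules.pullback (CohB1.ProjSpace.toSpec n Γ(Y, W))).obj G')
        (Twist.twistProjSpace n Γ(Y, W) (-((m j : ℕ) : ℤ))) :=
      (Scheme.Modules.restrictFunctorIsoPullback jj).app _ ≪≫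
        Groth.Agent.Lib.TensorMod.Pullback.pullbackTensorIso jj _ _ ≪≫
        Groth.Agent.Lib.TensorMod.Basic.tensorIso
          ((Scheme.Modules.pullbackComp jj π).app _ ≪≫ (Scheme.Modules.pullbackCongr hbase).app _ ≪≫
            ((Scheme.Modules.pullbackComp _ _).app _).symm)
          ((Scheme.Modules.pullbackComp jj _).app _ ≪≫ (Scheme.Modules.pullbackCongr hfst).app _ ≪≫ τ)
    haveI : Subsingleton (Coh.HH _ ((M j).restrict jj) i) :=
      @Equiv.subsingleton _ _
        (((Sheaf.functorH _ i).mapIso ((SheafOfModules.toSheaf _).mapIso ee)).addCommGroupIsoToAddEquiv).toEquiv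
        (subsingleton_HH n G' _ i hd)
    have := (Groth.Agent.Lib.ZarCoh.Morph.openEquiv jj (M j) i).symm.toEquiv.subsingleton
    rwa [Scheme.Hom.image_top_eq_opensRange, hr] at this
  exact Groth.Agent.S4471.isZero_Rpush π Y.isBasis_affineOpens i hHU

end Groth.Agent.S11170
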