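import Groth.Statements.S11171
import Groth.Agent.Lib.DMod.GorensteinDual
import Groth.Agent.Lib.DMod.LBC

set_option autoImplicit false
universe u
open CategoryTheory
attribute [local instance] HasDerivedCategory.standard
open Dual

namespace Groth.Agent.S11171
open Groth.Agent.Lib.DMod CategoryTheory.Limits
/-- Over a Noetherian local ring A with residue field k, let R be an object of D(A) whose cohomology
modules are finite and vanish in all sufficiently negative degrees. If there is an integer d such
that the A-module of maps k → R[i] in D(A) is zero for every i ≠ d and is A-linearly isomorphic to k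
for i = d, then R is a dualizing complex for A (finite injective dimension, finite cohomology, and A
→ End(R) bijective with no self-maps of nonzero degree). -/
theorem result (A : Type u) [CommRing A] [IsLocalRing A] [IsNoetherianRing A] (R : Dual.D A) (hfin : ∀ i : ℤ, Module.Finite A (Dual.HD A R i)) (hbdd : ∃ a : ℤ, ∀ i : ℤ, i < a → Subsingleton (Dual.HD A R i)) (d : ℤ) (hvan : ∀ i : ℤ, i ≠ d → Subsingleton (Dual.inD A (IsLocalRing.ResidueField A) ⟶ R⟦i⟧)) (hd : Nonempty ((Dual.inD A (IsLocalRing.ResidueField A) ⟶ R⟦d⟧) ≃ₗ[A] IsLocalRing.ResidueField A)) : Dual.IsDualizing A R := by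
  obtain ⟨e0⟩ := hd
  obtain ⟨a, ha⟩ := hbdd
  let R' := R⟦d⟧
  let k := IsLocalRing.ResidueField A
  let σ : ∀ i, (Dual.inD A k ⟶ R'⟦i⟧) ≃ₗ[A] (Dual.inD A k ⟶ R⟦d + i⟧) := fun i =>
    Linear.homCongr A (Iso.refl _) ((shiftFunctorAdd (Dual.D A) d i).app R).symm
  have hk : ∀ i : ℤ, i ≠ 0 → Subsingleton (Dual.inD A k ⟶ R'⟦i⟧) := fun i hi =>
    have := hvan (d + i) (by lia)
    (σ i).toEquiv.subsingleton
  have hf : ∀ i, Module.Finite A (Dual.HD A R' i) := fun i =>
    have := hfin (d + i)
    Module.Finite.equiv (Basic.HDShift R d i (d + i) rfl).symm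
  have hlo : ∀ i, i < a - d → Subsingleton (Dual.HD A R' i) := fun i hi =>
    have := ha (d + i) (by lia)
    (Basic.HDShift R d i (d + i) rfl).toEquiv.subsingleton
  have hmax : ∀ P : Ideal A, P.IsMaximal → ∀ i : ℤ, 0 < i → Subsingleton (Dual.inD A (A ⧸ P) ⟶ R'⟦i⟧) := fun P hP i hi => by
    rw [IsLocalRing.eq_maximalIdeal hP]
    exact hk i (by lia)
  have hvb := fun J i hi => GorensteinDual.vanish_above_of_maximal (a - d) hlo hf 0 hmax J i hi
  have hR : Conservative.BddFin R' := by
    refine ⟨hf, a - d, 0, fun i hi => ?_⟩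
    rcases hi with hi | hi
    · exact hlo i hi
    · have := hvb ⊥ i hi
      have : Subsingleton (Dual.inD A A ⟶ R'⟦i⟧) := (Linear.homCongr A
        ((DerivedCategory.singleFunctor (ModuleCat.{u} A) 0).mapIso
          (Submodule.quotEquivOfEqBot (⊥ : Ideal A) rfl).toModuleIso) (Iso.refl (R'⟦i⟧))).symm.toEquiv.subsingleton
      exact (Basic.homUnitShiftEquiv R' i).symm.toEquiv.subsingleton
  obtain ⟨a₁, b₁, hfid⟩ := FlatDualizing.exists_fid_of_maximal hR 0 hmax
  obtain ⟨I, hI, hinj, ⟨eI⟩⟩ := InjAmp.hasInjAmplitudeIn_of_quotient (K := R') (a := a₁) (b := b₁)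
    fun J i hi => hfid (A ⧸ J) i hi
  haveI : ∀ n, Injective (I.X n) := fun n =>
    have := hinj n
    Module.injective_object_of_injective_module A (I.X n)
  haveI : I.IsStrictlyGE a₁ := (CochainComplex.isStrictlyGE_iff _ _).2 fun q hq => hI q (Or.inl hq)
  haveI : I.IsKInjective := CochainComplex.isKInjective_of_injective I a₁
  let Q := DerivedCategory.Q.obj I
  let eI' : Q ≅ R' := eI
  have hkQ : ∀ i : ℤ, i ≠ 0 → Subsingleton (Dual.inD A k ⟶ Q⟦i⟧) := fun i hi =>
    have := hk i hi
    (Iso.homCongr (Iso.refl _) ((CategoryTheory.shiftFunctor (Dual.D A) i).mapIso eI')).subsingleton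
  have hkQ0 : Nonempty ((Dual.inD A k ⟶ Q) ≃ₗ[A] k) := ⟨(Linear.homCongr A (Iso.refl _) eI').trans e0⟩
  have hQ : Conservative.BddFin Q := Conservative.bddFin_of_iso eI'.symm hR
  have hg := GorensteinDual.goodModule_finite' I hI hQ hkQ hkQ0 A
  let u := Biduality.ev I (ModuleCat.of A A) (1 : A)
  haveI : IsIso u := by
    have : ∀ n, IsIso (u.f n) := fun n => by
      refine (ConcreteCategory.isIso_iff_bijective _).2 ⟨fun x y h => ?_, fun x => ?_⟩
      · exact ModuleCat.hom_ext (LinearMap.ext_ring h)
      · exact ⟨ModuleCat.ofHom (LinearMap.toSpanSingleton A _ x), one_smul A x⟩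
    exact HomologicalComplex.Hom.isIso_of_components _
  let e : Biduality.D I (ModuleCat.of A A) ≅ Q := DerivedCategory.Q.mapIso (asIso u)
  have hQd : Dual.IsDualizing A Q :=
    { isNoetherianRing := inferInstance
      finite_injective_dimension := ⟨a₁, b₁, fun M _ _ i hi =>
        have := hfid M i hi
        (Iso.homCongr (Iso.refl _) ((CategoryTheory.shiftFunctor (Dual.D A) i).mapIso eI')).subsingleton⟩
      finite_cohomology := hQ.1
      toEnd_bijective := by
        refine FlatHom.bij_congr ((Linear.homCongr A e (Iso.refl Q)).bijective.comp hg.bij) fun r => ?_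
        have hr : Biduality.evD I (ModuleCat.of A A) r = r • Biduality.evD I (ModuleCat.of A A) (1 : A) :=
          (congrArg _ (mul_one r).symm).trans (map_smul _ r (1 : A))
        show Linear.homCongr A e (Iso.refl Q) (Biduality.evD I (ModuleCat.of A A) r) = _
        rw [hr]
        simp [Linear.homCongr_apply, e, Biduality.evD, u, Q]
      ext_self_subsingleton := fun i hi =>
        have := hg.vanish i hi
        (Iso.homCongr e.symm (Iso.refl _)).subsingleton }
  exact LBC.isDualizing_of_iso ((CategoryTheory.shiftFunctor (Dual.D A) (-d)).mapIso eI' ≪≫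
    (shiftFunctorCompIsoId (Dual.D A) d (-d) (add_neg_cancel d)).app R) (Gorenstein.isDualizing_shift hQd (-d))

end Groth.Agent.S11171
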