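import Groth.Statements.S11175
import Groth.Agent.Lib.LCFin.Gorenstein
-- import your own Groth.Agent.* helpers here

set_option autoImplicit false
universe u
open CategoryTheory
open Goren

namespace Groth.Agent.S11175

/-- A Noetherian local ring A with maximal ideal m is Gorenstein (A has finite injective dimension as a
module over itself) if and only if there is a natural number d such that the local cohomology
modules H^i_m(A) (direct limits of Ext^i(A/m^n, A)) vanish for all i ≠ d and H^d_m(A) is an
injective A-module. -/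
theorem result (A : Type u) [CommRing A] [IsLocalRing A] [IsNoetherianRing A] : LocCoh.IsGorensteinLocalRing A ↔ ∃ d : ℕ, (∀ i : ℕ, i ≠ d → Subsingleton (LocCoh.H (IsLocalRing.maximalIdeal A) i A)) ∧ Module.Injective A (LocCoh.H (IsLocalRing.maximalIdeal A) d A) := by
  refine ⟨fun h => ?_, fun ⟨d, hvan, hinj⟩ =>
    Groth.Agent.Lib.LCFin.Gorenstein.isGorensteinLocalRing_of_H d A hvan hinj⟩
  obtain ⟨n, hn⟩ := LocCoh.IsGorensteinLocalRing.exists_hasInjectiveDimensionLT (A := A)
  obtain ⟨d, hd, -, hCM, -⟩ := Groth.Agent.Lib.Goren.Basic.exists_dim hn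
  refine ⟨d, fun i hi => ?_, ?_⟩
  · rcases Nat.lt_or_ge i d with h | h
    · exact Groth.Agent.Lib.LCFin.Gorenstein.subsingleton_H_of_lt hd h
    · exact Groth.Agent.Lib.LCFin.Cd.cdLE_of_ringKrullDim _ d hd.le A i (by omega)
  · obtain ⟨g, hg⟩ := Groth.Agent.Lib.LCFin.Gorenstein.exists_isInjectiveHull A d hd
    exact hg.isInjective


end Groth.Agent.S11175
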