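import Groth.Statements.S11176
import Groth.Agent.Lib.DMod.LocalDuality
import Groth.Agent.Lib.InjHull.Complete
import Groth.Agent.Lib.LCFin.CanonBasic
import Mathlib.RingTheory.Finiteness.Small
import Mathlib.RingTheory.AdicCompletion.AsTensorProduct

set_option autoImplicit false
universe u
open CategoryTheory
attribute [local instance] HasDerivedCategory.standard
open Dual

namespace Groth.Agent.S11176
open Groth.Agent.Lib.DMod
open Groth.Agent.Lib
/-- Let A be a Noetherian local ring with maximal ideal m and residue field k, ω a normalized dualizing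
complex (maps k → ω[i] in D(A) vanish for i ≠ 0), k → E an injective hull of k, and M a finite
A-module. For every natural number i the m-adic completion of the A-module of maps M → ω[−i] in D(A)
is A-linearly isomorphic to Hom_A(H^i_m(M), E), where H^i_m(M) is the local cohomology module
(direct limit of Ext^i(A/m^n, M)). Existence of an isomorphism only; A is not assumed complete. (The
published statement gives an isomorphism of modules over the completion of A; this row asks only for
an A-linear isomorphism.) -/
theorem result (A : Type u) [CommRing A] [IsLocalRing A] [IsNoetherianRing A] (ω : Dual.D A) (hω : Dual.IsDualizing A ω) (hn : Dual.IsNormalized A ω) (E : Type u) [AddCommGroup E] [Module A E] (f : IsLocalRing.ResidueField A →ₗ[A] E) (hf : InjHull.IsInjectiveHull f) (M : Type u) [AddCommGroup M] [Module A M] [Module.Finite A M] (i : ℕ) : Nonempty (AdicCompletion (IsLocalRing.maximalIdeal A) (Dual.inD A M ⟶ ω⟦(-(i : ℤ))⟧) ≃ₗ[A] (LocCoh.H (IsLocalRing.maximalIdeal A) i M →ₗ[A] E)) := by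
  let X := Dual.inD A M ⟶ ω⟦(-(i : ℤ))⟧
  let m := IsLocalRing.maximalIdeal A
  haveI : Module.Finite A X := Degree.finite_hom hω M _
  haveI : Small.{u} X := Module.Finite.small.{u} A X
  let sh : Shrink.{u} X ≃ₗ[A] X := Shrink.linearEquiv A X
  haveI : Module.Finite A (Shrink.{u} X) := Module.Finite.equiv sh.symm
  obtain ⟨e⟩ := LocalDuality.nonempty_lc_equiv hω hn hf M i
  let e' : LocCoh.H m i M ≃ₗ[A] (Shrink.{u} X →ₗ[A] E) := e.trans (LinearEquiv.congrLeft E A sh.symm)
  obtain ⟨eE⟩ := InjHull.Complete.nonempty_end_algEquiv (m := m) hf
  exact ⟨(AdicCompletion.congr m sh.symm).restrictScalars A |>.trans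
    (((AdicCompletion.ofTensorProductEquivOfFiniteNoetherian m (Shrink.{u} X)).restrictScalars A).symm.trans
      ((TensorProduct.congr eE.symm.toLinearEquiv (LinearEquiv.refl A (Shrink.{u} X))).trans
        ((LinearEquiv.ofBijective _ (LCFin.CanonBasic.ev_bijective E hf.isInjective (Shrink.{u} X))).trans
          (LinearEquiv.congrLeft E A e'.symm))))⟩

end Groth.Agent.S11176
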