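import Groth.Statements.S11178
import Groth.Agent.Lib.DMod.BidualityCx
import Groth.Agent.Lib.DMod.LBC
import Groth.Agent.Lib.DMod.HomInjFlat

set_option autoImplicit false
universe u
open CategoryTheory
attribute [local instance] HasDerivedCategory.standard
open Dual

namespace Groth.Agent.S11178
open Groth.Agent.Lib.DR Groth.Agent.Lib.DMod CategoryTheory.Limits
/-- The affine form: let A be a Noetherian ring with a dualizing complex ω, and G a cochain complex of
A-modules whose cohomology modules are finite and vanish outside a bounded range of degrees, with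
RHom_A(G, −) existing as a total right derived functor. Then G has finite Tor-dimension (G is
isomorphic in D(A) to a bounded complex of flat modules) if and only if RHom_A(G, ω) has finite
injective dimension (is isomorphic in D(A) to a bounded complex of injective modules). -/
theorem result (A : Type u) [CommRing A] [IsNoetherianRing A] (ω : Dual.D A) (hω : Dual.IsDualizing A ω) (G : DRing.Cx A) [DRing.HasRHomCx G] (hfin : ∀ i : ℤ, Module.Finite A (Dual.HD A (DRing.toD G) i)) (hbdd : ∃ a b : ℤ, ∀ i : ℤ, (i < a ∨ b < i) → Subsingleton (Dual.HD A (DRing.toD G) i)) : DRing.HasFiniteTorDimCx A (DRing.toD G) ↔ DRing.HasFiniteInjDim A ((DRing.RHomCx G).obj ω) := by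
  obtain ⟨I, a, b, hI, hinj, ⟨e⟩⟩ := Biduality.exists_complex hω
  haveI := hinj
  haveI : I.IsStrictlyGE a := (CochainComplex.isStrictlyGE_iff _ _).2 fun q hq => hI q (Or.inl hq)
  haveI : I.IsKInjective := CochainComplex.isKInjective_of_injective I a
  have hIi : ∀ n, Module.Injective A (I.X n) := fun n => Module.injective_module_of_injective_object A (I.X n)
  have hω' : Dual.IsDualizing A (DerivedCategory.Q.obj I) := LBC.isDualizing_of_iso e.symm hω
  obtain ⟨r⟩ := BidualityCx.nonempty_RHomCx_kinj G I
  let eK : (DRing.RHomCx G).obj ω ≅ DerivedCategory.Q.obj (DRing.homCx G I) :=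
    (DRing.RHomCx G).mapIso e.symm ≪≫ r
  constructor
  · rintro ⟨c, d, F, hF, hFf, ⟨eF⟩⟩
    let P := (KProjRes.res A).obj G
    let q : P ⟶ G := (KProjRes.aug A).app G
    haveI : QuasiIso q := KProjRes.quasiIso_aug A G
    haveI : P.IsKProjective := KProjRes.isKProjective_res A G
    obtain ⟨g, hg⟩ := Basic.exists_Q_map_eq (E := P) (DerivedCategory.Q.map q ≫ eF.inv)
    haveI : QuasiIso g := by
      rw [← DerivedCategory.isIso_Q_map_iff_quasiIso, hg]
      infer_instance
    have h1 := RHomRes.isIso_precomp q I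
    have h2 := RHomRes.isIso_precomp g I
    exact ⟨a - d, b - c, DRing.homCx F I, HomInjFlat.isZero_homCx_X F I hF hI,
      HomInjFlat.injective_homCx_X F I hF hFf hIi,
      ⟨(@asIso _ _ _ _ _ h2) ≪≫ (@asIso _ _ _ _ _ h1).symm ≪≫ eK.symm⟩⟩
  · rintro ⟨c, d, J, hJ, hJi, ⟨eJ⟩⟩
    haveI : ∀ n, Injective (J.X n) := fun n =>
      have := hJi n
      Module.injective_object_of_injective_module A (J.X n)
    haveI : J.IsStrictlyGE c := (CochainComplex.isStrictlyGE_iff _ _).2 fun q hq => hJ q (Or.inl hq)
    haveI : J.IsKInjective := CochainComplex.isKInjective_of_injective J c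
    obtain ⟨g, hg⟩ := EvalHom.exists_Q_map_eq_injective (E := DRing.homCx G I) (K := J)
      (eK.symm ≪≫ eJ.symm).hom
    haveI : QuasiIso g := by
      rw [← DerivedCategory.isIso_Q_map_iff_quasiIso, hg]
      infer_instance
    have h1 := RHomRes.isIso_precomp g I
    have h2 := (DerivedCategory.isIso_Q_map_iff_quasiIso _ _).2 (BidualityCx.quasiIso_bd I hI hω' G hfin)
    exact ⟨a - d, b - c, DRing.homCx J I, HomInjFlat.isZero_homCx_X J I hJ hI,
      HomInjFlat.flat_homCx_X J I hJ hJi hIi,
      ⟨(@asIso _ _ _ _ _ h1) ≪≫ (@asIso _ _ _ _ _ h2).symm⟩⟩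

end Groth.Agent.S11178
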