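import Groth.Statements.S11179
import Groth.Agent.Lib.Goren.Basic
import Groth.Agent.Lib.DMod.Basic
import Mathlib.Algebra.Homology.DerivedCategory.FullyFaithful
import Mathlib.Algebra.Homology.DerivedCategory.Linear
-- import your own Groth.Agent.* helpers here

set_option autoImplicit false
universe u
open CategoryTheory
attribute [local instance] HasDerivedCategory.standard
open Goren

namespace Groth.Agent.S11179

/-- A Noetherian local ring A is Gorenstein (A has finite injective dimension as a module over itself)
if and only if the complex A[0] is a dualizing complex for A (finite injective dimension expressed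
by vanishing of maps M[0] → A[i] in D(A) outside a bounded range, finite cohomology, A → End(A[0])
bijective and no self-maps of nonzero degree). -/
theorem result (A : Type u) [CommRing A] [IsLocalRing A] [IsNoetherianRing A] : LocCoh.IsGorensteinLocalRing A ↔ Dual.IsDualizing A (Dual.inD A A) := by
  open Groth.Agent.Lib CategoryTheory in
  constructor
  · intro h
    obtain ⟨n, hn⟩ := h.exists_hasInjectiveDimensionLT
    refine { isNoetherianRing := inferInstance, finite_injective_dimension := ⟨0, n, ?_⟩,
             finite_cohomology := DMod.Basic.finite_HD_inD A, toEnd_bijective := ?_,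
             ext_self_subsingleton := ?_ }
    · intro M _ _ i hi
      rcases hi with hi | hi
      · exact DMod.Basic.subsingleton_hom_inD_neg M A hi
      · obtain ⟨j, rfl⟩ := Int.eq_ofNat_of_zero_le (show 0 ≤ i by omega)
        have := HasInjectiveDimensionLT.subsingleton (ModuleCat.of A A) n j (by omega) (ModuleCat.of A M)
        exact (DMod.Basic.extEquiv M A j).toEquiv.symm.subsingleton
    · have h1 : Function.Bijective (fun a : A => a • 𝟙 (ModuleCat.of A A)) := by
        refine ⟨fun a b hab => ?_, fun g => ⟨g.hom (1 : A), ?_⟩⟩
        · simpa using congrArg (fun g : ModuleCat.of A A ⟶ ModuleCat.of A A => g.hom (1 : A)) hab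
        · refine ModuleCat.hom_ext (LinearMap.ext_ring ?_)
          simp
      have h2 : Function.Bijective ((DerivedCategory.singleFunctor (ModuleCat.{u} A) 0).map :
          (ModuleCat.of A A ⟶ ModuleCat.of A A) → _) :=
        (Functor.FullyFaithful.ofFullyFaithful _).map_bijective _ _
      have heq : ((DerivedCategory.singleFunctor (ModuleCat.{u} A) 0).map ∘
        fun a : A => a • 𝟙 (ModuleCat.of A A)) = fun a : A => a • 𝟙 (Dual.inD A A) := funext fun a => by
        simp only [Function.comp_apply, Functor.map_smul, CategoryTheory.Functor.map_id]
      exact heq ▸ h2.comp h1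
    · intro i hi
      rcases lt_or_gt_of_ne hi with hi | hi
      · exact DMod.Basic.subsingleton_hom_inD_neg A A hi
      · obtain ⟨j, rfl⟩ := Int.eq_ofNat_of_zero_le hi.le
        obtain ⟨k, rfl⟩ := Nat.exists_eq_succ_of_ne_zero (show j ≠ 0 by omega)
        have : Subsingleton (Abelian.Ext.{u} (ModuleCat.of A A) (ModuleCat.of A A) (k + 1)) :=
          subsingleton_of_forall_eq 0 fun e => e.eq_zero_of_projective
        exact (DMod.Basic.extEquiv A A (k + 1)).toEquiv.symm.subsingleton
  · intro h
    obtain ⟨a, b, hab⟩ := h.finite_injective_dimension
    refine Goren.Basic.isGorensteinLocalRing_iff_ext.mpr ⟨b.toNat + 1, fun i hi => ?_⟩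
    have := hab (IsLocalRing.ResidueField A) (i : ℤ) (Or.inr (by omega))
    exact (DMod.Basic.extEquiv (IsLocalRing.ResidueField A) A i).toEquiv.subsingleton


end Groth.Agent.S11179
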