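import Groth.Statements.S11182
import Groth.Agent.Lib.DR.TopTensor
import Groth.Agent.Lib.DR.Coherent
import Groth.Agent.Lib.DR.TensorBdd
import Groth.Prelude.Def_DTen

set_option autoImplicit false
universe u
open CategoryTheory
attribute [local instance] HasDerivedCategory.standard
open Dual

namespace Groth.Agent.S11182
open Groth.Agent.Lib.DR Groth.Agent.Lib.DR.FiniteComplex CategoryTheory.Limits
/-- Let A be a Noetherian local ring, L an object of D(A) and E a cochain complex of A-modules, each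
with finite cohomology modules which vanish in all sufficiently large degrees (bounded above), and
assume the total left derived functor − ⊗^L_A E exists on D(A). If L ⊗^L_A E is isomorphic in D(A)
to A placed in degree zero, then there is an integer n with L ≅ A[n] and E ≅ A[−n] in D(A). (The
published statement is for a connected locally Noetherian scheme, concluding that L is a shifted
invertible sheaf; this row is the local case to which its proof reduces.) -/
theorem result (A : Type u) [CommRing A] [IsLocalRing A] [IsNoetherianRing A] (L : Dual.D A) (E : DRing.Cx A) [DRing.HasLTensorCx A E] (hLfin : ∀ i : ℤ, Module.Finite A (Dual.HD A L i)) (hLbdd : ∃ b : ℤ, ∀ i : ℤ, b < i → Subsingleton (Dual.HD A L i)) (hEfin : ∀ i : ℤ, Module.Finite A (Dual.HD A (DRing.toD E) i)) (hEbdd : ∃ b : ℤ, ∀ i : ℤ, b < i → Subsingleton (Dual.HD A (DRing.toD E) i)) (h : Nonempty ((DRing.LTensorCx A E).obj L ≅ Dual.inD A A)) : ∃ n : ℤ, Nonempty (L ≅ (Dual.inD A A)⟦n⟧) ∧ Nonempty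 (DRing.toD E ≅ (Dual.inD A A)⟦(-n)⟧) := by
  classical
  have rep : ∀ (X : Dual.D A), (∀ i, Module.Finite A (Dual.HD A X i)) → ∀ b,
      (∀ i, b < i → Subsingleton (Dual.HD A X i)) →
      ∃ F : DRing.Cx A, (∀ i, b < i → IsZero (F.X i)) ∧ (∀ i, PseudoCoherent.ff A (F.X i)) ∧
        Nonempty (DerivedCategory.Q.obj F ≅ X) := by
    intro X hX b hb
    have hle : X.IsLE b := (PseudoCoherent.isLE_iff_subsingleton X b).2 hb
    obtain ⟨F, hF, hp, e⟩ := Representative.ba_ff_of_forall (fun m =>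
      (Coherent.pcn_iff Coherent.isCoh_of_isNoetherianRing hle m).2
        ⟨hX m, fun i _ => have := hX i; Module.finitePresentation_of_finite _ _⟩) hle
    exact ⟨F, hF, hp, e⟩
  obtain ⟨eh⟩ := h
  have key : ∀ b c (F G : DRing.Cx A), (∀ i, b < i → IsZero (F.X i)) → (∀ i, c < i → IsZero (G.X i)) →
      (∀ i, PseudoCoherent.ff A (G.X i)) → Nonempty (DerivedCategory.Q.obj F ≅ L) →
      Nonempty (DerivedCategory.Q.obj G ≅ DRing.toD E) →
      (∀ i, i ≠ 0 → (Groth.Agent.Lib.TensorCx.Basic.tens F G).ExactAt i) ∧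
        Nonempty ((Groth.Agent.Lib.TensorCx.Basic.tens F G).homology 0 ≃ₗ[A] A) ∧ 0 ≤ b + c := by
    intro b c F G hF hG hGp ⟨eF⟩ ⟨eG⟩
    haveI := isKProjective_of_bounds PseudoCoherent.projective_of_ff hG hGp
    obtain ⟨eT⟩ := LTensorCx.nonempty_iso_tensor E (KFlat.isKFlat_of_isKProjective G) eF eG
    let T := Groth.Agent.Lib.TensorCx.Basic.tens F G
    let e : DerivedCategory.Q.obj T ≅ Dual.inD A A := eT.symm ≪≫ eh
    have h0 : T.homology 0 ≅ ModuleCat.of A A := (Basic.homologyQIso T 0).symm ≪≫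
      (DerivedCategory.homologyFunctor _ 0).mapIso e ≪≫
      (DerivedCategory.singleFunctorCompHomologyFunctorIso _ 0).app (ModuleCat.of A A)
    refine ⟨fun i hi => ?_, ⟨h0.toLinearEquiv⟩, ?_⟩
    · rw [HomologicalComplex.exactAt_iff_isZero_homology]
      refine IsZero.of_iso ?_ ((Basic.homologyQIso T i).symm ≪≫ (DerivedCategory.homologyFunctor _ i).mapIso e)
      rcases lt_or_gt_of_ne hi with h | h
      · exact DerivedCategory.isZero_of_isGE _ 0 i h
      · exact DerivedCategory.isZero_of_isLE _ 0 i h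
    · by_contra hne
      have hz := TensorBdd.isZero_tens_above F G hF hG 0 (by lia)
      obtain ⟨q⟩ := TopTensor.nonempty_homology_equiv T (-1) 0 1 (by lia) rfl
        (TensorBdd.isZero_tens_above F G hF hG 1 (by lia))
      haveI := ModuleCat.subsingleton_of_isZero hz
      haveI := (q.symm.trans h0.toLinearEquiv).toEquiv.symm.subsingleton
      exact not_subsingleton A inferInstance
  obtain ⟨b₁, hb₁⟩ := hLbdd
  obtain ⟨c₁, hc₁⟩ := hEbdd
  obtain ⟨F₁, hF₁, -, eF₁⟩ := rep L hLfin b₁ hb₁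
  obtain ⟨G₁, hG₁, hG₁p, eG₁⟩ := rep _ hEfin c₁ hc₁
  obtain ⟨b, hb, hbmin⟩ := Int.exists_least_of_bdd (P := fun b => ∀ i, b < i → Subsingleton (Dual.HD A L i))
    ⟨-c₁, fun z hz => by
      obtain ⟨F, hF, -, eF⟩ := rep L hLfin z hz
      have := (key z c₁ F G₁ hF hG₁ hG₁p eF eG₁).2.2
      lia⟩ ⟨b₁, hb₁⟩
  obtain ⟨c, hc, hcmin⟩ := Int.exists_least_of_bdd (P := fun c => ∀ i, c < i → Subsingleton (Dual.HD A (DRing.toD E) i))
    ⟨-b₁, fun z hz => by
      obtain ⟨G, hG, hGp, eG⟩ := rep _ hEfin z hz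
      have := (key b₁ z F₁ G hF₁ hG hGp eF₁ eG).2.2
      lia⟩ ⟨c₁, hc₁⟩
  obtain ⟨F, hF, hFp, ⟨eF⟩⟩ := rep L hLfin b hb
  obtain ⟨G, hG, hGp, ⟨eG⟩⟩ := rep _ hEfin c hc
  have qF : ∀ i, F.homology i ≅ (DerivedCategory.homologyFunctor _ i).obj L := fun i =>
    (Basic.homologyQIso F i).symm ≪≫ (DerivedCategory.homologyFunctor _ i).mapIso eF
  have qG : ∀ i, G.homology i ≅ (DerivedCategory.homologyFunctor _ i).obj (DRing.toD E) := fun i =>
    (Basic.homologyQIso G i).symm ≪≫ (DerivedCategory.homologyFunctor _ i).mapIso eG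
  have hFt : ¬ IsZero (F.homology b) := fun hz => by
    have := hbmin (b - 1) fun i hi => by
      rcases eq_or_lt_of_le (show b ≤ i by lia) with rfl | h
      · exact ModuleCat.subsingleton_of_isZero (hz.of_iso (qF _).symm)
      · exact hb i h
    lia
  have hGt : ¬ IsZero (G.homology c) := fun hz => by
    have := hcmin (c - 1) fun i hi => by
      rcases eq_or_lt_of_le (show c ≤ i by lia) with rfl | h
      · exact ModuleCat.subsingleton_of_isZero (hz.of_iso (qG _).symm)
      · exact hc i h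
    lia
  obtain ⟨hT, ⟨e₀⟩, -⟩ := key b c F G hF hG hGp ⟨eF⟩ ⟨eG⟩
  obtain ⟨hbc, hGex, ⟨uG⟩⟩ := TopTensor.exists_shift F G b c hF hG (hFp b).1 (hGp c).1 hFt hGt hT e₀
  let σ := DTen.braidCx F G
  have hT' : ∀ i, i ≠ 0 → (Groth.Agent.Lib.TensorCx.Basic.tens G F).ExactAt i := fun i hi =>
    (hT i hi).of_iso σ
  obtain ⟨-, hFex, ⟨uF⟩⟩ := TopTensor.exists_shift G F c b hG hF (hGp c).1 (hFp b).1 hGt hFt hT'
    ((HomologicalComplex.homologyMapIso σ 0).toLinearEquiv.symm.trans e₀)
  obtain ⟨eL⟩ := TopTensor.nonempty_iso_shift L b (fun i hi => ModuleCat.subsingleton_of_isZero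
    (((HomologicalComplex.exactAt_iff_isZero_homology _ _).1 (hFex i hi)).of_iso (qF i).symm))
    ((qF b).toLinearEquiv.symm.trans uF)
  obtain ⟨eE⟩ := TopTensor.nonempty_iso_shift (DRing.toD E) c (fun i hi => ModuleCat.subsingleton_of_isZero
    (((HomologicalComplex.exactAt_iff_isZero_homology _ _).1 (hGex i hi)).of_iso (qG i).symm))
    ((qG c).toLinearEquiv.symm.trans uG)
  obtain rfl : c = -b := by lia
  exact ⟨-b, ⟨eL⟩, ⟨eE⟩⟩

end Groth.Agent.S11182
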