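import Groth.Statements.S11184
import Groth.Agent.Lib.InjHull.Recognize
import Groth.Agent.Lib.InjHull.Coextend
import Groth.Agent.Lib.LocalCoh.Torsion
-- import your own Groth.Agent.* helpers here

set_option autoImplicit false
universe u
open Matlis

namespace Groth.Agent.S11184

set_option maxHeartbeats 800000 in
/-- Let A be a Noetherian local ring with residue field k, k → E an injective hull of k, and B a finite
A-algebra (a semilocal ring all of whose maximal ideals lie over the maximal ideal of A). Then the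
B-module Hom_A(B, E), with B acting by (b·φ)(b') = φ(bb'), is the internal direct sum over the
maximal ideals n of B of submodules J_n (independent, with supremum everything), where each J_n is
an injective hull over B of the residue field B/n: each hull occurs exactly once. -/
theorem result (A B : Type u) [CommRing A] [IsLocalRing A] [IsNoetherianRing A] [CommRing B] [Algebra A B] [Module.Finite A B] (E : Type u) [AddCommGroup E] [Module A E] (f : IsLocalRing.ResidueField A →ₗ[A] E) (hf : InjHull.IsInjectiveHull f) : ∃ J : MaximalSpectrum B → Submodule B ((ModuleCat.coextendScalars (algebraMap A B)).obj (ModuleCat.of A E)), iSupIndep J ∧ iSup J = ⊤ ∧ ∀ n : MaximalSpectrum B, ∃ g : (B ⧸ n.asIdeal) →ₗ[B] J n, InjHull.IsInjectiveHull g := by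
  classical
  set m := IsLocalRing.maximalIdeal A with hmdef
  haveI hint : Algebra.IsIntegral A B := Algebra.IsIntegral.of_finite A B
  haveI : IsNoetherianRing B := isNoetherianRing_iff.mpr (isNoetherian_of_tower A inferInstance)
  have hcomap : ∀ n : MaximalSpectrum B, n.asIdeal.comap (algebraMap A B) = m := fun n => by
    haveI := n.isMaximal
    exact IsLocalRing.eq_maximalIdeal (Ideal.isMaximal_comap_of_isIntegral_of_isMaximal n.asIdeal)
  have hmax : ∀ P : Ideal B, P.IsPrime → m.map (algebraMap A B) ≤ P → P.IsMaximal := fun P hP hle => by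
    have h1 : m ≤ P.comap (algebraMap A B) := Ideal.map_le_iff_le_comap.mp hle
    have h2 : (P.comap (algebraMap A B)).IsMaximal := by
      rw [← (IsLocalRing.maximalIdeal.isMaximal A).eq_of_le (Ideal.IsPrime.ne_top inferInstance) h1]
      exact IsLocalRing.maximalIdeal.isMaximal A
    exact Ideal.isMaximal_of_isIntegral_of_isMaximal_comap P h2
  have hmin : ∀ n : MaximalSpectrum B, n.asIdeal ∈ (m.map (algebraMap A B)).minimalPrimes := fun n => by
    refine ⟨⟨n.isMaximal.isPrime, Ideal.map_le_iff_le_comap.mpr (hcomap n).ge⟩, fun P hP hPn => ?_⟩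
    exact ((hmax P hP.1 hP.2).eq_of_le n.isMaximal.ne_top hPn).ge
  haveI : Finite (MaximalSpectrum B) := by
    haveI := (Ideal.finite_minimalPrimes_of_isNoetherianRing B (m.map (algebraMap A B))).to_subtype
    exact Finite.of_injective (fun n => (⟨n.asIdeal, hmin n⟩ : (m.map (algebraMap A B)).minimalPrimes))
      fun a b h => MaximalSpectrum.ext (congrArg Subtype.val h)
  haveI := Fintype.ofFinite (MaximalSpectrum B)
  have hco : ∀ a b : MaximalSpectrum B, a ≠ b → a.asIdeal ⊔ b.asIdeal = ⊤ := fun a b hab =>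
    a.isMaximal.coprime_of_ne b.isMaximal fun h => hab (MaximalSpectrum.ext h)
  let C := Groth.Agent.Lib.InjHull.Coextend.Coext A B E
  let J : MaximalSpectrum B → Submodule B C := fun n => DRing.torsionSub n.asIdeal C
  refine ⟨J, fun n => ?_, ?_, fun n => ?_⟩
  · let T : Ideal B := ∏ i ∈ Finset.univ.erase n, i.asIdeal
    have hle : (⨆ i, ⨆ (_ : i ≠ n), J i) ≤ DRing.torsionSub T C := iSup₂_le fun i hi x hx => by
      obtain ⟨k, hk⟩ := hx
      refine ⟨k, fun a ha => hk a (Ideal.pow_right_mono ?_ k ha)⟩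
      exact Ideal.le_of_dvd (Finset.dvd_prod_of_mem _ (Finset.mem_erase.mpr ⟨hi, Finset.mem_univ i⟩))
    refine Disjoint.mono_right hle ?_
    rw [Submodule.disjoint_def]
    rintro x ⟨a, ha⟩ ⟨b, hb⟩
    have hT : n.asIdeal ⊔ T = ⊤ := Ideal.sup_prod_eq_top fun i hi => hco n i (Finset.mem_erase.mp hi).1.symm
    have h1 : (1 : B) ∈ n.asIdeal ^ a ⊔ T ^ b := by rw [Ideal.pow_sup_pow_eq_top hT]; trivial
    obtain ⟨u, hu, v, hv, huv⟩ := Submodule.mem_sup.mp h1
    calc x = (u + v) • x := by rw [huv, one_smul]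
      _ = 0 := by rw [add_smul, ha u hu, hb v hv, add_zero]
  · refine eq_top_iff.mpr fun x _ => ?_
    obtain ⟨k, hk⟩ := Groth.Agent.Lib.InjHull.Coextend.isPowerTorsion_coext (B := B)
      (Groth.Agent.Lib.InjHull.Matlis.isPowerTorsion (m := m) hf.toIsEssentialInj) x
    have hrad : (∏ i : MaximalSpectrum B, i.asIdeal) ≤ (m.map (algebraMap A B)).radical := by
      rw [Ideal.radical_eq_sInf]
      refine le_sInf fun P ⟨hP, hPp⟩ => ?_
      let q : MaximalSpectrum B := ⟨P, hmax P hPp hP⟩
      have h1 : (Finset.univ : Finset (MaximalSpectrum B)).inf (fun i => i.asIdeal) ≤ q.asIdeal :=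
        Finset.inf_le (Finset.mem_univ q)
      exact (Ideal.prod_le_inf (s := (Finset.univ : Finset (MaximalSpectrum B)))
        (f := fun i => i.asIdeal)).trans h1
    obtain ⟨N, hN⟩ := Ideal.exists_pow_le_of_le_radical_of_fg hrad (IsNoetherian.noetherian _)
    have hp : ((Finset.univ : Finset (MaximalSpectrum B)) : Set (MaximalSpectrum B)).Pairwise
        fun i j => i.asIdeal ^ (N * k) ⊔ j.asIdeal ^ (N * k) = ⊤ := fun i _ j _ hij =>
      Ideal.pow_sup_pow_eq_top (hco i j hij)
    have hx : x ∈ ⨆ i ∈ (Finset.univ : Finset (MaximalSpectrum B)),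
        Submodule.torsionBySet B C ((i.asIdeal ^ (N * k) : Ideal B) : Set B) := by
      rw [Submodule.iSup_torsionBySet_ideal_eq_torsionBySet_iInf hp,
        ← Ideal.prod_eq_iInf_of_pairwise_isCoprime (fun i hi j hj hij =>
          Ideal.isCoprime_iff_sup_eq.mpr (hp hi hj hij)), Finset.prod_pow, Submodule.mem_torsionBySet_iff]
      rintro ⟨a, ha⟩
      refine hk a ?_
      rw [pow_mul] at ha
      exact Ideal.pow_right_mono hN k ha
    refine (show _ ≤ iSup J from iSup₂_le fun i _ => ?_) hx
    refine le_trans ?_ (le_iSup J i)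
    intro y hy
    exact ⟨N * k, fun a ha => (Submodule.mem_torsionBySet_iff _ _).mp hy ⟨a, ha⟩⟩
  · haveI := n.isMaximal
    haveI := hf.isInjective
    obtain ⟨g, hg, hsoc⟩ := Groth.Agent.Lib.InjHull.Coextend.exists_socle (B := B) (m := m) hf n.asIdeal
    have hmem : ∀ c, g c ∈ J n := fun c => ⟨1, fun a ha => by
      rw [pow_one] at ha
      obtain ⟨c, rfl⟩ := Ideal.Quotient.mk_surjective c
      rw [← map_smul, Algebra.smul_def, Ideal.Quotient.algebraMap_eq, Ideal.Quotient.eq_zero_iff_mem.mpr ha,
        zero_mul, map_zero]⟩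
    refine ⟨g.codRestrict (J n) hmem, ⟨Groth.Agent.Lib.InjHull.Recognize.isEssentialInj_of_socle_le
      (a := n.asIdeal) (fun _ _ h => hg (congrArg Subtype.val h)) ?_ ?_, ?_⟩⟩
    · rintro ⟨x, k, hk⟩
      exact ⟨k, fun a ha => Subtype.ext (hk a ha)⟩
    · intro x hx
      obtain ⟨c, hc⟩ := hsoc ((Submodule.mem_torsionBySet_iff _ _).mpr fun a =>
        congrArg Subtype.val ((Submodule.mem_torsionBySet_iff _ _).mp hx a))
      exact ⟨c, Subtype.ext hc⟩
    · haveI : Module.Injective B C := Groth.Agent.Lib.InjHull.Coextend.injective_coext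
      exact Groth.Agent.Lib.LocalCoh.injective_torsionSub n.asIdeal C


end Groth.Agent.S11184
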