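import Groth.Statements.S11186
import Groth.Agent.Lib.DMod.SmoothDegree
import Groth.Agent.S11177

set_option autoImplicit false
universe u
open CategoryTheory
attribute [local instance] HasDerivedCategory.standard
open Dual

namespace Groth.Agent.S11186
open Groth.Agent.Lib Groth.Agent.Lib.DMod

/-- Let A be a Noetherian ring, A → B a smooth ring map of relative dimension n, ω a dualizing complex
for A, and q a prime of B lying over the prime p of A, with residue field extension κ(p) ⊆ κ(q) of
transcendence degree t. Assume the derived base change functors from D(A) to D(A_p) and to D(B_q)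
exist. If the module of maps κ(p) → ω_p[d] in D(A_p) is nonzero (so d is the unique such degree, the
codimension value of ω at p), then the module of maps κ(q) → (ω ⊗^L_A B_q)[d − t + n] in D(B_q) is
nonzero: the codimension function of ω ⊗^L_A B at q equals that of ω at p minus the transcendence
degree plus the relative dimension. (The published formula is stated for the base change twisted by
the top relative differentials and shifted by n, where it reads codimension at q = codimension at p
+ transcendence degree; with the convention that the codimension function rises by one under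
immediate specialization, the generic point of the affine line over a field shows that the
transcendence degree must enter with a minus sign, as here.) -/
theorem result (A B : Type u) [CommRing A] [CommRing B] [Algebra A B] [IsNoetherianRing A] (n : ℕ) (hs : FlatCA.SmoothRelDim n A B) (ω : Dual.D A) (hω : Dual.IsDualizing A ω) (p : Ideal A) [p.IsPrime] (q : Ideal B) [q.IsPrime] [hq : q.LiesOver p] [DRing.HasLBaseChange (algebraMap A (Localization.AtPrime p))] [DRing.HasLBaseChange (algebraMap A (Localization.AtPrime q))] (d : ℤ) (hd : Nontrivial (Dual.inD (Localization.AtPrime p) p.ResidueField ⟶ ((DRing.LBaseChange (algebraMap A (Localization.AtPrime p))).obj ω)⟦d⟧)) (t : ℕ) (ht : @Algebra.trdeg p.ResidueField q.ResidueField _ _ (Ideal.ResidueField.mapₐ p q (Algebra.ofId A B) hq.over).toRingHom.toAlgebra = (t : Cardinal.{u})) : Nontrivial (Dual.inD (Localization.AtPrime q) q.ResidueField ⟶ ((DRing.LBaseChange (algebraMap A (Localization.AtPrime q))).obj ω)⟦(d - (t : ℤ) + (n : ℤ))⟧) := by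
  have hsm : Algebra.Smooth A B := by
    haveI := AlgebraicGeometry.SmoothOfRelativeDimension.smooth n
      (AlgebraicGeometry.Spec.map (CommRingCat.ofHom (algebraMap A B)))
    exact RingHom.smooth_algebraMap.1
      ((AlgebraicGeometry.HasRingHomProperty.Spec_iff (P := @AlgebraicGeometry.Smooth)).1 this)
  have : IsNoetherianRing B := Algebra.FiniteType.isNoetherianRing A B
  have : IsNoetherianRing (Localization.AtPrime p) :=
    IsLocalization.isNoetherianRing p.primeCompl _ inferInstance
  have : IsNoetherianRing (Localization.AtPrime q) :=
    IsLocalization.isNoetherianRing q.primeCompl _ inferInstance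
  have : Module.Flat B (Localization.AtPrime q) := IsLocalization.flat _ q.primeCompl
  have : Module.Flat A (Localization.AtPrime p) := IsLocalization.flat _ p.primeCompl
  have : Module.Flat A (Localization.AtPrime q) := Module.Flat.trans A B _
  have := DR.BaseChangeU.hasLBaseChange (algebraMap A B)
  have hω' : Dual.IsDualizing B ((FlatHom.L A B).obj ω) :=
    LBC.isDualizing_of_iso ((FlatHom.isoLBaseChange A B).app ω) (S11177.result A B ω hω)
  obtain ⟨e⟩ := GorFibreGlobal.nonempty_L_comp (B := B) (Localization.AtPrime q) ω
  have hd' := (SmoothDegree.nontrivial_hom_residue_iff hω ⟨p, ‹_›⟩ (C := Localization.AtPrime p)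
    Localization.AtPrime.map_eq_maximalIdeal (PrimeSpectrum.ext Localization.AtPrime.under_maximalIdeal)
    ((FlatHom.isoLBaseChange A (Localization.AtPrime p)).app ω).symm d).1 hd
  refine (SmoothDegree.nontrivial_hom_residue_iff hω' ⟨q, ‹_›⟩ (C := Localization.AtPrime q)
    Localization.AtPrime.map_eq_maximalIdeal (PrimeSpectrum.ext Localization.AtPrime.under_maximalIdeal)
    (e ≪≫ ((FlatHom.isoLBaseChange A (Localization.AtPrime q)).app ω).symm) _).2 ?_
  rw [SmoothDegree.deg_eq hω hω' n hs p ⟨q, ‹_›⟩ hq.over.symm t ht, hd']

end Groth.Agent.S11186
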