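import Groth.Statements.S11187
import Groth.Agent.Lib.DR.TwistInvertible

set_option autoImplicit false
universe u
open CategoryTheory
attribute [local instance] HasDerivedCategory.standard
open Dual

open CategoryTheory.MonoidalCategory
open Groth.Agent.Lib Groth.Agent.Lib.DR Groth.Agent.Lib.DR.TwistInvertible

namespace Groth.Agent.S11187

/-- Let A be a nonzero Noetherian ring, ω a dualizing complex for A, P and P' invertible A-modules
(finite locally free of rank one) and n, n' integers; assume the total left derived functors − ⊗^L_A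
P and − ⊗^L_A P' exist on D(A). If (ω ⊗^L_A P)[n] and (ω ⊗^L_A P')[n'] are isomorphic in D(A), then
n = n' and P is A-linearly isomorphic to P'. (The published statement is for a connected scheme; the
uniqueness does not need connectedness, only that A is nonzero, which is assumed here since over the
zero ring every shift of the zero object is zero.) -/
theorem result (A : Type u) [CommRing A] [IsNoetherianRing A] [Nontrivial A] (ω : Dual.D A) (hω : Dual.IsDualizing A ω) (P P' : Type u) [AddCommGroup P] [Module A P] [Module.Invertible A P] [AddCommGroup P'] [Module A P'] [Module.Invertible A P'] [DRing.HasLTensor A (ModuleCat.of A P)] [DRing.HasLTensor A (ModuleCat.of A P')] (n n' : ℤ) (h : Nonempty (((DRing.LTensor A (ModuleCat.of A P)).obj ω)⟦n⟧ ≅ ((DRing.LTensor A (ModuleCat.of A P')).obj ω)⟦n'⟧)) : n = n' ∧ Nonempty (P ≃ₗ[A] P') := by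
  obtain ⟨h⟩ := h
  let h₁ : ((G A P).obj ω)⟦n⟧ ≅ ((G A P').obj ω)⟦n'⟧ :=
    ((shiftFunctor (Dual.D A) n).mapIso ((isoLTensor A P).app ω)).symm ≪≫ h ≪≫
      (shiftFunctor (Dual.D A) n').mapIso ((isoLTensor A P').app ω)
  let D' := Module.Dual A P'
  let R := TensorProduct A P D'
  let c₁ : (G A D').obj ((G A P).obj ω) ≅ (G A R).obj ω :=
    (compIso (T A P) (T A D') (T A R) (tensorRightTensor (ModuleCat.of A P) (ModuleCat.of A D')).symm).app ω
  let c₂ : (G A D').obj ((G A P').obj ω) ≅ ω := (compIsoId (T A P') (T A D') (unitT A P')).app ω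
  let h₂ : ((G A R).obj ω)⟦n⟧ ≅ ω⟦n'⟧ :=
    ((shiftFunctor (Dual.D A) n).mapIso c₁).symm ≪≫ (((G A D').commShiftIso n).app _).symm ≪≫
      (G A D').mapIso h₁ ≪≫ ((G A D').commShiftIso n').app _ ≪≫ (shiftFunctor (Dual.D A) n').mapIso c₂
  let h₃ : ((G A R).obj ω)⟦n + (-n')⟧ ≅ ω :=
    (shiftFunctorAdd (Dual.D A) n (-n')).app _ ≪≫ (shiftFunctor (Dual.D A) (-n')).mapIso h₂ ≪≫
      (shiftFunctorCompIsoId (Dual.D A) n' (-n') (by lia)).app ω
  have h0 := shift_eq_zero A R hω _ h₃
  refine ⟨by lia, ?_⟩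
  obtain ⟨t⟩ := nonempty_equiv A R hω (((shiftFunctorZero' (Dual.D A) _ h0).app _).symm ≪≫ h₃)
  exact ⟨(TensorProduct.rid A P).symm ≪≫ₗ
    (Module.Invertible.linearEquiv A P').symm.lTensor P ≪≫ₗ
    (TensorProduct.assoc A P D' P').symm ≪≫ₗ t.rTensor P' ≪≫ₗ TensorProduct.lid A P'⟩

end Groth.Agent.S11187
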