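import Groth.Statements.S11188
import Groth.Agent.H1.Obs.Basic

set_option autoImplicit false
universe u
open CategoryTheory MonoidalCategory CartesianMonoidalCategory MonObj GrpObj AlgebraicGeometry
open scoped TensorProduct
open AGF

namespace Groth.Agent.S11188

open Groth.Agent.H1.Obs

/-- (1) ⇔ (2) ⇔ (3): let k be an algebraically closed field, G a linear algebraic group over k (an
affine smooth group scheme over k) and H a closed subgroup of G (a smooth closed subgroup scheme, i
: H → G). The following are equivalent: (i) H is observable in G, i.e. a rational point of G whose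
right translation fixes every right-H-invariant global function on G lies in H; (ii) there are a
finite-dimensional rational G-module V and a vector v in V whose stabiliser, on rational points, is
H; (iii) there are finitely many right-H-invariant global functions on G which separate the cosets
gH: two rational points of G at which they all take the same values differ by right multiplication
by a rational point of H. -/
theorem result (k : Type u) [Field k] [IsAlgClosed k]
    (G : Over (Spec (CommRingCat.of k))) [GrpObj G] [IsAffine G.left] [Smooth G.hom]
    (H : Over (Spec (CommRingCat.of k))) [GrpObj H] [Smooth H.hom] (i : H ⟶ G) [IsMonHom i]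
    [IsClosedImmersion i.left] :
    List.TFAE [
      AGF.IsObservableIn k i,
      ∃ (V : Type u) (_ : AddCommGroup V) (_ : Module k V) (_ : Module.Finite k V) (ρ : VecGrp.GMod G V) (v : V),
        AGF.IsStabOnPts k i ρ v,
      ∃ s : Finset Γ(G.left, ⊤), (∀ f ∈ s, AGF.IsRTransInv i f) ∧
        ∀ g g' : VecGrp.pt k k ⟶ G, (∀ f ∈ s, g.left.appTop f = g'.left.appTop f) →
          ∃ h : VecGrp.pt k k ⟶ H, g' = g * (h ≫ i)] := by
  haveI : IsAffine H.left := isAffine_of_isAffineHom i.left
  tfae_have 2 → 1 := by
    rintro ⟨V, _, _, _, ρ, v, hv⟩
    exact observable_of_stab i ρ v hv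
  tfae_have 1 → 3 := fun h => by
    obtain ⟨s, hs, hsep⟩ := exists_sep_of_observable i h
    exact ⟨s, fun f hf => (isRTransInv_iff i f).mpr (hs f hf), (sep_pt_iff i s).mpr hsep⟩
  tfae_have 3 → 2 := by
    rintro ⟨s, hs, hsep⟩
    obtain ⟨n, ρ, v, hv⟩ := exists_stab_of_sep i s (fun f hf => (isRTransInv_iff i f).mp (hs f hf))
      ((sep_pt_iff i s).mp hsep)
    exact ⟨_, inferInstance, inferInstance, inferInstance, ρ, v, hv⟩
  tfae_finish

end Groth.Agent.S11188
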