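import Groth.Statements.S11192
import Groth.Agent.H1.Obs.Semi
import Groth.Agent.Lib.DescAlg.SmoothNormal

set_option autoImplicit false
universe u
open CategoryTheory MonoidalCategory CartesianMonoidalCategory MonObj GrpObj AlgebraicGeometry
open scoped TensorProduct
open AGF

namespace Groth.Agent.S11192

open Groth.Agent.H1 Groth.Agent.H1.Obs

/-- Let k be an algebraically closed field, G a linear algebraic group over k (an affine smooth group
scheme over k) and H a closed subgroup of G (a smooth closed subgroup scheme, i : H → G), with G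
connected. Then the ring of global functions on G invariant under right translation by H is
integrally closed. -/
theorem result (k : Type u) [Field k] [IsAlgClosed k]
    (G : Over (Spec (CommRingCat.of k))) [GrpObj G] [IsAffine G.left] [Smooth G.hom]
    (H : Over (Spec (CommRingCat.of k))) [GrpObj H] [Smooth H.hom] (i : H ⟶ G) [IsMonHom i]
    [IsClosedImmersion i.left] [ConnectedSpace G.left] :
    IsIntegrallyClosed ↥(AGF.rTransInv i) := by
  haveI : IsAffine H.left := isAffine_of_isAffineHom i.left
  letI := Groth.Agent.Lib.RedPts.Points.baseAlgebra (R := k) (W := G)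
  haveI := GrpIrred.isIntegral G
  haveI : Nonempty (⊤ : G.left.Opens) := ⟨⟨(η[G]).left (IsLocalRing.closedPoint k), trivial⟩⟩
  haveI : Algebra.Smooth k Γ(G.left, ⊤) := by
    refine RingHom.smooth_algebraMap.mp ?_
    exact RingHom.Smooth.respectsIso.2 _ (Scheme.ΓSpecIso (CommRingCat.of k)).commRingCatIsoToRingEquiv.symm
      (HasRingHomProperty.appTop (P := @Smooth) G.hom inferInstance)
  haveI : IsIntegrallyClosed Γ(G.left, ⊤) := IsIntegrallyClosed.of_localization_maximal fun p _ hp => by
    haveI := hp.isPrime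
    exact (Groth.Agent.Lib.DescAlg.SmoothNormal.isNormalRing_of_field k p).2
  set L := AGF.rTransInv i
  refine (isIntegrallyClosed_iff (FractionRing L)).mpr fun {z} hz => ?_
  obtain ⟨a, ⟨b, hb⟩, rfl⟩ := IsLocalization.exists_mk'_eq (nonZeroDivisors L) z
  let g : FractionRing L →+* FractionRing Γ(G.left, ⊤) :=
    IsFractionRing.map (j := L.subtype) Subtype.val_injective
  have hg : ∀ y : L, g (algebraMap L _ y) = algebraMap Γ(G.left, ⊤) _ y.1 := fun y => by simp [g, IsFractionRing.map]
  have hb0 : b.1 ≠ 0 := fun h => nonZeroDivisors.ne_zero hb (Subtype.ext h)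
  have hzg : IsIntegral Γ(G.left, ⊤) (g (IsLocalization.mk' (FractionRing L) a ⟨b, hb⟩)) := by
    obtain ⟨q, hq, hqz⟩ := hz
    refine ⟨q.map L.subtype, hq.map _, ?_⟩
    have h1 : (algebraMap Γ(G.left, ⊤) (FractionRing Γ(G.left, ⊤))).comp L.subtype =
        g.comp (algebraMap L (FractionRing L)) := RingHom.ext fun y => (hg y).symm
    rw [Polynomial.eval₂_map, h1, ← Polynomial.hom_eval₂, hqz, map_zero]
  obtain ⟨c, hc⟩ := IsIntegrallyClosed.isIntegral_iff.mp hzg
  have hcb : c * b.1 = a.1 := by
    apply IsFractionRing.injective Γ(G.left, ⊤) (FractionRing Γ(G.left, ⊤))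
    rw [map_mul, hc, ← hg, ← hg, ← map_mul]
    exact congrArg g (IsLocalization.mk'_spec _ a ⟨b, hb⟩)
  have hcinv : Obs.Inv i c := (inv_iff_rtr i c).mpr fun h => by
    have ha := (inv_iff_rtr i a.1).mp ((Obs.isRTransInv_iff i a.1).mp a.2) h
    have hb' := (inv_iff_rtr i b.1).mp ((Obs.isRTransInv_iff i b.1).mp b.2) h
    rw [← hcb, map_mul, hb'] at ha
    exact mul_right_cancel₀ hb0 ha
  refine ⟨⟨c, (Obs.isRTransInv_iff i c).mpr hcinv⟩, ?_⟩
  refine (IsLocalization.eq_mk'_iff_mul_eq.mpr ?_)
  rw [← map_mul]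
  exact congrArg _ (Subtype.ext hcb)

end Groth.Agent.S11192
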