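import Groth.Statements.S11194
import Groth.Agent.H1.Obs.Open

set_option autoImplicit false
universe u
open CategoryTheory MonoidalCategory CartesianMonoidalCategory MonObj GrpObj AlgebraicGeometry
open scoped TensorProduct
open AGF

namespace Groth.Agent.S11194

open Groth.Agent.H1.Obs

/-- (i) ⇔ (iii): let k be an algebraically closed field, G a linear algebraic group over k (an affine
smooth group scheme over k) and H a closed subgroup of G (a smooth closed subgroup scheme, i : H →
G); let G₀ ⊆ G and H₀ ⊆ H be the identity components (connected open subgroup schemes) and i₀ : H₀ →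
G₀ the induced homomorphism. Then H is observable in G if and only if H₀ is observable in G₀. -/
theorem result (k : Type u) [Field k] [IsAlgClosed k]
    (G : Over (Spec (CommRingCat.of k))) [GrpObj G] [IsAffine G.left] [Smooth G.hom]
    (H : Over (Spec (CommRingCat.of k))) [GrpObj H] [Smooth H.hom] (i : H ⟶ G) [IsMonHom i]
    [IsClosedImmersion i.left]
    (G₀ : Over (Spec (CommRingCat.of k))) [GrpObj G₀] [ConnectedSpace G₀.left] (jG : G₀ ⟶ G) [IsMonHom jG]
    [IsOpenImmersion jG.left]
    (H₀ : Over (Spec (CommRingCat.of k))) [GrpObj H₀] [ConnectedSpace H₀.left] (jH : H₀ ⟶ H) [IsMonHom jH]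
    [IsOpenImmersion jH.left] (i₀ : H₀ ⟶ G₀) [IsMonHom i₀] (hc : i₀ ≫ jG = jH ≫ i) :
    AGF.IsObservableIn k i ↔ AGF.IsObservableIn k i₀ := by
  haveI : IsAffine H.left := isAffine_of_isAffineHom i.left
  haveI := isClosedImmersion_of_open jG
  haveI := isClosedImmersion_of_open jH
  haveI : IsAffine G₀.left := isAffine_of_isAffineHom jG.left
  haveI : IsAffine H₀.left := isAffine_of_isAffineHom jH.left
  haveI : Smooth G₀.hom := smooth_of_open jG
  haveI : Smooth H₀.hom := smooth_of_open jH
  haveI : IsClosedImmersion (i₀.left ≫ jG.left) := by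
    rw [← Over.comp_left, hc, Over.comp_left]
    infer_instance
  haveI : IsClosedImmersion i₀.left := IsClosedImmersion.of_comp i₀.left jG.left
  constructor
  · intro hobs
    refine observable_of_comp jG i₀ ?_
    rw [hc]
    exact observable_comp i jH (observable_of_open jH) hobs
  · intro hobs
    refine observable_of_open_comp jH i ?_
    rw [← hc]
    exact observable_comp jG i₀ hobs (observable_of_open jG)

end Groth.Agent.S11194
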