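import Groth.Statements.S11198
import Groth.Agent.H1.Obs.Basic
import Groth.Agent.S7993
import Groth.Agent.Lib.Homog.Basic
import Mathlib.AlgebraicGeometry.Morphisms.Proper

set_option autoImplicit false
universe u
open CategoryTheory MonoidalCategory CartesianMonoidalCategory MonObj GrpObj AlgebraicGeometry
open scoped TensorProduct
open AGF
open Groth.Agent.H1

namespace Groth.Agent.S11198

/-- Let k be an algebraically closed field, G a linear algebraic group over k and H₁ ⊆ H₂ ⊆ G closed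
subgroups (smooth closed subgroup schemes i₁ : H₁ → H₂, i₂ : H₂ → G), such that the quotient H₂/H₁
(the scheme X with H₂-action a and base point o) is proper over k and irreducible. Then a global
function on G is invariant under right translation by H₁ if and only if it is invariant under right
translation by H₂. -/
theorem result (k : Type u) [Field k] [IsAlgClosed k]
    (G : Over (Spec (CommRingCat.of k))) [GrpObj G] [IsAffine G.left] [Smooth G.hom]
    (H₂ : Over (Spec (CommRingCat.of k))) [GrpObj H₂] [Smooth H₂.hom] (i₂ : H₂ ⟶ G) [IsMonHom i₂] [IsClosedImmersion i₂.left]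
    (H₁ : Over (Spec (CommRingCat.of k))) [GrpObj H₁] [Smooth H₁.hom] (i₁ : H₁ ⟶ H₂) [IsMonHom i₁] [IsClosedImmersion i₁.left]
    (X : Over (Spec (CommRingCat.of k))) (a : AlgGrp.Action H₂ X) (o : 𝟙_ (Over (Spec (CommRingCat.of k))) ⟶ X) (hX : AGF.IsQuotient i₁ X a o)
    [IsProper X.hom] [IrreducibleSpace X.left] :
    AGF.rTransInv (i₁ ≫ i₂) = AGF.rTransInv i₂ := by
  haveI : IsAffine H₂.left := isAffine_of_isAffineHom i₂.left
  haveI : IsAffine H₁.left := isAffine_of_isAffineHom i₁.left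
  letI := Groth.Agent.Lib.RedPts.Points.baseAlgebra (R := k) (W := G)
  haveI : Mono i₁ := (Over.forget _).mono_of_mono_map (show Mono ((Over.forget _).map i₁) from inferInstanceAs (Mono i₁.left))
  haveI : Smooth X.hom := Groth.Agent.S7993.result k H₂ H₁ X i₁ a o hX
  haveI : IsReduced X.left := Groth.Agent.Lib.GrpSch.isReduced_of_smooth_field X.hom
  haveI : AlgebraicGeometry.IsIntegral X.left := isIntegral_of_irreducibleSpace_of_isReduced _
  have hc := Groth.Agent.Lib.Homog.isCover_of_isQuotient hX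
  obtain ⟨-, -, -, hpb⟩ := hX
  -- global functions on the quotient are constant
  have hconst : ∀ f : Γ(X.left, ⊤), ∃ c : k, f = X.hom.appTop ((Scheme.ΓSpecIso (CommRingCat.of k)).inv c) := by
    intro f
    letI : Field Γ(X.left, ⊤) := (isField_of_universallyClosed k X.hom).toField
    letI : Algebra k Γ(X.left, ⊤) := ((Scheme.ΓSpecIso (CommRingCat.of k)).inv ≫ X.hom.appTop).hom.toAlgebra
    haveI : Module.Finite k Γ(X.left, ⊤) := by
      have h := finite_appTop_of_universallyClosed k X.hom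
      refine RingHom.finite_algebraMap.mp ?_
      exact h.comp (RingHom.Finite.of_surjective _
        (Scheme.ΓSpecIso (CommRingCat.of k)).commRingCatIsoToRingEquiv.symm.surjective)
    haveI : Algebra.IsIntegral k Γ(X.left, ⊤) := Algebra.IsIntegral.of_finite k _
    obtain ⟨c, hc⟩ := (IsAlgClosed.algebraMap_bijective_of_isIntegral (k := k) (K := Γ(X.left, ⊤))).2 f
    exact ⟨c, hc.symm⟩
  refine le_antisymm (fun f hf => ?_) (fun f hf => ?_)
  swap
  · exact (Obs.isRTransInv_iff _ f).mpr fun x h => by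
      rw [← Category.assoc]
      exact (Obs.isRTransInv_iff _ f).mp hf x (h ≫ i₁)
  refine (Obs.isRTransInv_iff _ f).mpr fun x h => ?_
  replace hf := (Obs.isRTransInv_iff (i₁ ≫ i₂) f).mp hf
  -- the function on `H₂`, as a morphism to the affine line
  let A := VecGrp.pt k (Polynomial k)
  haveI : IsAffine A.left := inferInstanceAs (IsAffine (Spec (CommRingCat.of (Polynomial k))))
  let ψ : Polynomial k →ₐ[k] Γ(G.left, ⊤) := Polynomial.aeval f
  let φ : G ⟶ A := Over.homMk (G.left.toSpecΓ ≫ Spec.map (CommRingCat.ofHom ψ.toRingHom)) (by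
    show (G.left.toSpecΓ ≫ Spec.map _) ≫ Spec.map (CommRingCat.ofHom (algebraMap k (Polynomial k))) = G.hom
    rw [Category.assoc, ← Spec.map_comp,
      show CommRingCat.ofHom (algebraMap k (Polynomial k)) ≫ CommRingCat.ofHom ψ.toRingHom =
        (Scheme.ΓSpecIso (CommRingCat.of k)).inv ≫ G.hom.appTop from
        CommRingCat.hom_ext (RingHom.ext fun c => ψ.commutes c),
      Spec.map_comp, ← Scheme.toSpecΓ_naturality_assoc, toSpecΓ_SpecMap_ΓSpecIso_inv, Category.comp_id])
  have hφ : ∀ b : Polynomial k, φ.left.appTop ((Scheme.ΓSpecIso (CommRingCat.of (Polynomial k))).inv b) = ψ b := fun b => by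
    show (G.left.toSpecΓ ≫ Spec.map (CommRingCat.ofHom ψ.toRingHom)).appTop
      ((Scheme.ΓSpecIso (CommRingCat.of (Polynomial k))).inv b) = _
    rw [Scheme.Hom.comp_appTop, Scheme.toSpecΓ_appTop, ← CommRingCat.comp_apply, Scheme.ΓSpecIso_naturality,
      Iso.inv_hom_id_assoc]
    rfl
  have hψ : ∀ (b : Polynomial k) (y : Obs.P G) (t : Obs.P H₁),
      RInv.ev (y * (t ≫ i₁ ≫ i₂)) (ψ b) = RInv.ev y (ψ b) := fun b y t => by
    induction b using Polynomial.induction_on with
    | C c => rw [← Polynomial.algebraMap_eq, AlgHom.commutes, Obs.ev_const, Obs.ev_const]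
    | add p q hp hq => simp only [map_add, hp, hq]
    | monomial n c _ => simp only [map_mul, map_pow, ψ, Polynomial.aeval_X, Polynomial.aeval_C, Obs.ev_const, hf _]
  let Φ : H₂ ⟶ A := ((toUnit H₂ ≫ x) * i₂) ≫ φ
  have hinv : ((H₂ ◁ i₁) ≫ μ[H₂]) ≫ Φ = fst H₂ H₁ ≫ Φ := by
    haveI : IsAffine (H₂ ⊗ H₁).left := inferInstanceAs (IsAffine (Limits.pullback H₂.hom H₁.hom))
    haveI : Smooth (H₂ ⊗ H₁).hom := inferInstanceAs (Smooth (Limits.pullback.fst H₂.hom H₁.hom ≫ H₂.hom))
    haveI : IsReduced (H₂ ⊗ H₁).left := Groth.Agent.Lib.GrpSch.isReduced_of_smooth_field (H₂ ⊗ H₁).hom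
    refine Over.OverMorphism.ext (ext_of_isAffine (CommRingCat.hom_ext (RingHom.ext fun g => ?_)))
    obtain ⟨b, rfl⟩ := (Scheme.ΓSpecIso (CommRingCat.of (Polynomial k))).commRingCatIsoToRingEquiv.symm.surjective g
    refine Obs.ext_points fun p => ?_
    rw [← Obs.ev_comp, ← Obs.ev_comp]
    have e1 : (p ≫ (H₂ ◁ i₁) ≫ μ[H₂]) = (p ≫ fst H₂ H₁) * ((p ≫ snd H₂ H₁) ≫ i₁) := by
      rw [Hom.mul_def, Category.assoc, ← comp_lift_assoc]
      congr 2
    have e : ∀ q : Obs.P H₂, RInv.ev (q ≫ Φ) ((Scheme.ΓSpecIso (CommRingCat.of (Polynomial k))).inv b) =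
        RInv.ev (x * (q ≫ i₂)) (ψ b) := fun q => by
      rw [show q ≫ Φ = (x * (q ≫ i₂)) ≫ φ by
        simp only [Φ, ← Category.assoc, MonObj.comp_mul, toUnit_unique (q ≫ toUnit H₂) (𝟙 _), Category.id_comp],
        Obs.ev_comp, hφ]
    rw [← Category.assoc p (fst H₂ H₁), ← Category.assoc p _ Φ, e1]
    refine (e _).trans (Eq.trans ?_ (e _).symm)
    rw [MonObj.mul_comp, Category.assoc, ← _root_.mul_assoc]
    simpa only [Category.assoc] using hψ b _ (p ≫ snd H₂ H₁)
  obtain ⟨F, hF⟩ := Groth.Agent.Lib.GrpQ.exists_desc hc Φ fun Z y z e => by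
    obtain ⟨w, rfl⟩ := Groth.Agent.Lib.Homog.exists_rel hpb y z e
    conv_rhs => rw [← Groth.Agent.Lib.Homog.comp_mulPair, Category.assoc, hinv, lift_fst_assoc]
  obtain ⟨c, hc'⟩ := hconst (F.left.appTop ((Scheme.ΓSpecIso (CommRingCat.of (Polynomial k))).inv Polynomial.X))
  have key : ∀ q : Obs.P H₂, RInv.ev (x * (q ≫ i₂)) f = c := fun q => by
    have h1 : RInv.ev (q ≫ Φ) ((Scheme.ΓSpecIso (CommRingCat.of (Polynomial k))).inv Polynomial.X) = c := by
      rw [← hF, ← Category.assoc, Obs.ev_comp, hc']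
      exact Obs.ev_const (G := X) _ c
    rw [show q ≫ Φ = (x * (q ≫ i₂)) ≫ φ by
      simp only [Φ, ← Category.assoc, MonObj.comp_mul, toUnit_unique (q ≫ toUnit H₂) (𝟙 _), Category.id_comp],
      Obs.ev_comp, hφ] at h1
    simpa [ψ] using h1
  rw [key h, ← key 1, MonObj.one_comp, _root_.mul_one]

end Groth.Agent.S11198
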