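import Groth.Statements.S11199
import Groth.Agent.H1.Obs.Basic

set_option autoImplicit false
universe u
open CategoryTheory MonoidalCategory CartesianMonoidalCategory MonObj GrpObj AlgebraicGeometry
open scoped TensorProduct
open AGF

namespace Groth.Agent.S11199

open Groth.Agent.H1.Obs

/-- Let k be an algebraically closed field, G a linear algebraic group over k (an affine smooth group
scheme over k) and H a closed subgroup of G (a smooth closed subgroup scheme, i : H → G). Then there
are finitely many right-H-invariant global functions f₁, ..., fₙ on G which already cut out the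
observable hull of H: a rational point of G whose right translation fixes each fⱼ fixes every
right-H-invariant global function. -/
theorem result (k : Type u) [Field k] [IsAlgClosed k]
    (G : Over (Spec (CommRingCat.of k))) [GrpObj G] [IsAffine G.left] [Smooth G.hom]
    (H : Over (Spec (CommRingCat.of k))) [GrpObj H] [Smooth H.hom] (i : H ⟶ G) [IsMonHom i]
    [IsClosedImmersion i.left] :
    ∃ s : Finset Γ(G.left, ⊤), (∀ f ∈ s, AGF.IsRTransInv i f) ∧
      ∀ g : VecGrp.pt k k ⟶ G, (∀ f ∈ s, AGF.IsRTransInv g f) →
        ∀ f : Γ(G.left, ⊤), AGF.IsRTransInv i f → AGF.IsRTransInv g f := by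
  haveI : IsAffine H.left := isAffine_of_isAffineHom i.left
  obtain ⟨s, hs, hsep⟩ := exists_finset_sep i
  refine ⟨s, fun f hf => (isRTransInv_iff i f).mpr (hs f hf), fun g hg f hf => (rTransInv_pt_iff g f).mpr fun x => ?_⟩
  exact (hsep x (x * ofPt g) (fun f hf => ((rTransInv_pt_iff g f).mp (hg f hf) x).symm) f ((isRTransInv_iff i f).mp hf)).symm

end Groth.Agent.S11199
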