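import Groth.Statements.S1120
import Groth.Agent.H56.PSup.Main
import Groth.Agent.Lib.DerivedOX.DualMain

set_option autoImplicit false
universe u
open CategoryTheory CategoryTheory.Limits AlgebraicGeometry Opposite
attribute [local instance] HasDerivedCategory.standard
open Perf

namespace Groth.Agent.S1120

/-- Let f : X → S be a morphism of schemes of finite presentation (locally of finite presentation,
quasi-compact and quasi-separated), let E be a cochain complex of 𝒪_X-modules that becomes perfect
in D(𝒪_X), and let G be a finitely presented 𝒪_X-module that is S-flat and whose support is proper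
over S. Assuming the derived functors involved exist, Rf_* RHom(E, G) is a perfect object of D(𝒪_S).
(The published statement also allows G to be a bounded complex of such modules and proves
compatibility with base change; neither claim is made here.) -/
theorem result {X S : Scheme.{u}} (f : X ⟶ S) [LocallyOfFinitePresentation f] [QuasiCompact f] [QuasiSeparated f]
    (E : CochainComplex X.Modules ℤ) (hE : DCoh.IsPerfect (DCoh.toD X E)) [DCoh.HasLTensorCx E] [DCoh.HasRSheafHom E] [DCoh.HasRpush f]
    (G : X.Modules) (hG : CohB1.IsFP G) (hflat : FlatMod.IsFlatOver f G) (hsupp : ClSub.IsProperOver f (CohB1.support G)) :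
    DCoh.IsPerfect ((DCoh.Rpush f).obj ((DCoh.RSheafHom E).obj (DCoh.inD X G))) := by
  haveI : QuasiIso ((Groth.Agent.Lib.DerivedOX.KFlat.aug X).app E) :=
    Groth.Agent.Lib.DerivedOX.KFlat.quasiIso_aug E
  have hK := Groth.Agent.Lib.DerivedOX.KFlat.isKFlat_res E
  let r := (Groth.Agent.Lib.DerivedOX.KFlat.aug X).app E
  obtain ⟨J₀, hp, ⟨e⟩⟩ := Groth.Agent.Lib.DerivedOX.DualMain.exists_dual (K := E) hK r hE
  obtain ⟨D, hD, ⟨eD⟩⟩ := Groth.Agent.Lib.DerivedOX.QCohLocal.exists_kflat
    ((DCoh.RSheafHom E).obj ((DerivedCategory.singleFunctor X.Modules 0).obj (Coh.structureModule X)))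
  haveI := Groth.Agent.Lib.DerivedOX.LeftExists.hasLTensorCx D
  obtain ⟨θ⟩ := Groth.Agent.Lib.DerivedOX.DualMain.nonempty_LTensorCx_iso_RSheafHom (K := E) hK r hE D eD
    (DCoh.inD X G)
  exact Groth.Agent.Lib.Perfect.Triangle.isPerfect_of_iso ((DCoh.Rpush f).mapIso θ)
    (Groth.Agent.H56.PSup.Main.isPerfect_Rpush f D hD
      (Groth.Agent.Lib.Perfect.Triangle.isPerfect_of_iso eD.symm
        (Groth.Agent.Lib.Perfect.Triangle.isPerfect_of_iso e hp)) G hG hflat hsupp)

end Groth.Agent.S1120
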