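import Groth.Statements.S11205
import Groth.Agent.H60.OrbFib.Frac
import Mathlib.AlgebraicGeometry.AlgClosed.Basic
import Mathlib.AlgebraicGeometry.Morphisms.UniversallyInjective
import Mathlib.RingTheory.Adjoin.Tower
-- import your own Groth.Agent.* helpers here

set_option autoImplicit false
universe u
open CategoryTheory MonoidalCategory CartesianMonoidalCategory MonObj GrpObj AlgebraicGeometry
open scoped TensorProduct
open AGF

namespace Groth.Agent.S11205

open CategoryTheory CategoryTheory.Limits AlgebraicGeometry Opposite TopologicalSpace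

theorem universallyInjective_of_injective {k : Type u} [Field k] [IsAlgClosed k] {X Y : Scheme.{u}}
    (π : Y ⟶ X) (q : Y ⟶ Spec (CommRingCat.of k)) [LocallyOfFiniteType q] [IsSeparated π]
    [LocallyOfFiniteType π] (r : X ⟶ Spec (CommRingCat.of k)) (hr : π ≫ r = q)
    (hπ : Function.Injective π.base) : UniversallyInjective π := by
  rw [UniversallyInjective.iff_diagonal, surjective_iff]
  let m : pullback π π ⟶ Spec (CommRingCat.of k) := pullback.fst π π ≫ q
  haveI : LocallyOfFiniteType m := inferInstanceAs (LocallyOfFiniteType (pullback.fst π π ≫ q))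
  haveI : JacobsonSpace ↥(pullback π π) := LocallyOfFiniteType.jacobsonSpace m
  have hC : IsClosed (Set.range (pullback.diagonal π)) :=
    (pullback.diagonal π).isClosedEmbedding.isClosed_range
  have hsub : closedPoints ↥(pullback π π) ⊆ Set.range (pullback.diagonal π) := by
    intro w hw
    let φ := pointOfClosedPoint m w hw
    have hφ : φ ≫ m = 𝟙 _ := pointOfClosedPoint_comp m w hw
    have e1 : (φ ≫ pullback.fst π π) ≫ q = 𝟙 _ := by rw [Category.assoc]; exact hφ
    have e2 : (φ ≫ pullback.snd π π) ≫ q = 𝟙 _ := by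
      rw [← hr, Category.assoc, ← pullback.condition_assoc, hr]
      exact hφ
    have heq : φ ≫ pullback.fst π π = φ ≫ pullback.snd π π := by
      refine ext_of_apply_closedPoint_eq q e1 e2 (hπ ?_)

      rw [← Scheme.Hom.comp_apply, ← Scheme.Hom.comp_apply, Category.assoc, Category.assoc,
        pullback.condition]
    have h2 : φ = (φ ≫ pullback.fst π π) ≫ pullback.diagonal π := by
      apply pullback.hom_ext <;> simp only [Category.assoc, pullback.diagonal_fst,
        pullback.diagonal_snd, Category.comp_id]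
      exact heq.symm
    refine ⟨(φ ≫ pullback.fst π π) (IsLocalRing.closedPoint k), ?_⟩
    rw [← Scheme.Hom.comp_apply, ← h2]
    exact pointOfClosedPoint_apply m w hw _
  intro w
  exact closure_minimal hsub hC (show w ∈ closure (closedPoints ↥(pullback π π)) by rw [closure_closedPoints]; trivial)

theorem residue_injective_of_eq_genericPoint {X : Scheme.{u}} [IsIntegral X] {z : X}
    (hz : z = genericPoint X) : Function.Injective (X.residue z) := by
  subst hz
  exact RingHom.injective (R := X.functionField) (X.residue _).hom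

/-- Along a surjective morphism of integral schemes with normal target which is purely inseparable
at the generic points, a power of every function is a pull-back. -/
theorem exists_pow_eq_app {X Y : Scheme.{u}} [IsIntegral X] [IsIntegral Y] [IsLocallyNoetherian X]
    (hX : ∀ x : X, IsIntegrallyClosed ↑(X.presheaf.stalk x)) (π : Y ⟶ X) [Surjective π]
    [UniversallyInjective π] (f : Γ(Y, ⊤)) :
    ∃ N : ℕ, 0 < N ∧ ∃ c : Γ(X, ⊤), π.appTop c = f ^ N := by
  classical
  let ζ := genericPoint Y
  let z : X := π ζ
  have hz : z = genericPoint X := by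
    refine ((genericPoint_spec X).eq ?_).symm
    have h := (genericPoint_spec Y).image π.continuous
    rwa [Set.image_univ, π.surjective.range_eq, closure_univ] at h
  let e : ∀ V : Y.Opens, ζ ∈ V → (Γ(Y, V) ⟶ Y.residueField ζ) :=
    fun V hV => Y.presheaf.germ V ζ hV ≫ Y.residue ζ
  have heinj : ∀ (V : Y.Opens) (hV : ζ ∈ V), Function.Injective (e V hV) := fun V hV =>
    (residue_injective_of_eq_genericPoint rfl).comp (germ_injective_of_isIntegral Y ζ hV)
  let rs : ∀ V : Y.Opens, Γ(Y, ⊤) →+* Γ(Y, V) := fun V => (Y.presheaf.map (homOfLE le_top).op).hom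
  have hers : ∀ (V : Y.Opens) (hV : ζ ∈ V) (w : Γ(Y, ⊤)), e V hV (rs V w) = e ⊤ trivial w :=
    fun V hV w => congrArg (Y.residue ζ)
      (TopCat.Presheaf.germ_res_apply Y.presheaf (homOfLE le_top) ζ hV w)
  have hmap : ∀ (U : X.Opens) (hU : z ∈ U) (a : Γ(X, U)),
      π.residueFieldMap ζ (X.residue z (X.presheaf.germ U z hU a)) = e (π ⁻¹ᵁ U) hU (π.app U a) := by
    intro U hU a
    rw [← CommRingCat.comp_apply, Scheme.residue_residueFieldMap, CommRingCat.comp_apply,
      Scheme.Hom.germ_stalkMap_apply]
    rfl
  have happinj : ∀ (U : X.Opens), z ∈ U → Function.Injective (π.app U) := by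
    intro U hU a a' h
    apply germ_injective_of_isIntegral X z hU
    apply residue_injective_of_eq_genericPoint hz
    apply RingHom.injective (R := X.residueField z) (π.residueFieldMap ζ).hom
    rw [hmap U hU a, hmap U hU a', h]
  -- a power of `f` is rational on `X`
  have hPI := ((tfae_universallyInjective π).out 0 2 rfl rfl).mp inferInstance |>.2 ζ
  letI := (π.residueFieldMap ζ).hom.toAlgebra
  haveI : IsPurelyInseparable (X.residueField z) (Y.residueField ζ) := hPI
  let q := ringExpChar (X.residueField z)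
  haveI : ExpChar (X.residueField z) q := ringExpChar.expChar _
  obtain ⟨n, b, hb⟩ := IsPurelyInseparable.pow_mem (X.residueField z) q (e ⊤ trivial f)
  refine ⟨q ^ n, pow_pos (expChar_pos (X.residueField z) q) n, ?_⟩
  let g : Γ(Y, ⊤) := f ^ q ^ n
  have hg : π.residueFieldMap ζ b = e ⊤ trivial g := hb.trans (map_pow (e ⊤ trivial).hom f _).symm
  -- solve on every affine open
  have key : ∀ U : X.affineOpens, z ∈ (U : X.Opens) →
      ∃ c : Γ(X, U), π.app U c = rs (π ⁻¹ᵁ (U : X.Opens)) g := by
    intro ⟨U, hU⟩ hzU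
    let V := π ⁻¹ᵁ U
    haveI : Nonempty (U : Type u) := ⟨⟨z, hzU⟩⟩
    haveI : Nonempty (V : Type u) := ⟨⟨ζ, hzU⟩⟩
    haveI : IsNoetherianRing Γ(X, U) := IsLocallyNoetherian.component_noetherian ⟨U, hU⟩
    haveI : IsIntegrallyClosed Γ(X, U) := by
      refine IsIntegrallyClosed.of_localization_maximal fun p hp0 hp => ?_
      haveI : p.IsPrime := hp.isPrime
      let x := hU.fromSpec ⟨p, inferInstance⟩
      have hx : x ∈ U := hU.range_fromSpec.le ⟨_, rfl⟩
      letI : Algebra Γ(X, U) (X.presheaf.stalk x) :=
        TopCat.Presheaf.algebra_section_stalk X.presheaf ⟨x, hx⟩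
      haveI : IsLocalization.AtPrime (X.presheaf.stalk x) p :=
        hU.isLocalization_stalk' ⟨p, inferInstance⟩ hx
      haveI := hX x
      exact IsIntegrallyClosed.of_equiv
        (IsLocalization.algEquiv p.primeCompl (X.presheaf.stalk x) (Localization.AtPrime p)).toRingEquiv
    letI : Algebra Γ(X, U) (X.presheaf.stalk z) :=
      TopCat.Presheaf.algebra_section_stalk X.presheaf ⟨z, hzU⟩
    haveI := hU.isLocalization_stalk ⟨z, hzU⟩
    obtain ⟨b', rfl⟩ := X.residue_surjective z b
    obtain ⟨⟨a, d⟩, had⟩ := IsLocalization.surj (hU.primeIdealOf ⟨z, hzU⟩).asIdeal.primeCompl b'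
    have hdu : IsUnit (X.presheaf.germ U z hzU (d : Γ(X, U))) :=
      IsLocalization.map_units (X.presheaf.stalk z) d
    have had' : π.app U a = π.app U (d : Γ(X, U)) * rs V g := by
      apply heinj V hzU
      rw [map_mul, ← hmap U hzU, ← hmap U hzU, hers V hzU, ← hg, ← map_mul, ← map_mul,
        ← show b' * X.presheaf.germ U z hzU (d : Γ(X, U)) = X.presheaf.germ U z hzU a from had,
        mul_comm b']
    have hd0 : π.app U (d : Γ(X, U)) ≠ 0 := fun h0 =>
      hdu.ne_zero (by rw [happinj U hzU (h0.trans (map_zero (π.app U).hom).symm)]; exact map_zero _)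
    have hdne : (d : Γ(X, U)) ≠ 0 := fun h0 => hd0 (by rw [h0]; exact map_zero _)
    obtain ⟨c, hc⟩ := Groth.Agent.H60.OrbFib.exists_eq_of_height_one a (d : Γ(X, U)) hdne
      fun p _ s r hs hr hsd => by
        let x := hU.fromSpec ⟨p, inferInstance⟩
        have hx : x ∈ U := hU.range_fromSpec.le ⟨_, rfl⟩
        letI : Algebra Γ(X, U) (X.presheaf.stalk x) :=
          TopCat.Presheaf.algebra_section_stalk X.presheaf ⟨x, hx⟩
        haveI : IsLocalization.AtPrime (X.presheaf.stalk x) p :=
          hU.isLocalization_stalk' ⟨p, inferInstance⟩ hx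
        obtain ⟨y, hy⟩ := π.surjective x
        have hsr : π.app U s = π.app U r * rs V g := by
          refine mul_right_cancel₀ hd0 ?_
          rw [← map_mul, hsd, map_mul, had']
          ring
        have hyU : π y ∈ U := hy.symm ▸ hx
        have hu : IsUnit (X.presheaf.germ U x hx s) :=
          IsLocalization.map_units (X.presheaf.stalk x) (⟨s, hs⟩ : p.primeCompl)
        have hm : ¬ IsUnit (X.presheaf.germ U x hx r) := fun h =>
          ((IsLocalization.AtPrime.isUnit_to_map_iff (X.presheaf.stalk x) p r).1 h) hr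
        have gen : ∀ x', x' = x → ∀ h : x' ∈ U,
            IsUnit (X.presheaf.germ U x' h s) ∧ ¬ IsUnit (X.presheaf.germ U x' h r) := by
          rintro _ rfl h
          exact ⟨hu, hm⟩
        obtain ⟨hu', hm'⟩ := gen _ hy hyU
        have h2 : IsUnit (Y.presheaf.germ V y hyU (π.app U r)) := by
          have h3 := hu'.map (π.stalkMap y).hom
          rw [Scheme.Hom.germ_stalkMap_apply, hsr, map_mul] at h3
          exact isUnit_of_mul_isUnit_left h3
        rw [← Scheme.Hom.germ_stalkMap_apply] at h2
        exact hm' ((isUnit_map_iff (π.stalkMap y).hom _).1 h2)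
    refine ⟨c, mul_left_cancel₀ hd0 ?_⟩
    rw [← map_mul, ← hc, had']
  -- glue
  choose c hc using key
  let κ : Type u := {U : X.affineOpens // z ∈ (U : X.Opens)}
  let W : κ → X.Opens := fun i => i.1
  have hcov : (⊤ : X.Opens) ≤ iSup W := by
    intro x _
    obtain ⟨U, hU, hxU, -⟩ := exists_isAffineOpen_mem_and_subset (x := x) (U := (⊤ : X.Opens)) trivial
    exact Opens.mem_iSup.2 ⟨⟨⟨U, hU⟩, hz ▸
      (((genericPoint_spec X).mem_open_set_iff U.isOpen).2 ⟨x, trivial, hxU⟩)⟩, hxU⟩
  have hcompat : TopCat.Presheaf.IsCompatible X.presheaf W (fun i => c i.1 i.2) := by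
    intro i j
    apply happinj _ (show z ∈ W i ⊓ W j from ⟨i.2, j.2⟩)
    have nat : ∀ (U U' : X.Opens) (h : U' ⟶ U) (w : Γ(X, U)), π.app U' (X.presheaf.map h.op w) =
        Y.presheaf.map (homOfLE (π.preimage_mono h.le)).op (π.app U w) := fun U U' h w =>
      congrArg (fun m => (CommRingCat.Hom.hom m) w) (π.naturality h.op)
    refine (nat _ _ _ _).trans (Eq.trans ?_ (nat _ _ _ _).symm)
    rw [hc i.1 i.2, hc j.1 j.2]
    simp only [rs, ← CommRingCat.comp_apply, ← Functor.map_comp]
    rfl
  obtain ⟨C, hC, -⟩ := X.sheaf.existsUnique_gluing' W ⊤ (fun i => homOfLE le_top) hcov _ hcompat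
  refine ⟨C, Y.sheaf.eq_of_locally_eq' (fun i => π ⁻¹ᵁ W i) ⊤ (fun i => homOfLE le_top)
    (fun y _ => ?_) _ _ fun i => ?_⟩
  · obtain ⟨i, hi⟩ := Opens.mem_iSup.1 (hcov (show π y ∈ (⊤ : X.Opens) from trivial))
    exact Opens.mem_iSup.2 ⟨i, hi⟩
  · have h1 := congrArg (π.app (W i)) (hC i)
    erw [← ConcreteCategory.comp_apply, Scheme.Hom.naturality, ConcreteCategory.comp_apply,
      hc i.1 i.2] at h1
    exact h1


/-- Let k be an algebraically closed field and let X and Y be irreducible normal varieties over k
(integral separated schemes of finite type over k all of whose local rings are integrally closed),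
and π : Y → X a k-morphism which is bijective on points. If the ring of global functions of Y is
finitely generated over k, then so is the ring of global functions of X. (The published statement
asks π bijective on rational points; this row asks bijectivity on all points, which for schemes of
finite type over an algebraically closed field is the same condition.) -/
theorem result (k : Type u) [Field k] [IsAlgClosed k] (X Y : Over (Spec (CommRingCat.of k)))
    [IsIntegral X.left] [IsIntegral Y.left] [LocallyOfFiniteType X.hom] [QuasiCompact X.hom]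
    [IsSeparated X.hom] [LocallyOfFiniteType Y.hom] [QuasiCompact Y.hom] [IsSeparated Y.hom]
    (hX : ∀ x : X.left, IsIntegrallyClosed ↑(X.left.presheaf.stalk x))
    (hY : ∀ y : Y.left, IsIntegrallyClosed ↑(Y.left.presheaf.stalk y))
    (π : Y ⟶ X) (hπ : Function.Bijective π.left.base)
    (hfg : ((Scheme.ΓSpecIso (CommRingCat.of k)).inv ≫ Y.hom.appTop).hom.FiniteType) :
    ((Scheme.ΓSpecIso (CommRingCat.of k)).inv ≫ X.hom.appTop).hom.FiniteType := by
  haveI : IsLocallyNoetherian X.left := LocallyOfFiniteType.isLocallyNoetherian X.hom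
  haveI : Surjective π.left := ⟨hπ.2⟩
  haveI : IsSeparated π.left := by
    haveI : IsSeparated (π.left ≫ X.hom) := by rw [Over.w π]; infer_instance
    exact IsSeparated.of_comp π.left X.hom
  haveI : LocallyOfFiniteType π.left := by
    haveI : LocallyOfFiniteType (π.left ≫ X.hom) := by rw [Over.w π]; infer_instance
    exact locallyOfFiniteType_of_comp π.left X.hom
  haveI := universallyInjective_of_injective π.left Y.hom X.hom (Over.w π) hπ.1
  let iX := ((Scheme.ΓSpecIso (CommRingCat.of k)).inv ≫ X.hom.appTop).hom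
  let iY := ((Scheme.ΓSpecIso (CommRingCat.of k)).inv ≫ Y.hom.appTop).hom
  letI : Algebra k Γ(X.left, ⊤) := iX.toAlgebra
  letI : Algebra k Γ(Y.left, ⊤) := iY.toAlgebra
  letI : Algebra Γ(X.left, ⊤) Γ(Y.left, ⊤) := π.left.appTop.hom.toAlgebra
  haveI : IsScalarTower k Γ(X.left, ⊤) Γ(Y.left, ⊤) := by
    refine .of_algebraMap_eq' ?_
    have h : Y.hom.appTop = X.hom.appTop ≫ π.left.appTop := by
      rw [← Scheme.Hom.comp_appTop, Over.w π]
    change iY = π.left.appTop.hom.comp iX
    rw [show iY = ((Scheme.ΓSpecIso (CommRingCat.of k)).inv ≫ Y.hom.appTop).hom from rfl, h]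
    rfl
  haveI hY' : Algebra.FiniteType k Γ(Y.left, ⊤) := hfg
  haveI : Algebra.FiniteType Γ(X.left, ⊤) Γ(Y.left, ⊤) :=
    Algebra.FiniteType.of_restrictScalars_finiteType k _ _
  haveI : Algebra.IsIntegral Γ(X.left, ⊤) Γ(Y.left, ⊤) := ⟨fun f => by
    obtain ⟨N, hN, c, hc⟩ := exists_pow_eq_app hX π.left f
    exact IsIntegral.of_pow hN (hc ▸ isIntegral_algebraMap)⟩
  haveI : Module.Finite Γ(X.left, ⊤) Γ(Y.left, ⊤) := Algebra.IsIntegral.finite
  have hinj : Function.Injective (algebraMap Γ(X.left, ⊤) Γ(Y.left, ⊤)) := by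
    intro a a' h
    have hz : π.left (genericPoint Y.left) = genericPoint X.left := by
      refine ((genericPoint_spec X.left).eq ?_).symm
      have h := (genericPoint_spec Y.left).image π.left.continuous
      rwa [Set.image_univ, π.left.surjective.range_eq, closure_univ] at h
    apply germ_injective_of_isIntegral X.left (U := ⊤) (π.left (genericPoint Y.left)) trivial
    apply residue_injective_of_eq_genericPoint hz
    apply RingHom.injective (π.left.residueFieldMap (genericPoint Y.left)).hom
    rw [← CommRingCat.comp_apply, Scheme.residue_residueFieldMap, CommRingCat.comp_apply,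
      Scheme.Hom.germ_stalkMap_apply, ← CommRingCat.comp_apply (X.left.residue _),
      Scheme.residue_residueFieldMap, CommRingCat.comp_apply, Scheme.Hom.germ_stalkMap_apply]
    exact congrArg _ (congrArg _ h)
  exact ⟨fg_of_fg_of_fg k Γ(X.left, ⊤) Γ(Y.left, ⊤) hY'.out Module.Finite.fg_top hinj⟩

end Groth.Agent.S11205
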