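import Groth.Statements.S11206
import Groth.Agent.H1.Obs.UFG.Components

set_option autoImplicit false
universe u
open CategoryTheory MonoidalCategory CartesianMonoidalCategory MonObj GrpObj AlgebraicGeometry
open scoped TensorProduct
open AGF

namespace Groth.Agent.S11206

open Groth.Agent.H1.Obs Groth.Agent.H1.Obs.UFG

/-- Let k be an algebraically closed field, G a linear algebraic group over k, B a Borel subgroup of G
and U the unipotent radical of B (a maximal connected unipotent subgroup of G). Assume that
invariants of reductive groups over k on finitely generated algebras are finitely generated (used in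
the argument for finite groups). Then U is observable in G and the ring k[G]^U of global functions
on G invariant under right translation by U is finitely generated over the constants (U is a
Grosshans subgroup of G). -/
theorem result (k : Type u) [Field k] [IsAlgClosed k]
    (G : Over (Spec (CommRingCat.of k))) [GrpObj G] [IsAffine G.left] [Smooth G.hom]
    (Bo : Over (Spec (CommRingCat.of k))) [GrpObj Bo] (iB : Bo ⟶ G) (hB : Red.IsBorelOver k iB)
    (U : Over (Spec (CommRingCat.of k))) [GrpObj U] (u : U ⟶ Bo) (hU : Par.IsUnipotentRadical u)
    (thmA : VecGrp.ReductiveInvariantsFG k) :
    AGF.IsObservableIn k (u ≫ iB) ∧ AGF.SubringFGOver k G (AGF.rTransInv (u ≫ iB)) := by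
  exact ⟨isObservableIn_radical hB hU, subringFGOver_invariants hB hU⟩

end Groth.Agent.S11206
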