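import Groth.Statements.S11207
import Groth.Agent.H1.Obs.TransferFG

set_option autoImplicit false
universe u
open CategoryTheory MonoidalCategory CartesianMonoidalCategory MonObj GrpObj AlgebraicGeometry
open scoped TensorProduct
open AGF

namespace Groth.Agent.S11207

/-- (a) ⇔ (b): let k be an algebraically closed field, G a linear algebraic group over k whose identity
component is reductive, and H a closed subgroup of G. Assume that invariants of reductive groups
over k on finitely generated algebras are finitely generated (a standard result, carried as a
hypothesis). Then k[G]^H is finitely generated over the constants if and only if, for every finitely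
generated commutative k-algebra A with a rational action of G by algebra automorphisms, the algebra
of H-invariants A^H is finitely generated over k. -/
theorem result (k : Type u) [Field k] [IsAlgClosed k]
    (G : Over (Spec (CommRingCat.of k))) [GrpObj G] [IsAffine G.left] [Smooth G.hom]
    (H : Over (Spec (CommRingCat.of k))) [GrpObj H] [Smooth H.hom] (i : H ⟶ G) [IsMonHom i]
    [IsClosedImmersion i.left]
    (hG : VecGrp.IsReductiveGrp k G) (thmA : VecGrp.ReductiveInvariantsFG k) :
    AGF.SubringFGOver k G (AGF.rTransInv i) ↔
      ∀ (A : Type u) [CommRing A] [Algebra k A] [Algebra.FiniteType k A] (ρ : VecGrp.GMod G A) (hρ : ρ.IsMult),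
        Algebra.FiniteType k ↥(ρ.fixedSubalgebra hρ i) := by
  haveI : IsAffine H.left := isAffine_of_isAffineHom i.left
  letI := Groth.Agent.Lib.RedPts.Points.baseAlgebra (R := k) (W := G)
  haveI : Algebra.FiniteType k Γ(G.left, ⊤) := Groth.Agent.H1.RInv.finiteType_Γ (G := G)
  exact ⟨fun hfg A _ _ _ ρ hρ => Groth.Agent.H1.Obs.finiteType_fixed i hG thmA hfg A ρ hρ,
    fun h => Groth.Agent.H1.Obs.fg_of_finiteType_fixed i (h Γ(G.left, ⊤) _ _)⟩

end Groth.Agent.S11207
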