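import Groth.Statements.S11217
import Mathlib

set_option autoImplicit false
set_option backward.isDefEq.respectTransparency false
universe u
open CategoryTheory MonoidalCategory CartesianMonoidalCategory MonObj GrpObj AlgebraicGeometry
open scoped TensorProduct
open AGF

namespace Groth.Agent.S11217

open MvPolynomial

theorem mkDerivation_eq_sum {k : Type*} [CommRing k] {σ : Type*} [Fintype σ]
    (F : σ → MvPolynomial σ k) (f : MvPolynomial σ k) :
    mkDerivation k F f = ∑ i, F i * pderiv i f := by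
  classical
  have h : mkDerivation k F = ∑ i, F i • pderiv i := derivation_ext fun j => by
    rw [mkDerivation_X]
    have : (∑ i, F i • pderiv (R := k) i : Derivation k (MvPolynomial σ k) (MvPolynomial σ k)) (X j) =
        ∑ i, F i * pderiv i (X j) := by
      simp only [← Derivation.coeFnAddMonoidHom_apply, map_sum, Finset.sum_apply]
      rfl
    rw [this, Finset.sum_eq_single j (fun i _ hi => by rw [pderiv_X_of_ne (Ne.symm hi), mul_zero])
      (fun h => absurd (Finset.mem_univ j) h), pderiv_X_self, _root_.mul_one]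
  rw [h]
  simp only [← Derivation.coeFnAddMonoidHom_apply, map_sum, Finset.sum_apply]
  rfl

theorem coeff_monomial_mul_pderiv {k : Type*} [CommRing k] {σ : Type*} (s T : σ →₀ ℕ) (i : σ)
    (f : MvPolynomial σ k) :
    coeff T (monomial s (1 : k) * pderiv i f) =
      if s ≤ T then coeff (T - s + Finsupp.single i 1) f * ((T - s) i + 1 : ℕ) else 0 := by
  classical
  rw [coeff_monomial_mul']
  split_ifs with h
  · rw [_root_.one_mul, coeff_pderiv]; push_cast; ring
  · rfl

/-- Let k be a field of characteristic zero and m ≥ 2; in the polynomial ring k[x, y, z, s, t, u, v]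
(variables 0, …, 6) let δ be the k-derivation with δ(x) = δ(y) = δ(z) = 0, δ(s) = x^(m+1), δ(t) =
y^(m+1), δ(u) = z^(m+1), δ(v) = (xyz)^m, and grade by total degree in s, t, u, v. If f is
homogeneous of degree n ≥ 1 for this grading and δ(f) = 0, then every coefficient of f, as a
polynomial in s, t, u, v over k[x, y, z], lies in the ideal (x, y, z): every monomial of f has
positive degree in x, y, z. (The published statement allows n = 0, where the constant 1 is a
counterexample; this row assumes n ≥ 1. The published definition of the derivation gives δ(v) =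
(xyz)^(m+1), for which the assertion fails: v − (yz)^(m+1)·s is killed by δ and has the monomial v
with coefficient 1; this row uses δ(v) = (xyz)^m, the exponent of the published action formula and
of the published examples of invariants.) -/
theorem result (k : Type u) [Field k] [CharZero k] (m : ℕ) (hm : 2 ≤ m) (n : ℕ) (hn : 1 ≤ n)
    (f : MvPolynomial (Fin 7) k)
    (hf : MvPolynomial.IsWeightedHomogeneous (![0, 0, 0, 1, 1, 1, 1] : Fin 7 → ℕ) f n)
    (hδ : MvPolynomial.mkDerivation k
      (![0, 0, 0, MvPolynomial.X 0 ^ (m + 1), MvPolynomial.X 1 ^ (m + 1), MvPolynomial.X 2 ^ (m + 1),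
        (MvPolynomial.X 0 * MvPolynomial.X 1 * MvPolynomial.X 2) ^ m] : Fin 7 → MvPolynomial (Fin 7) k) f = 0) :
    ∀ d ∈ f.support, 0 < d 0 + d 1 + d 2 := by
  classical
  intro d hd
  by_contra h0
  have h0' : d 0 = 0 ∧ d 1 = 0 ∧ d 2 = 0 := by omega
  have hdeg : d 3 + d 4 + d 5 + d 6 = n := by
    have := hf (MvPolynomial.mem_support_iff.mp hd)
    rw [Finsupp.weight_apply, Finsupp.sum_fintype _ _ (by simp)] at this
    simpa [Fin.sum_univ_seven] using this
  have hc : MvPolynomial.coeff d f ≠ 0 := MvPolynomial.mem_support_iff.mp hd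
  let M : Fin 7 → (Fin 7 →₀ ℕ) := ![0, 0, 0, Finsupp.single 0 (m + 1), Finsupp.single 1 (m + 1),
    Finsupp.single 2 (m + 1), Finsupp.single 0 m + Finsupp.single 1 m + Finsupp.single 2 m]
  rw [mkDerivation_eq_sum, Fin.sum_univ_seven] at hδ
  have key : ∀ T : Fin 7 →₀ ℕ,
      (if M 3 ≤ T then MvPolynomial.coeff (T - M 3 + Finsupp.single 3 1) f * ((T - M 3) 3 + 1 : ℕ) else 0) +
      (if M 4 ≤ T then MvPolynomial.coeff (T - M 4 + Finsupp.single 4 1) f * ((T - M 4) 4 + 1 : ℕ) else 0) +
      (if M 5 ≤ T then MvPolynomial.coeff (T - M 5 + Finsupp.single 5 1) f * ((T - M 5) 5 + 1 : ℕ) else 0) +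
      (if M 6 ≤ T then MvPolynomial.coeff (T - M 6 + Finsupp.single 6 1) f * ((T - M 6) 6 + 1 : ℕ) else 0)
        = 0 := by
    intro T
    have := congrArg (MvPolynomial.coeff T) hδ
    simp only [MvPolynomial.coeff_add, MvPolynomial.coeff_zero] at this
    rw [← coeff_monomial_mul_pderiv, ← coeff_monomial_mul_pderiv, ← coeff_monomial_mul_pderiv,
      ← coeff_monomial_mul_pderiv]
    have e3 : MvPolynomial.monomial (M 3) (1 : k) = MvPolynomial.X 0 ^ (m + 1) := by
      rw [MvPolynomial.X_pow_eq_monomial]; rfl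
    have e4 : MvPolynomial.monomial (M 4) (1 : k) = MvPolynomial.X 1 ^ (m + 1) := by
      rw [MvPolynomial.X_pow_eq_monomial]; rfl
    have e5 : MvPolynomial.monomial (M 5) (1 : k) = MvPolynomial.X 2 ^ (m + 1) := by
      rw [MvPolynomial.X_pow_eq_monomial]; rfl
    have e6 : MvPolynomial.monomial (M 6) (1 : k) = (MvPolynomial.X 0 * MvPolynomial.X 1 * MvPolynomial.X 2) ^ m := by
      rw [mul_pow, mul_pow, MvPolynomial.X_pow_eq_monomial, MvPolynomial.X_pow_eq_monomial,
        MvPolynomial.X_pow_eq_monomial, MvPolynomial.monomial_mul, MvPolynomial.monomial_mul, _root_.mul_one, _root_.mul_one]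
      rfl
    rw [e3, e4, e5, e6]
    simpa using this
  have hcases : 0 < d 6 ∨ (d 6 = 0 ∧ (0 < d 3 ∨ 0 < d 4 ∨ 0 < d 5)) := by omega
  have hle : ∀ (T : Fin 7 →₀ ℕ) (j : Fin 7) (i : Fin 7), T i < M j i → ¬ M j ≤ T :=
    fun T j i h h' => absurd (h' i) (not_le.mpr h)
  have hcancel : ∀ (T s : Fin 7 →₀ ℕ) (i : Fin 7), 0 < d i → T = d - Finsupp.single i 1 + s →
      s ≤ T ∧ T - s + Finsupp.single i 1 = d := fun T s i hi hT => by
    subst hT
    refine ⟨le_add_self, ?_⟩
    rw [add_tsub_cancel_right, tsub_add_cancel_of_le]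
    intro l
    rcases eq_or_ne l i with rfl | h
    · simp; omega
    · simp [h.symm]
  have hfin : ∀ (c : k) (a : ℕ), c ≠ 0 → c * ((a + 1 : ℕ) : k) ≠ 0 :=
    fun c a hc => mul_ne_zero hc (Nat.cast_ne_zero.mpr (Nat.succ_ne_zero a))
  rcases hcases with h | ⟨h6, h | h | h⟩
  · obtain ⟨h1, h2⟩ := hcancel _ (M 6) 6 h rfl
    have := key (d - Finsupp.single 6 1 + M 6)
    rw [if_neg (hle _ 3 0 (by simp [M, h0'])), if_neg (hle _ 4 1 (by simp [M, h0'])),
      if_neg (hle _ 5 2 (by simp [M, h0'])), if_pos h1, h2, zero_add, zero_add, zero_add] at this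
    exact hfin _ _ hc this
  · obtain ⟨h1, h2⟩ := hcancel _ (M 3) 3 h rfl
    have := key (d - Finsupp.single 3 1 + M 3)
    rw [if_pos h1, h2, if_neg (hle _ 4 1 (by simp [M, h0'])), if_neg (hle _ 5 2 (by simp [M, h0'])),
      if_neg (hle _ 6 1 (by simp [M, h0']; omega)), add_zero, add_zero, add_zero] at this
    exact hfin _ _ hc this
  · obtain ⟨h1, h2⟩ := hcancel _ (M 4) 4 h rfl
    have := key (d - Finsupp.single 4 1 + M 4)
    rw [if_pos h1, h2, if_neg (hle _ 3 0 (by simp [M, h0'])), if_neg (hle _ 5 2 (by simp [M, h0'])),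
      if_neg (hle _ 6 0 (by simp [M, h0']; omega)), zero_add, add_zero, add_zero] at this
    exact hfin _ _ hc this
  · obtain ⟨h1, h2⟩ := hcancel _ (M 5) 5 h rfl
    have := key (d - Finsupp.single 5 1 + M 5)
    rw [if_pos h1, h2, if_neg (hle _ 3 0 (by simp [M, h0'])), if_neg (hle _ 4 1 (by simp [M, h0'])),
      if_neg (hle _ 6 0 (by simp [M, h0']; omega)), zero_add, zero_add, add_zero] at this
    exact hfin _ _ hc this

end Groth.Agent.S11217
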