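import Groth.Statements.S11219
import Groth.Agent.H1.Obs.Apply

set_option autoImplicit false
universe u
open CategoryTheory MonoidalCategory CartesianMonoidalCategory MonObj GrpObj AlgebraicGeometry
open scoped TensorProduct
open AGF

namespace Groth.Agent.S11219

open Groth.Agent.H1.Obs

/-- Let k be an algebraically closed field, G a linear algebraic group over k (an affine smooth group
scheme over k) and H a closed subgroup of G (a smooth closed subgroup scheme, i : H → G), with G
connected. Then H is observable in G if and only if every right-H-invariant rational function on G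
is a quotient of two right-H-invariant global functions: whenever global functions a, b with b ≠ 0
satisfy a(xh)·b(x) = a(x)·b(xh) on G × H, there are right-H-invariant global functions a′, b′ with
b′ ≠ 0 and a·b′ = a′·b. (The published condition concerns the identity component of G and its
intersection with H; for connected G it reads as stated.) -/
theorem result (k : Type u) [Field k] [IsAlgClosed k]
    (G : Over (Spec (CommRingCat.of k))) [GrpObj G] [IsAffine G.left] [Smooth G.hom]
    (H : Over (Spec (CommRingCat.of k))) [GrpObj H] [Smooth H.hom] (i : H ⟶ G) [IsMonHom i]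
    [IsClosedImmersion i.left] [ConnectedSpace G.left] :
    AGF.IsObservableIn k i ↔
      ∀ a b : Γ(G.left, ⊤), b ≠ 0 →
        ((G ◁ i) ≫ μ[G]).left.appTop a * (fst G H).left.appTop b = (fst G H).left.appTop a * ((G ◁ i) ≫ μ[G]).left.appTop b →
        ∃ a' b' : Γ(G.left, ⊤), AGF.IsRTransInv i a' ∧ AGF.IsRTransInv i b' ∧ b' ≠ 0 ∧ a * b' = a' * b := by
  haveI : IsAffine H.left := isAffine_of_isAffineHom i.left
  constructor
  · intro hobs a b hb h
    obtain ⟨a', b', ha', hb', hb0, hab⟩ := exists_inv_fraction i hobs a b hb ((frac_iff i a b).mp h)
    exact ⟨a', b', (isRTransInv_iff i a').mpr ha', (isRTransInv_iff i b').mpr hb', hb0, hab⟩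
  · intro hfrac
    refine observable_of_fractions i fun a b hb h => ?_
    obtain ⟨a', b', ha', hb', hb0, hab⟩ := hfrac a b hb ((frac_iff i a b).mpr h)
    exact ⟨a', b', (isRTransInv_iff i a').mp ha', (isRTransInv_iff i b').mp hb', hb0, hab⟩

end Groth.Agent.S11219
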