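import Groth.Statements.S11221
import Mathlib.RingTheory.Ideal.Height
import Mathlib.RingTheory.Ideal.KrullsHeightTheorem
import Mathlib.RingTheory.DiscreteValuationRing.TFAE
import Mathlib.RingTheory.DedekindDomain.Basic
import Mathlib.RingTheory.KrullDimension.Field

set_option autoImplicit false
universe u
open CategoryTheory MonoidalCategory CartesianMonoidalCategory MonObj GrpObj AlgebraicGeometry
open scoped TensorProduct
open AGF

namespace Groth.Agent.S11221

/-- Let R be a Noetherian integrally closed domain with fraction field K and let p be a prime ideal of R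
of height one. Then there is f ∈ K which is not in R but lies in the local ring R_q ⊆ K of every
height-one prime q ≠ p (f = a/b with b ∉ q): a rational function on Spec R with a pole along V(p)
only. (The published statement is for the coordinate ring of a normal affine variety; this row is
for any Noetherian integrally closed domain, which is all the argument uses.) -/
theorem result (R : Type u) [CommRing R] [IsDomain R] [IsNoetherianRing R] [IsIntegrallyClosed R]
    (p : Ideal R) [p.IsPrime] (hp : p.height = 1) :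
    ∃ f : FractionRing R, f ∉ Set.range ⇑(algebraMap R (FractionRing R)) ∧
      ∀ q : Ideal R, q.IsPrime → q.height = 1 → q ≠ p →
        ∃ a b : R, b ∉ q ∧ f * algebraMap R (FractionRing R) b = algebraMap R (FractionRing R) a := by
  classical
  obtain ⟨a, hap, ha0⟩ : ∃ a ∈ p, a ≠ 0 := by
    by_contra h
    push Not at h
    have : p = ⊥ := le_bot_iff.mp fun x hx => by simpa using h x hx
    rw [this, Ideal.height_bot] at hp
    exact zero_ne_one hp
  set Q : Set (Ideal R) := {q | q.IsPrime ∧ q.height = 1 ∧ a ∈ q ∧ q ≠ p} with hQ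
  have hmin : ∀ q ∈ Q, q ∈ (Ideal.span {a}).minimalPrimes := by
    rintro q ⟨hq, hq1, haq, -⟩
    refine ⟨⟨hq, (Ideal.span_singleton_le_iff_mem q).mpr haq⟩, fun q' ⟨hq', hle'⟩ hle => ?_⟩
    have hlt2 : q'.height ≤ 0 ∨ q' = q := by
      rcases eq_or_lt_of_le (show q' ≤ q from hle) with h | h
      · exact Or.inr h
      · have h0 : q'.height < 1 := hq1 ▸ Ideal.height_strict_mono_of_isPrime h
        exact Or.inl (Order.lt_one_iff.mp h0).le
    rcases hlt2 with h0 | rfl
    · exfalso
      have hne : q' ≠ ⊥ := fun e => ha0 (by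
        subst e; simpa using (Ideal.span_singleton_le_iff_mem _).mp hle')
      have : (⊥ : Ideal R) < q' := bot_lt_iff_ne_bot.mpr hne
      exact not_lt_zero' ((Ideal.height_strict_mono_of_isPrime this).trans_le h0)
    · exact le_rfl
  have hQfin : Q.Finite := (Ideal.finite_minimalPrimes_of_isNoetherianRing R _).subset hmin
  have hloc : ∀ q ∈ Q, ∃ (N : ℕ), ∀ t ∈ q, ∀ n ≥ N, ∃ u b : R, b ∉ q ∧ t ^ n * b = a * u := by
    rintro q ⟨hq, hq1, haq, -⟩
    have hd : ringKrullDim (Localization.AtPrime q) = 1 := by
      rw [IsLocalization.AtPrime.ringKrullDim_eq_height q, hq1]; rfl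
    have : IsIntegrallyClosed (Localization.AtPrime q) :=
      isIntegrallyClosed_of_isLocalization _ q.primeCompl q.primeCompl_le_nonZeroDivisors
    have : Ring.DimensionLEOne (Localization.AtPrime q) :=
      ⟨fun {I} hI hIp => Ring.krullDimLE_one_iff_of_noZeroDivisors.mp (Ring.krullDimLE_iff.mpr hd.le) I hI hIp⟩
    have : IsDedekindDomain (Localization.AtPrime q) := { }
    have hnf : ¬ IsField (Localization.AtPrime q) := fun h => by
      rw [ringKrullDim_eq_zero_of_isField h] at hd; exact zero_ne_one hd
    have : IsDiscreteValuationRing (Localization.AtPrime q) :=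
      ((IsDiscreteValuationRing.TFAE (Localization.AtPrime q) hnf).out 2 0).mp ‹IsDedekindDomain (Localization.AtPrime q)›
    obtain ⟨π, hπ⟩ := IsDiscreteValuationRing.exists_irreducible (Localization.AtPrime q)
    have haL : algebraMap R (Localization.AtPrime q) a ≠ 0 :=
      (map_ne_zero_iff _ (IsLocalization.injective _ q.primeCompl_le_nonZeroDivisors)).mpr ha0
    obtain ⟨N, w, hw⟩ := IsDiscreteValuationRing.eq_unit_mul_pow_irreducible haL hπ
    refine ⟨N, fun t ht n hn => ?_⟩
    have htm : algebraMap R (Localization.AtPrime q) t ∈ IsLocalRing.maximalIdeal _ := by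
      rw [← Localization.AtPrime.map_eq_maximalIdeal]
      exact Ideal.mem_map_of_mem _ ht
    rw [(IsDiscreteValuationRing.irreducible_iff_uniformizer π).mp hπ,
      Ideal.mem_span_singleton] at htm
    have hdvd : algebraMap R (Localization.AtPrime q) a ∣ algebraMap R _ t ^ n := by
      rw [hw]
      refine (IsUnit.mul_left_dvd w.isUnit).mpr ?_
      exact (pow_dvd_pow _ hn).trans (pow_dvd_pow_of_dvd htm n)
    obtain ⟨z, hz⟩ := hdvd
    obtain ⟨u, s, rfl⟩ := IsLocalization.exists_mk'_eq q.primeCompl z
    refine ⟨u, s, s.2, IsLocalization.injective (Localization.AtPrime q) q.primeCompl_le_nonZeroDivisors ?_⟩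
    rw [map_mul, map_mul, map_pow, hz, _root_.mul_assoc, IsLocalization.mk'_spec]
  choose! N hN using hloc
  have hsel : ∀ q ∈ Q, ∃ t ∈ q, t ∉ p := by
    rintro q ⟨hq, hq1, -, hne⟩
    by_contra h
    push Not at h
    refine hne (eq_of_le_of_not_lt (show q ≤ p from h) fun hlt => ?_)
    have := Ideal.height_strict_mono_of_isPrime hlt
    rw [hq1, hp] at this
    exact lt_irrefl _ this
  choose! t htq htp using hsel
  set c : R := ∏ q ∈ hQfin.toFinset, t q ^ N q with hc
  have hcp : c ∉ p := by
    intro h
    obtain ⟨q, hq, h'⟩ := (Ideal.IsPrime.prod_mem_iff (p := p)).mp h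
    exact htp q (hQfin.mem_toFinset.mp hq) (‹p.IsPrime›.mem_of_pow_mem _ h')
  have haF : algebraMap R (FractionRing R) a ≠ 0 := by simpa using ha0
  refine ⟨algebraMap R _ c / algebraMap R _ a, ?_, fun q hq hq1 hne => ?_⟩
  · rintro ⟨z, hz⟩
    rw [eq_div_iff haF, ← map_mul] at hz
    exact hcp (IsFractionRing.injective R (FractionRing R) hz ▸ p.mul_mem_left z hap)
  · by_cases haq : a ∈ q
    · have hqQ : q ∈ Q := ⟨hq, hq1, haq, hne⟩
      obtain ⟨u, b, hb, hub⟩ := hN q hqQ (t q) (htq q hqQ) (N q) le_rfl
      refine ⟨u * ∏ q' ∈ hQfin.toFinset.erase q, t q' ^ N q', b, hb, ?_⟩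
      rw [div_mul_eq_mul_div, div_eq_iff haF, ← map_mul, ← map_mul]
      congr 1
      rw [hc, ← Finset.mul_prod_erase _ _ (hQfin.mem_toFinset.mpr hqQ),
        mul_right_comm (t q ^ N q), hub]
      ring
    · exact ⟨c, a, haq, div_mul_cancel₀ _ haF⟩

end Groth.Agent.S11221
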