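import Groth.Statements.S11222
import Groth.Agent.Lib.H1.Grosshans.Main
import Groth.Agent.H1.Obs.UFG.Intermediate
import Groth.Agent.H1.Obs.Apply
import Groth.Agent.H1.Obs.ReductiveObs
import Groth.Agent.S11207

set_option autoImplicit false
universe u
open CategoryTheory MonoidalCategory CartesianMonoidalCategory MonObj GrpObj AlgebraicGeometry
open scoped TensorProduct
open AGF

namespace Groth.Agent.S11222

open Groth.Agent.H1.Obs

attribute [local instance] Groth.Agent.Lib.RedPts.Points.baseAlgebra

/-- Let k be an algebraically closed field, L a linear algebraic group over k, G a closed subgroup of L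
whose identity component is reductive, H a closed subgroup of G which is observable in G with k[G]^H
finitely generated over the constants (a Grosshans subgroup of G), and G₁ a closed subgroup of L,
observable in L, containing H (i₁ : H → G₁ compatible with the inclusions into L). Assume the
following standard results of geometric invariant theory for groups with reductive identity
component, carried as hypotheses: finite generation of invariants on finitely generated algebras,
and that the quotient map of an affine variety by such a group separates disjoint closed invariant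
subsets. Then H is observable in G₁ and k[G₁]^H is finitely generated over the constants (H is a
Grosshans subgroup of G₁). -/
theorem result (k : Type u) [Field k] [IsAlgClosed k]
    (L : Over (Spec (CommRingCat.of k))) [GrpObj L] [IsAffine L.left] [Smooth L.hom]
    (G : Over (Spec (CommRingCat.of k))) [GrpObj G] [Smooth G.hom] (jG : G ⟶ L) [IsMonHom jG] [IsClosedImmersion jG.left]
    (hG : VecGrp.IsReductiveGrp k G)
    (H : Over (Spec (CommRingCat.of k))) [GrpObj H] [Smooth H.hom] (i : H ⟶ G) [IsMonHom i]
    [IsClosedImmersion i.left]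
    (hH : AGF.IsObservableIn k i) (hfg : AGF.SubringFGOver k G (AGF.rTransInv i))
    (G₁ : Over (Spec (CommRingCat.of k))) [GrpObj G₁] [Smooth G₁.hom] (j₁ : G₁ ⟶ L) [IsMonHom j₁] [IsClosedImmersion j₁.left]
    (hG₁ : AGF.IsObservableIn k j₁) (i₁ : H ⟶ G₁) [IsMonHom i₁] (hc : i₁ ≫ j₁ = i ≫ jG)
    (thmA : VecGrp.ReductiveInvariantsFG k) (thmAbiv : AGF.ReductiveQuotSeparates k) :
    AGF.IsObservableIn k i₁ ∧ AGF.SubringFGOver k G₁ (AGF.rTransInv i₁) := by
  classical
  haveI : IsAffine G.left := isAffine_of_isAffineHom jG.left
  haveI : IsAffine H.left := isAffine_of_isAffineHom i.left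
  haveI : IsAffine G₁.left := isAffine_of_isAffineHom j₁.left
  haveI : Mono j₁ := Over.mono_of_mono_left j₁
  have hL := observable_comp jG i hH (observable_of_reductive jG hG thmAbiv)
  refine ⟨(isObservableIn_iff i₁).mpr fun g hg => ?_, ?_⟩
  · obtain ⟨h, hh⟩ := (isObservableIn_iff (i ≫ jG)).mp hL (g ≫ j₁) fun F hF x => by
      have hF₁ : Inv i₁ (restr j₁ (ltr x F)) := fun y h => by
        rw [ev_restr, ev_restr, ev_ltr, ev_ltr, MonObj.mul_comp, Category.assoc, hc, ← _root_.mul_assoc]
        exact hF _ h
      have h1 := hg _ hF₁ 1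
      rw [_root_.one_mul, ev_restr, ev_restr, ev_ltr, ev_ltr, MonObj.one_comp, _root_.mul_one] at h1
      exact h1
    refine ⟨h, ?_⟩
    rw [← cancel_mono j₁, Category.assoc, hc, hh]
  · haveI : Algebra.FiniteType k Γ(L.left, ⊤) := Groth.Agent.H1.RInv.finiteType_Γ (G := L)
    have hA := (Groth.Agent.S11207.result k G H i hG thmA).mp hfg Γ(L.left, ⊤) (pullMod (regular L) jG)
      (Groth.Agent.Lib.H1.Grosshans.pullMod_isMult regular_isMult jG)
    have heq : (pullMod (regular L) jG).fixedSubalgebra
        (Groth.Agent.Lib.H1.Grosshans.pullMod_isMult regular_isMult jG) i =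
        (regular L).fixedSubalgebra regular_isMult (i₁ ≫ j₁) := by
      ext f
      show f ∈ (pullMod (regular L) jG).fixedUnder i ↔ f ∈ (regular L).fixedUnder (i₁ ≫ j₁)
      rw [hc, mem_fixedUnder_iff, mem_fixedUnder_iff]
      simp only [Groth.Agent.Lib.H1.Grosshans.act_pull, Category.assoc]
    rw [heq] at hA
    exact Groth.Agent.H1.Obs.UFG.subringFGOver_intermediate j₁ hG₁ i₁ (fg_of_finiteType_fixed (i₁ ≫ j₁) hA)

end Groth.Agent.S11222
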