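import Groth.Statements.S11223
import Mathlib.RingTheory.IntegralClosure.IsIntegralClosure.Basic
import Mathlib.RingTheory.MvPolynomial.Homogeneous
import Mathlib.Data.Finsupp.Interval

set_option autoImplicit false
universe u
open CAlg

namespace Groth.Agent.S11223

/-- Let k be a field, let z_1, ..., z_m be homogeneous polynomials of positive degree in the polynomial
ring k[x_1, ..., x_n], and suppose the radical of the ideal (z_1, ..., z_m) is the ideal (x_1, ...,
x_n) generated by the variables. Then the polynomial ring is integral over the subalgebra generated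
by z_1, ..., z_m. (The published statement is over an algebraically closed field; this row takes any
field, which its proof allows.) -/
theorem result (k : Type u) [Field k] (n m : ℕ)
    (z : Fin m → MvPolynomial (Fin n) k) (d : Fin m → ℕ) (hd : ∀ i, 0 < d i)
    (hz : ∀ i, (z i).IsHomogeneous (d i))
    (hrad : (Ideal.span (Set.range z)).radical =
      Ideal.span (Set.range (MvPolynomial.X : Fin n → MvPolynomial (Fin n) k))) :
    Algebra.IsIntegral (Algebra.adjoin k (Set.range z)) (MvPolynomial (Fin n) k) := by
  classical
  set T := Algebra.adjoin k (Set.range z)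
  have hN : ∀ i : Fin n, ∃ N : ℕ, (MvPolynomial.X i : MvPolynomial (Fin n) k) ^ N ∈ Ideal.span (Set.range z) := fun i => by
    have h : (MvPolynomial.X i : MvPolynomial (Fin n) k) ∈ (Ideal.span (Set.range z)).radical := hrad ▸ Ideal.subset_span ⟨i, rfl⟩
    exact h
  choose N hN using hN
  let B : Finset (Fin n →₀ ℕ) := Finset.Iic (Finsupp.equivFunOnFinite.symm N)
  let M : Submodule T (MvPolynomial (Fin n) k) := Submodule.span T ((fun m => MvPolynomial.monomial m (1 : k)) '' (B : Set (Fin n →₀ ℕ)))
  have hsm : ∀ (c : k) (f : MvPolynomial (Fin n) k), f ∈ M → MvPolynomial.C c * f ∈ M := fun c f hf =>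
    M.smul_mem (⟨MvPolynomial.C c, T.algebraMap_mem c⟩ : T) hf
  have main : ∀ (D : ℕ) (f : MvPolynomial (Fin n) k), f.IsHomogeneous D → f ∈ M := by
    intro D
    induction D using Nat.strong_induction_on with
    | _ D ih =>
      have hmono : ∀ m : Fin n →₀ ℕ, Finsupp.degree m = D → MvPolynomial.monomial m (1 : k) ∈ M := by
        intro m hmD
        by_cases hB : m ∈ B
        · exact Submodule.subset_span ⟨m, hB, rfl⟩
        obtain ⟨i, hi⟩ : ∃ i, N i < m i := by
          by_contra hcon
          push Not at hcon
          exact hB (Finset.mem_Iic.2 fun i => by simpa using hcon i)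
        have hmem : MvPolynomial.monomial m (1 : k) ∈ Ideal.span (Set.range z) := by
          have : (MvPolynomial.X i : MvPolynomial (Fin n) k) ^ N i ∣ MvPolynomial.monomial m (1 : k) := by
            refine ⟨MvPolynomial.monomial (m - Finsupp.single i (N i)) 1, ?_⟩
            rw [MvPolynomial.X_pow_eq_monomial, MvPolynomial.monomial_mul, one_mul, add_tsub_cancel_of_le (Finsupp.single_le_iff.2 hi.le)]
          exact Ideal.mem_of_dvd _ this (hN i)
        obtain ⟨c, hc⟩ := (Submodule.mem_span_range_iff_exists_fun _).1 hmem
        have hh := congrArg (MvPolynomial.homogeneousComponent D) hc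
        rw [map_sum, MvPolynomial.homogeneousComponent_of_mem (MvPolynomial.isHomogeneous_monomial _ hmD), if_pos rfl] at hh
        rw [← hh]
        refine M.sum_mem fun l _ => ?_
        by_cases hl : d l ≤ D
        · have he : MvPolynomial.homogeneousComponent D (c l • z l) = MvPolynomial.homogeneousComponent (D - d l) (c l) * z l := by
            rw [smul_eq_mul]
            conv_lhs => rw [← MvPolynomial.sum_homogeneousComponent (c l), Finset.sum_mul, map_sum]
            have hs : ∀ q, MvPolynomial.homogeneousComponent D (MvPolynomial.homogeneousComponent q (c l) * z l) = if q = D - d l then MvPolynomial.homogeneousComponent q (c l) * z l else 0 := by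
              intro q
              rw [MvPolynomial.homogeneousComponent_of_mem ((MvPolynomial.homogeneousComponent_isHomogeneous q (c l)).mul (hz l))]
              exact if_congr (by omega) rfl rfl
            simp only [hs, Finset.sum_ite_eq', Finset.mem_range]
            split_ifs with hq
            · rfl
            · rw [MvPolynomial.homogeneousComponent_eq_zero _ _ (by omega), zero_mul]
          rw [he, mul_comm]
          exact M.smul_mem (⟨z l, Algebra.subset_adjoin ⟨l, rfl⟩⟩ : T) (ih (D - d l) (by have := hd l; omega) _ (MvPolynomial.homogeneousComponent_isHomogeneous _ _))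
        · have he : MvPolynomial.homogeneousComponent D (c l • z l) = 0 := by
            rw [smul_eq_mul]
            conv_lhs => rw [← MvPolynomial.sum_homogeneousComponent (c l), Finset.sum_mul, map_sum]
            refine Finset.sum_eq_zero fun q _ => ?_
            rw [MvPolynomial.homogeneousComponent_of_mem ((MvPolynomial.homogeneousComponent_isHomogeneous q (c l)).mul (hz l)), if_neg (by omega)]
          rw [he]; exact M.zero_mem
      intro f hf
      rw [f.as_sum]
      refine M.sum_mem fun m hm => ?_
      rw [← mul_one (MvPolynomial.coeff m f), ← MvPolynomial.C_mul_monomial]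
      refine hsm _ _ (hmono m ?_)
      have := hf (MvPolynomial.mem_support_iff.1 hm)
      rwa [Finsupp.degree_eq_weight_one]
  haveI : Module.Finite T (MvPolynomial (Fin n) k) := ⟨⟨B.image fun m => MvPolynomial.monomial m 1, by
    refine eq_top_iff.2 fun f _ => ?_
    rw [Finset.coe_image, ← MvPolynomial.sum_homogeneousComponent f]
    exact Submodule.sum_mem _ fun q _ => main q _ (MvPolynomial.homogeneousComponent_isHomogeneous _ _)⟩⟩
  exact Algebra.IsIntegral.of_finite T _

end Groth.Agent.S11223
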