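import Groth.Statements.S11224
import Groth.Agent.Lib.H1.Grosshans.Modules

set_option autoImplicit false
universe u
open CategoryTheory MonoidalCategory CartesianMonoidalCategory MonObj GrpObj AlgebraicGeometry
open scoped TensorProduct
open AGF

namespace Groth.Agent.S11224

open Groth.Agent.Lib.H1.Grosshans Groth.Agent.H1.Obs

attribute [local instance] Groth.Agent.Lib.RedPts.Points.baseAlgebra

/-- Let k be an algebraically closed field, G a linear algebraic group over k (affine, smooth) whose
identity component is reductive, B a Borel subgroup of G and U the unipotent radical of B (a maximal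
unipotent subgroup of G). Assume that invariants of reductive groups over k on finitely generated
algebras are finitely generated (a true result which the published text assumes without proof,
carried here as a hypothesis). Then a rational G-module V is finite-dimensional if and only if its
subspace of U-invariants V^U is finite-dimensional. -/
theorem result (k : Type u) [Field k] [IsAlgClosed k]
    (G : Over (Spec (CommRingCat.of k))) [GrpObj G] (hG : VecGrp.IsReductiveGrp k G)
    (Bo : Over (Spec (CommRingCat.of k))) [GrpObj Bo] (iB : Bo ⟶ G) (hB : Red.IsBorelOver k iB)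
    (U : Over (Spec (CommRingCat.of k))) [GrpObj U] (u : U ⟶ Bo) (hU : Par.IsUnipotentRadical u)
    (thmA : VecGrp.ReductiveInvariantsFG k)
    (V : Type u) [AddCommGroup V] [Module k V] (ρ : VecGrp.GMod G V) :
    Module.Finite k V ↔ Module.Finite k ↥(ρ.fixedUnder (u ≫ iB)) := by
  obtain ⟨hA, hS, -⟩ := id hG
  haveI := hA
  haveI := hS
  refine ⟨fun hfin => inferInstance, fun hfin => ?_⟩
  let τ : VecGrp.GMod G k := VecGrp.GMod.trivial G k
  have hτ : τ.IsMult := fun B _ _ g => ⟨fun x y => rfl, rfl⟩
  have hc : VecGrp.GMod.IsCompat τ ρ := fun B _ _ g x y => by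
    show ρ.ρ B g (VecGrp.GMod.smulW k k V B x y) = VecGrp.GMod.smulW k k V B x (ρ.ρ B g y)
    induction x using TensorProduct.induction_on with
    | zero => simp
    | add p q hp hq => simp only [map_add, LinearMap.add_apply, hp, hq]
    | tmul b c =>
      have key : ∀ z : B ⊗[k] V, VecGrp.GMod.smulW k k V B (b ⊗ₜ c) z = (algebraMap k B c * b) • z := fun z => by
        induction z using TensorProduct.induction_on with
        | zero => simp
        | add p q hp hq => simp only [map_add, smul_add, hp, hq]
        | tmul d v =>
          show (b * d) ⊗ₜ[k] (c • v) = _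
          rw [TensorProduct.tmul_smul, TensorProduct.smul_tmul', TensorProduct.smul_tmul', Algebra.smul_def,
            smul_eq_mul, _root_.mul_assoc]
      rw [key, key, map_smul]
  obtain ⟨s, hs⟩ := (Module.Finite.iff_fg).mp hfin
  have hk : ∀ c : k, c ∈ τ.fixedSubalgebra hτ (u ≫ iB) := fun c => fun B _ _ h => rfl
  have hfg : Algebra.FiniteType k ↥(τ.fixedSubalgebra hτ (u ≫ iB)) :=
    (Subalgebra.fg_iff_finiteType _).mp ⟨∅, le_antisymm (Algebra.adjoin_le (by simp)) fun c _ => Subalgebra.algebraMap_mem _ c⟩
  refine finite_of_fixed_fg (A := k) hG hB hU τ hτ hfg ρ hc s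
    (fun v hv => hs ▸ Submodule.subset_span hv) fun v hv => ?_
  rw [← hs] at hv
  induction hv using Submodule.span_induction with
  | mem x hx => exact Submodule.subset_span hx
  | zero => exact Submodule.zero_mem _
  | add x y _ _ hx hy => exact Submodule.add_mem _ hx hy
  | smul r x _ hx => exact Submodule.smul_mem _ r hx

end Groth.Agent.S11224
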