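import Groth.Statements.S11227
import Groth.Agent.Lib.H1.Grosshans.Modules

set_option autoImplicit false
universe u
open CategoryTheory MonoidalCategory CartesianMonoidalCategory MonObj GrpObj AlgebraicGeometry
open scoped TensorProduct
open AGF

namespace Groth.Agent.S11227

open Groth.Agent.Lib.H1.Grosshans Groth.Agent.H1.Obs

attribute [local instance] Groth.Agent.Lib.RedPts.Points.baseAlgebra

/-- Let k an algebraically closed field, G a linear algebraic group over k (affine, smooth) whose
identity component is reductive, B a Borel subgroup of G with unipotent radical U (a maximal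
unipotent subgroup). Assume finite generation of invariants of reductive groups over k on finitely
generated algebras (a true result which the published text assumes without proof, carried here as a
hypothesis). Let A be a finitely generated commutative k-algebra with a rational action of G by
algebra automorphisms and C a finitely generated subalgebra of A stable under G. Then integrality of
A over C is equivalent to integrality of A^U over C^U = C ∩ A^U, that is, every element of A^U is
integral over the subalgebra C ∩ A^U. -/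
theorem result (k : Type u) [Field k] [IsAlgClosed k]
    (G : Over (Spec (CommRingCat.of k))) [GrpObj G] (hG : VecGrp.IsReductiveGrp k G)
    (Bo : Over (Spec (CommRingCat.of k))) [GrpObj Bo] (iB : Bo ⟶ G) (hB : Red.IsBorelOver k iB)
    (U : Over (Spec (CommRingCat.of k))) [GrpObj U] (u : U ⟶ Bo) (hU : Par.IsUnipotentRadical u)
    (thmA : VecGrp.ReductiveInvariantsFG k)
    (A : Type u) [CommRing A] [Algebra k A] [Algebra.FiniteType k A] (ρ : VecGrp.GMod G A) (hρ : ρ.IsMult)
    (C : Subalgebra k A) (hCfg : C.FG) (hC : ρ.IsStable (𝟙 G) (Subalgebra.toSubmodule C)) :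
    Algebra.IsIntegral ↥C A ↔
      ∀ x ∈ ρ.fixedUnder (u ≫ iB), IsIntegral ↥(C ⊓ ρ.fixedSubalgebra hρ (u ≫ iB)) x := by
  classical
  obtain ⟨hA, hS, -⟩ := id hG
  haveI := hA
  haveI := hS
  obtain ⟨hm, hUa, hUs, -, -⟩ := Groth.Agent.H1.Obs.props_of_radical hB hU
  haveI := hUa
  haveI := hUs
  have hCst : ∀ (x : Groth.Agent.H1.Obs.P G), ∀ c ∈ C, act ρ x c ∈ C := fun x c hc =>
    act_mem_of_stable hC x hc
  constructor
  · intro hint
    haveI : Algebra.FiniteType k C := (Subalgebra.fg_iff_finiteType _).mp hCfg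
    haveI : Algebra.FiniteType C A := Algebra.FiniteType.of_restrictScalars_finiteType k C A
    haveI : Module.Finite C A := Algebra.IsIntegral.finite
    obtain ⟨s, hs, hle⟩ := fixed_fg_of_finite hG hB hU thmA (restrictMod ρ hρ C hCst) (restrictMod_isMult ρ hρ C hCst) ρ
      (isCompat_restrict hρ C hCst)
    set C' := C ⊓ ρ.fixedSubalgebra hρ (u ≫ iB)
    set FA := ρ.fixedSubalgebra hρ (u ≫ iB)
    intro x hx
    let incl : C' →ₐ[k] FA := Subalgebra.inclusion inf_le_right
    letI : Algebra C' FA := incl.toRingHom.toAlgebra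
    haveI : IsScalarTower C' FA A := IsScalarTower.of_algebraMap_eq fun r => rfl
    have hfin : Module.Finite C' FA := by
      refine ⟨⟨s.attach.image fun m => (⟨m.1, hs m.2⟩ : FA), eq_top_iff.mpr fun a ha' => ?_⟩⟩
      clear ha'
      have key : ∀ v ∈ Submodule.span ↥((restrictMod ρ hρ C hCst).fixedSubalgebra (restrictMod_isMult ρ hρ C hCst) (u ≫ iB))
          (↑s : Set A), ∃ hv : v ∈ FA, (⟨v, hv⟩ : FA) ∈
            Submodule.span C' (↑(s.attach.image fun m => (⟨m.1, hs m.2⟩ : FA)) : Set FA) := by
        intro v hv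
        induction hv using Submodule.span_induction with
        | mem m hm => exact ⟨hs hm, Submodule.subset_span (Finset.mem_coe.mpr (Finset.mem_image.mpr ⟨⟨m, hm⟩, Finset.mem_attach _ _, rfl⟩))⟩
        | zero => exact ⟨FA.zero_mem, Submodule.zero_mem _⟩
        | add p q _ _ hp hq =>
          obtain ⟨hp, hp'⟩ := hp
          obtain ⟨hq, hq'⟩ := hq
          exact ⟨FA.add_mem hp hq, Submodule.add_mem _ hp' hq'⟩
        | smul r p _ hp =>
          obtain ⟨hp, hp'⟩ := hp
          have hr : ((r : C) : A) ∈ FA := (mem_fixed_restrict hρ C hCst (u ≫ iB) _).mp r.2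
          exact ⟨FA.mul_mem hr hp, Submodule.smul_mem _ (⟨((r : C) : A), (r : C).2, hr⟩ : C') hp'⟩
      exact (key _ (hle a.2)).2
    haveI := Algebra.IsIntegral.of_finite C' FA
    exact (Algebra.IsIntegral.isIntegral (R := C') (⟨x, hx⟩ : FA)).map (IsScalarTower.toAlgHom C' FA A)
  · intro h
    have hfg := finiteType_fixed_radical hG hB hU thmA hρ
    obtain ⟨S, hS⟩ := (Subalgebra.fg_iff_finiteType _).mpr hfg
    obtain ⟨TC, hTC⟩ := hCfg
    obtain ⟨D, -, hDst, hSD, hmin⟩ := exists_stable_adjoin hρ (TC ∪ S)
    let I : Subalgebra k A := (integralClosure C A).restrictScalars k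
    have hIst : ∀ (x : Groth.Agent.H1.Obs.P G), ∀ a ∈ I, act ρ x a ∈ I := fun x a ha => by
      obtain ⟨p, hp, hpe⟩ := (ha : IsIntegral C a)
      let φ : A →ₐ[k] A := AlgHom.ofLinearMap (act ρ x) (act_one_elt ρ hρ x) (act_mult ρ hρ x)
      let ψ : C →+* C := (φ.toRingHom.comp C.val.toRingHom).codRestrict C fun c => hCst x c c.2
      refine ⟨p.map ψ, hp.map _, ?_⟩
      rw [Polynomial.eval₂_map]
      have h2 := congrArg φ.toRingHom hpe
      rw [Polynomial.hom_eval₂, map_zero] at h2
      exact h2
    have hDI : D ≤ I := hmin I hIst fun a ha => by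
      rcases Finset.mem_union.mp (Finset.mem_coe.mp ha) with ha | ha
      · exact isIntegral_algebraMap (x := (⟨a, hTC ▸ Algebra.subset_adjoin ha⟩ : C))
      · have ha' : a ∈ ρ.fixedUnder (u ≫ iB) := by
          have : a ∈ ρ.fixedSubalgebra hρ (u ≫ iB) := hS ▸ Algebra.subset_adjoin ha
          exact this
        obtain ⟨p, hp, hpe⟩ := h a ha'
        exact ⟨p.map (Subalgebra.inclusion (inf_le_left : C ⊓ _ ≤ C)).toRingHom, hp.map _, by rw [Polynomial.eval₂_map]; exact hpe⟩
    obtain ⟨s, hs⟩ := exists_finite_over hG hB hU hρ hfg D hDst fun a ha =>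
      Algebra.adjoin_le (fun b hb => hSD (Finset.mem_coe.mpr (Finset.mem_union_right _ hb))) (hS.ge ha)
    have hCD : C ≤ D := by
      rw [← hTC]
      exact Algebra.adjoin_le fun b hb => hSD (Finset.mem_coe.mpr (Finset.mem_union_left _ hb))
    haveI : Module.Finite D A := ⟨⟨s, eq_top_iff.mpr fun a _ => hs a⟩⟩
    letI : Algebra C D := (Subalgebra.inclusion hCD).toRingHom.toAlgebra
    haveI : IsScalarTower C D A := IsScalarTower.of_algebraMap_eq fun r => rfl
    haveI : Algebra.IsIntegral C D := ⟨fun d => (isIntegral_algHom_iff (IsScalarTower.toAlgHom C D A)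
      Subtype.val_injective).mp (hDI d.2)⟩
    haveI := Algebra.IsIntegral.of_finite D A
    exact Algebra.IsIntegral.trans (R := C) D

end Groth.Agent.S11227
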