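import Groth.Statements.S11228
import Groth.Agent.Lib.H1.Grosshans.Modules

set_option autoImplicit false
universe u
open CategoryTheory MonoidalCategory CartesianMonoidalCategory MonObj GrpObj AlgebraicGeometry
open scoped TensorProduct
open AGF

namespace Groth.Agent.S11228

open Groth.Agent.Lib.H1.Grosshans Groth.Agent.H1.Obs

attribute [local instance] Groth.Agent.Lib.RedPts.Points.baseAlgebra

/-- Let k an algebraically closed field, G a linear algebraic group over k (affine, smooth) whose
identity component is reductive, B a Borel subgroup of G with unipotent radical U (a maximal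
unipotent subgroup). Assume finite generation of invariants of reductive groups over k on finitely
generated algebras (a true result which the published text assumes without proof, carried here as a
hypothesis). Let A be a commutative k-algebra with a rational action of G by algebra automorphisms
and let G·A^U be the intersection of all G-stable subalgebras of A containing the invariants A^U.
Then A is integral over G·A^U. -/
theorem result (k : Type u) [Field k] [IsAlgClosed k]
    (G : Over (Spec (CommRingCat.of k))) [GrpObj G] (hG : VecGrp.IsReductiveGrp k G)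
    (Bo : Over (Spec (CommRingCat.of k))) [GrpObj Bo] (iB : Bo ⟶ G) (hB : Red.IsBorelOver k iB)
    (U : Over (Spec (CommRingCat.of k))) [GrpObj U] (u : U ⟶ Bo) (hU : Par.IsUnipotentRadical u)
    (thmA : VecGrp.ReductiveInvariantsFG k)
    (A : Type u) [CommRing A] [Algebra k A] (ρ : VecGrp.GMod G A) (hρ : ρ.IsMult) :
    Algebra.IsIntegral
      ↥(sInf {S : Subalgebra k A | ρ.fixedUnder (u ≫ iB) ≤ Subalgebra.toSubmodule S ∧
        ρ.IsStable (𝟙 G) (Subalgebra.toSubmodule S)}) A := by
  classical
  obtain ⟨hA, hS, -⟩ := id hG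
  haveI := hA
  haveI := hS
  obtain ⟨hm, hUa, hUs, -, -⟩ := Groth.Agent.H1.Obs.props_of_radical hB hU
  haveI := hUa
  haveI := hUs
  set D := sInf {S : Subalgebra k A | ρ.fixedUnder (u ≫ iB) ≤ Subalgebra.toSubmodule S ∧
    ρ.IsStable (𝟙 G) (Subalgebra.toSubmodule S)}
  have hDst : ∀ (x : Groth.Agent.H1.Obs.P G), ∀ c ∈ D, act ρ x c ∈ D := fun x c hc => by
    rw [Algebra.mem_sInf] at hc ⊢
    exact fun S hS => act_mem_of_stable hS.2 x (hc S hS)
  have hDU : ∀ a ∈ ρ.fixedUnder (u ≫ iB), a ∈ D := fun a ha => by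
    rw [Algebra.mem_sInf]
    exact fun S hS => hS.1 ha
  refine ⟨fun a => ?_⟩
  obtain ⟨A₁, hA₁fg, hA₁st, haA₁, -⟩ := exists_stable_adjoin hρ ({a} : Finset A)
  haveI : Algebra.FiniteType k A₁ := (Subalgebra.fg_iff_finiteType _).mp hA₁fg
  have hρ₁ := restrictMod_isMult ρ hρ A₁ hA₁st
  let C₁ : Subalgebra k A₁ := D.comap A₁.val
  obtain ⟨s, hs⟩ := exists_finite_over hG hB hU hρ₁ (finiteType_fixed_radical hG hB hU thmA hρ₁) C₁
    (fun x c hc => by
      show (act (restrictMod ρ hρ A₁ hA₁st) x c : A) ∈ D
      rw [act_restrictMod ρ hρ A₁ hA₁st]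
      exact hDst x _ hc)
    fun c hc => hDU _ ((mem_fixed_restrict hρ A₁ hA₁st (u ≫ iB) c).mp hc)
  haveI : Module.Finite C₁ A₁ := ⟨⟨s, eq_top_iff.mpr fun a _ => hs a⟩⟩
  haveI := Algebra.IsIntegral.of_finite C₁ A₁
  obtain ⟨p, hp, hpe⟩ := Algebra.IsIntegral.isIntegral (R := C₁) (⟨a, haA₁ (Finset.mem_singleton_self a)⟩ : A₁)
  let ψ : C₁ →+* D := ((A₁.val.comp C₁.val).toRingHom).codRestrict D fun c => c.2
  refine ⟨p.map ψ, hp.map _, ?_⟩
  rw [Polynomial.eval₂_map]
  have h2 := congrArg A₁.val.toRingHom hpe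
  rw [Polynomial.hom_eval₂, map_zero] at h2
  exact h2

end Groth.Agent.S11228
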