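import Groth.Statements.S11231
import Mathlib.RingTheory.IntegralClosure.IntegrallyClosed
import Mathlib.RingTheory.Flat.Basic

set_option autoImplicit false
universe u
open CategoryTheory MonoidalCategory CartesianMonoidalCategory MonObj GrpObj AlgebraicGeometry
open scoped TensorProduct
open AGF

namespace Groth.Agent.S11231

/-- Let k an algebraically closed field, G a connected reductive linear algebraic group over k, B a
Borel subgroup of G with unipotent radical U (a maximal unipotent subgroup), and let A be a
commutative k-algebra with a rational action of G by algebra automorphisms. If A is an integrally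
closed domain then so is A^U. (The published statement is for A normal; its proof reduces to the
case of a domain, which is the case stated here.) -/
theorem result (k : Type u) [Field k] [IsAlgClosed k]
    (G : Over (Spec (CommRingCat.of k))) [GrpObj G] (hG : Red.IsReductiveOver k G)
    (Bo : Over (Spec (CommRingCat.of k))) [GrpObj Bo] (iB : Bo ⟶ G) (hB : Red.IsBorelOver k iB)
    (U : Over (Spec (CommRingCat.of k))) [GrpObj U] (u : U ⟶ Bo) (hU : Par.IsUnipotentRadical u)
    (A : Type u) [CommRing A] [IsDomain A] [Algebra k A] [IsIntegrallyClosed A]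
    (ρ : VecGrp.GMod G A) (hρ : ρ.IsMult) :
    IsIntegrallyClosed ↥(ρ.fixedSubalgebra hρ (u ≫ iB)) := by
  set S := ρ.fixedSubalgebra hρ (u ≫ iB)
  refine (isIntegrallyClosed_iff (FractionRing ↥S)).mpr fun {x} hx => ?_
  have hg : Function.Injective ((algebraMap A (FractionRing A)).comp S.val.toRingHom) :=
    (IsFractionRing.injective A (FractionRing A)).comp Subtype.val_injective
  let φ : FractionRing ↥S →+* FractionRing A := IsFractionRing.lift hg
  have hφ : ∀ s : S, φ (algebraMap ↥S (FractionRing ↥S) s) = algebraMap A (FractionRing A) (s : A) :=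
    fun s => IsFractionRing.lift_algebraMap hg s
  have hint : IsIntegral A (φ x) := by
    obtain ⟨p, hp, he⟩ := hx
    refine ⟨p.map S.val.toRingHom, hp.map _, ?_⟩
    rw [Polynomial.eval₂_map]
    have h := congrArg φ he
    rw [Polynomial.hom_eval₂, map_zero] at h
    rwa [show φ.comp (algebraMap ↥S (FractionRing ↥S)) = (algebraMap A (FractionRing A)).comp S.val.toRingHom from
      RingHom.ext hφ] at h
  obtain ⟨y, hy⟩ := IsIntegrallyClosed.isIntegral_iff.mp hint
  obtain ⟨a, b, hb, rfl⟩ := IsFractionRing.div_surjective (A := ↥S) x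
  have hb0 : (b : A) ≠ 0 := fun e => nonZeroDivisors.ne_zero hb (Subtype.ext e)
  have hay : (a : A) = b * y := by
    apply IsFractionRing.injective A (FractionRing A)
    rw [map_div₀, hφ, hφ, eq_div_iff (fun e => hb0 (IsFractionRing.injective A (FractionRing A) (e.trans (map_zero _).symm)))]
      at hy
    rw [map_mul, ← hy, mul_comm]
  have hyS : y ∈ S := fun B _ _ h => by
    have ha := a.2 B h
    have he : ((1 : B) ⊗ₜ[k] (a : A) : VecGrp.W k A B) = ((1 : B) ⊗ₜ[k] (b : A)) * ((1 : B) ⊗ₜ[k] y) := by
      rw [Algebra.TensorProduct.tmul_mul_tmul, _root_.one_mul, hay]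
    rw [he, (hρ B _).1, b.2 B h] at ha
    have hinj : Function.Injective (LinearMap.lTensor B (LinearMap.mulLeft k (b : A))) :=
      Module.Flat.lTensor_preserves_injective_linearMap _ (mul_right_injective₀ hb0)
    have hmul : ∀ z : B ⊗[k] A, LinearMap.lTensor B (LinearMap.mulLeft k (b : A)) z = ((1 : B) ⊗ₜ[k] (b : A)) * z := fun z => by
      induction z using TensorProduct.induction_on with
      | zero => simp
      | tmul c d => simp
      | add p q hp hq => rw [map_add, hp, hq, mul_add]
    exact hinj (by rw [hmul, hmul]; exact ha)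
  refine ⟨⟨y, hyS⟩, ?_⟩
  rw [eq_div_iff (IsFractionRing.to_map_ne_zero_of_mem_nonZeroDivisors hb), ← map_mul]
  exact congrArg _ (Subtype.ext ((mul_comm _ _).trans hay.symm))

end Groth.Agent.S11231
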