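import Groth.Statements.S11232
import Groth.Agent.H1.Obs.Eigen
import Mathlib.RingTheory.UniqueFactorizationDomain.Basic

set_option autoImplicit false
universe u
open CategoryTheory MonoidalCategory CartesianMonoidalCategory MonObj GrpObj AlgebraicGeometry
open scoped TensorProduct
open AGF

namespace Groth.Agent.S11232

open Groth.Agent.H1.Obs Groth.Agent.H1.RInv Groth.Agent.Lib.RedPts Groth.Agent.Lib.RedPts.Points Groth.Agent.H1.Classical.Scheme'

attribute [local instance] baseAlgebra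

/-- Let k be an algebraically closed field, G a connected linear algebraic group over k (affine, smooth,
connected) admitting no nontrivial character (every homomorphism to the multiplicative group is
trivial), and A a commutative k-algebra which is a unique factorization domain whose group of units
consists of the nonzero scalars, carrying a rational action of G by algebra automorphisms. Then the
algebra of invariants A^G is a unique factorization domain. -/
theorem result (k : Type u) [Field k] [IsAlgClosed k]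
    (G : Over (Spec (CommRingCat.of k))) [GrpObj G] [IsAffine G.left] [Smooth G.hom] [ConnectedSpace G.left]
    (hχ : ∀ χ : G ⟶ Red.Gm (Spec (CommRingCat.of k)), IsMonHom χ → χ = 1)
    (A : Type u) [CommRing A] [IsDomain A] [Algebra k A] [UniqueFactorizationMonoid A]
    (hunits : ∀ x : Aˣ, (x : A) ∈ Set.range (algebraMap k A))
    (ρ : VecGrp.GMod G A) (hρ : ρ.IsMult) :
    UniqueFactorizationMonoid ↥(ρ.fixedSubalgebra hρ (𝟙 G)) := by
  classical
  set S := ρ.fixedSubalgebra hρ (𝟙 G)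
  have hmem : ∀ x : A, x ∈ S ↔ ∀ h : P G, act ρ (h ≫ 𝟙 G) x = x := mem_fixedUnder_iff ρ (𝟙 G)
  have hprime : ∀ f : A, f ∈ S → f ≠ 0 → ∀ p : A, Prime p → p ∣ f → p ∈ S := by
    intro f hf hf0 p hp hpf
    haveI : (Ideal.span {p}).IsPrime := (Ideal.span_singleton_prime hp.ne_zero).mpr hp
    have hmin : Ideal.span {p} ∈ (Ideal.span {f}).minimalPrimes := by
      refine ⟨⟨inferInstance, Ideal.span_singleton_le_span_singleton.mpr hpf⟩, fun q ⟨hq, hfq⟩ hle => ?_⟩
      have hne : q ≠ ⊥ := fun h => hf0 (Ideal.mem_bot.mp (h ▸ hfq (Ideal.mem_span_singleton_self f)))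
      obtain ⟨r, hrq, hr⟩ := Ideal.IsPrime.exists_mem_prime_of_ne_bot hq hne
      have : Associated p r := hp.associated_of_dvd hr (Ideal.mem_span_singleton.mp (hle hrq))
      exact Ideal.span_le.mpr (Set.singleton_subset_iff.mpr (q.mem_of_dvd this.symm.dvd hrq))
    have hdvd : ∀ h : P G, ∃ c, act ρ (h ≫ 𝟙 G) p = c * p := fun h =>
      (Ideal.mem_span_singleton'.mp (minimalPrimes_stable (𝟙 G) ρ hρ (Ideal.span {f}) (fun g a ha => by
        obtain ⟨c, rfl⟩ := Ideal.mem_span_singleton'.mp ha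
        rw [act_map_mul ρ hρ, (hmem f).mp hf g]
        exact Ideal.mem_span_singleton'.mpr ⟨_, rfl⟩) hmin h (Ideal.mem_span_singleton_self p))).imp fun _ => Eq.symm
    have hsc : ∀ h : P G, ∃ s : k, act ρ (h ≫ 𝟙 G) p = s • p := fun h => by
      obtain ⟨c, hc⟩ := hdvd h
      obtain ⟨c', hc'⟩ := hdvd h⁻¹
      have h1 : act ρ (h ≫ 𝟙 G) (act ρ (h⁻¹ ≫ 𝟙 G) p) = p := by
        rw [← act_mul, ← MonObj.mul_comp, mul_inv_cancel, MonObj.one_comp, act_one]
      rw [hc', act_map_mul ρ hρ, hc, ← _root_.mul_assoc] at h1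
      have h2 : act ρ (h ≫ 𝟙 G) c' * c = 1 := mul_right_cancel₀ hp.ne_zero (h1.trans (_root_.one_mul p).symm)
      obtain ⟨s, hs⟩ := hunits (IsUnit.of_mul_eq_one _ ((mul_comm _ _).trans h2)).unit
      exact ⟨s, by rw [hc, Algebra.smul_def, hs, IsUnit.unit_spec]⟩
    choose s hs using hsc
    obtain ⟨l, hl⟩ : ∃ l : Module.Dual k A, l p = 1 := by
      obtain ⟨l, hl⟩ : ∃ l : Module.Dual k A, l p ≠ 0 := by
        by_contra h
        push Not at h
        exact hp.ne_zero ((Module.forall_dual_apply_eq_zero_iff k p).mp h)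
      exact ⟨(l p)⁻¹ • l, by rw [LinearMap.smul_apply, smul_eq_mul, inv_mul_cancel₀ hl]⟩
    have hls : ∀ h, l (act ρ (h ≫ 𝟙 G) p) = s h := fun h => by rw [hs, map_smul, hl, smul_eq_mul, _root_.mul_one]
    have hev : ∀ h : P G, ev h (coef ρ l p) = l (act ρ (h ≫ 𝟙 G) p) := fun h => by rw [ev_coef, Category.comp_id]
    obtain ⟨χ, hχm, hχf⟩ := exists_char (coef ρ l p) (by rw [hev, MonObj.one_comp, act_one, hl]) fun x y => by
      rw [hev, hev, hev, MonObj.mul_comp, act_mul, hs y, map_smul, map_smul, smul_eq_mul, mul_comm, map_smul l, hl, smul_eq_mul, _root_.mul_one]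
    refine (hmem p).mpr fun h => ?_
    rw [hs, ← hls, ← hev, ← hχf, hχ χ hχm, Groth.Agent.Lib.RedPts.Gm.gmFn_one, map_one, one_smul]
  refine UniqueFactorizationMonoid.of_exists_prime_factors fun a ha => ?_
  have ha0 : (a : A) ≠ 0 := fun e => ha (Subtype.ext e)
  obtain ⟨F, hF, v, hv⟩ := UniqueFactorizationMonoid.exists_prime_factors (a : A) ha0
  have hFS : ∀ p ∈ F, p ∈ S := fun p hp => hprime a a.2 ha0 p (hF p hp)
    ((Multiset.dvd_prod hp).trans ⟨v, hv.symm⟩)
  refine ⟨F.pmap (fun p hp => (⟨p, hp⟩ : S)) hFS, fun b hb => ?_, ?_⟩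
  · obtain ⟨p, hp, rfl⟩ := Multiset.mem_pmap.mp hb
    have hp' := hF p hp
    refine ⟨fun e => hp'.ne_zero (congrArg Subtype.val e), fun hu => hp'.not_unit (hu.map S.val), fun x y hxy => ?_⟩
    have hd : ∀ z : S, p ∣ (z : A) → (⟨p, hFS p hp⟩ : S) ∣ z := by
      rintro z ⟨w, hw⟩
      refine ⟨⟨w, (hmem w).mpr fun h => mul_left_cancel₀ hp'.ne_zero ?_⟩, Subtype.ext hw⟩
      conv_lhs => rw [← (hmem p).mp (hFS p hp) h]
      rw [← act_map_mul ρ hρ, ← hw, (hmem _).mp z.2 h, hw]
    exact (hp'.dvd_or_dvd (map_dvd S.val hxy)).imp (hd x) (hd y)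
  · obtain ⟨c, hc⟩ := hunits v
    obtain ⟨c', hc'⟩ := hunits v⁻¹
    refine ⟨⟨algebraMap k S c, algebraMap k S c', Subtype.ext ?_, Subtype.ext ?_⟩, Subtype.ext ?_⟩
    · show algebraMap k A c * algebraMap k A c' = 1
      rw [hc, hc', ← Units.val_mul, mul_inv_cancel, Units.val_one]
    · show algebraMap k A c' * algebraMap k A c = 1
      rw [hc, hc', ← Units.val_mul, inv_mul_cancel, Units.val_one]
    · show S.val (Multiset.prod _) * algebraMap k A c = (a : A)
      rw [map_multiset_prod, Multiset.map_pmap, hc]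
      simpa [Multiset.pmap_eq_map] using hv

end Groth.Agent.S11232
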