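import Groth.Statements.S11233
import Mathlib.Algebra.MvPolynomial.Funext
import Mathlib.Algebra.MvPolynomial.Monad
import Mathlib.LinearAlgebra.Matrix.NonsingularInverse

set_option autoImplicit false
universe u
open CAlg

namespace Groth.Agent.S11233

/-- Let k be an algebraically closed field, A an integral domain which is a k-algebra, T an m by m
matrix over A with invertible determinant, and let the additive group k^m act on the polynomial ring
A[y_1, ..., y_m] by the A-algebra maps y_s ↦ y_s + Σ_r h_r T_rs. Then the only invariant polynomials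
are the constants: a polynomial fixed by all these substitutions lies in A. -/
theorem result (k : Type u) [Field k] [IsAlgClosed k]
    (A : Type u) [CommRing A] [IsDomain A] [Algebra k A] (m : ℕ) (T : Matrix (Fin m) (Fin m) A)
    (hT : IsUnit T.det) (f : MvPolynomial (Fin m) A)
    (hf : ∀ h : Fin m → k, MvPolynomial.aeval
      (fun s : Fin m => MvPolynomial.X s + MvPolynomial.C (∑ r : Fin m, algebraMap k A (h r) * T r s)) f = f) :
    ∃ a : A, f = MvPolynomial.C a := by
  classical
  let c0 := MvPolynomial.eval (0 : Fin m → A) f
  have hinv : ∀ h : Fin m → k, MvPolynomial.eval (fun s => ∑ r : Fin m, algebraMap k A (h r) * T r s) f = c0 := by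
    intro h
    have := congrArg (MvPolynomial.eval (0 : Fin m → A)) (hf h)
    rw [MvPolynomial.aeval_def, MvPolynomial.eval₂_comp_left (MvPolynomial.eval (0 : Fin m → A))] at this
    rw [← MvPolynomial.eval₂_id]
    convert this using 2
    · ext a; simp
    · ext s; simp
  let φ : (M : Matrix (Fin m) (Fin m) A) → MvPolynomial (Fin m) A →ₐ[A] MvPolynomial (Fin m) A := fun M =>
    MvPolynomial.bind₁ fun s => ∑ r : Fin m, MvPolynomial.X r * MvPolynomial.C (M r s)
  have hg : φ T f = MvPolynomial.C c0 := by
    refine MvPolynomial.funext_set (fun _ : Fin m => Set.range (algebraMap k A)) (fun _ => Set.infinite_range_of_injective (algebraMap k A).injective) fun x hx => ?_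
    choose h hh using fun i => hx i (Set.mem_univ i)
    rw [MvPolynomial.eval_C, ← hinv h]
    show MvPolynomial.eval x (MvPolynomial.bind₁ _ f) = _
    rw [← MvPolynomial.coe_aeval_eq_eval, AlgHom.coe_toRingHom, MvPolynomial.aeval_bind₁]
    simp [MvPolynomial.aeval_eq_eval, hh]
  have hcomp : ∀ g, φ T⁻¹ (φ T g) = g := by
    intro g
    simp only [φ, MvPolynomial.bind₁_bind₁]
    conv_rhs => rw [← AlgHom.id_apply (R := A) g]
    congr 1
    refine MvPolynomial.algHom_ext fun s => ?_
    simp only [MvPolynomial.bind₁_X_right, map_sum, map_mul, MvPolynomial.bind₁_C_right, AlgHom.id_apply, Finset.sum_mul]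
    rw [Finset.sum_comm]
    calc _ = ∑ r : Fin m, MvPolynomial.X r * MvPolynomial.C ((T⁻¹ * T) r s) := by
          refine Finset.sum_congr rfl fun r _ => ?_
          rw [Matrix.mul_apply, map_sum, Finset.mul_sum]
          exact Finset.sum_congr rfl fun j _ => by rw [map_mul]; ring
      _ = MvPolynomial.X s := by
          rw [Matrix.nonsing_inv_mul T hT]
          simp [Matrix.one_apply, apply_ite MvPolynomial.C]
  exact ⟨c0, by rw [← hcomp f, hg]; simp [φ]⟩

end Groth.Agent.S11233
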