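import Groth.Statements.S11234
import Groth.Agent.H1.Obs.Epimorphic

set_option autoImplicit false
universe u
open CategoryTheory MonoidalCategory CartesianMonoidalCategory MonObj GrpObj AlgebraicGeometry
open scoped TensorProduct
open AGF

namespace Groth.Agent.S11234

open Groth.Agent.H1 Groth.Agent.H1.Obs Groth.Agent.H1.RInv

/-- Let k be an algebraically closed field, G a linear algebraic group over k (affine, smooth) and H a
smooth closed subgroup of G. The following are equivalent: (b) every global function on G invariant
under right translation by H is a constant; (c) for every rational G-module E, the H-invariants of E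
coincide with the G-invariants; (e) two homomorphisms from G to a linear algebraic group which agree
on H are equal. (The published list also contains the statement that H is epimorphic in the sense of
its hull under the stabilizer correspondence, and the statement that complementary H-stable
subspaces of a rational G-module are G-stable; this row states the other three.) -/
theorem result (k : Type u) [Field k] [IsAlgClosed k]
    (G : Over (Spec (CommRingCat.of k))) [GrpObj G] [IsAffine G.left] [Smooth G.hom]
    (H : Over (Spec (CommRingCat.of k))) [GrpObj H] [Smooth H.hom] (i : H ⟶ G) [IsMonHom i]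
    [IsClosedImmersion i.left] :
    List.TFAE [
      ∀ f : Γ(G.left, ⊤), ((G ◁ i) ≫ μ[G]).left.appTop f = (fst G H).left.appTop f →
        ∃ c : k, f = G.hom.appTop ((Scheme.ΓSpecIso (CommRingCat.of k)).inv c),
      ∀ (E : Type u) [AddCommGroup E] [Module k E] (ρ : VecGrp.GMod G E),
        ρ.fixedUnder i = ρ.fixedUnder (𝟙 G),
      ∀ (G' : Over (Spec (CommRingCat.of k))) [GrpObj G'] [IsAffine G'.left] [Smooth G'.hom]
        (r s : G ⟶ G') [IsMonHom r] [IsMonHom s], i ≫ r = i ≫ s → r = s] := by
  haveI : IsAffine H.left := isAffine_of_isAffineHom i.left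
  letI := Groth.Agent.Lib.RedPts.Points.baseAlgebra (R := k) (W := G)
  tfae_have 1 → 3 := by
    intro hb G' _ _ _ r s _ _ hrs
    haveI : IsReduced G.left := Groth.Agent.Lib.GrpSch.isReduced_of_smooth_field G.hom
    refine Over.OverMorphism.ext (ext_of_isAffine (CommRingCat.hom_ext (RingHom.ext fun φ => ?_)))
    refine ext_points fun x => ?_
    rw [← ev_comp, ← ev_comp]
    have hinv : Obs.Inv i ((r * s⁻¹).left.appTop ((rtr (x ≫ s)) φ)) := fun y h => by
      simp only [← ev_comp, MonObj.comp_mul, GrpObj.comp_inv, ev_rtr, MonObj.mul_comp, Category.assoc, hrs]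
      rw [_root_.mul_inv_rev, ← _root_.mul_assoc, mul_inv_cancel_right]
    obtain ⟨c, hc⟩ := hb _ ((isRTransInv_iff i _).mpr hinv)
    have h1 := congrArg (Groth.Agent.H1.RInv.ev x) hc
    have h2 := congrArg (Groth.Agent.H1.RInv.ev (1 : P G)) hc
    rw [show G.hom.appTop ((Scheme.ΓSpecIso (CommRingCat.of k)).inv c) = algebraMap k Γ(G.left, ⊤) c from rfl,
      ev_const] at h1 h2
    rw [← ev_comp, MonObj.comp_mul, GrpObj.comp_inv, ev_rtr, inv_mul_cancel_right] at h1
    rw [← ev_comp, MonObj.comp_mul, GrpObj.comp_inv, ev_rtr, MonObj.one_comp, MonObj.one_comp, inv_one, _root_.mul_one,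
      _root_.one_mul] at h2
    rw [h1, h2]
  tfae_have 3 → 1 := by
    intro hepi f hf
    exact ⟨_, const_of_epi i hepi ((isRTransInv_iff i f).mp hf)⟩
  tfae_have 1 → 2 := by
    intro hb E _ _ ρ
    refine Submodule.ext fun v => ?_
    rw [mem_fixedUnder_iff, mem_fixedUnder_iff]
    constructor
    · intro hv g
      rw [Category.comp_id]
      refine sub_eq_zero.mp ((Module.forall_dual_apply_eq_zero_iff k _).mp fun l => ?_)
      obtain ⟨c, hc⟩ := hb (coef ρ l v) ((isRTransInv_iff i _).mpr fun x h => by
        rw [ev_coef, ev_coef, act_mul, hv])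
      have h1 := congrArg (Groth.Agent.H1.RInv.ev g) hc
      have h2 := congrArg (Groth.Agent.H1.RInv.ev (1 : P G)) hc
      rw [show G.hom.appTop ((Scheme.ΓSpecIso (CommRingCat.of k)).inv c) = algebraMap k Γ(G.left, ⊤) c from rfl,
        ev_const, ev_coef] at h1 h2
      rw [act_one] at h2
      rw [map_sub, h1, h2, sub_self]
    · intro hv h
      have := hv (h ≫ i)
      rwa [Category.comp_id] at this
  tfae_have 2 → 1 := by
    intro hc f hf
    obtain ⟨W, _, hsW, hW⟩ := exists_stable {f}
    have hfW : f ∈ W := hsW (Finset.mem_singleton_self f)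
    obtain ⟨r, e, he⟩ := exists_rep_of_stable W hW
    have hv : e.symm ⟨f, hfW⟩ ∈ r.gmod.fixedUnder i := (mem_fixedUnder_iff r.gmod i _).mpr fun h => by
      refine e.injective (Subtype.ext ?_)
      rw [he, LinearEquiv.apply_symm_apply]
      exact ext_fun fun x => by rw [ev_rtr, (isRTransInv_iff i f).mp hf]
    rw [hc _ r.gmod, mem_fixedUnder_iff] at hv
    refine ⟨Groth.Agent.H1.RInv.ev (1 : P G) f, ext_fun fun x => ?_⟩
    have h1 := congrArg (fun w => ((e w : W) : Γ(G.left, ⊤))) (hv x)
    simp only [Category.comp_id, he, LinearEquiv.apply_symm_apply] at h1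
    have h2 := congrArg (Groth.Agent.H1.RInv.ev (1 : P G)) h1
    rw [ev_rtr, _root_.one_mul] at h2
    rw [h2]
    exact (ev_const x _).symm
  tfae_finish

end Groth.Agent.S11234
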