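import Groth.Statements.S11235
import Mathlib

set_option autoImplicit false
universe u
open CAlg

namespace Groth.Agent.S11235

/-- Let k be an algebraically closed field, A a commutative k-algebra, α ∈ k, and M a maximal ideal of
the polynomial ring A[x] containing x - α. Let I ⊆ M be an ideal whose zero set in Spec A[x] is
invariant under the automorphisms x ↦ c·x, c ∈ k nonzero (equivalently: the image of I under each
such A-algebra automorphism has the same radical as I). Then there is a maximal ideal of A[x]
containing I and x. -/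
theorem result (k : Type u) [Field k] [IsAlgClosed k]
    (A : Type u) [CommRing A] [Algebra k A] (α : k)
    (M : Ideal (Polynomial A)) (hM : M.IsMaximal)
    (hα : Polynomial.X - Polynomial.C (algebraMap k A α) ∈ M)
    (I : Ideal (Polynomial A)) (hIM : I ≤ M)
    (hI : ∀ c : kˣ, (I.map (Polynomial.aeval (R := A)
      (algebraMap k A (c : k) • (Polynomial.X : Polynomial A)))).radical = I.radical) :
    ∃ N : Ideal (Polynomial A), N.IsMaximal ∧ I ≤ N ∧ Polynomial.X ∈ N := by
  classical
  by_cases h : ∃ N : Ideal (Polynomial A), N.IsMaximal ∧ I ⊔ Ideal.span {Polynomial.X} ≤ N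
  · obtain ⟨N, hN, hle⟩ := h
    exact ⟨N, hN, le_sup_left.trans hle, hle (Submodule.mem_sup_right (Ideal.mem_span_singleton_self _))⟩
  exfalso
  have htop : I ⊔ Ideal.span {Polynomial.X} = ⊤ := by
    by_contra hne
    exact h (Ideal.exists_le_maximal _ hne)
  obtain ⟨g, hg, z, hz, hgz⟩ := Submodule.mem_sup.1 (htop ▸ Submodule.mem_top : (1 : Polynomial A) ∈ I ⊔ Ideal.span {Polynomial.X})
  have hg0 : g.coeff 0 = 1 := by
    obtain ⟨w, rfl⟩ := Ideal.mem_span_singleton.1 hz
    simpa using congrArg (fun p => Polynomial.coeff p 0) hgz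
  haveI := hM
  letI := Ideal.Quotient.field M
  let π : Polynomial A →+* Polynomial A ⧸ M := Ideal.Quotient.mk M
  let ψ : A →+* Polynomial A ⧸ M := π.comp Polynomial.C
  have hX : π Polynomial.X = ψ (algebraMap k A α) := Ideal.Quotient.eq.2 hα
  have hπ : ∀ f : Polynomial A, π f = Polynomial.eval₂ ψ (ψ (algebraMap k A α)) f := by
    intro f
    induction f using Polynomial.induction_on' with
    | add p q hp hq => rw [map_add, Polynomial.eval₂_add, hp, hq]
    | monomial m a => rw [Polynomial.eval₂_monomial, ← Polynomial.C_mul_X_pow_eq_monomial, map_mul, map_pow, hX]; rfl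
  by_cases ha : α = 0
  · subst ha
    rw [map_zero, map_zero, sub_zero] at hα
    exact h ⟨M, hM, sup_le hIM (by rw [Ideal.span_le]; simpa using hα)⟩
  haveI : Infinite k := inferInstance
  let P : Polynomial (Polynomial A ⧸ M) := g.map ψ
  have hroot : ∀ c : kˣ, P.IsRoot (ψ (algebraMap k A ((c : k) * α))) := by
    intro c
    set σ := Polynomial.aeval (R := A) (algebraMap k A (c : k) • (Polynomial.X : Polynomial A))
    have : σ g ∈ M := by
      have h1 : σ g ∈ (I.map σ).radical := Ideal.le_radical (Ideal.mem_map_of_mem _ hg)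
      rw [hI c] at h1
      exact (hM.isPrime.radical_le_iff.2 hIM) h1
    rw [← Ideal.Quotient.eq_zero_iff_mem] at this
    change π (σ g) = 0 at this
    rw [Polynomial.IsRoot, Polynomial.eval_map, ← this]
    rw [Polynomial.aeval_def, Polynomial.hom_eval₂]
    congr 1
    rw [Algebra.smul_def, Polynomial.algebraMap_eq, map_mul, map_mul, map_mul, hX]
    rfl
  have hP : P = 0 := by
    refine Polynomial.eq_zero_of_infinite_isRoot P (Set.Infinite.mono (s := (fun x : k => ψ (algebraMap k A (x * α))) '' {0}ᶜ) ?_ ?_)
    · rintro _ ⟨x, hx, rfl⟩; exact hroot (Units.mk0 x hx)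
    · refine (Set.finite_singleton (0 : k)).infinite_compl.image fun x _ y _ hxy => ?_
      exact mul_right_cancel₀ ha ((ψ.comp (algebraMap k A)).injective hxy)
  have := congrArg (fun p => Polynomial.coeff p 0) hP
  simp [P, Polynomial.coeff_map, hg0] at this

end Groth.Agent.S11235
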