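import Groth.Statements.S11237
import Mathlib.Algebra.TrivSqZeroExt.Basic
import Mathlib.LinearAlgebra.TensorProduct.Prod
import Mathlib.RingTheory.FiniteType

set_option autoImplicit false
universe u
open CategoryTheory MonoidalCategory CartesianMonoidalCategory MonObj GrpObj AlgebraicGeometry
open scoped TensorProduct
open AGF

namespace Groth.Agent.S11237

/-- Let k be an algebraically closed field and G a linear algebraic group over k (affine, smooth) whose
identity component is reductive. Assume finite generation of invariants of reductive groups over k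
on finitely generated algebras (a true result which the published text assumes without proof,
carried here as a hypothesis). Let A be a finitely generated commutative k-algebra with a rational
action of G by algebra automorphisms and M a finitely generated A-module with a compatible rational
G-action. Then the invariants M^G form a finitely generated A^G-module (the A^G-span of finitely
many invariant elements). -/
theorem result (k : Type u) [Field k] [IsAlgClosed k]
    (G : Over (Spec (CommRingCat.of k))) [GrpObj G] (hG : VecGrp.IsReductiveGrp k G)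
    (thmA : VecGrp.ReductiveInvariantsFG k)
    (A : Type u) [CommRing A] [Algebra k A] [Algebra.FiniteType k A] (ρA : VecGrp.GMod G A) (hρ : ρA.IsMult)
    (M : Type u) [AddCommGroup M] [Module A M] [Module k M] [IsScalarTower k A M] [Module.Finite A M]
    (ρM : VecGrp.GMod G M) (hc : VecGrp.GMod.IsCompat ρA ρM) :
    ∃ s : Finset M, (↑s : Set M) ⊆ ρM.fixedUnder (𝟙 G) ∧
      ρM.fixedUnder (𝟙 G) ≤ (Submodule.span ↥(ρA.fixedSubalgebra hρ (𝟙 G)) (↑s : Set M)).restrictScalars k := by
  classical
  letI : Module Aᵐᵒᵖ M := Module.compHom M ((RingHom.id A).fromOpposite mul_comm)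
  haveI : IsCentralScalar A M := ⟨fun _ _ => rfl⟩
  haveI : IsScalarTower k Aᵐᵒᵖ M := ⟨fun c a m => smul_assoc c a.unop m⟩
  haveI : Algebra.FiniteType k (TrivSqZeroExt A M) := by
    obtain ⟨sA, hsA⟩ := Algebra.FiniteType.out (R := k) (A := A)
    obtain ⟨sM, hsM⟩ := Module.Finite.fg_top (R := A) (M := M)
    refine ⟨⟨sA.image TrivSqZeroExt.inl ∪ sM.image TrivSqZeroExt.inr, ?_⟩⟩
    set S := Algebra.adjoin k (↑(sA.image (TrivSqZeroExt.inl (M := M)) ∪ sM.image TrivSqZeroExt.inr) : Set (TrivSqZeroExt A M))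
    have hl : ∀ a : A, TrivSqZeroExt.inl a ∈ S := fun a => by
      have : a ∈ Algebra.adjoin k (↑sA : Set A) := hsA ▸ Algebra.mem_top
      induction this using Algebra.adjoin_induction with
      | mem x hx => exact Algebra.subset_adjoin (Finset.mem_coe.mpr (Finset.mem_union_left _ (Finset.mem_image_of_mem _ hx)))
      | algebraMap c => exact S.algebraMap_mem c
      | add x y _ _ hx hy => rw [TrivSqZeroExt.inl_add]; exact S.add_mem hx hy
      | mul x y _ _ hx hy => rw [TrivSqZeroExt.inl_mul]; exact S.mul_mem hx hy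
    refine eq_top_iff.mpr fun x _ => ?_
    rw [← TrivSqZeroExt.inl_fst_add_inr_snd_eq x]
    refine S.add_mem (hl _) ?_
    have key0 : ∀ m ∈ Submodule.span A (↑sM : Set M), TrivSqZeroExt.inr m ∈ S := by
     intro m this
     induction this using Submodule.span_induction with
     | mem m hm => exact Algebra.subset_adjoin (Finset.mem_coe.mpr (Finset.mem_union_right _ (Finset.mem_image_of_mem _ hm)))
     | zero => simp [S.zero_mem]
     | add m m' _ _ h h' => rw [TrivSqZeroExt.inr_add]; exact S.add_mem h h'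
     | smul a m _ h => rw [← TrivSqZeroExt.inl_mul_inr]; exact S.mul_mem (hl a) h
    exact key0 _ (hsM ▸ Submodule.mem_top)
  let eR : (TrivSqZeroExt A M) ≃ₗ[k] A × M :=
    { toFun := fun x => (x.fst, x.snd), invFun := fun p => (TrivSqZeroExt.inl p.1 + TrivSqZeroExt.inr p.2 : (TrivSqZeroExt A M)),
      left_inv := fun x => TrivSqZeroExt.inl_fst_add_inr_snd_eq x, right_inv := fun p => by simp,
      map_add' := fun _ _ => rfl, map_smul' := fun _ _ => rfl }
  let eW : ∀ (B : Type u) [CommRing B] [Algebra k B],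
      (B ⊗[k] (TrivSqZeroExt A M)) ≃ₗ[B] (B ⊗[k] A) × (B ⊗[k] M) := fun B _ _ =>
    (TensorProduct.AlgebraTensorModule.congr (LinearEquiv.refl B B) eR) ≪≫ₗ TensorProduct.prodRight k B B A M
  have eW_tmul : ∀ (B : Type u) [CommRing B] [Algebra k B] (b : B) (r : (TrivSqZeroExt A M)),
      eW B (b ⊗ₜ r) = (b ⊗ₜ r.fst, b ⊗ₜ r.snd) := fun B _ _ b r => rfl
  let ρR : VecGrp.GMod G (TrivSqZeroExt A M) :=
    { ρ := fun B _ _ =>
        { toFun := fun g => (eW B) ≪≫ₗ (LinearEquiv.prodCongr (ρA.ρ B g) (ρM.ρ B g)) ≪≫ₗ (eW B).symm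
          map_one' := LinearEquiv.ext fun x => (eW B).injective (by simp)
          map_mul' := fun g h => LinearEquiv.ext fun x => (eW B).injective (by simp) }
      naturality := fun {B B'} _ _ _ _ φ g x => (eW B').injective (by
        have nat : ∀ z : B ⊗[k] (TrivSqZeroExt A M), eW B' (VecGrp.Wmap φ z) = (VecGrp.Wmap φ (eW B z).1, VecGrp.Wmap φ (eW B z).2) :=
          fun z => by
            induction z using TensorProduct.induction_on with
            | zero => simp [Prod.mk_zero_zero]
            | tmul b r => simp [eW_tmul]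
            | add p q hp hq => simp [map_add, hp, hq]
        simp [nat, ρA.naturality, ρM.naturality]) }
  have eW_ρ : ∀ (B : Type u) [CommRing B] [Algebra k B] (g : VecGrp.pt k B ⟶ G) (x : B ⊗[k] (TrivSqZeroExt A M)),
      eW B (ρR.ρ B g x) = (ρA.ρ B g (eW B x).1, ρM.ρ B g (eW B x).2) := fun B _ _ g x =>
    LinearEquiv.apply_symm_apply _ _
  have eW_mul : ∀ (B : Type u) [CommRing B] [Algebra k B] (x y : B ⊗[k] (TrivSqZeroExt A M)), eW B (x * y) =
      ((eW B x).1 * (eW B y).1, VecGrp.GMod.smulW k A M B (eW B x).1 (eW B y).2 +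
        VecGrp.GMod.smulW k A M B (eW B y).1 (eW B x).2) := fun B _ _ x y => by
    induction x using TensorProduct.induction_on with
    | zero => simp [Prod.mk_zero_zero]
    | add p q hp hq =>
      simp only [add_mul, map_add, hp, hq, Prod.fst_add, Prod.snd_add, LinearMap.add_apply, Prod.mk_add_mk]
      rw [Prod.mk.injEq]
      exact ⟨rfl, by abel⟩
    | tmul b r =>
      induction y using TensorProduct.induction_on with
      | zero => simp [Prod.mk_zero_zero]
      | add p q hp hq =>
        simp only [mul_add, map_add, hp, hq, Prod.fst_add, Prod.snd_add, LinearMap.add_apply, Prod.mk_add_mk]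
        rw [Prod.mk.injEq]
        exact ⟨rfl, by abel⟩
      | tmul c r' =>
        rw [Algebra.TensorProduct.tmul_mul_tmul, eW_tmul, eW_tmul, eW_tmul, Algebra.TensorProduct.tmul_mul_tmul]
        simp [VecGrp.GMod.smulW, TensorProduct.tmul_add, mul_comm c b]
  have hR : ρR.IsMult := fun B _ _ g => by
    refine ⟨fun x y => (eW B).injective ?_, (eW B).injective ?_⟩
    · rw [eW_ρ, eW_mul, eW_mul, eW_ρ, eW_ρ, (hρ B g).1, map_add, hc, hc]
    · rw [eW_ρ, Algebra.TensorProduct.one_def, eW_tmul]
      have := (hρ B g).2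
      rw [Algebra.TensorProduct.one_def] at this
      simp [this]
  have hmem : ∀ x : (TrivSqZeroExt A M), x ∈ ρR.fixedUnder (𝟙 G) ↔ x.fst ∈ ρA.fixedUnder (𝟙 G) ∧ x.snd ∈ ρM.fixedUnder (𝟙 G) := fun x => by
    constructor
    · intro h
      refine ⟨fun B _ _ g => ?_, fun B _ _ g => ?_⟩
      all_goals
        have h1 := congrArg (eW B) (h B g)
        rw [eW_ρ, eW_tmul, Prod.mk.injEq] at h1
      exacts [h1.1, h1.2]
    · rintro ⟨h1, h2⟩ B _ _ g
      refine (eW B).injective ?_
      rw [eW_ρ, eW_tmul, h1 B g, h2 B g]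
  obtain ⟨s, hs, hadj⟩ := thmA G hG (TrivSqZeroExt A M) ρR hR inferInstance
  refine ⟨s.image TrivSqZeroExt.snd, fun m hm => ?_, fun m hm => ?_⟩
  · obtain ⟨x, hx, rfl⟩ := Finset.mem_image.mp (Finset.mem_coe.mp hm)
    exact ((hmem x).mp (hs hx)).2
  set N := Submodule.span ↥(ρA.fixedSubalgebra hρ (𝟙 G)) (↑(s.image TrivSqZeroExt.snd) : Set M)
  have key : ∀ x ∈ Algebra.adjoin k (↑s : Set (TrivSqZeroExt A M)), x.fst ∈ ρA.fixedSubalgebra hρ (𝟙 G) ∧ x.snd ∈ N := by
    intro x hx
    induction hx using Algebra.adjoin_induction with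
    | mem x hx => exact ⟨((hmem x).mp (hs hx)).1, Submodule.subset_span (Finset.mem_coe.mpr (Finset.mem_image_of_mem _ hx))⟩
    | algebraMap c =>
      exact ⟨Subalgebra.algebraMap_mem _ c, by
        rw [show (algebraMap k (TrivSqZeroExt A M) c).snd = 0 from rfl]; exact N.zero_mem⟩
    | add x y _ _ hx hy => exact ⟨add_mem hx.1 hy.1, add_mem hx.2 hy.2⟩
    | mul x y _ _ hx hy =>
      refine ⟨mul_mem hx.1 hy.1, ?_⟩
      rw [TrivSqZeroExt.snd_mul]
      exact add_mem (N.smul_mem (⟨_, hx.1⟩ : ρA.fixedSubalgebra hρ (𝟙 G)) hy.2)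
        (N.smul_mem (⟨_, hy.1⟩ : ρA.fixedSubalgebra hρ (𝟙 G)) hx.2)
  have h0 : (TrivSqZeroExt.inr m : (TrivSqZeroExt A M)) ∈ ρR.fixedUnder (𝟙 G) := (hmem _).mpr (by simp [hm])
  have h1 := (key _ (hadj h0)).2
  rwa [TrivSqZeroExt.snd_inr] at h1

end Groth.Agent.S11237
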