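import Groth.Statements.S11238
import Mathlib

set_option autoImplicit false
universe u
open AGF

namespace Groth.Agent.S11238

/-- Over an algebraically closed field k, a unirational variety of dimension one is rational. Field
form: let K be a finitely generated field extension of k of transcendence degree one (K is algebraic
over k(x) for some x ∈ K transcendental over k) admitting a k-embedding into a purely transcendental
extension k(t_1, ..., t_n). Then K = k(t) for some t ∈ K transcendental over k. -/
theorem result (k : Type u) [Field k] [IsAlgClosed k]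
    (K : Type u) [Field K] [Algebra k K] (hfg : (⊤ : IntermediateField k K).FG)
    (x : K) (hx : Transcendental k x) (halg : Algebra.IsAlgebraic ↥(IntermediateField.adjoin k {x}) K)
    (n : ℕ) (φ : K →ₐ[k] FractionRing (MvPolynomial (Fin n) k)) :
    ∃ t : K, Transcendental k t ∧ IntermediateField.adjoin k {t} = ⊤ := by
  classical
  let P := MvPolynomial (Fin n) k
  let F := FractionRing P
  obtain ⟨p, q, hq, hpq⟩ := IsFractionRing.div_surjective (A := P) (φ x)
  have hq0 : q ≠ 0 := nonZeroDivisors.ne_zero hq
  obtain ⟨G, hG⟩ := hfg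
  let num : K → P := fun g => (IsFractionRing.div_surjective (A := P) (φ g)).choose
  let den : K → P := fun g => (IsFractionRing.div_surjective (A := P) (φ g)).choose_spec.choose
  have hden : ∀ g, den g ≠ 0 := fun g =>
    nonZeroDivisors.ne_zero (IsFractionRing.div_surjective (A := P) (φ g)).choose_spec.choose_spec.1
  have hnd : ∀ g, algebraMap P F (num g) / algebraMap P F (den g) = φ g := fun g =>
    (IsFractionRing.div_surjective (A := P) (φ g)).choose_spec.choose_spec.2
  let D : P := q * ∏ g ∈ G, den g
  have hD : D ≠ 0 := mul_ne_zero hq0 (Finset.prod_ne_zero_iff.mpr fun g _ => hden g)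
  -- two points at which `D` does not vanish and `p / q` takes different values
  obtain ⟨a, c, ha, hc, hac⟩ : ∃ a c : Fin n → k, MvPolynomial.eval a D ≠ 0 ∧ MvPolynomial.eval c D ≠ 0 ∧
      MvPolynomial.eval a p * MvPolynomial.eval c q ≠ MvPolynomial.eval c p * MvPolynomial.eval a q := by
    obtain ⟨a, ha⟩ : ∃ a, MvPolynomial.eval a D ≠ 0 := by
      by_contra! h
      exact hD (MvPolynomial.funext fun v => by rw [h v, map_zero])
    have haq : MvPolynomial.eval a q ≠ 0 := fun h => ha (by rw [map_mul, h, zero_mul])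
    by_contra! h
    have hz : (MvPolynomial.C (MvPolynomial.eval a p) * q - MvPolynomial.C (MvPolynomial.eval a q) * p) * D = 0 := by
      apply MvPolynomial.funext
      intro v
      rcases eq_or_ne (MvPolynomial.eval v D) 0 with hv | hv
      · simp [hv]
      · have := h a v ha hv
        simp only [map_mul, map_sub, MvPolynomial.eval_C, map_zero]
        rw [this]
        ring
    have hpq' := congrArg (algebraMap P F) ((mul_eq_zero.mp hz).resolve_right hD)
    rw [map_sub, map_mul, map_mul, map_zero, sub_eq_zero,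
      ← MvPolynomial.algebraMap_eq (R := k) (σ := Fin n), ← IsScalarTower.algebraMap_apply,
      ← IsScalarTower.algebraMap_apply] at hpq'
    have hqF : algebraMap P F q ≠ 0 := IsFractionRing.to_map_ne_zero_of_mem_nonZeroDivisors hq
    have haqF : algebraMap k F (MvPolynomial.eval a q) ≠ 0 := by simpa using haq
    have hconst : φ x = φ (algebraMap k K (MvPolynomial.eval a p / MvPolynomial.eval a q)) := by
      rw [φ.commutes, map_div₀, ← hpq, div_eq_div_iff hqF haqF, mul_comm, ← hpq']
    exact hx (φ.toRingHom.injective hconst ▸ isAlgebraic_algebraMap _)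
  -- restriction to the line through `a` and `c`
  let L : P →ₐ[k] Polynomial k :=
    MvPolynomial.aeval fun i => Polynomial.C (a i) + Polynomial.C (c i - a i) * Polynomial.X
  have hev : ∀ (t : k) (f : P), (L f).eval t = MvPolynomial.eval (fun i => a i + (c i - a i) * t) f := by
    intro t f
    have : (Polynomial.aeval t).comp L = MvPolynomial.aeval (fun i => a i + (c i - a i) * t) :=
      MvPolynomial.algHom_ext fun i => by simp [L]
    exact (congrArg (fun h => h f) this)
  have hev0 : ∀ f : P, (L f).eval 0 = MvPolynomial.eval a f := fun f => by simpa using hev 0 f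
  have hev1 : ∀ f : P, (L f).eval 1 = MvPolynomial.eval c f := fun f => by simpa using hev 1 f
  let P₀ : Ideal P := RingHom.ker L
  haveI : P₀.IsPrime := RingHom.ker_isPrime _
  have hLD : ∀ f : P, f ∣ D → f ∉ P₀ := by
    intro f hf hmem
    apply ha
    rw [← hev0, show L D = 0 from P₀.mem_of_dvd hf hmem, Polynomial.eval_zero]
  let A := Localization.AtPrime P₀
  have hunitF : ∀ y : P₀.primeCompl, IsUnit (IsScalarTower.toAlgHom k P F y) := fun y =>
    IsUnit.mk0 _ (IsFractionRing.to_map_ne_zero_of_mem_nonZeroDivisors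
      (P₀.primeCompl_le_nonZeroDivisors y.2))
  let ι : A →ₐ[k] F := IsLocalization.liftAlgHom (M := P₀.primeCompl) hunitF
  have hι : Function.Injective ι := by
    show Function.Injective (IsLocalization.lift hunitF : A → F)
    rw [IsLocalization.lift_injective_iff]
    intro u v
    exact ⟨fun h => congrArg _ (IsLocalization.injective A P₀.primeCompl_le_nonZeroDivisors h),
      fun h => congrArg _ (IsFractionRing.injective P F h)⟩
  have hιm : ∀ f : P, ι (algebraMap P A f) = algebraMap P F f := fun f => IsLocalization.lift_eq _ f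
  have hunitL : ∀ y : P₀.primeCompl, IsUnit (((IsScalarTower.toAlgHom k (Polynomial k) (RatFunc k)).comp L) y) :=
    fun y => IsUnit.mk0 _ (RatFunc.algebraMap_ne_zero fun h => y.2 h)
  let ev : A →ₐ[k] RatFunc k := IsLocalization.liftAlgHom (M := P₀.primeCompl) hunitL
  have hevm : ∀ f : P, ev (algebraMap P A f) = algebraMap (Polynomial k) (RatFunc k) (L f) :=
    fun f => IsLocalization.lift_eq _ f
  let S : Subalgebra k K := ι.range.comap φ
  let ψ : S →ₐ[k] RatFunc k := ev.comp ((AlgEquiv.ofInjective ι hι).symm.toAlgHom.comp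
    ((φ.comp S.val).codRestrict ι.range fun s => show φ (s : K) ∈ ι.range from s.2))
  have hψ : ∀ (s : S) (y : A), ι y = φ s → ψ s = ev y := by
    intro s y h
    exact congrArg ev ((AlgEquiv.ofInjective ι hι).symm_apply_eq.mpr (Subtype.ext h.symm))
  -- elements of `A` that we need
  have hmem : ∀ (f g : P) (z : K) (hg' : g ∉ P₀), algebraMap P F f / algebraMap P F g = φ z →
      ι (IsLocalization.mk' A f (⟨g, hg'⟩ : P₀.primeCompl)) = φ z := by
    intro f g z hg' h
    rw [← h, eq_div_iff (IsFractionRing.to_map_ne_zero_of_mem_nonZeroDivisors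
      (P₀.primeCompl_le_nonZeroDivisors hg')), ← hιm g, ← map_mul, IsLocalization.mk'_spec, hιm]
  have hqP : q ∉ P₀ := hLD q (dvd_mul_right _ _)
  have hxS : x ∈ S := ⟨_, hmem p q x hqP hpq⟩
  have hψx : ψ ⟨x, hxS⟩ * algebraMap (Polynomial k) (RatFunc k) (L q) =
      algebraMap (Polynomial k) (RatFunc k) (L p) := by
    rw [hψ ⟨x, hxS⟩ _ (hmem p q x hqP hpq), ← hevm, ← map_mul, IsLocalization.mk'_spec, hevm]
  have htr : Transcendental k (ψ ⟨x, hxS⟩) := by
    intro halgx
    have hint := halgx.isIntegral
    obtain ⟨l, hl⟩ := minpoly.degree_eq_one_iff.mp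
      (IsAlgClosed.degree_eq_one_of_irreducible k (minpoly.irreducible hint))
    rw [← hl, IsScalarTower.algebraMap_apply k (Polynomial k) (RatFunc k), ← map_mul] at hψx
    have he := RatFunc.algebraMap_injective k hψx
    have h0 := congrArg (Polynomial.eval 0) he
    have h1 := congrArg (Polynomial.eval 1) he
    simp only [Polynomial.eval_mul, Polynomial.algebraMap_apply, Algebra.algebraMap_self, RingHom.id_apply,
      Polynomial.eval_C, hev0, hev1] at h0 h1
    exact hac (by rw [← h0, ← h1]; ring)
  -- nonzero elements of `S` have nonzero image, so `S` is a field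
  have hψ0 : ∀ s : S, ψ s = 0 → s = 0 := by
    intro s hs
    by_contra hs0
    have hsK : (s : K) ≠ 0 := fun h => hs0 (Subtype.ext h)
    let E := IntermediateField.adjoin k {x}
    have hal : IsAlgebraic (Algebra.adjoin k {x}) (s : K) := by
      have := halg.isAlgebraic (s : K)
      exact IntermediateField.isAlgebraic_adjoin_iff.mp this
    obtain ⟨m, hm0, hm⟩ := hal.exists_nonzero_coeff_and_aeval_eq_zero (mem_nonZeroDivisors_of_ne_zero hsK)
    obtain ⟨f, hf⟩ : ∃ f : Polynomial k, Polynomial.aeval x f = ((m.coeff 0 : Algebra.adjoin k {x}) : K) := by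
      exact (Algebra.adjoin_singleton_eq_range_aeval k x).le (m.coeff 0).2
    have hsub : Algebra.adjoin k {x} ≤ S := Algebra.adjoin_le (Set.singleton_subset_iff.mpr hxS)
    let jj : Algebra.adjoin k {x} →ₐ[k] S := Subalgebra.inclusion hsub
    have hev : Polynomial.eval₂ jj.toRingHom s m = 0 := by
      apply Subtype.val_injective (p := fun z => z ∈ S)
      show S.val.toRingHom (Polynomial.eval₂ jj.toRingHom s m) = 0
      rw [Polynomial.hom_eval₂]
      exact hm
    have h2 := congrArg ψ hev
    rw [map_zero] at h2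
    change ψ.toRingHom (Polynomial.eval₂ jj.toRingHom s m) = 0 at h2
    rw [Polynomial.hom_eval₂] at h2
    change Polynomial.eval₂ _ (ψ s) m = 0 at h2
    rw [hs, Polynomial.eval₂_at_zero] at h2
    have hfψ : Polynomial.aeval (ψ ⟨x, hxS⟩) f = 0 := by
      rw [Polynomial.aeval_algHom_apply, ← h2]
      show ψ _ = ψ _
      congr 1
      apply Subtype.ext
      show S.val (Polynomial.aeval (⟨x, hxS⟩ : S) f) = _
      rw [← Polynomial.aeval_algHom_apply]
      exact hf
    have hf0 : f = 0 := by
      by_contra h
      exact htr ⟨f, h, hfψ⟩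
    rw [hf0, map_zero] at hf
    exact hm0 (Subtype.ext hf.symm)
  have hinv : ∀ s ∈ S, s⁻¹ ∈ S := by
    rintro s ⟨y, hy⟩
    rcases eq_or_ne s 0 with rfl | hs0
    · rw [inv_zero]; exact zero_mem _
    obtain ⟨f, ⟨g, hg⟩, rfl⟩ := IsLocalization.exists_mk'_eq P₀.primeCompl y
    have hne : ψ ⟨s, ⟨_, hy⟩⟩ ≠ 0 := fun h => hs0 (congrArg Subtype.val (hψ0 _ h))
    rw [hψ ⟨s, ⟨_, hy⟩⟩ _ hy] at hne
    have hf : f ∉ P₀ := by
      intro hf
      apply hne
      rw [IsLocalization.mk'_eq_mul_mk'_one, map_mul, hevm, show L f = 0 from hf, map_zero, zero_mul]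
    refine ⟨_, hmem g f s⁻¹ hf ?_⟩
    rw [map_inv₀, ← inv_div]
    congr 1
    refine Eq.trans ?_ hy
    show _ = ι _
    rw [div_eq_iff (IsFractionRing.to_map_ne_zero_of_mem_nonZeroDivisors
      (P₀.primeCompl_le_nonZeroDivisors hg)), ← hιm g, ← map_mul, IsLocalization.mk'_spec, hιm]
  let S' : IntermediateField k K := { S with inv_mem' := hinv }
  have hS' : ⊤ ≤ S' := by
    rw [← hG, IntermediateField.adjoin_le_iff]
    intro g hg
    exact ⟨_, hmem (num g) (den g) g (hLD _ ((Finset.dvd_prod_of_mem _ hg).mul_left q)) (hnd g)⟩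
  let Ψ : K →ₐ[k] RatFunc k := ψ.comp ((AlgHom.id k K).codRestrict S fun z => hS' trivial)
  -- Lüroth
  let M : IntermediateField k (RatFunc k) := Ψ.fieldRange
  have hM : M = IntermediateField.adjoin k {RatFunc.Luroth.generator M} := RatFunc.Luroth.eq_adjoin_generator
  obtain ⟨t, ht⟩ : RatFunc.Luroth.generator M ∈ M := RatFunc.Luroth.generator_mem
  replace ht : Ψ t = RatFunc.Luroth.generator M := ht
  have hne : M ≠ ⊥ := by
    intro h
    have hxM : Ψ x ∈ M := ⟨x, rfl⟩
    rw [h, IntermediateField.mem_bot] at hxM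
    obtain ⟨l, hl⟩ := hxM
    exact htr (by rw [show ψ ⟨x, hxS⟩ = Ψ x from rfl, ← hl]; exact isAlgebraic_algebraMap l)
  refine ⟨t, ?_, ?_⟩
  · intro h
    have := h.algHom Ψ
    rw [ht] at this
    exact RatFunc.Luroth.transcendental_generator hne this
  · rw [eq_top_iff]
    intro z _
    have hz : Ψ z ∈ (IntermediateField.adjoin k {t}).map Ψ := by
      rw [IntermediateField.adjoin_map, Set.image_singleton, ht, ← hM]
      exact ⟨z, rfl⟩
    obtain ⟨w, hw, hwz⟩ := hz
    exact Ψ.toRingHom.injective hwz ▸ hw

end Groth.Agent.S11238
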