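import Groth.Statements.S11239
import Mathlib.LinearAlgebra.Matrix.Block

set_option autoImplicit false
universe u
open AGF

namespace Groth.Agent.S11239

/-- Let X be an m × n matrix over a commutative ring, u an upper triangular n × n matrix with ones on
the diagonal, t a diagonal n × n matrix and p ≤ n. For any choice of p rows, the minor of X·t·u
formed with these rows and the first p columns equals (t_11 ⋯ t_pp) times the corresponding minor of
X: the minors on the first p columns are semi-invariant of weight ω_p under right multiplication by
the upper triangular group. (The published statement is for the generic matrix over an algebraically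
closed field; this row states the identity over any commutative ring.) -/
theorem result (R : Type u) [CommRing R] (m n p : ℕ) (hp : p ≤ n)
    (X : Matrix (Fin m) (Fin n) R) (d : Fin n → R) (u : Matrix (Fin n) (Fin n) R)
    (hu1 : ∀ i, u i i = 1) (hu0 : ∀ i j, j < i → u i j = 0) (I : Fin p → Fin m) :
    ((X * Matrix.diagonal d * u).submatrix I (Fin.castLE hp)).det =
      (∏ i : Fin p, d (Fin.castLE hp i)) * (X.submatrix I (Fin.castLE hp)).det := by
  have key : (X * Matrix.diagonal d * u).submatrix I (Fin.castLE hp) =
      X.submatrix I (Fin.castLE hp) *
        (Matrix.diagonal d * u).submatrix (Fin.castLE hp) (Fin.castLE hp) := by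
    ext r c
    simp only [Matrix.submatrix_apply, Matrix.mul_assoc, Matrix.mul_apply]
    symm
    apply Finset.sum_of_injOn (Fin.castLE hp) (Fin.castLE_injective hp).injOn (by simp)
    · intro l _ hl
      have hlp : p ≤ (l : ℕ) := by
        by_contra h
        exact hl ⟨⟨l, not_le.mp h⟩, by simp, Fin.ext rfl⟩
      have h0 : u l (Fin.castLE hp c) = 0 := hu0 _ _ (by
        show (c : ℕ) < (l : ℕ)
        omega)
      refine mul_eq_zero_of_right _ (Finset.sum_eq_zero fun x _ => ?_)
      rcases eq_or_ne l x with rfl | hne
      · rw [h0, mul_zero]
      · rw [Matrix.diagonal_apply_ne _ hne, zero_mul]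
    · intro l _; rfl
  rw [key, Matrix.det_mul, mul_comm]
  congr 1
  rw [Matrix.det_of_upperTriangular]
  · simp [Matrix.diagonal_mul, hu1]
  · intro a b hab
    simp only [Matrix.submatrix_apply, Matrix.diagonal_mul]
    rw [hu0 _ _ (by exact hab), mul_zero]

end Groth.Agent.S11239
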