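import Groth.Statements.S11240
import Mathlib.LinearAlgebra.Matrix.Transvection

set_option autoImplicit false
universe u
open AGF

namespace Groth.Agent.S11240

theorem sub_transvection {R : Type u} [CommRing R] {n m p : ℕ} {i j : Fin n} {b : R}
    (M : Matrix (Fin n) (Fin m) R) (I : Fin p ↪o Fin n) (J : Fin p ↪o Fin m) (a : Fin p) (ha : I a = i) :
    (Matrix.transvection i j b * M).submatrix I J =
      (M.submatrix I J).updateRow a ((M.submatrix I J) a + b • fun c => M j (J c)) := by
  ext r c
  simp only [Matrix.submatrix_apply, Matrix.updateRow_apply]
  split_ifs with h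
  · subst h; simp [ha]
  · rw [Matrix.transvection_mul_apply_of_ne]
    exact fun e => h (I.injective (e.trans ha.symm))

/-- For a single root subgroup: let k be an algebraically closed field and X = (x_ab) the generic n × m
matrix over the polynomial ring k[x_ab]. Let i ≠ j be row indices and let I (rows) and J (columns)
be strictly increasing sequences of length p. The minor of X with rows I and columns J is invariant
under replacing X by (1 + b·E_ij)·X for every b ∈ k (the one-parameter unipotent group adding b
times row j to row i) if and only if j occurs in I whenever i does. (The published statement gives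
the criterion for the group generated by several such root subgroups, which is the conjunction of
these.) -/
theorem result (k : Type u) [Field k] [IsAlgClosed k] (n m p : ℕ)
    (i j : Fin n) (hij : i ≠ j) (I : Fin p ↪o Fin n) (J : Fin p ↪o Fin m) :
    (∀ b : k, ((Matrix.transvection i j (MvPolynomial.C b) *
        (Matrix.of fun a c => (MvPolynomial.X (a, c) : MvPolynomial (Fin n × Fin m) k))).submatrix I J).det =
        ((Matrix.of fun a c => (MvPolynomial.X (a, c) : MvPolynomial (Fin n × Fin m) k)).submatrix I J).det) ↔
      (i ∈ Set.range I → j ∈ Set.range I) := by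
  classical
  set M : Matrix (Fin n) (Fin m) (MvPolynomial (Fin n × Fin m) k) :=
    Matrix.of fun a c => MvPolynomial.X (a, c) with hM
  constructor
  · intro h hi
    obtain ⟨a, ha⟩ := hi
    by_contra hj
    have h1 := h 1
    rw [sub_transvection M I J a ha, Matrix.det_updateRow_add, Matrix.det_updateRow_smul,
      Matrix.updateRow_eq_self, add_eq_left, map_one, one_mul] at h1
    have h2 := congrArg (MvPolynomial.eval fun x : Fin n × Fin m =>
      if ∃ r, Function.update (⇑I) a j r = x.1 ∧ J r = x.2 then (1 : k) else 0) h1
    rw [map_zero, RingHom.map_det] at h2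
    refine one_ne_zero ((Matrix.det_one (n := Fin p)).symm.trans (Eq.trans ?_ h2))
    congr 1
    have hinj : Function.Injective (Function.update (⇑I) a j) := by
      intro r r' hr
      simp only [Function.update_apply] at hr
      split_ifs at hr with h' h'' h''
      · rw [h', h'']
      · exact absurd ⟨r', hr.symm⟩ hj
      · exact absurd ⟨r, hr⟩ hj
      · exact I.injective hr
    ext r c
    have hval : ((M.submatrix I J).updateRow a fun c => M j (J c)) r c =
        MvPolynomial.X (Function.update (⇑I) a j r, J c) := by
      rw [Matrix.updateRow_apply, Function.update_apply]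
      split_ifs <;> rfl
    rw [RingHom.mapMatrix_apply, Matrix.map_apply, hval, MvPolynomial.eval_X, Matrix.one_apply]
    refine if_congr ?_ rfl rfl
    constructor
    · rintro rfl; exact ⟨r, rfl, rfl⟩
    · rintro ⟨r', h3, h4⟩
      rw [← hinj h3]; exact J.injective h4
  · intro h b
    by_cases hi : i ∈ Set.range I
    · obtain ⟨a, ha⟩ := hi
      obtain ⟨c, hc⟩ := h ⟨a, ha⟩
      rw [sub_transvection M I J a ha, Matrix.det_updateRow_add, Matrix.det_updateRow_smul,
        Matrix.updateRow_eq_self, add_eq_left]
      have hca : c ≠ a := fun e => hij (by rw [← ha, ← hc, e])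
      rw [Matrix.det_zero_of_row_eq hca.symm (by ext x; simp [hca, hc]), mul_zero]
    · congr 1
      ext r c
      simp only [Matrix.submatrix_apply]
      rw [Matrix.transvection_mul_apply_of_ne]
      exact fun e => hi ⟨r, e⟩

end Groth.Agent.S11240
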