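import Groth.Statements.S11242
import Groth.Agent.H1.Obs.UFG.WeightSpace

set_option autoImplicit false
universe u
open CategoryTheory MonoidalCategory CartesianMonoidalCategory MonObj GrpObj AlgebraicGeometry
open scoped TensorProduct
open AGF

namespace Groth.Agent.S11242

open Groth.Agent.H1.Obs Groth.Agent.H1.Obs.UFG Groth.Agent.Lib.RedPts Groth.Agent.Lib.RedPts.Points Groth.Agent.H1.RInv
attribute [local instance] Groth.Agent.Lib.RedPts.Points.baseAlgebra

/-- Let k be an algebraically closed field, G a connected reductive linear algebraic group over k, B a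
Borel subgroup of G with unipotent radical U, T a maximal torus of G contained in B, and ω a
character of T. Consider the space E(ω) of global functions f on G which are invariant under right
translation by U and on which right translation by T acts through ω (f(x·u) = f(x), f(x·t) =
ω(t)·f(x)); the published statement writes this space with its weight twisted by the opposition
involution, and finite-dimensionality is the same statement. This space is finite-dimensional: there
are finitely many global functions such that every member of E(ω) is a combination of them with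
constant coefficients. -/
theorem result (k : Type u) [Field k] [IsAlgClosed k]
    (G : Over (Spec (CommRingCat.of k))) [GrpObj G] (hG : Red.IsReductiveOver k G)
    (Bo : Over (Spec (CommRingCat.of k))) [GrpObj Bo] (iB : Bo ⟶ G) (hB : Red.IsBorelOver k iB)
    (U : Over (Spec (CommRingCat.of k))) [GrpObj U] (u : U ⟶ Bo) (hU : Par.IsUnipotentRadical u)
    (T : Over (Spec (CommRingCat.of k))) [GrpObj T] (t : T ⟶ Bo) [IsMonHom t] (hT : AGF.IsMaxTorus (t ≫ iB))
    (ω : T ⟶ Red.Gm (Spec (CommRingCat.of k))) [IsMonHom ω] :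
    ∃ s : Finset Γ(G.left, ⊤), ∀ f : Γ(G.left, ⊤),
      ((G ◁ (u ≫ iB)) ≫ μ[G]).left.appTop f = (fst G U).left.appTop f →
      ((G ◁ (t ≫ iB)) ≫ μ[G]).left.appTop f = (fst G T).left.appTop f * (snd G T).left.appTop (Red.gmFn ω) →
        ∃ c : Γ(G.left, ⊤) → k,
          f = ∑ g ∈ s, G.hom.appTop ((Scheme.ΓSpecIso (CommRingCat.of k)).inv (c g)) * g := by
  classical
  obtain ⟨hGa, hGs, hGc, -⟩ := hG
  haveI := hGa
  haveI := hGs
  haveI := hGc
  haveI := hB.1
  haveI := hU.1
  haveI : IsMonHom (t ≫ iB) := hT.1
  haveI : Mono (t ≫ iB) := hT.2.1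
  obtain ⟨-, hTs, -, hTa⟩ := Groth.Agent.H1.Classical.TorusPts.torus_props (t ≫ iB) hT.2.2.1
  haveI := hTs
  haveI := hTa
  let ω' : Groth.Agent.H1.Obs.P T →* k :=
    { toFun := fun z => Groth.Agent.H1.RInv.ev z (Red.gmFn ω)
      map_one' := ev_gmFn_one ω
      map_mul' := ev_gmFn_mul ω }
  obtain ⟨s, hs⟩ := exists_finite_weightSpace hB hU hT ω'
  refine ⟨s, fun f h1 h2 => ?_⟩
  have hw : ∀ (x : Groth.Agent.H1.Obs.P G) (z : Groth.Agent.H1.Obs.P T),
      Groth.Agent.H1.RInv.ev (x * (z ≫ t ≫ iB)) f = ω' z * Groth.Agent.H1.RInv.ev x f := fun x z => by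
    have h := congrArg (Groth.Agent.H1.RInv.ev (lift x z)) h2
    rw [map_mul, ← ev_comp, ← ev_comp, ← ev_comp, lift_whiskerLeft_assoc, lift_fst, lift_snd, ← Hom.mul_def] at h
    exact h.trans (mul_comm _ _)
  have hi : Inv (u ≫ iB) f := fun x z => rTransInv_apply (u ≫ iB) f h1 x z
  obtain ⟨c, -, hc⟩ := Submodule.mem_span_finset.mp (hs f hi hw)
  refine ⟨c, hc.symm.trans (Finset.sum_congr rfl fun g _ => ?_)⟩
  exact Algebra.smul_def _ _

end Groth.Agent.S11242
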