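import Groth.Statements.S5491
import Groth.Agent.Lib.RootDatum.Length
import Groth.Agent.H84.BaseBridge

set_option autoImplicit false
open RootD Groth.Agent.Lib.RootDatum Groth.Agent.Lib.RootDatum.Basic Groth.Agent.Lib.RootDatum.PosSys

namespace Groth.Agent.S5491

open Classical in
/-- With ρ^v the half-sum of the positive coroots, the order (height) of any root α relative to the
simple system equals (ρ^v, α); equivalently 2·height(α) = Σ_{β > 0} (β^v, α). -/
theorem result {ι M N : Type*} [AddCommGroup M] [AddCommGroup N]
    (P : RootPairing ι ℤ M N) [Finite ι] [Fintype ι] [P.IsReduced] (b : P.Base) (i : ι) :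
    2 * b.height i = ∑ j, if b.IsPos j then P.pairing i j else 0 := by
  classical
  have hΔ := Groth.Agent.H84.BaseBridge.isSimpleSys b
  haveI := isAddTorsionFree_weight P
  have hsimple : ∀ a ∈ b.support, (∑ j, if b.IsPos j then pz P a j else 0) = 2 := by
    intro a ha
    rw [← Finset.sum_filter]
    have he : Finset.univ.filter (fun j => b.IsPos j) =
        insert a (Length.others P (b.support : Set ι) a) := by
      ext j
      simp only [Length.others, Finset.mem_filter, Finset.mem_univ, true_and, Finset.mem_insert,
        ← Groth.Agent.H84.BaseBridge.isPos_iff_mem]
      constructor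
      · intro hj
        by_cases h : j = a
        · exact Or.inl h
        · exact Or.inr ⟨hj, h, fun e => P.nsmul_notMem_range_root (n := 2) ⟨j, e⟩⟩
      · rintro (rfl | h)
        · exact RootPairing.Base.isPos_of_mem_support ha
        · exact h.1
    rw [he, Finset.sum_insert (by simp [Length.others]), Length.sum_others_right P hΔ (a := a) ha,
      pz_self, add_zero]
  have key : ∀ i ∈ RootD.posOf P (b.support : Set ι),
      2 * b.height i = ∑ j, if b.IsPos j then pz P i j else 0 := fun i hi =>
    natSpan_induction P (p := fun i => 2 * b.height i = ∑ j, if b.IsPos j then pz P i j else 0)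
      (fun a ha => by rw [hsimple a ha, RootPairing.Base.height_one_of_mem_support ha]; rfl)
      (fun k j a ha he _ ih => by
        rw [b.height_add he, RootPairing.Base.height_one_of_mem_support ha, mul_add, ih,
          ← hsimple a ha, mul_one]
        rw [← Finset.sum_add_distrib]
        exact Finset.sum_congr rfl fun x _ => by split <;> simp [pz_add P he x]) hi
  have hfin : ∀ i, 2 * b.height i = ∑ j, if b.IsPos j then pz P i j else 0 := by
    intro i
    rcases (isPosSys_posOf hΔ).cover i with h | h
    · exact key i h
    · have h2 := key _ h
      let := P.indexNeg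
      have hneg : b.height (negIdx P i) = -b.height i := b.height_reflectionPerm_self i
      rw [hneg, mul_neg] at h2
      have : (∑ j, if b.IsPos j then pz P (negIdx P i) j else 0) =
          -∑ j, if b.IsPos j then pz P i j else 0 := by
        rw [← Finset.sum_neg_distrib]
        exact Finset.sum_congr rfl fun x _ => by split <;> simp
      rw [this] at h2
      lia
  rw [hfin i]
  exact Finset.sum_congr rfl fun x _ => by
    split
    · exact cast_pz P i x
    · rfl

end Groth.Agent.S5491
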