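import Groth.Statements.S11243
import Groth.Agent.Lib.RootDatum.Length
import Groth.Agent.H84.BaseBridge
import Groth.Agent.S5491

set_option autoImplicit false
universe u v w
open RootD Groth.Agent.Lib.RootDatum Groth.Agent.Lib.RootDatum.Basic Groth.Agent.Lib.RootDatum.PosSys

namespace Groth.Agent.S11243

/-- (b), for a connected group, as a statement about its root datum: let P be a finite reduced
crystallographic root pairing over ℤ with weight lattice M, and b a base of P (simple roots,
determining the positive roots). Then there is an additive map h : M → ℤ which is positive on every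
positive root (so that h strictly increases along the dominance order) and non-negative on every
dominant weight, i.e. on every ω ∈ M pairing non-negatively with all simple coroots. (Part (c),
invariance under the component group of a disconnected group, is not stated.) -/
theorem result {ι : Type u} {M : Type v} {N : Type w}
    [Fintype ι] [AddCommGroup M] [AddCommGroup N]
    (P : RootPairing ι ℤ M N) [P.IsReduced] [P.IsCrystallographic] (b : P.Base) :
    ∃ h : M →+ ℤ, (∀ i : ι, b.IsPos i → 0 < h (P.root i)) ∧
      ∀ ω : M, (∀ j ∈ b.support, 0 ≤ P.toLinearMap ω (P.coroot j)) → 0 ≤ h ω := by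
  classical
  have hΔ := Groth.Agent.H84.BaseBridge.isSimpleSys b
  have hflip : RootD.IsSimpleSys P.flip (b.support : Set ι) :=
    ⟨b.linearIndepOn_coroot, b.coroot_mem_or_neg_mem⟩
  have hS := Length.isPosSys_flip P (isPosSys_posOf hΔ)
  have heq := (subset_posSys_iff hflip hS).mp fun a ha => self_mem_posOf hΔ ha
  refine ⟨(∑ j ∈ Finset.univ.filter (fun j => b.IsPos j), P.coroot' j).toAddMonoidHom,
    fun i hi => ?_, fun ω hω => ?_⟩
  · rw [LinearMap.toAddMonoidHom_coe, LinearMap.sum_apply]
    have h := Groth.Agent.S5491.result P b i
    rw [← Finset.sum_filter] at h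
    have : 0 < ∑ j ∈ Finset.univ.filter (fun j => b.IsPos j), P.pairing i j := by
      rw [← h]; exact mul_pos two_pos hi
    exact this
  · rw [LinearMap.toAddMonoidHom_coe, LinearMap.sum_apply]
    refine Finset.sum_nonneg fun j hj => ?_
    have hjS : j ∈ RootD.posOf P.flip (b.support : Set ι) := by
      rw [← heq]
      exact (Groth.Agent.H84.BaseBridge.isPos_iff_mem b j).mp (Finset.mem_filter.mp hj).2
    obtain ⟨c, hc, hc', hce⟩ := exists_comb (P := P.flip) hjS
    change 0 ≤ P.toLinearMap ω (P.coroot j)
    rw [show P.coroot j = Finsupp.linearCombination ℤ P.coroot c from hce.symm,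
      Finsupp.linearCombination_apply, Finsupp.sum, map_sum]
    refine Finset.sum_nonneg fun a ha => ?_
    rw [map_zsmul]
    exact mul_nonneg (hc' a) (hω a (hc ha))

end Groth.Agent.S11243
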