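import Groth.Statements.S11244
import Groth.Agent.Lib.GrpSch.OrbitDimFormula
import Groth.Agent.Lib.GrpSch.Basic
import Groth.Agent.Lib.FibreDim.Global

set_option autoImplicit false
universe u
open CategoryTheory MonoidalCategory CartesianMonoidalCategory MonObj GrpObj AlgebraicGeometry
open scoped TensorProduct
open AGF

namespace Groth.Agent.S11244

open Limits MonoidalCategory CartesianMonoidalCategory MonObj Topology
open Groth.Agent.Lib Groth.Agent.Lib.GrpQ.MonoClosed Groth.Agent.Lib.FibreDim.Basic

variable {k : Type u} [Field k] {G X : Over (Spec (CommRingCat.of k))} [GrpObj G]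

/-- The stabiliser family `G × X → X × X`, `(g, x) ↦ (x, g • x)`, has at `(e, x)` the fibre dimension of the orbit map of `x`. -/
theorem fibreDimAt_stab (a : AlgGrp.Action G X) (x : 𝟙_ (Over (Spec (CommRingCat.of k))) ⟶ X) :
    FlatMor.fibreDimAt (lift (snd G X) a.act).left ((lift (toUnit X ≫ η[G]) (𝟙 X)).left (ptOf x)) =
      FlatMor.fibreDimAt (a.orbitMap x).left (ptOf η[G]) := by
  have hsub : Subsingleton ↥(𝟙_ (Over (Spec (CommRingCat.of k)))).left :=
    inferInstanceAs (Subsingleton (PrimeSpectrum k))
  let σ : G ⟶ G ⊗ X := lift (𝟙 G) (toUnit G ≫ x)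
  let j : X ⟶ X ⊗ X := lift (toUnit X ≫ x) (𝟙 X)
  let Φ : G ⊗ X ⟶ X ⊗ X := lift (snd G X) a.act
  have hs : (lift (toUnit X ≫ η[G]) (𝟙 X)).left (ptOf x) = σ.left (ptOf η[G]) := by
    rw [ptOf_comp, ptOf_comp]
    congr 1
    simp only [σ, comp_lift, Category.comp_id, ← Category.assoc, toUnit_unique (x ≫ toUnit X) (𝟙 _),
      toUnit_unique (η[G] ≫ toUnit G) (𝟙 _), Category.id_comp]
  have hσ : σ ≫ Φ = a.orbitMap x ≫ j := by
    refine CartesianMonoidalCategory.hom_ext _ _ ?_ ?_
    · simp only [σ, Φ, j, Category.assoc, lift_fst, lift_snd]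
      rw [← Category.assoc, toUnit_unique (a.orbitMap x ≫ toUnit X) (toUnit G)]
    · simp only [σ, Φ, j, Category.assoc, lift_snd, Category.comp_id]
      rfl
  have hσf : ∀ g, (fst G X).left (σ.left g) = g := fun g => by
    rw [← Scheme.Hom.comp_apply, ← Over.comp_left, lift_fst]
    rfl
  have hjs : ∀ z, (snd X X).left (j.left z) = z := fun z => by
    rw [← Scheme.Hom.comp_apply, ← Over.comp_left, lift_snd]
    rfl
  have hjf : ∀ z, (fst X X).left (j.left z) = ptOf x := fun z => by
    rw [← Scheme.Hom.comp_apply, ← Over.comp_left, lift_fst, Over.comp_left, Scheme.Hom.comp_apply]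
    exact congrArg x.left (Subsingleton.elim _ _)
  have hΦσ : ∀ g, Φ.left (σ.left g) = j.left ((a.orbitMap x).left g) := fun g => by
    rw [← Scheme.Hom.comp_apply, ← Over.comp_left, hσ]
    rfl
  have hxe : (a.orbitMap x).left (ptOf η[G]) = ptOf x := by
    rw [ptOf_comp]
    congr 1
    have : η[G] ≫ a.orbitMap x = lift η[G] x ≫ a.act := by
      rw [AlgGrp.Action.orbitMap, ← Category.assoc, comp_lift, Category.comp_id, ← Category.assoc,
        toUnit_unique (η[G] ≫ toUnit G) (𝟙 _), Category.id_comp]
    rw [this, show lift η[G] x = lift (toUnit (𝟙_ _)) x ≫ η[G] ▷ X by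
      rw [lift_whiskerRight, toUnit_unique (toUnit (𝟙_ (Over (Spec (CommRingCat.of k))))) (𝟙 _),
        Category.id_comp], Category.assoc, a.one_act, leftUnitor_hom, lift_snd]
  have hback : ∀ p : (G ⊗ X).left, Φ.left p = j.left (ptOf x) → σ.left ((fst G X).left p) = p := by
    intro p hp
    have hp2 : (snd G X).left p = ptOf x := by
      have := congrArg (fun q => (fst X X).left q) hp
      simp only [hjf] at this
      rw [← this, ← Scheme.Hom.comp_apply (f := Φ.left), ← Over.comp_left, lift_fst]
    obtain ⟨u, hu, -⟩ := Scheme.exists_preimage_of_isPullback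
      (GrpSch.isPullback_whiskerLeft G x) p (IsLocalRing.closedPoint k) hp2
    have hu' : G ◁ x = fst G (𝟙_ _) ≫ σ := CartesianMonoidalCategory.hom_ext _ _ (by simp [σ])
      (by simp only [σ, Category.assoc, lift_snd, whiskerLeft_snd, ← Category.assoc (fst G (𝟙_ _)),
        toUnit_unique (fst G (𝟙_ _) ≫ toUnit G) (snd G (𝟙_ _))])
    subst hu
    rw [hu', Over.comp_left, Scheme.Hom.comp_apply, hσf]
  have hpt : (a.orbitMap x).left.base (ptOf η[G]) = ptOf x := hxe
  let e : ↥((a.orbitMap x).left.base ⁻¹' {(a.orbitMap x).left.base (ptOf η[G])}) ≃ₜ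
      ↥(Φ.left.base ⁻¹' {Φ.left.base (σ.left (ptOf η[G]))}) :=
    { toFun := fun g => ⟨σ.left g.1, by
        show Φ.left (σ.left g.1) = Φ.left (σ.left (ptOf η[G]))
        rw [hΦσ, hΦσ]; exact congrArg _ g.2⟩
      invFun := fun p => ⟨(fst G X).left p.1, by
        have hp : Φ.left p.1 = Φ.left (σ.left (ptOf η[G])) := p.2
        replace hp := hp.trans ((hΦσ _).trans (congrArg (fun t => j.left t) hxe))
        have h2 := hback p.1 hp
        show (a.orbitMap x).left ((fst G X).left p.1) = (a.orbitMap x).left (ptOf η[G])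
        rw [hxe, ← hjs ((a.orbitMap x).left ((fst G X).left p.1)), ← hΦσ, h2, hp, hjs]⟩
      left_inv := fun g => Subtype.ext (hσf g.1)
      right_inv := fun p => Subtype.ext (hback p.1 (by
        have hp : Φ.left p.1 = Φ.left (σ.left (ptOf η[G])) := p.2
        replace hp := hp.trans ((hΦσ _).trans (congrArg (fun t => j.left t) hxe))
        exact hp))
      continuous_toFun := by exact ((Scheme.Hom.continuous σ.left).comp continuous_subtype_val).subtype_mk _
      continuous_invFun := by exact ((Scheme.Hom.continuous (fst G X).left).comp continuous_subtype_val).subtype_mk _ }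
  rw [hs]
  show FlatMor.fibreDimAt Φ.left _ = _
  rw [fibreDimAt_eq, fibreDimAt_eq]
  exact localDim_eq_of_homeomorph e ⟨ptOf η[G], rfl⟩

/-- Let k be an algebraically closed field, G a linear algebraic group over k (affine, smooth) acting on
an irreducible variety X over k (reduced, separated, of finite type). For a rational point x of X
let dim G·x be the dimension of the closure of its orbit. Then for every r the set of rational
points x with dim G·x ≤ r is closed: there is a closed subset Z of X whose rational points are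
exactly those x. (The second assertion, that the points of maximal orbit dimension form a dense open
subset, follows.) -/
theorem result (k : Type u) [Field k] [IsAlgClosed k]
    (G : Over (Spec (CommRingCat.of k))) [GrpObj G] [IsAffine G.left] [Smooth G.hom]
    (X : Over (Spec (CommRingCat.of k))) [IrreducibleSpace ↥X.left] [IsReduced X.left]
    [IsSeparated X.hom] [LocallyOfFiniteType X.hom] [QuasiCompact X.hom]
    (a : AlgGrp.Action G X) (r : ℕ) :
    ∃ Z : Set ↥X.left, IsClosed Z ∧
      ∀ x : 𝟙_ (Over (Spec (CommRingCat.of k))) ⟶ X,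
        topologicalKrullDim ↥(closure (Set.range ⇑(a.orbitMap x).left.base)) ≤ (r : WithBot ℕ∞) ↔
          Set.range ⇑x.left.base ⊆ Z := by
  haveI : QuasiCompact G.hom := inferInstance
  haveI : LocallyOfFiniteType (G ⊗ X).hom := by
    show LocallyOfFiniteType (pullback.fst G.hom X.hom ≫ G.hom)
    infer_instance
  let Φ : G ⊗ X ⟶ X ⊗ X := lift (snd G X) a.act
  haveI : LocallyOfFiniteType (Φ.left ≫ (X ⊗ X).hom) := by rw [Over.w]; infer_instance
  haveI : LocallyOfFiniteType Φ.left := locallyOfFiniteType_of_comp Φ.left (X ⊗ X).hom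
  obtain ⟨n, hn⟩ : ∃ n : ℕ, topologicalKrullDim G.left = n := by
    let e := ptOf η[G]
    obtain ⟨n, hn⟩ := Groth.Agent.Lib.FibreDim.Chart.exists_fibreDimAt_eq G.hom e
    refine ⟨n, ?_⟩
    rw [fibreDimAt_eq] at hn
    rw [← Groth.Agent.Lib.ActSep.localDim_eq_topologicalKrullDim G e, ← hn]
    have hu : (G.hom.base ⁻¹' {G.hom.base e} : Set G.left) = Set.univ :=
      Set.eq_univ_of_forall fun w => Subsingleton.elim (α := Spec (CommRingCat.of k)) _ _
    exact (localDim_eq_of_homeomorph ((Homeomorph.setCongr hu).trans (Homeomorph.Set.univ _)) ⟨e, rfl⟩)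
  refine ⟨(lift (toUnit X ≫ η[G]) (𝟙 X)).left.base ⁻¹' {p | ((n - r : ℕ) : WithBot ℕ∞) ≤ FlatMor.fibreDimAt Φ.left p},
    (FibreDim.Global.isClosed_setOf_le_fibreDimAt Φ.left _).preimage (Scheme.Hom.continuous _), fun x => ?_⟩
  haveI := GrpSch.quasiCompact_orbitMap a x
  haveI : LocallyOfFiniteType ((a.orbitMap x).left ≫ X.hom) := by rw [Over.w]; infer_instance
  haveI : LocallyOfFiniteType (a.orbitMap x).left := locallyOfFiniteType_of_comp (a.orbitMap x).left X.hom
  have hR : IsLocallyClosed (Set.range (a.orbitMap x).left) := GrpSch.isLocallyClosed_range_orbit a x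
  have hcl : topologicalKrullDim ↥(closure (Set.range (a.orbitMap x).left)) =
      topologicalKrullDim ↥(Set.range (a.orbitMap x).left) := by
    refine le_antisymm ((VarDim.Basic.topologicalKrullDim_le_iff X.hom isClosed_closure.isLocallyClosed _).2
      fun z hz => ?_) (Topology.IsEmbedding.inclusion subset_closure).isInducing.topologicalKrullDim_le
    obtain ⟨y, hy⟩ := SchTopo.Closure.exists_specializes_of_mem_closure_range (a.orbitMap x).left hz
    exact le_trans (by exact_mod_cast VarDim.Basic.pdim_le X.hom hy)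
      (VarDim.Basic.pdim_le_topologicalKrullDim X.hom hR ⟨y, rfl⟩)
  obtain ⟨d, hd⟩ := Groth.Agent.Lib.FibreDim.Chart.exists_fibreDimAt_eq (a.orbitMap x).left (ptOf η[G])
  have hfib : topologicalKrullDim ↥((a.orbitMap x).left ⁻¹' {(a.orbitMap x).left (ptOf η[G])}) = (d : WithBot ℕ∞) := by
    refine le_antisymm (topologicalKrullDim_le_of_forall fun w => ?_) ?_
    · exact ((localDim_preimage (a.orbitMap x).left w).trans
        ((GrpSch.fibreDimAt_orbit_const a x w.1 _).trans hd)).le
    · rw [← hd, fibreDimAt_eq]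
      exact localDim_le_topologicalKrullDim _
  have hform := GrpSch.dim_eq_add_orbit a x
  rw [hn, show η[G].left (IsLocalRing.closedPoint k) = ptOf η[G] from rfl, hfib] at hform
  obtain ⟨m, hm⟩ : ∃ m : ℕ, topologicalKrullDim ↥(Set.range (a.orbitMap x).left) = (m : WithBot ℕ∞) := by
    generalize topologicalKrullDim ↥(Set.range (a.orbitMap x).left) = D at hform
    cases D with
    | bot => exact absurd hform (by simp)
    | coe D =>
      cases D with
      | top => exact absurd hform (by simp; exact fun h => ENat.top_ne_coe n (WithBot.coe_injective h).symm)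
      | coe m => exact ⟨m, rfl⟩
  rw [hm] at hform
  have hform' : n = m + d := by exact_mod_cast hform
  show topologicalKrullDim ↥(closure (Set.range (a.orbitMap x).left)) ≤ _ ↔ _
  rw [hcl, hm]
  have key : Set.range x.left.base = {ptOf x} := by
    haveI : Subsingleton ↥(𝟙_ (Over (Spec (CommRingCat.of k)))).left :=
      inferInstanceAs (Subsingleton (PrimeSpectrum k))
    ext y
    constructor
    · rintro ⟨t, rfl⟩
      exact congrArg x.left (Subsingleton.elim (α := ↥(𝟙_ (Over (Spec (CommRingCat.of k)))).left) _ _)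
    · rintro rfl
      exact ⟨_, rfl⟩
  rw [key, Set.singleton_subset_iff, Set.mem_preimage, Set.mem_setOf_eq, fibreDimAt_stab a x, hd]
  exact ⟨fun h => by
    have h' : m ≤ r := by exact_mod_cast h
    exact_mod_cast (show n - r ≤ d by omega), fun h => by
    have h' : n - r ≤ d := by exact_mod_cast h
    exact_mod_cast (show m ≤ r by omega)⟩

end Groth.Agent.S11244
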