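import Groth.Statements.S11245
import Groth.Agent.H60.RedLR.Reductive
import Groth.Agent.Lib.H1.Grosshans.Main
import Groth.Agent.Lib.H1.Grosshans.Extra
import Groth.Agent.Lib.H1.Grosshans.OpenLift

set_option autoImplicit false
universe u
open CategoryTheory MonoidalCategory CartesianMonoidalCategory MonObj GrpObj AlgebraicGeometry
open scoped TensorProduct
open AGF

namespace Groth.Agent.S11245

set_option linter.style.haveILetI false
set_option linter.unusedSectionVars false

open WithConv
open Groth.Agent.Lib.RedPts Groth.Agent.Lib.RedPts.Points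
open Groth.Agent.H1.Classical Groth.Agent.H1.Classical.Scheme' Groth.Agent.H1.Classical.MaxTorusApply
open Groth.Agent.H1.Obs Groth.Agent.H1.Obs.UFG Groth.Agent.Lib.H1.Grosshans Groth.Agent.Lib.Comod.Basic

attribute [local instance] Groth.Agent.Lib.RedPts.Points.baseAlgebra

/-- An element of a tensor square of a reduced algebra vanishing at all pairs of points is zero. -/
theorem eq_zero_of_pairs {k : Type u} [Field k] [IsAlgClosed k] {A : Type u} [CommRing A] [HopfAlgebra k A]
    [_root_.IsReduced A] [Algebra.FiniteType k A] (z : A ⊗[k] A)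
    (h : ∀ χ χ' : HopfPts.Pt k A, LinearMap.mul' k k (TensorProduct.map χ.ofConv.toLinearMap χ'.ofConv.toLinearMap z) = 0) :
    z = 0 := by
  classical
  obtain ⟨c, rfl⟩ := TensorProduct.eq_repr_basis_right (Module.Free.chooseBasis k A) z
  set b := Module.Free.chooseBasis k A
  have h1 : ∀ χ : HopfPts.Pt k A, (c.sum fun i m => χ.ofConv m • b i) = 0 := fun χ => by
    refine HopfPts.ev_injective k A (funext fun χ' => ?_)
    show χ'.ofConv _ = χ'.ofConv 0
    rw [map_zero, ← h χ χ', Finsupp.sum, Finsupp.sum, map_sum, map_sum, map_sum]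
    exact Finset.sum_congr rfl fun i _ => by simp
  have h2 : c = 0 := Finsupp.ext fun i => HopfPts.ev_injective k A (funext fun χ => by
    show χ.ofConv (c i) = χ.ofConv 0
    rw [map_zero]
    have := congrArg (fun v => b.repr v i) (h1 χ)
    simp only [map_zero, Finsupp.coe_zero, Pi.zero_apply] at this
    rw [Finsupp.sum, map_sum, Finsupp.finsetSum_apply] at this
    rw [Finset.sum_eq_single i (fun j _ hj => by simp [hj]) (fun hi => by simp [Finsupp.notMem_support_iff.mp hi])] at this
    simpa using this)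
  simp [h2]

set_option maxHeartbeats 1000000 in
/-- Invariant complements in finite stable subspaces, in characteristic zero. -/
theorem exists_compl {k : Type u} [Field k] [IsAlgClosed k] [CharZero k] {G : Over (Spec (CommRingCat.of k))} [GrpObj G]
    (hG : Red.IsReductiveOver k G) {V : Type u} [AddCommGroup V] [Module k V] (ρ : VecGrp.GMod G V)
    (V' W : Submodule k V) [FiniteDimensional k V'] (hV : ∀ (x : P G), ∀ v ∈ V', act ρ x v ∈ V')
    (hW : ∀ (x : P G), ∀ w ∈ W, act ρ x w ∈ W) (hWV : W ≤ V') :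
    ∃ C : Submodule k V, C ≤ V' ∧ (∀ (x : P G), ∀ c ∈ C, act ρ x c ∈ C) ∧ Disjoint W C ∧ V' ≤ W ⊔ C := by
  classical
  obtain ⟨hGa, hGs, hGc, -⟩ := id hG
  haveI := hGa
  haveI := hGs
  haveI := hGc
  obtain ⟨A, _, _, _, _, e, he⟩ := exists_GA G
  haveI := he
  have hlr := H60.RedLR.isLinearlyReductive_of_isReductiveOver
    (k := k) (A := A) (H60.RedLR.isReductiveOver_congr e hG)
  let n := Module.finrank k V'
  let b := Module.finBasis k V'
  choose l hl using fun i => LinearMap.exists_extend (b.coord i)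
  choose z hz using fun f => exists_coord e f
  let M : Fin n → Fin n → A := fun i j => z (coef ρ (l i) (b j : V))
  let T : HopfPts.Pt k A → (V' →ₗ[k] V') := fun χ => (act ρ (toP e χ)).restrict (fun v hv => hV _ v hv)
  have hM : ∀ (χ : HopfPts.Pt k A) i j, χ.ofConv (M i j) = b.repr (T χ (b j)) i := fun χ i j => by
    rw [← hz, ev_coef]
    have := LinearMap.congr_fun (hl i) (T χ (b j))
    exact this
  have hT : ∀ χ χ', T (χ * χ') = T χ ∘ₗ T χ' := fun χ χ' => LinearMap.ext fun v => Subtype.ext (by
    show act ρ (toP e (χ * χ')) v = act ρ (toP e χ) (act ρ (toP e χ') v)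
    rw [map_mul, Groth.Agent.H1.Obs.act_mul])
  have hT1 : T 1 = LinearMap.id := LinearMap.ext fun v => Subtype.ext (by
    show act ρ (toP e 1) v = v
    rw [map_one, Groth.Agent.H1.Obs.act_one])
  have hΔ : ∀ i j, Coalgebra.comul (R := k) (M i j) = ∑ a, M i a ⊗ₜ[k] M a j := fun i j => by
    rw [← sub_eq_zero]
    refine eq_zero_of_pairs _ fun χ χ' => ?_
    have h1 : LinearMap.mul' k k (TensorProduct.map χ.ofConv.toLinearMap χ'.ofConv.toLinearMap
        (Coalgebra.comul (R := k) (M i j))) = (χ * χ').ofConv (M i j) := by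
      rw [AlgHom.convMul_apply]
      induction Coalgebra.comul (R := k) (M i j) using TensorProduct.induction_on with
      | zero => simp
      | tmul x y => simp
      | add x y hx hy => simp only [map_add, hx, hy]
    rw [map_sub, map_sub, h1, sub_eq_zero, hM, hT, LinearMap.comp_apply, map_sum, map_sum]
    conv_lhs => rw [← b.sum_repr (T χ' (b j))]
    simp only [map_sum, map_smul, Finsupp.finsetSum_apply, Finsupp.smul_apply, smul_eq_mul]
    exact Finset.sum_congr rfl fun a _ => by simp [hM, mul_comm]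
  have hε : ∀ i j, Coalgebra.counit (R := k) (M i j) = if j = i then 1 else 0 := fun i j => by
    have h := hM 1 i j
    rw [hT1] at h
    simpa [AlgHom.convOne_def, Finsupp.single_apply] using h
  letI cV : HopfRep.Comod k A V' :=
    { coact := b.constr k fun j => ∑ i, b i ⊗ₜ[k] M i j
      coassoc := b.ext fun j => by
        simp [LinearMap.rTensor_tmul, TensorProduct.sum_tmul, hΔ, TensorProduct.tmul_sum]
        exact Finset.sum_comm
      counit_comp := b.ext fun j => by
        simp [hε, TensorProduct.tmul_ite, Finset.sum_ite_eq] }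
  have hrep : ∀ (χ : HopfPts.Pt k A) (v : V'), ComodPts.rep (k := k) (A := A) V' χ v = T χ v := fun χ v => by
    refine LinearMap.congr_fun (b.ext (f₁ := ComodPts.rep (k := k) (A := A) V' χ) (f₂ := T χ) fun j => ?_) v
    show contract V' χ.ofConv.toLinearMap (b.constr k (fun j => ∑ i, b i ⊗ₜ[k] M i j) (b j)) = _
    rw [b.constr_basis, map_sum]
    conv_rhs => rw [← b.sum_repr (T χ (b j))]
    exact Finset.sum_congr rfl fun i _ => by simp [hM]
  obtain ⟨C', hC', hcompl⟩ := hlr V' inferInstance (W.comap V'.subtype)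
    (ComodPts.isSubcomod_of_stable V' _ fun χ w hw => by rw [hrep]; exact hW _ _ hw)
  refine ⟨C'.map V'.subtype, Submodule.map_subtype_le _ _, fun x c hc => ?_, ?_, fun v hv => ?_⟩
  · obtain ⟨c', hc', rfl⟩ := hc
    obtain ⟨χ, rfl⟩ := toP_surjective e x
    refine ⟨T χ c', ?_, rfl⟩
    rw [← hrep]
    obtain ⟨y, hy⟩ := hC' c' hc'
    show contract V' χ.ofConv.toLinearMap _ ∈ C'
    rw [← hy, contract_rTensor]
    exact Subtype.mem _
  · refine Submodule.disjoint_def.mpr ?_
    rintro _ hw ⟨c, hc, rfl⟩
    simp [Submodule.disjoint_def.mp hcompl.disjoint c hw hc]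
  · obtain ⟨w, hw, c, hc, hwc⟩ := Submodule.mem_sup.mp
      (hcompl.sup_eq_top ▸ Submodule.mem_top : (⟨v, hv⟩ : V') ∈ W.comap V'.subtype ⊔ C')
    exact Submodule.mem_sup.mpr ⟨w, hw, c, ⟨c, hc, rfl⟩, congrArg Subtype.val hwc⟩

/-- Let k be an algebraically closed field of characteristic zero, G a linear algebraic group over k
(affine, smooth) whose identity component is reductive, B a Borel subgroup with unipotent radical U.
Then every rational G-module V equals G·V^U, the intersection of all G-stable subspaces of V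
containing the U-invariants V^U. (In characteristic zero every finite-dimensional rational G-module
is completely reducible, a classical result on which the proof rests.) -/
theorem result (k : Type u) [Field k] [IsAlgClosed k] [CharZero k]
    (G : Over (Spec (CommRingCat.of k))) [GrpObj G] (hG : VecGrp.IsReductiveGrp k G)
    (Bo : Over (Spec (CommRingCat.of k))) [GrpObj Bo] (iB : Bo ⟶ G) (hB : Red.IsBorelOver k iB)
    (U : Over (Spec (CommRingCat.of k))) [GrpObj U] (u : U ⟶ Bo) (hU : Par.IsUnipotentRadical u)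
    (V : Type u) [AddCommGroup V] [Module k V] (ρ : VecGrp.GMod G V) :
    sInf {W : Submodule k V | ρ.fixedUnder (u ≫ iB) ≤ W ∧ ρ.IsStable (𝟙 G) W} = ⊤ := by
  obtain ⟨hA, hS, G₀, _, j, hj1, hj2, hG₀⟩ := id hG
  haveI := hA
  haveI := hS
  haveI := hj1
  haveI := hj2
  haveI := hG₀.1
  obtain ⟨hm, hUa, hUs, hUc, hno⟩ := props_of_radical hB hU
  haveI := hm
  haveI := hUa
  haveI := hUs
  haveI := hUc
  obtain ⟨b, hb, hbm⟩ := exists_lift_open j (u ≫ iB)
  haveI := hbm
  refine eq_top_iff.mpr fun v _ => Submodule.mem_sInf.mpr fun W hW => ?_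
  obtain ⟨hWU, hWst⟩ := hW
  obtain ⟨V', hV'f, hvV, hV'⟩ := exists_finite_stable ρ v
  haveI := hV'f
  obtain ⟨C, hCV, hC, hdisj, hsup⟩ := exists_compl hG₀ (pullMod ρ j) V' (W ⊓ V')
    (fun x w hw => by rw [act_pull]; exact hV' _ w hw)
    (fun x w hw => by rw [act_pull]; exact ⟨act_mem_of_stable hWst _ hw.1, hV' _ w hw.2⟩) inf_le_right
  have hC0 : C = ⊥ := by
    by_contra hne
    obtain ⟨c, hc, hc0, hfix⟩ := exists_fixed (u ≫ iB) ρ hno C hne fun h w hw => by
      rw [← hb, ← Category.assoc, ← act_pull]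
      exact hC _ w hw
    exact hc0 (Submodule.disjoint_def.mp hdisj c ⟨hWU hfix, hCV hc⟩ hc)
  rw [hC0, sup_bot_eq] at hsup
  exact (hsup hvV).1

end Groth.Agent.S11245
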