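import Groth.Statements.S11246
import Groth.Agent.H1.Obs.Eigen
import Groth.Agent.H1.Classical.TorusPts

set_option autoImplicit false
universe u
open CategoryTheory MonoidalCategory CartesianMonoidalCategory MonObj GrpObj AlgebraicGeometry
open scoped TensorProduct
open AGF

namespace Groth.Agent.S11246

open Groth.Agent.H1.Obs Groth.Agent.H1.RInv Groth.Agent.Lib.RedPts Groth.Agent.Lib.RedPts.Points Groth.Agent.H1.Classical.Scheme'

attribute [local instance] baseAlgebra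

/-- Let k be an algebraically closed field and H a connected solvable linear algebraic group over k
(affine, smooth, connected, solvable) with maximal torus T and unipotent radical U (so H = T·U),
acting rationally by algebra automorphisms on a commutative k-algebra A which is an integral domain.
Let χ be a character of H and let a₀, b₀ ∈ A, b₀ ≠ 0, be such that H acts on the fraction a₀/b₀
through χ: (h·a₀)·b₀ = χ(h)·a₀·(h·b₀) for every point h of H. Then there are U-invariant elements a,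
b ∈ A with b ≠ 0 and a·b₀ = b·a₀ (so a₀/b₀ = a/b), and a character θ of T such that b is a
T-semi-invariant of weight θ and a is a T-semi-invariant of weight θ + χ|_T. -/
theorem result (k : Type u) [Field k] [IsAlgClosed k]
    (H : Over (Spec (CommRingCat.of k))) [GrpObj H] [IsAffine H.left] [Smooth H.hom] [ConnectedSpace H.left]
    (hsolv : Red.IsSolvableGrp H)
    (T : Over (Spec (CommRingCat.of k))) [GrpObj T] (iT : T ⟶ H) [IsMonHom iT] (hT : AGF.IsMaxTorus iT)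
    (U : Over (Spec (CommRingCat.of k))) [GrpObj U] (uH : U ⟶ H) (hU : Par.IsUnipotentRadical uH)
    (χ : H ⟶ Red.Gm (Spec (CommRingCat.of k))) [IsMonHom χ]
    (A : Type u) [CommRing A] [IsDomain A] [Algebra k A] (ρ : VecGrp.GMod H A) (hρ : ρ.IsMult)
    (a₀ b₀ : A) (hb₀ : b₀ ≠ 0)
    (hχ : ∀ (B : Type u) [CommRing B] [Algebra k B] (h : VecGrp.pt k B ⟶ H),
      ρ.ρ B h ((1 : B) ⊗ₜ[k] a₀) * ((1 : B) ⊗ₜ[k] b₀) =
        VecGrp.chiVal χ h • (((1 : B) ⊗ₜ[k] a₀) * ρ.ρ B h ((1 : B) ⊗ₜ[k] b₀))) :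
    ∃ a b : A, a ∈ ρ.fixedUnder uH ∧ b ∈ ρ.fixedUnder uH ∧ b ≠ 0 ∧ a * b₀ = b * a₀ ∧
      ∃ θ : T ⟶ Red.Gm (Spec (CommRingCat.of k)), IsMonHom θ ∧
        (∀ (B : Type u) [CommRing B] [Algebra k B] (t : VecGrp.pt k B ⟶ T),
          ρ.ρ B (t ≫ iT) ((1 : B) ⊗ₜ[k] b) = VecGrp.chiVal θ t • ((1 : B) ⊗ₜ[k] b)) ∧
        (∀ (B : Type u) [CommRing B] [Algebra k B] (t : VecGrp.pt k B ⟶ T),
          ρ.ρ B (t ≫ iT) ((1 : B) ⊗ₜ[k] a) =
            (VecGrp.chiVal θ t * VecGrp.chiVal χ (t ≫ iT)) • ((1 : B) ⊗ₜ[k] a)) := by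
  obtain ⟨hmu, hcu, hnu, hsu, -, hfib, -⟩ := hU
  obtain ⟨-, hmono, hTor, -⟩ := hT
  haveI := hmu
  haveI := hcu
  haveI := hsu
  haveI := hmono
  haveI : IsAffine U.left := isAffine_of_isAffineHom uH.left
  obtain ⟨hUc, hno⟩ := Groth.Agent.H1.Classical.RadU.props_of_fibre hfib
  haveI := hUc
  obtain ⟨-, hTs, hTc, hTa⟩ := Groth.Agent.H1.Classical.TorusPts.torus_props iT hTor
  haveI := hTs
  haveI := hTc
  haveI := hTa
  let c : P H → k := fun h => ev h (Red.gmFn χ)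
  have hfr : ∀ h : P H, act ρ h a₀ * b₀ = c h • (a₀ * act ρ h b₀) := fun h => by
    have h1 := hχ k (toPt h)
    rw [act_apply, act_apply, Algebra.TensorProduct.tmul_mul_tmul, Algebra.TensorProduct.tmul_mul_tmul,
      _root_.one_mul, chiVal_eq, evB_toPt] at h1
    have h2 := congrArg (TensorProduct.lid k A) h1
    rwa [map_smul, TensorProduct.lid_tmul, TensorProduct.lid_tmul, one_smul, one_smul] at h2
  have hinj : ∀ h : P H, act ρ h b₀ ≠ 0 := fun h e => hb₀ (act_inj ρ _ (e.trans (map_zero _).symm))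
  have hcinv : ∀ h, c h ≠ 0 := fun h => ((Groth.Agent.Lib.RedPts.Gm.isUnit_gmFn χ).map (ev h)).ne_zero
  let W : Submodule k A :=
    ((Ideal.span {b₀}).restrictScalars k).comap (LinearMap.mulRight k a₀) ⊓ ρ.fixedUnder uH
  have hW : ∀ x, x ∈ W ↔ (∃ d, d * b₀ = x * a₀) ∧ x ∈ ρ.fixedUnder uH := fun x => by
    simp [W, Ideal.mem_span_singleton', eq_comm]
  -- the denominators form a stable subspace
  have hden : ∀ (h : P H) (x d : A), d * b₀ = x * a₀ → (c h)⁻¹ • act ρ h d * b₀ = act ρ h x * a₀ := fun h x d hd => by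
    refine mul_right_cancel₀ (hinj h) ?_
    have h1 := congrArg (act ρ h) hd
    rw [act_map_mul ρ hρ, act_map_mul ρ hρ] at h1
    have h2 : act ρ h d * act ρ h b₀ * b₀ = c h • (act ρ h x * a₀ * act ρ h b₀) := by
      rw [h1, _root_.mul_assoc (act ρ h x) _ b₀, hfr, mul_smul_comm, _root_.mul_assoc]
    rw [smul_mul_assoc, smul_mul_assoc, _root_.mul_assoc (act ρ h d), mul_comm b₀, ← _root_.mul_assoc, h2,
      inv_smul_smul₀ (hcinv h)]
  have hne : W ≠ ⊥ := by
    have h0 : ((Ideal.span {b₀}).restrictScalars k).comap (LinearMap.mulRight k a₀) ≠ ⊥ := fun h => hb₀ (by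
      have : b₀ ∈ ((Ideal.span {b₀}).restrictScalars k).comap (LinearMap.mulRight k a₀) := by
        simp [Ideal.mem_span_singleton']
        exact ⟨a₀, mul_comm _ _⟩
      rwa [h, Submodule.mem_bot] at this)
    obtain ⟨v, hv, hv0, hvf⟩ := exists_fixed uH ρ hno _ h0 fun u x hx => by
      obtain ⟨d, hd⟩ := Ideal.mem_span_singleton'.mp hx
      exact Ideal.mem_span_singleton'.mpr ⟨_, hden (u ≫ uH) x d hd⟩
    intro hbot
    have : v ∈ W := ⟨hv, hvf⟩
    rw [hbot, Submodule.mem_bot] at this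
    exact hv0 this
  obtain ⟨b, hbW, hb0, θ, hθ, hbθ⟩ := exists_eigen iT ρ
    ⟨1, fun X => by
      rw [derivedSeries_one, eq_bot_iff, commutator_def, Subgroup.commutator_le]
      intro x _ y _
      rw [Subgroup.mem_bot, commutatorElement_eq_one_iff_mul_comm]
      exact Groth.Agent.Lib.Tori.Comm.mul_comm_of_isTorus hTor x y⟩ W hne fun t x hx => by
        obtain ⟨⟨d, hd⟩, hxf⟩ := (hW x).mp hx
        refine (hW _).mpr ⟨⟨_, hden _ x d hd⟩, (mem_fixedUnder_iff ρ uH _).mpr fun u => ?_⟩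
        obtain ⟨n, hn⟩ := hnu _ (t ≫ iT)⁻¹ u
        rw [← act_mul, show (u ≫ uH) * (t ≫ iT) = (t ≫ iT) * (n ≫ uH) by rw [← hn]; group, act_mul,
          (mem_fixedUnder_iff ρ uH x).mp hxf n]
  haveI := hθ
  obtain ⟨⟨a, ha⟩, hbf⟩ := (hW b).mp hbW
  refine ⟨a, b, (mem_fixedUnder_iff ρ uH a).mpr fun u => ?_, hbf, hb0, ha, θ, hθ, (semi_iff ρ iT θ b).mpr hbθ, ?_⟩
  · have hχu : c (u ≫ uH) = 1 := by
      show ev (u ≫ uH) (Red.gmFn χ) = 1
      rw [ev_comp, ← Groth.Agent.Lib.RedPts.Gm.gmFn_comp,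
        Groth.Agent.H1.Classical.CharRad.char_eq_one_of_noTorsion hno (uH ≫ χ), Groth.Agent.Lib.RedPts.Gm.gmFn_one,
        map_one]
    have h := hden (u ≫ uH) b a ha
    rw [hχu, inv_one, one_smul, (mem_fixedUnder_iff ρ uH b).mp hbf u, ← ha] at h
    exact mul_right_cancel₀ hb₀ h
  · have key : ∀ t : P T, act ρ (t ≫ iT) a = (ev t (Red.gmFn θ) * c (t ≫ iT)) • a := fun t => by
      have h := hden (t ≫ iT) b a ha
      rw [hbθ, smul_mul_assoc, smul_mul_assoc, ← ha, ← smul_mul_assoc, ← smul_mul_assoc] at h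
      rw [mul_comm, mul_smul, ← mul_right_cancel₀ hb₀ h, smul_inv_smul₀ (hcinv _)]
    intro B _ _ t
    have h := (semi_iff ρ iT (θ * (iT ≫ χ)) a).mpr (fun t => by
      rw [key, Groth.Agent.Lib.RedPts.Gm.gmFn_mul, map_mul, Groth.Agent.Lib.RedPts.Gm.gmFn_comp, ← ev_comp]) B t
    rw [h, chiVal_eq, chiVal_eq, chiVal_eq, Groth.Agent.Lib.RedPts.Gm.gmFn_mul, map_mul,
      Groth.Agent.Lib.RedPts.Gm.gmFn_comp, evB_comp]

end Groth.Agent.S11246
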