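import Groth.Statements.S11248
import Groth.Agent.Lib.H1.Grosshans.Modules

set_option autoImplicit false
universe u
open CategoryTheory MonoidalCategory CartesianMonoidalCategory MonObj GrpObj AlgebraicGeometry
open scoped TensorProduct
open AGF

namespace Groth.Agent.S11248

open Groth.Agent.Lib.H1.Grosshans Groth.Agent.H1.Obs

attribute [local instance] Groth.Agent.Lib.RedPts.Points.baseAlgebra

/-- Let k be an algebraically closed field, G a linear algebraic group over k (affine, smooth) acting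
rationally by algebra automorphisms on a commutative k-algebra A, H a smooth closed subgroup of G,
and L a smooth closed subgroup of G whose identity component is reductive and which normalizes H;
let B_L be a Borel subgroup of L and U(L) its unipotent radical (a maximal unipotent subgroup of L).
Assume finite generation of invariants of reductive groups over k on finitely generated algebras (a
true result which the published text assumes without proof, carried here as a hypothesis). Then A^H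
is a finitely generated k-algebra exactly when the algebra of invariants of H·U(L), namely A^H ∩
A^{U(L)}, is finitely generated over k. -/
theorem result (k : Type u) [Field k] [IsAlgClosed k]
    (G : Over (Spec (CommRingCat.of k))) [GrpObj G] [IsAffine G.left] [Smooth G.hom]
    (H : Over (Spec (CommRingCat.of k))) [GrpObj H] [Smooth H.hom] (i : H ⟶ G) [IsMonHom i] [IsClosedImmersion i.left]
    (L : Over (Spec (CommRingCat.of k))) [GrpObj L] (j : L ⟶ G) [IsMonHom j] [IsClosedImmersion j.left]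
    (hL : VecGrp.IsReductiveGrp k L)
    (hnorm : ∀ (X : Over (Spec (CommRingCat.of k))) (l : X ⟶ L) (h : X ⟶ H),
      ∃ h' : X ⟶ H, (l ≫ j) * (h ≫ i) * (l ≫ j)⁻¹ = h' ≫ i)
    (BL : Over (Spec (CommRingCat.of k))) [GrpObj BL] (iBL : BL ⟶ L) (hBL : Red.IsBorelOver k iBL)
    (UL : Over (Spec (CommRingCat.of k))) [GrpObj UL] (uL : UL ⟶ BL) (hUL : Par.IsUnipotentRadical uL)
    (thmA : VecGrp.ReductiveInvariantsFG k)
    (A : Type u) [CommRing A] [Algebra k A] (ρ : VecGrp.GMod G A) (hρ : ρ.IsMult) :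
    Algebra.FiniteType k ↥(ρ.fixedSubalgebra hρ i) ↔
      Algebra.FiniteType k ↥(ρ.fixedSubalgebra hρ i ⊓ ρ.fixedSubalgebra hρ (uL ≫ iBL ≫ j)) := by
  classical
  obtain ⟨hLa, hLs, -⟩ := id hL
  haveI := hLa
  haveI := hLs
  haveI : IsAffine H.left := isAffine_of_isAffineHom i.left
  obtain ⟨hm, hUa, hUs, -, -⟩ := Groth.Agent.H1.Obs.props_of_radical hBL hUL
  haveI := hUa
  haveI := hUs
  set S := ρ.fixedSubalgebra hρ i
  have hfix : ∀ a, a ∈ S ↔ ∀ z, act ρ (z ≫ i) a = a := fun a => mem_fixedUnder_iff ρ i a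
  have hSst : ∀ (x : Groth.Agent.H1.Obs.P L), ∀ s ∈ S, act (pullMod ρ j) x s ∈ S := fun x s hs => by
    rw [act_pull, hfix]
    intro z
    obtain ⟨z', hz'⟩ := hnorm _ x⁻¹ z
    rw [GrpObj.inv_comp, _root_.inv_inv] at hz'
    have h1 : (z ≫ i) * (x ≫ j) = (x ≫ j) * (z' ≫ i) := by rw [← hz']; group
    rw [← Groth.Agent.H1.Obs.act_mul, h1, Groth.Agent.H1.Obs.act_mul, (hfix s).mp hs z']
  have hρL := pullMod_isMult hρ j
  let σ := restrictMod (pullMod ρ j) hρL S hSst
  have hσ : σ.IsMult := restrictMod_isMult (pullMod ρ j) hρL S hSst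
  have hmem : ∀ s : S, s ∈ σ.fixedSubalgebra hσ (uL ≫ iBL) ↔
      (s : A) ∈ ρ.fixedSubalgebra hρ (uL ≫ iBL ≫ j) := fun s => by
    show s ∈ σ.fixedUnder (uL ≫ iBL) ↔ (s : A) ∈ ρ.fixedUnder (uL ≫ iBL ≫ j)
    rw [mem_fixed_restrict hρL S hSst, mem_fixedUnder_iff, mem_fixedUnder_iff]
    simp only [act_pull, Category.assoc]
  have hmap : (σ.fixedSubalgebra hσ (uL ≫ iBL)).map S.val = S ⊓ ρ.fixedSubalgebra hρ (uL ≫ iBL ≫ j) := by
    refine le_antisymm ?_ fun a ha => ⟨⟨a, ha.1⟩, (hmem ⟨a, ha.1⟩).mpr ha.2, rfl⟩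
    rintro _ ⟨s, hs, rfl⟩
    exact ⟨s.2, (hmem s).mp hs⟩
  have hiff : (σ.fixedSubalgebra hσ (uL ≫ iBL)).FG ↔ (S ⊓ ρ.fixedSubalgebra hρ (uL ≫ iBL ≫ j)).FG := by
    rw [← hmap]
    exact ⟨fun h => h.map _, fun h => Subalgebra.fg_of_fg_map _ _ Subtype.val_injective h⟩
  rw [← Subalgebra.fg_iff_finiteType (S ⊓ _), ← hiff, Subalgebra.fg_iff_finiteType]
  constructor
  · intro hfg
    exact finiteType_fixed_radical hL hBL hUL thmA hσ
  · intro hfg
    exact finiteType_of_fixed hL hBL hUL hσ hfg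

end Groth.Agent.S11248
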