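import Groth.Statements.S11252
import Groth.Agent.Lib.Grass.Basis

set_option autoImplicit false
universe u
open W4bk4grassmannian

namespace Groth.Agent.S11252

open W4bk4grassmannian in
/-- Standard monomial basis for a union of Schubert varieties: let K be an algebraically closed field, 0
< d < n, and I(d,n) the strictly increasing maps Fin d → Fin n ordered entrywise; S = K[X_θ : θ ∈
I(d,n)] is the Plücker polynomial ring and, for τ ∈ I(d,n), J(τ) ⊆ S is the ideal of polynomials
vanishing at the d × d row-minors of every n × d matrix over K whose minors on rows φ ≰ τ are zero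
(the homogeneous ideal of the Schubert variety X(τ) ⊆ G(d,n)). Let τ_1, …, τ_r ∈ I(d,n) and let J =
⋂_i J(τ_i) be the homogeneous ideal of the union ⋃_i X(τ_i). Then the classes in S/J of the
monomials X_{θ_1} ⋯ X_{θ_m} (m ≥ 0) along chains θ_1 ≥ ⋯ ≥ θ_m all of whose members lie below some
τ_i are linearly independent over K and span S/J. -/
theorem result (K : Type u) [Field K] [IsAlgClosed K] (d n : ℕ)
    (hd : 0 < d) (hdn : d < n) (r : ℕ) (τs : Fin r → Idx d n) :
    LinearIndependent K (fun c : (Σ m : ℕ, {c : Fin m → Idx d n // Antitone c ∧ ∃ i, ∀ k, c k ≤ τs i}) =>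
        Ideal.Quotient.mk (⨅ i, schubertVanishing K d n (τs i)) (chainMon K c.2.1)) ∧
      Submodule.span K (Set.range fun c : (Σ m : ℕ, {c : Fin m → Idx d n // Antitone c ∧ ∃ i, ∀ k, c k ≤ τs i}) =>
        Ideal.Quotient.mk (⨅ i, schubertVanishing K d n (τs i)) (chainMon K c.2.1)) = ⊤ := by
  constructor
  · refine Groth.Agent.Lib.Grass.Basis.linearIndependent_mk_chainMon hd
      (⨅ i, schubertVanishing K d n (τs i)) (Set.range τs) ?_
      (fun x : (Σ m : ℕ, {c : Fin m → Idx d n // Antitone c ∧ ∃ i, ∀ k, c k ≤ τs i}) =>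
        (⟨x.1, x.2.1⟩ : Σ m, Fin m → Idx d n)) ?_ (fun x => x.2.2.1) ?_
    · rintro _ ⟨i, rfl⟩
      rw [← Groth.Agent.Lib.Grass.Cell.schubertVanishing_eq_ker hd]
      exact iInf_le _ i
    · rintro ⟨m, c, h⟩ ⟨m', c', h'⟩ hh
      simp only [Sigma.mk.injEq] at hh
      obtain ⟨rfl, hh⟩ := hh
      obtain rfl := eq_of_heq hh
      rfl
    · intro x
      obtain ⟨i, hi⟩ := x.2.2.2
      exact ⟨τs i, ⟨i, rfl⟩, hi⟩
  · rw [eq_top_iff, ← Groth.Agent.Lib.Grass.Straighten.stdSpan_eq_top
      (I := ⨅ i, schubertVanishing K d n (τs i)) (P := fun φ => ∃ i, φ ≤ τs i) ?_ ?_]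
    · refine Submodule.span_le.2 ?_
      rintro _ ⟨⟨m, c, hc, hP⟩, rfl⟩
      by_cases h : ∃ i, ∀ k, c k ≤ τs i
      · exact Submodule.subset_span ⟨⟨m, c, hc, h⟩, rfl⟩
      · have hm : r = 0 := by
          by_contra hr
          apply h
          rcases Nat.eq_zero_or_pos m with rfl | hm
          · exact ⟨⟨0, Nat.pos_of_ne_zero hr⟩, fun k => k.elim0⟩
          · obtain ⟨i, hi⟩ := hP ⟨0, hm⟩
            exact ⟨i, fun k => (hc (show (⟨0, hm⟩ : Fin m) ≤ k from Nat.zero_le _)).trans hi⟩
        subst hm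
        have : Ideal.Quotient.mk (⨅ i, schubertVanishing K d n (τs i)) (chainMon K c) = 0 :=
          Ideal.Quotient.eq_zero_iff_mem.2 (by rw [iInf_of_empty]; trivial)
        simp only [SetLike.mem_coe]
        rw [this]
        exact zero_mem _
    · intro i j s h
      rw [Submodule.mem_iInf]
      intro l
      rw [← Groth.Agent.Lib.Grass.Basis.plIdeal_eq_schubertVanishing hd]
      exact Ideal.subset_span (Or.inl ⟨i, j, s, h, rfl⟩)
    · intro φ hφ
      rw [Submodule.mem_iInf]
      intro l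
      rw [← Groth.Agent.Lib.Grass.Basis.plIdeal_eq_schubertVanishing hd]
      exact Ideal.subset_span (Or.inr ⟨φ, fun h => hφ ⟨l, h⟩, rfl⟩)

end Groth.Agent.S11252
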