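import Groth.Statements.S11271
import Groth.Agent.Lib.Grass.Rank
import Mathlib.LinearAlgebra.Matrix.Adjugate
import Mathlib.Algebra.BigOperators.Field

set_option autoImplicit false
universe u
open W4bk4grassmannian MvPolynomial

namespace Groth.Agent.S11271

open W4bk4grassmannian in
/-- Semistable matrices are the matrices of full rank: let K be an algebraically closed field, 0 < d <
n, and let SL_d(K) act on n × d matrices by right multiplication; a matrix A is semistable when the
zero matrix is not in the Zariski closure of its orbit, i.e. when some polynomial in the entries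
vanishes at A g for every g ∈ SL_d(K) but not at 0. Then A is semistable if and only if its columns
are linearly independent. -/
theorem result (K : Type u) [Field K]
    [IsAlgClosed K] (d n : ℕ) (hd : 0 < d) (hdn : d < n) (A : Matrix (Fin n) (Fin d) K) :
    LinearIndependent K A.transpose ↔
      ∃ f : MatRing K d n, (∀ g : Matrix.SpecialLinearGroup (Fin d) K,
        MvPolynomial.eval (fun p : Fin n × Fin d => (A * (g : Matrix (Fin d) (Fin d) K)) p.1 p.2) f = 0) ∧
        MvPolynomial.eval (fun _ : Fin n × Fin d => (0 : K)) f ≠ 0 := by
  classical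
  have hev : ∀ (B : Matrix (Fin n) (Fin d) K) (θ : Fin d → Fin n),
      eval (fun p : Fin n × Fin d => B p.1 p.2)
        ((Matrix.of fun i j => (X (i, j) : MatRing K d n)).submatrix θ id).det =
        (B.submatrix θ id).det := by
    intro B θ
    rw [RingHom.map_det]
    congr 1
    ext i j
    simp
  constructor
  · intro hA
    obtain ⟨θ, hθ⟩ := Groth.Agent.Lib.Grass.Rank.exists_minor_ne_zero A hA
    replace hθ : (A.submatrix θ.1 id).det ≠ 0 := hθ
    refine ⟨((Matrix.of fun i j => (X (i, j) : MatRing K d n)).submatrix θ.1 id).det -
      C (A.submatrix θ.1 id).det, fun g => ?_, ?_⟩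
    · rw [map_sub, eval_C, hev, sub_eq_zero]
      have : (A * (g : Matrix (Fin d) (Fin d) K)).submatrix θ.1 id =
          A.submatrix θ.1 id * (g : Matrix (Fin d) (Fin d) K) := by
        ext i j; simp [Matrix.mul_apply]
      rw [this, Matrix.det_mul, g.2, mul_one]
    · rw [map_sub, eval_C, show (fun _ : Fin n × Fin d => (0 : K)) =
        fun p => (0 : Matrix (Fin n) (Fin d) K) p.1 p.2 from rfl, hev]
      have : Nonempty (Fin d) := ⟨⟨0, hd⟩⟩
      rw [show (0 : Matrix (Fin n) (Fin d) K).submatrix θ.1 id = 0 from rfl, Matrix.det_zero,
        zero_sub, neg_ne_zero]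
      exact hθ
  · rintro ⟨f, hf, hf0⟩
    by_contra hA
    obtain ⟨v, hv, j0, hj0⟩ := Fintype.not_linearIndependent_iff.1 hA
    set w : Fin d → K := fun j => v j / v j0
    set P : Matrix (Fin d) (Fin d) K := (1 : Matrix (Fin d) (Fin d) K).updateCol j0 w
    have hP : P.det = 1 := by
      show ((1 : Matrix (Fin d) (Fin d) K).updateCol j0 w).det = 1
      rw [← Matrix.cramer_apply, Matrix.cramer_one]
      simp [w, hj0]
    have hB : ∀ i, (A * P) i j0 = 0 := by
      intro i
      have := congrFun hv i
      simp only [Finset.sum_apply, Pi.smul_apply, Matrix.transpose_apply, smul_eq_mul, Pi.zero_apply] at this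
      simp only [Matrix.mul_apply, P, Matrix.updateCol_self, w]
      rw [Finset.sum_congr rfl fun k _ => show A i k * (v k / v j0) = v k * A i k / v j0 by ring,
        ← Finset.sum_div, this, zero_div]
    set B := A * P
    let q : Polynomial K := MvPolynomial.aeval (fun p : Fin n × Fin d => Polynomial.C (B p.1 p.2) * Polynomial.X) f
    have hq : ∀ l : K, q.eval l = eval (fun p : Fin n × Fin d => B p.1 p.2 * l) f := by
      intro l
      show (Polynomial.evalRingHom l) (MvPolynomial.aeval _ f) = _
      rw [MvPolynomial.aeval_def, MvPolynomial.eval₂_comp_left, MvPolynomial.eval]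
      show _ = MvPolynomial.eval₂ (RingHom.id K) _ f
      congr 1
      · ext a; simp
      · funext p; simp
    have hz : ∀ l : K, l ≠ 0 → q.eval l = 0 := by
      intro l hl
      rw [hq]
      let D : Fin d → K := fun j => if j = j0 then (l⁻¹) ^ (d - 1) else l
      have hD : (Matrix.diagonal D).det = 1 := by
        rw [Matrix.det_diagonal, ← Finset.mul_prod_erase _ _ (Finset.mem_univ j0),
          Finset.prod_congr rfl (fun j hj => show D j = l from if_neg (Finset.ne_of_mem_erase hj))]
        simp [D, ← mul_pow, hl]
      have h := hf ⟨P * Matrix.diagonal D, by rw [Matrix.det_mul, hP, hD, one_mul]⟩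
      rw [← h]
      refine congrArg (fun x => eval x f) ?_
      funext p
      show B p.1 p.2 * l = (A * (P * Matrix.diagonal D)) p.1 p.2
      rw [← Matrix.mul_assoc, Matrix.mul_diagonal]
      by_cases hp : p.2 = j0
      · rw [hp, show (A * P) p.1 j0 = 0 from hB _, zero_mul, show B p.1 j0 = 0 from hB _, zero_mul]
      · simp [D, hp, B]
    have hq0 : q = 0 := Polynomial.eq_zero_of_infinite_isRoot q
      (Set.Infinite.mono (fun l hl => hz l (by simpa using hl)) (Set.finite_singleton (0 : K)).infinite_compl)
    apply hf0
    have := hq 0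
    rw [hq0, Polynomial.eval_zero] at this
    simpa using this.symm

end Groth.Agent.S11271
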