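import Groth.Statements.S11272
import Groth.Agent.Lib.Grass.ConeCM

set_option autoImplicit false
universe u
open W4bk4grassmannian

namespace Groth.Agent.S11272

/-- A cone is Cohen–Macaulay iff it is so at its vertex: let K be an algebraically closed field, N a
natural number, S = K[x_1, …, x_N] graded by degree, I ⊆ S a proper ideal generated by homogeneous
polynomials, and m ⊆ S/I the image of the irrelevant ideal (x_1, …, x_N) (the vertex of the cone
Spec S/I), assumed prime. Then S/I is a Cohen–Macaulay ring if and only if the local ring (S/I)_m is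
Cohen–Macaulay. -/
theorem result (K : Type u) [Field K] [IsAlgClosed K] (N : ℕ)
    (I : Ideal (MvPolynomial (Fin N) K))
    (hI : ∃ T : Set (MvPolynomial (Fin N) K), (∀ f ∈ T, ∃ k : ℕ, f.IsHomogeneous k) ∧ I = Ideal.span T)
    (hI' : I ≠ ⊤)
    [hm : ((RingHom.ker (MvPolynomial.constantCoeff : MvPolynomial (Fin N) K →+* K)).map
      (Ideal.Quotient.mk I)).IsPrime] :
    LocCoh.IsCohenMacaulayRing (MvPolynomial (Fin N) K ⧸ I) ↔
      LocCoh.IsCohenMacaulayLocalRing (Localization.AtPrime
        ((RingHom.ker (MvPolynomial.constantCoeff : MvPolynomial (Fin N) K →+* K)).map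
          (Ideal.Quotient.mk I))) := by
  obtain ⟨T, hT, rfl⟩ := hI
  letI := MvPolynomial.gradedAlgebra (σ := Fin N) (R := K)
  have hhom : (Ideal.span T).IsHomogeneous (MvPolynomial.homogeneousSubmodule (Fin N) K) :=
    Ideal.homogeneous_span _ T fun x hx => by
      obtain ⟨k, hk⟩ := hT x hx
      exact ⟨k, (MvPolynomial.mem_homogeneousSubmodule k x).2 hk⟩
  exact ⟨fun h => h.isCohenMacaulayLocalRing_localization _,
    Groth.Agent.Lib.Grass.ConeCM.isCohenMacaulayRing_of_vertex
      (fun f hf m => (MvPolynomial.mem_iff_homogeneousComponent_mem hhom f).1 hf m) hI'⟩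

end Groth.Agent.S11272
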