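import Groth.Statements.S11280
import Groth.Agent.Lib.ArtinFun.FlatSmooth
import Mathlib.RingTheory.HopkinsLevitzki

set_option autoImplicit false
universe u
open Deform

open Groth.Agent.Lib.ArtinFun

namespace Groth.Agent.S11280

/-- Let k be an algebraically closed field, A a local Artinian k-algebra with residue field k and t an
element of the maximal ideal of A annihilated by the maximal ideal, so that A is a small extension
of A/tA. Let B be a flat A-algebra whose closed fibre B/m_A B is a formally smooth k-algebra (an
infinitesimal deformation over A of a formally smooth k-algebra). Then every A-algebra automorphism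
of B/tB is induced by an A-algebra automorphism of B. (The published statement asks the automorphism
of B/tB to induce the identity on B/m_A B; this row does not. The published statement takes the
closed fibre smooth, that is formally smooth and essentially of finite type; this row asks the
closed fibre to be formally smooth over k in the sense of lifting along all square-zero surjections
of commutative k-algebras, with no finiteness condition.) -/
theorem result
    {k : Type u} [Field k] [IsAlgClosed k]
    {A : Type u} [CommRing A] [Algebra k A] [IsLocalRing A] [IsArtinianRing A]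
    (hres : ∀ a : A, ∃ c : k, a - algebraMap k A c ∈ IsLocalRing.maximalIdeal A)
    (t : A) (ht : t ∈ IsLocalRing.maximalIdeal A)
    (htm : ∀ a ∈ IsLocalRing.maximalIdeal A, a * t = 0)
    {B : Type u} [CommRing B] [Algebra A B] [Module.Flat A B] [Algebra k B] [IsScalarTower k A B]
    (hsm : Algebra.FormallySmooth k (B ⧸ (IsLocalRing.maximalIdeal A).map (algebraMap A B)))
    (σ : (B ⧸ Ideal.span {algebraMap A B t}) ≃ₐ[A] (B ⧸ Ideal.span {algebraMap A B t})) :
    ∃ τ : B ≃ₐ[A] B, ∀ b : B,
      Ideal.Quotient.mk (Ideal.span {algebraMap A B t}) (τ b) =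
        σ (Ideal.Quotient.mk (Ideal.span {algebraMap A B t}) b) := by
  haveI : Algebra.FormallySmooth k (B ⧸ (IsLocalRing.maximalIdeal A).map (algebraMap A B)) := hsm
  haveI : Algebra.FormallySmooth A B := formallySmooth_of_flat_of_closedFibre (k := k) (IsLocalRing.maximalIdeal A)
    (by rw [← isArtinianRing_iff_isNilpotent_maximalIdeal]; infer_instance) hres
  let mk : B →ₐ[A] B ⧸ Ideal.span {algebraMap A B t} := Ideal.Quotient.mkₐ A _
  have hnil : IsNilpotent (RingHom.ker (mk : B →+* B ⧸ Ideal.span {algebraMap A B t})) := by
    refine ⟨2, ?_⟩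
    rw [show RingHom.ker (mk : B →+* B ⧸ Ideal.span {algebraMap A B t}) = Ideal.span {algebraMap A B t}
      from Ideal.mk_ker, Ideal.span_singleton_pow, Ideal.zero_eq_bot, Ideal.span_singleton_eq_bot, pow_two,
      ← map_mul, htm t ht, map_zero]
  have hlift : ∀ f : B →ₐ[A] B ⧸ Ideal.span {algebraMap A B t}, ∃ g : B →ₐ[A] B, ∀ b, mk (g b) = f b :=
    fun f => ⟨Algebra.FormallySmooth.liftOfSurjective f mk (Ideal.Quotient.mkₐ_surjective A _) hnil,
      AlgHom.congr_fun (Algebra.FormallySmooth.comp_liftOfSurjective f mk (Ideal.Quotient.mkₐ_surjective A _) hnil)⟩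
  obtain ⟨τ, hτ⟩ := hlift (σ.toAlgHom.comp mk)
  obtain ⟨ρ, hρ⟩ := hlift (σ.symm.toAlgHom.comp mk)
  have h1 : Function.Bijective (τ.comp ρ) :=
    bijective_of_sub_mem_span t (htm t ht) _ fun b => Ideal.Quotient.eq.1 <| by
      show mk (τ (ρ b)) = mk b
      rw [hτ]
      show σ (mk (ρ b)) = _
      rw [hρ]
      exact σ.apply_symm_apply _
  have h2 : Function.Bijective (ρ.comp τ) :=
    bijective_of_sub_mem_span t (htm t ht) _ fun b => Ideal.Quotient.eq.1 <| by
      show mk (ρ (τ b)) = mk b
      rw [hρ]
      show σ.symm (mk (τ b)) = _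
      rw [hτ]
      exact σ.symm_apply_apply _
  have hbij : Function.Bijective τ := ⟨Function.Injective.of_comp (f := ρ) h2.1, Function.Surjective.of_comp (g := ρ) h1.2⟩
  exact ⟨AlgEquiv.ofBijective τ hbij, fun b => hτ b⟩

end Groth.Agent.S11280
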