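import Groth.Statements.S11281
import Groth.Agent.Lib.ArtinFun.ExalSmall

set_option autoImplicit false
universe u
open Deform

open Groth.Agent.Lib.ArtinFun

namespace Groth.Agent.S11281

/-- Let k be an algebraically closed field, Λ a local Noetherian k-algebra with residue field k, and R a
local Noetherian Λ-algebra, with local structure map and residue field k. The following are
equivalent: (a) every Λ-extension of R by its residue field k is trivial, i.e. the relative
obstruction space o(R/Λ) = Ex_Λ(R, k) vanishes; (b) for every local Artinian Λ-algebra B with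
residue field k and every t in the maximal ideal of B annihilated by the maximal ideal, every
Λ-algebra map R → B/tB lifts to a Λ-algebra map R → B (formal smoothness of R over Λ tested on small
extensions of Artinian rings). The test algebras B range over the universe of R. -/
theorem result
    {k : Type u} [Field k] [IsAlgClosed k]
    {Λ : Type u} [CommRing Λ] [Algebra k Λ] [IsLocalRing Λ] [IsNoetherianRing Λ]
    (hΛ : ∀ a : Λ, ∃ c : k, a - algebraMap k Λ c ∈ IsLocalRing.maximalIdeal Λ)
    {R : Type u} [CommRing R] [Algebra Λ R] [IsLocalRing R] [IsNoetherianRing R]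
    [IsLocalHom (algebraMap Λ R)]
    (hR : ∀ r : R, ∃ c : k, r - algebraMap Λ R (algebraMap k Λ c) ∈ IsLocalRing.maximalIdeal R) :
    (∀ X : Exal.Ext Λ R (IsLocalRing.ResidueField R), X.IsTrivial) ↔
    (∀ (B : Type u) [CommRing B] [Algebra Λ B] [IsLocalRing B] [IsArtinianRing B],
      (∀ b : B, ∃ c : k, b - algebraMap Λ B (algebraMap k Λ c) ∈ IsLocalRing.maximalIdeal B) →
      ∀ t : B, t ∈ IsLocalRing.maximalIdeal B → (∀ b ∈ IsLocalRing.maximalIdeal B, b * t = 0) →
      ∀ φ : R →ₐ[Λ] B ⧸ Ideal.span {t},
        ∃ φ' : R →ₐ[Λ] B, (Ideal.Quotient.mkₐ Λ (Ideal.span {t})).comp φ' = φ) := by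
  constructor
  · intro hX B _ _ _ _ hB t ht htm φ
    let ι : k → R := fun c => algebraMap Λ R (algebraMap k Λ c)
    have hι : ∀ c b, Ideal.Quotient.mk (Ideal.span {t}) b = φ (ι c) →
        b - algebraMap Λ B (algebraMap k Λ c) ∈ IsLocalRing.maximalIdeal B := fun c b hb => by
      have h1 : Ideal.Quotient.mk (Ideal.span {t}) b =
          Ideal.Quotient.mk (Ideal.span {t}) (algebraMap Λ B (algebraMap k Λ c)) := by
        rw [hb]; exact φ.commutes _
      exact (Ideal.span_singleton_le_iff_mem _).2 ht (Ideal.Quotient.eq.1 h1)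
    -- the map to the residue field of `B`
    have hle : Ideal.span {t} ≤ IsLocalRing.maximalIdeal B := (Ideal.span_singleton_le_iff_mem _).2 ht
    let q : R →+* B ⧸ IsLocalRing.maximalIdeal B := (Ideal.Quotient.factor hle).comp φ.toRingHom
    have hq : ∀ r b, Ideal.Quotient.mk (Ideal.span {t}) b = φ r → q r = Ideal.Quotient.mk _ b :=
      fun r b hb => by
        show Ideal.Quotient.factor hle (φ r) = _
        rw [← hb]; rfl
    have hqs : Function.Surjective q := fun x => by
      obtain ⟨b, rfl⟩ := Ideal.Quotient.mk_surjective x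
      obtain ⟨c, hc⟩ := hB b
      refine ⟨ι c, ?_⟩
      rw [hq (ι c) (algebraMap Λ B (algebraMap k Λ c)) (φ.commutes _).symm]
      exact (Ideal.Quotient.eq.2 hc).symm
    have hker : RingHom.ker q = IsLocalRing.maximalIdeal R := by
      letI := Ideal.Quotient.field (IsLocalRing.maximalIdeal B)
      exact IsLocalRing.eq_maximalIdeal (RingHom.ker_isMaximal_of_surjective q hqs)
    refine exists_lift_of_forall_isTrivial hX t htm φ (fun r b hb => ?_) (fun b => ?_)
    · rw [← hker, RingHom.mem_ker, hq r b hb, Ideal.Quotient.eq_zero_iff_mem]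
    · obtain ⟨c, hc⟩ := hB b
      refine ⟨ι c, fun b' hb' => ?_⟩
      have := sub_mem hc (hι c b' hb')
      rwa [sub_sub_sub_cancel_right] at this
  · intro H X
    refine isTrivial_of_lift (fun B _ _ _ _ q p hp t ht htm φ => H B (fun b => ?_) t ht htm φ) X
    have hker : RingHom.ker p = IsLocalRing.maximalIdeal B :=
      IsLocalRing.eq_maximalIdeal (RingHom.ker_isMaximal_of_surjective p hp)
    obtain ⟨r, hr⟩ := IsLocalRing.residue_surjective (p b)
    obtain ⟨c, hc⟩ := hR r
    refine ⟨c, ?_⟩
    rw [← hker, RingHom.mem_ker, map_sub, AlgHom.commutes, sub_eq_zero, ← hr]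
    have h2 := (IsLocalRing.residue_eq_zero_iff _).2 hc
    rw [map_sub, sub_eq_zero] at h2
    exact h2

end Groth.Agent.S11281
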