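import Groth.Statements.S11282
import Groth.Agent.Lib.CotTwo.ExalPresent


set_option autoImplicit false
universe u
open Deform

namespace Groth.Agent.S11282

open Groth.Agent.Lib.CotTwo IsLocalRing ArtFun

/-- Let k be an algebraically closed field, Λ a complete local Noetherian k-algebra with residue field
k, and R a local Noetherian Λ-algebra with local structure map, residue field k and maximal ideal m.
Then for some n the pull-back map o((R/m^(n+1))/Λ) → o(R/Λ) on obstruction spaces is onto: every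
Λ-extension 0 → k → E → R → 0 of R by its residue field is the inverse image of a Λ-extension of
R/m^(n+1) by k. Concretely, the middle ring E of every such extension contains an ideal I which
meets the kernel k only in 0 and whose image in R is exactly m^(n+1) (then E/I is an extension of
R/m^(n+1) by k whose inverse image along R → R/m^(n+1) is E). -/
theorem result
    {k : Type u} [Field k] [IsAlgClosed k]
    {Λ : Type u} [CommRing Λ] [Algebra k Λ] [IsLocalRing Λ] [IsNoetherianRing Λ]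
    [IsAdicComplete (IsLocalRing.maximalIdeal Λ) Λ]
    (hΛ : ∀ a : Λ, ∃ c : k, a - algebraMap k Λ c ∈ IsLocalRing.maximalIdeal Λ)
    {R : Type u} [CommRing R] [Algebra Λ R] [IsLocalRing R] [IsNoetherianRing R]
    [IsLocalHom (algebraMap Λ R)]
    (hR : ∀ r : R, ∃ c : k, r - algebraMap Λ R (algebraMap k Λ c) ∈ IsLocalRing.maximalIdeal R) :
    ∃ n : ℕ, ∀ X : Exal.Ext Λ R (IsLocalRing.ResidueField R),
      ∃ I : Ideal X.E, (∀ x ∈ I, X.proj x = 0 → x = 0) ∧
        Ideal.map X.proj I = IsLocalRing.maximalIdeal R ^ (n + 1) := by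
  classical
  have hres : ∀ r : R, ∃ a : Λ, r - algebraMap Λ R a ∈ maximalIdeal R := fun r => by
    obtain ⟨c, hc⟩ := hR r
    exact ⟨_, hc⟩
  haveI : IsSimpleModule R (ResidueField R) :=
    isSimpleModule_iff_isCoatom.2 (maximalIdeal.isMaximal R).out
  obtain ⟨hl, hresC, ht, happ, hι⟩ := ExalPresent.exists_completion (Λ := Λ) hres
  haveI := hl
  haveI := ht
  let C := ExalPresent.mkC (AdicCompletion (maximalIdeal R) R) hresC
  let ι : R →ₐ[Λ] C.carrier := IsScalarTower.toAlgHom Λ R (AdicCompletion (maximalIdeal R) R)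
  have happ' : ∀ (x : C.carrier) (n : ℕ), ∃ r, x - ι r ∈ maximalIdeal C.carrier ^ n := happ
  have hι' : ∀ (r : R) (n : ℕ), ι r ∈ maximalIdeal C.carrier ^ n ↔ r ∈ maximalIdeal R ^ n := hι
  obtain ⟨d, g, hg⟩ := ExalPresent.exists_surjective C
  obtain ⟨k₀, hk₀⟩ := Ideal.exists_pow_inf_eq_pow_smul (maximalIdeal (MvPowerSeries (Fin d) Λ))
    (RingHom.ker g : Submodule (MvPowerSeries (Fin d) Λ) (MvPowerSeries (Fin d) Λ))
  refine ⟨k₀ + 1, fun X => ?_⟩
  haveI := ExalComplete.isLocalRing X
  haveI := ExalComplete.isNoetherianRing X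
  refine ⟨maximalIdeal X.E ^ (k₀ + 1 + 1), fun z hz hz0 => ?_, by rw [Ideal.map_pow, ExalComplete.map_maximalIdeal]⟩
  obtain ⟨N₀, hN₀⟩ := ExalComplete.exists_pow_inf_ker X
  let N := N₀ + (k₀ + 2)
  have hN : ∀ x ∈ maximalIdeal X.E ^ N, X.proj x = 0 → x = 0 := fun x hx =>
    hN₀ x (Ideal.pow_le_pow_right (Nat.le_add_right _ _) hx)
  obtain ⟨u, hu⟩ := ExalPresent.exists_trunc_lift X hres C ι happ' hι' g (N := N) (by omega)
  let mkE := Ideal.Quotient.mk (maximalIdeal X.E ^ N)
  have hmul : ∀ a ∈ maximalIdeal X.E, ∀ z, a * X.incl z = 0 := fun a ha z => by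
    rw [X.isExtension.mul_incl, ExalComplete.smul_eq_zero ((ExalComplete.mem_maximalIdeal X a).1 ha), map_zero]
  have hincl : ∀ z, X.incl z ∈ maximalIdeal X.E := fun z => by
    rw [ExalComplete.mem_maximalIdeal, (X.isExtension.exact _).2 ⟨z, rfl⟩]
    exact zero_mem _
  have hker : ∀ p y, mkE y = u p → g p ∈ maximalIdeal C.carrier ^ N → ∃ z, mkE y = mkE (X.incl z) := fun p y hy hp => by
    have h1 := sub_mem hp (hu p y hy)
    rw [sub_sub_cancel, hι'] at h1
    obtain ⟨z, hz⟩ := ExalPresent.exists_sub_incl X y h1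
    exact ⟨z, Ideal.Quotient.eq.2 hz⟩
  have hdec : ∀ y ∈ maximalIdeal X.E, ∃ q ∈ maximalIdeal (MvPowerSeries (Fin d) Λ), ∃ z, mkE y = u q + mkE (X.incl z) := by
    intro y hy
    obtain ⟨q, hq⟩ := hg (ι (X.proj y))
    have hqm : q ∈ maximalIdeal (MvPowerSeries (Fin d) Λ) := by
      rw [← ExalPresent.ps_local C g, hq, ← pow_one (maximalIdeal C.carrier)]
      exact (hι' _ 1).2 (by rw [pow_one]; exact (ExalComplete.mem_maximalIdeal X y).1 hy)
    obtain ⟨w, hw⟩ := Ideal.Quotient.mk_surjective (u q)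
    have h1 := hu q w hw
    rw [hq, ← map_sub, ← map_sub, hι'] at h1
    obtain ⟨z, hz⟩ := ExalPresent.exists_sub_incl X (y - w) h1
    refine ⟨q, hqm, z, ?_⟩
    rw [← hw, ← map_add]
    exact Ideal.Quotient.eq.2 (by rwa [← sub_sub])
  have hpow : ∀ j, ∀ y ∈ maximalIdeal X.E ^ (j + 2), ∃ q ∈ maximalIdeal (MvPowerSeries (Fin d) Λ) ^ (j + 2), mkE y = u q := by
    have step : ∀ (j : ℕ) (a : X.E) (qa : MvPowerSeries (Fin d) Λ) (za : ResidueField R), a ∈ maximalIdeal X.E →
        qa ∈ maximalIdeal (MvPowerSeries (Fin d) Λ) ^ (j + 1) → mkE a = u qa + mkE (X.incl za) →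
        ∀ b ∈ maximalIdeal X.E, ∃ q ∈ maximalIdeal (MvPowerSeries (Fin d) Λ) ^ (j + 2), mkE (a * b) = u q := by
      intro j a qa za ha hqa hae b hb
      obtain ⟨qb, hqb, zb, hbe⟩ := hdec b hb
      refine ⟨qa * qb, ?_, ?_⟩
      · rw [pow_succ]
        exact Ideal.mul_mem_mul hqa hqb
      · have h1 : mkE (X.incl za) * mkE b = 0 := by rw [← map_mul, mul_comm, hmul b hb, map_zero]
        have h2 : mkE a * mkE (X.incl zb) = 0 := by rw [← map_mul, hmul a ha, map_zero]
        have h3 : mkE (X.incl za) * mkE (X.incl zb) = 0 := by rw [← map_mul, hmul _ (hincl za), map_zero]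
        rw [map_mul, map_mul]
        linear_combination h1 + h2 - h3 + (mkE b - mkE (X.incl zb)) * hae + u qa * hbe
    intro j
    induction j with
    | zero =>
      intro y hy
      rw [pow_two] at hy
      refine Submodule.mul_induction_on hy (fun a ha b hb => ?_) fun a b ha hb => ?_
      · obtain ⟨qa, hqa, za, hae⟩ := hdec a ha
        exact step 0 a qa za ha (by rwa [zero_add, pow_one]) hae b hb
      · obtain ⟨qa, h1, h2⟩ := ha
        obtain ⟨qb, h3, h4⟩ := hb
        exact ⟨qa + qb, add_mem h1 h3, by rw [map_add, map_add, h2, h4]⟩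
    | succ j ih =>
      intro y hy
      rw [pow_succ] at hy
      refine Submodule.mul_induction_on hy (fun a ha b hb => ?_) fun a b ha hb => ?_
      · obtain ⟨qa, hqa, hae⟩ := ih a ha
        exact step (j + 1) a qa 0 (Ideal.pow_le_self (by omega) ha) hqa (by rw [map_zero, map_zero, add_zero, hae]) b hb
      · obtain ⟨qa, h1, h2⟩ := ha
        obtain ⟨qb, h3, h4⟩ := hb
        exact ⟨qa + qb, add_mem h1 h3, by rw [map_add, map_add, h2, h4]⟩
  obtain ⟨p, hp, hpz⟩ := hpow k₀ z hz
  have hgp : g p ∈ maximalIdeal C.carrier ^ N := by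
    have h1 := hu p z hpz
    rwa [hz0, map_zero, sub_zero] at h1
  have hsurj : maximalIdeal C.carrier ≤ (maximalIdeal (MvPowerSeries (Fin d) Λ)).map g := fun c hc => by
    obtain ⟨q, rfl⟩ := hg c
    exact Ideal.mem_map_of_mem _ ((ExalPresent.ps_local C g q).1 hc)
  have h2 := Ideal.pow_right_mono hsurj N hgp
  rw [← Ideal.map_pow, Ideal.mem_map_iff_of_surjective _ hg] at h2
  obtain ⟨q, hq, hqp⟩ := h2
  have hj : p - q ∈ maximalIdeal (MvPowerSeries (Fin d) Λ) * RingHom.ker g := by
    have hle : maximalIdeal (MvPowerSeries (Fin d) Λ) ^ (k₀ + 2) • (⊤ : Submodule _ _) ⊓ RingHom.ker g ≤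
        maximalIdeal (MvPowerSeries (Fin d) Λ) * RingHom.ker g := by
      rw [hk₀ (k₀ + 2) (by omega), smul_eq_mul]
      refine Ideal.mul_mono ?_ inf_le_right
      exact Ideal.pow_le_self (by omega)
    refine hle ⟨?_, ?_⟩
    · rw [smul_eq_mul, Ideal.mul_top]
      exact sub_mem hp (Ideal.pow_le_pow_right (Nat.le_add_left _ _) hq)
    · show g (p - q) = 0
      rw [map_sub, hqp, sub_self]
  have huJ : u (p - q) = 0 := by
    refine Submodule.mul_induction_on hj (fun a ha b hb => ?_) fun a b ha hb => by rw [map_add, ha, hb, add_zero]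
    obtain ⟨wa, hwa⟩ := Ideal.Quotient.mk_surjective (u a)
    obtain ⟨wb, hwb⟩ := Ideal.Quotient.mk_surjective (u b)
    obtain ⟨zb, hzb⟩ := hker b wb hwb (by rw [RingHom.mem_ker.1 hb]; exact zero_mem _)
    have hwam : X.proj wa ∈ maximalIdeal R := by
      have h3 := Ideal.pow_le_self (show N ≠ 0 by omega) (hu a wa hwa)
      have h4 := sub_mem ((ExalPresent.ps_local C g a).2 ha) h3
      rw [sub_sub_cancel, ← pow_one (maximalIdeal C.carrier), hι', pow_one] at h4
      exact h4
    rw [map_mul, ← hwa, ← hwb, hzb, ← map_mul, hmul wa ((ExalComplete.mem_maximalIdeal X wa).2 hwam), map_zero]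
  have huq : u q = 0 := by
    have hle : (maximalIdeal (MvPowerSeries (Fin d) Λ)).map u ≤ (maximalIdeal X.E).map mkE := by
      rw [Ideal.map_le_iff_le_comap]
      intro a ha
      obtain ⟨wa, hwa⟩ := Ideal.Quotient.mk_surjective (u a)
      rw [Ideal.mem_comap, ← hwa]
      refine Ideal.mem_map_of_mem _ ((ExalComplete.mem_maximalIdeal X wa).2 ?_)
      have h3 := Ideal.pow_le_self (show N ≠ 0 by omega) (hu a wa hwa)
      have h4 := sub_mem ((ExalPresent.ps_local C g a).2 ha) h3
      rw [sub_sub_cancel, ← pow_one (maximalIdeal C.carrier), hι', pow_one] at h4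
      exact h4
    have h3 : u q ∈ ((maximalIdeal (MvPowerSeries (Fin d) Λ)).map u) ^ N := by
      rw [← Ideal.map_pow]
      exact Ideal.mem_map_of_mem _ hq
    have h4 := Ideal.pow_right_mono hle N h3
    rwa [← Ideal.map_pow, Ideal.map_quotient_self, Ideal.mem_bot] at h4
  refine hN z (Ideal.Quotient.eq_zero_iff_mem.1 (show mkE z = 0 from ?_)) hz0
  rw [hpz, ← sub_add_cancel p q, map_add, huJ, huq, add_zero]

end Groth.Agent.S11282
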