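import Groth.Statements.S11283
import Groth.Agent.Lib.CotTwo.ExalPullback


set_option autoImplicit false
universe u
open Deform

namespace Groth.Agent.S11283

open Groth.Agent.Lib.CotTwo IsLocalRing ArtFun

/-- Let k be an algebraically closed field, Λ a complete local Noetherian k-algebra with residue field
k, R a local Noetherian Λ-algebra with local structure map and residue field k, and R̂ the
completion of R at its maximal ideal. Let L be a simple R-module (a one-dimensional k-vector space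
on which R acts through its residue field) carrying a compatible R̂-module structure. Then inverse
image of Λ-extensions along R → R̂ induces a bijection o(R̂/Λ) → o(R/Λ) on classes of Λ-extensions
by L: two Λ-extensions of R̂ by L whose inverse images over R are equivalent are equivalent, and
every Λ-extension of R by L is equivalent to the inverse image of one of R̂. -/
theorem result
    {k : Type u} [Field k] [IsAlgClosed k]
    {Λ : Type u} [CommRing Λ] [Algebra k Λ] [IsLocalRing Λ] [IsNoetherianRing Λ]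
    [IsAdicComplete (IsLocalRing.maximalIdeal Λ) Λ]
    (hΛ : ∀ a : Λ, ∃ c : k, a - algebraMap k Λ c ∈ IsLocalRing.maximalIdeal Λ)
    {R : Type u} [CommRing R] [Algebra Λ R] [IsLocalRing R] [IsNoetherianRing R]
    [IsLocalHom (algebraMap Λ R)]
    (hR : ∀ r : R, ∃ c : k, r - algebraMap Λ R (algebraMap k Λ c) ∈ IsLocalRing.maximalIdeal R)
    (L : Type u) [AddCommGroup L] [Module (AdicCompletion (IsLocalRing.maximalIdeal R) R) L] [Module R L]
    [IsScalarTower R (AdicCompletion (IsLocalRing.maximalIdeal R) R) L] [IsSimpleModule R L] :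
    (∀ X X' : Exal.Ext Λ (AdicCompletion (IsLocalRing.maximalIdeal R) R) L,
        Nonempty ((X.pullback R).Equiv (X'.pullback R)) → Nonempty (X.Equiv X')) ∧
    (∀ Y : Exal.Ext Λ R L, ∃ X : Exal.Ext Λ (AdicCompletion (IsLocalRing.maximalIdeal R) R) L,
        Nonempty ((X.pullback R).Equiv Y)) := by
  classical
  have hres : ∀ r : R, ∃ a : Λ, r - algebraMap Λ R a ∈ maximalIdeal R := fun r => by
    obtain ⟨c, hc⟩ := hR r
    exact ⟨_, hc⟩
  obtain ⟨hl, hresC, ht, happ, hι⟩ := ExalPresent.exists_completion (Λ := Λ) hres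
  haveI := hl
  haveI := ht
  let B := AdicCompletion (maximalIdeal R) R
  haveI hsimp : IsSimpleModule B L :=
    { toIsSimpleOrder :=
        { exists_pair_ne := ⟨⊥, ⊤, fun h => by
            haveI := IsSimpleModule.nontrivial R L
            exact bot_ne_top (α := Submodule B L) h⟩
          eq_bot_or_eq_top := fun N => by
            rcases eq_bot_or_eq_top (N.restrictScalars R) with h | h
            · exact Or.inl (Submodule.restrictScalars_injective R _ _ (h.trans rfl))
            · exact Or.inr (Submodule.restrictScalars_injective R _ _ (h.trans rfl)) } }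
  let C := ExalPresent.mkC B hresC
  let ι : R →ₐ[Λ] C.carrier := IsScalarTower.toAlgHom Λ R B
  obtain ⟨d, g, hg⟩ := ExalPresent.exists_surjective C
  let gB : MvPowerSeries (Fin d) Λ →ₐ[Λ] B := g
  have hgB : Function.Surjective gB := hg
  refine ⟨fun X X' ⟨e⟩ => ?_, fun Y => ?_⟩
  · haveI := ExalComplete.isLocalRing X
    haveI := ExalComplete.isLocalRing X'
    haveI := ExalComplete.isNoetherianRing X
    haveI := ExalComplete.isNoetherianRing X'
    haveI := ExalComplete.isAdicComplete X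
    haveI := ExalComplete.isAdicComplete X'
    haveI := ExalComplete.isLocalRing (X.pullback R)
    haveI := ExalComplete.isLocalRing (X'.pullback R)
    obtain ⟨hlX, hrX⟩ := ExalPresent.ext_hres X hresC
    obtain ⟨hlX', hrX'⟩ := ExalPresent.ext_hres X' hresC
    haveI := hlX
    haveI := hlX'
    let SX := ExalPresent.mkC X.E hrX
    let SX' := ExalPresent.mkC X'.E hrX'
    obtain ⟨N₁, hN₁⟩ := ExalComplete.exists_pow_inf_ker X
    obtain ⟨N₂, hN₂⟩ := ExalComplete.exists_pow_inf_ker X'
    let N := N₁ + N₂ + 1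
    have hN : ∀ x ∈ maximalIdeal X.E ^ N, X.proj x = 0 → x = 0 := fun x hx => hN₁ x (Ideal.pow_le_pow_right (by omega) hx)
    have hN' : ∀ x ∈ maximalIdeal X'.E ^ N, X'.proj x = 0 → x = 0 := fun x hx => hN₂ x (Ideal.pow_le_pow_right (by omega) hx)
    have hXm : ∀ i, gB (MvPowerSeries.X i) ∈ maximalIdeal B := fun i =>
      (ExalPresent.ps_local C g _).2 ((Groth.Agent.Lib.ArtinFun.mem_maximalIdeal_ps ExalPresent.base d _).2
        ((congrArg ExalPresent.base.res (MvPowerSeries.constantCoeff_X (R := Λ) i)).trans (map_zero _)))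
    choose x hx using fun i => X.isExtension.proj_surjective (gB (MvPowerSeries.X i))
    obtain ⟨u, hu⟩ := ExalPresent.ps_lift (d := d) SX x fun i =>
      (ExalComplete.mem_maximalIdeal X _).2 (by rw [hx]; exact hXm i)
    let uX : MvPowerSeries (Fin d) Λ →ₐ[Λ] X.E := u
    have hpu : ∀ p, X.proj (uX p) = gB p := AlgHom.congr_fun (ExalPresent.ps_ext C (g₁ := X.proj.comp uX) (g₂ := gB)
      (fun i => (congrArg X.proj (hu i)).trans (hx i)))
    let ψ := ExalPullback.toTrunc (R := R) X N
    let ψ' := (ExalPullback.toTrunc (R := R) X' N).comp e.toAlgEquiv.toAlgHom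
    have hψs : Function.Surjective ψ := ExalPullback.toTrunc_surjective happ X N
    have heloc : ∀ a, a ∈ maximalIdeal (X.pullback R).E ^ N → e.toAlgEquiv a ∈ maximalIdeal (X'.pullback R).E ^ N := fun a ha => by
      have h1 := Ideal.mem_map_of_mem e.toAlgEquiv.toAlgHom ha
      rw [Ideal.map_pow] at h1
      refine Ideal.pow_right_mono (Ideal.map_le_iff_le_comap.2 fun b hb => ?_) N h1
      refine (ExalComplete.mem_maximalIdeal (X'.pullback R) _).2 ?_
      have h2 := (ExalComplete.mem_maximalIdeal (X.pullback R) b).1 hb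
      rwa [← e.proj_apply b] at h2
    have hψker : ∀ a ∈ RingHom.ker ψ, ψ' a = 0 := fun a ha =>
      ExalPullback.pow_le_ker hι X' N (heloc a (ExalPullback.ker_le_pow hι X N hN ha))
    let φ : X.E ⧸ maximalIdeal X.E ^ N →ₐ[Λ] X'.E ⧸ maximalIdeal X'.E ^ N :=
      (Ideal.Quotient.liftₐ (RingHom.ker ψ) ψ' hψker).comp
          (Ideal.quotientKerAlgEquivOfSurjective hψs).symm.toAlgHom
    have hφ : ∀ a, φ (ψ a) = ψ' a := fun a => by
      have h1 : (Ideal.quotientKerAlgEquivOfSurjective hψs).symm (ψ a) = Ideal.Quotient.mk _ a := by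
        rw [AlgEquiv.symm_apply_eq]
        rfl
      exact (congrArg (Ideal.Quotient.liftₐ (RingHom.ker ψ) ψ' hψker) h1).trans rfl
    have hlift : ∀ i, ∃ x' : X'.E, X'.proj x' = gB (MvPowerSeries.X i) ∧
        Ideal.Quotient.mk (maximalIdeal X'.E ^ N) x' = φ (Ideal.Quotient.mk _ (x i)) := by
      intro i
      obtain ⟨a, ha⟩ := hψs (Ideal.Quotient.mk _ (x i))
      let a' : (X'.pullback R).E := e.toAlgEquiv a
      have h1 : a'.1.2 = a.1.2 := e.proj_apply a
      have h2 : gB (MvPowerSeries.X i) - X'.proj a'.1.1 ∈ maximalIdeal B ^ N := by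
        have h3 : a.1.1 - x i ∈ maximalIdeal X.E ^ N := Ideal.Quotient.eq.1 ha
        rw [ExalPullback.fib_eq X' a', h1, ← ExalPullback.fib_eq X a, ← hx, ← neg_mem_iff, neg_sub, ← map_sub,
          ← ExalComplete.map_maximalIdeal X, ← Ideal.map_pow]
        exact Ideal.mem_map_of_mem _ h3
      rw [← ExalComplete.map_maximalIdeal X', ← Ideal.map_pow] at h2
      obtain ⟨t, ht, htp⟩ := (Ideal.mem_map_iff_of_surjective _ X'.isExtension.proj_surjective).1 h2
      refine ⟨a'.1.1 + t, by rw [map_add, htp, add_sub_cancel], ?_⟩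
      rw [map_add, Ideal.Quotient.eq_zero_iff_mem.2 ht, add_zero, ← ha, hφ]
      rfl
    choose x' hx' hx'' using hlift
    obtain ⟨u', hu'⟩ := ExalPresent.ps_lift (d := d) SX' x' fun i =>
      (ExalComplete.mem_maximalIdeal X' _).2 (by rw [hx']; exact hXm i)
    let uX' : MvPowerSeries (Fin d) Λ →ₐ[Λ] X'.E := u'
    have hpu' : ∀ p, X'.proj (uX' p) = gB p := AlgHom.congr_fun (ExalPresent.ps_ext C (g₁ := X'.proj.comp uX') (g₂ := gB)
      (fun i => (congrArg X'.proj (hu' i)).trans (hx' i)))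
    obtain ⟨T, τ, hτs, hτ⟩ := ExalPresent.exists_trunc (R := X'.E) hrX' (N := N) (by omega)
    let τ' : X'.E ⧸ maximalIdeal X'.E ^ N →ₐ[Λ] T.carrier := Ideal.Quotient.liftₐ _ τ fun a ha => (hτ a).2 ha
    have hτ' : Function.Injective τ' := by
      rw [injective_iff_map_eq_zero]
      intro a ha
      obtain ⟨a, rfl⟩ := Ideal.Quotient.mk_surjective a
      exact Ideal.Quotient.eq_zero_iff_mem.2 ((hτ a).1 ha)
    have hcomp : τ'.comp ((φ.comp (Ideal.Quotient.mkₐ Λ _)).comp uX) = τ'.comp ((Ideal.Quotient.mkₐ Λ _).comp uX') :=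
      ExalPresent.ps_ext T fun i => by
        show τ' (φ (Ideal.Quotient.mk _ (u (MvPowerSeries.X i)))) = τ' (Ideal.Quotient.mk _ (u' (MvPowerSeries.X i)))
        rw [hu, hu', hx'']
    let θ : MvPowerSeries (Fin d) Λ → L := fun p =>
      if h : gB p = 0 then ((X.isExtension.exact (uX p)).1 ((hpu p).trans h)).choose else 0
    have hθ : ∀ p, gB p = 0 → X.incl (θ p) = uX p := fun p hp => by
      simp only [θ, dif_pos hp]
      exact ((X.isExtension.exact (uX p)).1 ((hpu p).trans hp)).choose_spec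
    refine nonempty_equiv_of_eq_on_ker hgB X X' uX hpu uX' hpu' θ hθ fun p hp => ?_
    obtain ⟨z', hz'⟩ := (X'.isExtension.exact (uX' p)).1 ((hpu' p).trans hp)
    rw [← hz']
    refine congrArg X'.incl (ExalPresent.incl_unique X' hN' (Ideal.Quotient.eq.1 ?_))
    have h1 : φ (Ideal.Quotient.mk _ (uX p)) = Ideal.Quotient.mk _ (uX' p) := hτ' (AlgHom.congr_fun hcomp p)
    rw [← hθ p hp, ← hz'] at h1
    rw [← h1]
    have h2 := hφ ((X.pullback R).incl (θ p))
    refine (?_ : ψ' ((X.pullback R).incl (θ p)) = _).symm.trans h2.symm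
    show ExalPullback.toTrunc (R := R) X' N (e.toAlgEquiv ((X.pullback R).incl (θ p))) = _
    rw [e.apply_incl]
    rfl
  · haveI := ExalComplete.isLocalRing Y
    haveI := ExalComplete.isNoetherianRing Y
    obtain ⟨N₀, hN₀⟩ := ExalComplete.exists_pow_inf_ker Y
    let N := N₀ + 1
    have hN : ∀ x ∈ maximalIdeal Y.E ^ N, Y.proj x = 0 → x = 0 := fun x hx => hN₀ x (Ideal.pow_le_pow_right (by omega) hx)
    have happ' : ∀ (x : C.carrier) (n : ℕ), ∃ r, x - ι r ∈ maximalIdeal C.carrier ^ n := happ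
    have hι' : ∀ (r : R) (n : ℕ), ι r ∈ maximalIdeal C.carrier ^ n ↔ r ∈ maximalIdeal R ^ n := hι
    obtain ⟨uN, hu₀⟩ := ExalPresent.exists_trunc_lift Y hres C ι happ' hι' g (N := N) (by omega)
    have hu : ∀ p y, Ideal.Quotient.mk _ y = uN p → gB p - algebraMap R B (Y.proj y) ∈ maximalIdeal B ^ N := hu₀
    let mkY := Ideal.Quotient.mk (maximalIdeal Y.E ^ N)
    have hex : ∀ p, gB p = 0 → ∃ z, mkY (Y.incl z) = uN p := fun p hp => by
      obtain ⟨y, hy⟩ := Ideal.Quotient.mk_surjective (uN p)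
      have h1 := hu p y hy
      rw [hp, zero_sub, neg_mem_iff, hι] at h1
      obtain ⟨z, hz⟩ := ExalPresent.exists_sub_incl Y y h1
      exact ⟨z, ((Ideal.Quotient.eq.2 hz).symm.trans hy)⟩
    let θ : MvPowerSeries (Fin d) Λ → L := fun p => if h : gB p = 0 then (hex p h).choose else 0
    have hθ : ∀ p, gB p = 0 → mkY (Y.incl (θ p)) = uN p := fun p hp => by
      simp only [θ, dif_pos hp]
      exact (hex p hp).choose_spec
    have huniq : ∀ z z', mkY (Y.incl z) = mkY (Y.incl z') → z = z' := fun z z' h =>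
      ExalPresent.incl_unique Y hN (Ideal.Quotient.eq.1 h)
    obtain ⟨X, u, hpu, hθu⟩ := exists_ext_of_ker_hom (p := gB) hgB θ
      (fun r s hr hs => huniq _ _ (by
        rw [hθ _ (by rw [map_add, hr, hs, add_zero]), map_add, map_add, map_add, hθ r hr, hθ s hs]))
      (fun r s hs => huniq _ _ (by
        obtain ⟨y, hy⟩ := Ideal.Quotient.mk_surjective (uN r)
        rw [hθ _ (by rw [map_mul, hs, mul_zero]), map_mul, ← hθ s hs, ← hy, ← map_mul, Y.isExtension.mul_incl]
        refine congrArg (fun w => mkY (Y.incl w)) ?_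
        have h1 := ExalComplete.smul_eq_zero (Ideal.pow_le_self (show N ≠ 0 by omega) (hu r y hy)) (θ s)
        rw [sub_smul, sub_eq_zero, algebraMap_smul] at h1
        exact h1.symm))
    refine ⟨X, ?_⟩
    let S := AlgHom.equalizer (gB.comp (AlgHom.fst Λ (MvPowerSeries (Fin d) Λ) R))
      ((IsScalarTower.toAlgHom Λ R B).comp (AlgHom.snd Λ (MvPowerSeries (Fin d) Λ) R))
    have hS : ∀ s : S, gB s.1.1 = algebraMap R B s.1.2 := fun s => s.2
    let pS : S →ₐ[Λ] R := (AlgHom.snd Λ _ R).comp S.val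
    have hpS : Function.Surjective pS := fun r => by
      obtain ⟨p, hp⟩ := hgB (algebraMap R B r)
      exact ⟨⟨(p, r), hp⟩, rfl⟩
    let w₁ : S →ₐ[Λ] (X.pullback R).E :=
      ((u.comp ((AlgHom.fst Λ _ R).comp S.val)).prod pS).codRestrict (X.fiberProd R) fun s => (hpu s.1.1).trans (hS s)
    let Ψ : Y.E →ₐ[Λ] R × (Y.E ⧸ maximalIdeal Y.E ^ N) := Y.proj.prod (Ideal.Quotient.mkₐ Λ _)
    have hΨ : Function.Injective Ψ := by
      rw [injective_iff_map_eq_zero]
      intro y hy
      exact hN y (Ideal.Quotient.eq_zero_iff_mem.1 (congrArg Prod.snd hy)) (congrArg Prod.fst hy)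
    have hmem : ∀ s : S, (pS s, uN s.1.1) ∈ Ψ.range := fun s => by
      obtain ⟨y₀, hy₀⟩ := Y.isExtension.proj_surjective (pS s)
      obtain ⟨y, hy⟩ := Ideal.Quotient.mk_surjective (uN s.1.1)
      have h1 := hu _ y hy
      rw [hS, ← map_sub, hι, show s.1.2 = Y.proj y₀ from hy₀.symm, ← map_sub] at h1
      obtain ⟨z, hz⟩ := ExalPresent.exists_sub_incl Y (y₀ - y) h1
      refine ⟨y₀ - Y.incl z, Prod.ext ?_ ?_⟩
      · show Y.proj (y₀ - Y.incl z) = pS s
        rw [map_sub, hy₀, (Y.isExtension.exact _).2 ⟨z, rfl⟩, sub_zero]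
      · show mkY (y₀ - Y.incl z) = uN s.1.1
        rw [← hy]
        exact Ideal.Quotient.eq.2 (by rwa [sub_right_comm])
    let w₂ : S →ₐ[Λ] Y.E := (AlgEquiv.ofInjective Ψ hΨ).symm.toAlgHom.comp
      ((pS.prod (uN.comp ((AlgHom.fst Λ _ R).comp S.val))).codRestrict Ψ.range hmem)
    have hw₂ : ∀ s, Ψ (w₂ s) = (pS s, uN s.1.1) := fun s =>
      congrArg Subtype.val ((AlgEquiv.ofInjective Ψ hΨ).apply_symm_apply _)
    refine nonempty_equiv_of_eq_on_ker hpS (X.pullback R) Y w₁ (fun s => rfl) w₂ (fun s => congrArg Prod.fst (hw₂ s))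
      (fun s => θ s.1.1) (fun s hs => ?_) fun s hs => ?_
    · have h0 : gB s.1.1 = 0 := by rw [hS, show s.1.2 = 0 from hs, map_zero]
      refine Subtype.ext (Prod.ext ?_ ?_)
      · exact hθu _ h0
      · exact hs.symm
    · have h0 : gB s.1.1 = 0 := by rw [hS, show s.1.2 = 0 from hs, map_zero]
      refine hΨ ((hw₂ s).trans ?_).symm
      refine Prod.ext ?_ ?_
      · exact hs.trans ((Y.isExtension.exact _).2 ⟨_, rfl⟩).symm
      · exact (hθ _ h0).symm

end Groth.Agent.S11283
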