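import Groth.Statements.S11287
import Groth.Agent.Lib.CotTwo.ExalPresent


set_option autoImplicit false
universe u
open Deform

namespace Groth.Agent.S11287

open Groth.Agent.Lib.CotTwo IsLocalRing ArtFun

/-- Let k be an algebraically closed field, Λ a complete local Noetherian k-algebra with residue field
k, P = Λ[[X_1, …, X_d]] the power series ring, J an ideal of P contained in (X_1, …, X_d)^2, R =
P/J, and L a simple R-module (a copy of the residue field k). Then: (a) for every Λ-extension 0 → L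
→ E → R → 0 the quotient map P → R lifts to a Λ-algebra map u : P → E; (b) for two such extensions
E, E' with lifts u, u', the extensions are equivalent if and only if u and u' send every element of
J to the images of the same element of L (the restrictions J → L of the lifts agree); (c) every
P-linear map J → L is the restriction of a lift for some extension. Thus the classes of Λ-extensions
of R by L correspond bijectively to Hom_P(J, L), the dual of J/m_P J; this is the identification of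
the obstruction space o(R/Λ) for a complete R (the general case reduces to it by passing to the
completion). -/
theorem result
    {k : Type u} [Field k] [IsAlgClosed k]
    {Λ : Type u} [CommRing Λ] [Algebra k Λ] [IsLocalRing Λ] [IsNoetherianRing Λ]
    [IsAdicComplete (IsLocalRing.maximalIdeal Λ) Λ]
    (hΛ : ∀ a : Λ, ∃ c : k, a - algebraMap k Λ c ∈ IsLocalRing.maximalIdeal Λ)
    (d : ℕ) (J : Ideal (MvPowerSeries (Fin d) Λ))
    (hJ : J ≤ Ideal.span (Set.range (MvPowerSeries.X : Fin d → MvPowerSeries (Fin d) Λ)) ^ 2)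
    (L : Type u) [AddCommGroup L] [Module (MvPowerSeries (Fin d) Λ ⧸ J) L] [Module (MvPowerSeries (Fin d) Λ) L]
    [IsScalarTower (MvPowerSeries (Fin d) Λ) (MvPowerSeries (Fin d) Λ ⧸ J) L] [IsSimpleModule (MvPowerSeries (Fin d) Λ ⧸ J) L] :
    (∀ X : Exal.Ext Λ (MvPowerSeries (Fin d) Λ ⧸ J) L,
        ∃ u : MvPowerSeries (Fin d) Λ →ₐ[Λ] X.E, ∀ p, X.proj (u p) = Ideal.Quotient.mk J p) ∧
    (∀ (X X' : Exal.Ext Λ (MvPowerSeries (Fin d) Λ ⧸ J) L) (u : MvPowerSeries (Fin d) Λ →ₐ[Λ] X.E) (u' : MvPowerSeries (Fin d) Λ →ₐ[Λ] X'.E),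
        (∀ p, X.proj (u p) = Ideal.Quotient.mk J p) → (∀ p, X'.proj (u' p) = Ideal.Quotient.mk J p) →
        (Nonempty (X.Equiv X') ↔ ∀ j ∈ J, ∃ z : L, X.incl z = u j ∧ X'.incl z = u' j)) ∧
    (∀ δ : J →ₗ[MvPowerSeries (Fin d) Λ] L, ∃ (X : Exal.Ext Λ (MvPowerSeries (Fin d) Λ ⧸ J) L) (u : MvPowerSeries (Fin d) Λ →ₐ[Λ] X.E),
        (∀ p, X.proj (u p) = Ideal.Quotient.mk J p) ∧ ∀ j : J, X.incl (δ j) = u j) := by
  classical
  let P := MvPowerSeries (Fin d) Λ
  let p₀ : P →ₐ[Λ] P ⧸ J := Ideal.Quotient.mkₐ Λ J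
  have hXm : Ideal.span (Set.range (MvPowerSeries.X : Fin d → P)) ≤ maximalIdeal P :=
    Groth.Agent.Lib.ArtinFun.span_X_le_maximalIdeal ExalPresent.base d
  have hJm : J ≤ maximalIdeal P := (hJ.trans (Ideal.pow_le_self two_ne_zero)).trans hXm
  haveI : Nontrivial (P ⧸ J) := Ideal.Quotient.nontrivial_iff.2 fun h =>
    (maximalIdeal.isMaximal P).ne_top (top_le_iff.1 (h ▸ hJm))
  haveI : IsLocalRing (P ⧸ J) := IsLocalRing.of_surjective' (Ideal.Quotient.mk J) Ideal.Quotient.mk_surjective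
  haveI : IsLocalHom (Ideal.Quotient.mk J) := IsLocalHom.of_surjective _ Ideal.Quotient.mk_surjective
  haveI hps : IsLocalHom (algebraMap Λ P) := ⟨fun a ha => by
    have := ha.map MvPowerSeries.constantCoeff
    rwa [MvPowerSeries.algebraMap_apply, MvPowerSeries.constantCoeff_C] at this⟩
  haveI : IsLocalHom (algebraMap Λ (P ⧸ J)) := by
    rw [show algebraMap Λ (P ⧸ J) = (Ideal.Quotient.mk J).comp (algebraMap Λ P) from rfl]
    infer_instance
  haveI : IsNoetherianRing P := (Groth.Agent.Lib.ArtinFun.psCRing ExalPresent.base d).isNoetherianRing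
  haveI : IsAdicComplete (maximalIdeal P) P := (Groth.Agent.Lib.ArtinFun.psCRing ExalPresent.base d).isAdicComplete
  have hmq : (maximalIdeal P).map (Ideal.Quotient.mk J) = maximalIdeal (P ⧸ J) := by
    refine le_antisymm (Ideal.map_le_iff_le_comap.2 fun x hx hu => hx (isUnit_of_map_unit (Ideal.Quotient.mk J) x hu))
      fun x hx => ?_
    obtain ⟨y, rfl⟩ := Ideal.Quotient.mk_surjective x
    exact Ideal.mem_map_of_mem _ fun hu => hx (hu.map _)
  haveI : IsAdicComplete (maximalIdeal (P ⧸ J)) (P ⧸ J) := by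
    rw [← hmq]
    exact Groth.Agent.Lib.Adic.Complete.isAdicComplete_quotient J
  have hres : ∀ r : P ⧸ J, ∃ a : Λ, r - algebraMap Λ (P ⧸ J) a ∈ maximalIdeal (P ⧸ J) := fun r => by
    obtain ⟨f, rfl⟩ := Ideal.Quotient.mk_surjective r
    refine ⟨MvPowerSeries.constantCoeff f, ?_⟩
    rw [← hmq]
    have key : f - MvPowerSeries.C (MvPowerSeries.constantCoeff f) ∈ Ideal.span (Set.range (MvPowerSeries.X : Fin d → P)) := by
      obtain ⟨h, hh⟩ := Groth.Agent.Lib.ArtinFun.exists_eq_C_add_sum f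
      have h1 : f - MvPowerSeries.C (MvPowerSeries.constantCoeff f) = ∑ i, h i * MvPowerSeries.X i := sub_eq_iff_eq_add'.2 hh
      rw [h1]
      exact Ideal.sum_mem _ fun i _ => Ideal.mul_mem_left _ _ (Ideal.subset_span ⟨i, rfl⟩)
    refine Ideal.mem_map_of_mem (Ideal.Quotient.mk J) (hXm ?_)
    rw [MvPowerSeries.algebraMap_apply]
    exact key
  let C := ExalPresent.mkC (P ⧸ J) hres
  refine ⟨fun X => ?_, fun X X' u u' hu hu' => ⟨fun ⟨e⟩ j hj => ?_, fun h => ?_⟩, fun δ => ?_⟩
  · haveI := ExalComplete.isLocalRing X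
    haveI := ExalComplete.isNoetherianRing X
    haveI := ExalComplete.isAdicComplete X
    obtain ⟨hlX, hrX⟩ := ExalPresent.ext_hres X hres
    haveI := hlX
    choose x hx using fun i => X.isExtension.proj_surjective (p₀ (MvPowerSeries.X i))
    obtain ⟨u, hu⟩ := ExalPresent.ps_lift (d := d) (ExalPresent.mkC X.E hrX) x fun i =>
      (ExalComplete.mem_maximalIdeal X _).2 (by
        rw [hx, ← hmq]
        exact Ideal.mem_map_of_mem _ (hXm (Ideal.subset_span ⟨i, rfl⟩)))
    let uX : P →ₐ[Λ] X.E := u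
    exact ⟨uX, AlgHom.congr_fun (ExalPresent.ps_ext C (g₁ := X.proj.comp uX) (g₂ := p₀)
      (fun i => (congrArg X.proj (hu i)).trans (hx i)))⟩
  · have key : ∀ f ∈ Ideal.span (Set.range (MvPowerSeries.X : Fin d → P)) ^ 2, e.toAlgEquiv (u f) = u' f := by
      intro f hf
      rw [pow_two] at hf
      refine Submodule.mul_induction_on hf (fun a ha b hb => ?_) fun a b ha hb => by simp only [map_add, ha, hb]
      have hd : ∀ c, ∃ l, e.toAlgEquiv (u c) - u' c = X'.incl l := fun c => by
        obtain ⟨l, hl⟩ := (X'.isExtension.exact (e.toAlgEquiv (u c) - u' c)).1 (by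
          rw [map_sub, e.proj_apply, hu, hu', sub_self])
        exact ⟨l, hl.symm⟩
      obtain ⟨la, hla⟩ := hd a
      obtain ⟨lb, hlb⟩ := hd b
      have hk : ∀ (w : X'.E) (c : P) (l : L), X'.proj w = Ideal.Quotient.mk J c →
          c ∈ Ideal.span (Set.range (MvPowerSeries.X : Fin d → P)) → w * X'.incl l = 0 := fun w c l hw hc => by
        rw [X'.isExtension.mul_incl, hw, ExalComplete.smul_eq_zero (hmq.le (Ideal.mem_map_of_mem _ (hXm hc))), map_zero]
      rw [map_mul, map_mul, map_mul, ← sub_eq_zero,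
        show e.toAlgEquiv (u a) * e.toAlgEquiv (u b) - u' a * u' b =
          e.toAlgEquiv (u b) * (e.toAlgEquiv (u a) - u' a) + u' a * (e.toAlgEquiv (u b) - u' b) by ring,
        hla, hlb, hk _ b la ((e.proj_apply _).trans (hu b)) hb, hk _ a lb (hu' a) ha, add_zero]
    obtain ⟨z, hz⟩ := (X.isExtension.exact (u j)).1 ((hu j).trans (Ideal.Quotient.eq_zero_iff_mem.2 hj))
    exact ⟨z, hz, by rw [← key j (hJ hj), ← hz, e.apply_incl]⟩
  · let θ : P → L := fun f => if hf : f ∈ J then (h f hf).choose else 0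
    have hθ : ∀ f, f ∈ J → X.incl (θ f) = u f ∧ X'.incl (θ f) = u' f := fun f hf => by
      simp only [θ, dif_pos hf]
      exact (h f hf).choose_spec
    exact nonempty_equiv_of_eq_on_ker (p := p₀) Ideal.Quotient.mk_surjective X X' u hu u' hu' θ
      (fun f hf => (hθ f (Ideal.Quotient.eq_zero_iff_mem.1 hf)).1)
      (fun f hf => (hθ f (Ideal.Quotient.eq_zero_iff_mem.1 hf)).2)
  · let θ : P → L := fun f => if hf : f ∈ J then δ ⟨f, hf⟩ else 0
    have hθ : ∀ f (hf : f ∈ J), θ f = δ ⟨f, hf⟩ := fun f hf => dif_pos hf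
    obtain ⟨X, u, hu, hθu⟩ := exists_ext_of_ker_hom (p := p₀) Ideal.Quotient.mk_surjective θ
      (fun r s hr hs => by
        have hr' : r ∈ J := Ideal.Quotient.eq_zero_iff_mem.1 hr
        have hs' : s ∈ J := Ideal.Quotient.eq_zero_iff_mem.1 hs
        rw [hθ r hr', hθ s hs', hθ (r + s) (add_mem hr' hs'), ← map_add]
        rfl)
      (fun r s hs => by
        have hs' : s ∈ J := Ideal.Quotient.eq_zero_iff_mem.1 hs
        rw [hθ s hs', hθ (r * s) (J.mul_mem_left r hs')]
        show _ = (algebraMap P (P ⧸ J) r) • δ ⟨s, hs'⟩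
        rw [algebraMap_smul, ← map_smul]
        rfl)
    refine ⟨X, u, hu, fun j => ?_⟩
    rw [← hθ j.1 j.2]
    exact hθu _ (Ideal.Quotient.eq_zero_iff_mem.2 j.2)

end Groth.Agent.S11287
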