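import Groth.Statements.S11288
import Mathlib.LinearAlgebra.Dual.Lemmas
import Mathlib.RingTheory.LocalRing.ResidueField.Basic
import Mathlib.RingTheory.Ideal.Quotient.Operations
import Mathlib.Tactic.LinearCombination

set_option autoImplicit false
universe u
open Deform

namespace Groth.Agent.S11288

/-- Let K be a field, R' a local Artinian K-algebra with residue field K, and t a nonzero element of the
maximal ideal m' of R' with m' t = 0, so that R' → R = R'/(t) is a small extension of R. Then the
extension is trivial, i.e. the projection admits a section which is a K-algebra map, if and only if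
t is not in m'^2; equivalently, iff the surjection m'/m'^2 → m_R/m_R^2 induced on cotangent spaces,
whose kernel is spanned by the class of t, is not bijective. For instance K[t]/(t^(n+1)) →
K[t]/(t^n) is a non-trivial small extension for n ≥ 2. (The published example allows any local
K-algebra with residue field K; the row takes R' Artinian, the case in which the subalgebra
generated by lifts of a basis of the cotangent space maps onto R.) -/
theorem result
    {K : Type u} [Field K]
    {R' : Type u} [CommRing R'] [Algebra K R'] [IsLocalRing R'] [IsArtinianRing R']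
    (hres : ∀ a : R', ∃ c : K, a - algebraMap K R' c ∈ IsLocalRing.maximalIdeal R')
    (t : R') (ht : t ∈ IsLocalRing.maximalIdeal R') (ht0 : t ≠ 0)
    (htm : ∀ a ∈ IsLocalRing.maximalIdeal R', a * t = 0) :
    (∃ s : (R' ⧸ Ideal.span {t}) →ₐ[K] R', ∀ x, Ideal.Quotient.mk (Ideal.span {t}) (s x) = x) ↔
      t ∉ IsLocalRing.maximalIdeal R' ^ 2 := by
  classical
  have hcm : ∀ c : K, algebraMap K R' c ∈ IsLocalRing.maximalIdeal R' → c = 0 := fun c hc => by
    by_contra h
    exact (IsLocalRing.mem_maximalIdeal _).1 hc ((IsUnit.mk0 c h).map (algebraMap K R'))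
  constructor
  · rintro ⟨s, hs⟩ ht2
    let f : R' →ₐ[K] R' := s.comp (Ideal.Quotient.mkₐ K (Ideal.span {t}))
    have hf : ∀ x, ∃ c, f x = x + c * t := fun x => by
      obtain ⟨c, hc⟩ := Ideal.mem_span_singleton'.1 (Ideal.Quotient.eq.1 (hs (Ideal.Quotient.mk _ x)))
      exact ⟨c, by rw [hc]; exact (add_sub_cancel _ _).symm⟩
    have hid : ∀ x ∈ IsLocalRing.maximalIdeal R' ^ 2, f x = x := fun x hx => by
      rw [pow_two] at hx
      refine Submodule.mul_induction_on hx (fun a ha b hb => ?_) fun a b ha hb => by rw [map_add, ha, hb]
      obtain ⟨c, hc⟩ := hf a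
      obtain ⟨d, hd⟩ := hf b
      rw [map_mul, hc, hd]
      linear_combination d * htm a ha + c * htm b hb + c * d * htm t ht
    refine ht0 ?_
    have h1 := hid t ht2
    rw [show f t = s (Ideal.Quotient.mk _ t) from rfl,
      Ideal.Quotient.eq_zero_iff_mem.2 (Ideal.mem_span_singleton_self t), map_zero] at h1
    exact h1.symm
  · intro ht2
    let W : Submodule K R' :=
      Submodule.span K {1} ⊔ (IsLocalRing.maximalIdeal R' ^ 2).restrictScalars K
    have htW : t ∉ W := fun h => by
      obtain ⟨u, hu, w, hw, hsum⟩ := Submodule.mem_sup.1 h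
      obtain ⟨c, rfl⟩ := Submodule.mem_span_singleton.1 hu
      have hwm : w ∈ IsLocalRing.maximalIdeal R' := Ideal.pow_le_self two_ne_zero hw
      have hc : c = 0 := hcm c (by
        have h2 := sub_mem ht hwm
        rw [← hsum, add_sub_cancel_right, Algebra.smul_def, mul_one] at h2
        exact h2)
      rw [hc, zero_smul, zero_add] at hsum
      exact ht2 (hsum ▸ hw)
    obtain ⟨l₀, hl₀t, hl₀W⟩ := Submodule.exists_dual_map_eq_bot_of_notMem htW inferInstance
    let l : R' →ₗ[K] K := (l₀ t)⁻¹ • l₀
    have hlt : l t = 1 := by simp [l, inv_mul_cancel₀ hl₀t]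
    have hlW : ∀ w ∈ W, l w = 0 := fun w hw => by
      have : l₀ w ∈ W.map l₀ := Submodule.mem_map_of_mem hw
      rw [hl₀W, Submodule.mem_bot] at this
      simp [l, this]
    have hl1 : l 1 = 0 := hlW _ (Submodule.mem_sup_left (Submodule.mem_span_singleton_self _))
    choose c hc using hres
    have hkey : ∀ x y, l (x * y) = c x * l y + c y * l x := fun x y => by
      have h1 : (x - algebraMap K R' (c x)) * (y - algebraMap K R' (c y)) ∈
          IsLocalRing.maximalIdeal R' ^ 2 := by
        rw [pow_two]; exact Ideal.mul_mem_mul (hc x) (hc y)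
      have h2 := hlW _ (Submodule.mem_sup_right (S := Submodule.span K {1}) h1)
      have h3 : (x - algebraMap K R' (c x)) * (y - algebraMap K R' (c y)) =
          x * y - (c y) • x - (c x) • y + (c x * c y) • (1 : R') := by
        simp only [Algebra.smul_def, map_mul, mul_one]
        ring
      rw [h3, map_add, map_sub, map_sub, map_smul, map_smul, map_smul, hl1, smul_eq_mul, smul_eq_mul,
        smul_zero, add_zero] at h2
      linear_combination h2
    have hmt : ∀ x : R', x * t = c x • t := fun x => by
      rw [Algebra.smul_def, ← sub_eq_zero, ← sub_mul]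
      exact htm _ (hc x)
    let f : R' →ₐ[K] R' :=
      { toFun := fun x => x - l x • t
        map_one' := by rw [hl1, zero_smul, sub_zero]
        map_mul' := fun x y => by
          rw [hkey, add_smul, ← smul_smul, ← smul_smul, smul_comm (c x), smul_comm (c y), ← hmt, ← hmt]
          simp only [Algebra.smul_def]
          linear_combination -(algebraMap K R' (l x) * algebraMap K R' (l y)) * htm t ht
        map_zero' := by rw [map_zero, zero_smul, sub_zero]
        map_add' := fun x y => by rw [map_add, add_smul]; abel
        commutes' := fun a => by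
          rw [show l (algebraMap K R' a) = 0 by rw [Algebra.algebraMap_eq_smul_one, map_smul, hl1, smul_zero],
            zero_smul, sub_zero] }
    refine ⟨Ideal.Quotient.liftₐ (Ideal.span {t}) f fun x hx => ?_, fun z => ?_⟩
    · obtain ⟨a, rfl⟩ := Ideal.mem_span_singleton'.1 hx
      show a * t - l (a * t) • t = 0
      rw [hmt, map_smul, hlt, smul_eq_mul, mul_one, sub_self]
    · obtain ⟨x, rfl⟩ := Ideal.Quotient.mk_surjective z
      show Ideal.Quotient.mk _ (x - l x • t) = _
      rw [Ideal.Quotient.eq, sub_sub_cancel_left]
      refine neg_mem ?_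
      rw [Algebra.smul_def]
      exact Ideal.mul_mem_left _ _ (Ideal.mem_span_singleton_self t)

end Groth.Agent.S11288
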