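import Groth.Statements.S1129
import Groth.Agent.Lib.DescAlg.PbSecPF

set_option autoImplicit false
set_option backward.isDefEq.respectTransparency false
set_option backward.isDefEq.respectTransparency.types false
open CategoryTheory CategoryTheory.Limits AlgebraicGeometry Opposite
universe u
open Desc

namespace Groth.Agent.S1129

/-- Let f i : X i ⟶ S be an fpqc covering family (a family in Mathlib's fpqc precoverage: flat, and
jointly surjective from finitely many quasi-compact pieces over each affine open). For
quasi-coherent O_S-modules M and N, morphisms M ⟶ N correspond bijectively, via pullback, to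
morphisms between the associated canonical descent data relative to the family. (Descent data are
Mathlib's, for the pseudofunctor of module categories with pullback.) -/
theorem result {ι : Type u} {S : Scheme.{u}} {X : ι → Scheme.{u}}
    (f : ∀ i, X i ⟶ S) (hf : Presieve.ofArrows X f ∈ Scheme.fpqcPrecoverage S) (M N : S.Modules)
    [M.IsQuasicoherent] [N.IsQuasicoherent] :
    Function.Bijective ((Desc.modPF.{u}.toDescentData f).map : (M ⟶ N) → _) := by
  open Groth.Agent.Lib.DescAlg.PbSec in
  have hmem : Sieve.ofArrows X f ∈ Scheme.fpqcTopology S := Precoverage.generate_mem_toGrothendieck hf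
  open Groth.Agent.Lib.DescAlg.PbSec in
  refine ⟨fun φ φ' h => ?_, fun D => ?_⟩
  · exact pullback_map_injective f hmem fun i => congrFun (congrArg Pseudofunctor.DescentData.Hom.hom h) i
  · obtain ⟨φ, hφ⟩ := exists_hom f hmem (fun i => D.hom i) (fun T q i j a b ha hb => by
      have := D.comm q a b ha hb
      change (Scheme.Modules.pullback a).map (D.hom i) ≫ (Pseudofunctor.DescentData.ofObj (F := Desc.modPF.{u}) (f := f) N).hom q a b ha hb =
        (Pseudofunctor.DescentData.ofObj (F := Desc.modPF.{u}) (f := f) M).hom q a b ha hb ≫ (Scheme.Modules.pullback b).map (D.hom j) at this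
      rw [ofObj_hom, ofObj_hom] at this
      have h1 := congrArg (fun t => (tr a ha M).inv ≫ t ≫ (tr b hb N).hom) this
      simpa [conj] using h1)
    exact ⟨φ, Pseudofunctor.DescentData.hom_ext fun i => hφ i⟩

end Groth.Agent.S1129
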