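import Groth.Statements.S11290
import Groth.Agent.Lib.SmallLift.Lift


set_option autoImplicit false
universe u
open CategoryTheory CategoryTheory.Limits AlgebraicGeometry
open Deform

namespace Groth.Agent.S11290

 

/-- Let k be an algebraically closed field and X a nonsingular variety over k (integral, separated,
quasi-compact and smooth over Spec k) with H^2(X, T_X) = 0, written as the vanishing of
Ext^2(Ω_{X/k}, O_X) in the category of O_X-modules. Then X is unobstructed: for every local Artinian
k-algebra A', every t in the maximal ideal of A' annihilated by the maximal ideal (so that A' → A =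
A'/(t) is a small extension), every k-algebra augmentation e : A → k and every infinitesimal
deformation of X over A — a scheme Y flat over Spec A with a morphism i : X → Y making X the fibre
over the point Spec k → Spec A given by e — there are a scheme Y' flat over Spec A' and a morphism Y
→ Y' making Y the base change of Y' along Spec A → Spec A' (a lifting of the deformation to A'). -/
theorem result
    {k : Type u} [Field k] [IsAlgClosed k]
    (X : Scheme.{u}) [X.Over (Spec (CommRingCat.of k))] [IsIntegral X]
    [Smooth (X ↘ Spec (CommRingCat.of k))] [IsSeparated (X ↘ Spec (CommRingCat.of k))]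
    [QuasiCompact (X ↘ Spec (CommRingCat.of k))] [HasExt.{u} X.Modules]
    (h2 : Subsingleton (Abelian.Ext.{u} (Omega.sheaf (X ↘ Spec (CommRingCat.of k))) (Coh.structureModule X) 2))
    (A' : Type u) [CommRing A'] [Algebra k A'] [IsLocalRing A'] [IsArtinianRing A']
    (t : A') (ht : t ∈ IsLocalRing.maximalIdeal A') (htm : ∀ a ∈ IsLocalRing.maximalIdeal A', a * t = 0)
    (e : (A' ⧸ Ideal.span {t}) →ₐ[k] k)
    (Y : Scheme.{u}) (f : Y ⟶ Spec (CommRingCat.of (A' ⧸ Ideal.span {t}))) (i : X ⟶ Y) (hf : Flat f)
    (hY : IsPullback i (X ↘ Spec (CommRingCat.of k)) f (Spec.map (CommRingCat.ofHom e.toRingHom))) :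
    ∃ (Y' : Scheme.{u}) (f' : Y' ⟶ Spec (CommRingCat.of A')) (j : Y ⟶ Y'), Flat f' ∧
      IsPullback j f f' (Spec.map (CommRingCat.ofHom (Ideal.Quotient.mk (Ideal.span {t})))) := by
  have hkill : ∀ a : A', a * t = 0 ∨ IsUnit a := fun a => by
    by_cases ha : a ∈ IsLocalRing.maximalIdeal A'
    · exact Or.inl (htm a ha)
    · exact Or.inr (by simpa [IsLocalRing.mem_maximalIdeal] using ha)
  by_cases ht0 : t = 0
  · subst ht0
    have hbij : Function.Bijective (Ideal.Quotient.mk (Ideal.span {(0 : A')})) :=
      ⟨fun a b hab => by rw [Ideal.Quotient.eq, Ideal.span_singleton_zero, Ideal.mem_bot, sub_eq_zero] at hab; exact hab,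
        Ideal.Quotient.mk_surjective⟩
    haveI : IsIso (CommRingCat.ofHom (Ideal.Quotient.mk (Ideal.span {(0 : A')}))) :=
      (ConcreteCategory.isIso_iff_bijective _).2 hbij
    refine ⟨Y, f ≫ Spec.map (CommRingCat.ofHom (Ideal.Quotient.mk (Ideal.span {(0 : A')}))), 𝟙 Y, ?_,
      IsPullback.of_horiz_isIso ⟨Category.id_comp _⟩⟩
    haveI := hf
    infer_instance
  haveI := hf
  have hρ : Function.Surjective e.toRingHom := fun c => ⟨algebraMap k _ c, e.commutes c⟩
  have hker : RingHom.ker (e.toRingHom.comp (Ideal.Quotient.mk (Ideal.span {t}))) = IsLocalRing.maximalIdeal A' :=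
    IsLocalRing.eq_maximalIdeal (RingHom.ker_isMaximal_of_surjective _ (hρ.comp Ideal.Quotient.mk_surjective))
  have h : Groth.Agent.Lib.SmallLift.Alg.Small (Ideal.Quotient.mk (Ideal.span {t})) e.toRingHom (fun _ : Fin 1 => t) :=
    { surj := Ideal.Quotient.mk_surjective
      surj' := hρ
      ker_eq := by rw [Ideal.mk_ker, Set.range_const]
      kill := fun a ha _ => htm a (hker.le ha)
      indep := fun c hc i => by
        rw [Fin.sum_univ_one] at hc
        refine hker.ge ?_
        rcases Fin.fin_one_eq_zero i with rfl
        by_contra hu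
        exact ht0 ((IsUnit.mul_right_eq_zero (by simpa [IsLocalRing.mem_maximalIdeal] using hu)).1 hc)
      nil := by
        rw [hker, ← IsLocalRing.jacobson_eq_maximalIdeal (⊥ : Ideal A') bot_ne_top]
        exact IsArtinianRing.isNilpotent_jacobson_bot }
  exact Groth.Agent.Lib.SmallLift.exists_lift h hY h2

end Groth.Agent.S11290
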