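import Groth.Statements.S11291
import Groth.Agent.Lib.ArtinFun.ExalSmall
import Groth.Agent.Lib.ArtinFun.RegularSmooth

set_option autoImplicit false
universe u
open Deform

open Groth.Agent.Lib.ArtinFun

namespace Groth.Agent.S11291

/-- Let k be an algebraically closed field and A a local Artinian k-algebra with residue field k and
non-zero maximal ideal, i.e. A is not k. Then the obstruction space o(A) = Ex_k(A, k) is not zero:
there is a k-extension 0 → k → E → A → 0 of A by its residue field which is not trivial (admits no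
k-algebra section). Equivalently, k is the only formally smooth object among local Artinian
k-algebras with residue field k. -/
theorem result
    {k : Type u} [Field k] [IsAlgClosed k]
    {A : Type u} [CommRing A] [Algebra k A] [IsLocalRing A] [IsArtinianRing A]
    (hres : ∀ a : A, ∃ c : k, a - algebraMap k A c ∈ IsLocalRing.maximalIdeal A)
    (hA : IsLocalRing.maximalIdeal A ≠ ⊥) :
    ∃ X : Exal.Ext k A (IsLocalRing.ResidueField A), ¬ X.IsTrivial := by
  by_contra! hall
  -- the residue map
  let r₀ : A →ₐ[k] IsLocalRing.ResidueField A := IsScalarTower.toAlgHom k A (IsLocalRing.ResidueField A)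
  have hbij : Function.Bijective (Algebra.ofId k (IsLocalRing.ResidueField A)) := by
    refine ⟨(algebraMap k (IsLocalRing.ResidueField A)).injective, fun z => ?_⟩
    obtain ⟨a, rfl⟩ := IsLocalRing.residue_surjective z
    obtain ⟨c, hc⟩ := hres a
    refine ⟨c, ?_⟩
    have h2 := (IsLocalRing.residue_eq_zero_iff _).2 hc
    rw [map_sub, sub_eq_zero] at h2
    exact h2.symm
  let res : A →ₐ[k] k := (AlgEquiv.ofBijective _ hbij).symm.toAlgHom.comp r₀
  have hres0 : ∀ a, res a = 0 ↔ a ∈ IsLocalRing.maximalIdeal A :=
    res_eq_zero_iff res fun c => ⟨algebraMap k A c, res.commutes c⟩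
  let AA : ArtFun.Art k k :=
    { carrier := A
      res := res
      res_surjective := fun c => ⟨algebraMap k A c, res.commutes c⟩ }
  haveI : Module.Finite k A := finite_art AA
  haveI : Algebra.EssFiniteType k A := inferInstance
  have hsmooth : ArtFun.IsSmoothFunctor (ArtFun.hR A res) := by
    intro B C μ hμ
    refine surjective_induction (fun X Y f => Function.Surjective ((ArtFun.hR A res).map f)) ?_ ?_ ?_ μ hμ
    · intro X Y e he
      exact (bijective_map_of_isIso _ e).2
    · intro X Y p hp φ
      change ArtFun.HomSet A res X at φ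
      obtain ⟨t, hker, -, hpt, htm⟩ := IsSmallExt.exists_generator hp
      let e : ((Y : Type u) ⧸ Ideal.span {t}) ≃ₐ[k] X :=
        (Ideal.quotientEquivAlgOfEq k hker.symm).trans
          (Ideal.quotientKerAlgEquivOfSurjective (f := p.toAlgHom) hp.1)
      have he : ∀ y, e (Ideal.Quotient.mk _ y) = p y := fun y => rfl
      let φ₀ : A →ₐ[k] ((Y : Type u) ⧸ Ideal.span {t}) := e.symm.toAlgHom.comp φ.1
      have hφ₀ : ∀ r y, Ideal.Quotient.mk (Ideal.span {t}) y = φ₀ r → p y = φ.1 r := fun r y h => by
        rw [← he, h]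
        exact e.apply_symm_apply _
      have hpres : ∀ y, X.res (p y) = Y.res y := fun y => AlgHom.congr_fun p.res_comp y
      have hφres : ∀ r, X.res (φ.1 r) = res r := fun r => AlgHom.congr_fun φ.2 r
      have hY0 : ∀ y, Y.res y = 0 ↔ y ∈ IsLocalRing.maximalIdeal (Y : Type u) :=
        res_eq_zero_iff Y.res Y.res_surjective
      obtain ⟨φ', hφ'⟩ := exists_lift_of_forall_isTrivial hall t htm φ₀ (fun r y h => by
          rw [← hY0, ← hres0, ← hpres, hφ₀ r y h, hφres])
        (fun y => ⟨algebraMap k A (Y.res y), fun y' h => by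
          rw [← hY0, map_sub, ← hpres y', hφ₀ _ y' h, hφres, AlgHom.commutes]
          simp⟩)
      refine ⟨⟨φ', res_unique _ _⟩, homSet_ext' fun r => ?_⟩
      show p (φ' r) = φ.1 r
      exact hφ₀ r (φ' r) (AlgHom.congr_fun hφ' r)
    · intro X Y Z p q hp hq φ
      obtain ⟨ψ, rfl⟩ := hq φ
      obtain ⟨χ, rfl⟩ := hp ψ
      exact ⟨χ, (map_map p q χ).symm⟩
  have hreg := (isRegularLocalRing_iff_isSmoothFunctor A res).2 hsmooth
  apply hA
  have h1 := IsRegularLocalRing.spanFinrank_maximalIdeal (R := A)
  rw [show ringKrullDim A = 0 from (ringKrullDimZero_iff_ringKrullDim_eq_zero.1 inferInstance),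
    ← WithBot.coe_zero] at h1
  refine Submodule.eq_bot_of_le_smul_of_le_jacobson_bot (IsLocalRing.maximalIdeal A) _
    (IsNoetherian.noetherian _) ?_ (IsLocalRing.maximalIdeal_le_jacobson ⊥)
  have h2 : (IsLocalRing.maximalIdeal A).spanFinrank = 0 := by exact_mod_cast h1
  rw [Submodule.spanFinrank_eq_zero_iff_eq_bot (IsNoetherian.noetherian _)] at h2
  rw [h2]
  exact bot_le

end Groth.Agent.S11291
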