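import Groth.Statements.S11294


set_option autoImplicit false
universe u
open Deform

namespace Groth.Agent.S11294

open TrivSqZeroExt in
/-- Let P be a commutative ring, J an ideal, and P[ε] the ring of dual numbers over P. First-order
embedded deformations of Spec(P/J) in Spec P, namely ideals J' of P[ε] lifting J (the image of J'
under ε ↦ 0 is J) with P[ε]/J' flat over the dual numbers — flatness being replaced by the condition
that every element of P[ε]/J' annihilated by ε is a multiple of ε (equivalent to flatness over k[ε]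
when P is an algebra over a field k) — are in canonical bijection with Hom_P(J, P/J) =
Hom_{P/J}(J/J^2, P/J), the normal module: to φ corresponds the ideal of all a + εb with a in J and b
reducing to φ(a) modulo J. The first clause says this rule defines exactly one ideal for each φ; the
second says an ideal J' is a flat lift of J precisely when its membership is given by this rule for
some φ. (The published statement is the global one, identifying first-order deformations of a closed
subscheme X of an algebraic scheme Y with H^0(X, N_{X/Y}); this row is the affine computation in its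
proof, valid for every commutative ring P.) -/
theorem result (P : Type u) [CommRing P] (J : Ideal P) :
    (∀ φ : J →ₗ[P] (P ⧸ J), ∃! J' : Ideal (DualNumber P),
        ∀ a b : P, (inl a + inr b : DualNumber P) ∈ J' ↔ ∃ h : a ∈ J, Ideal.Quotient.mk J b = φ ⟨a, h⟩) ∧
    (∀ J' : Ideal (DualNumber P),
      (J'.map (TrivSqZeroExt.fstHom P P P) = J ∧
        ∀ m : DualNumber P ⧸ J', Ideal.Quotient.mk J' DualNumber.eps * m = 0 →
          ∃ m' : DualNumber P ⧸ J', m = Ideal.Quotient.mk J' DualNumber.eps * m') ↔
      ∃ φ : J →ₗ[P] (P ⧸ J), ∀ a b : P,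
        (inl a + inr b : DualNumber P) ∈ J' ↔ ∃ h : a ∈ J, Ideal.Quotient.mk J b = φ ⟨a, h⟩) := by
  have decomp : ∀ x : DualNumber P, (inl x.fst + inr x.snd : DualNumber P) = x :=
    fun x => inl_fst_add_inr_snd_eq x
  refine ⟨fun φ => ?_, fun J' => ⟨?_, ?_⟩⟩
  · refine ⟨{ carrier := {x | ∃ h : x.fst ∈ J, Ideal.Quotient.mk J x.snd = φ ⟨x.fst, h⟩}
              zero_mem' := ⟨by simp, (congrArg (Ideal.Quotient.mk J) (snd_zero (R := P) (M := P))).trans
                ((map_zero _).trans (φ.map_zero.symm.trans
                  (congrArg φ (Subtype.ext (fst_zero (R := P) (M := P)).symm))))⟩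
              add_mem' := ?_, smul_mem' := ?_ }, fun a b => ?_, fun J' hJ' => ?_⟩
    · rintro x y ⟨hx, ex⟩ ⟨hy, ey⟩
      refine ⟨by rw [fst_add]; exact J.add_mem hx hy, ?_⟩
      rw [snd_add, map_add, ex, ey, ← map_add]
      exact congrArg φ (Subtype.ext (fst_add (R := P) (M := P) x y).symm)
    · rintro c x ⟨hx, ex⟩
      refine ⟨by rw [smul_eq_mul, fst_mul]; exact J.mul_mem_left _ hx, ?_⟩
      have h0 : Ideal.Quotient.mk J (c.snd * x.fst) = 0 :=
        Ideal.Quotient.eq_zero_iff_mem.2 (J.mul_mem_left _ hx)
      show Ideal.Quotient.mk J (c * x).snd = φ ⟨(c * x).fst, _⟩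
      rw [DualNumber.snd_mul, map_add, h0, add_zero, map_mul, ex]
      refine (Eq.trans ?_ (φ.map_smul c.fst ⟨x.fst, hx⟩).symm).trans
        (congrArg φ (Subtype.ext (fst_mul c x).symm))
      rfl
    · show (∃ _, _) ↔ _
      constructor <;> rintro ⟨h, e⟩ <;>
        exact ⟨by simpa using h, by simpa using e⟩
    · refine SetLike.ext fun x => ?_
      rw [← decomp x, hJ']
      constructor <;> rintro ⟨h, e⟩ <;>
        exact ⟨by simpa using h, by simpa using e⟩
  · rintro ⟨hmap, hflat⟩
    have hfst : ∀ x ∈ J', x.fst ∈ J := fun x hx => hmap ▸ Ideal.mem_map_of_mem (fstHom P P P) hx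
    have hex : ∀ a : J, ∃ b : P, (inl (a : P) + inr b : DualNumber P) ∈ J' := fun a => by
      have h : (a : P) ∈ J'.map (fstHom P P P) := by rw [hmap]; exact a.2
      obtain ⟨x, hx, hxa⟩ := (Ideal.mem_map_iff_of_surjective (fstHom P P P)
        (fun r => ⟨inl r, rfl⟩)).1 h
      refine ⟨x.snd, ?_⟩
      rw [← hxa]
      exact (decomp x).symm ▸ hx
    have hinr : ∀ a : P, (inr a : DualNumber P) ∈ J' ↔ a ∈ J := fun a => by
      constructor
      · intro ha
        obtain ⟨m', hm'⟩ := hflat (Ideal.Quotient.mk J' (inl a)) (by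
          rw [← map_mul, Ideal.Quotient.eq_zero_iff_mem]
          have : (DualNumber.eps * inl a : DualNumber P) = inr a := by
            ext <;> simp [DualNumber.snd_mul]
          rwa [this])
        obtain ⟨x', rfl⟩ := Ideal.Quotient.mk_surjective m'
        rw [← map_mul, Ideal.Quotient.eq] at hm'
        simpa [DualNumber.snd_mul] using hfst _ hm'
      · intro ha
        obtain ⟨b, hb⟩ := hex ⟨a, ha⟩
        have : (DualNumber.eps * (inl a + inr b) : DualNumber P) = inr a := by
          ext <;> simp [DualNumber.snd_mul]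
        rw [← this]
        exact J'.mul_mem_left _ hb
    choose β hβ using hex
    have huniq : ∀ (a : J) (b : P), (inl (a : P) + inr b : DualNumber P) ∈ J' →
        Ideal.Quotient.mk J b = Ideal.Quotient.mk J (β a) := fun a b hb => by
      rw [Ideal.Quotient.eq, ← hinr]
      have h := J'.sub_mem hb (hβ a)
      have e : (inl (a : P) + inr b - (inl (a : P) + inr (β a)) : DualNumber P) = inr (b - β a) := by
        ext <;> simp
      rwa [e] at h
    refine ⟨{ toFun := fun a => Ideal.Quotient.mk J (β a), map_add' := ?_, map_smul' := ?_ },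
      fun a b => ⟨fun h => ⟨by simpa using hfst _ h, huniq ⟨a, _⟩ b h⟩, ?_⟩⟩
    · intro a a'
      rw [← map_add]
      refine (huniq (a + a') _ ?_).symm
      convert J'.add_mem (hβ a) (hβ a') using 1
      ext <;> simp
    · intro r a
      show _ = Ideal.Quotient.mk J (r * β a)
      refine (huniq (r • a) _ ?_).symm
      convert J'.mul_mem_left (inl r) (hβ a) using 1
      ext <;> simp
    · rintro ⟨ha, hb⟩
      have hd : (inr (b - β ⟨a, ha⟩) : DualNumber P) ∈ J' :=
        (hinr _).2 (Ideal.Quotient.eq.1 hb)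
      convert J'.add_mem (hβ ⟨a, ha⟩) hd using 1
      ext <;> simp
  · rintro ⟨φ, hφ⟩
    have hmem : ∀ x : DualNumber P, x ∈ J' ↔
        ∃ h : x.fst ∈ J, Ideal.Quotient.mk J x.snd = φ ⟨x.fst, h⟩ := fun x => by
      conv_lhs => rw [← decomp x]
      exact hφ _ _
    refine ⟨le_antisymm (Ideal.map_le_iff_le_comap.2 fun x hx => ((hmem x).1 hx).1) ?_, ?_⟩
    · intro a ha
      obtain ⟨b, hb⟩ := Ideal.Quotient.mk_surjective (φ ⟨a, ha⟩)
      have := Ideal.mem_map_of_mem (fstHom P P P) ((hφ a b).2 ⟨ha, hb⟩)
      simpa using this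
    · intro m hm
      obtain ⟨x, rfl⟩ := Ideal.Quotient.mk_surjective m
      rw [← map_mul, Ideal.Quotient.eq_zero_iff_mem] at hm
      have e : (DualNumber.eps * x : DualNumber P) = inl 0 + inr x.fst := by
        ext <;> simp [DualNumber.snd_mul]
      rw [e] at hm
      obtain ⟨h0, hx⟩ := (hφ 0 x.fst).1 hm
      have hxJ : x.fst ∈ J := Ideal.Quotient.eq_zero_iff_mem.1 (hx.trans φ.map_zero)
      obtain ⟨b, hb⟩ := Ideal.Quotient.mk_surjective (φ ⟨x.fst, hxJ⟩)
      refine ⟨Ideal.Quotient.mk J' (inl (x.snd - b)), ?_⟩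
      rw [← map_mul, Ideal.Quotient.eq]
      have e' : (x - DualNumber.eps * inl (x.snd - b) : DualNumber P) = inl x.fst + inr b := by
        ext <;> simp [DualNumber.snd_mul]
      rw [e']
      exact (hφ _ _).2 ⟨hxJ, hb⟩

end Groth.Agent.S11294
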