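import Groth.Statements.S11297
import Groth.Agent.Lib.GrassRep.Plucker
import Groth.Agent.Lib.GrassRep.Comap

set_option autoImplicit false
universe u
open CategoryTheory CategoryTheory.Limits AlgebraicGeometry
open Grass

namespace Groth.Agent.S11297

/-- Let k be an algebraically closed field, M a k-vector space of finite dimension N and 1 ≤ n ≤ N. The
Grassmannian of rank-n locally free quotients of M ⊗ O is a projective k-scheme: its Plücker
morphism to the projective space of the n-th exterior power, of dimension C(N, n) - 1, is a closed
embedding. Stated here for any k-scheme X that represents the Grassmann functor on affine k-schemes,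
i.e. comes with bijections, compatible with base change along k-algebra maps A → B, between the
k-morphisms Spec A → X and the A-submodules of A ⊗_k M whose quotient is finite projective of
constant rank n (Mathlib's Grassmannian functor): there is a closed immersion of X over k into
projective space of dimension C(N, n) - 1 over k. (The existence of the representing scheme and its
smoothness of relative dimension n(N - n) with a cover by affine spaces are not restated here; only
projectivity is, and the closed immersion is asserted to exist rather than named as the Plücker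
morphism. The published statement has the universal property on all k-schemes; this row assumes it
on affine ones, which determines X.) -/
theorem result (k : Type u) [Field k] [IsAlgClosed k]
    (M : Type u) [AddCommGroup M] [Module k M] [FiniteDimensional k M] (N n : ℕ)
    (hN : Module.finrank k M = N) (h1 : 1 ≤ n) (hn : n ≤ N) (X : Over (Spec (CommRingCat.of k)))
    (e : ∀ A : CommAlgCat.{u} k,
      (Over.mk (Spec.map (CommRingCat.ofHom (algebraMap k A))) ⟶ X) ≃
        (Module.Grassmannian.functor (R := k) (M := M) n).obj A)
    (he : ∀ (A B : CommAlgCat.{u} k) (φ : A ⟶ B)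
      (g : Over.mk (Spec.map (CommRingCat.ofHom (algebraMap k A))) ⟶ X)
      (g' : Over.mk (Spec.map (CommRingCat.ofHom (algebraMap k B))) ⟶ X),
      g'.left = Spec.map (CommRingCat.ofHom φ.hom.toRingHom) ≫ g.left →
        e B g' = (Module.Grassmannian.functor (R := k) (M := M) n).map φ (e A g)) :
    ∃ c : X.left ⟶ CohB1.ProjSpaceOver (N.choose n - 1) (Spec (CommRingCat.of k)),
      IsClosedImmersion c ∧
        c ≫ CohB1.ProjSpaceOver.toBase (N.choose n - 1) (Spec (CommRingCat.of k)) = X.hom := by
  let b : M ≃ₗ[k] (Fin N → k) := LinearEquiv.ofFinrankEq _ _ (by rw [hN, Module.finrank_fin_fun])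
  let v : (Fin N → k) →ₗ[k] M := b.symm.toLinearMap
  have hv : Function.Surjective v := b.symm.surjective
  have hw : Function.Surjective b.toLinearMap := b.surjective
  have hinv : ∀ (A : CommAlgCat.{u} k) (P : Groth.Agent.Lib.GrassRep.Gr k (Fin N → k) n (A : Type u)),
      Groth.Agent.Lib.GrassRep.comapPt v hv (Groth.Agent.Lib.GrassRep.comapPt b.toLinearMap hw P) = P := by
    intro A P
    refine Module.Grassmannian.ext ?_
    rw [Groth.Agent.Lib.GrassRep.comapPt_toSubmodule, Groth.Agent.Lib.GrassRep.comapPt_toSubmodule,
      ← Submodule.comap_comp, ← LinearMap.baseChange_comp]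
    rw [show b.toLinearMap ∘ₗ v = LinearMap.id from LinearMap.ext b.apply_symm_apply, LinearMap.baseChange_id,
      Submodule.comap_id]
  have hbij : ∀ A : CommAlgCat.{u} k,
      Function.Bijective (Groth.Agent.Lib.GrassRep.comapPt (A := (A : Type u)) (k := n) v hv) := fun A =>
    ⟨Groth.Agent.Lib.GrassRep.comapPt_injective v hv, fun P => ⟨_, hinv A P⟩⟩
  exact Groth.Agent.Lib.GrassRep.exists_plucker (R := k) hn X
    (fun A => (e A).trans (Equiv.ofBijective _ (hbij A))) (fun A B φ g g' h => by
      show Groth.Agent.Lib.GrassRep.comapPt v hv (e B g') = _
      rw [he A B φ g g' h]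
      exact (Groth.Agent.Lib.GrassRep.comapPt_map v hv φ.hom _).symm)

end Groth.Agent.S11297
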