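import Groth.Statements.S11298


set_option autoImplicit false
universe u v
open LocCoh

open Pointwise

namespace Groth.Agent.S11298

/-- Let X = Spec B be an affine Noetherian scheme, Z = V(I) a closed subscheme and G a coherent sheaf,
i.e. a finitely generated B-module M, with dual G^v = Hom_B(M, B). If depth_Z(O_X) ≥ 2 then
depth_Z(G^v) ≥ 2. Here the depth along I of a module N is the supremum of the lengths of N-regular
sequences contained in I (and is infinite when I N = N). (The published statement adds that sections
of the dual over X and over X minus Z agree; this row omits that clause.) -/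
theorem result (B : Type u) [CommRing B] [IsNoetherianRing B]
    (I : Ideal B) (M : Type v) [AddCommGroup M] [Module B M] [Module.Finite B M]
    (h : 2 ≤ LocCoh.idealDepth I B) : 2 ≤ LocCoh.idealDepth I (M →ₗ[B] B) := by
  classical
  unfold LocCoh.idealDepth at h ⊢
  by_cases hN : I • (⊤ : Submodule B (M →ₗ[B] B)) = ⊤
  · rw [if_pos hN]; exact le_top
  · rw [if_neg hN]
    have hB : ¬ I • (⊤ : Submodule B B) = ⊤ := fun h1 => hN (by
      have hI : I = ⊤ := by rw [← h1, smul_eq_mul, ← Ideal.one_eq_top, mul_one]
      rw [hI, Submodule.top_smul])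
    rw [if_neg hB] at h
    obtain ⟨rs, hrs, hlen⟩ : ∃ rs : List B, (RingTheory.Sequence.IsWeaklyRegular B rs ∧ ∀ r ∈ rs, r ∈ I) ∧ 2 ≤ rs.length := by
      by_contra hne
      push_neg at hne
      have h3 : (⨆ (rs : List B) (_ : RingTheory.Sequence.IsWeaklyRegular B rs ∧ ∀ r ∈ rs, r ∈ I),
          (rs.length : ℕ∞)) ≤ 1 := iSup₂_le fun rs hrs => by
        have := hne rs hrs
        exact_mod_cast (show rs.length ≤ 1 by omega)
      exact absurd (h.trans h3) (by decide)
    match rs, hlen, hrs with
    | x :: y :: tl, _, ⟨hreg, hmem⟩ =>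
    obtain ⟨hx, hy⟩ := (RingTheory.Sequence.isWeaklyRegular_cons_iff B x (y :: tl)).mp hreg
    obtain ⟨hy, -⟩ := (RingTheory.Sequence.isWeaklyRegular_cons_iff _ y tl).mp hy
    have hxN : IsSMulRegular (M →ₗ[B] B) x := fun f g hfg =>
      LinearMap.ext fun m => hx (LinearMap.congr_fun hfg m)
    have hyN : IsSMulRegular (QuotSMulTop x (M →ₗ[B] B)) y := by
      refine isSMulRegular_iff_right_eq_zero_of_smul.mpr fun q hq => ?_
      obtain ⟨f, rfl⟩ := Submodule.mkQ_surjective _ q
      rw [← map_smul, Submodule.mkQ_apply, Submodule.Quotient.mk_eq_zero,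
        Submodule.mem_smul_pointwise_iff_exists] at hq
      obtain ⟨g, -, hg⟩ := hq
      have hf : ∀ m, ∃ c, x * c = f m := fun m => by
        have : Submodule.Quotient.mk (p := x • (⊤ : Submodule B B)) (f m) = 0 := by
          refine isSMulRegular_iff_right_eq_zero_of_smul.mp hy _ ?_
          rw [← Submodule.Quotient.mk_smul, Submodule.Quotient.mk_eq_zero,
            Submodule.mem_smul_pointwise_iff_exists]
          exact ⟨g m, trivial, LinearMap.congr_fun hg m⟩
        rw [Submodule.Quotient.mk_eq_zero, Submodule.mem_smul_pointwise_iff_exists] at this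
        obtain ⟨c, -, hc⟩ := this
        exact ⟨c, hc⟩
      choose c hc using hf
      rw [Submodule.mkQ_apply, Submodule.Quotient.mk_eq_zero, Submodule.mem_smul_pointwise_iff_exists]
      refine ⟨{ toFun := c, map_add' := fun a b => hx ?_, map_smul' := fun r a => hx ?_ }, trivial, ?_⟩
      · simp [smul_eq_mul, mul_add, hc]
      · simp [smul_eq_mul, hc, mul_left_comm x r]
      · ext m; simp [hc]
    refine le_iSup₂_of_le [x, y] ⟨?_, ?_⟩ le_rfl
    · simp [RingTheory.Sequence.isWeaklyRegular_cons_iff, hxN, hyN]
    · intro r hr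
      simp at hr
      rcases hr with rfl | rfl <;> exact hmem _ (by simp)

end Groth.Agent.S11298
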