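import Groth.Statements.S11299
import Mathlib.Algebra.Module.Projective

set_option autoImplicit false
universe u
open CAlg

namespace Groth.Agent.S11299

section
variable {P : Type u} [CommRing P] {B : Type u} [AddCommGroup B] [Module P B]
  {F F' : Type u} [AddCommGroup F] [Module P F] [AddCommGroup F'] [Module P F']
  (j : F →ₗ[P] P) (j' : F' →ₗ[P] P)

/-- The trivial relations inside the relation module. -/
def triv : Submodule P ↥(LinearMap.ker j) :=
  Submodule.comap (LinearMap.ker j).subtype
    (Submodule.span P {y : F | ∃ u v : F, y = j u • v - j v • u})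

variable (α : F →ₗ[P] F') (hα : j'.comp α = j)

/-- The map of relation modules induced by a map of presentations. -/
def relMap : ↥(LinearMap.ker j) →ₗ[P] ↥(LinearMap.ker j') :=
  (α.comp (LinearMap.ker j).subtype).codRestrict _ (fun x => by
    have h := LinearMap.congr_fun hα x.1
    simp only [LinearMap.comp_apply] at h
    simp only [LinearMap.mem_ker, LinearMap.comp_apply, Submodule.coe_subtype, h]
    exact x.2)

lemma relMap_triv (x : ↥(LinearMap.ker j)) (hx : x ∈ triv j) : relMap j j' α hα x ∈ triv j' := by
  have h : α x.1 ∈ Submodule.map α (Submodule.span P {y : F | ∃ u v : F, y = j u • v - j v • u}) :=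
    Submodule.mem_map_of_mem hx
  rw [Submodule.map_span] at h
  show α x.1 ∈ Submodule.span P _
  refine Submodule.span_le.mpr ?_ h
  rintro _ ⟨_, ⟨u, v, rfl⟩, rfl⟩
  refine Submodule.subset_span ⟨α u, α v, ?_⟩
  rw [map_sub, map_smul, map_smul, ← LinearMap.congr_fun hα u, ← LinearMap.congr_fun hα v]
  rfl

/-- The map induced on homomorphisms modulo restrictions. -/
noncomputable def indMap :
    ((↥(LinearMap.ker j') →ₗ[P] B) ⧸ LinearMap.range (LinearMap.lcomp P B (LinearMap.ker j').subtype))
      →ₗ[P]
    ((↥(LinearMap.ker j) →ₗ[P] B) ⧸ LinearMap.range (LinearMap.lcomp P B (LinearMap.ker j).subtype)) :=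
  Submodule.mapQ _ _ (LinearMap.lcomp P B (relMap j j' α hα)) (by
    rintro _ ⟨φ, rfl⟩
    exact ⟨φ.comp α, rfl⟩)

lemma indMap_indMap (β : F' →ₗ[P] F) (hβ : j.comp β = j')
    (q : (↥(LinearMap.ker j) →ₗ[P] B) ⧸ LinearMap.range (LinearMap.lcomp P B (LinearMap.ker j).subtype)) :
    indMap j j' α hα (indMap j' j β hβ q) = q := by
  induction q using Submodule.Quotient.induction_on with
  | H ψ =>
    simp only [indMap, Submodule.mapQ_apply]
    rw [Submodule.Quotient.eq]
    let δ : F →ₗ[P] ↥(LinearMap.ker j) :=
      (β.comp α - LinearMap.id).codRestrict _ (fun x => by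
        simp only [LinearMap.mem_ker, LinearMap.sub_apply, LinearMap.comp_apply, LinearMap.id_apply,
          map_sub]
        rw [show j (β (α x)) = j' (α x) from LinearMap.congr_fun hβ _,
          show j' (α x) = j x from LinearMap.congr_fun hα _, sub_self])
    refine ⟨ψ.comp δ, ?_⟩
    ext x
    show ψ (δ x.1) = ψ (relMap j' j β hβ (relMap j j' α hα x)) - ψ x
    rw [← map_sub]
    congr 1

lemma indMap_mem (B' : Submodule P ((↥(LinearMap.ker j') →ₗ[P] B) ⧸
      LinearMap.range (LinearMap.lcomp P B (LinearMap.ker j').subtype)))
    (hB : B' = Submodule.map (LinearMap.range (LinearMap.lcomp P B (LinearMap.ker j').subtype)).mkQ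
      (LinearMap.ker (LinearMap.lcomp P B (triv j').subtype))) (q) (hq : q ∈ B') :
    indMap j j' α hα q ∈ Submodule.map
      (LinearMap.range (LinearMap.lcomp P B (LinearMap.ker j).subtype)).mkQ
      (LinearMap.ker (LinearMap.lcomp P B (triv j).subtype)) := by
  subst hB
  obtain ⟨ψ, hψ, rfl⟩ := hq
  refine ⟨LinearMap.lcomp P B (relMap j j' α hα) ψ, ?_, rfl⟩
  rw [SetLike.mem_coe, LinearMap.mem_ker] at hψ ⊢
  ext x
  exact LinearMap.congr_fun hψ ⟨_, relMap_triv j j' α hα x.1 x.2⟩

end


/-- The second cotangent module does not depend on the presentation: let P be a commutative ring, J an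
ideal and B = P/J. For a presentation of J, i.e. a finitely generated free P-module F with a
P-linear map j : F → P with image J, let R = ker j be the relation module and R^tr ⊆ R the span of
the trivial relations j(u) • v - j(v) • u; the module T^2 of the presentation is the quotient of
Hom_B(R/R^tr, B), realised as the P-linear maps R → P/J vanishing on R^tr, by the restrictions to R
of the P-linear maps F → P/J (here: the image of that submodule in the quotient of Hom_P(R, P/J) by
the restrictions). Then for two presentations (F, j) and (F', j') of the same ideal J the two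
modules T^2 are isomorphic as P-modules (existence of an isomorphism; the comparison maps depend on
expressing one system of generators through the other). (The published statement takes B essentially
of finite type over a field and P smooth; this row allows any commutative ring P and ideal J.) -/
theorem result (P : Type u) [CommRing P] (J : Ideal P)
    (F : Type u) [AddCommGroup F] [Module P F] [Module.Free P F] [Module.Finite P F]
    (F' : Type u) [AddCommGroup F'] [Module P F'] [Module.Free P F'] [Module.Finite P F']
    (j : F →ₗ[P] P) (j' : F' →ₗ[P] P) (hj : LinearMap.range j = J) (hj' : LinearMap.range j' = J) :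
    Nonempty (↥(Submodule.map
          (LinearMap.range (LinearMap.lcomp P (P ⧸ J) (LinearMap.ker j).subtype)).mkQ
          (LinearMap.ker (LinearMap.lcomp P (P ⧸ J)
            (Submodule.comap (LinearMap.ker j).subtype
              (Submodule.span P {y : F | ∃ u v : F, y = j u • v - j v • u})).subtype))) ≃ₗ[P]
      ↥(Submodule.map
          (LinearMap.range (LinearMap.lcomp P (P ⧸ J) (LinearMap.ker j').subtype)).mkQ
          (LinearMap.ker (LinearMap.lcomp P (P ⧸ J)
            (Submodule.comap (LinearMap.ker j').subtype
              (Submodule.span P {y : F' | ∃ u v : F', y = j' u • v - j' v • u})).subtype)))) := by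
  have lift : ∀ {G G' : Type u} [AddCommGroup G] [Module P G] [Module.Free P G] [AddCommGroup G']
      [Module P G'] (f : G →ₗ[P] P) (f' : G' →ₗ[P] P), LinearMap.range f ≤ LinearMap.range f' →
      ∃ α : G →ₗ[P] G', f'.comp α = f := by
    intro G G' _ _ _ _ _ f f' hle
    obtain ⟨α, hα⟩ := Module.projective_lifting_property f'.rangeRestrict
      ((Submodule.inclusion hle).comp f.rangeRestrict) f'.surjective_rangeRestrict
    exact ⟨α, LinearMap.ext fun x => congrArg Subtype.val (LinearMap.congr_fun hα x)⟩
  obtain ⟨α, hα⟩ := lift j j' (by rw [hj, hj'])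
  obtain ⟨β, hβ⟩ := lift j' j (by rw [hj, hj'])
  refine ⟨LinearEquiv.ofLinearMap
    (((indMap j' j β hβ).comp (Submodule.subtype _)).codRestrict _
      (fun q => indMap_mem j' j β hβ _ rfl _ q.2))
    (((indMap j j' α hα).comp (Submodule.subtype _)).codRestrict _
      (fun q => indMap_mem j j' α hα _ rfl _ q.2)) ?_ ?_⟩
  · ext q
    exact indMap_indMap j' j β hβ α hα q.1
  · ext q
    exact indMap_indMap j j' α hα β hβ q.1


end Groth.Agent.S11299
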