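import Groth.Statements.S11301
import Groth.Agent.Lib.ProjKoszul.Reg2
import Groth.Agent.Lib.CohBasics.Closure

set_option autoImplicit false
universe u
open CategoryTheory CategoryTheory.Limits AlgebraicGeometry
open Variety

namespace Groth.Agent.S11301
open AlgebraicGeometry in
private theorem regOf (k : Type u) [Field k] (n : ℕ) {F : (CohB1.ProjSpace n k).Modules} (hF : Coh.IsCoh F) {m : ℤ}
    (h : Curv2.IsMRegular k n F m) : Lib.ProjKoszul.Regularity.Reg F m := fun i hi => by
  by_cases hin : i ≤ n
  · exact h i hi hin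
  · have := (Lib.ProjCoh.Coherent.isCoh_tensorMod hF
      (Lib.ProjCoh.Coherent.isCoh_tw (n := n) (R := k) (m - i))).1
    exact Lib.ProjCoh.Twist.subsingleton_HH_of_lt _ (by omega)
open CategoryTheory CategoryTheory.Limits AlgebraicGeometry

/-- m-regularity via linear resolutions: in one-step form: let k be an algebraically closed field and F
a coherent module on P^n_k. Then F is m-regular if and only if there are b ≥ 0 and an epimorphism
O(-m)^b → F (from the direct sum of b copies of O(-m)) whose kernel is (m+1)-regular. (The published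
statement is the equivalent characterisation by a resolution ... → O(-m-2)^{b_2} → O(-m-1)^{b_1} →
O(-m)^{b_0} → F → 0; it follows from this one-step form by induction, and conversely.) -/
theorem result (k : Type u) [Field k] [IsAlgClosed k] (n : ℕ)
    (F : (CohB1.ProjSpace n k).Modules) (hF : Coh.IsCoh F) (m : ℤ) :
    Curv2.IsMRegular k n F m ↔
      ∃ (b : ℕ) (φ : (∐ fun _ : Fin b => Twist.twistProjSpace n k (-m)) ⟶ F),
        Epi φ ∧ Curv2.IsMRegular k n (kernel φ) (m + 1) := by
  constructor
  · intro h
    obtain ⟨b, φ, hφ, hK⟩ := Lib.ProjKoszul.Reg2.exists_presentation hF (regOf k n hF h)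
    exact ⟨b, φ, hφ, fun i hi _ => hK i hi⟩
  · rintro ⟨b, φ, hφ, hK⟩ i hi hin
    let P : (CohB1.ProjSpace n k).Modules := ∐ fun _ : Fin b => Twist.twistProjSpace n k (-m)
    let sP : P ≅ Lib.ProjCoh.Coherent.sumTS n k b (-m) :=
      Sigma.mapIso fun _ => Lib.ProjCoh.Coherent.twIso (-m)
    have hPc : Coh.IsCoh P :=
      Lib.CohBasics.Closure.isCoh_of_iso sP.symm (Lib.ProjCoh.Coherent.isCoh_sumTS b (-m))
    have hKc : Coh.IsCoh (kernel φ) := Lib.CohBasics.Closure.isCoh_kernel φ hPc hF.1
    have hS : (ShortComplex.mk (kernel.ι φ) φ (kernel.condition φ)).ShortExact :=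
      ShortComplex.ShortExact.mk' (ShortComplex.exact_kernel φ) inferInstance hφ
    refine Lib.ProjKoszul.Reg2.sub₃ k (Lib.ProjCoh.Coherent.shortExact_tw hS (m - i)) ?_ ?_
    · exact Lib.ProjKoszul.Chase.subsingleton_of_iso k
        (Lib.TensorMod.Basic.tensorIso sP (Iso.refl _) ≪≫ Lib.ProjCoh.Coherent.sumTensor b (-m) (m - i)).symm
        (Lib.ProjCoh.Coherent.subsingleton_HH_sumTS b
          (Lib.ProjCoh.Twist.subsingleton_HH_of_neg_le n k (by omega) (by omega)))
    · exact Lib.ProjKoszul.Chase.subsingleton_of_iso k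
        (Lib.TensorMod.Basic.tensorIso (Iso.refl _) (eqToIso (congrArg (Twist.twistProjSpace n k) (by push_cast; ring))))
        (regOf k n hKc hK (i + 1) (by omega))

end Groth.Agent.S11301
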