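import Groth.Statements.S11303
import Groth.Agent.Lib.LinSub.Hyper
import Groth.Agent.Lib.HypSeq89.Iso

set_option autoImplicit false
set_option linter.style.haveILetI false
universe u
open CategoryTheory CategoryTheory.Limits AlgebraicGeometry
open FGA

namespace Groth.Agent.S11303

open Groth.Agent.Lib Groth.Agent.Lib.TensorMod.Basic Groth.Agent.Lib.ProjKoszul Groth.Agent.Lib.LinSub
  Groth.Agent.Lib.ProjCoh.Coherent

/-- Closed subschemes with the Hilbert polynomial of a hypersurface: let k be an algebraically closed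
field, r ≥ 1, d ≥ 1, and Y ⊆ P^r_k a closed subscheme (quasi-coherent ideal sheaf I) whose Hilbert
polynomial is that of a hypersurface of degree d: χ(O_Y(t)) = C(t+r, r) - C(t+r-d, r) for every
integer t (binomial coefficients as polynomials in t). Then Y is a hypersurface of degree d: its
ideal sheaf, as an O-module, is isomorphic to O(-d) (existence of an isomorphism of O-modules;
equivalently I is an invertible ideal generated by one form of degree d). -/
theorem result (k : Type u) [Field k] [IsAlgClosed k] (r d : ℕ)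
    (hr : 1 ≤ r) (hd : 1 ≤ d) (I : (CohB1.ProjSpace r k).IdealSheafData)
    (hP : ∀ t : ℤ, Curv2.euler k (CohB1.ProjSpace r k)
        (CohB1.tensorMod (ClSub.quotMod I) (Twist.twistProjSpace r k t)) =
      Ring.choose (t + r) r - Ring.choose (t + r - d) r) :
    Nonempty (ClSub.idealMod I ≅ Twist.twistProjSpace r k (-(d : ℤ))) := by
  haveI : Infinite k := IsAlgClosed.instInfinite
  have hn : 0 < r := hr
  haveI := Lib.ClSub.Quot.epi_toSubscheme I
  let O := Coh.structureModule (CohB1.ProjSpace r k)
  have h : ∀ t, χt (ClSub.quotMod I) t = hp (r + 1) t - hp (r + 1) (t - d) := fun t => by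
    refine (hP t).trans ?_
    simp only [hp]
    rw [add_sub_right_comm]
  obtain ⟨-, -, hQ'⟩ := hyper_reg hn d hd r 0 (Nat.zero_add r) (ClSub.quotMod I) (coh_quot I)
    (ClSub.toSubscheme I) inferInstance Fin.elim0 linearIndependent_empty_type (fun l => l.elim0) h
  obtain ⟨Q, hQ, hQn⟩ := hQ' hr
  have hQ0 : Q ≠ 0 := fun e => hQn (by rw [e]; exact Submodule.zero_mem _)
  let ε : Twist.twistProjSpace r k (-(d : ℤ)) ≅ ClSub.idealMod (LefPen.hypIdeal Q) :=
    twIso (-(d : ℤ)) ≪≫ Lib.HypSeq89.idealIso hQ0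
  have hO : ∀ t, χt O t = hp (r + 1) t := fun t => (euler_congr (leftUnit _)).trans (euler_tw hn t)
  have hK : ∀ t, χt (ClSub.idealMod (LefPen.hypIdeal Q)) t = hp (r + 1) (t - d) := fun t => by
    rw [← χt_congr ε t]
    refine ((euler_congr (twTensor (-(d : ℤ)) t)).trans (euler_tw hn _)).trans ?_
    rw [neg_add_eq_sub]
  have hχ : ∀ t, χt (ClSub.quotMod (LefPen.hypIdeal Q)) t = χt (ClSub.quotMod I) t := fun t => by
    have e := χt_add (Lib.ClSub.Quot.idealSeq_shortExact (LefPen.hypIdeal Q)) (PtReg.isCoh_ideal _) coh_O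
      (coh_quot _) t
    change χt O t = χt (ClSub.idealMod (LefPen.hypIdeal Q)) t + χt (ClSub.quotMod (LefPen.hypIdeal Q)) t at e
    linarith [hO t, hK t, h t]
  have hle : LefPen.hypIdeal Q ≤ I := by
    refine Scheme.IdealSheafData.le_of_iSup_eq_top (LefPen45.HypSheaf.chartAff k) chart_cover fun i => ?_
    rw [LefPen45.HypSheaf.hypIdeal_chart, Ideal.span_le, Set.singleton_subset_iff, SetLike.mem_coe,
      ← I.ker_subschemeι_app (LefPen45.HypSheaf.chartAff k i), RingHom.mem_ker]
    exact hQ i
  rw [eq_of_χt hle hχ]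
  exact ⟨ε.symm⟩

end Groth.Agent.S11303
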