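import Groth.Statements.S11306
import Mathlib

set_option autoImplicit false
universe u
open TensorProduct
open CAlg

namespace Groth.Agent.S11306

/-- Take a Noetherian local domain A, with residue field k and fraction field K, and let M be a finitely
generated A-module. If k ⊗_A M and K ⊗_A M have the same dimension r (over k and over K
respectively), then M is a free A-module of rank r. -/
theorem result (A : Type u) [CommRing A] [IsDomain A]
    [IsNoetherianRing A] [IsLocalRing A] (M : Type u) [AddCommGroup M] [Module A M] [Module.Finite A M] (r : ℕ)
    (hk : Module.finrank (IsLocalRing.ResidueField A) (IsLocalRing.ResidueField A ⊗[A] M) = r)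
    (hK : Module.finrank (FractionRing A) (FractionRing A ⊗[A] M) = r) :
    Module.Free A M ∧ Module.finrank A M = r := by
  classical
  let b := Module.finBasisOfFinrankEq (IsLocalRing.ResidueField A) _ hk
  have hsurj : Function.Surjective fun m : M => (1 : IsLocalRing.ResidueField A) ⊗ₜ[A] m :=
    TensorProduct.mk_surjective A M (IsLocalRing.ResidueField A) IsLocalRing.residue_surjective
  choose v hv using fun i => hsurj (b i)
  have hspan : Submodule.span A (Set.range v) = ⊤ := IsLocalRing.span_eq_top_of_tmul_eq_basis v b hv
  let g : (Fin r → A) →ₗ[A] M := Fintype.linearCombination A v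
  have hg : Function.Surjective g := by
    rw [← LinearMap.range_eq_top, Fintype.range_linearCombination, hspan]
  let K := FractionRing A
  let gK : (K ⊗[A] (Fin r → A)) →ₗ[K] K ⊗[A] M := g.baseChange K
  have hgK : Function.Surjective gK := g.lTensor_surjective K hg
  have hd : Module.finrank K (K ⊗[A] (Fin r → A)) = Module.finrank K (K ⊗[A] M) := by
    rw [hK, Module.finrank_baseChange, Module.finrank_fin_fun]
  have hinjK : Function.Injective gK := (LinearMap.injective_iff_surjective_of_finrank_eq_finrank hd).2 hgK
  have hinj : Function.Injective g := by
    intro x y hxy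
    have h1 : gK ((1 : K) ⊗ₜ[A] x) = gK ((1 : K) ⊗ₜ[A] y) := by simp [gK, hxy]
    exact Module.Flat.tensorProduct_mk_injective (R := A) (S := K) (M := Fin r → A) (hinjK h1)
  let e := LinearEquiv.ofBijective g ⟨hinj, hg⟩
  exact ⟨Module.Free.of_equiv e, by rw [← e.finrank_eq, Module.finrank_fin_fun]⟩

end Groth.Agent.S11306
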