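import Groth.Statements.S8855
import Groth.Agent.H26.RegQuasi
import Groth.Agent.H26.RegIdeal
import Groth.Agent.Lib.Synt92.KRImm

set_option autoImplicit false
universe u
open CategoryTheory CategoryTheory.Limits AlgebraicGeometry TopologicalSpace
open SDiv

namespace Groth.Agent.S8855

/-- Let i : Z ⟶ X be an immersion of schemes with Z and X regular (locally Noetherian, all local rings
regular local rings). Then i is a regular immersion. -/
theorem result {Z X : Scheme.{u}} (i : Z ⟶ X) [IsImmersion i]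
    [IsLocallyNoetherian X] [IsLocallyNoetherian Z]
    (hX : ∀ x : ↥X, IsRegularLocalRing ↑(X.presheaf.stalk x)) (hZ : ∀ z : ↥Z, IsRegularLocalRing ↑(Z.presheaf.stalk z)) :
    RegImm.IsRegularImmersion RegImm.Kind.regular i := by
  refine ⟨inferInstance, fun z => ?_⟩
  obtain ⟨⟨U, hU⟩, hzU, -, hcl⟩ := Groth.Agent.Lib.Synt92.KRImm.exists_closed_chart i z (O := ⊤) trivial
  haveI : IsClosedImmersion (i ∣_ U) := hcl
  haveI : IsNoetherianRing Γ(X, U) := IsLocallyNoetherian.component_noetherian ⟨U, hU⟩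
  letI := TopCat.Presheaf.algebra_section_stalk X.presheaf (⟨i z, hzU⟩ : U)
  haveI hloc := hU.isLocalization_stalk ⟨i z, hzU⟩
  let p := (hU.primeIdealOf ⟨i z, hzU⟩).asIdeal
  let L := X.presheaf.stalk (i z)
  haveI : IsLocalization.AtPrime L p := hloc
  haveI : IsRegularLocalRing L := hX (i z)
  let J := RingHom.ker (i.stalkMap z).hom
  let e : L ⧸ J ≃+* Z.presheaf.stalk z :=
    RingHom.quotientKerEquivOfSurjective (i.stalkMap_surjective z)
  haveI : IsRegularLocalRing (L ⧸ J) := by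
    haveI := hZ z
    exact IsRegularLocalRing.of_ringEquiv e.symm
  obtain ⟨rs, hrs, hrs'⟩ := (Groth.Agent.H26.RegIdeal.isRegularLocalRing_iff J).1 inferInstance
  have hIL : (RingHom.ker (i.app U).hom).map (algebraMap Γ(X, U) L) = J :=
    (Groth.Agent.H26.RegImmKind.ker_stalkMap i hU z hzU).symm
  obtain ⟨a, ha, fs, hfs⟩ := Groth.Agent.H26.RegImmLocal.exists_away p L (RingHom.ker (i.app U).hom) rs
    hrs.toIsWeaklyRegular (hrs'.trans hIL.symm)
  let D := X.basicOpen a
  have hzD : i z ∈ D := by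
    rw [X.mem_basicOpen a (i z) hzU]
    exact IsLocalization.map_units L (⟨a, ha⟩ : p.primeCompl)
  haveI := hU.isLocalization_basicOpen a
  obtain ⟨hwD, hI⟩ := hfs Γ(X, D)
  have hkerD : RingHom.ker (i.app D).hom = Ideal.ofList (fs.map (algebraMap Γ(X, U) Γ(X, D))) := by
    rw [Groth.Agent.Lib.Synt92.KRImm.ker_app_basicOpen i hU hcl a]
    exact hI
  refine ⟨⟨D, hU.basicOpen a⟩, hzD, Groth.Agent.Lib.Synt92.KRImm.closed_of_le i (X.basicOpen_le a) hcl,
    fs.map (algebraMap Γ(X, U) Γ(X, D)), ⟨hwD, ?_⟩, hkerD⟩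
  rw [smul_eq_mul, Ideal.mul_top, ← hkerD]
  intro h
  haveI : Nontrivial Γ(Z, i ⁻¹ᵁ D) := by
    refine ⟨0, 1, fun h01 => ?_⟩
    have := congrArg (Z.presheaf.germ (i ⁻¹ᵁ D) z hzD) h01
    rw [map_zero, map_one] at this
    exact zero_ne_one this
  exact RingHom.ker_ne_top (i.app D).hom h.symm

end Groth.Agent.S8855
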