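import Groth.Statements.S11308
import Groth.Agent.H26.BlowSmooth
import Groth.Agent.S8855
import Groth.Agent.S4991
import Groth.Agent.Lib.BlowUpExists.Proper
import Groth.Agent.Lib.Ideal.BlowUp
import Groth.Agent.Lib.RefHull.SubStalk
import Groth.Agent.Lib.Regular.Quotient
import Groth.Agent.Lib.Regular45.QuasiReg

set_option autoImplicit false
universe u
open CategoryTheory CategoryTheory.Limits AlgebraicGeometry
open NonsingVar

namespace Groth.Agent.S11308

set_option linter.style.haveILetI false

/-- A blow-up of a regular scheme in a regular closed subscheme is regular. -/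
theorem isRegularLocalRing_stalk {X Y X' : Scheme.{u}} [IsLocallyNoetherian X] (i : Y ⟶ X)
    [IsClosedImmersion i] (hX : ∀ x : X, IsRegularLocalRing (X.presheaf.stalk x))
    (hY : ∀ y : Y, IsRegularLocalRing (Y.presheaf.stalk y)) (b : X' ⟶ X)
    (hb : BlowUp.IsBlowUp b i.ker) (x : X') : IsRegularLocalRing (X'.presheaf.stalk x) := by
  by_cases hx : x ∈ (i.ker.comap b).support
  swap
  · haveI := hX (b x)
    exact IsRegularLocalRing.of_ringEquiv (RingEquiv.ofBijective (b.stalkMap x).hom
      (Lib.Ideal.BlowUp.bijective_stalkMap_off hb x hx))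
  haveI : IsLocallyNoetherian Y := LocallyOfFiniteType.isLocallyNoetherian i
  haveI : IsProper b := Lib.BlowUpExists.isProper_of_isBlowUp hb fun U => by
    haveI : IsNoetherianRing Γ(X, U.1) := IsLocallyNoetherian.component_noetherian U
    exact IsNoetherian.noetherian _
  haveI : IsLocallyNoetherian X' := LocallyOfFiniteType.isLocallyNoetherian b
  haveI : IsClosedImmersion (BlowUp.exceptional b i.ker).subschemeι := inferInstance
  have hle : i.ker ≤ ((BlowUp.exceptional b i.ker).subschemeι ≫ b).ker := by
    rw [← Scheme.IdealSheafData.map_ker, Scheme.IdealSheafData.ker_subschemeι]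
    exact Scheme.IdealSheafData.le_map_comap _ b
  let g := IsClosedImmersion.lift i ((BlowUp.exceptional b i.ker).subschemeι ≫ b) hle
  have hg : g ≫ i = (BlowUp.exceptional b i.ker).subschemeι ≫ b := IsClosedImmersion.lift_fac _ _ _
  haveI : Smooth g := H26.BlowSmooth.smooth i (fun z => by
    obtain ⟨U, hzU, -, rs, hrs, hker⟩ := (S8855.result i hX hY).2 z
    refine ⟨U, rs.length, rs.get, hzU, ?_, ?_⟩
    · refine Lib.Regular45.QuasiReg.quasiRegular_of_isWeaklyRegular _ ?_
      rw [List.ofFn_get]
      exact (show RingTheory.Sequence.IsRegular Γ(X, U.1) rs from hrs).toIsWeaklyRegular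
    · rw [Scheme.Hom.ker_apply, hker, Ideal.ofList, Set.range_list_get]) b hb g hg
  rw [← SetLike.mem_coe, ← Scheme.IdealSheafData.range_subschemeι] at hx
  obtain ⟨d, rfl⟩ := hx
  haveI := hY (g d)
  haveI : IsRegularLocalRing ((BlowUp.exceptional b i.ker).subscheme.presheaf.stalk d) :=
    (S4991.result g d ⟨⊤, trivial, inferInstance⟩).mpr inferInstance
  obtain ⟨U, hdU, f, hf, hfU⟩ := hb.1 ((BlowUp.exceptional b i.ker).subschemeι d)
  let L := X'.presheaf.stalk ((BlowUp.exceptional b i.ker).subschemeι d)
  let t : L := (X'.presheaf.germ U.1 _ hdU).hom f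
  have htk : RingHom.ker ((BlowUp.exceptional b i.ker).subschemeι.stalkMap d).hom = Ideal.span {t} := by
    rw [Lib.RefHull.SubStalk.ker_stalkMap _ hfU d hdU, Set.image_singleton]
  have ht : t ∈ nonZeroDivisors L := Lib.Ideal.EffCartier.germ_mem_nonZeroDivisors U.2 hf _ hdU
  have htm : t ∈ IsLocalRing.maximalIdeal L :=
    IsLocalRing.le_maximalIdeal (RingHom.ker_ne_top _) (htk.ge (Ideal.mem_span_singleton_self t))
  haveI : IsRegularLocalRing
      (L ⧸ RingHom.ker ((BlowUp.exceptional b i.ker).subschemeι.stalkMap d).hom) :=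
    IsRegularLocalRing.of_ringEquiv (RingHom.quotientKerEquivOfSurjective
      (Lib.RefHull.SubStalk.stalkMap_surjective _ d)).symm
  have hq' : IsRegularLocalRing (L ⧸ Ideal.span {t}) :=
    IsRegularLocalRing.of_ringEquiv (Ideal.quotEquivOfEq htk)
  have hreg : IsSMulRegular L t := fun u v h => (mul_cancel_left_mem_nonZeroDivisors ht).mp h
  exact Lib.Regular.Quotient.of_quotient_singleton htm hreg hq'



/-- Let k be an algebraically closed field, X a nonsingular variety over k (an integral scheme,
separated and of finite type over k, all of whose local rings are regular), Y a nonsingular closed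
subvariety of X (an integral closed subscheme all of whose local rings are regular) with ideal sheaf
I, and π : X~ → X a blowing-up of X with respect to I, characterised by its universal property. Then
X~ is nonsingular: all of its local rings are regular. -/
theorem result (k : Type u) [Field k] [IsAlgClosed k]
    (X : Scheme.{u}) [X.Over (Spec (CommRingCat.of k))] [IsIntegral X] [IsSeparated (X ↘ (Spec (CommRingCat.of k)))]
    [LocallyOfFiniteType (X ↘ (Spec (CommRingCat.of k)))] [QuasiCompact (X ↘ (Spec (CommRingCat.of k)))]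
    (hreg : ∀ x : ↥X, IsRegularLocalRing ↑(X.presheaf.stalk x))
    (Y : Scheme.{u}) (i : Y ⟶ X) [IsClosedImmersion i] [IsIntegral Y]
    (hregY : ∀ y : ↥Y, IsRegularLocalRing ↑(Y.presheaf.stalk y))
    (Xt : Scheme.{u}) (π : Xt ⟶ X) (hπ : BlowUp.IsBlowUp π i.ker) :
    ∀ z : ↥Xt, IsRegularLocalRing ↑(Xt.presheaf.stalk z) := by
  haveI : IsLocallyNoetherian X := LocallyOfFiniteType.isLocallyNoetherian (X ↘ (Spec (CommRingCat.of k)))
  exact isRegularLocalRing_stalk i hreg hregY π hπ

end Groth.Agent.S11308
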