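import Groth.Statements.S1131
import Groth.Agent.Lib.FFDesc.Datum

set_option autoImplicit false
open CategoryTheory CategoryTheory.Limits AlgebraicGeometry Opposite
universe u
open Desc

namespace Groth.Agent.S1131

/-- If p : X ⟶ S is surjective, flat and quasi-compact, then the functor sending a scheme over S to its
canonical descent datum relative to p is full. (Faithfulness, which needs no quasi-compactness, is a
companion statement.) (Descent data are taken in functor-of-points form, equivalent by the Yoneda
lemma to the usual form of an isomorphism over X ×_S X satisfying the cocycle condition.) -/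
theorem result {X S : Scheme.{u}} (p : X ⟶ S) [Surjective p] [Flat p] [QuasiCompact p] :
    (Desc.toDD p).Full := by
  have hp := Groth.Agent.Lib.FFDesc.fpqcCover_of_quasiCompact p
  refine ⟨fun {U U'} f ↦ ?_⟩
  have H := Groth.Agent.Lib.FFDesc.exists_isDescended_of_iso _ (Iso.refl ((Desc.toDD p).obj U))
  let v : Desc.Lifts ((Desc.toDD p).obj U).obj
      (Groth.Agent.Lib.FFDesc.pr ((Desc.toDD p).obj U) ≫ ((Desc.toDD p).obj U).obj.hom) :=
    ⟨Groth.Agent.Lib.FFDesc.pr ((Desc.toDD p).obj U), rfl⟩
  have h12 : (Groth.Agent.Lib.FFDesc.pr ((Desc.toDD p).obj U) ≫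
      ((Desc.toDD p).obj U).obj.hom) ≫ p = Groth.Agent.Lib.FFDesc.pr₁ ((Desc.toDD p).obj U) ≫ p :=
    (Category.assoc _ _ _).trans pullback.condition
  have hc := f.comm _ _ h12 v (f.push v) rfl
  have h2 := (Groth.Agent.Lib.FFDesc.toDD_φ_snd U' _ _ h12 (f.push v)).symm.trans
    congr($hc ≫ pullback.snd p U'.hom)
  obtain ⟨l, hl⟩ := H.exists_desc hp (f.hom.left ≫ pullback.snd p U'.hom)
    ((Category.assoc _ _ _).symm.trans (h2.trans (Category.assoc _ _ _)))
  have hw : f.hom.left ≫ pullback.fst p U'.hom = pullback.fst p U.hom := Over.w f.hom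
  have hsnd : pullback.snd p U.hom ≫ l = f.hom.left ≫ pullback.snd p U'.hom :=
    (congrArg (· ≫ l) (Category.id_comp _).symm).trans hl
  have hl' : l ≫ U'.hom = U.hom := H.hom_ext hp (by
    refine (reassoc_of% hl) U'.hom |>.trans ?_
    refine (congrArg (f.hom.left ≫ ·) pullback.condition.symm).trans ?_
    refine ((reassoc_of% hw) p).trans ?_
    refine pullback.condition.trans ?_
    exact (congrArg (· ≫ U.hom) (Category.id_comp _)).symm)
  refine ⟨Over.homMk l hl', Desc.SchDD.hom_ext (Over.OverMorphism.ext ?_)⟩
  apply pullback.hom_ext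
  · exact (pullback.lift_fst _ _ _).trans ((Category.comp_id _).trans hw.symm)
  · exact (pullback.lift_snd _ _ _).trans hsnd

end Groth.Agent.S1131
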