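import Groth.Statements.S11316
import Groth.Agent.Lib.ProjCoh.DualityCM
import Groth.Agent.Lib.ExtHH.SheafHom
import Groth.Agent.Lib.Perfect.Coherent

set_option autoImplicit false
universe u
open CategoryTheory CategoryTheory.Limits AlgebraicGeometry
attribute [local instance] HasDerivedCategory.standard
open ProjDual

namespace Groth.Agent.S11316

/-- Let k be an algebraically closed field and X a closed subscheme of some P^N_k, of dimension n, which
is Cohen–Macaulay (every local ring of X is Cohen–Macaulay) and equidimensional (every irreducible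
component of X has dimension n); let (ω, t) be a dualizing sheaf for X, i.e. ω is coherent, t :
H^n(X, ω) → k is k-linear, and for every coherent F and every k-linear form ψ on H^n(X, F) there is
exactly one φ : F → ω with ψ = t ∘ H^n(φ). Then for every finite locally free O_X-module F for which
the internal Hom functor Hom_{O_X}(F, -) exists (right adjoint of F ⊗ -) and every i ≤ n, the k-dual
of H^i(X, F) is isomorphic to H^(n-i)(X, Hom_{O_X}(F, ω)). (Existence of a k-linear isomorphism
only; the published statement writes the second module as H^(n-i)(X, F^∨ ⊗ ω) and obtains the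
isomorphism from the duality maps θ^i.) -/
theorem result
    (k : Type u) [Field k] [IsAlgClosed k] (N n : ℕ) (X : Scheme.{u}) [X.Over (Spec (CommRingCat.of k))]
    (ι : X ⟶ CohB1.ProjSpace N k) [IsClosedImmersion ι] (hι : ι ≫ CohB1.ProjSpace.toSpec N k = X ↘ Spec (CommRingCat.of k))
    (hn : topologicalKrullDim ↥X = n)
    (hCM : ∀ x : X, LocCoh.IsCohenMacaulayLocalRing (X.presheaf.stalk x))
    (heq : ∀ Z : Set ↥X, Z ∈ irreducibleComponents ↥X → topologicalKrullDim ↥Z = (n : WithBot ℕ∞))
    (ω : X.Modules) (hω : Coh.IsCoh ω) (t : Coh.HH X ω n →ₗ[k] k)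
    (hdual : ∀ F : X.Modules, Coh.IsCoh F → ∀ ψ : Coh.HH X F n →ₗ[k] k,
        ∃! φ : F ⟶ ω, ∀ x : Coh.HH X F n,
          ψ x = t (Sheaf.H.map ((SheafOfModules.toSheaf X.ringCatSheaf).map φ) n x))
    (F : X.Modules) (hF : FlatMod.IsFinLocFree F) [DCoh.HasSheafHom F] (i : ℕ) (hi : i ≤ n) :
    Nonempty (Module.Dual k (Coh.HH X F i) ≃ₗ[k] Coh.HH X ((DCoh.sheafHom F).obj ω) (n - i)) := by
  haveI := Agent.Lib.ProjCoh.ClosedSub.isLocallyNoetherian ι
  haveI : LocallyOfFiniteType (ι ≫ CohB1.ProjSpace.toSpec N k) := inferInstance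
  haveI := CategoryTheory.hasExt_of_enoughInjectives.{u} X.Modules
  have he := Agent.Lib.ProjCoh.DualityCM.hasEff ι ω hω (n := n) fun x hx =>
    Agent.Lib.ProjCoh.DualityCM.depth_of_cm (hCM x)
      (Agent.Lib.ProjCoh.DualityCM.ringKrullDim_stalk_of_equidim (ι ≫ CohB1.ProjSpace.toSpec N k) hn heq x hx)
  obtain ⟨e⟩ := Agent.Lib.ProjCoh.DualityCM.nonempty_equiv (t := t) hdual he (n - i) i (by omega) F
    (Agent.Lib.Perfect.Coherent.isCoh_of_isFinLocFree hF)
  exact ⟨e.symm.trans (Agent.Lib.ExtHH.SheafHom.extLinearEquiv k hF ω (n - i))⟩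

end Groth.Agent.S11316
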