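import Groth.Statements.S11317
import Groth.Agent.Lib.FundLocal.WedgeDual
import Groth.Agent.Lib.FundLocal.ExtPowExists
import Groth.Agent.Lib.Curves.LES
import Groth.Agent.S5668

set_option linter.style.haveILetI false

set_option autoImplicit false
universe u
open CategoryTheory CategoryTheory.Limits AlgebraicGeometry
open ProjDual

namespace Groth.Agent.S11317

/-- Let k be an algebraically closed field and X a nonsingular projective variety of dimension n over k
— an integral k-scheme, smooth of relative dimension n over k, with a closed immersion into some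
P^N_k over k. Let p, q ≤ n and let L and L' be O_X-modules which are a p-th, respectively an
(n-p)-th, exterior power of the sheaf of differentials of X over k. Then H^q(X, L) and H^(n-q)(X,
L') have the same dimension over k: h^q(Ω^p) = h^(n-q)(Ω^(n-p)). (The published statement gives a
natural isomorphism of H^q(X, Ω^p) with the dual of H^(n-q)(X, Ω^(n-p)); this row records the
equality of dimensions.) -/
theorem result (k : Type u) [Field k] [IsAlgClosed k] (n N : ℕ)
    (X : Scheme.{u}) [X.Over (Spec (CommRingCat.of k))] [IsIntegral X]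
    [SmoothOfRelativeDimension n (X ↘ Spec (CommRingCat.of k))]
    (ι : X ⟶ CohB1.ProjSpace N k) [IsClosedImmersion ι] (hι : ι ≫ CohB1.ProjSpace.toSpec N k = X ↘ Spec (CommRingCat.of k))
    (p q : ℕ) (hp : p ≤ n) (hq : q ≤ n) (L L' : X.Modules)
    (hL : ExtPow.IsExtPow p (Omega.sheaf (X ↘ Spec (CommRingCat.of k))) L)
    (hL' : ExtPow.IsExtPow (n - p) (Omega.sheaf (X ↘ Spec (CommRingCat.of k))) L') :
    Module.finrank k (Coh.HH X L q) = Module.finrank k (Coh.HH X L' (n - q)) := by
  let c := X ↘ Spec (CommRingCat.of k)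
  haveI : Smooth c := SmoothOfRelativeDimension.smooth n c
  haveI := Groth.Agent.Lib.ProjCoh.ClosedSub.isLocallyNoetherian ι
  have hΩ := Groth.Agent.Lib.FundLocal.Rank.isFinLocFreeOfRank_omega c n
  haveI := Groth.Agent.Lib.CurveBundle.Coherent.isQCoh (Groth.Agent.Lib.TensorMod.LocFree.of_rank hΩ)
  obtain ⟨D, hD⟩ := Groth.Agent.Lib.FundLocal.ExtPowExists.exists_isExtPow (Omega.sheaf c) n
  haveI : ModSite.HasSheafHom (O := X.sheaf) L := Groth.Agent.Lib.ModTensor.ModSite.hasSheafHom L
  haveI : DCoh.HasSheafHom L := ⟨_, ⟨Groth.Agent.Lib.ExtShStalk.Hom.adj L⟩⟩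
  obtain ⟨w⟩ := Groth.Agent.Lib.FundLocal.WedgeDual.nonempty_iso (p := p) (q := n - p) (by omega) hΩ hL hL' hD
  let j : L' ≅ (DCoh.sheafHom L).obj D :=
    w ≪≫ ((Groth.Agent.Lib.ExtShStalk.Hom.adj L).rightAdjointUniq (DCoh.sheafHomAdj L)).app D
  obtain ⟨e⟩ := Groth.Agent.S5668.result k n N X ι hι D hD L
    (Groth.Agent.Lib.GrassGen.ExtPowFree.isFinLocFree (Groth.Agent.Lib.TensorMod.LocFree.of_rank hΩ) hL) q hq
  rw [← Subspace.dual_finrank_eq, e.finrank_eq,
    (Groth.Agent.Lib.Curves.LES.isoK k j (n - q)).finrank_eq]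

end Groth.Agent.S11317
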