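import Groth.Statements.S11320
import Mathlib.Topology.Sheaves.Skyscraper
import Mathlib.Topology.Sheaves.Stalks
import Mathlib.Topology.NoetherianSpace
import Groth.Agent.Lib.ZarCoh.Basic

set_option autoImplicit false
universe u
open CategoryTheory CategoryTheory.Limits
open CohTop

namespace Groth.Agent.S11320

open TopologicalSpace Opposite

theorem isFlasque_colimit {X : TopCat.{u}} [NoetherianSpace X]
    {ι : Type u} [Preorder ι] [IsDirected ι (· ≤ ·)] [Nonempty ι]
    (D : ι ⥤ CohTop.Ab X) (hD : ∀ i : ι, TopCat.Sheaf.IsFlasque (D.obj i)) :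
    TopCat.Sheaf.IsFlasque (colimit D : CohTop.Ab X) where
  epi {U V} r := by
    classical
    rw [AddCommGrpCat.epi_iff_surjective]
    intro s
    let L : CohTop.Ab X := colimit D
    let St : X → CohTop.Ab X ⥤ AddCommGrpCat.{u} := fun x ↦
      TopCat.Sheaf.forget _ X ⋙ TopCat.Presheaf.stalkFunctor _ x
    haveI : ∀ x, PreservesColimitsOfShape ι (St x) := fun x ↦
      (stalkSkyscraperSheafAdjunction x).leftAdjoint_preservesColimits.preservesColimitsOfShape
    have hc : ∀ x, Nonempty (IsColimit ((St x).mapCocone (colimit.cocone D))) := fun x ↦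
      ⟨isColimitOfPreserves (St x) (colimit.isColimit D)⟩
    let rs : ∀ (F : CohTop.Ab X) {A B : Opens X}, B ≤ A → F.obj.obj (op A) → F.obj.obj (op B) :=
      fun F {A B} h a ↦ F.obj.map (homOfLE h).op a
    let mp : ∀ {F G : CohTop.Ab X} (φ : F ⟶ G) (A : Opens X), F.obj.obj (op A) → G.obj.obj (op A) :=
      fun φ A a ↦ φ.hom.app (op A) a
    have hmp : ∀ {F G : CohTop.Ab X} (φ : F ⟶ G) {A B : Opens X} (h : B ≤ A) (a),
        mp φ B (rs F h a) = rs G h (mp φ A a) :=
      fun {F G} φ {A B} h a ↦ φ.hom.naturality_apply (homOfLE h).op a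
    have hrr : ∀ (F : CohTop.Ab X) {A B C : Opens X} (h : B ≤ A) (h' : C ≤ B) (a),
        rs F h' (rs F h a) = rs F (h'.trans h) a := fun F {A B C} h h' a ↦ by
      show (F.obj.map _ ≫ F.obj.map _) a = _
      rw [← Functor.map_comp]
      rfl
    have hup : ∀ {i j : ι} (h : i ⟶ j) (A : Opens X) (a),
        mp (colimit.ι D j) A (mp (D.map h) A a) = mp (colimit.ι D i) A a := fun {i j} h A a ↦
      congr(($(colimit.w D h)).hom.app (op A) a)
    -- local lifts
    have hlift : ∀ x : V.unop, ∃ (W : Opens X) (h : W ≤ V.unop) (i : ι) (a : (D.obj i).obj.obj (op W)),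
        x.1 ∈ W ∧ mp (colimit.ι D i) W a = rs L h s := by
      rintro ⟨x, hx⟩
      obtain ⟨i, y, hy⟩ := Concrete.isColimit_exists_rep _ (hc x).some
        (TopCat.Presheaf.germ L.obj V.unop x hx s)
      obtain ⟨A, hxA, a, rfl⟩ := TopCat.Presheaf.exists_germ_eq (D.obj i).obj y
      have h1 : TopCat.Presheaf.germ L.obj A x hxA (mp (colimit.ι D i) A a) =
          TopCat.Presheaf.germ L.obj V.unop x hx s :=
        (TopCat.Presheaf.stalkFunctor_map_germ_apply A x hxA (colimit.ι D i).hom a).symm.trans hy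
      obtain ⟨W, hxW, i₁, i₂, he⟩ := TopCat.Presheaf.germ_eq L.obj x hxA hx _ _ h1
      refine ⟨W, leOfHom i₂, i, rs (D.obj i) (leOfHom i₁) a, hxW, ?_⟩
      rw [hmp]
      exact he
    choose W hW i a hxW ha using hlift
    obtain ⟨t, ht⟩ := (NoetherianSpace.isCompact (V.unop : Set X)).elim_finite_subcover
      (fun x : V.unop ↦ (W x : Set X)) (fun x ↦ (W x).2)
      (fun x hx ↦ Set.mem_iUnion.2 ⟨⟨x, hx⟩, hxW ⟨x, hx⟩⟩)
    -- eventual agreement on overlaps
    have hov : ∀ p q : V.unop, ∃ k : ι, ∃ (hp : i p ⟶ k) (hq : i q ⟶ k),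
        rs (D.obj k) inf_le_left (mp (D.map hp) (W p) (a p)) =
          (rs (D.obj k) inf_le_right (mp (D.map hq) (W q) (a q)) :
            (D.obj k).obj.obj (op (W p ⊓ W q))) := by
      intro p q
      have hloc : ∀ z : (W p ⊓ W q : Opens X), ∃ (O : Opens X) (hO : O ≤ W p ⊓ W q) (k : ι)
          (hp : i p ⟶ k) (hq : i q ⟶ k), z.1 ∈ O ∧
          rs (D.obj k) (hO.trans inf_le_left) (mp (D.map hp) (W p) (a p)) =
            rs (D.obj k) (hO.trans inf_le_right) (mp (D.map hq) (W q) (a q)) := by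
        rintro ⟨z, hzp, hzq⟩
        have e : ((St z).mapCocone (colimit.cocone D)).ι.app (i p)
              (TopCat.Presheaf.germ (D.obj (i p)).obj (W p) z hzp (a p)) =
            ((St z).mapCocone (colimit.cocone D)).ι.app (i q)
              (TopCat.Presheaf.germ (D.obj (i q)).obj (W q) z hzq (a q)) := by
          refine (TopCat.Presheaf.stalkFunctor_map_germ_apply (W p) z hzp (colimit.ι D (i p)).hom (a p)).trans
            (Eq.trans ?_ (TopCat.Presheaf.stalkFunctor_map_germ_apply (W q) z hzq (colimit.ι D (i q)).hom (a q)).symm)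
          show TopCat.Presheaf.germ L.obj _ z hzp (mp (colimit.ι D (i p)) (W p) (a p)) =
            TopCat.Presheaf.germ L.obj _ z hzq (mp (colimit.ι D (i q)) (W q) (a q))
          rw [ha p, ha q]
          exact (TopCat.Presheaf.germ_res_apply L.obj (homOfLE (hW p)) z hzp s).trans
            (TopCat.Presheaf.germ_res_apply L.obj (homOfLE (hW q)) z hzq s).symm
        obtain ⟨k, hp, hq, hk⟩ := Concrete.isColimit_exists_of_rep_eq _ (hc z).some _ _ e
        have hk' : TopCat.Presheaf.germ (D.obj k).obj (W p) z hzp (mp (D.map hp) (W p) (a p)) =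
            TopCat.Presheaf.germ (D.obj k).obj (W q) z hzq (mp (D.map hq) (W q) (a q)) :=
          (TopCat.Presheaf.stalkFunctor_map_germ_apply (W p) z hzp (D.map hp).hom (a p)).symm.trans
            (hk.trans (TopCat.Presheaf.stalkFunctor_map_germ_apply (W q) z hzq (D.map hq).hom (a q)))
        obtain ⟨O, hzO, o₁, o₂, he⟩ := TopCat.Presheaf.germ_eq (D.obj k).obj z hzp hzq _ _ hk'
        exact ⟨O, fun y hy ↦ ⟨leOfHom o₁ hy, leOfHom o₂ hy⟩, k, hp, hq, hzO, he⟩
      choose O hO k hp hq hzO he using hloc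
      obtain ⟨c, hc'⟩ := (NoetherianSpace.isCompact ((W p ⊓ W q : Opens X) : Set X)).elim_finite_subcover
        (fun z : (W p ⊓ W q : Opens X) ↦ (O z : Set X)) (fun z ↦ (O z).2)
        (fun z hz ↦ Set.mem_iUnion.2 ⟨⟨z, hz⟩, hzO ⟨z, hz⟩⟩)
      obtain ⟨m, hm⟩ := Directed.finset_le (r := (· ≤ ·)) (f := (id : ι → ι)) directed_id
        (insert (i p) (insert (i q) (c.image k)))
      let gp : i p ⟶ m := homOfLE (hm _ (by simp))
      let gq : i q ⟶ m := homOfLE (hm _ (by simp))
      refine ⟨m, gp, gq, TopCat.Sheaf.eq_of_locally_eq' (D.obj m) (fun z : c ↦ O z.1) (W p ⊓ W q)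
        (fun z ↦ homOfLE (hO z.1)) ?_ _ _ fun z ↦ ?_⟩
      · intro y hy
        obtain ⟨z, hz, hyz⟩ := Set.mem_iUnion₂.1 (hc' hy)
        exact Opens.mem_iSup.2 ⟨⟨z, hz⟩, hyz⟩
      · let g : k z.1 ⟶ m := homOfLE (hm _ (by simp [Finset.mem_image.2 ⟨z.1, z.2, rfl⟩]))
        show rs _ (hO z.1) (rs _ inf_le_left _) = rs _ (hO z.1) (rs _ inf_le_right _)
        rw [hrr, hrr]
        have := congrArg (mp (D.map g) (O z.1)) (he z.1)
        rw [hmp, hmp] at this
        have e1 : ∀ (j : ι) (f : j ⟶ k z.1) (h : j ⟶ m) (A : Opens X) (b),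
            mp (D.map g) A (mp (D.map f) A b) = mp (D.map h) A b := fun j f h A b ↦ by
          rw [Subsingleton.elim h (f ≫ g), Functor.map_comp]
          rfl
        rwa [e1 _ (hp z.1) gp, e1 _ (hq z.1) gq] at this
    choose K hKp hKq hK using hov
    obtain ⟨m, hm⟩ := Directed.finset_le (r := (· ≤ ·)) (f := (id : ι → ι)) directed_id
      ((t ×ˢ t).image (fun pq ↦ K pq.1 pq.2) ∪ t.image i)
    have hmi : ∀ p : t, i p.1 ≤ m := fun p ↦
      hm _ (Finset.mem_union_right _ (Finset.mem_image.2 ⟨p.1, p.2, rfl⟩))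
    let b : ∀ p : t, (D.obj m).obj.obj (op (W p.1)) := fun p ↦
      mp (D.map (homOfLE (hmi p))) (W p.1) (a p.1)
    have hVle : V.unop ≤ iSup fun p : t ↦ W p.1 := fun y hy ↦ by
      obtain ⟨p, hp, hyp⟩ := Set.mem_iUnion₂.1 (ht hy)
      exact Opens.mem_iSup.2 ⟨⟨p, hp⟩, hyp⟩
    obtain ⟨e, he, -⟩ := TopCat.Sheaf.existsUnique_gluing' (D.obj m) (fun p : t ↦ W p.1) V.unop
      (fun p ↦ homOfLE (hW p.1)) hVle b (fun p q ↦ by
        let g : K p.1 q.1 ⟶ m := homOfLE (hm _ (Finset.mem_union_left _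
          (Finset.mem_image.2 ⟨(p.1, q.1), Finset.mem_product.2 ⟨p.2, q.2⟩, rfl⟩)))
        have := congrArg (mp (D.map g) (W p.1 ⊓ W q.1)) (hK p.1 q.1)
        rw [hmp, hmp] at this
        have e1 : ∀ (j : ι) (f : j ⟶ K p.1 q.1) (h : j ⟶ m) (A : Opens X) (c),
            mp (D.map g) A (mp (D.map f) A c) = mp (D.map h) A c := fun j f h A c ↦ by
          rw [Subsingleton.elim h (f ≫ g), Functor.map_comp]
          rfl
        rwa [e1 _ (hKp p.1 q.1) (homOfLE (hmi p)), e1 _ (hKq p.1 q.1) (homOfLE (hmi q))] at this)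
    obtain ⟨e', he'⟩ := (AddCommGrpCat.epi_iff_surjective _).1 ((hD m).epi r) e
    refine ⟨mp (colimit.ι D m) U.unop e', ?_⟩
    refine ((colimit.ι D m).hom.naturality_apply r e').symm.trans ?_
    rw [show (D.obj m).obj.map r e' = e from he']
    refine TopCat.Sheaf.eq_of_locally_eq' L (fun p : t ↦ W p.1) V.unop
      (fun p ↦ homOfLE (hW p.1)) hVle _ _ fun p ↦ ?_
    show rs L (hW p.1) (mp (colimit.ι D m) V.unop e) = rs L (hW p.1) s
    rw [← hmp, show rs (D.obj m) (hW p.1) e = b p from he p, hup, ha]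

/-- On a Noetherian topological space X, the direct limit, in the category of abelian sheaves, of a
directed system (F_i) of flasque abelian sheaves indexed by a nonempty directed preorder is flasque
(all its restriction maps are surjective). -/
theorem result {X : TopCat.{u}} [TopologicalSpace.NoetherianSpace X]
    (ι : Type u) [Preorder ι] [IsDirected ι (· ≤ ·)] [Nonempty ι]
    (D : ι ⥤ CohTop.Ab X) (hD : ∀ i : ι, TopCat.Sheaf.IsFlasque (D.obj i)) :
    TopCat.Sheaf.IsFlasque (colimit D : CohTop.Ab X) := by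
  exact isFlasque_colimit D hD

end Groth.Agent.S11320
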