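import Groth.Statements.S11325
import Groth.Agent.Lib.FundLocal.Main
import Groth.Agent.Lib.FundLocal.InvHom
import Groth.Agent.Lib.FundLocal.LCI
import Groth.Agent.Lib.ModTensor.ModSite
import Groth.Agent.Lib.DerivedOX.Grothendieck
import Groth.Agent.Lib.ExtShStalk.Zero
import Groth.Agent.Lib.WeilExt.Basic
import Groth.Agent.Lib.JacCrit.FlatRegular
import Groth.Agent.S11903

set_option autoImplicit false
universe u
open CategoryTheory CategoryTheory.Limits AlgebraicGeometry
attribute [local instance] HasDerivedCategory.standard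
open ProjDual

namespace Groth.Agent.S11325

/-- Let k be a field, P = P^N_k and ι : X → P a closed immersion which makes X a local complete
intersection of codimension r in P: every irreducible component of X has dimension N - r, and every
point of X has an affine open neighbourhood U in P on which the ideal of X is generated by r
sections. Let C be an r-th exterior power of the conormal sheaf of X in P (a locally free O_X-module
of rank one; its internal Hom functor is assumed to exist, which it does) and put M = ι^* O_P(-N-1)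
⊗ Hom_{O_X}(C, O_X), that is ω_P ⊗ (∧^r of the conormal sheaf)^∨. Then M is a dualizing sheaf for X:
with n = N - r there is a k-linear map t : H^n(X, M) → k such that for every coherent O_X-module F
and every k-linear form ψ on H^n(X, F) there is exactly one morphism φ : F → M with ψ = t ∘ H^n(φ).
(The published statement says that the dualizing sheaf of X is isomorphic to M, and in particular is
invertible; by uniqueness of dualizing sheaves this is the same assertion.) -/
theorem result
    (k : Type u) [Field k] (N r : ℕ) (hr : r ≤ N) (X : Scheme.{u}) [X.Over (Spec (CommRingCat.of k))]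
    (ι : X ⟶ CohB1.ProjSpace N k) [IsClosedImmersion ι] (hι : ι ≫ CohB1.ProjSpace.toSpec N k = X ↘ Spec (CommRingCat.of k))
    (heq : ∀ Z : Set ↥X, Z ∈ irreducibleComponents ↥X → topologicalKrullDim ↥Z = ((N - r : ℕ) : WithBot ℕ∞))
    (hgen : ∀ x : X, ∃ U : (CohB1.ProjSpace N k).affineOpens, ι.base x ∈ (U : (CohB1.ProjSpace N k).Opens) ∧
      ∃ f : Fin r → Γ(CohB1.ProjSpace N k, (U : (CohB1.ProjSpace N k).Opens)), ι.ker.ideal U = Ideal.span (Set.range f))
    (C : X.Modules) (hC : ExtPow.IsExtPow r (Omega.conormal ι) C) [DCoh.HasSheafHom C] :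
    ∃ t : Coh.HH X (CohB1.tensorMod ((Scheme.Modules.pullback ι).obj (Twist.twistProjSpace N k (-((N : ℤ) + 1))))
        ((DCoh.sheafHom C).obj (Coh.structureModule X))) (N - r) →ₗ[k] k,
      ∀ F : X.Modules, Coh.IsCoh F → ∀ ψ : Coh.HH X F (N - r) →ₗ[k] k,
        ∃! φ : F ⟶ (CohB1.tensorMod ((Scheme.Modules.pullback ι).obj (Twist.twistProjSpace N k (-((N : ℤ) + 1)))) ((DCoh.sheafHom C).obj (Coh.structureModule X))), ∀ x : Coh.HH X F (N - r),
          ψ x = t (Sheaf.H.map ((SheafOfModules.toSheaf X.ringCatSheaf).map φ) (N - r) x) := by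
  haveI := Groth.Agent.Lib.ProjCoh.Coherent.isLocallyNoetherian_projSpace (n := N) (R := k)
  haveI : LocallyOfFiniteType (CohB1.ProjSpace.toSpec N k) :=
    haveI := Groth.Agent.Lib.ProjSpace.Basic.isProper_toSpec N k
    inferInstance
  have hX := Groth.Agent.Lib.ProjDualExt.Dim.topologicalKrullDim_le_of_components fun Z hZ => (heq Z hZ).le
  have hreg := fun p => Groth.Agent.Lib.WeilExt.Basic.isRegularLocalRing_stalk (CohB1.ProjSpace.toSpec N k) p
  have hregimm := Groth.Agent.Lib.FundLocal.LCI.isRegularImmersion (CohB1.ProjSpace.toSpec N k) ι hr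
    (fun Z hZ => Groth.Agent.Lib.ExtShStalk.Zero.projSpace_components N k Z hZ) hX
    (fun p => haveI := hreg p; Groth.Agent.Lib.JacCrit.FlatRegular.isCohenMacaulayLocalRing _) hgen
  obtain ⟨C', -, ⟨e⟩⟩ := Groth.Agent.Lib.TensorMod.Invertible.exists_inverse
    (Groth.Agent.Lib.FundLocal.InvHom.isInvertible_extPow ι hregimm hC)
  haveI : ModSite.HasSheafHom (O := X.sheaf) C := Groth.Agent.Lib.ModTensor.ModSite.hasSheafHom C
  haveI : ModSite.HasSheafHom (O := (CohB1.ProjSpace N k).sheaf)
      ((Scheme.Modules.pushforward ι).obj (Coh.structureModule X)) :=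
    Groth.Agent.Lib.ModTensor.ModSite.hasSheafHom _
  haveI : HasInjectiveResolutions (ModSite.Mod (CohB1.ProjSpace N k).sheaf) :=
    (inferInstance : HasInjectiveResolutions (CohB1.ProjSpace N k).Modules)
  let E := Twist.twistProjSpace N k (-((N : ℤ) + 1))
  obtain ⟨i⟩ := Groth.Agent.Lib.FundLocal.Main.nonempty_iso ι hregimm hC E
  let j : CohB1.tensorMod ((Scheme.Modules.pullback ι).obj E) ((DCoh.sheafHom C).obj (Coh.structureModule X)) ≅
      (Groth.Agent.Lib.ExtShStalk.Hom.R C).obj ((Scheme.Modules.pullback ι).obj E) :=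
    Groth.Agent.Lib.TensorMod.Basic.tensorIso (Iso.refl _)
      (Groth.Agent.Lib.FundLocal.InvHom.homIso' e _ ≪≫ Groth.Agent.Lib.TensorMod.Basic.leftUnit C') ≪≫
      (Groth.Agent.Lib.FundLocal.InvHom.homIso e _).symm
  exact Groth.Agent.S11903.result k N (N - r) (Nat.sub_le _ _) X ι hι heq _
    (by rw [Nat.sub_sub_self hr]; exact ⟨(Scheme.Modules.pushforward ι).mapIso j ≪≫ i.symm⟩)

end Groth.Agent.S11325

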