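import Groth.Statements.S11326
import Groth.Agent.Lib.ProjCoh.Duality

set_option autoImplicit false
universe u
open CategoryTheory AlgebraicGeometry
open ProjDual

namespace Groth.Agent.S11326

open Groth.Agent.Lib Groth.Agent.Lib.ProjCoh Groth.Agent.Lib.ProjCoh.Sections
open Groth.Agent.Lib.ProjCoh.Coherent

variable {r : ℕ} {A : Type u} [CommRing A]

theorem neg_eq (hr : 1 ≤ r) {e : Fin (r + 1) →₀ ℤ} (he : Top.Neg.{u} (-((r : ℤ) + 1)) e) :
    e = Top.negOne r := by
  have hsum : ∑ j, (e j + 1) = 0 := by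
    rw [Finset.sum_add_distrib, he.sum]; simp
  ext j
  have := (Finset.sum_eq_zero_iff_of_nonpos fun i _ => by
    have := he.neg (by omega) i; omega).mp hsum j (Finset.mem_univ j)
  rw [Top.negOne_apply]; omega

theorem tr_bijective (hr : 1 ≤ r) : Function.Bijective (Top.tr r A) := by
  refine ⟨fun x y h => Top.ext_res fun e he => ?_, fun a => ⟨a • Top.cl _ Top.neg_negOne, ?_⟩⟩
  · obtain rfl := neg_eq hr he
    exact h
  · rw [map_smul, Top.tr, Top.res_cl, if_pos rfl, smul_eq_mul, mul_one]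

theorem pairing (a : ℤ) (ψ : Coh.HH (CohB1.ProjSpace r A) (tw r A a) r →ₗ[A] A) :
    ∃! φ : tw r A a ⟶ tw r A (-((r : ℤ) + 1)), ∀ x, ψ x = Duality.trTw r A (Curves.LES.mapK A φ r x) := by
  obtain ⟨χ, hχ, huniq⟩ := Top.existsUnique_hom a (ψ.comp (Curves.LES.mapK A (twIso a).inv r))
  have key : ∀ (φ : TS r A a ⟶ TS r A (-((r : ℤ) + 1))) (x : Coh.HH (CohB1.ProjSpace r A) (tw r A a) r),
      Duality.trTw r A (Curves.LES.mapK A ((twIso a).hom ≫ φ ≫ (twIso _).inv) r x) =
        Top.tr r A (Curves.LES.mapK A φ r (Curves.LES.mapK A (twIso a).hom r x)) := fun φ x => by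
    rw [Duality.trTw, LinearMap.comp_apply, ← Duality.mapK_comp_apply, ← Duality.mapK_comp_apply,
      Category.assoc, Category.assoc, Iso.inv_hom_id, Category.comp_id]
  refine ⟨(twIso a).hom ≫ χ ≫ (twIso _).inv, fun x => ?_, fun φ hφ => ?_⟩
  · rw [key, ← hχ, LinearMap.comp_apply, ← Duality.mapK_comp_apply, Iso.hom_inv_id,
      Curves.LES.mapK_id]
    rfl
  · rw [← huniq ((twIso a).inv ≫ φ ≫ (twIso _).hom) fun x => ?_]
    · simp
    · rw [LinearMap.comp_apply, hφ, Duality.trTw, LinearMap.comp_apply, ← Duality.mapK_comp_apply,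
        ← Duality.mapK_comp_apply]

/-- Let A be a Noetherian ring, r ≥ 1, X = P^r_A and ω = O_X(-r-1). Then there is an A-linear
isomorphism t : H^r(X, ω) ≅ A such that for every integer n and every A-linear form ψ on H^r(X,
O_X(-n-r-1)) there is exactly one morphism of O_X-modules φ : O_X(-n-r-1) → ω with ψ = t ∘ H^r(φ).
(The published form of the pairing assertion is a perfect pairing H^0(X, O_X(n)) × H^r(X,
O_X(-n-r-1)) → H^r(X, ω) ≅ A of finitely generated free A-modules; here the first factor is written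
as Hom(O_X(-n-r-1), ω), which the pairing identifies with H^0(X, O_X(n)), and only the resulting
bijection onto the A-dual of H^r(X, O_X(-n-r-1)) is stated.) -/
theorem result (A : Type u) [CommRing A]
    [IsNoetherianRing A] (r : ℕ) (hr : 1 ≤ r) :
    ∃ t : Coh.HH (CohB1.ProjSpace r A) (Twist.twistProjSpace r A (-((r : ℤ) + 1))) r ≃ₗ[A] A,
      ∀ (n : ℤ) (ψ : Coh.HH (CohB1.ProjSpace r A) (Twist.twistProjSpace r A (-(n + r + 1))) r →ₗ[A] A),
        ∃! φ : Twist.twistProjSpace r A (-(n + r + 1)) ⟶ Twist.twistProjSpace r A (-((r : ℤ) + 1)),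
          ∀ x : Coh.HH (CohB1.ProjSpace r A) (Twist.twistProjSpace r A (-(n + r + 1))) r,
            ψ x = t (Sheaf.H.map ((SheafOfModules.toSheaf (CohB1.ProjSpace r A).ringCatSheaf).map φ) r x) := by
  refine ⟨LinearEquiv.ofBijective (Duality.trTw r A) ?_, fun n ψ => pairing _ ψ⟩
  exact (tr_bijective hr).comp (Curves.LES.isoK A (twIso _) r).bijective

end Groth.Agent.S11326
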