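import Groth.Statements.S11330
import Groth.Agent.Lib.Curves.PointIdeal

set_option autoImplicit false
universe u
open CategoryTheory CategoryTheory.Limits AlgebraicGeometry
open Curves

namespace Groth.Agent.S11330

/-- Let k be an algebraically closed field and X a curve over k (an integral scheme, proper over k, of
dimension one, with all local rings regular), and L an invertible O_X-module. Then L is generated by
its global sections (a quotient of a free O_X-module) if and only if for every closed point P of X,
with ideal sheaf I_P ⊆ O_X, dim_k H^0(X, L ⊗ I_P) = dim_k H^0(X, L) - 1. -/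
theorem result (k : Type u) [Field k] [IsAlgClosed k] (X : Scheme.{u}) [X.Over (Spec (CommRingCat.of k))]
    [IsIntegral X] [IsProper (X ↘ (Spec (CommRingCat.of k)))] (hdim : topologicalKrullDim X = 1)
    (hreg : ∀ x : X, IsRegularLocalRing (X.presheaf.stalk x)) (L : X.Modules) (hL : PicF.IsInvertible L) :
    Curv2.IsGloballyGenerated L ↔
      ∀ (P : X) (hP : IsClosed ({P} : Set X)),
        Module.finrank k (Coh.HH X (CohB1.tensorMod L (ClSub.idealMod (Scheme.IdealSheafData.vanishingIdeal ⟨{P}, hP⟩))) 0) + 1 = Module.finrank k (Coh.HH X L 0) := by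
  have hd : topologicalKrullDim X ≤ 1 := hdim.le
  rw [Groth.Agent.Lib.Curves.PointIdeal.isGloballyGenerated_iff (k := k) hd hL]
  refine forall_congr' fun P => forall_congr' fun hP => ?_
  have h1 := Groth.Agent.Lib.Curves.PointIdeal.hdim_quot_point_algClosed (k := k) hP hd
  have h2 := (Groth.Agent.Lib.Curves.PointIdeal.hdim_twist_ideal_point (k := k) hP hd hL).2
  have h3 := Groth.Agent.Lib.Curves.Euler.hdim_eq_of_iso (k := k)
    (Groth.Agent.Lib.TensorMod.Basic.comm
      (ClSub.idealMod (Groth.Agent.Lib.Curves.PointIdeal.ptI hP)) L) 0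
  rw [h1, h3] at h2
  rw [h3]
  change _ ↔ Groth.Agent.Lib.Curves.Euler.hdim k X (CohB1.tensorMod L
      (ClSub.idealMod (Groth.Agent.Lib.Curves.PointIdeal.ptI hP))) 0 + 1 =
    Groth.Agent.Lib.Curves.Euler.hdim k X L 0
  omega

end Groth.Agent.S11330
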