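import Groth.Statements.S11331
import Groth.Agent.Lib.RG57.VeryAmpleCrit
import Groth.Agent.Lib.CurveFF.LineTensor
import Groth.Agent.Lib.CurveFF.LineIso

set_option autoImplicit false
set_option linter.style.haveILetI false
universe u
open CategoryTheory CategoryTheory.Limits AlgebraicGeometry
open Curves

namespace Groth.Agent.S11331

open Groth.Agent.Lib

attribute [local instance] Curv2.stalkAlgebra

theorem result (k : Type u) [Field k] [IsAlgClosed k] (X : Scheme.{u}) [X.Over (Spec (CommRingCat.of k))]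
    [IsIntegral X] [IsProper (X ↘ (Spec (CommRingCat.of k)))] (hdim : topologicalKrullDim X = 1)
    (hreg : ∀ x : X, IsRegularLocalRing (X.presheaf.stalk x)) (L : X.Modules) (hL : PicF.IsInvertible L) :
    (∃ (n : ℕ) (i : X ⟶ CohB1.ProjSpace n k), IsClosedImmersion i ∧ i ≫ CohB1.ProjSpace.toSpec n k = (X ↘ (Spec (CommRingCat.of k))) ∧
        Nonempty ((Scheme.Modules.pullback i).obj (Twist.twistProjSpace n k 1) ≅ L)) ↔
      ∀ (P Q : X) (hP : IsClosed ({P} : Set X)) (hQ : IsClosed ({Q} : Set X)),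
        Module.finrank k (Coh.HH X (CohB1.tensorMod L (CohB1.tensorMod (ClSub.idealMod (Scheme.IdealSheafData.vanishingIdeal ⟨{P}, hP⟩)) (ClSub.idealMod (Scheme.IdealSheafData.vanishingIdeal ⟨{Q}, hQ⟩)))) 0) + 2 = Module.finrank k (Coh.HH X L 0) := by
  have h := CurveFF.curveHyp_of_regular (k := k) hdim hreg
  have hK := CurveFF.isFunctionField (k := k) h (Groth.Agent.Lib.Curves.GlobalSections.finrank_h0_structure k X)
  obtain ⟨R⟩ := CurveFF.LineDiv.nonempty_rep hL
  have htr : ∀ (x y : CurveFF.CPt X),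
      Module.finrank k (Coh.HH X (CohB1.tensorMod L (CohB1.tensorMod
        (ClSub.idealMod (Scheme.IdealSheafData.vanishingIdeal ⟨{x.1}, x.2⟩))
        (ClSub.idealMod (Scheme.IdealSheafData.vanishingIdeal ⟨{y.1}, y.2⟩)))) 0) =
      _root_.FunFld.ell (R.div h hK - Finsupp.single (CurveFF.placeOf k h x) 1 -
        Finsupp.single (CurveFF.placeOf k h y) 1) := by
    intro x y
    obtain ⟨J, hJ⟩ := CurveFF.IdealInv.exists_rep_point h hK x
    obtain ⟨J', hJ'⟩ := CurveFF.IdealInv.exists_rep_point h hK y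
    refine ((R.mul (J.mul J')).finrank_h0 h hK).trans (congrArg _root_.FunFld.ell ?_)
    rw [R.div_mul, J.div_mul, hJ, hJ']
    abel
  constructor
  · rintro ⟨n, i, hi, hr, ⟨τ⟩⟩ P Q hP hQ
    rw [htr ⟨P, hP⟩ ⟨Q, hQ⟩, R.finrank_h0 h hK]
    have h1 := RG57.VeryAmpleCrit.ell_sub_two h hK R i hr τ
      (CurveFF.placeOf k h ⟨P, hP⟩) (CurveFF.placeOf k h ⟨Q, hQ⟩)
    have h2 := CurveFF.Drop.ell_le_sub_single hK (R.div h hK) (CurveFF.placeOf k h ⟨P, hP⟩)
    have h3 := CurveFF.Drop.ell_le_sub_single hK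
      (R.div h hK - Finsupp.single (CurveFF.placeOf k h ⟨P, hP⟩) 1) (CurveFF.placeOf k h ⟨Q, hQ⟩)
    omega
  · intro hc
    set D := R.div h hK with hD
    have hv : ∀ P Q, _root_.FunFld.ell (D - Finsupp.single P 1 - Finsupp.single Q 1) + 2 = _root_.FunFld.ell D := by
      intro P Q
      obtain ⟨x, rfl⟩ := CurveFF.placeOf_surjective (k := k) h P
      obtain ⟨y, rfl⟩ := CurveFF.placeOf_surjective (k := k) h Q
      rw [← htr x y, hD, ← R.finrank_h0 h hK]
      exact hc x.1 y.1 x.2 y.2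
    have hb : ∀ P, _root_.FunFld.ell (D - Finsupp.single P 1) < _root_.FunFld.ell D := by
      intro P
      have h1 := CurveFF.Drop.ell_le_sub_single hK (D - Finsupp.single P 1) P
      have h2 := hv P P
      omega
    obtain ⟨P₀⟩ : Nonempty (_root_.FunFld.Place k X.functionField) :=
      FunFld.Riemann.nonempty_place hK
    have h2 := hv P₀ P₀
    obtain ⟨L', R', i, hR', hi, hr, ⟨τ⟩⟩ := CurveFF.DivisorEmb.exists_embedding h hK D
      (n := _root_.FunFld.ell D - 1) (by omega) (by omega) hb (fun P Q => (hv P Q).le)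
    obtain ⟨e⟩ := CurveFF.LineDiv.nonempty_iso h R' R one_ne_zero fun x => by
      rw [map_one, one_mul, ← R'.div_placeOf h hK, hR', ← R.div_placeOf h hK]
    exact ⟨_, i, hi, hr, ⟨τ ≪≫ e⟩⟩

end Groth.Agent.S11331
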