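import Groth.Statements.S11333
import Groth.Agent.Lib.Curves.FrobCurve
import Groth.Agent.Lib.RefHull.ExtHull
import Groth.Agent.H4.CurveThrough

set_option autoImplicit false
universe u
open CategoryTheory CategoryTheory.Limits AlgebraicGeometry
open Curves

attribute [local instance] Curv2.stalkAlgebra

namespace Groth.Agent.S11333

/-- Let f : X → Y be a finite morphism over k of curves over an algebraically closed field k (integral,
proper over k, of dimension one, all local rings regular), sending the generic point of X to that of
Y, such that the function field extension K(X)/K(Y) is purely inseparable. Then X and Y are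
isomorphic as schemes (the isomorphism need not be compatible with the k-structures; existence of an
isomorphism only). -/
theorem result (k : Type u) [Field k] [IsAlgClosed k] (X : Scheme.{u}) [X.Over (Spec (CommRingCat.of k))]
    [IsIntegral X] [IsProper (X ↘ (Spec (CommRingCat.of k)))] (hdimX : topologicalKrullDim X = 1)
    (hregX : ∀ x : X, IsRegularLocalRing (X.presheaf.stalk x))
    (Y : Scheme.{u}) [Y.Over (Spec (CommRingCat.of k))]
    [IsIntegral Y] [IsProper (Y ↘ (Spec (CommRingCat.of k)))] (hdimY : topologicalKrullDim Y = 1)
    (hregY : ∀ x : Y, IsRegularLocalRing (Y.presheaf.stalk x))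
    (f : X ⟶ Y) [IsFinite f] (hf : f ≫ (Y ↘ (Spec (CommRingCat.of k))) = X ↘ (Spec (CommRingCat.of k)))
    (e : f (genericPoint X) = genericPoint Y) :
    letI := ((Y.presheaf.stalkSpecializes (specializes_of_eq e) ≫ f.stalkMap (genericPoint X)).hom).toAlgebra
    IsPurelyInseparable Y.functionField X.functionField → Nonempty (X ≅ Y) := by
  letI := ((Y.presheaf.stalkSpecializes (specializes_of_eq e) ≫ f.stalkMap (genericPoint X)).hom).toAlgebra
  intro hpi
  haveI : IsLocallyNoetherian Y := LocallyOfFiniteType.isLocallyNoetherian (Y ↘ Spec (CommRingCat.of k))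
  have hnY : Pi1.IsNormalScheme Y := Groth.Agent.Lib.RefHull.ExtHull.isNormal hregY
  haveI : Smooth (X ↘ Spec (CommRingCat.of k)) := Groth.Agent.H4.CurveThrough.smooth_of_regular_closed _ fun x _ => hregX x
  obtain ⟨q, hq⟩ := ExpChar.exists k
  rcases hq with _ | ⟨hprime⟩
  · -- characteristic zero: the extension is trivial
    haveI : CharZero Y.functionField :=
      (RingHom.charZero_iff (ϕ := algebraMap k Y.functionField) (algebraMap k Y.functionField).injective).mp inferInstance
    haveI := hpi
    have hb : Function.Bijective ((Y.presheaf.stalkSpecializes (specializes_of_eq e) ≫ f.stalkMap (genericPoint X)).hom) :=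
      ⟨RingHom.injective _, IsPurelyInseparable.surjective_algebraMap_of_isSeparable Y.functionField X.functionField⟩
    have h1 : IsIso (Y.presheaf.stalkSpecializes (specializes_of_eq e) ≫ f.stalkMap (genericPoint X)) :=
      (ConcreteCategory.isIso_iff_bijective _).mpr hb
    haveI : IsIso (Y.presheaf.stalkSpecializes (specializes_of_eq e)) :=
      (Y.presheaf.stalkCongr (.of_eq e)).isIso_inv
    have h2 : IsIso (f.stalkMap (genericPoint X)) :=
      @IsIso.of_isIso_comp_left _ _ _ _ _ _ _ inferInstance h1
    haveI : IsIso f := Groth.Agent.S7830.result k (X ↘ Spec (CommRingCat.of k)) (Y ↘ Spec (CommRingCat.of k))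
      hdimX hdimY hnY f hf e h2
    exact ⟨asIso f⟩
  · rename_i hch
    haveI : Fact q.Prime := ⟨hprime⟩
    obtain ⟨r, i, -⟩ := Groth.Agent.Lib.Curves.FrobCurve.exists_iso (p := q) f e hnY hdimY hdimX hf hpi
    haveI : IsIso (Spec.map (CommRingCat.ofHom (iterateFrobenius k q r))) := by
      haveI : IsIso (CommRingCat.ofHom (iterateFrobenius k q r)) :=
        (ConcreteCategory.isIso_iff_bijective _).mpr (bijective_iterateFrobenius k q r)
      infer_instance
    exact ⟨(i ≪≫ asIso (pullback.fst _ _)).symm⟩

end Groth.Agent.S11333
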