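import Groth.Statements.S11336
import Groth.Agent.Lib.CurveFF.OmegaRep
import Groth.Agent.Lib.CurveFF.LineTensor
import Groth.Agent.Lib.Curves.Clifford
import Groth.Agent.Lib.TensorMod.TensorInv
-- import your own Groth.Agent.* helpers here

set_option autoImplicit false
universe u
open CategoryTheory CategoryTheory.Limits AlgebraicGeometry
open Curves

attribute [local instance] Curv2.stalkAlgebra

namespace Groth.Agent.S11336

/-- Let k be an algebraically closed field and X a curve over k (an integral scheme, proper over k, of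
dimension one, with all local rings regular), and L an invertible O_X-module with an inverse M (L ⊗
M ≅ O_X) such that H^0(X, L) ≠ 0 and H^0(X, Ω_{X/k} ⊗ M) ≠ 0 (L comes from an effective special
divisor D). Then dim |D| ≤ deg D / 2, i.e. 2 (dim_k H^0(X, L) - 1) ≤ deg L, with deg L = χ(L) -
χ(O_X). -/
theorem result (k : Type u) [Field k] [IsAlgClosed k] (X : Scheme.{u}) [X.Over (Spec (CommRingCat.of k))]
    [IsIntegral X] [IsProper (X ↘ (Spec (CommRingCat.of k)))] (hdim : topologicalKrullDim X = 1)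
    (hreg : ∀ x : X, IsRegularLocalRing (X.presheaf.stalk x))
    (L M : X.Modules) (hL : PicF.IsInvertible L) (hM : ClSub.IsInverseOf L M)
    (hs : Nontrivial (Coh.HH X L 0)) (hsp : Nontrivial (Coh.HH X (CohB1.tensorMod (Omega.sheaf (X ↘ (Spec (CommRingCat.of k)))) M) 0)) :
    2 * (Module.finrank k (Coh.HH X L 0) : ℤ) ≤ Curv2.deg k X L 1 + 2 := by
  have h := Groth.Agent.Lib.CurveFF.curveHyp_of_regular k hdim hreg
  have h0 := Groth.Agent.Lib.Curves.GlobalSections.finrank_h0_structure k X
  have hK := Groth.Agent.Lib.CurveFF.isFunctionField (k := k) h h0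
  obtain ⟨W, hW⟩ := Groth.Agent.Lib.CurveFF.OmegaRep.exists_rep h hK
  obtain ⟨R⟩ := Groth.Agent.Lib.CurveFF.LineDiv.nonempty_rep hL
  obtain ⟨S⟩ := Groth.Agent.Lib.CurveFF.LineDiv.nonempty_rep (L := M)
    (hM.elim fun e => Groth.Agent.Lib.TensorMod.TensorInv.isInvertible_of_tensor_iso
      (Groth.Agent.Lib.TensorMod.Basic.comm M L ≪≫ e))
  obtain ⟨f, hf, hS⟩ := Groth.Agent.Lib.CurveFF.LineDiv.exists_div_inverse h hK h0 R S hM
  haveI := (Groth.Agent.Lib.Curves.Degree.isGood (k := k) hdim.le (W.mul S).inv).fin₀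
  have h1 := (Module.finrank_pos_iff (R := k)).2 hsp
  rw [(W.mul S).finrank_h0 h hK, W.div_mul, hS, ← add_assoc, ← sub_eq_add_neg,
    Groth.Agent.Lib.FunFld.Riemann.ell_add_div hK _ hf, ← R.finrank_h1 h hK h0 hW] at h1
  exact Groth.Agent.Lib.Curves.Clifford.two_mul_hdim_zero_le k hdim.le h0 hL hs
    (Module.nontrivial_of_finrank_pos h1)

end Groth.Agent.S11336
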