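import Groth.Statements.S11337
import Groth.Agent.Lib.CurveFF.OmegaRep
import Groth.Agent.Lib.CurveFF.CliffordEq
import Groth.Agent.Lib.TensorMod.TensorInv
-- import your own Groth.Agent.* helpers here

set_option autoImplicit false
universe u
open CategoryTheory CategoryTheory.Limits AlgebraicGeometry
open Curves

namespace Groth.Agent.S11337
open Groth.Agent.Lib
attribute [local instance] Curv2.stalkAlgebra

/-- Let k be an algebraically closed field and X a curve over k (an integral scheme, proper over k, of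
dimension one, with all local rings regular), and L an invertible O_X-module with an inverse M such
that H^0(X, L) ≠ 0, H^0(X, Ω_{X/k} ⊗ M) ≠ 0, L is isomorphic neither to O_X nor to Ω_{X/k}, and 2
(dim_k H^0(X, L) - 1) = deg L. Then X is hyperelliptic and L is a multiple of the g^1_2: there is an
invertible module N of degree 2 with two k-linearly independent global sections (a g^1_2) such that
L ≅ N^{⊗ r} with r = dim_k H^0(X, L) - 1. (Only the implication from equality is stated here; the
converse, that on a hyperelliptic curve the effective special multiples of the g^1_2 attain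
equality, is not part of this statement.) -/
theorem result (k : Type u) [Field k] [IsAlgClosed k] (X : Scheme.{u}) [X.Over (Spec (CommRingCat.of k))]
    [IsIntegral X] [IsProper (X ↘ (Spec (CommRingCat.of k)))] (hdim : topologicalKrullDim X = 1)
    (hreg : ∀ x : X, IsRegularLocalRing (X.presheaf.stalk x))
    (L M : X.Modules) (hL : PicF.IsInvertible L) (hM : ClSub.IsInverseOf L M)
    (hs : Nontrivial (Coh.HH X L 0)) (hsp : Nontrivial (Coh.HH X (CohB1.tensorMod (Omega.sheaf (X ↘ (Spec (CommRingCat.of k)))) M) 0))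
    (h0 : IsEmpty (L ≅ Coh.structureModule X)) (hK : IsEmpty (L ≅ (Omega.sheaf (X ↘ (Spec (CommRingCat.of k))))))
    (heq : 2 * (Module.finrank k (Coh.HH X L 0) : ℤ) = Curv2.deg k X L 1 + 2) :
    ∃ (N : X.Modules) (s : Fin 2 → LinSer.Sect X N), LinSer.IsLinSer k X N 2 1 s ∧
      Nonempty (L ≅ CohB1.tensorPow N (Module.finrank k (Coh.HH X L 0) - 1)) := by
  have h := CurveFF.curveHyp_of_regular k hdim hreg
  have hO0 := Curves.GlobalSections.finrank_h0_structure k X
  have hKK := CurveFF.isFunctionField (k := k) h hO0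
  obtain ⟨W, hW⟩ := CurveFF.OmegaRep.exists_rep h hKK
  obtain ⟨R⟩ := CurveFF.LineDiv.nonempty_rep hL
  obtain ⟨S⟩ := CurveFF.LineDiv.nonempty_rep (L := M)
    (hM.elim fun e => TensorMod.TensorInv.isInvertible_of_tensor_iso
      (TensorMod.Basic.comm M L ≪≫ e))
  obtain ⟨f, hf, hS⟩ := CurveFF.LineDiv.exists_div_inverse h hKK hO0 R S hM
  haveI := (Curves.Degree.isGood (k := k) hdim.le (W.mul S).inv).fin₀
  haveI := (Curves.Degree.isGood (k := k) hdim.le hL).fin₀
  have hCD := (Module.finrank_pos_iff (R := k)).2 hsp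
  rw [(W.mul S).finrank_h0 h hKK, W.div_mul, hS, ← add_assoc, ← sub_eq_add_neg,
    FunFld.Riemann.ell_add_div hKK _ hf] at hCD
  have hD := (Module.finrank_pos_iff (R := k)).2 hs
  rw [R.finrank_h0 h hKK] at hD heq
  rw [R.deg_eq h hKK] at heq
  let T := CurveFF.LineDiv.trivRep (PicLoc.isInvertible_structureModule X)
  have hT : T.div (k := k) h hKK = 0 := by
    ext Q
    obtain ⟨y, rfl⟩ := CurveFF.placeOf_surjective (k := k) h Q
    rw [CurveFF.LineDiv.Rep.div_placeOf, CurveFF.LineDiv.trivRep_e]
    rfl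
  obtain ⟨N, hNd, hNl, f', hf', hDN⟩ := CurveFF.CliffordEq.exists_multiple h hKK hW hD hCD
    (fun ⟨g, hg, hge⟩ => h0.elim
      (CurveFF.LineDiv.nonempty_iso_of_div h hKK R T hg (by rw [hT, zero_add]; exact hge)).some)
    (fun ⟨g, hg, hge⟩ => hK.elim
      (CurveFF.LineDiv.nonempty_iso_of_div h hKK R W hg hge).some)
    heq
  obtain ⟨P, Q, hQ, hPd⟩ := CurveFF.LineDiv.exists_line h hKK N
  letI := Curves.GlobalSections.secModule k P
  obtain ⟨eQ⟩ := Q.nonempty_h0_equiv h hKK
  let e' := (Curves.GlobalSections.h0Linear k P).symm.trans eQ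
  haveI := FunFld.Degree.finiteDimensional_L hKK (Q.div h hKK)
  haveI : Module.Finite k (P.val.obj (Opposite.op ⊤) : Type u) := Module.Finite.equiv e'.symm
  obtain ⟨s, hs2⟩ := exists_linearIndependent_of_le_finrank (R := k)
    (M := (P.val.obj (Opposite.op ⊤) : Type u)) (n := 2) (by
      rw [e'.finrank_eq, hQ]; exact hNl)
  refine ⟨P, s, ⟨Q.inv, by rw [hPd, hNd]; rfl, fun c hc => funext fun i =>
    Fintype.linearIndependent_iff.1 hs2 c hc i⟩, ?_⟩
  rw [R.finrank_h0 h hKK]
  have hpow : ∀ m : ℕ, ∃ U : CurveFF.LineDiv.Rep (CohB1.tensorPow P m),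
      U.div h hKK = (m : ℤ) • N := by
    intro m
    induction m with
    | zero => exact ⟨T, hT.trans (by rw [Nat.cast_zero, zero_smul])⟩
    | succ m ih =>
      obtain ⟨U, hU⟩ := ih
      exact ⟨U.mul Q, (U.div_mul h hKK Q).trans
        (by rw [hU, hQ, Nat.cast_succ, add_smul, one_smul])⟩
  obtain ⟨U, hU⟩ := hpow (_root_.FunFld.ell (R.div h hKK) - 1)
  exact CurveFF.LineDiv.nonempty_iso_of_div h hKK R U hf' (by rw [hU]; exact hDN)

end Groth.Agent.S11337
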