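import Groth.Statements.S11338
import Groth.Agent.Lib.CurveFF.VeryAmpleSep
import Groth.Agent.Lib.CurveFF.DivisorEmb
import Groth.Agent.Lib.CurveFF.H1Div
-- import your own Groth.Agent.* helpers here

set_option autoImplicit false
universe u
open CategoryTheory CategoryTheory.Limits AlgebraicGeometry
open Curves

namespace Groth.Agent.S11338
open Groth.Agent.Lib
attribute [local instance] Curv2.stalkAlgebra

/-- Let k be an algebraically closed field and X a curve over k (an integral scheme, proper over k, of
dimension one, with all local rings regular), of genus g ≥ 2, and d an integer. Then X carries a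
very ample divisor of degree d that is nonspecial — an invertible module L with deg L = d, H^1(X, L)
= 0 (equivalently H^0 of ω ⊗ L^{-1} vanishes), and L isomorphic to the pullback of O(1) along a
closed immersion into some P^n_k over k — if and only if d ≥ g + 3. -/
theorem result (k : Type u) [Field k] [IsAlgClosed k] (X : Scheme.{u}) [X.Over (Spec (CommRingCat.of k))]
    [IsIntegral X] [IsProper (X ↘ (Spec (CommRingCat.of k)))] (hdim : topologicalKrullDim X = 1)
    (hreg : ∀ x : X, IsRegularLocalRing (X.presheaf.stalk x)) (hg : 2 ≤ Curv2.genus k X) (d : ℤ) :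
    (∃ L : X.Modules, PicF.IsInvertible L ∧ Curv2.deg k X L 1 = d ∧ Subsingleton (Coh.HH X L 1) ∧
      (∃ (n : ℕ) (i : X ⟶ CohB1.ProjSpace n k), IsClosedImmersion i ∧ i ≫ CohB1.ProjSpace.toSpec n k = (X ↘ (Spec (CommRingCat.of k))) ∧
        Nonempty ((Scheme.Modules.pullback i).obj (Twist.twistProjSpace n k 1) ≅ L))) ↔
      (Curv2.genus k X : ℤ) + 3 ≤ d := by
  have h := CurveFF.curveHyp_of_regular k hdim hreg
  have h0 := Curves.GlobalSections.finrank_h0_structure k X
  have hK := CurveFF.isFunctionField (k := k) h h0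
  have hge := CurveFF.genus_eq (k := k) h h0
  obtain ⟨W, hW⟩ := FunFld.Weil.exists_isCanonical hK
  constructor
  · rintro ⟨L, hL, hdeg, hH1, n, i, hi, hi', ⟨τ⟩⟩
    obtain ⟨R⟩ := CurveFF.LineDiv.nonempty_rep hL
    have h1 : _root_.FunFld.ell (W - R.div h hK) = 0 := by
      rw [← CurveFF.H1Div.finrank_h1 h hK hW R]
      exact Module.finrank_zero_of_subsingleton
    rw [R.deg_eq h hK] at hdeg
    rw [← hdeg, hge]
    exact CurveFF.PlaneImage.genus_add_three_le hK (hge ▸ hg) hW h1 fun P Q =>
      CurveFF.VeryAmpleSep.separates_of_embedding h hK R i hi' τ P Q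
  · intro hd
    obtain ⟨m, hm⟩ := Int.eq_ofNat_of_zero_le (show 0 ≤ d - ((Curv2.genus k X : ℤ) + 3) by omega)
    obtain ⟨D, hDd, hDc, hDv⟩ := CurveFF.PlaneImage.exists_nonspecial hK hW m
    have hrr := FunFld.Weil.riemann_roch hK hW D
    have hb : ∀ P, _root_.FunFld.ell (D - Finsupp.single P 1) < _root_.FunFld.ell D := fun P => by
      have := hDv P P
      have := CurveFF.Drop.ell_le_sub_single hK (D - Finsupp.single P 1) P
      omega
    obtain ⟨L, R, i, hR, hi, hi', hτ⟩ := CurveFF.DivisorEmb.exists_embedding h hK D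
      (n := _root_.FunFld.ell D - 1) (by omega) (by omega) hb hDv
    refine ⟨L, R.inv, by rw [R.deg_eq h hK, hR, hDd, ← hge]; omega, ?_, _, i, hi, hi', hτ⟩
    haveI := (Curves.Degree.isGood (k := k) h.dim.le R.inv).fin₁
    refine Module.finrank_zero_iff.1 (?_ : Module.finrank k (Coh.HH X L 1) = 0)
    rw [CurveFF.H1Div.finrank_h1 h hK hW R, hR]
    exact hDc

end Groth.Agent.S11338
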