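import Groth.Statements.S19737
import Groth.Agent.S7868
import Groth.Agent.S7929
import Groth.Agent.Lib.SurfFactor85.Seq
import Groth.Agent.Lib.SurfInt.NefInt
import Groth.Agent.Lib.Curves.NormGenus
import Mathlib.LinearAlgebra.TensorProduct.Prod
-- import your own Groth.Agent.* helpers here

set_option autoImplicit false
universe u
open CategoryTheory CategoryTheory.Limits AlgebraicGeometry TopologicalSpace
open Surf TensorProduct

namespace Groth.Agent.S19737

open Groth.Agent.Lib Groth.Agent.Lib.Snapper Groth.Agent.Lib.SurfInt TopologicalSpace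
open Groth.Agent.Lib.ModelFibre

section Pairing

variable {k : Type u} [Field k] {X : Scheme.{u}} [X.Over (Spec (CommRingCat.of k))]

/-- A representative of a class. -/
noncomputable def rep (c : PicLoc.PicSet X) : X.Modules := (PicGrp.exists_eq_cls c).choose

theorem rep_inv (c : PicLoc.PicSet X) : PicF.IsInvertible (rep c) :=
  (PicGrp.exists_eq_cls c).choose_spec.choose

theorem cls_rep (c : PicLoc.PicSet X) : c = PicGrp.cls (rep c) (rep_inv c) :=
  (PicGrp.exists_eq_cls c).choose_spec.choose_spec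

variable (k) in
/-- The intersection number of two classes. -/
noncomputable def I2 (c d : PicLoc.PicSet X) : ℤ :=
  FGA.intNum k X 2 ![rep c, rep d] (Coh.structureModule X)

theorem I2_comm (c d : PicLoc.PicSet X) : I2 k c d = I2 k d c :=
  IntNum.intNum_pair_comm _ _ _

variable [IsIntegral X] [IsNoetherian X] [IsProper (X ↘ Spec (CommRingCat.of k))]

theorem I2_cls {L M : X.Modules} (hL : PicF.IsInvertible L) (hM : PicF.IsInvertible M) :
    I2 k (PicGrp.cls L hL) (PicGrp.cls M hM) =
      FGA.intNum k X 2 ![L, M] (Coh.structureModule X) := by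
  obtain ⟨e⟩ := (PicGrp.cls_eq_cls_iff (rep_inv _) hL).1 (cls_rep (PicGrp.cls L hL)).symm
  obtain ⟨e'⟩ := (PicGrp.cls_eq_cls_iff (rep_inv _) hM).1 (cls_rep (PicGrp.cls M hM)).symm
  rw [I2, NegDef.intNum_congr_left (k := k) e, IntNum.intNum_pair_comm,
    NegDef.intNum_congr_left (k := k) e', IntNum.intNum_pair_comm]

variable [PicGrp.Law X] (hdim : topologicalKrullDim X = 2)

include hdim

theorem I2_mul_left (a b d : PicLoc.PicSet X) : I2 k (a * b) d = I2 k a d + I2 k b d := by
  obtain ⟨A, hA, rfl⟩ := PicGrp.exists_eq_cls a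
  obtain ⟨B, hB, rfl⟩ := PicGrp.exists_eq_cls b
  obtain ⟨D, hD, rfl⟩ := PicGrp.exists_eq_cls d
  rw [show PicGrp.cls A hA * PicGrp.cls B hB = PicGrp.cls _ (TensorMod.Invertible.isInvertible_tensorMod hA hB) from
    Subtype.ext (PicGrp.cls_mul_cls_val hA hB), I2_cls, I2_cls, I2_cls]
  exact IntNum.intNum_pair_tensor_left (Finite.cohFinite k X) hdim.le hA hB hD
    (Twist.isCoh_structureModule X)

/-- Intersection with a fixed class, as a homomorphism. -/
noncomputable def pairHom (d : PicLoc.PicSet X) : PicLoc.PicSet X →* Multiplicative ℤ :=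
  MonoidHom.mk' (fun c => Multiplicative.ofAdd (I2 k c d)) fun a b => by
    simp only [I2_mul_left hdim a b d, ofAdd_add]

theorem I2_zpow_left (a d : PicLoc.PicSet X) (n : ℤ) : I2 k (a ^ n) d = n * I2 k a d := by
  have h := map_zpow (pairHom (k := k) hdim d) a n
  change Multiplicative.ofAdd (I2 k (a ^ n) d) = (Multiplicative.ofAdd (I2 k a d)) ^ n at h
  rw [← ofAdd_zsmul, smul_eq_mul] at h
  exact Multiplicative.ofAdd.injective h

variable [Smooth (X ↘ Spec (CommRingCat.of k))] [Infinite k]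

omit [PicGrp.Law X] in
/-- A numerically trivial module is orthogonal to everything. -/
theorem intNum_eq_zero (hproj : ∃ H : X.Modules, CohB1.IsAmple H) {N : X.Modules}
    (hN : PicF.IsInvertible N) (hnum : Pic13.IsNumEquivZero k X N) {M : X.Modules}
    (hM : PicF.IsInvertible M) : FGA.intNum k X 2 ![N, M] (Coh.structureModule X) = 0 := by
  letI : PicGrp.Law X := TensorMod.Invertible.law X
  have hfin := Finite.cohFinite k X
  have hreg := NegDef.regular_of_smooth (k := k) (X := X)
  obtain ⟨H, hH⟩ := hproj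
  have hd := TensorMod.Invertible.isInvertible_dual hN
  have hinv : ∀ {P : X.Modules}, PicF.IsInvertible P →
      FGA.intNum k X 2 ![TensorMod.Dual.dual N, P] (Coh.structureModule X) =
        - FGA.intNum k X 2 ![N, P] (Coh.structureModule X) := fun hP =>
    IntNum.intNum_pair_inverse hfin hdim.le hN hd (TensorMod.Invertible.tensorDualIso hN) hP
      (Twist.isCoh_structureModule X)
  have hcurve : ∀ C : X.IdealSheafData, IsIntegral C.subscheme →
      topologicalKrullDim (C.support : Set X) = 1 →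
        FGA.intNum k X 2 ![_root_.ClSub.idealMod C, N] (Coh.structureModule X) = 0 ∧
        PicF.IsInvertible (_root_.ClSub.idealMod C) := fun C hC hCd => by
    have hI := Effective.isInvertible_idealMod (Curve.isEffCartier (X ↘ Spec (CommRingCat.of k))
      hdim hreg C hCd)
    letI := Surface.overSub (k := k) C
    haveI : IsLocallyNoetherian C.subscheme := LocallyOfFiniteType.isLocallyNoetherian C.subschemeι
    haveI : CompactSpace C.subscheme := QuasiCompact.compactSpace_of_compactSpace C.subschemeι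
    haveI : IsNoetherian C.subscheme := ⟨⟩
    have hYd : topologicalKrullDim C.subscheme = 1 := (Surface.dim_subscheme C).trans hCd
    have h0 := hnum C.subscheme C.subschemeι hC hYd
    refine ⟨?_, hI⟩
    rw [Surface.intNum_ideal_eq_neg_deg hfin (d := 2) hdim.le hI hN, neg_eq_zero]
    unfold Pic13.curveDeg at h0
    unfold Curv2.deg
    rw [Chi.euler_eq_eulerCharLE (d := 1) hYd.le, Chi.euler_eq_eulerCharLE (d := 1) hYd.le]
    push_cast
    rw [← h0]
    ring_nf
  have hample : ∀ {A : X.Modules}, CohB1.IsAmple A →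
      FGA.intNum k X 2 ![N, A] (Coh.structureModule X) = 0 := fun {A} hA => by
    have h1 := NefInt.nonneg_ample (k := k) hdim hN (fun C hC hCd => (hcurve C hC hCd).1.le) hA
    have h2 := NefInt.nonneg_ample (k := k) hdim hd (fun C hC hCd => le_of_eq (by
      rw [IntNum.intNum_pair_comm, hinv (hcurve C hC hCd).2, IntNum.intNum_pair_comm,
        (hcurve C hC hCd).1, neg_zero])) hA
    rw [IntNum.intNum_pair_comm A N] at h1
    rw [IntNum.intNum_pair_comm A, hinv hA.1] at h2
    omega
  haveI : QuasiSeparatedSpace X := inferInstance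
  obtain ⟨n, -, h⟩ := Ample.GG.exists_isAmple_isGloballyGenerated hH hM
  have hA := (h (n + 1) (by omega)).1
  have hP := TensorMod.Invertible.isInvertible_tensorPow hH.1 (n + 1)
  have h3 := hample hA
  rw [IntNum.intNum_pair_comm N, IntNum.intNum_pair_tensor_left hfin hdim.le hP hM hN
      (Twist.isCoh_structureModule X), IntNum.intNum_pair_comm _ N,
    IntNum.intNum_pair_comm N, Hodge.intNum_pow_left hfin hdim hH.1 hN n,
    IntNum.intNum_pair_comm H N, hample hH, mul_zero, zero_add, IntNum.intNum_pair_comm] at h3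
  exact h3

theorem toN1_eq_zero_iff (hproj : ∃ H : X.Modules, CohB1.IsAmple H) (c : PicLoc.PicSet X) :
    NumR.toN1 k X (Additive.ofMul c) = 0 ↔ ∀ d, I2 k c d = 0 := by
  constructor
  · intro h d
    have hmem : c ∈ PicGrp.subCl (Y := X) (Pic13.IsNumEquivZero k X) :=
      (QuotientGroup.eq_one_iff c).1 h
    have hle : PicGrp.subCl (Y := X) (Pic13.IsNumEquivZero k X) ≤ (pairHom (k := k) hdim d).ker := by
      refine (Subgroup.closure_le _).2 ?_
      rintro _ ⟨L, hL, hnum, rfl⟩
      obtain ⟨M, hM, rfl⟩ := PicGrp.exists_eq_cls d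
      show Multiplicative.ofAdd _ = 1
      rw [I2_cls, intNum_eq_zero hdim hproj hL hnum hM]
      rfl
    exact Multiplicative.ofAdd.injective (hle hmem)
  · intro h
    obtain ⟨L, hL, rfl⟩ := PicGrp.exists_eq_cls c
    refine NumR.cl_eq_zero hL (ConeForm.isNumEquivZero hdim hL fun M hM => ?_)
    rw [← I2_cls hL hM]
    exact h _

end Pairing

/-- An invertible module on the blow-up of a closed point of a regular surface is a pull-back twisted
by a multiple of the exceptional divisor. -/
theorem exists_decomp {X X' : Scheme.{u}} [IsIntegral X] [IsNoetherian X] [IsIntegral X'] [IsNoetherian X']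
    (hreg : ∀ y : X, IsRegularLocalRing (X.presheaf.stalk y)) (hdim : topologicalKrullDim X ≤ 2)
    (hreg' : ∀ y : X', IsRegularLocalRing (X'.presheaf.stalk y))
    (x : X) (hx : IsClosed ({x} : Set X)) (hgen : genericPoint X ≠ x) (π : X' ⟶ X)
    (hπ : BlowUp.IsBlowUp π (Scheme.IdealSheafData.vanishingIdeal ⟨{x}, hx⟩))
    [IsIntegral (BlowUp.exceptional π (Scheme.IdealSheafData.vanishingIdeal ⟨{x}, hx⟩)).subscheme]
    [PicGrp.Law X] [PicGrp.Law X'] (hπm : PicGrp.PullMul π) (c : PicLoc.PicSet X') :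
    ∃ (a : PicLoc.PicSet X) (z : ℤ), c = PicGrp.pullHom π hπm a *
      PicGrp.cls _ (ClSub.Cartier.isInvertible_idealMod hπ.1) ^ z := by
  set J := Scheme.IdealSheafData.vanishingIdeal (⟨{x}, hx⟩ : Closeds X) with hJ
  set E := BlowUp.exceptional π J with hE
  set Ω : X.Opens := ⟨{x}ᶜ, hx.isOpen_compl⟩ with hΩ
  haveI : IsIso (π ∣_ Ω) := by
    have h := Ideal.BlowUp.isIso_off_center hπ
    have e : (Scheme.IdealSheafData.vanishingIdeal ⟨{x}, hx⟩).support.compl = Ω :=
      Opens.ext (congrArg compl (Flat55.ContractionUniversal.support_vanishingIdeal_point x hx))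
    rwa [e] at h
  let G : X'.Opens := π ⁻¹ᵁ Ω
  obtain ⟨F, hF, rfl⟩ := PicGrp.exists_eq_cls c
  let g' : (Ω : Scheme.{u}) ⟶ X' := inv (π ∣_ Ω) ≫ G.ι
  haveI : Nonempty Ω := ⟨⟨genericPoint X, hgen⟩⟩
  haveI : IsIntegral (Ω : Scheme.{u}) := isIntegral_of_isOpenImmersion Ω.ι
  obtain ⟨L, hL, ⟨eL⟩⟩ := PicExtend.exists_extension Ω.ι hreg hdim
    (PicLoc.isInvertible_pullback g' hF)
  obtain ⟨M, hM, hMc⟩ := PicGrp.exists_eq_cls
    (PicGrp.cls F hF * (PicGrp.pullHom π hπm (PicGrp.cls L hL))⁻¹)
  let P := fun {A B : Scheme.{u}} [PicGrp.Law A] [PicGrp.Law B] (g : A ⟶ B) =>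
    PicGrp.pullHom g (TensorMod.Pullback.pullMul g)
  letI : PicGrp.Law (G : Scheme.{u}) := TensorMod.Invertible.law _
  have eG : Nonempty ((Scheme.Modules.pullback G.ι).obj F ≅
      (Scheme.Modules.pullback G.ι).obj ((Scheme.Modules.pullback π).obj L)) := by
    refine ⟨(Scheme.Modules.pullbackCongr (show G.ι = (π ∣_ Ω) ≫ g' from
        (IsIso.hom_inv_id_assoc _ _).symm)).app F ≪≫
      (Scheme.Modules.pullbackComp _ g').symm.app F ≪≫
      (Scheme.Modules.pullback (π ∣_ Ω)).mapIso eL.symm ≪≫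
      (Scheme.Modules.pullbackComp _ Ω.ι).app L ≪≫
      (Scheme.Modules.pullbackCongr (morphismRestrict_ι π Ω)).app L ≪≫
      (Scheme.Modules.pullbackComp _ π).symm.app L⟩
  have hGtriv : Nonempty (M.restrict G.ι ≅ Coh.structureModule (G : Scheme.{u})) := by
    have h1 : P G.ι (PicGrp.cls M hM) = 1 := by
      rw [← hMc, map_mul, map_inv, mul_inv_eq_one]
      simp only [P, PicGrp.pullHom_cls]
      exact (PicGrp.cls_eq_cls_iff _ _).2 eG
    simp only [P, PicGrp.pullHom_cls] at h1
    obtain ⟨i⟩ := (PicGrp.cls_eq_one_iff _).1 h1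
    exact ⟨(Scheme.Modules.restrictFunctorIsoPullback G.ι).app M ≪≫ i⟩
  have hG : (G : Set X') = (Set.range E.subschemeι)ᶜ := by
    rw [Scheme.IdealSheafData.range_subschemeι, hE, Scheme.IdealSheafData.support_comap,
      Closeds.coe_preimage, hJ, Scheme.IdealSheafData.coe_support_vanishingIdeal]
    rfl
  have hGne : (G : Set X').Nonempty :=
    ⟨(inv (π ∣_ Ω) ⟨genericPoint X, hgen⟩).1, (inv (π ∣_ Ω) ⟨genericPoint X, hgen⟩).2⟩
  obtain ⟨z, hz⟩ := Groth.Agent.S7929.cls_zpow (X := X') hreg' E.subschemeι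
    (by rw [Scheme.IdealSheafData.ker_subschemeι]; exact hπ.1) G hG hGne hM hGtriv
  refine ⟨PicGrp.cls L hL, z, ?_⟩
  have hI : PicGrp.cls _ (ClSub.Cartier.isInvertible_idealMod
      (show BlowUp.IsEffCartierIdeal E.subschemeι.ker by
        rw [Scheme.IdealSheafData.ker_subschemeι]; exact hπ.1)) =
      PicGrp.cls _ (ClSub.Cartier.isInvertible_idealMod hπ.1) :=
    (PicGrp.cls_eq_cls_iff _ _).2 ⟨eqToIso (by rw [Scheme.IdealSheafData.ker_subschemeι])⟩
  rw [Subsingleton.elim (Groth.Agent.S7929.picLawInst X') ‹PicGrp.Law X'›] at hz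
  rw [← hI, ← hz, ← hMc, mul_comm, inv_mul_cancel_right]


/-- With the preceding proposition: let k be an algebraically closed field of characteristic zero and X
a smooth projective surface over k (integral, proper and smooth over k, of dimension 2, with an
ample invertible module); the notes work over the complex numbers. Let x be a closed point of X and
π : X′ → X a blowing up of X in the ideal of x (characterised by its universal property), where X′
is again integral of dimension 2 with an ample invertible module and its structure morphism to Spec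
k is π followed by that of X, proper and smooth. Fix group laws on the Picard sets of X and X′ such
that pullback along π is multiplicative on classes, and let N¹(−)_ℝ = ℝ ⊗ (Pic modulo numerical
equivalence). If N¹(X)_ℝ is finite-dimensional, then N¹(X′)_ℝ is finite-dimensional and dim_ℝ
N¹(X′)_ℝ = dim_ℝ N¹(X)_ℝ + 1: the Picard number goes up by one, N¹(X′) being the direct sum of the
pullback of N¹(X) and the class of the exceptional curve. -/
theorem result (k : Type u) [Field k] [IsAlgClosed k] [CharZero k]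
    (X : Scheme.{u}) [X.Over (Spec (CommRingCat.of k))] [IsProper (X ↘ (Spec (CommRingCat.of k)))]
    [Smooth (X ↘ (Spec (CommRingCat.of k)))] [AlgebraicGeometry.IsIntegral X] (hdim : topologicalKrullDim X = 2)
    (hproj : ∃ H : X.Modules, CohB1.IsAmple H)
    (x : X) (hx : IsClosed ({x} : Set X))
    (X' : Scheme.{u}) [X'.Over (Spec (CommRingCat.of k))] (π : X' ⟶ X)
    (hover : X' ↘ (Spec (CommRingCat.of k)) = π ≫ (X ↘ (Spec (CommRingCat.of k))))
    (hπ : BlowUp.IsBlowUp π (Scheme.IdealSheafData.vanishingIdeal ⟨{x}, hx⟩))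
    [AlgebraicGeometry.IsIntegral X'] (hdim' : topologicalKrullDim X' = 2) (hproj' : ∃ H' : X'.Modules, CohB1.IsAmple H')
    [IsProper (X' ↘ (Spec (CommRingCat.of k)))] [Smooth (X' ↘ (Spec (CommRingCat.of k)))]
    [PicGrp.Law X] [PicGrp.Law X'] (hπm : PicGrp.PullMul π) [Module.Finite ℝ (NumR.N1R k X)] :
    Module.Finite ℝ (NumR.N1R k X') ∧
      Module.finrank ℝ (NumR.N1R k X') = Module.finrank ℝ (NumR.N1R k X) + 1 := by
  classical
  haveI := Lib.Curves.GlobalSections.isNoetherian_of_proper k X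
  haveI := Lib.Curves.GlobalSections.isNoetherian_of_proper k X'
  haveI : Infinite k := inferInstance
  have hreg : ∀ y : X, IsRegularLocalRing (X.presheaf.stalk y) := NegDef.regular_of_smooth (k := k)
  have hreg' : ∀ y : X', IsRegularLocalRing (X'.presheaf.stalk y) := NegDef.regular_of_smooth (k := k)
  have hdimZ : ∀ Z ∈ irreducibleComponents (X : Type u), topologicalKrullDim Z = 2 := fun Z hZ => by
    rw [irreducibleComponents_eq_singleton, Set.mem_singleton_iff] at hZ
    subst hZ
    rw [(Homeomorph.Set.univ (X : Type u)).isHomeomorph.topologicalKrullDim_eq, hdim]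
  haveI := hreg x
  have hxd : ringKrullDim (X.presheaf.stalk x) = 2 :=
    PointBlow96.stalk_dim_two (X ↘ Spec (CommRingCat.of k)) hdimZ hreg hx
  obtain ⟨-, K, hK, e, -⟩ := SurfFactor85.Seq.isExcCurve π x hx hxd hπ
  haveI : Nonempty (BlowUp.exceptional π (Scheme.IdealSheafData.vanishingIdeal ⟨{x}, hx⟩)).subscheme :=
    ⟨e.hom (genericPoint (CohB1.ProjSpace 1 K))⟩
  haveI : IsIntegral (BlowUp.exceptional π (Scheme.IdealSheafData.vanishingIdeal ⟨{x}, hx⟩)).subscheme :=
    isIntegral_of_isOpenImmersion e.inv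
  have hgen := PointBlow96.ne_genericPoint (x := x) hxd
  set q := PicGrp.cls _ (ClSub.Cartier.isInvertible_idealMod hπ.1) with hq
  have h7868 := fun {L M : X.Modules} (hL : PicF.IsInvertible L) (hM : PicF.IsInvertible M) =>
    Groth.Agent.S7868.result k X hdimZ hreg x hx X' π hπ L M hL hM
  have hover' : ‹X'.Over (Spec (CommRingCat.of k))› = ⟨π ≫ (X ↘ Spec (CommRingCat.of k))⟩ := by
    cases ‹X'.Over (Spec (CommRingCat.of k))›
    exact congrArg _ hover
  rw [← hover'] at h7868
  have pp : ∀ a b, I2 k (PicGrp.pullHom π hπm a) (PicGrp.pullHom π hπm b) = I2 k a b := fun a b => by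
    obtain ⟨L, hL, rfl⟩ := PicGrp.exists_eq_cls a
    obtain ⟨M, hM, rfl⟩ := PicGrp.exists_eq_cls b
    rw [PicGrp.pullHom_cls, PicGrp.pullHom_cls, I2_cls, I2_cls]
    exact (h7868 hL hM).1
  have pe : ∀ a, I2 k (PicGrp.pullHom π hπm a) q = 0 := fun a => by
    obtain ⟨L, hL, rfl⟩ := PicGrp.exists_eq_cls a
    rw [PicGrp.pullHom_cls, hq, I2_cls]
    exact (h7868 hL hL).2.1
  have ee : I2 k q q = -1 := by
    rw [hq, I2_cls, (h7868 (PicLoc.isInvertible_structureModule X) (PicLoc.isInvertible_structureModule X)).2.2,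
      Lib.Curves.NormGenus.finrank_residueField k X hx]
    rfl
  -- the homomorphism N¹(X) → N¹(X')
  let p : NumR.N1 k X →+ NumR.N1 k X' := MonoidHom.toAdditive
    (QuotientGroup.map (PicGrp.subCl (Y := X) (Pic13.IsNumEquivZero k X))
      (PicGrp.subCl (Y := X') (Pic13.IsNumEquivZero k X')) (PicGrp.pullHom π hπm) fun a ha => by
        refine (QuotientGroup.eq_one_iff (N := PicGrp.subCl (Y := X') (Pic13.IsNumEquivZero k X')) (PicGrp.pullHom π hπm a)).1
          ((toN1_eq_zero_iff hdim' hproj' _).2 fun d => ?_)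
        obtain ⟨b, z, rfl⟩ := exists_decomp hreg hdim.le hreg' x hx hgen π hπ hπm d
        have ha' := (toN1_eq_zero_iff (k := k) hdim hproj a).1 ((QuotientGroup.eq_one_iff _).2 ha)
        show I2 k (PicGrp.pullHom π hπm a) _ = 0
        rw [I2_comm, I2_mul_left hdim', I2_zpow_left hdim', pp, I2_comm q, pe, I2_comm, ha']
        ring)
  have hp : ∀ a, p (NumR.toN1 k X (Additive.ofMul a)) =
      NumR.toN1 k X' (Additive.ofMul (PicGrp.pullHom π hπm a)) := fun a => rfl
  let g : NumR.N1 k X × ℤ →+ NumR.N1 k X' :=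
    p.coprod (zmultiplesHom _ (NumR.toN1 k X' (Additive.ofMul q)))
  have hg : ∀ a (n : ℤ), g (NumR.toN1 k X (Additive.ofMul a), n) =
      NumR.toN1 k X' (Additive.ofMul (PicGrp.pullHom π hπm a * q ^ n)) := fun a n => by
    rw [ofMul_mul, ofMul_zpow, map_add, map_zsmul]
    rfl
  have hinj : Function.Injective g := (injective_iff_map_eq_zero g).2 fun ⟨u, n⟩ h => by
    obtain ⟨L, hL, rfl⟩ := NumR.exists_eq_cl u
    rw [← NumR.toN1_ofMul_cls, hg, toN1_eq_zero_iff hdim' hproj'] at h
    have h1 := h q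
    rw [I2_mul_left hdim', I2_zpow_left hdim', pe, ee] at h1
    have hn : n = 0 := by omega
    subst hn
    refine Prod.ext ((toN1_eq_zero_iff hdim hproj _).2 fun b => ?_) rfl
    have h2 := h (PicGrp.pullHom π hπm b)
    rwa [zpow_zero, mul_one, pp] at h2
  have hsurj : Function.Surjective g := fun v => by
    obtain ⟨F, hF, rfl⟩ := NumR.exists_eq_cl v
    obtain ⟨b, z, hb⟩ := exists_decomp hreg hdim.le hreg' x hx hgen π hπ hπm (PicGrp.cls F hF)
    exact ⟨(NumR.toN1 k X (Additive.ofMul b), z), by rw [hg, ← hb]; rfl⟩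
  let E : (NumR.N1 k X × ℤ) ≃ₗ[ℤ] NumR.N1 k X' := (AddEquiv.ofBijective g ⟨hinj, hsurj⟩).toIntLinearEquiv
  let Φ : (NumR.N1R k X × ℝ) ≃ₗ[ℝ] NumR.N1R k X' :=
    (LinearEquiv.prodCongr (LinearEquiv.refl ℝ (ℝ ⊗[ℤ] NumR.N1 k X))
        (TensorProduct.AlgebraTensorModule.rid ℤ ℝ ℝ).symm).trans
      ((TensorProduct.prodRight ℤ ℝ ℝ (NumR.N1 k X) ℤ).symm.trans (LinearEquiv.baseChange ℤ ℝ _ _ E))
  refine ⟨Module.Finite.equiv Φ, ?_⟩
  rw [← Φ.finrank_eq, Module.finrank_prod, Module.finrank_self]

end Groth.Agent.S19737
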