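import Groth.Statements.S11345
import Groth.Agent.S19737
import Groth.Agent.S15540
import Groth.Agent.Lib.ExtFilt.Lambda
import Groth.Agent.Lib.SurfRR.Regular
-- import your own Groth.Agent.* helpers here

set_option autoImplicit false
set_option linter.style.haveILetI false
universe u
open CategoryTheory CategoryTheory.Limits AlgebraicGeometry
open Surf TopologicalSpace

namespace Groth.Agent.S11345

/-- Let X be a surface over an algebraically closed field k (an integral scheme of dimension two with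
all local rings regular, admitting a closed immersion into some P^n_k over k), P a closed point of X
with ideal sheaf m_P, and π : X' → X the monoidal transformation with centre P (a blowing up of X in
m_P, characterised by its universal property), with exceptional curve E of ideal I_E = m_P · O_{X'};
let W and W' be canonical sheaves of X and X' (second exterior powers of the sheaves of
differentials), X' being again a surface of the same kind. Then K_{X'} = π^* K_X + E in Pic X', i.e.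
W' ⊗ I_E ≅ π^* W (existence of an isomorphism), and K_{X'}^2 = K_X^2 - 1, intersection numbers being
(L·M) = χ(O) - χ(L) - χ(M) + χ(L ⊗ M) (packaged as FGA.intNum). -/
theorem result (k : Type u) [Field k] [IsAlgClosed k] (X : Scheme.{u}) [X.Over (Spec (CommRingCat.of k))]
    [IsIntegral X] (hdim : topologicalKrullDim X = 2) (hreg : ∀ x : X, IsRegularLocalRing (X.presheaf.stalk x))
    (hproj : ∃ (n : ℕ) (ι : X ⟶ CohB1.ProjSpace n k), IsClosedImmersion ι ∧ ι ≫ CohB1.ProjSpace.toSpec n k = (X ↘ (Spec (CommRingCat.of k))))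
    (W : X.Modules) (hW : ExtPow.IsExtPow 2 (Omega.sheaf (X ↘ (Spec (CommRingCat.of k)))) W)
    (P : X) (hP : IsClosed ({P} : Set X))
    (X' : Scheme.{u}) (π : X' ⟶ X) (hπ : BlowUp.IsBlowUp π (Scheme.IdealSheafData.vanishingIdeal ⟨{P}, hP⟩))
    [IsIntegral X'] (hdim' : topologicalKrullDim X' = 2) (hreg' : ∀ x : X', IsRegularLocalRing (X'.presheaf.stalk x))
    (hproj' : ∃ (n : ℕ) (ι : X' ⟶ CohB1.ProjSpace n k), IsClosedImmersion ι ∧ ι ≫ CohB1.ProjSpace.toSpec n k = π ≫ (X ↘ (Spec (CommRingCat.of k))))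
    (W' : X'.Modules) (hW' : ExtPow.IsExtPow 2 (Omega.sheaf (π ≫ (X ↘ (Spec (CommRingCat.of k))))) W') :
    letI : X'.Over (Spec (CommRingCat.of k)) := ⟨π ≫ (X ↘ (Spec (CommRingCat.of k)))⟩
    Nonempty (CohB1.tensorMod W' (ClSub.idealMod (BlowUp.exceptional π (Scheme.IdealSheafData.vanishingIdeal ⟨{P}, hP⟩))) ≅
        (Scheme.Modules.pullback π).obj W) ∧
      FGA.intNum k X' 2 ![W', W'] (Coh.structureModule X') = FGA.intNum k X 2 ![W, W] (Coh.structureModule X) - 1 := by
  classical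
  letI : X'.Over (Spec (CommRingCat.of k)) := ⟨π ≫ (X ↘ (Spec (CommRingCat.of k)))⟩
  obtain ⟨n, ι, hc, hι⟩ := hproj
  obtain ⟨n', ι', hc', hι'⟩ := hproj'
  haveI := hc
  haveI := hc'
  haveI : IsProper (X ↘ Spec (CommRingCat.of k)) := by rw [← hι]; infer_instance
  haveI : IsProper (X' ↘ Spec (CommRingCat.of k)) := by
    show IsProper (π ≫ (X ↘ (Spec (CommRingCat.of k))))
    rw [← hι']; infer_instance
  haveI := Lib.Curves.GlobalSections.isNoetherian_of_proper k X
  haveI := Lib.Curves.GlobalSections.isNoetherian_of_proper k X'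
  haveI := Lib.SurfRR.Regular.smoothOfRelativeDimension_two (k := k) hdim hreg
  haveI := Lib.SurfRR.Regular.smoothOfRelativeDimension_two (k := k) hdim' hreg'
  have hWi : PicF.IsInvertible W := Lib.SurfRR.Regular.isInvertible_canonical hW
  have hW'i : PicF.IsInvertible W' := Lib.SurfRR.Regular.isInvertible_canonical (k := k) (X := X') hW'
  letI : PicGrp.Law X := Lib.TensorMod.Invertible.law X
  letI : PicGrp.Law X' := Lib.TensorMod.Invertible.law X'
  have hπm : PicGrp.PullMul π := Lib.TensorMod.Pullback.pullMul π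
  have hdimZ : ∀ Z ∈ irreducibleComponents (X : Type u), topologicalKrullDim Z = 2 := fun Z hZ => by
    rw [irreducibleComponents_eq_singleton, Set.mem_singleton_iff] at hZ
    subst hZ
    rw [(Homeomorph.Set.univ (X : Type u)).isHomeomorph.topologicalKrullDim_eq, hdim]
  haveI := hreg P
  have hxd : ringKrullDim (X.presheaf.stalk P) = 2 :=
    Lib.PointBlow96.stalk_dim_two (X ↘ Spec (CommRingCat.of k)) hdimZ hreg hP
  set J := Scheme.IdealSheafData.vanishingIdeal (⟨{P}, hP⟩ : Closeds X) with hJ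
  set E := BlowUp.exceptional π J with hE
  obtain ⟨-, K, hK, e, -⟩ := Lib.SurfFactor85.Seq.isExcCurve π P hP hxd hπ
  haveI : Nonempty E.subscheme := ⟨e.hom (genericPoint (CohB1.ProjSpace 1 K))⟩
  haveI : IsIntegral E.subscheme := isIntegral_of_isOpenImmersion e.inv
  have hgen := Lib.PointBlow96.ne_genericPoint (x := P) hxd
  set Ω : X.Opens := ⟨{P}ᶜ, hP.isOpen_compl⟩ with hΩ
  haveI : IsIso (π ∣_ Ω) := by
    have h := Lib.Ideal.BlowUp.isIso_off_center hπ
    have e : (Scheme.IdealSheafData.vanishingIdeal ⟨{P}, hP⟩).support.compl = Ω :=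
      Opens.ext (congrArg compl (Lib.Flat55.ContractionUniversal.support_vanishingIdeal_point P hP))
    rwa [e] at h
  let G : X'.Opens := π ⁻¹ᵁ Ω
  -- the two canonical modules agree off the exceptional curve
  let s := X ↘ Spec (CommRingCat.of k)
  have h1 : ExtPow.IsExtPow 2 (Omega.sheaf (G.ι ≫ π ≫ s))
      ((Scheme.Modules.pullback G.ι).obj W') :=
    Groth.Agent.S15540.result X' (Spec (CommRingCat.of k)) G _ (π ≫ s) (G.ι ≫ π ≫ s) G.ι (𝟙 _)
      (by rw [Category.comp_id]) 2 W' hW'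
  have h2 : ExtPow.IsExtPow 2 (Omega.sheaf (G.ι ≫ π ≫ s))
      ((Scheme.Modules.pullback ((π ∣_ Ω) ≫ Ω.ι)).obj W) :=
    Groth.Agent.S15540.result X (Spec (CommRingCat.of k)) G _ s (G.ι ≫ π ≫ s) ((π ∣_ Ω) ≫ Ω.ι) (𝟙 _)
      (by rw [Category.comp_id, morphismRestrict_ι]; exact Category.assoc _ _ _) 2 W hW
  obtain ⟨iG⟩ := Lib.ExtFilt.Lambda.nonempty_iso_of_isExtPow h1 h2
  let iG' : (Scheme.Modules.pullback G.ι).obj W' ≅
      (Scheme.Modules.pullback G.ι).obj ((Scheme.Modules.pullback π).obj W) :=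
    iG ≪≫ (Scheme.Modules.pullbackCongr (morphismRestrict_ι π Ω)).app W ≪≫
      (Scheme.Modules.pullbackComp _ π).symm.app W
  set w := PicGrp.pullHom π hπm (PicGrp.cls W hWi) with hw
  obtain ⟨M, hM, hMc⟩ := PicGrp.exists_eq_cls (PicGrp.cls W' hW'i * w⁻¹)
  letI : PicGrp.Law (G : Scheme.{u}) := Lib.TensorMod.Invertible.law _
  have hGtriv : Nonempty (M.restrict G.ι ≅ Coh.structureModule (G : Scheme.{u})) := by
    have h3 : PicGrp.pullHom G.ι (Lib.TensorMod.Pullback.pullMul G.ι) (PicGrp.cls M hM) = 1 := by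
      rw [← hMc, hw, map_mul, map_inv, mul_inv_eq_one]
      simp only [PicGrp.pullHom_cls]
      exact (PicGrp.cls_eq_cls_iff _ _).2 ⟨iG'⟩
    simp only [PicGrp.pullHom_cls] at h3
    obtain ⟨i⟩ := (PicGrp.cls_eq_one_iff _).1 h3
    exact ⟨(Scheme.Modules.restrictFunctorIsoPullback G.ι).app M ≪≫ i⟩
  have hG : (G : Set X') = (Set.range E.subschemeι)ᶜ := by
    rw [Scheme.IdealSheafData.range_subschemeι, hE, Scheme.IdealSheafData.support_comap,
      Closeds.coe_preimage, hJ, Scheme.IdealSheafData.coe_support_vanishingIdeal]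
    rfl
  have hGne : (G : Set X').Nonempty :=
    ⟨(inv (π ∣_ Ω) ⟨genericPoint X, hgen⟩).1, (inv (π ∣_ Ω) ⟨genericPoint X, hgen⟩).2⟩
  obtain ⟨z, hz⟩ := Groth.Agent.S7929.cls_zpow (X := X') hreg' E.subschemeι
    (by rw [Scheme.IdealSheafData.ker_subschemeι]; exact hπ.1) G hG hGne hM hGtriv
  have hI := Lib.ClSub.Cartier.isInvertible_idealMod hπ.1
  set q := PicGrp.cls _ hI with hq
  have hI' : PicGrp.cls _ (Lib.ClSub.Cartier.isInvertible_idealMod
      (show BlowUp.IsEffCartierIdeal E.subschemeι.ker by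
        rw [Scheme.IdealSheafData.ker_subschemeι]; exact hπ.1)) = q :=
    (PicGrp.cls_eq_cls_iff _ _).2 ⟨eqToIso (by rw [Scheme.IdealSheafData.ker_subschemeι])⟩
  rw [hI', ← hMc, mul_inv_eq_iff_eq_mul] at hz
  -- intersection numbers
  have h7868 := fun {L M : X.Modules} (hL : PicF.IsInvertible L) (hM : PicF.IsInvertible M) =>
    Groth.Agent.S7868.result k X hdimZ hreg P hP X' π hπ L M hL hM
  have pe : Groth.Agent.S19737.I2 k w q = 0 := by
    rw [hw, PicGrp.pullHom_cls, hq, Groth.Agent.S19737.I2_cls]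
    exact (h7868 hWi hWi).2.1
  have ee : Groth.Agent.S19737.I2 k q q = -1 := by
    rw [hq, Groth.Agent.S19737.I2_cls, (h7868 hWi hWi).2.2,
      Lib.Curves.NormGenus.finrank_residueField k X hP]
    rfl
  have hfin := Lib.Snapper.Finite.cohFinite k X'
  have hquot : FGA.eulerCharLE k X' (_root_.ClSub.quotMod E) 2 = 1 := by
    have h := Lib.PointBlow96.General.eulerCharLE_quot (k := k) hdimZ hreg hP (σ := π) rfl hπ 1 (Or.inl rfl)
    rw [pow_one, if_pos rfl, Lib.Curves.NormGenus.finrank_residueField k X hP] at h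
    simpa using h
  have hrr := Lib.SurfRR.Regular.riemannRoch (k := k) (X := X') ι' hι' hdim'.le hW' hI
  have hchi := Lib.SurfInt.Effective.chi_quot (k := k) hfin (d := 2) hdim'.le hI
  rw [Lib.Snapper.Chi.euler_eq_eulerCharLE (d := 2) hdim'.le,
    Lib.Snapper.Chi.euler_eq_eulerCharLE (d := 2) hdim'.le] at hrr
  rw [hquot] at hchi
  have hqW : Groth.Agent.S19737.I2 k q (PicGrp.cls W' hW'i) = 1 := by
    rw [hq, Groth.Agent.S19737.I2_cls] at ee
    rw [hq, Groth.Agent.S19737.I2_cls]
    omega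
  have hz1 : z = -1 := by
    rw [hz, Groth.Agent.S19737.I2_comm, Groth.Agent.S19737.I2_mul_left hdim',
      Groth.Agent.S19737.I2_zpow_left hdim', ee, pe] at hqW
    omega
  subst hz1
  refine ⟨(PicGrp.cls_eq_cls_iff (Lib.TensorMod.Invertible.isInvertible_tensorMod hW'i hI)
    (PicLoc.isInvertible_pullback π hWi)).1 ?_, ?_⟩
  · rw [← PicGrp.pullHom_cls π hπm W hWi, ← hw,
      show PicGrp.cls _ (Lib.TensorMod.Invertible.isInvertible_tensorMod hW'i hI) = PicGrp.cls W' hW'i * q from
        Subtype.ext (PicGrp.cls_mul_cls_val hW'i hI).symm, hz, zpow_neg_one, mul_right_comm, inv_mul_cancel, one_mul]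
  have pp : Groth.Agent.S19737.I2 k w w = FGA.intNum k X 2 ![W, W] (Coh.structureModule X) := by
    rw [hw, PicGrp.pullHom_cls, Groth.Agent.S19737.I2_cls]
    exact (h7868 hWi hWi).1
  rw [← Groth.Agent.S19737.I2_cls hW'i hW'i, hz, Groth.Agent.S19737.I2_mul_left hdim',
    Groth.Agent.S19737.I2_comm, Groth.Agent.S19737.I2_comm w,
    Groth.Agent.S19737.I2_mul_left hdim', Groth.Agent.S19737.I2_mul_left hdim',
    Groth.Agent.S19737.I2_zpow_left hdim', Groth.Agent.S19737.I2_zpow_left hdim', pp,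
    Groth.Agent.S19737.I2_comm q (q ^ (-1 : ℤ)), Groth.Agent.S19737.I2_zpow_left hdim',
    Groth.Agent.S19737.I2_comm w (q ^ (-1 : ℤ)), Groth.Agent.S19737.I2_zpow_left hdim',
    Groth.Agent.S19737.I2_comm q w, pe, ee]
  ring

end Groth.Agent.S11345
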