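import Groth.Statements.S18902
import Groth.Agent.H34.CohFlat0.Family
-- import your own Groth.Agent.* helpers here

set_option autoImplicit false
universe u
open CategoryTheory CategoryTheory.Limits AlgebraicGeometry
open Curves

namespace Groth.Agent.S18902

/-- Let q : P → S be a conic bundle, i.e. a smooth curve of genus 0 over S (q proper and smooth, with
geometrically connected fibres of dimension one and genus dim H¹(P_s, O) = 0). Then the canonical
map O_S → q_*O_P is an isomorphism. -/
theorem result {P S : Scheme.{u}} (q : P ⟶ S)
    [IsProper q] [Smooth q] [GeometricallyConnected q]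
    (hPdim : ∀ s : S, topologicalKrullDim ↥(q.fiber s) = 1)
    (hPgen : ∀ s : S, letI : (q.fiber s).Over (Spec (S.residueField s)) := ⟨q.fiberToSpecResidueField s⟩
      Curv2.genus (S.residueField s) (q.fiber s) = 0) :
    IsIso (ClSub.unitToPush q) := by
  haveI := Groth.Agent.H2.Rigid.geometricallyReduced_of_smooth q
  haveI : Surjective q := ⟨fun s => by
    haveI : Nonempty ↥(q.fiber s) := by
      by_contra h
      rw [not_nonempty_iff] at h
      haveI : IsEmpty (TopologicalSpace.IrreducibleCloseds ↥(q.fiber s)) :=
        ⟨fun Z => h.elim Z.isIrreducible'.nonempty.some⟩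
      have : topologicalKrullDim ↥(q.fiber s) = ⊥ := Order.krullDim_eq_bot
      rw [hPdim s] at this
      exact absurd this (by decide)
    obtain ⟨z⟩ := this
    exact ⟨_, (q.fiberHomeo s z).2⟩⟩
  exact Groth.Agent.H34.CohFlat0.isIso_unitToPush q
    (Groth.Agent.H2.Rigid.PushFlat.push_of_flat_fp q (Groth.Agent.H2.Rigid.H0.of_geometrically q))

end Groth.Agent.S18902
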