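import Groth.Statements.S11346
import Groth.Agent.H34.Ruled.Facts
import Groth.Agent.S18902
import Groth.Agent.Lib.Curves.Positivity
-- import your own Groth.Agent.* helpers here

set_option autoImplicit false
universe u
open CategoryTheory CategoryTheory.Limits AlgebraicGeometry
open Surf

namespace Groth.Agent.S11346

/-- Let π : X → C be a ruled surface over an algebraically closed field k: X a surface (integral, of
dimension two, all local rings regular, with a closed immersion into some P^n_k over k), C a curve
(integral, proper over k, of dimension one, all local rings regular), π : X → C a surjective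
k-morphism whose fibre over every closed point is isomorphic to P^1_k and which admits a section σ.
If C has genus g, then p_a(X) = -g, p_g(X) = 0 and q(X) = g; that is, dim_k H^1(X, O_X) = g = dim_k
H^1(C, O_C) and H^2(X, O_X) = 0. -/
theorem result (k : Type u) [Field k] [IsAlgClosed k] (X : Scheme.{u}) [X.Over (Spec (CommRingCat.of k))]
    [IsIntegral X] (hdim : topologicalKrullDim X = 2) (hreg : ∀ x : X, IsRegularLocalRing (X.presheaf.stalk x))
    (hproj : ∃ (n : ℕ) (ι : X ⟶ CohB1.ProjSpace n k), IsClosedImmersion ι ∧ ι ≫ CohB1.ProjSpace.toSpec n k = (X ↘ (Spec (CommRingCat.of k))))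
    (C : Scheme.{u}) [C.Over (Spec (CommRingCat.of k))]
    [IsIntegral C] [IsProper (C ↘ (Spec (CommRingCat.of k)))] (hdimC : topologicalKrullDim C = 1)
    (hregC : ∀ x : C, IsRegularLocalRing (C.presheaf.stalk x))
    (π : X ⟶ C) (hπ : π ≫ (C ↘ (Spec (CommRingCat.of k))) = (X ↘ (Spec (CommRingCat.of k)))) (hsurj : Function.Surjective π)
    (hfib : ∀ y : C, IsClosed ({y} : Set C) → Nonempty (pullback π (C.fromSpecResidueField y) ≅ CohB1.ProjSpace 1 k))
    (σ : C ⟶ X) (hσ : σ ≫ π = 𝟙 C) :
    Module.finrank k (Coh.HH X (Coh.structureModule X) 1) = Curv2.genus k C ∧ Subsingleton (Coh.HH X (Coh.structureModule X) 2) := by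
  obtain ⟨N, ι, hι, hιk⟩ := hproj
  haveI := hι
  haveI := Groth.Agent.Lib.ProjSpace.Basic.isProper_toSpec N k
  haveI : IsProper (X ↘ Spec (CommRingCat.of k)) := hιk ▸ inferInstance
  obtain ⟨hsm, hgc, hfd, hg0⟩ :=
    Groth.Agent.H34.Ruled.family_facts (k := k) hdim hdimC hregC π hπ hsurj hfib σ hσ
  haveI := hsm
  haveI := hgc
  haveI : IsProper (π ≫ (C ↘ Spec (CommRingCat.of k))) := hπ.symm ▸ inferInstance
  haveI : IsProper π := IsProper.of_comp π (C ↘ Spec (CommRingCat.of k))
  haveI := Groth.Agent.Lib.Curves.GlobalSections.noetherianSpace_of_proper k C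
  haveI : HasInjectiveResolutions X.Modules := inferInstance
  haveI hu : IsIso (ClSub.unitToPush π) := Groth.Agent.S18902.result π hfd fun b => by
    letI : (π.fiber b).Over (Spec (C.residueField b)) := ⟨π.fiberToSpecResidueField b⟩
    exact (Groth.Agent.Lib.Curves.Euler.hdim_eq_of_iso (k := C.residueField b)
      (PicLoc.pullbackStructureIso (π.fiberι b)) 1).symm.trans (hg0 b)
  have hO := Groth.Agent.Lib.TensorMod.LocFree.of_rank (Groth.Agent.Lib.TensorMod.LocFree.of_isInvertible
    (PicLoc.isInvertible_structureModule X))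
  haveI : (Coh.structureModule X).IsQuasicoherent :=
    Groth.Agent.Lib.TensorMod.QCohInv.isQCoh_of_isInvertible (PicLoc.isInvertible_structureModule X)
  have hz : ∀ i : ℕ, 0 < i → IsZero ((Coh.Rpush π i).obj (Coh.structureModule X)) := fun i hi =>
    Groth.Agent.Lib.ExchangeFP29.Main.isZero_Rpush π _
      (Groth.Agent.Lib.TensorMod.FPConv.isFP_of_isFinLocFree hO)
      (ZarCoh.Exchange.NearFibre.isFlatOver_of_isFinLocFree π hO) i fun b => by
        rcases Nat.lt_or_ge 1 i with h | h
        · haveI := Groth.Agent.H54.BCX.Main.subsingleton_fiberH (f := π) (F := Coh.structureModule X) (d := 1) b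
            (by exact_mod_cast (hfd b).le) h
          exact Module.finrank_zero_of_subsingleton
        · obtain rfl : i = 1 := by omega
          exact hg0 b
  obtain ⟨e1⟩ := Groth.Agent.H34.Ruled.nonempty_edge (A := k) π hπ (Coh.structureModule X) hz 1
  obtain ⟨e2⟩ := Groth.Agent.H34.Ruled.nonempty_edge (A := k) π hπ (Coh.structureModule X) hz 2
  refine ⟨?_, ?_⟩
  · rw [e1.finrank_eq]
    exact Groth.Agent.Lib.Curves.Euler.hdim_eq_of_iso (k := k) (asIso (ClSub.unitToPush π)).symm 1
  · haveI := Groth.Agent.Lib.Curves.Positivity.subsingleton_HH_of_two_le (X := C) hdimC.le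
      ((Scheme.Modules.pushforward π).obj (Coh.structureModule X)) 2 le_rfl
    exact e2.toEquiv.subsingleton

end Groth.Agent.S11346
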