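import Groth.Statements.S11349
import Groth.Agent.Lib.CurveFF.GenusOneInvol
import Groth.Agent.Lib.CurveFF.IdealInv
import Groth.Agent.Lib.CurveFF.Hyp
-- import your own Groth.Agent.* helpers here

set_option autoImplicit false
universe u
open CategoryTheory CategoryTheory.Limits AlgebraicGeometry
open Curves

namespace Groth.Agent.S11349
open Groth.Agent.Lib
attribute [local instance] Curv2.stalkAlgebra

/-- Take an algebraically closed field k of characteristic different from 2 and an elliptic curve X over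
k — an integral scheme, proper over k, of dimension one, all local rings regular, of genus dim_k
H^1(X, O_X) = 1 — and let P, Q be closed points of X, possibly equal. Then there is an automorphism
σ of X over k with σ² = id and σ(P) = Q such that R + σ(R) is linearly equivalent to P + Q for every
closed point R; the last condition is written on ideal sheaves of points: I_R ⊗ I_{σ(R)} ≅ I_P ⊗
I_Q. -/
theorem result (k : Type u) [Field k] [IsAlgClosed k] (X : Scheme.{u}) [X.Over (Spec (CommRingCat.of k))]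
    [IsIntegral X] [IsProper (X ↘ (Spec (CommRingCat.of k)))] (hdim : topologicalKrullDim X = 1)
    (hreg : ∀ x : X, IsRegularLocalRing (X.presheaf.stalk x)) (hchar : ringChar k ≠ 2) (hg : Curv2.genus k X = 1)
    (P Q : X) (hP : IsClosed ({P} : Set X)) (hQ : IsClosed ({Q} : Set X)) :
    ∃ σ : X ≅ X, σ.hom ≫ (X ↘ (Spec (CommRingCat.of k))) = (X ↘ (Spec (CommRingCat.of k))) ∧ σ.hom ≫ σ.hom = 𝟙 X ∧ σ.hom P = Q ∧
      ∀ (R R' : X) (hR : IsClosed ({R} : Set X)) (hR' : IsClosed ({R'} : Set X)), σ.hom R = R' →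
        Nonempty (CohB1.tensorMod (ClSub.idealMod (Scheme.IdealSheafData.vanishingIdeal ⟨{R}, hR⟩)) (ClSub.idealMod (Scheme.IdealSheafData.vanishingIdeal ⟨{R'}, hR'⟩)) ≅ CohB1.tensorMod (ClSub.idealMod (Scheme.IdealSheafData.vanishingIdeal ⟨{P}, hP⟩)) (ClSub.idealMod (Scheme.IdealSheafData.vanishingIdeal ⟨{Q}, hQ⟩))) := by
  have h := CurveFF.curveHyp_of_regular k hdim hreg
  have h0 := Curves.GlobalSections.finrank_h0_structure k X
  have hK := CurveFF.isFunctionField (k := k) h h0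
  rw [CurveFF.genus_eq h h0] at hg
  obtain ⟨σ, h1, h2, h3, -, h4⟩ := CurveFF.GenusOneInvol.exists_swap h hK hg (fun t ht =>
    CurveFF.GenusOneInvol.isSeparable_of_two_ne_zero
      (fun e => Ring.two_ne_zero hchar ((algebraMap k _).injective
        ((map_ofNat _ 2).trans (e.trans (map_zero _).symm)))) ht) ⟨P, hP⟩ ⟨Q, hQ⟩
  refine ⟨σ, h1, h2, h3, fun R R' hR hR' hRR => ?_⟩
  obtain ⟨f, hf, hfe⟩ := h4 ⟨R, hR⟩ ⟨R', hR'⟩ hRR
  obtain ⟨IP, hIP⟩ := CurveFF.IdealInv.exists_rep_point h hK ⟨P, hP⟩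
  obtain ⟨IQ, hIQ⟩ := CurveFF.IdealInv.exists_rep_point h hK ⟨Q, hQ⟩
  obtain ⟨IR, hIR⟩ := CurveFF.IdealInv.exists_rep_point h hK ⟨R, hR⟩
  obtain ⟨IR', hIR'⟩ := CurveFF.IdealInv.exists_rep_point h hK ⟨R', hR'⟩
  refine CurveFF.LineDiv.nonempty_iso_of_div h hK (IR.mul IR') (IP.mul IQ) (inv_ne_zero hf) ?_
  rw [IR.div_mul, IP.div_mul, hIP, hIQ, hIR, hIR', FunFld.Degree.div_inv hK, ← neg_add, hfe]
  abel

end Groth.Agent.S11349
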