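import Groth.Statements.S11350
import Groth.Agent.Lib.CurveFF.NondegMap
import Groth.Agent.Lib.CurveFF.CastelnuovoBound
import Groth.Agent.Lib.CurveFF.CanonicalEmb
import Groth.Agent.Lib.CurveFF.Hyp
-- import your own Groth.Agent.* helpers here

set_option autoImplicit false
universe u
open CategoryTheory CategoryTheory.Limits AlgebraicGeometry
open Curves

namespace Groth.Agent.S11350
open Groth.Agent.Lib
attribute [local instance] Curv2.stalkAlgebra

/-- Let k be an algebraically closed field and X a curve over k (integral, proper over k, of dimension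
one, all local rings regular) together with a closed immersion i : X → P^3_k over k whose image is
not contained in any plane — every nonzero global section of O(1) on P^3_k restricts to a nonzero
global section of i^* O(1) — and let d = deg i^* O(1) be its degree and g its genus. Then d ≥ 3 and
g ≤ d²/4 - d + 1 if d is even, g ≤ (d² - 1)/4 - d + 1 if d is odd; both cases read g ≤ ⌊d²/4⌋ - d +
1 (integer division below). -/
theorem result (k : Type u) [Field k] [IsAlgClosed k] (X : Scheme.{u}) [X.Over (Spec (CommRingCat.of k))]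
    [IsIntegral X] [IsProper (X ↘ (Spec (CommRingCat.of k)))] (hdim : topologicalKrullDim X = 1)
    (hreg : ∀ x : X, IsRegularLocalRing (X.presheaf.stalk x))
    (i : X ⟶ CohB1.ProjSpace 3 k) [IsClosedImmersion i] (hi : i ≫ CohB1.ProjSpace.toSpec 3 k = (X ↘ (Spec (CommRingCat.of k))))
    (hplane : ∀ s : LinSer.Sect (CohB1.ProjSpace 3 k) (Twist.twistProjSpace 3 k 1), s ≠ 0 →
      OmegaSh.pullSect i (Twist.twistProjSpace 3 k 1) ⊤ s ≠ 0) :
    3 ≤ Curv2.deg k X ((Scheme.Modules.pullback i).obj (Twist.twistProjSpace 3 k 1)) 1 ∧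
      (Curv2.genus k X : ℤ) ≤
        Curv2.deg k X ((Scheme.Modules.pullback i).obj (Twist.twistProjSpace 3 k 1)) 1 ^ 2 / 4 -
          Curv2.deg k X ((Scheme.Modules.pullback i).obj (Twist.twistProjSpace 3 k 1)) 1 + 1 := by
  classical
  have h := CurveFF.curveHyp_of_regular k hdim hreg
  have hK := CurveFF.isFunctionField (k := k) h (Curves.GlobalSections.finrank_h0_structure k X)
  have e1 : 𝟙 X ≫ i = i := Category.id_comp i
  have hnd : ∀ s : LinSer.Sect (CohB1.ProjSpace 3 k) (Twist.twistProjSpace 3 k 1), s ≠ 0 →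
      OmegaSh.pullSect (𝟙 X ≫ i) (Twist.twistProjSpace 3 k 1) ⊤ s ≠ 0 := by
    rw [e1]; exact hplane
  have hcl : IsClosedImmersion (𝟙 X ≫ i) := by rw [e1]; infer_instance
  have hr : (𝟙 X ≫ i) ≫ CohB1.ProjSpace.toSpec 3 k = X ↘ Spec (CommRingCat.of k) := by rw [e1, hi]
  rw [← e1]
  have hinv : PicF.IsInvertible (Twist.twist (CohB1.polyGrading 3 k) 1) :=
    ProjTilde.Invertible.twist_isInvertible_of_cover (fun y => by
      obtain ⟨c, hc⟩ := ProjMor.Main.cover (ProjMor.Poly.lin_mem 3 k) (ProjMor.Poly.adjoin_lin 3 k) y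
      exact ⟨c, c.2, hc⟩) 1
  obtain ⟨R⟩ := CurveFF.LineDiv.nonempty_rep (PicLoc.isInvertible_pullback (𝟙 X ≫ i) hinv)
  obtain ⟨z, D, hz, ⟨l, hl⟩, hzD, hdeg, c, hc, hDc⟩ := CurveFF.NondegMap.exists_coords_of_rep h hK
    (𝟙 X) rfl (Category.id_comp _) i hi hnd R
  have hD : 0 ≤ D := fun P => by
    have h1 := hzD l P
    rw [hl] at h1
    change P.1 (1 : X.functionField) ≤ _ at h1
    rwa [map_one, ← WithZero.exp_zero, WithZero.exp_le_exp] at h1
  have h4 : 4 ≤ _root_.FunFld.ell D := by
    haveI := FunFld.Degree.finiteDimensional_L hK D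
    have hz' := hz.map' (CurveFF.CoverField.field (𝟙 X) (Category.id_comp _) rfl).fieldRange.val.toLinearMap
      (LinearMap.ker_eq_bot.2 fun _ _ h => Subtype.ext h)
    have h := (LinearIndependent.of_comp (_root_.FunFld.L D).subtype
      (v := fun i => (⟨_, hzD i⟩ : _root_.FunFld.L D)) hz').fintype_card_le_finrank
    rwa [Fintype.card_fin] at h
  have hgen : IntermediateField.adjoin k (_root_.FunFld.L D : Set X.functionField) = ⊤ := by
    rw [eq_top_iff]
    intro f _
    refine CurveFF.Embedded.mem_of_closedImmersion R (𝟙 X ≫ i) hr (Iso.refl _) _ (fun s t => ?_) f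
    have hmem : ∀ s, R.coord (Scheme.Modules.presheaf _ |>.germ ⊤ (genericPoint X) trivial s) / c ∈
        _root_.FunFld.L D := fun s => by
      have h1 := CurveFF.CanonicalEmb.coord_germ_mem h R hK s
      rw [hDc, ← FunFld.Riemann.L_mul_iff hK _ hc, mul_div_cancel₀ _ hc]
      exact h1
    rw [← div_div_div_cancel_right₀ hc]
    exact div_mem (IntermediateField.subset_adjoin k _ (hmem s))
      (IntermediateField.subset_adjoin k _ (hmem t))
  have hmain := CurveFF.CastelnuovoBound.castelnuovo hK hD h4 hgen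
  rw [hdeg] at hmain
  rw [CurveFF.genus_eq h (Curves.GlobalSections.finrank_h0_structure k X)]
  exact hmain

end Groth.Agent.S11350
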