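import Groth.Statements.S11351
import Groth.Agent.Lib.CurveFF.GenusOneDouble
import Groth.Agent.Lib.CurveFF.DoubleInvol
import Groth.Agent.Lib.CurveFF.MapOfField
import Groth.Agent.Lib.CurveFF.Hyp
import Groth.Agent.H81.PushLocFree
-- import your own Groth.Agent.* helpers here

set_option autoImplicit false
universe u
open CategoryTheory CategoryTheory.Limits AlgebraicGeometry
open Curves

namespace Groth.Agent.S11351
open Groth.Agent.Lib
attribute [local instance] Curv2.stalkAlgebra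

/-- Take an algebraically closed field k of characteristic different from 2 and an elliptic curve X over
k (integral, proper over k, of dimension one, all local rings regular, of genus dim_k H^1(X, O_X) =
1), and let f₁, f₂ : X → P^1_k be two finite morphisms over k of degree 2 (the direct image of O_X
is locally free of rank 2). Then there are an automorphism σ of X over k and an automorphism τ of
P^1_k over k such that f₂ ∘ σ = τ ∘ f₁. -/
theorem result (k : Type u) [Field k] [IsAlgClosed k] (X : Scheme.{u}) [X.Over (Spec (CommRingCat.of k))]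
    [IsIntegral X] [IsProper (X ↘ (Spec (CommRingCat.of k)))] (hdim : topologicalKrullDim X = 1)
    (hreg : ∀ x : X, IsRegularLocalRing (X.presheaf.stalk x)) (hchar : ringChar k ≠ 2) (hg : Curv2.genus k X = 1)
    (f₁ f₂ : X ⟶ (CohB1.ProjSpace 1 k)) [IsFinite f₁] [IsFinite f₂]
    (hf₁ : f₁ ≫ CohB1.ProjSpace.toSpec 1 k = (X ↘ (Spec (CommRingCat.of k)))) (hf₂ : f₂ ≫ CohB1.ProjSpace.toSpec 1 k = (X ↘ (Spec (CommRingCat.of k))))
    (hd₁ : FlatMod.IsFinLocFreeOfRank 2 ((Scheme.Modules.pushforward f₁).obj (Coh.structureModule X)))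
    (hd₂ : FlatMod.IsFinLocFreeOfRank 2 ((Scheme.Modules.pushforward f₂).obj (Coh.structureModule X))) :
    ∃ (σ : X ≅ X) (τ : (CohB1.ProjSpace 1 k) ≅ (CohB1.ProjSpace 1 k)), σ.hom ≫ (X ↘ (Spec (CommRingCat.of k))) = (X ↘ (Spec (CommRingCat.of k))) ∧
      τ.hom ≫ CohB1.ProjSpace.toSpec 1 k = CohB1.ProjSpace.toSpec 1 k ∧ σ.hom ≫ f₂ = f₁ ≫ τ.hom := by
  have h := CurveFF.curveHyp_of_regular k hdim hreg
  have h0 := Curves.GlobalSections.finrank_h0_structure k X
  have hK := CurveFF.isFunctionField (k := k) h h0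
  rw [CurveFF.genus_eq h h0] at hg
  have h2 : (2 : k) ≠ 0 := Ring.two_ne_zero hchar
  letI : (CohB1.ProjSpace 1 k).Over (Spec (CommRingCat.of k)) := ⟨CohB1.ProjSpace.toSpec 1 k⟩
  haveI : IsProper ((CohB1.ProjSpace 1 k) ↘ Spec (CommRingCat.of k)) :=
    inferInstanceAs (IsProper (CohB1.ProjSpace.toSpec 1 k))
  haveI : Smooth ((CohB1.ProjSpace 1 k) ↘ Spec (CommRingCat.of k)) :=
    inferInstanceAs (Smooth (CohB1.ProjSpace.toSpec 1 k))
  haveI : (CohB1.ProjSpace 1 k).IsSeparated :=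
    ⟨by rw [← Limits.terminal.comp_from (CohB1.ProjSpace.toSpec 1 k)]; infer_instance⟩
  have hdP : topologicalKrullDim (CohB1.ProjSpace 1 k) = 1 := by
    rw [ProjSpace.Dim.topologicalKrullDim_projSpace 1 k, ringKrullDim_eq_zero_of_field]
    simp
  have hP := CurveFF.curveHyp_of_smooth k hdP
  let PG := genericPoint (CohB1.ProjSpace 1 k)
  -- the data of each map
  have data : ∀ (f : X ⟶ CohB1.ProjSpace 1 k) [IsFinite f]
      (hf : f ≫ CohB1.ProjSpace.toSpec 1 k = (X ↘ Spec (CommRingCat.of k)))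
      (hd : FlatMod.IsFinLocFreeOfRank 2 ((Scheme.Modules.pushforward f).obj (Coh.structureModule X))),
      ∃ (e : f (genericPoint X) = PG) (θ : (CohB1.ProjSpace 1 k).functionField →ₐ[k] X.functionField)
        (x : X.functionField), (∀ z, θ z = CurveFF.FieldExt.kMap f e z) ∧
        θ.fieldRange = IntermediateField.adjoin k ({x} : Set X.functionField) ∧
        Module.finrank (IntermediateField.adjoin k ({x} : Set X.functionField)) X.functionField = 2 := by
    intro f _ hf hd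
    have hF := (Groth.Agent.H81.PushLocFree.isFinLocFree_of_push f fun y => by
      obtain ⟨U, hU, i⟩ := hd y
      exact ⟨U, 2, hU, i⟩).2
    haveI : Flat f := hF.1
    have hr : ∀ y, f.finrank y = 2 := fun y => by
      obtain ⟨U, hU, ⟨i⟩⟩ := hd y
      exact Groth.Agent.H81.PushLocFree.finrank_eq hU i
    have e := CurveFF.DoubleCover.generic_eq f hdim
    have hx := CurveFF.DoubleInvol.finrank_coord f hf hdim hr
    have hm := CurveFF.DoubleCover.generic_mem f e 0
    let θ : (CohB1.ProjSpace 1 k).functionField →ₐ[k] X.functionField :=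
      { CurveFF.FieldExt.kMap f e with commutes' := CurveFF.AutoMap.kMap_const f hf e }
    refine ⟨e, θ, CurveFF.DoubleCover.coord f 0 hm, fun z => rfl, ?_, hx⟩
    haveI : FiniteDimensional (IntermediateField.adjoin k
        ({CurveFF.DoubleCover.coord f 0 hm} : Set X.functionField)) X.functionField :=
      Module.finite_of_finrank_eq_succ hx
    have hmU : PG ∈ Groth.Agent.H34.SplitP1.U k 0 := by
      have hm' : f (genericPoint X) ∈ Groth.Agent.H34.SplitP1.U k 0 := hm
      rwa [e] at hm'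
    have hmem : CurveFF.DoubleCover.coord f 0 hm ∈ θ.fieldRange :=
      ⟨(CohB1.ProjSpace 1 k).presheaf.germ (Groth.Agent.H34.SplitP1.U k 0) PG hmU
        (Groth.Agent.H34.SplitP1.φ k 0 Polynomial.X), CurveFF.FieldExt.kMap_germ f e _ hmU hm _⟩
    refine (IntermediateField.eq_of_le_of_finrank_eq' (F := IntermediateField.adjoin k _)
      (IntermediateField.adjoin_simple_le_iff.2 hmem) (hx.trans ?_)).symm
    have h3 := (CurveFF.FieldExt.finrank_eq f e).1
    rw [← CurveFF.MapOfField.finrank_eq f e PG, hr] at h3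
    refine h3.symm.trans ?_
    letI := (CurveFF.FieldExt.kMap f e).toAlgebra
    exact Algebra.finrank_eq_of_equiv_equiv (AlgEquiv.ofInjectiveField θ).toRingEquiv
      (RingEquiv.refl X.functionField) (RingHom.ext fun _ => rfl)
  obtain ⟨e₁, θ₁, x₁, hθ₁, hr₁, hx₁⟩ := data f₁ hf₁ hd₁
  obtain ⟨e₂, θ₂, x₂, hθ₂, hr₂, hx₂⟩ := data f₂ hf₂ hd₂
  obtain ⟨σ, hσ, hσσ, e, hiff⟩ := CurveFF.GenusOneDouble.exists_conj h hK hg h2 hx₁ hx₂
  let ψ := CurveFF.AutoMap.autAlg σ.hom hσ hσσ
  have hmap : θ₂.fieldRange.map ψ.toAlgHom = θ₁.fieldRange := by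
    ext z
    rw [hr₁, hr₂]
    refine ⟨fun ⟨w, hw, hwz⟩ => hwz ▸ (hiff w).1 hw, fun hz => ⟨ψ z, (hiff _).2 ?_,
      CurveFF.AutoMap.autAlg_autAlg σ.hom hσ hσσ z⟩⟩
    show ψ (ψ z) ∈ _
    rwa [CurveFF.AutoMap.autAlg_autAlg σ.hom hσ hσσ z]
  let θ : (CohB1.ProjSpace 1 k).functionField ≃ₐ[k] (CohB1.ProjSpace 1 k).functionField :=
    (((AlgEquiv.ofInjectiveField θ₂).trans (θ₂.fieldRange.intermediateFieldMap ψ)).trans
      (IntermediateField.equivOfEq hmap)).trans (AlgEquiv.ofInjectiveField θ₁).symm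
  have hθ : ∀ z, θ₁ (θ z) = ψ (θ₂ z) := fun z =>
    congrArg Subtype.val ((AlgEquiv.ofInjectiveField θ₁).apply_symm_apply
      (IntermediateField.equivOfEq hmap
        ((θ₂.fieldRange.intermediateFieldMap ψ) (AlgEquiv.ofInjectiveField θ₂ z))))
  obtain ⟨τ, hτ, eτ, heτ⟩ := CurveFF.MapOfField.exists_iso hP hP θ
  have ea : (σ.hom ≫ f₂) (genericPoint X) = PG := by rw [Scheme.Hom.comp_apply, e, e₂]
  have eb : (f₁ ≫ τ.hom) (genericPoint X) = PG := by rw [Scheme.Hom.comp_apply, e₁, eτ]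
  refine ⟨σ, τ, hσ, hτ, CurveFF.AutoMap.ext_of_kMap ea eb fun z => ?_⟩
  rw [CurveFF.AutoMap.kMap_comp σ.hom f₂ e e₂ ea, CurveFF.AutoMap.kMap_comp f₁ τ.hom e₁ eτ eb,
    heτ, ← hθ₁, hθ, ← hθ₂]
  exact (CurveFF.AutoMap.autAlg_apply σ.hom hσ hσσ _).symm

end Groth.Agent.S11351
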