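import Groth.Statements.S11353
import Groth.Agent.Lib.Curves.Positivity
import Groth.Agent.Lib.Curves.Clifford
import Groth.Agent.Lib.Curves.Degree
-- import your own Groth.Agent.* helpers here

set_option autoImplicit false
universe u
open CategoryTheory CategoryTheory.Limits AlgebraicGeometry
open Curves

namespace Groth.Agent.S11353
open Groth.Agent.Lib

/-- Let C be a curve over an algebraically closed field k (integral, proper over k, of dimension one,
all local rings regular) and E a decomposable locally free sheaf of rank 2 — E ≅ L₁ ⊕ L₂ with L₁, L₂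
invertible — which is normalized: H^0(C, E) ≠ 0 while H^0(C, E ⊗ M) = 0 for every invertible M of
negative degree. Then E ≅ O_C ⊕ L for an invertible L with deg L ≤ 0; in particular e = -deg E ≥ 0. -/
theorem result (k : Type u) [Field k] [IsAlgClosed k] (C : Scheme.{u}) [C.Over (Spec (CommRingCat.of k))]
    [IsIntegral C] [IsProper (C ↘ (Spec (CommRingCat.of k)))] (hdimC : topologicalKrullDim C = 1)
    (hregC : ∀ x : C, IsRegularLocalRing (C.presheaf.stalk x))
    (E L₁ L₂ : C.Modules) (hL₁ : PicF.IsInvertible L₁) (hL₂ : PicF.IsInvertible L₂) (hE : Nonempty (E ≅ L₁ ⊞ L₂))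
    (hn0 : Nontrivial (Coh.HH C E 0))
    (hneg : ∀ M : C.Modules, PicF.IsInvertible M → Curv2.deg k C M 1 < 0 → Subsingleton (Coh.HH C (CohB1.tensorMod E M) 0)) :
    ∃ L : C.Modules, PicF.IsInvertible L ∧ Curv2.deg k C L 1 ≤ 0 ∧ Nonempty (E ≅ Coh.structureModule C ⊞ L) := by
  obtain ⟨e⟩ := hE
  have hd := hdimC.le
  haveI := Curves.GlobalSections.noetherianSpace_of_proper k C
  have h0 := Curves.GlobalSections.finrank_h0_structure k C
  have gO := Curves.Degree.isGood_structureModule (k := k) hd (X := C)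
  -- a retract of `E` has nonpositive degree
  have hdeg : ∀ {L : C.Modules}, PicF.IsInvertible L → ∀ (s : L ⟶ E) (r : E ⟶ L), s ≫ r = 𝟙 L →
      Curv2.deg k C L 1 ≤ 0 := by
    intro L hL s r hsr
    by_contra hlt
    push Not at hlt
    obtain ⟨M, hM, ⟨eM⟩⟩ := TensorMod.Invertible.exists_inverse hL
    have hdM := Curves.Degree.deg_tensor (k := k) hd hL hM
    first
    | rw [Curves.Euler.deg_eq_of_iso eM, Curves.Degree.deg_structureModule] at hdM
    | rw [Curves.Euler.deg_eq_of_iso ((TensorMod.Basic.comm L M) ≪≫ eM),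
        Curves.Degree.deg_structureModule] at hdM
    haveI := hneg M hM (by omega)
    haveI : Subsingleton (Coh.HH C (CohB1.tensorMod L M) 0) := by
      refine (Function.LeftInverse.injective (g := Curves.LES.mapK k (TensorMod.Basic.tmap r (𝟙 M)) 0)
        (f := Curves.LES.mapK k (TensorMod.Basic.tmap s (𝟙 M)) 0) fun x => ?_).subsingleton
      rw [← LinearMap.comp_apply, ← Curves.LES.mapK_comp, ← TensorMod.Basic.tmap_comp, hsr,
        Category.id_comp, TensorMod.Basic.tmap_id, Curves.LES.mapK_id, LinearMap.id_apply]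
    have h1 : Module.finrank k (Coh.HH C (CohB1.tensorMod L M) 0) = 0 :=
      Module.finrank_zero_of_subsingleton
    first
    | (have h2 := Curves.Euler.hdim_eq_of_iso (k := k) eM 0
       change Module.finrank k _ = Module.finrank k _ at h2
       omega)
    | (have h2 := Curves.Euler.hdim_eq_of_iso (k := k) ((TensorMod.Basic.comm L M) ≪≫ eM) 0
       change Module.finrank k _ = Module.finrank k _ at h2
       omega)
  have hd1 := hdeg hL₁ (biprod.inl ≫ e.inv) (e.hom ≫ biprod.fst) (by simp)
  have hd2 := hdeg hL₂ (biprod.inr ≫ e.inv) (e.hom ≫ biprod.snd) (by simp)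
  have hone : Nontrivial (Coh.HH C L₁ 0) ∨ Nontrivial (Coh.HH C L₂ 0) := by
    by_contra hc
    rw [not_or, not_nontrivial_iff_subsingleton, not_nontrivial_iff_subsingleton] at hc
    haveI := hc.1
    haveI := hc.2
    refine not_subsingleton_iff_nontrivial.2 hn0 ⟨fun x y => ?_⟩
    have hid : 𝟙 E = (e.hom ≫ biprod.fst) ≫ (biprod.inl ≫ e.inv) +
        (e.hom ≫ biprod.snd) ≫ (biprod.inr ≫ e.inv) := by
      simp only [Category.assoc]
      rw [← Preadditive.comp_add, ← Category.assoc biprod.fst, ← Category.assoc biprod.snd,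
        ← Preadditive.add_comp, biprod.total, Category.id_comp, Iso.hom_inv_id]
    have hz : ∀ z : Coh.HH C E 0, z = 0 := fun z => by
      have h1 := congrArg (fun φ => Curves.LES.mapK k φ 0 z) hid
      simp only [Curves.Clifford.mapK_add, Curves.LES.mapK_id, LinearMap.id_apply,
        Curves.LES.mapK_comp, LinearMap.comp_apply, LinearMap.add_apply] at h1
      rw [h1, Subsingleton.elim (Curves.LES.mapK k biprod.fst 0 _) 0,
        Subsingleton.elim (Curves.LES.mapK k biprod.snd 0 _) 0]
      simp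
    rw [hz x, hz y]
  rcases hone with hn | hn
  · have g1 := Curves.Degree.isGood (k := k) hd hL₁
    obtain ⟨i⟩ := Curves.Positivity.nonempty_iso_of_deg_eq_zero hd hL₁ gO g1 hn
      (le_antisymm hd1 (Curves.Positivity.deg_nonneg_of_nontrivial hd hL₁ gO g1 hn))
    exact ⟨L₂, hL₂, hd2, ⟨e ≪≫ biprod.mapIso i (Iso.refl _)⟩⟩
  · have g2 := Curves.Degree.isGood (k := k) hd hL₂
    obtain ⟨i⟩ := Curves.Positivity.nonempty_iso_of_deg_eq_zero hd hL₂ gO g2 hn
      (le_antisymm hd2 (Curves.Positivity.deg_nonneg_of_nontrivial hd hL₂ gO g2 hn))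
    exact ⟨L₁, hL₁, hd1, ⟨e ≪≫ biprod.braiding L₁ L₂ ≪≫ biprod.mapIso i (Iso.refl _)⟩⟩

end Groth.Agent.S11353
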