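import Groth.Statements.S11355
import Groth.Agent.Lib.CurveFF.LineExist
import Groth.Agent.Lib.CurveFF.PencilUnique
import Groth.Agent.Lib.CurveFF.Genus
-- import your own Groth.Agent.* helpers here

set_option autoImplicit false
universe u
open CategoryTheory CategoryTheory.Limits AlgebraicGeometry
open Curves

attribute [local instance] Curv2.stalkAlgebra

namespace Groth.Agent.S11355

/-- Let k be an algebraically closed field and X a curve over k (an integral scheme, proper over k, of
dimension one, with all local rings regular), of genus g ≥ 2. If X is hyperelliptic its g^1_2 is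
unique: for any two linear series (M, s), (M', s') of degree 2 and dimension 1 on X (invertible
modules of degree 2, each with two k-linearly independent global sections), M ≅ M' (existence of an
isomorphism; for g ≥ 2 such a module has exactly a 2-dimensional space of sections, so the linear
series coincide). -/
theorem result (k : Type u) [Field k] [IsAlgClosed k] (X : Scheme.{u}) [X.Over (Spec (CommRingCat.of k))]
    [IsIntegral X] [IsProper (X ↘ (Spec (CommRingCat.of k)))] (hdim : topologicalKrullDim X = 1)
    (hreg : ∀ x : X, IsRegularLocalRing (X.presheaf.stalk x)) (hg : 2 ≤ Curv2.genus k X)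
    (M : X.Modules) (s : Fin 2 → LinSer.Sect X M) (hM : LinSer.IsLinSer k X M 2 1 s)
    (M' : X.Modules) (s' : Fin 2 → LinSer.Sect X M') (hM' : LinSer.IsLinSer k X M' 2 1 s') :
    Nonempty (M ≅ M') := by
  have h := Groth.Agent.Lib.CurveFF.curveHyp_of_regular k hdim hreg
  have h0 := Groth.Agent.Lib.Curves.GlobalSections.finrank_h0_structure k X
  have hK := Groth.Agent.Lib.CurveFF.isFunctionField (k := k) h h0
  rw [Groth.Agent.Lib.CurveFF.genus_eq h h0] at hg
  have key : ∀ {N : X.Modules} {t : Fin 2 → LinSer.Sect X N}, LinSer.IsLinSer k X N 2 1 t →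
      ∀ R : Groth.Agent.Lib.CurveFF.LineDiv.Rep N,
        (R.div h hK).deg = 2 ∧ 2 ≤ _root_.FunFld.ell (R.div h hK) := by
    intro N t ht R
    refine ⟨(R.deg_eq h hK).symm.trans ht.2.1, ?_⟩
    letI := Groth.Agent.Lib.Curves.GlobalSections.secModule k N
    have hli : LinearIndependent k t := Fintype.linearIndependent_iff.2 fun c hc i =>
      congrFun (ht.2.2 c hc) i
    obtain ⟨e⟩ := R.nonempty_h0_equiv h hK
    let e' := (Groth.Agent.Lib.Curves.GlobalSections.h0Linear k N).symm.trans e
    haveI := Groth.Agent.Lib.FunFld.Degree.finiteDimensional_L hK (R.div h hK)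
    haveI : Module.Finite k (N.val.obj (Opposite.op ⊤) : Type u) := Module.Finite.equiv e'.symm
    have h2 := hli.fintype_card_le_finrank
    rwa [Fintype.card_fin, e'.finrank_eq] at h2
  obtain ⟨R⟩ := Groth.Agent.Lib.CurveFF.LineDiv.nonempty_rep hM.1
  obtain ⟨S⟩ := Groth.Agent.Lib.CurveFF.LineDiv.nonempty_rep hM'.1
  obtain ⟨f, hf, hfe⟩ := Groth.Agent.Lib.CurveFF.Pencil.exists_div_of_pencils hK hg
    (key hM R).1 (key hM R).2 (key hM' S).1 (key hM' S).2
  exact Groth.Agent.Lib.CurveFF.LineDiv.nonempty_iso_of_div h hK R S hf hfe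

end Groth.Agent.S11355
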