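import Groth.Statements.S11358
import Groth.Agent.H68.CohenLift
import Groth.Agent.Lib.Goren.LCI
import Groth.Agent.H20.CMRegular
import Groth.Agent.Lib.Synt92.FibreSeq
import Groth.Agent.Lib.Goren.Flat
import Groth.Agent.Lib.Flat55.Presented
import Mathlib

set_option autoImplicit false
set_option linter.style.haveILetI false
universe u
open CAlg
open scoped TensorProduct

namespace Groth.Agent.S11358

open IsLocalRing RingTheory.Sequence

theorem core {P Q R S : Type u} [CommRing P] [CommRing Q] [IsRegularLocalRing P] [IsRegularLocalRing Q]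
    [CommRing R] [CommRing S] [IsArtinianRing R] [IsLocalRing R] [IsArtinianRing S] [IsLocalRing S]
    [Algebra R S] [IsLocalHom (algebraMap R S)]
    (ρ : P →+* R) (σ : Q →+* S) (τ : P →+* Q) (hρ : Function.Surjective ρ)
    (hσ : Function.Surjective σ) (hcomp : σ.comp τ = (algebraMap R S).comp ρ) (hτ : τ.Flat)
    (hfib : IsRegularLocalRing (Q ⧸ (maximalIdeal P).map τ)) :
    ∃ (R' : Type u) (_ : CommRing R') (_ : Algebra R R'), IsArtinianRing R' ∧ IsLocalRing R' ∧
      Module.Flat R R' ∧ IsLocalHom (algebraMap R R') ∧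
      LocCoh.IsGorensteinLocalRing (R' ⧸ (maximalIdeal R).map (algebraMap R R')) ∧
      ∃ g : R' →ₐ[R] S, Function.Surjective g := by
  classical
  haveI : IsLocalHom σ := IsLocalHom.of_surjective σ hσ
  haveI : IsLocalHom ρ := IsLocalHom.of_surjective ρ hρ
  let I : Ideal Q := (RingHom.ker ρ).map τ
  have hI : I ≤ RingHom.ker σ := by
    rw [Ideal.map_le_iff_le_comap]
    intro x hx
    rw [Ideal.mem_comap, RingHom.mem_ker, ← RingHom.comp_apply, hcomp, RingHom.comp_apply,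
      RingHom.mem_ker.1 hx, map_zero]
  let σ₁ : Q ⧸ I →+* S := Ideal.Quotient.lift I σ hI
  have hσ₁ : Function.Surjective σ₁ := Ideal.Quotient.lift_surjective_of_surjective I hI hσ
  haveI : Nontrivial (Q ⧸ I) := hσ₁.nontrivial
  haveI : IsLocalRing (Q ⧸ I) := IsLocalRing.of_surjective' _ Ideal.Quotient.mk_surjective
  haveI : IsLocalHom σ₁ := IsLocalHom.of_surjective σ₁ hσ₁
  let e : (P ⧸ RingHom.ker ρ) ≃+* R := RingHom.quotientKerEquivOfSurjective hρ
  let τ₁ : R →+* Q ⧸ I := (Ideal.quotientMap I τ Ideal.le_comap_map).comp e.symm.toRingHom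
  have hτρ : ∀ x, τ₁ (ρ x) = Ideal.Quotient.mk I (τ x) := by
    intro x
    have h : e.symm (ρ x) = Ideal.Quotient.mk _ x := by
      apply e.injective
      rw [e.apply_symm_apply]
      rfl
    show Ideal.quotientMap I τ Ideal.le_comap_map (e.symm (ρ x)) = _
    rw [h]
    exact Ideal.quotientMap_mk
  have hflat : τ₁.Flat := (RingHom.Flat.of_bijective e.symm.bijective).comp
    (Groth.Agent.Lib.Flat55.Presented.quotient_flat τ hτ (RingHom.ker ρ))
  letI : Algebra R (Q ⧸ I) := τ₁.toAlgebra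
  haveI : Module.Flat R (Q ⧸ I) := hflat
  have hσalg : ∀ r, σ₁ (algebraMap R (Q ⧸ I) r) = algebraMap R S r := by
    intro r
    obtain ⟨x, rfl⟩ := hρ r
    show σ₁ (τ₁ (ρ x)) = _
    rw [hτρ]
    exact RingHom.congr_fun hcomp x
  haveI : IsLocalHom (algebraMap R (Q ⧸ I)) := ⟨fun r hr => by
    have h := hr.map σ₁
    rw [hσalg] at h
    exact (isUnit_map_iff (algebraMap R S) r).1 h⟩
  have hmax : (maximalIdeal R).map (algebraMap R (Q ⧸ I)) =
      ((maximalIdeal P).map τ).map (Ideal.Quotient.mk I) := by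
    rw [← IsLocalRing.map_maximalIdeal_of_surjective ρ hρ, Ideal.map_map, Ideal.map_map]
    congr 1
    exact RingHom.ext hτρ
  have hle : I ≤ (maximalIdeal P).map τ :=
    Ideal.map_mono (IsLocalRing.le_maximalIdeal (RingHom.ker_ne_top ρ))
  let M : Ideal (Q ⧸ I) := (maximalIdeal R).map (algebraMap R (Q ⧸ I))
  let eF : ((Q ⧸ I) ⧸ M) ≃+* (Q ⧸ (maximalIdeal P).map τ) :=
    (Ideal.quotEquivOfEq hmax).trans (DoubleQuot.quotQuotEquivQuotOfLE hle)
  haveI := hfib
  haveI : IsRegularLocalRing ((Q ⧸ I) ⧸ M) := IsRegularLocalRing.of_ringEquiv eF.symm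
  haveI := Groth.Agent.Lib.Goren.Basic.isGorensteinLocalRing_of_isRegular ((Q ⧸ I) ⧸ M)
  haveI : LocCoh.IsCohenMacaulayLocalRing ((Q ⧸ I) ⧸ M) := by
    obtain ⟨k, hk⟩ := LocCoh.IsGorensteinLocalRing.exists_hasInjectiveDimensionLT
      (A := (Q ⧸ I) ⧸ M)
    obtain ⟨-, -, -, hCM, -⟩ := Groth.Agent.Lib.Goren.Basic.exists_dim hk
    exact hCM
  haveI : IsLocalHom (Ideal.Quotient.mk M) := IsLocalHom.of_surjective _ Ideal.Quotient.mk_surjective
  -- lift a regular system of parameters of the fibre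
  obtain ⟨rs, hrs, hlen⟩ : ∃ rs : List ((Q ⧸ I) ⧸ M),
      Ideal.ofList rs = maximalIdeal ((Q ⧸ I) ⧸ M) ∧
        rs.length = (maximalIdeal ((Q ⧸ I) ⧸ M)).spanFinrank := by
    have hfg : (maximalIdeal ((Q ⧸ I) ⧸ M)).FG := IsNoetherian.noetherian _
    refine ⟨(Submodule.FG.finite_generators hfg).toFinset.toList, ?_, ?_⟩
    · rw [Ideal.ofList]
      simp [Ideal.span, Submodule.span_generators]
    · rw [Finset.length_toList, ← Set.ncard_eq_toFinset_card _ (Submodule.FG.finite_generators hfg),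
        Submodule.FG.generators_ncard hfg]
  choose lift hlift using (Ideal.Quotient.mk_surjective : Function.Surjective (Ideal.Quotient.mk M))
  let xs : List (Q ⧸ I) := rs.map lift
  have hxs : xs.map (Ideal.Quotient.mk M) = rs := by
    simp only [xs, List.map_map]
    conv_rhs => rw [← List.map_id rs]
    exact List.map_congr_left fun a _ => hlift a
  have hxm : ∀ x ∈ xs, x ∈ maximalIdeal (Q ⧸ I) := by
    intro x hx
    have h : Ideal.Quotient.mk M x ∈ maximalIdeal ((Q ⧸ I) ⧸ M) := by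
      rw [← hrs]
      exact Ideal.subset_span (hxs ▸ List.mem_map.2 ⟨x, hx, rfl⟩)
    rw [mem_maximalIdeal] at h ⊢
    exact fun hu => h (hu.map _)
  obtain ⟨N, hN⟩ : ∃ N, maximalIdeal S ^ N = ⊥ := by
    obtain ⟨N, hN⟩ := IsArtinianRing.isNilpotent_jacobson_bot (R := S)
    exact ⟨N, by rw [← IsLocalRing.jacobson_eq_maximalIdeal ⊥ bot_ne_top]; exact hN⟩
  let ys : List (Q ⧸ I) := xs.map (· ^ (N + 1))
  have hym : ∀ y ∈ ys, y ∈ maximalIdeal (Q ⧸ I) := by
    intro y hy
    obtain ⟨x, hx, rfl⟩ := List.mem_map.1 hy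
    exact Ideal.pow_mem_of_mem _ (hxm x hx) _ (Nat.succ_pos N)
  let zs : List ((Q ⧸ I) ⧸ M) := ys.map (Ideal.Quotient.mk M)
  have hzm : ∀ z ∈ zs, z ∈ maximalIdeal ((Q ⧸ I) ⧸ M) := by
    intro z hz
    obtain ⟨y, hy, rfl⟩ := List.mem_map.1 hz
    exact map_nonunit _ y (hym y hy)
  have hM : M ≤ maximalIdeal (Q ⧸ I) := IsLocalRing.map_maximalIdeal_le _
  -- every prime containing `M` and the powers is maximal
  have hprime : ∀ q : Ideal (Q ⧸ I), q.IsPrime → Ideal.ofList ys ≤ q → q = maximalIdeal (Q ⧸ I) := by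
    intro q hq hqy
    refine le_antisymm (IsLocalRing.le_maximalIdeal hq.ne_top) ?_
    have hMq : M ≤ q := by
      obtain ⟨k, hk⟩ := IsArtinianRing.isNilpotent_jacobson_bot (R := R)
      rw [IsLocalRing.jacobson_eq_maximalIdeal ⊥ bot_ne_top] at hk
      refine hq.le_of_pow_le (n := k) ?_
      rw [← Ideal.map_pow, hk, Ideal.zero_eq_bot, Ideal.map_bot]
      exact bot_le
    intro a ha
    have h : Ideal.Quotient.mk M a ∈ (Ideal.ofList xs).map (Ideal.Quotient.mk M) := by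
      rw [Ideal.map_ofList, hxs, hrs]
      exact map_nonunit _ a ha
    rw [← Ideal.mem_comap, Ideal.comap_map_of_surjective _ Ideal.Quotient.mk_surjective] at h
    refine SetLike.le_def.1 (sup_le ?_ ?_) h
    · refine Ideal.span_le.2 fun x hx => hq.mem_of_pow_mem (N + 1) (hqy ?_)
      exact Ideal.subset_span (List.mem_map.2 ⟨x, hx, rfl⟩)
    · rw [← RingHom.ker_eq_comap_bot, Ideal.mk_ker]
      exact hMq
  have hdim0 : Ring.KrullDimLE 0 (((Q ⧸ I) ⧸ M) ⧸ Ideal.ofList zs) := by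
    refine Ring.KrullDimLE.mk₀ fun p hp => ?_
    let π : (Q ⧸ I) →+* (((Q ⧸ I) ⧸ M) ⧸ Ideal.ofList zs) :=
      (Ideal.Quotient.mk _).comp (Ideal.Quotient.mk M)
    have hπ : Function.Surjective π := Ideal.Quotient.mk_surjective.comp Ideal.Quotient.mk_surjective
    haveI := hp
    have h := hprime (p.comap π) inferInstance (Ideal.span_le.2 fun y hy => by
      have h0 : π y = 0 := Ideal.Quotient.eq_zero_iff_mem.2
        (Ideal.subset_span (List.mem_map.2 ⟨y, hy, rfl⟩))
      simp [h0])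
    rw [← Ideal.map_comap_of_surjective π hπ p, h]
    refine (Ideal.map_eq_top_or_isMaximal_of_surjective π hπ (maximalIdeal.isMaximal _)).resolve_left
      fun ht => hp.ne_top ?_
    rw [← Ideal.map_comap_of_surjective π hπ p, h, ht]
  have hreg : IsRegular ((Q ⧸ I) ⧸ M) zs := by
    refine Groth.Agent.H20.CMRegular.isRegular_of_ringKrullDim_le zs hzm ?_
    haveI : Nontrivial (((Q ⧸ I) ⧸ M) ⧸ Ideal.ofList zs) := Ideal.Quotient.nontrivial_iff.2 fun ht =>
      (maximalIdeal.isMaximal _).ne_top (top_le_iff.1 (ht.ge.trans (Ideal.span_le.2 hzm)))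
    refine le_trans (add_le_add (Ring.krullDimLE_iff.1 hdim0) le_rfl) ?_
    rw [Nat.cast_zero, zero_add,
      ← IsRegularLocalRing.spanFinrank_maximalIdeal (R := (Q ⧸ I) ⧸ M)]
    simp [zs, ys, xs, hlen]
  have hregT : IsWeaklyRegular (((Q ⧸ I) ⧸ M) ⊗[Q ⧸ I] (Q ⧸ I)) ys := by
    rw [LinearEquiv.isWeaklyRegular_congr (TensorProduct.rid (Q ⧸ I) ((Q ⧸ I) ⧸ M)) ys,
      ← isWeaklyRegular_map_algebraMap_iff ((Q ⧸ I) ⧸ M) ((Q ⧸ I) ⧸ M) ys]
    exact hreg.toIsWeaklyRegular
  have hfl : Module.Flat R ((Q ⧸ I) ⧸ Ideal.ofList ys) := by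
    have h := (Groth.Agent.Lib.Synt92.FibreSeq.main (R := R) (Q ⧸ I) ys hregT).2 ys.length
    rw [List.take_length] at h
    exact Module.Flat.of_linearEquiv ((Submodule.quotEquivOfEq (Ideal.ofList ys)
      (Ideal.ofList ys • (⊤ : Submodule (Q ⧸ I) (Q ⧸ I)))
      (by rw [smul_eq_mul, Ideal.mul_top])).restrictScalars R)
  haveI : Nontrivial ((Q ⧸ I) ⧸ Ideal.ofList ys) := Ideal.Quotient.nontrivial_iff.2 fun ht =>
    (maximalIdeal.isMaximal _).ne_top (top_le_iff.1 (ht.ge.trans (Ideal.span_le.2 hym)))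
  haveI : IsLocalRing ((Q ⧸ I) ⧸ Ideal.ofList ys) :=
    IsLocalRing.of_surjective' _ Ideal.Quotient.mk_surjective
  haveI : IsLocalHom (Ideal.Quotient.mk (Ideal.ofList ys)) :=
    IsLocalHom.of_surjective _ Ideal.Quotient.mk_surjective
  have hart : IsArtinianRing ((Q ⧸ I) ⧸ Ideal.ofList ys) := by
    haveI : Ring.KrullDimLE 0 ((Q ⧸ I) ⧸ Ideal.ofList ys) := Ring.KrullDimLE.mk₀ fun p hp => by
      haveI := hp
      have h := hprime (p.comap (Ideal.Quotient.mk _)) inferInstance fun y hy => by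
        simp [Ideal.Quotient.eq_zero_iff_mem.2 hy]
      rw [← Ideal.map_comap_of_surjective _ Ideal.Quotient.mk_surjective p, h,
        IsLocalRing.map_maximalIdeal_of_surjective _ Ideal.Quotient.mk_surjective]
      exact maximalIdeal.isMaximal _
    exact IsNoetherianRing.isArtinianRing_of_krullDimLE_zero
  have hloc : IsLocalHom (algebraMap R ((Q ⧸ I) ⧸ Ideal.ofList ys)) :=
    ⟨fun r hr => (isUnit_map_iff (algebraMap R (Q ⧸ I)) r).1
      ((isUnit_map_iff (Ideal.Quotient.mk (Ideal.ofList ys)) _).1 hr)⟩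
  have hgor : LocCoh.IsGorensteinLocalRing (((Q ⧸ I) ⧸ Ideal.ofList ys) ⧸
      (maximalIdeal R).map (algebraMap R ((Q ⧸ I) ⧸ Ideal.ofList ys))) := by
    haveI := Groth.Agent.Lib.Goren.LCI.gorenstein_quotient_of_isWeaklyRegular ((Q ⧸ I) ⧸ M) zs hzm
      hreg.toIsWeaklyRegular
    have h1 : (maximalIdeal R).map (algebraMap R ((Q ⧸ I) ⧸ Ideal.ofList ys)) =
        M.map (Ideal.Quotient.mk (Ideal.ofList ys)) := (Ideal.map_map _ _).symm
    let eG : (((Q ⧸ I) ⧸ Ideal.ofList ys) ⧸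
        (maximalIdeal R).map (algebraMap R ((Q ⧸ I) ⧸ Ideal.ofList ys))) ≃+*
          (((Q ⧸ I) ⧸ M) ⧸ Ideal.ofList zs) :=
      ((Ideal.quotEquivOfEq h1).trans
        ((DoubleQuot.quotQuotEquivComm (Ideal.ofList ys) M).trans
          (Ideal.quotEquivOfEq (Ideal.map_ofList _ ys))))
    exact Groth.Agent.Lib.Goren.Flat.isGorensteinLocalRing_ringEquiv
      (R := ((Q ⧸ I) ⧸ M) ⧸ Ideal.ofList zs) eG.symm
  let g : ((Q ⧸ I) ⧸ Ideal.ofList ys) →+* S := Ideal.Quotient.lift _ σ₁ (fun y hy => by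
    have hle : Ideal.ofList ys ≤ RingHom.ker σ₁ := by
      refine Ideal.span_le.2 fun y hy => ?_
      obtain ⟨x, hx, rfl⟩ := List.mem_map.1 hy
      have h := Ideal.pow_mem_pow (map_nonunit σ₁ x (hxm x hx)) (N + 1)
      rw [pow_succ (maximalIdeal S), hN, Ideal.bot_mul, Ideal.mem_bot] at h
      simpa [map_pow] using h
    exact hle hy)
  exact ⟨_, inferInstance, inferInstance, hart, inferInstance, hfl, hloc, hgor,
    { toRingHom := g, commutes' := fun r => hσalg r },
    Ideal.Quotient.lift_surjective_of_surjective _ _ hσ₁⟩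

/-- A local homomorphism R → S of Artinian local rings factors as R → R' → S with R' Artinian local, R →
R' flat and local with Gorenstein fibre ring R'/m_R R', and R' → S surjective. -/
theorem result (R S : Type u) [CommRing R] [CommRing S] [IsArtinianRing R] [IsLocalRing R] [IsArtinianRing S] [IsLocalRing S] [Algebra R S] [IsLocalHom (algebraMap R S)] : ∃ (R' : Type u) (_ : CommRing R') (_ : Algebra R R'), IsArtinianRing R' ∧ IsLocalRing R' ∧ Module.Flat R R' ∧ IsLocalHom (algebraMap R R') ∧ LocCoh.IsGorensteinLocalRing (R' ⧸ (IsLocalRing.maximalIdeal R).map (algebraMap R R')) ∧ ∃ g : R' →ₐ[R] S, Function.Surjective g := by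
  classical
  haveI : IsAdicComplete (maximalIdeal R) R := inferInstance
  haveI : IsAdicComplete (maximalIdeal S) S := inferInstance
  obtain ⟨Λ, Λ', _, _, _, _, n, m, ρ, σ, τ, -, -, -, hP, hQ, hρ, hσ, hcomp, hτ, hτl, hfib⟩ :=
    Groth.Agent.H68.CohenLift.exists_presentation (A := R) (B := S)
  obtain ⟨R', i1, i2, h⟩ := core ρ σ τ hρ hσ hcomp hτ hfib
  exact ⟨R', i1, i2, h⟩


end Groth.Agent.S11358
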