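import Groth.Statements.S11359
import Groth.Agent.Lib.Goren.Artin
import Groth.Agent.Lib.InjHull.BaseChange
-- import your own Groth.Agent.* helpers here

set_option autoImplicit false
universe u
open InjHull

namespace Groth.Agent.S11359

/-- For a flat homomorphism A → B of Noetherian local rings whose fibre ring B/m_A B is an Artinian
Gorenstein local ring, tensoring an injective hull of the residue field of A with B gives an
injective hull of the residue field of B. -/
theorem result (A : Type u) [CommRing A] [IsLocalRing A] [IsNoetherianRing A] (B : Type u) [CommRing B] [IsLocalRing B] [IsNoetherianRing B] [Algebra A B] [Module.Flat A B] (hG : LocCoh.IsGorensteinLocalRing (B ⧸ (IsLocalRing.maximalIdeal A).map (algebraMap A B))) (hArt : IsArtinianRing (B ⧸ (IsLocalRing.maximalIdeal A).map (algebraMap A B))) (E : Type u) [AddCommGroup E] [Module A E] (f : IsLocalRing.ResidueField A →ₗ[A] E) (hf : InjHull.IsInjectiveHull f) : ∃ g : IsLocalRing.ResidueField B →ₗ[B] TensorProduct A B E, InjHull.IsInjectiveHull g := by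
  open Groth.Agent.Lib in
  have hmap : (IsLocalRing.maximalIdeal A).map (algebraMap A B) ≤ IsLocalRing.maximalIdeal B := by
    refine IsLocalRing.le_maximalIdeal fun htop => ?_
    have := Ideal.Quotient.subsingleton_iff.mpr htop
    have := hG.toIsLocalRing
    exact not_subsingleton (B ⧸ (IsLocalRing.maximalIdeal A).map (algebraMap A B)) inferInstance
  have hloc : IsLocalHom (algebraMap A B) :=
    ((IsLocalRing.local_hom_TFAE (algebraMap A B)).out 0 2).mpr hmap
  have := hG.toIsLocalRing
  have hrad : IsLocalRing.maximalIdeal B ≤ ((IsLocalRing.maximalIdeal A).map (algebraMap A B)).radical := by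
    rw [Ideal.radical_eq_sInf]
    refine le_sInf fun p ⟨hp, hpp⟩ => ?_
    have h1 : (p.map (Ideal.Quotient.mk ((IsLocalRing.maximalIdeal A).map (algebraMap A B)))).IsPrime :=
      Ideal.map_isPrime_of_surjective Ideal.Quotient.mk_surjective (by rwa [Ideal.mk_ker])
    have h2 := IsArtinianRing.isMaximal_of_isPrime
      (p.map (Ideal.Quotient.mk ((IsLocalRing.maximalIdeal A).map (algebraMap A B))))
    have h3 := Ideal.comap_isMaximal_of_surjective _ Ideal.Quotient.mk_surjective (K := p.map (Ideal.Quotient.mk ((IsLocalRing.maximalIdeal A).map (algebraMap A B))))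
    rw [Ideal.comap_map_of_surjective _ Ideal.Quotient.mk_surjective, ← RingHom.ker_eq_comap_bot,
      Ideal.mk_ker, sup_eq_left.mpr hp] at h3
    exact (IsLocalRing.eq_maximalIdeal h3).ge
  refine InjHull.BaseChange.exists_isInjectiveHull_baseChange (m := IsLocalRing.maximalIdeal A) hf hrad ?_
  obtain ⟨e⟩ := InjHull.BaseChange.socle_simple_of_fibre (B := B) (m := IsLocalRing.maximalIdeal A) hf.toIsEssentialInj
  have hs : IsSimpleModule B (LocCoh.torsionBy (IsLocalRing.maximalIdeal B)
      (B ⧸ (IsLocalRing.maximalIdeal A).map (algebraMap A B))) := by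
    rw [← Module.length_eq_one_iff, Goren.Artin.length_socle_quotient]
    exact Goren.Artin.isGorensteinLocalRing_iff_socle.mp hG
  exact IsSimpleModule.congr ((InjHull.BaseChange.homQuotientEquiv _ _).trans
    ((Goren.Artin.torsionTorsion hmap _).symm.trans (Goren.Artin.torsionCongr _ e.symm)))


end Groth.Agent.S11359
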