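import Groth.Statements.S11360
import Groth.Agent.Lib.DMod.LBC

set_option autoImplicit false
universe u
open CategoryTheory
attribute [local instance] HasDerivedCategory.standard
open Dual

namespace Groth.Agent.S11360
open Groth.Agent.Lib.DMod

/-- Let A be a Noetherian ring and R an object of D(A) with finite cohomology modules and of finite
injective dimension (isomorphic to a bounded complex of injective modules). If for every prime p of
A the derived base change of R to A_p (the total left derived functor of extension of scalars,
assumed to exist) is a dualizing complex for A_p, then R is a dualizing complex for A. (The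
published statement is for a locally Noetherian scheme and the stalks at all points; this row is the
affine case. Without the global finite injective dimension hypothesis the conclusion fails, e.g. for
a regular Noetherian ring of infinite Krull dimension.) -/
theorem result (A : Type u) [CommRing A] [IsNoetherianRing A] (R : Dual.D A) (hfin : ∀ i : ℤ, Module.Finite A (Dual.HD A R i)) (hfid : DRing.HasFiniteInjDim A R) [∀ p : PrimeSpectrum A, DRing.HasLBaseChange (algebraMap A (Localization.AtPrime p.asIdeal))] (h : ∀ p : PrimeSpectrum A, Dual.IsDualizing (Localization.AtPrime p.asIdeal) ((DRing.LBaseChange (algebraMap A (Localization.AtPrime p.asIdeal))).obj R)) : Dual.IsDualizing A R := by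
  obtain ⟨a, b, hab⟩ := hfid
  refine LBC.isDualizing_descent'
    (LBC.detects_primes (fun p : PrimeSpectrum A => p.asIdeal) fun m hm => ⟨⟨m, hm.isPrime⟩, rfl⟩)
    ⟨hfin, a, b, fun i hi => ?_⟩
    ⟨a, b, fun M _ _ i hi => InjAmp.subsingleton_of_hasInjAmplitudeIn hab M hi⟩ h
  have := InjAmp.subsingleton_of_hasInjAmplitudeIn hab A hi
  exact (Basic.homUnitShiftEquiv R i).symm.toEquiv.subsingleton

end Groth.Agent.S11360
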