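import Groth.Statements.S11362
import Groth.Agent.Lib.ExtCM77.Main
import Groth.Agent.H54.PerfHom
import Groth.Agent.H54.FlatFP
import Groth.Agent.Lib.DR.Perfect

set_option autoImplicit false
universe u
open CategoryTheory
open scoped TensorProduct
open Dual

open Groth.Agent.Lib.DR Groth.Agent.Lib.DR.Basic Groth.Agent.Lib.DR.FiniteComplex
open Groth.Agent.Lib.DR.PseudoCoherent Groth.Agent.Lib.DR.Representative Groth.Agent.Lib.DR.Amplitude
open Groth.Agent.Lib.DR.ProjAmp Groth.Agent.Lib.DR.TopCohomology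
open Groth.Agent.H54 Groth.Agent.H54.PCRestrict

attribute [local instance] HasDerivedCategory.standard
set_option linter.style.haveILetI false

namespace Groth.Agent.S11362

/-- A perfect module has a finite projective resolution. -/
theorem bdd_of_pf {P : Type u} [CommRing P] (M : ModuleCat.{u} P)
    (h : Perfect.Pf ((DerivedCategory.singleFunctor (ModuleCat.{u} P) 0).obj M)) :
    ∃ L : ℕ, Bdd (fproj P) (-(L : ℤ)) 0 ((DerivedCategory.singleFunctor (ModuleCat.{u} P) 0).obj M) := by
  obtain ⟨a, b, h0⟩ := id h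
  have h1 : Bdd (fproj P) (min a 0) (max b 0) _ := h0.mono (min_le_left a 0) (le_max_left b 0)
  have h2 : Bdd (fproj P) (min a 0) 0 _ := bdd_proj_of_ba good_fproj projective_of_fproj fproj_retract
    ((ba_ff_of_forall h.pcn inferInstance).of_le fproj_of_ff) h1.isGE
    fun N' => subsingleton_hom_single_of_bdd projective_of_fproj h1 N' (min a 0 - 1) (Or.inl (by omega))
  exact ⟨(-(min a 0)).toNat, h2.mono (by omega) le_rfl⟩

/-- Let A be any commutative ring, n ≤ N, P = A[t_1, …, t_N], I a finitely generated ideal of P and B =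
P/I, flat over A with every fibre ring B ⊗_A κ(p) Cohen–Macaulay and all its minimal primes of
coheight n (all irreducible components of dimension n). Then Ext^j_P(B, P) vanishes for j ≠ N − n,
and Ext^{N−n}_P(B, P) is A-flat and finitely presented over P. (The published statement is for a
closed subscheme of a smooth scheme of relative dimension N over an arbitrary base, with sheaf Ext
into the canonical module or the structure sheaf, and adds compatibility with base change; this row
is the affine-space case with the structure sheaf and does not restate the base-change assertion.) -/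
theorem result (A : Type u) [CommRing A] (N n : ℕ) (hnN : n ≤ N) (I : Ideal (MvPolynomial (Fin N) A)) (hI : I.FG) [Module.Flat A (MvPolynomial (Fin N) A ⧸ I)] (hCM : ∀ p : PrimeSpectrum A, LocCoh.IsCohenMacaulayRing ((MvPolynomial (Fin N) A ⧸ I) ⊗[A] p.asIdeal.ResidueField)) (hdim : ∀ p : PrimeSpectrum A, ∀ Q : PrimeSpectrum ((MvPolynomial (Fin N) A ⧸ I) ⊗[A] p.asIdeal.ResidueField), Q.asIdeal ∈ minimalPrimes ((MvPolynomial (Fin N) A ⧸ I) ⊗[A] p.asIdeal.ResidueField) → Order.coheight Q = (n : ℕ∞)) : (∀ j : ℕ, j ≠ N - n → Subsingleton (Abelian.Ext (ModuleCat.of (MvPolynomial (Fin N) A) (MvPolynomial (Fin N) A ⧸ I)) (ModuleCat.of (MvPolynomial (Fin N) A) (MvPolynomial (Fin N) A)) j)) ∧ Module.Flat A (RestrictScalars A (MvPolynomial (Fin N) A) (Abelian.Ext (ModuleCat.of (MvPolynomial (Fin N) A) (MvPolynomial (Fin N) A ⧸ I)) (ModuleCat.of (MvPolynomial (Fin N) A) (MvPolynomial (Fin N) A)) (N - n))) ∧ Module.FinitePresentation (MvPolynomial (Fin N) A) (Abelian.Ext (ModuleCat.of (MvPolynomial (Fin N) A)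 (MvPolynomial (Fin N) A ⧸ I)) (ModuleCat.of (MvPolynomial (Fin N) A) (MvPolynomial (Fin N) A)) (N - n)) := by
  haveI : Algebra.FinitePresentation A (MvPolynomial (Fin N) A ⧸ I) := Algebra.FinitePresentation.quotient hI
  let φ : MvPolynomial (Fin N) A →ₐ[A] MvPolynomial (Fin N) A ⧸ I := Ideal.Quotient.mkₐ A I
  have h0 := (PerfHom.pf_iff_of_surjective φ (Ideal.Quotient.mkₐ_surjective A I)).1
    (FlatFP.perfectHom_of_flat A _)
  let ε : (res φ.toRingHom).obj (ModuleCat.of (MvPolynomial (Fin N) A ⧸ I) (MvPolynomial (Fin N) A ⧸ I)) ≅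
      ModuleCat.of (MvPolynomial (Fin N) A) (MvPolynomial (Fin N) A ⧸ I) :=
    (LinearEquiv.mk ⟨⟨fun x => x, fun _ _ => rfl⟩, fun c x => by
      induction x using Submodule.Quotient.induction_on
      rfl⟩ (fun x => x) (fun _ => rfl) fun _ => rfl).toModuleIso
  obtain ⟨L, E, hz, hp, ⟨e⟩⟩ := bdd_of_pf _
    (h0.of_iso ((DerivedCategory.singleFunctor (ModuleCat.{u} (MvPolynomial (Fin N) A)) 0).mapIso ε))
  exact Groth.Agent.Lib.ExtCM77.Main.ext_conclusion (Groth.Agent.Lib.ExtCM77.Fibre.syzOfIso E L hz hp e) (N - n)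
    fun j hj p z hz' => Groth.Agent.Lib.ExtCM77.Fibre.coboundary_on_fibre A N n hnN I p (hCM p) (hdim p) E L hz hp e j hj z hz'

end Groth.Agent.S11362
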