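import Groth.Statements.S11365
import Groth.Agent.Lib.DMod.GorFibrePrime
import Groth.Agent.Lib.DMod.InvertibleLocal
import Mathlib.Algebra.Module.Torsion.Basic

set_option autoImplicit false
universe u
open CategoryTheory
open scoped TensorProduct
open Dual

namespace Groth.Agent.S11365
open Groth.Agent.Lib.DMod Groth.Agent.Lib.DMod.LocalExtCI

theorem annihilate (R : Type u) [CommRing R] (I : Ideal R) (c : ℕ) {a : R} (ha : a ∈ I)
    (x : Abelian.Ext.{u} (ModuleCat.of R (R ⧸ I)) (ModuleCat.of R R) c) : a • x = 0 := by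
  have h1 : a • (LinearMap.id : (R ⧸ I) →ₗ[R] R ⧸ I) = 0 := LinearMap.ext fun y => by
    obtain ⟨y, rfl⟩ := Submodule.Quotient.mk_surjective _ y
    exact (Submodule.Quotient.mk_eq_zero I).2 (I.mul_mem_right y ha)
  rw [← ExtHomPresent.pb_id x, ← ExtHomPresent.pb_smul, h1, ExtHomPresent.pb_zero]

theorem nontrivial_target {P B : Type u} [CommRing P] [CommRing B] [Algebra P B] (q : Ideal B)
    [q.IsPrime] : Nontrivial (Localization.AtPrime (q.comap (algebraMap P B)) ⧸ locKer (P := P) B q) := by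
  refine Ideal.Quotient.nontrivial_iff.2 ?_
  have hd : Disjoint ((q.comap (algebraMap P B)).primeCompl : Set P) (RingHom.ker (algebraMap P B)) := by
    rw [Set.disjoint_left]
    intro a ha ha'
    refine ha ?_
    show algebraMap P B a ∈ q
    rw [RingHom.mem_ker.1 ha']
    exact zero_mem _
  exact (IsLocalization.map_algebraMap_ne_top_iff_disjoint _ _ _).2 hd


/-- Let A be a Noetherian ring, n ≤ N, P = A[t_1, …, t_N], I an ideal of P with B = P/I flat over A, and
suppose Ext^j_P(B, P) vanishes for j ≠ N − n while Ext^{N−n}_P(B, P) is A-flat. Then Ext^{N−n}_P(B,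
P) is P-isomorphic to an invertible B-module if and only if all fibre rings B ⊗_A κ(p) are
Gorenstein. (The published statement is for the degree −n cohomology of f^! of the structure sheaf
of a CM morphism of locally Noetherian schemes with pure relative dimension n; this row is the
affine case of a closed subscheme of affine N-space.) -/
theorem result (A : Type u) [CommRing A] [IsNoetherianRing A] (N n : ℕ) (hnN : n ≤ N) (I : Ideal (MvPolynomial (Fin N) A)) [Module.Flat A (MvPolynomial (Fin N) A ⧸ I)] (hvan : ∀ j : ℕ, j ≠ N - n → Subsingleton (Abelian.Ext (ModuleCat.of (MvPolynomial (Fin N) A) (MvPolynomial (Fin N) A ⧸ I)) (ModuleCat.of (MvPolynomial (Fin N) A) (MvPolynomial (Fin N) A)) j)) (hflat : Module.Flat A (RestrictScalars A (MvPolynomial (Fin N) A) (Abelian.Ext (ModuleCat.of (MvPolynomial (Fin N) A) (MvPolynomial (Fin N) A ⧸ I)) (ModuleCat.of (MvPolynomial (Fin N) A) (MvPolynomial (Fin N) A)) (N - n)))) : (∃ (L : Type u) (_ : AddCommGroup L) (_ : Module (MvPolynomial (Fin N) A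 ⧸ I) L), Module.Invertible (MvPolynomial (Fin N) A ⧸ I) L ∧ Nonempty (RestrictScalars (MvPolynomial (Fin N) A) (MvPolynomial (Fin N) A ⧸ I) L ≃ₗ[(MvPolynomial (Fin N) A)] Abelian.Ext (ModuleCat.of (MvPolynomial (Fin N) A) (MvPolynomial (Fin N) A ⧸ I)) (ModuleCat.of (MvPolynomial (Fin N) A) (MvPolynomial (Fin N) A)) (N - n))) ↔ ∀ p : PrimeSpectrum A, LocCoh.IsGorensteinRing ((MvPolynomial (Fin N) A ⧸ I) ⊗[A] p.asIdeal.ResidueField) := by
  let P := MvPolynomial (Fin N) A
  have hsurj : Function.Surjective (algebraMap P (P ⧸ I)) := Ideal.Quotient.mk_surjective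
  have : Algebra.FiniteType A (P ⧸ I) := inferInstance
  have key := fun q : Ideal (P ⧸ I) => fun hq : q.IsPrime =>
    @GorFibrePrime.prime_iff A _ _ N (P ⧸ I) _ _ _ _ hsurj _ q hq
  have hmk : ∀ {a : P}, algebraMap P (P ⧸ I) a = 0 → a ∈ I := fun h => Ideal.Quotient.eq_zero_iff_mem.1 h
  rw [GorFibrePrime.fibres_iff]
  constructor
  · rintro ⟨L, _, _, hL, ⟨e⟩⟩ q hq
    obtain ⟨x, hgen, hann⟩ := InvertibleLocal.locCyclic_of_invertible (M := L) q
    let ε : L ≃+ Abelian.Ext.{u} (ModuleCat.of P (P ⧸ I)) (ModuleCat.of P P) (N - n) :=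
      (RestrictScalars.addEquiv P (P ⧸ I) L).symm.trans e.toAddEquiv
    have hε : ∀ (a : P) (z : L), ε (algebraMap P (P ⧸ I) a • z) = a • ε z := fun a z => by
      show e _ = a • e _
      exact (congrArg e (RestrictScalars.addEquiv_symm_map_algebraMap_smul P (P ⧸ I) L a z)).trans (map_smul e a _)
    obtain ⟨hv, he⟩ := local_of_structure (P := P) hsurj q (N - n)
      (fun i hi z => ⟨1, by rw [map_one]; exact fun h => hq.ne_top ((Ideal.eq_top_iff_one _).2 h),
        @Subsingleton.elim _ (hvan i hi) _ _⟩)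
      (ε x) (fun y => by
        obtain ⟨s, a, hs, hsa⟩ := hgen (ε.symm y)
        obtain ⟨s, rfl⟩ := hsurj s
        obtain ⟨a, rfl⟩ := hsurj a
        refine ⟨s, a, hs, ?_⟩
        rw [← hε a, ← hsa, hε, AddEquiv.apply_symm_apply])
      (fun a ha => by
        obtain ⟨s, hs, hsa⟩ := hann (algebraMap P (P ⧸ I) a)
          (ε.injective (by rw [hε, ha, map_zero]))
        obtain ⟨s, rfl⟩ := hsurj s
        exact ⟨s, hs, by rw [map_mul, hsa]⟩)
      (fun a ha => annihilate P I _ (hmk ha) _)
    exact (key q hq).2 (N - n) hv he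
  · intro h
    let E := Abelian.Ext.{u} (ModuleCat.of P (P ⧸ I)) (ModuleCat.of P P) (N - n)
    have htor : Module.IsTorsionBySet P E I := fun x a => annihilate P I _ a.2 x
    letI := htor.module
    haveI : IsScalarTower P (P ⧸ I) E := htor.isScalarTower (S := P)
    haveI : Module.Finite (P ⧸ I) E := Module.Finite.of_restrictScalars_finite P _ _
    refine ⟨E, inferInstance, inferInstance, InvertibleLocal.invertible_of_locCyclic fun q hq => ?_,
      ⟨{ RestrictScalars.addEquiv P (P ⧸ I) E with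
          map_smul' := fun a z => algebraMap_smul (P ⧸ I) a _ }⟩⟩
    have := hq.isPrime
    obtain ⟨c, -, hv, hiso⟩ := (key q hq.isPrime).1 (h q)
    have hc : c = N - n := by
      by_contra hne
      obtain ⟨e⟩ := hiso
      obtain ⟨ψ, hψ⟩ := exists_localizing (P := P) hsurj q c
      have h0 : ∀ z, z = (0 : LExt (P := P) (P ⧸ I) q c) := fun z => by
        obtain ⟨y, t, hy⟩ := hψ.surj z
        rw [@Subsingleton.elim _ (hvan c hne) y 0, map_zero] at hy
        exact (IsLocalization.map_units _ t).smul_eq_zero.1 hy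
      have := nontrivial_target (P := P) q
      obtain ⟨a, b, hab⟩ := exists_pair_ne (Localization.AtPrime (q.comap (algebraMap P (P ⧸ I))) ⧸
        locKer (P := P) (P ⧸ I) q)
      exact hab (e.symm.injective ((h0 _).trans (h0 _).symm))
    subst hc
    obtain ⟨-, x, hgen, hann⟩ := structure_of_local (P := P) hsurj q (N - n) hv hiso
    refine ⟨x, fun y => ?_, fun a ha => ?_⟩
    · obtain ⟨s, a, hs, hsa⟩ := hgen y
      exact ⟨algebraMap P (P ⧸ I) s, algebraMap P (P ⧸ I) a, hs,
        by rw [algebraMap_smul, algebraMap_smul, hsa]⟩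
    · obtain ⟨a, rfl⟩ := hsurj a
      rw [algebraMap_smul] at ha
      obtain ⟨s, hs, hsa⟩ := hann a ha
      exact ⟨algebraMap P (P ⧸ I) s, hs, by rw [← map_mul]; exact hsa⟩

end Groth.Agent.S11365
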