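import Groth.Statements.S11368
import Groth.Agent.Lib.Nakai.VanDev

set_option autoImplicit false
universe u
open CategoryTheory CategoryTheory.Limits AlgebraicGeometry TopologicalSpace
open Variety

namespace Groth.Agent.S11368

/-- For X proper over an algebraically closed field k and L an invertible O_X-module, L is ample on X if
and only if for every irreducible component X_i of X, with its reduced closed subscheme structure
(the vanishing ideal of the closed set X_i), the pullback of L to X_i is ample. -/
theorem result (k : Type u) [Field k] [IsAlgClosed k] (X : Scheme.{u})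
    [X.Over (Spec (CommRingCat.of k))] [IsProper (X ↘ (Spec (CommRingCat.of k)))]
    (L : X.Modules) (hL : PicF.IsInvertible L) :
    CohB1.IsAmple L ↔
      ∀ Z : Closeds X, (Z : Set X) ∈ irreducibleComponents X →
        CohB1.IsAmple ((Scheme.Modules.pullback
          (Scheme.IdealSheafData.vanishingIdeal Z).subschemeι).obj L) := by
  constructor
  · intro h Z _
    exact Lib.Ample.Pullback.isAmple_pullback _
      (Lib.Ample.Pullback.isQuasiAffine_of_isAffineHom _) h
  · intro h
    refine Lib.Nakai.VanDev.isAmple_of_integral k hL fun y => ?_
    let Z : TopologicalSpace.Closeds X := ⟨irreducibleComponent y, isClosed_irreducibleComponent⟩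
    have hle : Scheme.IdealSheafData.vanishingIdeal Z ≤ IntMult.ptIdeal y :=
      Scheme.IdealSheafData.vanishingIdeal_antimono (S := ⟨closure {y}, isClosed_closure⟩)
        (closure_minimal (Set.singleton_subset_iff.2 mem_irreducibleComponent)
          isClosed_irreducibleComponent)
    haveI : IsClosedImmersion (Scheme.IdealSheafData.inclusion hle) := by
      haveI : IsClosedImmersion (Scheme.IdealSheafData.inclusion hle ≫
          (Scheme.IdealSheafData.vanishingIdeal Z).subschemeι) := by
        rw [Scheme.IdealSheafData.inclusion_subschemeι]; infer_instance
      exact IsClosedImmersion.of_comp _ (Scheme.IdealSheafData.vanishingIdeal Z).subschemeι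
    exact Lib.Ample.Pow.isAmple_of_iso
      ((Scheme.Modules.pullbackComp _ _).app L ≪≫
        (Scheme.Modules.pullbackCongr (Scheme.IdealSheafData.inclusion_subschemeι hle)).app L)
      (Lib.Ample.Pullback.isAmple_pullback _ (Lib.Ample.Pullback.isQuasiAffine_of_isAffineHom _)
        (h Z (irreducibleComponent_mem_irreducibleComponents y)))

end Groth.Agent.S11368
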