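import Groth.Statements.S11371
import Groth.Agent.Lib.Nakai.Criterion
import Groth.Agent.Lib.IntTheory.Basic

set_option autoImplicit false
universe u
open CategoryTheory CategoryTheory.Limits AlgebraicGeometry TopologicalSpace
open Variety

namespace Groth.Agent.S11371

/-- Let X be proper over an algebraically closed field k and L, L' invertible O_X-modules that are
numerically equivalent: (L · C) = (L' · C), i.e. χ(O_C ⊗ L) = χ(O_C ⊗ L'), for every integral closed
subscheme C ⊆ X of dimension one. If L is ample then L' is ample. (The published statement is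
phrased for Cartier divisors; it depends on them only through the associated invertible modules, and
the printed reduction to integral X covers every invertible module.) -/
theorem result (k : Type u) [Field k] [IsAlgClosed k] (X : Scheme.{u})
    [X.Over (Spec (CommRingCat.of k))] [IsProper (X ↘ (Spec (CommRingCat.of k)))]
    (L L' : X.Modules) (hL : PicF.IsInvertible L) (hL' : PicF.IsInvertible L')
    (hnum : ∀ C : X.IdealSheafData, IsIntegral C.subscheme →
      topologicalKrullDim (C.support : Set X) = 1 →
        Curv2.euler k X (CohB1.tensorMod (ClSub.quotMod C) L) =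
          Curv2.euler k X (CohB1.tensorMod (ClSub.quotMod C) L'))
    (hamp : CohB1.IsAmple L) : CohB1.IsAmple L' := by
  haveI := Lib.Curves.GlobalSections.isNoetherian_of_proper k X
  obtain ⟨N, hN⟩ := Lib.Snapper.DimBound.exists_dim_bound k X
  have hfin := Lib.Snapper.Finite.cohFinite k X
  have hC : Lib.IntTheory.Basic.CurveEq k N L L' := fun y hy => by
    haveI := Lib.IntTheory.Curves.isIntegral_ptIdeal y
    have h := hnum (IntMult.ptIdeal y) ‹_› hy
    rw [Lib.Snapper.Chi.euler_eq_eulerCharLE hN, Lib.Snapper.Chi.euler_eq_eulerCharLE hN,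
      Lib.Snapper.Chi.eulerCharLE_of_iso (Lib.TensorMod.Basic.comm _ L) N,
      Lib.Snapper.Chi.eulerCharLE_of_iso (Lib.TensorMod.Basic.comm _ L') N] at h
    show FGA.eulerCharLE k X _ N - FGA.eulerCharLE k X _ N =
      FGA.eulerCharLE k X _ N - FGA.eulerCharLE k X _ N
    exact congrArg _ h
  refine Lib.Nakai.Main.isAmple (k := k) hN hL' fun y hy => ?_
  haveI := Lib.IntTheory.Curves.isIntegral_ptIdeal y
  have hdim := Lib.VarDim.Basic.topologicalKrullDim_isGenericPoint (X ↘ Spec (CommRingCat.of k))
    (show IsGenericPoint y (closure ({y} : Set X)) from rfl)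
  obtain ⟨P, hP⟩ := Lib.Nakai.Criterion.exists_poly (k := k) hL (IntMult.ptIdeal y) (Lib.Nakai.Main.pd k y)
  have hp := (Lib.Nakai.Criterion.isAmple_iff hL).mp hamp (IntMult.ptIdeal y) _ hy hdim P hP
  rw [Lib.Nakai.Criterion.coeff_eq_degOn hN hL y rfl hP, Int.cast_pos] at hp
  refine hp.trans_eq ?_
  unfold Lib.Nakai.Main.degOn
  refine congrArg _ (Lib.IntTheory.Basic.sym_congr hfin hN (Lib.Nakai.Main.pd k y) _ _
    List.length_replicate (fun M hM => List.eq_of_mem_replicate hM ▸ hL)
    (fun M hM => List.eq_of_mem_replicate hM ▸ hL') ?_ _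
    (Lib.Devissage.Closure.isCoh_closureStructureSheaf y)
    ((Lib.Devissage.Dim.dim_mono (Lib.Devissage.Closure.support_closureStructureSheaf y)).trans
      hdim.le))
  induction Lib.Nakai.Main.pd k y with
  | zero => exact List.Forall₂.nil
  | succ n ih => rw [List.replicate_succ, List.replicate_succ]; exact List.Forall₂.cons hC ih

end Groth.Agent.S11371
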