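import Groth.Statements.S11372
import Groth.Agent.Lib.SurfInt.GGAmple
import Groth.Agent.H34.GlobGen

set_option linter.style.haveILetI false
set_option maxHeartbeats 800000

set_option autoImplicit false
universe u
open CategoryTheory CategoryTheory.Limits AlgebraicGeometry TopologicalSpace
open Variety

namespace Groth.Agent.S11372

open Groth.Agent

/-- Let X be proper and integral over an algebraically closed field k, L an invertible O_X-module
generated by its global sections, and s : O_X ⟶ L a global section, with U = X_s the open subset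
where s generates L (the complement of the support of the effective divisor of s). If U contains no
integral closed subscheme of X of dimension one, then U is an affine open of X. -/
theorem result (k : Type u) [Field k] [IsAlgClosed k] (X : Scheme.{u})
    [X.Over (Spec (CommRingCat.of k))] [IsProper (X ↘ (Spec (CommRingCat.of k)))] [IsIntegral X]
    (L : X.Modules) (hL : PicF.IsInvertible L) (hgen : Curv2.IsGloballyGenerated L)
    (s : Coh.structureModule X ⟶ L)
    (hcurves : ∀ C : X.IdealSheafData, IsIntegral C.subscheme →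
      topologicalKrullDim (C.support : Set X) = 1 →
        ¬ ((C.support : Set X) ⊆ (CohB1.genLocus L s : Set X))) :
    IsAffineOpen (CohB1.genLocus L s) := by
  classical
  haveI := Lib.Curves.GlobalSections.isNoetherian_of_proper k X
  let q := X ↘ Spec (CommRingCat.of k)
  choose σ hσ using fun x => Lib.Ample.GG.exists_genLocus_of_genAt hL
    (show Lib.Ample.GG.GenAt L x from H34.GlobGen.gl_eq_top_of_gg hgen x)
  obtain ⟨F, hF⟩ := isCompact_univ.elim_finite_subcover
    (fun x => (CohB1.genLocus L (σ x) : Set X)) (fun x => (CohB1.genLocus L (σ x)).isOpen)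
    fun x _ => Set.mem_iUnion.2 ⟨x, hσ x⟩
  let E : Fin F.card ≃ F := F.equivFin.symm
  let φ : Fin (F.card + 1) → (Coh.structureModule X ⟶ L) := Fin.cons s fun i => σ (E i).1
  let t : Fin (F.card + 1) → ProjUP.Γm L := fun i => Lib.Ample.GenLocus.sv (φ i) ⊤
  have hlt : ∀ i, Lib.ProjMor.Sec.locus (t i) = CohB1.genLocus L (φ i) := fun i =>
    H97.GenLocusAffine.locus_sv (φ i)
  have hcov : ∀ x, ∃ i, x ∈ Lib.ProjMor.Sec.locus (t i) := fun x => by
    obtain ⟨y, hy, hxy⟩ := Set.mem_iUnion₂.1 (hF (Set.mem_univ x))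
    refine ⟨(E.symm ⟨y, hy⟩).succ, ?_⟩
    rw [hlt]
    simp only [φ, Fin.cons_succ, Equiv.apply_symm_apply]
    exact hxy
  obtain ⟨r, hr, τ, hτ⟩ := Lib.ProjMor.Poly.exists_map F.card k q L hL t
    (Lib.ProjMor.Embed.generatedBy_of_locus t hcov)
  let 𝒜 := CohB1.polyGrading F.card k
  let el : Fin (F.card + 1) → 𝒜 1 := fun i =>
    ⟨MvPolynomial.X i, MvPolynomial.isHomogeneous_X k i⟩
  have hcv := Lib.ProjMor.Main.cover (Lib.ProjMor.Poly.lin_mem F.card k)
    (Lib.ProjMor.Poly.adjoin_lin F.card k)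
  have hinv : PicF.IsInvertible (Twist.twist 𝒜 1) :=
    Lib.ProjTilde.Invertible.twist_isInvertible_of_cover (fun x => by
      obtain ⟨c, hc⟩ := hcv x
      exact ⟨c, c.2, hc⟩) 1
  let D : (CohB1.ProjSpace F.card k).Opens := Proj.basicOpen 𝒜 (el 0 : MvPolynomial (Fin (F.card + 1)) k)
  have hloc : CohB1.genLocus L s = r ⁻¹ᵁ D := by
    rw [show CohB1.genLocus L s = Lib.ProjMor.Sec.locus (t 0) from (hlt 0).symm]
    refine (congrArg Lib.ProjMor.Sec.locus (hτ 0)).symm.trans
      ((Lib.ProjMor.Sec.locus_iso τ _).trans ?_)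
    refine (Lib.ProjMor.Sec.locus_pullback hinv r _).trans ?_
    exact congrArg (r ⁻¹ᵁ ·) (Lib.ProjMor.Frame.locus_g hcv (el 0))
  have hD : IsAffineOpen D := Proj.isAffineOpen_basicOpen 𝒜 _ (el 0).2 Nat.zero_lt_one
  haveI := Lib.ProjSpace.Basic.isProper_toSpec F.card k
  haveI : IsProper (r ≫ CohB1.ProjSpace.toSpec F.card k) := by rw [hr]; infer_instance
  haveI : IsProper r := IsProper.of_comp r (CohB1.ProjSpace.toSpec F.card k)
  haveI : JacobsonSpace (CohB1.ProjSpace F.card k) :=
    LocallyOfFiniteType.jacobsonSpace (CohB1.ProjSpace.toSpec F.card k)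
  -- the fibres over closed points of `D` are finite
  have hfib : ∀ y : CohB1.ProjSpace F.card k, IsClosed ({y} : Set (CohB1.ProjSpace F.card k)) →
      y ∈ D → (r ⁻¹' {y}).Finite := by
    intro y hy hyD
    by_contra hinf
    obtain ⟨C, hC, hCd, hCsub⟩ :=
      Lib.SurfInt.GGAmple.exists_curve_of_infinite k (hy.preimage r.continuous) hinf
    refine hcurves C hC hCd (fun z hz => ?_)
    rw [SetLike.mem_coe, hloc]
    refine (?_ : r z ∈ D)
    rw [show r z = y from hCsub hz]
    exact hyD
  choose V hV hVfin using fun y : {y : CohB1.ProjSpace F.card k //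
      IsClosed ({y} : Set (CohB1.ProjSpace F.card k)) ∧ y ∈ D} =>
    exists_isFinite_morphismRestrict_of_finite_preimage_singleton r y.1 (hfib y.1 y.2.1 y.2.2)
  let W : (CohB1.ProjSpace F.card k).Opens := ⨆ y, V y
  have hDW : D ≤ W := by
    intro z hz
    obtain ⟨y, hy, hycl⟩ := nonempty_inter_closedPoints
      (Z := (D : Set (CohB1.ProjSpace F.card k)) ∩ closure {z})
      ⟨z, hz, subset_closure rfl⟩ (D.isOpen.isLocallyClosed.inter isClosed_closure.isLocallyClosed)
    exact TopologicalSpace.Opens.mem_iSup.mpr ⟨⟨y, hycl, hy.1⟩,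
      (specializes_iff_mem_closure.2 hy.2).mem_open (V _).isOpen (hV _)⟩
  haveI : IsFinite (r ∣_ W) := by
    refine IsZariskiLocalAtTarget.of_iSup_eq_top (P := @IsFinite) (fun y => W.ι ⁻¹ᵁ V y) ?_ fun y => ?_
    · rw [← Scheme.Hom.preimage_iSup]
      exact top_le_iff.1 fun z _ => z.2
    · refine ((MorphismProperty.arrow_mk_iso_iff @IsFinite
        (morphismRestrictRestrict r W (W.ι ⁻¹ᵁ V y))).2 ?_)
      rw [W.ι.image_preimage_eq_opensRange_inf, Scheme.Opens.opensRange_ι,
        inf_eq_right.mpr (le_iSup V y)]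
      exact hVfin y
  rw [hloc]
  have h1 : W.ι ''ᵁ (W.ι ⁻¹ᵁ D) = D := by
    rw [W.ι.image_preimage_eq_opensRange_inf, Scheme.Opens.opensRange_ι, inf_eq_right.mpr hDW]
  have hD' : IsAffineOpen (W.ι ⁻¹ᵁ D) :=
    (W.ι.isAffineOpen_iff_of_isOpenImmersion).mp (h1.symm ▸ hD)
  rw [← h1, ← image_morphismRestrict_preimage]
  exact (hD'.preimage (r ∣_ W)).image_of_isOpenImmersion _

end Groth.Agent.S11372
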