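import Groth.Statements.S11375
import Groth.Agent.S1109
import Groth.Agent.Lib.LFDevissage51.Basic

set_option autoImplicit false
universe u
open CategoryTheory CategoryTheory.Limits AlgebraicGeometry TopologicalSpace
open CohDim

namespace Groth.Agent.S11375

/-- Let S be an integral scheme, separated and of finite type over an algebraically closed field k, with
all local rings regular, and let r ≥ 0. If H^i(S, E) = 0 for every i > r and every finite locally
free O_S-module E, then H^i(S, F) = 0 for every i > r and every coherent O_S-module F, i.e. the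
cohomological dimension of S is at most r. -/
theorem result (k : Type u) [Field k] [IsAlgClosed k] (S : Scheme.{u})
    [S.Over (Spec (CommRingCat.of k))] [IsSeparated (S ↘ (Spec (CommRingCat.of k)))]
    [LocallyOfFiniteType (S ↘ (Spec (CommRingCat.of k)))] [QuasiCompact (S ↘ (Spec (CommRingCat.of k)))]
    [IsIntegral S] (hreg : ∀ x : S, IsRegularLocalRing (S.presheaf.stalk x)) (r : ℕ)
    (hlf : ∀ E : S.Modules, FlatMod.IsFinLocFree E → ∀ i : ℕ, r < i → Subsingleton (Coh.HH S E i))
    (F : S.Modules) (hF : Coh.IsCoh F) (i : ℕ) (hi : r < i) :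
    Subsingleton (Coh.HH S F i) := by
  haveI : CompactSpace S := QuasiCompact.compactSpace_of_compactSpace (S ↘ Spec (CommRingCat.of k))
  haveI : IsLocallyNoetherian S := LocallyOfFiniteType.isLocallyNoetherian (S ↘ Spec (CommRingCat.of k))
  haveI : IsNoetherian S := {}
  haveI : S.IsSeparated := ⟨by
    rw [show terminal.from S = (S ↘ Spec (CommRingCat.of k)) ≫ terminal.from _ from Subsingleton.elim _ _]
    infer_instance⟩
  have hres : PerfAux.HasResolutionProperty S :=
    Groth.Agent.S1109.result S hreg fun U V hU hV => hU.inf hV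
  refine Lib.LFDevissage51.descending k hres r (fun F i => Subsingleton (Coh.HH S F i))
    (fun _ _ h => h) hlf (fun T hT n h2 h1 => subsingleton_of_forall_eq 0 fun y => ?_) F hF i hi
  obtain ⟨z, rfl⟩ := (Lib.Curves.LES.exactK₃ k hT n (n + 1) rfl y).1 (h1.elim _ _)
  rw [h2.elim z 0, map_zero]

end Groth.Agent.S11375
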