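import Groth.Statements.S11377
import Groth.Agent.Lib.ResDescend36.Ample
import Groth.Agent.Lib.CohDelta.AffCover
import Groth.Agent.Lib.CurveBundle.GP
import Groth.Agent.Lib.TensorMod.TensorInv
import Groth.Agent.Lib.LFDevissage51.Basic

set_option autoImplicit false
universe u
open CategoryTheory CategoryTheory.Limits AlgebraicGeometry TopologicalSpace
open CohDim

namespace Groth.Agent.S11377

open Groth.Agent.Lib Groth.Agent.Lib.TensorMod

/-- Coherent modules are quotients of sums of large negative powers. -/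
theorem exists_epi {X : Scheme.{u}} [CompactSpace X] [QuasiSeparatedSpace X] (L M : X.Modules)
    (hL : CohB1.IsAmple L) (hM : ClSub.IsInverseOf M L) (F : X.Modules) (hF : Coh.IsCoh F) (m₀ : ℕ) :
    ∃ (n : ℕ) (_ : m₀ ≤ n) (N : ℕ) (p : CohB1.tensorMod (FlatMod.freeMod X N) (CohB1.tensorPow M n) ⟶ F),
      Epi p := by
  obtain ⟨n₀, hn₀⟩ := Ample.GG.eventually_genAt_twist hL F hF
  have hP := Invertible.isInvertible_tensorPow hL.1 (n₀ + m₀)
  let P := CohB1.tensorPow L (n₀ + m₀)
  let D := CohB1.tensorPow M (n₀ + m₀)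
  haveI := QCohInv.isQCoh_of_isInvertible hP
  haveI : F.IsQuasicoherent := hF.1
  haveI : SheafOfModules.IsFiniteType (R := X.ringCatSheaf) F := hF.2
  haveI : SheafOfModules.IsFiniteType (R := X.ringCatSheaf) P := (Ample.GG.isCoh_of_isInvertible hP).2
  have hcoh : Coh.IsCoh (CohB1.tensorMod F P) :=
    ⟨TensorQCoh.isQCoh_tensorMod _ _, TensorQCoh.isFiniteType_tensorMod _ _⟩
  obtain ⟨N, p, hp⟩ := ResDescend36.Ample.exists_epi_freeMod _ hcoh (hn₀ _ (by omega))
  obtain ⟨e⟩ := hM
  let u : CohB1.tensorMod P D ≅ Coh.structureModule X :=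
    Basic.comm _ _ ≪≫ (Ample.Pow.powTensor M L _).symm ≪≫ Ample.Pow.powIso e _ ≪≫ Ample.Pow.powUnit X _
  refine ⟨n₀ + m₀, by omega, N, Basic.tmap p (𝟙 D) ≫
    (Basic.assoc F P D ≪≫ Basic.tensorIso (Iso.refl F) u ≪≫ Basic.rightUnit F).hom, ?_⟩
  haveI : Epi (Basic.tmap p (𝟙 D)) := by
    haveI := (inferInstance : Epi ((Basic.tensorBy D).map p))
    exact this
  exact epi_comp _ _

/-- Let S be an integral scheme, separated and of finite type over an algebraically closed field k, with
all local rings regular, let L be an ample invertible O_S-module with tensor inverse M (so S is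
quasi-projective and M^{⊗m} plays the role of O_S(-m)), and let r ≥ 0. If there is m₀ such that
H^i(S, M^{⊗m}) = 0 for every i > r and every m ≥ m₀, then H^i(S, F) = 0 for every i > r and every
coherent O_S-module F. (The published statement takes O_S(1) from a quasi-projective embedding; the
printed proof uses only that F ⊗ O_S(m) is generated by finitely many global sections for m ≫ 0,
which holds for any ample L.) -/
theorem result (k : Type u) [Field k] [IsAlgClosed k] (S : Scheme.{u})
    [S.Over (Spec (CommRingCat.of k))] [IsSeparated (S ↘ (Spec (CommRingCat.of k)))]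
    [LocallyOfFiniteType (S ↘ (Spec (CommRingCat.of k)))] [QuasiCompact (S ↘ (Spec (CommRingCat.of k)))]
    [IsIntegral S] (hreg : ∀ x : S, IsRegularLocalRing (S.presheaf.stalk x))
    (L M : S.Modules) (hL : CohB1.IsAmple L) (hM : ClSub.IsInverseOf M L) (r : ℕ)
    (hneg : ∃ m₀ : ℕ, ∀ m : ℕ, m₀ ≤ m → ∀ i : ℕ, r < i → Subsingleton (Coh.HH S (CohB1.tensorPow M m) i))
    (F : S.Modules) (hF : Coh.IsCoh F) (i : ℕ) (hi : r < i) :
    Subsingleton (Coh.HH S F i) := by
  haveI : CompactSpace S := hL.2.1
  haveI : QuasiSeparatedSpace S := Lib.Ample.Pullback.quasiSeparatedSpace_of_isAmple hL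
  haveI : IsLocallyNoetherian S := LocallyOfFiniteType.isLocallyNoetherian (S ↘ Spec (CommRingCat.of k))
  haveI : IsNoetherian S := {}
  obtain ⟨m₀, hm₀⟩ := hneg
  obtain ⟨d, hd⟩ := Lib.LFDevissage51.exists_dim_bound k (X := S)
  suffices key : ∀ (j : ℕ) (F : S.Modules), Coh.IsCoh F → ∀ i, r < i → d + 1 ≤ i + j →
      Subsingleton (Coh.HH S F i) from key (d + 1) F hF i hi (by omega)
  intro j
  induction j with
  | zero => exact fun F _ i _ hij => Lib.Snapper.Chi.subsingleton_HH_of_lt hd F (by omega)
  | succ j ih =>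
    intro F hF i hi hij
    obtain ⟨n, hn, N, π, hπ⟩ := exists_epi L M hL hM F hF m₀
    haveI : HasFiniteBiproducts S.Modules := HasFiniteBiproducts.of_hasFiniteCoproducts
    let D := CohB1.tensorPow M n
    haveI := CurveBundle.GP.additive_tensorBy D
    let E : Fin N → S.Modules := fun _ => Coh.structureModule S
    let θ : CohB1.tensorMod (FlatMod.freeMod S N) D ≅ ⨁ fun _ : Fin N => D :=
      (Basic.tensorBy D).mapIso (biproduct.isoCoproduct E).symm ≪≫ (Basic.tensorBy D).mapBiproduct E ≪≫
        biproduct.mapIso fun _ => Basic.leftUnit D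
    haveI h2 : Subsingleton (Coh.HH S (CohB1.tensorMod (FlatMod.freeMod S N) D) i) := by
      haveI := CohDelta.AffCover.subsingleton_HH_biproduct (fun _ : Fin N => D) i fun _ => hm₀ n hn i hi
      exact (Curves.LES.isoK k θ i).toEquiv.subsingleton
    let T : ShortComplex S.Modules := ShortComplex.mk (kernel.ι π) π (kernel.condition π)
    have hT : T.ShortExact :=
      { exact := ShortComplex.exact_of_f_is_kernel _ (kernelIsKernel π)
        mono_f := inferInstanceAs (Mono (kernel.ι π))
        epi_g := hπ }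
    have hMi : PicF.IsInvertible M := TensorInv.isInvertible_of_tensor_iso hM.some
    have hE : Coh.IsCoh (CohB1.tensorMod (FlatMod.freeMod S N) D) :=
      Perfect.Coherent.isCoh_of_isFinLocFree (LocFree.isFinLocFree_tensorMod
        (LocFree.of_rank (LocFree.isFinLocFree_freeMod S N))
        (LocFree.of_rank (LocFree.of_isInvertible (Invertible.isInvertible_tensorPow hMi n))))
    have h1 := ih _ (CohBasics.Closure.isCoh_kernel π hE hF.1) (i + 1) (by omega) (by omega)
    refine subsingleton_of_forall_eq 0 fun y => ?_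
    obtain ⟨z, rfl⟩ := (Curves.LES.exactK₃ k hT i (i + 1) rfl y).1 (h1.elim _ _)
    rw [h2.elim z 0, map_zero]

end Groth.Agent.S11377
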