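import Groth.Statements.S11378
import Groth.Agent.H23.Lichtenbaum.Final
import Groth.Agent.Lib.Cech.MV
import Groth.Agent.Lib.ZarCoh.Compare

set_option autoImplicit false
universe u
open CategoryTheory CategoryTheory.Limits AlgebraicGeometry TopologicalSpace
open CohDim

namespace Groth.Agent.S11378

/-- Let X be proper and integral over an algebraically closed field k, of dimension n ≥ 2, with all
local rings regular, and let U ≠ X be an open subscheme whose cohomological dimension is at most n -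
2: H^i(U, F) = 0 for every coherent O_U-module F and every i with n - 2 < i. Then Y = X ∖ U is
connected. -/
theorem result (k : Type u) [Field k] [IsAlgClosed k] (X : Scheme.{u})
    [X.Over (Spec (CommRingCat.of k))] [IsProper (X ↘ (Spec (CommRingCat.of k)))] [IsIntegral X]
    (hreg : ∀ x : X, IsRegularLocalRing (X.presheaf.stalk x))
    (n : ℕ) (hn : 2 ≤ n) (hdim : topologicalKrullDim X = n)
    (U : X.Opens) (hUX : U ≠ ⊤)
    (hcd : ∀ F : (U : Scheme.{u}).Modules, Coh.IsCoh F → ∀ i : ℕ, n - 2 < i → Subsingleton (Coh.HH (U : Scheme.{u}) F i)) :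
    _root_.IsConnected ((U : Set X)ᶜ) := by

  haveI : IsLocallyNoetherian X :=
    LocallyOfFiniteType.isLocallyNoetherian (X ↘ Spec (CommRingCat.of k))
  obtain ⟨F, hF, hFn⟩ :=
    Groth.Agent.H23.Lichtenbaum.Proper.exists_coh_not_subsingleton (X ↘ Spec (CommRingCat.of k)) hdim
  obtain ⟨m, rfl⟩ : ∃ m, n = m + 2 := ⟨n - 2, by omega⟩
  have hne : ((U : Set X)ᶜ).Nonempty :=
    Set.nonempty_compl.2 fun h => hUX (SetLike.coe_injective (h.trans Opens.coe_top.symm))
  refine ⟨hne, isPreconnected_closed_iff.2 fun A B hA hB hAB hDA hDB => ?_⟩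
  by_contra hdis
  rw [Set.not_nonempty_iff_eq_empty] at hdis
  have hres : ∀ (V : X.Opens), Coh.IsCoh (F.restrict V.ι) := fun V =>
    Groth.Agent.Lib.CohBasics.Closure.isCoh_of_iso
      ((Scheme.Modules.restrictFunctorIsoPullback _).app F).symm
      (Groth.Agent.Lib.Cyc.FP.Stalk.isCoh_pullback V.ι hF)
  have hon : ∀ (V : X.Opens) (q : ℕ), Subsingleton (Coh.HH (V : Scheme.{u}) (F.restrict V.ι) q) →
      Subsingleton (CohTop.HU (Coh.toAb F) q V) := fun V q h => by
    have e := Groth.Agent.Lib.ZarCoh.Morph.openEquiv V.ι F q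
    rw [Scheme.Hom.image_top_eq_opensRange, Scheme.Opens.opensRange_ι] at e
    exact e.symm.toEquiv.subsingleton
  have hV : ∀ (D : Set X) (hD : IsClosed D), D.Nonempty → D ≠ Set.univ →
      Subsingleton (CohTop.HU (Coh.toAb F) (m + 2) (⟨Dᶜ, hD.isOpen_compl⟩ : X.Opens)) := by
    intro D hD hDne hDu
    let V : X.Opens := ⟨Dᶜ, hD.isOpen_compl⟩
    refine hon V _ ?_
    have hVne : (V : Set X).Nonempty := Set.nonempty_compl.2 hDu
    haveI : Nonempty V := hVne.to_subtype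
    haveI : IsIntegral (V : Scheme.{u}) := isIntegral_of_isOpenImmersion V.ι
    refine Groth.Agent.H23.Lichtenbaum.Final.subsingleton_HH_of_not_proper
      (V.ι ≫ (X ↘ Spec (CommRingCat.of k))) (fun hp => ?_)
      (V.ι.isOpenEmbedding.isInducing.topologicalKrullDim_le.trans hdim.le) _ (hres V)
    haveI := hp
    haveI : IsProper V.ι := IsProper.of_comp V.ι (X ↘ Spec (CommRingCat.of k))
    have hcl : IsClosed (V : Set X) := by
      have := V.ι.isClosedMap.isClosed_range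
      rwa [Scheme.Opens.range_ι] at this
    have hu := (IsClopen.eq_univ ⟨hcl, V.2⟩ hVne : (V : Set X) = Set.univ)
    exact hDne.ne_empty (Set.compl_univ_iff.1 hu)
  have hcl := U.2.isClosed_compl
  obtain ⟨a, ha⟩ := hDA
  obtain ⟨b, hb⟩ := hDB
  haveI h1 := hV _ (hcl.inter hA) ⟨a, ha⟩ fun h => by
    have hb' : b ∈ (U : Set X)ᶜ ∩ A := h ▸ trivial
    exact Set.eq_empty_iff_forall_notMem.1 hdis b ⟨hb.1, hb'.2, hb.2⟩
  haveI h2 := hV _ (hcl.inter hB) ⟨b, hb⟩ fun h => by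
    have ha' : a ∈ (U : Set X)ᶜ ∩ B := h ▸ trivial
    exact Set.eq_empty_iff_forall_notMem.1 hdis a ⟨ha.1, ha.2, ha'.2⟩
  let V1 : X.Opens := ⟨((U : Set X)ᶜ ∩ A)ᶜ, (hcl.inter hA).isOpen_compl⟩
  let V2 : X.Opens := ⟨((U : Set X)ᶜ ∩ B)ᶜ, (hcl.inter hB).isOpen_compl⟩
  have hinf : V1 ⊓ V2 = U := by
    ext x
    by_cases hx : x ∈ (U : Set X)
    · exact iff_of_true ⟨fun h => h.1 hx, fun h => h.1 hx⟩ hx
    · refine iff_of_false ?_ hx
      rintro ⟨p, q⟩
      rcases hAB hx with h | h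
      · exact p ⟨hx, h⟩
      · exact q ⟨hx, h⟩
  have hsup : V1 ⊔ V2 = ⊤ := by
    refine eq_top_iff.2 fun x _ => ?_
    by_contra hx
    have hx' : ¬ (x ∈ ((U : Set X)ᶜ ∩ A)ᶜ ∨ x ∈ ((U : Set X)ᶜ ∩ B)ᶜ) := hx
    simp only [Set.mem_compl_iff, not_or, not_not] at hx'
    exact Set.eq_empty_iff_forall_notMem.1 hdis x ⟨hx'.1.1, hx'.1.2, hx'.2.2⟩
  haveI : Subsingleton (CohTop.HU (Coh.toAb F) (m + 1) (V1 ⊓ V2)) := by
    rw [hinf]
    exact hon U _ (hcd _ (hres U) _ (by omega))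
  haveI : Subsingleton (CohTop.HU (Coh.toAb F) (m + 1 + 1) V1) := h1
  haveI : Subsingleton (CohTop.HU (Coh.toAb F) (m + 1 + 1) V2) := h2
  have h := Groth.Agent.Lib.Cech.MV.subsingleton_HU_sup (Coh.toAb F) V1 V2 (m + 1)
  rw [hsup] at h
  refine hFn ?_
  haveI : Subsingleton (CategoryTheory.Abelian.Ext.{u}
    (Groth.Agent.Lib.ZarCoh.Basic.Zs.obj (⊤ : TopologicalSpace.Opens X)) (Coh.toAb F) (m + 2)) := h
  exact (Groth.Agent.Lib.ZarCoh.Compare.hTop (Coh.toAb F) (m + 2)).toEquiv.subsingleton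
end Groth.Agent.S11378
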