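import Groth.Statements.S1138
import Groth.Agent.H80.Extend.FormalCompl

set_option autoImplicit false
set_option backward.isDefEq.respectTransparency false
universe u
open Pi1

namespace Groth.Agent.S1138

open AlgebraicGeometry CategoryTheory CategoryTheory.Limits in
/-- Let A be a Noetherian local ring with completion A', U the punctured spectrum of A and U' its base
change to X' = Spec A'. Let V ⟶ U be finite and let Y' ⟶ X' be finite with Y' ×_{X'} U' isomorphic
to V ×_U U' over U'. Then there is a finite Y ⟶ Spec A with Y ×_X U isomorphic to V over U and Y ×_X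
X' isomorphic to Y' over X'. (The source also records that these isomorphisms are compatible over
U'; this statement only asserts their existence.) -/
theorem result (A : Type u) [CommRing A] [IsNoetherianRing A] [IsLocalRing A]
    (V : Over (FEt.puncturedSpec A : Scheme.{u})) [IsFinite V.hom]
    (Y' : Over (Spec (CommRingCat.of (AdicCompletion (IsLocalRing.maximalIdeal A) A)))) [IsFinite Y'.hom]
    (e : (Over.pullback (pullback.fst (FEt.puncturedSpec A).ι (Spec.map (CommRingCat.ofHom (algebraMap A (AdicCompletion (IsLocalRing.maximalIdeal A) A)))))).obj V ≅ (Over.pullback (pullback.snd (FEt.puncturedSpec A).ι (Spec.map (CommRingCat.ofHom (algebraMap A (AdicCompletion (IsLocalRing.maximalIdeal A) A)))))).obj Y') :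
    ∃ Y : Over (Spec (CommRingCat.of A)), IsFinite Y.hom ∧
      Nonempty ((Over.pullback (FEt.puncturedSpec A).ι).obj Y ≅ V) ∧
      Nonempty ((Over.pullback (Spec.map (CommRingCat.ofHom (algebraMap A (AdicCompletion (IsLocalRing.maximalIdeal A) A))))).obj Y ≅ Y') := by
  let g := Spec.map (CommRingCat.ofHom (algebraMap A (AdicCompletion (IsLocalRing.maximalIdeal A) A)))
  let ι := (FEt.puncturedSpec A).ι
  let q : V.left ⟶ (FEt.puncturedSpec A : Scheme.{u}) := V.hom
  have : IsFinite q := ‹IsFinite V.hom›
  let z₂ : Y'.left ⟶ Spec (CommRingCat.of (AdicCompletion (IsLocalRing.maximalIdeal A) A)) := Y'.hom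
  have : IsFinite z₂ := ‹IsFinite Y'.hom›
  have : IsAffine Y'.left := isAffine_of_isAffineHom z₂
  let el : pullback q (pullback.fst ι g) ≅ pullback z₂ (pullback.snd ι g) :=
    (Over.forget _).mapIso e
  have hel : el.hom ≫ pullback.snd z₂ (pullback.snd ι g) = pullback.snd q (pullback.fst ι g) :=
    Over.w e.hom
  have h1 := (IsPullback.of_hasPullback q (pullback.fst ι g)).paste_vert (IsPullback.of_hasPullback ι g)
  have hcz : (el.hom ≫ pullback.fst z₂ (pullback.snd ι g)) ≫ z₂ =
      pullback.snd q (pullback.fst ι g) ≫ pullback.snd ι g := by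
    rw [Category.assoc, pullback.condition, ← Category.assoc, hel]
  have h2 : IsPullback (pullback.fst q (pullback.fst ι g) ≫ q)
      (el.hom ≫ pullback.fst z₂ (pullback.snd ι g)) ι (z₂ ≫ g) := by
    refine ((IsPullback.of_hasPullback z₂ (pullback.snd ι g)).flip.paste_horiz
      (IsPullback.of_hasPullback ι g)).of_iso el.symm (Iso.refl _) (Iso.refl _) (Iso.refl _) ?_ ?_
      (by simp) (by simp)
    · simp only [Iso.refl_hom, Category.comp_id, Iso.symm_hom]
      rw [pullback.condition, ← Category.assoc, ← hel, Iso.inv_hom_id_assoc]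
    · simp only [Iso.refl_hom, Category.comp_id, Iso.symm_hom, Iso.inv_hom_id_assoc]
  obtain ⟨Z, z, j, θ, hθ, hj⟩ :=
    Groth.Agent.H80.Extend.exists_glue_completion A q z₂ _ _ _ h1 hcz h2
  have := Groth.Agent.H80.Extend.faithfullyFlat_completion A
  have hfs : (@Surjective ⊓ @Flat ⊓ @QuasiCompact : MorphismProperty Scheme.{u}) g :=
    ⟨⟨⟨PrimeSpectrum.comap_surjective_of_faithfullyFlat⟩,
      Flat.SpecMap_iff.mpr (RingHom.flat_algebraMap_iff.mpr inferInstance)⟩, inferInstance⟩
  have hz : IsFinite z := MorphismProperty.of_isPullback_of_descendsAlong (P := @IsFinite) hθ.flip hfs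
    (inferInstanceAs (IsFinite z₂))
  exact ⟨Over.mk z, hz, ⟨Over.isoMk hj.isoPullback.symm hj.isoPullback_inv_snd⟩,
    ⟨Over.isoMk hθ.isoPullback.symm hθ.isoPullback_inv_snd⟩⟩

end Groth.Agent.S1138
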