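import Groth.Statements.S11380
import Groth.Agent.H23.CompleteInt.Cut

set_option autoImplicit false
universe u
open CategoryTheory CategoryTheory.Limits AlgebraicGeometry TopologicalSpace
open CohDim

namespace Groth.Agent.S11380

/-- Let X be proper and integral over an algebraically closed field k, of dimension n, with all local
rings regular and carrying an ample invertible O_X-module, let U be an open subscheme and r ≥ 0 such
that H^i(U, F) is finite-dimensional over k for every coherent O_U-module F and every i > r. Then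
every irreducible component Z of Y = X ∖ U has dimension at least n - r - 1. -/
theorem result (k : Type u) [Field k] [IsAlgClosed k] (X : Scheme.{u})
    [X.Over (Spec (CommRingCat.of k))] [IsProper (X ↘ (Spec (CommRingCat.of k)))] [IsIntegral X]
    (hreg : ∀ x : X, IsRegularLocalRing (X.presheaf.stalk x))
    (A : X.Modules) (hA : CohB1.IsAmple A)
    (n : ℕ) (hdim : topologicalKrullDim X = n) (U : X.Opens) (r : ℕ)
    (hq : ∀ F : (U : Scheme.{u}).Modules, Coh.IsCoh F → ∀ i : ℕ, r < i →
      Module.Finite k (Coh.HH (U : Scheme.{u}) F i))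
    (Z : Set ((U : Set X)ᶜ : Set X)) (hZ : Z ∈ irreducibleComponents ((U : Set X)ᶜ : Set X)) :
    (n : WithBot ℕ∞) ≤ topologicalKrullDim Z + ((r + 1 : ℕ) : WithBot ℕ∞) := by
  open Groth.Agent.Lib in
  let q := X ↘ Spec (CommRingCat.of k)
  open Groth.Agent.Lib in
  haveI : IsLocallyNoetherian X := LocallyOfFiniteType.isLocallyNoetherian q
  let C : Set X := Subtype.val '' Z
  have hC : IsClosed C :=
    U.2.isClosed_compl.isClosedEmbedding_subtypeVal.isClosedMap _ (isClosed_of_mem_irreducibleComponents Z hZ)
  have hCi : IsIrreducible C := hZ.1.image _ continuous_subtype_val.continuousOn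
  obtain ⟨η, hη⟩ := QuasiSober.sober hCi hC
  obtain ⟨⟨η', hη'U⟩, hη'Z, hη'e⟩ : η ∈ C := hη.mem
  have hηU : η ∉ U := hη'e ▸ hη'U
  have hmax : ∀ y, y ∉ U → y ⤳ η → y = η := by
    intro y hy hyη
    let y' : ((U : Set X)ᶜ : Set X) := ⟨y, hy⟩
    have hsub : Z ⊆ closure {y'} := by
      intro z hz
      rw [Topology.IsInducing.subtypeVal.closure_eq_preimage_closure_image, Set.image_singleton]
      exact specializes_iff_mem_closure.1 (hyη.trans (hη.specializes ⟨z, hz, rfl⟩))
    have hmem : y' ∈ Z := hZ.2 isIrreducible_singleton.closure hsub (subset_closure rfl)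
    exact (hyη.antisymm (hη.specializes ⟨y', hmem, rfl⟩)).eq
  have hdimZ : topologicalKrullDim Z = (Groth.Agent.Lib.VarDim.Basic.pdim q η : WithBot ℕ∞) := by
    rw [← Groth.Agent.Lib.VarDim.Basic.topologicalKrullDim_isGenericPoint q hη]
    exact (Topology.IsEmbedding.subtypeVal.homeomorphImage Z).isHomeomorph.topologicalKrullDim_eq
  rw [hdimZ]
  rcases Nat.lt_or_ge n (Groth.Agent.Lib.VarDim.Basic.pdim q η + 2) with hlt | hge
  · exact_mod_cast (show n ≤ Groth.Agent.Lib.VarDim.Basic.pdim q η + (r + 1) by omega)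
  obtain ⟨m, hm, F, hF, hnf⟩ :=
    Groth.Agent.H23.CompleteInt.exists_not_finite k hdim U η hηU hmax rfl hge
  replace hm : n ≤ m + 2 + Groth.Agent.Lib.VarDim.Basic.pdim q η := hm
  have hr : m + 1 ≤ r := by
    by_contra h
    exact hnf (hq F hF (m + 1) (by omega))
  exact_mod_cast (show n ≤ Groth.Agent.Lib.VarDim.Basic.pdim q η + (r + 1) by omega)

end Groth.Agent.S11380
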