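import Groth.Statements.S11382
import Groth.Agent.H22.AffineCompl11382.Main
import Groth.Agent.H63.CartierInverse
import Groth.Agent.H22.StrictTransform.Near
import Groth.Agent.H97.GenLocusAffine
import Groth.Agent.Lib.BlowUpExists.Exists
import Groth.Agent.Lib.SchColim29.CompactLocal

set_option autoImplicit false
universe u
open CategoryTheory CategoryTheory.Limits AlgebraicGeometry TopologicalSpace
open Variety

namespace Groth.Agent.S11382

/-- Let X be proper and integral over an algebraically closed field k and U ⊆ X an open subset with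
closed complement Y. Then U is affine if and only if there exist a closed subscheme Z of X, defined
by a quasi-coherent ideal 𝓙 with support contained in Y, and a blowing-up f : X' ⟶ X of X in Z
(characterised by its universal property; X' is again proper over k), such that f⁻¹(Y) is the
support of an effective Cartier divisor D on X' admitting an ample invertible module O_{X'}(D), i.e.
an ample tensor inverse of the ideal of D. -/
theorem result (k : Type u) [Field k] [IsAlgClosed k] (X : Scheme.{u})
    [X.Over (Spec (CommRingCat.of k))] [IsProper (X ↘ (Spec (CommRingCat.of k)))] [IsIntegral X]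
    (U : X.Opens) :
    IsAffineOpen U ↔
      ∃ 𝓙 : X.IdealSheafData, (𝓙.support : Set X) ⊆ (U : Set X)ᶜ ∧
        ∃ (X' : Scheme.{u}) (f : X' ⟶ X), BlowUp.IsBlowUp f 𝓙 ∧
          IsProper (f ≫ (X ↘ (Spec (CommRingCat.of k)))) ∧
          ∃ (D : X'.IdealSheafData) (L : X'.Modules), BlowUp.IsEffCartierIdeal D ∧
            (D.support : Set X') = (fun x => f x) ⁻¹' ((U : Set X)ᶜ) ∧
            ClSub.IsInverseOf L (ClSub.idealMod D) ∧ CohB1.IsAmple L := by
  let f : X ⟶ Spec (CommRingCat.of k) := X ↘ (Spec (CommRingCat.of k))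
  haveI : IsProper f := ‹_›
  constructor
  · intro hU
    rcases (U : Set X).eq_empty_or_nonempty with he | hne
    · obtain ⟨X', b, hb⟩ := Groth.Agent.Lib.BlowUpExists.exists_isBlowUp X ⊥
      haveI : IsProper b := Groth.Agent.Lib.BlowUpExists.isProper_of_isBlowUp hb fun _ => Submodule.fg_bot
      haveI : IsEmpty X' := ⟨fun x => by
        obtain ⟨W, hxW, a, ha, hW⟩ := hb.1 x
        rw [Scheme.IdealSheafData.comap_bot] at hW
        haveI : Nontrivial Γ(X', W.1) := (haveI : Nonempty W.1 := ⟨⟨x, hxW⟩⟩; inferInstance)
        refine nonZeroDivisors.ne_zero ha ?_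
        rw [← Ideal.span_singleton_eq_bot, ← hW, Scheme.IdealSheafData.ideal_bot, Pi.bot_apply]⟩
      refine ⟨⊥, fun x _ => by rw [he]; exact id, X', b, hb, inferInstance, ⊤,
        Coh.structureModule X', fun x => isEmptyElim x, Set.ext fun x => isEmptyElim x, ?_, ?_⟩
      · exact ⟨(Groth.Agent.Lib.SchColim29.CompactLocal.isZero_modules_of_isEmpty _).iso
          (Groth.Agent.Lib.SchColim29.CompactLocal.isZero_modules_of_isEmpty _)⟩
      · exact ⟨_root_.PicLoc.isInvertible_structureModule X', inferInstance, fun x => isEmptyElim x⟩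
    · exact Groth.Agent.H22.AffineCompl11382.exists_blowUp_ample f U hU hne
  · rintro ⟨J, hJ, X', b, hb, hp, D, L, hD, hsupp, hinv, hL⟩
    obtain ⟨s, hs⟩ := Groth.Agent.H63.CartierInverse.exists_section D hD L hL.1 hinv
    haveI := hp
    have haff := Groth.Agent.H97.GenLocusAffine.isAffineOpen_genLocus (b ≫ f) hL s
    have hloc : CohB1.genLocus L s = b ⁻¹ᵁ U := by
      ext x
      rw [SetLike.mem_coe, hs x, ← SetLike.mem_coe, hsupp]
      exact not_not
    rw [hloc] at haff
    haveI := Groth.Agent.Lib.Ideal.BlowUp.isIso_off_center hb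
    haveI : IsIso (b ∣_ U) := Groth.Agent.H22.StrictTransform.isIso_restrict_of_le
      (φ := b) (V := J.support.compl) (fun x hx h => hJ h hx)
    haveI : IsAffine (b ⁻¹ᵁ U : Scheme.{u}) := haff
    exact IsAffine.of_isIso (CategoryTheory.inv (b ∣_ U))

end Groth.Agent.S11382
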