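import Groth.Statements.S11386
import Groth.Agent.H23.CompleteInt.Cut
import Groth.Agent.H23.CompleteInt.Proj

set_option autoImplicit false
universe u
open CategoryTheory CategoryTheory.Limits AlgebraicGeometry TopologicalSpace
open CohDim

namespace Groth.Agent.S11386

/-- Let k be an algebraically closed field and Y ⊆ P = P^n_k a closed subset of dimension s with s + 1 ≤
n which is a set-theoretic complete intersection, i.e. the common zero set of n - s homogeneous
forms of positive degrees; let U = P ∖ Y. Then cd(U) = q(U) = n - s - 1: H^i(U, F) = 0 for every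
coherent O_U-module F and every i > n - s - 1, while H^{n-s-1}(U, F) is infinite-dimensional over k
for some coherent O_U-module F. -/
theorem result (k : Type u) [Field k] [IsAlgClosed k] (n : ℕ) (s : ℕ) (hs : s + 1 ≤ n)
    (a : Fin (n - s) → ℕ) (ha : ∀ j, 1 ≤ a j) (G : ∀ j : Fin (n - s), LefPen.Form n k (a j))
    (hdim : topologicalKrullDim ((LefPen.ciIdeal G).support : Set (CohB1.ProjSpace n k)) = s)
    (U : (CohB1.ProjSpace n k).Opens)
    (hU : (U : Set (CohB1.ProjSpace n k)) = ((LefPen.ciIdeal G).support : Set (CohB1.ProjSpace n k))ᶜ) :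
    (∀ F : (U : Scheme.{u}).Modules, Coh.IsCoh F → ∀ i : ℕ, n - s - 1 < i →
        Subsingleton (Coh.HH (U : Scheme.{u}) F i)) ∧
      ∃ F : (U : Scheme.{u}).Modules, Coh.IsCoh F ∧
        ¬ Module.Finite k (Coh.HH (U : Scheme.{u}) F (n - s - 1)) := by
  have hvan : ∀ F : (U : Scheme.{u}).Modules, Coh.IsCoh F → ∀ i : ℕ, n - s - 1 < i →
      Subsingleton (Coh.HH (U : Scheme.{u}) F i) := fun F hF i hi =>
    Groth.Agent.H23.CompleteInt.Proj.subsingleton_HH ha G (by omega) U hU F hF i (by omega)
  refine ⟨hvan, ?_⟩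
  let q := CohB1.ProjSpace n k ↘ Spec (CommRingCat.of k)
  haveI := Groth.Agent.Lib.ProjSpace.Basic.isProper_toSpec n k
  haveI : IsProper q := inferInstanceAs (IsProper (CohB1.ProjSpace.toSpec n k))
  haveI : IsLocallyNoetherian (CohB1.ProjSpace n k) := LocallyOfFiniteType.isLocallyNoetherian q
  have hdimP := Groth.Agent.Lib.ProjSpace.Dim.topologicalKrullDim_projSpace_of_field n k
  let Y : Set (CohB1.ProjSpace n k) := ((LefPen.ciIdeal G).support : Set (CohB1.ProjSpace n k))
  have hY : IsClosed Y := (LefPen.ciIdeal G).support.isClosed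
  have hle : ∀ x ∈ Y, Groth.Agent.Lib.VarDim.Basic.pdim q x ≤ s := fun x hx => by
    exact_mod_cast (Groth.Agent.Lib.VarDim.Basic.pdim_le_topologicalKrullDim q hY.isLocallyClosed hx).trans hdim.le
  have hmem : ∀ x, x ∉ U → x ∈ Y := fun x hx => by
    by_contra h
    exact hx ((Set.ext_iff.1 hU x).2 h)
  rcases Nat.lt_or_ge (s + 1) n with hlt | hge
  · obtain ⟨η, hη, hηs⟩ : ∃ η ∈ Y, s ≤ Groth.Agent.Lib.VarDim.Basic.pdim q η := by
      by_contra hno
      push Not at hno
      rcases Nat.eq_zero_or_pos s with rfl | hpos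
      · haveI : IsEmpty Y := ⟨fun y => Nat.not_lt_zero _ (hno y.1 y.2)⟩
        have h0 : topologicalKrullDim Y = ⊥ := Order.krullDim_eq_bot_iff.2 ⟨fun z => by
          obtain ⟨y, -⟩ := z.isIrreducible.1
          exact IsEmpty.false y⟩
        rw [h0] at hdim
        exact absurd hdim (by simp)
      · have h1 : topologicalKrullDim Y ≤ ((s - 1 : ℕ) : WithBot ℕ∞) :=
          (Groth.Agent.Lib.VarDim.Basic.topologicalKrullDim_le_iff q hY.isLocallyClosed _).2 fun x hx => by
            exact_mod_cast (show Groth.Agent.Lib.VarDim.Basic.pdim q x ≤ s - 1 by have := hno x hx; omega)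
        rw [hdim] at h1
        have h2 : s ≤ s - 1 := by exact_mod_cast h1
        omega
    have hηU : η ∉ U := fun h => (Set.ext_iff.1 hU η).1 h hη
    obtain ⟨m, hm, F, hF, hnf⟩ := Groth.Agent.H23.CompleteInt.exists_not_finite k hdimP U η hηU
      (fun y hy hyη => Groth.Agent.Lib.VarDim.Basic.eq_of_pdim_le q hyη ((hle y (hmem y hy)).trans hηs))
      (le_antisymm (hle η hη) hηs) (by omega)
    have hm' : m + 1 ≤ n - s - 1 := by
      by_contra h
      haveI := hvan F hF (m + 1) (by omega)
      exact hnf inferInstance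
    refine ⟨F, hF, ?_⟩
    rwa [show n - s - 1 = m + 1 by omega]
  · haveI : IsLocallyNoetherian (U : Scheme.{u}) := isLocallyNoetherian_of_isOpenImmersion U.ι
    refine ⟨Coh.structureModule _, Groth.Agent.Lib.Snapper.Twist.isCoh_structureModule _, ?_⟩
    rw [show n - s - 1 = 0 by omega]
    have hr : n - s = 1 := by omega
    haveI : Subsingleton (Fin (n - s)) := hr ▸ inferInstanceAs (Subsingleton (Fin 1))
    let j₀ : Fin (n - s) := ⟨0, by omega⟩
    have hUD : U = Groth.Agent.H23.CompleteInt.Proj.D G j₀ := by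
      refine (Groth.Agent.H23.CompleteInt.Proj.compl_eq G U hU).trans (le_antisymm (iSup_le fun j => ?_) (le_iSup _ j₀))
      rw [Subsingleton.elim j j₀]
    refine Groth.Agent.H23.CompleteInt.Proj.not_finite_functions (by omega) U
      (hUD ▸ AlgebraicGeometry.Proj.isAffineOpen_basicOpen _ _ (G j₀).2 (ha j₀)) ?_
    rw [Set.nonempty_iff_ne_empty]
    intro h
    have hYu : Y = Set.univ := Set.eq_univ_of_forall fun x => hmem x fun hx => (Set.eq_empty_iff_forall_notMem.1 h x) hx
    have h3 : topologicalKrullDim Y = (n : WithBot ℕ∞) := by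
      rw [hYu, (Homeomorph.Set.univ _).isHomeomorph.topologicalKrullDim_eq, hdimP]
    have h4 : (n : WithBot ℕ∞) = (s : WithBot ℕ∞) := h3.symm.trans hdim
    have : n = s := by exact_mod_cast h4
    omega

end Groth.Agent.S11386
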