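import Groth.Statements.S11391
import Groth.Agent.H23.DepthRestrict.Finite

set_option autoImplicit false
universe u
open CategoryTheory CategoryTheory.Limits AlgebraicGeometry TopologicalSpace
open CohDim

namespace Groth.Agent.S11391

/-- Let X be proper and integral over an algebraically closed field k, of dimension n, with all local
rings regular, and let U ⊆ X be an open subscheme whose closed complement Y = X ∖ U has dimension at
most s (every irreducible component of Y has dimension ≤ s). Then H^i(U, F) is finite-dimensional
over k for every finite locally free O_U-module F and every i < n - s - 1, i.e. p(U) ≥ n - s - 1. -/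
theorem result (k : Type u) [Field k] [IsAlgClosed k] (X : Scheme.{u})
    [X.Over (Spec (CommRingCat.of k))] [IsProper (X ↘ (Spec (CommRingCat.of k)))] [IsIntegral X]
    (hreg : ∀ x : X, IsRegularLocalRing (X.presheaf.stalk x))
    (n : ℕ) (hdim : topologicalKrullDim X = n) (U : X.Opens) (s : ℕ)
    (hY : topologicalKrullDim ((U : Set X)ᶜ : Set X) ≤ (s : WithBot ℕ∞))
    (F : (U : Scheme.{u}).Modules) (hF : FlatMod.IsFinLocFree F) (i : ℕ) (hi : i + s + 1 < n) :
    Module.Finite k (Coh.HH (U : Scheme.{u}) F i) := by
  exact Groth.Agent.H23.DepthRestrict.finite_HH k hreg hdim U hY F hF i hi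

end Groth.Agent.S11391
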