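import Groth.Statements.S11398
import Groth.Agent.Lib.IsogLaw.AffNormal
import Groth.Agent.Lib.GrpQ.DomFF

set_option autoImplicit false
universe u
open CategoryTheory MonoidalCategory CartesianMonoidalCategory MonObj GrpObj AlgebraicGeometry CategoryTheory.Limits
open AlgGrp

set_option backward.isDefEq.respectTransparency false
set_option linter.style.haveILetI false

namespace Groth.Agent.S11398

/-- Over an algebraically closed field k, every algebraic group G (a smooth k-group scheme of finite
type) has a largest connected affine normal algebraic subgroup G_aff: a homomorphism and closed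
immersion i : N → G from a smooth, connected, affine k-group scheme, normal in G, through which
every other such subgroup factors. Moreover the quotient G/G_aff has trivial G_aff: for every flat
surjective homomorphism q : G → Q of k-group schemes of finite type with kernel i, every smooth
connected affine normal closed subgroup of Q is the trivial group. -/
theorem result (k : Type u) [Field k] [IsAlgClosed k]
    (G : Over (Spec (CommRingCat.of k))) [GrpObj G] [Smooth G.hom] [QuasiCompact G.hom] :
    ∃ (N : Over (Spec (CommRingCat.of k))) (_ : GrpObj N) (i : N ⟶ G), (IsMonHom i ∧ IsClosedImmersion i.left ∧ Smooth N.hom ∧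
      ConnectedSpace ↥N.left ∧ IsAffine N.left ∧ AlgGrp.IsNormalHom i) ∧
      (∀ (N' : Over (Spec (CommRingCat.of k))) [GrpObj N'] (i' : N' ⟶ G) [IsMonHom i'] [IsClosedImmersion i'.left]
        [Smooth N'.hom] [ConnectedSpace ↥N'.left] [IsAffine N'.left], AlgGrp.IsNormalHom i' → ∃ f : N' ⟶ N, f ≫ i = i') ∧
      (∀ (Q : Over (Spec (CommRingCat.of k))) [GrpObj Q] [LocallyOfFiniteType Q.hom] [QuasiCompact Q.hom] (q : G ⟶ Q) [IsMonHom q]
        [Surjective q.left] [Flat q.left], AlgGrp.IsKernel i q →
        ∀ (N'' : Over (Spec (CommRingCat.of k))) [GrpObj N''] (i'' : N'' ⟶ Q) [IsMonHom i''] [IsClosedImmersion i''.left]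
          [Smooth N''.hom] [ConnectedSpace ↥N''.left] [IsAffine N''.left], AlgGrp.IsNormalHom i'' → IsIso N''.hom) := by
  obtain ⟨N, _, i, hN, hmax⟩ := Groth.Agent.Lib.IsogLaw.AffNormal.exists_largest (G := G)
  refine ⟨N, inferInstance, i, hN, hmax, fun Q _ _ _ q _ _ _ hker N'' _ i'' _ _ _ _ _ hn'' => ?_⟩
  obtain ⟨hi, hic, hs, hc, haff, hnor⟩ := hN
  haveI : Mono i := Over.mono_of_mono_left i
  haveI : Mono i'' := Over.mono_of_mono_left i''
  let P := Limits.pullback q i''
  let π₁ : P ⟶ G := Limits.pullback.fst q i''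
  let π₂ : P ⟶ N'' := Limits.pullback.snd q i''
  have sq := (IsPullback.of_hasPullback q i'').map (Over.forget _)
  haveI : IsClosedImmersion π₁.left := MorphismProperty.of_isPullback (P := @IsClosedImmersion) sq.flip ‹_›
  haveI : Flat π₂.left := MorphismProperty.of_isPullback (P := @Flat) sq ‹_›
  haveI : Surjective π₂.left := MorphismProperty.of_isPullback (P := @Surjective) sq ‹_›
  haveI : Mono π₁ := Over.mono_of_mono_left π₁
  have hlift : ∀ {T : Over (Spec (CommRingCat.of k))} (x : T ⟶ G) (y : T ⟶ N''), x ≫ q = y ≫ i'' →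
      ∃ l : T ⟶ P, l ≫ π₁ = x := fun x y h => ⟨Limits.pullback.lift x y h, Limits.pullback.lift_fst _ _ _⟩
  have hcond : π₁ ≫ q = π₂ ≫ i'' := Limits.pullback.condition
  obtain ⟨_, hπ₁⟩ := Groth.Agent.Lib.FreeRes.exists_grpObj_of_mono π₁
    (fun T => hlift 1 1 (by rw [MonObj.one_comp q, MonObj.one_comp i'']))
    (fun {T} x y => hlift _ ((x ≫ π₂) * (y ≫ π₂)) (by
      rw [MonObj.mul_comp _ _ q, MonObj.mul_comp _ _ i'', Category.assoc, Category.assoc, hcond, Category.assoc,
        Category.assoc]))
    (fun {T} x => hlift _ (x ≫ π₂)⁻¹ (by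
      rw [GrpObj.inv_comp _ q, GrpObj.inv_comp _ i'', Category.assoc, hcond, Category.assoc]))
  haveI := hπ₁
  haveI : IsMonHom π₂ := Groth.Agent.Lib.GrpQ.DomFlat.isMonHom_of_comp_mono π₂ i'' (by rw [← hcond]; infer_instance)
  haveI : LocallyOfFiniteType P.hom := by rw [← Over.w π₁]; infer_instance
  haveI : QuasiCompact P.hom := by rw [← Over.w π₁]; infer_instance
  haveI : LocallyOfFiniteType N.hom := by rw [← Over.w i]; infer_instance
  haveI : QuasiCompact N.hom := by rw [← Over.w i]; infer_instance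
  have hiq : i ≫ q = toUnit N ≫ η[N''] ≫ i'' := by rw [IsMonHom.one_hom, hker.w]
  let ν : N ⟶ P := Limits.pullback.lift i (toUnit N ≫ η[N'']) (by rw [hiq, Category.assoc])
  haveI : IsMonHom ν := Groth.Agent.Lib.GrpQ.DomFlat.isMonHom_of_comp_mono ν π₁
    (by rw [show ν ≫ π₁ = i from Limits.pullback.lift_fst _ _ _]; infer_instance)
  have hν : AlgGrp.IsKernel ν π₂ := by
    have w : ν ≫ π₂ = toUnit N ≫ η[N''] := Limits.pullback.lift_snd _ _ _
    have hex : ∀ (s : Limits.PullbackCone π₂ η[N'']), ∃ z : s.pt ⟶ N, z ≫ ν = s.fst := fun s => by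
      obtain ⟨z, hz⟩ : ∃ z : s.pt ⟶ N, z ≫ i = s.fst ≫ π₁ :=
        ⟨hker.lift (s.fst ≫ π₁) (toUnit s.pt) (by
          rw [Category.assoc, hcond, ← Category.assoc, s.condition, Category.assoc, IsMonHom.one_hom,
            toUnit_unique s.snd (toUnit s.pt)]), hker.lift_fst _ _ _⟩
      refine ⟨z, ?_⟩
      apply Limits.pullback.hom_ext
      · rw [Category.assoc, Limits.pullback.lift_fst]; exact hz
      · rw [Category.assoc, Limits.pullback.lift_snd, ← Category.assoc, s.condition,
          toUnit_unique s.snd (z ≫ toUnit N)]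
    exact ⟨⟨w⟩, ⟨Limits.PullbackCone.IsLimit.mk w (fun s => (hex s).choose) (fun s => (hex s).choose_spec)
      (fun s => toUnit_unique _ _) (fun s m h1 _ => by
        have h2 := congrArg (· ≫ π₁) (h1.trans (hex s).choose_spec.symm)
        simp only [Category.assoc, show ν ≫ π₁ = i from Limits.pullback.lift_fst _ _ _] at h2
        exact (cancel_mono i).mp h2)⟩⟩
  obtain ⟨hA, hS, hC⟩ := Groth.Agent.S7982.result k N P N'' ν π₂ hν
  haveI : IsAffine P.left := hA inferInstance inferInstance
  haveI : Smooth P.hom := hS inferInstance inferInstance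
  haveI : ConnectedSpace P.left := hC inferInstance inferInstance
  obtain ⟨f, hf⟩ := hmax P π₁ (fun T g x => by
    obtain ⟨y, hy⟩ := hn'' T (g ≫ q) (x ≫ π₂)
    obtain ⟨l, hl⟩ := hlift (g * (x ≫ π₁) * g⁻¹) y (by
      rw [← hy, MonObj.mul_comp _ _ q, MonObj.mul_comp _ _ q, GrpObj.inv_comp _ q, Category.assoc, hcond,
        Category.assoc])
    exact ⟨l, hl.symm⟩)
  haveI : LocallyOfFinitePresentation π₂.left :=
    Groth.Agent.Lib.Flat55.FibreTransfer.locallyOfFinitePresentation_of_comp (g := N''.hom)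
      (by rw [Over.w π₂]; infer_instance) inferInstance
  haveI : Epi π₂ := Groth.Agent.H87.CentralExt.epi_of_cover π₂
  have h1 : (𝟙 N'' : N'' ⟶ N'') = 1 := by
    rw [← cancel_epi π₂, Category.comp_id, MonObj.comp_one, ← cancel_mono i'', MonObj.one_comp i'', ← hcond, ← hf,
      Category.assoc, hker.w, ← Category.assoc, Hom.one_def, toUnit_unique (f ≫ toUnit N) (toUnit P)]
  refine ⟨η[N''].left, ?_, Over.w η[N'']⟩
  have h5 := congrArg Over.Hom.left h1
  rw [Over.id_left, Hom.one_def, Over.comp_left, Over.toUnit_left] at h5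
  exact h5.symm

end Groth.Agent.S11398
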