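import Groth.Statements.S11404
import Groth.Agent.H2.Rigid.AbScheme
import Groth.Agent.H4.AVHom
import Groth.Agent.H4.HomImage
import Groth.Agent.Lib.GrpQ.MonoClosed

set_option autoImplicit false
set_option linter.style.haveILetI false
universe u
open CategoryTheory
open CategoryTheory MonoidalCategory CartesianMonoidalCategory MonObj GrpObj AlgebraicGeometry CategoryTheory.Limits
open AlgGrp

namespace Groth.Agent.S11404

/-- An endomorphism of `A × S` over a connected `S` is affine-linear. -/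
theorem decomp {k : Type u} [Field k] [IsAlgClosed k]
    {A S : Over (Spec (CommRingCat.of k))} [GrpObj A] [IsProper A.hom] [Smooth A.hom]
    [ConnectedSpace A.left] [LocallyOfFiniteType S.hom] [ConnectedSpace S.left] (p : A ⊗ S ⟶ A) :
    ∃ (g : S ⟶ A) (h : A ⟶ A), IsMonHom h ∧ p = (snd A S ≫ g) * (fst A S ≫ h) := by
  haveI : GeometricallyReduced A.hom := Groth.Agent.Lib.GrpSch.geometricallyReduced_of_smooth_field A.hom
  haveI : GeometricallyIntegral A.hom := Groth.Agent.H4.HomImage.geometricallyIntegral_of_connected A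
  haveI : GeometricallyConnected A.hom :=
    Groth.Agent.Lib.GrpSch.geometricallyConnected_of_rationalPoint A.hom η[A].left (Over.w η[A])
  obtain ⟨t₀, -⟩ := Groth.Agent.Lib.GrpQ.MonoClosed.exists_ptOf (X := S)
    isOpen_univ.isLocallyClosed Set.univ_nonempty
  let g : S ⟶ A := lift (toUnit S ≫ η[A]) (𝟙 S) ≫ p
  let q : A ⟶ A := lift (𝟙 A) (toUnit A ≫ t₀) ≫ p
  let h : A ⟶ A := (toUnit A ≫ t₀ ≫ g)⁻¹ * q
  have hh : η[A] ≫ h = η[A] := by
    have e1 : η[A] ≫ lift (𝟙 A) (toUnit A ≫ t₀) = t₀ ≫ lift (toUnit S ≫ η[A]) (𝟙 S) := by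
      simp only [comp_lift, Category.comp_id, ← Category.assoc,
        toUnit_unique (η[A] ≫ toUnit A) (𝟙 _), toUnit_unique (t₀ ≫ toUnit S) (𝟙 _), Category.id_comp]
    simp only [h, q, g, MonObj.comp_mul, GrpObj.comp_inv, ← Category.assoc,
      toUnit_unique (η[A] ≫ toUnit A) (𝟙 _), Category.id_comp, e1, inv_mul_cancel]
    rw [Hom.one_def, toUnit_unique (toUnit _) (𝟙 _), Category.id_comp]
  have hm : IsMonHom h := Groth.Agent.H4.AVHom.isMonHom_of_pointed h hh
  refine ⟨g, h, hm, ?_⟩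
  let F : A ⊗ S ⟶ A := (snd A S ≫ g)⁻¹ * p * (fst A S ≫ h)⁻¹
  have hT : ∀ s : Spec (CommRingCat.of k), _root_.IsPreconnected (S.hom ⁻¹' {s}) := fun s => by
    rw [show S.hom ⁻¹' {s} = Set.univ from
      Set.eq_univ_of_forall fun x => Subsingleton.elim (α := Spec (CommRingCat.of k)) _ _]
    exact isPreconnected_univ
  have hF : F = 1 := by
    refine Groth.Agent.H2.Rigid.eq_one_of_axes (Groth.Agent.H2.Rigid.H0.of_geometrically A.hom) η[A] hT F
      t₀ ?_ ?_
    · simp only [F, MonObj.comp_mul, GrpObj.comp_inv, lift_fst_assoc, lift_snd_assoc, Category.id_comp,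
        Category.assoc, h, q, mul_inv_cancel]
    · simp only [F, MonObj.comp_mul, GrpObj.comp_inv, lift_fst_assoc, lift_snd_assoc, Category.id_comp,
        Category.assoc, hh, ← Hom.one_def, inv_one, _root_.mul_one]
      rw [MonObj.one_comp, inv_one, _root_.mul_one, Hom.one_def]
      exact inv_mul_cancel g
  rw [mul_inv_eq_one, inv_mul_eq_iff_eq_mul] at hF
  exact hF


/-- Over an algebraically closed field k, let A be an abelian variety (a proper, smooth, connected
k-group scheme) and S a connected k-scheme of finite type. For every automorphism f of A × S over S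
there are a unique k-morphism g : S → A and a unique group automorphism h of A with f(a, s) = (g(s)
· h(a), s) on points. (This is the functor-of-points form, over a connected base, of the
identification of the automorphism group scheme of A with the semidirect product of A, acting by
translations, and the constant group of group automorphisms; in particular the neutral component is
A.) -/
theorem result (k : Type u) [Field k] [IsAlgClosed k]
    (A S : Over (Spec (CommRingCat.of k))) [GrpObj A] [IsProper A.hom] [Smooth A.hom] [ConnectedSpace ↥A.left]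
    [LocallyOfFiniteType S.hom] [QuasiCompact S.hom] [ConnectedSpace ↥S.left]
    (f : A ⊗ S ≅ A ⊗ S) (hf : f.hom ≫ snd A S = snd A S) :
    ∃ (g : S ⟶ A) (h : A ⟶ A), IsMonHom h ∧ IsIso h ∧
      f.hom ≫ fst A S = (snd A S ≫ g) * (fst A S ≫ h) ∧
      ∀ (g' : S ⟶ A) (h' : A ⟶ A), IsMonHom h' →
        f.hom ≫ fst A S = (snd A S ≫ g') * (fst A S ≫ h') → g' = g ∧ h' = h := by
  haveI : GeometricallyReduced A.hom := Groth.Agent.Lib.GrpSch.geometricallyReduced_of_smooth_field A.hom
  obtain ⟨g, h, hm, e⟩ := decomp (f.hom ≫ fst A S)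
  obtain ⟨g₂, h₂, hm₂, e₂⟩ := decomp (f.inv ≫ fst A S)
  have uniq : ∀ (g g' : S ⟶ A) (h h' : A ⟶ A), IsMonHom h → IsMonHom h' →
      (snd A S ≫ g) * (fst A S ≫ h) = (snd A S ≫ g') * (fst A S ≫ h') → g' = g ∧ h' = h := by
    intro g g' h h' _ _ he
    obtain ⟨t₀, -⟩ := Groth.Agent.Lib.GrpQ.MonoClosed.exists_ptOf (X := S)
      isOpen_univ.isLocallyClosed Set.univ_nonempty
    have h1 := congrArg (fun z => lift (toUnit S ≫ η[A]) (𝟙 S) ≫ z) he
    simp only [MonObj.comp_mul, lift_fst_assoc, lift_snd_assoc, Category.id_comp, Category.assoc,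
      IsMonHom.one_hom, ← Hom.one_def, MonObj.one_comp, _root_.mul_one] at h1
    subst h1
    refine ⟨rfl, ?_⟩
    have h2 := congrArg (fun z => lift (𝟙 A) (toUnit A ≫ t₀) ≫ z) (mul_left_cancel he)
    simpa using h2.symm
  have inv_comp : ∀ (a b : A ⊗ S ≅ A ⊗ S) (g₁ g₂ : S ⟶ A) (h₁ h₂ : A ⟶ A), IsMonHom h₁ → IsMonHom h₂ →
      a.hom ≫ snd A S = snd A S → a.hom ≫ fst A S = (snd A S ≫ g₁) * (fst A S ≫ h₁) →
      b.hom ≫ fst A S = (snd A S ≫ g₂) * (fst A S ≫ h₂) → a.hom ≫ b.hom = 𝟙 _ → h₁ ≫ h₂ = 𝟙 A := by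
    intro a b g₁ g₂ h₁ h₂ _ _ hs ha hb hab
    have h0 : (snd A S ≫ (g₂ * (g₁ ≫ h₂))) * (fst A S ≫ (h₁ ≫ h₂)) =
        (snd A S ≫ (1 : S ⟶ A)) * (fst A S ≫ 𝟙 A) := by
      rw [MonObj.comp_one, _root_.one_mul, Category.comp_id, MonObj.comp_mul, _root_.mul_assoc,
        ← Category.assoc (snd A S) g₁, ← Category.assoc (fst A S) h₁, ← MonObj.mul_comp, ← ha]
      have := congrArg (fun z => z ≫ fst A S) hab
      simp only [Category.assoc, Category.id_comp, hb, MonObj.comp_mul, reassoc_of% hs] at this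
      rw [Category.assoc]
      exact this
    exact (uniq _ _ _ _ inferInstance inferInstance h0).2.symm
  have hf' : f.inv ≫ snd A S = snd A S := by rw [Iso.inv_comp_eq, hf]
  refine ⟨g, h, hm, ⟨h₂, inv_comp f f.symm g g₂ h h₂ hm hm₂ hf e e₂ f.hom_inv_id,
    inv_comp f.symm f g₂ g h₂ h hm₂ hm hf' e₂ e f.inv_hom_id⟩, e, fun g' h' hm' e' => ?_⟩
  exact uniq g g' h h' hm hm' (e.symm.trans e')

end Groth.Agent.S11404
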