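import Groth.Statements.S11406
import Groth.Agent.Lib.GrpQ.AntiAff


set_option autoImplicit false
universe u
open CategoryTheory MonoidalCategory CartesianMonoidalCategory MonObj GrpObj AlgebraicGeometry CategoryTheory.Limits
open AlgGrp

namespace Groth.Agent.S11406

/-- Over an algebraically closed field k, let G be an algebraic group (smooth k-group scheme of finite
type) whose only global functions are the constants, let H be a connected algebraic group, let i : N
→ H be the largest connected affine normal algebraic subgroup H_aff of H (a homomorphism and closed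
immersion from a smooth, connected, affine k-group scheme, normal in H, through which every other
such subgroup factors), and let α : H → A be a flat surjective homomorphism with kernel i onto a
proper smooth k-group scheme A (so A = H/H_aff). If two morphisms of k-schemes f, f′ : G → H both
send e_G to e_H and have the same composite with α, then f = f′. (The published assertion is that
such a morphism f is determined by the homomorphism from G/G_aff to H/H_aff which it induces; two
such morphisms induce the same homomorphism exactly when their composites with α agree, because the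
quotient morphism of G is an epimorphism, so the assertion is stated in that form. The remaining
assertions, that f is a homomorphism and that its image is central, are not stated here.) -/
theorem result (k : Type u) [Field k] [IsAlgClosed k]
    (G H : Over (Spec (CommRingCat.of k))) [GrpObj G] [Smooth G.hom] [QuasiCompact G.hom]
    (hG : Function.Bijective ((Scheme.ΓSpecIso (CommRingCat.of k)).inv ≫ G.hom.appTop).hom)
    [GrpObj H] [Smooth H.hom] [QuasiCompact H.hom] [ConnectedSpace ↥H.left]
    (N : Over (Spec (CommRingCat.of k))) [GrpObj N] (i : N ⟶ H) [IsMonHom i] [IsClosedImmersion i.left]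
    [Smooth N.hom] [ConnectedSpace ↥N.left] [IsAffine N.left] (hN : AlgGrp.IsNormalHom i)
    (hNmax : ∀ (N' : Over (Spec (CommRingCat.of k))) [GrpObj N'] (i' : N' ⟶ H) [IsMonHom i'] [IsClosedImmersion i'.left]
      [Smooth N'.hom] [ConnectedSpace ↥N'.left] [IsAffine N'.left], AlgGrp.IsNormalHom i' → ∃ g : N' ⟶ N, g ≫ i = i')
    (A : Over (Spec (CommRingCat.of k))) [GrpObj A] [IsProper A.hom] [Smooth A.hom] (α : H ⟶ A) [IsMonHom α]
    [Surjective α.left] [Flat α.left] (hker : AlgGrp.IsKernel i α)
    (f f' : G ⟶ H) (hf : η[G] ≫ f = η[H]) (hf' : η[G] ≫ f' = η[H]) (hα : f ≫ α = f' ≫ α) :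
    f = f' := by
  have := Groth.Agent.Lib.GrpQ.AntiAff.isIso_of_bijective hG
  obtain ⟨m, hm⟩ := (Groth.Agent.Lib.GrpQ.mem_kernel hker (f * f'⁻¹)).2 (by
    rw [MonObj.mul_comp, GrpObj.inv_comp, hα, mul_inv_cancel])
  have : IsIso (toUnit G).left.appTop := ‹IsIso G.hom.appTop›
  obtain ⟨c, hc⟩ := Groth.Agent.Lib.GrpQ.Affinization.exists_fac (toUnit G) m
  have h1 : c ≫ i = η[H] := by
    have h2 : η[G] ≫ m ≫ i = c ≫ i := by
      rw [← hc, Category.assoc, ← Category.assoc η[G], toUnit_unique (η[G] ≫ toUnit G) (𝟙 _), Category.id_comp]
    rw [← h2, hm, MonObj.comp_mul, GrpObj.comp_inv, hf, hf',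
      show η[H] = (1 : 𝟙_ _ ⟶ H) by rw [Hom.one_def, toUnit_unique (toUnit _) (𝟙 _), Category.id_comp],
      inv_one, _root_.mul_one]
  have h3 : f * f'⁻¹ = 1 := by rw [← hm, ← hc, Category.assoc, h1, Hom.one_def]
  exact mul_inv_eq_one.1 h3

end Groth.Agent.S11406
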