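import Groth.Statements.S11407
import Groth.Agent.Lib.AntiAffParts.Field
import Groth.Agent.Lib.WittU.UnipPeriod
import Groth.Agent.H63.AVIsogeny
import Groth.Agent.H63.GrpDim
import Mathlib.AlgebraicGeometry.Morphisms.Proper
import Mathlib.AlgebraicGeometry.ZariskisMainTheorem

set_option autoImplicit false
universe u
open CategoryTheory MonoidalCategory CartesianMonoidalCategory MonObj GrpObj AlgebraicGeometry CategoryTheory.Limits
open AlgGrp

open Groth.Agent.Lib Groth.Agent.Lib.GrpQ
set_option backward.isDefEq.respectTransparency false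
set_option linter.style.haveILetI false
set_option synthInstance.maxHeartbeats 200000
namespace Groth.Agent.S11407

/-- Over an algebraically closed field k of characteristic p > 0, let G be a connected commutative
algebraic group (smooth k-group scheme of finite type) which is an extension of an abelian variety A
(a proper, smooth, connected k-group scheme) by a connected unipotent algebraic group U: i : U → G
is a homomorphism and closed immersion from a smooth, connected, affine k-group scheme containing no
non-trivial subtorus (for smooth connected affine groups over an algebraically closed field this is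
unipotency), and α : G → A is a flat surjective homomorphism with kernel i. Then the only global
functions on G are the constants if and only if U is the trivial group. -/
theorem result (k : Type u) [Field k] [IsAlgClosed k]
    (p : ℕ) [Fact p.Prime] [CharP k p]
    (G : Over (Spec (CommRingCat.of k))) [GrpObj G] [Smooth G.hom] [QuasiCompact G.hom] [ConnectedSpace ↥G.left] [IsCommMonObj G]
    (U : Over (Spec (CommRingCat.of k))) [GrpObj U] (i : U ⟶ G) [IsMonHom i] [IsClosedImmersion i.left]
    [Smooth U.hom] [ConnectedSpace ↥U.left] [IsAffine U.left] (hU : Red.HasNoSubtorus k U)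
    (A : Over (Spec (CommRingCat.of k))) [GrpObj A] [IsProper A.hom] [Smooth A.hom] [ConnectedSpace ↥A.left]
    (α : G ⟶ A) [IsMonHom α] [Surjective α.left] [Flat α.left] (hker : AlgGrp.IsKernel i α) :
    Function.Bijective ((Scheme.ΓSpecIso (CommRingCat.of k)).inv ≫ G.hom.appTop).hom ↔ IsIso U.hom := by
  haveI : Mono i := Over.mono_of_mono_left i
  haveI : IsSeparated A.hom := inferInstance
  haveI : LocallyOfFinitePresentation α.left := SemiAbExt.lfp_of_hom α
  haveI : CompactSpace G.left := QuasiCompact.compactSpace_of_compactSpace G.hom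
  haveI : IsSeparated G.hom := GrpSch.isSeparated_of_field G
  haveI : IrreducibleSpace G.left := Groth.Agent.H1.GrpIrred.irreducibleSpace (G := G)
  haveI : IsReduced G.left := GrpSch.isReduced_of_smooth_field G.hom
  haveI : IsIntegral G.left := isIntegral_of_irreducibleSpace_of_isReduced G.left
  haveI : IsCommMonObj A := CommAlgGrp.isCommMonObj_of_cover α
  have h1 : ∀ {B : Over (Spec (CommRingCat.of k))} [GrpObj B] [IsProper B.hom] [IsIntegral B.left],
      Function.Bijective ((Scheme.ΓSpecIso (CommRingCat.of k)).inv ≫ B.hom.appTop).hom := by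
    intro B _ _ _
    have hF := isField_of_universallyClosed k B.hom
    letI := hF.toField
    let φ : k →+* Γ(B.left, ⊤) := ((Scheme.ΓSpecIso (CommRingCat.of k)).inv ≫ B.hom.appTop).hom
    have hfin : φ.Finite := by
      simp only [φ, CommRingCat.hom_comp]
      exact (finite_appTop_of_universallyClosed k B.hom).comp
        (RingHom.Finite.of_surjective _ (ConcreteCategory.bijective_of_isIso (Scheme.ΓSpecIso (CommRingCat.of k)).inv).2)
    letI := φ.toAlgebra
    haveI : Module.Finite k Γ(B.left, ⊤) := hfin
    exact IsAlgClosed.algebraMap_bijective_of_isIntegral (k := k) (K := Γ(B.left, ⊤))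
  constructor
  · intro hG
    haveI : Mono i := Over.mono_of_mono_left i
    haveI : IsCommMonObj U := CommAlgGrp.isCommMonObj_of_mono i
    haveI : QuasiCompact U.hom := inferInstance
    obtain ⟨n, hn⟩ : ∃ n : ℕ, topologicalKrullDim U.left = (n : WithBot ℕ∞) :=
      ⟨_, Groth.Agent.H63.GrpDim.topologicalKrullDim_eq U⟩
    have hU1 : (𝟙 U) ^ (p ^ n) = 1 := WittU.UnipPeriod.pow_eq_one p hU hn
    haveI : IsMonHom ((𝟙 G : G ⟶ G) ^ (p ^ n)) := SemiAbExt.isMonHom_comm_pow _
    obtain ⟨g, hgm, hg⟩ := CommAlgGrp.exists_desc_of_kernel α hker ((𝟙 G : G ⟶ G) ^ (p ^ n)) (by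
      rw [MonObj.comp_pow, Category.comp_id, show i = 𝟙 U ≫ i from (Category.id_comp i).symm, ← MonObj.pow_comp,
        hU1, MonObj.one_comp])
    haveI := hgm
    obtain ⟨B, _, pB, b, hpm, hbm, hpb, hbc, hps, hpf, hpl, hBs, hBc, hBq⟩ := SemiAbIsog.Image.exists_image_smooth g
    haveI := hpm; haveI := hbm; haveI := hbc; haveI := hps; haveI := hpf; haveI := hpl; haveI := hBs
    haveI := hBc; haveI := hBq
    haveI : IsProper B.hom := SemiAbExt.proper_of_surjective pB
    obtain ⟨Z, _, _, r, hrm, hrf, hrs, hrl, hrK, hZs, hZq, hZc⟩ := SemiAbExt.exists_quot b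
    haveI := hrm; haveI := hrf; haveI := hrs; haveI := hrl; haveI := hZs; haveI := hZq; haveI := hZc
    have hbr : b ≫ r = 1 := GrpQ.kernel_comp hrK
    -- hence the composite U → G → Z is surjective
    haveI : Surjective (i ≫ r).left := by
      haveI : IsAffineHom U.hom := inferInstance
      obtain ⟨C, _, pC, c, hpCm, hcm, hpC, hcc, hpCs, hpCf, hpCl, hCs, hCc, hCq⟩ :=
        SemiAbIsog.Image.exists_image_smooth (i ≫ r)
      haveI := hpCm; haveI := hcm; haveI := hcc; haveI := hpCs; haveI := hCs; haveI := hCc; haveI := hCq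
      obtain ⟨W, _, _, w, hwm, hwf, hws, hwl, hwK, hWs, hWq, hWc⟩ := SemiAbExt.exists_quot c
      haveI := hwm; haveI := hwf; haveI := hws; haveI := hwl; haveI := hWs; haveI := hWq
      have hi0 : i ≫ r ≫ w = 1 := by
        rw [← Category.assoc, ← hpC, Category.assoc, GrpQ.kernel_comp hwK, MonObj.comp_one]
      obtain ⟨φ, hφm, hφ⟩ := CommAlgGrp.exists_desc_of_kernel α hker (r ≫ w) hi0
      haveI := hφm
      haveI := H87.CentralExt.epi_of_cover α
      have hpow : (𝟙 A : A ⟶ A) ^ (p ^ n) = g ≫ α := by
        rw [← cancel_epi α, ← Category.assoc, hg, MonObj.comp_pow, Category.comp_id, MonObj.pow_comp, Category.id_comp]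
      have hg0 : g ≫ r = 1 := by rw [← hpb, Category.assoc, hbr, MonObj.comp_one]
      have hφ0 : ((𝟙 A : A ⟶ A) ^ (p ^ n)) ≫ φ = 1 := by
        rw [hpow, Category.assoc, hφ, ← Category.assoc, hg0, MonObj.one_comp]
      have hφ1 : φ = 1 := by
        haveI : GeometricallyReduced A.hom := GrpSch.geometricallyReduced_of_smooth_field A.hom
        haveI : GeometricallyIntegral A.hom := H4.HomImage.geometricallyIntegral_of_connected A
        haveI : IsSeparated W.hom := GrpSch.isSeparated_of_field W
        obtain ⟨l, hlp, hl⟩ : ∃ l : ℕ, l.Prime ∧ p < l := by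
          obtain ⟨l, h1, h2⟩ := Nat.exists_infinite_primes (p + 1)
          exact ⟨l, h2, h1⟩
        have hlk : (l : k) ≠ 0 := by
          rw [Ne, CharP.cast_eq_zero_iff k p]
          intro hd
          have := (Nat.prime_dvd_prime_iff_eq Fact.out hlp).1 hd
          omega
        refine H63.AVIsogeny.eq_one_of_kills_torsion hlp.one_lt hlk φ fun m a ha => ?_
        have h1 : (a ≫ φ) ^ (l ^ m) = 1 := by rw [← MonObj.pow_comp, ha, MonObj.one_comp]
        have h2 : (a ≫ φ) ^ (p ^ n) = 1 := by
          rw [← MonObj.pow_comp, show a ^ (p ^ n) = a ≫ ((𝟙 A : A ⟶ A) ^ (p ^ n)) by rw [MonObj.comp_pow, Category.comp_id],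
            Category.assoc, hφ0, MonObj.comp_one]
        have hco : Nat.Coprime (l ^ m) (p ^ n) := by
          refine Nat.Coprime.pow _ _ ((Nat.coprime_primes hlp Fact.out).2 ?_)
          omega
        have := pow_gcd_eq_one.2 ⟨h1, h2⟩
        rwa [hco, _root_.pow_one] at this
      have hw1 : w = 1 := by
        haveI := H87.CentralExt.epi_of_cover r
        rw [← cancel_epi r, ← hφ, hφ1, MonObj.comp_one, MonObj.comp_one]
      obtain ⟨s, hs⟩ := (GrpQ.mem_kernel hwK (𝟙 Z)).2 (by rw [Category.id_comp, hw1])
      haveI : Surjective c.left := SemiAbExt.surjective_of_lift c (𝟙 Z) s hs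
      rw [← hpC, Over.comp_left]
      infer_instance
    haveI : Flat (i ≫ r).left := GrpQ.flat_of_surjective_of_smooth _
    haveI : IsAffine Z.left := (Groth.Agent.S7983.result k U Z (i ≫ r)).1 inferInstance
    have hr1 : r = 1 := AntiAffParts.eq_one_of_antiAffine hG r (IsMonHom.one_hom r)
    obtain ⟨s, hs⟩ := (GrpQ.mem_kernel hrK (𝟙 G)).2 (by rw [Category.id_comp, hr1])
    haveI : Surjective b.left := SemiAbExt.surjective_of_lift b (𝟙 G) s hs
    haveI : IsProper G.hom := SemiAbExt.proper_of_surjective b
    haveI : IsProper U.hom := by rw [← Over.w i]; infer_instance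
    haveI : IsFinite U.hom := IsFinite.iff_isProper_and_isAffineHom.mpr ⟨inferInstance, inferInstance⟩
    have h := SemiAbIsog.Image.id_eq_one (G := U)
    exact ⟨⟨η[U].left, by
      rw [← Over.id_left, h, Hom.one_def]
      rfl, Over.w η[U]⟩⟩
  · intro hU0
    haveI : Mono α := ⟨fun {T} a b hab => by
      have h : (a * b⁻¹) ≫ α = 1 := by rw [MonObj.mul_comp, GrpObj.inv_comp, hab, mul_inv_cancel]
      obtain ⟨m, hm⟩ := (GrpQ.mem_kernel hker _).2 h
      have hm1 : m = 1 := AntiAffParts.eq_one_of_trivial hU0 m
      rw [← mul_inv_eq_one, ← hm, hm1, MonObj.one_comp]⟩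
    haveI : Mono α.left := (Over.forget _).map_mono α
    haveI : IsOpenImmersion α.left := IsOpenImmersion.of_flat_of_mono _
    haveI : IsIso α.left := (isIso_iff_isOpenImmersion_and_epi_base α.left).2 ⟨inferInstance,
      (TopCat.epi_iff_surjective _).2 α.left.surjective⟩
    haveI : IsProper G.hom := by rw [← Over.w α]; infer_instance
    exact h1

end Groth.Agent.S11407
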