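import Groth.Statements.S11410
import Groth.Agent.Lib.GrpQ.AffKer2


set_option autoImplicit false
universe u
open CategoryTheory MonoidalCategory CartesianMonoidalCategory MonObj GrpObj AlgebraicGeometry CategoryTheory.Limits
open AlgGrp

namespace Groth.Agent.S11410

/-- Over an algebraically closed field k, let G be an algebraic group (a smooth k-group scheme of finite
type) acting on a variety X (an integral, separated k-scheme of finite type), faithfully in the
sense that every rational point of G acting as the identity of X is the identity element. Then for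
every rational point x of X, the isotropy subgroup scheme of x (a closed subgroup scheme of G whose
points are exactly the points of G fixing x) is affine. -/
theorem result (k : Type u) [Field k] [IsAlgClosed k]
    (G X : Over (Spec (CommRingCat.of k))) [GrpObj G] [Smooth G.hom] [QuasiCompact G.hom]
    [LocallyOfFiniteType X.hom] [QuasiCompact X.hom] [IsSeparated X.hom] [IsIntegral X.left]
    (a : AlgGrp.Action G X)
    (hfaith : ∀ g : 𝟙_ (Over (Spec (CommRingCat.of k))) ⟶ G, lift (toUnit X ≫ g) (𝟙 X) ≫ a.act = 𝟙 X → g = η[G])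
    (x : 𝟙_ (Over (Spec (CommRingCat.of k))) ⟶ X) (St : Over (Spec (CommRingCat.of k))) [GrpObj St] (s : St ⟶ G) [IsMonHom s] [IsClosedImmersion s.left]
    (hs : ∀ (T : Over (Spec (CommRingCat.of k))) (g : T ⟶ G), (∃ t : T ⟶ St, t ≫ s = g) ↔ lift g (toUnit T ≫ x) ≫ a.act = toUnit T ≫ x) :
    IsAffine St.left := by
  have : LocallyOfFiniteType St.hom := by rw [← Over.w s]; infer_instance
  have : QuasiCompact St.hom := by rw [← Over.w s]; infer_instance
  have : IsLocallyNoetherian X.left := LocallyOfFiniteType.isLocallyNoetherian X.hom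
  obtain ⟨N, _, i, _, _, hmem, haff⟩ := Groth.Agent.Lib.GrpQ.AffKer.exists_killed_kernel (G := St)
  apply haff
  have : LocallyOfFiniteType N.hom := by rw [← Over.w i]; infer_instance
  let b : AlgGrp.Action St X := Groth.Agent.Lib.GrpSch.actionMk ((s ▷ X) ≫ a.act)
    (fun T y => by rw [lift_whiskerRight_assoc, MonObj.one_comp, Groth.Agent.Lib.GrpSch.act_one])
    (fun T g h y => by simp [MonObj.mul_comp, Groth.Agent.Lib.GrpSch.act_mul])
  have hact : ∀ (p : 𝟙_ (Over (Spec (CommRingCat.of k))) ⟶ N), p = η[N] := by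
    intro p
    obtain ⟨A, _, _, _, j, e, hj, he⟩ := Groth.Agent.Lib.GrpQ.InfAgree.exists_chart X x
    have hfix : b.IsFixedPt (Groth.Agent.Lib.GrpQ.InfSub.ptOf e ≫ j) := fun T g => by
      change lift g _ ≫ (s ▷ X) ≫ a.act = _
      rw [lift_whiskerRight_assoc, he]
      exact (hs T (g ≫ s)).1 ⟨g, rfl⟩
    have key := Groth.Agent.Lib.GrpQ.InfAgree.eq_of_agreeInf e j
      (Groth.Agent.Lib.GrpQ.AffKer.agreeInf_act b e j hfix (p ≫ i) ((hmem _ _).2 ⟨p, rfl⟩))
    have h : (p ≫ i) ≫ s = η[G] := hfaith _ (by
      have h := congrArg (lift (toUnit X) (𝟙 X) ≫ ·) key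
      change lift (toUnit X) (𝟙 X) ≫ ((p ≫ i) ▷ X) ≫ (s ▷ X) ≫ a.act = _ at h
      simp only [lift_whiskerRight_assoc, lift_snd, Category.assoc] at h
      simpa using h)
    have : Mono s := Groth.Agent.Lib.GrpQ.mono_of_left s
    have : Mono i := Groth.Agent.Lib.GrpQ.mono_of_left i
    rw [← cancel_mono i, ← cancel_mono s, h, Category.assoc, IsMonHom.one_hom (f := i ≫ s)]
  have : JacobsonSpace N.left := LocallyOfFiniteType.jacobsonSpace N.hom
  let s₀ : ↥(𝟙_ (Over (Spec (CommRingCat.of k)))).left := IsLocalRing.closedPoint k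
  have hcl : ∀ c : N.left, IsClosed ({c} : Set N.left) → c = η[N].left s₀ := fun c hc => by
    rw [← hact (Over.homMk (pointOfClosedPoint N.hom c hc) (pointOfClosedPoint_comp N.hom c hc))]
    exact (pointOfClosedPoint_apply N.hom c hc s₀).symm
  have hall : ∀ y : N.left, y = η[N].left s₀ := fun y => by
    by_contra hy
    obtain ⟨c, hc, hcc⟩ := nonempty_inter_closedPoints (X := N.left) (Z := {η[N].left s₀}ᶜ) ⟨y, hy⟩
      ((Groth.Agent.Lib.GrpSch.rational_isClosed η[N] s₀).isOpen_compl.isLocallyClosed)
    exact hc (hcl c hcc)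
  obtain ⟨U, hU, hmemU, -⟩ := exists_isAffineOpen_mem_and_subset (X := N.left) (x := η[N].left s₀) (U := ⊤) trivial
  have hUtop : U = ⊤ := top_le_iff.1 fun y _ => by rw [hall y]; exact hmemU
  subst hUtop
  have : IsAffine (⊤ : N.left.Opens).toScheme := hU
  exact IsAffine.of_isIso N.left.topIso.inv

end Groth.Agent.S11410
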