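import Groth.Statements.S11411
import Groth.Agent.Lib.GrpQ.Affinization


set_option autoImplicit false
universe u
open CategoryTheory MonoidalCategory CartesianMonoidalCategory MonObj GrpObj AlgebraicGeometry CategoryTheory.Limits
open AlgGrp

namespace Groth.Agent.S11411

/-- Over an algebraically closed field k, let G be an algebraic group (a smooth k-group scheme of finite
type) and N the kernel of the canonical morphism ρ : G → Spec O(G), i.e. the fibre of ρ over the
image of the unit. Then N is the smallest normal subgroup scheme of G with affine quotient: for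
every closed normal subgroup scheme H of G with a flat surjective homomorphism G → Q of k-group
schemes of finite type with kernel H and Q affine, the inclusion of N factors through H. And N is
the largest anti-affine subgroup scheme: every homomorphism and closed immersion into G from a
k-group scheme whose only global functions are the constants factors through N. (The published
statement also asserts O(N) = k, that N is a connected algebraic group central in G⁰, and O(G/N) =
O(G) finitely generated; those parts are not restated here.) -/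
theorem result (k : Type u) [Field k] [IsAlgClosed k]
    (G : Over (Spec (CommRingCat.of k))) [GrpObj G] [Smooth G.hom] [QuasiCompact G.hom] :
    (∀ (H Q : Over (Spec (CommRingCat.of k))) [GrpObj H] [GrpObj Q] (h : H ⟶ G) [IsMonHom h] [IsClosedImmersion h.left]
        [LocallyOfFiniteType Q.hom] [QuasiCompact Q.hom] (q : G ⟶ Q) [IsMonHom q] [Surjective q.left] [Flat q.left],
        AlgGrp.IsKernel h q → IsAffine Q.left →
        ∃ f : pullback G.left.toSpecΓ (η[G].left ≫ G.left.toSpecΓ) ⟶ H.left, f ≫ h.left = pullback.fst G.left.toSpecΓ (η[G].left ≫ G.left.toSpecΓ)) ∧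
    (∀ (M : Over (Spec (CommRingCat.of k))) [GrpObj M] (j : M ⟶ G) [IsMonHom j] [IsClosedImmersion j.left],
        Function.Bijective ((Scheme.ΓSpecIso (CommRingCat.of k)).inv ≫ M.hom.appTop).hom →
        ∃ f : M.left ⟶ pullback G.left.toSpecΓ (η[G].left ≫ G.left.toSpecΓ), f ≫ pullback.fst G.left.toSpecΓ (η[G].left ≫ G.left.toSpecΓ) = j.left) := by
  have : LocallyOfFiniteType G.hom := inferInstance
  have := Groth.Agent.Lib.GrpSch.isSeparated_of_field G
  let ρ := Groth.Agent.Lib.GrpQ.Affinization.rho G
  let P := pullback G.left.toSpecΓ (η[G].left ≫ G.left.toSpecΓ)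
  refine ⟨fun H Q _ _ h _ _ _ _ q _ _ _ hK hQ => ?_, fun M _ j _ _ hM => ?_⟩
  · obtain ⟨q', hq'⟩ := Groth.Agent.Lib.GrpQ.Affinization.exists_fac ρ q
    let s := pullback.snd G.left.toSpecΓ (η[G].left ≫ G.left.toSpecΓ)
    let T : Over (Spec (CommRingCat.of k)) := Over.mk (pullback.fst G.left.toSpecΓ (η[G].left ≫ G.left.toSpecΓ) ≫ G.hom)
    let x : T ⟶ G := Over.homMk (pullback.fst G.left.toSpecΓ (η[G].left ≫ G.left.toSpecΓ)) rfl
    have hρ : ∀ y : T ⟶ G, (y ≫ q).left = (y.left ≫ G.left.toSpecΓ) ≫ q'.left := fun y => by
      rw [← hq', Over.comp_left, Over.comp_left, Category.assoc]; rfl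
    have hT : (toUnit T).left = s := by
      have e := congrArg (fun z => z ≫ (Groth.Agent.Lib.GrpQ.Affinization.aff G).hom)
        (pullback.condition (f := G.left.toSpecΓ) (g := η[G].left ≫ G.left.toSpecΓ))
      have e1 : G.left.toSpecΓ ≫ (Groth.Agent.Lib.GrpQ.Affinization.aff G).hom = G.hom := Over.w ρ
      change (pullback.fst G.left.toSpecΓ (η[G].left ≫ G.left.toSpecΓ) ≫ G.left.toSpecΓ) ≫ _ =
        (s ≫ η[G].left ≫ G.left.toSpecΓ) ≫ _ at e
      rw [Category.assoc, Category.assoc, Category.assoc, e1, Over.w η[G]] at e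
      exact e.trans (Category.comp_id _)
    have hx : x ≫ q = 1 := by
      have e1 : (1 : T ⟶ G) ≫ q = 1 := MonObj.one_comp q
      rw [← e1]
      ext1
      rw [hρ, hρ, Hom.one_def, Over.comp_left, Category.assoc (toUnit T).left, hT]
      exact congrArg (· ≫ q'.left) (pullback.condition (f := G.left.toSpecΓ) (g := η[G].left ≫ G.left.toSpecΓ))
    obtain ⟨f, hf⟩ := (Groth.Agent.Lib.GrpQ.mem_kernel hK x).2 hx
    exact ⟨f.left, congr($(hf).left)⟩
  · have : Nonempty M.left := ⟨η[M].left (IsLocalRing.closedPoint k)⟩
    have := Groth.Agent.Lib.GrpQ.GlobalFn.isIso_appTop (Groth.Agent.Lib.GrpQ.GlobalFn.bijective_iff.1 hM)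
    have : IsIso (toUnit M).left.appTop := this
    obtain ⟨c, hc⟩ := Groth.Agent.Lib.GrpQ.Affinization.exists_fac (toUnit M) (j ≫ ρ)
    have hc' : c = η[G] ≫ ρ := by
      rw [← IsMonHom.one_hom (f := j), Category.assoc, ← hc, ← Category.assoc,
        toUnit_unique (η[M] ≫ toUnit M) (𝟙 _), Category.id_comp]
    refine ⟨pullback.lift j.left (toUnit M).left ?_, pullback.lift_fst _ _ _⟩
    have h := congr($(hc).left)
    rw [hc', Over.comp_left, Over.comp_left, Over.comp_left] at h
    exact h.symm

end Groth.Agent.S11411
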