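import Groth.Statements.S11415
import Groth.Agent.H60.TorusFree.Main
import Groth.Agent.Lib.DiagGL.Conj
-- import your own Groth.Agent.* helpers here

set_option autoImplicit false
universe u
open CategoryTheory MonoidalCategory CartesianMonoidalCategory MonObj GrpObj AlgebraicGeometry CategoryTheory.Limits
open AlgGrp

namespace Groth.Agent.S11415

/-- Over an algebraically closed field k, let T be a torus (a k-group scheme isomorphic to the
diagonalizable group of ℤ^r for some r) acting on a variety X (an integral, separated k-scheme of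
finite type), faithfully in the scheme-theoretic sense: every point of T with values in a k-scheme S
which acts as the identity on X × S is the identity. Then there is a dense open subset U of X such
that for every rational point x of X in U the isotropy subgroup scheme of x is trivial: every
S-valued point of T fixing x is the identity. -/
theorem result (k : Type u) [Field k] [IsAlgClosed k]
    (T X : Over (Spec (CommRingCat.of k))) [GrpObj T] (r : ℕ) (hT : Red.IsSplitTorusWith (Fin r → ℤ) T)
    [LocallyOfFiniteType X.hom] [QuasiCompact X.hom] [IsSeparated X.hom] [IsIntegral X.left]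
    (a : AlgGrp.Action T X)
    (hfaith : ∀ (S : Over (Spec (CommRingCat.of k))) (g : S ⟶ T),
      (∀ (S' : Over (Spec (CommRingCat.of k))) (s : S' ⟶ S) (x : S' ⟶ X), lift (s ≫ g) x ≫ a.act = x) → g = 1) :
    ∃ U : X.left.Opens, Dense (U : Set ↥X.left) ∧
      ∀ x : 𝟙_ (Over (Spec (CommRingCat.of k))) ⟶ X, x.left (IsLocalRing.closedPoint k) ∈ U →
        ∀ (S : Over (Spec (CommRingCat.of k))) (g : S ⟶ T), lift g (toUnit S ≫ x) ≫ a.act = toUnit S ≫ x → g = 1 := by
  obtain ⟨E⟩ := hT
  let ε : T ≅ Red.diag k (Fin r → ℤ) :=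
    Groth.Agent.Lib.Tori.BaseChange.overIso E ≪≫ Groth.Agent.Lib.DiagGL.dsDiag k (Fin r → ℤ)
  haveI : IsMonHom (Groth.Agent.Lib.Tori.BaseChange.overIso E).hom := Groth.Agent.Lib.Tori.BaseChange.isMonHom_overIso E
  haveI : IsMonHom ε.hom := inferInstanceAs
    (IsMonHom ((Groth.Agent.Lib.Tori.BaseChange.overIso E).hom ≫ (Groth.Agent.Lib.DiagGL.dsDiag k (Fin r → ℤ)).hom))
  haveI : IsMonHom ε.inv := inferInstance
  let a' : AlgGrp.Action (Red.diag k (Fin r → ℤ)) X := Groth.Agent.Lib.GrpSch.actionMk ((ε.inv ▷ X) ≫ a.act)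
    (fun T y => by rw [lift_whiskerRight_assoc, MonObj.one_comp, Groth.Agent.Lib.GrpSch.act_one])
    (fun T g h y => by simp [MonObj.mul_comp, Groth.Agent.Lib.GrpSch.act_mul])
  have hact : ∀ {S : Over (Spec (CommRingCat.of k))} (g : S ⟶ Red.diag k (Fin r → ℤ)) (x : S ⟶ X),
      lift g x ≫ a'.act = lift (g ≫ ε.inv) x ≫ a.act := fun g x => by
    change lift g x ≫ (ε.inv ▷ X) ≫ a.act = _
    rw [lift_whiskerRight_assoc]
  have hfaith' : ∀ (S : Over (Spec (CommRingCat.of k))) (g : S ⟶ Red.diag k (Fin r → ℤ)),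
      (∀ (S' : Over (Spec (CommRingCat.of k))) (s : S' ⟶ S) (x : S' ⟶ X), lift (s ≫ g) x ≫ a'.act = x) →
        g = 1 := fun S g h => by
    have h1 := hfaith S (g ≫ ε.inv) fun S' s x => by
      have := h S' s x
      rw [hact, Category.assoc] at this
      exact this
    rw [← cancel_mono ε.inv, h1, MonObj.one_comp]
  obtain ⟨_, ⟨V, hV, rfl⟩, hVmem, -⟩ :=
    X.left.isBasis_affineOpens.exists_subset_of_mem_open (Set.mem_univ (genericPoint ↥X.left)) isOpen_univ
  haveI : Nonempty V := ⟨⟨_, hVmem⟩⟩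
  let R := Γ(X.left, V)
  let st : Spec (CommRingCat.of R) ⟶ Spec (CommRingCat.of k) := hV.fromSpec ≫ X.hom
  letI : Algebra k R := (Spec.preimage st).hom.toAlgebra
  let j : Groth.Agent.H60.TorusFree.aff k R ⟶ X := Over.homMk hV.fromSpec (by
    change hV.fromSpec ≫ X.hom = Spec.map (CommRingCat.ofHom (algebraMap k R))
    rw [RingHom.algebraMap_toAlgebra, CommRingCat.ofHom_hom, Spec.map_preimage])
  haveI : IsOpenImmersion j.left := inferInstanceAs (IsOpenImmersion hV.fromSpec)
  obtain ⟨s, hs, hfree⟩ := Groth.Agent.H60.TorusFree.exists_basicOpen_free a' hfaith' j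
  refine ⟨X.left.basicOpen s, (X.left.basicOpen s).isOpen.dense ?_, fun x hx S g hg => ?_⟩
  · rw [Set.nonempty_iff_ne_empty, Ne, TopologicalSpace.Opens.coe_eq_empty]
    exact fun h => hs ((AlgebraicGeometry.basicOpen_eq_bot_iff s).1 h)
  -- the point lies in `Spec R`
  have hsurj : ∀ p, x.left p ∈ Set.range j.left := fun p => by
    rw [show p = IsLocalRing.closedPoint k from Subsingleton.elim (α := PrimeSpectrum k) _ _]
    change _ ∈ Set.range hV.fromSpec
    rw [hV.range_fromSpec]
    exact X.left.basicOpen_le s hx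
  let xl : Spec (CommRingCat.of k) ⟶ Spec (CommRingCat.of R) :=
    IsOpenImmersion.lift hV.fromSpec x.left (by rintro _ ⟨p, rfl⟩; exact hsurj p)
  have hxl : xl ≫ hV.fromSpec = x.left := IsOpenImmersion.lift_fac hV.fromSpec x.left _
  have hxlk : Spec.preimage xl = CommRingCat.ofHom (Spec.preimage xl).hom := rfl
  let φ₀ : R →ₐ[k] k :=
    { (Spec.preimage xl).hom with
      commutes' := fun c => by
        have e : xl ≫ st = 𝟙 _ := by
          rw [← Category.assoc, hxl]; exact Over.w x
        rw [← Spec.map_preimage xl, ← Spec.map_preimage st, ← Spec.map_comp, ← Spec.map_id] at e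
        exact ConcreteCategory.congr_hom (Spec.map_injective e) c }
  have hunit : IsUnit (φ₀ s) := by
    rw [isUnit_iff_ne_zero]
    intro h0
    have hpre : IsLocalRing.closedPoint k ∈ (xl ≫ hV.fromSpec) ⁻¹ᵁ X.left.basicOpen s := by
      rw [hxl]; exact hx
    rw [Scheme.Hom.comp_preimage, hV.fromSpec_preimage_basicOpen, ← Spec.map_preimage xl] at hpre
    refine hpre ?_
    change (Spec.preimage xl).hom s ∈ IsLocalRing.maximalIdeal k
    rw [show (Spec.preimage xl).hom s = 0 from h0]
    exact Ideal.zero_mem _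
  -- reduce to affine test schemes
  rw [← cancel_mono ε.hom, MonObj.one_comp]
  refine Over.OverMorphism.ext (Scheme.Cover.hom_ext S.left.affineCover _ _ fun i => ?_)
  let C := Γ(S.left.affineCover.X i, ⊤)
  letI : Algebra k C :=
    ((Scheme.ΓSpecIso (CommRingCat.of k)).inv ≫ (S.left.affineCover.f i ≫ S.hom).appTop).hom.toAlgebra
  let w : Groth.Agent.H60.TorusFree.aff k C ⟶ S :=
    Over.homMk ((S.left.affineCover.X i).isoSpec.inv ≫ S.left.affineCover.f i) (by
      change (_ ≫ _) ≫ S.hom = Spec.map (CommRingCat.ofHom (algebraMap k C))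
      rw [RingHom.algebraMap_toAlgebra, CommRingCat.ofHom_hom, Category.assoc, Spec.map_comp,
        ← Scheme.isoSpec_inv_naturality, Scheme.isoSpec_Spec_inv])
  let γ₀ := w ≫ g ≫ ε.hom
  let χ : Multiplicative (Fin r → ℤ) →* C :=
    (Scheme.ΓSpecIso (CommRingCat.of C)).hom.hom.toMonoidHom.comp (Groth.Agent.Lib.DiagGL.diagChi γ₀)
  have hγ₀ : Groth.Agent.H60.TorusFree.gPt χ = γ₀ := Groth.Agent.Lib.RedPts.Affine.diagFn_ext fun m => by
    rw [Groth.Agent.H60.TorusFree.diagFn_gPt]
    exact (Scheme.ΓSpecIso (CommRingCat.of C)).hom_inv_id_apply _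
  let φ : R →ₐ[k] C := (Algebra.ofId k C).comp φ₀
  have hφ : Groth.Agent.H60.TorusFree.mapA φ ≫ j = toUnit _ ≫ x := by
    refine Over.OverMorphism.ext ?_
    change Spec.map (CommRingCat.ofHom φ.toRingHom) ≫ hV.fromSpec = (toUnit (Groth.Agent.H60.TorusFree.aff k C)).left ≫ x.left
    rw [show CommRingCat.ofHom φ.toRingHom = Spec.preimage xl ≫ CommRingCat.ofHom (algebraMap k C) from rfl,
      Spec.map_comp, Spec.map_preimage, Category.assoc, hxl]
    rfl
  have hfix : Groth.Agent.H60.TorusFree.Fix a' j φ χ := by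
    unfold Groth.Agent.H60.TorusFree.Fix
    rw [hγ₀, hφ, hact]
    have := congrArg (w ≫ ·) hg
    simp only [comp_lift_assoc, ← Category.assoc, toUnit_unique (w ≫ toUnit S) (toUnit _)] at this
    simpa [γ₀] using this
  have hχ := hfree C φ χ hfix (hunit.map (algebraMap k C))
  have hγ1 : γ₀ = 1 := by rw [← hγ₀, hχ, Groth.Agent.H60.TorusFree.gPt_one]
  have h2 : γ₀ = w ≫ (1 : S ⟶ Red.diag k (Fin r → ℤ)) := by rw [hγ1, MonObj.comp_one]
  have h3 := congrArg CommaMorphism.left h2
  rw [← cancel_epi (S.left.affineCover.X i).isoSpec.inv]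
  simpa [γ₀, w, -MonObj.comp_one] using h3

end Groth.Agent.S11415
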