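import Groth.Statements.S11420

import Groth.Agent.Lib.GrpSch.Blanchard
import Groth.Agent.H52.FBase.GeomRedSch

set_option autoImplicit false
universe u
open CategoryTheory MonoidalCategory CartesianMonoidalCategory MonObj GrpObj AlgebraicGeometry CategoryTheory.Limits
open AlgGrp

open CategoryTheory CategoryTheory.Limits MonoidalCategory CartesianMonoidalCategory AlgebraicGeometry

namespace Groth.Agent.S11420

open Groth.Agent.H2.Rigid Groth.Agent.Lib.GrpSch

theorem push_fst (k : Type u) [Field k] [IsAlgClosed k] (X Y : Over (Spec (CommRingCat.of k)))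
    [IsProper X.hom] [IsProper Y.hom] [IsIntegral Y.left] : Push (fst X Y).left := by
  haveI : JacobsonSpace Y.left := LocallyOfFiniteType.jacobsonSpace Y.hom
  obtain ⟨c, -, hc⟩ := nonempty_inter_closedPoints (Set.univ_nonempty (α := Y.left)) isOpen_univ.isLocallyClosed
  haveI : GeometricallyConnected Y.hom := geometricallyConnected_of_rationalPoint Y.hom
    (pointOfClosedPoint Y.hom c hc) (pointOfClosedPoint_comp Y.hom c hc)
  haveI : GeometricallyReduced Y.hom :=
    Groth.Agent.H52.FBase.GeomRedSch.geometricallyReduced_of_perfectField Y.hom
  haveI : IsProper (fst X Y).left := fst_left_of (P := @IsProper) X ‹_›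
  haveI : Flat (fst X Y).left := fst_left_of (P := @Flat) X inferInstance
  haveI : Surjective (fst X Y).left := fst_left_of (P := @Surjective) X inferInstance
  haveI : IsLocallyNoetherian X.left := LocallyOfFiniteType.isLocallyNoetherian X.hom
  exact push_of_flat _ ((H0.of_geometrically Y.hom).of_isPullback (isPullback_left X Y).flip)

theorem push_snd (k : Type u) [Field k] [IsAlgClosed k] (X Y : Over (Spec (CommRingCat.of k)))
    [IsProper X.hom] [IsProper Y.hom] [IsIntegral X.left] : Push (snd X Y).left := by
  haveI : JacobsonSpace X.left := LocallyOfFiniteType.jacobsonSpace X.hom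
  obtain ⟨c, -, hc⟩ := nonempty_inter_closedPoints (Set.univ_nonempty (α := X.left)) isOpen_univ.isLocallyClosed
  haveI : GeometricallyConnected X.hom := geometricallyConnected_of_rationalPoint X.hom
    (pointOfClosedPoint X.hom c hc) (pointOfClosedPoint_comp X.hom c hc)
  haveI : GeometricallyReduced X.hom :=
    Groth.Agent.H52.FBase.GeomRedSch.geometricallyReduced_of_perfectField X.hom
  haveI : IsProper (snd X Y).left := snd_left_of (P := @IsProper) Y ‹_›
  haveI : Flat (snd X Y).left := snd_left_of (P := @Flat) Y inferInstance
  haveI : Surjective (snd X Y).left := snd_left_of (P := @Surjective) Y inferInstance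
  haveI : IsLocallyNoetherian Y.left := LocallyOfFiniteType.isLocallyNoetherian Y.hom
  exact push_of_flat _ ((H0.of_geometrically X.hom).of_isPullback (isPullback_left X Y))

/-- Over an algebraically closed field k, let X and Y be complete varieties (proper, integral, separated
k-schemes of finite type) and let a connected k-group scheme of finite type G act on X × Y. Then
there are unique actions of G on X and on Y such that the given action is the product action g·(x,
y) = (g·x, g·y). (This is the form, for actions of connected group schemes, of the identification of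
the neutral component of the automorphism group scheme of X × Y with the product of those of X and
Y; the representability of these group schemes is not asserted here.) -/
theorem result (k : Type u) [Field k] [IsAlgClosed k]
    (G X Y : Over (Spec (CommRingCat.of k))) [GrpObj G] [LocallyOfFiniteType G.hom] [QuasiCompact G.hom] [ConnectedSpace ↥G.left]
    [IsProper X.hom] [IsIntegral X.left]
    [IsProper Y.hom] [IsIntegral Y.left]
    (a : AlgGrp.Action G (X ⊗ Y)) :
    ∃ (b : AlgGrp.Action G X) (c : AlgGrp.Action G Y),
      a.act = lift ((G ◁ fst X Y) ≫ b.act) ((G ◁ snd X Y) ≫ c.act) ∧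
      ∀ (b' : AlgGrp.Action G X) (c' : AlgGrp.Action G Y),
        a.act = lift ((G ◁ fst X Y) ≫ b'.act) ((G ◁ snd X Y) ≫ c'.act) → b' = b ∧ c' = c := by
  haveI : IsProper (fst X Y).left := fst_left_of (P := @IsProper) X ‹_›
  haveI : IsProper (snd X Y).left := snd_left_of (P := @IsProper) Y ‹_›
  haveI : LocallyOfFiniteType (X ⊗ Y).hom := by
    rw [← Over.w (fst X Y)]
    infer_instance
  have h1 := push_fst k X Y
  have h2 := push_snd k X Y
  obtain ⟨b, hb, hbu⟩ := Blanchard.existsUnique_action a (fst X Y) h1
    (Blanchard.constSet_eq_univ_of_connected a (fst X Y) h1)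
  obtain ⟨c, hc, hcu⟩ := Blanchard.existsUnique_action a (snd X Y) h2
    (Blanchard.constSet_eq_univ_of_connected a (snd X Y) h2)
  refine ⟨b, c, ?_, fun b' c' h => ⟨hbu b' ?_, hcu c' ?_⟩⟩
  · apply CartesianMonoidalCategory.hom_ext
    · rw [lift_fst]; exact hb.symm
    · rw [lift_snd]; exact hc.symm
  · rw [h, lift_fst]
  · rw [h, lift_snd]

end Groth.Agent.S11420
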