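import Groth.Statements.S11421
import Groth.Agent.Lib.GrpQ.Rigidity
import Groth.Agent.Lib.GrpQ.AntiAff


set_option autoImplicit false
universe u
open CategoryTheory MonoidalCategory CartesianMonoidalCategory MonObj GrpObj AlgebraicGeometry CategoryTheory.Limits
open AlgGrp

namespace Groth.Agent.S11421

/-- Over an algebraically closed field k, let G be an algebraic group (smooth k-group scheme of finite
type) whose only global functions are the constants, H a connected algebraic group, S a connected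
k-scheme of finite type and f : G × S → H a morphism of k-schemes. Then there are a unique
k-morphism φ : S → H and a unique homomorphism ψ : G → H with f(g, s) = φ(s) · ψ(g) on points. (This
is the decomposition, over a connected base, behind the identification of the functor of morphisms
from G to H with H × Hom_gp(G, H); the published statement is the equivalence of representability of
that functor with anti-affineness of G, whose converse direction is not stated here.) -/
theorem result (k : Type u) [Field k] [IsAlgClosed k]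
    (G H S : Over (Spec (CommRingCat.of k))) [GrpObj G] [Smooth G.hom] [QuasiCompact G.hom]
    (hG : Function.Bijective ((Scheme.ΓSpecIso (CommRingCat.of k)).inv ≫ G.hom.appTop).hom)
    [GrpObj H] [Smooth H.hom] [QuasiCompact H.hom] [ConnectedSpace ↥H.left]
    [LocallyOfFiniteType S.hom] [QuasiCompact S.hom] [ConnectedSpace ↥S.left]
    (f : G ⊗ S ⟶ H) :
    ∃ (φ : S ⟶ H) (ψ : G ⟶ H), IsMonHom ψ ∧ f = (snd G S ≫ φ) * (fst G S ≫ ψ) ∧
      ∀ (φ' : S ⟶ H) (ψ' : G ⟶ H), IsMonHom ψ' → f = (snd G S ≫ φ') * (fst G S ≫ ψ') → φ' = φ ∧ ψ' = ψ := by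
  have := Groth.Agent.Lib.GrpQ.AntiAff.isIso_of_bijective hG
  have := Groth.Agent.Lib.GrpSch.isSeparated_of_field G
  have := Groth.Agent.Lib.GrpSch.isSeparated_of_field H
  have : LocallyOfFiniteType G.hom := inferInstance
  obtain ⟨s₀, -⟩ := Groth.Agent.Lib.GrpSch.exists_point_mem (X := S) isClosed_univ Set.univ_nonempty
  let φ : S ⟶ H := lift (1 : S ⟶ G) (𝟙 S) ≫ f
  let h : G ⊗ S ⟶ H := (snd G S ≫ φ)⁻¹ * f
  let ψ : G ⟶ H := lift (𝟙 G) (toUnit G ≫ s₀) ≫ h
  have hψ0 : η[G] ≫ ψ = η[H] := by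
    simp only [ψ, h, φ, comp_lift_assoc, MonObj.comp_mul, GrpObj.comp_inv, lift_snd_assoc, MonObj.comp_one]
    rw [Hom.one_def, toUnit_unique (toUnit _) (𝟙 _)]
    simp
    rw [Hom.one_def, toUnit_unique (toUnit _) (𝟙 _), Category.id_comp]
  have hψ : IsMonHom ψ := Groth.Agent.Lib.GrpQ.AntiAff.isMonHom_of_pointed hG ψ hψ0
  let Φ : G ⊗ S ⟶ H := (fst G S ≫ ψ)⁻¹ * h
  have hc : (G ◁ s₀) ≫ Φ = toUnit _ ≫ η[H] := by
    have e : (G ◁ s₀) ≫ h = fst G (𝟙_ _) ≫ ψ := by
      rw [show G ◁ s₀ = fst G (𝟙_ _) ≫ lift (𝟙 G) (toUnit G ≫ s₀) by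
        ext1
        · simp
        · simp [toUnit_unique (snd G (𝟙_ _)) (toUnit _)], Category.assoc]
    simp only [Φ, MonObj.comp_mul, GrpObj.comp_inv, whiskerLeft_fst_assoc, e, inv_mul_cancel, Hom.one_def]
  have hR := Groth.Agent.Lib.GrpQ.Rigidity.eq_snd_comp η[G] Φ s₀ η[H] hc
  have hΦ : Φ = 1 := by
    rw [hR]
    have e : lift (toUnit S ≫ η[G]) (𝟙 S) ≫ Φ = 1 := by
      simp only [Φ, h, MonObj.comp_mul, GrpObj.comp_inv, lift_fst_assoc, lift_snd_assoc, Category.id_comp,
        Category.assoc, hψ0]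
      rw [show lift (toUnit S ≫ η[G]) (𝟙 S) ≫ f = φ by simp only [φ, Hom.one_def]]
      simp [← Hom.one_def]
    rw [e, MonObj.comp_one]
  refine ⟨φ, ψ, hψ, ?_, fun φ' ψ' hψ' hf' => ?_⟩
  · have h2 : h = fst G S ≫ ψ := (inv_mul_eq_one.1 hΦ).symm
    rw [← h2]
    simp [h]
  · have h1 : φ' = φ := by
      have := congrArg (lift (1 : S ⟶ G) (𝟙 S) ≫ ·) hf'
      simp only [MonObj.comp_mul, lift_snd_assoc, lift_fst_assoc, Category.id_comp, MonObj.one_comp, _root_.mul_one] at this
      exact this.symm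
    refine ⟨h1, ?_⟩
    have := congrArg (lift (𝟙 G) (toUnit G ≫ s₀) ≫ ·) hf'
    simp only [MonObj.comp_mul, lift_snd_assoc, lift_fst_assoc, Category.id_comp, h1, Category.assoc] at this
    simp only [ψ, h, MonObj.comp_mul, GrpObj.comp_inv, lift_snd_assoc, Category.assoc, this, inv_mul_cancel_left]

end Groth.Agent.S11421
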