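import Groth.Statements.S14638

import Groth.Agent.Lib.GrpSch.OrbitDim

set_option autoImplicit false
universe u
open CategoryTheory MonoidalCategory CartesianMonoidalCategory MonObj GrpObj AlgebraicGeometry CategoryTheory.Limits
open AlgGrp

open Groth.Agent.Lib

namespace Groth.Agent.S14638


section
variable {k : Type u} [Field k]

/-- A point of the image of a morphism with values in an algebraically closed field lifts. -/
theorem exists_lift_point {A B : Over (Spec (CommRingCat.of k))} (f : A ⟶ B) [LocallyOfFiniteType f.left]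
    {K : Type u} [Field K] [IsAlgClosed K] (q : Spec (CommRingCat.of K) ⟶ Spec (CommRingCat.of k))
    (t : Over.mk q ⟶ B) (h : t.left (IsLocalRing.closedPoint K) ∈ Set.range f.left) :
    ∃ s : Over.mk q ⟶ A, s ≫ f = t := by
  obtain ⟨w, hw⟩ := h
  let p₂ := pullback.snd f.left t.left
  haveI : JacobsonSpace ↥(pullback f.left t.left) := LocallyOfFiniteType.jacobsonSpace (Y := Spec (CommRingCat.of K)) p₂
  obtain ⟨v, -, -⟩ := Scheme.exists_preimage_of_isPullback (IsPullback.of_hasPullback f.left t.left)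
    w (IsLocalRing.closedPoint K) hw
  obtain ⟨c, -, hc⟩ := nonempty_inter_closedPoints (Z := (Set.univ : Set ↥(pullback f.left t.left)))
    ⟨v, trivial⟩ isOpen_univ.isLocallyClosed
  let s₀ := pointOfClosedPoint p₂ c hc
  refine ⟨Over.homMk (s₀ ≫ pullback.fst f.left t.left) ?_, Over.OverMorphism.ext ?_⟩
  · show (s₀ ≫ pullback.fst f.left t.left) ≫ A.hom = q
    rw [← Over.w f, Category.assoc, ← Category.assoc (pullback.fst f.left t.left), pullback.condition,
      Category.assoc, pointOfClosedPoint_comp_assoc]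
    exact Over.w t
  · show (s₀ ≫ pullback.fst f.left t.left) ≫ f.left = t.left
    rw [Category.assoc, pullback.condition, pointOfClosedPoint_comp_assoc]

variable {G X : Over (Spec (CommRingCat.of k))} [GrpObj G] (a : AlgGrp.Action G X)

/-- Two points in the same orbit. -/
def Rel {T : Over (Spec (CommRingCat.of k))} (x y : T ⟶ X) : Prop :=
  ∃ g : T ⟶ G, lift g x ≫ a.act = y

theorem Rel.symm {T : Over (Spec (CommRingCat.of k))} {x y : T ⟶ X} (h : Rel a x y) : Rel a y x := by
  obtain ⟨g, rfl⟩ := h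
  exact ⟨g⁻¹, GrpSch.act_inv_act a g x⟩

theorem Rel.trans {T : Over (Spec (CommRingCat.of k))} {x y z : T ⟶ X} (h : Rel a x y)
    (h' : Rel a y z) : Rel a x z := by
  obtain ⟨g, rfl⟩ := h
  obtain ⟨g', rfl⟩ := h'
  exact ⟨g' * g, GrpSch.act_mul a g' g x⟩

/-- The graph morphism. -/
noncomputable def graph : G ⊗ X ⟶ X ⊗ X := lift (snd G X) a.act

theorem locallyOfFiniteType_graph [LocallyOfFiniteType G.hom] [LocallyOfFiniteType X.hom] :
    LocallyOfFiniteType (graph a).left := by
  haveI : LocallyOfFiniteType (snd G X).left := GrpSch.snd_left_of X ‹_›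
  haveI : LocallyOfFiniteType (G ⊗ X).hom := by rw [← Over.w (snd G X)]; infer_instance
  haveI : LocallyOfFiniteType ((graph a).left ≫ (X ⊗ X).hom) := by rw [Over.w]; infer_instance
  exact locallyOfFiniteType_of_comp (graph a).left (X ⊗ X).hom

/-- The slice of `V` at a point `x`, in `X_T`. -/
noncomputable def slice {T : Over (Spec (CommRingCat.of k))} (x : T ⟶ X) (V : Set ↥(X ⊗ X).left) :
    Set ↥(X ⊗ T).left := (X ◁ x).left ⁻¹' V

theorem rel_of_slice [LocallyOfFiniteType G.hom] [LocallyOfFiniteType X.hom]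
    [GeometricallyIntegral X.hom] {K : Type u} [Field K] [IsAlgClosed K]
    (q : Spec (CommRingCat.of K) ⟶ Spec (CommRingCat.of k)) {V : Set ↥(X ⊗ X).left} (hVo : IsOpen V)
    (hV : V ⊆ Set.range (graph a).left) (x y : Over.mk q ⟶ X)
    (hx : x.left (IsLocalRing.closedPoint K) ∈ (snd X X).left '' V)
    (hy : y.left (IsLocalRing.closedPoint K) ∈ (snd X X).left '' V) : Rel a x y := by
  have hne : ∀ z : Over.mk q ⟶ X, z.left (IsLocalRing.closedPoint K) ∈ (snd X X).left '' V →
      (slice z V).Nonempty := by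
    rintro z ⟨v, hv, hvz⟩
    obtain ⟨w, hw, -⟩ := Scheme.exists_preimage_of_isPullback (GrpSch.isPullback_whiskerLeft X z)
      v (IsLocalRing.closedPoint K) hvz
    exact ⟨w, by show _ ∈ V; rw [hw]; exact hv⟩
  haveI : IrreducibleSpace ↥(X ⊗ Over.mk q).left :=
    inferInstanceAs (IrreducibleSpace ↥(pullback X.hom q))
  obtain ⟨w₀, hw₀⟩ := nonempty_preirreducible_inter (hVo.preimage (X ◁ x).left.continuous)
    (hVo.preimage (X ◁ y).left.continuous) (hne x hx) (hne y hy)
  haveI : LocallyOfFiniteType (snd X (Over.mk q)).left := GrpSch.snd_left_of _ ‹_›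
  haveI : JacobsonSpace ↥(X ⊗ Over.mk q).left :=
    LocallyOfFiniteType.jacobsonSpace (Y := Spec (CommRingCat.of K)) (snd X (Over.mk q)).left
  obtain ⟨c, hc, hcl⟩ := nonempty_inter_closedPoints ⟨w₀, hw₀⟩
    (((hVo.preimage (X ◁ x).left.continuous).inter (hVo.preimage (X ◁ y).left.continuous)).isLocallyClosed)
  let s₀ : Spec (CommRingCat.of K) ⟶ (X ⊗ Over.mk q).left :=
    pointOfClosedPoint (K := K) (snd X (Over.mk q)).left c hcl
  let s : Over.mk q ⟶ X ⊗ Over.mk q := Over.homMk s₀ (by
    show s₀ ≫ (X ⊗ Over.mk q).hom = q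
    rw [← Over.w (snd X (Over.mk q))]
    exact (pointOfClosedPoint_comp_assoc _ c hcl _).trans rfl)
  have hs : s ≫ snd X (Over.mk q) = 𝟙 _ :=
    Over.OverMorphism.ext (pointOfClosedPoint_comp (K := K) (snd X (Over.mk q)).left c hcl)
  have hs0 : s.left (IsLocalRing.closedPoint K) = c := pointOfClosedPoint_apply _ c hcl _
  let z := s ≫ fst X (Over.mk q)
  have hrel : ∀ x' : Over.mk q ⟶ X, c ∈ slice x' V → Rel a z x' := by
    intro x' hcx
    haveI := locallyOfFiniteType_graph a
    obtain ⟨r, hr⟩ := exists_lift_point (graph a) q (s ≫ (X ◁ x')) (by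
      rw [Over.comp_left, Scheme.Hom.comp_apply, hs0]
      exact hV hcx)
    have h1 : r ≫ snd G X = z := by
      have := congrArg (fun φ => φ ≫ fst X X) hr
      simpa [graph, z] using this
    have h2 : r ≫ a.act = x' := by
      have := congrArg (fun φ => φ ≫ snd X X) hr
      simpa [graph, reassoc_of% hs] using this
    refine ⟨r ≫ fst G X, ?_⟩
    rw [← h1, ← comp_lift, lift_fst_snd, Category.comp_id, h2]
  exact (Rel.symm a (hrel x hc.1)).trans a (hrel y hc.2)

theorem exists_restrict (U : X.left.Opens) (h : GrpSch.IsStableSet a (U : Set ↥X.left)) :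
    ∃ b : AlgGrp.Action G (Over.mk (U.ι ≫ X.hom)),
      (G ◁ (Over.homMk U.ι rfl : Over.mk (U.ι ≫ X.hom) ⟶ X)) ≫ a.act = b.act ≫ Over.homMk U.ι rfl := by
  let Z : Over (Spec (CommRingCat.of k)) := Over.mk (U.ι ≫ X.hom)
  let j : Z ⟶ X := Over.homMk U.ι rfl
  haveI : IsOpenImmersion j.left := inferInstanceAs (IsOpenImmersion U.ι)
  haveI : Mono j := (Over.forget _).mono_of_mono_map (inferInstanceAs (Mono j.left))
  have hr : Set.range ((G ◁ j) ≫ a.act).left ⊆ Set.range j.left := by
    rintro _ ⟨p, rfl⟩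
    refine ⟨⟨_, (GrpSch.isStableSet_iff a _).1 h ((G ◁ j).left p) ?_⟩, rfl⟩
    rw [← Scheme.Hom.comp_apply, ← Over.comp_left, whiskerLeft_snd, Over.comp_left, Scheme.Hom.comp_apply]
    exact ((snd G Z).left p).2
  let act : G ⊗ Z ⟶ Z := Over.homMk (IsOpenImmersion.lift j.left ((G ◁ j) ≫ a.act).left hr) (by
    show _ ≫ U.ι ≫ X.hom = _
    rw [← Category.assoc, show IsOpenImmersion.lift j.left _ hr ≫ U.ι = _ from
      IsOpenImmersion.lift_fac j.left _ hr]
    exact Over.w _)
  have hact : act ≫ j = (G ◁ j) ≫ a.act := Over.OverMorphism.ext (IsOpenImmersion.lift_fac _ _ _)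
  exact ⟨GrpSch.actionMk act
    (fun T x => by
      rw [← cancel_mono j, Category.assoc, hact, lift_whiskerLeft_assoc, GrpSch.act_one])
    (fun T g g' x => by
      rw [← cancel_mono j, Category.assoc, Category.assoc, hact, lift_whiskerLeft_assoc,
        lift_whiskerLeft_assoc, Category.assoc, hact, lift_whiskerLeft_assoc, GrpSch.act_mul]),
    hact.symm⟩

end
/-- Over a field k, let G be a smooth k-group scheme of finite type acting on a variety X (a separated,
geometrically integral k-scheme of finite type). Then X is almost homogeneous, i.e. the graph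
morphism G × X → X × X, (g, x) ↦ (x, g·x), is dominant, if and only if there is a nonempty open
subscheme U of X which is G-stable (the action restricts to an action on U) and homogeneous (the
graph morphism G × U → U × U is surjective). Moreover there is at most one such open subscheme U
(the open orbit). -/
theorem result (k : Type u) [Field k]
    (G X : Over (Spec (CommRingCat.of k))) [GrpObj G] [Smooth G.hom] [QuasiCompact G.hom]
    [IsSeparated X.hom] [LocallyOfFiniteType X.hom] [QuasiCompact X.hom] [GeometricallyIntegral X.hom]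
    (a : AlgGrp.Action G X) :
    (IsDominant (CartesianMonoidalCategory.lift (CartesianMonoidalCategory.snd G X) a.act).left ↔
      ∃ U : X.left.Opens, (U : Set ↥X.left).Nonempty ∧
        ∃ b : AlgGrp.Action G (Over.mk (U.ι ≫ X.hom)),
          (G ◁ (Over.homMk U.ι rfl : Over.mk (U.ι ≫ X.hom) ⟶ X)) ≫ a.act = b.act ≫ Over.homMk U.ι rfl ∧
          Surjective (CartesianMonoidalCategory.lift (CartesianMonoidalCategory.snd G (Over.mk (U.ι ≫ X.hom))) b.act).left) ∧
    ∀ U U' : X.left.Opens,
      ((U : Set ↥X.left).Nonempty ∧ ∃ b : AlgGrp.Action G (Over.mk (U.ι ≫ X.hom)),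
          (G ◁ (Over.homMk U.ι rfl : Over.mk (U.ι ≫ X.hom) ⟶ X)) ≫ a.act = b.act ≫ Over.homMk U.ι rfl ∧
          Surjective (CartesianMonoidalCategory.lift (CartesianMonoidalCategory.snd G (Over.mk (U.ι ≫ X.hom))) b.act).left) →
      ((U' : Set ↥X.left).Nonempty ∧ ∃ b' : AlgGrp.Action G (Over.mk (U'.ι ≫ X.hom)),
          (G ◁ (Over.homMk U'.ι rfl : Over.mk (U'.ι ≫ X.hom) ⟶ X)) ≫ a.act = b'.act ≫ Over.homMk U'.ι rfl ∧
          Surjective (CartesianMonoidalCategory.lift (CartesianMonoidalCategory.snd G (Over.mk (U'.ι ≫ X.hom))) b'.act).left) →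
      U = U' := by
  haveI : IrreducibleSpace ↥X.left := GeometricallyIrreducible.irreducibleSpace_of_subsingleton X.hom
  haveI : IrreducibleSpace ↥(X ⊗ X).left := inferInstanceAs (IrreducibleSpace ↥(pullback X.hom X.hom))
  haveI := locallyOfFiniteType_graph a
  constructor
  · constructor
    · intro hdom
      -- a dense open inside the image of the graph
      have : IsDominant (graph a).left := hdom
      have : LocallyOfFiniteType (X ⊗ X).hom := by
        haveI : LocallyOfFiniteType (snd X X).left := GrpSch.snd_left_of X ‹_›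
        rw [← Over.w (snd X X)]; infer_instance
      have : QuasiCompact (X ⊗ X).hom := by
        haveI : QuasiCompact (snd X X).left := GrpSch.snd_left_of X ‹_›
        rw [← Over.w (snd X X)]; infer_instance
      have : QuasiCompact (G ⊗ X).hom := by
        haveI : QuasiCompact (snd G X).left := GrpSch.snd_left_of X ‹_›
        rw [← Over.w (snd G X)]; infer_instance
      have : IsLocallyNoetherian (X ⊗ X).left := LocallyOfFiniteType.isLocallyNoetherian (X ⊗ X).hom
      have : CompactSpace (X ⊗ X).left := QuasiCompact.compactSpace_of_compactSpace (X ⊗ X).hom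
      have : AlgebraicGeometry.IsNoetherian (X ⊗ X).left := ⟨⟩
      have : SpectralSpace (X ⊗ X).left := {}
      have : QuasiCompact ((graph a).left ≫ (X ⊗ X).hom) := by rw [Over.w]; infer_instance
      have : QuasiCompact (graph a).left := QuasiCompact.of_comp (graph a).left (X ⊗ X).hom
      have hO : Topology.IsConstructible (Set.range (graph a).left) := by
        rw [← Set.image_univ]
        exact (graph a).left.isConstructible_image .univ
      have hcons := Groth.Agent.Lib.Spectral.Basic.isClopen_cons_of_isConstructible hO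
      set z := genericPoint ↥(X ⊗ X).left
      have hz : ∀ e : ↥(X ⊗ X).left, e ⤳ z → e = z := fun e he =>
        (he.antisymm (genericPoint_specializes e)).eq
      have hzO : z ∈ Set.range (graph a).left := by
        obtain ⟨e, he, hspec⟩ := Groth.Agent.Lib.Spectral.Basic.exists_specializes_of_mem_closure hcons.1
          ((graph a).left.denseRange z)
        exact hz e hspec ▸ he
      set V : Set ↥(X ⊗ X).left := (closure (Set.range (graph a).left)ᶜ)ᶜ
      have hVo : IsOpen V := isClosed_closure.isOpen_compl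
      have hV : V ⊆ Set.range (graph a).left := fun p hp => by
        by_contra hpO
        exact hp (subset_closure hpO)
      have hzV : z ∈ V := fun hmem => by
        obtain ⟨e, he, hspec⟩ := Groth.Agent.Lib.Spectral.Basic.exists_specializes_of_mem_closure
          ((@isClosed_compl_iff _ (constructibleTopology ↥(X ⊗ X).left) _).2 hcons.2) hmem
        exact he (hz e hspec ▸ hzO)
      let U₀ : Set ↥X.left := (snd X X).left '' V
      have hU₀ : IsOpen U₀ := GrpSch.snd_isOpenMap X X _ hVo
      let U : X.left.Opens := ⟨GrpSch.sat a U₀, GrpSch.isOpen_sat a hU₀⟩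
      obtain ⟨b, hb⟩ := exists_restrict a U (GrpSch.isStableSet_sat a U₀)
      refine ⟨U, ⟨_, GrpSch.subset_sat a _ ⟨z, hzV, rfl⟩⟩, b, hb, ⟨fun p => ?_⟩⟩
      -- a geometric point over `p`
      let Z : Over (Spec (CommRingCat.of k)) := Over.mk (U.ι ≫ X.hom)
      let j : Z ⟶ X := Over.homMk U.ι rfl
      haveI : IsOpenImmersion j.left := inferInstanceAs (IsOpenImmersion U.ι)
      haveI : Mono j := (Over.forget _).mono_of_mono_map (inferInstanceAs (Mono j.left))
      let K := AlgebraicClosure ((Z ⊗ Z).left.residueField p)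
      let t₀ : Spec (CommRingCat.of K) ⟶ (Z ⊗ Z).left :=
        Spec.map (CommRingCat.ofHom (algebraMap ((Z ⊗ Z).left.residueField p) K)) ≫
          (Z ⊗ Z).left.fromSpecResidueField p
      let q := t₀ ≫ (Z ⊗ Z).hom
      let t : Over.mk q ⟶ Z ⊗ Z := Over.homMk t₀ rfl
      have ht : t.left (IsLocalRing.closedPoint K) = p := by
        show t₀ _ = p
        exact Scheme.fromSpecResidueField_apply p _
      have hmove : ∀ x : Over.mk q ⟶ Z, ∃ x' : Over.mk q ⟶ X,
          x'.left (IsLocalRing.closedPoint K) ∈ U₀ ∧ Rel a x' (x ≫ j) := by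
        intro x
        obtain ⟨w, hwU, hw⟩ : ((x ≫ j).left (IsLocalRing.closedPoint K)) ∈ GrpSch.sat a U₀ :=
          (x.left (IsLocalRing.closedPoint K)).2
        let W : (G ⊗ X).left.Opens := (snd G X).left ⁻¹ᵁ ⟨U₀, hU₀⟩
        let ι₀ : Over.mk (W.ι ≫ (G ⊗ X).hom) ⟶ G ⊗ X := Over.homMk W.ι rfl
        haveI : LocallyOfFiniteType a.act.left := GrpSch.act_left_of a inferInstance
        haveI : LocallyOfFiniteType (ι₀ ≫ a.act).left := by
          rw [Over.comp_left]
          exact inferInstanceAs (LocallyOfFiniteType (W.ι ≫ a.act.left))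
        obtain ⟨r, hr⟩ := exists_lift_point (ι₀ ≫ a.act) q (x ≫ j) ⟨⟨w, hwU⟩, hw⟩
        refine ⟨r ≫ ι₀ ≫ snd G X, (r.left (IsLocalRing.closedPoint K)).2, r ≫ ι₀ ≫ fst G X, ?_⟩
        rw [← comp_lift, ← comp_lift, lift_fst_snd, Category.comp_id, Category.assoc, hr]
      obtain ⟨x', hx', hxr⟩ := hmove (t ≫ fst Z Z)
      obtain ⟨y', hy', hyr⟩ := hmove (t ≫ snd Z Z)
      obtain ⟨g, hg⟩ : Rel a ((t ≫ fst Z Z) ≫ j) ((t ≫ snd Z Z) ≫ j) :=
        ((Rel.symm a hxr).trans a (rel_of_slice a q hVo hV x' y' hx' hy')).trans a hyr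
      have hgb : lift g (t ≫ fst Z Z) ≫ b.act = t ≫ snd Z Z := by
        rw [← cancel_mono j, Category.assoc, ← hb, lift_whiskerLeft_assoc]
        exact hg
      refine ⟨(lift g (t ≫ fst Z Z)).left (IsLocalRing.closedPoint K), ?_⟩
      rw [← Scheme.Hom.comp_apply, ← Over.comp_left, comp_lift, lift_snd, hgb, ← comp_lift,
        lift_fst_snd, Category.comp_id, ht]
    · rintro ⟨U, ⟨x, hx⟩, b, hb, hsurj⟩
      let Z : Over (Spec (CommRingCat.of k)) := Over.mk (U.ι ≫ X.hom)
      let j : Z ⟶ X := Over.homMk U.ι rfl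
      haveI : IsOpenImmersion j.left := inferInstanceAs (IsOpenImmersion U.ι)
      haveI : IsOpenImmersion (j ⊗ₘ j).left := GrpSch.tensorHom_left_of j j ‹_› ‹_›
      refine ⟨Dense.mono ?_ ((j ⊗ₘ j).left.isOpenEmbedding.isOpen_range.dense ?_)⟩
      · rintro _ ⟨p, rfl⟩
        obtain ⟨p', rfl⟩ := hsurj.surj p
        refine ⟨(G ◁ j).left p', ?_⟩
        rw [← Scheme.Hom.comp_apply, ← Scheme.Hom.comp_apply, ← Over.comp_left, ← Over.comp_left,
          lift_map, comp_lift, whiskerLeft_snd, hb]
      · obtain ⟨p', -⟩ := Scheme.exists_preimage_of_isPullback (GrpSch.isPullback_left Z Z)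
          ⟨x, hx⟩ ⟨x, hx⟩ rfl
        exact ⟨_, p', rfl⟩
  · rintro U U' ⟨hne, b, hb, hs⟩ ⟨hne', b', hb', hs'⟩
    suffices ∀ (U U' : X.left.Opens) (b : AlgGrp.Action G (Over.mk (U.ι ≫ X.hom)))
        (b' : AlgGrp.Action G (Over.mk (U'.ι ≫ X.hom))),
        (G ◁ (Over.homMk U.ι rfl : Over.mk (U.ι ≫ X.hom) ⟶ X)) ≫ a.act = b.act ≫ Over.homMk U.ι rfl →
        Surjective (CartesianMonoidalCategory.lift (CartesianMonoidalCategory.snd G (Over.mk (U.ι ≫ X.hom))) b.act).left →
        (G ◁ (Over.homMk U'.ι rfl : Over.mk (U'.ι ≫ X.hom) ⟶ X)) ≫ a.act = b'.act ≫ Over.homMk U'.ι rfl →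
        ((U : Set ↥X.left) ∩ (U' : Set ↥X.left)).Nonempty → U ≤ U' by
      have hI : ((U : Set ↥X.left) ∩ (U' : Set ↥X.left)).Nonempty :=
        nonempty_preirreducible_inter U.2 U'.2 hne hne'
      exact le_antisymm (this U U' b b' hb hs hb' hI) (this U' U b' b hb' hs' hb (Set.inter_comm (U : Set ↥X.left) _ ▸ hI))
    intro U U' b b' hb hs hb' ⟨x, hx, hx'⟩ y hy
    let Z : Over (Spec (CommRingCat.of k)) := Over.mk (U.ι ≫ X.hom)
    obtain ⟨p, hp1, hp2⟩ := Scheme.exists_preimage_of_isPullback (GrpSch.isPullback_left Z Z)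
      ⟨x, hx⟩ ⟨y, hy⟩ (Subsingleton.elim (α := Spec (CommRingCat.of k)) _ _)
    obtain ⟨w, hw⟩ := hs.surj p
    let Z' : Over (Spec (CommRingCat.of k)) := Over.mk (U'.ι ≫ X.hom)
    let j : Z ⟶ X := Over.homMk U.ι rfl
    let j' : Z' ⟶ X := Over.homMk U'.ι rfl
    have e1 : (snd G X).left ((G ◁ j).left w) = x := by
      rw [← Scheme.Hom.comp_apply, ← Over.comp_left, whiskerLeft_snd, ← lift_fst (snd G Z) b.act,
        Over.comp_left, Over.comp_left, Scheme.Hom.comp_apply, Scheme.Hom.comp_apply, hw, hp1]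
      rfl
    have e2 : a.act.left ((G ◁ j).left w) = y := by
      rw [← Scheme.Hom.comp_apply, ← Over.comp_left, hb, ← lift_snd (snd G Z) b.act,
        Over.comp_left, Over.comp_left, Scheme.Hom.comp_apply, Scheme.Hom.comp_apply, hw, hp2]
      rfl
    obtain ⟨w', hw'1, hw'2⟩ := Scheme.exists_preimage_of_isPullback (GrpSch.isPullback_whiskerLeft G j')
      ((G ◁ j).left w) ⟨x, hx'⟩ e1
    rw [← e2, ← hw'1, ← Scheme.Hom.comp_apply, ← Over.comp_left, hb', Over.comp_left, Scheme.Hom.comp_apply]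
    exact (b'.act.left w').2

end Groth.Agent.S14638
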