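import Groth.Statements.S11423

import Groth.Agent.S14638
import Groth.Agent.Lib.GrpQ.AntiAff
import Groth.Agent.Lib.GrpQ.KerRho

set_option autoImplicit false
universe u
open CategoryTheory MonoidalCategory CartesianMonoidalCategory MonObj GrpObj AlgebraicGeometry CategoryTheory.Limits
open AlgGrp

open Groth.Agent.Lib

namespace Groth.Agent.S11423


section
variable {k : Type u} [Field k] {G X A E : Over (Spec (CommRingCat.of k))} [GrpObj G]
  (a : AlgGrp.Action G X) {π : X ⟶ A}

theorem torsor_unique (hcart : IsPullback (snd G X) a.act π π) {T : Over (Spec (CommRingCat.of k))}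
    {g g' : T ⟶ G} {x : T ⟶ X} (h : lift g x ≫ a.act = lift g' x ≫ a.act) : g = g' := by
  have h1 : lift g x = lift g' x := hcart.hom_ext (by simp) h
  simpa using congrArg (fun q => q ≫ fst G X) h1

theorem const_of_appTop [IsAffine G.left] {P Q : Over (Spec (CommRingCat.of k))} (q : P ⟶ Q) (s : Q ⟶ P)
    (hs : s ≫ q = 𝟙 Q) [IsIso q.left.appTop] (c : P ⟶ G) : c = q ≫ s ≫ c := by
  refine Over.OverMorphism.ext (ext_of_isAffine ?_)
  have h1 : q.left.appTop ≫ s.left.appTop = 𝟙 _ := by
    rw [← Scheme.Hom.comp_appTop, ← Over.comp_left, hs, Over.id_left, Scheme.Hom.id_appTop]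
  have h2 : s.left.appTop ≫ q.left.appTop = 𝟙 _ := by
    rw [← cancel_epi q.left.appTop, reassoc_of% h1, Category.comp_id]
  simp only [Over.comp_left, Scheme.Hom.comp_appTop, Category.assoc, h2, Category.comp_id]

end
/-- Over an algebraically closed field k, let G be a connected affine algebraic group (smooth, affine,
connected k-group scheme of finite type), A an abelian variety (proper, smooth, connected k-group
scheme) and π : X → A a principal G-bundle of k-schemes of finite type (G acts on X, π is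
G-invariant and faithfully flat, and the square formed by the action, the second projection and π is
cartesian). Suppose π is trivialized by an anti-affine extension of A: there are an algebraic group
𝒢 whose only global functions are the constants, a flat surjective homomorphism φ : 𝒢 → A with
affine kernel, and a morphism σ : 𝒢 → X with π ∘ σ = φ (a section of the pulled-back bundle). Then π
is homogeneous: for every rational point a of A there is a G-equivariant automorphism of X over the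
translation of A by a. (The published statement is the equivalence; only this direction is stated
here.) -/
theorem result (k : Type u) [Field k] [IsAlgClosed k]
    (G X A : Over (Spec (CommRingCat.of k))) [GrpObj G] [Smooth G.hom] [QuasiCompact G.hom] [IsAffine G.left] [ConnectedSpace ↥G.left]
    [LocallyOfFiniteType X.hom] [QuasiCompact X.hom]
    [GrpObj A] [IsProper A.hom] [Smooth A.hom] [ConnectedSpace ↥A.left]
    (a : AlgGrp.Action G X) (π : X ⟶ A) (hinv : a.act ≫ π = snd G X ≫ π) [Flat π.left] [Surjective π.left]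
    (hcart : IsPullback (snd G X) a.act π π)
    (E : Over (Spec (CommRingCat.of k))) [GrpObj E] [Smooth E.hom] [QuasiCompact E.hom]
    (hE : Function.Bijective ((Scheme.ΓSpecIso (CommRingCat.of k)).inv ≫ E.hom.appTop).hom)
    (φ : E ⟶ A) [IsMonHom φ] [Flat φ.left] [Surjective φ.left]
    (Hk : Over (Spec (CommRingCat.of k))) [GrpObj Hk] (h : Hk ⟶ E) [IsMonHom h] (hk : AlgGrp.IsKernel h φ) [IsAffine Hk.left]
    (σ : E ⟶ X) (hσ : σ ≫ π = φ)
    (t : 𝟙_ (Over (Spec (CommRingCat.of k))) ⟶ A) :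
    ∃ ψ : X ≅ X, (G ◁ ψ.hom) ≫ a.act = a.act ≫ ψ.hom ∧
      ψ.hom ≫ π = π ≫ (lift (𝟙 A) (toUnit A ≫ t) ≫ μ[A]) := by
  haveI : LocallyOfFiniteType E.hom := inferInstance
  haveI := GrpSch.isSeparated_of_field E
  haveI := GrpQ.AntiAff.isIso_of_bijective hE
  haveI : LocallyOfFiniteType φ.left := GrpQ.locallyOfFiniteType_left φ
  haveI : QuasiCompact φ.left := GrpQ.quasiCompact_left φ
  haveI : QuasiSeparatedSpace E.left := quasiSeparatedSpace_of_quasiSeparated E.hom
  haveI : CompactSpace E.left := QuasiCompact.compactSpace_of_compactSpace E.hom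
  haveI := GrpQ.kernel_mono hk
  obtain ⟨e, he⟩ : ∃ e : 𝟙_ (Over (Spec (CommRingCat.of k))) ⟶ E, e ≫ φ = t :=
    S14638.exists_lift_point φ (𝟙 _) t (φ.left.surjective _)
  -- the cocycle
  have hpair : (fst E Hk ≫ σ) ≫ π = ((fst E Hk * (snd E Hk ≫ h)) ≫ σ) ≫ π := by
    rw [Category.assoc, Category.assoc, hσ, MonObj.mul_comp, Category.assoc (snd E Hk),
      GrpQ.kernel_comp hk, MonObj.comp_one, _root_.mul_one]
  let c : E ⊗ Hk ⟶ G := hcart.lift _ _ hpair ≫ fst G X
  have hc : ∀ {T : Over (Spec (CommRingCat.of k))} (x : T ⟶ E) (m : T ⟶ Hk),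
      (x * (m ≫ h)) ≫ σ = lift (lift x m ≫ c) (x ≫ σ) ≫ a.act := by
    intro T x m
    have h0 : hcart.lift _ _ hpair = lift c (fst E Hk ≫ σ) := by
      apply CartesianMonoidalCategory.hom_ext
      · simp [c]
      · rw [hcart.lift_fst, lift_snd]
    have h1 := congrArg (lift x m ≫ ·) (hcart.lift_snd _ _ hpair)
    simp only [h0, MonObj.comp_mul_assoc, comp_lift_assoc, lift_fst_assoc, lift_snd_assoc] at h1
    simpa [lift_fst, lift_snd] using h1.symm
  let c₀ : Hk ⟶ G := lift (toUnit Hk ≫ η[E]) (𝟙 Hk) ≫ c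
  have hsq : IsPullback (fst E Hk).left (snd E Hk).left E.hom Hk.hom := GrpSch.isPullback_left E Hk
  haveI : IsIso (snd E Hk).left.appTop :=
    GrpQ.KerRho.isIso_appTop_of_isPullback hsq
  have hc₀ : ∀ {T : Over (Spec (CommRingCat.of k))} (x : T ⟶ E) (m : T ⟶ Hk), lift x m ≫ c = m ≫ c₀ := by
    intro T x m
    rw [const_of_appTop (snd E Hk) (lift (toUnit Hk ≫ η[E]) (𝟙 Hk)) (lift_snd _ _) c, lift_snd_assoc]
  -- the cover
  let p : G ⊗ E ⟶ X := (G ◁ σ) ≫ a.act
  have hp : ∀ {T : Over (Spec (CommRingCat.of k))} (g : T ⟶ G) (x : T ⟶ E),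
      lift g x ≫ p = lift g (x ≫ σ) ≫ a.act := fun g x => by simp [p]
  have hpb : IsPullback p.left (snd G E).left π.left (σ ≫ π).left := by
    rw [Over.comp_left, Over.comp_left]
    exact (GrpSch.isPullback_whiskerLeft G σ).paste_horiz ((hcart.map (Over.forget _)).flip)
  rw [hσ] at hpb
  haveI : Flat p.left := MorphismProperty.of_isPullback hpb.flip ‹Flat φ.left›
  haveI : Surjective p.left := MorphismProperty.of_isPullback hpb.flip ‹Surjective φ.left›
  haveI : QuasiCompact p.left := MorphismProperty.of_isPullback hpb.flip ‹QuasiCompact φ.left›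
  have hcov : GrpQ.IsCover p := GrpQ.IsCover.mk' p
  have key : ∀ e : 𝟙_ (Over (Spec (CommRingCat.of k))) ⟶ E, ∃ ψ : X ⟶ X,
      ∀ {T : Over (Spec (CommRingCat.of k))} (g : T ⟶ G) (x : T ⟶ E),
        lift g x ≫ p ≫ ψ = lift g ((toUnit T ≫ e) * x) ≫ p := by
    intro e
    have hd : ∀ (T : Over (Spec (CommRingCat.of k))) (y y' : T ⟶ G ⊗ E), y ≫ p = y' ≫ p →
        y ≫ (lift (fst G E) ((toUnit _ ≫ e) * snd G E) ≫ p) =
        y' ≫ (lift (fst G E) ((toUnit _ ≫ e) * snd G E) ≫ p) := by
      intro T y y' hy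
      obtain ⟨g, x, rfl⟩ : ∃ g x, y = lift g x :=
        ⟨y ≫ fst G E, y ≫ snd G E, by rw [← comp_lift, lift_fst_snd, Category.comp_id]⟩
      obtain ⟨g', x', rfl⟩ : ∃ g x, y' = lift g x :=
        ⟨y' ≫ fst G E, y' ≫ snd G E, by rw [← comp_lift, lift_fst_snd, Category.comp_id]⟩
      have hφ : x ≫ φ = x' ≫ φ := by
        have h1 := congrArg (fun q => q ≫ π) hy
        simp only [hp, Category.assoc, hinv, lift_snd_assoc, hσ] at h1
        exact h1
      obtain ⟨m, hm⟩ := (GrpQ.mem_kernel hk (x⁻¹ * x')).2 (by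
        rw [MonObj.mul_comp, GrpObj.inv_comp, hφ, inv_mul_cancel])
      have hx' : x' = x * (m ≫ h) := by rw [hm, mul_inv_cancel_left]
      subst hx'
      rw [hp, hp, hc, hc₀, ← GrpSch.act_mul] at hy
      have hg := torsor_unique a hcart hy
      simp only [← Category.assoc, comp_lift, lift_fst, MonObj.comp_mul, lift_snd,
        toUnit_unique (_ ≫ toUnit (G ⊗ E)) (toUnit T)]
      rw [hp, hp, ← _root_.mul_assoc, hc, hc₀, ← GrpSch.act_mul, hg]
    obtain ⟨ψ, hψ⟩ := GrpQ.exists_desc hcov _ hd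
    refine ⟨ψ, fun {T} g x => ?_⟩
    rw [hψ, comp_lift_assoc, lift_fst, MonObj.comp_mul, lift_snd, ← Category.assoc (lift g x),
      toUnit_unique (lift g x ≫ toUnit _) (toUnit T)]
  choose ψ hψ using key
  have hself : ∀ T : Over (Spec (CommRingCat.of k)), ∀ q : T ⟶ G ⊗ E,
      q = lift (q ≫ fst G E) (q ≫ snd G E) := fun T q => by
    rw [← comp_lift, lift_fst_snd, Category.comp_id]
  have hcomp : ∀ e e' : 𝟙_ (Over (Spec (CommRingCat.of k))) ⟶ E, e' * e = 1 → ψ e ≫ ψ e' = 𝟙 X := by
    intro e e' hee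
    refine GrpQ.cancel_cover hcov ?_
    have h1 := hψ e (fst G E) (snd G E)
    rw [lift_fst_snd, Category.id_comp] at h1
    rw [reassoc_of% h1, hψ, ← _root_.mul_assoc, ← MonObj.comp_mul, hee, MonObj.comp_one, _root_.one_mul,
      lift_fst_snd, Category.id_comp, Category.comp_id]
  refine ⟨⟨ψ e, ψ e⁻¹, hcomp _ _ (inv_mul_cancel e), hcomp _ _ (mul_inv_cancel e)⟩, ?_, ?_⟩
  · haveI : Flat (G ◁ p).left := GrpSch.whiskerLeft_left_of G p ‹_›
    haveI : Surjective (G ◁ p).left := GrpSch.whiskerLeft_left_of G p ‹_›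
    haveI : QuasiCompact (G ◁ p).left := GrpSch.whiskerLeft_left_of G p ‹_›
    refine GrpQ.cancel_cover (GrpQ.IsCover.mk' (G ◁ p)) ?_
    obtain ⟨g, r, hgr⟩ : ∃ g r, lift g r = 𝟙 (G ⊗ (G ⊗ E)) := ⟨_, _, lift_fst_snd⟩
    rw [← Category.id_comp ((G ◁ p) ≫ (G ◁ ψ e) ≫ a.act), ← Category.id_comp ((G ◁ p) ≫ a.act ≫ ψ e), ← hgr]
    simp only [lift_whiskerLeft_assoc]
    have e3 : ∀ {T : Over (Spec (CommRingCat.of k))} (g g' : T ⟶ G) (x : T ⟶ E),
        lift g (lift g' x ≫ p) ≫ a.act = lift (g * g') x ≫ p := fun g g' x => by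
      rw [hp, ← GrpSch.act_mul, hp]
    rw [hself _ r]
    simp only [Category.assoc]
    rw [hψ, e3, reassoc_of% e3, hψ]
  · refine GrpQ.cancel_cover hcov ?_
    have h1 := hψ e (fst G E) (snd G E)
    rw [lift_fst_snd, Category.id_comp] at h1
    show p ≫ ψ e ≫ π = _
    have hpπ : ∀ {T : Over (Spec (CommRingCat.of k))} (g : T ⟶ G) (x : T ⟶ E),
        lift g x ≫ p ≫ π = x ≫ φ := fun g x => by simp [p, hinv, hσ]
    rw [reassoc_of% h1, hpπ, MonObj.mul_comp, GrpQ.AntiAff.commute φ, Category.assoc, he]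
    have h2 := hpπ (fst G E) (snd G E)
    rw [lift_fst_snd, Category.id_comp] at h2
    rw [reassoc_of% h2, ← Category.assoc, ← Category.assoc, comp_lift, Category.comp_id,
      ← Category.assoc, toUnit_unique ((snd G E ≫ φ) ≫ toUnit A) (toUnit _), ← Hom.mul_def]

end Groth.Agent.S11423
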