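import Groth.Statements.S11425
import Groth.Agent.Lib.AntiAffParts.Basic

set_option autoImplicit false
universe u
open CategoryTheory MonoidalCategory CartesianMonoidalCategory MonObj GrpObj AlgebraicGeometry CategoryTheory.Limits
open AlgGrp

open Groth.Agent.Lib Groth.Agent.Lib.GrpQ
set_option backward.isDefEq.respectTransparency false
set_option linter.style.haveILetI false
set_option synthInstance.maxHeartbeats 200000
namespace Groth.Agent.S11425

/-- Over an algebraically closed field k, let G be a connected commutative algebraic group (smooth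
k-group scheme of finite type), let i : N → G be its largest connected affine normal algebraic
subgroup G_aff (a homomorphism and closed immersion from a smooth, connected, affine k-group scheme,
normal in G, through which every other such subgroup factors), and suppose G_aff = T × U:
homomorphisms t : T → G_aff from a split torus and u : U → G_aff from a smooth, connected, affine
group containing no non-trivial subtorus (unipotent), such that multiplication T × U → G_aff is an
isomorphism. Let q_s : G → G_s and q_u : G → G_u be flat surjective homomorphisms of k-group schemes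
of finite type with kernels U and T respectively (G_s = G/U, G_u = G/T). Then the only global
functions on G are the constants if and only if the same holds for both G_s and G_u. -/
theorem result (k : Type u) [Field k] [IsAlgClosed k]
    (G : Over (Spec (CommRingCat.of k))) [GrpObj G] [Smooth G.hom] [QuasiCompact G.hom] [ConnectedSpace ↥G.left] [IsCommMonObj G]
    (N : Over (Spec (CommRingCat.of k))) [GrpObj N] (i : N ⟶ G) [IsMonHom i] [IsClosedImmersion i.left]
    [Smooth N.hom] [ConnectedSpace ↥N.left] [IsAffine N.left] (hN : AlgGrp.IsNormalHom i)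
    (hNmax : ∀ (N' : Over (Spec (CommRingCat.of k))) [GrpObj N'] (i' : N' ⟶ G) [IsMonHom i'] [IsClosedImmersion i'.left]
      [Smooth N'.hom] [ConnectedSpace ↥N'.left] [IsAffine N'.left], AlgGrp.IsNormalHom i' → ∃ f : N' ⟶ N, f ≫ i = i')
    (T U : Over (Spec (CommRingCat.of k))) [GrpObj T] [GrpObj U] (t : T ⟶ N) (u : U ⟶ N) [IsMonHom t] [IsMonHom u]
    (r : ℕ) (hT : Red.IsSplitTorusWith (Fin r → ℤ) T)
    [Smooth U.hom] [ConnectedSpace ↥U.left] [IsAffine U.left] (hU : Red.HasNoSubtorus k U)
    (hTU : IsIso ((t ⊗ₘ u) ≫ μ[N]))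
    (Gs Gu : Over (Spec (CommRingCat.of k))) [GrpObj Gs] [GrpObj Gu] [LocallyOfFiniteType Gs.hom] [QuasiCompact Gs.hom]
    [LocallyOfFiniteType Gu.hom] [QuasiCompact Gu.hom]
    (qs : G ⟶ Gs) [IsMonHom qs] [Surjective qs.left] [Flat qs.left] (hs : AlgGrp.IsKernel (u ≫ i) qs)
    (qu : G ⟶ Gu) [IsMonHom qu] [Surjective qu.left] [Flat qu.left] (hu : AlgGrp.IsKernel (t ≫ i) qu) :
    Function.Bijective ((Scheme.ΓSpecIso (CommRingCat.of k)).inv ≫ G.hom.appTop).hom ↔ Function.Bijective ((Scheme.ΓSpecIso (CommRingCat.of k)).inv ≫ Gs.hom.appTop).hom ∧ Function.Bijective ((Scheme.ΓSpecIso (CommRingCat.of k)).inv ≫ Gu.hom.appTop).hom := by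
  haveI : IsSeparated G.hom := GrpSch.isSeparated_of_field G
  have hinj : ∀ (Y : Over (Spec (CommRingCat.of k))) [GrpObj Y] [QuasiCompact Y.hom] [LocallyOfFiniteType Y.hom] (q : G ⟶ Y) [IsMonHom q]
      [Flat q.left] [Surjective q.left],
      Function.Bijective ((Scheme.ΓSpecIso (CommRingCat.of k)).inv ≫ G.hom.appTop).hom →
      Function.Bijective ((Scheme.ΓSpecIso (CommRingCat.of k)).inv ≫ Y.hom.appTop).hom := fun Y _ _ _ q _ _ _ hG => by
    have e : (Scheme.ΓSpecIso (CommRingCat.of k)).inv ≫ G.hom.appTop =
        ((Scheme.ΓSpecIso (CommRingCat.of k)).inv ≫ Y.hom.appTop) ≫ q.left.appTop := by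
      rw [Category.assoc, ← Scheme.Hom.comp_appTop, Over.w q]
    rw [e, CommRingCat.hom_comp, RingHom.coe_comp] at hG
    haveI : QuasiCompact q.left := GrpQ.quasiCompact_left q
    haveI : Smooth Y.hom := (Groth.Agent.S7983.result k G Y q).2.1 inferInstance
    haveI : IsReduced Y.left := GrpSch.isReduced_of_smooth_field Y.hom
    haveI : IsSchemeTheoreticallyDominant q.left := IsSchemeTheoreticallyDominant.of_isDominant q.left
    have hq : Function.Injective q.left.appTop.hom := q.left.app_injective ⊤
    exact ⟨fun x y hxy => hG.1 (congrArg q.left.appTop.hom hxy), fun y => by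
      obtain ⟨x, hx⟩ := hG.2 (q.left.appTop.hom y)
      exact ⟨x, hq hx⟩⟩
  refine ⟨fun hG => ⟨hinj Gs qs hG, hinj Gu qu hG⟩, fun ⟨hGs, hGu⟩ => ?_⟩
  obtain ⟨gA, hρ⟩ := Affinization.exists_grp G
  obtain ⟨hρs, hρf, hlft⟩ := Affinization.rho_faithfullyFlat G
  haveI := hρ; haveI := hρs; haveI := hρf; haveI := hlft
  haveI : QuasiCompact (Affinization.aff G).hom := inferInstance
  haveI : Smooth (Affinization.aff G).hom := (Groth.Agent.S7983.result k G _ (Affinization.rho G)).2.1 inferInstance
  haveI : ConnectedSpace (Affinization.aff G).left :=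
    (Affinization.rho G).left.surjective.connectedSpace (Affinization.rho G).left.continuous
  have hT' : Red.IsTorus T := Tori.Basic.isTorus_of_isSplit hT
  haveI : IsAffineHom T.hom := Tori.Basic.isAffineHom_of_isTorus hT'
  haveI : Smooth T.hom := Tori.Basic.smooth_of_isTorus hT'
  haveI := AntiAffParts.surjective_of_antiAffine_quot (t ≫ i) qu hu hGu (Affinization.rho G)
  haveI := AntiAffParts.surjective_of_antiAffine_quot (u ≫ i) qs hs hGs (Affinization.rho G)
  haveI : Flat ((t ≫ i) ≫ Affinization.rho G).left := GrpQ.flat_of_surjective_of_smooth _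
  have hQ : Red.IsTorus (Affinization.aff G) := SemiAbIsog.Basic.isTorus_quotient hT' ((t ≫ i) ≫ Affinization.rho G)
  haveI := AntiAffParts.isIso_one_of_torus_quotient hU hQ ((u ≫ i) ≫ Affinization.rho G)
  haveI : IsIso (Affinization.aff G).hom := by
    have h : η[Affinization.aff G].left ≫ (Affinization.aff G).hom = 𝟙 _ := Over.w η[Affinization.aff G]
    haveI : IsIso η[Affinization.aff G].left := ((Over.forget _).mapIso (asIso η[Affinization.aff G])).isIso_hom
    haveI : IsIso (η[Affinization.aff G].left ≫ (Affinization.aff G).hom) := by rw [h]; infer_instance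
    exact IsIso.of_isIso_comp_left η[Affinization.aff G].left (Affinization.aff G).hom
  haveI : IsIso (Affinization.aff G).hom.appTop := inferInstance
  rw [← Over.w (Affinization.rho G), Scheme.Hom.comp_appTop]
  exact ConcreteCategory.bijective_of_isIso _

end Groth.Agent.S11425
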