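import Groth.Statements.S11426
import Groth.Agent.H26.DivisorialExists


set_option autoImplicit false
universe u
open CategoryTheory MonoidalCategory CartesianMonoidalCategory MonObj GrpObj AlgebraicGeometry CategoryTheory.Limits
open AlgGrp

namespace Groth.Agent.S11426

/-- Over an algebraically closed field k, let X be a normal variety (integral, separated, of finite
type, with integrally closed local rings), D an irreducible divisor of X, given by its generic point
ξ (a point whose local ring has Krull dimension one), Y a complete variety (proper and integral over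
k) and f : X ⇢ Y a dominant rational map over k, given by a partial map on a dense open. Then one
can find a complete variety Y' together with a k-morphism φ : Y' → Y which is birational (an
isomorphism between dense open subschemes compatible with φ), such that the induced rational map f'
: X ⇢ Y' (with φ ∘ f' = f) is defined at ξ and maps ξ to a point whose closure is Y' or a divisor:
the local ring of Y' at the image of ξ has Krull dimension at most one. -/
theorem result (k : Type u) [Field k] [IsAlgClosed k]
    (X Y : Over (Spec (CommRingCat.of k))) [LocallyOfFiniteType X.hom] [QuasiCompact X.hom] [IsSeparated X.hom] [IsIntegral X.left]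
    (hXn : Pi1.IsNormalScheme X.left) [IsProper Y.hom] [IsIntegral Y.left]
    (ξ : ↥X.left) (hξ : ringKrullDim ↑(X.left.presheaf.stalk ξ) = 1)
    (f : X.left.PartialMap Y.left) (hf : f.hom ≫ Y.hom = f.domain.ι ≫ X.hom) [IsDominant f.hom] :
    ∃ (Y' : Over (Spec (CommRingCat.of k))) (_ : IsProper Y'.hom) (_ : IsIntegral Y'.left) (φ : Y' ⟶ Y)
      (P : Y'.left.PartialIso Y.left) (_ : P.iso.hom ≫ P.target.ι = P.source.ι ≫ φ.left)
      (g : X.left.PartialMap Y'.left) (_ : g.hom ≫ Y'.hom = g.domain.ι ≫ X.hom)
      (_ : (g.compHom φ.left).toRationalMap = f.toRationalMap) (hξg : ξ ∈ g.domain),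
      ringKrullDim ↑(Y'.left.presheaf.stalk (g.hom.base ⟨ξ, hξg⟩)) ≤ 1 := by
  have := (hXn ξ).2
  obtain ⟨Z, sZ, hZp, hZi, φ, hφ, P, hP, g, hg, hcomp, hξg, hdim⟩ :=
    Groth.Agent.H26.DivisorialExists.main X.hom Y.hom ξ hξ f hf
  exact ⟨Over.mk sZ, hZp, hZi, Over.homMk φ hφ, P, hP, g, hg, hcomp, hξg, hdim⟩

end Groth.Agent.S11426
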