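import Groth.Statements.S1143
import Groth.Agent.Lib.StrictSplit98.Stage

set_option autoImplicit false
universe u
open Pi1

namespace Groth.Agent.S1143

open AlgebraicGeometry CategoryTheory CategoryTheory.Limits
open scoped TensorProduct
open Groth.Agent.Lib.StrictSplit98.Stage

/-- The points of a split cover are jointly faithful. -/
theorem points (K L : Type u) [Field K] [Field L] [Algebra K L]
    (V : FEt.Cat (Spec (CommRingCat.of K)))
    (hV : Pi1.IsSplit ((FEt.restrict (Spec.map (CommRingCat.ofHom (algebraMap K L)))).obj V))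
    [IsAffine V.left] [Algebra K Γ(V.left, ⊤)] [Algebra.Etale K Γ(V.left, ⊤)]
    (hσ : Spec.map (CommRingCat.ofHom (algebraMap K Γ(V.left, ⊤))) = V.left.isoSpec.inv ≫ V.hom) :
    ∃ (m : ℕ) (χ : Fin m → (Γ(V.left, ⊤) →ₐ[K] L)), ∀ y : Γ(V.left, ⊤) ⊗[K] L,
      (∀ j, ∀ ψ : Γ(V.left, ⊤) ⊗[K] L →+* L,
        (∀ e, ψ (e ⊗ₜ 1) = χ j e) → (∀ l, ψ (1 ⊗ₜ l) = l) → ψ y = 0) → y = 0 := by
  let E := Γ(V.left, ⊤)
  let α : CommRingCat.of K ⟶ E := CommRingCat.ofHom (algebraMap K E)
  let γ : CommRingCat.of K ⟶ CommRingCat.of L := CommRingCat.ofHom (algebraMap K L)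
  obtain ⟨ι, _, e, he⟩ := hV
  let P : pullback V.hom (Spec.map γ) ≅ Spec (CommRingCat.of (E ⊗[K] L)) :=
    asIso (pullback.map V.hom (Spec.map γ) (Spec.map α) (Spec.map γ) V.left.isoSpec.hom (𝟙 _) (𝟙 _)
      (by rw [Category.comp_id, hσ, Iso.hom_inv_id_assoc]) rfl) ≪≫ pullbackSpecIso K E L
  have hP : P.inv ≫ pullback.snd V.hom (Spec.map γ) =
      Spec.map (CommRingCat.ofHom (Algebra.TensorProduct.includeRight (R := K) (A := E) (B := L)).toRingHom) := by
    rw [Iso.inv_comp_eq]
    simp only [P, Iso.trans_hom, asIso_hom, Category.assoc]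
    erw [pullbackSpecIso_hom_snd, pullback.lift_snd, Category.comp_id]
  let s : ι → (Spec (CommRingCat.of L) ⟶ Spec (CommRingCat.of (E ⊗[K] L))) := fun i =>
    Sigma.ι (fun _ : ι => Spec (CommRingCat.of L)) i ≫ e.inv ≫ P.hom
  let θ : ι → (E ⊗[K] L →+* L) := fun i => (Spec.preimage (s i)).hom
  have hθl : ∀ i l, θ i (1 ⊗ₜ l) = l := fun i l => by
    have : CommRingCat.ofHom (Algebra.TensorProduct.includeRight (R := K) (A := E) (B := L)).toRingHom ≫
        Spec.preimage (s i) = 𝟙 _ := by
      apply Spec.map_injective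
      rw [Spec.map_comp, Spec.map_preimage, ← hP, Spec.map_id]
      simp only [s, Category.assoc]
      erw [Iso.hom_inv_id_assoc]
      exact he i
    exact congr($(this).hom l)
  have hθ : ∀ i (k : K), θ i (algebraMap K E k ⊗ₜ 1) = algebraMap K L k := fun i k => by
    rw [← hθl i (algebraMap K L k)]
    congr 1
    rw [Algebra.algebraMap_eq_smul_one, Algebra.algebraMap_eq_smul_one, TensorProduct.smul_tmul]
  let φ : ι → (E →ₐ[K] L) := fun i =>
    AlgHom.mk ((θ i).comp Algebra.TensorProduct.includeLeftRingHom) (hθ i)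
  obtain ⟨m, ⟨eq⟩⟩ := Finite.exists_equiv_fin ι
  refine ⟨m, fun j => φ (eq.symm j), fun y hy => ?_⟩
  have hall : ∀ i, θ i y = 0 := fun i => hy (eq i) (θ i) (fun e => by
    show θ i (e ⊗ₜ 1) = φ (eq.symm (eq i)) e
    rw [eq.symm_apply_apply]; rfl) (hθl i)
  have hnil : IsNilpotent y := by
    rw [nilpotent_iff_mem_prime]
    intro p hp
    let x : Spec (CommRingCat.of (E ⊗[K] L)) := ⟨p, hp⟩
    obtain ⟨i, z, hz⟩ := (sigmaOpenCover fun _ : ι => Spec (CommRingCat.of L)).exists_eq (e.hom (P.inv x))
    have hx : (Spec.map (Spec.preimage (s i))) z = x := by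
      rw [Spec.map_preimage]
      show P.hom (e.inv (Sigma.ι (fun _ : ι => Spec (CommRingCat.of L)) i z)) = x
      erw [hz]
      simp [← Scheme.Hom.comp_apply]
    have : (y : E ⊗[K] L) ∈ (PrimeSpectrum.comap (θ i) z).asIdeal := by
      show θ i y ∈ z.asIdeal
      rw [hall i]
      exact z.asIdeal.zero_mem
    rw [show PrimeSpectrum.comap (θ i) z = x from hx] at this
    exact this
  have : IsReduced (L ⊗[K] E) := Algebra.FormallyUnramified.isReduced_of_field L _
  haveI : IsReduced (E ⊗[K] L) := isReduced_of_injective _ (Algebra.TensorProduct.comm K E L).injective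
  exact hnil.eq_zero

open AlgebraicGeometry CategoryTheory CategoryTheory.Limits in
/-- A finite etale K-scheme that splits over L comes from a finite etale A-scheme (this is the
essential-image part of exactness of the sequence π₁(Spec L) → π₁(Spec K) → π₁(Spec A) → 1; the
surjectivity and composition parts of the exact sequence are separate facts). Let A be a normal
local domain with fraction field K, let R be a strict henselization of A (with A → R local) and L a
fraction field of R, with compatible algebra structures (A → K → L and A → R → L agree). If V is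
finite etale over Spec K and its base change to Spec L is split (a finite disjoint union of copies
of Spec L), then V is isomorphic to the restriction to Spec K of a finite etale cover Y of Spec A
(only the existence of such Y and of an isomorphism is asserted). -/
theorem result (A : Type u) [CommRing A] [IsDomain A]
    [IsLocalRing A] [IsIntegrallyClosed A] (R : Type u) [CommRing R] [IsLocalRing R] [Algebra A R] [IsLocalHom (algebraMap A R)] [Hensel.IsStrictHenselization A R]
    (K L : Type u) [Field K] [Field L] [Algebra A K] [IsFractionRing A K] [Algebra R L] [IsFractionRing R L]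
    [Algebra K L] [Algebra A L] [IsScalarTower A K L] [IsScalarTower A R L]
    (V : FEt.Cat (Spec (CommRingCat.of K)))
    (hV : Pi1.IsSplit ((FEt.restrict (Spec.map (CommRingCat.ofHom (algebraMap K L)))).obj V)) :
    ∃ Y : FEt.Cat (Spec (CommRingCat.of A)),
      Nonempty ((FEt.restrict (Spec.map (CommRingCat.ofHom (algebraMap A K)))).obj Y ≅ V) := by
  let g : V.left ⟶ Spec (CommRingCat.of K) := V.hom
  haveI : IsFinite g := V.prop.1
  haveI : Etale g := V.prop.2
  haveI : IsAffine V.left := isAffine_of_isAffineHom g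
  let E := Γ(V.left, ⊤)
  let σ : CommRingCat.of K ⟶ E := (Scheme.ΓSpecIso (CommRingCat.of K)).inv ≫ g.appTop
  have hσ : Spec.map σ = V.left.isoSpec.inv ≫ g := by
    rw [Iso.eq_inv_comp, Spec.map_comp, Scheme.isoSpec_hom, ← Category.assoc,
      ← Scheme.toSpecΓ_naturality, Category.assoc, ← SpecMap_ΓSpecIso_hom, ← Spec.map_comp,
      Iso.inv_hom_id, Spec.map_id, Category.comp_id]
  letI : Algebra K E := σ.hom.toAlgebra
  letI : Algebra A E := (σ.hom.comp (algebraMap A K)).toAlgebra
  haveI : IsScalarTower A K E := IsScalarTower.of_algebraMap_eq fun _ => rfl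
  have hg' : IsFinite (Spec.map σ) ∧ Etale (Spec.map σ) := by
    rw [hσ]; exact ⟨inferInstance, inferInstance⟩
  haveI : Module.Finite K E := RingHom.finite_algebraMap.1 ((IsFinite.SpecMap_iff _).1 hg'.1)
  haveI : Algebra.Etale K E :=
    RingHom.etale_algebraMap.1 ((HasRingHomProperty.Spec_iff (P := @Etale)).1 hg'.2)
  obtain ⟨m, χ, hχ⟩ := points K L V hV (by rw [← hσ]; rfl)
  obtain ⟨hfin, het⟩ := finite_etale A K L E R χ hχ
  let β : CommRingCat.of A ⟶ CommRingCat.of (integralClosure A E) :=
    CommRingCat.ofHom (algebraMap A (integralClosure A E))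
  have hY : FEt.prop (Spec.map β) := ⟨(IsFinite.SpecMap_iff _).2 (RingHom.finite_algebraMap.2 hfin),
    (HasRingHomProperty.Spec_iff (P := @Etale)).2 (RingHom.etale_algebraMap.2 het)⟩
  refine ⟨MorphismProperty.Over.mk ⊤ (Spec.map β) hY, ?_⟩
  let π : integralClosure A E ⊗[A] K ≃+* E :=
    RingEquiv.ofBijective _ (bijective_productMap A K E)
  have hπ : ∀ k, π (1 ⊗ₜ k) = σ.hom k := fun k => by
    show Algebra.TensorProduct.productMap (integralClosure A E).val
      (IsScalarTower.toAlgHom A K E) (1 ⊗ₜ k) = _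
    simp only [Algebra.TensorProduct.productMap_apply_tmul, map_one, one_mul]
    rfl
  let e : pullback (Spec.map β) (Spec.map (CommRingCat.ofHom (algebraMap A K))) ≅ V.left :=
    pullbackSpecIso A (integralClosure A E) K ≪≫ Scheme.Spec.mapIso (π.symm.toCommRingCatIso).op ≪≫
      V.left.isoSpec.symm
  refine ⟨MorphismProperty.Over.isoMk e ?_⟩
  show e.hom ≫ g = pullback.snd _ _
  simp only [e, Iso.trans_hom, Category.assoc, Iso.symm_hom]
  rw [← hσ]
  show (pullbackSpecIso A (integralClosure A E) K).hom ≫ Spec.map π.symm.toCommRingCatIso.hom ≫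
    Spec.map σ = _
  rw [← Spec.map_comp, ← pullbackSpecIso_hom_snd]
  congr 1
  refine congrArg Spec.map (CommRingCat.hom_ext (RingHom.ext fun k => ?_))
  show π.symm (σ.hom k) = (1 : integralClosure A E) ⊗ₜ[A] k
  rw [← hπ k, π.symm_apply_apply]

end Groth.Agent.S1143
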