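import Groth.Statements.S11438
import Groth.Agent.H2.Rigid.Factor
import Groth.Agent.H2.Rigid.Smooth

set_option autoImplicit false
universe u
open CategoryTheory MonoidalCategory CartesianMonoidalCategory MonObj GrpObj AlgebraicGeometry Topology
open GIT

namespace Groth.Agent.S11438

/-- Let S be connected and locally Noetherian, G a locally Noetherian group scheme separated over S, X →
S proper and flat with κ(s) → H⁰(X_s, O_{X_s}) bijective for every s, and f, g : X → G morphisms
over S which agree on one fibre X_s. Then there is a section t of G over S with f = (t ∘ p) · g, the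
product taken in the group of X-valued points of G. -/
theorem result (S : Scheme.{u}) [IsLocallyNoetherian S] [ConnectedSpace S]
    (X G : Over S) [GrpObj G] [IsLocallyNoetherian G.left] [IsSeparated G.hom] [IsProper X.hom] [Flat X.hom]
    (h0 : ∀ s : S, Function.Bijective (Limits.pullback.snd X.hom (S.fromSpecResidueField s)).appTop)
    (f g : X ⟶ G) (s : S)
    (hs : Limits.pullback.fst X.hom (S.fromSpecResidueField s) ≫ f.left =
      Limits.pullback.fst X.hom (S.fromSpecResidueField s) ≫ g.left) :
    ∃ t : 𝟙_ (Over S) ⟶ G, f = (toUnit X ≫ t) * g := by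
  have hb : ∀ t : S, Function.Bijective (X.hom.fiberToSpecResidueField t).appTop.hom := h0
  have := Groth.Agent.H2.Rigid.surjective_of_constants X.hom fun t => (hb t).1
  have := Groth.Agent.H2.Rigid.lfp_of_noetherian X.hom
  let F : X ⟶ G := f * g⁻¹
  have ht : s ∈ Groth.Agent.H2.Rigid.constSet X.hom F.left := by
    let Xs : Over S := Over.mk (X.hom.fiberι s ≫ X.hom)
    let i : Xs ⟶ X := Over.homMk (X.hom.fiberι s)
    have hi : i ≫ f = i ≫ g := Over.OverMorphism.ext hs
    have h1 : i ≫ F = 1 := by
      rw [MonObj.comp_mul, GrpObj.comp_inv, hi, mul_inv_cancel]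
    have key : ∀ x, X.hom x = s → F.left x = η[G].left s := by
      intro x hx
      obtain ⟨z, rfl⟩ : x ∈ Set.range (X.hom.fiberι s) := by
        rw [Scheme.Hom.range_fiberι]; exact hx
      have h2 := congr($(congrArg Over.Hom.left h1) z)
      rw [Hom.one_def] at h2
      exact h2.trans (congrArg η[G].left hx)
    exact Groth.Agent.H2.Rigid.mem_constSet.2 fun x x' hx hx' => (key x hx).trans (key x' hx').symm
  obtain ⟨k, hk, hk'⟩ := Groth.Agent.H2.Rigid.exists_factor_of_proper X.hom (fun t => (hb t).2)
    F.left (𝟙 S) G.hom (by rw [Over.w]; simp) ht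
  refine ⟨Over.homMk k hk', ?_⟩
  have e : toUnit X ≫ Over.homMk k hk' = F := Over.OverMorphism.ext hk
  rw [e, inv_mul_cancel_right]


end Groth.Agent.S11438
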