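import Groth.Statements.S11439
import Groth.Agent.H2.Rigid.Factor
import Groth.Agent.H2.Rigid.Smooth

set_option autoImplicit false
universe u
open CategoryTheory MonoidalCategory CartesianMonoidalCategory MonObj GrpObj AlgebraicGeometry Topology
open GIT

namespace Groth.Agent.S11439

/-- Let S be locally Noetherian, G a locally Noetherian group scheme separated over S, X → S proper and
flat with κ(s) → H⁰(X_s, O_{X_s}) bijective for every s, and Y connected, locally Noetherian,
separated over S with a section over S. Then every morphism f : X ×_S Y → G over S factors as f = (g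
∘ p₁) · (h ∘ p₂) with g : X → G and h : Y → G. -/
theorem result (S : Scheme.{u}) [IsLocallyNoetherian S]
    (X Y G : Over S) [GrpObj G] [IsLocallyNoetherian G.left] [IsSeparated G.hom] [IsProper X.hom] [Flat X.hom]
    (h0 : ∀ s : S, Function.Bijective (Limits.pullback.snd X.hom (S.fromSpecResidueField s)).appTop)
    [IsLocallyNoetherian Y.left] [IsSeparated Y.hom] [ConnectedSpace Y.left] (e : 𝟙_ (Over S) ⟶ Y)
    (f : X ⊗ Y ⟶ G) :
    ∃ (g : X ⟶ G) (h : Y ⟶ G), f = (fst X Y ≫ g) * (snd X Y ≫ h) := by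
  have hb : ∀ t : S, Function.Bijective (X.hom.fiberToSpecResidueField t).appTop.hom := h0
  have := Groth.Agent.H2.Rigid.surjective_of_constants X.hom fun t => (hb t).1
  have := Groth.Agent.H2.Rigid.lfp_of_noetherian X.hom
  have hg : Groth.Agent.H2.Rigid.H0 X.hom := fun t => (hb t).2
  let g : X ⟶ G := lift (𝟙 X) (toUnit X ≫ e) ≫ f
  let F : X ⊗ Y ⟶ G := (fst X Y ≫ g)⁻¹ * f
  obtain ⟨y⟩ : Nonempty Y.left := inferInstance
  let t : Y.left := e.left (Y.hom y)
  let p : (X ⊗ Y).left ⟶ Y.left := Limits.pullback.snd X.hom Y.hom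
  haveI : IsProper p := inferInstanceAs (IsProper (Limits.pullback.snd X.hom Y.hom))
  haveI : Flat p := inferInstanceAs (Flat (Limits.pullback.snd X.hom Y.hom))
  haveI : LocallyOfFinitePresentation p :=
    inferInstanceAs (LocallyOfFinitePresentation (Limits.pullback.snd X.hom Y.hom))
  haveI : Surjective p := inferInstanceAs (Surjective (Limits.pullback.snd X.hom Y.hom))
  have hp : Groth.Agent.H2.Rigid.H0 p := Groth.Agent.H2.Rigid.H0.pullback_snd X.hom hg Y.hom
  have h1 : lift (𝟙 X) (toUnit X ≫ e) ≫ F = 1 := by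
    rw [MonObj.comp_mul, GrpObj.comp_inv, lift_fst_assoc, Category.id_comp, inv_mul_cancel]
  have key : ∀ P, p P = t → F.left P = η[G].left (Y.hom y) := by
    intro P hP
    obtain ⟨w, rfl⟩ : P ∈ Set.range (X ◁ e).left := by
      rw [Over.whiskerLeft_left, Scheme.Pullback.range_map]
      exact ⟨⟨_, rfl⟩, ⟨Y.hom y, hP.symm⟩⟩
    have e1 : X ◁ e = fst X (𝟙_ _) ≫ lift (𝟙 X) (toUnit X ≫ e) := by
      ext : 1
      · simp
      · simp only [whiskerLeft_snd, Category.assoc, lift_snd]
        rw [← Category.assoc, toUnit_unique (fst X (𝟙_ _) ≫ toUnit X) (snd X (𝟙_ _))]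
    have e2 : X ◁ e ≫ F = snd X (𝟙_ _) ≫ η[G] := by
      rw [e1, Category.assoc, h1, MonObj.comp_one, Hom.one_def,
        toUnit_unique (toUnit _) (snd X (𝟙_ _))]
    have e3 : (X ◁ e).left ≫ p = (snd X (𝟙_ _)).left ≫ e.left :=
      congrArg Over.Hom.left (whiskerLeft_snd X e)
    have hinj : (snd X (𝟙_ _)).left w = Y.hom y := by
      have h2 : e.left ((snd X (𝟙_ _)).left w) = e.left (Y.hom y) := (congr($e3 w)).symm.trans hP
      have h3 : ∀ s' : S, Y.hom (e.left s') = s' := fun s' => congr($(Over.w e) s')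
      exact (h3 _).symm.trans ((congrArg Y.hom h2).trans (h3 _))
    have e4 : (X ◁ e ≫ F).left w = (snd X (𝟙_ _) ≫ η[G]).left w := by rw [e2]
    exact e4.trans (congrArg η[G].left hinj)
  obtain ⟨k, hk, hk'⟩ := Groth.Agent.H2.Rigid.exists_factor_of_proper p hp F.left Y.hom G.hom
    ((Over.w F).trans Limits.pullback.condition)
    (Groth.Agent.H2.Rigid.mem_constSet.2 fun x x' hx hx' => (key x hx).trans (key x' hx').symm)
  refine ⟨g, Over.homMk k hk', ?_⟩
  have e5 : snd X Y ≫ Over.homMk k hk' = F := Over.OverMorphism.ext hk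
  rw [e5, mul_inv_cancel_left]


end Groth.Agent.S11439
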