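import Groth.Statements.S1144
import Groth.Agent.Lib.SplitExt9.Ext
import Groth.Agent.Lib.QfhGalois.Basic
import Groth.Agent.H80.UnivHomeo.Steps

set_option autoImplicit false
set_option backward.isDefEq.respectTransparency false
set_option backward.isDefEq.respectTransparency.types false
universe u
open Pi1

namespace Groth.Agent.S1144

open AlgebraicGeometry CategoryTheory CategoryTheory.Limits IsLocalRing in
open scoped TensorProduct in
open Groth.Agent.Lib in
theorem aux (A : Type u) [CommRing A] [IsLocalRing A] (R : Type u) [CommRing R] [IsLocalRing R] [Algebra A R] [IsLocalHom (algebraMap A R)] [Hensel.IsStrictHenselization A R]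
    (hqc : QuasiCompact (FEt.puncturedSpec A).ι)
    (hR : ConnectedSpace (FEt.puncturedSpec R : Scheme.{u}))
    (hne : Nonempty (FEt.puncturedSpec A : Scheme.{u}))
    (V : Scheme.{u}) (v : V ⟶ Spec (CommRingCat.of A))
    (ι : Type u) [Finite ι] (Z : Scheme.{u}) (e : Z ⟶ V)
    (m : Z ⟶ ∐ fun _ : ι => Spec (CommRingCat.of R)) [IsOpenImmersion m]
    (hrange : Set.range m = (Sigma.desc (fun _ : ι => 𝟙 (Spec (CommRingCat.of R))) ≫
      Spec.map (CommRingCat.ofHom (algebraMap A R))) ⁻¹'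
        (FEt.puncturedSpec A : Set ↥(Spec (CommRingCat.of A))))
    (hpb : IsPullback e (m ≫ Sigma.desc (fun _ : ι => 𝟙 (Spec (CommRingCat.of R)))) v
      (Spec.map (CommRingCat.ofHom (algebraMap A R)))) :
    ∃ (Y : Scheme.{u}) (g : Y ⟶ Spec (CommRingCat.of A)) (j : V ⟶ Y), FEt.prop.{u} g ∧
      j ≫ g = v ∧ IsOpenImmersion j ∧
        Set.range j = g ⁻¹' (FEt.puncturedSpec A : Set ↥(Spec (CommRingCat.of A))) := by
  let X := Spec (CommRingCat.of R)
  let p : X ⟶ Spec (CommRingCat.of A) := Spec.map (CommRingCat.ofHom (algebraMap A R))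
  let y : (∐ fun _ : ι => X) ⟶ X := Sigma.desc fun _ => 𝟙 X
  let U := FEt.puncturedSpec A
  have hff : Module.FaithfullyFlat A R := Henselian.StrictHenselization.faithfullyFlat A R
  have : Flat p := by
    rw [HasRingHomProperty.Spec_iff (P := @Flat)]
    exact RingHom.flat_algebraMap_iff.2 inferInstance
  have : Surjective p :=
    ⟨PrimeSpectrum.comap_surjective_of_faithfullyFlat (A := A) (B := R)⟩
  have hfin : IsFinite y := QfhGalois.isFinite_sigmaDesc _ fun _ => inferInstance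
  have het : Etale y := IsZariskiLocalAtSource.sigmaDesc fun _ => inferInstance
  have hy : FEt.prop.{u} y := ⟨hfin, het⟩
  have hιy : ∀ j, Sigma.ι (fun _ : ι => X) j ≫ y = 𝟙 X := fun j => Sigma.ι_desc _ _
  have hclosed : ∀ j, IsClosedImmersion (Sigma.ι (fun _ : ι => X) j) := fun j => by
    have : IsClosedImmersion (Sigma.ι (fun _ : ι => X) j ≫ y) := by rw [hιy]; infer_instance
    exact IsClosedImmersion.of_comp _ y
  let W := pullback (y ≫ p) p
  let h₀ : W ⟶ pullback p p := pullback.map (y ≫ p) p p p y (𝟙 _) (𝟙 _) (by simp) (by simp)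
  have hsq : IsPullback (pullback.fst (y ≫ p) p) h₀ y (pullback.fst p p) := by
    refine IsPullback.of_bot ?_ (by simp [h₀]) (IsPullback.of_hasPullback p p)
    have : h₀ ≫ pullback.snd p p = pullback.snd (y ≫ p) p := by simp [h₀]
    rw [this]
    exact IsPullback.of_hasPullback _ _
  let hW : W ⟶ Spec (CommRingCat.of (R ⊗[A] R)) := h₀ ≫ (pullbackSpecIso A R R).hom
  have : IsFinite h₀ := MorphismProperty.of_isPullback hsq hfin
  have : Etale h₀ := MorphismProperty.of_isPullback hsq het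
  have : IsFinite hW := inferInstance
  have : Etale hW := inferInstance
  have hWS : hW ≫ Spec.map (CommRingCat.ofHom (algebraMap A (R ⊗[A] R))) =
      pullback.snd (y ≫ p) p ≫ p := by
    simp only [hW, Category.assoc, pullbackSpecIso_hom_base]
    change h₀ ≫ pullback.fst p p ≫ p = _
    rw [pullback.condition]
    simp [h₀]
  let O : W.Opens := (pullback.snd (y ≫ p) p ≫ p) ⁻¹ᵁ U
  have hO : (O : Set W) = (hW ≫ Spec.map (CommRingCat.ofHom (algebraMap A (R ⊗[A] R)))) ⁻¹'
      (U : Set ↥(Spec (CommRingCat.of A))) := by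
    rw [hWS]; rfl
  have hOr : ∀ {T : Scheme.{u}} (l : T ⟶ W),
      Set.range (l ≫ pullback.snd (y ≫ p) p ≫ p) ⊆ U → Set.range l ⊆ Set.range O.ι := by
    rintro T l hl _ ⟨t, rfl⟩
    rw [Scheme.Opens.range_ι]
    exact hl ⟨t, by rw [Scheme.Hom.comp_apply]⟩
  have hm1 : Set.range (O.ι ≫ pullback.fst (y ≫ p) p) ⊆ Set.range m := by
    refine SplitExt9.range_subset_of_comp U hrange _ ?_
    rw [Category.assoc, pullback.condition]
    rintro _ ⟨t, rfl⟩
    rw [Scheme.Hom.comp_apply]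
    exact t.2
  let z₀ : O.toScheme ⟶ Z := IsOpenImmersion.lift m (O.ι ≫ pullback.fst (y ≫ p) p) hm1
  have hz₀ : z₀ ≫ m = O.ι ≫ pullback.fst (y ≫ p) p := IsOpenImmersion.lift_fac _ _ _
  have w₀ : (z₀ ≫ e) ≫ v = (O.ι ≫ pullback.snd (y ≫ p) p) ≫ p := by
    rw [Category.assoc, hpb.w]
    change z₀ ≫ (m ≫ y) ≫ p = _
    simp only [Category.assoc]
    rw [reassoc_of% hz₀, pullback.condition]
  let o : O.toScheme ⟶ ∐ fun _ : ι => X :=
    hpb.lift (z₀ ≫ e) (O.ι ≫ pullback.snd (y ≫ p) p) w₀ ≫ m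
  have hoy : o ≫ y = O.ι ≫ pullback.snd (y ≫ p) p :=
    (Category.assoc _ _ _).trans (hpb.lift_snd _ _ _)
  let C : ι → Set (O : Set W) := fun j => o ⁻¹' Set.range (Sigma.ι (fun _ : ι => X) j)
  have hC : ∀ j, IsClopen (C j) := fun j =>
    ⟨((hclosed j).isClosedEmbedding.isClosed_range).preimage o.continuous,
      ((Sigma.ι (fun _ : ι => X) j).isOpenEmbedding.isOpen_range).preimage o.continuous⟩
  choose D hD hDC using fun j =>
    SplitExt9.exists_isClopen_extend hR hne hqc hW (O : Set W) hO (C j) (hC j)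
  have : Flat (pullback.snd (y ≫ p) p ≫ p) := inferInstance
  have hdense : Dense (O : Set W) := SplitExt9.dense_preimage A hne (pullback.snd (y ≫ p) p ≫ p)
  have hdisj : ∀ i j, i ≠ j → D i ∩ D j = ∅ := by
    intro i j hij
    by_contra hne'
    obtain ⟨w, ⟨hwi, hwj⟩, hwO⟩ := hdense.inter_open_nonempty _ ((hD i).2.inter (hD j).2)
      (Set.nonempty_iff_ne_empty.2 hne')
    have h1 : (⟨w, hwO⟩ : (O : Set W)) ∈ C i := (Set.ext_iff.1 (hDC i) ⟨w, hwO⟩).1 hwi
    have h2 : (⟨w, hwO⟩ : (O : Set W)) ∈ C j := (Set.ext_iff.1 (hDC j) ⟨w, hwO⟩).1 hwj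
    obtain ⟨a, ha⟩ := h1
    obtain ⟨b, hb⟩ := h2
    have := ha.trans hb.symm
    rw [← sigmaMk_mk, ← sigmaMk_mk] at this
    exact hij (congrArg Sigma.fst ((sigmaMk _).injective this))
  have hcover : ∀ w : W, ∃ j, w ∈ D j := by
    intro w
    have hcl : IsClosed (⋃ j, D j) := isClosed_iUnion_of_finite fun j => (hD j).1
    have hsub : (O : Set W) ⊆ ⋃ j, D j := by
      intro x hx
      obtain ⟨⟨j, a⟩, ha⟩ := (sigmaMk fun _ : ι => X).surjective (o ⟨x, hx⟩)
      rw [sigmaMk_mk] at ha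
      exact Set.mem_iUnion.2 ⟨j, (Set.ext_iff.1 (hDC j) ⟨x, hx⟩).2 ⟨a, ha⟩⟩
    exact Set.mem_iUnion.1 ((hcl.closure_subset_iff.2 hsub) (hdense w))
  let Dop : ι → W.Opens := fun j => ⟨D j, (hD j).2⟩
  let 𝒰 : W.OpenCover := W.openCoverOfIsOpenCover Dop (by
    refine eq_top_iff.2 fun w _ => ?_
    obtain ⟨j, hj⟩ := hcover w
    exact TopologicalSpace.Opens.mem_iSup.2 ⟨j, hj⟩)
  let φ : ∀ j : ι, (Dop j).toScheme ⟶ ∐ fun _ : ι => X := fun j =>
    (Dop j).ι ≫ pullback.snd (y ≫ p) p ≫ Sigma.ι (fun _ : ι => X) j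
  let Φ : W ⟶ ∐ fun _ : ι => X := 𝒰.glueMorphisms φ (fun i j => by
    by_cases hij : i = j
    · subst hij
      rw [show pullback.fst (𝒰.f i) (𝒰.f i) = pullback.snd (𝒰.f i) (𝒰.f i) from
        (cancel_mono (𝒰.f i)).1 pullback.condition]
    · have : IsEmpty ↥(pullback (𝒰.f i) (𝒰.f j)) := ⟨fun t => by
        have h1 : (pullback.fst (𝒰.f i) (𝒰.f j) ≫ 𝒰.f i) t ∈ D i :=
          (pullback.fst (𝒰.f i) (𝒰.f j) t).2
        have h2 : (pullback.snd (𝒰.f i) (𝒰.f j) ≫ 𝒰.f j) t ∈ D j :=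
          (pullback.snd (𝒰.f i) (𝒰.f j) t).2
        rw [← pullback.condition] at h2
        exact Set.eq_empty_iff_forall_notMem.1 (hdisj i j hij) _ ⟨h1, h2⟩⟩
      exact isInitialOfIsEmpty.hom_ext _ _)
  have hΦι : ∀ j : ι, (Dop j).ι ≫ Φ = φ j := fun j => 𝒰.ι_glueMorphisms φ _ j
  have hΦy : Φ ≫ y = pullback.snd (y ≫ p) p := by
    refine 𝒰.hom_ext _ _ fun j => ?_
    show (Dop j).ι ≫ Φ ≫ y = (Dop j).ι ≫ pullback.snd (y ≫ p) p
    rw [reassoc_of% hΦι j]
    simp only [φ, Category.assoc, hιy, Category.comp_id]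
  have hΦo : O.ι ≫ Φ = o := by
    let E : ι → O.toScheme.Opens := fun j => O.ι ⁻¹ᵁ Dop j
    let 𝒱 : O.toScheme.OpenCover := O.toScheme.openCoverOfIsOpenCover E (by
      refine eq_top_iff.2 fun w _ => ?_
      obtain ⟨j, hj⟩ := hcover (O.ι w)
      exact TopologicalSpace.Opens.mem_iSup.2 ⟨j, hj⟩)
    refine 𝒱.hom_ext _ _ fun j => ?_
    show (E j).ι ≫ O.ι ≫ Φ = (E j).ι ≫ o
    have hk : Set.range ((E j).ι ≫ O.ι) ⊆ Set.range (Dop j).ι := by
      rintro _ ⟨t, rfl⟩
      rw [Scheme.Opens.range_ι, Scheme.Hom.comp_apply]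
      exact t.2
    have hl : Set.range ((E j).ι ≫ o) ⊆ Set.range (Sigma.ι (fun _ : ι => X) j) := by
      rintro _ ⟨t, rfl⟩
      rw [Scheme.Hom.comp_apply]
      exact (Set.ext_iff.1 (hDC j) ((E j).ι t)).1 t.2
    have hke := IsOpenImmersion.lift_fac (Dop j).ι ((E j).ι ≫ O.ι) hk
    have hle := IsOpenImmersion.lift_fac (Sigma.ι (fun _ : ι => X) j) ((E j).ι ≫ o) hl
    rw [← Category.assoc, ← hke, Category.assoc, hΦι]
    conv_rhs => rw [← hle]
    simp only [φ, reassoc_of% hke]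
    have hl2 : IsOpenImmersion.lift (Sigma.ι (fun _ : ι => X) j) ((E j).ι ≫ o) hl =
        (E j).ι ≫ O.ι ≫ pullback.snd (y ≫ p) p := by
      have := congrArg (· ≫ y) hle
      simpa only [Category.assoc, hιy, Category.comp_id, hoy] using this
    rw [hl2, Category.assoc, Category.assoc]
  refine SplitExt9.exists_extension U p y hy m hrange v e hpb
    (SplitExt9.homExt A hne p y) Φ hΦy ?_
  intro T z x₁ w w'
  let l : T ⟶ W := pullback.lift (z ≫ m) x₁ w'
  have hl : Set.range l ⊆ Set.range O.ι := by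
    refine hOr l ?_
    rw [show l ≫ pullback.snd (y ≫ p) p ≫ p = z ≫ m ≫ y ≫ p by
      simp only [l, pullback.lift_snd_assoc, ← w', Category.assoc]]
    rintro _ ⟨t, rfl⟩
    rw [Scheme.Hom.comp_apply, Scheme.Hom.comp_apply]
    exact hrange.le ⟨z t, rfl⟩
  have hk := IsOpenImmersion.lift_fac O.ι l hl
  change l ≫ Φ = _
  rw [← hk, Category.assoc, hΦo]
  simp only [o, ← Category.assoc]
  congr 1
  have hkz : IsOpenImmersion.lift O.ι l hl ≫ z₀ = z := by
    rw [← cancel_mono m, Category.assoc, hz₀, reassoc_of% hk]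
    simp [l]
  apply hpb.hom_ext
  · rw [Category.assoc, hpb.lift_fst, hpb.lift_fst, reassoc_of% hkz]
  · rw [Category.assoc, hpb.lift_snd, hpb.lift_snd, reassoc_of% hk]
    simp [l]

open AlgebraicGeometry CategoryTheory CategoryTheory.Limits in
/-- Let A be a local ring whose punctured spectrum U is quasi-compact, R a strict henselization of A
(with A → R a local homomorphism), and U' the base change of U to Spec R (the punctured spectrum of
R); assume U' is connected. If V is a finite etale cover of U whose base change to U' is split, then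
V is the restriction of a finite etale cover of Spec A (only the existence of such a cover Y
together with an isomorphism between its restriction to U and V is asserted). -/
theorem result (A : Type u) [CommRing A] [IsLocalRing A] (R : Type u) [CommRing R] [IsLocalRing R] [Algebra A R] [IsLocalHom (algebraMap A R)] [Hensel.IsStrictHenselization A R]
    [CompactSpace (FEt.puncturedSpec A : Scheme.{u})]
    (hc : ConnectedSpace ↑(pullback (FEt.puncturedSpec A).ι (Spec.map (CommRingCat.ofHom (algebraMap A R)))))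
    (V : FEt.Cat (FEt.puncturedSpec A : Scheme.{u}))
    (hV : Pi1.IsSplit ((FEt.restrict (pullback.fst (FEt.puncturedSpec A).ι (Spec.map (CommRingCat.ofHom (algebraMap A R))))).obj V)) :
    ∃ Y : FEt.Cat (Spec (CommRingCat.of A)), Nonempty ((FEt.restrict (FEt.puncturedSpec A).ι).obj Y ≅ V) := by
  let U := FEt.puncturedSpec A
  let X := Spec (CommRingCat.of R)
  let p : X ⟶ Spec (CommRingCat.of A) := Spec.map (CommRingCat.ofHom (algebraMap A R))
  obtain ⟨ι, hι, e₀, he⟩ := hV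
  have hqc : QuasiCompact U.ι :=
    (HasAffineProperty.iff_of_isAffine (P := @QuasiCompact)).2 ‹_›
  let ι₀ : pullback U.ι p ⟶ X := pullback.snd U.ι p
  have hpre : p ⁻¹' (U : Set ↥(Spec (CommRingCat.of A))) =
      ({IsLocalRing.closedPoint R}ᶜ : Set ↥X) := by
    ext x
    refine not_congr ⟨fun hx => ?_, fun hx => ?_⟩
    · have hx' : x.asIdeal.comap (algebraMap A R) = IsLocalRing.maximalIdeal A :=
        congrArg PrimeSpectrum.asIdeal (hx : p x = IsLocalRing.closedPoint A)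
      refine PrimeSpectrum.ext ((IsLocalRing.maximalIdeal.isMaximal R).eq_of_le x.2.ne_top ?_).symm
      rw [← Groth.Agent.Lib.Henselian.StrictHenselization.map_maximalIdeal A R,
        Ideal.map_le_iff_le_comap]
      exact hx'.ge
    · rw [Set.mem_singleton_iff] at hx
      subst hx
      exact IsLocalRing.comap_closedPoint (algebraMap A R)
  have hr₀ : Set.range ι₀ = p ⁻¹' (U : Set ↥(Spec (CommRingCat.of A))) := by
    simp [ι₀, IsOpenImmersion.range_pullbackSnd]
  have hR : ConnectedSpace (FEt.puncturedSpec R : Scheme.{u}) := by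
    have := isConnected_range ι₀.continuous
    rw [hr₀, hpre] at this
    exact isConnected_iff_connectedSpace.1 this
  have hne : Nonempty (FEt.puncturedSpec A : Scheme.{u}) :=
    hc.toNonempty.map (pullback.fst U.ι p)
  let m₀ : (∐ fun _ : ι => pullback U.ι p) ⟶ ∐ fun _ : ι => X :=
    Sigma.desc fun j => ι₀ ≫ Sigma.ι (fun _ : ι => X) j
  have hdj : Pairwise fun i j =>
      Disjoint (Set.range (ι₀ ≫ Sigma.ι (fun _ : ι => X) i))
        (Set.range (ι₀ ≫ Sigma.ι (fun _ : ι => X) j)) := by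
    intro i j hij
    rw [Set.disjoint_iff_forall_ne]
    rintro _ ⟨a, rfl⟩ _ ⟨b, rfl⟩ h
    rw [Scheme.Hom.comp_apply, Scheme.Hom.comp_apply, ← sigmaMk_mk, ← sigmaMk_mk] at h
    exact hij (congrArg Sigma.fst ((sigmaMk _).injective h))
  have : IsOpenImmersion m₀ := isOpenImmersion_sigmaDesc _ _ hdj
  let y : (∐ fun _ : ι => X) ⟶ X := Sigma.desc fun _ => 𝟙 X
  have hyι : ∀ i a, y (Sigma.ι (fun _ : ι => X) i a) = a := fun i a => by
    rw [← Scheme.Hom.comp_apply, Sigma.ι_desc]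
    rfl
  let Z := ((FEt.restrict (pullback.fst U.ι p)).obj V).left
  let m : Z ⟶ ∐ fun _ : ι => X := e₀.hom ≫ m₀
  have hrange : Set.range m = (y ≫ p) ⁻¹' (U : Set ↥(Spec (CommRingCat.of A))) := by
    ext w
    obtain ⟨⟨i, a⟩, rfl⟩ := (sigmaMk fun _ : ι => X).surjective w
    rw [sigmaMk_mk, Set.mem_preimage, Scheme.Hom.comp_apply, hyι]
    change _ ↔ a ∈ p ⁻¹' (U : Set ↥(Spec (CommRingCat.of A)))
    rw [← hr₀]
    constructor
    · rintro ⟨z, hz⟩
      obtain ⟨⟨k, b⟩, hb⟩ := (sigmaMk fun _ : ι => pullback U.ι p).surjective (e₀.hom z)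
      rw [sigmaMk_mk] at hb
      have hz' : m₀ (e₀.hom z) = Sigma.ι (fun _ : ι => X) i a := by
        rw [← Scheme.Hom.comp_apply]; exact hz
      rw [← hb, ← Scheme.Hom.comp_apply, Sigma.ι_desc, Scheme.Hom.comp_apply] at hz'
      refine ⟨b, ?_⟩
      have := congrArg y hz'
      rwa [hyι, hyι] at this
    · rintro ⟨b, rfl⟩
      refine ⟨e₀.inv (Sigma.ι (fun _ : ι => pullback U.ι p) i b), ?_⟩
      have hm' : e₀.inv ≫ m = m₀ := e₀.inv_hom_id_assoc _
      rw [← Scheme.Hom.comp_apply, hm', ← Scheme.Hom.comp_apply, Sigma.ι_desc,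
        Scheme.Hom.comp_apply]
  have hmy : m ≫ y = ((FEt.restrict (pullback.fst U.ι p)).obj V).hom ≫ ι₀ := by
    rw [← cancel_epi e₀.inv]
    refine Sigma.hom_ext _ _ fun i => ?_
    simp only [m, m₀, y, Category.assoc, Iso.inv_hom_id_assoc, Sigma.ι_desc_assoc, Sigma.ι_desc,
      Category.comp_id]
    have := congrArg (· ≫ ι₀) (he i)
    simp only [Category.assoc, Category.id_comp] at this
    exact this.symm
  have hpb : IsPullback (pullback.fst V.hom (pullback.fst U.ι p)) (m ≫ y) (V.hom ≫ U.ι) p := by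
    rw [hmy]
    exact (IsPullback.of_hasPullback V.hom (pullback.fst U.ι p)).paste_vert
      (IsPullback.of_hasPullback U.ι p)
  obtain ⟨Y, g, j, hg, hjg, hj, hjr⟩ :=
    aux A R hqc hR hne V.left (V.hom ≫ U.ι) ι Z (pullback.fst V.hom (pullback.fst U.ι p)) m
      hrange hpb
  refine ⟨MorphismProperty.Over.mk ⊤ g hg, ?_⟩
  refine Groth.Agent.H80.UnivHomeo.nonempty_iso_of_isPullback U.ι V
    (MorphismProperty.Over.mk ⊤ g hg) j ?_
  exact (IsOpenImmersion.isPullback V.hom j U.ι g hjg (TopologicalSpace.Opens.ext (by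
    simp [hjr]; rfl))).flip

end Groth.Agent.S1144
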