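import Groth.Statements.S11450
import Groth.Agent.H25.TorBridge
import Mathlib.RingTheory.Ideal.AssociatedPrime.Finiteness

set_option autoImplicit false
universe u
open CategoryTheory
open DefT

open Groth.Agent.H25 Groth.Agent.Lib.LocalFlat.Basic
namespace Groth.Agent.S11450

/-- A module M over a Noetherian commutative ring A is flat if and only if Tor_1^A(M, A/p) vanishes for
every prime ideal p of A. -/
theorem result (A : Type u) [CommRing A]
    [IsNoetherianRing A] (M : Type u) [AddCommGroup M] [Module A M] :
    Module.Flat A M ↔ ∀ p : Ideal A, p.IsPrime →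
      Limits.IsZero (((CategoryTheory.Tor (ModuleCat.{u} A) 1).obj (ModuleCat.of A M)).obj (ModuleCat.of A (A ⧸ p))) := by
  constructor
  · intro h p _
    exact Groth.Agent.Lib.Tor.Balance.isZero_tor_succ_of_flat_left (ModuleCat.of A M) _ 0
  · intro h
    suffices key : ∀ (N : Type u) [AddCommGroup N] [Module A N], Module.Finite A N →
        Tor1Zero A M N from
      flat_of_tor1Zero fun J _ => key _ inferInstance
    intro N _ _ hN
    induction hN using IsNoetherianRing.induction_on_isQuotientEquivQuotientPrime A with
    | subsingleton N =>
      intro P B _ _ _ _ f g hf hfg hg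
      have hs : Function.Surjective f := fun b => (hfg b).1 (Subsingleton.elim _ _)
      exact (LinearEquiv.lTensor M (LinearEquiv.ofBijective f ⟨hf, hs⟩)).injective
    | quotient N p e =>
      exact Tor1Zero.of_equiv ((TorBridge.isZero_iff (M := ModuleCat.of A M) _).1 (h p.1 p.2)) e.symm
    | exact N₁ N₂ N₃ f g hf hg hfg h1 h3 => exact Tor1Zero.extension f g hf hfg hg h1 h3

end Groth.Agent.S11450
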