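import Groth.Statements.S11451
import Groth.Agent.Lib.ArtinFun.RegularSmooth

set_option autoImplicit false
universe u
open DefT

open Groth.Agent.Lib.ArtinFun

namespace Groth.Agent.S11451

/-- Let k be an algebraically closed field and A a local k-algebra essentially of finite type over k
with residue field k. Then regularity of A as a local ring is equivalent to the following: for every
local k-algebra B' of finite dimension over k, every ideal J of B' of square zero and every
k-algebra homomorphism f : A → B'/J, there is a k-algebra homomorphism g : A → B' lifting f. (Local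
k-algebras of finite k-dimension are exactly the local Artin rings finite over k; lifting against
square-zero kernels is equivalent to lifting against nilpotent ones by induction.) -/
theorem result (k : Type u) [Field k] [IsAlgClosed k]
    (A : Type u) [CommRing A] [IsLocalRing A] [Algebra k A] [Algebra.EssFiniteType k A]
    (hres : Function.Surjective (algebraMap k (IsLocalRing.ResidueField A))) :
    IsRegularLocalRing A ↔
      ∀ (B' : Type u) [CommRing B'] [IsLocalRing B'] [Algebra k B'] [Module.Finite k B']
        (J : Ideal B'), J ^ 2 = ⊥ → ∀ f : A →ₐ[k] B' ⧸ J,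
          ∃ g : A →ₐ[k] B', (Ideal.Quotient.mkₐ k J).comp g = f := by
  have hbij : Function.Bijective (Algebra.ofId k (IsLocalRing.ResidueField A)) :=
    ⟨(algebraMap k (IsLocalRing.ResidueField A)).injective, hres⟩
  let res : A →ₐ[k] k :=
    ((AlgEquiv.ofBijective _ hbij).symm : IsLocalRing.ResidueField A →ₐ[k] k).comp
      (IsScalarTower.toAlgHom k A (IsLocalRing.ResidueField A))
  rw [isRegularLocalRing_iff_isSmoothFunctor A res]
  constructor
  · intro hsm B' _ _ _ _ J hJ f
    haveI : IsArtinianRing B' := IsArtinianRing.of_finite k B'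
    have hbijB : Function.Bijective (Algebra.ofId k (IsLocalRing.ResidueField B')) :=
      ⟨(algebraMap k (IsLocalRing.ResidueField B')).injective,
        (IsAlgClosed.algebraMap_bijective_of_isIntegral (K := IsLocalRing.ResidueField B')).2⟩
    let rB : B' →ₐ[k] k :=
      ((AlgEquiv.ofBijective _ hbijB).symm : IsLocalRing.ResidueField B' →ₐ[k] k).comp
        (IsScalarTower.toAlgHom k B' (IsLocalRing.ResidueField B'))
    have hJm : J ≤ IsLocalRing.maximalIdeal B' := by
      refine IsLocalRing.le_maximalIdeal fun h => ?_
      rw [h, pow_two, Ideal.mul_top] at hJ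
      exact top_ne_bot hJ
    let B : ArtFun.Art k k :=
      { carrier := B', res := rB, res_surjective := fun c => ⟨algebraMap k _ c, rB.commutes c⟩ }
    let C : ArtFun.Art k k := ArtFun.Art.quot B J hJm
    let φ : ArtFun.HomSet A res C := ⟨f, res_unique _ _⟩
    obtain ⟨ψ₀, hψ⟩ := hsm (ArtFun.Art.quotMk B J hJm) (ArtFun.Art.quotMk_surjective B J hJm) φ
    let ψ : ArtFun.HomSet A res B := ψ₀
    exact ⟨ψ.1, congrArg Subtype.val hψ⟩
  · intro H B C μ hμ φ
    refine surjective_induction (fun C B (μ : B ⟶ C) => Function.Surjective ((ArtFun.hR A res).map μ))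
      ?_ ?_ ?_ μ hμ φ
    · exact fun C B e he => (bijective_map_of_isIso _ e).2
    · intro C B μ hμ φ
      change ArtFun.HomSet A res C at φ
      haveI := finite_art B
      let eq : (B.carrier ⧸ RingHom.ker μ.toAlgHom) ≃ₐ[k] C.carrier :=
        Ideal.quotientKerAlgEquivOfSurjective (f := μ.toAlgHom) hμ.1
      obtain ⟨g, hg⟩ := H B.carrier (RingHom.ker μ.toAlgHom) (by
        rw [← le_bot_iff, pow_two, Ideal.mul_le]
        intro a ha b hb
        rw [Ideal.mem_bot]
        exact IsSemismallExt.mul_eq_zero hμ.isSemismallExt (ker_le_maximalIdeal μ ha) ((mem_ker μ b).1 hb))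
        (eq.symm.toAlgHom.comp φ.1)
      refine ⟨⟨g, res_unique _ _⟩, homSet_ext' fun r => ?_⟩
      have h := congrArg eq (AlgHom.congr_fun hg r)
      exact h.trans (eq.apply_symm_apply _)
    · intro C₀ C₁ C₂ p q h₁ h₂ φ
      obtain ⟨ψ, rfl⟩ := h₂ φ
      obtain ⟨χ, rfl⟩ := h₁ ψ
      exact ⟨χ, rfl⟩

end Groth.Agent.S11451
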