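import Groth.Statements.S11452
import Groth.Agent.Lib.ArtinFun.AffTrivial
import Groth.Agent.Lib.JacCrit.OverField


set_option autoImplicit false
universe u
open CategoryTheory AlgebraicGeometry
open DefT

namespace Groth.Agent.S11452

open Groth.Agent.Lib.ArtinFun.AffTrivial Groth.Agent.Lib.ArtinFun.AffDef

/-- Let k be an algebraically closed field, X an affine scheme of finite type over k whose local rings
are all regular, A a local Artin k-algebra with a k-algebra augmentation e : A → k, and g : X' →
Spec A a flat morphism whose fibre over the k-point Spec k → Spec A given by e is X (with its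
structure map to Spec k). Then there is an isomorphism from X' to the trivial deformation X ×_{Spec
k} Spec A compatible with the projections to Spec A. -/
theorem result (k : Type u) [Field k]
    [IsAlgClosed k] (X : Scheme.{u}) (hX : X ⟶ Spec (CommRingCat.of k)) [IsAffine X]
    [LocallyOfFiniteType hX] (hreg : ∀ x : X, IsRegularLocalRing (X.presheaf.stalk x))
    (A : Type u) [CommRing A] [IsLocalRing A] [IsArtinianRing A] [Algebra k A] (e : A →ₐ[k] k)
    (X' : Scheme.{u}) (g : X' ⟶ Spec (CommRingCat.of A)) [Flat g] (i : X ⟶ X')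
    (hsq : IsPullback i hX g (Spec.map (CommRingCat.ofHom e.toRingHom))) :
    ∃ φ : X' ≅ Limits.pullback hX (Spec.map (CommRingCat.ofHom (algebraMap k A))),
      φ.hom ≫ Limits.pullback.snd hX (Spec.map (CommRingCat.ofHom (algebraMap k A))) = g := by
  haveI := Groth.Agent.Lib.JacCrit.OverField.locallyOfFinitePresentation hX
  haveI : Smooth hX := Scheme.Hom.smoothLocus_eq_top_iff.1 (top_le_iff.1 fun x _ =>
    Groth.Agent.Lib.JacCrit.OverField.mem_smoothLocus_of_isRegular hX x (hreg x))
  obtain ⟨B₀, i₁, i₂, D, eX, eT, hx, hT, hi, hs⟩ := exists_affine_data X hX A e X' g i hsq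
  haveI := hs inferInstance
  letI algR : Algebra A D.R := D.algebra
  letI : Algebra k D.R := ((algebraMap A D.R).comp (algebraMap k A)).toAlgebra
  let π : D.R →ₐ[k] B₀ := { D.π with commutes' := fun c => (D.comm (algebraMap k A c)).trans (congrArg (algebraMap k B₀) (e.commutes c)) }
  let σ : B₀ →ₐ[k] D.R := Algebra.FormallySmooth.liftOfSurjective (AlgHom.id k B₀) π D.surj (isNilpotent_ker_π D)
  obtain ⟨φ, h1, h2⟩ := exists_iso_of_section X hX D eX hx σ.toRingHom (fun c => σ.commutes c)
    (fun b => Algebra.FormallySmooth.liftOfSurjective_apply (AlgHom.id k B₀) π D.surj (isNilpotent_ker_π D) b)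
  exact ⟨eT ≪≫ φ, by rw [Iso.trans_hom, Category.assoc]; exact (congrArg (eT.hom ≫ ·) h1).trans hT⟩

end Groth.Agent.S11452
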