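import Groth.Statements.S11458
import Groth.Agent.Lib.ArtinFun.HilbertBurchTransfer


set_option autoImplicit false
universe u
open DefT

namespace Groth.Agent.S11458

open Groth.Agent.Lib.ArtinFun.HB

/-- Let C be a local Artin ring with maximal ideal m, A a flat C-algebra of finite type whose special
fibre A₀ = A/mA is smooth over C/m, and I ⊆ A an ideal with A/I flat over C whose image I₀ in A₀ has
height ≥ 2 at every prime containing it (A₀/I₀ of codimension 2) and is generated by the signed
maximal minors of an (r+1) × r matrix φ₀ over A₀ for which 0 → A₀^r → A₀^{r+1} → A₀ (matrix, then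
minors) is exact. Then there is an (r+1) × r matrix φ over A whose signed maximal minors generate I
and for which 0 → A^r → A^{r+1} → A is exact, so that 0 → A^r → A^{r+1} → A → A/I → 0 is a
resolution. -/
theorem result (C : Type u) [CommRing C]
    [IsLocalRing C] [IsArtinianRing C] (A : Type u) [CommRing A] [Algebra C A] [Module.Flat C A]
    [Algebra.FiniteType C A]
    [Algebra.Smooth (C ⧸ IsLocalRing.maximalIdeal C) (A ⧸ (IsLocalRing.maximalIdeal C).map (algebraMap C A))]
    (I : Ideal A) [Module.Flat C (A ⧸ I)]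
    (hcodim : ∀ p : Ideal (A ⧸ (IsLocalRing.maximalIdeal C).map (algebraMap C A)), p.IsPrime →
      I.map (Ideal.Quotient.mk ((IsLocalRing.maximalIdeal C).map (algebraMap C A))) ≤ p → (2 : ℕ∞) ≤ p.height)
    (r : ℕ)
    (φ₀ : Matrix (Fin (r + 1)) (Fin r) (A ⧸ (IsLocalRing.maximalIdeal C).map (algebraMap C A)))
    (h₀ : (Ideal.span (Set.range (fun i : Fin (r + 1) => (-1 : (A ⧸ (IsLocalRing.maximalIdeal C).map (algebraMap C A))) ^ (i : ℕ) * ((φ₀).submatrix i.succAbove id).det)) = I.map (Ideal.Quotient.mk ((IsLocalRing.maximalIdeal C).map (algebraMap C A))) ∧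
        Function.Injective (φ₀).mulVecLin ∧
        LinearMap.range (φ₀).mulVecLin = LinearMap.ker (Fintype.linearCombination (A ⧸ (IsLocalRing.maximalIdeal C).map (algebraMap C A)) (fun i : Fin (r + 1) => (-1 : (A ⧸ (IsLocalRing.maximalIdeal C).map (algebraMap C A))) ^ (i : ℕ) * ((φ₀).submatrix i.succAbove id).det)))) :
    ∃ φ : Matrix (Fin (r + 1)) (Fin r) A, (Ideal.span (Set.range (fun i : Fin (r + 1) => (-1 : A) ^ (i : ℕ) * ((φ).submatrix i.succAbove id).det)) = I ∧
        Function.Injective (φ).mulVecLin ∧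
        LinearMap.range (φ).mulVecLin = LinearMap.ker (Fintype.linearCombination A (fun i : Fin (r + 1) => (-1 : A) ^ (i : ℕ) * ((φ).submatrix i.succAbove id).det))) := by
  classical
  let m := IsLocalRing.maximalIdeal C
  let π := Ideal.Quotient.mk (m.map (algebraMap C A))
  letI : Field (C ⧸ m) := Ideal.Quotient.field m
  haveI : IsNoetherianRing A := Algebra.FiniteType.isNoetherianRing C A
  haveI := isCohenMacaulayRing_of_smooth (C ⧸ m) (A ⧸ m.map (algebraMap C A)) (Field.toIsField _)
  obtain ⟨φ, rfl⟩ : ∃ φ : Matrix (Fin (r + 1)) (Fin r) A, φ.map π = φ₀ :=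
    ⟨Matrix.of fun i j => (Ideal.Quotient.mk_surjective (φ₀ i j)).choose,
      Matrix.ext fun i j => (Ideal.Quotient.mk_surjective (φ₀ i j)).choose_spec⟩
  have hflatk : ∀ (M : Type u) [AddCommGroup M] [Module (C ⧸ m) M], Module.Flat (C ⧸ m) M := fun M _ _ => inferInstance
  have hne : m ≠ ⊤ := (IsLocalRing.maximalIdeal.isMaximal C).ne_top
  obtain ⟨h1, h2, h3⟩ := h₀
  obtain ⟨-, hb⟩ := fibre_conditions m hne φ h2 h3 (hflatk _)
  have hspan : Ideal.span (Set.range (fs (φ.map π))) = (Ideal.span (Set.range (fs φ))).map π := by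
    rw [Ideal.map_span, ← Set.range_comp, map_fs]
  obtain ⟨φ', hφ', hI⟩ := exists_matrix_lift m le_rfl I φ (h1.symm.trans hspan) hb
    (fun p hp hle => hcodim p hp (by
      rw [← h1]
      refine le_trans (le_of_eq ?_) hle
      show Ideal.span (Set.range (fs (φ.map π))) = _
      rw [map_fs]
      rfl))
  have hmap : φ'.map π = φ.map π := Matrix.ext fun i j => Ideal.Quotient.eq.2 (hφ' i j)
  obtain ⟨ha', hb'⟩ := fibre_conditions m hne φ' (by rw [show φ'.map _ = φ.map π from hmap]; exact h2)
    (by rw [show φ'.map _ = φ.map π from hmap]; exact h3) (hflatk _)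
  obtain ⟨h4, h5, -⟩ := exact_of_fibre φ' ha' hb'
  exact ⟨φ', hI.symm, h4, h5⟩

end Groth.Agent.S11458
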