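import Groth.Statements.S11459
import Groth.Agent.Lib.ArtinFun.HilbertBurchTransfer


set_option autoImplicit false
universe u
open DefT

namespace Groth.Agent.S11459

open Groth.Agent.Lib.ArtinFun.HB

/-- Let C' be a local Artin ring, J ⊊ C' a proper ideal annihilated by the maximal ideal, C = C'/J, A' a
flat C'-algebra of finite type with smooth special fibre, A = A'/JA', and φ an (r+1) × r matrix over
A with 0 → A^r → A^{r+1} → A exact (matrix, then signed maximal minors f_i) A/(f_0, …, f_r) flat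
over C, and every prime of A containing (f_0, …, f_r) of height ≥ 2 (codimension 2). Then any ideal
I' ⊆ A' such that A'/I' is flat over C' and the image of I' in A is (f_0, …, f_r) is generated by
the signed maximal minors of some matrix φ' over A' reducing to φ. -/
theorem result (C' : Type u) [CommRing C'] [IsLocalRing C'] [IsArtinianRing C'] (J : Ideal C')
    (hJ : IsLocalRing.maximalIdeal C' * J = ⊥) (hJne : J ≠ ⊤) (A' : Type u) [CommRing A'] [Algebra C' A'] [Module.Flat C' A']
    [Algebra.FiniteType C' A']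
    [Algebra.Smooth (C' ⧸ IsLocalRing.maximalIdeal C') (A' ⧸ (IsLocalRing.maximalIdeal C').map (algebraMap C' A'))]
    (r : ℕ) (φ : Matrix (Fin (r + 1)) (Fin r) (A' ⧸ J.map (algebraMap C' A')))
    (hφ : Function.Injective φ.mulVecLin ∧
      LinearMap.range φ.mulVecLin = LinearMap.ker (Fintype.linearCombination (A' ⧸ J.map (algebraMap C' A')) (fun i : Fin (r + 1) => (-1 : (A' ⧸ J.map (algebraMap C' A'))) ^ (i : ℕ) * ((φ).submatrix i.succAbove id).det)))
    [Module.Flat (C' ⧸ J) ((A' ⧸ J.map (algebraMap C' A')) ⧸ Ideal.span (Set.range (fun i : Fin (r + 1) => (-1 : (A' ⧸ J.map (algebraMap C' A'))) ^ (i : ℕ) * ((φ).submatrix i.succAbove id).det)))]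
    (hcodim : ∀ p : Ideal (A' ⧸ J.map (algebraMap C' A')), p.IsPrime →
      Ideal.span (Set.range (fun i : Fin (r + 1) => (-1 : (A' ⧸ J.map (algebraMap C' A'))) ^ (i : ℕ) * ((φ).submatrix i.succAbove id).det)) ≤ p → (2 : ℕ∞) ≤ p.height)
    (I' : Ideal A') [Module.Flat C' (A' ⧸ I')]
    (hI' : I'.map (Ideal.Quotient.mk (J.map (algebraMap C' A'))) = Ideal.span (Set.range (fun i : Fin (r + 1) => (-1 : (A' ⧸ J.map (algebraMap C' A'))) ^ (i : ℕ) * ((φ).submatrix i.succAbove id).det))) :
    ∃ φ' : Matrix (Fin (r + 1)) (Fin r) A', φ'.map (Ideal.Quotient.mk (J.map (algebraMap C' A'))) = φ ∧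
      I' = Ideal.span (Set.range (fun i : Fin (r + 1) => (-1 : A') ^ (i : ℕ) * ((φ').submatrix i.succAbove id).det)) := by
  classical
  let m := IsLocalRing.maximalIdeal C'
  let π := Ideal.Quotient.mk (J.map (algebraMap C' A'))
  haveI : IsNoetherianRing A' := Algebra.FiniteType.isNoetherianRing C' A'
  haveI := isCohenMacaulayRing_of_smooth (C' ⧸ m) (A' ⧸ m.map (algebraMap C' A'))
    (letI := Ideal.Quotient.field m; Field.toIsField _)
  obtain ⟨φl, rfl⟩ : ∃ φl : Matrix (Fin (r + 1)) (Fin r) A', φl.map π = φ :=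
    ⟨Matrix.of fun i j => (Ideal.Quotient.mk_surjective (φ i j)).choose,
      Matrix.ext fun i j => (Ideal.Quotient.mk_surjective (φ i j)).choose_spec⟩
  have hJm : J ≤ m := IsLocalRing.le_maximalIdeal hJne
  obtain ⟨-, hb⟩ := fibre_conditions J hJne φl hφ.1 hφ.2 ‹_›
  have hspan : Ideal.span (Set.range (fs (φl.map π))) = (Ideal.span (Set.range (fs φl))).map π := by
    rw [Ideal.map_span, ← Set.range_comp, map_fs]
  let g := Ideal.Quotient.factor (Ideal.map_mono (f := algebraMap C' A') hJm)
  have hg : Function.Surjective g := Ideal.Quotient.factor_surjective _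
  have hker : RingHom.ker g ≤ nilradical (A' ⧸ J.map (algebraMap C' A')) := by
    intro x hx
    obtain ⟨a, rfl⟩ := Ideal.Quotient.mk_surjective x
    rw [RingHom.mem_ker, Ideal.Quotient.factor_mk, Ideal.Quotient.eq_zero_iff_mem] at hx
    obtain ⟨e, he⟩ := IsArtinianRing.isNilpotent_jacobson_bot (R := C')
    rw [IsLocalRing.jacobson_eq_maximalIdeal ⊥ bot_ne_top] at he
    refine mem_nilradical.2 (IsNilpotent.map (⟨e, ?_⟩ : IsNilpotent a) _)
    have h1 : a ^ e ∈ (m.map (algebraMap C' A')) ^ e := Ideal.pow_mem_pow hx e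
    rwa [← Ideal.map_pow, he, Ideal.zero_eq_bot, Ideal.map_bot] at h1
  obtain ⟨φ', hφ', hI⟩ := exists_matrix_lift J hJm I' φl (hI'.trans hspan) hb
    (fun p hp hle => (hcodim (p.comap g) inferInstance (by
      rw [Ideal.span_le]
      rintro _ ⟨i, rfl⟩
      show g (fs (φl.map π) i) ∈ p
      rw [map_fs]
      exact hle (Ideal.subset_span ⟨i, rfl⟩))).trans (height_comap_le g hg hker p))
  exact ⟨φ', Matrix.ext fun i j => Ideal.Quotient.eq.2 (hφ' i j), hI⟩

end Groth.Agent.S11459
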