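import Groth.Statements.S11460
import Groth.Agent.S11449
import Groth.Agent.Lib.HB62.Spread
import Groth.Agent.Lib.Cyc.SmoothReg
import Groth.Agent.Lib.Excellent.Transport
import Groth.Agent.Lib.Cyc.Dev.Scheme

set_option autoImplicit false
universe u
open CategoryTheory AlgebraicGeometry
open DefT

namespace Groth.Agent.S11460

/-- Let X be smooth over a field k and Y ⊆ X a closed subscheme which is Cohen–Macaulay of codimension 2
(all local rings of Y Cohen–Macaulay, and dim O_{X,y} = dim O_{Y,y} + 2 at every point y of Y). Then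
each point of Y has an affine open neighbourhood U in X and an (r+1) × r matrix φ of functions on U
whose signed maximal minors f_i generate the ideal of Y ∩ U and give an exact sequence 0 → O(U)^r →
O(U)^{r+1} → O(U), hence a resolution of O_{Y ∩ U} on the affine U. -/
theorem result (k : Type u) [Field k]
    (X Y : Scheme.{u}) (f : X ⟶ Spec (CommRingCat.of k)) [Smooth f] (ι : Y ⟶ X) [IsClosedImmersion ι]
    (hCM : ∀ y : Y, LocCoh.IsCohenMacaulayLocalRing (Y.presheaf.stalk y))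
    (hcodim : ∀ y : Y, ringKrullDim (Y.presheaf.stalk y) + 2 = ringKrullDim (X.presheaf.stalk (ι.base y)))
    (y : Y) :
    ∃ U : X.affineOpens, ι.base y ∈ (U : X.Opens) ∧ ∃ (r : ℕ) (φ : Matrix (Fin (r + 1)) (Fin r) Γ(X, U)),
      (Ideal.span (Set.range (fun i : Fin (r + 1) => (-1 : Γ(X, U)) ^ (i : ℕ) * ((φ).submatrix i.succAbove id).det)) = ι.ker.ideal U ∧
        Function.Injective (φ).mulVecLin ∧
        LinearMap.range (φ).mulVecLin = LinearMap.ker (Fintype.linearCombination Γ(X, U) (fun i : Fin (r + 1) => (-1 : Γ(X, U)) ^ (i : ℕ) * ((φ).submatrix i.succAbove id).det))) := by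
  have := Groth.Agent.Lib.Cyc.SmoothReg.isRegularLocalRing_stalk f (ι.base y)
  obtain ⟨U₀, hU₀, hxU₀, -⟩ := exists_isAffineOpen_mem_and_subset (X := X) (x := ι.base y) (U := ⊤) trivial
  let U : X.affineOpens := ⟨U₀, hU₀⟩
  have : IsLocallyNoetherian X := LocallyOfFiniteType.isLocallyNoetherian f
  have : IsNoetherianRing Γ(X, U₀) := IsLocallyNoetherian.component_noetherian U
  let R := X.presheaf.stalk (ι.base y)
  let K := (ι.ker.ideal U).map (X.presheaf.germ U₀ (ι.base y) hxU₀).hom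
  have hker : RingHom.ker (ι.stalkMap y).hom = K := by
    refine le_antisymm (Groth.Agent.Lib.Cyc.Dev.SchemeCase.ker_stalkMap_le ι U y hxU₀) ?_
    rw [Ideal.map_le_iff_le_comap]
    intro r hr
    rw [Scheme.Hom.ker_apply, RingHom.mem_ker] at hr
    show (ι.stalkMap y).hom _ = 0
    rw [Scheme.Hom.germ_stalkMap_apply, hr, map_zero]
  have hsurj : Function.Surjective (ι.stalkMap y).hom := ι.stalkMap_surjective y
  let eY : (R ⧸ K) ≃+* Y.presheaf.stalk y :=
    (Ideal.quotEquivOfEq hker.symm).trans (RingHom.quotientKerEquivOfSurjective hsurj)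
  have := hCM y
  have : LocCoh.IsCohenMacaulayLocalRing (R ⧸ K) := Groth.Agent.Lib.Excellent.Transport.isCohenMacaulayLocalRing_of_ringEquiv eY.symm
  obtain ⟨r, Φ, h1, -, h2, h3⟩ := Groth.Agent.S11449.result R K
    (by rw [ringKrullDim_eq_of_ringEquiv eY]; exact hcodim y)
  letI : Algebra Γ(X, U₀) R := X.presheaf.algebra_section_stalk ⟨ι.base y, hxU₀⟩
  have : IsLocalization.AtPrime R (hU₀.primeIdealOf ⟨ι.base y, hxU₀⟩).asIdeal :=
    hU₀.isLocalization_stalk ⟨ι.base y, hxU₀⟩
  obtain ⟨g, hg, ψ, hψ⟩ := Groth.Agent.Lib.HB62.exists_spread (hU₀.primeIdealOf ⟨ι.base y, hxU₀⟩).asIdeal R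
    (ι.ker.ideal U) Φ h1 h2 h3
  letI : Algebra Γ(X, U₀) Γ(X, X.basicOpen g) := (X.presheaf.map (homOfLE (X.basicOpen_le g)).op).hom.toAlgebra
  have : IsLocalization.Away g Γ(X, X.basicOpen g) := hU₀.isLocalization_basicOpen g
  obtain ⟨h4, h5, h6⟩ := hψ Γ(X, X.basicOpen g)
  refine ⟨X.affineBasicOpen (U := U) g, ?_, r, ψ.map (algebraMap Γ(X, U₀) Γ(X, X.basicOpen g)), h4.trans (ι.ker.map_ideal_basicOpen U g), h5, h6⟩
  show ι.base y ∈ X.basicOpen g
  rw [Scheme.mem_basicOpen _ g _ hxU₀]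
  exact (IsLocalization.AtPrime.isUnit_to_map_iff R (hU₀.primeIdealOf ⟨ι.base y, hxU₀⟩).asIdeal g).mpr hg

end Groth.Agent.S11460
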