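import Groth.Statements.S11461
import Mathlib.Algebra.Homology.ShortComplex.ModuleCat
import Mathlib.RingTheory.Finiteness.Nakayama
import Mathlib.RingTheory.Ideal.AssociatedPrime.Finiteness
import Mathlib.RingTheory.Ideal.Quotient.Operations

set_option autoImplicit false
universe u
open CategoryTheory
open DefT

namespace Groth.Agent.S11461

/-- Let B be a Noetherian ring and F an additive, B-linear endofunctor of B-modules which preserves
finite generation and is semi-exact on short exact sequences of finitely generated modules (the
image sequence is exact in the middle). If F kills B/m for every maximal ideal m, then F kills every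
finitely generated B-module. (The published statement assumes F only additive; this row assumes F
B-linear, and takes the functor on all B-modules with the hypotheses and the conclusion on the
finitely generated ones.) -/
theorem result (B : Type u) [CommRing B]
    [IsNoetherianRing B] (F : ModuleCat.{u} B ⥤ ModuleCat.{u} B) [F.Additive] [F.Linear B]
    (hfg : ∀ M : ModuleCat.{u} B, Module.Finite B M → Module.Finite B (F.obj M))
    (hex : ∀ S : ShortComplex (ModuleCat.{u} B), S.ShortExact → Module.Finite B S.X₂ → (S.map F).Exact)
    (h0 : ∀ m : Ideal B, m.IsMaximal → Limits.IsZero (F.obj (ModuleCat.of B (B ⧸ m))))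
    (M : ModuleCat.{u} B) (hM : Module.Finite B M) : Limits.IsZero (F.obj M) := by
  classical
  -- middle vanishing
  have key : ∀ (S : ShortComplex (ModuleCat.{u} B)), S.ShortExact → Module.Finite B S.X₂ →
      Limits.IsZero (F.obj S.X₁) → Limits.IsZero (F.obj S.X₃) → Limits.IsZero (F.obj S.X₂) :=
    fun S hS h2 h1 h3 => (hex S hS h2).isZero_X₂ (h1.eq_of_src _ _) (h3.eq_of_tgt _ _)
  have mkS : ∀ {N₁ N₂ N₃ : Type u} [AddCommGroup N₁] [Module B N₁] [AddCommGroup N₂] [Module B N₂]
      [AddCommGroup N₃] [Module B N₃] (f : N₁ →ₗ[B] N₂) (g : N₂ →ₗ[B] N₃) (h : Function.Exact f g),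
      Function.Injective f → Function.Surjective g →
      ∃ S : ShortComplex (ModuleCat.{u} B), S.ShortExact ∧
        S = ShortComplex.moduleCatMk f g h.linearMap_comp_eq_zero := by
    intro N₁ N₂ N₃ _ _ _ _ _ _ f g h hf hg
    refine ⟨_, ?_, rfl⟩
    have hS : (ShortComplex.moduleCatMk f g h.linearMap_comp_eq_zero).Exact :=
      (ShortComplex.ShortExact.moduleCat_exact_iff_function_exact _).2 h
    exact { exact := hS
            mono_f := (ModuleCat.mono_iff_injective _).2 hf
            epi_g := (ModuleCat.epi_iff_surjective _).2 hg }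
  have hzero : ∀ (N : Type u) [AddCommGroup N] [Module B N] [Subsingleton N],
      Limits.IsZero (F.obj (ModuleCat.of B N)) := fun N _ _ _ =>
    F.map_isZero (ModuleCat.isZero_of_subsingleton _)
  have cyc : ∀ I : Ideal B, Limits.IsZero (F.obj (ModuleCat.of B (B ⧸ I))) := by
    intro I
    induction I using WellFoundedGT.induction with
    | ind I ih =>
      by_cases htop : I = ⊤
      · subst htop
        haveI : Subsingleton (B ⧸ (⊤ : Ideal B)) := Ideal.Quotient.subsingleton_iff.2 rfl
        exact hzero _
      by_cases hmax : I.IsMaximal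
      · exact h0 I hmax
      by_cases hprime : I.IsPrime
      · -- multiplication by elements outside `I`
        rw [ModuleCat.isZero_iff_subsingleton]
        let N := F.obj (ModuleCat.of B (B ⧸ I))
        haveI : Module.Finite B N := hfg _ (inferInstanceAs (Module.Finite B (B ⧸ I)))
        suffices hann : (⊤ : Ideal B) ≤ Module.annihilator B N from
          ⟨fun a b => by
            rw [← one_smul B a, ← one_smul B b, Module.mem_annihilator.1 (hann Submodule.mem_top) a,
              Module.mem_annihilator.1 (hann Submodule.mem_top) b]⟩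
        by_contra hne
        obtain ⟨m, hm, hle⟩ := Ideal.exists_le_maximal _ (fun h => hne (top_le_iff.2 h))
        have hIm : I ≤ m := by
          refine le_trans (fun a ha => ?_) hle
          rw [Module.mem_annihilator]
          intro z
          have h1 : a • 𝟙 (ModuleCat.of B (B ⧸ I)) = 0 := by
            refine ModuleCat.hom_ext (LinearMap.ext fun w => ?_)
            obtain ⟨w', rfl⟩ := Ideal.Quotient.mk_surjective w
            show Ideal.Quotient.mk I (a * w') = 0
            exact Ideal.Quotient.eq_zero_iff_mem.2 (I.mul_mem_right _ ha)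
          have h2 := congrArg F.map h1
          rw [F.map_smul, F.map_id, F.map_zero] at h2
          exact LinearMap.congr_fun (congrArg ModuleCat.Hom.hom h2) z
        obtain ⟨x, hxm, hxI⟩ := SetLike.exists_of_lt (lt_of_le_of_ne hIm (fun h => hmax (h ▸ hm)))
        let f : (B ⧸ I) →ₗ[B] (B ⧸ I) := x • LinearMap.id
        have hf : Function.Injective f := by
          rw [injective_iff_map_eq_zero]
          intro w hw
          obtain ⟨w', rfl⟩ := Ideal.Quotient.mk_surjective w
          have h1 : x * w' ∈ I := Ideal.Quotient.eq_zero_iff_mem.1 hw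
          exact Ideal.Quotient.eq_zero_iff_mem.2 ((hprime.mem_or_mem h1).resolve_left hxI)
        have hle' : I ≤ I ⊔ Ideal.span {x} := le_sup_left
        let g : (B ⧸ I) →ₗ[B] (B ⧸ (I ⊔ Ideal.span {x})) := Submodule.factor hle'
        have hfg' : Function.Exact f g := by
          intro w
          obtain ⟨w', rfl⟩ := Ideal.Quotient.mk_surjective w
          constructor
          · intro hw
            have h1 : w' ∈ I ⊔ Ideal.span {x} := Ideal.Quotient.eq_zero_iff_mem.1 hw
            obtain ⟨i, hi, j, hj, rfl⟩ := Submodule.mem_sup.1 h1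
            obtain ⟨c, rfl⟩ := Ideal.mem_span_singleton'.1 hj
            refine ⟨Ideal.Quotient.mk I c, Ideal.Quotient.eq.2 ?_⟩
            show x * c - (i + c * x) ∈ I
            have : x * c - (i + c * x) = -i := by ring
            rw [this]
            exact neg_mem hi
          · rintro ⟨z, hz⟩
            obtain ⟨z', rfl⟩ := Ideal.Quotient.mk_surjective z
            rw [← hz]
            exact Ideal.Quotient.eq_zero_iff_mem.2
              (Ideal.mem_sup_right (Ideal.mem_span_singleton'.2 ⟨z', mul_comm _ _⟩))
        obtain ⟨S, hS, rfl⟩ := mkS f g hfg' hf (Submodule.factor_surjective hle')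
        have hlt : I < I ⊔ Ideal.span {x} := lt_of_le_of_ne hle' fun h =>
          hxI (h ▸ Ideal.mem_sup_right (Ideal.mem_span_singleton_self x))
        have hzero3 : Limits.IsZero (F.obj (ModuleCat.of B (B ⧸ (I ⊔ Ideal.span {x})))) := ih _ hlt
        have hsurj : ∀ z : N, ∃ z', x • z' = z := by
          intro z
          have hex' := (ShortComplex.moduleCat_exact_iff _).1 (hex _ hS (inferInstanceAs (Module.Finite B (B ⧸ I))))
          haveI := ModuleCat.subsingleton_of_isZero hzero3
          obtain ⟨z', hz'⟩ := hex' z (@Subsingleton.elim _ (ModuleCat.subsingleton_of_isZero hzero3) _ _)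
          refine ⟨z', ?_⟩
          have h1 : (ModuleCat.ofHom f : ModuleCat.of B (B ⧸ I) ⟶ ModuleCat.of B (B ⧸ I)) = x • 𝟙 _ := rfl
          have h2 : F.map (ModuleCat.ofHom f) = x • 𝟙 (F.obj (ModuleCat.of B (B ⧸ I))) := by
            rw [h1, F.map_smul, F.map_id]
          exact (LinearMap.congr_fun (congrArg ModuleCat.Hom.hom h2) z').symm.trans hz'
        obtain ⟨r, hr1, hr2⟩ := Submodule.exists_sub_one_mem_and_smul_eq_zero_of_fg_of_le_smul
          (Ideal.span {x}) (⊤ : Submodule B N) Module.Finite.fg_top (fun z _ => by
            obtain ⟨z', rfl⟩ := hsurj z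
            exact Submodule.smul_mem_smul (Ideal.mem_span_singleton_self x) trivial)
        have hrm : r ∈ m := hle (Module.mem_annihilator.2 fun z => hr2 z trivial)
        have h1 : (1 : B) ∈ m := by
          have := sub_mem hrm ((Ideal.span_singleton_le_iff_mem _).2 hxm hr1)
          rwa [sub_sub_cancel] at this
        exact hm.ne_top ((Ideal.eq_top_iff_one m).2 h1)
      · -- split off a zero divisor
        obtain ⟨a, ha, b, hb, hab⟩ := (Ideal.not_isPrime_iff.1 hprime).resolve_left htop
        let J : Ideal B := LinearMap.ker ((Ideal.Quotient.mkₐ B I).toLinearMap ∘ₗ LinearMap.mulLeft B a)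
        have hJ : ∀ w, w ∈ J ↔ a * w ∈ I := fun w => Ideal.Quotient.eq_zero_iff_mem
        let f : (B ⧸ J) →ₗ[B] (B ⧸ I) :=
          Submodule.liftQ J ((Ideal.Quotient.mkₐ B I).toLinearMap ∘ₗ LinearMap.mulLeft B a) le_rfl
        have hf : Function.Injective f := LinearMap.ker_eq_bot.1 (Submodule.ker_liftQ_eq_bot _ _ _ le_rfl)
        have hle' : I ≤ I ⊔ Ideal.span {a} := le_sup_left
        let g : (B ⧸ I) →ₗ[B] (B ⧸ (I ⊔ Ideal.span {a})) := Submodule.factor hle'
        have hfg' : Function.Exact f g := by
          intro w
          obtain ⟨w', rfl⟩ := Ideal.Quotient.mk_surjective w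
          constructor
          · intro hw
            have h1 : w' ∈ I ⊔ Ideal.span {a} := Ideal.Quotient.eq_zero_iff_mem.1 hw
            obtain ⟨i, hi, j, hj, rfl⟩ := Submodule.mem_sup.1 h1
            obtain ⟨c, rfl⟩ := Ideal.mem_span_singleton'.1 hj
            refine ⟨Ideal.Quotient.mk J c, Ideal.Quotient.eq.2 ?_⟩
            show a * c - (i + c * a) ∈ I
            have : a * c - (i + c * a) = -i := by ring
            rw [this]
            exact neg_mem hi
          · rintro ⟨z, hz⟩
            obtain ⟨z', rfl⟩ := Ideal.Quotient.mk_surjective z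
            rw [← hz]
            exact Ideal.Quotient.eq_zero_iff_mem.2
              (Ideal.mem_sup_right (Ideal.mem_span_singleton'.2 ⟨z', mul_comm _ _⟩))
        obtain ⟨S, hS, rfl⟩ := mkS f g hfg' hf (Submodule.factor_surjective hle')
        refine key _ hS (inferInstanceAs (Module.Finite B (B ⧸ I))) (ih J ?_) (ih _ ?_)
        · refine lt_of_le_of_ne (fun w hw => (hJ w).2 (I.mul_mem_left a hw)) fun h => ?_
          exact hb (h ▸ (hJ b).2 hab)
        · exact lt_of_le_of_ne hle' fun h => ha (h ▸ Ideal.mem_sup_right (Ideal.mem_span_singleton_self a))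
  suffices h : ∀ (N : Type u) [AddCommGroup N] [Module B N], Module.Finite B N →
      Limits.IsZero (F.obj (ModuleCat.of B N)) from h M hM
  intro N _ _ hN
  induction hN using IsNoetherianRing.induction_on_isQuotientEquivQuotientPrime B with
  | subsingleton N => exact hzero N
  | quotient N p e => exact (cyc p.1).of_iso (F.mapIso e.toModuleIso)
  | exact N₁ N₂ N₃ f g hf hg hfg' h1 h3 =>
    obtain ⟨S, hS, rfl⟩ := mkS f g hfg' hf hg
    exact key _ hS (inferInstanceAs (Module.Finite B N₂)) h1 h3

end Groth.Agent.S11461
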