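import Groth.Statements.S11462
import Groth.Agent.H24.PowDepth.Sections
import Groth.Agent.Lib.EGA75.DepthFlat

set_option autoImplicit false
universe u
open CategoryTheory AlgebraicGeometry Opposite
open DefT

namespace Groth.Agent.S11462

open IsLocalRing

/-- Depth two of a flat algebra over an artinian local ring with normal special fibre. -/
theorem two_le_depth_localization (C : Type u) [CommRing C] [IsLocalRing C] [IsArtinianRing C]
    (A : Type u) [CommRing A] [IsNoetherianRing A] [Algebra C A] [Module.Flat C A]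
    (hnorm : Pi1.IsNormalScheme (Spec (CommRingCat.of (A ⧸ (maximalIdeal C).map (algebraMap C A)))))
    (P : PrimeSpectrum A) (hP : (2 : ℕ∞) ≤ P.asIdeal.height) :
    (2 : ℕ∞) ≤ LocCoh.depth (Localization.AtPrime P.asIdeal) (Localization.AtPrime P.asIdeal) := by
  let B := Localization.AtPrime P.asIdeal
  let I := (maximalIdeal C).map (algebraMap C A)
  have hIP : I ≤ P.asIdeal := Ideal.map_le_iff_le_comap.mpr
    ((IsLocalRing.eq_maximalIdeal (IsArtinianRing.isMaximal_of_isPrime (P.asIdeal.comap (algebraMap C A)))).ge)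
  have hcomap : ∀ c : C, c ∈ maximalIdeal C → algebraMap C B c ∈ maximalIdeal B := fun c hc => by
    rw [IsScalarTower.algebraMap_apply C A B, IsLocalization.AtPrime.to_map_mem_maximal_iff B P.asIdeal]
    exact hIP (Ideal.mem_map_of_mem _ hc)
  have : IsLocalHom (algebraMap C B) := ⟨fun c hc => by
    by_contra h
    exact (mem_maximalIdeal _).mp (hcomap c h) hc⟩
  have : Module.Flat C B := Module.Flat.trans C A B
  let J := (maximalIdeal C).map (algebraMap C B)
  have hJ : J = I.map (algebraMap A B) := by
    rw [Ideal.map_map, ← IsScalarTower.algebraMap_eq]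
  have hle : J ≤ maximalIdeal B := Ideal.map_le_iff_le_comap.mpr hcomap
  have : Nontrivial (B ⧸ J) := Ideal.Quotient.nontrivial_iff.mpr fun h =>
    (maximalIdeal.isMaximal B).ne_top (top_le_iff.mp (h ▸ hle))
  have : IsLocalRing (B ⧸ J) := IsLocalRing.of_surjective' _ Ideal.Quotient.mk_surjective
  -- the special fibre is a normal domain
  let P₀ : Ideal (A ⧸ I) := P.asIdeal.map (Ideal.Quotient.mk I)
  have hP₀ : P₀.comap (Ideal.Quotient.mk I) = P.asIdeal :=
    Ideal.comap_map_mk hIP
  have : P₀.IsPrime := Ideal.map_isPrime_of_surjective Ideal.Quotient.mk_surjective (by rw [Ideal.mk_ker]; exact hIP)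
  have hsub : Algebra.algebraMapSubmonoid (A ⧸ I) P.asIdeal.primeCompl = P₀.primeCompl := by
    ext x
    constructor
    · rintro ⟨a, ha, rfl⟩ hx
      exact ha (hP₀ ▸ hx)
    · intro hx
      obtain ⟨a, rfl⟩ := Ideal.Quotient.mk_surjective x
      exact ⟨a, fun ha => hx (Ideal.mem_map_of_mem _ ha), rfl⟩
  have hloc : IsLocalization P₀.primeCompl (B ⧸ I.map (algebraMap A B)) := hsub ▸ inferInstance
  let x₀ : PrimeSpectrum (A ⧸ I) := ⟨P₀, inferInstance⟩
  let O := (Spec.structureSheaf (A ⧸ I)).presheaf.stalk x₀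
  have : IsLocalization.AtPrime O P₀ := StructureSheaf.IsLocalization.to_stalk (A ⧸ I) x₀
  let e : (Spec (CommRingCat.of (A ⧸ I))).presheaf.stalk x₀ ≃+* B ⧸ J :=
    ((IsLocalization.algEquiv P₀.primeCompl O (B ⧸ I.map (algebraMap A B))).toRingEquiv).trans
      (Ideal.quotEquivOfEq hJ.symm)
  obtain ⟨h1, h2⟩ := hnorm x₀
  have : IsDomain (B ⧸ J) := e.symm.toMulEquiv.isDomain
  have : IsIntegrallyClosed (B ⧸ J) := IsIntegrallyClosed.of_equiv e
  have hC : ringKrullDim C = 0 := ringKrullDimZero_iff_ringKrullDim_eq_zero.mp inferInstance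
  have hdim : (2 : WithBot ℕ∞) ≤ ringKrullDim (B ⧸ J) := by
    have h := Groth.Agent.Lib.EGA75.DepthFlat.ringKrullDim_eq_add C B
    rw [hC, zero_add] at h
    rw [← h, IsLocalization.AtPrime.ringKrullDim_eq_height P.asIdeal B]
    exact WithBot.coe_le_coe.2 hP
  rw [Groth.Agent.Lib.EGA75.DepthFlat.depth_eq_add C B]
  exact le_add_left (H80.PuncturedExt.two_le_depth hdim)

/-- Let C be a local Artin ring with maximal ideal m, A a Noetherian C-algebra flat over C such that
Spec(A/mA) is a normal scheme, and U ⊆ X = Spec A an open subset whose closed complement has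
codimension ≥ 2, i.e. every prime of A not in U has height at least 2. Then the restriction map Γ(X,
O_X) → Γ(U, O_X) is bijective. (The published statement assumes only that A is flat over C with
normal special fibre; this row also assumes A Noetherian: for a valuation ring of rank two over a
field, which is normal and flat, the functions on the complement of the closed point are not all
global.) -/
theorem result (C : Type u) [CommRing C]
    [IsLocalRing C] [IsArtinianRing C] (A : Type u) [CommRing A] [IsNoetherianRing A] [Algebra C A]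
    [Module.Flat C A]
    (hnorm : Pi1.IsNormalScheme (Spec (CommRingCat.of (A ⧸ (IsLocalRing.maximalIdeal C).map (algebraMap C A)))))
    (U : (Spec (CommRingCat.of A)).Opens)
    (hU : ∀ p : ↥(Spec (CommRingCat.of A)), p ∉ U → (2 : ℕ∞) ≤ p.asIdeal.height) :
    Function.Bijective ((Spec (CommRingCat.of A)).presheaf.map (homOfLE (le_top : U ≤ ⊤)).op) := by
  let V : Set (PrimeSpectrum A) := U.1
  let J := PrimeSpectrum.vanishingIdeal Vᶜ
  have hJ : ∀ Q : PrimeSpectrum A, J ≤ Q.asIdeal ↔ Q ∉ U := fun Q => by
    have h := PrimeSpectrum.zeroLocus_vanishingIdeal_eq_closure (Vᶜ)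
    rw [(isClosed_compl_iff.mpr (show IsOpen V from U.2)).closure_eq] at h
    exact (Set.ext_iff.mp h Q)
  have hW : U = EGA4.openCompl A J := by
    ext Q
    show Q ∈ U ↔ ¬ J ≤ Q.asIdeal
    rw [hJ Q, not_not]
    rfl
  refine Groth.Agent.H24.PowDepth.restrict_bijective J U hW ?_
  rw [Groth.Agent.Lib.Depth.Local.idealDepth_eq_iInf J A]
  refine le_iInf₂ fun Q hQ => ?_
  let S := Localization.AtPrime Q.asIdeal
  let e : LocalizedModule Q.asIdeal.primeCompl A ≃ₗ[S] S :=
    (IsLocalizedModule.linearEquiv Q.asIdeal.primeCompl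
      (LocalizedModule.mkLinearMap Q.asIdeal.primeCompl A) (Algebra.linearMap A S)).extendScalarsOfIsLocalization
        Q.asIdeal.primeCompl S
  rw [Groth.Agent.Lib.Depth.Basic.depth_congr e]
  exact two_le_depth_localization C A hnorm Q (hU Q ((hJ Q).mp hQ))

end Groth.Agent.S11462
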