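import Groth.Statements.S11469
import Groth.Agent.Lib.ArtinFun.SqZeroTensor

set_option autoImplicit false
universe u
open scoped TensorProduct
open DefT

open Groth.Agent.Lib.ArtinFun

namespace Groth.Agent.S11469

/-- Let C' be a local Artin ring with maximal ideal m, J ⊊ C' a proper ideal with mJ = 0, A' a
C'-algebra, M' an A'-module flat over C', and M₀ = M'/mM'. Then (1) every A'-linear endomorphism σ
of M' that is the identity modulo JM' is bijective, and there is exactly one A'-linear τ : M₀ → M₀
⊗_{C'} J such that, for all x ∈ M' and all z ∈ M' ⊗_{C'} J mapping to σ(x) − x in M', the image of z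
in M₀ ⊗_{C'} J is τ applied to the class of x; and (2) every A'-linear τ : M₀ → M₀ ⊗_{C'} J comes in
this way from some such σ. Thus the automorphisms of the extension M' inducing the identity on
M'/JM' correspond to Hom(M₀, M₀ ⊗ J). -/
theorem result (C' : Type u) [CommRing C'] [IsLocalRing C']
    [IsArtinianRing C'] (J : Ideal C') (hJ : IsLocalRing.maximalIdeal C' * J = ⊥) (hJne : J ≠ ⊤)
    (A' : Type u) [CommRing A'] [Algebra C' A'] (M' : Type u) [AddCommGroup M'] [Module A' M'] [Module C' M']
    [IsScalarTower C' A' M'] [Module.Flat C' M'] :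
    (∀ σ : M' →ₗ[A'] M', (∀ x : M', σ x - x ∈ (J.map (algebraMap C' A')) • (⊤ : Submodule A' M')) →
      Function.Bijective σ ∧
        ∃! τ : (M' ⧸ ((IsLocalRing.maximalIdeal C').map (algebraMap C' A')) • (⊤ : Submodule A' M')) →ₗ[A'] ((M' ⧸ ((IsLocalRing.maximalIdeal C').map (algebraMap C' A')) • (⊤ : Submodule A' M')) ⊗[C'] ↥J),
          (∀ (x : M') (z : M' ⊗[C'] ↥J), TensorProduct.rid C' M' (LinearMap.lTensor M' (Submodule.subtype J) z) = σ x - x →
            LinearMap.rTensor ↥J ((Submodule.mkQ (((IsLocalRing.maximalIdeal C').map (algebraMap C' A')) • (⊤ : Submodule A' M'))).restrictScalars C') z =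
              τ (Submodule.mkQ _ x))) ∧
    (∀ τ : (M' ⧸ ((IsLocalRing.maximalIdeal C').map (algebraMap C' A')) • (⊤ : Submodule A' M')) →ₗ[A'] ((M' ⧸ ((IsLocalRing.maximalIdeal C').map (algebraMap C' A')) • (⊤ : Submodule A' M')) ⊗[C'] ↥J),
      ∃ σ : M' →ₗ[A'] M', (∀ x : M', σ x - x ∈ (J.map (algebraMap C' A')) • (⊤ : Submodule A' M')) ∧
          (∀ (x : M') (z : M' ⊗[C'] ↥J), TensorProduct.rid C' M' (LinearMap.lTensor M' (Submodule.subtype J) z) = σ x - x →
            LinearMap.rTensor ↥J ((Submodule.mkQ (((IsLocalRing.maximalIdeal C').map (algebraMap C' A')) • (⊤ : Submodule A' M'))).restrictScalars C') z =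
              τ (Submodule.mkQ _ x))) := by
  classical
  let J' : Submodule A' M' := J.map (algebraMap C' A') • ⊤
  let m' : Submodule A' M' := (IsLocalRing.maximalIdeal C').map (algebraMap C' A') • ⊤
  have hJm : J ≤ IsLocalRing.maximalIdeal C' := IsLocalRing.le_maximalIdeal hJne
  have hJ2 : J * J = ⊥ := le_bot_iff.1 ((Ideal.mul_mono_left hJm).trans hJ.le)
  let q : M' ⊗[C'] ↥J →ₗ[A'] (M' ⧸ m') ⊗[C'] ↥J :=
    TensorProduct.AlgebraTensorModule.rTensor C' ↥J m'.mkQ
  have hqbij : Function.Bijective q :=
    bijective_rTensor_mkQ (A := A') (M := M') J (IsLocalRing.maximalIdeal C') hJ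
  let e := LinearEquiv.ofBijective q hqbij
  constructor
  · intro σ hσ
    have hσ' : ∀ x, ∃ z, mulMap J A' M' z = σ x - x := fun x => by
      have hx := hσ x
      rw [← range_mulMap] at hx
      exact hx
    choose z hz using hσ'
    have hinj := mulMap_injective (A := A') (M := M') J
    let d : M' →ₗ[A'] M' := σ - LinearMap.id
    have hd : ∀ x, mulMap J A' M' (z x) = d x := hz
    have hdJ : ∀ y ∈ J', d y = 0 := by
      intro y hy
      have hle : J' ≤ LinearMap.ker d := map_smul_top_le J _ fun c hc x => by
        rw [LinearMap.mem_ker, LinearMap.map_smul_of_tower, ← hd x]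
        exact smul_mulMap J hJ2 c hc (z x)
      exact hle hy
    refine ⟨Function.bijective_iff_has_inverse.2 ⟨fun x => x - d x, fun x => ?_, fun x => ?_⟩, ?_⟩
    · show σ x - d (σ x) = x
      have hsx : σ x = x + d x := by simp [d]
      rw [hsx, map_add, hdJ (d x) (hσ x)]
      abel
    · show σ (x - d x) = x
      have h1 := hdJ (d x) (hσ x)
      have h2 : σ (d x) = d x := by
        have : σ (d x) = d x + d (d x) := by simp [d]
        rw [this, h1, add_zero]
      rw [map_sub, h2]
      simp [d]
    · have zlin_add : ∀ x y, z (x + y) = z x + z y := fun x y => hinj (by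
        rw [map_add, hd, hd, hd, map_add])
      have zlin_smul : ∀ (a : A') x, z (a • x) = a • z x := fun a x => hinj (by
        rw [map_smul, hd, hd, map_smul])
      let zl : M' →ₗ[A'] M' ⊗[C'] ↥J :=
        { toFun := z, map_add' := zlin_add, map_smul' := zlin_smul }
      have hker : m' ≤ LinearMap.ker (q ∘ₗ zl) :=
        map_smul_top_le (IsLocalRing.maximalIdeal C') _ fun c hc x => by
          show q (z (c • x)) = 0
          have : z (c • x) = 0 := hinj (by
            rw [map_zero, hd, LinearMap.map_smul_of_tower, ← hd x]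
            generalize z x = w
            induction w using TensorProduct.induction_on with
            | zero => simp
            | add a b ha hb => rw [map_add, smul_add, ha, hb, add_zero]
            | tmul a j =>
              have h0 : c * (j : C') ∈ IsLocalRing.maximalIdeal C' * J := Ideal.mul_mem_mul hc j.2
              rw [hJ, Ideal.mem_bot] at h0
              rw [mulMap_tmul, smul_smul, h0, zero_smul])
          rw [this, map_zero]
      refine ⟨m'.liftQ (q ∘ₗ zl) hker, fun x w hw => ?_, fun τ hτ => ?_⟩
      · have : w = z x := hinj (by rw [hd]; exact hw)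
        subst this
        rfl
      · ext x
        exact (hτ x (z x) (hz x)).symm
  · intro τ
    let δ : M' →ₗ[A'] M' := mulMap J A' M' ∘ₗ e.symm.toLinearMap ∘ₗ τ ∘ₗ m'.mkQ
    refine ⟨LinearMap.id + δ, fun x => ?_, fun x w hw => ?_⟩
    · have : δ x ∈ LinearMap.range (mulMap J A' M') := ⟨_, rfl⟩
      rw [range_mulMap] at this
      simpa using this
    · have hw' : mulMap J A' M' w = δ x := by
        rw [mulMap_eq, hw]
        simp
      have : w = e.symm (τ (m'.mkQ x)) := mulMap_injective J hw'
      subst this
      exact e.apply_symm_apply _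

end Groth.Agent.S11469
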