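import Groth.Statements.S9432
import Groth.Agent.Lib.QFRefine.Scheme

set_option autoImplicit false
universe u
open CAlg

namespace Groth.Agent.S9432

open CategoryTheory CategoryTheory.Limits AlgebraicGeometry

/-- For a faithfully flat ring map R → S of finite presentation there is a quasi-finite (of finite type
with finite fibres), faithfully flat, finitely presented R-algebra S' together with an R-algebra map
S → S'. -/
theorem result (R : Type u) [CommRing R]
    (S : Type u) [CommRing S] [Algebra R S] [Module.FaithfullyFlat R S]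
    [Algebra.FinitePresentation R S] :
    ∃ (S' : Type u) (_ : CommRing S') (_ : Algebra R S'),
      Algebra.QuasiFinite R S' ∧ Algebra.FiniteType R S' ∧ Module.FaithfullyFlat R S' ∧
        Algebra.FinitePresentation R S' ∧ Nonempty (S →ₐ[R] S') := by
  let f : Spec (CommRingCat.of S) ⟶ Spec (CommRingCat.of R) :=
    Spec.map (CommRingCat.ofHom (algebraMap R S))
  have hsurj : Function.Surjective (PrimeSpectrum.comap (algebraMap R S)) :=
    PrimeSpectrum.comap_surjective_of_faithfullyFlat
  have : Flat f := (HasRingHomProperty.Spec_iff (P := @Flat)).2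
    (RingHom.flat_algebraMap_iff.2 inferInstance)
  have : LocallyOfFinitePresentation f :=
    (HasRingHomProperty.Spec_iff (P := @LocallyOfFinitePresentation)).2
      (RingHom.finitePresentation_algebraMap.2 inferInstance)
  have : Surjective f := ⟨hsurj⟩
  obtain ⟨Z, g, h, hgf, h1, h2, h3, h4, hcompact⟩ :=
    Groth.Agent.Lib.QFRefine.Scheme.exists_cover f
  have : IsAffine Z := hcompact inferInstance
  let ψ : CommRingCat.of R ⟶ Γ(Z, ⊤) := Spec.preimage (Z.isoSpec.inv ≫ g)
  let θ : CommRingCat.of S ⟶ Γ(Z, ⊤) := Spec.preimage (Z.isoSpec.inv ≫ h)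
  let A : Algebra R Γ(Z, ⊤) := ψ.hom.toAlgebra
  have hψ : Spec.map ψ = Z.isoSpec.inv ≫ g := Spec.map_preimage _
  have q1 : ψ.hom.Flat := (HasRingHomProperty.Spec_iff (P := @Flat)).1 (hψ ▸ inferInstance)
  have q2 : ψ.hom.FinitePresentation :=
    (HasRingHomProperty.Spec_iff (P := @LocallyOfFinitePresentation)).1 (hψ ▸ inferInstance)
  have q3 : ψ.hom.QuasiFinite :=
    (HasRingHomProperty.Spec_iff (P := @LocallyQuasiFinite)).1 (hψ ▸ inferInstance)
  have q4 : Surjective (Spec.map ψ) := hψ ▸ inferInstance
  have hθ : CommRingCat.ofHom (algebraMap R S) ≫ θ = ψ := Spec.map_injective (by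
    rw [Spec.map_comp, Spec.map_preimage, Category.assoc, hψ]
    exact congrArg (Z.isoSpec.inv ≫ ·) hgf)
  refine ⟨Γ(Z, ⊤), inferInstance, A, RingHom.quasiFinite_algebraMap.1 q3,
    RingHom.finiteType_algebraMap.1 (RingHom.FiniteType.of_finitePresentation q2), ?_, RingHom.finitePresentation_algebraMap.1 q2,
    ⟨{ θ.hom with commutes' := fun r => congr($(hθ).hom r) }⟩⟩
  have : Module.Flat R Γ(Z, ⊤) := RingHom.flat_algebraMap_iff.1 q1
  exact Module.FaithfullyFlat.of_comap_surjective q4.surj

end Groth.Agent.S9432
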