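import Groth.Statements.S1147
import Groth.Agent.S9432
import Mathlib.RingTheory.Jacobson.Ring
import Mathlib.RingTheory.QuasiFinite.Basic
import Mathlib.RingTheory.Ideal.GoingDown

set_option autoImplicit false
set_option backward.isDefEq.respectTransparency false
set_option backward.isDefEq.respectTransparency.types false
universe u
open Desc

namespace Groth.Agent.S1147

/-- Let A → B be a faithfully flat ring map of finite presentation. If B is a Jacobson ring then so is
A. (This is the affine descent direction of the statement that the Jacobson property is fppf local.) -/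
theorem result (A B : Type u) [CommRing A] [CommRing B] [Algebra A B]
    [Module.FaithfullyFlat A B] [Algebra.FinitePresentation A B] [IsJacobsonRing B] : IsJacobsonRing A := by
  obtain ⟨C, _, _, hqf, hft, hff, -, ⟨φ⟩⟩ := Groth.Agent.S9432.result A B
  letI : Algebra B C := φ.toRingHom.toAlgebra
  haveI : IsScalarTower A B C := IsScalarTower.of_algebraMap_eq fun a => (φ.commutes a).symm
  haveI : Algebra.FiniteType B C := Algebra.FiniteType.of_restrictScalars_finiteType A B C
  haveI : IsJacobsonRing C := isJacobsonRing_of_finiteType (A := B) (B := C)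
  rw [isJacobsonRing_iff_prime_eq]
  intro P hP
  refine le_antisymm (fun f hf => ?_) Ideal.le_jacobson
  by_contra hfP
  let L := Localization.Away f
  have hdisj : ∀ {q : Ideal A}, q.IsPrime → f ∉ q → Disjoint ↑(Submonoid.powers f) (q : Set A) := by
    intro q hq hfq
    rw [Set.disjoint_left]
    rintro _ ⟨n, rfl⟩ h
    exact hfq (hq.mem_of_pow_mem n h)
  have hPd := hdisj hP hfP
  have hPn := IsLocalization.isPrime_of_isPrime_disjoint (Submonoid.powers f) L P hP hPd
  obtain ⟨M, hM, hPM⟩ := Ideal.exists_le_maximal _ hPn.ne_top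
  let Q := M.comap (algebraMap A L)
  haveI hQ : Q.IsPrime := Ideal.IsPrime.comap _
  have hPQ : P ≤ Q := (Ideal.le_comap_map).trans (Ideal.comap_mono hPM)
  have hfQ : f ∉ Q := fun h => hM.ne_top (Ideal.eq_top_of_isUnit_mem _ h
    (IsLocalization.map_units L ⟨f, Submonoid.mem_powers f⟩))
  have hmax : ∀ q : Ideal A, q.IsPrime → Q ≤ q → f ∉ q → q = Q := by
    intro q hq hQq hfq
    have hqd := hdisj hq hfq
    have h1 : M ≤ q.map (algebraMap A L) := by
      rw [← IsLocalization.map_under (Submonoid.powers f) L M]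
      exact Ideal.map_mono hQq
    have h2 := hM.eq_of_le (IsLocalization.isPrime_of_isPrime_disjoint (Submonoid.powers f) L q hq hqd).ne_top h1
    show q = M.comap _
    rw [h2]
    exact (IsLocalization.under_map_of_isPrime_disjoint (Submonoid.powers f) L hq hqd).symm
  have hall : ∀ n : Ideal C, n.IsPrime → n.under A = Q → n.IsMaximal := by
    intro n hn hnQ
    have hfn : algebraMap A C f ∉ n.jacobson := by
      rw [isJacobsonRing_iff_prime_eq.1 inferInstance n hn]
      exact fun h => hfQ (hnQ ▸ h)
    rw [Ideal.jacobson, Ideal.mem_sInf] at hfn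
    push Not at hfn
    obtain ⟨m, ⟨hnm, hm⟩, hfm⟩ := hfn
    haveI := hm.isPrime
    have hmQ : m.under A = Q := hmax _ inferInstance (hnQ ▸ Ideal.comap_mono hnm) hfm
    rwa [Algebra.QuasiFinite.eq_of_le_of_under_eq (R := A) n m hnm (hnQ.trans hmQ.symm)]
  have hQmax : Q.IsMaximal := by
    obtain ⟨q, hq, hQq⟩ := Ideal.exists_le_maximal Q hQ.ne_top
    rcases lt_or_eq_of_le hQq with h | h
    · exfalso
      haveI := hq.isPrime
      obtain ⟨n', hn'⟩ := PrimeSpectrum.comap_surjective_of_faithfullyFlat (A := A) (B := C) ⟨q, hq.isPrime⟩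
      haveI : n'.asIdeal.LiesOver q := ⟨(congrArg PrimeSpectrum.asIdeal hn').symm⟩
      obtain ⟨n, hnle, hn, hnQ⟩ := Ideal.exists_ideal_lt_liesOver_of_lt (p := Q) (q := q) n'.asIdeal h
      haveI := hq.isPrime
      exact hnle.ne ((hall n hn hnQ.over.symm).eq_of_le n'.isPrime.ne_top hnle.le)
    · exact h ▸ hq
  rw [Ideal.jacobson, Ideal.mem_sInf] at hf
  exact hfQ (hf ⟨hPQ, hQmax⟩)

end Groth.Agent.S1147
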