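import Groth.Statements.S11470
import Mathlib.FieldTheory.RatFunc.IntermediateField
import Mathlib.FieldTheory.Galois.Basic
import Mathlib.RingTheory.IntegralClosure.IntegrallyClosed
import Mathlib.RingTheory.UniqueFactorizationDomain.GCDMonoid

set_option autoImplicit false
universe u
open Curves

namespace Groth.Agent.S11470

open scoped IntermediateField.algebraAdjoinAdjoin

/-- Facts about a rational function `j` over which the variable is a root of a monic sextic. -/
theorem adjoin_facts {k : Type u} [Field k] (j : RatFunc k) (c : k) (hc : c ≠ 0)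
    (hj : (RatFunc.X ^ 2 - RatFunc.X + 1) ^ 3 =
      algebraMap k (RatFunc k) c * j * (RatFunc.X ^ 2 * (RatFunc.X - 1) ^ 2)) :
    IsIntegral (Algebra.adjoin k ({j} : Set (RatFunc k))) (RatFunc.X : RatFunc k) ∧
    IsIntegrallyClosed (Algebra.adjoin k ({j} : Set (RatFunc k))) ∧
    FiniteDimensional (IntermediateField.adjoin k ({j} : Set (RatFunc k))) (RatFunc k) ∧
    Module.finrank (IntermediateField.adjoin k ({j} : Set (RatFunc k))) (RatFunc k) ≤ 6 := by
  open Polynomial in
  have key : ∀ (A : Type u) [CommRing A] [Nontrivial A] [Algebra A (RatFunc k)] (a : A),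
      algebraMap A (RatFunc k) a = algebraMap k (RatFunc k) c * j →
      ∃ p : A[X], p.Monic ∧ p.natDegree = 6 ∧ aeval (RatFunc.X : RatFunc k) p = 0 := fun A _ _ _ a ha => by
    refine ⟨(X ^ 2 - X + 1) ^ 3 - C a * (X ^ 2 * (X - 1) ^ 2), ?_, ?_, ?_⟩
    · have h1 : ((X ^ 2 - X + 1 : A[X]) ^ 3).Monic := by monicity!
      refine h1.sub_of_left (degree_lt_degree ?_)
      have : ((X ^ 2 - X + 1 : A[X]) ^ 3).natDegree = 6 := by
        rw [Monic.natDegree_pow (by monicity!)]
        have : (X ^ 2 - X + 1 : A[X]).natDegree = 2 := by compute_degree!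
        omega
      rw [this]
      calc (C a * (X ^ 2 * (X - 1) ^ 2)).natDegree ≤ 4 := by compute_degree
        _ < 6 := by norm_num
    · have : ((X ^ 2 - X + 1 : A[X]) ^ 3).natDegree = 6 := by
        rw [Monic.natDegree_pow (by monicity!)]
        have : (X ^ 2 - X + 1 : A[X]).natDegree = 2 := by compute_degree!
        omega
      rw [natDegree_sub_eq_left_of_natDegree_lt, this]
      rw [this]
      calc (C a * (X ^ 2 * (X - 1) ^ 2)).natDegree ≤ 4 := by compute_degree
        _ < 6 := by norm_num
    · simp only [map_sub, map_add, map_mul, map_pow, aeval_X, aeval_C, map_one, ha]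
      rw [hj, sub_self]
  have hne : ¬ ∃ d, j = RatFunc.C d := by
    rintro ⟨d, rfl⟩
    obtain ⟨p, hp, -, hp0⟩ := key k (c * d) (by rw [map_mul]; rfl)
    exact RatFunc.transcendental_X ⟨p, hp.ne_zero, hp0⟩
  have hjA : j ∈ Algebra.adjoin k ({j} : Set (RatFunc k)) := Algebra.self_mem_adjoin_singleton k j
  obtain ⟨p, hp, -, hp0⟩ := key (Algebra.adjoin k ({j} : Set (RatFunc k)))
    ⟨algebraMap k (RatFunc k) c * j, Subalgebra.mul_mem _ (Subalgebra.algebraMap_mem _ c) hjA⟩ rfl
  have : UniqueFactorizationMonoid (Algebra.adjoin k ({j} : Set (RatFunc k))) :=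
    (j.transcendental_of_ne_C hne).uniqueFactorizationMonoid_adjoin
  set E := IntermediateField.adjoin k ({j} : Set (RatFunc k))
  obtain ⟨q, hq, hqd, hq0⟩ := key E
    ⟨algebraMap k (RatFunc k) c * j, mul_mem (IntermediateField.algebraMap_mem _ c)
      (IntermediateField.mem_adjoin_simple_self k j)⟩ rfl
  have hXE : IsIntegral E (RatFunc.X : RatFunc k) := ⟨q, hq, hq0⟩
  let e := RatFunc.IntermediateField.adjoinXEquiv E
  have : FiniteDimensional E (IntermediateField.adjoin E ({RatFunc.X} : Set (RatFunc k))) :=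
    IntermediateField.adjoin.finiteDimensional hXE
  refine ⟨⟨p, hp, hp0⟩, inferInstance, LinearEquiv.finiteDimensional e.toLinearEquiv, ?_⟩
  rw [← e.toLinearEquiv.finrank_eq, IntermediateField.adjoin.finrank hXE, ← hqd]
  exact Polynomial.natDegree_le_natDegree (minpoly.min E RatFunc.X hq hq0)

/-- A field automorphism group containing elements of orders two and three forces degree at least six. -/
theorem six_le_finrank {F K : Type u} [Field F] [Field K] [Algebra F K] [FiniteDimensional F K]
    (s t : K ≃ₐ[F] K) (hs : s ≠ 1) (hs2 : s ^ 2 = 1) (ht : t ≠ 1) (ht3 : t ^ 3 = 1) : 6 ≤ Module.finrank F K := by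
  have h2 : orderOf s ∣ Fintype.card (K ≃ₐ[F] K) := orderOf_dvd_card
  have h3 : orderOf t ∣ Fintype.card (K ≃ₐ[F] K) := orderOf_dvd_card
  rw [orderOf_eq_prime hs2 hs] at h2
  rw [orderOf_eq_prime ht3 ht] at h3
  have := AlgEquiv.card_le (F := F) (K := K)
  have hpos : 0 < Fintype.card (K ≃ₐ[F] K) := Fintype.card_pos
  omega

/-- The algebraic step of its proof: Fix an algebraically closed field k whose characteristic is neither
2 nor 3, let B ⊆ k(λ) be the k-subalgebra generated by λ, λ⁻¹ and (λ - 1)⁻¹ (the coordinate ring of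
the λ-line with 0 and 1 removed), and let σ and τ be the k-algebra automorphisms of k(λ) determined
by σ(λ) = λ⁻¹ and τ(λ) = 1 - λ (they generate the group of order six permuting λ, 1/λ, 1-λ, 1/(1-λ),
λ/(λ-1), (λ-1)/λ). Then the elements of B fixed by σ and τ are exactly the elements of the
k-subalgebra generated by j = 256 (λ² - λ + 1)³ / (λ² (λ - 1)²); in other words the ring of
invariants of B is the polynomial ring k[j]. -/
theorem result (k : Type u) [Field k] [IsAlgClosed k]
    (h2 : (2 : k) ≠ 0) (h3 : (3 : k) ≠ 0)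
    (σ τ : RatFunc k ≃ₐ[k] RatFunc k) (hσ : σ RatFunc.X = (RatFunc.X : RatFunc k)⁻¹)
    (hτ : τ RatFunc.X = 1 - (RatFunc.X : RatFunc k)) (b : RatFunc k) :
    (b ∈ Algebra.adjoin k ({RatFunc.X, (RatFunc.X : RatFunc k)⁻¹, ((RatFunc.X : RatFunc k) - 1)⁻¹} : Set (RatFunc k)) ∧
        σ b = b ∧ τ b = b) ↔
      b ∈ Algebra.adjoin k ({(256 : RatFunc k) * ((RatFunc.X : RatFunc k) ^ 2 - RatFunc.X + 1) ^ 3 /
        ((RatFunc.X : RatFunc k) ^ 2 * ((RatFunc.X : RatFunc k) - 1) ^ 2)} : Set (RatFunc k)) := by
  set x : RatFunc k := RatFunc.X with hx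
  set j : RatFunc k := (256 : RatFunc k) * (x ^ 2 - x + 1) ^ 3 / (x ^ 2 * (x - 1) ^ 2) with hj
  have hpoly : ∀ p : Polynomial k, Polynomial.aeval x p = 0 → p = 0 := fun p hp =>
    transcendental_iff.mp RatFunc.transcendental_X p hp
  have hx0 : x ≠ 0 := RatFunc.X_ne_zero
  have hx1 : x - 1 ≠ 0 := fun h => by
    have := hpoly (Polynomial.X - 1) (by simpa using h)
    exact Polynomial.X_sub_C_ne_zero (1 : k) (by simpa using this)
  have hx1' : (1 : RatFunc k) - x ≠ 0 := fun h => hx1 (by rw [← neg_sub, h, neg_zero])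
  have hx2 : x ^ 2 - x + 1 ≠ 0 := fun h => by
    have := hpoly (Polynomial.X ^ 2 - Polynomial.X + 1) (by simpa using h)
    simpa using congrArg (Polynomial.coeff · 0) this
  have h256 : (256 : RatFunc k) ≠ 0 := by
    have : (256 : k) ≠ 0 := by
      rw [show (256 : k) = 2 ^ 8 by norm_num]; exact pow_ne_zero _ h2
    rw [← map_ofNat (algebraMap k (RatFunc k)) 256]
    exact (map_ne_zero _).mpr this
  have hσj : σ j = j := by
    simp only [hj, map_div₀, map_mul, map_pow, map_sub, map_add, map_one, map_ofNat, hσ]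
    rw [show x⁻¹ ^ 2 - x⁻¹ + 1 = (x ^ 2 - x + 1) / x ^ 2 by field_simp; ring,
      show x⁻¹ - 1 = -(x - 1) / x by field_simp; ring]
    field_simp
  have hτj : τ j = j := by
    simp only [hj, map_div₀, map_mul, map_pow, map_sub, map_add, map_one, map_ofNat, hτ]
    rw [show (1 - x) ^ 2 - (1 - x) + 1 = x ^ 2 - x + 1 by ring]
    congr 1
    ring
  have hrel : (x ^ 2 - x + 1) ^ 3 = algebraMap k (RatFunc k) (256 : k)⁻¹ * j * (x ^ 2 * (x - 1) ^ 2) := by
    rw [map_inv₀, map_ofNat, hj]
    field_simp
  obtain ⟨hint, hicl, hfin, hrank⟩ := adjoin_facts j (256 : k)⁻¹ (inv_ne_zero fun h => h256 (by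
    rw [← map_ofNat (algebraMap k (RatFunc k)) 256, h, map_zero])) hrel
  constructor
  · rintro ⟨hb, hbσ, hbτ⟩
    set A := Algebra.adjoin k ({j} : Set (RatFunc k)) with hA
    set E := IntermediateField.adjoin k ({j} : Set (RatFunc k)) with hE
    have hfix : ∀ (g : RatFunc k ≃ₐ[k] RatFunc k), g j = j → ∀ z, IsIntegral A z → IsIntegral A (g z) := by
      intro g hg z hz
      have hgA : ∀ a : A, g (a : RatFunc k) = a := by
        rintro ⟨a, ha⟩
        induction ha using Algebra.adjoin_induction with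
        | mem y hy => obtain rfl := hy; exact hg
        | algebraMap r => exact g.commutes r
        | add a b _ _ ha hb => simp only [map_add, ha, hb]
        | mul a b _ _ ha hb => simp only [map_mul, ha, hb]
      let gA : RatFunc k →ₐ[A] RatFunc k := { (g : RatFunc k →+* RatFunc k) with commutes' := hgA }
      exact hz.map gA
    have hi1 : IsIntegral A x⁻¹ := hσ ▸ hfix σ hσj x hint
    have hi2 : IsIntegral A (x - 1)⁻¹ := by
      have h := hfix τ hτj _ hi1
      rw [map_inv₀, hτ, ← neg_sub, inv_neg] at h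
      simpa using h.neg
    have hbint : IsIntegral A b := by
      clear hbσ hbτ
      induction hb using Algebra.adjoin_induction with
      | mem y hy =>
        rcases hy with rfl | rfl | rfl
        · exact hint
        · exact hi1
        · exact hi2
      | algebraMap r =>
        rw [IsScalarTower.algebraMap_apply k A (RatFunc k) r]
        exact isIntegral_algebraMap
      | add a b _ _ ha hb => exact ha.add hb
      | mul a b _ _ ha hb => exact ha.mul hb
    let G : Subgroup (RatFunc k ≃ₐ[k] RatFunc k) := Subgroup.closure {σ, τ}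
    let F := IntermediateField.fixedField G
    have hmem : ∀ z, σ z = z → τ z = z → z ∈ F := fun z hz1 hz2 g => by
      obtain ⟨g, hg⟩ := g
      show g z = z
      induction hg using Subgroup.closure_induction with
      | mem y hy => rcases hy with rfl | rfl <;> assumption
      | one => rfl
      | mul a b _ _ ha hb => rw [AlgEquiv.mul_apply, hb, ha]
      | inv a _ ha =>
        conv_lhs => rw [← ha]
        exact a.symm_apply_apply z
    have hEF : E ≤ F := IntermediateField.adjoin_simple_le_iff.mpr (hmem j hσj hτj)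
    let _ : Algebra E F := (IntermediateField.inclusion hEF).toRingHom.toAlgebra
    have : IsScalarTower E F (RatFunc k) := .of_algebraMap_eq fun _ => rfl
    have : FiniteDimensional F (RatFunc k) := FiniteDimensional.right E F (RatFunc k)
    let lift : G → (RatFunc k ≃ₐ[F] RatFunc k) := fun g =>
      { (g.1 : RatFunc k ≃+* RatFunc k) with commutes' := fun r => r.2 g }
    have hσG : σ ∈ G := Subgroup.subset_closure (Or.inl rfl)
    have hτG : τ ∈ G := Subgroup.subset_closure (Or.inr rfl)
    let s := lift ⟨σ, hσG⟩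
    let t := lift ⟨σ, hσG⟩ * lift ⟨τ, hτG⟩
    have hext : ∀ (g : RatFunc k ≃ₐ[F] RatFunc k), g x = x → g = 1 := fun g hg => AlgEquiv.ext fun z => by
      have hC : ∀ p : Polynomial k, g (Polynomial.aeval x p) = Polynomial.aeval x p := fun p => by
        conv_rhs => rw [← hg]
        exact (Polynomial.aeval_algHom_apply ((g.restrictScalars k).toAlgHom) x p).symm
      rw [← RatFunc.num_div_denom z, ← RatFunc.aeval_X_left_eq_algebraMap, ← RatFunc.aeval_X_left_eq_algebraMap,
        map_div₀, hC, hC]
      rfl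
    have hs1 : s x = x⁻¹ := hσ
    have ht1 : t x = 1 - x⁻¹ := by
      show σ (τ x) = _
      rw [hτ, map_sub, map_one, hσ]
    have hrk : 6 ≤ Module.finrank F (RatFunc k) := by
      refine six_le_finrank s t (fun h => ?_) (hext _ ?_) (fun h => ?_) (hext _ ?_)
      · have h1 : x⁻¹ = x := by rw [← hs1, h]; rfl
        have := hpoly (Polynomial.X ^ 2 - 1) (by
          rw [map_sub, map_pow, Polynomial.aeval_X, map_one]
          field_simp at h1
          linear_combination -h1)
        simpa using congrArg (Polynomial.coeff · 0) this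
      · rw [pow_two, AlgEquiv.mul_apply, hs1, map_inv₀, hs1, inv_inv]
      · have h1 : 1 - x⁻¹ = x := by rw [← ht1, h]; rfl
        apply hx2
        field_simp at h1
        linear_combination -h1
      · rw [show (t ^ 3) = t * (t * t) by simp [pow_succ, mul_assoc]]
        show t (t (t x)) = x
        rw [ht1,
          map_sub, map_one, map_inv₀, ht1, map_sub, map_one, map_inv₀, map_sub, map_one, map_inv₀, ht1]
        field_simp
        ring
    have hEeqF : E = F := IntermediateField.eq_of_le_of_finrank_le' hEF (hrank.trans hrk)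
    have hbE : b ∈ E := hEeqF ▸ hmem b hbσ hbτ
    have : IsIntegral A (⟨b, hbE⟩ : E) :=
      (isIntegral_algHom_iff (IsScalarTower.toAlgHom A E (RatFunc k)) Subtype.val_injective).mp hbint
    obtain ⟨a, ha⟩ := IsIntegrallyClosed.isIntegral_iff.mp this
    have : (a : RatFunc k) = b := congrArg Subtype.val ha
    exact this ▸ a.2
  · intro hb
    have hjB : j ∈ Algebra.adjoin k ({x, x⁻¹, (x - 1)⁻¹} : Set (RatFunc k)) := by
      have hxB : x ∈ Algebra.adjoin k ({x, x⁻¹, (x - 1)⁻¹} : Set (RatFunc k)) := Algebra.subset_adjoin (Or.inl rfl)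
      have hB1 : x⁻¹ ∈ Algebra.adjoin k ({x, x⁻¹, (x - 1)⁻¹} : Set (RatFunc k)) :=
        Algebra.subset_adjoin (Set.mem_insert_of_mem _ (Set.mem_insert _ _))
      have hB2 : (x - 1)⁻¹ ∈ Algebra.adjoin k ({x, x⁻¹, (x - 1)⁻¹} : Set (RatFunc k)) :=
        Algebra.subset_adjoin (Set.mem_insert_of_mem _ (Set.mem_insert_of_mem _ (Set.mem_singleton _)))
      rw [hj, div_eq_mul_inv, mul_inv, ← inv_pow, ← inv_pow]
      refine mul_mem (mul_mem ?_ (pow_mem (add_mem (sub_mem (pow_mem hxB 2) hxB) (one_mem _)) 3))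
        (mul_mem (pow_mem hB1 2) (pow_mem hB2 2))
      exact natCast_mem _ 256
    induction hb using Algebra.adjoin_induction with
    | mem y hy => obtain rfl := hy; exact ⟨hjB, hσj, hτj⟩
    | algebraMap r => exact ⟨Subalgebra.algebraMap_mem _ r, σ.commutes r, τ.commutes r⟩
    | add a b _ _ ha hb => exact ⟨add_mem ha.1 hb.1, by rw [map_add, ha.2.1, hb.2.1], by rw [map_add, ha.2.2, hb.2.2]⟩
    | mul a b _ _ ha hb => exact ⟨mul_mem ha.1 hb.1, by rw [map_mul, ha.2.1, hb.2.1], by rw [map_mul, ha.2.2, hb.2.2]⟩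

end Groth.Agent.S11470
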