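import Groth.Statements.S11472
import Groth.Agent.H34.GenusZero.Family
-- import your own Groth.Agent.* helpers here

set_option autoImplicit false
universe u
open CategoryTheory CategoryTheory.Limits AlgebraicGeometry
open Curves

namespace Groth.Agent.S11472

open Groth.Agent Groth.Agent.Lib Groth.Agent.Lib.ProjSpace.BaseChange

theorem exists_algClosed (K : Type u) [Field K] :
    ∃ (L : Type u) (_ : Field L) (_ : IsAlgClosed L) (ι : K →+* L), Function.Injective ι :=
  ⟨AlgebraicClosure K, inferInstance, inferInstance, algebraMap K _, RingHom.injective _⟩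

theorem facts_at {X S : Scheme.{u}} (f : X ⟶ S) [Smooth f] [IsProper f] {L : Type u} [Field L]
    (y : Spec (CommRingCat.of L) ⟶ S) (hdim : topologicalKrullDim ↥(pullback f y) = 1)
    (hgen : @Curv2.genus L _ (pullback f y) ⟨pullback.snd f y⟩ = 0) (t : Spec (CommRingCat.of L)) :
    topologicalKrullDim ↥(f.fiber (y t)) = 1 ∧
      CohIII.fiberRank f (Coh.structureModule X) 1 (y t) = 0 := by
  let p := pullback.snd f y
  have hsq := IsPullback.of_hasPullback f y
  refine ⟨?_, ?_⟩
  · rw [← H34.AbelMono.dim_fiber_baseChange f hsq t]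
    exact (@H56.DimBaseChange.topologicalKrullDim_baseChange _ _ _ _ _ _
      ((Spec (CommRingCat.of L)).fromSpecResidueField t) p (p.fiberToSpecResidueField t) (p.fiberι t)
      (IsPullback.of_hasPullback p ((Spec (CommRingCat.of L)).fromSpecResidueField t)) inferInstance).trans hdim
  · have hO := TensorMod.LocFree.of_rank (TensorMod.LocFree.of_isInvertible
      (PicLoc.isInvertible_structureModule X))
    haveI : (Coh.structureModule X).IsQuasicoherent :=
      TensorMod.QCohInv.isQCoh_of_isInvertible (PicLoc.isInvertible_structureModule X)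
    have h := ExchangeFP29.FieldPoint.fiberRank_baseChange f (Coh.structureModule X)
      (TensorMod.FPConv.isFP_of_isFinLocFree hO)
      (_root_.ZarCoh.Exchange.NearFibre.isFlatOver_of_isFinLocFree f hO) y (pullback.fst f y) p hsq 1 t
    rw [H34.PicDegree.fiberRank_congr _ (PicLoc.pullbackStructureIso (pullback.fst f y)),
      H34.Elliptic.OverField.fiberRank_eq] at h
    exact h.symm.trans hgen

theorem facts_of_residue {X S : Scheme.{u}} (f : X ⟶ S) [Smooth f] [IsProper f] (z : S) {L : Type u} [Field L]
    (ι : S.residueField z →+* L)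
    (hdim : topologicalKrullDim
      ↥(pullback f (Spec.map (CommRingCat.ofHom ι) ≫ S.fromSpecResidueField z)) = 1)
    (hgen : @Curv2.genus L _ (pullback f (Spec.map (CommRingCat.ofHom ι) ≫ S.fromSpecResidueField z))
      ⟨pullback.snd f (Spec.map (CommRingCat.ofHom ι) ≫ S.fromSpecResidueField z)⟩ = 0) :
    topologicalKrullDim ↥(f.fiber z) = 1 ∧ CohIII.fiberRank f (Coh.structureModule X) 1 z = 0 := by
  have h := facts_at f (Spec.map (CommRingCat.ofHom ι) ≫ S.fromSpecResidueField z) hdim hgen
    (IsLocalRing.closedPoint L)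
  rw [Scheme.Hom.comp_apply, Scheme.fromSpecResidueField_apply] at h
  exact h

/-- Let f : X → S be a family of pointed curves of genus zero: f is smooth and proper, every geometric
fibre (base change to an algebraically closed field) is an integral scheme of dimension one with H¹
of its structure sheaf zero, and σ : S → X is a section of f. Then the family is Zariski-locally
trivial: every point of S has an affine open neighbourhood Spec R over which the restricted family
is R-isomorphic to P¹_R. (The published statement asks only that f be flat with such geometric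
fibres, over an arbitrary base; this row assumes f smooth and proper and S locally Noetherian.) -/
theorem result {X S : Scheme.{u}} (f : X ⟶ S) [Smooth f] [IsProper f]
    [IsLocallyNoetherian S]
    (hfib : ∀ (K : Type u) [Field K] [IsAlgClosed K] (x : Spec (CommRingCat.of K) ⟶ S),
      IsIntegral (pullback f x) ∧ topologicalKrullDim ↥(pullback f x) = 1 ∧
        @Curv2.genus K _ (pullback f x) ⟨pullback.snd f x⟩ = 0)
    (σ : S ⟶ X) (hσ : σ ≫ f = 𝟙 S) (s : S) :
    ∃ (R : Type u) (_ : CommRing R) (i : Spec (CommRingCat.of R) ⟶ S), IsOpenImmersion i ∧ s ∈ Set.range i.base ∧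
      ∃ e : pullback f i ≅ CohB1.ProjSpace 1 R, e.hom ≫ CohB1.ProjSpace.toSpec 1 R = pullback.snd f i := by
  haveI hconn : GeometricallyConnected f := ⟨fun K _ y P p q hP => by
    let L := AlgebraicClosure K
    let b : Spec (CommRingCat.of L) ⟶ Spec (CommRingCat.of K) :=
      Spec.map (CommRingCat.ofHom (algebraMap K L))
    haveI : IsIntegral (pullback f (b ≫ y)) := (hfib L (b ≫ y)).1
    haveI : Nonempty (PrimeSpectrum L) := inferInstance
    haveI : Surjective b := ⟨fun z => ⟨IsLocalRing.closedPoint L, Subsingleton.elim (α := PrimeSpectrum K) _ _⟩⟩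
    let a : pullback f (b ≫ y) ⟶ P :=
      hP.lift (pullback.fst _ _) (pullback.snd _ _ ≫ b) (by rw [Category.assoc]; exact pullback.condition)
    have ha : IsPullback a (pullback.snd f (b ≫ y)) q b :=
      IsPullback.of_right (h₁₁ := a) (by rw [hP.lift_fst]; exact IsPullback.of_hasPullback f (b ≫ y))
        (hP.lift_snd _ _ _) hP
    haveI : Surjective a := MorphismProperty.of_isPullback ha.flip ‹Surjective b›
    exact a.surjective.connectedSpace a.continuous⟩
  have hfacts : ∀ z : S, topologicalKrullDim ↥(f.fiber z) = 1 ∧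
      CohIII.fiberRank f (Coh.structureModule X) 1 z = 0 := fun z => by
    obtain ⟨L, _, _, ι, -⟩ := exists_algClosed (S.residueField z)
    let y : Spec (CommRingCat.of L) ⟶ S :=
      Spec.map (CommRingCat.ofHom ι) ≫ S.fromSpecResidueField z
    obtain ⟨hint, hdim, hgen⟩ := hfib L y
    exact facts_of_residue f z ι hdim hgen
  obtain ⟨V, hV, hsV, -⟩ := exists_isAffineOpen_mem_and_subset (U := ⊤) (x := s) trivial
  let iA := hV.fromSpec
  haveI : IsNoetherianRing Γ(S, V) := IsLocallyNoetherian.component_noetherian ⟨V, hV⟩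
  let f' := pullback.snd f iA
  haveI : IsProper f' := MorphismProperty.pullback_snd _ _ ‹IsProper f›
  haveI : Smooth f' := MorphismProperty.pullback_snd _ _ ‹Smooth f›
  haveI : GeometricallyConnected f' := MorphismProperty.pullback_snd _ _ hconn
  have hsq := IsPullback.of_hasPullback f iA
  let σ' := pullback.lift (iA ≫ σ) (𝟙 _) (by rw [Category.assoc, hσ, Category.comp_id, Category.id_comp])
  let x := hV.primeIdealOf ⟨s, hsV⟩
  have hx : iA x = s := hV.fromSpec_primeIdealOf ⟨s, hsV⟩
  have hg' : ∀ t, CohIII.fiberRank f' (Coh.structureModule _) 1 t = 0 := fun t => by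
    have hO := TensorMod.LocFree.of_rank (TensorMod.LocFree.of_isInvertible
      (PicLoc.isInvertible_structureModule X))
    haveI : (Coh.structureModule X).IsQuasicoherent :=
      TensorMod.QCohInv.isQCoh_of_isInvertible (PicLoc.isInvertible_structureModule X)
    have h := ExchangeFP29.FieldPoint.fiberRank_baseChange f (Coh.structureModule X)
      (TensorMod.FPConv.isFP_of_isFinLocFree hO)
      (_root_.ZarCoh.Exchange.NearFibre.isFlatOver_of_isFinLocFree f hO) iA (pullback.fst f iA) f' hsq 1 t
    rw [(hfacts _).2, H34.PicDegree.fiberRank_congr _ (PicLoc.pullbackStructureIso (pullback.fst f iA))] at h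
    exact h
  obtain ⟨W₀, hxW, j, hj, hjiso⟩ := H34.GenusZero.exists_near f'
    (fun t => (H34.AbelMono.dim_fiber_baseChange f hsq t).trans (hfacts _).1) hg' σ'
    (pullback.lift_snd _ _ _) x
  obtain ⟨D, hD, hxD, hDW⟩ := exists_isAffineOpen_mem_and_subset hxW
  let m := IsOpenImmersion.lift W₀.ι hD.fromSpec (by
    rw [Scheme.Opens.range_ι, hD.range_fromSpec]; exact hDW)
  have hm : m ≫ W₀.ι = hD.fromSpec := IsOpenImmersion.lift_fac _ _ _
  refine ⟨Γ(Spec (CommRingCat.of Γ(S, V)), D), inferInstance, hD.fromSpec ≫ iA, inferInstance, ?_, ?_⟩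
  · have h2 : x ∈ Set.range hD.fromSpec := hD.range_fromSpec.ge hxD
    obtain ⟨a, ha⟩ := h2
    exact ⟨a, by rw [← hx, ← ha]; rfl⟩
  have h1 : IsPullback ((f' ⁻¹ᵁ W₀).ι ≫ pullback.fst f iA) (f' ∣_ W₀) f (W₀.ι ≫ iA) :=
    (isPullback_morphismRestrict f' W₀).flip.paste_horiz hsq
  have h2 : IsPullback (inv j ≫ (f' ⁻¹ᵁ W₀).ι ≫ pullback.fst f iA)
      (CohB1.ProjSpaceOver.toBase 1 (W₀ : Scheme.{u})) f (W₀.ι ≫ iA) :=
    h1.of_iso (asIso j) (Iso.refl _) (Iso.refl _) (Iso.refl _) (by simp) (by simpa using hj.symm)
      (by simp) (by simp)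
  have h3 := (isPullback_overMap 1 m).paste_horiz h2
  rw [← Category.assoc m W₀.ι iA, hm] at h3
  let e₀ := (IsPullback.of_hasPullback f (hD.fromSpec ≫ iA)).isoIsPullback _ _ h3
  refine ⟨e₀ ≪≫ overSpecIso 1 _, ?_⟩
  rw [Iso.trans_hom, Category.assoc]
  exact (congrArg (e₀.hom ≫ ·) (overSpecIso_hom_toSpec 1 _)).trans (IsPullback.isoIsPullback_hom_snd _ _ _ h3)

end Groth.Agent.S11472
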