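import Groth.Statements.S11473
import Groth.Agent.PD92.ProjDeform
import Groth.Agent.Lib.Curves.GenusZero
import Groth.Agent.H2.Rigid.GeomIrred
import Groth.Agent.S2500
import Groth.Agent.Lib.GrpSch.SmoothReduced

set_option autoImplicit false
set_option linter.style.haveILetI false
universe u
open CategoryTheory CategoryTheory.Limits AlgebraicGeometry
open Curves

namespace Groth.Agent.S11473

open Groth.Agent Groth.Agent.Lib Groth.Agent.Lib.ProjSpace.BaseChange

/-- Let C be an Artinian local ring whose residue field k is algebraically closed, and let f : X → Spec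
C be a family of curves of genus zero: f is smooth and proper and its closed fibre X ×_C k is an
integral k-scheme of dimension one with H¹(O) = 0 (over the algebraically closed field k this is the
condition on the one geometric fibre). Then the family is trivial: X is C-isomorphic to P¹_C. -/
theorem result (C : Type u) [CommRing C] [IsArtinianRing C] [IsLocalRing C]
    [IsAlgClosed (IsLocalRing.ResidueField C)] {X : Scheme.{u}} (f : X ⟶ Spec (CommRingCat.of C)) [Smooth f] [IsProper f]
    (hint : IsIntegral (pullback f (Spec.map (CommRingCat.ofHom (IsLocalRing.residue C)))))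
    (hdim : topologicalKrullDim ↥(pullback f (Spec.map (CommRingCat.ofHom (IsLocalRing.residue C)))) = 1)
    (hg : @Curv2.genus (IsLocalRing.ResidueField C) _ (pullback f (Spec.map (CommRingCat.ofHom (IsLocalRing.residue C))))
        ⟨pullback.snd f (Spec.map (CommRingCat.ofHom (IsLocalRing.residue C)))⟩ = 0) :
    ∃ e : X ≅ CohB1.ProjSpace 1 C, e.hom ≫ CohB1.ProjSpace.toSpec 1 C = f := by
  haveI : IsAdicComplete (IsLocalRing.maximalIdeal C) C := by
    obtain ⟨n, hn⟩ := IsArtinianRing.isNilpotent_jacobson_bot (R := C)
    rw [IsLocalRing.jacobson_eq_maximalIdeal ⊥ bot_ne_top] at hn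
    refine { haus' := fun x hx => ?_, prec' := fun g hg => ⟨g n, fun m => ?_⟩ }
    · have := hx n
      rwa [hn, Ideal.zero_eq_bot, Submodule.bot_smul, SModEq.bot] at this
    · rcases le_total m n with hm | hm
      · exact hg hm
      · have h2 := hg hm
        rw [hn, Ideal.zero_eq_bot, Submodule.bot_smul, SModEq.bot] at h2
        rw [h2]
  let F := pullback f (Spec.map (CommRingCat.ofHom (IsLocalRing.residue C)))
  let k := IsLocalRing.ResidueField C
  letI : F.Over (Spec (CommRingCat.of k)) :=
    ⟨pullback.snd f (Spec.map (CommRingCat.ofHom (IsLocalRing.residue C)))⟩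
  haveI : IsProper (F ↘ Spec (CommRingCat.of k)) :=
    MorphismProperty.pullback_snd _ _ ‹IsProper f›
  haveI : Smooth (F ↘ Spec (CommRingCat.of k)) :=
    MorphismProperty.pullback_snd _ _ ‹Smooth f›
  haveI : IsIntegral F := hint
  haveI : GeometricallyIntegral (F ↘ Spec (CommRingCat.of k)) := by
    haveI := S2500.result (F ↘ Spec (CommRingCat.of k))
    haveI := GrpSch.geometricallyReduced_of_smooth_field (F ↘ Spec (CommRingCat.of k))
    exact GeometricallyIntegral.of_geometricallyReduced_of_geometricallyIrreducible
      (f := F ↘ Spec (CommRingCat.of k))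
  obtain ⟨e, he⟩ := Curves.GenusZero.exists_iso_line_algClosed (k := k) (X := F) hdim hg
  obtain ⟨a, ha, -, has⟩ := PD92.ProjDeform.exists_iso_closedFibre f
  haveI := PD92.ProjDeform.isIso_SpecMap_toK (A := C)
  let t := Spec.map (CommRingCat.ofHom (PD92.ProjDeform.toK (A := C)))
  haveI : IsIso (overMap 1 t) := (isPullback_overMap 1 t).isIso_fst_of_isIso
  refine PD92.ProjDeform.exists_iso f 1
    (a ≫ e.hom ≫ (overSpecIso 1 k).inv ≫ inv (overMap 1 t) ≫ (overSpecIso 1 _).hom) ?_
  simp only [Category.assoc]
  rw [overSpecIso_hom_toSpec]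
  have h1 : inv (overMap 1 t) ≫ CohB1.ProjSpaceOver.toBase 1 _ =
      CohB1.ProjSpaceOver.toBase 1 _ ≫ inv t := by
    rw [IsIso.eq_comp_inv, Category.assoc, ← overMap_toBase, IsIso.inv_hom_id_assoc]
  rw [h1, ← Category.assoc (overSpecIso 1 k).inv, overSpecIso_inv_toBase, ← Category.assoc e.hom, he]
  have h2 : a ≫ (F ↘ Spec (CommRingCat.of k)) = _ := has
  rw [reassoc_of% h2, IsIso.hom_inv_id, Category.comp_id]

end Groth.Agent.S11473
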