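import Groth.Statements.S11479
import Groth.Agent.Lib.ExchangeFP29.FieldPoint
import Groth.Agent.Lib.ExchangeFP29.Main
import Groth.Agent.Lib.Exchange.NearFibre
import Groth.Agent.Lib.TensorMod.FPConv
import Groth.Agent.Lib.Amp36.HomTensor
import Groth.Agent.Lib.Cyc.CH.DualPullback
import Groth.Agent.Lib.CurveBundle.HomDeg
import Groth.Agent.Lib.CurveBundle.Slope
import Groth.Agent.Lib.CurveBundle.Ctx
import Groth.Agent.Lib.Curves.Finiteness
import Mathlib.AlgebraicGeometry.AlgClosed.Basic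

set_option autoImplicit false
universe u
open CategoryTheory CategoryTheory.Limits AlgebraicGeometry
open Curves

namespace Groth.Agent.S11479

open Groth.Agent Groth.Agent.Lib Groth.Agent.Lib.TensorMod.Pullback

section
variable {k : Type u} [Field k] {X : Scheme.{u}} [X.Over (Spec (CommRingCat.of k))]
variable {T : Scheme.{u}} [T.Over (Spec (CommRingCat.of k))]

theorem isPullback_fibre (t : Spec (CommRingCat.of k) ⟶ T) (ht : t ≫ (T ↘ Spec (CommRingCat.of k)) = 𝟙 _) (j : X ⟶ pullback (X ↘ Spec (CommRingCat.of k)) (T ↘ Spec (CommRingCat.of k)))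
    (h1 : j ≫ pullback.fst (X ↘ Spec (CommRingCat.of k)) (T ↘ Spec (CommRingCat.of k)) = 𝟙 X) (h2 : j ≫ pullback.snd (X ↘ Spec (CommRingCat.of k)) (T ↘ Spec (CommRingCat.of k)) = (X ↘ Spec (CommRingCat.of k)) ≫ t) :
    IsPullback j (X ↘ Spec (CommRingCat.of k)) (pullback.snd (X ↘ Spec (CommRingCat.of k)) (T ↘ Spec (CommRingCat.of k))) t :=
  IsPullback.of_right (t := IsPullback.of_hasPullback (X ↘ Spec (CommRingCat.of k)) (T ↘ Spec (CommRingCat.of k))) (by
    rw [h1, ht]; exact IsPullback.of_horiz_isIso ⟨by rw [Category.id_comp, Category.comp_id]⟩) h2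

theorem exists_fibre (t : Spec (CommRingCat.of k) ⟶ T) (ht : t ≫ (T ↘ Spec (CommRingCat.of k)) = 𝟙 _) :
    ∃ j : X ⟶ pullback (X ↘ Spec (CommRingCat.of k)) (T ↘ Spec (CommRingCat.of k)), j ≫ pullback.fst (X ↘ Spec (CommRingCat.of k)) (T ↘ Spec (CommRingCat.of k)) = 𝟙 X ∧ j ≫ pullback.snd (X ↘ Spec (CommRingCat.of k)) (T ↘ Spec (CommRingCat.of k)) = (X ↘ Spec (CommRingCat.of k)) ≫ t :=
  ⟨pullback.lift (𝟙 X) ((X ↘ Spec (CommRingCat.of k)) ≫ t) (by rw [Category.id_comp, Category.assoc, ht, Category.comp_id]),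
    pullback.lift_fst _ _ _, pullback.lift_snd _ _ _⟩

variable [IsProper (X ↘ Spec (CommRingCat.of k))] [Smooth (X ↘ Spec (CommRingCat.of k))] [LocallyOfFiniteType (T ↘ Spec (CommRingCat.of k))]

theorem finrank_fibre (F : (pullback (X ↘ Spec (CommRingCat.of k)) (T ↘ Spec (CommRingCat.of k))).Modules) (hF : FlatMod.IsFinLocFree F)
    {t : Spec (CommRingCat.of k) ⟶ T} {j : X ⟶ pullback (X ↘ Spec (CommRingCat.of k)) (T ↘ Spec (CommRingCat.of k))}
    (hsq : IsPullback j (X ↘ Spec (CommRingCat.of k)) (pullback.snd (X ↘ Spec (CommRingCat.of k)) (T ↘ Spec (CommRingCat.of k))) t) (i : ℕ) :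
    Module.finrank k (Coh.HH X ((Scheme.Modules.pullback j).obj F) i) =
      CohIII.fiberRank (pullback.snd (X ↘ Spec (CommRingCat.of k)) (T ↘ Spec (CommRingCat.of k))) F i (t (IsLocalRing.closedPoint k)) := by
  haveI : IsLocallyNoetherian T := LocallyOfFiniteType.isLocallyNoetherian (T ↘ Spec (CommRingCat.of k))
  haveI := (Perfect.Coherent.isCoh_of_isFinLocFree hF).1
  exact ExchangeFP29.FieldPoint.finrank_HH_eq (pullback.snd (X ↘ Spec (CommRingCat.of k)) (T ↘ Spec (CommRingCat.of k))) F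
    (TensorMod.FPConv.isFP_of_isFinLocFree hF)
    (_root_.ZarCoh.Exchange.NearFibre.isFlatOver_of_isFinLocFree _ hF) (X ↘ Spec (CommRingCat.of k)) t j hsq i

theorem euler_const [IrreducibleSpace T] (F : (pullback (X ↘ Spec (CommRingCat.of k)) (T ↘ Spec (CommRingCat.of k))).Modules) (hF : FlatMod.IsFinLocFree F)
    {t t' : Spec (CommRingCat.of k) ⟶ T} {j j' : X ⟶ pullback (X ↘ Spec (CommRingCat.of k)) (T ↘ Spec (CommRingCat.of k))}
    (h : IsPullback j (X ↘ Spec (CommRingCat.of k)) (pullback.snd (X ↘ Spec (CommRingCat.of k)) (T ↘ Spec (CommRingCat.of k))) t) (h' : IsPullback j' (X ↘ Spec (CommRingCat.of k)) (pullback.snd (X ↘ Spec (CommRingCat.of k)) (T ↘ Spec (CommRingCat.of k))) t') :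
    Curv2.euler k X ((Scheme.Modules.pullback j).obj F) =
      Curv2.euler k X ((Scheme.Modules.pullback j').obj F) := by
  haveI : IsLocallyNoetherian T := LocallyOfFiniteType.isLocallyNoetherian (T ↘ Spec (CommRingCat.of k))
  haveI := (Perfect.Coherent.isCoh_of_isFinLocFree hF).1
  have hc := ExchangeFP29.Main.isLocallyConstant_eulerChar (pullback.snd (X ↘ Spec (CommRingCat.of k)) (T ↘ Spec (CommRingCat.of k))) F
    (TensorMod.FPConv.isFP_of_isFinLocFree hF)
    (_root_.ZarCoh.Exchange.NearFibre.isFlatOver_of_isFinLocFree _ hF)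
  have key : ∀ {t : Spec (CommRingCat.of k) ⟶ T} {j : X ⟶ pullback (X ↘ Spec (CommRingCat.of k)) (T ↘ Spec (CommRingCat.of k))},
      IsPullback j (X ↘ Spec (CommRingCat.of k)) (pullback.snd (X ↘ Spec (CommRingCat.of k)) (T ↘ Spec (CommRingCat.of k))) t → Curv2.euler k X ((Scheme.Modules.pullback j).obj F) =
        PerfAux.eulerChar (pullback.snd (X ↘ Spec (CommRingCat.of k)) (T ↘ Spec (CommRingCat.of k))) F (t (IsLocalRing.closedPoint k)) := fun h =>
    finsum_congr fun i => by rw [finrank_fibre F hF h i, ExchangeFP29.Main.betti_eq]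
  rw [key h, key h']
  exact hc.apply_eq_of_preconnectedSpace _ _

theorem nontrivial_hom_iff [IsLocallyNoetherian X] (hdim : topologicalKrullDim X ≤ 1) {A B : X.Modules}
    (hA : FlatMod.IsFinLocFree A) (hB : FlatMod.IsFinLocFree B) :
    Module.finrank k (Coh.HH X (CohB1.tensorMod B (_root_.RefHull.dual A)) 0) ≠ 0 ↔ ∃ φ : A ⟶ B, φ ≠ 0 := by
  have hD : FlatMod.IsFinLocFree (_root_.RefHull.dual A) :=
    H78.Faithful.HomLocFree.isFinLocFree_homSh hA
      (TensorMod.LocFree.of_rank (TensorMod.LocFree.of_isInvertible (PicLoc.isInvertible_structureModule X)))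
  haveI := (Lib.Curves.Finiteness.isGood_of_isCoh (k := k) hdim
    (Perfect.Coherent.isCoh_of_isFinLocFree (TensorMod.LocFree.isFinLocFree_tensorMod hB hD))).fin₀
  let θ := Amp36.HomTensor.θ A (Coh.structureModule X) B
  have hθ : Function.Bijective θ := Amp36.HomTensor.θ_bijective hA B
  let e := Lib.Curves.GlobalSections.h0Equiv (CohB1.tensorMod B (_root_.RefHull.dual A))
  have h0 : θ 0 = 0 := by
    have := Amp36.HomTensor.θ_add A (Coh.structureModule X) B 0 0
    rw [add_zero] at this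
    exact left_eq_add.1 this
  rw [Ne, Module.finrank_zero_iff (R := k), not_subsingleton_iff_nontrivial]
  constructor
  · intro hn
    obtain ⟨z, hz⟩ := exists_ne (0 : Coh.HH X (CohB1.tensorMod B (_root_.RefHull.dual A)) 0)
    refine ⟨θ (e z) ≫ (TensorMod.Basic.rightUnit B).hom, fun h => hz ?_⟩
    rw [← zero_comp (f := (TensorMod.Basic.rightUnit B).hom), cancel_mono, ← h0] at h
    exact e.injective ((hθ.1 h).trans (map_zero e).symm)
  · rintro ⟨φ, hφ⟩
    obtain ⟨s, hs⟩ := hθ.2 (φ ≫ (TensorMod.Basic.rightUnit B).inv)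
    refine ⟨⟨e.symm s, 0, fun h => hφ ?_⟩⟩
    have hs0 : s = 0 := by
      rw [← e.apply_symm_apply s, h, map_zero]
      rfl
    rw [hs0, h0] at hs
    rw [← cancel_mono (TensorMod.Basic.rightUnit B).inv, ← hs, zero_comp]

end

/-- Let X be a nonsingular projective curve over an algebraically closed field k (smooth, proper,
integral, of dimension one), T a nonsingular integral curve over k and t₀ a k-point of T. Let E and
E' be locally free sheaves of rank r on X ×_k T, and for a k-point t of T write E_t for the pullback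
of E along the fibre inclusion X → X ×_k T at t. Suppose E_t ≅ E'_t for every k-point t ≠ t₀, and
that E_{t₀} and E'_{t₀} are both stable: every locally free subsheaf G of rank s, 0 < s < r,
satisfies deg G / s < deg / r (written cross-multiplied, degrees computed as χ(G) − s·χ(O_X)). Then
E_{t₀} ≅ E'_{t₀} (existence of an isomorphism). -/
theorem result (k : Type u) [Field k] [IsAlgClosed k] (X : Scheme.{u})
    [X.Over (Spec (CommRingCat.of k))] (hX : Curve.IsSmoothProperCurve k X (X ↘ Spec (CommRingCat.of k)))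
    (T : Scheme.{u}) [T.Over (Spec (CommRingCat.of k))] [IsIntegral T] [Smooth (T ↘ Spec (CommRingCat.of k))]
    (hT : topologicalKrullDim T = 1) (t₀ : Spec (CommRingCat.of k) ⟶ T) (ht₀ : t₀ ≫ (T ↘ Spec (CommRingCat.of k)) = 𝟙 _)
    (r : ℕ) (E E' : (pullback (X ↘ Spec (CommRingCat.of k)) (T ↘ Spec (CommRingCat.of k))).Modules)
    (hE : FlatMod.IsFinLocFreeOfRank r E) (hE' : FlatMod.IsFinLocFreeOfRank r E')
    (hiso : ∀ (t : Spec (CommRingCat.of k) ⟶ T) (j : X ⟶ pullback (X ↘ Spec (CommRingCat.of k)) (T ↘ Spec (CommRingCat.of k))),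
      t ≫ (T ↘ Spec (CommRingCat.of k)) = 𝟙 _ → t ≠ t₀ → j ≫ pullback.fst _ _ = 𝟙 X →
      j ≫ pullback.snd _ _ = (X ↘ Spec (CommRingCat.of k)) ≫ t →
      Nonempty ((Scheme.Modules.pullback j).obj E ≅ (Scheme.Modules.pullback j).obj E'))
    (j₀ : X ⟶ pullback (X ↘ Spec (CommRingCat.of k)) (T ↘ Spec (CommRingCat.of k)))
    (hj₀ : j₀ ≫ pullback.fst _ _ = 𝟙 X) (hj₀' : j₀ ≫ pullback.snd _ _ = (X ↘ Spec (CommRingCat.of k)) ≫ t₀)
    (hst : (∀ (G : X.Modules) (s : ℕ) (ι : G ⟶ ((Scheme.Modules.pullback j₀).obj E)), Mono ι →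
        FlatMod.IsFinLocFreeOfRank s G → 0 < s → s < r → Curv2.deg k X G s * (r : ℤ) < Curv2.deg k X ((Scheme.Modules.pullback j₀).obj E) r * (s : ℤ)))
    (hst' : (∀ (G : X.Modules) (s : ℕ) (ι : G ⟶ ((Scheme.Modules.pullback j₀).obj E')), Mono ι →
        FlatMod.IsFinLocFreeOfRank s G → 0 < s → s < r → Curv2.deg k X G s * (r : ℤ) < Curv2.deg k X ((Scheme.Modules.pullback j₀).obj E') r * (s : ℤ))) :
    Nonempty ((Scheme.Modules.pullback j₀).obj E ≅ (Scheme.Modules.pullback j₀).obj E') := by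
  haveI := hX.1
  haveI := hX.2.1
  haveI := hX.2.2.1
  have hdim := hX.2.2.2
  haveI : IsLocallyNoetherian X := LocallyOfFiniteType.isLocallyNoetherian (X ↘ Spec (CommRingCat.of k))
  haveI : LocallyOfFiniteType (T ↘ Spec (CommRingCat.of k)) := inferInstance
  haveI : IsLocallyNoetherian T := LocallyOfFiniteType.isLocallyNoetherian (T ↘ Spec (CommRingCat.of k))
  haveI : IsLocallyNoetherian (pullback (X ↘ Spec (CommRingCat.of k)) (T ↘ Spec (CommRingCat.of k))) :=
    LocallyOfFiniteType.isLocallyNoetherian (pullback.snd (X ↘ Spec (CommRingCat.of k)) (T ↘ Spec (CommRingCat.of k)))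
  haveI : JacobsonSpace T := LocallyOfFiniteType.jacobsonSpace (T ↘ Spec (CommRingCat.of k))
  have hEl := TensorMod.LocFree.of_rank hE
  have hEl' := TensorMod.LocFree.of_rank hE'
  have hEt := TensorMod.LocFree.rank_pullback j₀ hE
  have hEt' := TensorMod.LocFree.rank_pullback j₀ hE'
  haveI : Lib.CurveBundle.Degree.CurveCtx k X := Lib.CurveBundle.Ctx.ofIntegral k hdim
  obtain ⟨hc, htf, hgr, -⟩ := Lib.CurveBundle.Slope.bundle (k := k) hEt
  obtain ⟨hc', htf', hgr', -⟩ := Lib.CurveBundle.Slope.bundle (k := k) hEt'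
  by_cases hr : r = 0
  · exact ⟨(Lib.CurveBundle.Degree.isZero_of_gr k hc htf (hgr.trans hr)).iso
      (Lib.CurveBundle.Degree.isZero_of_gr k hc' htf' (hgr'.trans hr))⟩
  let M := CohB1.tensorMod E' (_root_.RefHull.dual E)
  have hM : FlatMod.IsFinLocFree M := TensorMod.LocFree.isFinLocFree_tensorMod hEl'
    (H78.Faithful.HomLocFree.isFinLocFree_homSh hEl
      (TensorMod.LocFree.of_rank (TensorMod.LocFree.of_isInvertible (PicLoc.isInvertible_structureModule _))))
  haveI := (Perfect.Coherent.isCoh_of_isFinLocFree hM).1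
  let p := pullback.snd (X ↘ Spec (CommRingCat.of k)) (T ↘ Spec (CommRingCat.of k))
  have hrank : ∀ {t : Spec (CommRingCat.of k) ⟶ T}
      {j : X ⟶ pullback (X ↘ Spec (CommRingCat.of k)) (T ↘ Spec (CommRingCat.of k))},
      IsPullback j (X ↘ Spec (CommRingCat.of k)) p t →
      (CohIII.fiberRank p M 0 (t (IsLocalRing.closedPoint k)) ≠ 0 ↔
        ∃ φ : (Scheme.Modules.pullback j).obj E ⟶ (Scheme.Modules.pullback j).obj E', φ ≠ 0) := by
    intro t j hsq
    obtain ⟨d⟩ := Lib.Cyc.CH.nonempty_pullback_dual_iso j hE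
    rw [← finrank_fibre M hM hsq 0]
    show Lib.Curves.Euler.hdim k X _ 0 ≠ 0 ↔ _
    rw [Lib.Curves.Euler.hdim_eq_of_iso (k := k)
      (pullbackTensorIso j E' (_root_.RefHull.dual E) ≪≫ TensorMod.Basic.tensorIso (Iso.refl _) d) 0]
    exact nontrivial_hom_iff hdim.le (TensorMod.LocFree.isFinLocFree_pullback j hEl)
      (TensorMod.LocFree.isFinLocFree_pullback j hEl')
  let x₀ := t₀ (IsLocalRing.closedPoint k)
  have hx₀ : IsClosed ({x₀} : Set T) := ((pointEquivClosedPoint (T ↘ Spec (CommRingCat.of k))) ⟨t₀, ht₀⟩).2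
  have hgen : genericPoint T ≠ x₀ := by
    intro h
    haveI : Subsingleton T := ⟨fun a b => by
      have := (genericPoint_spec T).specializes (Set.mem_univ a)
      have := (genericPoint_spec T).specializes (Set.mem_univ b)
      have ha : a ∈ ({x₀} : Set T) := ((genericPoint_spec T).specializes (Set.mem_univ a)).mem_closed hx₀ (h ▸ rfl)
      have hb : b ∈ ({x₀} : Set T) := ((genericPoint_spec T).specializes (Set.mem_univ b)).mem_closed hx₀ (h ▸ rfl)
      exact ha.trans hb.symm⟩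
    have : topologicalKrullDim T ≤ 0 := topologicalKrullDim_zero_of_discreteTopology T
    rw [hT] at this
    exact absurd this (by simp)
  have hpts : ∀ U : Set T, IsOpen U → U.Nonempty → ∃ (t : Spec (CommRingCat.of k) ⟶ T),
      t ≫ (T ↘ Spec (CommRingCat.of k)) = 𝟙 _ ∧ t ≠ t₀ ∧ t (IsLocalRing.closedPoint k) ∈ U := by
    intro U hU hne
    have hη : genericPoint T ∈ U :=
      ((genericPoint_spec T).mem_open_set_iff hU).2 (by simpa using hne)
    obtain ⟨y, ⟨hyU, hy⟩, hyc⟩ := nonempty_inter_closedPoints (Z := U ∩ {x₀}ᶜ) ⟨_, hη, hgen⟩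
      (hU.inter hx₀.isOpen_compl).isLocallyClosed
    let q := (pointEquivClosedPoint (T ↘ Spec (CommRingCat.of k))).symm ⟨y, hyc⟩
    have hq : q.1 (IsLocalRing.closedPoint k) = y :=
      congrArg Subtype.val ((pointEquivClosedPoint (T ↘ Spec (CommRingCat.of k))).apply_symm_apply ⟨y, hyc⟩)
    refine ⟨q.1, q.2, fun h => hy ?_, hq.symm ▸ hyU⟩
    rw [← hq, h]
    rfl
  have hsq₀ := isPullback_fibre t₀ ht₀ j₀ hj₀ hj₀'
  obtain ⟨t, ht, htne, -⟩ := hpts Set.univ isOpen_univ ⟨x₀, trivial⟩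
  obtain ⟨j, hj1, hj2⟩ := exists_fibre (X := X) t ht
  have hsq := isPullback_fibre t ht j hj1 hj2
  obtain ⟨e⟩ := hiso t j ht htne hj1 hj2
  have hdeg : Curv2.deg k X ((Scheme.Modules.pullback j₀).obj E) r =
      Curv2.deg k X ((Scheme.Modules.pullback j₀).obj E') r := by
    unfold Curv2.deg
    rw [euler_const E hEl hsq₀ hsq, euler_const E' hEl' hsq₀ hsq]
    congr 1
    exact finsum_congr fun i => congrArg (fun n : ℕ => (-1 : ℤ) ^ i * (n : ℤ)) (Lib.Curves.Euler.hdim_eq_of_iso (k := k) e i)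
  have h₀ : CohIII.fiberRank p M 0 x₀ ≠ 0 := by
    intro h
    obtain ⟨t', ht', htne', hmem⟩ := hpts _ (ExchangeFP29.Main.isOpen_fiberRank_eq_zero p M
      (TensorMod.FPConv.isFP_of_isFinLocFree hM)
      (_root_.ZarCoh.Exchange.NearFibre.isFlatOver_of_isFinLocFree _ hM) 0) ⟨x₀, h⟩
    obtain ⟨j', hj1', hj2'⟩ := exists_fibre (X := X) t' ht'
    obtain ⟨e'⟩ := hiso t' j' ht' htne' hj1' hj2'
    refine (hrank (isPullback_fibre t' ht' j' hj1' hj2')).2 ⟨e'.hom, fun h0 => hr ?_⟩ hmem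
    have hz : IsZero ((Scheme.Modules.pullback j').obj E) := by
      rw [IsZero.iff_id_eq_zero, ← e'.hom_inv_id, h0, zero_comp]
    obtain ⟨-, -, hg, -⟩ := Lib.CurveBundle.Slope.bundle (k := k) (TensorMod.LocFree.rank_pullback j' hE)
    exact hg.symm.trans (Lib.CurveBundle.Degree.gr_of_isZero k hz)
  obtain ⟨φ, hφ⟩ := (hrank hsq₀).1 h₀
  have hS := Lib.CurveBundle.Slope.st_of (k := k) hEt fun F r' i hi h1 h2 h3 => hst F r' i hi h3 h1 h2
  have hS' := Lib.CurveBundle.Slope.st_of (k := k) hEt' fun F r' i hi h1 h2 h3 => hst' F r' i hi h3 h1 h2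
  haveI := Lib.CurveBundle.Slope.isIso_of_stable hc htf hc' htf'
    (Lib.CurveBundle.Slope.ss_of_st hEt hS) (Lib.CurveBundle.Slope.ss_of_st hEt' hS') (by
      obtain ⟨-, -, -, hd⟩ := Lib.CurveBundle.Slope.bundle (k := k) hEt
      obtain ⟨-, -, -, hd'⟩ := Lib.CurveBundle.Slope.bundle (k := k) hEt'
      rw [hgr, hgr', ← hd, ← hd', hdeg]) (Or.inl ⟨hS, hS'⟩) φ hφ
  exact ⟨asIso φ⟩

end Groth.Agent.S11479
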