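import Groth.Statements.S1148
import Mathlib

set_option autoImplicit false
universe u
open Desc

namespace Groth.Agent.S1148

/-- Affine form (finiteness of irreducible components of quasi-compact opens is fppf local; this is the
ascent direction for a morphism of affine schemes). Let A → B be a flat ring map of finite
presentation. If Spec A has finitely many irreducible components, then so does Spec B. -/
theorem result (A B : Type u) [CommRing A] [CommRing B] [Algebra A B]
    [Module.Flat A B] [Algebra.FinitePresentation A B] (h : (irreducibleComponents (PrimeSpectrum A)).Finite) :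
    (irreducibleComponents (PrimeSpectrum B)).Finite := by
  classical
  haveI : Algebra.FiniteType A B := inferInstance
  have hA : (minimalPrimes A).Finite := by
    rw [← PrimeSpectrum.vanishingIdeal_irreducibleComponents]; exact h.image _
  suffices hB : (minimalPrimes B).Finite by
    have := hB.image (PrimeSpectrum.zeroLocus ∘ ((↑) : Ideal B → Set B))
    rwa [PrimeSpectrum.zeroLocus_minimalPrimes] at this
  have hfin : ∀ p : Ideal A, p.IsPrime → {q : Ideal B | q ∈ minimalPrimes B ∧ q.under A = p}.Finite := by
    intro p hp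
    haveI := hp
    haveI : IsNoetherianRing (p.Fiber B) := Algebra.FiniteType.isNoetherianRing p.ResidueField _
    let e := PrimeSpectrum.primesOverOrderIsoFiber A B p
    have hm : ((fun P : PrimeSpectrum (p.Fiber B) => (e.symm P : Ideal B)) '' (PrimeSpectrum.asIdeal ⁻¹' minimalPrimes (p.Fiber B))).Finite :=
      ((minimalPrimes.finite_of_isNoetherianRing (R := p.Fiber B)).preimage (fun a _ b _ hab => PrimeSpectrum.ext hab)).image _
    refine hm.subset ?_
    rintro q ⟨hq, hqp⟩
    haveI hqprime : q.IsPrime := hq.1.1
    have hmem : q ∈ p.primesOver B := ⟨hqprime, ⟨hqp.symm⟩⟩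
    refine ⟨e ⟨q, hmem⟩, ?_, by simp⟩
    rw [Set.mem_preimage, minimalPrimes_eq_minimals]
    refine ⟨(e ⟨q, hmem⟩).2, fun P hP hle => ?_⟩
    have h1 : e.symm ⟨P, hP⟩ ≤ (⟨q, hmem⟩ : p.primesOver B) := by
      rw [OrderIso.symm_apply_le]; exact hle
    have h2 : (⟨q, hmem⟩ : p.primesOver B) ≤ e.symm ⟨P, hP⟩ := by
      rw [minimalPrimes_eq_minimals] at hq
      exact hq.2 (e.symm ⟨P, hP⟩).2.1 h1
    exact (e.le_iff_le.2 h2).trans (by rw [OrderIso.apply_symm_apply])
  refine (hA.biUnion (t := fun p => {q : Ideal B | q ∈ minimalPrimes B ∧ q.under A = p}) fun p hp => hfin p hp.1.1).subset ?_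
  intro q hq
  haveI hqprime : q.IsPrime := hq.1.1
  simp only [Set.mem_iUnion]
  refine ⟨q.under A, ?_, hq, rfl⟩
  rw [minimalPrimes_eq_minimals] at hq ⊢
  refine ⟨inferInstance, fun p' hp' hle => ?_⟩
  haveI : p'.IsPrime := hp'
  obtain ⟨q', hq'le, hq'p, hover⟩ := Ideal.exists_ideal_le_liesOver_of_le (p := p') (q := q.under A) q hle
  have := hq.2 hq'p hq'le
  have he : q' = q := le_antisymm hq'le this
  rw [← he]
  exact hover.over.ge

end Groth.Agent.S1148
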