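import Groth.Statements.S11484
import Groth.Agent.Lib.ProjCoh.SerreDual

set_option autoImplicit false
universe u
open VBPn

namespace Groth.Agent.S11484

open CategoryTheory CategoryTheory.Limits AlgebraicGeometry CategoryTheory.Abelian Groth.Agent.Lib Groth.Agent.Lib.ProjCoh
  Groth.Agent.Lib.ProjCoh.Sections Groth.Agent.Lib.ProjCoh.Coherent Groth.Agent.Lib.TensorMod.Basic

variable {n : ℕ} {k : Type u} [Field k] [HasExt.{u} (CohB1.ProjSpace n k).Modules]

theorem subsingleton_ext_one (hn : 2 ≤ n) (a b : ℤ) :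
    Subsingleton (Ext.{u} (TS n k b) (TS n k a) 1) := by
  refine SerreDual.subsingleton_ext_equiv (tensorBy (tw n k (-b))) _ _ 1 ?_
  refine SerreDual.subsingleton_ext_iso
    (SerreDual.tsTensor b (-b) ≪≫ eqToIso (congrArg (TS n k) (add_neg_cancel b)) ≪≫
      (Twist.structureIso n k).symm) (SerreDual.tsTensor a (-b)) 1 ?_
  have := Twist.subsingleton_HH_of_ne n k (a + -b) (q := 1) one_ne_zero (by omega)
  exact (ExtHH.Basic.extUnitEquiv k (TS n k (a + -b)) 1).injective.subsingleton

open CategoryTheory CategoryTheory.Limits AlgebraicGeometry in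
/-- Let k be an algebraically closed field of characteristic zero and n ≥ 2. On P^n_k every short exact
sequence of O-modules whose first term is isomorphic to O(a) and whose third term is isomorphic to
O(b), for integers a and b, admits a splitting; in particular its middle term is isomorphic to O(a)
⊕ O(b). -/
theorem result (k : Type u) [Field k] [IsAlgClosed k] [CharZero k]
    (n : ℕ) (hn : 2 ≤ n) (a b : ℤ) (S : ShortComplex (CohB1.ProjSpace n k).Modules) (hS : S.ShortExact)
    (ha : Nonempty (S.X₁ ≅ Twist.twistProjSpace n k a)) (hb : Nonempty (S.X₃ ≅ Twist.twistProjSpace n k b)) :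
    Nonempty S.Splitting := by
  haveI := hasExt_of_enoughInjectives.{u} (CohB1.ProjSpace n k).Modules
  obtain ⟨ea⟩ := ha
  obtain ⟨eb⟩ := hb
  have h1 := SerreDual.subsingleton_ext_iso (eb ≪≫ twIso b) (ea ≪≫ twIso a) 1
    (subsingleton_ext_one hn a b)
  obtain ⟨x, hx⟩ := Ext.covariant_sequence_exact₃ S.X₃ hS (Ext.mk₀ (𝟙 S.X₃)) rfl
    (Subsingleton.elim (α := Ext.{u} S.X₃ S.X₁ 1) _ _)
  obtain ⟨s, rfl⟩ := (Ext.mk₀_bijective _ _).2 x
  rw [Ext.mk₀_comp_mk₀] at hx
  exact ⟨ShortComplex.Splitting.ofExactOfSection S hS.exact s ((Ext.mk₀_bijective _ _).1 hx) hS.mono_f⟩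

end Groth.Agent.S11484
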