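import Groth.Statements.S11488
import Groth.Agent.Lib.PnLines.Through
import Groth.Agent.Lib.PnOmega.NullCorr
import Groth.Agent.Lib.PnLines.Dict

set_option autoImplicit false
universe u
open VBPn

namespace Groth.Agent.S11488

set_option maxHeartbeats 1000000
set_option linter.all false
set_option backward.isDefEq.respectTransparency.types false

open CategoryTheory CategoryTheory.Limits AlgebraicGeometry Groth.Agent.Lib Groth.Agent.Lib.TensorMod.Basic
  Groth.Agent.Lib.ProjCoh.Coherent Groth.Agent.Lib.PnFlag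

variable {k : Type u} [Field k]

/-- A twist that is a retract of a free module is trivial. -/
theorem eq_zero_of_retract {n : ℕ} (hn : 0 < n) {r : ℕ} {b : ℤ}
    (ι : tw n k b ⟶ FlatMod.freeMod (CohB1.ProjSpace n k) r) (π : FlatMod.freeMod (CohB1.ProjSpace n k) r ⟶ tw n k b)
    (h : ι ≫ π = 𝟙 _) : b = 0 := by
  classical
  by_contra hb
  refine PnOmega.not_isZero_tw (k := k) (n := n) b ((IsZero.iff_id_eq_zero _).2 ?_)
  rcases lt_or_gt_of_ne hb with hlt | hlt
  · rw [← h, show π = 0 from Sigma.hom_ext _ _ fun i => ?_, comp_zero]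
    rw [comp_zero]
    exact (twZero.cancel_iso_hom_left _ _).1 ((PnLines.Dict.hom_eq_zero hn hlt _).trans comp_zero.symm)
  · let pr : Fin r → (FlatMod.freeMod (CohB1.ProjSpace n k) r ⟶ Coh.structureModule _) :=
      fun i => Sigma.desc fun j => if j = i then 𝟙 _ else 0
    have htot : ∑ i, pr i ≫ Sigma.ι (fun _ : Fin r => Coh.structureModule (CohB1.ProjSpace n k)) i = 𝟙 _ :=
      Sigma.hom_ext _ _ fun j => by
        rw [Preadditive.comp_sum, Category.comp_id, Finset.sum_eq_single j]
        · simp [pr]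
        · intro i _ hi; simp [pr, Ne.symm hi]
        · simp
    rw [← h, ← Category.comp_id ι, ← htot, Preadditive.comp_sum, Finset.sum_eq_zero fun i _ => ?_, zero_comp]
    have hz : ι ≫ pr i = 0 := (twZero.symm.cancel_iso_hom_right _ _).1
      ((PnLines.Dict.hom_eq_zero hn hlt _).trans zero_comp.symm)
    rw [← Category.assoc, hz, zero_comp]

variable [IsAlgClosed k]

theorem trivial_of_lines (r : ℕ) : ∀ (n : ℕ) (E : (CohB1.ProjSpace n k).Modules), FlatMod.IsFinLocFreeOfRank r E →
    ∀ x : ↥(CohB1.ProjSpace n k), IsClosed ({x} : Set ↥(CohB1.ProjSpace n k)) →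
    (∀ (i : CohB1.ProjSpace 1 k ⟶ CohB1.ProjSpace n k) [IsClosedImmersion i],
      i ≫ CohB1.ProjSpace.toSpec n k = CohB1.ProjSpace.toSpec 1 k →
      Nonempty ((Scheme.Modules.pullback i).obj (Twist.twistProjSpace n k 1) ≅ Twist.twistProjSpace 1 k 1) →
      x ∈ Set.range i.base →
      Nonempty ((Scheme.Modules.pullback i).obj E ≅ FlatMod.freeMod (CohB1.ProjSpace 1 k) r)) →
    Nonempty (E ≅ FlatMod.freeMod (CohB1.ProjSpace n k) r) := by
  intro n
  induction n with
  | zero =>
    intro E hE x _ _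
    obtain ⟨e⟩ := ProjCoh.Horrocks.exists_iso_sum_zero hE
    exact ⟨e ≪≫ Sigma.mapIso fun _ => twZero⟩
  | succ n ih =>
    intro E hE x hx h
    rcases Nat.eq_zero_or_pos n with rfl | hn
    · obtain ⟨e⟩ := h (𝟙 (CohB1.ProjSpace 1 k)) (Category.id_comp _)
        ⟨(Scheme.Modules.pullbackId _).app _⟩ ⟨x, rfl⟩
      exact ⟨((Scheme.Modules.pullbackId _).app E).symm ≪≫ e⟩
    haveI : IsProper (CohB1.ProjSpace.toSpec (n + 1) k) := ProjSpace.Basic.isProper_toSpec (n + 1) k
    have hEf : FlatMod.IsFinLocFree E := TensorMod.LocFree.of_rank hE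
    -- the point
    let pt := pointOfClosedPoint (CohB1.ProjSpace.toSpec (n + 1) k) x hx
    let i₀ : CohB1.ProjSpace 0 k ⟶ CohB1.ProjSpace (n + 1) k := CohB1.ProjSpace.toSpec 0 k ≫ pt
    have hi₀ : i₀ ≫ CohB1.ProjSpace.toSpec (n + 1) k = CohB1.ProjSpace.toSpec 0 k := by
      simp [i₀, pt]
    haveI : IsIso (CohB1.ProjSpace.toSpec 0 k) := ProjSpace.Dim.isIso_toSpec_zero k
    haveI : IsClosedImmersion pt := isClosedImmersion_of_comp_eq_id _ _ (pointOfClosedPoint_comp _ x hx)
    haveI : IsClosedImmersion i₀ := inferInstanceAs (IsClosedImmersion (CohB1.ProjSpace.toSpec 0 k ≫ pt))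
    have hx₀ : x ∈ Set.range i₀ := by
      obtain ⟨y⟩ : Nonempty (CohB1.ProjSpace 0 k) := inferInstance
      exact ⟨y, pointOfClosedPoint_apply _ x hx _⟩
    have hrank1 : ∀ (m : ℕ) (a : ℤ), FlatMod.IsFinLocFreeOfRank 1 (tw m k a) := fun m a =>
      TensorMod.LocFree.of_isInvertible (isInvertible_tw a)
    obtain ⟨u₁⟩ := ProjCoh.Horrocks.exists_iso_sum_zero (TensorMod.LocFree.rank_pullback i₀ (hrank1 (n + 1) 1))
    obtain ⟨u₂⟩ := ProjCoh.Horrocks.exists_iso_sum_zero (hrank1 0 1)
    let e₀ : (Scheme.Modules.pullback i₀).obj (Twist.twistProjSpace (n + 1) k 1) ≅ Twist.twistProjSpace 0 k 1 :=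
      u₁ ≪≫ u₂.symm
    -- a hyperplane through it, and the restriction
    obtain ⟨i', _, g, _, hig, hi', hgs, -, heg, hses⟩ := PnFlag.exists_hyperplane (Nat.zero_le n) i₀ hi₀ ⟨e₀⟩
    obtain ⟨y, hy⟩ : x ∈ Set.range g := by
      obtain ⟨y, hy⟩ := hx₀
      exact ⟨i' y, by rw [← hy, ← hig]; rfl⟩
    have hyc : IsClosed ({y} : Set ↥(CohB1.ProjSpace n k)) := by
      have : g ⁻¹' {x} = {y} := by
        ext z
        simp only [Set.mem_preimage, Set.mem_singleton_iff]
        exact ⟨fun hz => g.isClosedEmbedding.injective (hz.trans hy.symm), fun hz => hz ▸ hy⟩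
      rw [← this]
      exact hx.preimage g.continuous
    obtain ⟨eT⟩ : Nonempty ((Scheme.Modules.pullback g).obj E ≅ FlatMod.freeMod (CohB1.ProjSpace n k) r) := by
      refine ih _ (TensorMod.LocFree.rank_pullback g hE) y hyc fun j hjc hjs hj1 hjy => ?_
      obtain ⟨ej⟩ := hj1
      obtain ⟨eg⟩ := heg
      obtain ⟨w, hw⟩ := hjy
      obtain ⟨e⟩ := h (j ≫ g) (by rw [Category.assoc, hgs, hjs])
        ⟨((Scheme.Modules.pullbackComp j g).app _).symm ≪≫ (Scheme.Modules.pullback j).mapIso eg ≪≫ ej⟩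
        ⟨w, by rw [← hy, ← hw]; rfl⟩
      exact ⟨(Scheme.Modules.pullbackComp j g).app E ≪≫ e⟩
    let eT' : (Scheme.Modules.pullback g).obj E ≅ ∐ fun _ : Fin r => tw n k 0 :=
      eT ≪≫ Sigma.mapIso fun _ => twZero.symm
    -- the middle cohomology vanishes
    have hmid : ∀ (d : ℤ) (q : ℕ), 1 ≤ q → q < n + 1 →
        Subsingleton (Coh.HH (CohB1.ProjSpace (n + 1) k) (CohB1.tensorMod E (tw (n + 1) k d)) q) := by
      intro d q h1 h2
      rcases Nat.lt_or_ge n 2 with hn2 | hn2
      · obtain rfl : n = 1 := by omega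
        obtain rfl : q = 1 := by omega
        have h0 := PnLines.Through.subsingleton_h1_neg_two hEf x i₀ hi₀ e₀ hx₀ h
        have S := fun d => PnFlag.hypSeq g heg hses hEf d
        have up : ∀ m : ℕ, Subsingleton (Coh.HH (CohB1.ProjSpace (1 + 1) k)
            (CohB1.tensorMod E (tw (1 + 1) k (-2 + (m : ℤ)))) 1) := by
          intro m
          induction m with
          | zero => simpa using h0
          | succ m ihm =>
            refine (S _).exact₂ 1 ?_ (PnLines.Through.free_vanish eT (Or.inr ⟨rfl, by omega⟩))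
            rwa [show (-2 + ((m + 1 : ℕ) : ℤ)) - 1 = -2 + (m : ℤ) by push_cast; ring]
        have down : ∀ m : ℕ, Subsingleton (Coh.HH (CohB1.ProjSpace (1 + 1) k)
            (CohB1.tensorMod E (tw (1 + 1) k (-2 - (m : ℤ)))) 1) := by
          intro m
          induction m with
          | zero => simpa using h0
          | succ m ihm =>
            have := (S (-2 - (m : ℤ))).exact₁ 0 (PnLines.Through.free_vanish eT (Or.inl ⟨rfl, by omega⟩)) ihm
            rwa [show (-2 - (m : ℤ)) - 1 = -2 - ((m + 1 : ℕ) : ℤ) by push_cast; ring] at this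
        rcases le_total (-2) d with hd | hd
        · have := up (d + 2).toNat
          rwa [show -2 + (((d + 2).toNat : ℕ) : ℤ) = d by omega] at this
        · have := down (-2 - d).toNat
          rwa [show -2 - (((-2 - d).toNat : ℕ) : ℤ) = d by omega] at this
      · exact PnFlag.mid_vanish hn2 (n + 1) E hEf g hgs heg
          (fun q d a b => ProjCoh.Horrocks.mid_of_sum (fun _ => 0) eT' d q a b) q d h1 h2
    obtain ⟨r', b, ⟨f⟩⟩ := ProjCoh.Horrocks.exists_iso_sum (Nat.succ_pos n) E
      ⟨Perfect.Coherent.isCoh_of_isFinLocFree hEf, fun m q h1 h2 => hmid m q h1 h2,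
        ProjCoh.Horrocks.exists_h0_vanish (Nat.succ_pos n) E hEf⟩
    obtain rfl := ProjCoh.Horrocks.rank_eq hE b f
    have hb : ∀ j, b j = 0 := fun j => by
      classical
      obtain ⟨a⟩ := PnFlag.nonempty_pullback_tw g heg (b j)
      let P := Scheme.Modules.pullback g
      refine eq_zero_of_retract hn (a.inv ≫ P.map (Sigma.ι (fun l => tw (n + 1) k (b l)) j ≫ f.inv) ≫ eT.hom)
        (eT.inv ≫ P.map (f.hom ≫ Sigma.desc fun l => if e : l = j then eqToHom (by rw [e]) else 0) ≫ a.hom) ?_
      simp only [Category.assoc, Iso.hom_inv_id_assoc, ← Functor.map_comp_assoc]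
      simp
    exact ⟨f ≪≫ Sigma.mapIso fun j => eqToIso (congrArg (tw (n + 1) k) (hb j)) ≪≫ twZero⟩

open CategoryTheory CategoryTheory.Limits AlgebraicGeometry in
/-- Let k be an algebraically closed field of characteristic zero, E a finite locally free O-module of
rank r on P^n_k and x a closed point of P^n_k. If i^*E ≅ O^r for every line through x, that is for
every closed immersion of k-schemes i : P^1_k → P^n_k along which O(1) pulls back to O(1) and whose
image contains x, then E ≅ O^r. -/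
theorem result (k : Type u) [Field k] [IsAlgClosed k] [CharZero k]
    (n r : ℕ) (E : (CohB1.ProjSpace n k).Modules) (hE : FlatMod.IsFinLocFreeOfRank r E) (x : ↥(CohB1.ProjSpace n k))
    (hx : IsClosed ({x} : Set ↥(CohB1.ProjSpace n k)))
    (h : ∀ (i : CohB1.ProjSpace 1 k ⟶ CohB1.ProjSpace n k) [IsClosedImmersion i],
      i ≫ CohB1.ProjSpace.toSpec n k = CohB1.ProjSpace.toSpec 1 k →
      Nonempty ((Scheme.Modules.pullback i).obj (Twist.twistProjSpace n k 1) ≅ Twist.twistProjSpace 1 k 1) →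
      x ∈ Set.range i.base →
      Nonempty ((Scheme.Modules.pullback i).obj E ≅ FlatMod.freeMod (CohB1.ProjSpace 1 k) r)) :
    Nonempty (E ≅ FlatMod.freeMod (CohB1.ProjSpace n k) r) := by
  exact trivial_of_lines r n E hE x hx h

end Groth.Agent.S11488
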