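import Groth.Statements.S11489
import Groth.Agent.H97.DetSection
import Groth.Agent.Lib.ProjCoh.GlobalFun
import Groth.Agent.Lib.Bott.FreePow
import Groth.Agent.Lib.Modules.AffineHom

set_option autoImplicit false
set_option linter.style.haveILetI false
universe u
open CategoryTheory CategoryTheory.Limits AlgebraicGeometry TopologicalSpace
open VBPn

namespace Groth.Agent.S11489

open Groth.Agent.Lib
open Groth.Agent.Lib.TensorMod.Dual (rs rf rs_smul rs_rs rs_self rf_rf)
open Groth.Agent.Lib.TensorMod.Basis (IsBasis comb)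
open Groth.Agent.Lib.TensorMod.Gen (one app_eq_smul)

variable {X : Scheme.{u}} {E L : X.Modules} {r : ℕ}

/-- Sections with nowhere vanishing determinant form a basis. -/
theorem isBasis_of_det (φ : ∀ U : X.affineOpens, Γ(L, U.1) ≃ₗ[Γ(X, U.1)] ↥(⋀[Γ(X, U.1)]^r Γ(E, U.1)))
    (hE : FlatMod.IsFinLocFreeOfRank r E) (ε : L ⟶ Coh.structureModule X)
    (s : Fin r → Γ(E, ⊤))
    (h : ∀ U : X.affineOpens, IsUnit (show Γ(X, U.1) from
      ε.app U.1 (H97.DetSection.lam φ U fun i => rs E le_top (s i)))) :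
    IsBasis (U := (⊤ : X.Opens)) s := by
  refine TensorMod.Basis.isBasis_of_forall_exists fun x _ => ?_
  obtain ⟨U, hxU, ⟨i⟩⟩ := hE x
  obtain ⟨b₀, hb₀⟩ := TensorMod.Basis.exists_basis_of_iso i
  obtain ⟨W, hWU, hxW⟩ := Modules.AffineHom.exists_affine hxU
  have hb := hb₀.res hWU
  choose C hC using fun k => (hb W.1 le_rfl).2 (rs E le_top (s k))
  have hs : ∀ k, rs E (le_top : W.1 ≤ ⊤) (s k) = ∑ l, C k l • rs E hWU (b₀ l) := fun k => by
    rw [← hC k]
    simp only [comb, rs_self]
  have hu := h W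
  rw [funext hs, H97.DetSection.lam_comb, Scheme.Modules.Hom.app_smul] at hu
  refine ⟨W.1, le_top, hxW, ?_⟩
  rw [funext hs]
  exact hb.of_matrix (Matrix.of C) (isUnit_of_mul_isUnit_left hu)

/-- Choice of sections with invertible determinant at a point. -/
theorem exists_det_unit (hE : FlatMod.IsFinLocFreeOfRank r E) {N : ℕ}
    (ψ : FlatMod.freeMod X N ⟶ E) [Epi ψ] (x : X) :
    ∃ (W : X.affineOpens) (hxW : x ∈ W.1) (b : Fin r → Γ(E, W.1)) (f : Fin r → Fin N)
      (C : Matrix (Fin r) (Fin r) Γ(X, W.1)), IsBasis b ∧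
      (∀ i, rs E le_top (ψ.app ⊤ (Modules.Free.gen X (f i))) = ∑ l, C i l • b l) ∧
      IsUnit (X.presheaf.germ W.1 x hxW C.det) := by
  classical
  obtain ⟨U, hxU, ⟨i⟩⟩ := hE x
  obtain ⟨b₀, hb₀⟩ := TensorMod.Basis.exists_basis_of_iso i
  obtain ⟨W, hWU, hxW⟩ := Modules.AffineHom.exists_affine hxU
  let b := fun l => rs E hWU (b₀ l)
  have hb : IsBasis b := hb₀.res hWU
  choose C hC using fun j : Fin N => (hb W.1 le_rfl).2 (rs E le_top (ψ.app ⊤ (Modules.Free.gen X j)))
  have hs : ∀ j, rs E le_top (ψ.app ⊤ (Modules.Free.gen X j)) = ∑ l, C j l • b l := fun j => by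
    rw [← hC j]
    simp only [comb, rs_self]
  let K := IsLocalRing.ResidueField (X.presheaf.stalk x)
  let res := IsLocalRing.residue (X.presheaf.stalk x)
  let v : Fin N → (Fin r → K) := fun j l => res (X.presheaf.germ W.1 x hxW (C j l))
  have hspan : Submodule.span K (Set.range v) = ⊤ := by
    refine eq_top_iff.2 fun w _ => ?_
    choose a ha using fun l => IsLocalRing.residue_surjective (w l)
    obtain ⟨y, hy⟩ := Modules.Stalk.epi_iff_stalk_surjective ψ |>.1 inferInstance x
      (∑ l, a l • E.presheaf.germ W.1 x hxW (b l))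
    obtain ⟨c, hc⟩ := (H97.DetSection.bijective_germ_comb
      ((TensorMod.Basis.isBasis_freeMod X N).res (le_top : W.1 ≤ ⊤)) hxW).2 y
    rw [Fintype.linearCombination_apply] at hc
    have hy' : ∑ l, a l • E.presheaf.germ W.1 x hxW (b l) =
        ∑ l, (∑ j, c j * X.presheaf.germ W.1 x hxW (C j l)) • E.presheaf.germ W.1 x hxW (b l) := by
      refine hy.symm.trans ?_
      show Modules.StalkModule.stalkMapₗ ψ x y = _
      rw [← hc, map_sum]
      simp only [Finset.sum_smul]
      rw [Finset.sum_comm]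
      refine Finset.sum_congr rfl fun j _ => ?_
      refine (Modules.StalkModule.stalkMapₗ ψ x).map_smul _ _ |>.trans ?_
      rw [Modules.StalkModule.stalkMapₗ_germ, Modules.TensorSec.app_rs, hs j, map_sum, Finset.smul_sum]
      exact Finset.sum_congr rfl fun l _ => by rw [Modules.StalkModule.germ_smul, smul_smul]
    have hal : a = fun l => ∑ j, c j * X.presheaf.germ W.1 x hxW (C j l) := by
      refine (H97.DetSection.bijective_germ_comb hb hxW).1 ?_
      simpa only [Fintype.linearCombination_apply] using hy'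
    have hw : w = ∑ j, res (c j) • v j := funext fun l => by
      rw [← ha l, hal, Finset.sum_apply, map_sum]
      exact Finset.sum_congr rfl fun j _ => by rw [map_mul]; rfl
    rw [hw]
    exact Submodule.sum_mem _ fun j _ => Submodule.smul_mem _ _ (Submodule.subset_span ⟨j, rfl⟩)
  obtain ⟨g, hg, -, hind⟩ := Submodule.exists_fun_fin_finrank_span_eq K (Set.range v)
  choose f hf using hg
  have hd : Module.finrank K (Submodule.span K (Set.range v)) = r := by
    rw [hspan, finrank_top, Module.finrank_pi, Fintype.card_fin]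
  refine ⟨W, hxW, b, fun i => f (Fin.cast hd.symm i), Matrix.of fun i l => C (f (Fin.cast hd.symm i)) l, hb,
    fun i => hs _, ?_⟩
  refine (isUnit_map_iff res _).1 ?_
  rw [RingHom.map_det, RingHom.map_det, ← Matrix.isUnit_iff_isUnit_det,
    ← Matrix.linearIndependent_rows_iff_isUnit]
  convert hind.comp (Fin.cast hd.symm) (Fin.cast_injective _) using 1
  funext i
  exact hf (Fin.cast hd.symm i)
  rfl

/-- Let k be a characteristic-zero algebraically closed field and E a finite locally free O-module of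
rank r on P^n_k. If E is globally generated (there is an epimorphism O^N → E for some N) and its
first Chern class vanishes, in the sense that an r-th exterior power det E of E is isomorphic to O,
then E ≅ O^r. -/
theorem result (k : Type u) [Field k] [IsAlgClosed k] [CharZero k]
    (n r : ℕ) (E : (CohB1.ProjSpace n k).Modules) (hE : FlatMod.IsFinLocFreeOfRank r E)
    (hgen : ∃ (N : ℕ) (φ : FlatMod.freeMod (CohB1.ProjSpace n k) N ⟶ E), Epi φ)
    (hdet : ∃ L : (CohB1.ProjSpace n k).Modules, ExtPow.IsExtPow r E L ∧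
      Nonempty (L ≅ Coh.structureModule (CohB1.ProjSpace n k))) :
    Nonempty (E ≅ FlatMod.freeMod (CohB1.ProjSpace n k) r) := by
  obtain ⟨N, ψ, hψ⟩ := hgen
  obtain ⟨L, ⟨φ, hφ⟩, ⟨ε⟩⟩ := hdet
  haveI := ProjSpace.Basic.irreducibleSpace_projSpace (n := n) (R := k)
  obtain ⟨x⟩ : Nonempty (CohB1.ProjSpace n k) := inferInstance
  obtain ⟨W, hxW, b, f, C, hb, hs, hu⟩ := exists_det_unit hE ψ x
  let s : Fin r → Γ(E, ⊤) := fun i => ψ.app ⊤ (Modules.Free.gen _ (f i))
  obtain ⟨ξ, hξ⟩ := Modules.AffineHom.exists_hom_of_affine (M := Coh.structureModule (CohB1.ProjSpace n k)) (N := L)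
    (fun U => LinearMap.toSpanSingleton Γ(CohB1.ProjSpace n k, U.1) Γ(L, U.1)
      (H97.DetSection.lam φ U fun i => rs E le_top (s i))) fun U V h m => by
    show rs L h ((show Γ(CohB1.ProjSpace n k, U.1) from m) • _) =
      (show Γ(CohB1.ProjSpace n k, V.1) from rf h m) • _
    rw [rs_smul, H97.DetSection.rs_lam φ hφ U V h]
    simp only [rs_rs]
  -- the determinant as a global function
  let c : Γ(CohB1.ProjSpace n k, ⊤) := (ξ ≫ ε.hom).app ⊤ (1 : Γ(CohB1.ProjSpace n k, ⊤))
  have hc : ∀ U : (CohB1.ProjSpace n k).affineOpens,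
      (show Γ(CohB1.ProjSpace n k, U.1) from ε.hom.app U.1 (H97.DetSection.lam φ U fun i => rs E le_top (s i))) =
        rf le_top c := fun U => by
    have h1 : ξ.app U.1 (1 : Γ(CohB1.ProjSpace n k, U.1)) = H97.DetSection.lam φ U fun i => rs E le_top (s i) :=
      (hξ U _).trans (one_smul _ _)
    rw [← h1]
    show (ξ ≫ ε.hom).app U.1 (1 : Γ(CohB1.ProjSpace n k, U.1)) = _
    refine Eq.trans ?_ (Modules.TensorSec.app_rs (ξ ≫ ε.hom) (le_top : U.1 ≤ ⊤) (1 : Γ(CohB1.ProjSpace n k, ⊤)))
    exact congrArg _ (map_one ((CohB1.ProjSpace n k).presheaf.map (homOfLE (le_top : U.1 ≤ ⊤)).op).hom).symm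
  obtain ⟨a, ha⟩ := (ProjCoh.GlobalFun.toGlobal_bijective n k).2 c
  have hgen : IsUnit ((CohB1.ProjSpace n k).presheaf.germ W.1 x hxW
      (show Γ(CohB1.ProjSpace n k, W.1) from ε.hom.app W.1 (H97.DetSection.lam φ W b))) := by
    have hg := H97.DetSection.isGen_lam φ hφ W hb
    obtain ⟨w, hw⟩ := (hg W.1 le_rfl).2 (ε.inv.app W.1 (1 : Γ(CohB1.ProjSpace n k, W.1)))
    simp only [rs_self] at hw
    have h1 := congrArg (ε.hom.app W.1) hw
    rw [Scheme.Modules.Hom.app_smul] at h1
    have h2 : ε.hom.app W.1 (ε.inv.app W.1 (1 : Γ(CohB1.ProjSpace n k, W.1))) = (1 : Γ(CohB1.ProjSpace n k, W.1)) :=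
      congrArg (fun χ : Coh.structureModule _ ⟶ Coh.structureModule _ => χ.app W.1 (1 : Γ(CohB1.ProjSpace n k, W.1)))
        ε.inv_hom_id
    exact (isUnit_iff_exists_inv'.2 ⟨w, h1.trans h2⟩).map _
  have hcu : IsUnit c := by
    have h1 := congrArg ((CohB1.ProjSpace n k).presheaf.germ W.1 x hxW) (hc W)
    rw [funext hs, H97.DetSection.lam_comb, Scheme.Modules.Hom.app_smul] at h1
    have h2 : IsUnit ((CohB1.ProjSpace n k).presheaf.germ W.1 x hxW (rf le_top c)) := by
      rw [← h1]
      exact (map_mul ((CohB1.ProjSpace n k).presheaf.germ W.1 x hxW).hom _ _).symm ▸ hu.mul hgen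
    rw [show (CohB1.ProjSpace n k).presheaf.germ W.1 x hxW (rf le_top c) =
      (CohB1.ProjSpace n k).presheaf.germ ⊤ x trivial c from
        TopCat.Presheaf.germ_res_apply (CohB1.ProjSpace n k).presheaf _ x hxW c, ← ha] at h2
    have ha0 : a ≠ 0 := fun h0 => by
      rw [h0, map_zero] at h2
      exact not_isUnit_zero (map_zero ((CohB1.ProjSpace n k).presheaf.germ ⊤ x trivial).hom ▸ h2)
    rw [← ha]
    exact (Ne.isUnit ha0).map _
  obtain ⟨i⟩ := Bott.FreePow.nonempty_iso_of_isBasis (isBasis_of_det φ hE ε.hom s fun U => by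
    rw [hc U]; exact hcu.map _)
  exact ⟨i.symm⟩

end Groth.Agent.S11489
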