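import Groth.Statements.S1149
import Groth.Agent.Lib.WeilRep.Etale

set_option autoImplicit false
universe u
open Pi1

set_option backward.isDefEq.respectTransparency false
set_option backward.isDefEq.respectTransparency.types false

namespace Groth.Agent.S1149

open AlgebraicGeometry CategoryTheory CategoryTheory.Limits in
/-- Let U and V be finite etale over a scheme X. Then some W finite etale over X has the following
property: for every morphism g : T ⟶ X the X-morphisms T ⟶ W are in bijection with the T-morphisms
U_T ⟶ V_T between the base changes. (The source's identification is moreover compatible with base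
change; only the bijections are asserted here.) -/
theorem result {X : Scheme.{u}} (U V : FEt.Cat X) :
    ∃ W : FEt.Cat X, ∀ (T : Scheme.{u}) (g : T ⟶ X),
      Nonempty ({s : T ⟶ W.left // s ≫ W.hom = g} ≃ ((FEt.restrict g).obj U ⟶ (FEt.restrict g).obj V)) := by
  obtain ⟨hUf, hUe⟩ := U.prop
  obtain ⟨hVf, hVe⟩ := V.prop
  haveI : IsFinite U.hom := hUf
  haveI : Etale U.hom := hUe
  haveI : IsFinite V.hom := hVf
  haveI : Etale V.hom := hVe
  let X' : CategoryTheory.Over U.left := (CategoryTheory.Over.pullback U.hom).obj (CategoryTheory.Over.mk V.hom)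
  haveI : IsFinite X'.hom := MorphismProperty.pullback_snd V.hom U.hom hVf
  haveI : Etale X'.hom := MorphismProperty.pullback_snd V.hom U.hom hVe
  obtain ⟨G, hGf, hGe, ⟨r⟩⟩ := Lib.WeilRep.Etale.exists_rep U.hom X'
  refine ⟨MorphismProperty.Over.mk ⊤ G.hom ⟨hGf, hGe⟩, fun T g => ⟨?_⟩⟩
  let Tg := CategoryTheory.Over.mk g
  let e1 : {s : T ⟶ G.left // s ≫ G.hom = g} ≃ (Tg ⟶ G) :=
    { toFun := fun s => CategoryTheory.Over.homMk s.1 s.2
      invFun := fun h => ⟨h.left, CategoryTheory.Over.w h⟩
      left_inv := fun s => rfl
      right_inv := fun h => CategoryTheory.Over.OverMorphism.ext rfl }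
  let e2 : ((CategoryTheory.Over.map U.hom).obj ((CategoryTheory.Over.pullback U.hom).obj Tg) ⟶
      CategoryTheory.Over.mk V.hom) ≃ ((FEt.restrict g).obj U ⟶ (FEt.restrict g).obj V) :=
    { toFun := fun h => MorphismProperty.Over.homMk
        (pullback.lift ((pullbackSymmetry U.hom g).hom ≫ h.left) (pullback.snd U.hom g) (by
          rw [Category.assoc]
          erw [CategoryTheory.Over.w h]
          change (pullbackSymmetry U.hom g).hom ≫ pullback.snd g U.hom ≫ U.hom = _
          rw [pullbackSymmetry_hom_comp_snd_assoc, pullback.condition]))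
        (pullback.lift_snd _ _ _) trivial
      invFun := fun m => CategoryTheory.Over.homMk
        ((pullbackSymmetry g U.hom).hom ≫ m.left ≫ pullback.fst V.hom g) (by
          change ((pullbackSymmetry g U.hom).hom ≫ m.left ≫ pullback.fst V.hom g) ≫ V.hom =
            pullback.snd g U.hom ≫ U.hom
          have hm : m.left ≫ pullback.snd V.hom g = pullback.snd U.hom g := MorphismProperty.Over.w m
          rw [Category.assoc, Category.assoc, pullback.condition, reassoc_of% hm,
            pullbackSymmetry_hom_comp_snd_assoc, pullback.condition])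
      left_inv := fun h => CategoryTheory.Over.OverMorphism.ext (by
        change (pullbackSymmetry g U.hom).hom ≫ pullback.lift ((pullbackSymmetry U.hom g).hom ≫ h.left) _ _ ≫ _ = h.left
        rw [pullback.lift_fst, ← Category.assoc, show (pullbackSymmetry g U.hom).hom ≫ (pullbackSymmetry U.hom g).hom = 𝟙 _ from by
          apply pullback.hom_ext <;> simp]
        exact Category.id_comp _)
      right_inv := fun m => MorphismProperty.Over.Hom.ext (by
        change pullback.lift ((pullbackSymmetry U.hom g).hom ≫ (pullbackSymmetry g U.hom).hom ≫ m.left ≫ _) _ _ = m.left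
        have hm : m.left ≫ pullback.snd V.hom g = pullback.snd U.hom g := MorphismProperty.Over.w m
        apply pullback.hom_ext
        · rw [pullback.lift_fst, ← Category.assoc, show (pullbackSymmetry U.hom g).hom ≫ (pullbackSymmetry g U.hom).hom = 𝟙 _ from by
            apply pullback.hom_ext <;> simp]
          exact Category.id_comp _
        · rw [pullback.lift_snd, hm]) }
  exact e1.trans (r.homEquiv.trans (((CategoryTheory.Over.mapPullbackAdj U.hom).homEquiv _ _).symm.trans e2))

end Groth.Agent.S1149
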