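import Groth.Statements.S11492
import Groth.Agent.Lib.Subbundle98.Proj
import Groth.Agent.Lib.ProjCoh.Coherent

set_option autoImplicit false
universe u
open VBPn

namespace Groth.Agent.S11492

open CategoryTheory CategoryTheory.Limits AlgebraicGeometry in
/-- Let k be a characteristic-zero algebraically closed field and E a finite locally free O-module of
rank r > n on P^n_k. Then for some integer a, E sits in a short exact sequence of vector bundles 0 →
O(a)^(r−n) → E → F → 0 with F of rank n: a monomorphism from the direct sum of r − n copies of O(a)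
into E whose cokernel is finite locally free of rank n. -/
theorem result (k : Type u) [Field k] [IsAlgClosed k] [CharZero k]
    (n r : ℕ) (hrn : n < r) (E : (CohB1.ProjSpace n k).Modules) (hE : FlatMod.IsFinLocFreeOfRank r E) :
    ∃ (a : ℤ) (φ : (∐ fun _ : Fin (r - n) => Twist.twistProjSpace n k a) ⟶ E),
      Mono φ ∧ FlatMod.IsFinLocFreeOfRank n (cokernel φ) := by
  open Groth.Agent.Lib Groth.Agent.Lib.ProjCoh Groth.Agent.Lib.TensorMod Basic in
  haveI : IsNoetherianRing k := inferInstance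
  obtain ⟨N, m, p, hp⟩ := ProjCoh.Coherent.exists_epi E
    (Perfect.Coherent.isCoh_of_isFinLocFree (TensorMod.LocFree.of_rank hE))
  let tw := fun d : ℤ => ProjCoh.Coherent.tw n k d
  let T := fun d : ℤ => TensorMod.Basic.tensorBy (tw d)
  have hrk : ∀ {j : ℕ} {M : (CohB1.ProjSpace n k).Modules} (d : ℤ), FlatMod.IsFinLocFreeOfRank j M →
      FlatMod.IsFinLocFreeOfRank j ((T d).obj M) := fun {j M} d hM => by
    have := TensorMod.LocFree.rank_tensorMod hM
      (TensorMod.LocFree.of_isInvertible (ProjCoh.Coherent.isInvertible_tw (n := n) (R := k) d))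
    rw [mul_one] at this; exact this
  obtain ⟨i⟩ := ProjCoh.Coherent.nonempty_freeMod_tensor (n := n) (R := k) N (-(m : ℤ))
  let p' : FlatMod.freeMod (CohB1.ProjSpace n k) N ⟶ (T m).obj E :=
    (ProjCoh.Coherent.cancelNat (ProjCoh.Coherent.twCancel (n := n) (R := k) (-(m : ℤ)) m (by omega))).inv.app _ ≫
      (T m).map (i.hom ≫ p)
  haveI : Epi p' := by
    haveI : Epi ((T m).map (i.hom ≫ p)) := (T m).map_epi _
    exact epi_comp _ _
  obtain ⟨φ, hφ, hc⟩ := Groth.Agent.Lib.Subbundle98.Proj.exists_subbundle k hrn.le (hrk m hE) p'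
  obtain ⟨i'⟩ := ProjCoh.Coherent.nonempty_freeMod_tensor (n := n) (R := k) (r - n) (-(m : ℤ))
  let κ : (T (-(m : ℤ))).obj ((T m).obj E) ≅ E :=
    (ProjCoh.Coherent.cancelNat (ProjCoh.Coherent.twCancel (n := n) (R := k) (m : ℤ) (-(m : ℤ)) (by omega))).app E
  let μ : (∐ fun _ : Fin (r - n) => Twist.twistProjSpace n k (-(m : ℤ))) ≅
      (T (-(m : ℤ))).obj (FlatMod.freeMod (CohB1.ProjSpace n k) (r - n)) :=
    (Sigma.mapIso fun _ => ProjCoh.Coherent.twIso (n := n) (R := k) (-(m : ℤ))) ≪≫ i'.symm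
  haveI : Mono ((T (-(m : ℤ))).map φ) := (T (-(m : ℤ))).map_mono φ
  refine ⟨-(m : ℤ), μ.hom ≫ (T (-(m : ℤ))).map φ ≫ κ.hom, inferInstance, ?_⟩
  exact TensorMod.LocFree.rank_of_iso ((PreservesCokernel.iso (T (-(m : ℤ))) φ) ≪≫
    (cokernelCompIsIso ((T (-(m : ℤ))).map φ) κ.hom).symm ≪≫
    (cokernelEpiComp μ.hom ((T (-(m : ℤ))).map φ ≫ κ.hom)).symm) (hrk _ hc)

end Groth.Agent.S11492
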