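import Groth.Statements.S11495
import Groth.Agent.Lib.Regular45.PDLocal
-- import your own Groth.Agent.* helpers here

set_option autoImplicit false
universe u
open CategoryTheory
open VBPn

namespace Groth.Agent.S11495

/-- Let A be a regular local ring and M a finitely generated A-module. For every q ≥ 0, the projective
(homological) dimension of M is at most q if and only if Ext^i_A(M, A) = 0 for all i > q. The
published statement is for stalks of coherent analytic sheaves on a complex manifold; this row is
stated for any regular local ring. -/
theorem result (A : Type u) [CommRing A] [IsRegularLocalRing A]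
    (M : Type u) [AddCommGroup M] [Module A M] [Module.Finite A M] (q : ℕ) :
    HasProjectiveDimensionLT (ModuleCat.of A M) (q + 1) ↔
      ∀ i : ℕ, q < i → Subsingleton (Abelian.Ext (ModuleCat.of A M) (ModuleCat.of A A) i) := by
  refine ⟨fun h i hi => HasProjectiveDimensionLT.subsingleton _ (q + 1) i hi _, fun h => ?_⟩
  let d := (IsLocalRing.maximalIdeal A).spanFinrank
  have hd : ringKrullDim A = (d : WithBot ℕ∞) := (IsRegularLocalRing.spanFinrank_maximalIdeal (R := A)).symm
  suffices key : ∀ k : ℕ, q + k ≥ q → HasProjectiveDimensionLT (ModuleCat.of A M) (q + k + 1) →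
      HasProjectiveDimensionLT (ModuleCat.of A M) (q + 1) by
    refine key d (Nat.le_add_right _ _) ?_
    have := H22.GlobalDim.hasProjectiveDimensionLT_regular d hd M
    exact hasProjectiveDimensionLT_of_ge (ModuleCat.of A M) (d + 1) (q + d + 1) (by omega)
  intro k
  induction k with
  | zero => exact fun _ h => h
  | succ k ih =>
    intro _ hk
    refine ih (Nat.le_add_right _ _) (Lib.Regular45.PDLocal.pdle_of_ext_cyclic _ M fun I => ?_)
    refine subsingleton_of_forall_eq 0 fun x => ?_
    let S : ShortComplex (ModuleCat.{u} A) :=
      ModuleCat.shortComplexOfCompEqZero I.subtype (Submodule.mkQ I)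
        (LinearMap.exact_subtype_mkQ I).linearMap_comp_eq_zero
    have hS : S.ShortExact := ModuleCat.shortComplex_shortExact S
      (LinearMap.exact_subtype_mkQ I) (Submodule.subtype_injective _) (Submodule.mkQ_surjective _)
    have hI : Subsingleton (Abelian.Ext (ModuleCat.of A M) S.X₁ (q + k + 1 + 1)) :=
      HasProjectiveDimensionLT.subsingleton _ (q + (k + 1) + 1) _ (by omega) _
    obtain ⟨y, rfl⟩ := Abelian.Ext.covariant_sequence_exact₃ (ModuleCat.of A M) hS x rfl
      (Subsingleton.elim _ _)
    have hA : Subsingleton (Abelian.Ext (ModuleCat.of A M) S.X₂ (q + k + 1)) := h _ (by omega)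
    rw [Subsingleton.elim y 0, Abelian.Ext.zero_comp]

end Groth.Agent.S11495
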