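import Groth.Statements.S11496
import Groth.Agent.Lib.Regular.Serre
import Groth.Agent.Lib.Excellent.CatenaryDim

set_option autoImplicit false
set_option linter.style.haveILetI false
universe u
open CategoryTheory
open VBPn

namespace Groth.Agent.S11496

/-- Let A be a regular local ring, M a finitely generated A-module and i ≥ 0. The support of Ext^i_A(M,
A) has dimension at most dim A − i: for every prime ideal p of A such that Ext^i over the
localization A_p of M_p into A_p is nonzero (this Ext group is the localization at p of Ext^i_A(M,
A)), one has dim(A/p) + i ≤ dim A. The published statement is for coherent analytic sheaves on an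
n-dimensional complex manifold; this row is stated for any regular local ring. -/
theorem result (A : Type u) [CommRing A] [IsRegularLocalRing A]
    (M : Type u) [AddCommGroup M] [Module A M] [Module.Finite A M] (i : ℕ) (p : Ideal A) [p.IsPrime]
    (h : Nontrivial (Abelian.Ext
      (ModuleCat.of (Localization.AtPrime p) (LocalizedModule p.primeCompl M))
      (ModuleCat.of (Localization.AtPrime p) (Localization.AtPrime p)) i)) :
    ringKrullDim (A ⧸ p) + (i : WithBot ℕ∞) ≤ ringKrullDim A := by
  let L := Localization.AtPrime p
  haveI : IsRegularLocalRing L := Groth.Agent.Lib.Regular.Serre.isRegularLocalRing_localization p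
  haveI : Module.Finite L (LocalizedModule p.primeCompl M) :=
    Module.Finite.of_isLocalizedModule p.primeCompl (LocalizedModule.mkLinearMap p.primeCompl M)
  have hpd : CategoryTheory.HasProjectiveDimensionLT (ModuleCat.of L (LocalizedModule p.primeCompl M))
      ((IsLocalRing.maximalIdeal L).spanFinrank + 1) :=
    Groth.Agent.Lib.Regular.Serre.pdle_all (R := L) (LocalizedModule p.primeCompl M)
  have hi : i ≤ (IsLocalRing.maximalIdeal L).spanFinrank := by
    by_contra hlt
    haveI := hpd.subsingleton (ModuleCat.of L (LocalizedModule p.primeCompl M)) _ i (by omega) (ModuleCat.of L L)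
    exact not_subsingleton _ this
  have hht : (i : WithBot ℕ∞) ≤ ((p.height : ℕ∞) : WithBot ℕ∞) := by
    rw [← IsLocalization.AtPrime.ringKrullDim_eq_height p L, ← IsRegularLocalRing.spanFinrank_maximalIdeal]
    exact_mod_cast hi
  let P : PrimeSpectrum A := ⟨p, inferInstance⟩
  refine (add_le_add (Groth.Agent.Lib.Excellent.CatenaryDim.ringKrullDim_quotient_eq_coheight P).le hht).trans ?_
  change ((Order.coheight P : ℕ∞) : WithBot ℕ∞) + ((P.asIdeal.height : ℕ∞) : WithBot ℕ∞) ≤ _
  rw [PrimeSpectrum.height_eq_orderHeight, ← WithBot.coe_add, add_comm]
  rw [ringKrullDim, Order.krullDim_eq_iSup_height_add_coheight_of_nonempty]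
  exact WithBot.coe_le_coe.2 (le_iSup (fun a : PrimeSpectrum A => Order.height a + Order.coheight a) P)

end Groth.Agent.S11496
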