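import Groth.Statements.S11497
import Mathlib.Algebra.Homology.DerivedCategory.Ext.ExactSequences
import Mathlib.Algebra.Homology.ShortComplex.Abelian
import Mathlib.Algebra.Homology.ShortComplex.Preadditive

set_option autoImplicit false
universe w v u
open CategoryTheory
open VBPn

namespace Groth.Agent.S11497

section
variable {C : Type u} [Category.{v} C] [Abelian C] [HasExt.{w} C]

theorem exists_extend {S : ShortComplex C} (hS : S.ShortExact) {Y : C}
    (h : Subsingleton (Abelian.Ext S.X₃ Y 1)) (x : S.X₁ ⟶ Y) : ∃ y : S.X₂ ⟶ Y, S.f ≫ y = x := by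
  obtain ⟨z, hz⟩ := Abelian.Ext.contravariant_sequence_exact₁ hS Y (Abelian.Ext.mk₀ x) (n₁ := 1) rfl
    (Subsingleton.elim _ _)
  obtain ⟨y, rfl⟩ := (Abelian.Ext.mk₀_bijective S.X₂ Y).2 z
  rw [Abelian.Ext.mk₀_comp_mk₀] at hz
  exact ⟨y, (Abelian.Ext.mk₀_bijective _ _).1 hz⟩

theorem exists_lift {S : ShortComplex C} (hS : S.ShortExact) {X : C}
    (h : Subsingleton (Abelian.Ext X S.X₁ 1)) (x : X ⟶ S.X₃) : ∃ y : X ⟶ S.X₂, y ≫ S.g = x := by
  obtain ⟨z, hz⟩ := Abelian.Ext.covariant_sequence_exact₃ X hS (Abelian.Ext.mk₀ x) (n₁ := 1) rfl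
    (Subsingleton.elim _ _)
  obtain ⟨y, rfl⟩ := (Abelian.Ext.mk₀_bijective X S.X₂).2 z
  rw [Abelian.Ext.mk₀_comp_mk₀] at hz
  exact ⟨y, (Abelian.Ext.mk₀_bijective _ _).1 hz⟩

theorem subsingleton_ext_one {S : ShortComplex C} (hS : S.ShortExact) {Y : C}
    (h2 : Subsingleton (Abelian.Ext S.X₂ Y 1)) (h3 : Subsingleton (Abelian.Ext S.X₃ Y 2)) :
    Subsingleton (Abelian.Ext S.X₁ Y 1) := by
  refine ⟨fun a b => ?_⟩
  obtain ⟨za, rfl⟩ := Abelian.Ext.contravariant_sequence_exact₁ hS Y a (n₁ := 2) rfl (Subsingleton.elim _ _)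
  obtain ⟨zb, rfl⟩ := Abelian.Ext.contravariant_sequence_exact₁ hS Y b (n₁ := 2) rfl (Subsingleton.elim _ _)
  rw [Subsingleton.elim za zb]

variable (M : ShortComplex C)

theorem cyclesSES [Epi M.g] : (ShortComplex.mk M.iCycles M.g M.iCycles_g).ShortExact where
  exact := ShortComplex.exact_of_f_is_kernel _ M.cyclesIsKernel

theorem homologySES [Mono M.f] :
    (ShortComplex.mk M.toCycles M.homologyπ M.toCycles_comp_homologyπ).ShortExact where
  exact := ShortComplex.exact_of_g_is_cokernel _ M.homologyIsCokernel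
  mono_f := by
    have : Mono (M.toCycles ≫ M.iCycles) := by rw [M.toCycles_i]; infer_instance
    exact mono_of_mono M.toCycles M.iCycles

end

/-- In an abelian category, let M : A → B → C and M' : A' → B' → C' be monads, i.e. short complexes
whose first map is a monomorphism and whose second map is an epimorphism, with cohomology (homology)
objects E and E'. Suppose Hom(B, A') = 0, Hom(C, B') = 0 and Ext^1(C, A') = Ext^1(B, A') = Ext^1(C,
B') = Ext^2(C, A') = 0. Then the map sending a morphism of monads M → M' to the induced morphism E →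
E' is bijective. The published statement is for monads of vector bundles on a complex manifold X,
with Ext^i(C, A') written H^i(X, C^* ⊗ A'); this row is stated in any abelian category. -/
theorem result {C : Type u} [Category.{v} C] [Abelian C] [HasExt.{w} C]
    (M M' : ShortComplex C) [Mono M.f] [Epi M.g] [Mono M'.f] [Epi M'.g]
    (hBA : ∀ f : M.X₂ ⟶ M'.X₁, f = 0) (hCB : ∀ f : M.X₃ ⟶ M'.X₂, f = 0)
    (hCA₁ : Subsingleton (Abelian.Ext M.X₃ M'.X₁ 1)) (hBA₁ : Subsingleton (Abelian.Ext M.X₂ M'.X₁ 1))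
    (hCB₁ : Subsingleton (Abelian.Ext M.X₃ M'.X₂ 1)) (hCA₂ : Subsingleton (Abelian.Ext M.X₃ M'.X₁ 2)) :
    Function.Bijective (fun φ : M ⟶ M' => ShortComplex.homologyMap φ) := by
  have hs := cyclesSES M
  have ht := homologySES M'
  constructor
  · suffices key : ∀ φ : M ⟶ M', ShortComplex.homologyMap φ = 0 → φ = 0 by
      intro a b hab
      exact sub_eq_zero.1 (key (a - b) (by rw [ShortComplex.homologyMap_sub]; exact sub_eq_zero.2 hab))
    intro φ hφ
    have h0 : ShortComplex.cyclesMap φ ≫ M'.homologyπ = 0 := by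
      rw [← ShortComplex.homologyπ_naturality, hφ, Limits.comp_zero]
    haveI := ht.mono_f
    obtain ⟨q, hq⟩ := ht.exact.lift' (ShortComplex.cyclesMap φ) h0
    obtain ⟨r, hr⟩ := exists_extend hs hCA₁ q
    have h1 : M.iCycles ≫ φ.τ₂ = 0 := by
      rw [← ShortComplex.cyclesMap_i φ, ← hq]
      dsimp at hr ⊢
      rw [← hr, hBA r, Limits.comp_zero, Limits.zero_comp, Limits.zero_comp]
    obtain ⟨s, hs'⟩ := hs.exact.desc' φ.τ₂ h1
    have h2 : φ.τ₂ = 0 := by rw [← hs', hCB s]; exact Limits.comp_zero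
    apply ShortComplex.hom_ext
    · rw [← cancel_mono M'.f, φ.comm₁₂, h2, Limits.comp_zero]
      exact Limits.zero_comp.symm
    · exact h2
    · rw [← cancel_epi M.g, ← φ.comm₂₃, h2, Limits.zero_comp]
      exact Limits.comp_zero.symm
  · intro e
    haveI : Subsingleton (Abelian.Ext M.cycles M'.X₁ 1) := subsingleton_ext_one hs hBA₁ hCA₂
    obtain ⟨z, hz⟩ := exists_lift ht this (M.homologyπ ≫ e)
    obtain ⟨b, hb⟩ := exists_extend hs hCB₁ (z ≫ M'.iCycles)
    dsimp at z hz b hb
    haveI := ht.mono_f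
    obtain ⟨a, ha⟩ := ht.exact.lift' (M.toCycles ≫ z) (by
      dsimp
      rw [Category.assoc, hz, ShortComplex.toCycles_comp_homologyπ_assoc, Limits.zero_comp])
    obtain ⟨c, hc⟩ := hs.exact.desc' (b ≫ M'.g) (by
      dsimp
      rw [reassoc_of% hb, ShortComplex.iCycles_g, Limits.comp_zero])
    dsimp at a ha c hc
    let φ : M ⟶ M' :=
      { τ₁ := a
        τ₂ := b
        τ₃ := c
        comm₁₂ := by rw [← M'.toCycles_i, reassoc_of% ha, ← M.toCycles_i, Category.assoc, hb]
        comm₂₃ := hc.symm }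
    refine ⟨φ, ?_⟩
    have hz' : ShortComplex.cyclesMap φ = z := by
      rw [← cancel_mono M'.iCycles, ShortComplex.cyclesMap_i, ← hb]
    show ShortComplex.homologyMap φ = e
    rw [← cancel_epi M.homologyπ, ShortComplex.homologyπ_naturality, hz', hz]

end Groth.Agent.S11497
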