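import Groth.Statements.S11499
import Mathlib.LinearAlgebra.Dimension.Free
import Mathlib.LinearAlgebra.Basis.VectorSpace
import Mathlib.RingTheory.TensorProduct.Finite
import Mathlib.RingTheory.Localization.Integer
import Mathlib.RingTheory.TensorProduct.IsBaseChangePi
import Mathlib.RingTheory.Localization.Module
import Mathlib.RingTheory.LocalProperties.Basic

set_option autoImplicit false
universe u
open TensorProduct
open VBPn

namespace Groth.Agent.S11499

/-- Let A be an integral domain with fraction field K and M a finitely generated torsion-free A-module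
of rank r (K ⊗_A M is r-dimensional over K). Then there is an injective A-linear map M → A^r. The
published statement is for torsion-free coherent sheaves on a complex manifold, locally near a
point; this row is its statement for one stalk, over any domain. -/
theorem result (A : Type u) [CommRing A] [IsDomain A]
    (M : Type u) [AddCommGroup M] [Module A M] [Module.Finite A M] [NoZeroSMulDivisors A M] (r : ℕ)
    (hr : Module.finrank (FractionRing A) (FractionRing A ⊗[A] M) = r) :
    ∃ f : M →ₗ[A] (Fin r → A), Function.Injective f := by
  classical
  let K := FractionRing A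
  let ι : M →ₗ[A] K ⊗[A] M := TensorProduct.mk A K M 1
  have hι : Function.Injective ι := by
    intro x y hxy
    obtain ⟨c, hc⟩ := (IsLocalizedModule.eq_iff_exists (nonZeroDivisors A) ι).1 hxy
    exact smul_right_injective M (nonZeroDivisors.ne_zero c.2) hc
  obtain ⟨s, hs⟩ := (Module.finite_def.1 ‹Module.Finite A M›)
  let b : Module.Basis (Fin r) K (K ⊗[A] M) := Module.finBasisOfFinrankEq K _ hr
  let ψ : M →ₗ[A] (Fin r → K) := (b.equivFun.toLinearMap.restrictScalars A).comp ι
  have hψ : Function.Injective ψ := b.equivFun.injective.comp hι
  obtain ⟨d, hd⟩ := IsLocalization.exist_integer_multiples (nonZeroDivisors A) (s ×ˢ (Finset.univ : Finset (Fin r))) (fun p => ψ p.1 p.2)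
  let j : (Fin r → A) →ₗ[A] (Fin r → K) := (Algebra.linearMap A K).compLeft (Fin r)
  have hj : Function.Injective j := fun v w h => funext fun i => IsFractionRing.injective A K (congrFun h i)
  let Φ : M →ₗ[A] (Fin r → K) := (d : A) • ψ
  have hmem : ∀ m, Φ m ∈ LinearMap.range j := by
    intro m
    have : (⊤ : Submodule A M) ≤ (LinearMap.range j).comap Φ := by
      rw [← hs, Submodule.span_le]
      intro x hx
      choose g hg using fun i => hd (x, i) (Finset.mem_product.2 ⟨hx, Finset.mem_univ i⟩)
      exact ⟨g, funext fun i => hg i⟩
    exact this Submodule.mem_top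
  refine ⟨(LinearEquiv.ofInjective j hj).symm.toLinearMap.comp (Φ.codRestrict _ hmem), ?_⟩
  intro x y h
  have h' : (d : A) • ψ x = (d : A) • ψ y := congrArg Subtype.val ((LinearEquiv.ofInjective j hj).symm.injective h)
  exact hψ (smul_right_injective (Fin r → K) (nonZeroDivisors.ne_zero d.2) h')

end Groth.Agent.S11499
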