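import Groth.Statements.S11503
import Groth.Agent.Lib.TFOne.Generic
import Groth.Agent.Lib.FittSheaf.Gen
import Groth.Agent.Lib.CurveBundle.Coherent
import Groth.Agent.Lib.ProjSpace.Basic
import Groth.Agent.Lib.ProjCoh.Coherent
-- import your own Groth.Agent.* helpers here

set_option autoImplicit false
universe u
open VBPn

namespace Groth.Agent.S11503
open Groth.Agent.Lib CategoryTheory CategoryTheory.Limits AlgebraicGeometry

set_option linter.style.haveILetI false

theorem structureModule_rank_one (X : Scheme.{u}) :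
    FlatMod.IsFinLocFreeOfRank 1 (Coh.structureModule X) := fun x =>
  ⟨⊤, trivial, ⟨Scheme.Modules.restrictUnitIso _ ≪≫
    (coproductUniqueIso fun _ : Fin 1 => Coh.structureModule _).symm⟩⟩

theorem germ_app_smulAb {X : Scheme.{u}} {E : X.Modules} {φ : E ⟶ E} (r : Coh.Γtop X)
    (h : (SheafOfModules.toSheaf X.ringCatSheaf).map φ = Coh.smulAb E r) (x : X) (v : E.presheaf.stalk x) :
    Modules.StalkModule.stalkMapₗ φ x v = X.presheaf.germ ⊤ x trivial r • v := by
  obtain ⟨U, hx, m, rfl⟩ := TopCat.Presheaf.germ_exist (F := E.presheaf) v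
  rw [Modules.StalkModule.stalkMapₗ_germ,
    ← TopCat.Presheaf.germ_res_apply X.presheaf (homOfLE (le_top : U ≤ ⊤)) x hx r,
    ← Modules.StalkModule.germ_smul]
  exact congrArg _ (congrArg (fun ψ => ψ.hom.app (Opposite.op U) m) h)

theorem not_homothety {X : Scheme.{u}} [IsIntegral X] [IsLocallyNoetherian X] (r : ℕ) (hr : 1 < r)
    (E : X.Modules) (hE : FlatMod.IsFinLocFreeOfRank r E) (s : Coh.structureModule X ⟶ E) (hs : s ≠ 0)
    (t : E ⟶ Coh.structureModule X) (ht : t ≠ 0) (c : Coh.Γtop X) :
    (SheafOfModules.toSheaf X.ringCatSheaf).map (t ≫ s) ≠ Coh.smulAb E c := by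
  intro h
  have hO := structureModule_rank_one X
  have free : ∀ {M : X.Modules} {n : ℕ}, FlatMod.IsFinLocFreeOfRank n M → ∀ x : X,
      Module.Free (X.presheaf.stalk x) (M.presheaf.stalk x) ∧
        Module.finrank (X.presheaf.stalk x) (M.presheaf.stalk x) = n := fun hM x => by
    obtain ⟨U, hx, ⟨i⟩⟩ := hM x
    exact FittSheaf.stalk_of_free _ i hx
  have flf : ∀ {M : X.Modules} {n : ℕ}, FlatMod.IsFinLocFreeOfRank n M → FlatMod.IsFinLocFree M :=
    fun hM x => by
      obtain ⟨U, hx, i⟩ := hM x
      exact ⟨U, _, hx, i⟩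
  have hgen : ∀ {M N : X.Modules} {n : ℕ}, FlatMod.IsFinLocFreeOfRank n N → ∀ f : M ⟶ N, f ≠ 0 →
      Modules.StalkModule.stalkMapₗ f (genericPoint X) ≠ 0 := fun hN f hf h0 => by
    haveI := CurveBundle.Coherent.isQCoh (flf hN)
    refine hf (TFOne.Generic.eq_zero_of_generic (CurveBundle.Coherent.isTorsionFree (flf hN)) f
      fun η hη => ?_)
    rw [genericPoints_eq_singleton, Set.mem_singleton_iff] at hη
    subst hη
    exact h0
  let K := X.presheaf.stalk (genericPoint X)
  let η := genericPoint X
  letI : Field K := inferInstanceAs (Field X.functionField)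
  obtain ⟨_, hEr⟩ := free hE η
  obtain ⟨_, hO1⟩ := free hO η
  haveI : Module.Finite K (E.presheaf.stalk η) :=
    Module.finite_of_finrank_pos (lt_of_lt_of_le (Nat.lt_trans Nat.zero_lt_one hr) hEr.ge)
  haveI : Module.Finite K ((Coh.structureModule X).presheaf.stalk η) :=
    Module.finite_of_finrank_pos (lt_of_lt_of_le Nat.zero_lt_one hO1.ge)
  set sη := Modules.StalkModule.stalkMapₗ s η
  set tη := Modules.StalkModule.stalkMapₗ t η
  have hcomp : ∀ v, sη (tη v) = X.presheaf.germ ⊤ η trivial c • v := fun v => by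
    refine Eq.trans ?_ (germ_app_smulAb c h η v)
    exact (LinearMap.congr_fun (Modules.StalkModule.stalkMapₗ_comp t s η) v).symm
  have hsinj : Function.Injective sη := by
    rw [← LinearMap.ker_eq_bot, ← Submodule.finrank_eq_zero]
    by_contra hk
    have hle : Module.finrank K sη.ker ≤ 1 := (Submodule.finrank_le _).trans hO1.le
    have hk1 : Module.finrank K sη.ker = 1 := le_antisymm hle (Nat.one_le_iff_ne_zero.2 hk)
    refine hgen hE s hs (LinearMap.ker_eq_top.1 (Submodule.eq_top_of_finrank_eq ?_))
    rw [hk1]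
    exact hO1.symm
  by_cases hc : X.presheaf.germ ⊤ η trivial c = 0
  · refine hgen hO t ht (LinearMap.ext fun v => hsinj ?_)
    show sη (tη v) = sη 0
    rw [hcomp, hc, map_zero]
    exact zero_smul K v
  · have htinj : Function.Injective tη := fun v w hvw => by
      have h1 := hcomp v
      rw [hvw, hcomp] at h1
      exact ((IsUnit.mk0 (G₀ := K) _ hc).smul_left_cancel.mp h1).symm
    have := LinearMap.finrank_le_finrank_of_injective htinj
    change Module.finrank K _ ≤ Module.finrank K _ at this
    rw [show Module.finrank K (E.presheaf.stalk η) = r from hEr,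
      show Module.finrank K ((Coh.structureModule X).presheaf.stalk η) = 1 from hO1] at this
    omega


open CategoryTheory CategoryTheory.Limits AlgebraicGeometry in
/-- Let k be a characteristic-zero algebraically closed field and E a finite locally free O-module of
rank r > 1 on P^n_k. If E has a nonzero section (a nonzero morphism O → E) and its dual has a
nonzero section (a nonzero morphism E → O), then E is not simple: there is an endomorphism of E
which is not a homothety, i.e. whose underlying map of abelian sheaves is not multiplication by any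
scalar c ∈ k. -/
theorem result (k : Type u) [Field k] [IsAlgClosed k] [CharZero k]
    (n r : ℕ) (hr : 1 < r) (E : (CohB1.ProjSpace n k).Modules) (hE : FlatMod.IsFinLocFreeOfRank r E)
    (s : Coh.structureModule (CohB1.ProjSpace n k) ⟶ E) (hs : s ≠ 0)
    (t : E ⟶ Coh.structureModule (CohB1.ProjSpace n k)) (ht : t ≠ 0) :
    ∃ φ : E ⟶ E, ∀ c : k, (SheafOfModules.toSheaf (CohB1.ProjSpace n k).ringCatSheaf).map φ ≠
      Coh.smulAb E (Coh.toGlobal (CohB1.ProjSpace.toSpec n k) c) := by
  exact ⟨t ≫ s, fun c => not_homothety r hr E hE s hs t ht _⟩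

end Groth.Agent.S11503
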