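import Groth.Statements.S11506
import Groth.Agent.Lib.PnOmega.Wedge
import Groth.Agent.Lib.PnOmega.NegOne
import Groth.Agent.Lib.Bott.Euler
import Groth.Agent.Lib.Modules.ExtPowTwist
import Groth.Agent.Lib.FundLocal.ExtPowExists
open Groth.Agent.Lib

set_option autoImplicit false
universe u
open VBPn

namespace Groth.Agent.S11506

open CategoryTheory CategoryTheory.Limits AlgebraicGeometry in
/-- Let k be a characteristic-zero algebraically closed field and E a finite locally free O-module of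
rank 2 on P^n_k with a second exterior power isomorphic to O(c), and let k₀ satisfy c + 2k₀ = 0 or c
+ 2k₀ = −1. If every endomorphism of E is a homothety (its underlying map of abelian sheaves is
multiplication by a scalar in k), then H^0(P^n_k, E ⊗ O(k₀)) = 0. The published statement concludes
stability; this row concludes the vanishing of H^0 of the normalised twist, which for rank 2 is
stability. -/
theorem result (k : Type u) [Field k] [IsAlgClosed k] [CharZero k]
    (n : ℕ) (E : (CohB1.ProjSpace n k).Modules) (hE : FlatMod.IsFinLocFreeOfRank 2 E) (c k₀ : ℤ)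
    (hdet : ∃ L : (CohB1.ProjSpace n k).Modules, ExtPow.IsExtPow 2 E L ∧ Nonempty (L ≅ Twist.twistProjSpace n k c))
    (hk₀ : c + 2 * k₀ = 0 ∨ c + 2 * k₀ = -1)
    (hsimple : ∀ φ : E ⟶ E, ∃ c' : k, (SheafOfModules.toSheaf (CohB1.ProjSpace n k).ringCatSheaf).map φ =
      Coh.smulAb E (Coh.toGlobal (CohB1.ProjSpace.toSpec n k) c')) :
    Subsingleton (Coh.HH (CohB1.ProjSpace n k) (CohB1.tensorMod E (Twist.twistProjSpace n k k₀)) 0) := by
  obtain ⟨L₀, hL₀, ⟨eL⟩⟩ := hdet
  by_contra hne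
  set N := Twist.twistProjSpace n k k₀ with hNdef
  have hN : PicF.IsInvertible N := ProjCoh.Coherent.isInvertible_tw k₀
  haveI : (TensorMod.Basic.tensorBy N).IsEquivalence := CurveBundle.Twist.isEquivalence hN
  have hdich : ∀ f : CohB1.tensorMod E N ⟶ CohB1.tensorMod E N, f = 0 ∨ IsIso f := by
    intro f
    obtain ⟨ψ, rfl⟩ := (TensorMod.Basic.tensorBy N).map_surjective f
    haveI : (TensorMod.Basic.tensorBy N).Additive := CurveBundle.GP.additive_tensorBy _
    obtain ⟨a, ha⟩ := hsimple ψ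
    have hψ : ψ = a • 𝟙 E :=
      (SheafOfModules.toSheaf (CohB1.ProjSpace n k).ringCatSheaf).map_injective (ha.trans (PnOmega.smul_eq a).symm)
    rcases eq_or_ne a 0 with rfl | ha0
    · exact Or.inl ((congrArg _ (hψ.trans (zero_smul _ _))).trans (Functor.map_zero _ _ _))
    · right
      haveI : IsIso ψ := ⟨a⁻¹ • 𝟙 E, by simp [hψ, smul_smul, ha0], by simp [hψ, smul_smul, ha0]⟩
      exact Functor.map_isIso _ ψ
  have hF : FlatMod.IsFinLocFreeOfRank 2 (CohB1.tensorMod E N) :=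
    (by simpa using TensorMod.LocFree.rank_tensorMod hE (TensorMod.LocFree.of_isInvertible hN))
  haveI : E.IsQuasicoherent := CurveBundle.Coherent.isQCoh (TensorMod.LocFree.of_rank hE)
  haveI : (CohB1.tensorMod E N).IsQuasicoherent := CurveBundle.Coherent.isQCoh (TensorMod.LocFree.of_rank hF)
  obtain ⟨LF, hLF⟩ := FundLocal.ExtPowExists.exists_isExtPow (CohB1.tensorMod E N) 2
  obtain ⟨φM, hφM⟩ := hLF
  obtain ⟨φN, hφN⟩ := hL₀
  obtain ⟨i⟩ := Modules.ExtPowTwist.nonempty_iso φM hφM φN hφN hN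
  obtain ⟨j⟩ := Bott.Euler.nonempty_tensorPow_tw n k k₀ 2
  let eLF : LF ≅ Twist.twistProjSpace n k (c + 2 * k₀) :=
    i ≪≫ TensorMod.Basic.tensorIso eL j ≪≫ ProjCoh.Coherent.twTensor _ _ ≪≫ eqToIso (by push_cast; rfl)
  obtain ⟨μ, hμ⟩ : ∃ μ : LF ⟶ Coh.structureModule (CohB1.ProjSpace n k), Mono μ := by
    rcases hk₀ with h0 | h1
    · exact ⟨(eLF ≪≫ eqToIso (congrArg (Twist.twistProjSpace n k) h0) ≪≫ ProjCoh.Coherent.twZero).hom, inferInstance⟩
    · obtain ⟨ν, hν⟩ := PnOmega.exists_mono_twNegOne n k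
      exact ⟨(eLF ≪≫ eqToIso (congrArg (Twist.twistProjSpace n k) h1)).hom ≫ ν, mono_comp _ _⟩
  obtain ⟨f, hf⟩ : ∃ f : Coh.structureModule (CohB1.ProjSpace n k) ⟶ CohB1.tensorMod E N, f ≠ 0 := by
    by_contra hall
    push Not at hall
    exact hne ((ProjCoh.Horrocks.subsingleton_hom_iff _).1 ⟨fun a b => (hall a).trans (hall b).symm⟩)
  set s := f.app ⊤ (1 : Γ(CohB1.ProjSpace n k, ⊤)) with hs
  have hfs : f = Curves.Clifford.σ (CohB1.tensorMod E N) s :=
    Modules.Free.unitHom_ext (Curves.Clifford.σ_one _ _).symm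
  have hs0 : s ≠ 0 := fun h => hf (by
    refine Modules.Free.unitHom_ext ?_
    rw [← hs, h]; rfl)
  obtain ⟨t, ht0, hst, hmono, -⟩ := PnOmega.Wedge.exists_wedge hF ⟨φM, hφM⟩ hs0
  rw [← hfs] at hst hmono
  rcases hdich (t ≫ μ ≫ f) with h | h
  · exact ht0 ((cancel_mono μ).1 ((cancel_mono f).1 (by simpa using h)))
  · refine hf ((cancel_mono (t ≫ μ ≫ f)).1 ?_)
    rw [zero_comp, reassoc_of% hst, zero_comp]

end Groth.Agent.S11506
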