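import Groth.Statements.S11507
import Groth.Agent.Lib.PnOmega.Symp
import Groth.Agent.Lib.PnOmega.Hom

set_option autoImplicit false
universe u
open VBPn

namespace Groth.Agent.S11507

open CategoryTheory CategoryTheory.Limits AlgebraicGeometry in
/-- Let k be an algebraically closed field of characteristic zero and n odd. Then there is a
monomorphism of O-modules O(−1) → Ω^1 ⊗ O(1) on P^n_k (Ω^1 the sheaf of differentials of P^n_k over
k) whose cokernel is finite locally free of rank n − 1; dually, a bundle epimorphism T(−1) → O(1)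
whose kernel is a null-correlation bundle. The published statement also gives the total Chern class
1 + h^2 + ⋯ + h^{n−1} of the null-correlation bundle; this row does not state it. -/
theorem result (k : Type u) [Field k] [IsAlgClosed k] [CharZero k]
    (n : ℕ) (hn : Odd n) :
    ∃ u : Twist.twistProjSpace n k (-1) ⟶
        CohB1.tensorMod (Omega.sheaf (CohB1.ProjSpace.toSpec n k)) (Twist.twistProjSpace n k 1),
      Mono u ∧ FlatMod.IsFinLocFreeOfRank (n - 1) (cokernel u) := by
  haveI := Lib.ProjSpace.Basic.isProper_toSpec n k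
  obtain ⟨v, he, hv, ⟨iv⟩⟩ := Lib.PnOmega.exists_euler n k
  haveI := he
  have hO1 : PicF.IsInvertible (Twist.twistProjSpace n k 1) := Lib.ProjSpace.IsBundle.isInvertible_one n k
  have hK' : FlatMod.IsFinLocFreeOfRank n
      (CohB1.tensorMod (Omega.sheaf (CohB1.ProjSpace.toSpec n k)) (Twist.twistProjSpace n k 1)) := by
    simpa using Lib.TensorMod.LocFree.rank_tensorMod
      (Lib.FundLocal.Rank.isFinLocFreeOfRank_omega (CohB1.ProjSpace.toSpec n k) n)
      (Lib.TensorMod.LocFree.of_isInvertible hO1)
  obtain ⟨w, hw, hc⟩ : ∃ w : Twist.twistProjSpace n k (-1) ⟶ kernel (Lib.Modules.Free.freeHom v),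
      Mono w ∧ FlatMod.IsFinLocFreeOfRank (n - 1) (cokernel w) := Lib.PnOmega.exists_subbundle hn hO1 (Lib.ProjCoh.Coherent.isInvertible_tw (-1))
    (Lib.ProjCoh.Coherent.twCancel (n := n) (R := k) 1 (-1) (by norm_num)) v
    (Lib.TensorMod.LocFree.rank_of_iso iv hK')
  haveI : Mono w := hw
  refine ⟨w ≫ iv.inv, mono_comp _ _, Lib.TensorMod.LocFree.rank_of_iso (cokernelCompIsIso w iv.inv).symm hc⟩

end Groth.Agent.S11507
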