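import Groth.Statements.S11509
import Groth.Agent.Lib.PnOmega.NullCorr

set_option autoImplicit false
universe u
open VBPn

namespace Groth.Agent.S11509

open CategoryTheory CategoryTheory.Limits AlgebraicGeometry in
/-- Let k be an algebraically closed field of characteristic zero and u : O(−1) → Ω^1 ⊗ O(1) a
monomorphism of O-modules on P^3_k whose cokernel M is finite locally free of rank 2 (M is the dual
N^* of a null-correlation bundle N, and N ≅ N^* as c_1(N) = 0). Then H^0(P^3_k, M) = 0. The
published statement says that the null-correlation bundle N is stable; this row states H^0(N^*) = 0,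
which is equivalent since N ≅ N^* and c_1(N) = 0. -/
theorem result (k : Type u) [Field k] [IsAlgClosed k] [CharZero k]
    (u : Twist.twistProjSpace 3 k (-1) ⟶
      CohB1.tensorMod (Omega.sheaf (CohB1.ProjSpace.toSpec 3 k)) (Twist.twistProjSpace 3 k 1))
    [Mono u] (hM : FlatMod.IsFinLocFreeOfRank 2 (cokernel u)) :
    Subsingleton (Coh.HH (CohB1.ProjSpace 3 k) (cokernel u) 0) := by
  obtain ⟨v, he, hv, ⟨i⟩⟩ := Lib.PnOmega.exists_euler 3 k
  haveI : HasExt.{u} (CohB1.ProjSpace 3 k).Modules := inferInstance
  suffices h : Subsingleton (Abelian.Ext.{u} (Coh.structureModule (CohB1.ProjSpace 3 k)) (cokernel u) 0) from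
    ((Lib.ExtHH.Basic.extUnitEquiv k (cokernel u) 0).symm.injective).subsingleton
  refine subsingleton_of_forall_eq 0 fun x => ?_
  obtain ⟨f, rfl⟩ := (Abelian.Ext.mk₀_bijective _ _).2 x
  rw [Lib.PnOmega.hom_unit_coker_eq_zero i hv (by norm_num) u f]
  exact Abelian.Ext.mk₀_zero _ _

end Groth.Agent.S11509
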