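import Groth.Statements.S11512
import Groth.Agent.Lib.PnLines.Main
-- import your own Groth.Agent.* helpers here

set_option autoImplicit false
universe u
open VBPn

namespace Groth.Agent.S11512

open CategoryTheory CategoryTheory.Limits AlgebraicGeometry in
/-- Let k be an algebraically closed field of characteristic zero, n ≥ 1, and E a finite locally free
O-module of rank 2 on P^n_k with a second exterior power isomorphic to O(c). Let k₀ satisfy c + 2k₀
= 0 or c + 2k₀ = −1 (so E ⊗ O(k₀) is the normalised twist E_norm) and assume H^0(P^n_k, E ⊗ O(−(c +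
k₀ + 1))) = 0, which says H^0(E_norm(−1)) = 0 for c even and H^0(E_norm) = 0 for c odd, i.e. that E
is semistable. Then some line has the generic splitting type of the normalised twist: there is a
closed immersion of k-schemes i : P^1_k → P^n_k along which O(1) pulls back to O(1) with i^*E ≅
O(−k₀) ⊕ O(c + k₀). The published statement (Grauert–Mülich) gives this splitting type on the
generic line; this row asserts one such line. -/
theorem result (k : Type u) [Field k] [IsAlgClosed k] [CharZero k]
    (n : ℕ) (hn : 1 ≤ n) (E : (CohB1.ProjSpace n k).Modules) (hE : FlatMod.IsFinLocFreeOfRank 2 E) (c k₀ : ℤ)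
    (hdet : ∃ L : (CohB1.ProjSpace n k).Modules, ExtPow.IsExtPow 2 E L ∧ Nonempty (L ≅ Twist.twistProjSpace n k c))
    (hk₀ : c + 2 * k₀ = 0 ∨ c + 2 * k₀ = -1)
    (hss : Subsingleton (Coh.HH (CohB1.ProjSpace n k)
      (CohB1.tensorMod E (Twist.twistProjSpace n k (-(c + k₀ + 1)))) 0)) :
    ∃ (i : CohB1.ProjSpace 1 k ⟶ CohB1.ProjSpace n k), IsClosedImmersion i ∧
      i ≫ CohB1.ProjSpace.toSpec n k = CohB1.ProjSpace.toSpec 1 k ∧
      Nonempty ((Scheme.Modules.pullback i).obj (Twist.twistProjSpace n k 1) ≅ Twist.twistProjSpace 1 k 1) ∧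
      Nonempty ((Scheme.Modules.pullback i).obj E ≅
        Twist.twistProjSpace 1 k (-k₀) ⊞ Twist.twistProjSpace 1 k (c + k₀)) := by
  obtain ⟨L, hL, ⟨eL⟩⟩ := hdet
  exact Groth.Agent.Lib.PnLines.Main.exists_line hn hE hk₀ hL eL hss

end Groth.Agent.S11512
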