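import Groth.Statements.S11513
import Groth.Agent.Lib.PnLines.Hyp

set_option autoImplicit false
universe u
open VBPn

namespace Groth.Agent.S11513

open CategoryTheory CategoryTheory.Limits AlgebraicGeometry in
/-- Let k be an algebraically closed field of characteristic zero, n ≥ 3, and E a finite locally free
O-module of rank 2 on P^n_k with a second exterior power isomorphic to O(c); let k₀ satisfy c + 2k₀
= 0 or c + 2k₀ = −1 and assume H^0(P^n_k, E ⊗ O(−(c + k₀ + 1))) = 0 (E semistable, in the rank-2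
form of that notion). Then there is a closed immersion of k-schemes i : P^{n−1}_k → P^n_k along
which O(1) pulls back to O(1) (a hyperplane H) with H^0(P^{n−1}_k, i^*E ⊗ O(−(c + k₀ + 1))) = 0,
i.e. E|H is semistable. The published statement gives a non-empty Zariski-open set of such
hyperplanes; this row asserts one. -/
theorem result (k : Type u) [Field k] [IsAlgClosed k] [CharZero k]
    (n : ℕ) (hn : 3 ≤ n) (E : (CohB1.ProjSpace n k).Modules) (hE : FlatMod.IsFinLocFreeOfRank 2 E) (c k₀ : ℤ)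
    (hdet : ∃ L : (CohB1.ProjSpace n k).Modules, ExtPow.IsExtPow 2 E L ∧ Nonempty (L ≅ Twist.twistProjSpace n k c))
    (hk₀ : c + 2 * k₀ = 0 ∨ c + 2 * k₀ = -1)
    (hss : Subsingleton (Coh.HH (CohB1.ProjSpace n k)
      (CohB1.tensorMod E (Twist.twistProjSpace n k (-(c + k₀ + 1)))) 0)) :
    ∃ (i : CohB1.ProjSpace (n - 1) k ⟶ CohB1.ProjSpace n k), IsClosedImmersion i ∧
      i ≫ CohB1.ProjSpace.toSpec n k = CohB1.ProjSpace.toSpec (n - 1) k ∧
      Nonempty ((Scheme.Modules.pullback i).obj (Twist.twistProjSpace n k 1) ≅ Twist.twistProjSpace (n - 1) k 1) ∧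
      Subsingleton (Coh.HH (CohB1.ProjSpace (n - 1) k)
        (CohB1.tensorMod ((Scheme.Modules.pullback i).obj E) (Twist.twistProjSpace (n - 1) k (-(c + k₀ + 1)))) 0) := by
  obtain ⟨L, hL, ⟨eL⟩⟩ := hdet
  obtain ⟨m, rfl⟩ : ∃ m, n = m + 1 := ⟨n - 1, by omega⟩
  exact Groth.Agent.Lib.PnLines.Hyp.exists_hyperplane_semistable (by omega) hE hk₀ hL eL hss

end Groth.Agent.S11513
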