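import Groth.Statements.S11518
import Groth.Agent.Lib.PnOmega.TangoPn
open Groth.Agent.Lib

set_option autoImplicit false
universe u
open VBPn

namespace Groth.Agent.S11518

open CategoryTheory CategoryTheory.Limits AlgebraicGeometry in
/-- Let k be an algebraically closed field of characteristic zero. For every n there is a finite locally
free O-module F of rank n − 1 on P^n_k which is simple, i.e. every endomorphism of F is a homothety
(its underlying map of abelian sheaves is multiplication by a scalar in k); in particular F is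
indecomposable. (For n ≤ 2 the assertion is trivial. The published statement also gives the total
Chern class (1 − 2h)/(1 − h)^{n+1}; this row does not state it.) -/
theorem result (k : Type u) [Field k] [IsAlgClosed k] [CharZero k] (n : ℕ) :
    ∃ F : (CohB1.ProjSpace n k).Modules, FlatMod.IsFinLocFreeOfRank (n - 1) F ∧
      ∀ φ : F ⟶ F, ∃ c : k, (SheafOfModules.toSheaf (CohB1.ProjSpace n k).ringCatSheaf).map φ =
        Coh.smulAb F (Coh.toGlobal (CohB1.ProjSpace.toSpec n k) c) := by
  rcases lt_or_ge n 3 with hn | hn
  · refine ⟨FlatMod.freeMod (CohB1.ProjSpace n k) (n - 1), TensorMod.LocFree.isFinLocFree_freeMod _ _, fun φ => ?_⟩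
    rcases (show n - 1 = 0 ∨ n - 1 = 1 by omega) with h | h
    · refine ⟨0, ?_⟩
      have h0 : φ = (0 : k) • 𝟙 _ := Modules.Free.freeHom_ext fun i => absurd i.2 (by omega)
      rw [h0]
      exact PnOmega.smul_eq 0
    · obtain ⟨c, hc⟩ := PnOmega.end_scalar (L := FlatMod.freeMod (CohB1.ProjSpace n k) (n - 1))
        (TensorMod.LocFree.isInvertible_of_rank_one (by rw [h]; exact TensorMod.LocFree.isFinLocFree_freeMod _ 1)) φ
      exact ⟨c, by rw [hc]; exact PnOmega.smul_eq c⟩
  · obtain ⟨F, hF, hs⟩ := PnOmega.Tango.exists_simple (k := k) hn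
    exact ⟨F, hF, fun φ => by
      obtain ⟨a, rfl⟩ := hs φ
      exact ⟨a, PnOmega.smul_eq a⟩⟩

end Groth.Agent.S11518
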