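import Groth.Statements.S11519
import Groth.Agent.Lib.PnOmega.NullCorr

set_option autoImplicit false
universe u
open VBPn

namespace Groth.Agent.S11519

open CategoryTheory CategoryTheory.Limits AlgebraicGeometry in
/-- Let k be an algebraically closed field of characteristic zero and a, a' : O(−1) → Ω^1 ⊗ O(1) two
bundle monomorphisms of O-modules on P^3_k, i.e. monomorphisms whose cokernels E, E' are finite
locally free of rank 2 (null-correlation bundles up to duality). Then E ≅ E' if and only if a' = c·a
for a nonzero constant c ∈ k: the underlying map of abelian sheaves of a' equals that of a followed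
by multiplication by c on Ω^1 ⊗ O(1). -/
theorem result (k : Type u) [Field k] [IsAlgClosed k] [CharZero k]
    (a a' : Twist.twistProjSpace 3 k (-1) ⟶
      CohB1.tensorMod (Omega.sheaf (CohB1.ProjSpace.toSpec 3 k)) (Twist.twistProjSpace 3 k 1))
    [Mono a] [Mono a'] (hE : FlatMod.IsFinLocFreeOfRank 2 (cokernel a)) (hE' : FlatMod.IsFinLocFreeOfRank 2 (cokernel a')) :
    Nonempty (cokernel a ≅ cokernel a') ↔
      ∃ c : k, c ≠ 0 ∧ (SheafOfModules.toSheaf (CohB1.ProjSpace 3 k).ringCatSheaf).map a' =
        (SheafOfModules.toSheaf (CohB1.ProjSpace 3 k).ringCatSheaf).map a ≫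
          Coh.smulAb (CohB1.tensorMod (Omega.sheaf (CohB1.ProjSpace.toSpec 3 k)) (Twist.twistProjSpace 3 k 1))
            (Coh.toGlobal (CohB1.ProjSpace.toSpec 3 k) c) := by
  obtain ⟨v, he, hv, ⟨i⟩⟩ := Lib.PnOmega.exists_euler 3 k
  haveI := he
  rw [Lib.PnOmega.coker_iso_iff (r := 1) i hv (by norm_num) a a' hE]
  refine exists_congr fun c => and_congr_right fun _ => ?_
  rw [← Lib.PnOmega.smul_eq (M := CohB1.tensorMod (Omega.sheaf (CohB1.ProjSpace.toSpec 3 k)) (Twist.twistProjSpace 3 k 1)) c,
    ← Functor.map_comp, (SheafOfModules.toSheaf _).map_injective.eq_iff]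
  exact Iff.of_eq (congrArg (a' = ·) ((Linear.comp_smul _ _ _ _ _ _).trans (congrArg (c • ·) (Category.comp_id a))).symm)

end Groth.Agent.S11519
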