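import Groth.Statements.S1153
import Groth.Agent.Lib.DescAlg.Descends
import Groth.Agent.Lib.ZarCoh.ProperOver

set_option autoImplicit false
set_option backward.isDefEq.respectTransparency false
set_option backward.isDefEq.respectTransparency.types false
open CategoryTheory CategoryTheory.Limits AlgebraicGeometry Opposite
universe u
open Desc

namespace Groth.Agent.S1153

/-- Let f : X ⟶ Y be locally of finite type, Z a closed subset of X and g : Y' ⟶ Y quasi-compact, flat
and surjective. If the preimage of Z in X ×_Y Y' is proper over Y', then Z is proper over Y. -/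
theorem result {X Y Y' : Scheme.{u}} (f : X ⟶ Y) [LocallyOfFiniteType f] (Z : Set X) (hZ : IsClosed Z)
    (g : Y' ⟶ Y) [QuasiCompact g] [Flat g] [Surjective g]
    (h : ClSub.IsProperOver (pullback.snd f g) ((pullback.fst f g).base ⁻¹' Z)) :
    ClSub.IsProperOver f Z := by
  let i := (Scheme.IdealSheafData.vanishingIdeal ⟨Z, hZ⟩).subschemeι
  have hi : Set.range i = Z := by
    exact ZarCoh.ProperOver.range_red ⟨Z, hZ⟩
  have hr : Set.range (pullback.fst (pullback.fst f g) i) = (pullback.fst f g).base ⁻¹' Z := by
    rw [Scheme.Pullback.range_fst, hi]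
  have hp := (ZarCoh.ProperOver.isProper_comp_iff (pullback.snd f g)
    (pullback.fst (pullback.fst f g) i) hr).2 h
  have sq : IsPullback (pullback.snd (pullback.fst f g) i)
      (pullback.fst (pullback.fst f g) i ≫ pullback.snd f g) (i ≫ f) g :=
    (IsPullback.of_hasPullback (pullback.fst f g) i).flip.paste_vert (IsPullback.of_hasPullback f g)
  have hif : IsProper (i ≫ f) :=
    MorphismProperty.of_isPullback_of_descendsAlong (P := @IsProper)
      (Q := @Surjective ⊓ @Flat ⊓ @QuasiCompact) sq.flip ⟨⟨inferInstance, inferInstance⟩, inferInstance⟩ hp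
  exact (ZarCoh.ProperOver.isProper_comp_iff f i hi).1 hif

end Groth.Agent.S1153
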