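import Groth.Statements.S11538
import Mathlib.RingTheory.Flat.TorsionFree
import Mathlib.RingTheory.Flat.Stability
import Mathlib.RingTheory.Flat.Tensor
import Mathlib.RingTheory.Localization.BaseChange
import Mathlib.LinearAlgebra.TensorProduct.RightExactness

set_option autoImplicit false
universe u v
open scoped TensorProduct
open AdicRing

namespace Groth.Agent.S11538

section Aux
open scoped TensorProduct

theorem mk_surjective_aux {A : Type u} [CommRing A] (π : A) (K : Type*) [AddCommGroup K] [Module A K] :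
    Function.Surjective (TensorProduct.mk A (A ⧸ Ideal.span {π}) K 1) := by
  intro y
  induction y using TensorProduct.induction_on with
  | zero => exact ⟨0, map_zero _⟩
  | tmul c k =>
      obtain ⟨a, rfl⟩ := Ideal.Quotient.mk_surjective c
      refine ⟨a • k, ?_⟩
      change (1 : A ⧸ Ideal.span {π}) ⊗ₜ[A] (a • k) = _
      rw [← TensorProduct.smul_tmul, Algebra.smul_def, mul_one, Ideal.Quotient.algebraMap_eq]
  | add y z hy hz =>
      obtain ⟨a, rfl⟩ := hy
      obtain ⟨b, rfl⟩ := hz
      exact ⟨a + b, map_add _ _ _⟩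

theorem mk_smul_eq_zero {A : Type u} [CommRing A] (π : A) {K : Type*} [AddCommGroup K] [Module A K]
    (k : K) : TensorProduct.mk A (A ⧸ Ideal.span {π}) K 1 (π • k) = 0 := by
  change (1 : A ⧸ Ideal.span {π}) ⊗ₜ[A] (π • k) = 0
  rw [← TensorProduct.smul_tmul, Algebra.smul_def, Ideal.Quotient.algebraMap_eq,
    Ideal.Quotient.eq_zero_iff_mem.2 (Ideal.mem_span_singleton_self π), zero_mul,
    TensorProduct.zero_tmul]

theorem exists_smul_of_mk_eq_zero {A : Type u} [CommRing A] (π : A) {K : Type*} [AddCommGroup K]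
    [Module A K] {k : K} (hk : (1 : A ⧸ Ideal.span {π}) ⊗ₜ[A] k = 0) : ∃ k', π • k' = k := by
  have := congr_arg (TensorProduct.quotTensorEquivQuotSMul K (Ideal.span {π})) hk
  rw [map_zero, show (1 : A ⧸ Ideal.span {π}) = Ideal.Quotient.mk _ 1 from rfl,
    TensorProduct.quotTensorEquivQuotSMul_mk_tmul, one_smul, Submodule.Quotient.mk_eq_zero,
    Submodule.ideal_span_singleton_smul] at this
  obtain ⟨k', -, hk'⟩ := this
  exact ⟨k', hk'⟩

theorem smul_rTensor_mk_eq_zero {A : Type u} [CommRing A] (π : A) {M : Type v} [AddCommGroup M]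
    [Module A M] {K : Type*} [AddCommGroup K] [Module A K] (y : K ⊗[A] M) :
    π • LinearMap.rTensor M (TensorProduct.mk A (A ⧸ Ideal.span {π}) K 1) y = 0 := by
  induction y using TensorProduct.induction_on with
  | zero => simp
  | tmul f m =>
      rw [LinearMap.rTensor_tmul, TensorProduct.smul_tmul', ← map_smul, mk_smul_eq_zero π f,
        TensorProduct.zero_tmul]
  | add a b ha hb => rw [map_add, smul_add, ha, hb, add_zero]

theorem exists_eq_smul {A : Type u} [CommRing A] {π : A} {M : Type v} [AddCommGroup M] [Module A M]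
    {K : Type*} [AddCommGroup K] [Module A K] {z : K ⊗[A] M}
    (hz : LinearMap.rTensor M (TensorProduct.mk A (A ⧸ Ideal.span {π}) K 1) z = 0) :
    ∃ w, π • w = z := by
  have hexact : Function.Exact (LinearMap.lsmul A K π) (TensorProduct.mk A (A ⧸ Ideal.span {π}) K 1) :=
    fun k => ⟨fun hk => exists_smul_of_mk_eq_zero π hk, by
      rintro ⟨k', rfl⟩; exact mk_smul_eq_zero π k'⟩
  have hsurj := mk_surjective_aux π K
  obtain ⟨w, hw⟩ := (rTensor_exact M hexact hsurj z).1 hz
  refine ⟨w, ?_⟩
  rw [← hw]
  clear hw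
  induction w using TensorProduct.induction_on with
  | zero => simp
  | tmul k m => rfl
  | add a b ha hb => rw [map_add, smul_add, ha, hb]

theorem tensor_torsionFree_aux {A : Type u} [CommRing A] {π : A}
    (M : Type v) [AddCommGroup M] [Module A M]
    (hflat : Module.Flat (A ⧸ Ideal.span {π}) ((A ⧸ Ideal.span {π}) ⊗[A] M))
    {K F N : Type u} [AddCommGroup K] [AddCommGroup F] [AddCommGroup N] [Module A K] [Module A F]
    [Module A N] {ι : K →ₗ[A] F} {g : F →ₗ[A] N} (hex : Function.Exact ι g)
    (hg : Function.Surjective g) (hι : Function.Injective ι)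
    (hN : ∀ n : N, π • n = 0 → n = 0) (hF : ∀ y : F ⊗[A] M, π • y = 0 → y = 0)
    (x : N ⊗[A] M) (hx : π • x = 0) : x = 0 := by
  obtain ⟨y, rfl⟩ := LinearMap.rTensor_surjective M hg x
  rw [← map_smul] at hx
  obtain ⟨z, hz⟩ := (rTensor_exact M hex hg (π • y)).1 hx
  let Q := A ⧸ Ideal.span {π}
  let ιb : Q ⊗[A] K →ₗ[Q] Q ⊗[A] F := LinearMap.baseChange Q ι
  have hιb : Function.Injective ιb := by
    rw [injective_iff_map_eq_zero]
    intro u hu
    obtain ⟨k, rfl⟩ := mk_surjective_aux π K u
    change (1 : Q) ⊗ₜ[A] (ι k) = 0 at hu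
    obtain ⟨f, hf⟩ := exists_smul_of_mk_eq_zero π hu
    have hgf : g f = 0 := hN _ (by rw [← map_smul, hf]; exact hex.apply_apply_eq_zero k)
    obtain ⟨k', hk'⟩ := (hex f).1 hgf
    have hk : k = π • k' := hι (by rw [map_smul, hk', hf])
    rw [hk]
    exact mk_smul_eq_zero π _
  let cK := TensorProduct.AlgebraTensorModule.cancelBaseChange A Q Q (Q ⊗[A] K) M
  let cF := TensorProduct.AlgebraTensorModule.cancelBaseChange A Q Q (Q ⊗[A] F) M
  have hrinj : Function.Injective (LinearMap.rTensor M (ιb.restrictScalars A)) := by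
    have h1 := Module.Flat.rTensor_preserves_injective_linearMap (M := Q ⊗[A] M) ιb hιb
    have hcomm : ∀ u, LinearMap.rTensor M (ιb.restrictScalars A) (cK u) =
        cF (LinearMap.rTensor (Q ⊗[A] M) ιb u) := by
      intro u
      induction u using TensorProduct.induction_on with
      | zero => simp
      | tmul a b =>
          induction b using TensorProduct.induction_on with
          | zero => simp
          | tmul c m => simp [cK, cF]
          | add p q hp hq => simp only [TensorProduct.tmul_add, map_add, hp, hq]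
      | add p q hp hq => simp only [map_add, hp, hq]
    intro a b hab
    obtain ⟨a', rfl⟩ := cK.surjective a
    obtain ⟨b', rfl⟩ := cK.surjective b
    rw [hcomm, hcomm] at hab
    rw [h1 (cF.injective hab)]
  have hz0 : LinearMap.rTensor M (TensorProduct.mk A Q K 1) z = 0 := by
    apply hrinj
    rw [map_zero, ← LinearMap.comp_apply, ← LinearMap.rTensor_comp]
    have : (ιb.restrictScalars A) ∘ₗ TensorProduct.mk A Q K 1 =
        TensorProduct.mk A Q F 1 ∘ₗ ι := LinearMap.ext fun k => rfl
    rw [this, LinearMap.rTensor_comp, LinearMap.comp_apply, hz, map_smul]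
    exact smul_rTensor_mk_eq_zero π _
  obtain ⟨w, rfl⟩ := exists_eq_smul hz0
  rw [map_smul] at hz
  have hy : y = LinearMap.rTensor M ι w :=
    sub_eq_zero.1 (hF _ (by rw [smul_sub, hz, sub_self]))
  rw [hy, ← LinearMap.comp_apply, ← LinearMap.rTensor_comp, hex.linearMap_comp_eq_zero]
  simp

theorem tensor_torsionFree {A : Type u} [CommRing A] {π : A} (hπ : π ∈ nonZeroDivisors A)
    (M : Type v) [AddCommGroup M] [Module A M] (hM : ∀ m : M, π • m = 0 → m = 0)
    (hflat : Module.Flat (A ⧸ Ideal.span {π}) ((A ⧸ Ideal.span {π}) ⊗[A] M))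
    (N : Type u) [AddCommGroup N] [Module A N] (hN : ∀ n : N, π • n = 0 → n = 0)
    (x : N ⊗[A] M) (hx : π • x = 0) : x = 0 := by
  classical
  refine tensor_torsionFree_aux M hflat (K := LinearMap.ker (Finsupp.linearCombination A (id : N → N)))
    (F := N →₀ A) (LinearMap.exact_subtype_ker_map _)
    (Finsupp.linearCombination_id_surjective A N) Subtype.val_injective hN (fun y hy => ?_) x hx
  refine (TensorProduct.finsuppScalarLeft A M N).injective ?_
  rw [map_zero]
  refine Finsupp.ext fun i => hM _ ?_
  rw [← Finsupp.smul_apply, ← map_smul, hy, map_zero]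
  rfl

end Aux

/-- Let A be a commutative ring, π an element of A which is not a zero divisor and M an A-module. Then M
is flat over A if and only if the π-power torsion of M vanishes, (A/πA) ⊗_A M is flat over A/πA, and
A[π⁻¹] ⊗_A M is flat over A[π⁻¹]. -/
theorem result
    (A : Type u) [CommRing A] (π : A) (hπ : π ∈ nonZeroDivisors A)
    (M : Type v) [AddCommGroup M] [Module A M] :
    Module.Flat A M ↔
      (∀ (x : M) (n : ℕ), π ^ n • x = 0 → x = 0) ∧
        Module.Flat (A ⧸ Ideal.span {π}) ((A ⧸ Ideal.span {π}) ⊗[A] M) ∧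
        Module.Flat (Localization.Away π) ((Localization.Away π) ⊗[A] M) := by
  constructor
  · intro hflat
    refine ⟨fun x n hx => ?_, inferInstance, inferInstance⟩
    exact Module.Flat.isSMulRegular_of_nonZeroDivisors (pow_mem hπ n) (by simpa using hx)
  rintro ⟨htors, hq, hl⟩
  rw [Module.Flat.iff_rTensor_injective']
  intro 𝔞
  rw [injective_iff_map_eq_zero]
  intro x hx
  haveI := hl
  haveI : Module.Flat A ((Localization.Away π) ⊗[A] M) := Module.Flat.trans A (Localization.Away π) _
  have hkill : ∃ n : ℕ, π ^ n • x = 0 := by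
    let f := TensorProduct.mk A (Localization.Away π) M 1
    have h0 : LinearMap.lTensor 𝔞 f x = 0 := by
      apply Module.Flat.rTensor_preserves_injective_linearMap
        (M := (Localization.Away π) ⊗[A] M) 𝔞.subtype Subtype.val_injective
      rw [map_zero, ← LinearMap.comp_apply, LinearMap.rTensor_comp_lTensor,
        ← LinearMap.lTensor_comp_rTensor, LinearMap.comp_apply, hx, map_zero]
    let e := TensorProduct.leftComm A 𝔞 (Localization.Away π) M
    have h1 : ∀ y, e (LinearMap.lTensor 𝔞 f y) = TensorProduct.mk A (Localization.Away π) _ 1 y := by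
      intro y
      induction y using TensorProduct.induction_on with
      | zero => simp
      | tmul a m => simp [e, f]
      | add y z hy hz => rw [map_add, map_add, hy, hz, map_add]
    have h2 := (h1 x).symm
    rw [h0, map_zero] at h2
    obtain ⟨⟨_, n, rfl⟩, hs⟩ := (IsLocalizedModule.eq_zero_iff (Submonoid.powers π)
      (TensorProduct.mk A (Localization.Away π) (↥𝔞 ⊗[A] M) 1)).1 h2
    exact ⟨n, hs⟩
  obtain ⟨n, hn⟩ := hkill
  have hfree : ∀ y : ↥𝔞 ⊗[A] M, π • y = 0 → y = 0 :=
    tensor_torsionFree hπ M (fun m hm => htors m 1 (by simpa using hm)) hq 𝔞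
      (fun a ha => Subtype.ext ((mem_nonZeroDivisors_iff.1 hπ).1 _ (congr_arg Subtype.val ha)))
  induction n generalizing x with
  | zero => simpa using hn
  | succ n ih =>
      rw [pow_succ', mul_smul] at hn
      exact ih x hx (hfree _ hn)

end Groth.Agent.S11538
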