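import Groth.Statements.S1154
import Groth.Agent.Lib.PerfPic.PurelyInsep
import Groth.Agent.Lib.PerfPic.Descend
import Groth.Agent.Lib.PerfFlat.Model
import Groth.Agent.Lib.TensorMod.Pullback
import Groth.Prelude.Def_PicGrp

set_option autoImplicit false
open CategoryTheory CategoryTheory.Limits AlgebraicGeometry Opposite
universe u
open PicF

namespace Groth.Agent.S1154
open Groth.Agent

/-- Let k have characteristic p > 0, let X be quasi-compact and quasi-separated over k whose ring of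
global functions is k itself (the structure morphism induces an isomorphism on global sections), let
n be prime to p and k'/k purely inseparable. Then every isomorphism class of invertible modules M on
X_{k'} with M^n trivial is the pullback of such a class on X (injectivity of this pullback on
classes being a separate fact). -/
theorem result (k : Type u) [Field k] (p : ℕ) [Fact p.Prime] [CharP k p]
    (X : Scheme.{u}) (f : X ⟶ Spec (CommRingCat.of k)) [CompactSpace X] [QuasiSeparatedSpace X]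
    (hH0 : IsIso f.appTop) (n : ℕ) (hn : ¬ p ∣ n) (k' : Type u) [Field k'] [Algebra k k'] [IsPurelyInseparable k k'] :
    ∀ d : PicF.Cl (pullback f (Spec.map (CommRingCat.ofHom (algebraMap k k')))), (PicF.IsInvertibleCl d ∧ ∃ M : ((pullback f (Spec.map (CommRingCat.ofHom (algebraMap k k'))))).Modules, PicF.cl M = d ∧ Nonempty (CohB1.tensorPow M n ≅ Coh.structureModule ((pullback f (Spec.map (CommRingCat.ofHom (algebraMap k k'))))))) →
      ∃ c : PicF.Cl X, (PicF.IsInvertibleCl c ∧ ∃ M : (X).Modules, PicF.cl M = c ∧ Nonempty (CohB1.tensorPow M n ≅ Coh.structureModule (X))) ∧ PicF.pullCl (pullback.fst f (Spec.map (CommRingCat.ofHom (algebraMap k k')))) c = d := by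
  intro d hd
  obtain ⟨hdI, M, rfl, ⟨eM⟩⟩ := hd
  letI : ∀ Y : Scheme.{u}, PicGrp.Law Y := fun Y => Lib.TensorMod.Invertible.law Y
  let b := Spec.map (CommRingCat.ofHom (algebraMap k k'))
  let g : pullback f b ⟶ X := pullback.fst f b
  haveI : CharP k' p := charP_of_injective_algebraMap (algebraMap k k').injective p
  haveI := Lib.PerfPic.PurelyInsep.isCharP_Spec p k
  haveI := Lib.PerfPic.PurelyInsep.isCharP_Spec p k'
  haveI hX : FrobSch.IsCharP X p := FrobSch.IsCharP.of_hom f p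
  haveI hX' : FrobSch.IsCharP (pullback f b) p := FrobSch.IsCharP.of_hom (pullback.snd f b) p
  haveI : CompactSpace ↥(pullback f b) := QuasiCompact.compactSpace_of_compactSpace g
  haveI : QuasiSeparatedSpace ↥(pullback f b) := quasiSeparatedSpace_of_quasiSeparated g
  obtain ⟨P, hP, π, hπ⟩ := Lib.PerfFlat.Model.exists_perfection (p := p) (pullback f b)
  have hρ := Lib.PerfPic.PurelyInsep.isPerfection_comp p (IsPullback.of_hasPullback f b) hπ
  let ph {A B : Scheme.{u}} (h : A ⟶ B) : PicLoc.PicSet B →* PicLoc.PicSet A :=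
    PicGrp.pullHom h (Lib.TensorMod.Pullback.pullMul h)
  have hcl : ∀ {Y : Scheme.{u}} {L : Y.Modules} {a : PicLoc.PicSet Y}, PicF.cl L = a.1 → ∀ n : ℕ,
      PicF.cl (CohB1.tensorPow L n) = (a ^ n).1 := by
    intro Y L a ha n
    induction n with
    | zero => rw [pow_zero, PicGrp.one_val]; rfl
    | succ n ih => rw [pow_succ, PicGrp.mul_val, ← ih, ← ha]; rfl
  have hcomp : ∀ {A B C : Scheme.{u}} (h : A ⟶ B) (h' : B ⟶ C) (c : PicLoc.PicSet C),
      ph (h ≫ h') c = ph h (ph h' c) := fun h h' c => Subtype.ext (PicLoc.pullCl_comp h h' c.1)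
  have hker : ∀ {Y : Scheme.{u}} [FrobSch.IsCharP Y p] [CompactSpace Y] [QuasiSeparatedSpace Y]
      {ν : P ⟶ Y}, FrobSch.IsPerfection ν p → ∀ c : PicLoc.PicSet Y, ph ν c = 1 →
      ∃ j : ℕ, c ^ p ^ j = 1 := by
    intro Y _ _ _ ν hν c hc
    obtain ⟨L, hL, hLi⟩ := c.2
    have h1 : PicF.cl ((Scheme.Modules.pullback ν).obj L) = PicF.cl (Coh.structureModule P) := by
      rw [← PicGrp.one_val, ← hc]
      exact congrArg (PicF.pullCl ν) hL
    obtain ⟨j, hj⟩ := (Lib.PerfPic.Basic.isTrivial_pull_iff hν hLi).1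
      (Lib.PerfPic.Basic.cl_eq_structure_iff.1 h1)
    refine ⟨j, Subtype.ext ?_⟩
    rw [← hcl hL (p ^ j), PicGrp.one_val]
    exact Lib.PerfPic.Basic.cl_eq_structure_iff.2 hj
  obtain ⟨M₀, hM₀, hM₀i⟩ := hdI
  let μ : PicLoc.PicSet (pullback f b) := ⟨PicF.cl M, M₀, hM₀, hM₀i⟩
  have hμ : μ ^ n = 1 := by
    refine Subtype.ext ?_
    rw [← hcl (L := M) (a := μ) rfl n, PicGrp.one_val]
    exact Quot.sound ⟨eM⟩
  have hMi : PicF.IsInvertible M := by
    obtain ⟨e₀⟩ := Lib.PerfPic.Basic.cl_eq_iff.1 hM₀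
    exact Lib.TensorMod.Invertible.isInvertible_of_iso e₀ hM₀i
  obtain ⟨m, L, hLi, ⟨eL⟩⟩ := Lib.PerfPic.Descend.exists_model hρ
    (PicLoc.isInvertible_pullback π hMi)
  let l : PicLoc.PicSet X := ⟨PicF.cl L, L, rfl, hLi⟩
  have hl : ph π (ph g l) = (ph π μ) ^ p ^ m := by
    rw [← hcomp]
    refine Subtype.ext ?_
    rw [← hcl (L := (Scheme.Modules.pullback π).obj M) (a := ph π μ) rfl (p ^ m)]
    exact Quot.sound ⟨eL⟩
  obtain ⟨j, hj⟩ := hker hπ (ph g l * (μ ^ p ^ m)⁻¹) (by rw [map_mul, map_inv, map_pow, hl, mul_inv_cancel])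
  rw [mul_pow, inv_pow, mul_inv_eq_one, ← pow_mul] at hj
  have key : ∀ {Y : Scheme.{u}} (x : PicLoc.PicSet Y), x ^ n = 1 → ∀ N : ℕ,
      ∃ e : ℕ, x ^ (p ^ N * e) = x := by
    intro Y x hx N
    rcases eq_or_ne n 1 with rfl | hn1
    · rw [pow_one] at hx
      exact ⟨0, by rw [hx, one_pow]⟩
    have hn0 : n ≠ 0 := fun h => hn (h ▸ dvd_zero p)
    have hco : Nat.Coprime (p ^ N) n :=
      Nat.Coprime.pow_left _ ((Fact.out : p.Prime).coprime_iff_not_dvd.2 hn)
    obtain ⟨e, -, he⟩ := Nat.exists_mul_mod_eq_one_of_coprime hco (by omega)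
    refine ⟨e, ?_⟩
    rw [← Nat.mod_add_div (p ^ N * e) n, he, pow_add, pow_one, pow_mul, hx, one_pow, mul_one]
  obtain ⟨a, ha⟩ := key μ hμ (m + j)
  let c₀ : PicLoc.PicSet X := (l ^ p ^ j) ^ a
  have hc₀ : ph g c₀ = μ := by
    rw [map_pow, map_pow, hj, ← pow_mul, ← pow_add]
    exact ha
  obtain ⟨i, hi⟩ := hker hρ (c₀ ^ n) (by rw [map_pow, hcomp, hc₀, ← map_pow, hμ, map_one])
  obtain ⟨e, he⟩ := key μ hμ i
  let c : PicLoc.PicSet X := c₀ ^ (p ^ i * e)
  have hc : ph g c = μ := by rw [map_pow, hc₀, he]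
  have hcn : c ^ n = 1 := by
    rw [← pow_mul, show p ^ i * e * n = n * p ^ i * e by ring, pow_mul, pow_mul, hi, one_pow]
  obtain ⟨N, hN, hNi⟩ := c.2
  refine ⟨c.1, ⟨c.2, N, hN, ?_⟩, congrArg Subtype.val hc⟩
  refine Lib.PerfPic.Basic.cl_eq_iff.1 ?_
  rw [hcl hN n, hcn, PicGrp.one_val]

end Groth.Agent.S1154
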