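import Groth.Statements.S11544
import Groth.Agent.Lib.Adic.Bosch.Extension
import Mathlib.Algebra.GCDMonoid.IntegrallyClosed
import Mathlib.RingTheory.Bezout

set_option autoImplicit false
universe u
open AdicRing

namespace Groth.Agent.S11544

/-- Let R be a complete valuation ring of height one with t a nonzero element generating an ideal of
definition, K its field of fractions, L an algebraic extension field of K and α an element of L.
Then α is integral over R if and only if the norm of α from K(α) down to K lies in R. -/
theorem result
    (R : Type u) [CommRing R] [IsDomain R] [ValuationRing R] [Ring.KrullDimLE 1 R]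
    (t : R) (ht : t ≠ 0) [IsAdicComplete (Ideal.span {t}) R]
    (L : Type u) [Field L] [Algebra R L] [Algebra (FractionRing R) L]
    [IsScalarTower R (FractionRing R) L] [Algebra.IsAlgebraic (FractionRing R) L] (α : L) :
    IsIntegral R α ↔
      Algebra.norm (FractionRing R) (IntermediateField.AdjoinSimple.gen (FractionRing R) α) ∈
        (algebraMap R (FractionRing R)).range := by
  classical
  letI : GCDMonoid R := IsBezout.toGCDDomain R
  have hK : IsIntegral (FractionRing R) α := (Algebra.IsAlgebraic.isAlgebraic α).isIntegral
  have hnorm : Algebra.norm (FractionRing R) (IntermediateField.AdjoinSimple.gen (FractionRing R) α) =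
      (-1) ^ (IntermediateField.adjoin.powerBasis hK).dim * (minpoly (FractionRing R) α).coeff 0 := by
    rw [← IntermediateField.adjoin.powerBasis_gen hK, Algebra.PowerBasis.norm_gen_eq_coeff_zero_minpoly,
      IntermediateField.adjoin.powerBasis_gen, IntermediateField.minpoly_gen]
  have hpm : (-1 : FractionRing R) ^ (IntermediateField.adjoin.powerBasis hK).dim ∈
      (algebraMap R (FractionRing R)).range :=
    ⟨(-1) ^ (IntermediateField.adjoin.powerBasis hK).dim, by simp⟩
  constructor
  · intro hα
    rw [hnorm, minpoly.isIntegrallyClosed_eq_field_fractions' (FractionRing R) hα, Polynomial.coeff_map]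
    exact mul_mem hpm ⟨_, rfl⟩
  · intro h
    rw [hnorm] at h
    have h2 := mul_mem hpm h
    rw [← mul_assoc, ← mul_pow, neg_mul_neg, one_mul, one_pow, one_mul] at h2
    obtain ⟨a, ha⟩ := h2
    exact Lib.Adic.Bosch.Extension.isIntegral_of_coeff_zero ht hK ha

end Groth.Agent.S11544
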