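import Groth.Statements.S11545
import Groth.Agent.Lib.Adic.Base
import Groth.Agent.Lib.Adic.Lift
import Mathlib.RingTheory.MvPolynomial.Basic

set_option autoImplicit false
universe u
open AdicRing

namespace Groth.Agent.S11545

/-- Let R be a base ring of class (N) or (V) for the ideal I, A an admissible R-algebra, f_0, ..., f_r
elements generating an open ideal 𝔞 of A, and A_i = C_i/(f_i-power torsion) the i-th chart algebra
of the formal blowing-up of 𝔞. Let B be an R-algebra complete and separated for the I-adic topology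
and φ : A → B an R-algebra homomorphism such that the ideal 𝔞B is generated by φ(f_i), a
non-zero-divisor of B. Then there is exactly one R-algebra homomorphism A_i → B whose composite with
A → A_i is φ. -/
theorem result
    (R : Type u) [CommRing R] (I : Ideal R) (hR : AdicRing.IsBase R I)
    (A : Type u) [CommRing A] [Algebra R A] (hA : AdicRing.Admissible R I A)
    (r : ℕ) (f : Fin (r + 1) → A) (k : ℕ)
    (hopen : (I ^ k).map (algebraMap R A) ≤ Ideal.span (Set.range f)) (i : Fin (r + 1))
    (B : Type u) [CommRing B] [Algebra R B] [IsAdicComplete (I.map (algebraMap R B)) B]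
    (φ : A →ₐ[R] B) (hnzd : φ (f i) ∈ nonZeroDivisors B)
    (hgen : (Ideal.span (Set.range f)).map φ = Ideal.span {φ (f i)}) :
    ∃! ψ : AdicRing.chartAdm I f i →ₐ[R] B,
      ψ.comp (IsScalarTower.toAlgHom R A (AdicRing.chartAdm I f i)) = φ := by
  classical
  have hI := Lib.Adic.Base.isBase_fg hR
  letI : Algebra A B := φ.toRingHom.toAlgebra
  haveI : IsScalarTower R A B := IsScalarTower.of_algebraMap_eq fun r => (φ.commutes r).symm
  have hb : ∀ j, ∃ b : B, b * φ (f i) = φ (f j) := fun j =>
    Ideal.mem_span_singleton'.1 (hgen ▸ Ideal.mem_map_of_mem φ (Ideal.subset_span ⟨j, rfl⟩))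
  choose b hb using hb
  let g₁ : MvPolynomial {j // j ≠ i} A →ₐ[A] B := MvPolynomial.aeval fun j => b j.1
  have hker : Ideal.span (Set.range fun j : {j // j ≠ i} =>
      MvPolynomial.C (f i) * MvPolynomial.X j - MvPolynomial.C (f j.1)) ≤ RingHom.ker g₁ := by
    rw [Ideal.span_le]
    rintro _ ⟨j, rfl⟩
    simp only [SetLike.mem_coe, RingHom.mem_ker, g₁, map_sub, map_mul, MvPolynomial.aeval_C,
      MvPolynomial.aeval_X]
    change φ (f i) * b j.1 - φ (f j.1) = 0
    rw [mul_comm, hb, sub_self]
  let g₀ : AdicRing.chartAlg f i →ₐ[A] B := Ideal.Quotient.liftₐ _ g₁ (fun a ha => hker ha)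
  obtain ⟨Φ, hΦ⟩ := Lib.Adic.Lift.exists_lift (I := I) (g₀.restrictScalars R)
  let ι := algebraMap (AdicRing.chartAlg f i) (AdicRing.chartCompl I f i)
  have hΦA : ∀ a : A, Φ (algebraMap A (AdicRing.chartCompl I f i) a) = φ a := fun a => by
    rw [IsScalarTower.algebraMap_apply A (AdicRing.chartAlg f i) (AdicRing.chartCompl I f i),
      ← Lib.Adic.Lift.of_eq_algebraMap, hΦ, AlgHom.restrictScalars_apply, g₀.commutes]
    rfl
  let T : Ideal (AdicRing.chartCompl I f i) := ⨆ n : ℕ, Submodule.torsionBy (AdicRing.chartCompl I f i)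
    (AdicRing.chartCompl I f i) (algebraMap A (AdicRing.chartCompl I f i) (f i) ^ n)
  have hT : T ≤ RingHom.ker Φ := by
    refine iSup_le fun n x hx => ?_
    rw [Submodule.mem_torsionBy_iff, smul_eq_mul] at hx
    have h := congr_arg Φ hx
    rw [map_mul, map_pow, hΦA, map_zero, mul_comm] at h
    exact (mem_nonZeroDivisors_iff.1 (pow_mem hnzd n)).2 _ h
  refine ⟨Ideal.Quotient.liftₐ T Φ hT, AlgHom.ext fun a => hΦA a, fun ψ hψ => ?_⟩
  refine Ideal.Quotient.algHom_ext _ (Lib.Adic.Lift.hom_ext hI _ _ fun c => ?_)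
  change ψ (Ideal.Quotient.mk T (AdicCompletion.of _ _ c)) = Φ (AdicCompletion.of _ _ c)
  rw [hΦ]
  let ψ' : AdicRing.chartAlg f i →+* B := ψ.toRingHom.comp ((Ideal.Quotient.mk T).comp ι)
  change ψ' c = g₀ c
  have hψA : ∀ a : A, ψ' (algebraMap A _ a) = φ a := fun a => AlgHom.congr_fun hψ a
  obtain ⟨p, rfl⟩ := Ideal.Quotient.mk_surjective c
  induction p using MvPolynomial.induction_on with
  | C a =>
      have := hψA a
      change _ = g₁ (MvPolynomial.C a)
      rw [show g₁ (MvPolynomial.C a) = φ a from MvPolynomial.aeval_C _ a, ← this]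
      rfl
  | add p q hp hq => simp only [map_add, hp, hq]
  | mul_X p j hp =>
      rw [map_mul, map_mul, map_mul, hp]
      congr 1
      change _ = g₁ (MvPolynomial.X j)
      rw [show g₁ (MvPolynomial.X j) = b j.1 from MvPolynomial.aeval_X _ j]
      have hrel : algebraMap A (AdicRing.chartAlg f i) (f i) * Ideal.Quotient.mk _ (MvPolynomial.X j) =
          algebraMap A (AdicRing.chartAlg f i) (f j.1) :=
        Ideal.Quotient.eq.2 (Ideal.subset_span ⟨j, rfl⟩)
      have h2 := congr_arg ψ' hrel
      rw [map_mul, hψA, hψA, ← hb j.1, mul_comm] at h2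
      refine sub_eq_zero.1 ((mem_nonZeroDivisors_iff.1 hnzd).2 _ ?_)
      rw [sub_mul, h2, sub_self]

end Groth.Agent.S11545
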