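import Groth.Statements.S11546
import Groth.Agent.Lib.Adic.Valuation
import Mathlib.RingTheory.Flat.Stability
import Mathlib.RingTheory.AdicCompletion.AsTensorProduct

set_option autoImplicit false
universe u
open AdicRing

namespace Groth.Agent.S11546

/-- Let R be a base ring of class (N) or (V) for the ideal I. Then the restricted power series ring
R⟨ζ_1, ..., ζ_n⟩ is flat over R. -/
theorem result
    (R : Type u) [CommRing R] (I : Ideal R) (hR : AdicRing.IsBase R I) (n : ℕ) :
    Module.Flat R (AdicRing.RPow R I n) := by
  obtain ⟨hc, ⟨hN, -⟩ | ⟨hD, hV, hdim, t, ht, rfl⟩⟩ := hR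
  · haveI := hN
    haveI := AdicCompletion.flat_of_isNoetherian
      (R := MvPolynomial (Fin n) R) (I.map (MvPolynomial.C : R →+* MvPolynomial (Fin n) R))
    exact Module.Flat.trans R (MvPolynomial (Fin n) R) (AdicRing.RPow R I n)
  · haveI := hD
    haveI : ValuationRing R := {}
    haveI := hdim
    haveI := hc
    refine Lib.Adic.Valuation.flat_of_torsionFree (t := t) ?_
    intro x hx
    have hs : IsRightRegular (MvPolynomial.C t : MvPolynomial (Fin n) R) := fun a b h =>
      mul_right_cancel₀ (fun h0 => ht (MvPolynomial.C_injective _ _ (h0.trans (map_zero _).symm))) h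
    refine Lib.Adic.Valuation.completion_torsionFree hs
      (by rw [Ideal.map_span, Set.image_singleton]) x ?_
    exact (algebraMap_smul (MvPolynomial (Fin n) R) t x).trans hx

end Groth.Agent.S11546
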