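import Groth.Statements.S9633
import Groth.Agent.H20.Components
import Mathlib.Topology.Separation.Profinite
import Mathlib.Topology.Connected.TotallyDisconnected
import Mathlib.Topology.Connected.Separation

set_option autoImplicit false
universe u
open CAlg

namespace Groth.Agent.S9633

/-- For a ring R with spectrum X the following are equivalent: (1) X is profinite, i.e. compact,
Hausdorff and totally disconnected; (2) X is Hausdorff; (3) X is totally disconnected; (4) every
quasi-compact open subset of X is closed; (5) there are no nontrivial inclusions among prime ideals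
of R; (6) every prime ideal of R is maximal; (7) every prime ideal of R is a minimal prime; (8)
every standard open D(f) is closed. -/
theorem result {R : Type u} [CommRing R] :
    [CompactSpace (PrimeSpectrum R) ∧ T2Space (PrimeSpectrum R) ∧ TotallyDisconnectedSpace (PrimeSpectrum R),
      T2Space (PrimeSpectrum R),
      TotallyDisconnectedSpace (PrimeSpectrum R),
      ∀ W : Set (PrimeSpectrum R), IsOpen W → IsCompact W → IsClosed W,
      ∀ p q : PrimeSpectrum R, p ≤ q → p = q,
      ∀ p : Ideal R, p.IsPrime → p.IsMaximal,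
      ∀ p : Ideal R, p.IsPrime → p ∈ minimalPrimes R,
      ∀ f : R, IsClosed (PrimeSpectrum.basicOpen f : Set (PrimeSpectrum R))].TFAE := by
  tfae_have 1 → 2 := fun h => h.2.1
  tfae_have 1 → 3 := fun h => h.2.2
  tfae_have 2 → 4 := fun _ W _ hc => hc.isClosed
  tfae_have 4 → 8 := fun h f => h _ (PrimeSpectrum.basicOpen f).2 (PrimeSpectrum.isCompact_basicOpen f)
  tfae_have 8 → 5 := by
    intro h p q hpq
    refine PrimeSpectrum.ext (le_antisymm hpq fun f hf => ?_)
    by_contra hfp
    exact (h f).stableUnderSpecialization ((PrimeSpectrum.le_iff_specializes p q).mp hpq) hfp hf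
  tfae_have 3 → 5 := by
    intro h p q hpq
    have hq : q ∈ connectedComponent p :=
      (isPreconnected_singleton.closure.subset_connectedComponent (subset_closure rfl))
        ((PrimeSpectrum.le_iff_mem_closure p q).mp hpq)
    rw [connectedComponent_eq_singleton] at hq
    exact hq.symm
  tfae_have 5 → 6 := by
    intro h p hp
    obtain ⟨m, hm, hle⟩ := Ideal.exists_le_maximal p hp.ne_top
    obtain rfl : p = m := congrArg PrimeSpectrum.asIdeal (h ⟨p, hp⟩ ⟨m, hm.isPrime'⟩ hle)
    exact hm
  tfae_have 6 → 7 := fun h p hp =>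
    ⟨⟨hp, bot_le⟩, fun q hq hle => ((h q hq.1).eq_of_le hp.ne_top hle).ge⟩
  tfae_have 7 → 1 := by
    intro h
    have key : ∀ (p : PrimeSpectrum R), ∀ f ∈ p.asIdeal, ∃ g, g ∉ p.asIdeal ∧
        PrimeSpectrum.basicOpen f ⊓ PrimeSpectrum.basicOpen g = ⊥ := by
      intro p f hf
      have hmin : p.asIdeal ∈ minimalPrimes R := h _ p.2
      by_contra! hall
      have hdisj : Disjoint ((⊥ : Ideal R) : Set R) (p.asIdeal.primeCompl ⊔ Submonoid.powers f : Submonoid R) := by
        rw [Set.disjoint_left]
        intro x hx hx'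
        rw [SetLike.mem_coe, Ideal.mem_bot] at hx
        subst hx
        obtain ⟨a, ha, b, ⟨n, hn⟩, hab⟩ := Submonoid.mem_sup.mp hx'
        refine hall a ha (TopologicalSpace.Opens.ext (Set.eq_empty_of_forall_notMem fun z hz => ?_))
        have : a * b ∈ z.asIdeal := hab ▸ zero_mem _
        rcases z.2.mem_or_mem this with h' | h'
        · exact hz.2 h'
        · exact hz.1 (z.2.mem_of_pow_mem n (by rwa [← hn] at h'))
      obtain ⟨q, hq, -, hdq⟩ := Ideal.exists_le_prime_disjoint _ _ hdisj
      have hqp : q ≤ p.asIdeal := fun x hx => by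
        by_contra hxp
        exact Set.disjoint_left.mp hdq hx (Submonoid.mem_sup_left hxp)
      exact Set.disjoint_left.mp hdq (hmin.2 ⟨hq, bot_le⟩ hqp hf)
        (Submonoid.mem_sup_right ⟨1, pow_one f⟩)
    have hclopen : ∀ f : R, IsClopen (PrimeSpectrum.basicOpen f : Set (PrimeSpectrum R)) := by
      refine fun f => ⟨?_, (PrimeSpectrum.basicOpen f).2⟩
      rw [← isOpen_compl_iff, isOpen_iff_forall_mem_open]
      intro p hp
      obtain ⟨g, hg, hfg⟩ := key p f (by simpa using hp)
      refine ⟨_, fun z hz hzf => ?_, (PrimeSpectrum.basicOpen g).2, hg⟩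
      have : z ∈ (PrimeSpectrum.basicOpen f ⊓ PrimeSpectrum.basicOpen g) := ⟨hzf, hz⟩
      rw [hfg] at this
      exact this
    have hsep : TotallySeparatedSpace (PrimeSpectrum R) := by
      rw [totallySeparatedSpace_iff_exists_isClopen]
      intro x y hxy
      obtain ⟨f, hf⟩ : ∃ f, ¬(f ∈ x.asIdeal ↔ f ∈ y.asIdeal) := by
        by_contra! hh
        exact hxy (PrimeSpectrum.ext (Ideal.ext hh))
      by_cases hfx : f ∈ x.asIdeal
      · exact ⟨_, (hclopen f).compl, by simpa using hfx, by simpa [hfx] using hf⟩
      · exact ⟨_, hclopen f, hfx, by simpa [hfx] using hf⟩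
    exact ⟨inferInstance, inferInstance, inferInstance⟩
  tfae_finish

end Groth.Agent.S9633
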