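import Groth.Statements.S1161
import Groth.Agent.Lib.DescAlg.RingDescent.Main
import Mathlib.RingTheory.Flat.FaithfullyFlat.Algebra

set_option autoImplicit false
set_option backward.isDefEq.respectTransparency false
set_option backward.isDefEq.respectTransparency.types false
open CategoryTheory Opposite
universe u
open Desc

namespace Groth.Agent.S1161

/-- Let R → S be a faithfully flat ring map. Then every descent datum for modules relative to R → S is
effective: it is isomorphic to the canonical descent datum of some R-module M. (Descent data are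
Mathlib's, for the pseudofunctor R ↦ Mod_R with extension of scalars, relative to the single
morphism Spec S ⟶ Spec R; by the usual Yoneda argument they amount to pairs (N, φ) of an S-module N
and an isomorphism φ : N ⊗_R S ≅ S ⊗_R N satisfying the cocycle condition.) -/
theorem result (R S : Type u) [CommRing R] [CommRing S] [Algebra R S]
    [Module.FaithfullyFlat R S] (D : Desc.ringModPF.{u}.DescentData (fun _ : PUnit.{u + 1} => (CommRingCat.ofHom (algebraMap R S)).op)) :
    ∃ M : ModuleCat.{u} R, Nonempty ((Desc.ringModPF.{u}.toDescentData (fun _ : PUnit.{u + 1} => (CommRingCat.ofHom (algebraMap R S)).op)).obj M ≅ D) := by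
  have key : ∀ g : R →+* S, letI := g.toAlgebra
      (Pi1.UnivInjective R S ↔ (Desc.ringModPF.{u}.toDescentData (fun _ : PUnit.{u + 1} => (CommRingCat.ofHom g).op)).IsEquivalence) ∧
      (Nonempty (Desc.ringModPF.{u}.toDescentData (fun _ : PUnit.{u + 1} => (CommRingCat.ofHom g).op)).FullyFaithful → Pi1.UnivInjective R S) :=
    fun g => ⟨⟨fun h => Groth.Agent.Lib.DescAlg.RingDescent.isEquivalence (CommRingCat.ofHom g) h,
        fun h => Groth.Agent.Lib.DescAlg.RingDescent.univInjective_of_faithful (CommRingCat.ofHom g)
          h.faithful⟩,
      fun ⟨h⟩ => Groth.Agent.Lib.DescAlg.RingDescent.univInjective_of_faithful (CommRingCat.ofHom g)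
          h.faithful⟩
  have h := key (algebraMap R S)
  rw [toAlgebra_algebraMap] at h
  have hu : Pi1.UnivInjective R S := by
    intro P _ _
    have hinj := Module.FaithfullyFlat.tensorProduct_mk_injective (A := R) (B := S) P
    rw [injective_iff_map_eq_zero]
    intro z hz
    obtain ⟨p, rfl⟩ := (TensorProduct.rid R P).symm.surjective z
    have : p ⊗ₜ[R] (1 : S) = 0 := by simpa using hz
    have hp : p = 0 := hinj (by simpa using congrArg (TensorProduct.comm R P S) this)
    rw [hp, map_zero]
  have := h.1.1 hu
  exact ⟨_, ⟨(Desc.ringModPF.{u}.toDescentData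
    (fun _ : PUnit.{u + 1} => (CommRingCat.ofHom (algebraMap R S)).op)).objObjPreimageIso D⟩⟩

end Groth.Agent.S1161
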