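import Groth.Statements.S1163
import Groth.Agent.Lib.DescAlg.Pure

set_option autoImplicit false
set_option backward.isDefEq.respectTransparency false
set_option backward.isDefEq.respectTransparency.types false
open CategoryTheory CategoryTheory.Limits AlgebraicGeometry Opposite
universe u
open Desc

namespace Groth.Agent.S1163

/-- The case P = flat, single fppf cover: Let f : X ⟶ Y and q : Y ⟶ Z be morphisms of schemes, and
suppose there is a flat, surjective morphism g : Y' ⟶ Y locally of finite presentation which factors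
through f. If f ≫ q is flat, then q is flat. -/
theorem result {X Y Z Y' : Scheme.{u}} (f : X ⟶ Y) (q : Y ⟶ Z) (g : Y' ⟶ Y) [Flat g] [Surjective g]
    [LocallyOfFinitePresentation g] (l : Y' ⟶ X) (hl : l ≫ f = g) [Flat (f ≫ q)] : Flat q := by
  refine Flat.of_stalkMap q fun y ↦ ?_
  obtain ⟨y', rfl⟩ := g.surjective y
  subst hl
  have hg := Flat.stalkMap (l ≫ f) y'
  have hfq := Flat.stalkMap (f ≫ q) (l y')
  rw [Scheme.Hom.stalkMap_comp] at hg hfq
  have hlf : (((l ≫ f).stalkMap y').hom).FaithfullyFlat := by
    have h0 := Flat.stalkMap (l ≫ f) y'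
    algebraize [((l ≫ f).stalkMap y').hom]
    exact @Module.FaithfullyFlat.of_flat_of_isLocalHom _ _ _ _ _ _ _ h0 ((l ≫ f).toLRSHom.prop y')
  rw [Scheme.Hom.stalkMap_comp] at hlf
  exact Groth.Agent.Lib.DescAlg.Pure.ringHom_flat_of_comp (f := (q.stalkMap (f (l y'))).hom)
    (g := (f.stalkMap (l y')).hom) (k := (l.stalkMap y').hom) hlf hfq

end Groth.Agent.S1163
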