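import Groth.Statements.S1165
import Groth.Agent.Lib.HilbD.Chart.Rep

set_option autoImplicit false
open CategoryTheory CategoryTheory.Limits AlgebraicGeometry
universe u
open HilbD

namespace Groth.Agent.S1165

/-- Let X ⟶ S be a morphism of affine schemes and d a natural number. Then the functor sending an
S-scheme T to the closed subschemes of X ×_S T that are finite locally free of degree d over T is
representable: there is an S-scheme carrying a universal such closed subscheme. -/
theorem result {X S : Scheme.{u}} [IsAffine X] [IsAffine S] (f : X ⟶ S) (d : ℕ) :
    HilbD.Representable f d := by
  exact Groth.Agent.Lib.HilbD.Chart.representable (f := f) fun _ _ _ =>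
    ⟨⊤, isAffineOpen_top X, fun _ => trivial⟩

end Groth.Agent.S1165
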