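import Groth.Statements.S1168
import Groth.Agent.Lib.HilbD.Content
import Groth.Agent.Lib.HilbD.Closed

set_option autoImplicit false
open CategoryTheory CategoryTheory.Limits AlgebraicGeometry
universe u
open HilbD

namespace Groth.Agent.S1168
open Groth.Agent.Lib.HilbD Groth.Agent.Lib.HilbD.Basic Groth.Agent.Lib.HilbD.Closed


/-- Let i : X ⟶ Y be a closed immersion of schemes over S (structure morphisms i ≫ g and g) and suppose
(H, Z) represents the degree-d Hilbert functor of points of Y over S. Then the degree-d Hilbert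
functor of points of X over S is representable, and for any representing pair (H', Z') the unique
S-morphism H' ⟶ H classifying the image of Z' in Y ×_S H' is a closed immersion. -/
theorem result {X Y S : Scheme.{u}} (i : X ⟶ Y) [IsClosedImmersion i] (g : Y ⟶ S)
    (d : ℕ) (H : Over S) (Z : HilbD.Obj g d H) (hZ : HilbD.IsUniversal g d H Z) :
    HilbD.Representable (i ≫ g) d ∧
    ∀ (H' : Over S) (Z' : HilbD.Obj (i ≫ g) d H') (_ : HilbD.IsUniversal (i ≫ g) d H' Z') (m : H' ⟶ H),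
      HilbD.pull g m Z.1 = HilbD.push i g H' Z'.1 → IsClosedImmersion m.left := by
  let m0 := mapXT i g H
  let E : H.left.IdealSheafData :=
    Content.inclLocus (PicF.XTproj g H) Z.1 Z.2.1 m0.ker
  let H₀ : Over S := Over.mk (E.subschemeι ≫ H.hom)
  let ι : H₀ ⟶ H := Over.homMk E.subschemeι rfl
  have hE : ∀ {T : Over S} (q : T ⟶ H), E.comap q.left = ⊥ ↔
      (mapXT i g T).ker ≤ HilbD.pull g q Z.1 := fun q => by
    rw [Content.inclLocus_comap_eq_bot_iff (isPullback_XTmap g q), ker_mapXT_pull i g q,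
      pull_eq_comap]
  have hι : (mapXT i g H₀).ker ≤ HilbD.pull g ι Z.1 :=
    (hE ι).mp ((exists_lift_iff _ _).mp ⟨𝟙 _, Category.id_comp _⟩)
  let Z₀ : HilbD.Obj (i ≫ g) d H₀ :=
    ⟨(HilbD.pull g ι Z.1).comap (mapXT i g H₀),
      Closed.finLocFreeOfDeg_comap _ hι (mapXT_proj i g H₀) (pullObj g ι Z).2⟩
  have hpush₀ : HilbD.push i g H₀ Z₀.1 = HilbD.pull g ι Z.1 := map_comap _ hι
  have key : ∀ {T : Over S} (h : T ⟶ H₀), HilbD.pull g (h ≫ ι) Z.1 =
      HilbD.push i g T (HilbD.pull (i ≫ g) h Z₀.1) := fun h => by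
    rw [pull_comp, ← hpush₀, pull_push]
  have huniv : HilbD.IsUniversal (i ≫ g) d H₀ Z₀ := by
    intro T W
    obtain ⟨q, hq, -⟩ := hZ T ⟨W.1.map (mapXT i g T),
      finLocFreeOfDeg_map _ W.1 (mapXT_proj i g T) W.2⟩
    obtain ⟨l, hl⟩ := (exists_lift_iff q.left E).mpr ((hE q).mpr (by
      rw [hq]; exact Scheme.Hom.le_ker_comp _ _))
    let h : T ⟶ H₀ := Over.homMk l (by
      show l ≫ E.subschemeι ≫ H.hom = T.hom
      rw [← Category.assoc, hl, Over.w q])
    have hh : h ≫ ι = q := by ext; exact hl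
    refine ⟨h, ?_, fun h' hh' => ?_⟩
    · show HilbD.pull (i ≫ g) h Z₀.1 = W.1
      have h2 : HilbD.pull (i ≫ g) h Z₀.1 =
          (HilbD.pull g (h ≫ ι) Z.1).comap (mapXT i g T) := by
        rw [key h]; exact (comap_map (mapXT i g T)).symm
      rw [h2, hh, hq, comap_map]
    · have h3 : h' ≫ ι = h ≫ ι := hom_ext g hZ (by rw [key h', hh', hh, hq]; rfl)
      apply Over.OverMorphism.ext
      have h4 := congrArg (fun a => CommaMorphism.left a) h3
      exact (cancel_mono E.subschemeι).mp h4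
  refine ⟨⟨H₀, Z₀, huniv⟩, fun H' Z' hZ' m hm => ?_⟩
  obtain ⟨θ, hθ, -⟩ := huniv H' Z'
  obtain ⟨η, hη, -⟩ := hZ' H₀ Z₀
  have h1 : θ ≫ η = 𝟙 H' := hom_ext _ hZ' (by rw [pull_comp, hη, hθ, pull_id])
  have h2 : η ≫ θ = 𝟙 H₀ := hom_ext _ huniv (by rw [pull_comp, hθ, hη, pull_id])
  have hmeq : m = θ ≫ ι := hom_ext g hZ (by rw [key θ, hθ, hm])
  haveI : IsIso θ := ⟨η, h1, h2⟩
  haveI : IsIso θ.left := (Over.forget S).map_isIso θ
  rw [hmeq]
  show IsClosedImmersion (θ.left ≫ E.subschemeι)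
  exact (MorphismProperty.cancel_left_of_respectsIso @IsClosedImmersion θ.left
    E.subschemeι).mpr inferInstance

end Groth.Agent.S1168
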