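import Groth.Statements.S16791
import Groth.Agent.Lib.SmWeil.MaxTorusBC
import Mathlib.AlgebraicGeometry.Morphisms.FlatDescent

set_option autoImplicit false
open CategoryTheory MonoidalCategory CartesianMonoidalCategory MonObj GrpObj AlgebraicGeometry
universe u
open Red

namespace Groth.Agent.S16791

open Groth.Agent.Lib Groth.Agent.Lib.SmWeil CategoryTheory.Limits Groth.Agent.Lib.RedPts Groth.Agent.Lib.Tori Groth.Agent.H87

/-- Isomorphisms descend along faithfully flat quasi-compact base change. -/
theorem isIso_of_pullback_map {S S' : Scheme.{u}} (g : S' ⟶ S) [Surjective g] [Flat g] [QuasiCompact g]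
    {X Y : Over S} (f : X ⟶ Y) (h : IsIso ((Over.pullback g).map f)) : IsIso f := by
  have hpb : IsPullback (pullback.fst X.hom g) ((Over.pullback g).map f).left f.left (pullback.fst Y.hom g) := by
    refine (IsPullback.of_bot (h₃₁ := g) (v₂₁ := pullback.snd Y.hom g) (v₂₂ := Y.hom) ?_ ?_
      (IsPullback.of_hasPullback Y.hom g)).flip.flip
    · rw [Over.w, show ((Over.pullback g).map f).left ≫ pullback.snd Y.hom g = pullback.snd X.hom g from
        pullback.lift_snd _ _ _]
      exact IsPullback.of_hasPullback X.hom g
    · exact (pullback.lift_fst _ _ _).symm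
  have : IsIso ((Over.pullback g).map f).left := by
    have := h
    exact inferInstanceAs (IsIso ((Over.forget S').map ((Over.pullback g).map f)))
  have : IsIso f.left := MorphismProperty.of_isPullback_of_descendsAlong
    (P := MorphismProperty.isomorphisms Scheme.{u}) (Q := @Surjective ⊓ @Flat ⊓ @QuasiCompact)
    hpb.flip
    ⟨⟨MorphismProperty.of_isPullback (P := @Surjective) (IsPullback.of_hasPullback Y.hom g).flip inferInstance,
      MorphismProperty.of_isPullback (P := @Flat) (IsPullback.of_hasPullback Y.hom g).flip inferInstance⟩,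
      MorphismProperty.of_isPullback (P := @QuasiCompact) (IsPullback.of_hasPullback Y.hom g).flip inferInstance⟩
    this
  have : IsIso ((Over.forget S).map f) := ‹IsIso f.left›
  exact isIso_of_reflects_iso f (Over.forget S)

/-- For a smooth affine group scheme G over a scheme S, a subtorus T ⊆ G and a surjective morphism S' →
S, T is a maximal torus of G (geometric fibres maximal) if and only if T_{S'} is a maximal torus of
G_{S'}. -/
theorem result {S S' : Scheme.{u}} {G T : Over S} [GrpObj G] [GrpObj T]
    (hG : Smooth G.hom) (hGa : IsAffineHom G.hom) (i : T ⟶ G) [IsMonHom i] [Mono i] (hT : Red.IsTorus T)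
    (f : S' ⟶ S) (hf : Surjective f) :
    Red.IsMaximalTorus i ↔ Red.IsMaximalTorus ((Over.pullback f).map i) := by
  constructor
  · exact fun h => MaxTorusBC.isMaximalTorus_bc i h f
  intro hmax'
  refine ⟨inferInstance, inferInstance, hT, fun s T' _ j _ _ a hT' ha => ?_⟩
  obtain ⟨s', rfl⟩ := hf.surj s
  let : Algebra (S.residueField (f s')) (AlgebraicClosure (S'.residueField s')) :=
    ((algebraMap (S'.residueField s') (AlgebraicClosure (S'.residueField s'))).comp (f.residueFieldMap s').hom).toAlgebra
  let σ : AlgebraicClosure (S.residueField (f s')) →ₐ[S.residueField (f s')]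
      AlgebraicClosure (S'.residueField s') := IsAlgClosed.lift
  let : Algebra (AlgebraicClosure (S.residueField (f s'))) (AlgebraicClosure (S'.residueField s')) :=
    σ.toRingHom.toAlgebra
  let g := TorusSpec.base (K := AlgebraicClosure (S.residueField (f s'))) (AlgebraicClosure (S'.residueField s'))
  have hsq : Red.geomPt s' ≫ f = g ≫ Red.geomPt (f s') := by
    rw [Category.assoc, ← Scheme.Hom.SpecMap_residueFieldMap_fromSpecResidueField, ← Spec.map_comp_assoc,
      ← Category.assoc, ← Spec.map_comp]
    refine congrArg (· ≫ S.fromSpecResidueField _) (congrArg Spec.map (CommRingCat.hom_ext ?_))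
    exact σ.comp_algebraMap.symm
  obtain ⟨eG, eT, hnat⟩ := MaxTorusBC.exists_transport (Red.geomPt s') f g (Red.geomPt (f s')) hsq i
  have := BaseChange.isMonHom_overIso eG.symm
  have : IsMonHom ((Over.pullback g).map j ≫ (BaseChange.overIso eG.symm).hom) := inferInstance
  have : Mono ((Over.pullback g).map j ≫ (BaseChange.overIso eG.symm).hom) :=
    MaxTorusBC.mono_comp_iso ((Over.pullback g).map j) _
  obtain ⟨-, -, -, hm⟩ := hmax'
  have hiso := hm s' (Red.bc g T') ((Over.pullback g).map j ≫ (BaseChange.overIso eG.symm).hom)
    ((BaseChange.overIso eT).hom ≫ (Over.pullback g).map a) (Basic.isTorus_bc hT' g) (by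
      rw [Category.assoc, ← Functor.map_comp_assoc, ha, ← Category.assoc]
      exact (congrArg (· ≫ (BaseChange.overIso eG.symm).hom) hnat.symm).trans
        ((Category.assoc _ _ _).trans ((congrArg (_ ≫ ·) (BaseChange.overIso eG).hom_inv_id).trans
          (Category.comp_id _))))
  have hi : IsIso ((Over.pullback g).map a) :=
    @IsIso.of_isIso_comp_left _ _ _ _ _ _ _ (BaseChange.overIso eT).isIso_hom hiso
  have : Surjective g := ⟨fun x => ⟨IsLocalRing.closedPoint _, Subsingleton.elim (α := PrimeSpectrum _) _ _⟩⟩
  have : Flat g := by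
    rw [show g = Spec.map (CommRingCat.ofHom σ.toRingHom) from rfl, HasRingHomProperty.Spec_iff (P := @Flat)]
    exact RingHom.flat_algebraMap_iff.mpr (inferInstanceAs (Module.Flat _ _))
  exact isIso_of_pullback_map g a hi

end Groth.Agent.S16791
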