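import Groth.Statements.S9693
import Groth.Agent.Lib.Chow.Projective

set_option autoImplicit false
universe u
open CategoryTheory CategoryTheory.Limits AlgebraicGeometry
open Mor

namespace Groth.Agent.S9693

/-- A base change of an H-projective morphism (a closed immersion into some P^n over the base followed
by the projection) is H-projective. -/
theorem result {X S S' : Scheme.{u}} (f : X ⟶ S) (hf : RelProj.IsHProjective f)
    (g : S' ⟶ S) : RelProj.IsHProjective (pullback.snd f g) := by
  obtain ⟨n, i, hi, hif⟩ := hf
  let H := Lib.ProjSpace.BaseChange.isPullback_overMap n g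
  have hw : (pullback.fst f g ≫ i) ≫ CohB1.ProjSpaceOver.toBase n S = pullback.snd f g ≫ g := by
    rw [Category.assoc, hif, pullback.condition]
  refine ⟨n, H.lift _ _ hw, ?_, H.lift_snd _ _ _⟩
  have hsq : IsPullback (pullback.fst f g) (H.lift _ _ hw) i (Lib.ProjSpace.BaseChange.overMap n g) := by
    refine IsPullback.of_bot ?_ (H.lift_fst _ _ _).symm H
    rw [H.lift_snd, hif]
    exact IsPullback.of_hasPullback f g
  exact MorphismProperty.of_isPullback hsq hi

end Groth.Agent.S9693
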