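import Groth.Statements.S1176
import Groth.Agent.Lib.EtQCoh.Main
import Groth.Agent.S0030

set_option autoImplicit false
open CategoryTheory CategoryTheory.Limits AlgebraicGeometry Opposite
universe u
open Desc

set_option backward.isDefEq.respectTransparency false
set_option backward.isDefEq.respectTransparency.types false

namespace Groth.Agent.S1176

/-- Let f : T ⟶ S be quasi-compact and quasi-separated and F a quasi-coherent O_T-module. Let G be an
etale abelian sheaf associated to F on T and G' one associated to the Zariski higher direct image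
R^i f_* F on S (the latter computed assuming the category of O_T-modules has injective resolutions,
which holds but is carried as an instance hypothesis). Then R^i f_* G, the etale higher direct
image, is isomorphic to G'. -/
theorem result {T S : Scheme.{u}} (f : T ⟶ S) [QuasiCompact f] [QuasiSeparated f]
    [HasInjectiveResolutions T.Modules] (F : T.Modules) [F.IsQuasicoherent] (i : ℕ)
    (G : EtCoh.Ab T) (hG : EtAssoc.IsAssoc F G) (G' : EtCoh.Ab S) (hG' : EtAssoc.IsAssoc ((Coh.Rpush f i).obj F) G') :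
    Nonempty ((EtCoh.Rpush f i).obj G ≅ G') := by
  obtain ⟨e⟩ := Groth.Agent.Lib.EtQCoh.AffGood.nonempty_iso_qSh F hG
  have hGc := Groth.Agent.Lib.EtQCoh.AffGood.cechAff_of_isAssoc F hG
  let I := injectiveResolution F
  let Re := injectiveResolution G
  obtain ⟨c, hc⟩ := Groth.Agent.Lib.EtQCoh.Resolution.exists_chainMap_EI I e Re
  let α := Groth.Agent.Lib.EtQCoh.Resolution.α I f c
  let K := Groth.Agent.Lib.EtQCoh.Main.K (f := f) I
  have hn : (ComplexShape.up ℕ).next i = i + 1 := CochainComplex.next ℕ i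
  haveI hR : ((Coh.Rpush f i).obj F).IsQuasicoherent := Groth.Agent.S0030.result f F i
  haveI : (Groth.Agent.Lib.EtQCoh.Main.sc (f := f) I ((ComplexShape.up ℕ).prev i) i).homology.IsQuasicoherent :=
    (SheafOfModules.isQuasicoherent (R := S.ringCatSheaf)).prop_of_iso
      ((I.isoRightDerivedObj (Coh.push f) i) ≪≫ K.homologyIsoSc' _ i (i + 1) rfl hn) hR
  let A := (Groth.Agent.Lib.EtQCoh.Resolution.PI I f).sc i
  let B := (Groth.Agent.Lib.EtQCoh.Resolution.PR f Re).sc i
  let φ : A ⟶ B := (HomologicalComplex.shortComplexFunctor _ _ i).map α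
  have hd : ∀ (C : CochainComplex (Groth.Agent.Lib.EtQCoh.LocHomology.Psh S) ℕ) (j : ℕ) (_ : j = i + 1)
      (V : S.Etale) (x : (C.X i).obj (op V)),
      (C.d i j).app (op V) x = 0 → (C.d i (i + 1)).app (op V) x = 0 := by
    rintro C j rfl V x h
    exact h
  have hd' : ∀ (C : CochainComplex (Groth.Agent.Lib.EtQCoh.LocHomology.Psh S) ℕ) (j : ℕ) (_ : j = i + 1)
      (V : S.Etale) (x : (C.X i).obj (op V)),
      (C.d i (i + 1)).app (op V) x = 0 → (C.d i j).app (op V) x = 0 := by
    rintro C j rfl V x h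
    exact h
  haveI := Groth.Agent.Lib.EtQCoh.LocHomology.isIso_map_homologyMap φ
    (fun V y hy v => by
      obtain ⟨V', g, hg, x, w, hx, h⟩ :=
        Groth.Agent.Lib.EtQCoh.Main.surj I c e hc hGc rfl V y (hd (Groth.Agent.Lib.EtQCoh.Resolution.PR f Re) _ hn V y hy) v
      exact ⟨V', g, hg, x, w, hd' (Groth.Agent.Lib.EtQCoh.Resolution.PI I f) _ hn V' x hx, h⟩)
    (fun V x hx hw v =>
      Groth.Agent.Lib.EtQCoh.Main.inj I c e hc hGc _ i rfl V x (hd (Groth.Agent.Lib.EtQCoh.Resolution.PI I f) _ hn V x hx) hw v)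
  haveI := Groth.Agent.Lib.EtQCoh.LocHomology.isIso_homologyMap_shf φ
  let shfS := Groth.Agent.Lib.EtQCoh.LocHomology.shf S
  let P := ((EtCoh.push f).mapHomologicalComplex (ComplexShape.up ℕ)).obj Re.cocomplex
  let ν : (shfS.mapHomologicalComplex (ComplexShape.up ℕ)).obj (Groth.Agent.Lib.EtQCoh.Resolution.PR f Re) ≅ P :=
    HomologicalComplex.Hom.isoOfComponents (fun n => (sheafificationIso (P.X n)).symm)
      (fun a b _ => ((sheafificationNatIso S.smallEtaleTopology AddCommGrpCat.{u + 1}).inv.naturality (P.d a b)).symm)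
  haveI := Groth.Agent.Lib.EtQCoh.EPre.E_preservesHomology (X := S)
  obtain ⟨e'⟩ := Groth.Agent.Lib.EtQCoh.AffGood.nonempty_iso_qSh ((Coh.Rpush f i).obj F) hG'
  refine ⟨(Re.isoRightDerivedObj (EtCoh.push f) i) ≪≫
    (HomologicalComplex.homologyFunctor _ _ i).mapIso ν.symm ≪≫
    (asIso (ShortComplex.homologyMap (shfS.mapShortComplex.map φ))).symm ≪≫
    ((K.sc i).mapHomologyIso (Groth.Agent.Lib.EtQCoh.EPre.E S)) ≪≫
    (Groth.Agent.Lib.EtQCoh.EPre.E S).mapIso (I.isoRightDerivedObj (Coh.push f) i).symm ≪≫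
    (e' ≪≫ Groth.Agent.Lib.EtQCoh.EPre.qShIso _).symm⟩

end Groth.Agent.S1176
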