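import Groth.Statements.S3461
import Groth.Agent.H46.ProperAt.Glue

set_option autoImplicit false
open CategoryTheory CategoryTheory.Limits AlgebraicGeometry
universe u
open EGA43

namespace Groth.Agent.S3461

open CategoryTheory.Limits in
/-- Let f : X ⟶ Y be separated and of finite presentation. Suppose there is a surjective morphism of
finite presentation g : Y' ⟶ Y which is proper or flat, together with a Y-morphism Y' ⟶ X, and
suppose every fibre of f is geometrically connected. Then the set U of points y of Y whose fibre X_y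
is proper over κ(y) is open in Y, and the restriction of f over U is proper. -/
theorem result {X Y Y' : Scheme.{u}} (f : X ⟶ Y)
    [IsSeparated f] [LocallyOfFinitePresentation f] [QuasiCompact f] [QuasiSeparated f]
    (g : Y' ⟶ Y) [Surjective g] [LocallyOfFinitePresentation g] [QuasiCompact g] [QuasiSeparated g]
    (hg : IsProper g ∨ Flat g) (σ : Y' ⟶ X) (hσ : σ ≫ f = g)
    (hconn : ∀ y : Y, MoreMor.nGeomConnComp f y ≤ 1) :
    ∃ U : Y.Opens, (U : Set Y) = {y : Y | IsProper (f.fiberToSpecResidueField y)} ∧ IsProper (f ∣_ U) := by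
  have hgc : ∀ y : Y, GeometricallyConnected (f.fiberToSpecResidueField y) := fun y => by
    refine H46.ProperAt.geometricallyConnected_of_count f y ?_ (hconn y)
    obtain ⟨z, hz⟩ := g.surjective y
    obtain ⟨a, -⟩ := (f.range_fiberι y).ge (show f (σ z) = y by rw [← Scheme.Hom.comp_apply, hσ, hz])
    exact ⟨a⟩
  refine ⟨⨆ V : {V : Y.Opens // IsProper (f ∣_ V)}, V.1, Set.ext fun y => ⟨fun hy => ?_, fun hy => ?_⟩,
    H46.ProperAt.isProper_restrict_sSup f⟩
  · obtain ⟨V, hV⟩ := TopologicalSpace.Opens.mem_iSup.1 hy
    exact H46.ProperAt.isProper_of_range f V.2 (IsPullback.of_hasPullback f (Y.fromSpecResidueField y))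
      (by rw [Scheme.range_fromSpecResidueField]; exact Set.singleton_subset_iff.2 hV)
  obtain ⟨U, hyU, hC, hP⟩ := H46.ProperAt.main f (Z := (Set.univ : Set X)) (y := y) .univ
    (fun _ _ _ => True) (fun z c h _ => H46.ProperAt.center_val z c h)
    (H46.ProperAt.closure_proper_val f .univ)
    (fun y' _ => by
      rw [Set.univ_inter]
      exact H46.ProperAt.gConn_of_geometricallyConnected f y' (hgc y'))
    (fun y' _ => ⟨Set.univ, isOpen_univ, rfl⟩) (fun _ _ => Set.subset_univ _)
    (by rw [Set.univ_inter]; exact H46.ProperAt.propSet_fibre_self f y hy)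
    fun L _ R _ φ _ => by
      let m : pullback g φ ⟶ pullback f φ := pullback.lift (pullback.fst _ _ ≫ σ) (pullback.snd _ _)
        (by rw [Category.assoc, hσ, pullback.condition])
      have hm : ∀ w, pullback.snd f φ (m w) = pullback.snd g φ w := fun w => by
        rw [← Scheme.Hom.comp_apply, pullback.lift_snd]
      suffices ∃ u z : ↥(pullback g φ), u ⤳ z ∧
          pullback.snd g φ u = genericPoint (Spec (CommRingCat.of R)) ∧
          pullback.snd g φ z = IsLocalRing.closedPoint R by
        obtain ⟨u, z, huz, hu, hz⟩ := this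
        rw [Set.univ_inter, Set.univ_inter]
        exact H46.ProperAt.link_univ f φ (m z) (m u) (huz.map m.continuous) ((hm z).trans hz)
          ((hm u).trans hu)
      rcases hg with hg | hg
      · haveI : IsProper (pullback.snd g φ) := MorphismProperty.pullback_snd _ _ hg
        obtain ⟨u, hu⟩ := (pullback.snd g φ).surjective (genericPoint (Spec (CommRingCat.of R)))
        obtain ⟨z, hz, hzs⟩ := (genericPoint_specializes (IsLocalRing.closedPoint R)).mem_closed
          ((pullback.snd g φ).isClosedMap _ (isClosed_closure (s := ({u} : Set _)))) ⟨u, subset_closure rfl, hu⟩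
        exact ⟨u, z, specializes_iff_mem_closure.2 hz, hu, hzs⟩
      · haveI : Flat (pullback.snd g φ) := MorphismProperty.pullback_snd _ _ hg
        obtain ⟨z, hz⟩ := (pullback.snd g φ).surjective (IsLocalRing.closedPoint R)
        obtain ⟨u, huz, hu⟩ := (Flat.generalizingMap (pullback.snd g φ))
          (genericPoint_specializes ((pullback.snd g φ) z))
        exact ⟨u, z, huz, hu, hz⟩
  exact TopologicalSpace.Opens.mem_iSup.2 ⟨⟨U, H46.ProperAt.isProper_restrict_of_univ f hC hP⟩, hyU⟩

end Groth.Agent.S3461
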