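import Groth.Statements.S1181
import Groth.Agent.Lib.HilbD.FppfDesc

set_option autoImplicit false
open CategoryTheory CategoryTheory.Limits AlgebraicGeometry
universe u
open HilbD

namespace Groth.Agent.S1181
set_option backward.isDefEq.respectTransparency false
/-- Let f : X ⟶ S, d a natural number, T an S-scheme and g : T' ⟶ T quasi-compact, flat and surjective,
viewed over S. Let Z' be a closed subscheme of X ×_S T' finite locally free of degree d over T'
whose two pullbacks to X ×_S (T' ×_T T') coincide. Then there is exactly one closed subscheme of X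
×_S T, finite locally free of degree d over T, pulling back to Z'. -/
theorem result {X S : Scheme.{u}} (f : X ⟶ S) (d : ℕ) (T : Over S) {T' : Scheme.{u}} (g : T' ⟶ T.left)
    [QuasiCompact g] [Flat g] [Surjective g] (Z' : HilbD.Obj f d (HilbD.coverOver T g))
    (hZ' : HilbD.pull f (HilbD.overlapFst T g) Z'.1 = HilbD.pull f (HilbD.overlapSnd T g) Z'.1) :
    ∃! I : (PicF.XT f T).IdealSheafData, Mor2.IsFinLocFreeOfDeg d (I.subschemeι ≫ PicF.XTproj f T) ∧
      HilbD.pull f (HilbD.coverHom T g) I = Z'.1 := by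
  let q := PicF.XTmap f (HilbD.coverHom T g)
  let p1 := PicF.XTmap f (HilbD.overlapFst T g)
  let p2 := PicF.XTmap f (HilbD.overlapSnd T g)
  have sqq : IsPullback q (PicF.XTproj f (HilbD.coverOver T g)) (PicF.XTproj f T) g :=
    Groth.Agent.Lib.HilbD.Basic.isPullback_XTmap f (HilbD.coverHom T g)
  have sqS : IsPullback p2 (PicF.XTproj f (HilbD.overlapOver T g))
      (PicF.XTproj f (HilbD.coverOver T g)) (pullback.snd g g) :=
    Groth.Agent.Lib.HilbD.Basic.isPullback_XTmap f (HilbD.overlapSnd T g)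
  have h1 : p1 ≫ PicF.XTproj f (HilbD.coverOver T g) =
      PicF.XTproj f (HilbD.overlapOver T g) ≫ pullback.fst g g :=
    Groth.Agent.Lib.HilbD.Basic.XTmap_snd f (HilbD.overlapFst T g)
  have hw : p1 ≫ q = p2 ≫ q := by
    dsimp only [p1, p2, q]
    rw [← Groth.Agent.Lib.HilbD.Basic.XTmap_comp, ← Groth.Agent.Lib.HilbD.Basic.XTmap_comp]
    congr 1
    ext
    exact pullback.condition
  have sqR : IsPullback p1 p2 q q := by
    refine IsPullback.of_right ?_ hw sqq.flip
    rw [h1, sqq.w]
    exact sqS.flip.paste_horiz (IsPullback.of_hasPullback g g)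
  have : Flat q := MorphismProperty.of_isPullback sqq.flip ‹Flat g›
  have : QuasiCompact q := MorphismProperty.of_isPullback sqq.flip ‹QuasiCompact g›
  have : Surjective q := MorphismProperty.of_isPullback sqq.flip ‹Surjective g›
  have hK : Z'.1.comap p1 = Z'.1.comap p2 := by
    rwa [← Groth.Agent.Lib.HilbD.Basic.pull_eq_comap, ← Groth.Agent.Lib.HilbD.Basic.pull_eq_comap]
  have hI : (Z'.1.map q).comap q = Z'.1 :=
    Groth.Agent.Lib.HilbD.FppfDesc.comap_map_of_descentData q sqR Z'.1 hK
  refine ⟨Z'.1.map q, ⟨?_, ?_⟩, fun J hJ => ?_⟩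
  · refine Groth.Agent.Lib.HilbD.FppfDesc.finLocFreeOfDeg_descends
      (Groth.Agent.Lib.HilbD.Basic.isPullback_comap_proj sqq (Z'.1.map q)) ?_
    rw [hI]
    exact Z'.2
  · rw [Groth.Agent.Lib.HilbD.Basic.pull_eq_comap]
    exact hI
  · apply Groth.Agent.Lib.HilbD.FppfDesc.comap_injective q
    rw [hI, ← hJ.2, Groth.Agent.Lib.HilbD.Basic.pull_eq_comap]

end Groth.Agent.S1181
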