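import Groth.Statements.S1183
import Groth.Agent.H2.Rigid.GeomRegLocal
import Groth.Agent.Lib.JacCrit.GeomRegular

set_option autoImplicit false
universe u
open Desc

namespace Groth.Agent.S1183

/-- Let A → B be a smooth ring map of Noetherian rings and k a natural number. If A satisfies (R_k) then
so does B; and if moreover A → B is faithfully flat and B satisfies (R_k), then A does. -/
theorem result (A B : Type u) [CommRing A] [CommRing B] [IsNoetherianRing A] [IsNoetherianRing B]
    [Algebra A B] [Algebra.Smooth A B] (k : ℕ) :
    (LocCoh.HasRk k A → LocCoh.HasRk k B) ∧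
    (Module.FaithfullyFlat A B → LocCoh.HasRk k B → LocCoh.HasRk k A) := by
  have hfib : ∀ (q : Ideal B) [q.IsPrime], IsRegularRing ((q.comap (algebraMap A B)).Fiber B) := fun q _ => by
    let p := q.comap (algebraMap A B)
    have : Algebra.Smooth p.ResidueField (p.Fiber B) := inferInstance
    have h := (Lib.JacCrit.GeomRegular.smooth_iff_isGeometricallyRegular (F := p.Fiber B) p.ResidueField).1
      this p.ResidueField inferInstance
    exact IsRegularRing.of_ringEquiv (R := TensorProduct p.ResidueField p.ResidueField (p.Fiber B))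
      (Algebra.TensorProduct.lid p.ResidueField (p.Fiber B)).toRingEquiv
  have : Module.Flat A B := inferInstance
  refine ⟨fun h q _ hq => ?_, fun hff h p _ hp => ?_⟩
  · refine Groth.Agent.H2.Rigid.GeomRegLocal.regular_at q (h _ (le_trans ?_ hq)) (Groth.Agent.H2.Rigid.GeomRegLocal.fibLocRing_regular q (hfib q))
    let p := q.comap (algebraMap A B)
    have : q.LiesOver p := ⟨rfl⟩
    rw [Ideal.height_eq_height_add_of_liesOver_of_hasGoingDown p q]
    exact le_self_add
  · have := hff
    obtain ⟨⟨q', hq'⟩, hqp⟩ := PrimeSpectrum.comap_surjective_of_faithfullyFlat (A := A) (B := B) ⟨p, inferInstance⟩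
    have hq'p : q'.comap (algebraMap A B) = p := congrArg PrimeSpectrum.asIdeal hqp
    obtain ⟨q, hq, hqq'⟩ := Ideal.exists_minimalPrimes_le (I := p.map (algebraMap A B)) (J := q')
      (Ideal.map_le_iff_le_comap.2 hq'p.ge)
    have : q.IsPrime := hq.1.1
    have hqc : q.comap (algebraMap A B) = p := le_antisymm ((Ideal.comap_mono hqq').trans hq'p.le)
      (Ideal.map_le_iff_le_comap.1 hq.1.2)
    have : q.LiesOver p := ⟨hqc.symm⟩
    have hzero : (q.map (Ideal.Quotient.mk (p.map (algebraMap A B)))).height = 0 := by
      rw [Ideal.minimalPrimes_eq_comap] at hq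
      obtain ⟨P, hP, rfl⟩ := hq
      have : P.IsPrime := hP.1.1
      rw [Ideal.map_comap_of_surjective _ Ideal.Quotient.mk_surjective, Ideal.height_eq_zero_iff]
      exact hP
    have hh : q.height = p.height := by
      rw [Ideal.height_eq_height_add_of_liesOver_of_hasGoingDown p q, hzero, add_zero]
    have hreg := h q (hh ▸ hp)
    let φ := Localization.localRingHom p q (algebraMap A B) hqc.symm
    let _ : Algebra (Localization.AtPrime p) (Localization.AtPrime q) := φ.toAlgebra
    have : Localization.AtPrime.IsLiesOverAlgebra p q := ⟨rfl⟩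
    have : IsLocalHom (algebraMap (Localization.AtPrime p) (Localization.AtPrime q)) :=
      Localization.isLocalHom_localRingHom _ _ _ hqc.symm
    exact Lib.Regular.Descent.isRegularLocalRing_of_flat (Localization.AtPrime q)

end Groth.Agent.S1183
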