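import Groth.Statements.S1184
import Groth.Agent.Lib.RelDiv.Cartier

set_option autoImplicit false
open CategoryTheory CategoryTheory.Limits AlgebraicGeometry
universe u
open HilbD

namespace Groth.Agent.S1184

/-- Let f : X ⟶ S be smooth of relative dimension 1 and D the closed subscheme of X defined by a
quasi-coherent ideal sheaf I. Then I is the ideal of an effective Cartier divisor with D flat over S
if and only if the projection from D to S is flat, locally quasi-finite and locally finitely
presented; and both hold as soon as D is finite locally free over S. -/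
theorem result {X S : Scheme.{u}} (f : X ⟶ S) [SmoothOfRelativeDimension 1 f]
    (I : X.IdealSheafData) :
    ((BlowUp.IsEffCartierIdeal I ∧ Flat (I.subschemeι ≫ f)) ↔
      (LocallyQuasiFinite (I.subschemeι ≫ f) ∧ Flat (I.subschemeι ≫ f) ∧ LocallyOfFinitePresentation (I.subschemeι ≫ f))) ∧
    (Mor2.IsFinLocFree (I.subschemeι ≫ f) → BlowUp.IsEffCartierIdeal I ∧ Flat (I.subschemeι ≫ f)) := by
  exact ⟨⟨fun ⟨h, hf⟩ => ⟨Groth.Agent.Lib.RelDiv.Cartier.locallyQuasiFinite_of_isEffCartier f h, hf,
      Groth.Agent.Lib.RelDiv.Cartier.lfp_of_isEffCartier f h⟩,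
      fun ⟨hq, hf, hp⟩ => ⟨Groth.Agent.Lib.RelDiv.Cartier.isEffCartier_of_flat_quasiFinite f I, hf⟩⟩,
    fun h => ⟨Groth.Agent.Lib.RelDiv.Cartier.isEffCartier_of_isFinLocFree f I h, h.2.1⟩⟩

end Groth.Agent.S1184
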