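import Groth.Statements.S1188
import Groth.Agent.H80.Galois

set_option autoImplicit false
universe u v w
open CategoryTheory PreGaloisCategory
open Pi1

namespace Groth.Agent.S1188

/-- Let H : C ⥤ C' be an exact functor between Galois categories and F' a fibre functor on C' such that
F' ∘ H is a fibre functor on C; write h : π_1(C', F') → π_1(C, F' ∘ H) for the induced homomorphism
of fundamental groups. Then h is injective if and only if for every connected object X' of C' there
are an object X of C, an object Y' of C', an epimorphism Y' ⟶ X' and a monomorphism Y' ⟶ H(X). -/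
theorem result {C C' : Type u} [Category.{v} C] [Category.{v} C'] [GaloisCategory C] [GaloisCategory C']
    (H : C ⥤ C') [Limits.PreservesFiniteLimits H] [Limits.PreservesFiniteColimits H]
    (F' : C' ⥤ FintypeCat.{w}) [FiberFunctor F'] [FiberFunctor (H ⋙ F')] :
    Function.Injective (Pi1X.autWhisker H F') ↔
      ∀ X' : C', IsConnected X' → ∃ (X : C) (Y' : C') (p : Y' ⟶ X') (q : Y' ⟶ H.obj X), Epi p ∧ Mono q := by
  open Groth.Agent.H80 in
  constructor
  · intro hinj X' _
    obtain ⟨a'⟩ := nonempty_fiber_of_isConnected F' X'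
    have hk : (Pi1X.autWhisker H F').ker = ⊥ := (MonoidHom.ker_eq_bot_iff _).mpr hinj
    obtain ⟨X, Y', i, q, hi, hY⟩ :=
      (Galois.ker_le_stabilizer_iff H F' X' a').mp (hk ▸ bot_le)
    exact ⟨X, Y', q, i, epi_of_nonempty_of_isConnected F' q, hi⟩
  · intro h
    rw [injective_iff_map_eq_one]
    intro σ hσ
    refine Galois.fixed_of_forall_connected F' σ fun X' hX' x => ?_
    obtain ⟨X, Y', p, q, hp, hq⟩ := h X' hX'
    obtain ⟨y, rfl⟩ := surjective_on_fiber_of_epi F' p x
    rw [← Galois.map_smul]
    congr 1
    apply ConcreteCategory.injective_of_mono_of_preservesPullback (F'.map q)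
    rw [Galois.map_smul]
    change (Pi1X.autWhisker H F' σ) • (show (H ⋙ F').obj X from F'.map q y) = _
    rw [hσ]
    exact one_smul (Aut (H ⋙ F')) _

end Groth.Agent.S1188
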