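import Groth.Statements.S1190
import Groth.Agent.H80.Galois
import Groth.Agent.S1187
import Groth.Agent.S1189
import Groth.Agent.H80.Galois2

set_option autoImplicit false
universe u v w
open CategoryTheory PreGaloisCategory
open Pi1

namespace Groth.Agent.S1190

/-- Let H : C ⥤ C' and H' : C' ⥤ C'' be exact functors between Galois categories, F'' a fibre functor on
C'' with F'' ∘ H' and F'' ∘ H' ∘ H fibre functors, and h', h the induced homomorphisms of
fundamental groups. Then: h is surjective, h ∘ h' is trivial and the kernel of h is the closed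
normal subgroup generated by the image of h', if and only if H is fully faithful and its essential
image consists exactly of those X' in C' for which H'(X') is a finite coproduct of copies of the
final object. -/
theorem result {C C' C'' : Type u} [Category.{v} C] [Category.{v} C'] [Category.{v} C'']
    [GaloisCategory C] [GaloisCategory C'] [GaloisCategory C'']
    (H : C ⥤ C') [Limits.PreservesFiniteLimits H] [Limits.PreservesFiniteColimits H]
    (H' : C' ⥤ C'') [Limits.PreservesFiniteLimits H'] [Limits.PreservesFiniteColimits H']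
    (F'' : C'' ⥤ FintypeCat.{w}) [FiberFunctor F''] [FiberFunctor (H' ⋙ F'')] [FiberFunctor (H ⋙ (H' ⋙ F''))] :
    (Function.Surjective (Pi1X.autWhisker H (H' ⋙ F'')) ∧
      (∀ σ : Aut F'', Pi1X.autWhisker H (H' ⋙ F'') (Pi1X.autWhisker H' F'' σ) = 1) ∧
      (Pi1X.autWhisker H (H' ⋙ F'')).ker = (Subgroup.normalClosure (Set.range (Pi1X.autWhisker H' F''))).topologicalClosure) ↔
    ((H.Full ∧ H.Faithful) ∧
      ∀ X' : C', (∃ X : C, Nonempty (H.obj X ≅ X')) ↔ ∃ n : ℕ, Nonempty (H'.obj X' ≅ ∐ fun _ : Fin n => ⊤_ C'')) := by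
  open Groth.Agent.H80 in
  constructor
  · rintro ⟨hs, htriv, hker⟩
    obtain ⟨hfull, hfaith⟩ := (Groth.Agent.S1187.result H (H' ⋙ F'')).mp hs
    refine ⟨⟨hfull, hfaith⟩, fun X' => ⟨?_, ?_⟩⟩
    · rintro ⟨X, ⟨e⟩⟩
      obtain ⟨n, ⟨i⟩⟩ := (Groth.Agent.S1189.result H H' F'').mp htriv X
      exact ⟨n, ⟨(H'.mapIso e).symm ≪≫ i⟩⟩
    · intro h
      have hfix := (Galois.trivial_action_iff_iso_sigma_terminal F'' (H'.obj X')).mpr h
      let W := (H' ⋙ F'').obj X'
      let K : Subgroup (Aut (H' ⋙ F'')) := (MulAction.toPermHom (Aut (H' ⋙ F'')) W).ker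
      have hKeq : (K : Set (Aut (H' ⋙ F''))) =
          ⋂ x : W, (MulAction.stabilizer (Aut (H' ⋙ F'')) x : Set (Aut (H' ⋙ F''))) := by
        ext g
        simp [K, W, Equiv.ext_iff]
      have hKopen : IsOpen (K : Set (Aut (H' ⋙ F''))) := by
        rw [hKeq]
        exact isOpen_iInter_of_finite fun x => stabilizer_isOpen _ x
      have hKcl : IsClosed (K : Set (Aut (H' ⋙ F''))) := Subgroup.isClosed_of_isOpen _ hKopen
      have hle : (Pi1X.autWhisker H (H' ⋙ F'')).ker ≤ K := by
        rw [hker]
        refine Subgroup.topologicalClosure_minimal _ (Subgroup.normalClosure_le_normal ?_) hKcl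
        rintro _ ⟨σ, rfl⟩
        exact Equiv.ext fun x => hfix σ x
      choose sec hsec using hs
      have key : ∀ τ : Aut (H' ⋙ F''), ∀ x : W,
          sec (Pi1X.autWhisker H (H' ⋙ F'') τ) • x = τ • x := by
        intro τ x
        have hm : τ⁻¹ * sec (Pi1X.autWhisker H (H' ⋙ F'') τ) ∈ K := hle (by
          rw [MonoidHom.mem_ker, map_mul, map_inv, hsec, inv_mul_cancel])
        have : (τ⁻¹ * sec (Pi1X.autWhisker H (H' ⋙ F'') τ)) • x = x := Equiv.congr_fun hm x
        rwa [mul_smul, inv_smul_eq_iff] at this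
      letI act : MulAction (Aut (H ⋙ H' ⋙ F'')) W :=
        { smul := fun g x => sec g • x
          one_smul := fun x => by
            change sec 1 • x = x
            have := key 1 x
            rw [map_one] at this
            rw [this, one_smul]
          mul_smul := fun g₁ g₂ x => by
            change sec (g₁ * g₂) • x = sec g₁ • sec g₂ • x
            have := key (sec g₁ * sec g₂) x
            rw [map_mul, hsec, hsec] at this
            rw [this, mul_smul] }
      let Y : Action FintypeCat.{w} (Aut (H ⋙ H' ⋙ F'')) :=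
        Action.FintypeCat.ofMulAction _ W
      let : TopologicalSpace Y.V := ⊥
      have : DiscreteTopology Y.V := ⟨rfl⟩
      have hquot : Topology.IsQuotientMap (Pi1X.autWhisker H (H' ⋙ F'')) :=
        (Galois.continuous_autWhisker H (H' ⋙ F'')).isClosedMap.isQuotientMap
          (Galois.continuous_autWhisker H (H' ⋙ F'')) fun g => ⟨sec g, hsec g⟩
      have hY : ∀ x : W, IsOpen {g : Aut (H ⋙ H' ⋙ F'') | sec g • x = x} := fun x => by
        rw [← hquot.isOpen_preimage]
        convert stabilizer_isOpen (Aut (H' ⋙ F'')) x using 1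
        ext τ
        change sec _ • x = x ↔ τ • x = x
        rw [key]
      obtain ⟨X, f, hf⟩ : ∃ (X : C) (f : (H ⋙ H' ⋙ F'').obj X ≃ W),
          ∀ (g : Aut (H ⋙ H' ⋙ F'')) x, f (g • x) = sec g • f x := Galois.exists_realization
        (H ⋙ H' ⋙ F'') W hY
      refine ⟨X, Galois.exists_iso_of_equivariant (H' ⋙ F'')
        (fun x : (H' ⋙ F'').obj (H.obj X) => (show W from f x)) f.bijective fun τ x => ?_⟩
      have := hf (Pi1X.autWhisker H (H' ⋙ F'') τ) x
      rw [key] at this
      exact this
  · rintro ⟨⟨hfull, hfaith⟩, himg⟩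
    have hs : Function.Surjective (Pi1X.autWhisker H (H' ⋙ F'')) :=
      (Groth.Agent.S1187.result H (H' ⋙ F'')).mpr ⟨hfull, hfaith⟩
    have htriv := (Groth.Agent.S1189.result H H' F'').mpr fun X =>
      (himg (H.obj X)).mp ⟨X, ⟨Iso.refl _⟩⟩
    refine ⟨hs, htriv, le_antisymm ?_ ?_⟩
    · refine Groth.Agent.H80.Profinite.le_of_forall_open
        (Subgroup.isClosed_topologicalClosure _) fun U hU => ?_
      obtain ⟨X', a', hX', hst⟩ := Galois.exists_connected_stabilizer (H' ⋙ F'') U
      have hfix : ∀ (σ : Aut F'') (x : F''.obj (H'.obj X')), σ • x = x := by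
        intro σ x
        obtain ⟨g, hg⟩ := MulAction.exists_smul_eq (Aut (H' ⋙ F'')) a'
          (show (H' ⋙ F'').obj X' from x)
        have h1 : Pi1X.autWhisker H' F'' σ ∈
            Subgroup.normalClosure (Set.range (Pi1X.autWhisker H' F'')) :=
          Subgroup.subset_normalClosure ⟨σ, rfl⟩
        have hm := (hst ▸ hU) (Subgroup.le_topologicalClosure _
          ((Subgroup.normalClosure_normal).conj_mem _ h1 g⁻¹))
        rw [MulAction.mem_stabilizer_iff, inv_inv, mul_smul, mul_smul, inv_smul_eq_iff, hg] at hm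
        exact hm
      obtain ⟨X, ⟨e⟩⟩ := (himg X').mpr
        ((Galois.trivial_action_iff_iso_sigma_terminal F'' (H'.obj X')).mp hfix)
      rw [← hst]
      intro τ hτ
      rw [MulAction.mem_stabilizer_iff]
      obtain ⟨z, rfl⟩ : ∃ z, (H' ⋙ F'').map e.hom z = a' :=
        ⟨(H' ⋙ F'').map e.inv a', by
          rw [← FintypeCat.comp_apply, ← CategoryTheory.Functor.map_comp, e.inv_hom_id, CategoryTheory.Functor.map_id,
            FintypeCat.id_apply]⟩
      rw [← Galois.map_smul]
      congr 1
      change (Pi1X.autWhisker H (H' ⋙ F'') τ) • (show (H ⋙ H' ⋙ F'').obj X from z) = _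
      rw [MonoidHom.mem_ker.mp hτ]
      exact one_smul (Aut (H ⋙ H' ⋙ F'')) _
    · refine Subgroup.topologicalClosure_minimal _ (Subgroup.normalClosure_le_normal ?_)
        (Galois.isClosed_ker_autWhisker H (H' ⋙ F''))
      rintro _ ⟨σ, rfl⟩
      exact htriv σ

end Groth.Agent.S1190
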