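import Groth.Statements.S1191
import Mathlib.RingTheory.Ideal.AssociatedPrime.Finiteness


set_option autoImplicit false
set_option backward.isDefEq.respectTransparency false
universe u
open FlatMor

namespace Groth.Agent.S1191

open TensorProduct in
/-- For a finitely presented algebra S over R, a finitely presented S-module N and a prime q of S over
p, some element of S outside q maps into every associated prime of the fibre module of N over p that
is not contained in the extension of q to the fibre ring. -/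
theorem result {R S : Type u} [CommRing R] [CommRing S] [Algebra R S] [Algebra.FinitePresentation R S]
    (N : Type u) [AddCommGroup N] [Module S N] [Module R N] [IsScalarTower R S N] [Module.FinitePresentation S N]
    (p : Ideal R) [p.IsPrime] (q : Ideal S) [q.IsPrime] [q.LiesOver p] :
    ∃ g : S, g ∉ q ∧ ∀ r ∈ associatedPrimes (p.Fiber S) (FlatCA.fiberMod p S N),
      ¬ r ≤ FlatCA.fiberIdeal p q → (1 : p.ResidueField) ⊗ₜ[R] g ∈ r := by
  classical
  letI := (Algebra.TensorProduct.includeRight (R := R) (A := p.ResidueField) (B := S)).toRingHom.toAlgebra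
  let F := p.Fiber S
  have : Algebra.FinitePresentation p.ResidueField F := inferInstanceAs
    (Algebra.FinitePresentation p.ResidueField (p.ResidueField ⊗[R] S))
  have : IsNoetherianRing F := Algebra.FiniteType.isNoetherianRing p.ResidueField F
  have : Module.Finite F (FlatCA.fiberMod p S N) :=
    inferInstanceAs (Module.Finite (p.Fiber S) ((p.Fiber S) ⊗[S] N))
  obtain ⟨T, hT⟩ : ∃ T : Finset (Ideal F), ∀ r, r ∈ T ↔
      r ∈ associatedPrimes F (FlatCA.fiberMod p S N) ∧ ¬ r ≤ FlatCA.fiberIdeal p q :=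
    ⟨((associatedPrimes.finite F (FlatCA.fiberMod p S N)).subset
      (fun r (h : r ∈ associatedPrimes F (FlatCA.fiberMod p S N) ∧ ¬ r ≤ FlatCA.fiberIdeal p q) => h.1)).toFinset,
      fun r => by rw [Set.Finite.mem_toFinset]; rfl⟩
  have hone : ∀ r ∈ T, ∃ g : S, g ∉ q ∧ (1 : p.ResidueField) ⊗ₜ[R] g ∈ r := by
    intro r hr
    obtain ⟨x, hxr, hxq⟩ := SetLike.not_le_iff_exists.mp ((hT r).mp hr).2
    obtain ⟨a, ha, ⟨g, hg⟩⟩ := Ideal.Fiber.exists_smul_eq_one_tmul p x
    refine ⟨g, fun hgq => hxq ?_, hg ▸ Submodule.smul_of_tower_mem r a hxr⟩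
    have h1 : a • x ∈ FlatCA.fiberIdeal p q := by
      rw [hg]
      exact Ideal.mem_map_of_mem _ hgq
    have hu : IsUnit (algebraMap R p.ResidueField a) := by
      rw [isUnit_iff_ne_zero, Ne, Ideal.algebraMap_residueField_eq_zero]
      exact ha
    have hu' : IsUnit (algebraMap R F a) := by
      rw [IsScalarTower.algebraMap_apply R p.ResidueField F]
      exact hu.map _
    rw [Algebra.smul_def] at h1
    exact (Ideal.unit_mul_mem_iff_mem _ hu').mp h1
  choose! g hg1 hg2 using hone
  refine ⟨∏ r ∈ T, g r, fun h => ?_, fun r hr hrq => ?_⟩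
  · obtain ⟨r, hr, h'⟩ := (Ideal.IsPrime.prod_mem_iff).mp h
    exact hg1 r hr h'
  · have hrT : r ∈ T := (hT r).mpr ⟨hr, hrq⟩
    rw [← Finset.mul_prod_erase T g hrT,
      show (1 : p.ResidueField) ⊗ₜ[R] (g r * ∏ x ∈ T.erase r, g x) =
        ((1 : p.ResidueField) ⊗ₜ[R] g r) * ((1 : p.ResidueField) ⊗ₜ[R] ∏ x ∈ T.erase r, g x) by
        rw [Algebra.TensorProduct.tmul_mul_tmul, one_mul]]
    exact Ideal.mul_mem_right _ _ (hg2 r hrT)

end Groth.Agent.S1191
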