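import Groth.Statements.S1193
import Mathlib.RingTheory.Ideal.AssociatedPrime.Finiteness

set_option autoImplicit false
set_option backward.isDefEq.respectTransparency false
universe u
open FlatMor

namespace Groth.Agent.S1193

open IsLocalRing in
/-- Let R be a local ring, S an R-algebra whose closed fibre ring is Noetherian and N an S-module whose
closed fibre module N/𝔪N is finite. Let Σ be the set of elements of S acting injectively on N/𝔪N.
Then a prime of S is disjoint from Σ exactly when it lies inside an associated prime of N/𝔪N (the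
primes of the localization at Σ), the localization of S at Σ has finitely many maximal ideals, and
an ideal of that localization is maximal exactly when it is prime and contracts to a maximal member
of the set of associated primes of N/𝔪N. -/
theorem result {R S : Type u} [CommRing R] [IsLocalRing R] [CommRing S] [Algebra R S]
    (N : Type u) [AddCommGroup N] [Module S N] [Module R N] [IsScalarTower R S N]
    [IsNoetherianRing ((maximalIdeal R).Fiber S)]
    [Module.Finite ((maximalIdeal R).Fiber S) (FlatCA.fiberMod (maximalIdeal R) S N)] :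
    (∀ (q : Ideal S) [q.IsPrime], Disjoint (q : Set S) (FlatCA.nzdFiber R S N) ↔
        ∃ q' ∈ associatedPrimes S (FlatCA.fiberMod (maximalIdeal R) S N), q ≤ q') ∧
    {Q : Ideal (Localization (FlatCA.nzdFiber R S N)) | Q.IsMaximal}.Finite ∧
    (∀ Q : Ideal (Localization (FlatCA.nzdFiber R S N)), Q.IsMaximal ↔ (Q.IsPrime ∧
        Maximal (fun r => r ∈ associatedPrimes S (FlatCA.fiberMod (maximalIdeal R) S N))
          (Q.comap (algebraMap S (Localization (FlatCA.nzdFiber R S N)))))) := by
  classical
  set k := (maximalIdeal R)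
  set F := k.Fiber S
  letI : Algebra S F :=
    (Algebra.TensorProduct.includeRight (R := R) (A := k.ResidueField) (B := S)).toRingHom.toAlgebra
  set M := FlatCA.fiberMod k S N
  let φ : S →+* F := algebraMap S F
  have hφ : Function.Surjective φ := by
    intro x
    induction x using TensorProduct.induction_on with
    | zero => exact ⟨0, map_zero _⟩
    | tmul a s =>
      obtain ⟨r, rfl⟩ := Ideal.algebraMap_residueField_surjective k a
      refine ⟨r • s, ?_⟩
      show (1 : k.ResidueField) ⊗ₜ[R] (r • s) = _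
      rw [← TensorProduct.smul_tmul, Algebra.smul_def, mul_one]
    | add a b ha hb =>
      obtain ⟨x, rfl⟩ := ha
      obtain ⟨y, rfl⟩ := hb
      exact ⟨x + y, map_add _ _ _⟩
  have hsmul : ∀ (s : S) (m : M), s • m = φ s • m := by
    intro s m
    induction m using TensorProduct.induction_on with
    | zero => exact (smul_zero s).trans (smul_zero _).symm
    | tmul a n => rfl
    | add a b ha hb => exact (smul_add s a b).trans ((congrArg₂ (· + ·) ha hb).trans (smul_add _ a b).symm)
  have hcolon : ∀ m : M, ((⊥ : Submodule F M).colon {m}).radical.comap φ =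
      ((⊥ : Submodule S M).colon {m}).radical := by
    intro m
    rw [Ideal.comap_radical]
    congr 1
  have hassoc : associatedPrimes S M = Ideal.comap φ '' associatedPrimes F M := by
    ext P
    constructor
    · rintro ⟨hP, m, rfl⟩
      refine ⟨((⊥ : Submodule F M).colon {m}).radical, ⟨?_, m, rfl⟩, hcolon m⟩
      rw [← Ideal.map_comap_of_surjective φ hφ (((⊥ : Submodule F M).colon {m}).radical), hcolon]
      refine Ideal.map_isPrime_of_surjective hφ ?_
      rw [← hcolon]
      exact Ideal.comap_mono bot_le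
    · rintro ⟨Q, ⟨hQ, m, rfl⟩, rfl⟩
      exact ⟨Ideal.IsPrime.comap φ, m, hcolon m⟩
  have hfin : (associatedPrimes S M).Finite := by
    rw [hassoc]; exact (associatedPrimes.finite F M).image _
  have hmem : ∀ s : S, s ∉ FlatCA.nzdFiber R S N ↔ ∃ P ∈ associatedPrimes S M, s ∈ P := by
    intro s
    have hz : φ s ∈ ⋃ P ∈ associatedPrimes F M, (P : Set F) ↔ ∃ m : M, m ≠ 0 ∧ φ s • m = 0 := by
      rw [biUnion_associatedPrimes_eq_zero_divisors]; rfl
    rw [mem_nonZeroSMulDivisors_iff, hassoc]
    simp only [Set.mem_iUnion, SetLike.mem_coe, exists_prop] at hz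
    constructor
    · intro h
      push Not at h
      obtain ⟨m, hm, hm0⟩ := h
      obtain ⟨P, hP, hsP⟩ := hz.mpr ⟨m, hm0, by rw [← hsmul]; exact hm⟩
      exact ⟨_, ⟨P, hP, rfl⟩, hsP⟩
    · rintro ⟨_, ⟨P, hP, rfl⟩, hsP⟩ h
      obtain ⟨m, hm0, hm⟩ := hz.mp ⟨P, hP, hsP⟩
      exact hm0 (h m (by rw [hsmul]; exact hm))
  have part1 : ∀ (q : Ideal S) [q.IsPrime], Disjoint (q : Set S) (FlatCA.nzdFiber R S N) ↔
      ∃ q' ∈ associatedPrimes S M, q ≤ q' := by
    intro q _
    constructor
    · intro h
      refine (q.subset_union_prime_finite hfin (f := id) 0 0 fun P hP _ _ => hP.isPrime).1 fun x hx => ?_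
      obtain ⟨P, hP, hxP⟩ := (hmem x).mp (Set.disjoint_left.mp h hx)
      exact Set.mem_biUnion hP hxP
    · rintro ⟨P, hP, hle⟩
      exact Set.disjoint_left.mpr fun x hx => (hmem x).mpr ⟨P, hP, hle hx⟩
  set T := Localization (FlatCA.nzdFiber R S N)
  let c : Ideal T → Ideal S := Ideal.comap (algebraMap S T)
  have hdisj : ∀ P ∈ associatedPrimes S M, Disjoint (FlatCA.nzdFiber R S N : Set S) (P : Set S) :=
    fun P hP => Set.disjoint_left.mpr fun x hx hxP => (hmem x).mpr ⟨P, hP, hxP⟩ hx
  have hmax : ∀ Q : Ideal T, Q.IsMaximal → ∃ P ∈ associatedPrimes S M, c Q = P := by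
    intro Q hQ
    have hQp := hQ.isPrime
    have hd := ((IsLocalization.isPrime_iff_isPrime_disjoint (FlatCA.nzdFiber R S N) T Q).mp hQp).2
    obtain ⟨P, hP, hle⟩ := (part1 (c Q)).mp hd.symm
    have hPp := IsLocalization.isPrime_of_isPrime_disjoint (FlatCA.nzdFiber R S N) T P hP.isPrime (hdisj P hP)
    have hc := IsLocalization.under_map_of_isPrime_disjoint (FlatCA.nzdFiber R S N) T hP.isPrime (hdisj P hP)
    refine ⟨P, hP, ?_⟩
    have : Q ≤ P.map (algebraMap S T) := by
      rw [← IsLocalization.map_comap (FlatCA.nzdFiber R S N) T Q]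
      exact Ideal.map_mono hle
    rw [hQ.eq_of_le hPp.ne_top this]
    exact hc
  refine ⟨part1, ?_, fun Q => ⟨fun hQ => ?_, fun ⟨hQp, hQm⟩ => ?_⟩⟩
  · refine Set.Finite.of_finite_image (f := c) (hfin.subset ?_) ?_
    · rintro _ ⟨Q, hQ, rfl⟩
      obtain ⟨P, hP, h⟩ := hmax Q hQ
      rw [h]; exact hP
    · intro Q _ Q' _ h
      rw [← IsLocalization.map_comap (FlatCA.nzdFiber R S N) T Q,
        ← IsLocalization.map_comap (FlatCA.nzdFiber R S N) T Q']
      exact congrArg (Ideal.map (algebraMap S T)) h
  · refine ⟨hQ.isPrime, ?_, fun P hP hle => ?_⟩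
    · obtain ⟨P, hP, h⟩ := hmax Q hQ
      exact (show c Q ∈ associatedPrimes S M from h ▸ hP)
    · have hPp := IsLocalization.isPrime_of_isPrime_disjoint (FlatCA.nzdFiber R S N) T P hP.isPrime (hdisj P hP)
      have hc := IsLocalization.under_map_of_isPrime_disjoint (FlatCA.nzdFiber R S N) T hP.isPrime (hdisj P hP)
      have : Q ≤ P.map (algebraMap S T) := by
        rw [← IsLocalization.map_comap (FlatCA.nzdFiber R S N) T Q]
        exact Ideal.map_mono hle
      rw [hQ.eq_of_le hPp.ne_top this]
      exact hc.ge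
  · obtain ⟨Q', hQ', hle⟩ := Ideal.exists_le_maximal Q hQp.ne_top
    obtain ⟨P, hP, h⟩ := hmax Q' hQ'
    have h2 : c Q ≤ P := h ▸ Ideal.comap_mono hle
    have : c Q' = c Q := h.trans (le_antisymm (hQm.2 hP h2) h2)
    have e : Q' = Q := by
      rw [← IsLocalization.map_comap (FlatCA.nzdFiber R S N) T Q,
        ← IsLocalization.map_comap (FlatCA.nzdFiber R S N) T Q']
      exact congrArg (Ideal.map (algebraMap S T)) this
    exact e ▸ hQ'

end Groth.Agent.S1193
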