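import Groth.Statements.S1194
import Groth.Agent.Lib.FlatCA.LocalModel
import Groth.Agent.Lib.FlatCA.NzdFiber

set_option autoImplicit false
universe u
open FlatMor

namespace Groth.Agent.S1194

open TensorProduct IsLocalRing Groth.Agent.Lib.FlatCA in
theorem injective_smul {R S : Type u} [CommRing R] [IsLocalRing R] [CommRing S] [IsLocalRing S] [Algebra R S]
    [IsLocalHom (algebraMap R S)] (hS : _root_.FlatCA.EssFinitePresentation R S)
    (N : Type u) [AddCommGroup N] [Module S N] [Module R N] [IsScalarTower R S N] [Module.FinitePresentation S N]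
    [Module.Flat R N] {s : S} (hs : s ∈ _root_.FlatCA.nzdFiber R S N) (Q : Type u) [AddCommGroup Q] [Module R Q] :
    Function.Injective (((LinearMap.lsmul S N s).restrictScalars R).rTensor Q) := by
  obtain ⟨T, _, _, _, _, hfp, M, hM, _, _, N₁, _, _, _, _, hN, hflat, l, hl⟩ :=
    LocalModel.exists_local_model (R := R) (S := S) (N := N) hS
  haveI : IsScalarTower R T N := IsScalarTower.of_algebraMap_smul fun r x => by
    rw [← algebraMap_smul S (algebraMap R T r) x, ← IsScalarTower.algebraMap_apply, algebraMap_smul]
  let q := (maximalIdeal S).comap (algebraMap T S)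
  haveI : q.LiesOver (maximalIdeal R) := ⟨by
    show _ = ((maximalIdeal S).comap (algebraMap T S)).comap (algebraMap R T)
    rw [Ideal.comap_comap, ← IsScalarTower.algebraMap_eq R T S]
    exact (maximalIdeal_comap (algebraMap R S)).symm⟩
  obtain ⟨⟨a, m⟩, ha⟩ := IsLocalization.surj M s
  have hMu : ∀ (Y : Type u) [AddCommGroup Y] [Module S Y] [Module T Y] [IsScalarTower T S Y] (c : M) (y : Y),
      (c : T) • y = 0 → y = 0 := fun Y _ _ _ _ c y hy => by
    rw [← algebraMap_smul S (c : T) y] at hy
    exact (IsLocalization.map_units S c).smul_eq_zero.1 hy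
  have hloc : ∀ (Q : Type u) [AddCommGroup Q] [Module R Q] (z : N₁ ⊗[R] Q),
      AlgebraTensorModule.rTensor R Q l z = 0 ↔ ∃ c : M, (c : T) • z = 0 := fun Q _ _ z => by
    haveI := IsLocalizedModule.rTensor M (R := R) (A := T) (N := Q) l
    exact IsLocalizedModule.eq_zero_iff M (AlgebraTensorModule.rTensor R Q l)
  have hfib : ∀ z : N₁ ⊗[R] (maximalIdeal R).ResidueField, a • z = 0 → ∃ w ∉ q, w • z = 0 := by
    intro z hz
    let y := AlgebraTensorModule.rTensor R (maximalIdeal R).ResidueField l z
    have hy : algebraMap T S a • y = 0 := by rw [algebraMap_smul, ← map_smul, hz, map_zero]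
    rw [← ha, mul_comm, mul_smul] at hy
    have h1 : s • y = 0 := (IsLocalization.map_units S m).smul_eq_zero.1 hy
    rw [FiberMod.smul_eq_rTensor] at h1
    have h2 : y = 0 := FiberMod.residue_injective_of_mem_nzdFiber S N hs (h1.trans (map_zero _).symm)
    obtain ⟨c, hc⟩ := (hloc _ z).1 h2
    exact ⟨c, fun hq => (maximalIdeal.isMaximal S).ne_top (Ideal.eq_top_of_isUnit_mem _ hq (IsLocalization.map_units S c)), hc⟩
  rw [injective_iff_map_eq_zero]
  intro x hx
  rw [← FiberMod.smul_eq_rTensor] at hx
  haveI := IsLocalizedModule.rTensor M (R := R) (A := T) (N := Q) l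
  let lQ := AlgebraTensorModule.rTensor R Q l
  obtain ⟨⟨z, c⟩, hzc⟩ := IsLocalizedModule.surj M lQ x
  have h1 : lQ (a • z) = 0 := by
    rw [map_smul, ← hzc, Submonoid.smul_def, ← algebraMap_smul S a, ← ha, mul_comm, mul_smul,
      smul_comm s (c : T), hx, smul_zero, smul_zero]
  obtain ⟨t, ht⟩ := (hloc _ _).1 h1
  rw [smul_comm] at ht
  obtain ⟨w, hw, hwz⟩ := NzdLimit.killed_of_fibre (maximalIdeal R) q a hfib Q _ ht
  have hwu : IsUnit (algebraMap T S w) := by
    by_contra h
    exact hw h
  have h2 := congrArg lQ hwz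
  rw [map_zero, map_smul, map_smul, ← hzc, ← algebraMap_smul S w] at h2
  exact hMu _ c x (hMu _ t _ (hwu.smul_eq_zero.1 h2))

open IsLocalRing in
/-- Let R → S be a local homomorphism of local rings which is essentially of finite presentation, and N
a finitely presented S-module flat over R. Then multiplication by any element of S acting
injectively on N/𝔪_R N is a universally injective map of R-modules on N, and the localization map
from N to its localization at all such elements is universally injective over R. -/
theorem result {R S : Type u} [CommRing R] [IsLocalRing R] [CommRing S] [IsLocalRing S] [Algebra R S]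
    [IsLocalHom (algebraMap R S)] (hS : FlatCA.EssFinitePresentation R S)
    (N : Type u) [AddCommGroup N] [Module S N] [Module R N] [IsScalarTower R S N] [Module.FinitePresentation S N] [Module.Flat R N] :
    (∀ s ∈ FlatCA.nzdFiber R S N, FlatCA.UnivInj R ((LinearMap.lsmul S N s).restrictScalars R)) ∧
    FlatCA.UnivInj R ((LocalizedModule.mkLinearMap (FlatCA.nzdFiber R S N) N).restrictScalars R) := by
  refine ⟨fun s hs Q _ _ => (LinearMap.lTensor_inj_iff_rTensor_inj _ _).2 (injective_smul hS N hs Q),
    fun Q _ _ => (LinearMap.lTensor_inj_iff_rTensor_inj _ _).2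
      (Lib.FlatCA.NzdFiber.rTensor_mk_injective _ Q fun s hs => injective_smul hS N hs Q)⟩

end Groth.Agent.S1194
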