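import Groth.Statements.S1195
import Groth.Agent.Lib.FlatCA.WeakAss

set_option autoImplicit false
universe u
open FlatMor

namespace Groth.Agent.S1195

open TensorProduct in
/-- Let S be a finitely presented R-algebra, N a finitely presented S-module flat over R, and S' a flat
S-algebra such that every prime q of S (over p in R) whose extension to the fibre ring over p is an
associated prime of the fibre module of N is the contraction of a prime of S'. Then the base change
map N → S' ⊗_S N is universally injective as a map of R-modules. -/
theorem result {R S S' : Type u} [CommRing R] [CommRing S] [CommRing S'] [Algebra R S] [Algebra S S'] [Algebra R S'] [IsScalarTower R S S']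
    [Algebra.FinitePresentation R S] [Module.Flat S S']
    (N : Type u) [AddCommGroup N] [Module S N] [Module R N] [IsScalarTower R S N] [Module.FinitePresentation S N] [Module.Flat R N]
    (h : ∀ (p : Ideal R) (q : Ideal S) [p.IsPrime] [q.IsPrime] [q.LiesOver p],
      FlatCA.fiberIdeal p q ∈ associatedPrimes (p.Fiber S) (FlatCA.fiberMod p S N) →
      ∃ q' : Ideal S', q'.IsPrime ∧ q'.comap (algebraMap S S') = q) :
    FlatCA.UnivInj R ((TensorProduct.mk S S' N 1).restrictScalars R) := by
  intro Q _ _
  refine (LinearMap.lTensor_inj_iff_rTensor_inj _ _).2 ((injective_iff_map_eq_zero _).2 fun x hx => ?_)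
  by_contra hx0
  let e := TensorProduct.AlgebraTensorModule.assoc R S S S' N Q
  have he : ∀ y, e (((TensorProduct.mk S S' N 1).restrictScalars R).rTensor Q y) = (1 : S') ⊗ₜ[S] y := fun y => by
    induction y using TensorProduct.induction_on with
    | zero => simp
    | add a b ha hb => simp only [map_add, ha, hb, TensorProduct.tmul_add]
    | tmul a b => rfl
  have h1 : (1 : S') ⊗ₜ[S] x = 0 := by rw [← he, hx, map_zero]
  have hne : (Submodule.span S {x}).annihilator ≠ ⊤ := fun htop => hx0 (by
    have h2 : (1 : S) ∈ (Submodule.span S {x}).annihilator := htop ▸ Submodule.mem_top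
    rw [Submodule.mem_annihilator_span_singleton, one_smul] at h2
    exact h2)
  obtain ⟨m, hm, hle⟩ := Ideal.exists_le_maximal _ hne
  obtain ⟨q, hq, -⟩ := Ideal.exists_minimalPrimes_le hle
  haveI := hq.1.1
  let p := q.comap (algebraMap R S)
  haveI : q.LiesOver p := ⟨rfl⟩
  obtain ⟨q', _, hq'c⟩ := h p q (Lib.FlatCA.WeakAss.mem_fibre_of_minimal Q p q x hq)
  obtain ⟨w, hw, hwx⟩ := Lib.FlatCA.WeakAss.exists_kill_of_flat x h1 q q' hq'c
  exact hw (hq.1.2 ((Submodule.mem_annihilator_span_singleton _ _).2 hwx))

end Groth.Agent.S1195
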