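import Groth.Statements.S1196
import Groth.Agent.S1194
import Groth.Agent.Lib.FlatCA.WeakAss
import Groth.Agent.S1193
import Mathlib.RingTheory.EssentialFiniteness

set_option autoImplicit false
universe u
open FlatMor

namespace Groth.Agent.S1196

attribute [local instance] Algebra.TensorProduct.rightAlgebra

open TensorProduct IsLocalRing in
/-- Let R → S be a local homomorphism of local rings, essentially of finite presentation, N a finitely
presented S-module flat over R, and S' a flat S-algebra such that every prime of S which is an
associated prime of N/𝔪_R N is the contraction of a prime of S'. Then N → S' ⊗_S N is universally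
injective as a map of R-modules. -/
theorem result {R S S' : Type u} [CommRing R] [IsLocalRing R] [CommRing S] [IsLocalRing S] [CommRing S'] [Algebra R S] [IsLocalHom (algebraMap R S)] [Algebra S S'] [Algebra R S'] [IsScalarTower R S S']
    (hS : FlatCA.EssFinitePresentation R S) [Module.Flat S S']
    (N : Type u) [AddCommGroup N] [Module S N] [Module R N] [IsScalarTower R S N] [Module.FinitePresentation S N] [Module.Flat R N]
    (h : ∀ q ∈ associatedPrimes S (FlatCA.fiberMod (maximalIdeal R) S N),
      ∃ q' : Ideal S', q'.IsPrime ∧ q'.comap (algebraMap S S') = q) :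
    FlatCA.UnivInj R ((TensorProduct.mk S S' N 1).restrictScalars R) := by
  intro Q _ _
  refine (LinearMap.lTensor_inj_iff_rTensor_inj _ _).2 ((injective_iff_map_eq_zero _).2 fun x hx => ?_)
  let e := TensorProduct.AlgebraTensorModule.assoc R S S S' N Q
  have he : ∀ y, e (((TensorProduct.mk S S' N 1).restrictScalars R).rTensor Q y) = (1 : S') ⊗ₜ[S] y := fun y => by
    induction y using TensorProduct.induction_on with
    | zero => simp
    | add a b ha hb => simp only [map_add, ha, hb, TensorProduct.tmul_add]
    | tmul a b => rfl
  have h1 : (1 : S') ⊗ₜ[S] x = 0 := by rw [← he, hx, map_zero]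
  obtain ⟨S₀, _, _, _, _, M, hfp, hM⟩ := hS
  haveI := hfp
  haveI := hM
  let p := maximalIdeal R
  haveI : IsNoetherianRing (p.Fiber S) := by
    haveI : Algebra.EssFiniteType R S := by
      haveI : Algebra.EssFiniteType S₀ S := Algebra.EssFiniteType.of_isLocalization S M
      exact Algebra.EssFiniteType.comp R S₀ S
    exact Algebra.EssFiniteType.isNoetherianRing p.ResidueField _
  haveI : Module.Finite (p.Fiber S) (FlatCA.fiberMod p S N) := Module.Finite.base_change S (p.Fiber S) N
  obtain ⟨hcl, -, -⟩ := S1193.result (R := R) (S := S) N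
  let a := (Submodule.span S {x}).annihilator
  by_contra hx0
  have hdis : Disjoint (a : Set S) (FlatCA.nzdFiber R S N) := by
    rw [Set.disjoint_left]
    intro c hc hc'
    refine hx0 (S1194.injective_smul ⟨S₀, inferInstance, inferInstance, inferInstance, inferInstance, M, hfp, hM⟩ N hc' Q ?_)
    rw [map_zero, ← Lib.FlatCA.FiberMod.smul_eq_rTensor]
    exact (Submodule.mem_annihilator_span_singleton _ _).1 hc
  obtain ⟨q, hq, hle, hd⟩ := Ideal.exists_le_prime_disjoint a (FlatCA.nzdFiber R S N) hdis
  obtain ⟨r, hr, hqr⟩ := (hcl q).1 hd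
  obtain ⟨q', _, hq'c⟩ := h r hr
  obtain ⟨w, hw, hwx⟩ := Lib.FlatCA.WeakAss.exists_kill_of_flat x h1 r q' hq'c
  exact hw (hqr (hle ((Submodule.mem_annihilator_span_singleton _ _).2 hwx)))

end Groth.Agent.S1196
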