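import Groth.Statements.S1199
import Groth.Agent.Lib.FlatCA.Impurity
import Groth.Agent.Lib.Pure.UI
import Mathlib.RingTheory.Filtration

set_option autoImplicit false
universe u
open FlatMor

namespace Groth.Agent.S1199

open TensorProduct in
/-- Let R → S be a map of Noetherian rings, I an ideal of R and N a finite S-module. Assume that for
every finite R-module Q and every associated prime q of the S-module N ⊗_R Q the ideal IS + q is
proper. Then the canonical map from N to its I-adic completion is universally injective as a map of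
R-modules. -/
theorem result {R S : Type u} [CommRing R] [CommRing S] [Algebra R S] [IsNoetherianRing R] [IsNoetherianRing S] (I : Ideal R)
    (N : Type u) [AddCommGroup N] [Module S N] [Module R N] [IsScalarTower R S N] [Module.Finite S N]
    (h : ∀ (Q : Type u) [AddCommGroup Q] [Module R Q], Module.Finite R Q →
      ∀ q ∈ associatedPrimes S (N ⊗[R] Q), I.map (algebraMap R S) ⊔ q ≠ ⊤) :
    FlatCA.UnivInj R (AdicCompletion.of I N) := by
  intro Q _ _
  refine (LinearMap.lTensor_inj_iff_rTensor_inj _ _).2 (Lib.Pure.UI.of_fp _ (fun Q _ _ hQ => ?_) Q)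
  haveI := hQ
  rw [injective_iff_map_eq_zero]
  intro x hx
  by_contra hx0
  let J := I.map (algebraMap R S)
  have hmem : x ∈ ⨅ n : ℕ, J ^ n • (⊤ : Submodule S (N ⊗[R] Q)) := by
    rw [Submodule.mem_iInf]
    intro n
    have h1 : (Submodule.mkQ (I ^ n • ⊤ : Submodule R N)).rTensor Q x = 0 := by
      rw [← AdicCompletion.eval_comp_of, LinearMap.rTensor_comp_apply, hx, map_zero]
    obtain ⟨w, rfl⟩ := (rTensor_exact (M := (I ^ n • ⊤ : Submodule R N)) Q
      (LinearMap.exact_subtype_mkQ _) (Submodule.mkQ_surjective _) x).1 h1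
    clear hx hx0 h1
    induction w using TensorProduct.induction_on with
    | zero => rw [map_zero]; exact zero_mem _
    | add a b ha hb => rw [map_add]; exact add_mem ha hb
    | tmul a q =>
      obtain ⟨a, ha⟩ := a
      show a ⊗ₜ[R] q ∈ _
      refine Submodule.smul_induction_on ha (fun r hr m _ => ?_) (fun u v hu hv => ?_)
      · rw [← TensorProduct.smul_tmul', ← algebraMap_smul S r (m ⊗ₜ[R] q)]
        refine Submodule.smul_mem_smul ?_ trivial
        rw [← Ideal.map_pow]
        exact Ideal.mem_map_of_mem _ hr
      · rw [TensorProduct.add_tmul]; exact add_mem hu hv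
  haveI : Module.Finite S (N ⊗[R] Q) := by
    obtain ⟨sN, hN⟩ := (inferInstance : Module.Finite S N).fg_top
    obtain ⟨sQ, hQ'⟩ := (inferInstance : Module.Finite R Q).fg_top
    classical
    refine ⟨⟨(sN ×ˢ sQ).image fun p => p.1 ⊗ₜ[R] p.2, eq_top_iff.2 fun z hz => ?_⟩⟩
    clear hz
    induction z using TensorProduct.induction_on with
    | zero => exact zero_mem _
    | add a b ha hb => exact add_mem ha hb
    | tmul a b =>
      have key : ∀ c ∈ (sQ : Set Q), a ⊗ₜ[R] c ∈ Submodule.span S (((sN ×ˢ sQ).image fun p => p.1 ⊗ₜ[R] p.2 : Finset _) : Set (N ⊗[R] Q)) := by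
        intro c hc
        have ha : a ∈ Submodule.span S (sN : Set N) := hN ▸ trivial
        induction ha using Submodule.span_induction with
        | mem y hy => exact Submodule.subset_span (Finset.mem_image.2 ⟨(y, c), Finset.mk_mem_product hy hc, rfl⟩)
        | zero => rw [TensorProduct.zero_tmul]; exact zero_mem _
        | add y z _ _ hy hz => rw [TensorProduct.add_tmul]; exact add_mem hy hz
        | smul t y _ hy => rw [← TensorProduct.smul_tmul']; exact Submodule.smul_mem _ _ hy
      have hb : b ∈ Submodule.span R (sQ : Set Q) := hQ' ▸ trivial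
      induction hb using Submodule.span_induction with
      | mem y hy => exact key y hy
      | zero => rw [TensorProduct.tmul_zero]; exact zero_mem _
      | add y z _ _ hy hz => rw [TensorProduct.tmul_add]; exact add_mem hy hz
      | smul t y _ hy => rw [TensorProduct.tmul_smul, ← algebraMap_smul S t]; exact Submodule.smul_mem _ _ hy
  obtain ⟨⟨r, hr⟩, hrx⟩ := (J.mem_iInf_smul_pow_eq_bot_iff x).1 hmem
  obtain ⟨q, hq, hle⟩ := exists_le_isAssociatedPrime_of_isNoetherianRing S x hx0
  refine h Q inferInstance q hq ((Ideal.eq_top_iff_one _).2 ?_)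
  have h1 : (1 - r : S) ∈ q := hle (by
    rw [Submodule.mem_colon_singleton, Submodule.mem_bot, sub_smul, one_smul]
    exact sub_eq_zero.2 hrx.symm)
  rw [show (1 : S) = r + (1 - r) by ring]
  exact Submodule.add_mem_sup hr h1

end Groth.Agent.S1199
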