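import Groth.Statements.S1200
import Groth.Agent.S1199
import Groth.Agent.S2069
import Groth.Agent.Lib.FlatCA.Impurity

set_option autoImplicit false
universe u
open FlatMor

namespace Groth.Agent.S1200

attribute [local instance] Algebra.TensorProduct.rightAlgebra

open TensorProduct Groth.Agent.Lib.FlatCA

/-- Every element of a fibre ring becomes integral after a scalar outside the prime. -/
theorem exists_smul_eq_incl {R S : Type u} [CommRing R] [CommRing S] [Algebra R S] (p : Ideal R) [p.IsPrime]
    (c : p.Fiber S) : ∃ s : R, s ∉ p ∧ ∃ b : S, algebraMap R (p.Fiber S) s * c = Impurity.incl p b := by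
  induction c using TensorProduct.induction_on with
  | zero => exact ⟨1, p.primeCompl.one_mem, 0, by rw [mul_zero, map_zero]⟩
  | tmul k b =>
    obtain ⟨a, s, hs, rfl⟩ := IsFractionRing.div_surjective (A := R ⧸ p) k
    obtain ⟨a, rfl⟩ := Ideal.Quotient.mk_surjective a
    obtain ⟨s, rfl⟩ := Ideal.Quotient.mk_surjective s
    have hs' : s ∉ p := fun h =>
      nonZeroDivisors.ne_zero hs (Ideal.Quotient.eq_zero_iff_mem.2 h)
    refine ⟨s, hs', a • b, ?_⟩
    show _ = (1 : p.ResidueField) ⊗ₜ[R] (a • b)
    rw [Algebra.TensorProduct.algebraMap_apply, Algebra.TensorProduct.tmul_mul_tmul, one_mul,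
      ← TensorProduct.smul_tmul, Algebra.smul_def a (1 : p.ResidueField), mul_one]
    congr 1
    rw [← Ideal.Quotient.algebraMap_eq, ← IsScalarTower.algebraMap_apply, ← IsScalarTower.algebraMap_apply]
    rw [mul_div_assoc', mul_div_cancel_left₀ _ fun h => hs' (Ideal.algebraMap_residueField_eq_zero.1 h)]
  | add x y hx hy =>
    obtain ⟨s, hs, b, hb⟩ := hx
    obtain ⟨t, ht, d, hd⟩ := hy
    refine ⟨s * t, p.primeCompl.mul_mem hs ht, t • b + s • d, ?_⟩
    have hl : ∀ (r : R) (z : S), Impurity.incl p (r • z) = algebraMap R (p.Fiber S) r * Impurity.incl p z := fun r z => by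
      rw [← Algebra.smul_def]
      exact map_smul (Algebra.TensorProduct.includeRight (R := R) (A := p.ResidueField) (B := S)) r z
    rw [map_add, hl, hl, map_mul, ← hb, ← hd]
    ring

/-- Associated primes of `N / p N` give associated points of the fibre. -/
theorem mem_fibre {R S : Type u} [CommRing R] [CommRing S] [IsNoetherianRing S] [Algebra R S] (N : Type u)
    [AddCommGroup N] [Module S N] [Module R N] [IsScalarTower R S N] [Module.Flat R N] (p : Ideal R) [p.IsPrime]
    {q : Ideal S} (hq : q ∈ associatedPrimes S (N ⧸ p.map (algebraMap R S) • (⊤ : Submodule S N))) :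
    q.IsPrime ∧ q.LiesOver p ∧
      _root_.FlatCA.fiberIdeal p q ∈ associatedPrimes (p.Fiber S) (_root_.FlatCA.fiberMod p S N) := by
  obtain ⟨hqp, x, hx⟩ := isAssociatedPrime_iff.1 hq
  obtain ⟨n, rfl⟩ := Submodule.Quotient.mk_surjective _ x
  let e := FiberMod.fiberModEquiv p S N
  let x₁ : _root_.FlatCA.fiberMod p S N := e.symm (n ⊗ₜ[R] (1 : p.ResidueField))
  have hkey : ∀ b : S, b ∈ q ↔ b • x₁ = 0 := by
    intro b
    rw [hx, Submodule.mem_colon_singleton, Submodule.mem_bot, ← Submodule.Quotient.mk_smul,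
      Submodule.Quotient.mk_eq_zero]
    have h1 : b • x₁ = 0 ↔ (b • n) ⊗ₜ[R] (1 : p.ResidueField) = 0 := by
      rw [← e.map_eq_zero_iff, map_smul, e.apply_symm_apply, TensorProduct.smul_tmul']
    rw [h1]
    let ι : (R ⧸ p) →ₗ[R] p.ResidueField := (IsScalarTower.toAlgHom R (R ⧸ p) p.ResidueField).toLinearMap
    have hι : Function.Injective ι := Ideal.injective_algebraMap_quotient_residueField p
    have hι' := Module.Flat.lTensor_preserves_injective_linearMap (M := N) ι hι
    have h2 : (b • n) ⊗ₜ[R] (1 : p.ResidueField) = ι.lTensor N ((b • n) ⊗ₜ[R] (1 : R ⧸ p)) := by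
      rw [LinearMap.lTensor_tmul]
      congr 1
      exact (map_one (algebraMap (R ⧸ p) p.ResidueField)).symm
    rw [h2, map_eq_zero_iff _ hι', ← (TensorProduct.tensorQuotEquivQuotSMul N p).map_eq_zero_iff]
    rw [show (1 : R ⧸ p) = Ideal.Quotient.mk p 1 from rfl, TensorProduct.tensorQuotEquivQuotSMul_tmul_mk,
      one_smul, Submodule.Quotient.mk_eq_zero, ← Submodule.restrictScalars_mem R,
      Ideal.smul_restrictScalars, Submodule.restrictScalars_top]
  have hs0 : ∀ s : R, s ∉ p → IsUnit (algebraMap R (p.Fiber S) s) := fun s hs => by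
    rw [Algebra.TensorProduct.algebraMap_apply]
    exact (isUnit_iff_ne_zero.2 fun h0 => hs (Ideal.algebraMap_residueField_eq_zero.1 h0)).map
      (Algebra.TensorProduct.includeLeftRingHom (R := R) (A := p.ResidueField) (B := S))
  have hcol : ∀ c : p.Fiber S, c • x₁ = 0 ↔ c ∈ q.map (Impurity.incl p) := by
    intro c
    constructor
    · intro hc
      obtain ⟨s, hs, b, hb⟩ := exists_smul_eq_incl p c
      have hb0 : b ∈ q := (hkey b).2 (by rw [← Impurity.incl_smul, ← hb, mul_smul, hc, smul_zero])
      exact (Ideal.unit_mul_mem_iff_mem _ (hs0 s hs)).1 (hb ▸ Ideal.mem_map_of_mem _ hb0)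
    · intro hc
      induction hc using Submodule.span_induction with
      | mem y hy =>
        obtain ⟨b, hb, rfl⟩ := hy
        rw [Impurity.incl_smul]
        exact (hkey b).1 hb
      | zero => exact zero_smul _ _
      | add y z _ _ hy hz => rw [add_smul, hy, hz, add_zero]
      | smul t y _ hy => rw [smul_eq_mul, mul_smul, hy, smul_zero]
  have hmem : ∀ b : S, b ∈ q ↔ Impurity.incl p b ∈ q.map (Impurity.incl p) := fun b => by
    rw [hkey, ← Impurity.incl_smul, hcol]
  have hprime : (q.map (Impurity.incl p)).IsPrime := by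
    refine ⟨fun h => hqp.ne_top ((Ideal.eq_top_iff_one _).2 ((hmem 1).2 (h ▸ trivial))), fun {c d} hcd => ?_⟩
    obtain ⟨s, hs, b, hb⟩ := exists_smul_eq_incl p c
    obtain ⟨t, ht, b', hb'⟩ := exists_smul_eq_incl p d
    have : b * b' ∈ q := (hmem _).2 (by
      rw [map_mul, ← hb, ← hb', mul_mul_mul_comm]
      exact Ideal.mul_mem_left _ _ hcd)
    rcases hqp.mem_or_mem this with h | h
    · exact Or.inl ((Ideal.unit_mul_mem_iff_mem _ (hs0 s hs)).1 (hb ▸ (hmem b).1 h))
    · exact Or.inr ((Ideal.unit_mul_mem_iff_mem _ (hs0 t ht)).1 (hb' ▸ (hmem b').1 h))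
  have hincl : ∀ a : R, Impurity.incl p (algebraMap R S a) = algebraMap R (p.Fiber S) a :=
    (Algebra.TensorProduct.includeRight (R := R) (A := p.ResidueField) (B := S)).commutes
  refine ⟨hqp, ⟨le_antisymm (fun a ha => ?_) fun a ha => ?_⟩, hprime, x₁, ?_⟩
  · rw [Ideal.mem_comap, hmem, hincl, Algebra.TensorProduct.algebraMap_apply,
      Ideal.algebraMap_residueField_eq_zero.2 ha, TensorProduct.zero_tmul]
    exact zero_mem _
  · by_contra hn
    refine hprime.ne_top (Ideal.eq_top_of_isUnit_mem _ ?_ (hs0 a hn))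
    rw [← hincl]
    exact (hmem _).1 ha
  · refine hprime.radical.symm.trans (congrArg Ideal.radical (Ideal.ext fun c => ?_))
    rw [Submodule.mem_colon_singleton, Submodule.mem_bot, hcol]

/-- Let R → S be a map of Noetherian rings, I an ideal of R and N a finite S-module which is flat over
R. Assume that for every prime q of S, over p in R, whose extension to the fibre ring over p is an
associated prime of the fibre module of N, the ideal IS + q is proper. Then the canonical map from N
to its I-adic completion is universally injective as a map of R-modules. -/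
theorem result {R S : Type u} [CommRing R] [CommRing S] [Algebra R S] [IsNoetherianRing R] [IsNoetherianRing S] (I : Ideal R)
    (N : Type u) [AddCommGroup N] [Module S N] [Module R N] [IsScalarTower R S N] [Module.Finite S N] [Module.Flat R N]
    (h : ∀ (p : Ideal R) (q : Ideal S) [p.IsPrime] [q.IsPrime] [q.LiesOver p],
      FlatCA.fiberIdeal p q ∈ associatedPrimes (p.Fiber S) (FlatCA.fiberMod p S N) → I.map (algebraMap R S) ⊔ q ≠ ⊤) :
    FlatCA.UnivInj R (AdicCompletion.of I N) := by
  refine S1199.result (S := S) I N fun Q _ _ _ q hq => ?_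
  rw [S2069.result] at hq
  simp only [Set.mem_iUnion] at hq
  obtain ⟨p, hp, hq⟩ := hq
  haveI : p.IsPrime := hp.1
  obtain ⟨hqp, hlies, hass⟩ := mem_fibre N p hq
  exact h p q hass

end Groth.Agent.S1200
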