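import Groth.Statements.S1203
import Groth.Agent.Lib.FlatCA.Completion
import Groth.Agent.Lib.Pure.Chain
import Groth.Agent.S1200

set_option autoImplicit false
universe u
open FlatMor

namespace Groth.Agent.S1203

/-- Let R be a Noetherian ring complete with respect to an ideal I, S a finite type R-algebra and N a
finite S-module which is flat over R, such that N/IN is a projective R/I-module and such that for
every prime q of S, over p in R, whose extension to the fibre ring over p is an associated prime of
the fibre module of N, the ideal IS + q is proper. Then N is a projective R-module. -/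
theorem result {R S : Type u} [CommRing R] [CommRing S] [Algebra R S] [IsNoetherianRing R] (I : Ideal R) [IsAdicComplete I R]
    [Algebra.FiniteType R S]
    (N : Type u) [AddCommGroup N] [Module S N] [Module R N] [IsScalarTower R S N] [Module.Finite S N] [Module.Flat R N]
    [Module.Projective (R ⧸ I) (N ⧸ (I • ⊤ : Submodule R N))]
    (h : ∀ (p : Ideal R) (q : Ideal S) [p.IsPrime] [q.IsPrime] [q.LiesOver p],
      FlatCA.fiberIdeal p q ∈ associatedPrimes (p.Fiber S) (FlatCA.fiberMod p S N) → I.map (algebraMap R S) ⊔ q ≠ ⊤) :
    Module.Projective R N := by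
  haveI : IsNoetherianRing S := Algebra.FiniteType.isNoetherianRing R S
  have hui : CAlgX.UniversallyInjective R (AdicCompletion.of I N) := fun Q _ _ =>
    (LinearMap.lTensor_inj_iff_rTensor_inj _ _).1 (S1200.result I N h Q)
  obtain ⟨-, hml⟩ := Lib.FlatCA.Completion.flat_and_ml_completion I N
  refine Lib.Pure.Chain.projective_of_flat (Lib.Pure.ML.of_ui _ hui hml) ?_
  classical
  obtain ⟨k, φ, hφ⟩ := Algebra.FiniteType.iff_quotient_mvPolynomial''.1 (inferInstance : Algebra.FiniteType R S)
  obtain ⟨l, n, hn⟩ := Submodule.fg_iff_exists_fin_generating_family.1 (inferInstance : Module.Finite S N).fg_top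
  refine ⟨Set.range fun d : (Fin k →₀ ℕ) × Fin l => φ (MvPolynomial.monomial d.1 1) • n d.2,
    Set.countable_range _, eq_top_iff.2 fun x hx => ?_⟩
  clear hx
  have hx : x ∈ Submodule.span S (Set.range n) := hn ▸ trivial
  obtain ⟨c, rfl⟩ := Submodule.mem_span_range_iff_exists_fun S |>.1 hx
  refine Submodule.sum_mem _ fun i _ => ?_
  obtain ⟨P, hP⟩ := hφ (c i)
  rw [← hP]
  clear hP
  induction P using MvPolynomial.induction_on' with
  | monomial d a =>
    rw [show MvPolynomial.monomial d a = a • MvPolynomial.monomial d (1 : R) by
      rw [MvPolynomial.smul_monomial, smul_eq_mul, mul_one], map_smul, smul_assoc]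
    exact Submodule.smul_mem _ _ (Submodule.subset_span ⟨(d, i), rfl⟩)
  | add p q hp hq =>
    rw [map_add, add_smul]
    exact add_mem hp hq

end Groth.Agent.S1203
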