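import Groth.Statements.S1204
import Groth.Agent.Lib.RG.StepLemmas
import Groth.Agent.H19.FlatLocus.Model
import Mathlib.Tactic.TFAE
-- import your own Groth.Agent.* helpers here

set_option autoImplicit false
universe u
open FlatMor

namespace Groth.Agent.S1204

open TensorProduct IsLocalRing in
/-- Let R be a local ring and S a finitely presented flat R-algebra with geometrically integral fibres,
so that 𝔭 = 𝔪_R S is a prime of S; let q be a prime of S over 𝔪_R and N a finite S-module. Then
there is an S-linear map α from a finite free module S^r to N inducing a bijection after base change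
to κ(𝔭); and for any such α the following are equivalent: N_q is flat over R; α is universally
injective over R and the cokernel of α is flat over R at q; α is injective and the cokernel is flat
at q; α localized at 𝔭 is bijective and the cokernel is flat at q; α localized at q is injective and
the cokernel is flat at q. -/
theorem result {R S : Type u} [CommRing R] [IsLocalRing R] [CommRing S] [Algebra R S] [Algebra.FinitePresentation R S] [Module.Flat R S]
    (hgi : FlatCA.GeomIntegralFibres R S) [((maximalIdeal R).map (algebraMap R S)).IsPrime]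
    (q : Ideal S) [q.IsPrime] [q.LiesOver (maximalIdeal R)]
    (N : Type u) [AddCommGroup N] [Module S N] [Module R N] [IsScalarTower R S N] [Module.Finite S N] :
    (∃ (r : ℕ) (α : (Fin r → S) →ₗ[S] N), Function.Bijective (α.baseChange ((maximalIdeal R).map (algebraMap R S)).ResidueField)) ∧
    ∀ (r : ℕ) (α : (Fin r → S) →ₗ[S] N), Function.Bijective (α.baseChange ((maximalIdeal R).map (algebraMap R S)).ResidueField) →
      [FlatCA.FlatAt R q N,
       FlatCA.UnivInj R (α.restrictScalars R) ∧ FlatCA.FlatAt R q (N ⧸ LinearMap.range α),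
       Function.Injective α ∧ FlatCA.FlatAt R q (N ⧸ LinearMap.range α),
       Function.Bijective (LocalizedModule.map ((maximalIdeal R).map (algebraMap R S)).primeCompl α) ∧ FlatCA.FlatAt R q (N ⧸ LinearMap.range α),
       Function.Injective (LocalizedModule.map q.primeCompl α) ∧ FlatCA.FlatAt R q (N ⧸ LinearMap.range α)].TFAE := by
  classical
  let P := (IsLocalRing.maximalIdeal R).map (algebraMap R S)
  haveI : P.IsPrime := ‹_›
  have hPq : P ≤ q := Ideal.map_le_iff_le_comap.2 (q.over_def (IsLocalRing.maximalIdeal R)).le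
  haveI : P.LiesOver (IsLocalRing.maximalIdeal R) := ⟨le_antisymm Ideal.le_comap_map
    ((Ideal.comap_mono hPq).trans (q.over_def (IsLocalRing.maximalIdeal R)).ge)⟩
  have hP : ∀ Q : Ideal S, ∀ _ : Q.IsPrime, Q.LiesOver (IsLocalRing.maximalIdeal R) → P ≤ Q := fun Q _ hQ =>
    Ideal.map_le_iff_le_comap.2 (Q.over_def (IsLocalRing.maximalIdeal R)).le
  have hD := Lib.RG.Fibres.gif_of_geomIntegral hgi
  let M := Algebra.algebraMapSubmonoid S (IsLocalRing.maximalIdeal R).primeCompl
  have hMq : M ≤ q.primeCompl := by
    rintro _ ⟨r, hr, rfl⟩ h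
    exact hr (by rw [q.over_def (IsLocalRing.maximalIdeal R)]; exact h)
  refine ⟨Lib.RG.StepLemmas.exists_bijective_residue P, fun r α hα => ?_⟩
  have hbij : Lib.RG.StepModel.BijAt P α →
      Function.Bijective (LocalizedModule.map P.primeCompl α) := fun h =>
    ⟨Lib.RG.Induct.injective_map_of_killed P α h.2, Lib.RG.Induct.surjective_map_of_killed P α h.1⟩
  have hof : Function.Bijective (LocalizedModule.map P.primeCompl α) → Lib.RG.StepModel.BijAt P α := fun h =>
    ⟨Lib.RG.StepLemmas.killed_of_residue P α hα.2, Lib.RG.Induct.killed_of_injective_map P α h.1⟩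
  have hui : Lib.RG.StepModel.BijAt P α → Lib.RG.StepModel.UI R M α := fun h =>
    Lib.RG.StepModel.ui_of_bijAt (IsLocalRing.maximalIdeal R) hD P hP α h
  have h1 : FlatCA.FlatAt R q N → Lib.RG.StepModel.BijAt P α := fun h =>
    Lib.RG.StepLemmas.bijAt_of_residue hD (IsLocalRing.maximalIdeal R) P hP (Lib.RG.FlatStep.flat_of_le hPq h) α hα
  have hcoker : FlatCA.FlatAt R q N → FlatCA.FlatAt R q (N ⧸ LinearMap.range α) := fun h => by
    haveI : Module.Flat R (LocalizedModule q.primeCompl N) := h
    refine Lib.RG.FlatStep.flat_coker_localized α q.primeCompl fun Q _ _ z hz => ?_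
    obtain ⟨s, hs, hsz⟩ := hui (h1 h) Q z hz
    exact ⟨s, hMq hs, hsz⟩
  haveI : Module.Flat R (LocalizedModule q.primeCompl (Fin r → S)) := by
    haveI : Module.Flat R (Fin r → S) := Module.Flat.trans R S _
    exact H19.FlatLocus.Model.flat_localized q.primeCompl (LocalizedModule.mkLinearMap q.primeCompl _)
  have h6 : Function.Injective (LocalizedModule.map q.primeCompl α) ∧ FlatCA.FlatAt R q (N ⧸ LinearMap.range α) →
      FlatCA.FlatAt R q N := fun h => by
    haveI : Module.Flat R (LocalizedModule q.primeCompl (N ⧸ LinearMap.range α)) := h.2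
    exact Lib.RG.FlatStep.flat_target α q.primeCompl h.1
  have hU : ∀ u ∈ M, IsUnit u := by
    rintro _ ⟨r, hr, rfl⟩
    exact ((IsLocalRing.notMem_maximalIdeal).1 hr).map (algebraMap R S)
  tfae_have 1 → 4 := fun h => ⟨hbij (h1 h), hcoker h⟩
  tfae_have 4 → 2 := fun h => ⟨fun Q _ _ => by
    rw [LinearMap.lTensor_inj_iff_rTensor_inj, injective_iff_map_eq_zero]
    intro z hz
    obtain ⟨s, hs, hsz⟩ := hui (hof h.1) Q z hz
    exact (hU s hs).smul_eq_zero.1 hsz, h.2⟩
  tfae_have 2 → 3 := fun h => ⟨fun a b hab => by
    have h3 := h.1 R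
    rw [LinearMap.lTensor_inj_iff_rTensor_inj] at h3
    have h4 : (α.restrictScalars R).rTensor R (a ⊗ₜ[R] (1 : R)) = (α.restrictScalars R).rTensor R (b ⊗ₜ[R] (1 : R)) := by
      rw [LinearMap.rTensor_tmul, LinearMap.rTensor_tmul, LinearMap.coe_restrictScalars, hab]
    simpa using congrArg (TensorProduct.rid R (Fin r → S)) (h3 h4), h.2⟩
  tfae_have 3 → 5 := fun h => ⟨LocalizedModule.map_injective _ α h.1, h.2⟩
  tfae_have 5 → 1 := h6
  tfae_finish

end Groth.Agent.S1204
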