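import Groth.Statements.S1205
import Groth.Agent.Lib.RG.StepLemmas
import Groth.Agent.Lib.RG.OpenFlat
import Groth.Agent.H19.FlatLocus.Model
import Mathlib.Tactic.TFAE
-- import your own Groth.Agent.* helpers here

set_option autoImplicit false
universe u
open FlatMor

namespace Groth.Agent.S1205

open TensorProduct in
/-- Let S be a finitely presented flat R-algebra with geometrically integral fibres, q a prime of S over
the prime 𝔯 of R, so that 𝔭 = 𝔯S is a prime of S, and N a finitely presented S-module. Then there is
an S-linear map α from a finite free module S^r to N inducing a bijection after base change to κ(𝔭);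
and for any such α the following are equivalent: N_q is flat over R; for some f ∈ R outside 𝔯 the
localization α_f is universally injective over R and for some g ∈ S outside q the localization of
the cokernel at g is flat over R; α localized at (the image of) 𝔯 is universally injective over R
and the cokernel is flat over R at q; α localized at 𝔯 is injective and the cokernel is flat at q; α
localized at 𝔭 is bijective and the cokernel is flat at q; α localized at q is injective and the
cokernel is flat at q. (Universal injectivity over R_f or R_𝔯 of a map of modules over these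
localizations is the same as over R, which is how it is written.) -/
theorem result {R S : Type u} [CommRing R] [CommRing S] [Algebra R S] [Algebra.FinitePresentation R S] [Module.Flat R S]
    (hgi : FlatCA.GeomIntegralFibres R S) (rr : Ideal R) [rr.IsPrime] [(rr.map (algebraMap R S)).IsPrime]
    (q : Ideal S) [q.IsPrime] [q.LiesOver rr]
    (N : Type u) [AddCommGroup N] [Module S N] [Module R N] [IsScalarTower R S N] [Module.FinitePresentation S N] :
    (∃ (r : ℕ) (α : (Fin r → S) →ₗ[S] N), Function.Bijective (α.baseChange (rr.map (algebraMap R S)).ResidueField)) ∧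
    ∀ (r : ℕ) (α : (Fin r → S) →ₗ[S] N), Function.Bijective (α.baseChange (rr.map (algebraMap R S)).ResidueField) →
      [FlatCA.FlatAt R q N,
       (∃ f : R, f ∉ rr ∧ FlatCA.UnivInj R ((LocalizedModule.map (Submonoid.powers (algebraMap R S f)) α).restrictScalars R)) ∧
         (∃ g : S, g ∉ q ∧ Module.Flat R (LocalizedModule (Submonoid.powers g) (N ⧸ LinearMap.range α))),
       FlatCA.UnivInj R ((LocalizedModule.map (Algebra.algebraMapSubmonoid S rr.primeCompl) α).restrictScalars R) ∧ FlatCA.FlatAt R q (N ⧸ LinearMap.range α),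
       Function.Injective (LocalizedModule.map (Algebra.algebraMapSubmonoid S rr.primeCompl) α) ∧ FlatCA.FlatAt R q (N ⧸ LinearMap.range α),
       Function.Bijective (LocalizedModule.map (rr.map (algebraMap R S)).primeCompl α) ∧ FlatCA.FlatAt R q (N ⧸ LinearMap.range α),
       Function.Injective (LocalizedModule.map q.primeCompl α) ∧ FlatCA.FlatAt R q (N ⧸ LinearMap.range α)].TFAE := by
  classical
  let P := rr.map (algebraMap R S)
  haveI : P.IsPrime := ‹_›
  have hPq : P ≤ q := Ideal.map_le_iff_le_comap.2 (q.over_def rr).le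
  haveI : P.LiesOver rr := ⟨le_antisymm Ideal.le_comap_map
    ((Ideal.comap_mono hPq).trans (q.over_def rr).ge)⟩
  have hP : ∀ Q : Ideal S, ∀ _ : Q.IsPrime, Q.LiesOver rr → P ≤ Q := fun Q _ hQ =>
    Ideal.map_le_iff_le_comap.2 (Q.over_def rr).le
  have hD := Lib.RG.Fibres.gif_of_geomIntegral hgi
  let M := Algebra.algebraMapSubmonoid S rr.primeCompl
  have hMq : M ≤ q.primeCompl := by
    rintro _ ⟨r, hr, rfl⟩ h
    exact hr (by rw [q.over_def rr]; exact h)
  refine ⟨Lib.RG.StepLemmas.exists_bijective_residue P, fun r α hα => ?_⟩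
  have hbij : Lib.RG.StepModel.BijAt P α →
      Function.Bijective (LocalizedModule.map P.primeCompl α) := fun h =>
    ⟨Lib.RG.Induct.injective_map_of_killed P α h.2, Lib.RG.Induct.surjective_map_of_killed P α h.1⟩
  have hof : Function.Bijective (LocalizedModule.map P.primeCompl α) → Lib.RG.StepModel.BijAt P α := fun h =>
    ⟨Lib.RG.StepLemmas.killed_of_residue P α hα.2, Lib.RG.Induct.killed_of_injective_map P α h.1⟩
  have hui : Lib.RG.StepModel.BijAt P α → Lib.RG.StepModel.UI R M α := fun h =>
    Lib.RG.StepModel.ui_of_bijAt rr hD P hP α h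
  have h1 : FlatCA.FlatAt R q N → Lib.RG.StepModel.BijAt P α := fun h =>
    Lib.RG.StepLemmas.bijAt_of_residue hD rr P hP (Lib.RG.FlatStep.flat_of_le hPq h) α hα
  have hcoker : FlatCA.FlatAt R q N → FlatCA.FlatAt R q (N ⧸ LinearMap.range α) := fun h => by
    haveI : Module.Flat R (LocalizedModule q.primeCompl N) := h
    refine Lib.RG.FlatStep.flat_coker_localized α q.primeCompl fun Q _ _ z hz => ?_
    obtain ⟨s, hs, hsz⟩ := hui (h1 h) Q z hz
    exact ⟨s, hMq hs, hsz⟩
  haveI : Module.Flat R (LocalizedModule q.primeCompl (Fin r → S)) := by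
    haveI : Module.Flat R (Fin r → S) := Module.Flat.trans R S _
    exact H19.FlatLocus.Model.flat_localized q.primeCompl (LocalizedModule.mkLinearMap q.primeCompl _)
  have h6 : Function.Injective (LocalizedModule.map q.primeCompl α) ∧ FlatCA.FlatAt R q (N ⧸ LinearMap.range α) →
      FlatCA.FlatAt R q N := fun h => by
    haveI : Module.Flat R (LocalizedModule q.primeCompl (N ⧸ LinearMap.range α)) := h.2
    exact Lib.RG.FlatStep.flat_target α q.primeCompl h.1
  haveI : Module.Finite S N := inferInstance
  tfae_have 1 → 5 := fun h => ⟨hbij (h1 h), hcoker h⟩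
  tfae_have 5 → 3 := fun h => ⟨Lib.RG.StepLemmas.ui_localized hD rr P hP α (hof h.1), h.2⟩
  tfae_have 3 → 4 := fun h => ⟨fun a b hab => by
    have h3 := h.1 R
    rw [LinearMap.lTensor_inj_iff_rTensor_inj] at h3
    have h4 : ((LocalizedModule.map M α).restrictScalars R).rTensor R (a ⊗ₜ[R] (1 : R)) =
        ((LocalizedModule.map M α).restrictScalars R).rTensor R (b ⊗ₜ[R] (1 : R)) := by
      rw [LinearMap.rTensor_tmul, LinearMap.rTensor_tmul, LinearMap.coe_restrictScalars, hab]
    simpa using congrArg (TensorProduct.rid R (LocalizedModule M (Fin r → S))) (h3 h4), h.2⟩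
  tfae_have 4 → 6 := fun h => ⟨Lib.RG.Induct.injective_map_of_killed q α fun v hv => by
    have h0 : LocalizedModule.mk v (1 : M) = 0 := h.1 (by
      rw [LocalizedModule.map_mk, map_zero, hv, LocalizedModule.zero_mk])
    rw [← LocalizedModule.zero_mk (1 : M), LocalizedModule.mk_eq] at h0
    obtain ⟨c, hc⟩ := h0
    simp only [one_smul, smul_zero, Submonoid.smul_def] at hc
    exact ⟨c, hMq c.2, hc⟩, h.2⟩
  tfae_have 6 → 1 := h6
  tfae_have 1 → 2 := fun h => by
    refine ⟨Lib.RG.StepLemmas.exists_ui_away hD rr P hP α (h1 h), ?_⟩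
    haveI : Module.FinitePresentation S (N ⧸ LinearMap.range α) :=
      Module.finitePresentation_of_surjective (LinearMap.range α).mkQ (Submodule.mkQ_surjective _)
        (by rw [Submodule.ker_mkQ]; exact Module.Finite.iff_fg.1 (Module.Finite.range α))
    exact Lib.RG.OpenFlat.exists_flat_away q (hcoker h)
  tfae_have 2 → 6 := fun h => by
    obtain ⟨⟨f, hf, hU⟩, g, hg, hflat⟩ := h
    refine ⟨Lib.RG.Induct.injective_map_of_killed q α fun v hv => ?_,
      Lib.RG.OpenFlat.flatAt_of_away g q hg hflat⟩
    have h3 := hU R
    rw [LinearMap.lTensor_inj_iff_rTensor_inj] at h3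
    have h0 : LocalizedModule.mk v (1 : Submonoid.powers (algebraMap R S f)) = 0 := by
      have h4 := h3 (a₁ := LocalizedModule.mk v (1 : Submonoid.powers (algebraMap R S f)) ⊗ₜ[R] (1 : R))
        (a₂ := 0) (by
          rw [LinearMap.rTensor_tmul, LinearMap.coe_restrictScalars, LocalizedModule.map_mk, hv,
            LocalizedModule.zero_mk, TensorProduct.zero_tmul, map_zero])
      simpa using congrArg (TensorProduct.rid R _) h4
    rw [← LocalizedModule.zero_mk (1 : Submonoid.powers (algebraMap R S f)), LocalizedModule.mk_eq] at h0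
    obtain ⟨⟨_, k, rfl⟩, hc⟩ := h0
    simp only [one_smul, smul_zero, Submonoid.smul_def] at hc
    exact ⟨_, fun h => hMq ⟨f, hf, rfl⟩ (Ideal.IsPrime.mem_of_pow_mem inferInstance k h), hc⟩
  tfae_finish

end Groth.Agent.S1205
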