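import Groth.Statements.S12056
import Mathlib.Tactic.LinearCombination
-- import your own Groth.Agent.* helpers here

set_option autoImplicit false
open Red

namespace Groth.Agent.S12056

open MvPowerSeries (X)

/-- The exponent `(a, b)`. -/
noncomputable def mk2 (a b : ℕ) : Fin 2 →₀ ℕ := Finsupp.single 0 a + Finsupp.single 1 b

theorem mk2_zero (a b : ℕ) : mk2 a b 0 = a := by simp [mk2]
theorem mk2_one (a b : ℕ) : mk2 a b 1 = b := by simp [mk2]

theorem hasSubst_X {R : Type} [CommRing R] (i : Fin 2) :
    PowerSeries.HasSubst (X i : MvPowerSeries (Fin 2) R) :=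
  PowerSeries.HasSubst.of_constantCoeff_zero (MvPowerSeries.constantCoeff_X i)

theorem coeff_subst_X0 {R : Type} [CommRing R] (H : PowerSeries R) (e : Fin 2 →₀ ℕ) :
    MvPowerSeries.coeff e (PowerSeries.subst (X (0 : Fin 2) : MvPowerSeries (Fin 2) R) H) =
      if e 1 = 0 then PowerSeries.coeff (e 0) H else 0 := by
  classical
  rw [PowerSeries.coeff_subst (hasSubst_X 0), finsum_eq_single _ (e 0)]
  · rw [MvPowerSeries.coeff_X_pow]
    have : e = Finsupp.single 0 (e 0) ↔ e 1 = 0 :=
      ⟨fun h => by rw [h]; simp, fun h => by ext i; fin_cases i <;> simp [h]⟩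
    simp [this]
  · intro d hd
    rw [MvPowerSeries.coeff_X_pow, if_neg, smul_zero]
    rintro rfl
    simp at hd

theorem coeff_subst_X1 {R : Type} [CommRing R] (H : PowerSeries R) (e : Fin 2 →₀ ℕ) :
    MvPowerSeries.coeff e (PowerSeries.subst (X (1 : Fin 2) : MvPowerSeries (Fin 2) R) H) =
      if e 0 = 0 then PowerSeries.coeff (e 1) H else 0 := by
  classical
  rw [PowerSeries.coeff_subst (hasSubst_X 1), finsum_eq_single _ (e 1)]
  · rw [MvPowerSeries.coeff_X_pow]
    have : e = Finsupp.single 1 (e 1) ↔ e 0 = 0 :=
      ⟨fun h => by rw [h]; simp, fun h => by ext i; fin_cases i <;> simp [h]⟩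
    simp [this]
  · intro d hd
    rw [MvPowerSeries.coeff_X_pow, if_neg, smul_zero]
    rintro rfl
    simp at hd

theorem coeff_prod {R : Type} [CommRing R] (F G : PowerSeries R) (a b : ℕ) :
    MvPowerSeries.coeff (mk2 a b) (PowerSeries.subst (X (0 : Fin 2) : MvPowerSeries (Fin 2) R) F *
      PowerSeries.subst (X (1 : Fin 2) : MvPowerSeries (Fin 2) R) G) =
      PowerSeries.coeff a F * PowerSeries.coeff b G := by
  classical
  rw [MvPowerSeries.coeff_mul, Finset.sum_eq_single (mk2 a 0, mk2 0 b)]
  · simp [coeff_subst_X0, coeff_subst_X1, mk2]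
  · rintro ⟨u, v⟩ h hne
    rw [Finset.mem_antidiagonal] at h
    simp only [coeff_subst_X0, coeff_subst_X1]
    by_cases hu : u 1 = 0
    · by_cases hv : v 0 = 0
      · exfalso
        apply hne
        have h0 := DFunLike.congr_fun h 0
        have h1 := DFunLike.congr_fun h 1
        simp only [Finsupp.coe_add, Pi.add_apply, mk2_zero, mk2_one] at h0 h1
        ext i <;> fin_cases i <;> simp [mk2] <;> omega
      · rw [if_neg hv, mul_zero]
    · rw [if_neg hu, zero_mul]
  · intro h
    exact absurd (by simp [mk2]) h

theorem coeff_arg_pow {R : Type} [CommRing R] (F : PowerSeries R) (d a b : ℕ) :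
    MvPowerSeries.coeff (mk2 a b) ((X (0 : Fin 2) + X (1 : Fin 2) *
      PowerSeries.subst (X (0 : Fin 2)) F : MvPowerSeries (Fin 2) R) ^ d) =
    if b ≤ d ∧ d - b ≤ a then (d.choose b : R) * PowerSeries.coeff (a - (d - b)) (F ^ b) else 0 := by
  classical
  rw [add_comm, add_pow, map_sum]
  have key : ∀ k ∈ Finset.range (d + 1),
      MvPowerSeries.coeff (mk2 a b) ((X (1 : Fin 2) * PowerSeries.subst (X (0 : Fin 2)) F) ^ k *
        (X (0 : Fin 2) : MvPowerSeries (Fin 2) R) ^ (d - k) * (d.choose k : MvPowerSeries (Fin 2) R)) =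
      if k = b ∧ d - k ≤ a then (d.choose k : R) * PowerSeries.coeff (a - (d - k)) (F ^ k) else 0 := by
    intro k _
    rw [mul_pow, ← PowerSeries.subst_pow (hasSubst_X 0),
      mul_right_comm ((X (1 : Fin 2) : MvPowerSeries (Fin 2) R) ^ k), MvPowerSeries.X_pow_eq,
      MvPowerSeries.X_pow_eq, MvPowerSeries.monomial_mul_monomial, one_mul,
      ← map_natCast (MvPowerSeries.C : R →+* MvPowerSeries (Fin 2) R), mul_comm _ (MvPowerSeries.C _),
      MvPowerSeries.coeff_C_mul, MvPowerSeries.coeff_monomial_mul, one_mul, coeff_subst_X0]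
    have hle : Finsupp.single (1 : Fin 2) k + Finsupp.single 0 (d - k) ≤ mk2 a b ↔
        k ≤ b ∧ d - k ≤ a :=
      ⟨fun h => ⟨by simpa [mk2] using h 1, by simpa [mk2] using h 0⟩,
        fun h i => by fin_cases i <;> simp [mk2, h.1, h.2]⟩
    simp only [hle, Finsupp.tsub_apply, Finsupp.coe_add, Pi.add_apply, mk2_zero, mk2_one]
    simp only [Finsupp.single_eq_same, Finsupp.single_eq_of_ne (show (0 : Fin 2) ≠ 1 by decide),
      Finsupp.single_eq_of_ne (show (1 : Fin 2) ≠ 0 by decide), zero_add, add_zero]
    by_cases hkb : k = b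
    · subst hkb; simp
    · rw [if_neg (c := k = b ∧ d - k ≤ a) (fun h => hkb h.1)]
      split_ifs with h h'
      · omega
      · simp
      · simp
  rw [Finset.sum_congr rfl key]
  by_cases hb : b ≤ d ∧ d - b ≤ a
  · rw [if_pos hb, Finset.sum_eq_single b]
    · simp [hb.2]
    · intro k _ hk; simp [hk]
    · intro h; simp at h; omega
  · rw [if_neg hb]
    refine Finset.sum_eq_zero fun k hk => if_neg ?_
    rintro ⟨rfl, h⟩
    simp at hk
    exact hb ⟨by omega, h⟩

theorem key_identity {R : Type} [CommRing R] {F : PowerSeries R}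
    (hFE : PowerSeries.subst (X (0 : Fin 2) + X 1 * PowerSeries.subst (X (0 : Fin 2)) F :
        MvPowerSeries (Fin 2) R) F =
      PowerSeries.subst (X (0 : Fin 2) : MvPowerSeries (Fin 2) R) F *
        PowerSeries.subst (X (1 : Fin 2) : MvPowerSeries (Fin 2) R) F) (a b : ℕ) :
    ∑ i ∈ Finset.range (a + 1), ((b + i).choose b : R) * PowerSeries.coeff (b + i) F *
      PowerSeries.coeff (a - i) (F ^ b) = PowerSeries.coeff a F * PowerSeries.coeff b F := by
  classical
  have h := congrArg (MvPowerSeries.coeff (mk2 a b)) hFE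
  rw [coeff_prod, PowerSeries.coeff_subst
    (PowerSeries.HasSubst.of_constantCoeff_zero (by simp)),
    finsum_eq_sum_of_support_subset _ (s := Finset.Ico b (b + a + 1))] at h
  · rw [Finset.sum_Ico_eq_sum_range, show b + a + 1 - b = a + 1 by omega] at h
    rw [← h]
    refine Finset.sum_congr rfl fun i hi => ?_
    simp at hi
    rw [coeff_arg_pow, if_pos ⟨by omega, by omega⟩, show b + i - b = i by omega, smul_eq_mul]
    ring
  · intro d hd
    simp only [Function.mem_support, ne_eq, coeff_arg_pow] at hd
    simp only [Finset.coe_Ico, Set.mem_Ico]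
    split_ifs at hd with hc
    · omega
    · simp at hd

end Groth.Agent.S12056

namespace Groth.Agent.S12056

/-- In formal-power-series form, let R be a commutative ring and F ∈ R⟦X⟧ with constant term 1 whose
linear coefficient a is a unit of R. Suppose that in R⟦X₀, X₁⟧ one has F(X₀ + X₁ · F(X₀)) = F(X₀) ·
F(X₁) (the functional equation F(x + y F(x)) = F(x) F(y)). Then F = 1 + a X. (The published
statement concerns a morphism to the multiplicative group from an open neighbourhood of the zero
section in the additive group over a base scheme, the identity holding on an open neighbourhood of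
the origin of the plane on which all terms are defined, with a the derivative at 0; this row states
it for formal power series over a ring.) -/
theorem result (R : Type) [CommRing R] (F : PowerSeries R)
    (h0 : PowerSeries.constantCoeff F = 1) (ha : IsUnit (PowerSeries.coeff 1 F))
    (hFE : PowerSeries.subst
        (MvPowerSeries.X (0 : Fin 2) + MvPowerSeries.X 1 * PowerSeries.subst (MvPowerSeries.X (0 : Fin 2)) F :
          MvPowerSeries (Fin 2) R) F =
      PowerSeries.subst (MvPowerSeries.X (0 : Fin 2)) F * PowerSeries.subst (MvPowerSeries.X (1 : Fin 2)) F) :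
    F = 1 + PowerSeries.C (PowerSeries.coeff 1 F) * PowerSeries.X := by
  set c := fun n => PowerSeries.coeff n F with hc
  have c0 : c 0 = 1 := by simpa [hc] using h0
  have hd : ∀ n, 1 ≤ n → ((n + 1 : ℕ) : R) * c (n + 1) = 0 := by
    intro n
    induction n using Nat.strong_induction_on with
    | _ n ih =>
      intro hn
      have h := key_identity hFE n 1
      simp only [Nat.choose_one_right, pow_one] at h
      rw [Finset.sum_eq_add_of_mem 0 n (by simp) (by simp) (by omega)] at h
      · change _ * c 1 * c n + _ * c (1 + n) * c (n - n) = c n * c 1 at h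
        rw [Nat.sub_self, c0, add_comm 1 n] at h
        simp at h ⊢
        linear_combination h
      · intro i hi hne
        simp at hi
        have := ih (i) (by omega) (by omega)
        rw [add_comm i 1] at this
        change _ * c (1 + i) * _ = 0
        rw [this, zero_mul]
  have hbig : ∀ j, 2 ≤ j → c j = 0 := by
    intro j hj
    have hj0 : ((j : ℕ) : R) * c j = 0 := by
      have := hd (j - 1) (by omega); rwa [show j - 1 + 1 = j by omega] at this
    have h := key_identity hFE 1 j
    rw [Finset.sum_range_succ, Finset.sum_range_one] at h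
    simp only [Nat.add_zero, Nat.choose_self, Nat.cast_one, one_mul, Nat.sub_zero,
      Nat.choose_succ_self_right, PowerSeries.coeff_one_pow, Nat.sub_self] at h
    rw [PowerSeries.coeff_zero_eq_constantCoeff, map_pow, h0, one_pow] at h
    change c j * _ + _ * c (j + 1) * _ = c 1 * c j at h
    rw [hd j (by omega), zero_mul, add_zero] at h
    refine (IsUnit.mul_right_eq_zero ha).1 ?_
    change c 1 * c j = 0
    linear_combination -h + c 1 * hj0
  ext n
  match n with
  | 0 => simp [h0]
  | 1 => simp
  | n + 2 =>
    have := hbig (n + 2) (by omega)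
    simp [hc] at this
    simp [PowerSeries.coeff_succ_mul_X, this]

end Groth.Agent.S12056
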