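import Groth.Statements.S12058
import Mathlib.Algebra.Homology.DerivedCategory.Ext.ExactSequences
import Mathlib.CategoryTheory.Abelian.Basic

set_option autoImplicit false
universe w v u
open CategoryTheory CategoryTheory.Limits CategoryTheory.Abelian
open SGA3

namespace Groth.Agent.S12058

/-- In an abelian category, let 0 → A' → A → A'' → 0 be a short exact sequence, φ : A' ⟶ Q a morphism
and π : A'' ⟶ P an epimorphism with kernel C. Consider the quadruples (B, f, g, h) with 0 → Q → B →
P → 0 short exact (maps f, g) and h : A ⟶ B such that the squares commute: (A' → A → B) = (A' → Q →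
B) and (A → B → P) = (A → A'' → P). Such a quadruple exists if and only if the image in Ext¹(C, Q)
of the class of the given extension in Ext¹(A'', A') (push forward along φ, pull back along the
inclusion C → A'') is zero. -/
theorem result {C : Type u} [Category.{v} C] [Abelian C]
    [HasExt.{w} C] {S : ShortComplex C} (hS : S.ShortExact) {Q P : C} (φ : S.X₁ ⟶ Q) (π : S.X₃ ⟶ P) [Epi π] :
    (∃ (B : C) (f : Q ⟶ B) (g : B ⟶ P) (h : S.X₂ ⟶ B) (w : f ≫ g = 0),
        (ShortComplex.mk f g w).ShortExact ∧ S.f ≫ h = φ ≫ f ∧ h ≫ g = S.g ≫ π) ↔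
      (Ext.mk₀ (kernel.ι π)).comp (hS.extClass.comp (Ext.mk₀ φ) (add_zero 1)) (zero_add 1) = 0 := by
  constructor
  · rintro ⟨B, f, g, h, w, hT, hf, hg⟩
    let m : S ⟶ ShortComplex.mk f g w :=
      ShortComplex.homMk φ h π (by exact hf.symm) (by exact hg)
    have e := ShortComplex.ShortExact.extClass_naturality hS hT m
    change hS.extClass.comp (Ext.mk₀ φ) _ = (Ext.mk₀ π).comp hT.extClass _ at e
    rw [e, Ext.mk₀_comp_mk₀_assoc, kernel.condition, Ext.mk₀_zero, Ext.zero_comp]
  · intro he
    have := hS.mono_f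
    have := hS.epi_g
    let g₁ : pushout S.f φ ⟶ S.X₃ := pushout.desc S.g 0 (by simp)
    have hg₁l : pushout.inl S.f φ ≫ g₁ = S.g := pushout.inl_desc _ _ _
    have hg₁r : pushout.inr S.f φ ≫ g₁ = 0 := pushout.inr_desc _ _ _
    have : Epi g₁ := epi_of_epi_fac hg₁l
    let S₁ : ShortComplex C := ShortComplex.mk (pushout.inr S.f φ) g₁ hg₁r
    have hS₁ : S₁.ShortExact := by
      refine { exact := ShortComplex.exact_of_g_is_cokernel _ (CokernelCofork.IsColimit.ofπ' g₁ hg₁r fun {Z} k hk => ?_), mono_f := inferInstanceAs (Mono (pushout.inr S.f φ)), epi_g := inferInstanceAs (Epi g₁) }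
      have h0 : S.f ≫ pushout.inl S.f φ ≫ k = 0 := by rw [pushout.condition_assoc, hk, comp_zero]
      refine ⟨hS.exact.desc _ h0, pushout.hom_ext ?_ ?_⟩
      · rw [← Category.assoc, hg₁l, hS.exact.g_desc]
      · rw [← Category.assoc, hg₁r, zero_comp, hk]
    have e := ShortComplex.ShortExact.extClass_naturality hS hS₁
      (ShortComplex.homMk φ (pushout.inl S.f φ) (𝟙 _) pushout.condition.symm
        (by exact hg₁l.trans (Category.comp_id _).symm))
    change hS.extClass.comp (Ext.mk₀ φ) _ = (Ext.mk₀ (𝟙 _)).comp hS₁.extClass _ at e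
    rw [Ext.mk₀_id_comp] at e
    rw [e] at he
    obtain ⟨x, hx⟩ := Ext.covariant_sequence_exact₃ (kernel π) hS₁ (Ext.mk₀ (kernel.ι π)) (zero_add 1) he
    obtain ⟨σ, rfl⟩ := Ext.addEquiv₀.symm.surjective x
    have hσ : σ ≫ g₁ = kernel.ι π := by
      apply Ext.addEquiv₀.symm.injective
      simpa [Ext.addEquiv₀_symm_apply] using hx
    have : Mono σ := mono_of_mono_fac hσ
    let g : cokernel σ ⟶ P := cokernel.desc σ (g₁ ≫ π) (by rw [← Category.assoc, hσ, kernel.condition])
    have w : (pushout.inr S.f φ ≫ cokernel.π σ) ≫ g = 0 := by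
      rw [Category.assoc, cokernel.π_desc, ← Category.assoc, hg₁r, zero_comp]
    refine ⟨cokernel σ, pushout.inr S.f φ ≫ cokernel.π σ, g, pushout.inl S.f φ ≫ cokernel.π σ, w, ?_, ?_, ?_⟩
    · have : Epi (cokernel.π σ ≫ g) := by rw [cokernel.π_desc]; infer_instance
      refine { exact := ShortComplex.exact_of_g_is_cokernel _ (CokernelCofork.IsColimit.ofπ' g w fun {Z} k hk => ?_), mono_f := ?_, epi_g := epi_of_epi (cokernel.π σ) g }
      · let S₂ : ShortComplex C := ShortComplex.mk (kernel.ι π) π (kernel.condition π)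
        have hS₂ : S₂.Exact := ShortComplex.exact_of_f_is_kernel S₂ (kernelIsKernel π)
        let l := hS₁.exact.desc (cokernel.π σ ≫ k) (by exact (Category.assoc _ _ _).symm.trans hk)
        have hl : g₁ ≫ l = cokernel.π σ ≫ k := hS₁.exact.g_desc _ _
        have : Epi S₂.g := inferInstanceAs (Epi π)
        refine ⟨hS₂.desc l (by show kernel.ι π ≫ l = 0; rw [← hσ, Category.assoc, hl, cokernel.condition_assoc, zero_comp]), ?_⟩
        apply (cancel_epi (cokernel.π σ)).1
        rw [cokernel.π_desc_assoc, Category.assoc, show π ≫ hS₂.desc l _ = l from hS₂.g_desc _ _, hl]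
      · refine Preadditive.mono_of_cancel_zero _ fun {Z} a ha => ?_
        let S₃ : ShortComplex C := ShortComplex.mk σ (cokernel.π σ) (cokernel.condition σ)
        have hS₃ : S₃.Exact := ShortComplex.exact_of_g_is_cokernel S₃ (cokernelIsCokernel σ)
        have : Mono S₃.f := inferInstanceAs (Mono σ)
        obtain ⟨b, hb⟩ : ∃ b : Z ⟶ kernel π, b ≫ σ = a ≫ pushout.inr S.f φ :=
          ⟨hS₃.lift (a ≫ pushout.inr S.f φ) ((Category.assoc _ _ _).trans ha), hS₃.lift_f _ _⟩
        have hb0 : b = 0 := by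
          apply (cancel_mono (kernel.ι π)).1
          rw [← hσ, ← Category.assoc, hb, Category.assoc, hg₁r, comp_zero, zero_comp]
        apply (cancel_mono (pushout.inr S.f φ)).1
        rw [← hb, hb0, zero_comp, zero_comp]
    · rw [← Category.assoc, pushout.condition, Category.assoc]
    · rw [Category.assoc, cokernel.π_desc, ← Category.assoc, hg₁l]

end Groth.Agent.S12058
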