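import Groth.Statements.S1206
import Mathlib.Tactic.LinearCombination
import Mathlib.RingTheory.Ideal.MinimalPrime.Localization
import Mathlib.RingTheory.Finiteness.Ideal

set_option autoImplicit false
universe u
open FlatMor

namespace Groth.Agent.S1206

/-- Let A be a local domain which is not a field and 𝒮 a set of finitely generated ideals of A, closed
under products, such that the union of the closed sets V(I), I ∈ 𝒮, is exactly the set of nonzero
primes (every nonzero prime contains a member of 𝒮 and no member is zero). Then the intersection of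
all members of 𝒮 is zero. -/
theorem result (A : Type u) [CommRing A] [IsDomain A] [IsLocalRing A] (hA : ¬ IsField A)
    (𝒮 : Set (Ideal A)) (hfg : ∀ I ∈ 𝒮, I.FG) (hmul : ∀ I ∈ 𝒮, ∀ J ∈ 𝒮, I * J ∈ 𝒮)
    (hne : ∀ I ∈ 𝒮, I ≠ ⊥) (hcov : ∀ (p : Ideal A), p.IsPrime → p ≠ ⊥ → ∃ I ∈ 𝒮, I ≤ p) :
    sInf 𝒮 = ⊥ := by
  rw [eq_bot_iff]
  intro a ha
  rw [Ideal.mem_bot]
  by_contra ha0
  have hmem : ∀ I ∈ 𝒮, a ∈ I := fun I hI => sInf_le hI ha
  have ha1 : Ideal.span {a} ≠ ⊤ := by
    intro htop
    have hne0 : IsLocalRing.maximalIdeal A ≠ ⊥ := fun e => hA ((IsLocalRing.isField_iff_maximalIdeal_eq).2 e)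
    obtain ⟨I, hI, hIm⟩ := hcov _ (IsLocalRing.maximalIdeal.isMaximal A).isPrime hne0
    have : Ideal.span {a} ≤ IsLocalRing.maximalIdeal A :=
      (Ideal.span_singleton_le_iff_mem _).2 (hIm (hmem I hI))
    exact (IsLocalRing.maximalIdeal.isMaximal A).ne_top (top_le_iff.1 (htop ▸ this))
  obtain ⟨p, hp, -⟩ := Ideal.exists_minimalPrimes_le
    (IsLocalRing.le_maximalIdeal ha1 : Ideal.span {a} ≤ IsLocalRing.maximalIdeal A)
  have := hp.1.1
  have hap : a ∈ p := hp.1.2 (Ideal.mem_span_singleton_self a)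
  obtain ⟨I, hI, hIp⟩ := hcov p hp.1.1 (fun e => ha0 (by simpa [e] using hap))
  let L := Localization.AtPrime p
  have hrad : ((Ideal.span {a}).map (algebraMap A L)).radical = IsLocalRing.maximalIdeal L :=
    (IsLocalization.AtPrime.radical_map_of_mem_minimalPrimes L p (Ideal.span {a}) hp).trans
      (Localization.AtPrime.map_eq_maximalIdeal)
  obtain ⟨n, hn⟩ := Ideal.exists_pow_le_of_le_radical_of_fg
    (show I.map (algebraMap A L) ≤ ((Ideal.span {a}).map (algebraMap A L)).radical by
      rw [hrad, ← Localization.AtPrime.map_eq_maximalIdeal]; exact Ideal.map_mono hIp)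
    ((hfg I hI).map _)
  have hpow : ∀ k : ℕ, I ^ (k + 1) ∈ 𝒮 := by
    intro k
    induction k with
    | zero => simpa using hI
    | succ k ih => rw [pow_succ]; exact hmul _ ih _ hI
  have h2 : algebraMap A L a ∈ (Ideal.span {algebraMap A L a ^ 2}) := by
    have := Ideal.mem_map_of_mem (algebraMap A L) (hmem _ (hpow (n + n + 1)))
    rw [Ideal.map_pow] at this
    rw [← Ideal.span_singleton_pow, pow_two]
    rw [Ideal.map_span, Set.image_singleton] at hn
    exact Ideal.mul_mono hn hn (by rw [← pow_add]; exact Ideal.pow_le_pow_right (by omega) this)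
  obtain ⟨x, hx⟩ := Ideal.mem_span_singleton'.1 h2
  have hu : IsUnit (algebraMap A L a) := by
    refine IsUnit.of_mul_eq_one x (sub_eq_zero.1 ?_)
    have h3 : algebraMap A L a * (algebraMap A L a * x - 1) = 0 := by
      linear_combination hx
    refine (mul_eq_zero.1 h3).resolve_left fun h0 => ha0 ?_
    exact IsLocalization.injective L p.primeCompl_le_nonZeroDivisors (h0.trans (map_zero _).symm)
  exact ((IsLocalization.AtPrime.isUnit_to_map_iff L p a).1 hu) hap


end Groth.Agent.S1206
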