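import Groth.Statements.S12060
import Groth.Agent.Lib.GModStab.Stable
import Groth.Agent.Lib.GModStab.Global

set_option autoImplicit false
universe u
open CategoryTheory MonObj GrpObj AlgebraicGeometry
open scoped TensorProduct
open SGA3

namespace Groth.Agent.S12060

open Groth.Agent.Lib.GModStab

/-- Contraction against a linear form. -/
noncomputable def ctr {R A P : Type u} [CommRing R] [AddCommGroup A] [Module R A] [AddCommGroup P] [Module R P]
    (φ : A →ₗ[R] R) : A ⊗[R] P →ₗ[R] P :=
  (TensorProduct.lid R P).toLinearMap ∘ₗ φ.rTensor P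

theorem ctr_lTensor {R A P Q : Type u} [CommRing R] [AddCommGroup A] [Module R A] [AddCommGroup P] [Module R P]
    [AddCommGroup Q] [Module R Q] (φ : A →ₗ[R] R) (f : P →ₗ[R] Q) (z : A ⊗[R] P) :
    f (ctr φ z) = ctr φ (f.lTensor A z) := by
  induction z using TensorProduct.induction_on with
  | zero => simp
  | tmul a p => simp [ctr]
  | add p q hp hq => simp only [map_add, hp, hq]


/-- Let R be a commutative ring, G a group scheme over Spec R which is flat, quasi-compact and
quasi-separated over Spec R (not necessarily affine) and whose ring of global functions, as an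
R-module through the structure map, is projective; let E be a flat R-module with a G-module
structure (for every R-algebra B, a natural action of the B-points of G on B ⊗_R E by B-linear
automorphisms) and M a finitely generated R-submodule of E. Then M is contained in a finitely
generated submodule N of E stable under G: for every R-algebra B and every B-valued point g of G,
the action of g carries the image of B ⊗_R N in B ⊗_R E into itself. Equivalently E is the filtered
union of its finitely generated G-stable submodules. (The published statement is over a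
quasi-compact quasi-separated base scheme with quasi-coherent modules and a locally projective
algebra of functions of G, and also covers the case of G affine and flat with no flatness assumption
on E; this row is the case of G flat, quasi-compact and quasi-separated and E flat, over an affine
base, with affine test schemes.) -/
theorem result (R : Type u) [CommRing R]
    (G : Over (Spec (CommRingCat.of R))) [GrpObj G] [Flat G.hom] [QuasiCompact G.hom] [QuasiSeparated G.hom]
    (hA : letI : Algebra R Γ(G.left, ⊤) :=
        (((Scheme.ΓSpecIso (CommRingCat.of R)).inv ≫ G.hom.appTop).hom).toAlgebra;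
      Module.Projective R Γ(G.left, ⊤))
    (E : Type u) [AddCommGroup E] [Module R E] [Module.Flat R E] (m : VecGrp.GMod G E)
    (M : Submodule R E) (hM : M.FG) :
    ∃ N : Submodule R E, M ≤ N ∧ N.FG ∧
      ∀ (B : Type u) [CommRing B] [Algebra R B] (g : VecGrp.pt R B ⟶ G) (x : E), x ∈ N →
        m.ρ B g ((1 : B) ⊗ₜ[R] x) ∈ LinearMap.range (N.subtype.baseChange B) := by
  let A := Γ(G.left, ⊤)
  letI : Algebra R A := algΓ G
  obtain ⟨s, hs⟩ := Module.projective_def'.1 (show Module.Projective R A from hA)
  obtain ⟨J, _, B, _, _, g, hB, hg⟩ := Lib.GModStab.exists_charts G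
  have hx : ∀ x : E, ∃ z : A ⊗[R] E, ∀ (C : Type u) [CommRing C] [Algebra R C] (γ : VecGrp.pt R C ⟶ G),
      VecGrp.Wmap (evPt γ) z = coeff m LinearMap.id γ x := fun x =>
    (sections_aux G E).2 (fun C _ _ γ => coeff m LinearMap.id γ x)
      (fun C C' _ _ _ _ φ γ => Wmap_coeff m LinearMap.id φ γ x)
  choose z hz using hx
  let crd : A → (A →ₗ[R] R) := fun a => Finsupp.lapply a ∘ₗ s
  classical
  have hexp : ∀ w : A ⊗[R] E, ∃ F : Finset A, ∀ F' : Finset A, F ⊆ F' →
      w = ∑ a ∈ F', a ⊗ₜ[R] ctr (crd a) w := by
    intro w
    induction w using TensorProduct.induction_on with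
    | zero => exact ⟨∅, fun F' _ => by simp⟩
    | tmul b e =>
      refine ⟨(s b).support, fun F' hF' => ?_⟩
      have h0 : b = ∑ a ∈ F', (s b a) • a := by
        conv_lhs => rw [← LinearMap.id_apply (R := R) b, ← hs, LinearMap.comp_apply, Finsupp.linearCombination_apply,
          Finsupp.sum_of_support_subset _ hF' (fun (i : A) (r : R) => r • id i) (fun _ _ => zero_smul R _)]
        rfl
      calc b ⊗ₜ[R] e = (∑ a ∈ F', (s b a) • a) ⊗ₜ[R] e := by rw [← h0]
        _ = _ := by
          rw [TensorProduct.sum_tmul]
          refine Finset.sum_congr rfl fun a _ => ?_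
          simp [ctr, crd, TensorProduct.smul_tmul]
    | add p q hp hq =>
      obtain ⟨F₁, h₁⟩ := hp
      obtain ⟨F₂, h₂⟩ := hq
      refine ⟨F₁ ∪ F₂, fun F' hF' => ?_⟩
      conv_lhs => rw [h₁ F' (Finset.union_subset_left hF'), h₂ F' (Finset.union_subset_right hF'),
        ← Finset.sum_add_distrib]
      exact Finset.sum_congr rfl fun a _ => by rw [map_add, TensorProduct.tmul_add]
  choose F hF using hexp
  obtain ⟨M₀, hM₀⟩ := hM
  let N : Submodule R E := M₀.sup fun x => Submodule.span R ((F (z x)).image fun a => ctr (crd a) (z x))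
  have hNfg : N.FG := Submodule.fg_finset_sup _ _ fun x _ => Submodule.fg_span (Finset.finite_toSet _)
  have hmem : ∀ x ∈ M₀, ∀ a ∈ F (z x), ctr (crd a) (z x) ∈ N := fun x hx a ha =>
    Finset.le_sup (f := fun x => Submodule.span R (((F (z x)).image fun a => ctr (crd a) (z x) : Finset E) : Set E)) hx
      (Submodule.subset_span (Finset.mem_image_of_mem (fun a => ctr (crd a) (z x)) ha))
  have hM' : M ≤ stab m g N := by
    rw [← hM₀, Submodule.span_le]
    intro x hx
    refine LinearMap.mem_ker.2 (funext fun i => ?_)
    show coeff m N.mkQ (g i) x = 0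
    have h1 : coeff m N.mkQ (g i) x = N.mkQ.baseChange (B i) (coeff m LinearMap.id (g i) x) := by
      simp [coeff, LinearMap.baseChange_id]
    rw [h1, ← hz, hF (z x) _ subset_rfl, map_sum, map_sum]
    refine Finset.sum_eq_zero fun a ha => ?_
    rw [VecGrp.Wmap_tmul, LinearMap.baseChange_tmul, Submodule.mkQ_apply, (Submodule.Quotient.mk_eq_zero N).2 (hmem x hx a ha),
      TensorProduct.tmul_zero]
  have hN : N ≤ stab m g N := by
    refine Finset.sup_le fun x hx => Submodule.span_le.2 ?_
    intro n hn
    obtain ⟨a, ha, rfl⟩ := Finset.mem_image.1 hn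
    refine LinearMap.mem_ker.2 (funext fun j => ?_)
    show coeff m N.mkQ (g j) (ctr (crd a) (z x)) = 0
    -- the comultiplication, restricted to the chart
    have hδ : ∀ b : A, ∃ w : A ⊗[R] B j, ∀ (C : Type u) [CommRing C] [Algebra R C] (γ : VecGrp.pt R C ⟶ G),
        VecGrp.Wmap (evPt γ) w = evPt ((VecGrp.ptMap (Algebra.TensorProduct.includeRight : B j →ₐ[R] C ⊗[R] B j) ≫ g j) *
          (VecGrp.ptMap (Algebra.TensorProduct.includeLeft : C →ₐ[R] C ⊗[R] B j) ≫ γ)) b := fun b =>
      (sections_aux G (B j)).2 (fun C _ _ γ => evPt
        ((VecGrp.ptMap (Algebra.TensorProduct.includeRight : B j →ₐ[R] C ⊗[R] B j) ≫ g j) *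
          (VecGrp.ptMap (Algebra.TensorProduct.includeLeft : C →ₐ[R] C ⊗[R] B j) ≫ γ)) b)
        fun C C' _ _ _ _ φ γ => by
          let Φ : C ⊗[R] B j →ₐ[R] C' ⊗[R] B j := Algebra.TensorProduct.map φ (AlgHom.id R (B j))
          have h1 : ∀ y, VecGrp.Wmap φ y = Φ y := fun y => by
            induction y using TensorProduct.induction_on with
            | zero => simp
            | tmul p q => simp [Φ]
            | add p q hp hq => simp only [map_add, hp, hq]
          have e1 : VecGrp.ptMap Φ ≫ VecGrp.ptMap (Algebra.TensorProduct.includeRight : B j →ₐ[R] C ⊗[R] B j) =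
              VecGrp.ptMap (Algebra.TensorProduct.includeRight : B j →ₐ[R] C' ⊗[R] B j) := by
            refine Over.OverMorphism.ext ?_
            show Spec.map _ ≫ Spec.map _ = Spec.map _
            rw [← Spec.map_comp]
            congr 1
            ext q
            show Φ (1 ⊗ₜ q) = 1 ⊗ₜ q
            simp [Φ]
          have e2 : VecGrp.ptMap Φ ≫ VecGrp.ptMap (Algebra.TensorProduct.includeLeft : C →ₐ[R] C ⊗[R] B j) =
              VecGrp.ptMap (Algebra.TensorProduct.includeLeft : C' →ₐ[R] C' ⊗[R] B j) ≫ VecGrp.ptMap φ := by
            refine Over.OverMorphism.ext ?_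
            show Spec.map _ ≫ Spec.map _ = Spec.map _ ≫ Spec.map _
            rw [← Spec.map_comp, ← Spec.map_comp]
            congr 1
          rw [h1, ← AlgHom.comp_apply, ← evPt_ptMap, MonObj.comp_mul, ← Category.assoc, e1, ← Category.assoc, e2,
            Category.assoc]
    choose δ hδ' using hδ
    let δl : A →ₗ[R] A ⊗[R] B j :=
      { toFun := δ
        map_add' := fun p q => sub_eq_zero.1 ((sections_aux G (B j)).1 _ fun C _ _ γ => by
          rw [map_sub, map_add, hδ', hδ', hδ', map_add, sub_self])
        map_smul' := fun r q => sub_eq_zero.1 ((sections_aux G (B j)).1 _ fun C _ _ γ => by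
          rw [map_sub, RingHom.id_apply, map_smul, hδ', hδ', map_smul, sub_self]) }
    have : Module.Flat R (B j ⊗[R] E) := inferInstance
    have key : (coeff m LinearMap.id (g j)).lTensor A (z x) =
        TensorProduct.assoc R A (B j) E (δl.rTensor E (z x)) := by
      refine sub_eq_zero.1 ((sections_aux G (B j ⊗[R] E)).1 _ fun C _ _ γ => ?_)
      rw [map_sub, sub_eq_zero]
      apply (TensorProduct.assoc R C (B j) E).symm.injective
      have h2 : ∀ y : A ⊗[R] E, VecGrp.Wmap (evPt γ) ((coeff m LinearMap.id (g j)).lTensor A y) =
          (coeff m LinearMap.id (g j)).lTensor C (VecGrp.Wmap (evPt γ) y) := fun y => by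
        induction y using TensorProduct.induction_on with
        | zero => simp
        | tmul p q => simp
        | add p q hp hq => simp only [map_add, hp, hq]
      have h3 : ∀ y : A ⊗[R] E, (TensorProduct.assoc R C (B j) E).symm
            (VecGrp.Wmap (evPt γ) (TensorProduct.assoc R A (B j) E (δl.rTensor E y))) =
          VecGrp.Wmap (evPt ((VecGrp.ptMap (Algebra.TensorProduct.includeRight : B j →ₐ[R] C ⊗[R] B j) ≫ g j) *
          (VecGrp.ptMap (Algebra.TensorProduct.includeLeft : C →ₐ[R] C ⊗[R] B j) ≫ γ))) y := fun y => by
        induction y using TensorProduct.induction_on with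
        | zero => simp
        | tmul p q =>
          rw [LinearMap.rTensor_tmul, VecGrp.Wmap_tmul, ← hδ' p C γ]
          show _ = VecGrp.Wmap (evPt γ) (δl p) ⊗ₜ[R] q
          generalize δl p = w
          induction w using TensorProduct.induction_on with
          | zero => simp
          | tmul c d => simp
          | add c d hc hd => simp only [TensorProduct.add_tmul, map_add, hc, hd]
        | add p q hp hq => simp only [map_add, hp, hq]
      rw [h2, h3, hz, hz]
      rw [show coeff m LinearMap.id γ x = m.ρ C γ (1 ⊗ₜ[R] x) by simp [coeff, LinearMap.baseChange_id]]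
      exact coeff_comp m LinearMap.id γ (g j) x
    have h4 : coeff m N.mkQ (g j) (ctr (crd a) (z x)) =
        N.mkQ.lTensor (B j) (coeff m LinearMap.id (g j) (ctr (crd a) (z x))) := by
      simp [coeff, LinearMap.baseChange_eq_ltensor]
    rw [h4, ctr_lTensor, key, hF (z x) _ subset_rfl, map_sum, map_sum, map_sum, map_sum]
    refine Finset.sum_eq_zero fun b hb => ?_
    rw [LinearMap.rTensor_tmul]
    generalize δl b = w
    have hn : N.mkQ (ctr (crd b) (z x)) = 0 := (Submodule.Quotient.mk_eq_zero N).2 (hmem x hx b hb)
    induction w using TensorProduct.induction_on with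
    | zero => simp
    | tmul c d => simp only [TensorProduct.assoc_tmul, ctr, LinearMap.comp_apply, LinearMap.rTensor_tmul,
        LinearEquiv.coe_coe, TensorProduct.lid_tmul, map_smul, LinearMap.lTensor_tmul]
                  simp only [ctr, LinearMap.comp_apply, LinearEquiv.coe_coe] at hn
                  simp [hn]
    | add c d hc hd => simp only [TensorProduct.add_tmul, map_add, hc, hd, add_zero]
  have heq : stab m g N = N := le_antisymm (stab_le m g hg N) hN
  refine ⟨N, hM'.trans heq.le, hNfg, fun C _ _ γ x hx => ?_⟩
  have := stab_stable m g hg N C γ x (hN hx)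
  rwa [heq] at this

end Groth.Agent.S12060
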