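import Groth.Statements.S12061
import Groth.Agent.Lib.SmWeil.BorelRadical

set_option autoImplicit false
universe u
open CategoryTheory MonoidalCategory CartesianMonoidalCategory MonObj GrpObj AlgebraicGeometry
open SGA3x

namespace Groth.Agent.S12061

/-- Let k be a field, G and G′ smooth connected k-group schemes of finite type and u : G → G′ a
faithfully flat homomorphism whose kernel, after base change to an algebraic closure of k, is
contained in the radical of G, i.e. in some smooth connected solvable normal subgroup. Then B′ ↦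
u⁻¹(B′) sends Borel subgroups of G′ (subgroup schemes, smooth of finite type over k, whose geometric
fibre is a Borel subgroup) to Borel subgroups of G, and every Borel subgroup of G arises in this
way: if B′ is a Borel subgroup of G′ and B is a k-group scheme with homomorphisms b : B → G and v :
B → B′ making B = G ×_{G′} B′, then B is a Borel subgroup of G; and every Borel subgroup of G is
such an inverse image of some Borel subgroup of G′. (The published statement says that B′ ↦ u⁻¹(B′)
is a bijection; its injectivity, a consequence of faithful flatness of u, is not stated here.) -/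
theorem result (k : Type u) [Field k] (G G' : Over (Spec (CommRingCat.of k)))
    [GrpObj G] [GrpObj G'] [Smooth G.hom] [QuasiCompact G.hom] [Smooth G'.hom] [QuasiCompact G'.hom]
    [ConnectedSpace ↥G.left] [ConnectedSpace ↥G'.left]
    (u : G ⟶ G') [IsMonHom u] [Flat u.left] [Surjective u.left]
    (hrad : ∀ s : ↥(Spec (CommRingCat.of k)), ∃ (R : Over (Spec (CommRingCat.of (AlgebraicClosure ((Spec (CommRingCat.of k)).residueField s)))))
      (_ : GrpObj R) (r : R ⟶ Red.geomFibre s G), IsMonHom r ∧ IsClosedImmersion r.left ∧ Smooth R.hom ∧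
      ConnectedSpace ↥R.left ∧ Red.IsSolvableGrp R ∧
      (∀ (X : Over (Spec (CommRingCat.of (AlgebraicClosure ((Spec (CommRingCat.of k)).residueField s))))) (g : X ⟶ Red.geomFibre s G)
        (x : X ⟶ R), ∃ x' : X ⟶ R, g * (x ≫ r) * g⁻¹ = x' ≫ r) ∧
      (∀ (X : Over (Spec (CommRingCat.of (AlgebraicClosure ((Spec (CommRingCat.of k)).residueField s))))) (g : X ⟶ Red.geomFibre s G),
        g ≫ (Over.pullback (Red.geomPt s)).map u = 1 → ∃ x : X ⟶ R, x ≫ r = g)) :
    (∀ (B' : Over (Spec (CommRingCat.of k))) [GrpObj B'] (b' : B' ⟶ G'), (IsMonHom b' ∧ Mono b' ∧ Smooth B'.hom ∧ QuasiCompact B'.hom ∧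
      ∀ s : ↥(Spec (CommRingCat.of k)), Red.IsBorelOver (AlgebraicClosure ((Spec (CommRingCat.of k)).residueField s)) ((Over.pullback (Red.geomPt s)).map b')) →
      ∀ (B : Over (Spec (CommRingCat.of k))) [GrpObj B] (b : B ⟶ G) [IsMonHom b] (v : B ⟶ B') [IsMonHom v], IsPullback b v u b' →
      (IsMonHom b ∧ Mono b ∧ Smooth B.hom ∧ QuasiCompact B.hom ∧
      ∀ s : ↥(Spec (CommRingCat.of k)), Red.IsBorelOver (AlgebraicClosure ((Spec (CommRingCat.of k)).residueField s)) ((Over.pullback (Red.geomPt s)).map b))) ∧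
    (∀ (B : Over (Spec (CommRingCat.of k))) [GrpObj B] (b : B ⟶ G), (IsMonHom b ∧ Mono b ∧ Smooth B.hom ∧ QuasiCompact B.hom ∧
      ∀ s : ↥(Spec (CommRingCat.of k)), Red.IsBorelOver (AlgebraicClosure ((Spec (CommRingCat.of k)).residueField s)) ((Over.pullback (Red.geomPt s)).map b)) →
      ∃ (B' : Over (Spec (CommRingCat.of k))) (_ : GrpObj B') (b' : B' ⟶ G') (v : B ⟶ B'), (IsMonHom b' ∧ Mono b' ∧ Smooth B'.hom ∧ QuasiCompact B'.hom ∧
      ∀ s : ↥(Spec (CommRingCat.of k)), Red.IsBorelOver (AlgebraicClosure ((Spec (CommRingCat.of k)).residueField s)) ((Over.pullback (Red.geomPt s)).map b')) ∧ IsMonHom v ∧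
        IsPullback b v u b') := by
  have hconn : ∀ s : ↥(Spec (CommRingCat.of k)), _root_.IsConnected (G.hom.base ⁻¹' {s}) := fun s => by
    convert isConnected_univ (α := ↥G.left)
    exact Set.eq_univ_of_forall fun x => Subsingleton.elim (α := PrimeSpectrum k) _ _
  have hconn' : ∀ s : ↥(Spec (CommRingCat.of k)), _root_.IsConnected (G'.hom.base ⁻¹' {s}) := fun s => by
    convert isConnected_univ (α := ↥G'.left)
    exact Set.eq_univ_of_forall fun x => Subsingleton.elim (α := PrimeSpectrum k) _ _
  refine ⟨fun B' _ b' hB' B _ b _ v _ H => ?_, fun B _ b hB => ?_⟩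
  · obtain ⟨h1, h2, h3, h4, h5⟩ := hB'
    haveI := h1; haveI := h2; haveI := h3; haveI := h4
    exact Groth.Agent.Lib.SmWeil.BorelRadical.preimage_borel_rad hconn hconn' u hrad b' h5 b v H
  · obtain ⟨h1, h2, h3, h4, h5⟩ := hB
    haveI := h1; haveI := h2; haveI := h3; haveI := h4
    exact Groth.Agent.Lib.SmWeil.BorelRadical.image_borel_rad hconn hconn' u hrad b h5

end Groth.Agent.S12061
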