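import Groth.Statements.S12066
import Groth.Agent.S0238

set_option autoImplicit false
universe u
open CategoryTheory CategoryTheory.Limits AlgebraicGeometry
open FSch

namespace Groth.Agent.S12066

noncomputable section

variable {𝔛 : FSch.Sys.{u}}

/-- The cartesian square of an etale cover of a system, as an isomorphism. -/
def sqIso (R : EtCov 𝔛) (n : ℕ) :
    R.obj.left.X n ≅ pullback ((R.obj.hom : Hom _ _).app (n + 1)) (𝔛.ι n) :=
  (R.property.1 n).isoPullback

lemma sqIso_hom_fst (R : EtCov 𝔛) (n : ℕ) :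
    (sqIso R n).hom ≫ pullback.fst _ _ = R.obj.left.ι n :=
  (R.property.1 n).isoPullback_hom_fst

lemma sqIso_hom_snd (R : EtCov 𝔛) (n : ℕ) :
    (sqIso R n).hom ≫ pullback.snd _ _ = (R.obj.hom : Hom _ _).app n :=
  (R.property.1 n).isoPullback_hom_snd

lemma app_w {R R' : EtCov 𝔛} (φ : R ⟶ R') (n : ℕ) :
    (φ.hom.left : Hom _ _).app n ≫ (R'.obj.hom : Hom _ _).app n = (R.obj.hom : Hom _ _).app n := by
  rw [← comp_app, Over.w φ.hom]

section Full

variable {R R' : EtCov 𝔛} (n : ℕ) [(FEt.restrict (𝔛.ι n)).Full]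
  (f : R.obj.left.X n ⟶ R'.obj.left.X n)
  (hf : f ≫ (R'.obj.hom : Hom _ _).app n = (R.obj.hom : Hom _ _).app n)

/-- The given morphism at level `n`, as a morphism of the base changes of level `n + 1`. -/
def base : (FEt.restrict (𝔛.ι n)).obj ((EtCov.level 𝔛 (n + 1)).obj R) ⟶
    (FEt.restrict (𝔛.ι n)).obj ((EtCov.level 𝔛 (n + 1)).obj R') :=
  MorphismProperty.Over.homMk ((sqIso R n).inv ≫ f ≫ (sqIso R' n).hom) (by
    show ((sqIso R n).inv ≫ f ≫ (sqIso R' n).hom) ≫ pullback.snd _ _ = pullback.snd _ _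
    rw [Category.assoc, Category.assoc, sqIso_hom_snd, hf, ← sqIso_hom_snd R n, Iso.inv_hom_id_assoc])

/-- The lift to level `n + 1`. -/
def next : R.obj.left.X (n + 1) ⟶ R'.obj.left.X (n + 1) :=
  ((FEt.restrict (𝔛.ι n)).preimage (base n f hf)).left

lemma next_w : next n f hf ≫ (R'.obj.hom : Hom _ _).app (n + 1) = (R.obj.hom : Hom _ _).app (n + 1) :=
  Over.w ((FEt.restrict (𝔛.ι n)).preimage (base n f hf)).hom

lemma next_comm : f ≫ R'.obj.left.ι n = R.obj.left.ι n ≫ next n f hf := by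
  have h := congrArg (fun m => m.left) ((FEt.restrict (𝔛.ι n)).map_preimage (base n f hf))
  have h' : ((FEt.restrict (𝔛.ι n)).map ((FEt.restrict (𝔛.ι n)).preimage (base n f hf))).left ≫
      pullback.fst _ _ = pullback.fst _ _ ≫ next n f hf := pullback.lift_fst _ _ _
  have h'' : pullback.fst _ _ ≫ next n f hf =
      ((sqIso R n).inv ≫ f ≫ (sqIso R' n).hom) ≫ pullback.fst _ _ :=
    h'.symm.trans (congrArg (fun m => m ≫ pullback.fst _ _) h)
  rw [← sqIso_hom_fst R n, Category.assoc, h'', Category.assoc, Category.assoc, sqIso_hom_fst,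
    Iso.hom_inv_id_assoc]

end Full

theorem full (h : ∀ n, (FEt.restrict (𝔛.ι n)).IsEquivalence) : (EtCov.level 𝔛 0).Full := by
  refine ⟨fun {R R'} f0 => ?_⟩
  haveI := fun n => (h n)
  let F : ∀ n, {f : R.obj.left.X n ⟶ R'.obj.left.X n //
      f ≫ (R'.obj.hom : Hom _ _).app n = (R.obj.hom : Hom _ _).app n} := fun n =>
    Nat.rec ⟨f0.left, Over.w f0.hom⟩ (fun n f => ⟨next n f.1 f.2, next_w n f.1 f.2⟩) n
  let φ : R.obj.left ⟶ R'.obj.left := ⟨fun n => (F n).1, fun n => next_comm n (F n).1 (F n).2⟩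
  refine ⟨ObjectProperty.homMk (Over.homMk φ (FSch.Hom.ext (funext fun n => (F n).2))), ?_⟩
  ext
  rfl

theorem faithful (h : ∀ n, (FEt.restrict (𝔛.ι n)).IsEquivalence) : (EtCov.level 𝔛 0).Faithful := by
  refine ⟨fun {R R'} φ ψ h0 => ?_⟩
  haveI := fun n => (h n)
  have key : ∀ n, (φ.hom.left : Hom _ _).app n = (ψ.hom.left : Hom _ _).app n := by
    intro n
    induction n with
    | zero => exact congrArg (fun m => m.left) h0
    | succ n ih =>
      have e : (FEt.restrict (𝔛.ι n)).map ((EtCov.level 𝔛 (n + 1)).map φ) =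
          (FEt.restrict (𝔛.ι n)).map ((EtCov.level 𝔛 (n + 1)).map ψ) := by
        apply MorphismProperty.Over.Hom.ext
        apply pullback.hom_ext
        · refine (pullback.lift_fst _ _ _).trans (Eq.trans ?_ (pullback.lift_fst _ _ _).symm)
          show pullback.fst _ _ ≫ (φ.hom.left : Hom _ _).app (n + 1) =
            pullback.fst _ _ ≫ (ψ.hom.left : Hom _ _).app (n + 1)
          have hcar : pullback.fst _ _ = (sqIso R n).inv ≫ R.obj.left.ι n := by
            rw [← sqIso_hom_fst R n, Iso.inv_hom_id_assoc]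
          have key' : ∀ (χ : R ⟶ R'), pullback.fst _ _ ≫ (χ.hom.left : Hom _ _).app (n + 1) =
              (sqIso R n).inv ≫ (χ.hom.left : Hom _ _).app n ≫ R'.obj.left.ι n := fun χ =>
            (congrArg (fun m => m ≫ (χ.hom.left : Hom _ _).app (n + 1)) hcar).trans
              ((Category.assoc _ _ _).trans
                (congrArg (fun m => (sqIso R n).inv ≫ m) ((χ.hom.left : Hom _ _).comm n).symm))
          exact (key' φ).trans ((congrArg (fun m => (sqIso R n).inv ≫ m ≫ R'.obj.left.ι n) ih).trans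
            (key' ψ).symm)
        · exact (pullback.lift_snd _ _ _).trans (pullback.lift_snd _ _ _).symm
      exact congrArg (fun m => m.left) ((FEt.restrict (𝔛.ι n)).map_injective e)
  apply ObjectProperty.hom_ext
  apply Over.OverMorphism.ext
  exact FSch.Hom.ext (funext key)

theorem essSurj (h : ∀ n, (FEt.restrict (𝔛.ι n)).IsEquivalence) : (EtCov.level 𝔛 0).EssSurj := by
  refine ⟨fun W0 => ?_⟩
  haveI := fun n => (h n)
  let W : ∀ n, FEt.Cat (𝔛.X n) := fun n =>
    Nat.rec W0 (fun n Wn => (FEt.restrict (𝔛.ι n)).objPreimage Wn) n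
  let e : ∀ n, (FEt.restrict (𝔛.ι n)).obj (W (n + 1)) ≅ W n := fun n =>
    (FEt.restrict (𝔛.ι n)).objObjPreimageIso (W n)
  have hsnd : ∀ n, (e n).inv.left ≫ pullback.snd (W (n + 1)).hom (𝔛.ι n) = (W n).hom := fun n =>
    Over.w (e n).inv.hom
  let T : FSch.Sys.{u} := ⟨fun n => (W n).left, fun n => (e n).inv.left ≫ pullback.fst _ _⟩
  let p : T ⟶ 𝔛 := ⟨fun n => (W n).hom, fun n => by
    show (W n).hom ≫ 𝔛.ι n = ((e n).inv.left ≫ pullback.fst _ _) ≫ (W (n + 1)).hom
    exact ((Category.assoc _ _ _).trans ((congrArg (fun m => (e n).inv.left ≫ m) pullback.condition).trans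
      ((Category.assoc _ _ _).symm.trans (congrArg (fun m => m ≫ 𝔛.ι n) (hsnd n))))).symm⟩
  have had : FSch.IsAdicHom p := fun n => by
    refine (IsPullback.of_hasPullback (W (n + 1)).hom (𝔛.ι n)).of_iso
      ((MorphismProperty.Over.forget _ _ _ ⋙ Over.forget _).mapIso (e n)) (Iso.refl _) (Iso.refl _) (Iso.refl _)
      ?_ ?_ ?_ ?_
    · show pullback.fst _ _ ≫ 𝟙 _ = (e n).hom.left ≫ (e n).inv.left ≫ pullback.fst _ _
      rw [Category.comp_id, ← Category.assoc]
      have : (e n).hom.left ≫ (e n).inv.left = 𝟙 _ := congrArg (fun m => m.left) (e n).hom_inv_id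
      rw [this, Category.id_comp]
    · show pullback.snd _ _ ≫ 𝟙 _ = (e n).hom.left ≫ (W n).hom
      rw [Category.comp_id]
      exact (Over.w (e n).hom.hom).symm
    · simp [p]
    · simp
  refine ⟨⟨Over.mk p, ⟨had, fun n => ⟨(W n).prop.1, (W n).prop.2⟩⟩⟩,
    ⟨MorphismProperty.Over.isoMk (Iso.refl _) ?_⟩⟩
  show 𝟙 W0.left ≫ W0.hom = W0.hom
  rw [Category.id_comp]

end

/-- Let 𝔛 be a locally Noetherian formal scheme with an ideal of definition, presented as the adic
system of its thickenings X_0 → X_1 → ⋯ (each X_n locally Noetherian). Then the functor "fibre over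
X_0", from the category of étale covers of 𝔛 (adic systems R_n → X_n of finite étale covers) to the
category of finite étale covers of the scheme X_0, is an equivalence of categories. -/
theorem result (𝔛 : FSch.Sys.{u}) (h𝔛 : 𝔛.IsLocNoethFormal) :
    (FSch.EtCov.level 𝔛 0).IsEquivalence := by
  have h : ∀ n, (FEt.restrict (𝔛.ι n)).IsEquivalence := fun n => by
    haveI := (h𝔛.1 n).1
    haveI : Surjective (𝔛.ι n) := ⟨(h𝔛.1 n).2⟩
    exact Groth.Agent.S0238.result (𝔛.ι n)
  haveI := full h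
  haveI := faithful h
  haveI := essSurj h
  exact { }

end Groth.Agent.S12066
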