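import Groth.Statements.S12067
import Groth.Agent.H66.Unip
-- import your own Groth.Agent.* helpers here

set_option autoImplicit false
universe u
open TensorProduct
open SGA3t2b

namespace Groth.Agent.S12067

/-- In Hopf-algebra form, let k be a field and A a finitely generated commutative Hopf algebra over k
(an affine algebraic group G) which is unipotent: every nonzero finite-dimensional comodule has a
nonzero fixed vector. Then every finite-dimensional comodule V (a finite-dimensional representation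
of G), of dimension n, has a flag of subcomodules 0 = V_0 ⊂ V_1 ⊂ ⋯ ⊂ V_n = V with one-dimensional
successive quotients on which G acts trivially: for v ∈ V_(i+1) the coaction of v is congruent to v
⊗ 1 modulo V_i ⊗ A. -/
theorem result (k : Type u) [Field k] (A : Type u) [CommRing A]
    [HopfAlgebra k A] [Algebra.FiniteType k A] (hU : HopfRep.IsUnipotent k A)
    (V : Type u) [AddCommGroup V] [Module k V] [HopfRep.Comod k A V] [Module.Finite k V] :
    ∃ F : Fin (Module.finrank k V + 1) → Submodule k V,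
      F 0 = ⊥ ∧ F (Fin.last _) = ⊤ ∧
      (∀ i : Fin (Module.finrank k V + 1), HopfRep.IsSubcomod (k := k) (A := A) (F i)) ∧
      ∀ i : Fin (Module.finrank k V), F i.castSucc ≤ F i.succ ∧
        Module.finrank k ↥(F i.succ) = Module.finrank k ↥(F i.castSucc) + 1 ∧
        ∀ v ∈ F i.succ, HopfRep.Comod.coact (k := k) (A := A) v - v ⊗ₜ[k] (1 : A) ∈
          LinearMap.range ((F i.castSucc).subtype.rTensor A) := by
  classical
  have step : ∀ U : Submodule k V, HopfRep.IsSubcomod (k := k) (A := A) U → U ≠ ⊤ →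
      ∃ U' : Submodule k V, U ≤ U' ∧ HopfRep.IsSubcomod (k := k) (A := A) U' ∧
        Module.finrank k U' = Module.finrank k U + 1 ∧
        ∀ v ∈ U', ∀ φ : A →ₗ[k] k, Lib.Comod.Basic.dact V φ v - φ 1 • v ∈ U := by
    intro U hU' hne
    letI := Lib.Comod.Basic.quotComod U hU'
    haveI : Nontrivial (V ⧸ U) := Submodule.Quotient.nontrivial_iff.2 hne
    obtain ⟨q, hq, hq0⟩ := Submodule.exists_mem_ne_zero_of_ne_bot (H66.Unip.exists_fixed hU (V ⧸ U))
    obtain ⟨x, rfl⟩ := U.mkQ_surjective q
    have hx : x ∉ U := fun hx => hq0 ((Submodule.Quotient.mk_eq_zero U).2 hx)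
    have hfix : ∀ φ : A →ₗ[k] k, Lib.Comod.Basic.dact V φ x - φ 1 • x ∈ U := fun φ => by
      rw [← Submodule.Quotient.mk_eq_zero, ← Submodule.mkQ_apply, map_sub, map_smul,
        Lib.Comod.Basic.map_dact (Lib.Comod.Basic.isComodHom_mkQ hU') φ,
        Lib.Comod.Reynolds.mem_fixedPts_iff.1 hq φ, sub_self]
    have hd : ∀ v ∈ U ⊔ Submodule.span k {x}, ∀ φ : A →ₗ[k] k, Lib.Comod.Basic.dact V φ v - φ 1 • v ∈ U := by
      intro v hv φ
      obtain ⟨u, hu, y, hy, rfl⟩ := Submodule.mem_sup.1 hv
      obtain ⟨c, rfl⟩ := Submodule.mem_span_singleton.1 hy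
      rw [map_add, smul_add, map_smul, smul_comm (φ 1) c, add_sub_add_comm, ← smul_sub]
      exact U.add_mem (U.sub_mem (Lib.Comod.Basic.dact_mem hU' φ hu) (U.smul_mem _ hu)) (U.smul_mem _ (hfix φ))
    refine ⟨U ⊔ Submodule.span k {x}, le_sup_left, ?_, ?_, hd⟩
    · refine (Lib.Comod.Basic.isSubcomod_iff _).2 fun φ v hv => ?_
      have := Submodule.add_mem _ (le_sup_left (b := Submodule.span k {x}) (hd v hv φ)) (Submodule.smul_mem _ (φ 1) hv)
      rwa [sub_add_cancel] at this
    · have hdis : Disjoint U (Submodule.span k {x}) :=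
        Submodule.disjoint_span_singleton.2 fun h => absurd h hx
      have h1 := Submodule.finrank_sup_add_finrank_inf_eq U (Submodule.span k {x})
      rw [hdis.eq_bot, finrank_bot, add_zero, finrank_span_singleton (fun h : x = 0 => hx (h ▸ U.zero_mem))] at h1
      exact h1
  choose! nxt hle hsub hdim hfx using step
  let G : ℕ → Submodule k V := fun n => Nat.rec (motive := fun _ => Submodule k V) ⊥ (fun _ U => nxt U) n
  have hG : ∀ n, n ≤ Module.finrank k V →
      HopfRep.IsSubcomod (k := k) (A := A) (G n) ∧ Module.finrank k ↥(G n) = n := by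
    intro n
    induction n with
    | zero => exact fun _ => ⟨Lib.Comod.Basic.isSubcomod_bot, finrank_bot k V⟩
    | succ n ih =>
      intro hn
      obtain ⟨h1, h2⟩ := ih (Nat.le_of_succ_le hn)
      have hne : G n ≠ ⊤ := fun h => by rw [h, finrank_top] at h2; omega
      exact ⟨hsub _ h1 hne, (hdim _ h1 hne).trans (by rw [h2])⟩
  refine ⟨fun i => G i, rfl, Submodule.eq_top_of_finrank_eq (hG _ le_rfl).2,
    fun i => (hG i (Nat.le_of_lt_succ i.2)).1, fun i => ?_⟩
  obtain ⟨h1, h2⟩ := hG i i.2.le
  have hne : G i ≠ ⊤ := fun h => by rw [h, finrank_top] at h2; have := i.2; omega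
  refine ⟨hle _ h1 hne, hdim _ h1 hne, fun v hv => (Lib.Comod.Basic.mem_range_rTensor_iff _ _).2 fun φ => ?_⟩
  rw [map_sub, Lib.Comod.Basic.contract_tmul]
  exact hfx _ h1 hne v hv φ

end Groth.Agent.S12067
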