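import Groth.Statements.S1207
import Mathlib.Tactic.LinearCombination
import Mathlib.RingTheory.Finiteness.Ideal
import Mathlib.RingTheory.Ideal.Operations
import Mathlib.RingTheory.LocalRing.MaximalIdeal.Basic

set_option autoImplicit false
universe u
open FlatMor

namespace Groth.Agent.S1207

/-- Let A be a local ring and I, J ideals of A with J finitely generated, J ≠ A, and I ⊆ J^n for all n ≥
1. Then every prime p not containing J which is maximal among the primes not containing J (a closed
point of Spec A ∖ V(J)) contains I. (The published statement leaves the hypothesis J ≠ A implicit;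
for J = A the assertion fails.) -/
theorem result (A : Type u) [CommRing A] [IsLocalRing A] (I J : Ideal A) (hJ : J.FG) (hJ1 : J ≠ ⊤)
    (hI : ∀ n : ℕ, 1 ≤ n → I ≤ J ^ n) (p : Ideal A) [p.IsPrime] (hp : ¬ J ≤ p)
    (hmax : ∀ (p' : Ideal A), p'.IsPrime → p ≤ p' → ¬ J ≤ p' → p' = p) : I ≤ p := by
  intro a ha
  by_contra hap
  have hrad : J ≤ (p ⊔ Ideal.span {a}).radical := by
    intro x hx
    rw [Ideal.radical_eq_sInf, Submodule.mem_sInf]
    rintro q ⟨hq, hqprime⟩
    by_contra hxq
    have := hmax q hqprime (le_sup_left.trans hq) fun h => hxq (h hx)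
    exact hap (this ▸ hq (Ideal.mem_sup_right (Ideal.mem_span_singleton_self a)))
  obtain ⟨n, hn⟩ := Ideal.exists_pow_le_of_le_radical_of_fg hrad hJ
  have h1 : a ∈ (p ⊔ Ideal.span {a}) * J := by
    have := hI (n + 1) (Nat.le_add_left 1 n) ha
    rw [pow_succ] at this
    exact Ideal.mul_mono hn le_rfl this
  rw [Ideal.sup_mul, Submodule.mem_sup] at h1
  obtain ⟨y, hy, z, hz, hyz⟩ := h1
  obtain ⟨j, hj, rfl⟩ := Ideal.mem_span_singleton_mul.1 hz
  have h2 : a * (1 - j) ∈ p := by
    have : y = a * (1 - j) := by linear_combination hyz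
    rw [← this]; exact Ideal.mul_le_left hy
  exact ((‹p.IsPrime›.mem_or_mem h2).resolve_left hap |>
    fun h => (IsLocalRing.maximalIdeal.isMaximal A).ne_top <| (Ideal.eq_top_iff_one _).2 <| by
      have := Ideal.add_mem _ (IsLocalRing.le_maximalIdeal ‹p.IsPrime›.ne_top h)
        (IsLocalRing.le_maximalIdeal hJ1 hj)
      simpa using this)


end Groth.Agent.S1207
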