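import Groth.Statements.S12071
import Mathlib.GroupTheory.SpecificGroups.Dihedral
import Mathlib.GroupTheory.Archimedean
import Mathlib.RingTheory.Int.Basic

set_option autoImplicit false
open RootD

namespace Groth.Agent.S12071

/-- Let G be the group generated by two elements x, y subject to x² = y² = 1 (the infinite dihedral
group; here Mathlib's DihedralGroup 0 with x = sr 0 and y = sr 1, so that x y = r 1). Then every
normal subgroup of G containing neither x nor y is generated by an element (x y)^n with n > 0; such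
a subgroup is cyclic, generated by r n. (The published statement does not exclude the trivial
subgroup, for which no n > 0 works; this row assumes the subgroup nontrivial.) -/
theorem result (N : Subgroup (DihedralGroup 0)) [N.Normal]
    (hN : N ≠ ⊥) (hx : DihedralGroup.sr (0 : ZMod 0) ∉ N) (hy : DihedralGroup.sr (1 : ZMod 0) ∉ N) :
    ∃ n : ℕ, 0 < n ∧ N = Subgroup.zpowers (DihedralGroup.r (n : ZMod 0)) := by
  have hconj : ∀ k i : ZMod 0, DihedralGroup.sr i ∈ N → DihedralGroup.sr (i - 2 * k) ∈ N := by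
    intro k i h
    have h2 := Subgroup.Normal.conj_mem ‹N.Normal› _ h (DihedralGroup.r k)
    rw [DihedralGroup.inv_r, DihedralGroup.r_mul_sr, DihedralGroup.sr_mul_r] at h2
    have e : i - k + -k = i - 2 * k := by ring
    rwa [e] at h2
  have hrot : ∀ x ∈ N, ∃ k : ℤ, x = DihedralGroup.r (k : ZMod 0) := by
    intro x hx'
    cases x with
    | r k => exact ⟨k, rfl⟩
    | sr i =>
      exfalso
      have key : ∀ z : ℤ, ∃ t : ℤ, z - 2 * t = 0 ∨ z - 2 * t = 1 := fun z => ⟨z / 2, by lia⟩
      obtain ⟨t, ht⟩ : ∃ t : ZMod 0, i - 2 * t = 0 ∨ i - 2 * t = 1 := key i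
      have := hconj t i hx'
      rcases ht with ht | ht <;> rw [ht] at this
      · exact hx this
      · exact hy this
  let A : AddSubgroup ℤ :=
    { carrier := {k | DihedralGroup.r (k : ZMod 0) ∈ N}
      zero_mem' := by simpa using N.one_mem
      add_mem' := fun {a b} ha hb => by
        have := N.mul_mem ha hb
        rw [DihedralGroup.r_mul_r] at this
        simpa using this
      neg_mem' := fun {a} ha => by
        have := N.inv_mem ha
        rw [DihedralGroup.inv_r] at this
        simpa using this }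
  obtain ⟨a, ha⟩ := Int.subgroup_cyclic A
  have hA : ∀ k : ℤ, k ∈ A ↔ a ∣ k := fun k => by
    rw [ha, AddSubgroup.mem_closure_singleton]
    exact ⟨fun ⟨n, hn⟩ => ⟨n, by rw [← hn, smul_eq_mul, mul_comm]⟩,
      fun ⟨n, hn⟩ => ⟨n, by rw [hn, smul_eq_mul, mul_comm]⟩⟩
  have ha0 : a ≠ 0 := by
    rintro rfl
    refine hN ((Subgroup.eq_bot_iff_forall _).mpr fun x hx' => ?_)
    obtain ⟨k, rfl⟩ := hrot x hx'
    have : k = 0 := zero_dvd_iff.mp ((hA k).mp hx')
    subst this
    simp
  refine ⟨a.natAbs, Int.natAbs_pos.mpr ha0, ?_⟩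
  ext x
  constructor
  · intro hx'
    obtain ⟨k, rfl⟩ := hrot x hx'
    obtain ⟨c, hc⟩ := Int.natAbs_dvd.mpr ((hA k).mp hx')
    refine Subgroup.mem_zpowers_iff.mpr ⟨c, ?_⟩
    rw [DihedralGroup.r_zpow, hc]
    simp only [Int.cast_mul, Int.cast_natCast]
  · intro hx'
    obtain ⟨c, rfl⟩ := Subgroup.mem_zpowers_iff.mp hx'
    refine Subgroup.zpow_mem N ?_ c
    have : (a.natAbs : ℤ) ∈ A := (hA _).mpr (Int.dvd_natAbs.mpr dvd_rfl)
    change DihedralGroup.r (((a.natAbs : ℤ)) : ZMod 0) ∈ N at this
    rwa [Int.cast_natCast] at this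

end Groth.Agent.S12071
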