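import Groth.Statements.S12074
import Groth.Agent.Lib.LefAmple.RelMod
import Groth.Agent.Lib.LefAmple.TensorSeq
import Groth.Agent.Lib.DepthTwist.Zero
import Groth.Agent.Lib.LefNFlat.Lef
import Groth.Agent.S8914

set_option autoImplicit false
universe u
open CategoryTheory CategoryTheory.Limits AlgebraicGeometry
open Lef

namespace Groth.Agent.S12074

/-- Let A be a Noetherian ring, X a proper A-scheme and 𝓘 a quasi-coherent ideal whose ideal module is
invertible with ample inverse L (so 𝓘 is the ideal of the zero scheme Y of a section t of L and X is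
projective over A). Let F be a coherent O_X-module, flat over A, such that t is F-regular (the map 𝓘
⊗ F → O_X ⊗ F is a monomorphism), and assume that for every point s of Spec A the restriction F_s of
F to the fibre X_s has depth > n at each closed point of the fibre. Then the canonical map from
H^i(X, F), written as H^i(X, O_X ⊗ F), to the inverse limit of the H^i(X, (O_X/𝓘^(m+1)) ⊗ F), the
transition maps being induced by the quotient maps, is injective for i ≤ n and surjective for i < n.
(The published statement is over a Noetherian base scheme and factors this map through the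
cohomology of the formal completion along Y, the comparison of the latter with the inverse limit
being stated for an affine base; this row composes the two over an affine base. The depth hypothesis
is read at the closed points of the fibres, as in the proof. The case F = O_X is a separate row.) -/
theorem result (A : Type u) [CommRing A]
    [IsNoetherianRing A] (X : Scheme.{u}) [X.Over (Spec (CommRingCat.of A))] [IsProper (X ↘ Spec (CommRingCat.of A))]
    (𝓘 : X.IdealSheafData) (L : X.Modules) (hL : ClSub.IsInverseOf L (ClSub.idealMod 𝓘)) (hamp : CohB1.IsAmple L)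
    (F : X.Modules) (hF : Coh.IsCoh F) (hflat : FlatMod.IsFlatOver (X ↘ Spec (CommRingCat.of A)) F)
    (hreg : Mono ((DCoh.tensorBi.map (ClSub.idealModι 𝓘)).app F))
    (n : ℕ)
    (hdepth : ∀ x : X, IsClosed ({((X ↘ Spec (CommRingCat.of A))).asFiber x} : Set ↥(((X ↘ Spec (CommRingCat.of A))).fiber (((X ↘ Spec (CommRingCat.of A))).base x))) →
      (n : ℕ∞) < LocCoh.depth (CInt.fiberStalk (X ↘ Spec (CommRingCat.of A)) x)
        ((CohIII.fiberMod (X ↘ Spec (CommRingCat.of A)) F (((X ↘ Spec (CommRingCat.of A))).base x)).presheaf.stalk (((X ↘ Spec (CommRingCat.of A))).asFiber x)))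
    (i : ℕ) :
    (i ≤ n → ∀ x : Coh.HH X ((DCoh.tensorBi.obj (Coh.structureModule X)).obj F) i,
      (∀ m : ℕ, Sheaf.H.map ((SheafOfModules.toSheaf X.ringCatSheaf).map
        ((DCoh.tensorBi.map (ClSub.toSubscheme (𝓘 ^ (m + 1)))).app F)) i x = 0) → x = 0) ∧
    (i < n → ∀ y : (∀ m : ℕ, Coh.HH X ((DCoh.tensorBi.obj (ClSub.quotMod (𝓘 ^ (m + 1)))).obj F) i),
      (∀ m : ℕ, Sheaf.H.map ((SheafOfModules.toSheaf X.ringCatSheaf).map
        ((DCoh.tensorBi.map (Lef.quotMap (Lef.pow_succ_le 𝓘 m))).app F)) i (y (m + 1)) = y m) →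
      ∃ x : Coh.HH X ((DCoh.tensorBi.obj (Coh.structureModule X)).obj F) i,
        ∀ m : ℕ, Sheaf.H.map ((SheafOfModules.toSheaf X.ringCatSheaf).map
          ((DCoh.tensorBi.map (ClSub.toSubscheme (𝓘 ^ (m + 1)))).app F)) i x = y m) := by
  let p := X ↘ Spec (CommRingCat.of A)
  haveI : IsNoetherianRing (CommRingCat.of A : CommRingCat.{u}) := ‹_›
  haveI : IsLocallyNoetherian X := LocallyOfFiniteType.isLocallyNoetherian p
  haveI : CompactSpace X := QuasiCompact.compactSpace_of_compactSpace p
  haveI : IsNoetherian X := ⟨⟩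
  have hL' := hL
  obtain ⟨eD⟩ := hL'
  have hMi : PicF.IsInvertible (ClSub.idealMod 𝓘) :=
    Lib.TensorMod.TensorInv.isInvertible_of_tensor_iso
      ((Lib.TensorMod.Basic.comm _ L) ≪≫ eD)
  have hD : BlowUp.IsEffCartierIdeal 𝓘 := (S8914.result 𝓘).1 hMi
  obtain ⟨m₀, hv⟩ := Lib.LefAmple.Rel.exists_vanish_mod A hamp hL hF hflat n hdepth
  let q : ∀ m : ℕ, (DCoh.tensorBi.obj (Coh.structureModule X)).obj F ⟶
      (DCoh.tensorBi.obj (ClSub.quotMod (𝓘 ^ (m + 1)))).obj F := fun m =>
    (DCoh.tensorBi.map (ClSub.toSubscheme (𝓘 ^ (m + 1)))).app F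
  have hs : ∀ m : ℕ, ((Lib.ClSub.Quot.idealSeq (𝓘 ^ (m + 1))).map (Lib.TensorMod.Basic.tensorBy F)).ShortExact :=
    fun m => Lib.LefAmple.TensorSeq.shortExact _ F (Lib.LefAmple.TensorSeq.mono_tensor_pow hD F hreg m)
  have hvE : ∀ m, m₀ ≤ m → ∀ i ≤ n,
      Subsingleton (Coh.HH X (CohB1.tensorMod (ClSub.idealMod (𝓘 ^ (m + 1))) F) i) := by
    intro m hm i hi
    obtain ⟨eP⟩ := Lib.DepthTwist.Zero.nonempty_tensorPow_idealMod hD m
    haveI := hv (m + 1) (by omega) i hi
    exact (Lib.Curves.LES.isoK A (Lib.TensorMod.Basic.tensorIso eP.symm (Iso.refl F)) i).injective.subsingleton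
  have hinj : ∀ m, m₀ ≤ m → ∀ i ≤ n, Function.Injective (Lib.Curves.LES.mapK A (q m) i) := by
    intro m hm i hi a b hab
    refine sub_eq_zero.1 ?_
    obtain ⟨z, hz⟩ := (Lib.Curves.LES.exactK₂ A (hs m) i (a - b)).1
      (show Lib.Curves.LES.mapK A (q m) i (a - b) = 0 by rw [map_sub, hab, sub_self])
    rw [← hz, @Subsingleton.elim _ (hvE m hm i hi) z 0]
    exact map_zero _
  refine ⟨fun hi x hx => hinj m₀ le_rfl i hi ((hx m₀).trans (map_zero _).symm), fun hi y hy => ?_⟩
  have hsur : ∀ m, m₀ ≤ m → Function.Surjective (Lib.Curves.LES.mapK A (q m) i) := fun m hm z =>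
    (Lib.Curves.LES.exactK₃ A (hs m) i (i + 1) rfl z).1
      (@Subsingleton.elim _ (hvE m hm (i + 1) hi) _ _)
  have step : ∀ (m : ℕ) (χ : Coh.HH X ((DCoh.tensorBi.obj (Coh.structureModule X)).obj F) i),
      Sheaf.H.map ((SheafOfModules.toSheaf X.ringCatSheaf).map (q (m + 1))) i χ = y (m + 1) →
      Sheaf.H.map ((SheafOfModules.toSheaf X.ringCatSheaf).map (q m)) i χ = y m := by
    intro m χ hχ
    have hq : q m = q (m + 1) ≫ (DCoh.tensorBi.map (Lef.quotMap (Lef.pow_succ_le 𝓘 m))).app F := by
      rw [← NatTrans.comp_app, ← Functor.map_comp, Lib.LefNFlat.toSubscheme_quotMap]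
    rw [← hy m, ← hχ, hq]
    exact (congrArg (fun g => Sheaf.H.map g i χ) (Functor.map_comp _ _ _)).trans (Sheaf.H.map_comp_apply _ _ _)
  obtain ⟨x, hx⟩ := hsur m₀ le_rfl (y m₀)
  refine ⟨x, fun m => ?_⟩
  rcases le_total m₀ m with hm | hm
  · induction m, hm using Nat.le_induction with
    | base => exact hx
    | succ m hm ih =>
      obtain ⟨χ, hχ⟩ := hsur (m + 1) (by omega) (y (m + 1))
      have : χ = x := hinj m hm i hi.le ((step m χ hχ).trans ih.symm)
      exact this ▸ hχ
  · exact Nat.decreasingInduction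
      (motive := fun j _ => Sheaf.H.map ((SheafOfModules.toSheaf X.ringCatSheaf).map (q j)) i x = y j)
      (fun j _ hj => step j x hj) hx hm

end Groth.Agent.S12074
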