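import Groth.Statements.S12076
import Mathlib.LinearAlgebra.RootSystem.Base
import Mathlib.Data.Prod.Lex
import Mathlib.Algebra.Order.Group.PiLex
import Mathlib.Algebra.Order.Monoid.Prod
import Mathlib.Order.PiLex

set_option autoImplicit false
open RootD

namespace Groth.Agent.S12076

/-- Let Δ be a system of simple roots (a base b of a root pairing P over ℤ) and Γ₀ the subgroup
generated by the roots. Then Γ₀ has a structure of totally ordered group for which the roots > 0 are
exactly the positive roots defined by Δ and for which the height (the additive function with value 1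
on each simple root) is monotone. The order is given here by its positive cone C ⊆ Γ₀: 0 ∉ C, C + C
⊆ C, and for every x ≠ 0 exactly one of x, −x lies in C (x < y meaning y − x ∈ C). -/
theorem result {ι M N : Type*} [AddCommGroup M] [AddCommGroup N]
    (P : RootPairing ι ℤ M N) [Finite ι] (b : P.Base) :
    ∃ C : Set ↥(Submodule.span ℤ (Set.range P.root)),
      0 ∉ C ∧ (∀ x ∈ C, ∀ y ∈ C, x + y ∈ C) ∧ (∀ x, x ≠ 0 → (x ∈ C ∨ -x ∈ C)) ∧ (∀ x ∈ C, -x ∉ C) ∧
      (∀ i : ι, (⟨P.root i, Submodule.subset_span (Set.mem_range_self i)⟩ : ↥(Submodule.span ℤ (Set.range P.root))) ∈ C ↔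
        b.IsPos i) ∧
      ∀ φ : ↥(Submodule.span ℤ (Set.range P.root)) →+ ℤ,
        (∀ j ∈ b.support, φ ⟨P.root j, Submodule.subset_span (Set.mem_range_self j)⟩ = 1) →
        ∀ x y : ↥(Submodule.span ℤ (Set.range P.root)), y - x ∈ C → φ x ≤ φ y := by
  classical
  let e := (Fintype.equivFin b.support).symm
  let B := b.toWeightBasisInt
  let h : ↥(Submodule.span ℤ (Set.range P.root)) →ₗ[ℤ] ℤ := B.constr ℤ (fun _ => (1 : ℤ))
  let ψ : ↥(Submodule.span ℤ (Set.range P.root)) →
      ℤ ×ₗ Lex (Fin (Fintype.card b.support) → ℤ) :=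
    fun x => toLex (h x, toLex fun m => B.repr x (e m))
  have hadd : ∀ x y, ψ (x + y) = ψ x + ψ y := fun x y => by
    simp only [ψ, map_add]
    rfl
  have hneg : ∀ x, ψ (-x) = -ψ x := fun x => by
    simp only [ψ, map_neg]
    rfl
  have hzero : ∀ x, ψ x = 0 → x = 0 := by
    intro x hx
    refine B.repr.injective ?_
    rw [map_zero]
    ext j
    have := congrFun (congrArg ofLex (congrArg Prod.snd (congrArg ofLex hx))) (e.symm j)
    simp [ψ] at this
    exact this.trans rfl
  have hψ0 : ψ 0 = 0 := by
    simp only [ψ, map_zero]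
    rfl
  have hroot : ∀ i, h ⟨P.root i, Submodule.subset_span (Set.mem_range_self i)⟩ = b.height i := by
    intro i
    obtain ⟨f, hf, -, hfe⟩ := b.exists_root_eq_sum_int i
    rw [RootPairing.Base.height_eq_sum hfe]
    have e2 : (⟨P.root i, Submodule.subset_span (Set.mem_range_self i)⟩ :
        ↥(Submodule.span ℤ (Set.range P.root))) = ∑ j : b.support, f j • B j := by
      apply Subtype.ext
      rw [Submodule.coe_sum]
      simp only [B, Submodule.coe_smul_of_tower, RootPairing.Base.coe_toWeightBasisInt_apply]
      rw [Finset.sum_coe_sort b.support (fun j => f j • P.root j)]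
      exact hfe
    rw [e2, map_sum]
    simp only [map_zsmul, h, Module.Basis.constr_basis, smul_eq_mul, mul_one]
    exact Finset.sum_coe_sort b.support f
  refine ⟨{x | 0 < ψ x}, fun h0 => lt_irrefl (0 : ℤ ×ₗ Lex (Fin (Fintype.card b.support) → ℤ))
      (by simpa [hψ0] using h0),
    fun x hx y hy => by
      simp only [Set.mem_ofPred_eq, hadd] at hx hy ⊢
      exact add_pos hx hy,
    fun x hx => by
      simp only [Set.mem_ofPred_eq, hneg, neg_pos]
      rcases lt_trichotomy (ψ x) 0 with h1 | h1 | h1
      · exact Or.inr h1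
      · exact absurd (hzero x h1) hx
      · exact Or.inl h1,
    fun x hx => by
      simp only [Set.mem_ofPred_eq, hneg, neg_pos] at hx ⊢
      exact fun h1 => lt_asymm hx h1,
    fun i => ?_, fun φ hφ x y hxy => ?_⟩
  · simp only [Set.mem_ofPred_eq]
    rw [Prod.Lex.lt_iff]
    have e1 := hroot i
    constructor
    · intro hpos
      rcases hpos with hp | ⟨hp, -⟩
      · change 0 < h _ at hp
        rwa [e1] at hp
      · change 0 = h _ at hp
        rw [e1] at hp
        exact absurd hp.symm (b.height_ne_zero i)
    · intro hp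
      refine Or.inl ?_
      change 0 < h _
      rwa [e1]
  · have hφh : φ.toIntLinearMap = h := B.ext fun j => by
      simp only [h, Module.Basis.constr_basis]
      have : B j = ⟨P.root j, Submodule.subset_span (Set.mem_range_self _)⟩ :=
        Subtype.ext (b.coe_toWeightBasisInt_apply j)
      rw [this]
      exact hφ j j.2
    simp only [Set.mem_ofPred_eq, Prod.Lex.lt_iff] at hxy
    have : 0 ≤ h (y - x) := by
      rcases hxy with hp | ⟨hp, -⟩
      · exact (show 0 < h (y - x) from hp).le
      · exact (show 0 = h (y - x) from hp).le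
    rw [← hφh] at this
    simpa using this

end Groth.Agent.S12076
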