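import Groth.Statements.S12077
import Groth.Agent.H15.AIC

set_option autoImplicit false
universe u
open Polynomial
open CAlg

namespace Groth.Agent.S12077

/-- Every commutative ring `A` admits an injective ring map into an absolutely integrally closed
commutative ring `B`, that is, one over which every monic polynomial is a product of linear factors
`X - b`. (Only the existence of such an extension is stated, not the finer structure of the
construction.) -/
theorem result (A : Type u) [CommRing A] :
    ∃ (B : Type u) (_ : CommRing B) (_ : Algebra A B), Function.Injective (algebraMap A B) ∧
      ∀ f : B[X], f.Monic → ∃ s : Multiset B, f = (s.map fun b => X - C b).prod := by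
  exact Groth.Agent.H15.AIC.main A

end Groth.Agent.S12077
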