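import Groth.Statements.S12078
import Mathlib

set_option autoImplicit false
universe u
open CAlg

namespace Groth.Agent.S12078

/-- An elementary divisor domain is Bézout. Here `R` is a domain such that for all `n, m ≥ 1` and every
`n × m` matrix `A` there are invertible matrices `U` (`n × n`) and `V` (`m × m`) with `U * A * V`
zero off the diagonal and with diagonal entries `f 0 ∣ f 1 ∣ f 2 ∣ …`; the conclusion is that every
finitely generated ideal of `R` is principal. -/
theorem result (R : Type u) [CommRing R] [IsDomain R]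
    (hR : ∀ n m : ℕ, 1 ≤ n → 1 ≤ m → ∀ A : Matrix (Fin n) (Fin m) R,
      ∃ (U : (Matrix (Fin n) (Fin n) R)ˣ) (V : (Matrix (Fin m) (Fin m) R)ˣ) (f : ℕ → R),
        (∀ k : ℕ, f k ∣ f (k + 1)) ∧
        ∀ (i : Fin n) (j : Fin m), ((U : Matrix (Fin n) (Fin n) R) * A * (V : Matrix (Fin m) (Fin m) R)) i j =
          if (i : ℕ) = (j : ℕ) then f i else 0) :
    IsBezout R := by
  rw [IsBezout.iff_span_pair_isPrincipal]
  intro a b
  obtain ⟨U, V, f, -, hUV⟩ := hR 1 2 le_rfl (by omega) !![a, b]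
  set A : Matrix (Fin 1) (Fin 2) R := !![a, b] with hA
  set d := (A * (V : Matrix (Fin 2) (Fin 2) R)) 0 0 with hd
  have h0 : (A * (V : Matrix (Fin 2) (Fin 2) R)) 0 1 = 0 := by
    have hAV : A * (V : Matrix (Fin 2) (Fin 2) R) = ((U⁻¹ : (Matrix (Fin 1) (Fin 1) R)ˣ) : Matrix (Fin 1) (Fin 1) R) *
        ((U : Matrix (Fin 1) (Fin 1) R) * A * (V : Matrix (Fin 2) (Fin 2) R)) := by
      rw [← Matrix.mul_assoc, ← Matrix.mul_assoc, Units.inv_mul, Matrix.one_mul]
    rw [hAV, Matrix.mul_apply, Fin.sum_univ_one, hUV]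
    simp
  refine ⟨d, le_antisymm ?_ ?_⟩
  · have hA' : A = A * (V : Matrix (Fin 2) (Fin 2) R) * ((V⁻¹ : (Matrix (Fin 2) (Fin 2) R)ˣ) : Matrix (Fin 2) (Fin 2) R) := by
      rw [Matrix.mul_assoc, Units.mul_inv, Matrix.mul_one]
    have key : ∀ j, A 0 j ∈ Ideal.span {d} := fun j => by
      rw [hA', Matrix.mul_apply, Fin.sum_univ_two, h0, zero_mul, add_zero]
      exact Ideal.mul_mem_right _ _ (Ideal.subset_span rfl)
    exact Ideal.span_le.mpr (Set.insert_subset_iff.mpr
      ⟨by simpa [hA] using key 0, Set.singleton_subset_iff.mpr (by simpa [hA] using key 1)⟩)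
  · apply Ideal.span_le.mpr
    rw [Set.singleton_subset_iff, SetLike.mem_coe, Ideal.mem_span_pair, hd]
    exact ⟨(V : Matrix (Fin 2) (Fin 2) R) 0 0, (V : Matrix (Fin 2) (Fin 2) R) 1 0, by
      simp [hA, Matrix.mul_apply, Fin.sum_univ_two, mul_comm]⟩

end Groth.Agent.S12078
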