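import Groth.Statements.S6293
import Mathlib.LinearAlgebra.Contraction

set_option autoImplicit false
universe u
open CAlg

open TensorProduct

namespace Groth.Agent.S6293

/-- Let R be a ring and L, M, N R-modules. If M is finite projective, then the natural map from Hom_R(M,
N) ⊗_R L to Hom_R(M, N ⊗_R L) is bijective. -/
theorem result (R : Type u) [CommRing R] (L M N : Type u) [AddCommGroup L] [Module R L] [AddCommGroup M] [Module R M] [AddCommGroup N] [Module R N] [Module.Finite R M] [Module.Projective R M] : Function.Bijective (TensorProduct.rTensorHomToHomRTensor (RingHom.id R) M N L) := by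
  obtain ⟨n, π, hπ⟩ := Module.Finite.exists_fin' R M
  obtain ⟨s, hs⟩ := Module.projective_lifting_property π (LinearMap.id : M →ₗ[R] M) hπ
  let Φ := TensorProduct.rTensorHomToHomRTensor (RingHom.id R) M N L
  let Ψ := TensorProduct.rTensorHomToHomRTensor (RingHom.id R) (Fin n → R) N L
  have hΨ : Function.Bijective Ψ := by
    have := (rTensorHomEquivHomRTensor R (Fin n → R) N L).bijective
    rwa [← LinearEquiv.coe_coe, rTensorHomEquivHomRTensor_toLinearMap] at this
  let a : (M →ₗ[R] N) ⊗[R] L →ₗ[R] ((Fin n → R) →ₗ[R] N) ⊗[R] L :=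
    ((LinearMap.llcomp R (Fin n → R) M N).flip π).rTensor L
  let b : ((Fin n → R) →ₗ[R] N) ⊗[R] L →ₗ[R] (M →ₗ[R] N) ⊗[R] L :=
    ((LinearMap.llcomp R M (Fin n → R) N).flip s).rTensor L
  have hba : ∀ x, b (a x) = x := by
    intro x
    induction x with
    | zero => simp
    | add x y hx hy => simp [map_add, hx, hy]
    | tmul f l =>
      have : (f ∘ₗ π) ∘ₗ s = f := by rw [LinearMap.comp_assoc, hs, LinearMap.comp_id]
      simp only [a, b, LinearMap.rTensor_tmul]
      change ((f ∘ₗ π) ∘ₗ s) ⊗ₜ[R] l = f ⊗ₜ[R] l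
      rw [this]
  have ha : ∀ x, Ψ (a x) = Φ x ∘ₗ π := by
    intro x
    induction x with
    | zero => simp
    | add x y hx hy => simp [map_add, hx, hy, LinearMap.add_comp]
    | tmul f l => ext i; simp [Φ, Ψ, a]
  have hb : ∀ x, Φ (b x) = Ψ x ∘ₗ s := by
    intro x
    induction x with
    | zero => simp
    | add x y hx hy => simp [map_add, hx, hy, LinearMap.add_comp]
    | tmul f l => ext i; simp [Φ, Ψ, b]
  refine ⟨fun x y h => ?_, fun g => ?_⟩
  · have : a x = a y := hΨ.1 (by rw [ha, ha]; exact congrArg (· ∘ₗ π) h)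
    rw [← hba x, this, hba]
  · obtain ⟨x, hx⟩ := hΨ.2 (g ∘ₗ π)
    refine ⟨b x, ?_⟩
    change Φ (b x) = g
    rw [hb, hx, LinearMap.comp_assoc, hs, LinearMap.comp_id]

end Groth.Agent.S6293
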