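import Groth.Statements.S12079
import Groth.Agent.S6293
import Mathlib.Algebra.Module.FinitePresentation
import Mathlib.RingTheory.Flat.Basic

set_option autoImplicit false
universe u
open TensorProduct
open CAlg

namespace Groth.Agent.S12079

/-- For a finitely presented `R`-module `M`, any `R`-module `N` and a flat `R`-module `L`, the canonical
map `Hom_R(M, N) ⊗_R L → Hom_R(M, N ⊗_R L)` sending `f ⊗ l` to `m ↦ f m ⊗ l` is bijective. -/
theorem result (R : Type u) [CommRing R]
    (M N L : Type u) [AddCommGroup M] [Module R M] [AddCommGroup N] [Module R N] [AddCommGroup L] [Module R L]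
    [Module.FinitePresentation R M] [Module.Flat R L] :
    Function.Bijective (TensorProduct.rTensorHomToHomRTensor (RingHom.id R) M N L) := by
  classical
  obtain ⟨n, m, f, g, hf, hfg⟩ := Module.FinitePresentation.exists_fin' R M
  let Θn := TensorProduct.rTensorHomToHomRTensor (RingHom.id R) (Fin n → R) N L
  let Θm := TensorProduct.rTensorHomToHomRTensor (RingHom.id R) (Fin m → R) N L
  let Θ := TensorProduct.rTensorHomToHomRTensor (RingHom.id R) M N L
  have hn : Function.Bijective Θn := Groth.Agent.S6293.result R L (Fin n → R) N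
  have hm : Function.Bijective Θm := Groth.Agent.S6293.result R L (Fin m → R) N
  let a := (LinearMap.lcomp R N f).rTensor L
  let b := (LinearMap.lcomp R N g).rTensor L
  have ha : Function.Injective a := Module.Flat.rTensor_preserves_injective_linearMap _
    fun φ ψ h => LinearMap.ext fun x => by obtain ⟨y, rfl⟩ := hf x; exact LinearMap.congr_fun h y
  have hab : Function.Exact a b := by
    refine Module.Flat.rTensor_exact L fun φ => ⟨fun h => ?_, ?_⟩
    · have hk : LinearMap.ker f ≤ LinearMap.ker φ := by
        intro x hx
        obtain ⟨y, rfl⟩ := (hfg x).mp hx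
        exact LinearMap.congr_fun h y
      refine ⟨((LinearMap.ker f).liftQ φ hk).comp (LinearMap.quotKerEquivOfSurjective f hf).symm.toLinearMap, ?_⟩
      refine LinearMap.ext fun x => ?_
      show (LinearMap.ker f).liftQ φ hk ((LinearMap.quotKerEquivOfSurjective f hf).symm (f x)) = φ x
      rw [← LinearMap.quotKerEquivOfSurjective_apply_mk f hf x, LinearEquiv.symm_apply_apply]
      rfl
    · rintro ⟨ψ, rfl⟩
      refine LinearMap.ext fun y => ?_
      show ψ (f (g y)) = 0
      rw [hfg.apply_apply_eq_zero, map_zero]
  have hca : ∀ t, Θn (a t) = (Θ t).comp f := by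
    intro t
    induction t with
    | zero => simp
    | add x y hx hy => rw [map_add, map_add, map_add, hx, hy, LinearMap.add_comp]
    | tmul φ l => exact LinearMap.ext fun x => by simp [Θn, Θ, a]
  have hcb : ∀ t, Θm (b t) = (Θn t).comp g := by
    intro t
    induction t with
    | zero => simp
    | add x y hx hy => rw [map_add, map_add, map_add, hx, hy, LinearMap.add_comp]
    | tmul φ l => exact LinearMap.ext fun x => by simp [Θn, Θm, b]
  refine ⟨fun x y hxy => ha (hn.1 ?_), fun h => ?_⟩
  · rw [hca, hca, show Θ x = Θ y from hxy]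
  · obtain ⟨t, ht⟩ := hn.2 (h.comp f)
    obtain ⟨t', ht'⟩ := (hab t).mp (hm.1 (by
      rw [hcb, ht, map_zero, LinearMap.comp_assoc, show f.comp g = 0 from LinearMap.ext hfg.apply_apply_eq_zero,
        LinearMap.comp_zero]))
    refine ⟨t', LinearMap.ext fun x => ?_⟩
    obtain ⟨y, rfl⟩ := hf x
    rw [← ht', hca] at ht
    exact LinearMap.congr_fun ht y

end Groth.Agent.S12079
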