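import Groth.Statements.S12081
import Groth.Agent.H48.MilGlue

set_option autoImplicit false
universe u
open TensorProduct
open EtAlg

namespace Groth.Agent.S12081

/-- Let `B' = B ×_A A'` be a fibre square of rings with `A' → A` surjective with kernel `I`, let `J =
Ker(B' → B)`, let `D'` be a `B'`-algebra and `C' = D' ⊗_{B'} A'`. Then the ideal `I C'` is, as a
subset of `C'`, the image of the ideal `J D'` under `D' → C'`; that is, the map `J D' → I C'` is
surjective. -/
theorem result (B' B A' A : Type u) [CommRing B'] [CommRing B] [CommRing A'] [CommRing A]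
    [Algebra B' B] [Algebra B' A'] [Algebra B A] [Algebra A' A] [Algebra B' A] [IsScalarTower B' B A] [IsScalarTower B' A' A]
    (hsq : EtMil.IsFibreSquare B' B A' A)
    (D' C' : Type u) [CommRing D'] [CommRing C'] [Algebra B' D'] [Algebra A' C']
    [Algebra D' C'] [Algebra B' C'] [IsScalarTower B' A' C'] [IsScalarTower B' D' C'] [Algebra.IsPushout B' A' D' C'] :
    (algebraMap D' C') '' ((RingHom.ker (algebraMap B' B)).map (algebraMap B' D') : Set D') =
      ((RingHom.ker (algebraMap A' A)).map (algebraMap A' C') : Set C') := by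
  ext c
  constructor
  · rintro ⟨x, hx, rfl⟩
    change x ∈ Ideal.map _ _ at hx
    refine Ideal.mem_comap.mp ((Ideal.map_le_iff_le_comap.mpr fun j hj => ?_) hx)
    rw [Ideal.mem_comap, Ideal.mem_comap, ← IsScalarTower.algebraMap_apply,
      IsScalarTower.algebraMap_apply B' A' C']
    refine Ideal.mem_map_of_mem _ (RingHom.mem_ker.mpr ?_)
    rw [← IsScalarTower.algebraMap_apply, IsScalarTower.algebraMap_apply B' B A,
      RingHom.mem_ker.mp hj, map_zero]
  · intro hc
    let JD : Ideal D' := (RingHom.ker (algebraMap B' B)).map (algebraMap B' D')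
    change c ∈ Ideal.map _ _ at hc
    have key : ∀ z : C', ∀ i : A', algebraMap A' A i = 0 →
        ∃ x ∈ JD, algebraMap D' C' x = algebraMap A' C' i * z := by
      intro z
      induction z using (Algebra.IsPushout.out (R := B') (S := A') (R' := D') (S' := C')).inductionOn with
      | zero => exact fun i _ => ⟨0, JD.zero_mem, by simp⟩
      | tmul d =>
        intro i hi
        obtain ⟨j, hj, rfl⟩ := Groth.Agent.H48.Mil.exists_of_mem_ker hsq hi
        refine ⟨algebraMap B' D' j * d,
          Ideal.mul_mem_right _ _ (Ideal.mem_map_of_mem _ (RingHom.mem_ker.mpr hj)), ?_⟩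
        rw [map_mul, ← IsScalarTower.algebraMap_apply, ← IsScalarTower.algebraMap_apply]
        rfl
      | smul a z ih =>
        intro i hi
        obtain ⟨x, hx, hxe⟩ := ih (i * a) (by rw [map_mul, hi, zero_mul])
        exact ⟨x, hx, by rw [hxe, map_mul, Algebra.smul_def, mul_assoc]⟩
      | add z₁ z₂ h₁ h₂ =>
        intro i hi
        obtain ⟨x, hx, hxe⟩ := h₁ i hi
        obtain ⟨y, hy, hye⟩ := h₂ i hi
        exact ⟨x + y, JD.add_mem hx hy, by rw [map_add, hxe, hye, mul_add]⟩
    have goal' : ∀ z : C', ∃ x ∈ JD, algebraMap D' C' x = z * c := by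
      induction hc using Submodule.span_induction with
      | mem c hc =>
        obtain ⟨i, hi, rfl⟩ := hc
        intro z
        obtain ⟨x, hx, hxe⟩ := key z i (RingHom.mem_ker.mp hi)
        exact ⟨x, hx, by rw [hxe, mul_comm]⟩
      | zero => exact fun z => ⟨0, JD.zero_mem, by simp⟩
      | add a b _ _ ha hb =>
        intro z
        obtain ⟨x, hx, hxe⟩ := ha z
        obtain ⟨y, hy, hye⟩ := hb z
        exact ⟨x + y, JD.add_mem hx hy, by rw [map_add, hxe, hye, mul_add]⟩
      | smul r a _ ih =>
        intro z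
        obtain ⟨x, hx, hxe⟩ := ih (z * r)
        exact ⟨x, hx, by rw [hxe, smul_eq_mul, mul_assoc]⟩
    obtain ⟨x, hx, hxe⟩ := goal' 1
    exact ⟨x, hx, by rw [hxe, one_mul]⟩

end Groth.Agent.S12081
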