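import Groth.Statements.S12082
import Groth.Agent.H84.GrLC.PolyRing
import Groth.Agent.H20.CMRegular

set_option autoImplicit false
universe u
open Synt

namespace Groth.Agent.S12082

theorem aux {P : Type u} [CommRing P] (I : Ideal P) (q : Ideal (P ⧸ I)) [q.IsPrime] (q' : Ideal P)
    [q'.IsPrime] (hq' : q' = q.comap (Ideal.Quotient.mk I)) (R : Type u) [CommRing R] [Algebra P R]
    [IsLocalization.AtPrime R q'] [LocCoh.IsCohenMacaulayLocalRing R] (c : ℕ) (hc : (c : ℕ∞) + q.height = q'.height)
    (f : Fin c → R) (hf : ∀ i, f i ∈ I.map (algebraMap P R))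
    (hgen : Ideal.span (Set.range f) ⊔ IsLocalRing.maximalIdeal R * I.map (algebraMap P R) =
      I.map (algebraMap P R)) : RingTheory.Sequence.IsRegular R (List.ofFn f) := by
  have hJ : Ideal.span (Set.range f) = (I.map (algebraMap P R)) := by
    refine le_antisymm (Ideal.span_le.2 (by rintro _ ⟨i, rfl⟩; exact hf i)) ?_
    refine Submodule.le_of_le_smul_of_le_jacobson_bot (I := IsLocalRing.maximalIdeal R)
      (IsNoetherian.noetherian (I.map (algebraMap P R))) (by rw [IsLocalRing.jacobson_eq_maximalIdeal ⊥ bot_ne_top]) ?_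
    rw [smul_eq_mul, hgen]
  have hIq : I ≤ q' := fun x hx => by
    rw [hq', Ideal.mem_comap, Ideal.Quotient.eq_zero_iff_mem.2 hx]
    exact q.zero_mem
  have hJm : I.map (algebraMap P R) ≤ IsLocalRing.maximalIdeal R := by
    rw [← IsLocalization.AtPrime.map_eq_maximalIdeal q' R]
    exact Ideal.map_mono hIq
  have hlist : Ideal.ofList (List.ofFn f) = (I.map (algebraMap P R)) := by
    rw [← hJ, Ideal.ofList]
    congr 1
    ext x
    simp [List.mem_ofFn']
  refine Groth.Agent.H20.CMRegular.isRegular_of_ringKrullDim_le _ (fun r hr => hJm (hlist ▸ Ideal.subset_span hr)) ?_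
  rw [hlist, List.length_ofFn]
  let e : (R ⧸ (I.map (algebraMap P R))) ≃+* Localization.AtPrime q := by
    haveI : IsLocalization.AtPrime (R ⧸ (I.map (algebraMap P R))) q := by
      have : Algebra.algebraMapSubmonoid (P ⧸ I) q'.primeCompl = q.primeCompl := by
        ext x
        obtain ⟨y, rfl⟩ := Ideal.Quotient.mk_surjective x
        constructor
        · rintro ⟨z, hz, hzy⟩
          exact fun hy => hz (by subst hq'; change algebraMap P (P ⧸ I) z ∈ q; rw [hzy]; exact hy)
        · exact fun hy => ⟨y, fun h => hy (by subst hq'; exact h), rfl⟩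
      have h := (inferInstance : IsLocalization (Algebra.algebraMapSubmonoid (P ⧸ I) q'.primeCompl) (R ⧸ (I.map (algebraMap P R))))
      rwa [this] at h
    exact (IsLocalization.algEquiv q.primeCompl (R ⧸ (I.map (algebraMap P R))) (Localization.AtPrime q)).toRingEquiv
  rw [ringKrullDim_eq_of_ringEquiv e, IsLocalization.AtPrime.ringKrullDim_eq_height q,
    IsLocalization.AtPrime.ringKrullDim_eq_height q' R, ← hc, add_comm]
  exact_mod_cast le_rfl

/-- Let `S = k[x_1, …, x_n]/I` over a field `k`, `q` a prime of `S` with preimage `q'` in the polynomial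
ring, `c` the natural number with `c + ht(q) = ht(q')`, and `J` the extension of `I` to the local
ring `R = k[x_1, …, x_n]_{q'}`. Any `c` elements of `J` whose images generate `J / q' J` form a
regular sequence in `R`. -/
theorem result (k : Type u) [Field k] (n : ℕ)
    (I : Ideal (MvPolynomial (Fin n) k)) (q : Ideal (MvPolynomial (Fin n) k ⧸ I)) [q.IsPrime] (c : ℕ)
    (hc : (c : ℕ∞) + q.height = (q.comap (Ideal.Quotient.mk I)).height)
    (f : Fin c → Localization.AtPrime (q.comap (Ideal.Quotient.mk I)))
    (hf : ∀ i, f i ∈ I.map (algebraMap _ (Localization.AtPrime (q.comap (Ideal.Quotient.mk I)))))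
    (hgen : Ideal.span (Set.range f) ⊔
        IsLocalRing.maximalIdeal (Localization.AtPrime (q.comap (Ideal.Quotient.mk I))) *
          I.map (algebraMap _ (Localization.AtPrime (q.comap (Ideal.Quotient.mk I)))) =
      I.map (algebraMap _ (Localization.AtPrime (q.comap (Ideal.Quotient.mk I))))) :
    RingTheory.Sequence.IsRegular (Localization.AtPrime (q.comap (Ideal.Quotient.mk I))) (List.ofFn f) := by
  haveI : LocCoh.IsCohenMacaulayLocalRing (Localization.AtPrime (q.comap (Ideal.Quotient.mk I))) :=
    (Groth.Agent.H84.GrLC.PolyRing.cohenMacaulay k n).isCohenMacaulayLocalRing_localization _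
  exact aux I q _ rfl _ c hc f hf hgen

end Groth.Agent.S12082
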