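import Groth.Statements.S12083
import Groth.Agent.H21.RelFP

set_option autoImplicit false
universe u
open CAlg

namespace Groth.Agent.S12083

/-- Let `R → A` be a finite type ring map with a surjective presentation `α : R[x_1, …, x_n] → A` and
`M` an `A`-module finitely presented relative to `R` (finitely presented as an `R[x_1, …,
x_n]`-module through `α`). For a ring map `R → R'` let `A' = R' ⊗_R A` (a pushout square) and `γ :
R'[z_1, …, z_k] → A'` any surjective presentation. Then `A' ⊗_A M = R' ⊗_R M` is finitely presented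
relative to `R'`, i.e. finitely presented as an `R'[z_1, …, z_k]`-module through `γ`. -/
theorem result {R A R' A' : Type u} [CommRing R] [CommRing A] [CommRing R'] [CommRing A']
    [Algebra R A] [Algebra R R'] [Algebra A A'] [Algebra R' A'] [Algebra R A'] [IsScalarTower R A A'] [IsScalarTower R R' A']
    [Algebra.IsPushout R A R' A'] [Algebra.FiniteType R A] (M : Type u) [AddCommGroup M] [Module A M] {n k : ℕ}
    (α : MvPolynomial (Fin n) R →ₐ[R] A) (hα : Function.Surjective α)
    (hM : @Module.FinitePresentation (MvPolynomial (Fin n) R) M _ _ (Module.compHom M α.toRingHom))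
    (γ : MvPolynomial (Fin k) R' →ₐ[R'] A') (hγ : Function.Surjective γ) :
    @Module.FinitePresentation (MvPolynomial (Fin k) R') (TensorProduct A A' M) _ _
      (Module.compHom (TensorProduct A A' M) γ.toRingHom) := by
  let φ : MvPolynomial (Fin n) R →+* MvPolynomial (Fin n) R' := MvPolynomial.map (algebraMap R R')
  let π : MvPolynomial (Fin n) R' →ₐ[R'] A' :=
    MvPolynomial.aeval fun i => algebraMap A A' (α (MvPolynomial.X i))
  have hcomp : ∀ p, π (φ p) = algebraMap A A' (α p) := by
    intro p
    refine RingHom.congr_fun (?_ : π.toRingHom.comp φ = (algebraMap A A').comp α.toRingHom) p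
    refine MvPolynomial.ringHom_ext (fun c => ?_) (fun i => ?_)
    · show π (MvPolynomial.map (algebraMap R R') (MvPolynomial.C c)) = algebraMap A A' (α (MvPolynomial.C c))
      rw [MvPolynomial.map_C]
      show π (algebraMap R' _ (algebraMap R R' c)) = algebraMap A A' (α (algebraMap R _ c))
      rw [π.commutes, α.commutes, ← IsScalarTower.algebraMap_apply, ← IsScalarTower.algebraMap_apply]
    · show π (MvPolynomial.map (algebraMap R R') (MvPolynomial.X i)) = algebraMap A A' (α (MvPolynomial.X i))
      rw [MvPolynomial.map_X]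
      simp [π]
  have hP : Algebra.IsPushout R R' A A' := Algebra.IsPushout.symm ‹_›
  let Ker : Ideal (MvPolynomial (Fin n) R') := (RingHom.ker α).map φ
  let ν : MvPolynomial (Fin n) R →ₐ[R] MvPolynomial (Fin n) R' ⧸ Ker :=
    { (Ideal.Quotient.mk Ker).comp φ with
      commutes' := fun c => by
        show Ideal.Quotient.mk Ker (φ (MvPolynomial.C c)) = _
        rw [show φ (MvPolynomial.C c) = MvPolynomial.C (algebraMap R R' c) from MvPolynomial.map_C _ _,
          IsScalarTower.algebraMap_apply R R' (MvPolynomial (Fin n) R' ⧸ Ker)]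
        rfl }
  let eA : A →ₐ[R] MvPolynomial (Fin n) R' ⧸ Ker :=
    (Ideal.Quotient.liftₐ (RingHom.ker α) ν (fun x hx => Ideal.Quotient.eq_zero_iff_mem.mpr
      (Ideal.mem_map_of_mem φ hx))).comp
      (Ideal.quotientKerAlgEquivOfSurjective hα).symm.toAlgHom
  have heA : ∀ p, eA (α p) = Ideal.Quotient.mk Ker (φ p) := fun p => by
    have h1 : (Ideal.quotientKerAlgEquivOfSurjective hα).symm (α p) =
        Ideal.Quotient.mk (RingHom.ker α) p := by
      rw [AlgEquiv.symm_apply_eq]; rfl
    dsimp only [eA]
    rw [AlgHom.comp_apply]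
    erw [h1]
    rfl
  let e : A' →ₐ[R] MvPolynomial (Fin n) R' ⧸ Ker :=
    Algebra.pushoutDesc (R := R) (S := A) (R' := R') A' eA (IsScalarTower.toAlgHom R R' _)
      (fun _ _ => mul_comm _ _)
  have hker : RingHom.ker π ≤ Ker := fun q hq => by
    rw [← Ideal.Quotient.eq_zero_iff_mem]
    have he : (e.toRingHom.comp π.toRingHom) = Ideal.Quotient.mk Ker := by
      refine MvPolynomial.ringHom_ext (fun c => ?_) (fun i => ?_)
      · show e (π (algebraMap R' _ c)) = _
        rw [π.commutes]
        exact Algebra.pushoutDesc_right _ _ _ _ c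
      · show e (π (MvPolynomial.X i)) = _
        rw [show π (MvPolynomial.X i) = algebraMap A A' (α (MvPolynomial.X i)) by simp [π]]
        refine (Algebra.pushoutDesc_left _ _ _ _ _).trans ?_
        rw [heA]
        show Ideal.Quotient.mk Ker (MvPolynomial.map _ (MvPolynomial.X i)) = _
        rw [MvPolynomial.map_X]
    rw [← he]
    show e (π q) = 0
    rw [RingHom.mem_ker.mp hq, map_zero]
  have hπ : Function.Surjective π := fun y => by
    refine hP.out.inductionOn y _ ⟨0, map_zero _⟩ (fun a => ?_) (fun c z hz => ?_) (fun z z' hz hz' => ?_)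
    · obtain ⟨p, rfl⟩ := hα a
      exact ⟨φ p, hcomp p⟩
    · obtain ⟨q, rfl⟩ := hz
      exact ⟨c • q, map_smul π c q⟩
    · obtain ⟨q, rfl⟩ := hz
      obtain ⟨q', rfl⟩ := hz'
      exact ⟨q + q', map_add _ _ _⟩
  let _ : Algebra (MvPolynomial (Fin n) R) A := α.toRingHom.toAlgebra
  let _ : Algebra (MvPolynomial (Fin n) R) (MvPolynomial (Fin n) R') := φ.toAlgebra
  let _ : Algebra (MvPolynomial (Fin n) R') A' := π.toRingHom.toAlgebra
  let _ : Algebra (MvPolynomial (Fin n) R) A' := ((algebraMap A A').comp α.toRingHom).toAlgebra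
  have : IsScalarTower (MvPolynomial (Fin n) R) A A' := IsScalarTower.of_algebraMap_eq fun _ => rfl
  have : IsScalarTower (MvPolynomial (Fin n) R) (MvPolynomial (Fin n) R') A' :=
    IsScalarTower.of_algebraMap_eq fun p => (hcomp p).symm
  let _ : Module (MvPolynomial (Fin n) R) M := Module.compHom M α.toRingHom
  have : IsScalarTower (MvPolynomial (Fin n) R) A M := IsScalarTower.of_algebraMap_smul fun _ _ => rfl
  have : Module.FinitePresentation (MvPolynomial (Fin n) R) M := hM
  exact (Groth.Agent.H21.RelFP.iff_pres π hπ γ hγ _).1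
    (Groth.Agent.H21.RelFP.baseChange (P := MvPolynomial (Fin n) R) hα hπ hker M)

end Groth.Agent.S12083
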