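import Groth.Statements.S12085
import Groth.Agent.H20.DescentBC
import Mathlib.RingTheory.Extension.Presentation.Core

set_option autoImplicit false
universe u
open TensorProduct
open CAlg

namespace Groth.Agent.S12085

/-- If `R → S` is G-unramified (of finite presentation and formally unramified), then there are a finite
type `ℤ`-algebra `R₀`, a ring map `R₀ → R` and a G-unramified ring map `R₀ → S₀` such that `S ≅ R
⊗_{R₀} S₀` as `R`-algebras (existence of an isomorphism). -/
theorem result (R : Type u) [CommRing R] (S : Type u) [CommRing S]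
    [Algebra R S] [Algebra.FinitePresentation R S] [Algebra.FormallyUnramified R S] :
    ∃ (R₀ : Type u) (_ : CommRing R₀) (_ : Algebra.FiniteType ℤ R₀) (S₀ : Type u) (_ : CommRing S₀)
      (_ : Algebra R₀ S₀) (_ : Algebra.FinitePresentation R₀ S₀) (_ : Algebra.FormallyUnramified R₀ S₀)
      (_ : Algebra R₀ R), Nonempty (R ⊗[R₀] S₀ ≃ₐ[R] S) := by
  classical
  let P := Algebra.Presentation.ofFinitePresentation R S
  let T : Subalgebra ℤ R := Algebra.adjoin ℤ P.coeffs
  have hT : T.FG := ⟨P.finite_coeffs.toFinset, by simp [T]⟩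
  haveI : P.HasCoeffs T := ⟨by simp [T]⟩
  let C₀ := P.ModelOfHasCoeffs T
  haveI : Algebra.FinitePresentation T C₀ := inferInstance
  let ι := {U : Subalgebra ℤ R // U.FG ∧ T ≤ U}
  letI alg : ∀ U : ι, Algebra T U.1 := fun U => (Subalgebra.inclusion U.2.2).toRingHom.toAlgebra
  let g : ∀ U : ι, U.1 →ₐ[T] R := fun U => { U.1.val.toRingHom with commutes' := fun _ => rfl }
  haveI : Nonempty ι := ⟨⟨T, hT, le_rfl⟩⟩
  have hdir : ∀ (U V : ι) (h : U.1 ≤ V.1), ∃ e : U.1 →ₐ[T] V.1, (g V).comp e = g U := fun U V h =>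
    ⟨{ (Subalgebra.inclusion h).toRingHom with commutes' := fun _ => rfl }, AlgHom.ext fun _ => rfl⟩
  have H : Groth.Agent.H20.Descent.IsColim g := by
    refine ⟨fun U V => ?_, fun a => ?_, fun U x hx => ?_⟩
    · exact ⟨⟨U.1 ⊔ V.1, U.2.1.sup V.2.1, U.2.2.trans le_sup_left⟩, hdir _ _ le_sup_left,
        hdir _ _ le_sup_right⟩
    · exact ⟨⟨T ⊔ Algebra.adjoin ℤ {a}, hT.sup (Subalgebra.fg_def.mpr ⟨{a}, Set.finite_singleton a, rfl⟩),
        le_sup_left⟩, ⟨a, (le_sup_right : Algebra.adjoin ℤ {a} ≤ _) (Algebra.subset_adjoin rfl)⟩, rfl⟩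
    · exact ⟨U, AlgHom.id T _, AlgHom.comp_id _, Subtype.ext hx⟩
  haveI : Algebra.FormallyUnramified R (R ⊗[T] C₀) :=
    Algebra.FormallyUnramified.of_equiv (P.tensorModelOfHasCoeffsEquiv T).symm
  obtain ⟨U, hU⟩ := Groth.Agent.H20.Descent.exists_unramified C₀ H inferInstance
  haveI := hU.formallyUnramified
  haveI : IsScalarTower T U.1 R := .of_algebraMap_eq fun _ => rfl
  exact ⟨U.1, inferInstance, ⟨U.1.fg_top.mpr U.2.1⟩, U.1 ⊗[T] C₀, inferInstance, inferInstance,
    inferInstance, inferInstance, inferInstance,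
    ⟨(Algebra.TensorProduct.cancelBaseChange T U.1 R R C₀).trans
      (P.tensorModelOfHasCoeffsEquiv T)⟩⟩

end Groth.Agent.S12085
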