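import Groth.Statements.S1209
import Groth.Agent.Lib.RG.Induct
-- import your own Groth.Agent.* helpers here

set_option autoImplicit false
universe u
open FlatMor

namespace Groth.Agent.S1209

/-- Let R → S be a ring map of finite type and q a prime of S such that the local ring S_q is flat over
R. Then S_q is essentially of finite presentation over R. (The published statement concludes that
S_q is essentially of finite presentation over R_p, where p is the prime of R below q; the two are
equivalent, since R_p is itself a localization of R.) -/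
theorem result {R S : Type u} [CommRing R] [CommRing S] [Algebra R S] [Algebra.FiniteType R S]
    (q : Ideal S) [q.IsPrime] [Module.Flat R (Localization.AtPrime q)] :
    FlatCA.EssFinitePresentation R (Localization.AtPrime q) := by
  classical
  obtain ⟨n, π, hπ⟩ := Algebra.FiniteType.iff_quotient_mvPolynomial''.1 (inferInstance : Algebra.FiniteType R S)
  let P := MvPolynomial (Fin n) R
  letI : Algebra P S := π.toRingHom.toAlgebra
  haveI : IsScalarTower R P S := IsScalarTower.of_algebraMap_eq' π.comp_algebraMap.symm
  haveI : Module.Finite P S := Module.Finite.of_surjective (Algebra.linearMap P S) hπ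
  let q₀ : Ideal P := q.comap (algebraMap P S)
  haveI : q₀.LiesOver (q₀.under R) := ⟨rfl⟩
  haveI : IsScalarTower R P (Localization.AtPrime q) := IsScalarTower.of_algebraMap_eq fun r => by
    rw [IsScalarTower.algebraMap_apply R S (Localization.AtPrime q),
      IsScalarTower.algebraMap_apply P S (Localization.AtPrime q), ← IsScalarTower.algebraMap_apply R P S]
  have hflat : Module.Flat R (LocalizedModule q₀.primeCompl S) := by
    refine (H19.FlatLocus.flat_iff_killed q₀.primeCompl (LocalizedModule.mkLinearMap q₀.primeCompl S)).2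
      fun J ξ hξ => ?_
    obtain ⟨s, hs, hsξ⟩ := (H19.FlatLocus.flat_iff_killed q.primeCompl
      (Algebra.linearMap S (Localization.AtPrime q))).1 inferInstance J ξ hξ
    obtain ⟨w, rfl⟩ := hπ s
    refine ⟨w, hs, ?_⟩
    rw [← algebraMap_smul S w ξ]
    exact hsξ
  have hfp := Lib.RG.Induct.fpAt_of_flat (N := S) (q₀.under R) q₀ hflat
  obtain ⟨T, hT, hgen⟩ := hfp 1 ((Algebra.linearMap P S).comp (LinearMap.proj 0))
    (hπ.comp fun x => ⟨fun _ => x, rfl⟩)
  let I : Ideal P := Ideal.span ((T.image fun t => t 0 : Finset P) : Set P)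
  have hI : ∀ a ∈ I, algebraMap P S a = 0 := by
    intro a ha
    refine (Ideal.span_le (I := RingHom.ker (algebraMap P S))).2 (fun t ht => ?_) ha
    obtain ⟨t', ht', rfl⟩ := Finset.mem_image.1 (Finset.mem_coe.1 ht)
    exact hT t' ht'
  let g : P →+* Localization.AtPrime q := (algebraMap S (Localization.AtPrime q)).comp (algebraMap P S)
  letI : Algebra (P ⧸ I) (Localization.AtPrime q) := (Ideal.Quotient.lift I g fun a ha => by
    show algebraMap S (Localization.AtPrime q) (algebraMap P S a) = 0
    rw [hI a ha, map_zero]).toAlgebra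
  haveI : IsScalarTower R (P ⧸ I) (Localization.AtPrime q) :=
    IsScalarTower.of_algebraMap_eq (R := R) (S := P ⧸ I) (A := Localization.AtPrime q) fun r => by
    show algebraMap R (Localization.AtPrime q) r = algebraMap S (Localization.AtPrime q) (algebraMap P S (algebraMap R P r))
    rw [← IsScalarTower.algebraMap_apply R P S, ← IsScalarTower.algebraMap_apply R S (Localization.AtPrime q)]
  refine ⟨P ⧸ I, inferInstance, inferInstance, inferInstance, inferInstance,
    q₀.primeCompl.map (Ideal.Quotient.mk I : P →+* P ⧸ I), ?_, ?_⟩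
  · exact Algebra.FinitePresentation.quotient (R := R) (A := P) (I := I) (Submodule.fg_span (Finset.finite_toSet _))
  · constructor
    constructor
    · rintro ⟨_, w, hw, rfl⟩
      exact IsLocalization.map_units (Localization.AtPrime q) (⟨algebraMap P S w, hw⟩ : q.primeCompl)
    · intro x
      obtain ⟨⟨a, s⟩, hx⟩ := IsLocalization.surj q.primeCompl x
      obtain ⟨a₀, rfl⟩ := hπ a
      obtain ⟨s₀, hs₀⟩ := hπ (s : S)
      refine ⟨⟨Ideal.Quotient.mk I a₀, Ideal.Quotient.mk I s₀,
        Submonoid.mem_map_of_mem _ (show algebraMap P S s₀ ∉ q from fun h => s.2 (hs₀ ▸ h))⟩, ?_⟩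
      show x * algebraMap S (Localization.AtPrime q) (π s₀) = algebraMap S (Localization.AtPrime q) (π a₀)
      rw [hs₀]
      exact hx
    · intro a b hab
      obtain ⟨a, rfl⟩ := Ideal.Quotient.mk_surjective a
      obtain ⟨b, rfl⟩ := Ideal.Quotient.mk_surjective b
      obtain ⟨c, hc⟩ := IsLocalization.exists_of_eq (M := q.primeCompl) (show
        algebraMap S (Localization.AtPrime q) (π a) = algebraMap S (Localization.AtPrime q) (π b) from hab)
      obtain ⟨c₀, hc₀⟩ := hπ (c : S)
      obtain ⟨w, hw, hwx⟩ := hgen (fun _ => c₀ * a - c₀ * b) (by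
        show π (c₀ * a - c₀ * b) = 0
        rw [map_sub, map_mul, map_mul, hc₀, hc, sub_self])
      have hmem : w * (c₀ * a - c₀ * b) ∈ I := by
        have h1 := Submodule.mem_map_of_mem (f := LinearMap.proj (R := P) (φ := fun _ : Fin 1 => P) 0) hwx
        rw [Submodule.map_span] at h1
        refine Submodule.span_mono ?_ h1
        rintro _ ⟨t, ht, rfl⟩
        exact Finset.mem_coe.2 (Finset.mem_image_of_mem _ ht)
      refine ⟨⟨Ideal.Quotient.mk I (w * c₀), Submonoid.mem_map_of_mem _ (fun h => ?_)⟩, ?_⟩
      · rcases (Ideal.IsPrime.mem_or_mem inferInstance h) with h | h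
        · exact hw h
        · exact c.2 (by rw [← hc₀]; exact h)
      · show Ideal.Quotient.mk I (w * c₀) * Ideal.Quotient.mk I a = Ideal.Quotient.mk I (w * c₀) * Ideal.Quotient.mk I b
        rw [← map_mul, ← map_mul, Ideal.Quotient.eq]
        convert hmem using 1
        ring

end Groth.Agent.S1209
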