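import Groth.Statements.S12091
import Mathlib.RingTheory.Extension.Cotangent.Basic

set_option autoImplicit false
universe u
open TensorProduct MvPolynomial
open FlatMor

namespace Groth.Agent.S12091

variable {A : Type u} [CommRing A] {M : Type u} [AddCommGroup M] [Module A M] {m : ℕ} (x : Fin m → M)
  (G : Algebra.Generators A (SymmetricAlgebra A M) (Fin m))

/-- The linear form attached to a relation. -/
noncomputable def lin : (Fin m → A) →ₗ[A] MvPolynomial (Fin m) A where
  toFun k := ∑ j, MvPolynomial.C (k j) * MvPolynomial.X j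
  map_add' a b := by simp [add_mul, Finset.sum_add_distrib]
  map_smul' r a := by simp [Finset.smul_sum, MvPolynomial.smul_eq_C_mul, mul_assoc]

variable (hG : ∀ j, G.val j = SymmetricAlgebra.ι A M (x j))

include hG

theorem aeval_lin (k : Fin m → A) :
    MvPolynomial.aeval G.val (lin k) = SymmetricAlgebra.ι A M (Fintype.linearCombination A x k) := by
  simp [lin, hG, Fintype.linearCombination_apply, map_sum, Algebra.smul_def]

theorem mem_ker (k : LinearMap.ker (Fintype.linearCombination A x)) : lin (k : Fin m → A) ∈ G.toExtension.ker := by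
  show lin _ ∈ G.ker
  rw [G.ker_eq_ker_aeval_val, RingHom.mem_ker, aeval_lin x G hG, LinearMap.mem_ker.1 k.2, map_zero]

theorem span_eq (hx : Function.Surjective (Fintype.linearCombination A x)) :
    Ideal.span (Set.range fun k : LinearMap.ker (Fintype.linearCombination A x) => lin (k : Fin m → A)) = G.ker := by
  refine le_antisymm (Ideal.span_le.2 (by rintro _ ⟨k, rfl⟩; exact mem_ker x G hG k)) fun f hf => ?_
  set J := Ideal.span (Set.range fun k : LinearMap.ker (Fintype.linearCombination A x) => lin (k : Fin m → A))
  let q := Ideal.Quotient.mkₐ A J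
  let u : (Fin m → A) →ₗ[A] MvPolynomial (Fin m) A ⧸ J := q.toLinearMap ∘ₗ lin
  have hu : LinearMap.ker (Fintype.linearCombination A x) ≤ LinearMap.ker u := fun k hk =>
    Ideal.Quotient.eq_zero_iff_mem.2 (Ideal.subset_span ⟨⟨k, hk⟩, rfl⟩)
  let eM := (Fintype.linearCombination A x).quotKerEquivOfSurjective hx
  let v : M →ₗ[A] MvPolynomial (Fin m) A ⧸ J := Submodule.liftQ _ u hu ∘ₗ eM.symm.toLinearMap
  have hv : ∀ k, v (Fintype.linearCombination A x k) = u k := fun k => by
    have : eM.symm (Fintype.linearCombination A x k) = Submodule.Quotient.mk k := by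
      rw [LinearEquiv.symm_apply_eq]; rfl
    simp only [v, LinearMap.comp_apply, LinearEquiv.coe_coe, this, Submodule.liftQ_apply]
  have hcomp : (SymmetricAlgebra.lift v).comp (MvPolynomial.aeval G.val) = q := by
    refine MvPolynomial.algHom_ext fun j => ?_
    have e1 : Fintype.linearCombination A x (Pi.single j 1) = x j := by simp
    have e2 : lin (Pi.single j 1 : Fin m → A) = MvPolynomial.X j := by
      simp only [lin, LinearMap.coe_mk, AddHom.coe_mk]
      rw [Finset.sum_eq_single j (fun b _ hb => by simp [hb]) (by simp)]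
      simp
    rw [AlgHom.comp_apply, MvPolynomial.aeval_X, hG, SymmetricAlgebra.lift_ι_apply, ← e1, hv]
    show q (lin (Pi.single j 1 : Fin m → A)) = _
    rw [e2]
  have h := DFunLike.congr_fun hcomp f
  rw [AlgHom.comp_apply, G.aeval_val_eq_zero hf, map_zero] at h
  exact Ideal.Quotient.eq_zero_iff_mem.1 h.symm

/-- The map on relations. -/
noncomputable def ψ : LinearMap.ker (Fintype.linearCombination A x) →ₗ[A] G.toExtension.Cotangent where
  toFun k := Algebra.Extension.Cotangent.mk ⟨lin (k : Fin m → A), mem_ker x G hG k⟩
  map_add' a b := by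
    rw [← map_add]
    exact congrArg _ (Subtype.ext (map_add lin (a : Fin m → A) (b : Fin m → A)))
  map_smul' r a := by
    apply Algebra.Extension.Cotangent.ext
    rw [RingHom.id_apply, Algebra.Extension.Cotangent.val_smul'', Algebra.Extension.Cotangent.val_mk,
      Algebra.Extension.Cotangent.val_mk, ← LinearMap.map_smul_of_tower]
    exact congrArg _ (Subtype.ext (map_smul lin r (a : Fin m → A)))

/-- The comparison map. -/
noncomputable def e : SymmetricAlgebra A M ⊗[A] (LinearMap.ker (Fintype.linearCombination A x))
    →ₗ[SymmetricAlgebra A M] G.toExtension.Cotangent :=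
  (ψ x G hG).liftBaseChange (SymmetricAlgebra A M)

theorem e_surjective (hx : Function.Surjective (Fintype.linearCombination A x)) : Function.Surjective (e x G hG) := by
  rw [← LinearMap.range_eq_top, eq_top_iff, ← Algebra.Extension.Cotangent.span_eq_top_of_span_eq_ker
    (P := G.toExtension) (fun k : LinearMap.ker (Fintype.linearCombination A x) => lin (k : Fin m → A))
    (span_eq x G hG hx), Submodule.span_le]
  rintro _ ⟨k, rfl⟩
  refine ⟨1 ⊗ₜ k, ?_⟩
  rw [e, LinearMap.liftBaseChange_tmul, one_smul]
  rfl

theorem e_injective (hx : Function.Surjective (Fintype.linearCombination A x)) (hP : Module.Projective A M) :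
    Function.Injective (e x G hG) := by
  obtain ⟨s, hs⟩ := Module.projective_lifting_property (Fintype.linearCombination A x) LinearMap.id hx
  let π : (Fin m → A) →ₗ[A] LinearMap.ker (Fintype.linearCombination A x) :=
    LinearMap.codRestrict _ (LinearMap.id - s ∘ₗ Fintype.linearCombination A x) fun k => by
      rw [LinearMap.mem_ker]
      have := DFunLike.congr_fun hs (Fintype.linearCombination A x k)
      simp only [LinearMap.comp_apply, LinearMap.id_apply] at this
      simp [this]
  have hπ : ∀ k : LinearMap.ker (Fintype.linearCombination A x), π (k : Fin m → A) = k := fun k => by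
    apply Subtype.ext
    simp [π, LinearMap.mem_ker.1 k.2]
  let Φ : (Fin m →₀ SymmetricAlgebra A M) →ₗ[SymmetricAlgebra A M]
      SymmetricAlgebra A M ⊗[A] LinearMap.ker (Fintype.linearCombination A x) :=
    Finsupp.linearCombination _ fun j => (1 : SymmetricAlgebra A M) ⊗ₜ π (Pi.single j 1)
  let F := Φ ∘ₗ G.cotangentSpaceBasis.repr.toLinearMap ∘ₗ G.toExtension.cotangentComplex ∘ₗ e x G hG
  have hF : F = LinearMap.id := by
    refine TensorProduct.AlgebraTensorModule.ext fun c k => ?_
    have hk : ∀ j, G.cotangentSpaceBasis.repr (G.toExtension.cotangentComplex (ψ x G hG k)) j =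
        algebraMap A (SymmetricAlgebra A M) ((k : Fin m → A) j) := fun j => by
      show G.cotangentSpaceBasis.repr (G.toExtension.cotangentComplex (Algebra.Extension.Cotangent.mk _)) j = _
      rw [Algebra.Extension.cotangentComplex_mk, Algebra.Generators.cotangentSpaceBasis_repr_one_tmul]
      simp only [lin, LinearMap.coe_mk, AddHom.coe_mk, map_sum, MvPolynomial.pderiv_C_mul, MvPolynomial.pderiv_X]
      rw [Finset.sum_eq_single j (fun b _ hb => by simp [hb]) (by simp)]
      simp
    have e1 : e x G hG (c ⊗ₜ k) = c • ψ x G hG k := by rw [e, LinearMap.liftBaseChange_tmul]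
    simp only [F, LinearMap.comp_apply, e1, map_smul, LinearEquiv.coe_coe, LinearMap.id_apply]
    simp only [Φ, Finsupp.linearCombination_apply]
    rw [Finsupp.sum_fintype]
    swap
    · intro j; exact zero_smul _ _
    simp only [hk, TensorProduct.smul_tmul', smul_eq_mul, mul_one, Finset.smul_sum, ← Algebra.algebraMap_eq_smul_one]
    calc ∑ j, (c * algebraMap A (SymmetricAlgebra A M) ((k : Fin m → A) j)) ⊗ₜ[A] π (Pi.single j 1)
        = ∑ j, c ⊗ₜ[A] ((k : Fin m → A) j • π (Pi.single j 1)) := Finset.sum_congr rfl fun j _ => by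
          rw [← Algebra.commutes, ← Algebra.smul_def, TensorProduct.smul_tmul]
      _ = c ⊗ₜ[A] k := by
          rw [← TensorProduct.tmul_sum]
          congr 1
          simp only [← map_smul, ← map_sum]
          rw [← pi_eq_sum_univ' (k : Fin m → A), hπ]
  intro a b hab
  have ha := DFunLike.congr_fun hF a
  have hb := DFunLike.congr_fun hF b
  simp only [F, LinearMap.comp_apply, LinearMap.id_apply] at ha hb
  rw [← ha, ← hb, hab]

omit hG

/-- Let `x_1, …, x_m` generate the `A`-module `M`, let `K ⊆ A^m` be the module of relations, `C =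
Sym_A(M)` and `α : A[y_1, …, y_m] → C` the presentation with `y_j ↦ x_j`, with kernel `J`. Then the
`C`-linear map `C ⊗_A K → J/J²` sending `1 ⊗ k` to the class of `Σ_j k_j y_j` is surjective, and it
is bijective when `M` is a projective `A`-module (so that then `J/J² ≅ K ⊗_A C` and the naive
cotangent complex of `α` is `K ⊗_A C → ⊕_j C dy_j`). (The published statement asserts `J/J² ≅ K ⊗_A
C` for every `M`. For `A = ℤ`, `M = (ℤ/2)²`, `m = 2` and the two unit vectors, `K = 2ℤ²` and the
element `y_2 ⊗ (2, 0) - y_1 ⊗ (0, 2)` of `C ⊗_A K` is non-zero but maps to the class of `y_2 · 2y_1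
- y_1 · 2y_2 = 0`; in degree `2` the graded piece of `J/J²` has `8` elements and that of `K ⊗_A C`
has `16`. The published degree-by-degree computation does show that `J` is generated by the linear
forms coming from `K`, which is the surjectivity, and it is valid as written when `0 → K → A^m → M →
0` splits, which is the projective case.) -/
theorem result (A : Type u) [CommRing A] (M : Type u)
    [AddCommGroup M] [Module A M] (m : ℕ) (x : Fin m → M)
    (hx : Function.Surjective (Fintype.linearCombination A x))
    (G : Algebra.Generators A (SymmetricAlgebra A M) (Fin m))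
    (hG : ∀ j, G.val j = SymmetricAlgebra.ι A M (x j)) :
    ∃ e : SymmetricAlgebra A M ⊗[A] (LinearMap.ker (Fintype.linearCombination A x)) →ₗ[SymmetricAlgebra A M]
        G.toExtension.Cotangent,
      (∀ (k : LinearMap.ker (Fintype.linearCombination A x))
        (hk : (∑ j, C ((k : Fin m → A) j) * X j : MvPolynomial (Fin m) A) ∈ G.toExtension.ker),
        e (1 ⊗ₜ k) = Algebra.Extension.Cotangent.mk ⟨_, hk⟩) ∧
      Function.Surjective e ∧ (Module.Projective A M → Function.Bijective e) := by
  refine ⟨e x G hG, fun k hk => ?_, e_surjective x G hG hx, fun hP => ⟨e_injective x G hG hx hP, e_surjective x G hG hx⟩⟩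
  rw [e, LinearMap.liftBaseChange_tmul, one_smul]
  rfl

end Groth.Agent.S12091
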