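import Groth.Statements.S12093
import Groth.Agent.Lib.DR.KFlatAmp

set_option autoImplicit false
universe u
open CategoryTheory CategoryTheory.Limits MonoidalCategory
attribute [local instance] HasDerivedCategory.standard
open DRing

open Groth.Agent.Lib.DR.Basic Groth.Agent.Lib.DR.FiniteComplex Groth.Agent.Lib.DR.PseudoCoherent Groth.Agent.Lib.DR.TopCohomology
open CategoryTheory CategoryTheory.Limits CategoryTheory.Pretriangulated
open Groth.Agent.Lib.DR

namespace Groth.Agent.S12093

/-- Let `K•` be a complex of `R`-modules (for which `− ⊗^L_R K•` is assumed to exist) and `a` an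
integer. Then `K•` has tor amplitude in `[a, ∞)`, i.e. `H^i(M ⊗^L_R K•) = 0` for every `R`-module
`M` and every `i < a`, if and only if `K•` is quasi-isomorphic to a K-flat complex `E•` (tensoring
with `E•` preserves acyclic complexes) with flat terms and `E^i = 0` for `i < a`. -/
theorem result (R : Type u) [CommRing R] (a : ℤ) (K : DRing.Cx R)
    [DRing.HasLTensorCx R K] :
    (∀ (M : ModuleCat.{u} R) (i : ℤ), i < a →
        Subsingleton (Dual.HD R ((DRing.LTensorCx R K).obj
          (DRing.toD ((CochainComplex.singleFunctor (ModuleCat.{u} R) 0).obj M))) i)) ↔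
      ∃ E : DRing.Cx R, (∀ L : DRing.Cx R, (∀ i : ℤ, IsZero (L.homology i)) → ∀ i : ℤ, IsZero ((L ⊗ E).homology i)) ∧
        DRing.TermwiseFlat E ∧ (∀ i : ℤ, i < a → IsZero (E.X i)) ∧ Nonempty (DRing.toD E ≅ DRing.toD K) := by
  constructor
  · intro h
    let E₀ := (KProjRes.res R).obj K
    have hE₀ : DRing.IsKFlat R E₀ := Groth.Agent.Lib.DR.KFlat.isKFlat_res K
    have hf : ∀ i, Module.Flat R (E₀.X i) := fun i =>
      Groth.Agent.Lib.DR.KFlat.flat_of_cof (Groth.Agent.Lib.DerivedOX.LeftRes.cof_resolution K) i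
    let e₀ : DerivedCategory.Q.obj E₀ ≅ DerivedCategory.Q.obj K :=
      @asIso _ _ _ _ _ (Localization.inverts DerivedCategory.Q
        (HomologicalComplex.quasiIso (ModuleCat.{u} R) (ComplexShape.up ℤ)) _ (KProjRes.quasiIso_aug R K))
    have hex : ∀ (M : ModuleCat.{u} R) (i : ℤ), i < a → ((TorAmp.tens M).obj E₀).ExactAt i := fun M i hi => by
      obtain ⟨e⟩ := LTensorCx.nonempty_iso_tensor K hE₀
        (Iso.refl (DRing.toD ((CochainComplex.singleFunctor (ModuleCat.{u} R) 0).obj M))) e₀
      rw [HomologicalComplex.exactAt_iff_isZero_homology]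
      have := h M i hi
      exact (@ModuleCat.isZero_of_subsingleton _ _ ((DerivedCategory.homologyFunctor (ModuleCat.{u} R) i).obj
          ((DRing.LTensorCx R K).obj (DRing.toD ((CochainComplex.singleFunctor (ModuleCat.{u} R) 0).obj M))))
          this).of_iso
        ((homologyQIso _ i).symm ≪≫ (DerivedCategory.homologyFunctor (ModuleCat.{u} R) i).mapIso
          (DerivedCategory.Q.mapIso (LTensorCx.singleTensorIso M E₀).symm ≪≫ e.symm))
    have hge : ∀ i, i < a → E₀.ExactAt i := fun i hi => by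
      have h1 := hex (ModuleCat.of R R) i hi
      rw [HomologicalComplex.exactAt_iff' _ (i - 1) i (i + 1) (by simp) (by simp)] at h1 ⊢
      exact ShortComplex.exact_of_iso
        (ShortComplex.isoMk (ρ_ _) (ρ_ _) (ρ_ _) (rightUnitor_naturality _).symm
          (rightUnitor_naturality _).symm) h1
    have : E₀.IsGE a := (CochainComplex.isGE_iff _ _).2 hge
    have : QuasiIso (E₀.πTruncGE a) := inferInstance
    refine ⟨E₀.truncGE a, KFlatAmp.isKFlat_of_tens_quasiIso (E₀.πTruncGE a)
      (KFlatAmp.quasiIso_tens_πTruncGE E₀ a hex) hE₀, fun i => ?_,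
      fun i hi => (E₀.truncGE a).isZero_of_isStrictlyGE a i hi,
      ⟨(@asIso _ _ _ _ _ (Localization.inverts DerivedCategory.Q
        (HomologicalComplex.quasiIso (ModuleCat.{u} R) (ComplexShape.up ℤ)) _ this)).symm ≪≫ e₀⟩⟩
    rcases lt_trichotomy i a with hi | rfl | hi
    · exact BaseChange.good_flat.zero ((E₀.truncGE a).isZero_of_isStrictlyGE a i hi)
    · exact BaseChange.good_flat.iso (TorAmp.opcyclesIso E₀ i ≪≫ (E₀.truncGEXIsoOpcycles i).symm)
        (TorAmp.flat_coker_of_exactAt E₀ i (hf i) fun M => hex M (i - 1) (by lia))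
    · exact BaseChange.good_flat.iso (E₀.truncGEXIso a i hi).symm (hf i)
  · rintro ⟨E, hE, -, hz, ⟨e⟩⟩ M i hi
    obtain ⟨e'⟩ := LTensorCx.nonempty_iso_tensor K (show DRing.IsKFlat R E from hE)
      (Iso.refl (DRing.toD ((CochainComplex.singleFunctor (ModuleCat.{u} R) 0).obj M))) e
    have h0 : ((TorAmp.tens M).obj E).ExactAt i :=
      HomologicalComplex.ExactAt.of_isZero ((MonoidalCategory.tensorRight M).map_isZero (hz i hi))
    rw [HomologicalComplex.exactAt_iff_isZero_homology] at h0
    exact ModuleCat.subsingleton_of_isZero (h0.of_iso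
      ((DerivedCategory.homologyFunctor (ModuleCat.{u} R) i).mapIso
        (e' ≪≫ DerivedCategory.Q.mapIso (LTensorCx.singleTensorIso M E)) ≪≫ homologyQIso _ i))

end Groth.Agent.S12093
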