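import Groth.Statements.S12094
import Groth.Agent.Lib.DR.TwoTermExt
import Groth.Agent.Lib.DMod.Basic

set_option autoImplicit false
universe u
open CategoryTheory
attribute [local instance] HasDerivedCategory.standard
open DRing

open Groth.Agent.Lib.DR.Basic Groth.Agent.Lib.DR.FiniteComplex Groth.Agent.Lib.DR.PseudoCoherent Groth.Agent.Lib.DR.TopCohomology
open CategoryTheory CategoryTheory.Limits CategoryTheory.Pretriangulated
open Groth.Agent.Lib.DR.TwoTerm Groth.Agent.Lib.DR.TwoTermExt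
open Groth.Agent.Lib.FlatCx.Elem

namespace Groth.Agent.S12094

/-- (1) ⇔ (2): let `I ⊆ R` be an ideal and `K ∈ D(R)` with `H^i(K) = 0` for `i ∉ {-1, 0}`. Then some
power `I^c` annihilates `Ext¹_R(K, N) = Hom_{D(R)}(K, N[1])` for every `R`-module `N` if and only
if, for some `c`, (a) `I^c` annihilates `H^{-1}(K)` and (b) `H^0(K)` is `I^c`-projective, i.e. `I^c`
annihilates `Ext¹_R(H^0(K), N)` for every `R`-module `N`. -/
theorem result {R : Type u} [CommRing R] (I : Ideal R) (K : Dual.D R)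
    (hK : ∀ i : ℤ, i ≠ -1 → i ≠ 0 → Subsingleton (Dual.HD R K i)) :
    (∃ c : ℕ, ∀ (N : Type u) [AddCommGroup N] [Module R N] (a : R), a ∈ I ^ c →
        ∀ ξ : K ⟶ (Dual.inD R N)⟦(1 : ℤ)⟧, a • ξ = 0) ↔
      ∃ c : ℕ, (∀ a : R, a ∈ I ^ c → ∀ x : Dual.HD R K (-1), a • x = 0) ∧
        ∀ (N : Type u) [AddCommGroup N] [Module R N] (a : R), a ∈ I ^ c →
          ∀ ξ : Dual.inD R (Dual.HD R K 0) ⟶ (Dual.inD R N)⟦(1 : ℤ)⟧, a • ξ = 0 := by
  have hle := isLE_of_outside hK
  have hge := isGE_of_outside hK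
  obtain ⟨P, M, p, g, k, hd, hP, ⟨eM⟩, hiso⟩ := exists_peel_top K 0 hle
  have hPge : P.IsGE (-1) := by
    rw [DerivedCategory.isGE_iff]
    intro i hi
    have := hiso i (by lia)
    exact (DerivedCategory.isZero_of_isGE K (-1) i hi).of_iso
      (asIso ((DerivedCategory.homologyFunctor (ModuleCat.{u} R) i).map p))
  let eH : M ≅ ModuleCat.of R (Dual.HD R K 0) := eM.symm
  have hP1 : P.IsLE (-1) := isLE_mono hP (by lia)
  have hP2 : (P⟦(1 : ℤ)⟧).IsLE (-2) :=
    DerivedCategory.TStructure.t.isLE_shift P (-1) 1 (-2) (by lia)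
  have hg : ConeLE g (-2) := coneLE_of_triangle _ (rot_of_distTriang _ hd) hP2
  have hext : ∀ (N : Type u) [AddCommGroup N] [Module R N],
      ((Dual.inD R N)⟦(1 : ℤ)⟧).IsGE (-1) := fun N _ _ =>
    isGE_of_iso' (singleShift (ModuleCat.of R N) 1 (-1) 0 (by lia)).symm inferInstance
  constructor
  · rintro ⟨c, H⟩
    refine ⟨c, fun a ha x => ?_, fun N _ _ a ha ξ => ?_⟩
    · obtain ⟨E, hE, hE0, ⟨e⟩⟩ := exists_twoTerm K hle hge
      obtain ⟨h, hh⟩ := (smul_ext_eq_zero_iff E (fun i h1 h2 => hE i (by lia)) hE0 a).1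
        fun N _ _ ξ => smul_ext_eq_zero_congr e.symm (fun N _ _ ξ => H N a ha ξ) N ξ
      let f := ((DerivedCategory.homologyFunctor (ModuleCat.{u} R) (-1)).mapIso e).symm ≪≫
        homologyQIso E (-1)
      have : ∀ y : E.homology (-1), a • y = 0 := fun y => by
        obtain ⟨⟨z, hz⟩, rfl⟩ := cls_surjective (K := E) (show (ComplexShape.up ℤ).next (-1) = 0 by simp) y
        rw [← map_smul, cls_eq_zero_iff (i := -2) (by simp) _]
        refine ⟨0, ?_⟩
        have h2 := congrArg (fun F : E.X (-1) ⟶ E.X (-1) => F.hom z) hh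
        have hz' : (E.d (-1) 0).hom z = 0 := hz
        simp only [ModuleCat.hom_comp, LinearMap.comp_apply, hz', map_zero] at h2
        rw [map_zero]
        exact h2
      apply f.toLinearEquiv.injective
      rw [map_smul, map_zero, this]
    · refine smul_ext_eq_zero_congr ((DerivedCategory.singleFunctor (ModuleCat.{u} R) 0).mapIso eH)
        (a := a) (fun N _ _ ξ => ?_) N ξ
      refine eq_zero_of_coneLE hg (hext _) (by lia) _ ?_
      rw [Linear.comp_smul]
      exact H N a ha _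
  · rintro ⟨c, h1, h2⟩
    refine ⟨c + c, fun N _ _ r hr ξ => ?_⟩
    rw [pow_add] at hr
    refine Submodule.mul_induction_on hr (fun a ha b hb => ?_) fun r s hr hs => by
      rw [add_smul, hr, hs, add_zero]
    have hP0 : a • 𝟙 P = 0 := by
      refine eq_zero_of_homologyMap_eq_zero (n := -1) (isLE_mono hP (by lia)) hPge _ ?_
      have := hiso (-1) (by lia)
      rw [Functor.map_smul, CategoryTheory.Functor.map_id]
      ext x
      apply (asIso ((DerivedCategory.homologyFunctor (ModuleCat.{u} R) (-1)).map p)).toLinearEquiv.injective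
      exact ((map_smul _ a x).trans (h1 a ha _)).trans (map_zero _).symm
    obtain ⟨η, hη⟩ : ∃ η : (DerivedCategory.singleFunctor (ModuleCat.{u} R) 0).obj M ⟶ _, a • ξ = g ≫ η :=
      Triangle.yoneda_exact₂ _ hd (a • ξ) (by
        show p ≫ (a • ξ) = 0
        rw [Linear.comp_smul, ← Category.id_comp (p ≫ ξ), ← Linear.smul_comp, hP0, zero_comp])
    have h3 : b • η = 0 := smul_ext_eq_zero_congr
      ((DerivedCategory.singleFunctor (ModuleCat.{u} R) 0).mapIso eH.symm) (fun N _ _ ξ => h2 N b hb ξ) N η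
    rw [mul_comm, mul_smul, hη, ← Linear.comp_smul, h3, comp_zero]

end Groth.Agent.S12094
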