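import Groth.Statements.S12095
import Mathlib.Algebra.Polynomial.Module.Basic
import Mathlib.RingTheory.GradedAlgebra.HomogeneousLocalization
import Mathlib.Algebra.Module.LocalizedModule.Basic
import Mathlib.RingTheory.Finiteness.Basic

set_option autoImplicit false
universe u
open CAlg

namespace Groth.Agent.S12095

section
open DirectSum HomogeneousLocalization

variable {R S R' : Type*} [CommRing R] [CommRing S] [CommRing R'] [Algebra R S]
  (𝒜 : ℕ → Submodule R S) [GradedAlgebra 𝒜] {f : S}

/-- `s ↦ e(s / f ^ d)` in degree `d`. -/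
noncomputable def degHom (hf : f ∈ 𝒜 1) (e : Away 𝒜 f ≃+* R') (d : ℕ) : 𝒜 d →+ R' where
  toFun s := e (Away.mk 𝒜 hf d s (by rw [smul_eq_mul, mul_one]; exact s.2))
  map_zero' := by
    rw [← e.map_zero]; congr 1
    apply val_injective
    simp [Away.val_mk, Localization.mk_zero]
  map_add' a b := by
    rw [← e.map_add]; congr 1
    apply val_injective
    rw [val_add, Away.val_mk, Away.val_mk, Away.val_mk, Localization.add_mk_self]
    rfl

/-- The ring map `S → R'[T]`. -/
noncomputable def psi (hf : f ∈ 𝒜 1) (e : Away 𝒜 f ≃+* R') : S →+* Polynomial R' :=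
  (DirectSum.toSemiring (fun d => (Polynomial.monomial d).toAddMonoidHom.comp (degHom 𝒜 hf e d))
    (by
      show Polynomial.monomial 0 (degHom 𝒜 hf e 0 _) = 1
      rw [← Polynomial.monomial_zero_one]
      congr 1
      show e _ = 1
      rw [← e.map_one]; congr 1
      apply val_injective
      rw [Away.val_mk, val_one, ← Localization.mk_one]
      congr 1
      exact Subtype.ext (pow_zero f))
    (fun {i j} a b => by
      show Polynomial.monomial (i + j) (degHom 𝒜 hf e (i + j) _) =
        Polynomial.monomial i (degHom 𝒜 hf e i a) * Polynomial.monomial j (degHom 𝒜 hf e j b)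
      rw [Polynomial.monomial_mul_monomial]
      congr 1
      show e _ = e _ * e _
      rw [← e.map_mul]; congr 1
      apply val_injective
      rw [val_mul, Away.val_mk, Away.val_mk, Away.val_mk, Localization.mk_mul]
      congr 1
      exact Subtype.ext (pow_add f i j))).comp
    (DirectSum.decomposeRingEquiv 𝒜).toRingHom

theorem psi_of_mem (hf : f ∈ 𝒜 1) (e : Away 𝒜 f ≃+* R') {d : ℕ} {s : S} (hs : s ∈ 𝒜 d) :
    psi 𝒜 hf e s = Polynomial.monomial d (degHom 𝒜 hf e d ⟨s, hs⟩) := by
  rw [psi, RingHom.comp_apply]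
  show DirectSum.toSemiring _ _ _ (DirectSum.decompose 𝒜 s) = _
  rw [DirectSum.decompose_of_mem 𝒜 hs, DirectSum.toSemiring_of]
  rfl

theorem exists_psi (hf : f ∈ 𝒜 1) (e : Away 𝒜 f ≃+* R') :
    ∃ ψ : S →+* Polynomial R', ∀ (d : ℕ) (s : S) (hs : s ∈ 𝒜 d), ψ s = Polynomial.monomial d
      (e (Away.mk 𝒜 hf d s (by rw [smul_eq_mul, mul_one]; exact hs))) :=
  ⟨psi 𝒜 hf e, fun d s hs => psi_of_mem 𝒜 hf e hs⟩

end

/-- Let `R'` be an `R`-algebra of finite type, `M` a finite `R'`-module, and `S` an `ℕ`-graded
`R`-algebra with `f ∈ S_1` and a ring isomorphism `e : S_(f) ≅ R'` compatible with the maps from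
`R`. Then there is a finite graded `S`-module `N` whose degree-zero localization `N_(f)` (the
elements `n / f^k` of `N_f` with `n` homogeneous of degree `k`) is identified with `M`: an
`R`-linear bijection `e' : N_(f) → M` with `e'(a · x) = e(a) · e'(x)` for all `a ∈ S_(f)`. (The
published lemma produces `S`, `f` and `N` together from `R'` and `M`; here `N` is produced for any
such `S`, `f`, `e`, which the same construction gives.) -/
theorem result (R R' : Type u) [CommRing R] [CommRing R']
    [Algebra R R'] [Algebra.FiniteType R R']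
    (M : Type u) [AddCommGroup M] [Module R' M] [Module R M] [IsScalarTower R R' M] [Module.Finite R' M]
    (S : Type u) [CommRing S] [Algebra R S] (𝒜 : ℕ → Submodule R S) [GradedAlgebra 𝒜] (f : S) (hf : f ∈ 𝒜 1)
    (e : HomogeneousLocalization.Away 𝒜 f ≃+* R')
    (he : ∀ r : R, (e.symm (algebraMap R R' r)).val = algebraMap S (Localization.Away f) (algebraMap R S r)) :
    ∃ (N : Type u) (_ : AddCommGroup N) (_ : Module S N) (_ : Module R N) (_ : IsScalarTower R S N)
      (ℳ : ℕ → Submodule R N) (_ : DirectSum.Decomposition ℳ) (_ : SetLike.GradedSMul 𝒜 ℳ)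
      (Nf : Submodule R (LocalizedModule (Submonoid.powers f) N)) (e' : ↥Nf ≃ₗ[R] M),
      Module.Finite S N ∧
      (∀ x, x ∈ Nf ↔ ∃ k : ℕ, ∃ n ∈ ℳ k, f ^ k • x = LocalizedModule.mk n 1) ∧
      (∀ (a : HomogeneousLocalization.Away 𝒜 f) (x y : ↥Nf),
        a.val • (x : LocalizedModule (Submonoid.powers f) N) = y → e' y = e a • e' x) := by
  classical
  obtain ⟨k, g, hg⟩ := Module.Finite.exists_fin (R := R') (M := M)
  obtain ⟨ψ, hψ⟩ := exists_psi 𝒜 hf e
  let P := PolynomialModule R' M
  letI instS : Module S P := Module.compHom P ψ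
  have hsmul : ∀ (s : S) (p : P), s • p = ψ s • p := fun _ _ => rfl
  have hR : ∀ r : R, ψ (algebraMap R S r) = Polynomial.C (algebraMap R R' r) := by
    intro r
    have hmem : algebraMap R S r ∈ 𝒜 0 := SetLike.algebraMap_mem_graded 𝒜 r
    rw [hψ 0 _ hmem, Polynomial.monomial_zero_left]
    congr 1
    show e _ = _
    rw [← e.eq_symm_apply]
    apply HomogeneousLocalization.val_injective
    rw [he, HomogeneousLocalization.Away.val_mk, ← Localization.mk_algebraMap]
    congr 1
    exact Subtype.ext (pow_zero f)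
  have hTower : IsScalarTower R S P := IsScalarTower.of_algebraMap_smul fun r p => by
    rw [hsmul, hR, ← Polynomial.algebraMap_eq, algebraMap_smul, algebraMap_smul]
  let N : Submodule S P := Submodule.span S (Set.range fun i => PolynomialModule.single R' 0 (g i))
  have hψf : ψ f = Polynomial.monomial 1 1 := by
    rw [hψ 1 f hf]
    congr 1
    show e _ = 1
    rw [← e.map_one]; congr 1
    apply HomogeneousLocalization.val_injective
    rw [HomogeneousLocalization.Away.val_mk, HomogeneousLocalization.val_one]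
    simp only [pow_one]
    exact Localization.mk_self (⟨f, Submonoid.mem_powers f⟩ : Submonoid.powers f)
  let ev : P →+ M := (PolynomialModule.eval (M := M) (1 : R')).toAddMonoidHom
  letI instSM : Module S M := Module.compHom M ((Polynomial.evalRingHom (1 : R')).comp ψ)
  have hsmulM : ∀ (s : S) (m : M), s • m = (ψ s).eval 1 • m := fun _ _ => rfl
  have hTowerM : IsScalarTower R S M := IsScalarTower.of_algebraMap_smul fun r m => by
    rw [hsmulM, hR, Polynomial.eval_C, algebraMap_smul]
  let ℳ : ℕ → Submodule R N := fun d =>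
    Submodule.comap (N.subtype.restrictScalars R)
      ((LinearMap.range (PolynomialModule.lsingle R' (M := M) d)).restrictScalars R)
  have hℳ : ∀ {d} {x : N}, x ∈ ℳ d ↔ ∃ m, PolynomialModule.single R' d m = (x : P) :=
    fun {d x} => Iff.rfl
  have hcomp : ∀ (d : ℕ) (p : P), p ∈ N → PolynomialModule.single R' d (p.coeff d) ∈ N := by
    intro d p hp
    induction hp using Submodule.span_induction generalizing d with
    | mem x hx =>
      obtain ⟨i, rfl⟩ := hx
      rcases Nat.eq_zero_or_pos d with rfl | hd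
      · have hc : (PolynomialModule.single R' 0 (g i)).coeff 0 = g i := Finsupp.single_eq_same
        rw [hc]; exact Submodule.subset_span ⟨i, rfl⟩
      · have hc : (PolynomialModule.single R' 0 (g i)).coeff d = 0 :=
          Finsupp.single_eq_of_ne (by omega)
        rw [hc, PolynomialModule.single_zero]; exact zero_mem _
    | zero => simp
    | add x y _ _ hx hy =>
      rw [PolynomialModule.coeff_add, Finsupp.add_apply, PolynomialModule.single_add]
      exact add_mem (hx d) (hy d)
    | smul s x _ hx =>
      show PolynomialModule.lsingle R' (M := M) d _ ∈ N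
      rw [← DirectSum.sum_support_decompose 𝒜 s, Finset.sum_smul, PolynomialModule.coeff_sum,
        Finset.sum_apply', map_sum]
      refine sum_mem fun j _ => ?_
      have hsj : ψ (DirectSum.decompose 𝒜 s j : S) =
          Polynomial.monomial j _ :=
        hψ j _ (SetLike.coe_mem _)
      rw [hsmul, hsj, PolynomialModule.monomial_smul_apply]
      split
      · rename_i hle
        have := N.smul_mem (DirectSum.decompose 𝒜 s j : S) (hx (d - j))
        rw [hsmul, hsj, PolynomialModule.monomial_smul_single, Nat.add_sub_cancel' hle] at this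
        exact this
      · rw [map_zero]; exact zero_mem _
  have hint : DirectSum.IsInternal ℳ := by
    rw [DirectSum.isInternal_submodule_iff_iSupIndep_and_iSup_eq_top]
    refine ⟨?_, ?_⟩
    · rw [iSupIndep_def]
      intro d
      rw [Submodule.disjoint_def]
      intro x hx hx'
      obtain ⟨m, hm⟩ := hℳ.mp hx
      have h0 : (x : P).coeff d = 0 := by
        have hle : (⨆ j, ⨆ (_ : j ≠ d), ℳ j) ≤ Submodule.comap (N.subtype.restrictScalars R)
            (LinearMap.ker ((Finsupp.lapply d).comp
              ((PolynomialModule.coeffLinearEquiv R' R (M := M)).toLinearMap))) := by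
          refine iSup₂_le fun j hj y hy => ?_
          obtain ⟨m', hm'⟩ := hℳ.mp hy
          rw [Submodule.mem_comap, LinearMap.mem_ker]
          show (y : P).coeff d = 0
          rw [← hm']
          exact Finsupp.single_eq_of_ne hj.symm
        exact hle hx'
      refine Subtype.ext ?_
      rw [← hm] at h0 ⊢
      rw [show (PolynomialModule.single R' d m).coeff d = m from Finsupp.single_eq_same] at h0
      rw [h0, PolynomialModule.single_zero]
      rfl
    · refine eq_top_iff.mpr fun x _ => ?_
      have hx : x = ∑ d ∈ (x : P).coeff.support,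
          (⟨PolynomialModule.single R' d ((x : P).coeff d), hcomp d _ x.2⟩ : N) := by
        apply Subtype.ext
        rw [Submodule.coe_sum]
        apply PolynomialModule.coeff_injective
        rw [PolynomialModule.coeff_sum]
        exact (Finsupp.sum_single (x : P).coeff).symm
      rw [hx]
      exact sum_mem fun d _ => Submodule.mem_iSup_of_mem d (hℳ.mpr ⟨_, rfl⟩)
  letI decN : DirectSum.Decomposition ℳ := hint.chooseDecomposition
  have hgs : SetLike.GradedSMul 𝒜 ℳ := ⟨fun {i j} a x ha hx => by
    obtain ⟨m, hm⟩ := hℳ.mp hx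
    refine hℳ.mpr ⟨e (HomogeneousLocalization.Away.mk 𝒜 hf i a (by simpa using ha)) • m, ?_⟩
    show _ = a • (x : P)
    rw [← hm, hsmul, hψ i a ha,
      PolynomialModule.monomial_smul_single]
    rfl⟩
  let evN : N →ₗ[S] M :=
    { toFun := fun x => ev x.1
      map_add' := fun x y => ev.map_add _ _
      map_smul' := fun s x => by
        show PolynomialModule.eval (1 : R') (ψ s • (x : P)) = (ψ s).eval 1 • _
        exact PolynomialModule.eval_smul _ _ _ }
  have hfM : ∀ (n : ℕ) (m : M), (f ^ n : S) • m = m := by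
    intro n m
    rw [hsmulM, map_pow, Polynomial.eval_pow, hψf, Polynomial.eval_monomial, one_pow, mul_one,
      one_pow, one_smul]
  have hunit : ∀ t : Submonoid.powers f, IsUnit (algebraMap S (Module.End S M) t) := by
    rintro ⟨_, n, rfl⟩
    have : algebraMap S (Module.End S M) (f ^ n) = 1 := LinearMap.ext fun m => hfM n m
    rw [this]; exact isUnit_one
  let Φ := (LocalizedModule.lift (Submonoid.powers f) evN hunit).restrictScalars R
  have hΦmk : ∀ (x : N), Φ (LocalizedModule.mk x 1) = ev x.1 := fun x =>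
    LocalizedModule.lift_mk_one _ _ hunit x
  have hΦS : ∀ (s : S) (x), Φ (s • x) = s • Φ x := fun s x =>
    (LocalizedModule.lift (Submonoid.powers f) evN hunit).map_smul s x
  have hΦf : ∀ (n : ℕ) (x), Φ (f ^ n • x) = Φ x := fun n x => by rw [hΦS, hfM]
  have hsℳ : ∀ {i d : ℕ} {s : S} {x : N}, s ∈ 𝒜 i → x ∈ ℳ d → s • x ∈ ℳ (i + d) :=
    fun hs hx => hgs.smul_mem hs hx
  have hfn : ∀ n : ℕ, f ^ n ∈ 𝒜 n := fun n => by
    simpa [smul_eq_mul] using SetLike.pow_mem_graded n hf
  have hfℳ : ∀ (n : ℕ) {d} {x : N}, x ∈ ℳ d → f ^ n • x ∈ ℳ (n + d) := fun n d x hx =>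
    hsℳ (hfn n) hx
  let Nf : Submodule R (LocalizedModule (Submonoid.powers f) N) :=
    { carrier := {x | ∃ d : ℕ, ∃ n ∈ ℳ d, f ^ d • x = LocalizedModule.mk n 1}
      zero_mem' := ⟨0, 0, zero_mem _, by simp⟩
      add_mem' := by
        rintro x y ⟨d, n, hn, hx⟩ ⟨d', n', hn', hy⟩
        refine ⟨d' + d, f ^ d' • n + f ^ d • n', add_mem (hfℳ _ hn) ?_, ?_⟩
        · rw [add_comm d' d]; exact hfℳ _ hn'
        · rw [show LocalizedModule.mk (f ^ d' • n + f ^ d • n') (1 : Submonoid.powers f) =
              LocalizedModule.mk (f ^ d' • n) 1 + LocalizedModule.mk (f ^ d • n') 1 from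
              map_add (LocalizedModule.mkLinearMap (Submonoid.powers f) N) _ _,
            ← LocalizedModule.smul'_mk, ← LocalizedModule.smul'_mk,
            ← hx, ← hy, smul_smul, smul_smul, ← pow_add, ← pow_add, add_comm d d', smul_add]
      smul_mem' := by
        rintro r x ⟨d, n, hn, hx⟩
        exact ⟨d, r • n, Submodule.smul_mem _ r hn, by
          rw [smul_comm, hx, LocalizedModule.smul'_mk]⟩ }
  have hinj : Function.Injective (Φ.comp Nf.subtype) := by
    intro a b hab
    change Φ a.1 = Φ b.1 at hab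
    obtain ⟨d, n, hn, hx⟩ := Nf.sub_mem a.2 b.2
    have h0 : Φ (a.1 - b.1) = 0 := by rw [map_sub]; exact sub_eq_zero.mpr hab
    generalize hxdef : a.1 - b.1 = x at hx h0
    obtain ⟨m, hm⟩ := hℳ.mp hn
    have h1 : ev n.1 = 0 := by rw [← hΦmk, ← hx, hΦf, h0]
    have h2 : m = 0 := by
      rw [← hm] at h1
      have : ev (PolynomialModule.single R' d m) = (1 : R') ^ d • m :=
        PolynomialModule.eval_single _ _ _
      rwa [this, one_pow, one_smul] at h1
    have hn0 : n = 0 := Subtype.ext (by rw [← hm, h2, PolynomialModule.single_zero]; rfl)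
    rw [hn0, LocalizedModule.zero_mk] at hx
    refine Subtype.ext (sub_eq_zero.mp (hxdef.trans ?_))
    induction x using LocalizedModule.induction_on with
    | h a t =>
      rw [LocalizedModule.smul'_mk, ← LocalizedModule.zero_mk t, LocalizedModule.mk_eq] at hx
      obtain ⟨u, hu⟩ := hx
      rw [← LocalizedModule.zero_mk t, LocalizedModule.mk_eq]
      refine ⟨⟨(u : S) * f ^ d, mul_mem u.2 ⟨d, rfl⟩⟩, ?_⟩
      simp only [Submonoid.smul_def, smul_zero, smul_smul] at hu ⊢
      rw [← hu]; congr 1; ring
  have hhom : ∀ (i : Fin k) (a : R'), ∃ x ∈ Nf, Φ x = a • g i := by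
    intro i a
    obtain ⟨d, s, hs, hsa⟩ := HomogeneousLocalization.Away.mk_surjective 𝒜 hf (e.symm a)
    have hs' : s ∈ 𝒜 d := by simpa using hs
    let gi : N := ⟨PolynomialModule.single R' 0 (g i), Submodule.subset_span ⟨i, rfl⟩⟩
    have hgi : gi ∈ ℳ 0 := hℳ.mpr ⟨g i, rfl⟩
    have hn : s • gi ∈ ℳ d := by simpa using hsℳ hs' hgi
    let x := LocalizedModule.mk (s • gi) (⟨f ^ d, d, rfl⟩ : Submonoid.powers f)
    have hx : f ^ d • x = LocalizedModule.mk (s • gi) 1 := by
      rw [LocalizedModule.smul'_mk]
      exact LocalizedModule.mk_cancel (⟨f ^ d, d, rfl⟩ : Submonoid.powers f) (s • gi)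
    refine ⟨x, ⟨d, _, hn, hx⟩, ?_⟩
    rw [← hΦf d x, hx, hΦmk]
    show PolynomialModule.eval (1 : R') (s • PolynomialModule.single R' 0 (g i)) = _
    rw [hsmul, hψ d s hs', PolynomialModule.monomial_smul_single,
      PolynomialModule.eval_single, one_pow, one_smul]
    congr 1
    show e _ = a
    rw [← e.eq_symm_apply, ← hsa]
  have hsurj : Function.Surjective (Φ.comp Nf.subtype) := by
    intro m
    have hm : m ∈ Submodule.span R' (Set.range g) := by rw [hg]; trivial
    obtain ⟨c, hc⟩ := (Submodule.mem_span_range_iff_exists_fun R').mp hm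
    choose x hx hxe using fun i => hhom i (c i)
    refine ⟨⟨∑ i, x i, sum_mem fun i _ => hx i⟩, ?_⟩
    show Φ (∑ i, x i) = m
    rw [map_sum, Finset.sum_congr rfl fun i _ => hxe i, hc]
  have hfin : Module.Finite S N := by
    rw [Module.Finite.iff_fg]
    exact Submodule.fg_span (Set.finite_range _)
  refine ⟨N, inferInstance, inferInstance, inferInstance, inferInstance, ℳ, decN, hgs, Nf,
    LinearEquiv.ofBijective (Φ.comp Nf.subtype) ⟨hinj, hsurj⟩, hfin, fun x => Iff.rfl, ?_⟩
  intro a x y hxy
  obtain ⟨d, s, hs, rfl⟩ := HomogeneousLocalization.Away.mk_surjective 𝒜 hf a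
  have hs' : s ∈ 𝒜 d := by simpa using hs
  have h1 : f ^ d • (y : LocalizedModule (Submonoid.powers f) N) = s • (x : LocalizedModule _ N) := by
    rw [← hxy, HomogeneousLocalization.Away.val_mk]
    induction (x : LocalizedModule (Submonoid.powers f) N) using LocalizedModule.induction_on with
    | h b t =>
      rw [LocalizedModule.mk_smul_mk, LocalizedModule.smul'_mk, LocalizedModule.smul'_mk,
        LocalizedModule.mk_eq]
      exact ⟨1, by simp only [Submonoid.smul_def, Submonoid.coe_mul, smul_smul]; congr 1; ring⟩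
  show Φ y = _ • Φ x
  rw [← hΦf d y, h1, hΦS, hsmulM, hψ d s hs',
    Polynomial.eval_monomial, one_pow, mul_one]

end Groth.Agent.S12095
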