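import Groth.Statements.S12096
import Mathlib.RingTheory.Localization.Away.Basic

set_option autoImplicit false
universe u
open BlowUp

namespace Groth.Agent.S12096

/-- Néron's blowup is compatible with localization. For a ring `A`, an ideal `I`, elements `π, a ∈ A`,
`A' = A[I/π] ⊆ A_π` the affine blowup algebra and `(A_a)' = A_a[I A_a/π]` that of the localization,
the canonical map `A' → (A_a)'` (the restriction of `A_π → (A_a)_π`, given here as a datum with that
compatibility) identifies `(A_a)'` with the localization `A'_a`. In Néron's situation (`I` the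
inverse image of the maximal ideal of `Λ`, `π` a uniformizer, `a ∉ I`) this reads: the Néron blowup
of `A_a` is `A'_a`; the identity holds for arbitrary `A, I, π, a`. -/
theorem result (A : Type u) [CommRing A] (I : Ideal A) (π a : A) (hπ : π ∈ I)
    (ψ : BlowUp.affineAlgebra A I π →+*
      BlowUp.affineAlgebra (Localization.Away a) (I.map (algebraMap A (Localization.Away a))) (algebraMap A (Localization.Away a) π))
    (hψ : ∀ x : BlowUp.affineAlgebra A I π,
      ((ψ x : BlowUp.affineAlgebra (Localization.Away a) (I.map (algebraMap A (Localization.Away a))) (algebraMap A (Localization.Away a) π)) :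
          Localization.Away (algebraMap A (Localization.Away a) π)) =
        Localization.awayMap (algebraMap A (Localization.Away a)) π (x : Localization.Away π)) :
    letI := ψ.toAlgebra
    IsLocalization.Away (algebraMap A (BlowUp.affineAlgebra A I π) a)
      (BlowUp.affineAlgebra (Localization.Away a) (I.map (algebraMap A (Localization.Away a))) (algebraMap A (Localization.Away a) π)) := by
  let A₁ := Localization.Away a
  let f : A →+* Localization.Away a := algebraMap A (Localization.Away a)
  let θ := Localization.awayMap f π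
  have hθalg : ∀ c : A, θ (algebraMap A (Localization.Away π) c) =
      algebraMap (Localization.Away a) (Localization.Away (f π)) (f c) := fun c => by
    simp [θ, Localization.awayMap, IsLocalization.Away.map, IsLocalization.map_eq]
  let B' := BlowUp.affineAlgebra (Localization.Away a) (I.map f) (f π)
  change @IsLocalization.Away _ _ (algebraMap A (BlowUp.affineAlgebra A I π) a) B' _ ψ.toAlgebra
  let := ψ.toAlgebra
  have hψ' : ∀ x : BlowUp.affineAlgebra A I π, ((ψ x : B') : Localization.Away (f π)) = θ x := hψ
  have hψa : ψ (algebraMap A (BlowUp.affineAlgebra A I π) a) = algebraMap (Localization.Away a) B' (f a) := by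
    apply Subtype.ext
    rw [hψ']
    exact hθalg a
  have hu : IsUnit (ψ (algebraMap A (BlowUp.affineAlgebra A I π) a)) := by
    rw [hψa]
    exact (IsLocalization.Away.algebraMap_isUnit a).map _
  refine (isLocalization_iff (R := BlowUp.affineAlgebra A I π) _ _).2 ⟨?_, ?_, ?_⟩
  · rintro ⟨y, n, rfl⟩
    rw [RingHom.algebraMap_toAlgebra, map_pow]
    exact hu.pow n
  · intro z
    suffices ∀ y ∈ B', ∃ (k : ℕ) (w : BlowUp.affineAlgebra A I π),
        y * algebraMap (Localization.Away a) _ (f a) ^ k = θ w by
      obtain ⟨k, w, hkw⟩ := this z.1 z.2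
      refine ⟨⟨w, ⟨_, k, rfl⟩⟩, Subtype.ext ?_⟩
      rw [RingHom.algebraMap_toAlgebra, map_pow, hψa, hψ']
      exact hkw
    intro y hy
    induction hy using Algebra.adjoin_induction with
    | mem y hy =>
      obtain ⟨x', hx', rfl⟩ := hy
      obtain ⟨⟨⟨x, hx⟩, ⟨_, k, rfl⟩⟩, hxk⟩ := (IsLocalization.mem_map_algebraMap_iff (Submonoid.powers a) (Localization.Away a)).1 hx'
      refine ⟨k, ⟨IsLocalization.mk' (Localization.Away π) x ⟨π, Submonoid.mem_powers π⟩,
        Algebra.subset_adjoin ⟨x, hx, rfl⟩⟩, ?_⟩
      change _ = θ (IsLocalization.mk' (Localization.Away π) x ⟨π, Submonoid.mem_powers π⟩)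
      simp only [θ, Localization.awayMap, IsLocalization.Away.map, IsLocalization.map_mk']
      rw [← map_pow, mul_comm, IsLocalization.mul_mk'_eq_mk'_of_mul]
      congr 1
      change f a ^ k * x' = f x
      rw [← hxk, mul_comm, map_pow]
    | algebraMap r =>
      obtain ⟨⟨c, ⟨_, k, rfl⟩⟩, hc⟩ := IsLocalization.surj (Submonoid.powers a) r
      refine ⟨k, algebraMap A _ c, ?_⟩
      change _ = θ (algebraMap A (Localization.Away π) c)
      rw [hθalg, ← map_pow, ← map_mul]
      congr 1
      simpa [f, map_pow] using hc
    | add y y' _ _ hy hy' =>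
      obtain ⟨k, w, h⟩ := hy
      obtain ⟨k', w', h'⟩ := hy'
      refine ⟨k + k', algebraMap A _ a ^ k' * w + algebraMap A _ a ^ k * w', ?_⟩
      push_cast
      change _ = θ (algebraMap A (Localization.Away π) a ^ k' * (w : Localization.Away π) +
        algebraMap A (Localization.Away π) a ^ k * (w' : Localization.Away π))
      rw [map_add, map_mul, map_mul, map_pow, map_pow, hθalg, ← h, ← h', pow_add]
      ring
    | mul y y' _ _ hy hy' =>
      obtain ⟨k, w, h⟩ := hy
      obtain ⟨k', w', h'⟩ := hy'
      refine ⟨k + k', w * w', ?_⟩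
      push_cast
      rw [map_mul, ← h, ← h', pow_add]
      ring
  · intro x y hxy
    have h0 : θ ((x : Localization.Away π) - y) = 0 := by
      rw [map_sub, ← hψ', ← hψ', sub_eq_zero]
      exact congrArg Subtype.val hxy
    obtain ⟨c, s, hcs⟩ := IsLocalization.exists_mk'_eq (Submonoid.powers π) ((x : Localization.Away π) - y)
    rw [← hcs] at h0
    simp only [θ, Localization.awayMap, IsLocalization.Away.map, IsLocalization.map_mk'] at h0
    obtain ⟨⟨_, m, rfl⟩, hm⟩ := (IsLocalization.mk'_eq_zero_iff _ _).1 h0
    change f π ^ m * f c = 0 at hm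
    rw [← map_pow, ← map_mul] at hm
    obtain ⟨⟨_, k, rfl⟩, hk⟩ := (IsLocalization.map_eq_zero_iff (Submonoid.powers a) _ _).1 hm
    refine ⟨⟨_, k, rfl⟩, Subtype.ext ?_⟩
    push_cast
    change algebraMap A (Localization.Away π) a ^ k * (x : Localization.Away π) =
      algebraMap A (Localization.Away π) a ^ k * (y : Localization.Away π)
    rw [← sub_eq_zero, ← mul_sub, ← hcs, ← map_pow, IsLocalization.mul_mk'_eq_mk'_of_mul,
      IsLocalization.mk'_eq_zero_iff]
    exact ⟨⟨_, m, rfl⟩, by change π ^ m * (a ^ k * c) = 0; rw [← hk]; change _ = a ^ k * (π ^ m * c); ring⟩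

end Groth.Agent.S12096
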