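import Groth.Statements.S12097
import Mathlib
-- import your own Groth.Agent.* helpers here

set_option autoImplicit false
universe u
open BlowUp

namespace Groth.Agent.S12097


/-- Néron's blowup is compatible with closed immersions. For a surjective ring map `B → A` with kernel
`J`, an ideal `I ⊆ B` containing `π`, and the affine blowup algebras `B' = B[I/π] ⊆ B_π`, `A' =
A[IA/π] ⊆ A_π`, the canonical map `B' → A'` (the restriction of `B_π → A_π`, given as a datum with
that compatibility) is surjective with kernel the elements `x` such that `π^n x ∈ J B'` for some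
`n`: `A'` is the quotient of `B'/JB'` by its `π`-power torsion. In Néron's situation (`I` the
inverse image of the maximal ideal of `Λ`, `π` a uniformizer) this is the printed functoriality; the
identity holds for any surjection. -/
theorem result (B A : Type u) [CommRing B] [CommRing A] [Algebra B A]
    (hq : Function.Surjective (algebraMap B A)) (I : Ideal B) (π : B) (hπ : π ∈ I)
    (ψ : BlowUp.affineAlgebra B I π →+* BlowUp.affineAlgebra A (I.map (algebraMap B A)) (algebraMap B A π))
    (hψ : ∀ x : BlowUp.affineAlgebra B I π,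
      ((ψ x : BlowUp.affineAlgebra A (I.map (algebraMap B A)) (algebraMap B A π)) : Localization.Away (algebraMap B A π)) =
        Localization.awayMap (algebraMap B A) π (x : Localization.Away π)) :
    Function.Surjective ψ ∧
      ∀ x : BlowUp.affineAlgebra B I π, x ∈ RingHom.ker ψ ↔
        ∃ n : ℕ, algebraMap B (BlowUp.affineAlgebra B I π) π ^ n * x ∈
          (RingHom.ker (algebraMap B A)).map (algebraMap B (BlowUp.affineAlgebra B I π)) := by
  have hθ : ∀ c : B, Localization.awayMap (algebraMap B A) π (algebraMap B _ c) =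
      algebraMap A (Localization.Away (algebraMap B A π)) (algebraMap B A c) := fun c => by
    simp [Localization.awayMap, IsLocalization.Away.map, IsLocalization.map_eq]
  have hπu : IsUnit (algebraMap A (Localization.Away (algebraMap B A π)) (algebraMap B A π)) :=
    IsLocalization.Away.algebraMap_isUnit _
  have hψalg : ∀ c : B, ψ (algebraMap B _ c) = algebraMap A _ (algebraMap B A c) := fun c => Subtype.ext (by
    rw [hψ]; exact hθ c)
  refine ⟨?_, fun x => ⟨fun hx => ?_, fun ⟨n, hn⟩ => ?_⟩⟩
  · rintro ⟨y, hy⟩
    induction hy using Algebra.adjoin_induction with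
    | mem y hy =>
      obtain ⟨z, hz, rfl⟩ := hy
      obtain ⟨i, hi, rfl⟩ := (Ideal.mem_map_iff_of_surjective _ hq).mp hz
      refine ⟨⟨IsLocalization.mk' (Localization.Away π) i ⟨π, Submonoid.mem_powers π⟩,
        Algebra.subset_adjoin ⟨i, hi, rfl⟩⟩, Subtype.ext ?_⟩
      rw [hψ]
      simp only [IsLocalization.eq_mk'_iff_mul_eq]
      rw [← hθ π, ← map_mul, IsLocalization.mk'_spec, hθ]
    | algebraMap r =>
      obtain ⟨c, rfl⟩ := hq r
      exact ⟨algebraMap B _ c, hψalg c⟩
    | add y z _ _ hy hz =>
      obtain ⟨a, ha⟩ := hy; obtain ⟨b, hb⟩ := hz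
      exact ⟨a + b, by rw [map_add, ha, hb]; rfl⟩
    | mul y z _ _ hy hz =>
      obtain ⟨a, ha⟩ := hy; obtain ⟨b, hb⟩ := hz
      exact ⟨a * b, by rw [map_mul, ha, hb]; rfl⟩
  · obtain ⟨b, ⟨_, n, rfl⟩, hb⟩ := IsLocalization.exists_mk'_eq (Submonoid.powers π) (x : Localization.Away π)
    have hb' : algebraMap B (Localization.Away π) (π ^ n) * (x : Localization.Away π) = algebraMap B _ b := by
      rw [← hb]
      exact IsLocalization.mk'_spec' (Localization.Away π) b (⟨π ^ n, n, rfl⟩ : Submonoid.powers π)
    have h0 : algebraMap A (Localization.Away (algebraMap B A π)) (algebraMap B A b) = 0 := by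
      rw [← hθ b, ← hb', map_mul, ← hψ x, RingHom.mem_ker.mp hx]
      simp
    obtain ⟨⟨_, m, rfl⟩, hm⟩ := (IsLocalization.map_eq_zero_iff (Submonoid.powers (algebraMap B A π)) _ _).mp h0
    refine ⟨m + n, ?_⟩
    have : algebraMap B (BlowUp.affineAlgebra B I π) π ^ (m + n) * x = algebraMap B _ (π ^ m * b) := by
      apply Subtype.ext
      show algebraMap B (Localization.Away π) π ^ (m + n) * (x : Localization.Away π) = algebraMap B _ (π ^ m * b)
      rw [map_mul, ← hb', map_pow, map_pow, pow_add, mul_assoc]
    rw [this]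
    refine Ideal.mem_map_of_mem _ ?_
    rw [RingHom.mem_ker, map_mul, map_pow]
    exact hm
  · have h0 : ∀ y ∈ (RingHom.ker (algebraMap B A)).map (algebraMap B (BlowUp.affineAlgebra B I π)), ψ y = 0 := by
      intro y hy
      have : (RingHom.ker (algebraMap B A)).map (algebraMap B (BlowUp.affineAlgebra B I π)) ≤ RingHom.ker ψ := by
        rw [Ideal.map_le_iff_le_comap]
        intro c hc
        rw [Ideal.mem_comap, RingHom.mem_ker, hψalg, RingHom.mem_ker.mp hc, map_zero]
      exact this hy
    have h1 := congrArg Subtype.val (h0 _ hn)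
    rw [map_mul, map_pow, hψalg] at h1
    rw [RingHom.mem_ker]
    apply Subtype.ext
    exact (hπu.pow n).mul_right_eq_zero.mp h1

end Groth.Agent.S12097
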