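import Groth.Statements.S12104
import Groth.Agent.H83.Fppf
import Groth.Agent.H83.ClopenEq

set_option autoImplicit false
open CategoryTheory MonoidalCategory CartesianMonoidalCategory MonObj GrpObj AlgebraicGeometry
universe u
open RedSub

namespace Groth.Agent.S12104

/-- Let G be a reductive S-group and (M, h : H ⟶ G_M) a representing pair for the functor of subgroups
of type (RC) of G (type (R) with closed root sets on the geometric fibres; every such subgroup of a
base change G_{S'} has the same points as the pullback of h along exactly one S-morphism S' ⟶ M).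
Suppose (Cl₁, cl₁ : M ⟶ Cl₁) and (Cl₂, cl₂ : M ⟶ Cl₂) are two pairs with the following properties:
Clᵢ finite and etale over S; clᵢ smooth, surjective, quasi-compact, locally of finite presentation
and locally quasi-projective with connected geometric fibres; and two subgroups of type (RC) of
G_{S'} with classifying maps g₁, g₂ : S' ⟶ M have the same image under clᵢ if and only if at every
point of S' their geometric fibres are conjugate under a point of the geometric fibre of G. Then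
there is exactly one S-isomorphism e : Cl₁ ≅ Cl₂ with cl₁ ≫ e.hom = cl₂. -/
theorem result {S : Scheme.{u}} (G : Over S) [GrpObj G] (hG : Red.IsReductive G)
    (M : Over S) (H : Over M.left) [GrpObj H] (h : H ⟶ Red.bc M.hom G) (hh : RedSub.IsTypeR h)
    (hRC : (∀ (s : ↥M.left) (D' : Red.SplitRed (Red.geomFibre s (Red.bc M.hom G))) (t' : D'.T ⟶ Red.geomFibre s _),
        t' ≫ (Over.pullback (Red.geomPt s)).map h = D'.i →
        ∀ a b c : D'.idx, (∃ v, v ≫ (Over.pullback (Red.geomPt s)).map h = D'.u a) →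
          (∃ v, v ≫ (Over.pullback (Red.geomPt s)).map h = D'.u b) → D'.P.root a + D'.P.root b = D'.P.root c →
          ∃ v, v ≫ (Over.pullback (Red.geomPt s)).map h = D'.u c))
    (huniv : ∀ (S' : Scheme.{u}) (f : S' ⟶ S) (H' : Over S') [GrpObj H'] (h' : H' ⟶ Red.bc f G), RedSub.IsTypeR h' →
        (∀ (s : ↥S') (D' : Red.SplitRed (Red.geomFibre s (Red.bc f G))) (t' : D'.T ⟶ Red.geomFibre s _),
        t' ≫ (Over.pullback (Red.geomPt s)).map h' = D'.i →
        ∀ a b c : D'.idx, (∃ v, v ≫ (Over.pullback (Red.geomPt s)).map h' = D'.u a) →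
          (∃ v, v ≫ (Over.pullback (Red.geomPt s)).map h' = D'.u b) → D'.P.root a + D'.P.root b = D'.P.root c →
          ∃ v, v ≫ (Over.pullback (Red.geomPt s)).map h' = D'.u c) →
        ∃! g : S' ⟶ M.left, g ≫ M.hom = f ∧ RedSub.SamePoints G f h' M h g) 
    (Cl₁ : Over S) (cl₁ : M ⟶ Cl₁) (Cl₂ : Over S) (cl₂ : M ⟶ Cl₂)
    (hCl₁ : IsFinite Cl₁.hom ∧ Etale Cl₁.hom ∧ Smooth cl₁.left ∧ Surjective cl₁.left ∧
      QuasiCompact cl₁.left ∧ LocallyOfFinitePresentation cl₁.left ∧ RedSub.IsLocallyQuasiProjective (Over.mk cl₁.left) ∧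
      (∀ c : ↥Cl₁.left, ConnectedSpace ↥(Red.geomFibre c (Over.mk cl₁.left)).left) ∧
      ∀ (S' : Scheme.{u}) (f : S' ⟶ S) (H₁ H₂ : Over S') [GrpObj H₁] [GrpObj H₂] (h₁ : H₁ ⟶ Red.bc f G)
        (h₂ : H₂ ⟶ Red.bc f G) (g₁ g₂ : S' ⟶ M.left), RedSub.IsTypeR h₁ → RedSub.IsTypeR h₂ →
        g₁ ≫ M.hom = f → g₂ ≫ M.hom = f → RedSub.SamePoints G f h₁ M h g₁ → RedSub.SamePoints G f h₂ M h g₂ →
        (g₁ ≫ cl₁.left = g₂ ≫ cl₁.left ↔
          ∀ s : ↥S', ∃ gpt : 𝟙_ _ ⟶ Red.geomFibre s (Red.bc f G),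
            RedSub.ConjEq ((Over.pullback (Red.geomPt s)).map h₁) ((Over.pullback (Red.geomPt s)).map h₂) gpt))
    (hCl₂ : IsFinite Cl₂.hom ∧ Etale Cl₂.hom ∧ Smooth cl₂.left ∧ Surjective cl₂.left ∧
      QuasiCompact cl₂.left ∧ LocallyOfFinitePresentation cl₂.left ∧ RedSub.IsLocallyQuasiProjective (Over.mk cl₂.left) ∧
      (∀ c : ↥Cl₂.left, ConnectedSpace ↥(Red.geomFibre c (Over.mk cl₂.left)).left) ∧
      ∀ (S' : Scheme.{u}) (f : S' ⟶ S) (H₁ H₂ : Over S') [GrpObj H₁] [GrpObj H₂] (h₁ : H₁ ⟶ Red.bc f G)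
        (h₂ : H₂ ⟶ Red.bc f G) (g₁ g₂ : S' ⟶ M.left), RedSub.IsTypeR h₁ → RedSub.IsTypeR h₂ →
        g₁ ≫ M.hom = f → g₂ ≫ M.hom = f → RedSub.SamePoints G f h₁ M h g₁ → RedSub.SamePoints G f h₂ M h g₂ →
        (g₁ ≫ cl₂.left = g₂ ≫ cl₂.left ↔
          ∀ s : ↥S', ∃ gpt : 𝟙_ _ ⟶ Red.geomFibre s (Red.bc f G),
            RedSub.ConjEq ((Over.pullback (Red.geomPt s)).map h₁) ((Over.pullback (Red.geomPt s)).map h₂) gpt)) :
    ∃! e : Cl₁ ≅ Cl₂, cl₁ ≫ e.hom = cl₂ := by
  have key : ∀ (A B : Over S) (f : M ⟶ A) (g : M ⟶ B),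
      Smooth f.left → Surjective f.left →
      (∀ c : ↥A.left, ConnectedSpace ↥(Red.geomFibre c (Over.mk f.left)).left) →
      IsFinite B.hom → Etale B.hom → ∃ k : A ⟶ B, f ≫ k = g := by
    intro A B f g hs hsur hconn hfin het
    have hcov : Groth.Agent.H83.Fppf.IsCov f := ⟨hsur, inferInstance, inferInstance⟩
    refine hcov.exists_desc g fun T a b e => ?_
    have := Groth.Agent.H83.ClopenEq.geometricallyConnected_of_geomFibre f.left hconn
    have hR : (Limits.pullback.fst f.left f.left ≫ g.left) ≫ B.hom =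
        (Limits.pullback.snd f.left f.left ≫ g.left) ≫ B.hom := by
      simp only [Category.assoc, Over.w]
      rw [← Over.w f, Limits.pullback.condition_assoc]
    have heq := Groth.Agent.H83.ClopenEq.eq_of_connected_fibres
      (Limits.pullback.fst f.left f.left) (Limits.pullback.diagonal f.left)
      (Limits.pullback.diagonal_fst _) B.hom _ _ hR
      (by rw [Limits.pullback.diagonal_fst_assoc, Limits.pullback.diagonal_snd_assoc])
      (fun m => (Limits.pullback.fst f.left f.left).isConnected_preimage_singleton m)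
    apply Over.OverMorphism.ext
    have el : a.left ≫ f.left = b.left ≫ f.left := congr_arg CommaMorphism.left e
    have := congr_arg (Limits.pullback.lift a.left b.left el ≫ ·) heq
    simpa only [Limits.pullback.lift_fst_assoc, Limits.pullback.lift_snd_assoc] using! this
  obtain ⟨hf₁, he₁, hs₁, hsur₁, -, -, -, hc₁, -⟩ := hCl₁
  obtain ⟨hf₂, he₂, hs₂, hsur₂, -, -, -, hc₂, -⟩ := hCl₂
  obtain ⟨k, hk⟩ := key Cl₁ Cl₂ cl₁ cl₂ hs₁ hsur₁ hc₁ hf₂ he₂
  obtain ⟨l, hl⟩ := key Cl₂ Cl₁ cl₂ cl₁ hs₂ hsur₂ hc₂ hf₁ he₁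
  have c₁ : Groth.Agent.H83.Fppf.IsCov cl₁ := ⟨hsur₁, inferInstance, inferInstance⟩
  have c₂ : Groth.Agent.H83.Fppf.IsCov cl₂ := ⟨hsur₂, inferInstance, inferInstance⟩
  refine ⟨⟨k, l, c₁.cancel ?_, c₂.cancel ?_⟩, hk, fun e he => ?_⟩
  · rw [reassoc_of% hk, hl, Category.comp_id]
  · rw [reassoc_of% hl, hk, Category.comp_id]
  · ext1
    exact c₁.cancel (he.trans hk.symm)

end Groth.Agent.S12104
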