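import Groth.Statements.S12105
import Groth.Agent.Lib.SiteCoh.PresheafSS
-- import your own Groth.Agent.* helpers here

set_option autoImplicit false
universe u
open CategoryTheory
open CohSite

namespace Groth.Agent.S12105
open CategoryTheory.Limits Groth.Agent.Lib.SiteCoh Groth.Agent.Lib.SpecSeq

open CategoryTheory.Limits in
/-- On a small site (C, J), for a presheaf of sets R on C and an abelian sheaf M there is a bounded E_2
spectral sequence of abelian groups with E_2^{p,q} isomorphic to H^p(R, H^q(M)) — the cohomology, in
the topos of presheaves (sheaves for the trivial topology), of the presheaf V ↦ H^q(V, M) with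
respect to R, i.e. the p-th Ext out of the free abelian presheaf on R — for p, q ≥ 0 and zero
otherwise, with abutment data whose filtrations are finite on H^n(aR, M), the cohomology of M with
respect to the sheaf of sets associated to R (n ≥ 0; zero for n < 0). The E_2 identifications and
abutment isomorphisms are asserted to exist only, not pinned to the canonical maps, so edge maps and
functoriality in R and M are not part of this statement. -/
theorem result {C : Type u} [SmallCategory C]
    (J : GrothendieckTopology C) (R : Cᵒᵖ ⥤ Type u) (M : Sheaf J AddCommGrpCat.{u}) :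
    ∃ (E : E₂CohomologicalSpectralSequence AddCommGrpCat.{u})
      (a : SpSeq.Abutment E (fun n : ℤ =>
        if 0 ≤ n then AddCommGrpCat.of (CohCx.HK ((presheafToSheaf J (Type u)).obj R) M n.toNat)
        else AddCommGrpCat.of PUnit.{u + 1})),
      (∀ n, a.IsFinite n) ∧ SpSeq.IsBounded E ∧
      ∀ p q : ℤ, Nonempty ((E.page 2 le_rfl).X (p, q) ≅
        (if 0 ≤ p ∧ 0 ≤ q then
          AddCommGrpCat.of (CohCx.HK (J := (⊥ : GrothendieckTopology C)) ⟨R, Presheaf.isSheaf_bot _⟩
            ⟨M.cohomologyPresheaf q.toNat, Presheaf.isSheaf_bot _⟩ p.toNat)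
         else AddCommGrpCat.of PUnit.{u + 1})) := by
  refine Composite.exists_spectralSequence (InclBot.inclBot J)
    (HomExt.homFunctor (InclBot.freeBot R))
    (fun I _ p => IsZero.of_iso (@AddCommGrpCat.isZero_of_subsingleton
      (AddCommGrpCat.of (Abelian.Ext (InclBot.freeBot R) ((InclBot.inclBot J).obj I) (p + 1)))
      (subsingleton_of_forall_eq 0 fun x => Abelian.Ext.eq_zero_of_injective x))
      (HomExt.rightDerivedIso _ _ _)) M _
    (fun n => ?_) (fun n hn => ?_) _ (fun p q => ?_) (fun p q h => ?_)
  · simp only [Int.natCast_nonneg, ↓reduceIte, Int.toNat_natCast]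
    exact ⟨Composite.rightDerivedCongr (PresheafSS.inclHomIso R) n M ≪≫
      HomExt.rightDerivedIso _ _ _⟩
  · rw [if_neg (by lia)]
    exact AddCommGrpCat.isZero_of_subsingleton _
  · simp only [Int.natCast_nonneg, and_self, ↓reduceIte, Int.toNat_natCast]
    exact ⟨((HomExt.homFunctor (InclBot.freeBot R)).rightDerived p).mapIso
      (PresheafSS.rightDerivedInclIso M q) ≪≫ HomExt.rightDerivedIso _ _ _⟩
  · rw [if_neg h]
    exact AddCommGrpCat.isZero_of_subsingleton _

end Groth.Agent.S12105
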