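import Groth.Statements.S12108
import Mathlib
import Groth.Agent.Lib.CofanSheaf.Basic

set_option autoImplicit false
open CategoryTheory CategoryTheory.Limits Opposite Groth
universe u
open SGA4

namespace Groth.Agent.S12108

/-- Let `(C, J)` be a small site, `X` an object and `s i : Y i ⟶ X` a family of morphisms indexed by a
small type. The following are equivalent: (i) the family is covering, for every `i` the diagonal of
presheaves `h_{Y i} ⟶ h_{Y i} ×_{h_X} h_{Y i}` becomes an isomorphism under the associated-sheaf
functor, and for all `i ≠ j` the sheaf associated to the presheaf `h_{Y i} ×_{h_X} h_{Y j}` is an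
initial object; (ii) the associated sheaf of `X`, with the maps induced by the `s i`, is a coproduct
of the associated sheaves of the `Y i` in sheaves of sets. -/
theorem result
    {C : Type u} [SmallCategory C] (J : GrothendieckTopology C) {X : C} {ι : Type u}
    (Y : ι → C) (s : ∀ i, Y i ⟶ X) :
    (Sieve.ofArrows Y s ∈ J X ∧
      (∀ i, IsIso ((presheafToSheaf J (Type u)).map (pullback.diagonal (yoneda.map (s i))))) ∧
      (∀ i j, i ≠ j → Nonempty (IsInitial ((presheafToSheaf J (Type u)).obj
        (pullback (yoneda.map (s i)) (yoneda.map (s j))))))) ↔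
    Nonempty (IsColimit (Cofan.mk ((presheafToSheaf J (Type u)).obj (yoneda.obj X))
      (fun i => (presheafToSheaf J (Type u)).map (yoneda.map (s i))))) := by
    rw [CofanSheaf.isColimit_iff_W, CofanSheaf.inj_iff, CofanSheaf.surj_iff]
    constructor
    · rintro ⟨hc, hd, hi⟩
      refine ⟨⟨fun i => (CofanSheaf.isIso_diagonal_iff (s i)).1 (hd i), fun i j W g h hne e => ?_⟩, hc⟩
      refine (CofanSheaf.isInitial_iff _).1 (hi i j hne) W ⟨?_⟩
      exact (pullback.lift (yoneda.map g) (yoneda.map h) (by rw [← Functor.map_comp, ← Functor.map_comp, e]) :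
        yoneda.obj W ⟶ pullback (yoneda.map (s i)) (yoneda.map (s j))).app (op W) (𝟙 W)
    · rintro ⟨⟨hd, hb⟩, hc⟩
      refine ⟨hc, fun i => (CofanSheaf.isIso_diagonal_iff (s i)).2 (hd i),
        fun i j hne => (CofanSheaf.isInitial_iff _).2 fun W ⟨z⟩ => ?_⟩
      exact hb i j W ((pullback.fst (yoneda.map (s i)) (yoneda.map (s j))).app _ z)
        ((pullback.snd (yoneda.map (s i)) (yoneda.map (s j))).app _ z) hne
        (congrArg (fun r : _ ⟶ yoneda.obj X => r.app (op W) z)
          (pullback.condition (f := yoneda.map (s i)) (g := yoneda.map (s j))))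

end Groth.Agent.S12108
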