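import Groth.Statements.S12109
import Mathlib
import Groth.Agent.Lib.LanPre.Basic

set_option autoImplicit false
open CategoryTheory CategoryTheory.Limits Opposite Groth
universe u
open SGA4

namespace Groth.Agent.S12109

/-- Let `u : C ⥤ C'` be a functor between small categories and `u_!` the left Kan extension functor on
presheaves of sets, whose restriction to ind-representable presheaves is the induced functor `Ind C
⥤ Ind C'`. Then `Ind(u)` is an equivalence — `u_!` is bijective on morphisms between
ind-representable presheaves on `C` and every ind-representable presheaf on `C'` is isomorphic to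
`u_! F` for some ind-representable `F` — if and only if `u` is full and faithful and every object of
`C'` is a retract (direct factor) of an object `u X`. -/
theorem result
    {C : Type u} [SmallCategory C] {C' : Type u} [SmallCategory C'] (u : C ⥤ C') :
    ((∀ (F G : Cᵒᵖ ⥤ Type u), IsIndObject F → IsIndObject G →
        Function.Bijective (fun φ : F ⟶ G => (u.op.lan : (Cᵒᵖ ⥤ Type u) ⥤ (C'ᵒᵖ ⥤ Type u)).map φ)) ∧
      (∀ G' : C'ᵒᵖ ⥤ Type u, IsIndObject G' →
        ∃ F : Cᵒᵖ ⥤ Type u, IsIndObject F ∧
          Nonempty ((u.op.lan : (Cᵒᵖ ⥤ Type u) ⥤ (C'ᵒᵖ ⥤ Type u)).obj F ≅ G'))) ↔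
    ((u.Full ∧ u.Faithful) ∧
      ∀ X' : C', ∃ (X : C) (i : X' ⟶ u.obj X) (r : u.obj X ⟶ X'), i ≫ r = 𝟙 X') := by
    let R := (Functor.whiskeringLeft Cᵒᵖ C'ᵒᵖ (Type u)).obj u.op
    constructor
    · rintro ⟨hb, he⟩
      have key : ∀ X Y : C, Function.Bijective fun g : X ⟶ Y => u.map g := fun X Y => by
        have h := hb (yoneda.obj X) (yoneda.obj Y) (isIndObject_yoneda X) (isIndObject_yoneda Y)
        let e : ((u.op.lan.obj (yoneda.obj X) : C'ᵒᵖ ⥤ Type u) ⟶ u.op.lan.obj (yoneda.obj Y)) ≃ (u.obj X ⟶ u.obj Y) :=
          (((LanPre.yonedaIso u X).homCongr (LanPre.yonedaIso u Y))).trans yonedaEquiv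
        have : (fun g : X ⟶ Y => u.map g) =
            e ∘ (fun φ => (u.op.lan).map φ) ∘ (yonedaEquiv (X := X) (F := yoneda.obj Y)).symm := by
          funext g
          change u.map g = yonedaEquiv ((LanPre.yonedaIso u X).inv ≫
            (u.op.lan).map (yonedaEquiv.symm g) ≫ (LanPre.yonedaIso u Y).hom)
          erw [← Adjunction.homEquiv_naturality_left_symm, yonedaEquiv_comp, Equiv.apply_symm_apply]
          have h2 := congrArg (fun t : yoneda.obj X ⟶ R.obj (yoneda.obj (u.obj Y)) => t.app (op X) (𝟙 X : (yoneda.obj X).obj (op X)))
            ((((LanPre.adj u).homEquiv _ _)).apply_symm_apply (yonedaEquiv.symm g ≫ LanPre.one u Y))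
          refine (Eq.trans ?_ h2.symm).trans ?_
          · change u.map g = u.map (𝟙 X ≫ g)
            rw [Category.id_comp]
          · rfl
        rw [this]
        exact e.bijective.comp (h.comp yonedaEquiv.symm.bijective)
      refine ⟨⟨⟨fun {X Y} => (key X Y).2⟩, ⟨fun {X Y} => @(key X Y).1⟩⟩, fun X' => ?_⟩
      obtain ⟨F, -, ⟨e⟩⟩ := he _ (isIndObject_yoneda X')
      obtain ⟨W, i, x, hx⟩ := LanPre.exists_rep u F (e.inv.app (op X') (𝟙 X'))
      refine ⟨W, i, e.hom.app _ (LanPre.η u F x), ?_⟩
      have h1 := congrArg (e.hom.app (op X')) hx
      rw [e.inv_hom_id_app_apply, NatTrans.naturality_apply] at h1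
      exact h1
    · rintro ⟨⟨hfull, hfaith⟩, hr⟩
      let L : (Cᵒᵖ ⥤ Type u) ⥤ (C'ᵒᵖ ⥤ Type u) := u.op.lan
      let adj : L ⊣ R := u.op.lanAdjunction (Type u)
      have hunit : IsIso adj.unit := Functor.coreflective' u.op
      let hL := adj.fullyFaithfulLOfIsIsoUnit
      refine ⟨fun F G _ _ => hL.map_bijective F G, fun G' hG' => ⟨R.obj G', ?_, ⟨?_⟩⟩⟩
      · rw [isIndObject_iff]
        have hf := hG'.isFiltered
        have : Small.{u} (CostructuredArrow yoneda (R.obj G')) := inferInstance
        refine ⟨?_, ?_⟩
        · let val := fun (A : CostructuredArrow yoneda (R.obj G')) =>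
            (@id ((R.obj G').obj (op A.left)) (yonedaEquiv A.hom) : G'.obj (op (u.obj A.left)))
          have lift : ∀ (X' : C') (x : G'.obj (op X')), ∃ (W : C) (i : X' ⟶ u.obj W)
              (y : G'.obj (op (u.obj W))), G'.map i.op y = x := fun X' x => by
            obtain ⟨W, i, r, hir⟩ := hr X'
            refine ⟨W, i, G'.map r.op x, ?_⟩
            rw [← Functor.map_comp_apply, ← op_comp, hir]
            simp
          have mkHom : ∀ (A : CostructuredArrow yoneda (R.obj G')) (W : C) (y : G'.obj (op (u.obj W)))
              (g : A.left ⟶ W), G'.map (u.map g).op y = val A →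
              yoneda.map g ≫ yonedaEquiv.symm (show (R.obj G').obj (op W) from y) = A.hom :=
            fun A W y g h => yonedaEquiv.injective (by
              rw [yonedaEquiv_symm_naturality_left, Equiv.apply_symm_apply]; exact h)
          have natv : ∀ {A B : CostructuredArrow yoneda (R.obj G')} (g : A ⟶ B),
              G'.map (u.map g.left).op (val B) = val A := fun {A B} g => by
            simp only [val]
            rw [← CostructuredArrow.w g, ← yonedaEquiv_naturality]
            rfl
          have hne : Nonempty (CostructuredArrow yoneda (R.obj G')) := by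
            obtain ⟨A⟩ := hf.nonempty
            obtain ⟨W, i, y, -⟩ := lift _ (yonedaEquiv A.hom)
            exact ⟨CostructuredArrow.mk (yonedaEquiv.symm (show (R.obj G').obj (op W) from y))⟩
          refine { cocone_objs := fun A B => ?_, cocone_maps := fun {A B} g h => ?_, nonempty := hne }
          · let A' : CostructuredArrow yoneda G' := CostructuredArrow.mk (yonedaEquiv.symm (val A))
            let B' : CostructuredArrow yoneda G' := CostructuredArrow.mk (yonedaEquiv.symm (val B))
            obtain ⟨M, a, b, -⟩ := hf.toIsFilteredOrEmpty.cocone_objs A' B'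
            obtain ⟨W, i, y, hy⟩ := lift _ (yonedaEquiv M.hom)
            have ha : G'.map (u.map (u.preimage (a.left ≫ i))).op y = val A := by
              rw [u.map_preimage, op_comp, Functor.map_comp_apply, hy, yonedaEquiv_naturality,
                CostructuredArrow.w a]
              exact yonedaEquiv.apply_symm_apply _
            have hb : G'.map (u.map (u.preimage (b.left ≫ i))).op y = val B := by
              rw [u.map_preimage, op_comp, Functor.map_comp_apply, hy, yonedaEquiv_naturality,
                CostructuredArrow.w b]
              exact yonedaEquiv.apply_symm_apply _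
            exact ⟨CostructuredArrow.mk (yonedaEquiv.symm (show (R.obj G').obj (op W) from y)),
              CostructuredArrow.homMk _ (mkHom A W y _ ha), CostructuredArrow.homMk _ (mkHom B W y _ hb), trivial⟩
          · let A' : CostructuredArrow yoneda G' := CostructuredArrow.mk (yonedaEquiv.symm (val A))
            let B' : CostructuredArrow yoneda G' := CostructuredArrow.mk (yonedaEquiv.symm (val B))
            have hh : ∀ k : A ⟶ B, yoneda.map (u.map k.left) ≫ B'.hom = A'.hom := fun k =>
              yonedaEquiv.injective (by
                simp only [A', B', CostructuredArrow.mk_hom_eq_self]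
                rw [yonedaEquiv_symm_naturality_left, Equiv.apply_symm_apply, Equiv.apply_symm_apply]
                exact natv k)
            obtain ⟨M, c, hc⟩ := hf.toIsFilteredOrEmpty.cocone_maps
              (CostructuredArrow.homMk (u.map g.left) (hh g) : A' ⟶ B') (CostructuredArrow.homMk (u.map h.left) (hh h))
            obtain ⟨W, i, y, hy⟩ := lift _ (yonedaEquiv M.hom)
            have hq : G'.map (u.map (u.preimage (c.left ≫ i))).op y = val B := by
              rw [u.map_preimage, op_comp, Functor.map_comp_apply, hy, yonedaEquiv_naturality,
                CostructuredArrow.w c]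
              exact yonedaEquiv.apply_symm_apply _
            refine ⟨CostructuredArrow.mk (yonedaEquiv.symm (show (R.obj G').obj (op W) from y)),
              CostructuredArrow.homMk _ (mkHom B W y _ hq), ?_⟩
            apply CostructuredArrow.hom_ext
            apply u.map_injective
            have hc' : u.map g.left ≫ c.left = u.map h.left ≫ c.left :=
              congrArg CommaMorphism.left hc
            simp [reassoc_of% hc']
        · have := essentiallySmallSelf (CostructuredArrow yoneda (R.obj G'))
          exact finallySmall_of_essentiallySmall _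
      · have : IsIso (adj.counit.app G') := by
          have : IsIso (R.map (adj.counit.app G')) := by
            have := adj.right_triangle_components G'
            have : R.map (adj.counit.app G') = inv (adj.unit.app (R.obj G')) := (IsIso.inv_eq_of_hom_inv_id this).symm
            rw [this]; infer_instance
          refine (NatTrans.isIso_iff_isIso_app _).2 fun ⟨X'⟩ => ?_
          obtain ⟨W, i, r, hir⟩ := hr X'
          set c := adj.counit.app G'
          have hW : IsIso (c.app (op (u.obj W))) := inferInstanceAs (IsIso ((R.map c).app (op W)))
          rw [isIso_iff_bijective] at hW ⊢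
          constructor
          · intro a b h
            have h' := congrArg (G'.map r.op) h
            erw [← NatTrans.naturality_apply, ← NatTrans.naturality_apply] at h'
            have h'' := congrArg ((L.obj (R.obj G')).map i.op) (hW.1 h')
            erw [← Functor.map_comp_apply, ← Functor.map_comp_apply, ← op_comp, hir] at h''
            simpa using h''
          · intro a
            obtain ⟨z, hz⟩ := hW.2 (G'.map r.op a)
            refine ⟨(L.obj (R.obj G')).map i.op z, ?_⟩
            erw [NatTrans.naturality_apply, hz]
            erw [← Functor.map_comp_apply, ← op_comp, hir]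
            simp
        exact asIso (adj.counit.app G')

end Groth.Agent.S12109
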