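import Groth.Statements.S12111
import Groth.Agent.Lib.ProjKoszul.Regularity
import Groth.Agent.Lib.ProperFin.Projective
import Groth.Agent.Lib.Cyc.Dev.SchemeEquiv

set_option autoImplicit false
universe u
open CategoryTheory CategoryTheory.Limits AlgebraicGeometry
open Pic13

namespace Groth.Agent.S12111
open CategoryTheory CategoryTheory.Limits AlgebraicGeometry

/-- Let k be an algebraically closed field, i : X ⟶ P^n_k a closed immersion and O_X(1) = i^*O(1). If a
coherent O_X-module F is m-regular (H^q(X, F(m - q)) = 0 for every q ≥ 1) then for every integer n'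
≥ m, F is n'-regular and F(n') is generated by its global sections. (The published statement is for
a projective k-scheme with an ample O_X(1) generated by its sections at the points of the support of
F; this row is the case of a closed subscheme of projective space.) -/
theorem result (k : Type u) [Field k] [IsAlgClosed k] (n : ℕ) {X : Scheme.{u}}
    (i : X ⟶ CohB1.ProjSpace n k) [IsClosedImmersion i] (F : X.Modules) (hF : Coh.IsCoh F) (m : ℤ)
    (h : Pic13.IsMRegular k i F m) (n' : ℤ) (hn' : m ≤ n') :
    Pic13.IsMRegular k i F n' ∧ Curv2.IsGloballyGenerated (Pic13.twistOn k i F n') := by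
  letI : X.Over (Spec (CommRingCat.of k)) := ⟨i ≫ CohB1.ProjSpace.toSpec n k⟩
  haveI := Lib.ProperFin.Projective.isNoetherian_projSpace (R := k) (n := n)
  haveI : IsLocallyNoetherian X := LocallyOfFiniteType.isLocallyNoetherian i
  have hcoh : ∀ d : ℤ, Coh.IsCoh (Pic13.twistOn k i F d) := fun d =>
    Lib.ProjCoh.Coherent.isCoh_tensorMod hF (Lib.Ample.GG.isCoh_of_isInvertible
      (PicLoc.isInvertible_pullback i (Lib.ProjCoh.Coherent.isInvertible_tw d)))
  let G := (Coh.push i).obj F
  have hG : Coh.IsCoh G := Lib.Cyc.Dev.SchemeEquiv.isCoh_push i hF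
  let e : ∀ d : ℤ, (Coh.push i).obj (Pic13.twistOn k i F d) ≅
      CohB1.tensorMod G (Twist.twistProjSpace n k d) := fun d =>
    (Coh.push i).mapIso (Lib.TensorMod.Basic.comm _ _) ≪≫
    ((Lib.Modules.ProjFormula.projIso i (E := Twist.twistProjSpace n k d)
      (Lib.Modules.DualBasis.hasDBases_of_isFinLocFree (Lib.TensorMod.LocFree.of_rank
        (Lib.TensorMod.LocFree.of_isInvertible (Lib.ProjCoh.Coherent.isInvertible_tw d))))).app F).symm ≪≫
    Lib.TensorMod.Basic.comm _ _
  have hH : ∀ (d : ℤ) (q : ℕ), Subsingleton (Coh.HH X (Pic13.twistOn k i F d) q) ↔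
      Subsingleton (Coh.HH (CohB1.ProjSpace n k) (CohB1.tensorMod G (Twist.twistProjSpace n k d)) q) := by
    intro d q
    have := (hcoh d).1
    have E := Lib.ZarCoh.Linear.affineLinearEquiv (A := k) i rfl (Pic13.twistOn k i F d) q
    exact ⟨fun _ => Lib.ProjKoszul.Chase.subsingleton_of_iso k (e d) E.injective.subsingleton,
      fun hs => by
        have := Lib.ProjKoszul.Chase.subsingleton_of_iso k (e d).symm hs
        exact E.symm.injective.subsingleton⟩
  have hreg : Lib.ProjKoszul.Regularity.Reg G m := fun q hq => (hH (m - q) q).1 (h q hq)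
  refine ⟨fun q hq => (hH (n' - q) q).2 (Lib.ProjKoszul.Regularity.reg_of_le hreg hn' q hq), ?_⟩
  obtain ⟨ι, p, hp⟩ := Lib.ProjKoszul.Regularity.isGloballyGenerated_of_le hG hreg hn'
  let pb := Scheme.Modules.pullback i
  have hL : pb.IsLeftAdjoint := (Scheme.Modules.pullbackPushforwardAdjunction i).isLeftAdjoint
  have : PreservesColimitsOfSize.{u, u} pb :=
    (Scheme.Modules.pullbackPushforwardAdjunction i).leftAdjoint_preservesColimits
  have hc := Lib.Cyc.Dev.SchemeCase.isIso_counit i (Pic13.twistOn k i F n')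
  let P₀ : (CohB1.ProjSpace n k).Modules := SheafOfModules.free ι
  let X₀ : X.Modules := SheafOfModules.free ι
  let p' : P₀ ⟶ CohB1.tensorMod G (Twist.twistProjSpace n k n') := p
  let j : X₀ ≅ pb.obj P₀ :=
    (PreservesCoproduct.iso pb (fun _ : ι => Coh.structureModule (CohB1.ProjSpace n k)) ≪≫
      Sigma.mapIso fun _ => PicLoc.pullbackStructureIso i).symm
  have : Epi p' := hp
  have hp' : Epi (pb.map p') := pb.map_epi p'
  exact ⟨ι, j.hom ≫ pb.map p' ≫ pb.map (e n').inv ≫
    (Scheme.Modules.pullbackPushforwardAdjunction i).counit.app _,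
    epi_comp' (IsIso.epi_of_iso j.hom) (epi_comp' hp' (epi_comp' (IsIso.epi_of_iso (pb.map (e n').inv)) (@IsIso.epi_of_iso _ _ _ _ _ hc)))⟩

end Groth.Agent.S12111
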