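import Groth.Statements.S12112
import Groth.Agent.Lib.ProjKoszul.Reg2
import Groth.Agent.Lib.CohBasics.Closure
import Groth.Agent.Lib.ProperFin.Projective
import Groth.Agent.Lib.Cyc.Dev.SchemeEquiv
import Groth.Agent.Lib.DerivedOX.PushExact

set_option autoImplicit false
universe u
open CategoryTheory CategoryTheory.Limits AlgebraicGeometry
open Pic13

namespace Groth.Agent.S12112
open CategoryTheory CategoryTheory.Limits AlgebraicGeometry

/-- Let k be an algebraically closed field, i : X ⟶ P^n_k a closed k-immersion, O_X(1) = i^*O(1), and F,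
G coherent O_X-modules with a short exact sequence 0 → F(-1) → F → G → 0 and G m-regular. Then (i)
H^q(X, F(n')) = 0 for q ≥ 2 and n' ≥ m - q; (ii) h^1(F(n' - 1)) ≥ h^1(F(n')) for n' ≥ m - 1, h^1
being the dimension over k; (iii) H^1(X, F(n')) = 0 for n' ≥ (m - 1) + h^1(F(m - 1)); in particular
F is (m + h^1(F(m - 1)))-regular. (The published statement takes F(-1) → F given by a section of
O_X(1); the printed argument uses only the short exact sequence and its twists, so any short exact
sequence of this shape is allowed here.) -/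
theorem result (k : Type u) [Field k] [IsAlgClosed k] (n : ℕ) (X : Scheme.{u})
    [X.Over (Spec (CommRingCat.of k))] (i : X ⟶ CohB1.ProjSpace n k) [IsClosedImmersion i]
    (hi : i ≫ CohB1.ProjSpace.toSpec n k = X ↘ Spec (CommRingCat.of k))
    (F G : X.Modules) (hF : Coh.IsCoh F) (hG : Coh.IsCoh G)
    (f : Pic13.twistOn k i F (-1) ⟶ F) (g : F ⟶ G) (hfg : f ≫ g = 0) (hS : (ShortComplex.mk f g hfg).ShortExact)
    (m : ℤ) (hGm : Pic13.IsMRegular k i G m) :
    (∀ (q : ℕ) (n' : ℤ), 2 ≤ q → m - q ≤ n' → Subsingleton (Coh.HH X (Pic13.twistOn k i F n') q)) ∧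
    (∀ n' : ℤ, m - 1 ≤ n' →
      Module.finrank k (Coh.HH X (Pic13.twistOn k i F n') 1) ≤ Module.finrank k (Coh.HH X (Pic13.twistOn k i F (n' - 1)) 1)) ∧
    (∀ n' : ℤ, (m - 1) + (Module.finrank k (Coh.HH X (Pic13.twistOn k i F (m - 1)) 1) : ℤ) ≤ n' →
      Subsingleton (Coh.HH X (Pic13.twistOn k i F n') 1)) ∧
    Pic13.IsMRegular k i F (m + Module.finrank k (Coh.HH X (Pic13.twistOn k i F (m - 1)) 1)) := by
  haveI := Lib.ProperFin.Projective.isNoetherian_projSpace (R := k) (n := n)
  haveI : IsLocallyNoetherian X := LocallyOfFiniteType.isLocallyNoetherian i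
  haveI : PreservesFiniteColimits (Scheme.Modules.pushforward i) :=
    Lib.DerivedOX.PushExact.preservesFiniteColimits_pushforward i
  haveI : PreservesLimits (Scheme.Modules.pushforward i) :=
    (Scheme.Modules.pullbackPushforwardAdjunction i).rightAdjoint_preservesLimits
  let e : ∀ (M : X.Modules) (d : ℤ), (Coh.push i).obj (Pic13.twistOn k i M d) ≅
      CohB1.tensorMod ((Coh.push i).obj M) (Twist.twistProjSpace n k d) := fun M d =>
    (Coh.push i).mapIso (Lib.TensorMod.Basic.comm _ _) ≪≫
    ((Lib.Modules.ProjFormula.projIso i (E := Twist.twistProjSpace n k d)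
      (Lib.Modules.DualBasis.hasDBases_of_isFinLocFree (Lib.TensorMod.LocFree.of_rank
        (Lib.TensorMod.LocFree.of_isInvertible (Lib.ProjCoh.Coherent.isInvertible_tw d))))).app M).symm ≪≫
    Lib.TensorMod.Basic.comm _ _
  have eq : ∀ (M : X.Modules), Coh.IsCoh M → ∀ (d : ℤ) (q : ℕ),
      Nonempty (Coh.HH (CohB1.ProjSpace n k) (CohB1.tensorMod ((Coh.push i).obj M) (Twist.twistProjSpace n k d)) q ≃ₗ[k]
        Coh.HH X (Pic13.twistOn k i M d) q) := fun M hM d q => by
    have : (Pic13.twistOn k i M d).IsQuasicoherent := (Lib.ProjCoh.Coherent.isCoh_tensorMod hM (Lib.Ample.GG.isCoh_of_isInvertible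
      (PicLoc.isInvertible_pullback i (Lib.ProjCoh.Coherent.isInvertible_tw (n := n) (R := k) d)))).1
    exact ⟨(Lib.Curves.LES.isoK k (e M d) q).symm ≪≫ₗ
      Lib.ZarCoh.Linear.affineLinearEquiv (A := k) i hi (Pic13.twistOn k i M d) q⟩
  have hGr : Lib.ProjKoszul.Regularity.Reg ((Coh.push i).obj G) m := fun q hq => by
    obtain ⟨E⟩ := eq G hG (m - q) q
    have := hGm q hq
    exact E.injective.subsingleton
  obtain ⟨h1, h2, h3, h4⟩ := Lib.ProjKoszul.Reg2.hyperplane (hS.map_of_exact (Scheme.Modules.pushforward i))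
    (Lib.Cyc.Dev.SchemeEquiv.isCoh_push i hF) (e F (-1)) hGr
  have tr : ∀ (d : ℤ) (q : ℕ), Module.finrank k (Coh.HH (CohB1.ProjSpace n k)
      (CohB1.tensorMod ((Coh.push i).obj F) (Twist.twistProjSpace n k d)) q) =
        Module.finrank k (Coh.HH X (Pic13.twistOn k i F d) q) := fun d q =>
    (eq F hF d q).some.finrank_eq
  refine ⟨fun q d hq hd => ?_, fun d hd => ?_, fun d hd => ?_, fun q hq => ?_⟩
  · have := h1 q d hq hd
    exact @Function.Injective.subsingleton _ _ _ (eq F hF d q).some.symm.injective this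
  · rw [← tr, ← tr]; exact h2 d hd
  · rw [← tr] at hd
    have := h3 d hd
    exact @Function.Injective.subsingleton _ _ _ (eq F hF d 1).some.symm.injective this
  · rw [← tr]
    have := h4 q hq
    exact @Function.Injective.subsingleton _ _ _ (eq F hF _ q).some.symm.injective this

end Groth.Agent.S12112
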