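import Groth.Statements.S12114
import Groth.Agent.H54.Chain.Main
-- import your own Groth.Agent.* helpers here

set_option autoImplicit false
universe u
open CategoryTheory CategoryTheory.Limits AlgebraicGeometry
open EtDl

namespace Groth.Agent.S12114

/-- Let k be an algebraically closed field, X a k-scheme of finite type whose local rings are
Cohen–Macaulay, and u, v : X ⟶ 𝔸^ι_k (ι a finite index type) two k-morphisms which are locally
quasi-finite and flat. Every closed point x of X has an open neighbourhood U together with a finite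
chain of k-morphisms w_0, …, w_m : U ⟶ 𝔸^ι_k (morphisms over Spec k, U carrying the structure map of
X), each locally quasi-finite and flat, with w_0 = u|_U, w_m = v|_U and such that w_{j+1} differs
from w_j in at most one coordinate function. (The published statement asks only for morphisms w_j,
which would make the assertion trivial; the printed argument produces w_j that are quasi-finite and
flat near x, via systems of parameters of the local ring, and that is what is stated here.) -/
theorem result (k : Type u) [Field k] [IsAlgClosed k]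
    (X : Scheme.{u}) [X.Over (Spec (CommRingCat.of k))] [LocallyOfFiniteType (X ↘ Spec (CommRingCat.of k))]
    [QuasiCompact (X ↘ Spec (CommRingCat.of k))]
    (hCM : ∀ y : X, LocCoh.IsCohenMacaulayLocalRing (X.presheaf.stalk y)) (ι : Type u) [Finite ι]
    (u v : X ⟶ AffineSpace ι (Spec (CommRingCat.of k)))
    (hu : u ≫ (AffineSpace ι (Spec (CommRingCat.of k)) ↘ Spec (CommRingCat.of k)) = X ↘ Spec (CommRingCat.of k))
    (hv : v ≫ (AffineSpace ι (Spec (CommRingCat.of k)) ↘ Spec (CommRingCat.of k)) = X ↘ Spec (CommRingCat.of k))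
    [LocallyQuasiFinite u] [Flat u] [LocallyQuasiFinite v] [Flat v] (x : X) (hx : IsClosed ({x} : Set X)) :
    ∃ (U : X.Opens), x ∈ U ∧ ∃ (m : ℕ) (w : Fin (m + 1) → ((U : Scheme.{u}) ⟶ AffineSpace ι (Spec (CommRingCat.of k)))),
      w 0 = U.ι ≫ u ∧ w (Fin.last m) = U.ι ≫ v ∧
      (∀ j : Fin (m + 1), LocallyQuasiFinite (w j) ∧ Flat (w j) ∧
        w j ≫ (AffineSpace ι (Spec (CommRingCat.of k)) ↘ Spec (CommRingCat.of k)) = U.ι ≫ (X ↘ Spec (CommRingCat.of k))) ∧
      (∀ j : Fin m, ∃ i : ι, ∀ i' : ι, i' ≠ i →
        (w j.castSucc).appTop (AffineSpace.coord (Spec (CommRingCat.of k)) i') =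
          (w j.succ).appTop (AffineSpace.coord (Spec (CommRingCat.of k)) i')) := by
  exact (isEmpty_or_nonempty ι).elim
    (fun _ => ⟨⊤, trivial, 0, fun _ => (⊤ : X.Opens).ι ≫ u, rfl,
      congrArg _ (AffineSpace.hom_ext (hu.trans hv.symm) isEmptyElim),
      fun _ => ⟨inferInstance, inferInstance, by rw [Category.assoc, hu]⟩, fun j => j.elim0⟩)
    (fun hne => (H54.Chain.exists_chain X _ ι u v hu hv x hx).elim fun U ⟨hxU, m, w, h0, h1, h2, h3⟩ =>
      ⟨U, hxU, m, w, h0, h1, h2, h3 hne⟩)

end Groth.Agent.S12114
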