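import Groth.Statements.S12118


set_option autoImplicit false
universe u v
open EGA41 Pointwise

namespace Groth.Agent.S12118

/-- Let A be a commutative ring, M an A-module, (M_k)_{k ≥ 0} a decreasing filtration of M by submodules
with M_0 = M and ⋂_k M_k = 0, and f an element of A which is a non-zero-divisor on every graded
piece M_k/M_{k+1} (equivalently on the associated graded module). Then (i) f is a non-zero-divisor
on M, and (ii) M_k ∩ fM = fM_k for every k ≥ 0. -/
theorem result {A : Type u} [CommRing A] {M : Type v} [AddCommGroup M] [Module A M]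
    (F : ℕ → Submodule A M) (hanti : Antitone F) (h0 : F 0 = ⊤) (hsep : ⨅ k, F k = ⊥) (f : A)
    (hreg : ∀ k : ℕ, IsSMulRegular (↥(F k) ⧸ Submodule.comap (F k).subtype (F (k + 1))) f) :
    IsSMulRegular M f ∧ ∀ k : ℕ, F k ⊓ (Ideal.span {f} • (⊤ : Submodule A M)) = Ideal.span {f} • F k := by
  have step : ∀ (k : ℕ) (y : M), y ∈ F k → f • y ∈ F (k + 1) → y ∈ F (k + 1) := by
    intro k y hy hfy
    let y' : ↥(F k) := ⟨y, hy⟩
    have h := hreg k (a₁ := (Submodule.Quotient.mk y' : ↥(F k) ⧸ Submodule.comap (F k).subtype (F (k + 1)))) (a₂ := 0) (by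
      show f • (Submodule.Quotient.mk y' : ↥(F k) ⧸ Submodule.comap (F k).subtype (F (k + 1))) = f • 0
      rw [smul_zero, ← Submodule.Quotient.mk_smul, Submodule.Quotient.mk_eq_zero]
      exact hfy)
    exact (Submodule.Quotient.mk_eq_zero (Submodule.comap (F k).subtype (F (k + 1)))).mp h
  have key : ∀ (k : ℕ) (y : M), f • y ∈ F k → y ∈ F k := by
    intro k y hy
    have : ∀ j ≤ k, y ∈ F j := by
      intro j hj
      induction j with
      | zero => rw [h0]; trivial
      | succ j ih => exact step j y (ih (by omega)) (hanti hj hy)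
    exact this k le_rfl
  refine ⟨fun x y hxy => sub_eq_zero.mp ?_, fun k => le_antisymm ?_ ?_⟩
  · have h : x - y ∈ ⨅ k, F k := (Submodule.mem_iInf _).mpr fun k => key k _ (by
      rw [smul_sub, sub_eq_zero.mpr hxy]; exact zero_mem _)
    rwa [hsep, Submodule.mem_bot] at h
  · rintro z ⟨hz, hz'⟩
    rw [SetLike.mem_coe, Submodule.ideal_span_singleton_smul] at hz'
    obtain ⟨y, -, rfl⟩ := (Submodule.mem_smul_pointwise_iff_exists _ _ _).mp hz'
    exact Submodule.smul_mem_smul (Ideal.mem_span_singleton_self f) (key k y hz)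
  · refine le_inf Submodule.smul_le_right (Submodule.smul_mono le_rfl le_top)


end Groth.Agent.S12118
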