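import Groth.Statements.S12123
import Groth.Agent.Lib.ProCons45.Basic
import Groth.Agent.Lib.Spectral.Basic
-- import your own Groth.Agent.* helpers here

set_option autoImplicit false
universe u
open EGA41

namespace Groth.Agent.S12123

open AlgebraicGeometry Topology in
/-- Let X be a quasi-separated scheme and X^cons its underlying set with the constructible topology,
generated by the quasi-compact open subsets and their complements (for X quasi-separated this is the
topology whose open sets are the ind-constructible subsets). Then X^cons is a Hausdorff, locally
compact, totally disconnected space. (The published statement also asserts that X^cons is Hausdorff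
only if X is quasi-separated; for the topology used here that converse fails when X is not
quasi-separated, where the two constructible topologies differ, so it is not part of this row.) -/
theorem result (X : Scheme.{u}) [QuasiSeparatedSpace X] :
    T2Space (WithConstructibleTopology X) ∧ LocallyCompactSpace (WithConstructibleTopology X) ∧
      TotallyDisconnectedSpace (WithConstructibleTopology X) := by
  have hT : @T2Space X (constructibleTopology X) := Groth.Agent.Lib.Spectral.Basic.t2Space_cons
  have hD : @TotallyDisconnectedSpace X (constructibleTopology X) :=
    Groth.Agent.Lib.Spectral.Basic.totallyDisconnectedSpace_cons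
  have hc : Continuous[_, constructibleTopology X]
      (WithTopology.ofTopology (t := constructibleTopology X) : WithConstructibleTopology X → X) :=
    WithTopology.continuous_ofTopology _
  have hT' : T2Space (WithConstructibleTopology X) :=
    @T2Space.of_injective_continuous _ _ _ (constructibleTopology X) hT _
      (WithTopology.ofTopology_injective _) hc
  have : WeaklyLocallyCompactSpace (WithConstructibleTopology X) := ⟨fun x => by
    obtain ⟨U, hU, hxU, -⟩ :=
      exists_isAffineOpen_mem_and_subset (x := x.ofTopology) (U := (⊤ : X.Opens)) trivial
    refine ⟨WithTopology.toTopology (constructibleTopology X) '' (U : Set X), ?_, ?_⟩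
    · exact @IsCompact.image _ _ (constructibleTopology X) _ _ _
        (Groth.Agent.Lib.ProCons45.Basic.isCompact_cons U.2 hU.isCompact)
        (WithTopology.continuous_toTopology _)
    · refine Filter.mem_of_superset (IsOpen.mem_nhds (@IsOpen.preimage _ _ _
        (constructibleTopology X) _ hc _
        (hU.isCompact.isOpen_constructibleTopology_of_isOpen U.2)) hxU) fun y hy => ⟨_, hy, rfl⟩⟩
  refine ⟨hT', inferInstance, ⟨fun t _ ht x hx y hy => ?_⟩⟩
  refine WithTopology.ofTopology_injective _ ?_
  have h := @TotallyDisconnectedSpace.isTotallyDisconnected_univ X (constructibleTopology X) hD
    (WithTopology.ofTopology '' t) (Set.subset_univ _)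
    (@IsPreconnected.image _ _ _ (constructibleTopology X) _ ht _
      (@Continuous.continuousOn _ _ _ (constructibleTopology X) _ _ hc))
  exact h (Set.mem_image_of_mem _ hx) (Set.mem_image_of_mem _ hy)

end Groth.Agent.S12123
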