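import Groth.Statements.S12125
import Groth.Agent.Lib.Cohen.InsepGenNor
import Groth.Agent.Lib.Cohen.QuasiExcellent
import Groth.Agent.Lib.Cohen.NagataFiniteType

set_option autoImplicit false
set_option linter.style.haveILetI false
universe u
open EGA4

namespace Groth.Agent.S12125

/-- Let A be a Noetherian ring. Then every quotient of A by a prime ideal is N-2 (i.e. A is a Nagata
ring) if and only if (1) for every maximal ideal m of A every quotient of A_m by a prime ideal is
N-2, and (2) for every prime p of A, writing B = A/p with fraction field K, for every finite purely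
inseparable field extension K' of K and every sub-B-algebra B' of K' which is a finite B-module and
has K' as its fraction field, there is a nonzero element f of B' such that B'_f is an integrally
closed domain. -/
theorem result (A : Type u) [CommRing A] [IsNoetherianRing A] :
    CAlg.IsNagata A ↔
      ((∀ (m : Ideal A) [m.IsMaximal] (P : Ideal (Localization.AtPrime m)) [P.IsPrime],
          CAlg.IsN2 (Localization.AtPrime m ⧸ P)) ∧
        ∀ (p : Ideal A) [p.IsPrime] (K' : Type u) [Field K'] [Algebra (A ⧸ p) K']
          [Algebra (FractionRing (A ⧸ p)) K'] [IsScalarTower (A ⧸ p) (FractionRing (A ⧸ p)) K']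
          [FiniteDimensional (FractionRing (A ⧸ p)) K'] [IsPurelyInseparable (FractionRing (A ⧸ p)) K']
          (B' : Subalgebra (A ⧸ p) K'), Module.Finite (A ⧸ p) B' → IsFractionRing B' K' →
            ∃ f : B', f ≠ 0 ∧ IsIntegrallyClosed (Localization.Away f)) := by
  refine ⟨fun h => ⟨fun m _ P _ =>
    (Groth.Agent.Lib.Excellent.Nagata.isNagata_of_isLocalization m.primeCompl
      (A' := Localization.AtPrime m) h).2 P, ?_⟩, fun h => ?_⟩
  · intro p _ K' _ _ _ _ _ _ B' hfin _
    haveI : IsDomain (A ⧸ p) := Ideal.Quotient.isDomain p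
    haveI := hfin
    have hN := Groth.Agent.Lib.Cohen.Bridge.isNagata_of_finite (R := B')
      (Groth.Agent.Lib.Excellent.Nagata.isNagata_quotient h p)
    haveI := hN.1
    exact Groth.Agent.Lib.Cohen.NagataFiniteType.genNor_of_isN2
      (Groth.Agent.Lib.Cohen.NagataFiniteType.isN2_of_isNagata hN)
  · obtain ⟨hloc, hgen⟩ := h
    refine Groth.Agent.Lib.Cohen.QuasiExcellent.isNagata_of_local A (fun B _ _ _ hB => ?_)
      fun m _ => ⟨IsLocalization.isNoetherianRing m.primeCompl _ inferInstance, fun P _ => hloc m P⟩
    haveI := hB
    let q := RingHom.ker (algebraMap A B)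
    haveI : q.IsPrime := RingHom.ker_isPrime _
    haveI : IsDomain (A ⧸ q) := Ideal.Quotient.isDomain q
    letI : Algebra (A ⧸ q) B := (RingHom.kerLift (algebraMap A B)).toAlgebra
    haveI : IsScalarTower A (A ⧸ q) B := IsScalarTower.of_algebraMap_eq fun _ => rfl
    haveI : Module.Finite (A ⧸ q) B := Module.Finite.of_restrictScalars_finite A _ _
    haveI : FaithfulSMul (A ⧸ q) B :=
      (faithfulSMul_iff_algebraMap_injective _ _).2 (RingHom.kerLift_injective _)
    exact Groth.Agent.Lib.Cohen.InsepGenNor.genNor_of_purelyInseparable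
      (fun F _ _ _ _ _ _ B' h1 h2 => hgen q F B' h1 h2) B

end Groth.Agent.S12125
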