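import Groth.Statements.S12126
import Groth.Agent.Lib.Cyc.DimFormula
import Groth.Agent.Lib.Excellent.Localization
import Mathlib.RingTheory.FiniteType
import Mathlib.SetTheory.Cardinal.ENat

set_option autoImplicit false
universe u
open CAlg

namespace Groth.Agent.S12126

open Groth.Agent.Lib.Cyc

theorem isCatenary_of_ringEquiv {T B : Type u} [CommRing T] [CommRing B] (e : T ≃+* B)
    (h : CAlg.IsCatenary T) : CAlg.IsCatenary B := by
  letI : Algebra T B := e.toRingHom.toAlgebra
  haveI : IsLocalization (⊥ : Submonoid T) B := by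
    refine ⟨?_, ?_, ?_⟩
    · rintro ⟨y, hy⟩
      rw [Submonoid.mem_bot] at hy
      subst hy
      simp
    · intro z
      refine ⟨(e.symm z, 1), ?_⟩
      show z * e 1 = e (e.symm z)
      simp
    · intro a b hab
      exact ⟨1, by simpa using e.injective hab⟩
  exact Groth.Agent.Lib.Excellent.Localization.isCatenary_of_isLocalization (⊥ : Submonoid T) h

theorem isCatenary_atPrime_of_le {A : Type u} [CommRing A] {Q M : Ideal A} [Q.IsPrime] [M.IsPrime]
    (hle : Q ≤ M) (h : CAlg.IsCatenary (Localization.AtPrime M)) :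
    CAlg.IsCatenary (Localization.AtPrime Q) := by
  have hle' : M.primeCompl ≤ Q.primeCompl := fun a ha haQ => ha (hle haQ)
  letI : Algebra (Localization.AtPrime M) (Localization.AtPrime Q) :=
    IsLocalization.localizationAlgebraOfSubmonoidLe (Localization.AtPrime M)
      (Localization.AtPrime Q) M.primeCompl Q.primeCompl hle'
  haveI : IsScalarTower A (Localization.AtPrime M) (Localization.AtPrime Q) :=
    IsLocalization.localization_isScalarTower_of_submonoid_le (Localization.AtPrime M)
      (Localization.AtPrime Q) M.primeCompl Q.primeCompl hle'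
  haveI : IsLocalization (Q.primeCompl.map (algebraMap A (Localization.AtPrime M)))
      (Localization.AtPrime Q) :=
    IsLocalization.isLocalization_of_submonoid_le _ _ M.primeCompl Q.primeCompl hle'
  exact Groth.Agent.Lib.Excellent.Localization.isCatenary_of_isLocalization
    (Q.primeCompl.map (algebraMap A (Localization.AtPrime M))) h

/-- `ht q + ht (ker φ) = ht (φ⁻¹ q)` when the local ring of the source at `φ⁻¹ q` is catenary. -/
theorem height_map_add_local {A S : Type u} [CommRing A] [IsNoetherianRing A] [IsDomain A]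
    [CommRing S] [IsDomain S] [IsNoetherianRing S] (φ : A →+* S) (hφ : Function.Surjective φ)
    (q : Ideal S) [q.IsPrime] (hcat : CAlg.IsCatenary (Localization.AtPrime (q.comap φ))) :
    q.height + (RingHom.ker φ).height = (q.comap φ).height := by
  set Q := q.comap φ with hQ
  haveI : IsDomain (Localization.AtPrime Q) :=
    IsLocalization.isDomain_localization Q.primeCompl_le_nonZeroDivisors
  haveI : IsDomain (Localization.AtPrime q) :=
    IsLocalization.isDomain_localization q.primeCompl_le_nonZeroDivisors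
  let ψ : Localization.AtPrime Q →+* Localization.AtPrime q :=
    Localization.localRingHom Q q φ hQ
  have hψ : Function.Surjective ψ := by
    intro z
    obtain ⟨b, s, rfl⟩ := IsLocalization.exists_mk'_eq q.primeCompl z
    obtain ⟨a, rfl⟩ := hφ b
    obtain ⟨t, ht⟩ := hφ (s : S)
    refine ⟨IsLocalization.mk' _ a (⟨t, fun h => s.2 (by rw [← ht]; exact h)⟩ : Q.primeCompl), ?_⟩
    rw [Localization.localRingHom_mk']
    congr 1
    exact Subtype.ext ht
  have hker : RingHom.ker ψ = (RingHom.ker φ).map (algebraMap A (Localization.AtPrime Q)) := by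
    apply le_antisymm
    · intro z hz
      obtain ⟨a, s, rfl⟩ := IsLocalization.exists_mk'_eq Q.primeCompl z
      rw [RingHom.mem_ker, Localization.localRingHom_mk', IsLocalization.mk'_eq_zero_iff] at hz
      obtain ⟨m, hm⟩ := hz
      have hm0 : (m : S) ≠ 0 := fun h => m.2 (by rw [h]; exact q.zero_mem)
      have ha : a ∈ RingHom.ker φ := (mul_eq_zero.mp hm).resolve_left hm0
      rw [IsLocalization.mk'_mem_map_algebraMap_iff]
      exact ⟨1, Q.primeCompl.one_mem, by simpa using ha⟩
    · rw [Ideal.map_le_iff_le_comap]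
      intro a ha
      show ψ (algebraMap _ _ a) = 0
      rw [Localization.localRingHom_to_map, RingHom.mem_ker.mp ha, map_zero]
  have hdisj : Disjoint (Q.primeCompl : Set A) (RingHom.ker φ : Set A) := by
    rw [Set.disjoint_left]
    exact fun a ha hk => ha (show φ a ∈ q by rw [RingHom.mem_ker.mp hk]; exact q.zero_mem)
  haveI : (RingHom.ker φ).IsPrime := RingHom.ker_isPrime φ
  have h := (DimFormula.height_map_add ψ hψ (IsLocalRing.maximalIdeal (Localization.AtPrime q))).2
    inferInstance hcat
  rw [hker, IsLocalization.height_map_of_disjoint _ _ hdisj] at h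
  have hcomap : (IsLocalRing.maximalIdeal (Localization.AtPrime q)).comap ψ =
      IsLocalRing.maximalIdeal (Localization.AtPrime Q) :=
    (IsLocalRing.local_hom_TFAE ψ).out 0 4 |>.mp (Localization.isLocalHom_localRingHom Q q φ hQ)
  rw [hcomap] at h
  simp only [← Localization.AtPrime.map_eq_maximalIdeal] at h
  rwa [IsLocalization.height_map_of_disjoint (S := Localization.AtPrime q) q.primeCompl q
    (Set.disjoint_left.mpr fun a ha h => (show a ∉ q from ha) h),
    IsLocalization.height_map_of_disjoint (S := Localization.AtPrime Q) Q.primeCompl Q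
    (Set.disjoint_left.mpr fun a ha h => (show a ∉ Q from ha) h)] at h

/-- The formula for one prime. -/
def Formula (R : Type u) [CommRing R] [IsLocalRing R] (e : ℕ) (B : Type u) [CommRing B]
    [Algebra R B] (q : Ideal B) [q.LiesOver (IsLocalRing.maximalIdeal R)] : Prop :=
  ∃ h t d : ℕ, q.height = h ∧
    Algebra.trdeg (R ⧸ IsLocalRing.maximalIdeal R) (B ⧸ q) = (t : Cardinal.{u}) ∧
    Algebra.trdeg R B = (d : Cardinal.{u}) ∧ h + t = e + d

theorem step {R : Type u} [CommRing R] [IsDomain R] [IsNoetherianRing R] [IsLocalRing R] (e : ℕ)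
    {B0 B1 : Type u} [CommRing B0] [IsDomain B0] [CommRing B1] [IsDomain B1] [Algebra R B0]
    [Algebra R B1] [Algebra B0 B1] [IsScalarTower R B0 B1] [Algebra.FiniteType R B0]
    [FaithfulSMul R B0] [FaithfulSMul B0 B1]
    (φ : MvPolynomial (Fin 1) B0 →ₐ[B0] B1) (hφ : Function.Surjective φ)
    (hcat : ∀ (Q : Ideal (MvPolynomial (Fin 1) B0)) [Q.IsPrime],
      Q.LiesOver (IsLocalRing.maximalIdeal R) → CAlg.IsCatenary (Localization.AtPrime Q))
    (IH : ∀ (q0 : Ideal B0) [q0.IsPrime] [q0.LiesOver (IsLocalRing.maximalIdeal R)],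
      Formula R e B0 q0)
    (q1 : Ideal B1) [q1.IsPrime] [hq1 : q1.LiesOver (IsLocalRing.maximalIdeal R)] :
    Formula R e B1 q1 := by
  haveI : IsNoetherianRing B0 := Algebra.FiniteType.isNoetherianRing R B0
  haveI : IsNoetherianRing B1 := isNoetherianRing_of_surjective _ _ φ.toRingHom hφ
  set m := IsLocalRing.maximalIdeal R with hm
  set q0 : Ideal B0 := q1.comap (algebraMap B0 B1) with hq0
  haveI : q1.LiesOver q0 := ⟨rfl⟩
  haveI : q0.LiesOver m := ⟨by
    rw [hq0, Ideal.under, Ideal.comap_comap, ← IsScalarTower.algebraMap_eq]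
    exact hq1.over⟩
  obtain ⟨h0, t0, d0, hh0, ht0, hd0, he0⟩ := IH q0
  -- relative dimension formula at the generic point
  obtain ⟨tP, htP, htP'⟩ := DimFormula.height_ker_add_trdeg_of_injective φ hφ
  -- and at `q1`
  obtain ⟨tQ, htQ, htQ'⟩ := DimFormula.height_ker_add_trdeg q0
    ((Ideal.Quotient.mkₐ B0 q1).comp φ) (Ideal.Quotient.mk_surjective.comp hφ)
  have hker : RingHom.ker ((Ideal.Quotient.mkₐ B0 q1).comp φ) = q1.comap φ.toRingHom := by
    ext a
    exact Ideal.Quotient.eq_zero_iff_mem
  rw [hker] at htQ'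
  have hQm : (q1.comap φ.toRingHom).LiesOver m := ⟨by
    rw [hq1.over]
    show q1.comap (algebraMap R B1) = (q1.comap φ.toRingHom).comap (algebraMap R _)
    rw [Ideal.comap_comap]
    congr 1
    ext r
    show algebraMap R B1 r = φ (algebraMap R _ r)
    rw [IsScalarTower.algebraMap_apply R B0 B1, IsScalarTower.algebraMap_apply R B0
      (MvPolynomial (Fin 1) B0), φ.commutes]⟩
  have hsum := height_map_add_local φ.toRingHom hφ q1 (hcat _ hQm)
  obtain ⟨a, ha⟩ := ENat.ne_top_iff_exists.mp
    (Ideal.height_ne_top (RingHom.ker_isPrime φ.toRingHom).ne_top)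
  obtain ⟨b, hb⟩ := ENat.ne_top_iff_exists.mp
    (Ideal.height_ne_top (Ideal.IsPrime.ne_top ‹q1.IsPrime›))
  obtain ⟨c, hc⟩ := ENat.ne_top_iff_exists.mp
    (Ideal.height_ne_top (I := q1.comap φ.toRingHom) (Ideal.IsPrime.ne_top inferInstance))
  change (RingHom.ker φ.toRingHom).height + _ = _ at htP'
  rw [← ha] at htP'
  rw [← hc, hh0] at htQ'
  rw [← ha, ← hb, ← hc] at hsum
  have h1 : a + tP = 1 := by exact_mod_cast htP'
  have h2 : c + tQ = h0 + 1 := by exact_mod_cast htQ'
  have h3 : b + a = c := by exact_mod_cast hsum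
  haveI : IsScalarTower (R ⧸ m) (B0 ⧸ q0) (B1 ⧸ q1) := IsScalarTower.of_algebraMap_eq fun x => by
    obtain ⟨r, rfl⟩ := Ideal.Quotient.mk_surjective x
    show Ideal.Quotient.mk q1 (algebraMap R B1 r) =
      Ideal.Quotient.mk q1 (algebraMap B0 B1 (algebraMap R B0 r))
    rw [← IsScalarTower.algebraMap_apply]
  have hres := trdeg_add_eq (R ⧸ m) (B0 ⧸ q0) (A := B1 ⧸ q1)
  rw [ht0, htQ] at hres
  haveI : FaithfulSMul R B1 := FaithfulSMul.trans R B0 B1
  have hgen := trdeg_add_eq R B0 (A := B1)
  rw [hd0, htP] at hgen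
  exact ⟨b, t0 + tQ, d0 + tP, hb.symm, by rw [← hres]; simp, by rw [← hgen]; simp, by omega⟩

theorem catenary_poly {R : Type u} [CommRing R] [IsLocalRing R] {S : Type u} [CommRing S]
    [Algebra R S]
    (hcat : ∀ A' : Subalgebra R (Polynomial S), A'.FG →
      ∀ (m' : Ideal A') [m'.IsMaximal], m'.LiesOver (IsLocalRing.maximalIdeal R) →
        CAlg.IsCatenary (Localization.AtPrime m'))
    (B0 : Subalgebra R S) [Algebra.FiniteType R B0] (Q : Ideal (MvPolynomial (Fin 1) B0)) [Q.IsPrime]
    (hQ : Q.LiesOver (IsLocalRing.maximalIdeal R)) : CAlg.IsCatenary (Localization.AtPrime Q) := by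
  obtain ⟨M, hM, hQM⟩ := Ideal.exists_le_maximal Q (Ideal.IsPrime.ne_top ‹_›)
  refine isCatenary_atPrime_of_le hQM ?_
  let Φ : MvPolynomial (Fin 1) B0 →ₐ[R] Polynomial S :=
    (Polynomial.mapAlgHom B0.val).comp
      ((MvPolynomial.uniqueAlgEquiv B0 (Fin 1)).restrictScalars R).toAlgHom
  have hΦ : Function.Injective Φ :=
    (Polynomial.map_injective B0.val.toRingHom Subtype.coe_injective).comp
      ((MvPolynomial.uniqueAlgEquiv B0 (Fin 1)).restrictScalars R).injective
  have hfg : Φ.range.FG := by
    rw [← Algebra.map_top]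
    exact (Algebra.FiniteType.trans (R := R) (S := B0) (A := MvPolynomial (Fin 1) B0)
      inferInstance inferInstance).out.map _
  let E : MvPolynomial (Fin 1) B0 ≃ₐ[R] Φ.range := AlgEquiv.ofInjective Φ hΦ
  let M' : Ideal Φ.range := M.comap E.symm.toRingEquiv.toRingHom
  haveI : M'.IsMaximal := Ideal.comap_isMaximal_of_surjective _ E.symm.surjective
  have hM' : M'.LiesOver (IsLocalRing.maximalIdeal R) := ⟨by
    refine ((IsLocalRing.maximalIdeal.isMaximal R).eq_of_le
      (Ideal.IsPrime.ne_top (Ideal.IsPrime.comap _)) ?_)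
    intro r hr
    show E.symm (algebraMap R _ r) ∈ M
    rw [E.symm.commutes]
    apply hQM
    exact (Ideal.mem_of_liesOver Q (IsLocalRing.maximalIdeal R) r).mp hr⟩
  have h := hcat Φ.range hfg M' hM'
  have H : Submonoid.map E.symm.toRingEquiv.toMonoidHom M'.primeCompl = M.primeCompl := by
    ext x
    constructor
    · rintro ⟨y, hy, rfl⟩
      exact hy
    · intro hx
      exact ⟨E x, fun h => hx (by simpa [M'] using h), by simp⟩
  exact isCatenary_of_ringEquiv (IsLocalization.ringEquivOfRingEquiv
    (Localization.AtPrime M') (Localization.AtPrime M) E.symm.toRingEquiv H) h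

theorem formula_base {R : Type u} [CommRing R] [IsDomain R] [IsNoetherianRing R] [IsLocalRing R]
    {B : Type u} [CommRing B] [IsDomain B] [Algebra R B] [FaithfulSMul R B]
    (hsurj : Function.Surjective (algebraMap R B))
    (e : ℕ) (he : (IsLocalRing.maximalIdeal R).height = e)
    (q : Ideal B) [q.IsPrime] [hq : q.LiesOver (IsLocalRing.maximalIdeal R)] :
    Formula R e B q := by
  haveI : Algebra.IsIntegral R B := Algebra.isIntegral_of_surjective hsurj
  have hsurj' : Function.Surjective
      (algebraMap (R ⧸ IsLocalRing.maximalIdeal R) (B ⧸ q)) := fun x => by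
    obtain ⟨b, rfl⟩ := Ideal.Quotient.mk_surjective x
    obtain ⟨r, rfl⟩ := hsurj b
    exact ⟨Ideal.Quotient.mk _ r, rfl⟩
  haveI : Algebra.IsIntegral (R ⧸ IsLocalRing.maximalIdeal R) (B ⧸ q) :=
    Algebra.isIntegral_of_surjective hsurj'
  let E : R ≃+* B := RingEquiv.ofBijective (algebraMap R B)
    ⟨FaithfulSMul.algebraMap_injective R B, hsurj⟩
  refine ⟨e, 0, 0, ?_, ?_, ?_, rfl⟩
  · rw [← he, hq.over]
    exact (E.height_comap q).symm
  · rw [trdeg_eq_zero (R := R ⧸ IsLocalRing.maximalIdeal R) (A := B ⧸ q)]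
    simp
  · rw [trdeg_eq_zero (R := R) (A := B)]
    simp

theorem faithful_sub {R S : Type u} [CommRing R] [CommRing S] [Algebra R S] [FaithfulSMul R S]
    (B : Subalgebra R S) : FaithfulSMul R B :=
  (faithfulSMul_iff_algebraMap_injective _ _).mpr fun _ _ h =>
    FaithfulSMul.algebraMap_injective R S (congrArg Subtype.val h)

theorem formula_step {R : Type u} [CommRing R] [IsDomain R] [IsNoetherianRing R] [IsLocalRing R]
    {S : Type u} [CommRing S] [IsDomain S] [Algebra R S] [FaithfulSMul R S]
    (hcat : ∀ A' : Subalgebra R (Polynomial S), A'.FG →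
      ∀ (m' : Ideal A') [m'.IsMaximal], m'.LiesOver (IsLocalRing.maximalIdeal R) →
        CAlg.IsCatenary (Localization.AtPrime m'))
    (e : ℕ) (B0 B1 : Subalgebra R S) (hfg : B0.FG) (hle : B0 ≤ B1) (x : S) (hx : x ∈ B1)
    (hgen : B1 ≤ Algebra.adjoin R (insert x (B0 : Set S)))
    (IH : ∀ (q0 : Ideal B0) [q0.IsPrime] [q0.LiesOver (IsLocalRing.maximalIdeal R)],
      Formula R e B0 q0)
    (q : Ideal B1) [q.IsPrime] [q.LiesOver (IsLocalRing.maximalIdeal R)] :
    Formula R e B1 q := by
  letI : Algebra B0 B1 := (Subalgebra.inclusion hle).toRingHom.toAlgebra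
  haveI : IsScalarTower R B0 B1 := IsScalarTower.of_algebraMap_eq fun _ => rfl
  haveI : Algebra.FiniteType R B0 := (Subalgebra.fg_iff_finiteType B0).mp hfg
  haveI : FaithfulSMul R B0 := faithful_sub B0
  haveI : FaithfulSMul B0 B1 := (faithfulSMul_iff_algebraMap_injective _ _).mpr
    (Subalgebra.inclusion_injective hle)
  let φ : MvPolynomial (Fin 1) B0 →ₐ[B0] B1 := MvPolynomial.aeval fun _ => (⟨x, hx⟩ : B1)
  have hφ : Function.Surjective φ := fun y => by
    let ψ : MvPolynomial (Fin 1) B0 →ₐ[R] S := B1.val.comp (φ.restrictScalars R)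
    have hle1 : B1 ≤ ψ.range := by
      refine hgen.trans (Algebra.adjoin_le fun z hz => ?_)
      rcases Set.mem_insert_iff.mp hz with rfl | hz
      · exact ⟨MvPolynomial.X 0, congrArg Subtype.val (MvPolynomial.aeval_X _ _)⟩
      · exact ⟨MvPolynomial.C ⟨z, hz⟩, congrArg Subtype.val (φ.commutes ⟨z, hz⟩)⟩
    obtain ⟨p, hp⟩ := hle1 y.2
    exact ⟨p, Subtype.ext hp⟩
  exact step e φ hφ (fun Q _ hQ => catenary_poly hcat B0 Q hQ) IH q

theorem formula_all {R : Type u} [CommRing R] [IsDomain R] [IsNoetherianRing R] [IsLocalRing R]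
    {S : Type u} [CommRing S] [IsDomain S] [Algebra R S] [FaithfulSMul R S]
    (hcat : ∀ A' : Subalgebra R (Polynomial S), A'.FG →
      ∀ (m' : Ideal A') [m'.IsMaximal], m'.LiesOver (IsLocalRing.maximalIdeal R) →
        CAlg.IsCatenary (Localization.AtPrime m'))
    (e : ℕ) (he : (IsLocalRing.maximalIdeal R).height = e) (s : Finset S) :
    ∀ (q : Ideal (Algebra.adjoin R (s : Set S))) [q.IsPrime]
      [q.LiesOver (IsLocalRing.maximalIdeal R)], Formula R e (Algebra.adjoin R (s : Set S)) q := by
  classical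
  induction s using Finset.induction_on with
  | empty =>
    intro q _ _
    haveI := faithful_sub (Algebra.adjoin R ((∅ : Finset S) : Set S))
    refine formula_base ?_ e he q
    intro y
    have hy : (y : S) ∈ (⊥ : Subalgebra R S) := by
      rw [← Algebra.adjoin_empty R S]
      simpa using y.2
    obtain ⟨r, hr⟩ := Algebra.mem_bot.mp hy
    exact ⟨r, Subtype.ext hr⟩
  | @insert x s _ IH =>
    intro q _ _
    refine formula_step hcat e _ _ (Subalgebra.fg_adjoin_finset s)
      (Algebra.adjoin_mono (Finset.coe_subset.mpr (Finset.subset_insert x s))) x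
      (Algebra.subset_adjoin (by simp)) ?_ IH q
    refine Algebra.adjoin_le fun z hz => ?_
    rw [Finset.coe_insert, Set.mem_insert_iff] at hz
    rcases hz with rfl | hz
    · exact Algebra.subset_adjoin (Set.mem_insert _ _)
    · exact Algebra.subset_adjoin (Set.mem_insert_of_mem _ (Algebra.subset_adjoin hz))

/-- Let A be a Noetherian local domain with maximal ideal m and residue field k, B a domain containing A
which is an A-algebra of finite type, q a prime ideal of B over m and k' the residue field of B_q.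
If for every sub-A-algebra A' of finite type of the polynomial ring B[T] and every maximal ideal m'
of A' lying over m the local ring A'_{m'} is catenary, then ht(q) + trdeg_k k' = dim(A) + trdeg_A B,
stated with heights and transcendence degrees as cardinals (the transcendence degree of B over A is
that of the fraction fields, and that of k' over k is that of B/q over A/m). -/
theorem result (R : Type u) [CommRing R] [IsDomain R]
    [IsNoetherianRing R] [IsLocalRing R] (S : Type u) [CommRing S] [IsDomain S] [Algebra R S]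
    [FaithfulSMul R S] [Algebra.FiniteType R S] (q : Ideal S) [q.IsPrime]
    [q.LiesOver (IsLocalRing.maximalIdeal R)]
    (hcat : ∀ A' : Subalgebra R (Polynomial S), A'.FG →
      ∀ (m' : Ideal A') [m'.IsMaximal], m'.LiesOver (IsLocalRing.maximalIdeal R) →
        CAlg.IsCatenary (Localization.AtPrime m')) :
    (q.height : Cardinal.{u}) + Algebra.trdeg (R ⧸ IsLocalRing.maximalIdeal R) (S ⧸ q) =
      ((IsLocalRing.maximalIdeal R).height : Cardinal.{u}) + Algebra.trdeg R S := by
  obtain ⟨e, he⟩ := ENat.ne_top_iff_exists.mp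
    (Ideal.height_ne_top (Ideal.IsPrime.ne_top
      (IsLocalRing.maximalIdeal.isMaximal R).isPrime))
  obtain ⟨s, hs⟩ := (Algebra.FiniteType.out : (⊤ : Subalgebra R S).FG)
  haveI : Algebra.FiniteType R (Algebra.adjoin R (s : Set S)) :=
    (Subalgebra.fg_iff_finiteType _).mp (Subalgebra.fg_adjoin_finset s)
  haveI : FaithfulSMul R (Algebra.adjoin R (s : Set S)) :=
    (faithfulSMul_iff_algebraMap_injective _ _).mpr fun a b h =>
      FaithfulSMul.algebraMap_injective R S (congrArg Subtype.val h)
  haveI : FaithfulSMul (Algebra.adjoin R (s : Set S)) S :=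
    (faithfulSMul_iff_algebraMap_injective _ _).mpr Subtype.coe_injective
  let φ : MvPolynomial (Fin 1) (Algebra.adjoin R (s : Set S)) →ₐ[Algebra.adjoin R (s : Set S)] S :=
    MvPolynomial.aeval fun _ => 0
  have hφ : Function.Surjective φ := fun y =>
    ⟨MvPolynomial.C ⟨y, by rw [hs]; trivial⟩, φ.commutes _⟩
  obtain ⟨h, t, d, hh, ht, hd, heq⟩ := step e φ hφ
    (fun Q _ hQ => catenary_poly hcat _ Q hQ)
    (fun q0 _ _ => formula_all hcat e he.symm s q0) q
  rw [hh, ht, hd, ← he]
  simp only [Cardinal.ofENat_nat]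
  exact_mod_cast heq

end Groth.Agent.S12126
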