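import Groth.Statements.S12127
import Groth.Agent.H47.QuasiHomeo

set_option autoImplicit false
universe u
open EGA43

namespace Groth.Agent.S12127

/-- Let f : X → Y be a quasi-homeomorphism, i.e. a continuous map such that U ↦ f⁻¹(U) is a bijection
from the open subsets of Y onto the open subsets of X. Call a subset quasi-constructible when it is
a finite union of locally closed subsets, and locally quasi-constructible when every point of the
space has an open neighbourhood V whose intersection with it is quasi-constructible in V. Then Z ↦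
f⁻¹(Z) induces a bijection from the quasi-constructible subsets of Y onto those of X, and from the
locally quasi-constructible subsets of Y onto those of X. -/
theorem result {X Y : Type u}
    [TopologicalSpace X] [TopologicalSpace Y] (f : X → Y) (hf : Continuous f)
    (hq : Function.Bijective (fun U : TopologicalSpace.Opens Y =>
      (⟨f ⁻¹' (U : Set Y), U.isOpen.preimage hf⟩ : TopologicalSpace.Opens X))) :
    Set.BijOn (fun Z : Set Y => f ⁻¹' Z)
        {Z : Set Y | ∃ T : Set (Set Y), T.Finite ∧ (∀ t ∈ T, IsLocallyClosed t) ∧ Z = ⋃₀ T}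
        {Z : Set X | ∃ T : Set (Set X), T.Finite ∧ (∀ t ∈ T, IsLocallyClosed t) ∧ Z = ⋃₀ T} ∧
      Set.BijOn (fun Z : Set Y => f ⁻¹' Z)
        {Z : Set Y | ∀ y : Y, ∃ V : Set Y, IsOpen V ∧ y ∈ V ∧
          ∃ T : Set (Set V), T.Finite ∧ (∀ t ∈ T, IsLocallyClosed t) ∧ (Subtype.val ⁻¹' Z : Set V) = ⋃₀ T}
        {Z : Set X | ∀ x : X, ∃ V : Set X, IsOpen V ∧ x ∈ V ∧
          ∃ T : Set (Set V), T.Finite ∧ (∀ t ∈ T, IsLocallyClosed t) ∧ (Subtype.val ⁻¹' Z : Set V) = ⋃₀ T} := by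
  have h := (Groth.Agent.H47.QuasiHomeo.qh_iff_bijective hf).2 hq
  refine ⟨⟨fun Z hZ ↦ Groth.Agent.H47.QuasiHomeo.FU.preimage hf hZ, fun a ha b hb e ↦
    h.lf_ext (Groth.Agent.H47.QuasiHomeo.FU.lf ha) (Groth.Agent.H47.QuasiHomeo.FU.lf hb) e,
    fun s hs ↦ h.surj_FU hs⟩, ?_⟩
  refine ⟨fun Z hZ ↦ Groth.Agent.H47.QuasiHomeo.lf_iff_subtype.1
      (Groth.Agent.H47.QuasiHomeo.LF.preimage hf (Groth.Agent.H47.QuasiHomeo.lf_iff_subtype.2 hZ)),
    fun a ha b hb e ↦ h.lf_ext (Groth.Agent.H47.QuasiHomeo.lf_iff_subtype.2 ha)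
      (Groth.Agent.H47.QuasiHomeo.lf_iff_subtype.2 hb) e, fun s hs ↦ ?_⟩
  obtain ⟨Z, hZ, e⟩ := h.surj_LF (Groth.Agent.H47.QuasiHomeo.lf_iff_subtype.2 hs)
  exact ⟨Z, Groth.Agent.H47.QuasiHomeo.lf_iff_subtype.1 hZ, e⟩

end Groth.Agent.S12127
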