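import Groth.Statements.S12129
import Groth.Agent.Lib.CurvePts.Basic
import Mathlib

set_option autoImplicit false
universe u
open EGA2

namespace Groth.Agent.S12129

open AlgebraicGeometry CategoryTheory in
/-- Let X be a scheme of finite type over a field k. Then the local ring of X at every closed point has
dimension one if and only if the irreducible closed subsets of X other than its irreducible
components are exactly the (singletons of) closed points of X — that is, every irreducible closed
subset which is not an irreducible component is a closed point, and no closed point is by itself an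
irreducible component. -/
theorem result (k : Type u) [Field k] (X : Scheme.{u})
    [X.Over (Spec (CommRingCat.of k))] [LocallyOfFiniteType (X ↘ (Spec (CommRingCat.of k)))]
    [QuasiCompact (X ↘ (Spec (CommRingCat.of k)))] :
    (∀ x : X, IsClosed ({x} : Set X) → ringKrullDim (X.presheaf.stalk x) = 1) ↔
      ((∀ F : Set X, IsClosed F → IsIrreducible F → F ∉ irreducibleComponents (X : Type u) →
          ∃ x : X, IsClosed ({x} : Set X) ∧ F = {x}) ∧
        ∀ x : X, IsClosed ({x} : Set X) → ({x} : Set X) ∉ irreducibleComponents (X : Type u)) := by
  haveI : JacobsonSpace X := LocallyOfFiniteType.jacobsonSpace (X ↘ (Spec (CommRingCat.of k)))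
  constructor
  · intro h
    refine ⟨fun F hF hFi hFc => ?_, fun x hx hc => ?_⟩
    · obtain ⟨ξ, hξ⟩ := QuasiSober.sober hFi hF
      obtain ⟨x, hξx, hxc⟩ := Lib.CurvePts.exists_closed_specialization ξ
      rcases (Lib.CurvePts.le_one_iff x).mp (h x hxc).le ξ hξx with rfl | hmax
      · exact ⟨_, hxc, hξ.def.symm.trans hxc.closure_eq⟩
      · exact absurd (hξ.def ▸ (Lib.CurvePts.closure_mem_iff ξ).mpr hmax) hFc
    · rw [← hx.closure_eq, Lib.CurvePts.closure_mem_iff] at hc
      exact (Lib.CurvePts.one_le_iff x).mp (h x hx).ge hc
  · rintro ⟨h1, h2⟩ x hx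
    refine le_antisymm ((Lib.CurvePts.le_one_iff x).mpr fun ξ hξ => ?_)
      ((Lib.CurvePts.one_le_iff x).mpr fun h => h2 x hx ?_)
    · by_cases hc : closure ({ξ} : Set X) ∈ irreducibleComponents (X : Type u)
      · exact Or.inr ((Lib.CurvePts.closure_mem_iff ξ).mp hc)
      · obtain ⟨z, hz, he⟩ := h1 _ isClosed_closure isIrreducible_singleton.closure hc
        have hξz : ξ = z := he.le (subset_closure (Set.mem_singleton ξ))
        have hxz : x = z := he.le hξ.mem_closure
        exact Or.inl (hξz.trans hxz.symm)
    · rw [← hx.closure_eq]
      exact (Lib.CurvePts.closure_mem_iff x).mpr h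

end Groth.Agent.S12129
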