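import Groth.Statements.S1213
import Groth.Agent.Lib.FlatCA.NzdFiber
import Groth.Agent.Lib.FlatCA.MapSmul
import Mathlib.RingTheory.Nakayama
import Mathlib.RingTheory.OrzechProperty
import Mathlib.RingTheory.FiniteType
import Mathlib.Algebra.DirectSum.Decomposition

set_option autoImplicit false
universe u
open scoped Classical
open FlatMor

namespace Groth.Agent.S1213

open TensorProduct IsLocalRing in
/-- Let R be a local ring, S an R-algebra and N an S-module which, as an R-module, is an internal direct
sum of finite R-submodules. Then for every R-module M and every prime q of S which is the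
annihilator of an element of the S-module N ⊗_R M we have q + 𝔪_R S ≠ S. -/
theorem result {R S : Type u} [CommRing R] [IsLocalRing R] [CommRing S] [Algebra R S]
    (N : Type u) [AddCommGroup N] [Module S N] [Module R N] [IsScalarTower R S N]
    (ι : Type u) (F : ι → Submodule R N) (hF : DirectSum.IsInternal F) (hfin : ∀ i, Module.Finite R (F i))
    (M : Type u) [AddCommGroup M] [Module R M]
    (q : Ideal S) [q.IsPrime] (hq : q ∈ FlatCA.ass S (N ⊗[R] M)) :
    q ⊔ (maximalIdeal R).map (algebraMap R S) ≠ ⊤ := by
  open Groth.Agent.Lib.FlatCA in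
  classical
  refine NzdFiber.sup_ne_top_of_mem_ass _ (fun g hg => ?_) hq
  have hg' : ∀ z : N, g • z - z ∈ IsLocalRing.maximalIdeal R • (⊤ : Submodule R N) := fun z => by
    have h := Groth.Agent.Lib.FlatCA.MapSmul.smul_mem_smul_top hg z
    rwa [sub_smul, one_smul] at h
  let d := hF.chooseDecomposition
  show Function.Injective fun x : N ⊗[R] M => g • x
  intro x y hxy
  rw [← sub_eq_zero]
  have hxy' : g • (x - y) = 0 := by rw [smul_sub]; exact sub_eq_zero.2 hxy
  generalize x - y = z at hxy'
  -- finitely many summands
  obtain ⟨T, hT⟩ := TensorProduct.exists_finset z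
  let t : Finset ι := T.biUnion fun w => (DirectSum.decompose F w.1).support
  let P : Submodule R N := t.sup F
  have : Module.Finite R P := Module.Finite.of_fg (Submodule.fg_finset_sup t F fun i _ => Module.Finite.iff_fg.1 (hfin i))
  let π : N →ₗ[R] N := ∑ i ∈ t, (F i).subtype.comp ((DirectSum.component R ι (fun i => F i) i).comp (DirectSum.decomposeLinearEquiv F).toLinearMap)
  have hπ : ∀ n, π n = ∑ i ∈ t, (DirectSum.decompose F n i : N) := fun n => by
    simp only [π, LinearMap.coe_sum, Finset.sum_apply, LinearMap.comp_apply]; rfl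
  have hπP : ∀ n, π n ∈ P := fun n => by
    rw [hπ]
    exact Submodule.sum_mem _ fun i hi => Finset.le_sup (f := F) hi (DirectSum.decompose F n i).2
  have hfix : ∀ n ∈ P, π n = n := by
    intro n hn
    have : P ≤ LinearMap.eqLocus π LinearMap.id := Finset.sup_le fun i hi m hm => by
      show π m = m
      rw [hπ, Finset.sum_eq_single i (fun j _ hj => by rw [DirectSum.decompose_of_mem_ne F hm (Ne.symm hj)]) (fun h => absurd hi h)]
      exact DirectSum.decompose_of_mem_same F hm
    exact this hn
  let π' : N →ₗ[R] P := π.codRestrict P hπP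
  let φ : P →ₗ[R] P := π'.comp (((LinearMap.lsmul S N g).restrictScalars R).comp P.subtype)
  have hred : ∀ p : P, φ p - p ∈ IsLocalRing.maximalIdeal R • (⊤ : Submodule R P) := fun p => by
    have h1 := Submodule.smul_top_le_comap_smul_top _ π' (hg' p.1)
    rw [Submodule.mem_comap, map_sub] at h1
    have h2 : π' p.1 = p := Subtype.ext (hfix p.1 p.2)
    rwa [h2] at h1
  have hsurj : Function.Surjective φ := by
    rw [← LinearMap.range_eq_top, ← top_le_iff]
    refine Submodule.le_of_le_smul_of_le_jacobson_bot (Module.Finite.fg_top)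
      (IsLocalRing.jacobson_eq_maximalIdeal ⊥ bot_ne_top).ge ?_
    intro p _
    rw [show p = φ p + -(φ p - p) by abel]
    exact Submodule.add_mem_sup ⟨p, rfl⟩ (Submodule.neg_mem _ (hred p))
  have hinj : Function.Injective φ := OrzechProperty.injective_of_surjective_endomorphism φ hsurj
  have hzP : P.subtype.rTensor M (π'.rTensor M z) = z := by
    rw [hT, map_sum, map_sum]
    refine Finset.sum_congr rfl fun w hw => ?_
    rw [LinearMap.rTensor_tmul, LinearMap.rTensor_tmul]
    congr 1
    show π w.1 = w.1
    rw [hπ]
    conv_rhs => rw [← DirectSum.sum_support_decompose F w.1]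
    refine (Finset.sum_subset (Finset.subset_biUnion_of_mem _ hw) fun i _ hi => ?_).symm
    simp [DFinsupp.notMem_support_iff.1 hi]
  have h0 : φ.rTensor M (π'.rTensor M z) = 0 := by
    rw [LinearMap.rTensor_comp, LinearMap.rTensor_comp, LinearMap.comp_apply, LinearMap.comp_apply,
      hzP, ← FiberMod.smul_eq_rTensor, hxy', map_zero]
  have h1 : π'.rTensor M z = 0 :=
    ((LinearEquiv.ofBijective φ ⟨hinj, hsurj⟩).rTensor M).injective (h0.trans (map_zero _).symm)
  rw [← hzP, h1, map_zero]


end Groth.Agent.S1213
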