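import Groth.Statements.S12135
import Groth.Agent.Lib.ProCons45.Basic

set_option autoImplicit false
universe u
open EGA41

namespace Groth.Agent.S12135

open AlgebraicGeometry Topology in
/-- Let f : X → Y be a morphism of schemes with X and Y quasi-separated, and let X^cons, Y^cons denote
the underlying sets with the constructible topology (generated by the quasi-compact open subsets and
their complements; for quasi-separated schemes the open sets are exactly the ind-constructible
subsets). Then f is quasi-compact if and only if the map X^cons → Y^cons underlying f is proper
(continuous and universally closed). (The published statement is for arbitrary schemes with the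
ind-constructible topology; this row covers the quasi-separated case, where that topology is the one
used here.) -/
theorem result {X Y : Scheme.{u}} [QuasiSeparatedSpace X]
    [QuasiSeparatedSpace Y] (f : X ⟶ Y) :
    QuasiCompact f ↔ @IsProperMap X Y (constructibleTopology X) (constructibleTopology Y) f := by
  constructor
  · intro hf
    have hcont : Continuous[constructibleTopology X, constructibleTopology Y] f :=
      Groth.Agent.Lib.LimTop.PC.continuous_cons f.continuous
        fun s ho hc => QuasiCompact.isCompact_preimage s ho hc
    refine (@isProperMap_iff_ultrafilter X Y (constructibleTopology X) (constructibleTopology Y)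
      f).mpr ⟨hcont, fun 𝒰 y hy => ?_⟩
    obtain ⟨U, hU, hyU, -⟩ := exists_isAffineOpen_mem_and_subset (x := y) (U := ⊤) trivial
    have hUm : (U : Set Y) ∈ @nhds Y (constructibleTopology Y) y :=
      @IsOpen.mem_nhds Y (constructibleTopology Y) _ _
        (Groth.Agent.Lib.LimTop.PC.isOpen_cons U.2 hU.isCompact) hyU
    have hc := Groth.Agent.Lib.ProCons45.Basic.isCompact_cons (U.2.preimage f.continuous)
      (QuasiCompact.isCompact_preimage _ U.2 hU.isCompact)
    obtain ⟨x, -, hx⟩ := (@isCompact_iff_ultrafilter_le_nhds X (constructibleTopology X) _).mp hc 𝒰
      (Filter.le_principal_iff.mpr (hy hUm))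
    refine ⟨x, ?_, hx⟩
    have hT : @T2Space Y (constructibleTopology Y) := by
      let e : Y → WithConstructibleTopology Y := WithTopology.toTopology _
      exact @T2Space.of_injective_continuous Y _ (constructibleTopology Y) _ _ e
        (WithTopology.toTopology_injective _) (WithTopology.continuous_toTopology _)
    exact @tendsto_nhds_unique Y X (constructibleTopology Y) hT f 𝒰 _ _ _
      ((@Continuous.tendsto X Y (constructibleTopology X) (constructibleTopology Y) f hcont x).mono_left hx) hy
  · intro hf
    rw [quasiCompact_iff_forall_isAffineOpen]
    intro U hU
    have h := @IsProperMap.isCompact_preimage X Y (constructibleTopology X) (constructibleTopology Y)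
      f hf _ (Groth.Agent.Lib.ProCons45.Basic.isCompact_cons U.2 hU.isCompact)
    have := @IsCompact.image X X (constructibleTopology X) _ _ id h
      (continuous_id_iff_le.mpr Groth.Agent.Lib.LimTop.PC.cons_le)
    simpa using this

end Groth.Agent.S12135
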