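import Groth.Statements.S12136
import Mathlib.RingTheory.Filtration
import Mathlib.RingTheory.Kaehler.Basic
-- import your own Groth.Agent.* helpers here

set_option autoImplicit false
universe u
open TensorProduct KaehlerDifferential
open EGA41

namespace Groth.Agent.S12136

/-- In the Noetherian adic case, which the published statement itself singles out, let A → B be a ring
homomorphism with B Noetherian, I and J ideals of B, and suppose B, with the I-adic topology, is
formally smooth over the discrete ring A. Put C = B/J with the quotient (IC-adic) topology and let Q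
be an ideal of definition of C, i.e. an ideal containing a power of IC and a power of which lies in
IC. Then C is formally smooth over A for the IC-adic topology if and only if the C/Q-linear map
(J/J²) ⊗ (C/Q) → Ω_{B/A} ⊗_B (C/Q), obtained by base change from the conormal map J/J² → Ω_{B/A} ⊗_B
C, x ↦ 1 ⊗ dx, has a C/Q-linear left inverse (is an isomorphism onto a direct summand). Here J is
written as the kernel of B → C and the tensor products are taken over B, which for these C-modules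
is the same as over C. (The published statement allows A to be any topological ring with A → B
continuous; this row takes A discrete.) -/
theorem result {A B : Type u} [CommRing A]
    [CommRing B] [Algebra A B] [IsNoetherianRing B] (I J : Ideal B) (hB : CAlgX.IsAdicFormallySmooth A B I)
    (Q : Ideal (B ⧸ J)) (hQ : ∃ n : ℕ, (I.map (Ideal.Quotient.mk J)) ^ n ≤ Q)
    (hQ' : ∃ m : ℕ, Q ^ m ≤ I.map (Ideal.Quotient.mk J)) :
    CAlgX.IsAdicFormallySmooth A (B ⧸ J) (I.map (Ideal.Quotient.mk J)) ↔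
      ∃ g : ((B ⧸ J) ⧸ Q) ⊗[B] ((B ⧸ J) ⊗[B] Ω[B⁄A]) →ₗ[(B ⧸ J) ⧸ Q]
          ((B ⧸ J) ⧸ Q) ⊗[B] (RingHom.ker (algebraMap B (B ⧸ J))).Cotangent,
        g ∘ₗ LinearMap.baseChange ((B ⧸ J) ⧸ Q) (KaehlerDifferential.kerCotangentToTensor A B (B ⧸ J)) =
          LinearMap.id := by
  classical
  obtain ⟨𝔮, h𝔮⟩ : ∃ 𝔮 : Ideal B, 𝔮 = Q.comap (Ideal.Quotient.mk J) := ⟨_, rfl⟩
  have hJ𝔮 : J ≤ 𝔮 := fun x hx => by
    rw [h𝔮, Ideal.mem_comap, Ideal.Quotient.eq_zero_iff_mem.2 hx]
    exact Q.zero_mem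
  let M := (RingHom.ker (algebraMap B (B ⧸ J))).Cotangent
  have hker : RingHom.ker (algebraMap B (B ⧸ J)) = J := Ideal.mk_ker
  let cl : RingHom.ker (algebraMap B (B ⧸ J)) →ₗ[B] M := (RingHom.ker (algebraMap B (B ⧸ J))).toCotangent
  have hcl : Function.Surjective cl := Ideal.toCotangent_surjective _
  let P := ((B ⧸ J) ⧸ Q) ⊗[B] M
  let bar : B → (B ⧸ J) ⧸ Q := fun b => Ideal.Quotient.mk Q (Ideal.Quotient.mk J b)
  have hsm : ∀ (b : B) (z : P), b ∈ 𝔮 → b • z = 0 := fun b z hb => by
    rw [← algebraMap_smul ((B ⧸ J) ⧸ Q) b z]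
    rw [h𝔮, Ideal.mem_comap, ← Ideal.Quotient.eq_zero_iff_mem] at hb
    have h : algebraMap B ((B ⧸ J) ⧸ Q) b = 0 := hb
    exact (congr_arg (· • z) h).trans (zero_smul ((B ⧸ J) ⧸ Q) z)
  constructor
  · intro hCfs
    obtain ⟨n, hn⟩ := hQ
    obtain ⟨k₀, hk₀⟩ := Ideal.exists_pow_inf_eq_pow_smul (M := B) I (J : Submodule B B)
    let N := n + k₀
    have hIn : I ^ n ≤ 𝔮 := by
      rw [h𝔮, ← Ideal.map_le_iff_le_comap, Ideal.map_pow]
      exact hn
    have hAR : I ^ N ⊓ J ≤ 𝔮 * J := by
      intro x hx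
      have h1 := hk₀ N (Nat.le_add_left _ _)
      have h2 : x ∈ I ^ N • (⊤ : Submodule B B) ⊓ (J : Submodule B B) :=
        ⟨by rw [smul_eq_mul, Ideal.mul_top]; exact hx.1, hx.2⟩
      rw [h1, show N - k₀ = n from Nat.add_sub_cancel n k₀] at h2
      exact Submodule.smul_mono (hIn) (inf_le_right : I ^ k₀ • (⊤ : Submodule B B) ⊓ (J : Submodule B B) ≤ J) h2
    let T : Ideal B := J ^ 2 ⊔ 𝔮 * J ⊔ I ^ N
    let K : Ideal (B ⧸ T) := J.map (Ideal.Quotient.mk T)
    have hK : K ^ 2 = ⊥ := by
      rw [← Ideal.map_pow, eq_bot_iff, Ideal.map_le_iff_le_comap]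
      intro x hx
      rw [Ideal.mem_comap, Ideal.mem_bot, Ideal.Quotient.eq_zero_iff_mem]
      exact Ideal.mem_sup_left (Ideal.mem_sup_left hx)
    let ψB : B →ₐ[A] (B ⧸ T) ⧸ K := (Ideal.Quotient.mkₐ A K).comp (Ideal.Quotient.mkₐ A T)
    have hψJ : ∀ x ∈ J, ψB x = 0 := fun x hx =>
      Ideal.Quotient.eq_zero_iff_mem.2 (Ideal.mem_map_of_mem _ hx)
    let ψ : (B ⧸ J) →ₐ[A] (B ⧸ T) ⧸ K := Ideal.Quotient.liftₐ J ψB hψJ
    obtain ⟨σ, hσ⟩ := hCfs (B ⧸ T) K hK ψ ⟨N, fun y hy => by
      rw [← Ideal.map_pow] at hy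
      obtain ⟨x, hx, rfl⟩ := (Ideal.mem_map_iff_of_surjective _ Ideal.Quotient.mk_surjective).1 hy
      change ψB x = 0
      change Ideal.Quotient.mk K (Ideal.Quotient.mk T x) = 0
      rw [Ideal.Quotient.eq_zero_iff_mem.2 (Ideal.mem_sup_right hx : x ∈ T), map_zero]⟩
    have hrep : ∀ b : B, ∃ r : RingHom.ker (algebraMap B (B ⧸ J)),
        Ideal.Quotient.mk T (r : B) = Ideal.Quotient.mk T b - σ (Ideal.Quotient.mk J b) := by
      intro b
      have hmem : Ideal.Quotient.mk T b - σ (Ideal.Quotient.mk J b) ∈ K := by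
        rw [← Ideal.Quotient.eq_zero_iff_mem, map_sub, sub_eq_zero]
        exact (AlgHom.congr_fun hσ (Ideal.Quotient.mk J b)).symm
      obtain ⟨x, hx, hxe⟩ := (Ideal.mem_map_iff_of_surjective _ Ideal.Quotient.mk_surjective).1 hmem
      exact ⟨⟨x, hker.ge hx⟩, hxe⟩
    choose r hr using hrep
    let π : RingHom.ker (algebraMap B (B ⧸ J)) →ₗ[B] P :=
      (TensorProduct.mk B ((B ⧸ J) ⧸ Q) M 1) ∘ₗ cl
    have hπ0 : ∀ x : RingHom.ker (algebraMap B (B ⧸ J)), (x : B) ∈ T → π x = 0 := by
      rintro ⟨x, hxker⟩ hx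
      obtain ⟨a, ha, i, hi, hai⟩ := Submodule.mem_sup.1 hx
      have haJ : a ∈ J :=
        (sup_le (Ideal.pow_le_self two_ne_zero) Ideal.mul_le_right : J ^ 2 ⊔ 𝔮 * J ≤ J) ha
      have hiJ : i ∈ J := by
        rw [← add_sub_cancel_left a i]
        exact J.sub_mem (hai ▸ hker.le hxker) haJ
      have hiq : i ∈ 𝔮 * J := hAR ⟨hi, hiJ⟩
      have hxT : x ∈ J ^ 2 ⊔ 𝔮 * J := by
        rw [show x = a + i from hai.symm]
        exact add_mem ha (Ideal.mem_sup_right hiq)
      obtain ⟨a₁, ha₁, a₂, ha₂, h12⟩ := Submodule.mem_sup.1 hxT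
      have ha₁J : a₁ ∈ RingHom.ker (algebraMap B (B ⧸ J)) := hker.ge (Ideal.pow_le_self two_ne_zero ha₁)
      have ha₂J : a₂ ∈ RingHom.ker (algebraMap B (B ⧸ J)) := hker.ge (Ideal.mul_le_right ha₂)
      rw [show (⟨x, hxker⟩ : RingHom.ker (algebraMap B (B ⧸ J))) = ⟨a₁, ha₁J⟩ + ⟨a₂, ha₂J⟩ from
        Subtype.ext h12.symm, map_add]
      have h1 : cl ⟨a₁, ha₁J⟩ = 0 :=
        (Ideal.toCotangent_eq_zero _ _).2 (Ideal.pow_right_mono hker.ge 2 ha₁)
      have h2 : π ⟨a₂, ha₂J⟩ = 0 := by
        clear h12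
        suffices ∃ h, π ⟨a₂, h⟩ = 0 by obtain ⟨_, h⟩ := this; exact h
        clear ha₂J
        refine Submodule.mul_induction_on ha₂ (fun u hu v hv => ⟨hker.ge (J.mul_mem_left u hv), ?_⟩)
          fun u v ⟨hu, hue⟩ ⟨hv, hve⟩ => ⟨add_mem hu hv, by
            rw [show (⟨u + v, add_mem hu hv⟩ : RingHom.ker (algebraMap B (B ⧸ J))) = ⟨u, hu⟩ + ⟨v, hv⟩
              from rfl, map_add, hue, hve, add_zero]⟩
        rw [show (⟨u * v, hker.ge (J.mul_mem_left u hv)⟩ : RingHom.ker (algebraMap B (B ⧸ J))) =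
          u • ⟨v, hker.ge hv⟩ from rfl, map_smul, hsm _ _ hu]
      rw [h2, add_zero]
      change (1 : (B ⧸ J) ⧸ Q) ⊗ₜ[B] cl ⟨a₁, ha₁J⟩ = 0
      rw [h1, TensorProduct.tmul_zero]
    have hwd : ∀ b (y : RingHom.ker (algebraMap B (B ⧸ J))),
        Ideal.Quotient.mk T (y : B) = Ideal.Quotient.mk T b - σ (Ideal.Quotient.mk J b) →
          π (r b) = π y := fun b y hy => by
      rw [← sub_eq_zero, ← map_sub]
      exact hπ0 _ (Ideal.Quotient.eq.1 ((hr b).trans hy.symm))
    have hprod : ∀ a b : B, (Ideal.Quotient.mk T a - σ (Ideal.Quotient.mk J a)) *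
        (Ideal.Quotient.mk T b - σ (Ideal.Quotient.mk J b)) = 0 := fun a b => by
      rw [← hr a, ← hr b, ← map_mul, Ideal.Quotient.eq_zero_iff_mem]
      refine Ideal.mem_sup_left (Ideal.mem_sup_left ?_)
      rw [pow_two]
      exact Ideal.mul_mem_mul (hker.le (r a).2) (hker.le (r b).2)
    let δ : Derivation A B P := Derivation.mk'
      { toFun := fun b => π (r b)
        map_add' := fun a b => by
          rw [← map_add]
          refine hwd _ _ ?_
          rw [Submodule.coe_add, map_add, hr, hr]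
          simp only [map_add]
          abel
        map_smul' := fun c b => by
          rw [RingHom.id_apply, ← algebraMap_smul B c (π (r b)), ← map_smul]
          refine hwd _ _ ?_
          rw [Submodule.coe_smul, smul_eq_mul, map_mul, hr, Algebra.smul_def, map_mul, map_mul, map_mul,
            mul_sub]
          rw [show σ (Ideal.Quotient.mk J (algebraMap A B c)) = Ideal.Quotient.mk T (algebraMap A B c)
            from σ.commutes c] }
      (fun a b => by
        change π (r (a * b)) = a • π (r b) + b • π (r a)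
        rw [← map_smul, ← map_smul, ← map_add]
        refine hwd _ _ ?_
        simp only [Submodule.coe_add, Submodule.coe_smul, smul_eq_mul, map_add, map_mul, hr]
        linear_combination hprod a b)
    have hδ : ∀ x : RingHom.ker (algebraMap B (B ⧸ J)), δ (x : B) = π x := fun x => by
      refine hwd _ _ ?_
      rw [Ideal.Quotient.eq_zero_iff_mem.2 (hker.le x.2), map_zero, sub_zero]
    let Λ : (B ⧸ J) ⊗[B] Ω[B⁄A] →ₗ[B ⧸ J] P := δ.liftKaehlerDifferential.liftBaseChange (B ⧸ J)
    refine ⟨(Λ.restrictScalars B).liftBaseChange ((B ⧸ J) ⧸ Q), ?_⟩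
    refine TensorProduct.AlgebraTensorModule.ext fun c z => ?_
    obtain ⟨x, rfl⟩ := hcl z
    have hu : KaehlerDifferential.kerCotangentToTensor A B (B ⧸ J) (cl x) =
        (1 : B ⧸ J) ⊗ₜ[B] KaehlerDifferential.D A B (x : B) :=
      KaehlerDifferential.kerCotangentToTensor_toCotangent A B (B ⧸ J) x
    simp only [LinearMap.comp_apply, LinearMap.baseChange_tmul, LinearMap.id_apply]
    erw [hu]
    simp only [Λ, LinearMap.liftBaseChange_tmul, LinearMap.coe_restrictScalars, one_smul,
      Derivation.liftKaehlerDifferential_comp_D, hδ]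
    change c • ((1 : (B ⧸ J) ⧸ Q) ⊗ₜ[B] cl x) = c ⊗ₜ[B] cl x
    rw [TensorProduct.smul_tmul', smul_eq_mul, mul_one]
  · rintro ⟨g, hg⟩ E _ _ K hK ψ ⟨k, hk⟩
    obtain ⟨m, hm⟩ := hQ'
    let ψB : B →ₐ[A] E ⧸ K := ψ.comp (Ideal.Quotient.mkₐ A J)
    have hψI : ∀ x ∈ I ^ k, ψB x = 0 := fun x hx => by
      refine hk _ ?_
      rw [← Ideal.map_pow]
      exact Ideal.mem_map_of_mem _ hx
    obtain ⟨v, hv⟩ := hB E K hK ψB ⟨k, hψI⟩
    have hvJ : ∀ x ∈ J, v x ∈ K := fun x hx => by
      rw [← Ideal.Quotient.eq_zero_iff_mem]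
      have h := AlgHom.congr_fun hv x
      change Ideal.Quotient.mk K (v x) = ψ (Ideal.Quotient.mk J x) at h
      rw [h, Ideal.Quotient.eq_zero_iff_mem.2 hx, map_zero]
    -- the key step: correct a lift when `𝔮` kills the ideal
    have key : ∀ (E' : Type u) [CommRing E'] [Algebra A E'] (K' : Ideal E'), K' ^ 2 = ⊥ →
        ∀ v' : B →ₐ[A] E', (∀ x ∈ J, v' x ∈ K') → (∀ q ∈ 𝔮, ∀ z ∈ K', v' q * z = 0) →
          ∃ w : B →ₐ[A] E', (∀ b, w b - v' b ∈ K') ∧ ∀ x ∈ J, w x = 0 := by
      intro E' _ _ K' hK' v' hv'J hv'q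
      have hKK : ∀ y z : E', y ∈ K' → z ∈ K' → y * z = 0 := fun y z hy hz => by
        rw [← Ideal.mem_bot, ← hK', pow_two]
        exact Ideal.mul_mem_mul hy hz
      letI : Algebra B E' := v'.toRingHom.toAlgebra
      have hBE : ∀ (b : B) (z : E'), b • z = v' b * z := fun _ _ => rfl
      let lam : RingHom.ker (algebraMap B (B ⧸ J)) →ₗ[B] K'.restrictScalars B :=
        { toFun := fun x => ⟨v' x, hv'J _ (hker.le x.2)⟩
          map_add' := fun x y => Subtype.ext (map_add v' _ _)
          map_smul' := fun b x => Subtype.ext (map_mul v' _ _) }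
      let lamM : M →ₗ[B] K'.restrictScalars B := Submodule.liftQ _ lam (by
        refine Submodule.smul_le.2 fun a ha z _ => ?_
        rw [LinearMap.mem_ker]
        refine Subtype.ext ?_
        change v' (a * (z : B)) = 0
        rw [map_mul]
        exact hKK _ _ (hv'J _ (hker.le ha)) (hv'J _ (hker.le z.2)))
      let act : B →ₗ[B] (M →ₗ[B] K'.restrictScalars B) := LinearMap.toSpanSingleton B _ lamM
      have hsurjQ : Function.Surjective (Algebra.linearMap B ((B ⧸ J) ⧸ Q)) := fun y => by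
        obtain ⟨c, rfl⟩ := Ideal.Quotient.mk_surjective y
        obtain ⟨b, rfl⟩ := Ideal.Quotient.mk_surjective c
        exact ⟨b, rfl⟩
      have hact : ∀ b : B, Ideal.Quotient.mk Q (Ideal.Quotient.mk J b) = 0 → act b = 0 := by
        intro b hb
        have hbq : b ∈ 𝔮 := by
          rw [h𝔮, Ideal.mem_comap, ← Ideal.Quotient.eq_zero_iff_mem]
          exact hb
        refine LinearMap.ext fun z => Subtype.ext ?_
        change v' b * ((lamM z : K'.restrictScalars B) : E') = 0
        exact hv'q b hbq _ (lamM z).2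
      let β : ((B ⧸ J) ⧸ Q) →ₗ[B] (M →ₗ[B] K'.restrictScalars B) :=
        (Submodule.liftQ (M₂ := M →ₗ[B] K'.restrictScalars B)
          (LinearMap.ker (Algebra.linearMap B ((B ⧸ J) ⧸ Q))) act
          (fun b hb => LinearMap.mem_ker.2 (hact b (LinearMap.mem_ker.1 hb)))) ∘ₗ
        (LinearMap.quotKerEquivOfSurjective _ hsurjQ).symm.toLinearMap
      let φ : P →ₗ[B] K'.restrictScalars B := TensorProduct.lift β
      have hφ : ∀ z : M, φ ((1 : (B ⧸ J) ⧸ Q) ⊗ₜ[B] z) = lamM z := fun z => by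
        have h1 : (LinearMap.quotKerEquivOfSurjective _ hsurjQ).symm (1 : (B ⧸ J) ⧸ Q) =
            Submodule.Quotient.mk 1 := by
          rw [LinearEquiv.symm_apply_eq]
          exact (map_one (algebraMap B ((B ⧸ J) ⧸ Q))).symm
        change TensorProduct.lift β ((1 : (B ⧸ J) ⧸ Q) ⊗ₜ[B] z) = lamM z
        rw [TensorProduct.lift.tmul]
        have h2 : β (1 : (B ⧸ J) ⧸ Q) = act 1 := by
          simp only [β, LinearMap.comp_apply, LinearEquiv.coe_coe, h1, Submodule.liftQ_apply]
        rw [h2]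
        change (1 : B) • lamM z = lamM z
        rw [one_smul]
      let Dl : Ω[B⁄A] →ₗ[B] K'.restrictScalars B := φ ∘ₗ (g.restrictScalars B) ∘ₗ
        (TensorProduct.mk B ((B ⧸ J) ⧸ Q) ((B ⧸ J) ⊗[B] Ω[B⁄A]) 1) ∘ₗ
          (TensorProduct.mk B (B ⧸ J) Ω[B⁄A] 1)
      let d : B → E' := fun b => (Dl (KaehlerDifferential.D A B b) : E')
      have hdmem : ∀ b, d b ∈ K' := fun b => (Dl (KaehlerDifferential.D A B b)).2
      have hdmul : ∀ a b, d (a * b) = v' a * d b + v' b * d a := fun a b => by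
        simp only [d, Derivation.leibniz, map_add, map_smul]
        rfl
      have hdJ : ∀ x ∈ J, d x = v' x := fun x hx => by
        have h1 := LinearMap.congr_fun hg ((1 : (B ⧸ J) ⧸ Q) ⊗ₜ[B] cl ⟨x, hker.ge hx⟩)
        rw [LinearMap.comp_apply, LinearMap.baseChange_tmul, LinearMap.id_apply] at h1
        erw [KaehlerDifferential.kerCotangentToTensor_toCotangent] at h1
        change ((φ (g ((1 : (B ⧸ J) ⧸ Q) ⊗ₜ[B]
          ((1 : B ⧸ J) ⊗ₜ[B] KaehlerDifferential.D A B x))) : K'.restrictScalars B) : E') = v' x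
        rw [show g ((1 : (B ⧸ J) ⧸ Q) ⊗ₜ[B] ((1 : B ⧸ J) ⊗ₜ[B] KaehlerDifferential.D A B x)) =
          (1 : (B ⧸ J) ⧸ Q) ⊗ₜ[B] cl ⟨x, hker.ge hx⟩ from h1, hφ]
        rfl
      refine ⟨{ toFun := fun b => v' b - d b
                map_one' := by simp [d]
                map_mul' := fun a b => by
                  rw [map_mul, hdmul]
                  linear_combination - hKK _ _ (hdmem a) (hdmem b)
                map_zero' := by simp [d]
                map_add' := fun a b => by simp only [d, map_add, Submodule.coe_add]; ring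
                commutes' := fun a => by simp [d] }, fun b => ?_, fun x hx => ?_⟩
      · change v' b - d b - v' b ∈ K'
        rw [sub_sub_cancel_left]
        exact neg_mem (hdmem b)
      · change v' x - d x = 0
        rw [hdJ x hx, sub_self]
    -- descend along `𝔮 ^ j K`
    let Kj : ℕ → Ideal E := fun j => (𝔮 ^ j).map v.toRingHom * K
    have hKjK : ∀ j, Kj j ≤ K := fun j => Ideal.mul_le_right
    have step : ∀ j, ∃ w : B →ₐ[A] E, (∀ b, w b - v b ∈ K) ∧ ∀ x ∈ J, w x ∈ Kj j := by
      intro j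
      induction j with
      | zero =>
        refine ⟨v, fun b => by simp, fun x hx => ?_⟩
        simp only [Kj, pow_zero, Ideal.one_eq_top, Ideal.map_top, Ideal.top_mul]
        exact hvJ x hx
      | succ j ih =>
        obtain ⟨w, hwv, hwJ⟩ := ih
        let K' : Ideal (E ⧸ Kj (j + 1)) := (Kj j).map (Ideal.Quotient.mk _)
        have hK' : K' ^ 2 = ⊥ := by
          rw [← Ideal.map_pow, eq_bot_iff, Ideal.map_le_iff_le_comap]
          refine le_trans (Ideal.pow_right_mono (hKjK j) 2) ?_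
          rw [hK]
          exact bot_le
        obtain ⟨w₁, hw₁, hw₁J⟩ := key (E ⧸ Kj (j + 1)) K' hK'
          ((Ideal.Quotient.mkₐ A _).comp w)
          (fun x hx => Ideal.mem_map_of_mem _ (hwJ x hx))
          (fun q hq z hz => by
            obtain ⟨y, hy, rfl⟩ := (Ideal.mem_map_iff_of_surjective _ Ideal.Quotient.mk_surjective).1 hz
            change Ideal.Quotient.mk _ (w q) * Ideal.Quotient.mk _ y = 0
            rw [← map_mul, Ideal.Quotient.eq_zero_iff_mem]
            have h1 : (w q - v q) * y = 0 := by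
              rw [← Ideal.mem_bot, ← hK, pow_two]
              exact Ideal.mul_mem_mul (hwv q) (hKjK j hy)
            rw [show w q * y = v q * y + (w q - v q) * y by ring, h1, add_zero]
            have h2 : v q * y ∈ 𝔮.map v.toRingHom * Kj j :=
              Ideal.mul_mem_mul (Ideal.mem_map_of_mem v.toRingHom hq) hy
            rwa [← mul_assoc, ← Ideal.map_mul, ← pow_succ'] at h2)
        obtain ⟨w₂, hw₂⟩ := hB E (Kj (j + 1))
          (eq_bot_iff.2 ((Ideal.pow_right_mono (hKjK _) 2).trans hK.le)) w₁ ⟨k * 2, fun x hx => by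
            have hle : I ^ k ≤ (K.map (Ideal.Quotient.mk (Kj (j + 1)))).comap w₁.toRingHom := by
              intro y hy
              obtain ⟨z, hz⟩ := Ideal.Quotient.mk_surjective (w₁ y)
              rw [Ideal.mem_comap]
              have h1 : w₁ y - Ideal.Quotient.mk _ (w y) ∈ K.map (Ideal.Quotient.mk (Kj (j + 1))) :=
                Ideal.map_mono (hKjK j) (hw₁ y)
              have h2 : w y ∈ K := by
                have h3 : v y ∈ K := by
                  rw [← Ideal.Quotient.eq_zero_iff_mem]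
                  exact (AlgHom.congr_fun hv y).trans (hψI y hy)
                have := add_mem (hwv y) h3
                rwa [sub_add_cancel] at this
              have := add_mem h1 (Ideal.mem_map_of_mem (Ideal.Quotient.mk (Kj (j + 1))) h2)
              rwa [sub_add_cancel] at this
            rw [pow_mul] at hx
            have h2 := Ideal.le_comap_pow _ 2 (Ideal.pow_right_mono hle 2 hx)
            rwa [← Ideal.map_pow, hK, Ideal.map_bot, Ideal.mem_comap, Ideal.mem_bot] at h2⟩
        have hw₂' : ∀ b, Ideal.Quotient.mk (Kj (j + 1)) (w₂ b) = w₁ b := AlgHom.congr_fun hw₂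
        refine ⟨w₂, fun b => ?_, fun x hx => ?_⟩
        · have h1 : w₂ b - w b ∈ K := by
            have h2 : Ideal.Quotient.mk (Kj (j + 1)) (w₂ b - w b) ∈ K' := by
              rw [map_sub, hw₂']
              exact hw₁ b
            obtain ⟨y, hy, hye⟩ := (Ideal.mem_map_iff_of_surjective _ Ideal.Quotient.mk_surjective).1 h2
            have h3 := hKjK _ (Ideal.Quotient.eq.1 hye)
            have := sub_mem (hKjK j hy) h3
            rwa [sub_sub_cancel] at this
          rw [show w₂ b - v b = (w₂ b - w b) + (w b - v b) by ring]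
          exact add_mem h1 (hwv b)
        · rw [← Ideal.Quotient.eq_zero_iff_mem, hw₂']
          exact hw₁J x hx
    have hbot : Kj (m * k) = ⊥ := by
      rw [eq_bot_iff, Ideal.mul_le]
      intro y hy z hz
      rw [Ideal.mem_bot]
      suffices (𝔮 ^ (m * k)).map v.toRingHom ≤ K by
        rw [← Ideal.mem_bot, ← hK, pow_two]
        exact Ideal.mul_mem_mul (this hy) hz
      rw [Ideal.map_le_iff_le_comap]
      intro q hq
      have h1 : Ideal.Quotient.mk J q ∈ (I.map (Ideal.Quotient.mk J)) ^ k := by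
        refine Ideal.pow_right_mono hm k ?_
        rw [← pow_mul]
        refine Ideal.pow_right_mono
          (show 𝔮.map (Ideal.Quotient.mk J) ≤ Q by rw [h𝔮]; exact Ideal.map_comap_le) (m * k) ?_
        rw [← Ideal.map_pow]
        exact Ideal.mem_map_of_mem _ hq
      rw [Ideal.mem_comap, ← Ideal.Quotient.eq_zero_iff_mem]
      exact (AlgHom.congr_fun hv q).trans (hk _ h1)
    obtain ⟨w, hwv, hwJ⟩ := step (m * k)
    have hwJ0 : ∀ x ∈ J, w x = 0 := fun x hx => by simpa [hbot] using hwJ x hx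
    refine ⟨Ideal.Quotient.liftₐ J w hwJ0, AlgHom.ext fun c => ?_⟩
    obtain ⟨b, rfl⟩ := Ideal.Quotient.mk_surjective c
    change Ideal.Quotient.mk K (w b) = ψ (Ideal.Quotient.mk J b)
    rw [show Ideal.Quotient.mk K (w b) = Ideal.Quotient.mk K (v b) from
      Ideal.Quotient.eq.2 (hwv b)]
    exact AlgHom.congr_fun hv b

end Groth.Agent.S12136
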