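import Groth.Statements.S12137
import Groth.Agent.H81.Cone.Trivial

set_option autoImplicit false
universe u
open CategoryTheory CategoryTheory.Limits AlgebraicGeometry Opposite TopologicalSpace
open scoped HomogeneousIdeal
noncomputable section
open EGA2

namespace Groth.Agent.S12137

/-- Let Y be a scheme, 𝒜 a quasi-coherent O_Y-algebra and Ŝ = 𝒜[T], graded with 𝒜 in degree 0 and T in
degree 1 — presented through a homomorphism of algebras ι : 𝒜 → Ŝ landing in degree 0 and a global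
section z of Ŝ of degree 1 such that, over every affine open U, the map 𝒜(U)[X] → Ŝ(U) sending X to
z is bijective — and let p : P → Y with its charts be the relative homogeneous spectrum Proj(Ŝ). For
each affine open U let θ_U : Ŝ(U)_(z) → 𝒜(U) be the ring isomorphism sending ι(a) z^k / z^k to a.
Then there is a unique morphism i : Spec(𝒜) → P which, on the chart Spec 𝒜(U) of Spec(𝒜) over each
affine open U, is Spec(θ_U) followed by the open immersion of D_+(z|U) into Proj Ŝ(U) and the chart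
of P; moreover i is an isomorphism and lies over Y. In particular Proj(O_Y[T]) is Y. -/
theorem result {Y P : Scheme.{u}} (𝒜 : RelSpec.QCAlg Y) (Sh : RelProj.QCGrAlg Y)
    (ι : 𝒜 ⟶ Sh.toQCAlg)
    (hι : ∀ (U : Y.Opens) (hU : IsAffineOpen U) (a : 𝒜.presheaf.obj (op U)), (ι.hom.app (op U)).hom a ∈ Sh.deg U hU 0)
    (z : Sh.presheaf.obj (op ⊤))
    (hz : ∀ (U : Y.Opens) (hU : IsAffineOpen U), (Sh.presheaf.map (homOfLE le_top).op).hom z ∈ Sh.deg U hU 1)
    (hpoly : ∀ (U : Y.Opens) (hU : IsAffineOpen U),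
      Function.Bijective (Polynomial.eval₂RingHom (ι.hom.app (op U)).hom ((Sh.presheaf.map (homOfLE le_top).op).hom z)))
    (p : P ⟶ Y)
    (chart : ∀ (U : Y.Opens) (hU : IsAffineOpen U), (((p ⁻¹ᵁ U : P.Opens) : Scheme.{u}) ≅ Proj (Sh.deg U hU)))
    (hP : RelProj.IsRelProj Sh p chart)
    (θ : ∀ (U : Y.Opens) (hU : IsAffineOpen U),
      CommRingCat.of (HomogeneousLocalization.Away (Sh.deg U hU) ((Sh.presheaf.map (homOfLE le_top).op).hom z)) ⟶
        𝒜.presheaf.obj (op U))
    (hθ : ∀ (U : Y.Opens) (hU : IsAffineOpen U)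
      (q : HomogeneousLocalization.Away (Sh.deg U hU) ((Sh.presheaf.map (homOfLE le_top).op).hom z))
      (k : ℕ) (a : 𝒜.presheaf.obj (op U)),
        q.val = Localization.mk ((ι.hom.app (op U)).hom a * (Sh.presheaf.map (homOfLE le_top).op).hom z ^ k)
          ⟨(Sh.presheaf.map (homOfLE le_top).op).hom z ^ k,
            pow_mem (Submonoid.mem_powers ((Sh.presheaf.map (homOfLE le_top).op).hom z)) k⟩ →
        (θ U hU).hom q = a) :
    (∃! i : 𝒜.spec ⟶ P, ∀ (U : Y.Opens) (hU : IsAffineOpen U),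
        𝒜.ι U hU ≫ i =
          Spec.map (θ U hU) ≫
            Proj.awayι (Sh.deg U hU) ((Sh.presheaf.map (homOfLE le_top).op).hom z) (hz U hU) one_pos ≫
              RelProj.emb p chart U hU) ∧
      ∀ i : 𝒜.spec ⟶ P, (∀ (U : Y.Opens) (hU : IsAffineOpen U),
        𝒜.ι U hU ≫ i =
          Spec.map (θ U hU) ≫
            Proj.awayι (Sh.deg U hU) ((Sh.presheaf.map (homOfLE le_top).op).hom z) (hz U hU) one_pos ≫
              RelProj.emb p chart U hU) →
        IsIso i ∧ i ≫ p = 𝒜.π := by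
  have hgr := Groth.Agent.H81.Cone.Trivial.isGradedHom 𝒜 ι hι
  have hθ' : ∀ (U : Y.Opens) (hU : IsAffineOpen U)
      (q : HomogeneousLocalization.Away (Sh.deg U hU) (Groth.Agent.H81.Cone.ConeImm.zU z U)) (k : ℕ)
      (x : 𝒜.presheaf.obj (op U)), x ∈ (Groth.Agent.H81.Cone.Trivial.trivGr 𝒜).deg U hU k →
        q.val = Localization.mk ((ι.hom.app (op U)).hom x)
          ⟨Groth.Agent.H81.Cone.ConeImm.zU z U ^ k,
            pow_mem (Submonoid.mem_powers (Groth.Agent.H81.Cone.ConeImm.zU z U)) k⟩ → (θ U hU).hom q = x := by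
    intro U hU q k x hx hq
    rcases Nat.eq_zero_or_pos k with rfl | hk
    · refine hθ U hU q 0 x ?_
      refine hq.trans ?_
      exact congrArg (fun t => Localization.mk t _) (by rw [pow_zero, mul_one])
    · refine hθ U hU q k x ?_
      have h0 := Groth.Agent.H81.Cone.Trivial.eq_zero_of_mem hk.ne' hx
      subst h0
      rw [hq, map_zero, zero_mul]
  refine ⟨Groth.Agent.H81.Cone.ConeImm.existsUnique_i (𝒮 := Groth.Agent.H81.Cone.Trivial.trivGr 𝒜) ι hgr z hz
    hpoly p chart θ hθ' hP, fun i hi => ?_⟩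
  refine ⟨?_, Groth.Agent.H81.Cone.ConeImm.i_pC (𝒮 := Groth.Agent.H81.Cone.Trivial.trivGr 𝒜) ι hgr z hz p chart θ hθ'
    i hi hP⟩
  haveI hoi : IsOpenImmersion i := (Groth.Agent.H81.Cone.ConeImm.props (𝒮 := Groth.Agent.H81.Cone.Trivial.trivGr 𝒜) ι hgr z hz hpoly p chart θ
    hθ' i hi hP).1
  haveI : Epi i.base := (TopCat.epi_iff_surjective _).2 fun x => by
    obtain ⟨U, hU, hxU, -⟩ := exists_isAffineOpen_mem_and_subset (U := ⊤) (x := p x) trivial
    obtain ⟨y, rfl⟩ : x ∈ (RelProj.emb p chart U hU).opensRange := by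
      rw [Groth.Agent.H81.RelProj.RelTilde.opensRange_emb]; exact hxU
    refine (Groth.Agent.H81.Cone.ConeImm.mem_range_iff (𝒮 := Groth.Agent.H81.Cone.Trivial.trivGr 𝒜) ι hgr z hz hpoly p
      chart θ hθ' i hi hP U hU y).2 ((Proj.mem_basicOpen _ _ _).2 fun hy => ?_)
    refine y.not_irrelevant_le (Groth.Agent.H81.Cone.PolyGr.irrelevant_le
      (RelProj.gradedHomAt (𝒜 := Groth.Agent.H81.Cone.Trivial.trivGr 𝒜) ι hgr U hU) _ (hz U hU) (hpoly U hU)
      (fun a ha => ?_) hy)
    rw [Groth.Agent.H81.Cone.Trivial.irrelevant_eq_bot 𝒜 hU ha, map_zero]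
    exact Ideal.zero_mem _
  exact IsOpenImmersion.isIso _

end Groth.Agent.S12137
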