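import Groth.Statements.S1214
import Groth.Agent.Lib.FlatCA.NzdFiber
import Groth.Agent.Lib.FlatCA.MapSmul
import Mathlib.RingTheory.AdicCompletion.Basic

set_option autoImplicit false
universe u
open FlatMor

namespace Groth.Agent.S1214

open TensorProduct in
/-- Let R → S be a ring map, I an ideal of R and N an S-module which is I-adically complete. Then for
every R-module M and every prime q of S which is the annihilator of an element of the S-module N ⊗_R
M we have q + IS ≠ S. -/
theorem result {R S : Type u} [CommRing R] [CommRing S] [Algebra R S] (I : Ideal R)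
    (N : Type u) [AddCommGroup N] [Module S N] [Module R N] [IsScalarTower R S N] [IsAdicComplete I N]
    (M : Type u) [AddCommGroup M] [Module R M]
    (q : Ideal S) [q.IsPrime] (hq : q ∈ FlatCA.ass S (N ⊗[R] M)) :
    q ⊔ I.map (algebraMap R S) ≠ ⊤ := by
  open Groth.Agent.Lib.FlatCA in
  refine NzdFiber.sup_ne_top_of_mem_ass _ (fun g hg => ?_) hq
  let u : N →ₗ[R] N := (LinearMap.lsmul S N g).restrictScalars R
  let b : S := 1 - g
  have hb : b ∈ I.map (algebraMap R S) := by
    have : b = -(g - 1) := by ring
    rw [this]; exact neg_mem hg
  -- multiplication by `b` raises the filtration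
  have hbn : ∀ (n : ℕ) (x : N), b ^ n • x ∈ I ^ n • (⊤ : Submodule R N) := by
    intro n x
    have hn : b ^ n ∈ (I ^ n).map (algebraMap R S) := by
      rw [Ideal.map_pow]; exact Ideal.pow_mem_pow hb n
    exact Groth.Agent.Lib.FlatCA.MapSmul.smul_mem_smul_top hn x
  have hu : Function.Bijective u := by
    constructor
    · rw [injective_iff_map_eq_zero]
      intro x hx
      have hbx : b • x = x := by
        have : g • x = 0 := hx
        rw [sub_smul, one_smul, this, sub_zero]
      refine IsHausdorff.haus (I := I) inferInstance x fun n => ?_
      rw [SModEq.zero]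
      have : b ^ n • x = x := by
        induction n with
        | zero => simp
        | succ n ih => rw [pow_succ, mul_smul, hbx, ih]
      exact this ▸ hbn n x
    · intro y
      obtain ⟨L, hL⟩ := IsPrecomplete.prec (I := I) inferInstance
        (f := fun n => ∑ k ∈ Finset.range n, b ^ k • y) (fun {m n} hmn => by
          rw [SModEq.sub_mem, ← neg_sub, Finset.sum_range_sub_sum_range (f := fun k => b ^ k • y) hmn]
          refine Submodule.neg_mem _ (Submodule.sum_mem _ fun k hk => ?_)
          exact Submodule.smul_mono (Ideal.pow_le_pow_right (Finset.mem_filter.1 hk).2) le_rfl (hbn k y))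
      refine ⟨L, sub_eq_zero.1 (IsHausdorff.haus (I := I) inferInstance _ fun n => ?_)⟩
      rw [SModEq.zero]
      have h1 := SModEq.sub_mem.1 (hL n)
      have htel : u (∑ k ∈ Finset.range n, b ^ k • y) = y - b ^ n • y := by
        induction n with
        | zero => simp
        | succ n ih =>
          rw [Finset.sum_range_succ, map_add, ih (SModEq.sub_mem.1 (hL n))]
          show y - b ^ n • y + g • (b ^ n • y) = _
          rw [show g = 1 - b from (sub_sub_cancel 1 g).symm, sub_smul, one_smul, smul_smul, ← pow_succ']
          abel
      have h2 : u L - y = -(u (∑ k ∈ Finset.range n, b ^ k • y - L)) - b ^ n • y := by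
        rw [map_sub, htel]; abel
      rw [h2]
      refine Submodule.sub_mem _ (Submodule.neg_mem _ ?_) (hbn n y)
      exact Submodule.smul_top_le_comap_smul_top _ u h1
  intro x y hxy
  simp only [FiberMod.smul_eq_rTensor] at hxy
  exact ((LinearEquiv.ofBijective u hu).rTensor M).injective hxy


end Groth.Agent.S1214
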