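import Groth.Statements.S12141
import Groth.Agent.Lib.ProjQ.Props

set_option autoImplicit false
universe u
open CategoryTheory CategoryTheory.Limits AlgebraicGeometry TopologicalSpace Opposite
open scoped HomogeneousIdeal
noncomputable section
open EGA2

namespace Groth.Agent.S12141

open Groth.Agent.Lib.ProjQ

/-- The positive degree part of a base change is generated by that of the original algebra. -/
theorem irrelevant_le {Y Y' : Scheme.{u}} {ψ : Y' ⟶ Y} {𝒮 : RelProj.QCGrAlg Y} {𝒮' : RelProj.QCGrAlg Y'}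
    (u : RelProj.QGrHom ψ 𝒮 𝒮') (hu : RelSpec.IsQBaseChange u.toQHom) (U : Y.Opens) (hU : IsAffineOpen U)
    (U' : Y'.Opens) (hU' : IsAffineOpen U') (hle : U' ≤ ψ ⁻¹ᵁ U) :
    (𝒮'.deg U' hU')₊ ≤ ((𝒮.deg U hU)₊).map (u.gradedAt U hU U' hU' hle) := by
  classical
  let φ := u.gradedAt U hU U' hU' hle
  let I : Ideal (𝒮'.presheaf.obj (op U')) := (((𝒮.deg U hU)₊).map φ).toIdeal
  let π : 𝒮'.presheaf.obj (op U') →+* (𝒮'.presheaf.obj (op U') ⧸ I) := Ideal.Quotient.mk I
  have key : CommRingCat.ofHom π =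
      CommRingCat.ofHom (π.comp (GradedRing.projZeroRingHom (𝒮'.deg U' hU'))) := by
    refine (hu U hU U' hU' hle).hom_ext ?_ ?_ <;> ext x
    · show π _ = π (DirectSum.decompose (𝒮'.deg U' hU') ((𝒮'.str.app (op U')).hom x) 0 : _)
      rw [DirectSum.decompose_of_mem_same _ (𝒮'.str_mem U' hU' x)]
      rfl
    · show π (φ x) = π (DirectSum.decompose (𝒮'.deg U' hU') (φ x) 0 : _)
      rw [← GradedRingHom.map_directSumDecompose]
      refine Ideal.Quotient.eq.2 ?_
      rw [← map_sub]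
      refine Ideal.mem_map_of_mem φ ?_
      rw [HomogeneousIdeal.toIdeal_irrelevant, RingHom.mem_ker, map_sub, GradedRing.projZeroRingHom_apply,
        GradedRing.projZeroRingHom_apply, DirectSum.decompose_of_mem_same _ (SetLike.coe_mem _), sub_self]
  refine (HomogeneousIdeal.irrelevant_le _).2 fun n hn b hb => ?_
  replace hb : b ∈ 𝒮'.deg U' hU' n := hb
  have h : π b = π (DirectSum.decompose (𝒮'.deg U' hU') b 0 : _) := congr($key b)
  rw [DirectSum.decompose_of_mem_ne _ hb hn.ne'] at h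
  have := Ideal.Quotient.eq.1 h
  rwa [sub_zero] at this

/-- Let ψ : Y' → Y be a morphism of schemes, 𝒮 a quasi-coherent positively graded O_Y-algebra and 𝒮' =
ψ^*𝒮, presented as a quasi-coherent graded O_{Y'}-algebra with a graded ψ-morphism u : 𝒮 → ψ_*𝒮'
whose squares over affine opens U' ⊆ ψ⁻¹(U) are pushouts of rings; let P = Proj(𝒮), P' = Proj(𝒮')
with their charts. Then the morphism Proj(u) : P' → P is everywhere defined (its open of definition
G(u) is P' and it exists, pinned on the standard affine charts), and any such morphism identifies P'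
with the fibre product P ×_Y Y'. -/
theorem result {Y Y' P P' : Scheme.{u}} (ψ : Y' ⟶ Y)
    (𝒮 : RelProj.QCGrAlg Y) (𝒮' : RelProj.QCGrAlg Y') (u : RelProj.QGrHom ψ 𝒮 𝒮')
    (hu : RelSpec.IsQBaseChange u.toQHom)
    (p : P ⟶ Y) (chart : ∀ (U : Y.Opens) (hU : IsAffineOpen U), (((p ⁻¹ᵁ U : P.Opens) : Scheme.{u}) ≅ Proj (𝒮.deg U hU)))
    (hP : RelProj.IsRelProj 𝒮 p chart)
    (p' : P' ⟶ Y') (chart' : ∀ (U : Y'.Opens) (hU : IsAffineOpen U), (((p' ⁻¹ᵁ U : P'.Opens) : Scheme.{u}) ≅ Proj (𝒮'.deg U hU)))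
    (hP' : RelProj.IsRelProj 𝒮' p' chart') :
    (∃ h : P' ⟶ P, RelProj.IsProjQMap u p chart p' chart' h) ∧
      ∀ h : P' ⟶ P, RelProj.IsProjQMap u p chart p' chart' h → IsPullback h p' p ψ := by
  have hirr := fun U hU U' hU' hle => irrelevant_le u hu U hU U' hU' hle
  have htop : RelProj.domQ u p' chart' = ⊤ := domQ_eq_top fun y => by
    obtain ⟨U, hU, hy, -⟩ := exists_isAffineOpen_mem_and_subset (X := Y) (U := ⊤) (x := ψ y) trivial
    obtain ⟨U', hU', hy', hle⟩ := exists_isAffineOpen_mem_and_subset (X := Y') (U := ψ ⁻¹ᵁ U) (x := y) hy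
    exact ⟨U, hU, U', hU', hle, hy', domOpen_eq_top_of_le _ (hirr U hU U' hU' hle)⟩
  refine ⟨exists_isProjQMap htop hP hP', fun h hh => ?_⟩
  let nt : 𝒮.presheaf ⟶ ψ.base _* 𝒮'.presheaf :=
    { app := fun V => u.app V.unop, naturality := fun V W f => (u.naturality f.unop.le).symm }
  refine Groth.Agent.H81.RelProj.BaseChange.isPullback ψ (u := nt) (φ := fun U hU U' hU' hle =>
    u.gradedAt U hU U' hU' hle) (fun U hU U' hU' hle => rfl) (fun U hU U' hU' hle => hu U hU U' hU' hle)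
    hirr hP hP' fun U hU U' hU' hle => ?_
  rw [← cancel_epi (chart' U' hU').inv, Iso.inv_hom_id_assoc, ← Category.assoc]
  refine (Proj.mapAffineOpenCover _ (hirr U hU U' hU' hle)).openCover.hom_ext _ _ fun s => ?_
  simp only [Scheme.AffineOpenCover.openCover_f, Proj.mapAffineOpenCover_f]
  refine Eq.trans ?_ (Proj.awayι_comp_map_assoc (u.gradedAt U hU U' hU' hle) (hirr U hU U' hU' hle)
    s.1.2 _ s.2.2 _).symm
  refine Eq.trans ?_ (hh.2 U hU U' hU' hle _ s.1.2 _ s.2.2)
  exact (Category.assoc _ _ _).symm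

end Groth.Agent.S12141
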