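import Groth.Statements.S12142
import Groth.Agent.Lib.SymAlg.Sections

set_option autoImplicit false
universe u
open CategoryTheory CategoryTheory.Limits AlgebraicGeometry TopologicalSpace Opposite
open scoped HomogeneousIdeal
noncomputable section
open EGA2

namespace Groth.Agent.S12142

/-- Let g : S' → S be a morphism of schemes, A a quasi-coherent O_S-algebra and B = g^*A, presented as a
quasi-coherent O_{S'}-algebra with a g-morphism u : A → g_*B whose squares of rings over affine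
opens U' ⊆ g⁻¹(U) are pushouts; let h = Spec(u) : Spec(B) → Spec(A) be the induced morphism of
relative spectra (chartwise Spec of A(U) → B(U')). Then h and the structure morphisms form a
cartesian square: Spec(g^*A) is the fibre product Spec(A) ×_S S'. -/
theorem result {S S' : Scheme.{u}} (g : S' ⟶ S)
    (A : RelSpec.QCAlg S) (B : RelSpec.QCAlg S') (u : RelSpec.QHom g A B) (hu : RelSpec.IsQBaseChange u)
    (h : B.spec ⟶ A.spec) (hh : RelSpec.IsSpecQMap u h) :
    IsPullback h B.π A.π g := by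
  open Groth.Agent.Lib Groth.Agent.Lib.SymAlg in
  have hq := hu
  let P := {p : S.affineOpens × S'.affineOpens // p.2.1 ≤ g ⁻¹ᵁ p.1.1}
  have hcov : ∀ y : S', ∃ p : P, y ∈ p.1.2.1 := fun y => by
    obtain ⟨U, hU⟩ := TopologicalSpace.Opens.mem_iSup.1 ((iSup_affineOpens_eq_top S).ge
      (show g y ∈ (⊤ : S.Opens) from trivial))
    obtain ⟨V, hV, hyV, hVU⟩ := exists_isAffineOpen_mem_and_subset (X := S') (x := y) (U := g ⁻¹ᵁ U.1) hU
    exact ⟨⟨(U, ⟨V, hV⟩), hVU⟩, hyV⟩
  have w : h ≫ A.π = B.π ≫ g := by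
    refine (Groth.Agent.Lib.SymAlg.Sections.chartCover B (fun p : P => p.1.2.1) (fun p => p.1.2.2)
      (top_le_iff.1 fun y _ => TopologicalSpace.Opens.mem_iSup.2 (hcov y))).hom_ext _ _ fun p => ?_
    have hfac : (B.ι p.1.2.1 p.1.2.2).opensRange.ι =
        (B.ι p.1.2.1 p.1.2.2).isoOpensRange.inv ≫ B.ι p.1.2.1 p.1.2.2 := by simp
    show (B.ι p.1.2.1 p.1.2.2).opensRange.ι ≫ h ≫ A.π = (B.ι p.1.2.1 p.1.2.2).opensRange.ι ≫ B.π ≫ g
    rw [hfac, Category.assoc, Category.assoc, reassoc_of% (hh p.1.1.1 p.1.1.2 p.1.2.1 p.1.2.2 p.2), A.ι_π,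
      reassoc_of% (B.ι_π p.1.2.1 p.1.2.2), ← IsAffineOpen.SpecMap_appLE_fromSpec g p.1.1.2 p.1.2.2 p.2,
      ← Spec.map_comp_assoc, ← Spec.map_comp_assoc, u.str_appLE]
  suffices IsIso (pullback.lift _ _ w) from IsPullback.of_iso_pullback ⟨w⟩ (asIso (pullback.lift _ _ w))
    (pullback.lift_fst _ _ _) (pullback.lift_snd _ _ _)
  let q : ∀ p : P, pullback (Spec.map (A.str.app (Opposite.op p.1.1.1))) (Spec.map (g.appLE p.1.1.1 p.1.2.1 p.2)) ⟶
      pullback A.π g := fun p =>
    pullback.map _ _ _ _ (A.ι p.1.1.1 p.1.1.2) p.1.2.2.fromSpec p.1.1.2.fromSpec (A.ι_π p.1.1.1 p.1.1.2).symm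
      (IsAffineOpen.SpecMap_appLE_fromSpec g p.1.1.2 p.1.2.2 p.2)
  haveI : ∀ p, IsOpenImmersion (q p) := fun p => inferInstance
  have hr : ∀ p, Set.range (q p) = pullback.snd A.π g ⁻¹' p.1.2.1 := fun p => by
    simp only [q]
    rw [Scheme.Pullback.range_map, ← Scheme.Hom.coe_opensRange, ← A.π_preimage p.1.1.1 p.1.1.2,
      IsAffineOpen.range_fromSpec]
    refine Set.inter_eq_right.2 fun z hz => ?_
    show A.π (pullback.fst A.π g z) ∈ p.1.1.1
    rw [← Scheme.Hom.comp_apply, pullback.condition, Scheme.Hom.comp_apply]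
    exact p.2 hz
  refine Groth.Agent.Lib.SymAlg.Sections.isIso_of_squares (pullback.lift _ _ w) q (fun z => ?_)
    (fun p : P => B.ι p.1.2.1 p.1.2.2)
    (fun p => (isPullback_SpecMap_of_isPushout _ _ _ _ (hq _ p.1.1.2 _ p.1.2.2 p.2).flip).isoPullback.hom)
    (fun p => ?_)
  · obtain ⟨p, hp⟩ := hcov (pullback.snd A.π g z)
    exact ⟨p, (hr p).ge hp⟩
  · refine (IsOpenImmersion.isPullback _ (B.ι p.1.2.1 p.1.2.2) (q p) _ ?_ ?_).flip
    · refine pullback.hom_ext ?_ ?_
      · simp only [q, pullback.map, Category.assoc, pullback.lift_fst]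
        rw [hh p.1.1.1 p.1.1.2 p.1.2.1 p.1.2.2 p.2]
        exact ((IsPullback.isoPullback_hom_fst_assoc _ _).symm)
      · simp only [q, pullback.map, Category.assoc, pullback.lift_snd]
        rw [B.ι_π]
        exact ((IsPullback.isoPullback_hom_snd_assoc _ _).symm)
    · apply TopologicalSpace.Opens.ext
      show (pullback.lift _ _ w).base ⁻¹' (Set.range (q p)) = ((B.ι p.1.2.1 p.1.2.2).opensRange : Set B.spec)
      rw [← B.π_preimage p.1.2.1 p.1.2.2, hr]
      ext x
      show pullback.snd A.π g (pullback.lift _ _ w x) ∈ p.1.2.1 ↔ B.π x ∈ p.1.2.1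
      rw [← Scheme.Hom.comp_apply, pullback.lift_snd]

end Groth.Agent.S12142
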