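import Groth.Statements.S12150
import Groth.Agent.Lib.ProjQ.Crit

set_option autoImplicit false
universe u
open CategoryTheory CategoryTheory.Limits AlgebraicGeometry TopologicalSpace Opposite
open scoped HomogeneousIdeal
noncomputable section
open EGA2

namespace Groth.Agent.S12150

/-- Let q : X → Y be a morphism with Y affine, L an invertible O_X-module with 𝒮L = ⊕ L^{⊗n} (whose Proj
is X), 𝒮 a quasi-coherent positively graded O_Y-algebra with S = Γ(Y, 𝒮), ψ♭ = u : 𝒮 → q_*𝒮L a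
graded q-morphism and r = r_{L,ψ} : G(ψ) → P = Proj(𝒮). For a family s_a ∈ S_{n_a} (n_a > 0) put f_a
= ψ♭(s_a) ∈ Γ(X, L^{⊗n_a}) and let X_{f_a} be the open where f_a does not vanish; conditions: (i)
the X_{f_a} cover X; (ii) the X_{f_a} are affine; (iii) every function t on X_{f_a} is of the form
ψ♭(s') f_a^{-m} with m > 0 and s' ∈ S_{m n_a} (that is, t f_a^m = ψ♭(s') in 𝒮L(X_{f_a})). Then r is
everywhere defined (G(ψ) = X) and an immersion if and only if there is a family (s_a) satisfying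
(i), (ii) and (iii). -/
theorem result {Y X P PL : Scheme.{u}} (q : X ⟶ Y)
    (L : X.Modules) (hL : PicF.IsInvertible L) (hLq : Coh.IsQCoh L)
    (𝒮 : RelProj.QCGrAlg Y) (𝒮L : RelProj.QCGrAlg X) (j : L ⟶ 𝒮L.toModule) (hj : RelProj.IsGrSymAlg L 𝒮L j)
    (u : RelProj.QGrHom q 𝒮 𝒮L)
    (p : P ⟶ Y) (chart : ∀ (U : Y.Opens) (hU : IsAffineOpen U), (((p ⁻¹ᵁ U : P.Opens) : Scheme.{u}) ≅ Proj (𝒮.deg U hU)))
    (hP : RelProj.IsRelProj 𝒮 p chart)
    (pL : PL ⟶ X) (chartL : ∀ (U : X.Opens) (hU : IsAffineOpen U), (((pL ⁻¹ᵁ U : PL.Opens) : Scheme.{u}) ≅ Proj (𝒮L.deg U hU)))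
    (hPL : RelProj.IsRelProj 𝒮L pL chartL)
    (r : ((RelProj.domQ u pL chartL : PL.Opens) : Scheme.{u}) ⟶ P)
    (hr : RelProj.IsProjQMapOn u p chart pL chartL (RelProj.domQ u pL chartL) r)
    (hY : IsAffineOpen (⊤ : Y.Opens)) :
    (RelProj.domQ u pL chartL = ⊤ ∧ IsImmersion r) ↔
      ∃ (ι : Type u) (n : ι → ℕ) (s : ι → 𝒮.presheaf.obj (op ⊤)) (XT : ι → X.Opens),
        (∀ a, 0 < n a ∧ s a ∈ 𝒮.deg ⊤ hY (n a)) ∧
        (∀ a, XT a = (⨆ V : {V : X.affineOpens //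
          ((𝒮L.deg V.1 V.2 (n a) : AddSubgroup (𝒮L.presheaf.obj (op (V.1 : X.Opens)))) : Set (𝒮L.presheaf.obj (op (V.1 : X.Opens)))) ⊆
            (Ideal.span {(u.appLE ⊤ (V.1 : X.Opens) (le_top.trans (Scheme.Hom.preimage_top q).ge)).hom (s a)} : Set (𝒮L.presheaf.obj (op (V.1 : X.Opens))))},
          (V.1.1 : X.Opens))) ∧
        (⨆ a, XT a) = ⊤ ∧ (∀ a, IsAffineOpen (XT a)) ∧
        (∀ (a : ι) (t : X.presheaf.obj (op (XT a))), ∃ (m : ℕ) (_ : 0 < m) (s' : 𝒮.presheaf.obj (op ⊤)) (_ : s' ∈ 𝒮.deg ⊤ hY (m * n a)),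
            (𝒮L.str.app (op (XT a))).hom t * ((u.appLE ⊤ (XT a) (le_top.trans (Scheme.Hom.preimage_top q).ge)).hom (s a)) ^ m =
              (u.appLE ⊤ (XT a) (le_top.trans (Scheme.Hom.preimage_top q).ge)).hom s') := by
  open Groth.Agent.Lib.ProjQ in
  constructor
  · rintro ⟨htop, himm⟩
    haveI := isIso_proj hL hLq hj hPL
    choose n s hn hs hmem hle using fun x : X =>
      exists_std_le (p := p) (chart := chart) (O := r.coborderRange)
        (y := r ⟨inv pL x, htop.ge (Set.mem_univ _)⟩)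
        (subset_coborder ⟨_, rfl⟩) hY
    have hcl : ∀ x, IsClosedImmersion (r ∣_ (std p chart ⊤ hY (hn x) (s x) (hs x)).opensRange) := fun x =>
      isClosedImmersion_restrict_of_le r (hle x)
    have haff : ∀ x, IsAffineOpen (locus u (n x) (s x)) := fun x =>
      haveI := hcl x
      isAffineOpen_locus hL hLq hj hP hPL hr hY (hn x) (hs x)
        (isAffine_of_isClosedImmersion_restrict r (isAffineOpen_std ⊤ hY _ _ _))
    refine ⟨X, n, s, fun x => locus u (n x) (s x), fun x => ⟨hn x, hs x⟩, fun x => rfl, ?_, haff, fun x =>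
      (isClosedImmersion_restrict_iff hL hLq hj hP hPL hr hY (hn x) (hs x) _ (haff x) rfl).1 (hcl x)⟩
    refine iSup_locus_eq_top hL hLq hj hP hPL hr hY htop n s hn hs fun ξ => ⟨pL ξ.1, ?_⟩
    have e : (⟨inv pL (pL ξ.1), htop.ge (Set.mem_univ _)⟩ : (RelProj.domQ u pL chartL : Scheme.{u})) = ξ :=
      Subtype.ext (congr($(IsIso.hom_inv_id pL) ξ.1))
    exact (congrArg (fun z => r z) e) ▸ hmem (pL ξ.1)
  · rintro ⟨ι, n, s, XT, hns, hXT, hcov, haff, hsurj⟩
    obtain rfl : XT = fun a => locus u (n a) (s a) := funext hXT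
    have hn := fun a => (hns a).1
    have hs := fun a => (hns a).2
    refine ⟨domQ_eq_top_of_locus hL hLq hj hPL hY n s hn hs hcov hP, ?_⟩
    refine of_restrict_cover @IsImmersion (fun f _ => inferInstance) r
      (fun a => (std p chart ⊤ hY (hn a) (s a) (hs a)).opensRange)
      (preimage_iSup_std hL hLq hj hP hPL hr hY n s hn hs hcov) fun a => ?_
    haveI := (isClosedImmersion_restrict_iff hL hLq hj hP hPL hr hY (hn a) (hs a) _ (haff a) rfl).2 (hsurj a)
    infer_instance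

end Groth.Agent.S12150
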