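import Groth.Statements.S12154
import Groth.Agent.Lib.ProjQ.Comp
import Groth.Agent.S12147
import Groth.Agent.S12165

set_option autoImplicit false
universe u
open CategoryTheory CategoryTheory.Limits AlgebraicGeometry TopologicalSpace Opposite
open scoped HomogeneousIdeal
noncomputable section
open EGA2

namespace Groth.Agent.S12154

/-- Let q : X → Y be a morphism, L an invertible O_X-module with 𝒮L = ⊕ L^{⊗n} (whose Proj, with its
charts, is X), v : 𝒯 → 𝒮 a graded homomorphism of quasi-coherent positively graded O_Y-algebras, ψ♭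
= u : 𝒮 → q_*𝒮L a graded q-morphism and ψ'♭ = u' its composite with v; let r = r_{L,ψ} : G(ψ) →
Proj(𝒮) and r' = r_{L,ψ'} : G(ψ') → Proj(𝒯), with r' everywhere defined and v (TN)-surjective (v :
𝒯_k → 𝒮_k surjective for all large k, on sections over affine opens). If r' is an open immersion, so
is r; if r' is a closed immersion, so is r. -/
theorem result {Y X P PL P' : Scheme.{u}} (q : X ⟶ Y)
    (L : X.Modules) (hL : PicF.IsInvertible L) (hLq : Coh.IsQCoh L)
    (𝒮 : RelProj.QCGrAlg Y) (𝒮L : RelProj.QCGrAlg X) (j : L ⟶ 𝒮L.toModule) (hj : RelProj.IsGrSymAlg L 𝒮L j)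
    (u : RelProj.QGrHom q 𝒮 𝒮L)
    (p : P ⟶ Y) (chart : ∀ (U : Y.Opens) (hU : IsAffineOpen U), (((p ⁻¹ᵁ U : P.Opens) : Scheme.{u}) ≅ Proj (𝒮.deg U hU)))
    (hP : RelProj.IsRelProj 𝒮 p chart)
    (pL : PL ⟶ X) (chartL : ∀ (U : X.Opens) (hU : IsAffineOpen U), (((pL ⁻¹ᵁ U : PL.Opens) : Scheme.{u}) ≅ Proj (𝒮L.deg U hU)))
    (hPL : RelProj.IsRelProj 𝒮L pL chartL)
    (r : ((RelProj.domQ u pL chartL : PL.Opens) : Scheme.{u}) ⟶ P)
    (hr : RelProj.IsProjQMapOn u p chart pL chartL (RelProj.domQ u pL chartL) r)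
    (𝒯 : RelProj.QCGrAlg Y) (v : 𝒯.toQCAlg ⟶ 𝒮.toQCAlg) (hv : RelProj.IsGradedHom v)
    (u' : RelProj.QGrHom q 𝒯 𝒮L) (hu' : ∀ U : Y.Opens, u'.app U = v.hom.app (op U) ≫ u.app U)
    (p' : P' ⟶ Y) (chart' : ∀ (U : Y.Opens) (hU : IsAffineOpen U), (((p' ⁻¹ᵁ U : P'.Opens) : Scheme.{u}) ≅ Proj (𝒯.deg U hU)))
    (hP' : RelProj.IsRelProj 𝒯 p' chart')
    (r' : ((RelProj.domQ u' pL chartL : PL.Opens) : Scheme.{u}) ⟶ P')
    (hr' : RelProj.IsProjQMapOn u' p' chart' pL chartL (RelProj.domQ u' pL chartL) r')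
    (hTN : ∃ n : ℕ, ∀ k, n ≤ k → ∀ (U : Y.Opens) (hU : IsAffineOpen U), ∀ y ∈ 𝒮.deg U hU k,
      ∃ x ∈ 𝒯.deg U hU k, (v.hom.app (op U)).hom x = y)
    (hdef : RelProj.domQ u' pL chartL = ⊤) :
    (IsOpenImmersion r' → IsOpenImmersion r) ∧ (IsClosedImmersion r' → IsClosedImmersion r) := by
  open Groth.Agent.Lib.ProjQ in
  have hle := Groth.Agent.S12147.result q L hL hLq 𝒮 𝒮L j hj u p chart hP pL chartL hPL 𝒯 v hv u' hu'
  obtain ⟨rv, hrv, -⟩ := existsUnique (u := RelProj.QGrHom.ofHom v hv) hP' hP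
  obtain ⟨k, hk1, hk2⟩ := exists_comp hu' hle hr hr' hrv
  haveI := isIso_homOfLE hle hdef
  obtain ⟨htop, -⟩ := Groth.Agent.S12165.result 𝒯 𝒮 v hv hTN p' chart' hP' p chart hP
  haveI := isIso_ι htop
  obtain ⟨n, hn⟩ := hTN
  haveI : IsClosedImmersion rv := by
    refine of_charts @IsClosedImmersion hP' hP hrv (fun U hU => hU) fun i hi => ?_
    obtain ⟨U, hU, U', hU', hl, d, hd, f, hf⟩ := i
    change U' = U at hi
    subst hi
    refine IsClosedImmersion.spec_of_surjective _ (awayMap_surjective _ (n := n) (fun k hk b hb => ?_) hd hf)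
    obtain ⟨a, ha, e⟩ := hn k hk _ hU b hb
    exact ⟨a, ha, (congr($(gradedAt_ofHom v hv _ hU) a)).trans e⟩
  have e : r = inv (PL.homOfLE hle) ≫ k ≫ (RelProj.domQ (RelProj.QGrHom.ofHom v hv) p chart).ι := by
    rw [hk1, IsIso.inv_hom_id_assoc]
  refine ⟨fun h => ?_, fun h => ?_⟩
  · haveI : IsOpenImmersion k := by
      have hpb : IsPullback (𝟙 _) k r' rv :=
        ⟨⟨by rw [Category.id_comp, hk2]⟩, ⟨PullbackCone.IsLimit.mk _ (fun s => s.fst) (fun s => Category.comp_id _)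
          (fun s => by rw [← cancel_mono rv, Category.assoc, hk2, s.condition])
          (fun s m hm _ => (Category.comp_id _).symm.trans hm)⟩⟩
      exact MorphismProperty.of_isPullback (P := @IsOpenImmersion) hpb h
    rw [e]
    infer_instance
  · haveI : IsClosedImmersion (k ≫ rv) := hk2.symm ▸ h
    haveI : IsClosedImmersion k := IsClosedImmersion.of_comp k rv
    rw [e]
    infer_instance

end Groth.Agent.S12154
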