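import Groth.Statements.S12159
import Groth.Agent.Lib.ProjQ.Colimit
import Groth.Agent.Lib.ProjQ.Invertible
import Groth.Agent.S12147

set_option autoImplicit false
universe u
open CategoryTheory CategoryTheory.Limits AlgebraicGeometry TopologicalSpace Opposite
open scoped HomogeneousIdeal
noncomputable section
open EGA2

namespace Groth.Agent.S12159

/-- Let Y be a quasi-compact scheme, q : X → Y a quasi-compact morphism, L an invertible O_X-module with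
𝒮L = ⊕ L^{⊗n} (whose Proj is X), 𝒮 = colim 𝒮^i a filtered colimit of quasi-coherent positively
graded O_Y-algebras along graded homomorphisms φ_i : 𝒮^i → 𝒮 (colimit taken on sections over affine
opens), ψ♭ = u : 𝒮 → q_*𝒮L a graded q-morphism and ψ_i♭ = u ∘ φ_i. Then r_{L,ψ} is everywhere
defined if and only if some r_{L,ψ_i} is everywhere defined, and in that case r_{L,ψ_j} is
everywhere defined for all j ≥ i. -/
theorem result {Y X P PL : Scheme.{u}} (q : X ⟶ Y)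
    (L : X.Modules) (hL : PicF.IsInvertible L) (hLq : Coh.IsQCoh L)
    (𝒮 : RelProj.QCGrAlg Y) (𝒮L : RelProj.QCGrAlg X) (j : L ⟶ 𝒮L.toModule) (hj : RelProj.IsGrSymAlg L 𝒮L j)
    (u : RelProj.QGrHom q 𝒮 𝒮L)
    (p : P ⟶ Y) (chart : ∀ (U : Y.Opens) (hU : IsAffineOpen U), (((p ⁻¹ᵁ U : P.Opens) : Scheme.{u}) ≅ Proj (𝒮.deg U hU)))
    (hP : RelProj.IsRelProj 𝒮 p chart)
    (pL : PL ⟶ X) (chartL : ∀ (U : X.Opens) (hU : IsAffineOpen U), (((pL ⁻¹ᵁ U : PL.Opens) : Scheme.{u}) ≅ Proj (𝒮L.deg U hU)))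
    (hPL : RelProj.IsRelProj 𝒮L pL chartL)
    [CompactSpace Y] [QuasiCompact q]
    (Λ : Type u) [Preorder Λ] [IsDirected Λ (· ≤ ·)] [Nonempty Λ]
    (𝒮i : Λ → RelProj.QCGrAlg Y) (φ : ∀ i, (𝒮i i).toQCAlg ⟶ 𝒮.toQCAlg) (hφ : ∀ i, RelProj.IsGradedHom (φ i))
    (t : ∀ i j, i ≤ j → ((𝒮i i).toQCAlg ⟶ (𝒮i j).toQCAlg)) (ht : ∀ i j (h : i ≤ j), RelProj.IsGradedHom (t i j h))
    (hφt : ∀ i j (h : i ≤ j), t i j h ≫ φ j = φ i)
    (hsurj : ∀ (U : Y.Opens), IsAffineOpen U → ∀ x : 𝒮.presheaf.obj (op U),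
      ∃ (i : Λ) (y : (𝒮i i).presheaf.obj (op U)), ((φ i).hom.app (op U)).hom y = x)
    (hker : ∀ (U : Y.Opens), IsAffineOpen U → ∀ (i : Λ) (y : (𝒮i i).presheaf.obj (op U)),
      ((φ i).hom.app (op U)).hom y = 0 → ∃ (j : Λ) (h : i ≤ j), ((t i j h).hom.app (op U)).hom y = 0)
    (ui : ∀ i, RelProj.QGrHom q (𝒮i i) 𝒮L) (hui : ∀ i (U : Y.Opens), (ui i).app U = (φ i).hom.app (op U) ≫ u.app U) :
    (RelProj.domQ u pL chartL = ⊤ ↔ ∃ i, RelProj.domQ (ui i) pL chartL = ⊤) ∧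
      ∀ i, RelProj.domQ (ui i) pL chartL = ⊤ → ∀ j, i ≤ j → RelProj.domQ (ui j) pL chartL = ⊤ := by
  open Groth.Agent.Lib.ProjQ in
  have hmono : ∀ i k (h : i ≤ k), RelProj.domQ (ui i) pL chartL ≤ RelProj.domQ (ui k) pL chartL := by
    intro i k h x hx
    obtain ⟨⟨U, hU, U', hU', hle, d, hd, f, hf⟩, hi⟩ := mem_domQ.1 hx
    refine mem_domQ.2 ⟨⟨U, hU, U', hU', hle, d, hd, RelProj.gradedHomAt (t i k h) (ht i k h) U hU f,
      (RelProj.gradedHomAt (t i k h) (ht i k h) U hU).map_mem hf⟩, ?_⟩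
    rw [Idx.opensRange_e] at hi ⊢
    have e : ((ui i).gradedAt U hU U' hU' hle) f =
        ((ui k).gradedAt U hU U' hU' hle) (RelProj.gradedHomAt (t i k h) (ht i k h) U hU f) := by
      change ((ui i).appLE U U' hle).hom f = ((ui k).appLE U U' hle).hom (((t i k h).hom.app (op U)).hom f)
      rw [RelSpec.QHom.appLE_eq, RelSpec.QHom.appLE_eq, hui i U, hui k U, ← hφt i k h]
      rfl
    exact e ▸ hi
  have hle_u : ∀ i, RelProj.domQ (ui i) pL chartL ≤ RelProj.domQ u pL chartL := fun i =>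
    Groth.Agent.S12147.result q L hL hLq 𝒮 𝒮L j hj u p chart hP pL chartL hPL (𝒮i i) (φ i) (hφ i) (ui i) (hui i)
  refine ⟨⟨fun htop => ?_, fun ⟨i, hi⟩ => top_le_iff.1 (hi.symm.trans_le (hle_u i))⟩,
    fun i hi k h => top_le_iff.1 (hi.symm.trans_le (hmono i k h))⟩
  haveI := isIso_proj hL hLq hj hPL
  haveI : CompactSpace PL := compactSpace_of_iso pL q
  choose a ha using fun x : PL => mem_domQ.1 (htop.ge (Set.mem_univ x))
  obtain ⟨K, hK⟩ := isCompact_univ.elim_finite_subcover (fun x : PL => ((a x).e pL chartL u).opensRange.carrier)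
    (fun x => ((a x).e pL chartL u).opensRange.2) (fun x _ => Set.mem_iUnion.2 ⟨x, ha x⟩)
  choose i₀ hi₀ using fun x : PL => exists_stage hφ t ht hφt hsurj (a x).hU (a x).hf
  classical
  obtain ⟨M, hM⟩ := Finset.exists_le (K.image i₀)
  refine ⟨M, top_le_iff.1 fun z _ => ?_⟩
  obtain ⟨x, hxK, hz⟩ := Set.mem_iUnion₂.1 (hK (Set.mem_univ z))
  obtain ⟨y, hy, hyf⟩ := hi₀ x M (hM _ (Finset.mem_image_of_mem i₀ hxK))
  refine mem_domQ.2 ⟨⟨(a x).U, (a x).hU, (a x).U', (a x).hU', (a x).hle, (a x).d, (a x).hd, y, hy⟩, ?_⟩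
  have hz' := ((a x).opensRange_e (u := u) pL chartL).le hz
  rw [Idx.opensRange_e]
  have e : ((ui M).gradedAt (a x).U (a x).hU (a x).U' (a x).hU' (a x).hle) y =
      (u.gradedAt (a x).U (a x).hU (a x).U' (a x).hU' (a x).hle) (a x).f := by
    change ((ui M).appLE _ _ (a x).hle).hom y = (u.appLE _ _ (a x).hle).hom (a x).f
    rw [← hyf, RelSpec.QHom.appLE_eq, RelSpec.QHom.appLE_eq, hui M]
    rfl
  exact e.symm ▸ hz'

end Groth.Agent.S12159
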