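import Groth.Statements.S12161
import Groth.Agent.Lib.ProjQ.Stage

set_option autoImplicit false
universe u
open CategoryTheory CategoryTheory.Limits AlgebraicGeometry TopologicalSpace Opposite
open scoped HomogeneousIdeal
noncomputable section
open EGA2

namespace Groth.Agent.S12161

/-- Let Y be a quasi-compact scheme, q : X → Y a quasi-compact morphism, L an invertible O_X-module with
𝒮L = ⊕ L^{⊗n} (whose Proj is X), 𝒮 = colim 𝒮^i a filtered colimit of quasi-coherent positively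
graded O_Y-algebras along graded homomorphisms φ_i : 𝒮^i → 𝒮 (colimit taken on sections over affine
opens), ψ♭ = u : 𝒮 → q_*𝒮L a graded q-morphism and ψ_i♭ = u ∘ φ_i, with q of finite type; let r =
r_{L,ψ} : G(ψ) → Proj(𝒮) and r_i = r_{L,ψ_i} : G(ψ_i) → Proj(𝒮^i). Then r is everywhere defined and
an immersion if and only if some r_i is, and then so is r_j for all j ≥ i. -/
theorem result {Y X P PL : Scheme.{u}} (q : X ⟶ Y)
    (L : X.Modules) (hL : PicF.IsInvertible L) (hLq : Coh.IsQCoh L)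
    (𝒮 : RelProj.QCGrAlg Y) (𝒮L : RelProj.QCGrAlg X) (j : L ⟶ 𝒮L.toModule) (hj : RelProj.IsGrSymAlg L 𝒮L j)
    (u : RelProj.QGrHom q 𝒮 𝒮L)
    (p : P ⟶ Y) (chart : ∀ (U : Y.Opens) (hU : IsAffineOpen U), (((p ⁻¹ᵁ U : P.Opens) : Scheme.{u}) ≅ Proj (𝒮.deg U hU)))
    (hP : RelProj.IsRelProj 𝒮 p chart)
    (pL : PL ⟶ X) (chartL : ∀ (U : X.Opens) (hU : IsAffineOpen U), (((pL ⁻¹ᵁ U : PL.Opens) : Scheme.{u}) ≅ Proj (𝒮L.deg U hU)))
    (hPL : RelProj.IsRelProj 𝒮L pL chartL)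
    [CompactSpace Y] [QuasiCompact q] [LocallyOfFiniteType q]
    (r : ((RelProj.domQ u pL chartL : PL.Opens) : Scheme.{u}) ⟶ P)
    (hr : RelProj.IsProjQMapOn u p chart pL chartL (RelProj.domQ u pL chartL) r)
    (Λ : Type u) [Preorder Λ] [IsDirected Λ (· ≤ ·)] [Nonempty Λ]
    (𝒮i : Λ → RelProj.QCGrAlg Y) (φ : ∀ i, (𝒮i i).toQCAlg ⟶ 𝒮.toQCAlg) (hφ : ∀ i, RelProj.IsGradedHom (φ i))
    (t : ∀ i j, i ≤ j → ((𝒮i i).toQCAlg ⟶ (𝒮i j).toQCAlg)) (ht : ∀ i j (h : i ≤ j), RelProj.IsGradedHom (t i j h))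
    (hφt : ∀ i j (h : i ≤ j), t i j h ≫ φ j = φ i)
    (hsurj : ∀ (U : Y.Opens), IsAffineOpen U → ∀ x : 𝒮.presheaf.obj (op U),
      ∃ (i : Λ) (y : (𝒮i i).presheaf.obj (op U)), ((φ i).hom.app (op U)).hom y = x)
    (hker : ∀ (U : Y.Opens), IsAffineOpen U → ∀ (i : Λ) (y : (𝒮i i).presheaf.obj (op U)),
      ((φ i).hom.app (op U)).hom y = 0 → ∃ (j : Λ) (h : i ≤ j), ((t i j h).hom.app (op U)).hom y = 0)
    (ui : ∀ i, RelProj.QGrHom q (𝒮i i) 𝒮L) (hui : ∀ i (U : Y.Opens), (ui i).app U = (φ i).hom.app (op U) ≫ u.app U)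
    (Pi : Λ → Scheme.{u}) (pi : ∀ i, Pi i ⟶ Y)
    (charti : ∀ i (U : Y.Opens) (hU : IsAffineOpen U), ((((pi i) ⁻¹ᵁ U : (Pi i).Opens) : Scheme.{u}) ≅ Proj ((𝒮i i).deg U hU)))
    (hPi : ∀ i, RelProj.IsRelProj (𝒮i i) (pi i) (charti i))
    (ri : ∀ i, ((RelProj.domQ (ui i) pL chartL : PL.Opens) : Scheme.{u}) ⟶ Pi i)
    (hri : ∀ i, RelProj.IsProjQMapOn (ui i) (pi i) (charti i) pL chartL (RelProj.domQ (ui i) pL chartL) (ri i)) :
    ((RelProj.domQ u pL chartL = ⊤ ∧ IsImmersion r) ↔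
        ∃ i, RelProj.domQ (ui i) pL chartL = ⊤ ∧ IsImmersion (ri i)) ∧
      ∀ i, (RelProj.domQ (ui i) pL chartL = ⊤ ∧ IsImmersion (ri i)) →
        ∀ j, i ≤ j → RelProj.domQ (ui j) pL chartL = ⊤ ∧ IsImmersion (ri j) := by
  open Groth.Agent.Lib.ProjQ in
  have hmono : ∀ i, (RelProj.domQ (ui i) pL chartL = ⊤ ∧ IsImmersion (ri i)) →
      ∀ k, i ≤ k → RelProj.domQ (ui k) pL chartL = ⊤ ∧ IsImmersion (ri k) := by
    rintro i ⟨hi, him⟩ k hik
    refine Groth.Agent.S12153.result q L hL hLq (𝒮i k) 𝒮L j hj (ui k) (pi k) (charti k) (hPi k) pL chartL hPL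
      (ri k) (hri k) (𝒮i i) (t i k hik) (ht i k hik) (ui i) (fun U => ?_) (pi i) (charti i) (hPi i) (ri i) (hri i)
      hi him
    rw [hui i U, hui k U, ← hφt i k hik]
    rfl
  refine ⟨⟨fun ⟨htop, himm⟩ => ?_, fun ⟨i, hi, him⟩ =>
    Groth.Agent.S12153.result q L hL hLq 𝒮 𝒮L j hj u p chart hP pL chartL hPL r hr (𝒮i i) (φ i) (hφ i) (ui i)
      (hui i) (pi i) (charti i) (hPi i) (ri i) (hri i) hi him⟩, hmono⟩
  haveI := isIso_proj hL hLq hj hPL
  haveI : CompactSpace PL := compactSpace_of_iso pL q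
  choose U hU d f hd hf hmem hle using fun x : PL =>
    exists_std_le' (p := p) (chart := chart) (O := r.coborderRange) (y := r ⟨x, htop.ge (Set.mem_univ x)⟩)
      (subset_coborder ⟨_, rfl⟩)
  let O : PL → PL.Opens := fun x =>
    (RelProj.domQ u pL chartL).ι ''ᵁ (r ⁻¹ᵁ (std p chart (U x) (hU x) (hd x) (f x) (hf x)).opensRange)
  obtain ⟨K, hK⟩ := isCompact_univ.elim_finite_subcover (fun x : PL => (O x).carrier) (fun x => (O x).2)
    (fun x _ => Set.mem_iUnion.2 ⟨x, ⟨x, htop.ge (Set.mem_univ x)⟩, hmem x, rfl⟩)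
  choose i₀ hi₀ using fun x : PL => exists_stage_closed hφ t ht hφt hsurj hP hPL hr (hU x) (hd x) (hf x) (hle x)
  classical
  obtain ⟨M, hM⟩ := Finset.exists_le (K.image i₀)
  choose! y hy hyf hycl using fun x (hx : x ∈ K) => hi₀ x M (hM _ (Finset.mem_image_of_mem i₀ hx))
  obtain ⟨rv, hrv, -⟩ := existsUnique (u := RelProj.QGrHom.ofHom (φ M) (hφ M)) (hPi M) hP
  have hleM := Groth.Agent.S12147.result q L hL hLq 𝒮 𝒮L j hj u p chart hP pL chartL hPL (𝒮i M) (φ M) (hφ M)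
    (ui M) (hui M)
  obtain ⟨k, hk1, hk2⟩ := exists_comp (hui M) hleM hr (hri M) hrv
  have hw : ∀ x ∈ K, ∀ (U' : X.Opens) (hU' : IsAffineOpen U') (hl : U' ≤ q ⁻¹ᵁ U x),
      (ui M).gradedAt (U x) (hU x) U' hU' hl (y x) = u.gradedAt (U x) (hU x) U' hU' hl (f x) := by
    intro x hx U' hU' hl
    rw [gradedAt_comp (u := u) (hv := hφ M) (hui M) _ _ _ _ hl, ← hyf x hx]
    rfl
  have hcov : ∀ z : PL, ∃ x ∈ K, z ∈ O x := fun z => by
    obtain ⟨x, hx, hz⟩ := Set.mem_iUnion₂.1 (hK (Set.mem_univ z))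
    exact ⟨x, hx, hz⟩
  have hmemO : ∀ z x, x ∈ K → z ∈ O x → ∃ (U' : X.Opens) (hU' : IsAffineOpen U') (hl : U' ≤ q ⁻¹ᵁ U x),
      z ∈ (RelProj.emb pL chartL U' hU') ''ᵁ
        Proj.basicOpen (𝒮L.deg U' hU') ((ui M).gradedAt (U x) (hU x) U' hU' hl (y x)) := by
    intro z x hx hz
    have h' : z ∈ (RelProj.domQ u pL chartL).ι ''ᵁ (r ⁻¹ᵁ (RelProj.emb p chart (U x) (hU x) ''ᵁ
        Proj.basicOpen (𝒮.deg (U x) (hU x)) (f x))) := by
      rw [← opensRange_std (U x) (hU x) (hd x) (f x) (hf x)]; exact hz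
    obtain ⟨U', hU', hl, h⟩ := (mem_image_preimage_iff hP hPL hr (U x) (hU x) (hd x) (f x) (hf x) z).1 h'
    exact ⟨U', hU', hl, (hw x hx U' hU' hl).symm ▸ h⟩
  have htopM : RelProj.domQ (ui M) pL chartL = ⊤ := top_le_iff.1 fun z _ => by
    obtain ⟨x, hx, hz⟩ := hcov z
    obtain ⟨U', hU', hl, h⟩ := hmemO z x hx hz
    exact mem_domQ.2 ⟨⟨U x, hU x, U', hU', hl, d x, hd x, y x, hy x hx⟩, (Idx.opensRange_e pL chartL _).ge h⟩
  haveI := isIso_homOfLE hleM htopM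
  let W : {x // x ∈ K} → (Pi M).Opens := fun a =>
    (std (pi M) (charti M) (U a.1) (hU a.1) (hd a.1) (y a.1) (hy a.1 a.2)).opensRange
  refine ⟨M, htopM, of_restrict_cover @IsImmersion (fun f _ => inferInstance) (ri M) W ?_ fun a => ?_⟩
  · refine top_le_iff.1 fun z _ => ?_
    obtain ⟨x, hx, hz⟩ := hcov z.1
    obtain ⟨U', hU', hl, h⟩ := hmemO z.1 x hx hz
    refine Opens.mem_iSup.2 ⟨⟨x, hx⟩, ?_⟩
    refine (opensRange_std (U x) (hU x) (hd x) (y x) (hy x hx)).ge ?_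
    have hzU : pL z.1 ∈ U' := by
      obtain ⟨v, -, hv⟩ := h
      rw [← hv]
      exact (opensRange_emb (p := pL) (chart := chartL) U' hU').le ⟨v, rfl⟩
    exact (mem_preimage_iff (hPi M) hPL (hri M) (U x) (hU x) U' hU' hl (hd x) (y x) (hy x hx) z hzU).2 h
  · obtain ⟨x, hx⟩ := a
    let w := (RelProj.QGrHom.ofHom (φ M) (hφ M)).gradedAt (U x) (hU x) (U x) (hU x) le_rfl
    let iv : Idx (g := 𝟙 Y) (𝒮 := 𝒮i M) := ⟨U x, hU x, U x, hU x, le_rfl, d x, hd x, y x, hy x hx⟩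
    let sf := std p chart (U x) (hU x) (hd x) (w (y x)) (w.map_mem (hy x hx))
    haveI : IsClosedImmersion (pullback.snd r sf ≫ Spec.map (CommRingCat.ofHom (HomogeneousLocalization.Away.map w (y x)))) := hycl x hx
    have hpb0 : IsPullback (pullback.fst r sf ≫ inv (PL.homOfLE hleM)) (pullback.snd r sf)
        (PL.homOfLE hleM ≫ r) sf :=
      (IsPullback.of_hasPullback r sf).of_iso (Iso.refl _) (asIso (PL.homOfLE hleM)).symm (Iso.refl _) (Iso.refl _)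
        (by simp) (by simp) (by simp) (by simp)
    have hpb1 : IsPullback (pullback.fst r sf ≫ inv (PL.homOfLE hleM)) (pullback.snd r sf) k
        (lift (u := RelProj.QGrHom.ofHom (φ M) (hφ M)) p chart iv) :=
      isPullback_of_comp_mono (RelProj.domQ (RelProj.QGrHom.ofHom (φ M) (hφ M)) p chart).ι hk1
        (lift_ι (u := RelProj.QGrHom.ofHom (φ M) (hφ M)) (p' := p) (chart' := chart) iv) hpb0
    have hpb2 := (hpb1.flip.paste_horiz (isPullback_std (hPi M) hP hrv iv rfl)).flip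
    rw [hk2] at hpb2
    have h1 : IsClosedImmersion (pullback.snd (ri M) (std (pi M) (charti M) (U x) (hU x) (hd x) (y x) (hy x hx))) := by
      rw [← hpb2.isoPullback_inv_snd]
      infer_instance
    haveI := ((MorphismProperty.arrow_mk_iso_iff @IsClosedImmersion) (morphismRestrictOpensRange (ri M)
      (std (pi M) (charti M) (U x) (hU x) (hd x) (y x) (hy x hx)))).2 h1
    infer_instance

end Groth.Agent.S12161
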