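import Groth.Statements.S12164
import Groth.Agent.Lib.SymAlg.Sections
import Groth.Agent.Lib.CechRes.PullSec

set_option autoImplicit false
universe u
open CategoryTheory CategoryTheory.Limits AlgebraicGeometry TopologicalSpace Opposite
open scoped HomogeneousIdeal
noncomputable section
open EGA2

namespace Groth.Agent.S12164

open Groth.Agent.Lib Groth.Agent.Lib.SymAlg Groth.Agent.Lib.CechRes Opposite in
/-- The symmetric algebra of the pulled back module is the base change on affine pairs. -/
theorem isQBaseChange {S S' : Scheme.{u}} {g : S' ⟶ S} {E : S.Modules} [E.IsQuasicoherent]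
    {A : RelSpec.QCAlg S} {j : E ⟶ A.toModule} (hA : RelSpec.IsSymAlg E A j)
    {B : RelSpec.QCAlg S'} {j' : (Scheme.Modules.pullback g).obj E ⟶ B.toModule}
    (hB : RelSpec.IsSymAlg ((Scheme.Modules.pullback g).obj E) B j') {u : RelSpec.QHom g A B}
    (hu : ∀ (U : S.Opens) (x : Γ(E, U)),
      (u.app U).hom ((j.app U) x) =
        (j'.app (g ⁻¹ᵁ U)) (((Scheme.Modules.pullbackPushforwardAdjunction g).unit.app E).app U x)) :
    RelSpec.IsQBaseChange u := by
  intro U hU V hV hle
  haveI : ((Scheme.Modules.pullback g).obj E).IsQuasicoherent := QCoh.Pullback.isQCoh_pullback g E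
  let R := Γ(S, U)
  let E' := (Scheme.Modules.pullback g).obj E
  letI : Algebra R Γ(S', V) := (g.appLE U V hle).hom.toAlgebra
  letI : Module R Γ(E', V) := Module.compHom _ (g.appLE U V hle).hom
  haveI : IsScalarTower R Γ(S', V) Γ(E', V) := IsScalarTower.of_algebraMap_smul fun _ _ => rfl
  have hbc := PullSec.isBaseChange_mu g E hU hV hle
  have hju : ∀ x : Γ(E, U), u.appLE U V hle (j.app U x) = j'.app V (PullSec.mu g E hle x) := fun x => by
    have h1 : u.appLE U V hle (j.app U x) =
        B.presheaf.map (homOfLE hle).op ((u.app U).hom (j.app U x)) := rfl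
    rw [h1, hu]
    exact (congr($(j'.mapPresheaf.naturality (homOfLE hle).op) _)).symm
  let eB := RingEquiv.ofBijective (Sections.cmp B j' V) (Sections.cmp_bijective hB hV)
  have w : g.appLE U V hle ≫ B.str.app (op V) = A.str.app (op U) ≫ u.appLE U V hle :=
    (u.str_appLE U V hle).symm
  have hdesc : ∀ s : PushoutCocone (g.appLE U V hle) (A.str.app (op U)),
      ∃ D : SymmetricAlgebra Γ(S', V) Γ(E', V) →+* s.pt,
        (∀ r, D (algebraMap Γ(S', V) _ r) = s.inl r) ∧
        ∀ m : Γ(E, U), D (SymmetricAlgebra.ι Γ(S', V) Γ(E', V) (PullSec.mu g E hle m)) = s.inr (j.app U m) := by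
    intro s
    letI : Algebra Γ(S', V) s.pt := s.inl.hom.toAlgebra
    letI : Algebra R s.pt := (g.appLE U V hle ≫ s.inl).hom.toAlgebra
    haveI : IsScalarTower R Γ(S', V) s.pt := IsScalarTower.of_algebraMap_eq fun _ => rfl
    let l : Γ(E, U) →ₗ[R] s.pt :=
      { toFun := fun m => s.inr (j.app U m)
        map_add' := fun a b => by rw [map_add]; exact map_add s.inr.hom _ _
        map_smul' := fun r m => by
          rw [Scheme.Modules.Hom.app_smul, RingHom.id_apply, Algebra.smul_def]
          refine (map_mul s.inr.hom _ _).trans (congrArg (· * _) ?_)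
          exact congr($(s.condition) r).symm }
    exact ⟨(SymmetricAlgebra.lift (hbc.lift l)).toRingHom, fun r => AlgHom.commutes _ r,
      fun m => (SymmetricAlgebra.lift_ι_apply _ _).trans (hbc.lift_eq l m)⟩
  choose D hD₁ hD₂ using hdesc
  refine ⟨⟨w⟩, ⟨PushoutCocone.IsColimit.mk w (fun s => CommRingCat.ofHom ((D s).comp eB.symm.toRingHom))
    (fun s => ?_) (fun s => ?_) (fun s k hk₁ hk₂ => ?_)⟩⟩
  · refine CommRingCat.hom_ext (RingHom.ext fun r => ?_)
    show D s (eB.symm (B.str.app (op V) r)) = s.inl r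
    rw [show B.str.app (op V) r = eB (algebraMap _ _ r) from (Sections.cmp_algebraMap B j' V r).symm,
      RingEquiv.symm_apply_apply, hD₁]
  · refine CommRingCat.hom_ext (RingHom.ext fun y => ?_)
    obtain ⟨y, rfl⟩ := (Sections.cmp_bijective hA hU).2 y
    have key : (D s).comp (eB.symm.toRingHom.comp ((u.appLE U V hle).hom.comp (Sections.cmp A j U))) =
        s.inr.hom.comp (Sections.cmp A j U) := by
      refine Loc.ringHom_ext (fun r => ?_) fun m => ?_
      · show D s (eB.symm (u.appLE U V hle (Sections.cmp A j U _))) = s.inr (Sections.cmp A j U _)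
        rw [Sections.cmp_algebraMap]
        erw [congr($w r).symm]
        show D s (eB.symm (B.str.app (op V) (g.appLE U V hle r))) = _
        rw [show B.str.app (op V) (g.appLE U V hle r) = eB (algebraMap _ _ (g.appLE U V hle r)) from
          (Sections.cmp_algebraMap B j' V _).symm, RingEquiv.symm_apply_apply, hD₁]
        exact congr($(s.condition) r)
      · show D s (eB.symm (u.appLE U V hle (Sections.cmp A j U _))) = s.inr (Sections.cmp A j U _)
        rw [Sections.cmp_ι, hju]
        rw [show j'.app V (PullSec.mu g E hle m) = eB (SymmetricAlgebra.ι _ _ (PullSec.mu g E hle m)) from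
          (Sections.cmp_ι B j' V _).symm, RingEquiv.symm_apply_apply, hD₂]
    exact RingHom.congr_fun key y
  · refine CommRingCat.hom_ext (RingHom.ext fun y => ?_)
    obtain ⟨y, rfl⟩ := eB.surjective y
    show k (eB y) = D s (eB.symm (eB y))
    rw [RingEquiv.symm_apply_apply]
    refine RingHom.congr_fun (Loc.ringHom_ext (g := k.hom.comp eB.toRingHom) (h := D s) (fun r => ?_) fun m => ?_) y
    · show k (eB _) = _
      rw [hD₁, ← hk₁, show eB (algebraMap _ _ r) = B.str.app (op V) r from Sections.cmp_algebraMap B j' V r]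
      rfl
    · show k.hom.comp eB.toRingHom (SymmetricAlgebra.ι _ _ m) = _
      have hr : ∀ r, k.hom.comp eB.toRingHom (algebraMap Γ(S', V) _ r) = D s (algebraMap Γ(S', V) _ r) := fun r => by
        rw [hD₁, ← hk₁]
        exact congrArg k (Sections.cmp_algebraMap B j' V r)
      induction m using hbc.inductionOn with
      | zero => simp only [map_zero]
      | tmul x =>
        refine Eq.trans ?_ (hD₂ s x).symm
        refine Eq.trans (congrArg k (Sections.cmp_ι B j' V _)) ?_
        refine Eq.trans (congrArg k (hju x).symm) ?_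
        exact congr($hk₂ (j.app U x))
      | smul a x hx =>
        simp only [map_smul, Algebra.smul_def, map_mul, hr, hx]
        rfl
      | add x x' hx hx' => simp only [map_add, hx, hx']

/-- Let g : S' → S be a morphism, E a quasi-coherent O_S-module, A = Sym(E) and B = Sym(g^*E) the
symmetric algebras (given by their universal properties among quasi-coherent algebras, with
structure maps j : E → A and j' : g^*E → B), u : A → g_*B the g-morphism of algebras extending the
adjunction unit E → g_*g^*E followed by g_*(j'), and h = Spec(u) : V(g^*E) = Spec(B) → V(E) =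
Spec(A). Then h identifies V(g^*E) with the base change V(E) ×_S S'. -/
theorem result {S S' : Scheme.{u}} (g : S' ⟶ S)
    (E : S.Modules) (hE : Coh.IsQCoh E) (A : RelSpec.QCAlg S) (j : E ⟶ A.toModule) (hA : RelSpec.IsSymAlg E A j)
    (B : RelSpec.QCAlg S') (j' : (Scheme.Modules.pullback g).obj E ⟶ B.toModule)
    (hB : RelSpec.IsSymAlg ((Scheme.Modules.pullback g).obj E) B j')
    (u : RelSpec.QHom g A B)
    (hu : ∀ (U : S.Opens) (x : Γ(E, U)),
      (u.app U).hom ((j.app U) x) =
        (j'.app (g ⁻¹ᵁ U)) (((Scheme.Modules.pullbackPushforwardAdjunction g).unit.app E).app U x))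
    (h : B.spec ⟶ A.spec) (hh : RelSpec.IsSpecQMap u h) :
    IsPullback h B.π A.π g := by
  open Groth.Agent.Lib Groth.Agent.Lib.SymAlg in
  haveI : E.IsQuasicoherent := hE
  have hq := isQBaseChange hA hB hu
  let P := {p : S.affineOpens × S'.affineOpens // p.2.1 ≤ g ⁻¹ᵁ p.1.1}
  have hcov : ∀ y : S', ∃ p : P, y ∈ p.1.2.1 := fun y => by
    obtain ⟨U, hU⟩ := TopologicalSpace.Opens.mem_iSup.1 ((iSup_affineOpens_eq_top S).ge
      (show g y ∈ (⊤ : S.Opens) from trivial))
    obtain ⟨V, hV, hyV, hVU⟩ := exists_isAffineOpen_mem_and_subset (X := S') (x := y) (U := g ⁻¹ᵁ U.1) hU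
    exact ⟨⟨(U, ⟨V, hV⟩), hVU⟩, hyV⟩
  have w : h ≫ A.π = B.π ≫ g := by
    refine (Groth.Agent.Lib.SymAlg.Sections.chartCover B (fun p : P => p.1.2.1) (fun p => p.1.2.2)
      (top_le_iff.1 fun y _ => TopologicalSpace.Opens.mem_iSup.2 (hcov y))).hom_ext _ _ fun p => ?_
    have hfac : (B.ι p.1.2.1 p.1.2.2).opensRange.ι =
        (B.ι p.1.2.1 p.1.2.2).isoOpensRange.inv ≫ B.ι p.1.2.1 p.1.2.2 := by simp
    show (B.ι p.1.2.1 p.1.2.2).opensRange.ι ≫ h ≫ A.π = (B.ι p.1.2.1 p.1.2.2).opensRange.ι ≫ B.π ≫ g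
    rw [hfac, Category.assoc, Category.assoc, reassoc_of% (hh p.1.1.1 p.1.1.2 p.1.2.1 p.1.2.2 p.2), A.ι_π,
      reassoc_of% (B.ι_π p.1.2.1 p.1.2.2), ← IsAffineOpen.SpecMap_appLE_fromSpec g p.1.1.2 p.1.2.2 p.2,
      ← Spec.map_comp_assoc, ← Spec.map_comp_assoc, u.str_appLE]
  suffices IsIso (pullback.lift _ _ w) from IsPullback.of_iso_pullback ⟨w⟩ (asIso (pullback.lift _ _ w))
    (pullback.lift_fst _ _ _) (pullback.lift_snd _ _ _)
  let q : ∀ p : P, pullback (Spec.map (A.str.app (Opposite.op p.1.1.1))) (Spec.map (g.appLE p.1.1.1 p.1.2.1 p.2)) ⟶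
      pullback A.π g := fun p =>
    pullback.map _ _ _ _ (A.ι p.1.1.1 p.1.1.2) p.1.2.2.fromSpec p.1.1.2.fromSpec (A.ι_π p.1.1.1 p.1.1.2).symm
      (IsAffineOpen.SpecMap_appLE_fromSpec g p.1.1.2 p.1.2.2 p.2)
  haveI : ∀ p, IsOpenImmersion (q p) := fun p => inferInstance
  have hr : ∀ p, Set.range (q p) = pullback.snd A.π g ⁻¹' p.1.2.1 := fun p => by
    simp only [q]
    rw [Scheme.Pullback.range_map, ← Scheme.Hom.coe_opensRange, ← A.π_preimage p.1.1.1 p.1.1.2,
      IsAffineOpen.range_fromSpec]
    refine Set.inter_eq_right.2 fun z hz => ?_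
    show A.π (pullback.fst A.π g z) ∈ p.1.1.1
    rw [← Scheme.Hom.comp_apply, pullback.condition, Scheme.Hom.comp_apply]
    exact p.2 hz
  refine Groth.Agent.Lib.SymAlg.Sections.isIso_of_squares (pullback.lift _ _ w) q (fun z => ?_)
    (fun p : P => B.ι p.1.2.1 p.1.2.2)
    (fun p => (isPullback_SpecMap_of_isPushout _ _ _ _ (hq _ p.1.1.2 _ p.1.2.2 p.2).flip).isoPullback.hom)
    (fun p => ?_)
  · obtain ⟨p, hp⟩ := hcov (pullback.snd A.π g z)
    exact ⟨p, (hr p).ge hp⟩
  · refine (IsOpenImmersion.isPullback _ (B.ι p.1.2.1 p.1.2.2) (q p) _ ?_ ?_).flip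
    · refine pullback.hom_ext ?_ ?_
      · simp only [q, pullback.map, Category.assoc, pullback.lift_fst]
        rw [hh p.1.1.1 p.1.1.2 p.1.2.1 p.1.2.2 p.2]
        exact ((IsPullback.isoPullback_hom_fst_assoc _ _).symm)
      · simp only [q, pullback.map, Category.assoc, pullback.lift_snd]
        rw [B.ι_π]
        exact ((IsPullback.isoPullback_hom_snd_assoc _ _).symm)
    · apply TopologicalSpace.Opens.ext
      show (pullback.lift _ _ w).base ⁻¹' (Set.range (q p)) = ((B.ι p.1.2.1 p.1.2.2).opensRange : Set B.spec)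
      rw [← B.π_preimage p.1.2.1 p.1.2.2, hr]
      ext x
      show pullback.snd A.π g (pullback.lift _ _ w x) ∈ p.1.2.1 ↔ B.π x ∈ p.1.2.1
      rw [← Scheme.Hom.comp_apply, pullback.lift_snd]

end Groth.Agent.S12164
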