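import Groth.Statements.S12187
import Groth.Agent.H48.GlueFlat
import Mathlib.RingTheory.TensorProduct.Basic
import Mathlib.RingTheory.TensorProduct.Finite

set_option autoImplicit false
set_option linter.style.haveILetI false
universe u
open TensorProduct
open EtAlg

namespace Groth.Agent.S12187

/-- Glueing along a glueing pair detects finite morphisms of affine schemes, stated for coordinate
rings. Let (R → R', f) be a glueing pair and φ : A → B a homomorphism of R-algebras with A and B
glueable as R-modules. Then φ is finite exactly when both induced maps A_f → B_f and R' ⊗_R A → R'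
⊗_R B are finite. -/
theorem result (R : Type u) [CommRing R] (R' : Type u) [CommRing R'] [Algebra R R'] (f : R)
    (hRR' : EtGlue.IsGlueingPair R R' f) (A B : Type u) [CommRing A] [Algebra R A] [CommRing B] [Algebra R B]
    (hA : EtGlue.IsGlueable R R' f A) (hB : EtGlue.IsGlueable R R' f B) (φ : A →ₐ[R] B) :
    φ.toRingHom.Finite ↔ (Localization.awayMap φ.toRingHom (algebraMap R A f)).Finite ∧
      (Algebra.TensorProduct.map (AlgHom.id R R') φ).toRingHom.Finite := by
  algebraize [φ.toRingHom]
  haveI : IsScalarTower R A B := IsScalarTower.of_algebraMap_eq fun r => (φ.commutes r).symm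
  let fA := algebraMap R A f
  let A' := R' ⊗[R] A
  letI : Algebra A A' := Algebra.TensorProduct.rightAlgebra
  have hq := hRR'.1
  have hfA : ∀ (n : ℕ), algebraMap A A' fA ^ n = (1 : R') ⊗ₜ[R] (fA ^ n) := fun n => by
    rw [← map_pow]; rfl
  have hqA : EtGlue.QuotPowBijective A A' fA := by
    intro n hn
    have hspan : Ideal.map (algebraMap A A') (Ideal.span {fA ^ n}) = Ideal.span {algebraMap A A' fA ^ n} := by
      rw [Ideal.map_span, Set.image_singleton, map_pow]
    have hsm : ∀ w : A', algebraMap A A' fA ^ n * w = f ^ n • w := fun w => by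
      rw [hfA, Algebra.smul_def]
      congr 1
      rw [Algebra.TensorProduct.algebraMap_apply', ← map_pow]
    constructor
    · refine (injective_iff_map_eq_zero _).2 fun x hx => ?_
      obtain ⟨a, rfl⟩ := Ideal.Quotient.mk_surjective x
      rw [Ideal.quotientMap_mk, Ideal.Quotient.eq_zero_iff_mem, hspan,
        Ideal.mem_span_singleton'] at hx
      obtain ⟨w, hw⟩ := hx
      rw [mul_comm, hsm] at hw
      obtain ⟨a', ha'⟩ := H48.Glue.exists_eq_smul_of_tmul hq hw.symm
      rw [Ideal.Quotient.eq_zero_iff_mem, Ideal.mem_span_singleton']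
      exact ⟨a', by rw [ha', Algebra.smul_def, map_pow, mul_comm]⟩
    · intro x
      obtain ⟨t, rfl⟩ := Ideal.Quotient.mk_surjective x
      obtain ⟨a, w, rfl⟩ := H48.Glue.exists_decomp hq n t
      refine ⟨Ideal.Quotient.mk _ a, ?_⟩
      rw [Ideal.quotientMap_mk, map_add, ← hsm]
      rw [(Ideal.Quotient.eq_zero_iff_mem).2 (show algebraMap A A' fA ^ n * w ∈
        Ideal.map (algebraMap A A') (Ideal.span {fA ^ n}) by
          rw [hspan]; exact Ideal.mul_mem_right _ _ (Ideal.mem_span_singleton_self _)), add_zero]
      rfl
  let Φ := Algebra.TensorProduct.map (AlgHom.id R R') φ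
  letI : Algebra A' (R' ⊗[R] B) := Φ.toRingHom.toAlgebra
  constructor
  · intro h
    exact ⟨RingHom.finite_localizationPreserves.away φ.toRingHom fA (Localization.Away fA) (Localization.Away (φ.toRingHom fA)) h, by
      haveI : Module.Finite A B := h
      obtain ⟨s, hs⟩ := (inferInstance : Module.Finite A B).fg_top
      classical
      refine ⟨⟨s.image fun b => (1 : R') ⊗ₜ[R] b, ?_⟩⟩
      rw [eq_top_iff]
      intro z hzt
      clear hzt
      induction z with
      | zero => exact zero_mem _
      | add a b ha hb => exact add_mem ha hb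
      | tmul r b =>
        have hb : b ∈ Submodule.span A (s : Set B) := hs ▸ Submodule.mem_top
        induction hb using Submodule.span_induction with
        | mem y hy =>
          rw [show r ⊗ₜ[R] y = (r ⊗ₜ[R] (1 : A) : A') • ((1 : R') ⊗ₜ[R] y : R' ⊗[R] B) by
            show _ = Φ (r ⊗ₜ[R] (1 : A)) * _
            simp [Φ]]
          exact Submodule.smul_mem _ _ (Submodule.subset_span (by simpa using ⟨y, hy, rfl⟩))
        | zero => rw [tmul_zero]; exact zero_mem _
        | add y y' _ _ hy hy' => rw [tmul_add]; exact add_mem hy hy'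
        | smul a y _ hy =>
          rw [show r ⊗ₜ[R] (a • y) = ((1 : R') ⊗ₜ[R] a : A') • (r ⊗ₜ[R] y : R' ⊗[R] B) by
            show _ = Φ ((1 : R') ⊗ₜ[R] a) * _
            simp [Φ, Algebra.smul_def, RingHom.algebraMap_toAlgebra]]
          exact Submodule.smul_mem _ _ hy⟩
  · rintro ⟨h1, h2⟩
    haveI : Module.Finite A' (R' ⊗[R] B) := h2
    letI : Module A (R' ⊗[R] B) := Module.compHom _ (algebraMap A A')
    haveI : IsScalarTower A A' (R' ⊗[R] B) := IsScalarTower.of_compHom A A' _
    -- the map from `A' ⊗[A] B` is an isomorphism onto `R' ⊗[R] B`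
    let u : B →ₗ[A] R' ⊗[R] B :=
      { toFun := fun b => (1 : R') ⊗ₜ[R] b
        map_add' := fun x y => tmul_add _ _ _
        map_smul' := fun a x => by
          show _ = Φ ((1 : R') ⊗ₜ[R] a) * _
          simp [Φ, Algebra.smul_def, RingHom.algebraMap_toAlgebra] }
    let U : A' ⊗[A] B →ₗ[A'] R' ⊗[R] B := u.liftBaseChange A'
    letI : IsScalarTower R A A' := IsScalarTower.of_algebraMap_eq fun r => by
      rw [Algebra.TensorProduct.algebraMap_apply']
      rfl
    let V : R' ⊗[R] B →ₗ[R] A' ⊗[A] B := TensorProduct.lift (LinearMap.mk₂ R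
      (fun (r : R') (b : B) => (r ⊗ₜ[R] (1 : A) : A') ⊗ₜ[A] b)
      (fun r r' b => by rw [add_tmul, add_tmul])
      (fun c r b => by rw [← smul_tmul', ← smul_tmul'])
      (fun r b b' => tmul_add _ _ _)
      (fun c r b => by rw [tmul_smul]))
    have hUV : Function.Injective U := by
      refine Function.LeftInverse.injective (g := V) fun z => ?_
      induction z with
      | zero => simp
      | add a b ha hb => rw [map_add, map_add, ha, hb]
      | tmul t b =>
        induction t using TensorProduct.induction_on with
        | zero => simp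
        | add a c ha hc => rw [add_tmul, map_add, map_add, ha, hc]
        | tmul r a =>
          have : U ((r ⊗ₜ[R] a : A') ⊗ₜ[A] b) = r ⊗ₜ[R] (a • b) := by
            rw [LinearMap.liftBaseChange_tmul]
            show Φ (r ⊗ₜ[R] a) * _ = _
            simp [Φ, u, Algebra.smul_def, RingHom.algebraMap_toAlgebra]
          rw [this]
          show (r ⊗ₜ[R] (1 : A) : A') ⊗ₜ[A] (a • b) = _
          rw [tmul_smul, smul_tmul']
          congr 1
          rw [Algebra.smul_def]
          show ((1 : R') ⊗ₜ[R] a : A') * _ = _
          simp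
    have hUs : Function.Surjective U := by
      intro z
      induction z with
      | zero => exact ⟨0, map_zero _⟩
      | add a b ha hb =>
        obtain ⟨x, rfl⟩ := ha
        obtain ⟨y, rfl⟩ := hb
        exact ⟨x + y, map_add _ _ _⟩
      | tmul r b =>
        refine ⟨(r ⊗ₜ[R] (1 : A) : A') ⊗ₜ[A] b, ?_⟩
        rw [LinearMap.liftBaseChange_tmul]
        show Φ (r ⊗ₜ[R] (1 : A)) * _ = _
        simp [Φ, u]
    haveI : Module.Finite A' (A' ⊗[A] B) := Module.Finite.equiv (LinearEquiv.ofBijective U ⟨hUV, hUs⟩).symm
    letI : Algebra (Localization.Away fA) (Localization.Away (φ.toRingHom fA)) :=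
      (Localization.awayMap φ.toRingHom fA).toAlgebra
    haveI : IsScalarTower A (Localization.Away fA) (Localization.Away (φ.toRingHom fA)) :=
      IsScalarTower.of_algebraMap_eq fun a => by
        rw [RingHom.algebraMap_toAlgebra, Localization.awayMap, IsLocalization.Away.map,
          IsLocalization.map_eq]
        rfl
    haveI : Module.Finite (Localization.Away fA) (Localization.Away (φ.toRingHom fA)) := h1
    haveI hl : IsLocalizedModule (Submonoid.powers fA)
        (IsScalarTower.toAlgHom A B (Localization.Away (φ.toRingHom fA))).toLinearMap := by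
      rw [isLocalizedModule_iff_isLocalization, Algebra.algebraMapSubmonoid, Submonoid.map_powers]
      exact inferInstanceAs (IsLocalization.Away (φ.toRingHom fA) (Localization.Away (φ.toRingHom fA)))
    haveI : Module.Finite (Localization.Away fA) (LocalizedModule (Submonoid.powers fA) B) :=
      Module.Finite.equiv ((IsLocalizedModule.linearEquiv (Submonoid.powers fA)
        (IsScalarTower.toAlgHom A B (Localization.Away (φ.toRingHom fA))).toLinearMap
        (LocalizedModule.mkLinearMap (Submonoid.powers fA) B)).extendScalarsOfIsLocalization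
          (Submonoid.powers fA) (Localization.Away fA))
    exact H48.Glue.finite_of_glue (R := A) (R' := A') (M := B) hqA

end Groth.Agent.S12187
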