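import Groth.Statements.S12192
import Groth.Agent.Lib.AlgSpTopInv.Glue
-- import your own Groth.Agent.* helpers here

set_option autoImplicit false
universe u
open CategoryTheory CategoryTheory.Limits AlgebraicGeometry
open AlgSp

open Groth.Agent.Lib.AlgSpace Groth.Agent.Lib.AlgSpMor Groth.Agent.Lib.AlgSpTopInv

namespace Groth.Agent.S12192

/-- Let f : Y' → Y be a proper morphism between algebraic spaces over the scheme S, i : Z → Y a closed
immersion, E = Z ×_Y Y', and assume f is an isomorphism over the open complement of Z. Let V₁, V₂ be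
etale over Y, with base changes V₁', V₂' to Y' and W₁, W₂ to Z, and let P₁ be the base change of V₁
to E (through both V₁' and W₁). Then a morphism m' : V₁' → V₂' over Y' and a morphism n : W₁ → W₂
over Z inducing the same morphism P₁ → V₂ are the base changes of exactly one morphism V₁ → V₂ over
Y. (The published statement asserts that the functor sending a space etale over Y to its base
changes to Y' and to Z, glued along E, is an equivalence of categories onto such glueing data; this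
row states that it is fully faithful.) -/
theorem result {S : Scheme.{u}}
    {Y Y' Z E U U' V₁ V₂ V₁' V₂' W₁ W₂ P₁ : AlgSp.Space S} (f : Y' ⟶ Y)
    (hf : AlgSp.IsProperMor f.hom) (i : Z ⟶ Y) (hi : AlgSp.RepWith @IsClosedImmersion i.hom) (j : E ⟶ Y')
    (g : E ⟶ Z) (hE : IsPullback j.hom g.hom f.hom i.hom) (jU : U ⟶ Y)
    (hjU : AlgSp.RepWith @IsOpenImmersion jU.hom)
    (hU : Set.range (AlgSp.Points.map jU.hom) = (Set.range (AlgSp.Points.map i.hom))ᶜ) (fU : U' ⟶ U)
    (jU' : U' ⟶ Y') (hU' : IsPullback jU'.hom fU.hom f.hom jU.hom) [IsIso fU]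
    (v₁ : V₁ ⟶ Y) (v₂ : V₂ ⟶ Y) (hv₁ : AlgSp.IsEtaleMor v₁.hom) (hv₂ : AlgSp.IsEtaleMor v₂.hom)
    (a₁ : V₁' ⟶ V₁) (p₁ : V₁' ⟶ Y') (ha₁ : IsPullback a₁.hom p₁.hom v₁.hom f.hom)
    (a₂ : V₂' ⟶ V₂) (p₂ : V₂' ⟶ Y') (ha₂ : IsPullback a₂.hom p₂.hom v₂.hom f.hom)
    (b₁ : W₁ ⟶ V₁) (q₁ : W₁ ⟶ Z) (hb₁ : IsPullback b₁.hom q₁.hom v₁.hom i.hom)
    (b₂ : W₂ ⟶ V₂) (q₂ : W₂ ⟶ Z) (hb₂ : IsPullback b₂.hom q₂.hom v₂.hom i.hom)
    (r₁ : P₁ ⟶ V₁') (s₁ : P₁ ⟶ W₁) (e₁ : P₁ ⟶ E)
    (hr₁ : IsPullback r₁.hom e₁.hom p₁.hom j.hom) (hs₁ : IsPullback s₁.hom e₁.hom q₁.hom g.hom)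
    (hP₁ : r₁ ≫ a₁ = s₁ ≫ b₁)
    (m' : V₁' ⟶ V₂') (hm' : m' ≫ p₂ = p₁) (n : W₁ ⟶ W₂) (hn : n ≫ q₂ = q₁)
    (hmn : r₁ ≫ m' ≫ a₂ = s₁ ≫ n ≫ b₂) :
    ∃! m : V₁ ⟶ V₂, m ≫ v₂ = v₁ ∧ a₁ ≫ m = m' ≫ a₂ ∧ b₁ ≫ m = n ≫ b₂ := by
  have hY := Y.property
  have sqP := IsPullback.of_hasPullback v₂.hom v₁.hom
  have hP := isAlgSpace_of_isPullback sqP hY.diag V₂.property V₁.property
  let π' := pullback.snd v₂.hom v₁.hom
  have hπ' : AlgSp.IsEtaleMor π' := isEtaleMor_of_isPullback V₂.property hY V₁.property sqP hv₂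
  have sqY := IsPullback.of_hasPullback π' a₁.hom
  have sqZ := IsPullback.of_hasPullback π' b₁.hom
  let tY := sqP.lift (m'.hom ≫ a₂.hom) a₁.hom (by
    rw [Category.assoc, ha₂.w, ← Category.assoc, show m'.hom ≫ p₂.hom = p₁.hom from
      congrArg (fun z => z.hom) hm', ha₁.w])
  let tZ := sqP.lift (n.hom ≫ b₂.hom) b₁.hom (by
    rw [Category.assoc, hb₂.w, ← Category.assoc, show n.hom ≫ q₂.hom = q₁.hom from
      congrArg (fun z => z.hom) hn, hb₁.w])
  let sY := sqY.lift tY (𝟙 _) (by rw [Category.id_comp]; exact sqP.lift_snd _ _ _)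
  let sZ := sqZ.lift tZ (𝟙 _) (by rw [Category.id_comp]; exact sqP.lift_snd _ _ _)
  -- the common part
  have sqE : IsPullback r₁.hom s₁.hom a₁.hom b₁.hom := by
    have hP₁' : r₁.hom ≫ a₁.hom = s₁.hom ≫ b₁.hom := congrArg (fun z => z.hom) hP₁
    refine IsPullback.of_bot (h₂₁ := b₁.hom) ?_ hP₁' hb₁.flip.flip |>.flip.flip
    exact (hr₁.paste_vert hE).flip.flip.of_iso (Iso.refl _) (Iso.refl _) (Iso.refl _) (Iso.refl _)
      (by simp) (by simp [hs₁.w]) (by simp [ha₁.w]) (by simp)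
  haveI : Mono b₁.hom := by
    haveI : Mono i.hom := mono_of_repWith (P := @IsClosedImmersion)
      (fun _ _ g (_ : IsClosedImmersion g) => (inferInstance : Mono g)) hi
    exact ⟨fun a b e => hb₁.hom_ext e ((cancel_mono i.hom).1 (by
      simp only [Category.assoc, ← hb₁.w, reassoc_of% e]))⟩
  have hcY : AlgSp.IsUnivClosedMor a₁.hom := Proper.univSp_baseChange ha₁.flip hf.2.2
  have hcZ : AlgSp.IsUnivClosedMor b₁.hom :=
    Proper.univSp_baseChange hb₁.flip (Proper.isUnivClosedMor_of_repWith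
      (repWith_mono hi fun _ _ g (_ : IsClosedImmersion g) => (inferInstance : UniversallyClosed g)))
  have hUr : ∀ y : Points Y.obj, y ∉ Set.range (Points.map i.hom) →
      y ∈ Set.range (Points.map jU.hom) := fun y h => hU.ge h
  -- outside the closed part the modification is injective
  have huniq : ∀ p₁' p₂' : Points (pullback π' a₁.hom),
      Points.map (pullback.fst π' a₁.hom) p₁' = Points.map (pullback.fst π' a₁.hom) p₂' →
      Points.map (pullback.fst π' a₁.hom) p₁' ∉ Set.range (Points.map (pullback.fst π' b₁.hom)) →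
      p₁' = p₂' := by
    intro x x' e hx
    let β := π' ≫ v₁.hom
    have sqPU := IsPullback.of_hasPullback β jU.hom
    obtain ⟨u, hu⟩ := hUr (Points.map β (Points.map (pullback.fst π' a₁.hom) x)) fun ⟨z, hz⟩ => by
      have sqZY : IsPullback (pullback.fst π' b₁.hom) (pullback.snd π' b₁.hom ≫ q₁.hom) β i.hom :=
        (sqZ.flip.paste_horiz hb₁.flip |>.flip).of_iso (Iso.refl _) (Iso.refl _) (Iso.refl _)
          (Iso.refl _) (by simp) (by simp) (by simp [β]) (by simp)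
      obtain ⟨q, hq, -⟩ := exists_of_isPullback sqZY _ z hz.symm
      exact hx ⟨q, hq⟩
    obtain ⟨q, hq, -⟩ := exists_of_isPullback sqPU _ u hu.symm
    have sqT := IsPullback.of_hasPullback (pullback.fst π' a₁.hom) (pullback.fst β jU.hom)
    have sqYY : IsPullback (pullback.fst π' a₁.hom) (pullback.snd π' a₁.hom ≫ p₁.hom) β f.hom :=
      (sqY.flip.paste_horiz ha₁.flip |>.flip).of_iso (Iso.refl _) (Iso.refl _) (Iso.refl _)
        (Iso.refl _) (by simp) (by simp) (by simp [β]) (by simp)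
    haveI : IsIso (pullback.snd (pullback.fst π' a₁.hom) (pullback.fst β jU.hom)) := by
      have h1 := sqT.flip.paste_vert sqYY
      rw [sqPU.w] at h1
      let k := hU'.flip.lift (pullback.snd _ (pullback.fst β jU.hom) ≫ pullback.snd β jU.hom)
        (pullback.fst _ (pullback.fst β jU.hom) ≫ pullback.snd π' a₁.hom ≫ p₁.hom)
        (by rw [Category.assoc, ← h1.w])
      have h2 : IsPullback (pullback.snd _ (pullback.fst β jU.hom)) k (pullback.snd β jU.hom)
          fU.hom := IsPullback.of_bot (h₂₁ := fU.hom)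
        (by rw [show k ≫ jU'.hom = _ from hU'.flip.lift_snd _ _ _]; exact h1)
        (hU'.flip.lift_fst _ _ _).symm hU'.flip
      haveI : IsIso fU.hom := inferInstanceAs (IsIso ((ObjectProperty.ι _).map fU))
      exact h2.isIso_fst_of_isIso
    obtain ⟨y, rfl, hy⟩ := exists_of_isPullback sqT x q hq.symm
    obtain ⟨y', rfl, hy'⟩ := exists_of_isPullback sqT x' q (e.symm.trans hq.symm)
    refine congrArg _ (injective_map_of_mono
      (pullback.snd (pullback.fst π' a₁.hom) (pullback.fst β jU.hom)) (hy.trans hy'.symm))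
  have hjoint : ∀ v, v ∈ Set.range (Points.map a₁.hom) ∪ Set.range (Points.map b₁.hom) := fun v => by
    by_cases hv : Points.map v₁.hom v ∈ Set.range (Points.map i.hom)
    · obtain ⟨z, hz⟩ := hv
      obtain ⟨w, hw, -⟩ := exists_of_isPullback hb₁ v z hz.symm
      exact Or.inr ⟨w, hw⟩
    · obtain ⟨u, hu⟩ := hUr _ hv
      haveI : IsIso fU.hom := inferInstanceAs (IsIso ((ObjectProperty.ι _).map fU))
      obtain ⟨u', hu'⟩ : ∃ u', Points.map fU.hom u' = u :=
        ⟨Points.map (inv fU.hom) u, by rw [← Points.map_comp, IsIso.inv_hom_id, Points.map_id]⟩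
      obtain ⟨w, hw, -⟩ := exists_of_isPullback ha₁ v (Points.map jU'.hom u') (by
        rw [← hu, ← hu', ← Points.map_comp, ← Points.map_comp, hU'.w])
      exact Or.inl ⟨w, hw⟩
  obtain ⟨s', ⟨h₁, h₂, h₃⟩, hu⟩ := existsUnique_glue_section hP V₁.property V₁'.property W₁.property
    hπ' sqY sqZ hcY hcZ sqE huniq hjoint (sqY.lift_snd _ _ _) (sqZ.lift_snd _ _ _) (by
      show r₁.hom ≫ sY ≫ pullback.fst π' a₁.hom = s₁.hom ≫ sZ ≫ pullback.fst π' b₁.hom
      rw [show sY ≫ pullback.fst π' a₁.hom = tY from sqY.lift_fst _ _ _,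
        show sZ ≫ pullback.fst π' b₁.hom = tZ from sqZ.lift_fst _ _ _]
      refine sqP.hom_ext ?_ ?_
      · rw [Category.assoc, Category.assoc, show tY ≫ _ = _ from sqP.lift_fst _ _ _,
          show tZ ≫ _ = _ from sqP.lift_fst _ _ _]
        exact congrArg (fun z => z.hom) hmn
      · rw [Category.assoc, Category.assoc, show tY ≫ _ = _ from sqP.lift_snd _ _ _,
          show tZ ≫ _ = _ from sqP.lift_snd _ _ _]
        exact congrArg (fun z => z.hom) hP₁)
  rw [sqY.lift_fst] at h₂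
  rw [sqZ.lift_fst] at h₃
  refine ⟨ObjectProperty.homMk (s' ≫ pullback.fst v₂.hom v₁.hom), ⟨?_, ?_, ?_⟩, ?_⟩
  · refine ObjectProperty.hom_ext _ ?_
    show (s' ≫ pullback.fst v₂.hom v₁.hom) ≫ v₂.hom = v₁.hom
    rw [Category.assoc, sqP.w, ← Category.assoc, h₁, Category.id_comp]
  · refine ObjectProperty.hom_ext _ ?_
    show a₁.hom ≫ s' ≫ pullback.fst v₂.hom v₁.hom = m'.hom ≫ a₂.hom
    rw [← Category.assoc, h₂, sqP.lift_fst]
  · refine ObjectProperty.hom_ext _ ?_
    show b₁.hom ≫ s' ≫ pullback.fst v₂.hom v₁.hom = n.hom ≫ b₂.hom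
    rw [← Category.assoc, h₃, sqP.lift_fst]
  · rintro m ⟨e₁', e₂', e₃'⟩
    refine ObjectProperty.hom_ext _ ?_
    have e := hu (sqP.lift m.hom (𝟙 _) (by
      rw [Category.id_comp]; exact congrArg (fun z => z.hom) e₁')) ⟨sqP.lift_snd _ _ _, ?_, ?_⟩
    · show m.hom = s' ≫ pullback.fst v₂.hom v₁.hom
      rw [← e, sqP.lift_fst]
    · rw [sqY.lift_fst]
      refine sqP.hom_ext ?_ ?_
      · rw [Category.assoc, sqP.lift_fst, sqP.lift_fst]
        exact congrArg (fun z => z.hom) e₂'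
      · rw [Category.assoc, sqP.lift_snd, sqP.lift_snd, Category.comp_id]
    · rw [sqZ.lift_fst]
      refine sqP.hom_ext ?_ ?_
      · rw [Category.assoc, sqP.lift_fst, sqP.lift_fst]
        exact congrArg (fun z => z.hom) e₃'
      · rw [Category.assoc, sqP.lift_snd, sqP.lift_snd, Category.comp_id]

end Groth.Agent.S12192
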