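import Groth.Statements.S12193
import Groth.Agent.Lib.AlgSpMor.SchImage.Main
import Groth.Agent.S10192
import Groth.Agent.S10193
import Groth.Agent.Lib.AlgSpRed.Stalk
-- import your own Groth.Agent.* helpers here

set_option autoImplicit false
universe u
open CategoryTheory CategoryTheory.Limits AlgebraicGeometry
open AlgSp

open Groth.Agent.Lib.AlgSpace Groth.Agent.Lib.AlgSpMor Groth.Agent.Lib.AlgSpMor.SchImage

namespace Groth.Agent.S12193

/-- Let X be a reduced algebraic space over S, f : X → Y a morphism of algebraic spaces over S, and Z →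
Y the scheme theoretic image of f. Then forming the scheme theoretic image commutes with etale base
change: for every etale morphism V → Y of algebraic spaces and cartesian squares X ×_Y V, Z ×_Y V,
the closed subspace Z ×_Y V → V is the scheme theoretic image of X ×_Y V → V. -/
theorem result {S : Scheme.{u}} {X Y Z V XV ZV : AlgSp.Space S} (f : X ⟶ Y)
    (i : Z ⟶ Y) (hX : AlgSp.IsReducedSp X.obj) (hZ : AlgSp.IsSchImage f.hom i.hom) (b : V ⟶ Y)
    (hb : AlgSp.IsEtaleMor b.hom) (f₁ : XV ⟶ X) (fV : XV ⟶ V) (i₁ : ZV ⟶ Z) (iV : ZV ⟶ V)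
    (sqX : IsPullback f₁.hom fV.hom f.hom b.hom) (sqZ : IsPullback i₁.hom iV.hom i.hom b.hom) :
    AlgSp.IsSchImage fV.hom iV.hom := by
  obtain ⟨Z₀, i₀, hi₀⟩ := S10192.result Y _ (isClosed_closure (s := Set.range (AlgSp.Points.map f.hom)))
  obtain ⟨f₀, hf₀⟩ := (S10193.result i₀ hi₀.1 hX f).2 (subset_closure.trans_eq hi₀.2.1.symm)
  obtain ⟨k₀, hk₀⟩ := hZ.2.2 i₀.hom Z₀.property hi₀.1 ⟨f₀.hom, congrArg (·.hom) hf₀⟩
  obtain ⟨k, hk⟩ := (S10193.result i hZ.1 hi₀.2.2 i₀).2 (by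
    rw [hi₀.2.1]
    refine closure_minimal ?_ ?_
    · obtain ⟨f', hf'⟩ := hZ.2.1
      rintro _ ⟨x, rfl⟩
      exact ⟨AlgSp.Points.map f' x, by rw [← AlgSp.Points.map_comp, hf']⟩
    · exact isClosed_range_map hZ.1)
  haveI : Mono i.hom := mono_of_closedImmersion hZ.1
  haveI : Mono i₀.hom := mono_of_closedImmersion hi₀.1
  have hk' : k.hom ≫ i.hom = i₀.hom := congrArg (·.hom) hk
  haveI hke : IsIso k.hom := ⟨k₀,
    by rw [← cancel_mono i₀.hom, Category.assoc, hk₀, hk', Category.id_comp],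
    by rw [← cancel_mono i.hom, Category.assoc, hk', hk₀, Category.id_comp]⟩
  have hrange : Set.range (AlgSp.Points.map i.hom) = closure (Set.range (AlgSp.Points.map f.hom)) := by
    rw [← hi₀.2.1]
    refine Set.Subset.antisymm ?_ ?_
    · rintro _ ⟨z, rfl⟩
      exact ⟨AlgSp.Points.map k₀ z, by rw [← AlgSp.Points.map_comp, hk₀]⟩
    · rintro _ ⟨z, rfl⟩
      exact ⟨AlgSp.Points.map k.hom z, by rw [← AlgSp.Points.map_comp, hk']⟩
  have hred : AlgSp.IsReducedSp Z.obj := by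
    obtain ⟨U, a, ha, has, hU⟩ := hi₀.2.2
    exact ⟨U, a ≫ k.hom, (repWith_comp_iso_iff _ a k.hom).2 ha, (repWith_comp_iso_iff _ a k.hom).2 has, hU⟩
  have hiV : AlgSp.RepWith @IsClosedImmersion iV.hom := repWith_baseChange sqZ hZ.1
  obtain ⟨W, φ, he, hs⟩ := V.property.atlas
  obtain ⟨WZ, w, a, sqW, hw⟩ := repWith_exists hiV φ
  have hredV : AlgSp.IsReducedSp ZV.obj := by
    refine ⟨WZ, a, repWith_baseChange sqW.flip he, repWith_baseChange sqW.flip hs, ?_⟩
    exact Lib.AlgSpRed.Stalk.isReduced_chart Z.property.diag hred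
      (a := a ≫ i₁.hom) (repWith_baseChange (sqW.paste_horiz sqZ).flip (hb φ he))
  have hopen : IsOpenMap (AlgSp.Points.map b.hom) := fun A hA ↦ by
    rw [← Set.image_preimage_eq A (surjective_ofPt hs), Set.image_image]
    simp only [AlgSp.Points.map_ofPt]
    exact isOpenMap_ofPt (hb φ he) _ (hA.preimage (AlgSp.Points.continuous_ofPt φ))
  have pre : ∀ {A A' : AlgSp.Sp S} {g : A ⟶ Y.obj} {g₁ : A' ⟶ A} {g' : A' ⟶ V.obj},
      IsPullback g₁ g' g b.hom → Set.range (AlgSp.Points.map g') =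
        AlgSp.Points.map b.hom ⁻¹' Set.range (AlgSp.Points.map g) := by
    intro A A' g g₁ g' sq
    ext v
    constructor
    · rintro ⟨x, rfl⟩
      exact ⟨AlgSp.Points.map g₁ x, by rw [← AlgSp.Points.map_comp, sq.w, AlgSp.Points.map_comp]⟩
    · rintro ⟨x, hx⟩
      obtain ⟨z, -, hz⟩ := exists_of_isPullback sq x v hx
      exact ⟨z, hz⟩
  refine ⟨hiV, ?_, ?_⟩
  · obtain ⟨f', hf'⟩ := hZ.2.1
    exact ⟨sqZ.lift (f₁.hom ≫ f') fV.hom (by rw [Category.assoc, hf', sqX.w]), sqZ.lift_snd _ _ _⟩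
  · rintro Z' i' hZ' hi' ⟨f'', hf''⟩
    obtain ⟨m, hm⟩ := (S10193.result (X := V) (Y := ZV) (Z := ⟨Z', hZ'⟩) (ObjectProperty.homMk i')
      hi' hredV iV).2 (by
      rw [pre sqZ, hrange, hopen.preimage_closure_eq_closure_preimage
        (AlgSp.Points.continuous_map _), ← pre sqX]
      refine closure_minimal ?_ ?_
      · rintro _ ⟨x, rfl⟩
        exact ⟨AlgSp.Points.map f'' x, by rw [← AlgSp.Points.map_comp]; exact congrArg (AlgSp.Points.map · x) hf''⟩
      · exact isClosed_range_map hi')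
    exact ⟨m.hom, congrArg (·.hom) hm⟩

end Groth.Agent.S12193
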