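import Groth.Statements.S12195
import Groth.Agent.Lib.SmoothLift.EtaleLocal

set_option autoImplicit false
universe u
open CategoryTheory CategoryTheory.Limits AlgebraicGeometry
open AlgSp

namespace Groth.Agent.S12195

/-- Let a : F ⟶ G be a representable, surjective and etale morphism of fppf sheaves on (Sch/S) and b : G
⟶ H a morphism such that a ≫ b is formally smooth. Consider a solid infinitesimal lifting square for
b: a square-zero thickening T = Spec (A/I) ⊂ T' = Spec A of affine schemes over S, a morphism T ⟶ G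
and a morphism T' ⟶ H making the square commute. Then for every point t of T' there exist an affine
scheme U', an etale morphism U' ⟶ T' whose image contains t, and a morphism U' ⟶ G lying over T' ⟶ H
whose restriction to T ×_{T'} U' agrees with the given T ⟶ G (stated for every scheme V mapping
compatibly to T and U'). (The published statement is for transformations of arbitrary presheaves of
sets on (Sch/S)_fppf; this row takes fppf sheaves, the case of algebraic spaces.) -/
theorem result {S : Scheme.{u}} {F G H : AlgSp.Sp S} (a : F ⟶ G)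
    (b : G ⟶ H) (ha : AlgSp.RepWith @Etale a) (ha' : AlgSp.RepWith @Surjective a)
    (hab : AlgSp.IsFormallySmoothMor (a ≫ b)) (sq : AlgSp.InfSq b) (t : ↥sq.ptT'.left) :
    ∃ (U' : Over S) (g : U' ⟶ sq.ptT') (l : (AlgSp.yon S).obj U' ⟶ G),
      IsAffine U'.left ∧ Etale g.left ∧ (∃ u : ↥U'.left, g.left u = t) ∧
        l ≫ b = (AlgSp.yon S).map g ≫ sq.bot ∧
          ∀ (V : Over S) (p : V ⟶ sq.ptT) (q : V ⟶ U'), p ≫ sq.j = q ≫ g →
            (AlgSp.yon S).map q ≫ l = (AlgSp.yon S).map p ≫ sq.top := by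
  obtain ⟨t₀, ht₀⟩ := Groth.Agent.Lib.SmoothLift.NilLift.surjective_specMap_mk sq.I
    (fun x hx => ⟨2, by
      have := Ideal.pow_mem_pow hx 2
      rwa [sq.sq_zero, Ideal.mem_bot] at this⟩) t
  obtain ⟨B, e, he, n, u, hn, hu⟩ := Groth.Agent.Lib.SmoothLift.EtaleLocal.exists_chart_nbhd
    ha ha' (A := .of sq.A) sq.I sq.str sq.top t₀
  let g : Over.mk (Spec.map e ≫ sq.str) ⟶ sq.ptT' := Over.homMk (Spec.map e) rfl
  have sqe := Groth.Agent.Lib.SmoothLift.EtaleLocal.isPullback_quotMap sq.I e sq.str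
  obtain ⟨l, hl₁, hl₂⟩ := hab ⟨B, sq.I.map e.hom, (Ideal.map_pow e.hom sq.I 2).symm.trans
      ((congrArg (Ideal.map e.hom) sq.sq_zero).trans Ideal.map_bot), Spec.map e ≫ sq.str, n,
      (yon S).map g ≫ sq.bot, by
        refine ((Category.assoc n a b).symm.trans (congrArg (· ≫ b) hn)).trans ?_
        rw [Category.assoc, sq.comm, ← Functor.map_comp_assoc, ← Functor.map_comp_assoc]
        exact congrArg (fun m => (yon S).map m ≫ sq.bot) sqe.w⟩
  refine ⟨Over.mk (Spec.map e ≫ sq.str), g, l ≫ a,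
    inferInstanceAs (IsAffine (Spec _)), he,
    ⟨(Groth.Agent.Lib.SmoothLift.EtaleLocal.quotι (sq.I.map e.hom) (Spec.map e ≫ sq.str)).left u, ?_⟩,
    (Category.assoc _ _ _).trans hl₂, fun V p q w => ?_⟩
  · rw [← Scheme.Hom.comp_apply, ← Over.comp_left, ← sqe.w, Over.comp_left, Scheme.Hom.comp_apply, hu]
    exact ht₀
  · obtain ⟨k, rfl, rfl⟩ : ∃ k, k ≫ Groth.Agent.Lib.SmoothLift.EtaleLocal.quotMap sq.I e sq.str = p ∧
        k ≫ Groth.Agent.Lib.SmoothLift.EtaleLocal.quotι (sq.I.map e.hom) (Spec.map e ≫ sq.str) = q :=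
      ⟨sqe.lift p q w, sqe.lift_fst _ _ _, sqe.lift_snd _ _ _⟩
    rw [Functor.map_comp, Functor.map_comp, Category.assoc, Category.assoc, ← hn]
    exact congrArg ((yon S).map k ≫ ·) ((Category.assoc _ _ _).symm.trans (congrArg (· ≫ a) hl₁))

end Groth.Agent.S12195
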