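import Groth.Statements.S12200
import Groth.Agent.Lib.AlgSpFpqc.FormallySmooth
-- import your own Groth.Agent.* helpers here

set_option autoImplicit false
universe u
open CategoryTheory CategoryTheory.Limits AlgebraicGeometry
open AlgSp

namespace Groth.Agent.S12200

/-- The property of a morphism of algebraic spaces over S of being formally smooth (existence of dotted
arrows in all infinitesimal lifting squares along square-zero thickenings of affine schemes) is
local on the base for the fpqc topology: for an fpqc covering {Y_i → Y} by algebraic spaces and the
base changes X_i → Y_i of f : X → Y, f is formally smooth exactly when every X_i → Y_i is. -/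
theorem result {S : Scheme.{u}} :
    AlgSp.IsLocalOnBase (S := S) AlgSp.IsFpqcCover AlgSp.IsFormallySmoothMor := by
  exact Groth.Agent.Lib.AlgSpFpqc.FormallySmooth.isLocalOnBase

end Groth.Agent.S12200
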