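import Groth.Statements.S12207
import Mathlib

set_option autoImplicit false
universe u
open CAlg

namespace Groth.Agent.S12207

/-- Let φ : N → M be a linear map between coherent R-modules (finitely generated, every finitely
generated submodule finitely presented). Then the kernel of φ and the cokernel M/φ(N) are coherent
R-modules. -/
theorem result (R : Type u) [CommRing R] {N M : Type u}
    [AddCommGroup N] [Module R N] [AddCommGroup M] [Module R M]
    (hN : Module.Finite R N ∧ ∀ P : Submodule R N, P.FG → Module.FinitePresentation R P)
    (hM : Module.Finite R M ∧ ∀ P : Submodule R M, P.FG → Module.FinitePresentation R P)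
    (φ : N →ₗ[R] M) :
    (Module.Finite R (LinearMap.ker φ) ∧
      ∀ P : Submodule R (LinearMap.ker φ), P.FG → Module.FinitePresentation R P) ∧
    (Module.Finite R (M ⧸ LinearMap.range φ) ∧
      ∀ P : Submodule R (M ⧸ LinearMap.range φ), P.FG → Module.FinitePresentation R P) := by
  classical
  haveI := hN.1
  have sub : ∀ {X : Type u} [AddCommGroup X] [Module R X],
      (∀ P : Submodule R X, P.FG → Module.FinitePresentation R P) →
      ∀ (Y : Submodule R X) (P : Submodule R Y), P.FG → Module.FinitePresentation R P := by
    intro X _ _ hX Y P hP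
    haveI := hX _ (hP.map Y.subtype)
    exact Module.FinitePresentation.of_equiv (Submodule.equivMapOfInjective Y.subtype Y.injective_subtype P).symm
  haveI := hM.1
  have hr : (LinearMap.range φ).FG := by
    rw [LinearMap.range_eq_map]; exact Module.Finite.fg_top.map φ
  haveI := hM.2 _ hr
  have hcoker : Module.Finite R (M ⧸ LinearMap.range φ) ∧
      ∀ P : Submodule R (M ⧸ LinearMap.range φ), P.FG → Module.FinitePresentation R P := by
    refine ⟨inferInstance, fun P hP => ?_⟩
    obtain ⟨t, ht⟩ := hP
    let lift : M ⧸ LinearMap.range φ → M := Function.surjInv (Submodule.mkQ_surjective _)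
    let Q : Submodule R M := Submodule.span R (lift '' t) ⊔ LinearMap.range φ
    haveI := hM.2 Q ((Submodule.fg_span (t.finite_toSet.image _)).sup hr)
    have hmap : Q.map (LinearMap.range φ).mkQ = P := by
      rw [Submodule.map_sup, Submodule.map_span, ← Set.image_comp, Submodule.mkQ_map_self, sup_bot_eq,
        Function.comp_def]
      simp only [lift, Function.surjInv_eq (Submodule.mkQ_surjective (LinearMap.range φ))]
      rw [Set.image_id', ht]
    let g : Q →ₗ[R] P := (LinearMap.range φ).mkQ.restrict fun x hx => hmap ▸ Submodule.mem_map_of_mem hx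
    refine Module.finitePresentation_of_surjective g ?_ ?_
    · rintro ⟨x, hx⟩
      rw [← hmap] at hx
      obtain ⟨y, hy, rfl⟩ := hx
      exact ⟨⟨y, hy⟩, rfl⟩
    · have : LinearMap.ker g = Submodule.comap Q.subtype (LinearMap.range φ) := by
        ext x
        rw [LinearMap.mem_ker, Submodule.mem_comap, Submodule.subtype_apply, ← Submodule.coe_eq_zero]
        exact Submodule.Quotient.mk_eq_zero _
      rw [this]
      exact Submodule.fg_of_fg_map_injective Q.subtype Q.injective_subtype (by
        rwa [Submodule.map_comap_eq, Submodule.range_subtype, inf_eq_right.2 le_sup_right])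
  have hker : (LinearMap.ker φ).FG := by
    rw [← LinearMap.ker_rangeRestrict]
    exact Module.FinitePresentation.fg_ker φ.rangeRestrict φ.surjective_rangeRestrict
  exact ⟨⟨Module.Finite.iff_fg.2 hker, sub hN.2 _⟩, hcoker⟩

end Groth.Agent.S12207
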