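import Groth.Statements.S12208
import Groth.Agent.H19.NoetherInt
import Groth.Agent.Lib.Dim.Integral
import Mathlib.RingTheory.KrullDimension.Polynomial
import Mathlib.RingTheory.KrullDimension.Field

set_option autoImplicit false
universe u
open CAlg

namespace Groth.Agent.S12208

/-- Let k be a field and S = k[x_1, …, x_n]/I with I a proper ideal. Then there exist r ≥ 0 and elements
y_1, …, y_r of k[x_1, …, x_n] lying in the subring generated by x_1, …, x_n (polynomials with
integer coefficients) such that the k-algebra map from the polynomial ring k[t_1, …, t_r] to S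
sending t_i to the class of y_i is injective and finite; and for any r ≥ 0 and any y_1, …, y_r in
k[x_1, …, x_n] (with or without the integer-coefficient condition) for which that map is injective
and finite, r is the Krull dimension of S. -/
theorem result (k : Type u) [Field k] (n : ℕ) (I : Ideal (MvPolynomial (Fin n) k))
    (hI : I ≠ ⊤) :
    (∃ (r : ℕ) (y : Fin r → MvPolynomial (Fin n) k),
      (∀ i, y i ∈ Set.range (MvPolynomial.map (Int.castRingHom k) : MvPolynomial (Fin n) ℤ → MvPolynomial (Fin n) k)) ∧
      Function.Injective ((Ideal.Quotient.mkₐ k I).comp (MvPolynomial.aeval y)) ∧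
      ((Ideal.Quotient.mkₐ k I).comp (MvPolynomial.aeval y)).toRingHom.Finite) ∧
    ∀ (r : ℕ) (y : Fin r → MvPolynomial (Fin n) k),
      Function.Injective ((Ideal.Quotient.mkₐ k I).comp (MvPolynomial.aeval y)) →
      ((Ideal.Quotient.mkₐ k I).comp (MvPolynomial.aeval y)).toRingHom.Finite →
      ringKrullDim (MvPolynomial (Fin n) k ⧸ I) = r := by
  refine ⟨?_, fun r y hinj hfin => ?_⟩
  · obtain ⟨r, y, hy, hinj, hint⟩ := Groth.Agent.H19.NoetherInt.exists_int_normalization I hI
    refine ⟨r, y, fun i => hy i, hinj, ?_⟩
    refine RingHom.IsIntegral.to_finite hint ?_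
    refine RingHom.FiniteType.of_comp_finiteType (f := MvPolynomial.C) ?_
    have : (((Ideal.Quotient.mkₐ k I).comp (MvPolynomial.aeval y)).toRingHom.comp MvPolynomial.C) =
        algebraMap k (MvPolynomial (Fin n) k ⧸ I) :=
      RingHom.ext fun a => ((Ideal.Quotient.mkₐ k I).comp (MvPolynomial.aeval y)).commutes a
    rw [this, RingHom.finiteType_algebraMap]
    infer_instance
  · set g := (Ideal.Quotient.mkₐ k I).comp (MvPolynomial.aeval y)
    letI := g.toRingHom.toAlgebra
    haveI : FaithfulSMul (MvPolynomial (Fin r) k) (MvPolynomial (Fin n) k ⧸ I) :=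
      (faithfulSMul_iff_algebraMap_injective _ _).mpr hinj
    haveI : Module.Finite (MvPolynomial (Fin r) k) (MvPolynomial (Fin n) k ⧸ I) := hfin
    rw [Groth.Agent.Lib.Dim.Integral.ringKrullDim_eq_of_isIntegral (R := MvPolynomial (Fin r) k)]
    simp [MvPolynomial.ringKrullDim_of_isNoetherianRing]

end Groth.Agent.S12208
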