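import Groth.Statements.S12209
import Groth.Agent.H20.DirectLim
import Mathlib.RingTheory.Flat.EquationalCriterion

set_option autoImplicit false
universe u
open CAlg

namespace Groth.Agent.S12209

/-- Let (R_i) be a system of commutative rings over a nonempty directed preorder, with colimit R, and
let M be an R-module which is flat as an R_i-module for every i (the R_i-module structure being
restriction of scalars along R_i → R). Then M is flat as an R-module. -/
theorem result {ι : Type u} [Preorder ι] [Nonempty ι] [IsDirectedOrder ι]
    (G : ι → Type u) [∀ i, CommRing (G i)] (f : ∀ i j, i ≤ j → G i →+* G j)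
    [DirectedSystem G fun i j h => f i j h]
    (M : Type u) [AddCommGroup M] [Module (Ring.DirectLimit G fun i j h => f i j h) M]
    (hflat : ∀ i, letI : Module (G i) M := Module.compHom M (Ring.DirectLimit.of G (fun i j h => f i j h) i);
      Module.Flat (G i) M) :
    Module.Flat (Ring.DirectLimit G fun i j h => f i j h) M := by
  classical
  refine Module.Flat.iff_forall_isTrivialRelation.mpr fun {l r x} hrel => ?_
  obtain ⟨k, -, y, hy⟩ := Groth.Agent.H20.DirectLim.exists_stage r (Classical.arbitrary ι)
  let := Module.compHom M (Ring.DirectLimit.of G (fun i j h => f i j h) k)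
  have := hflat k
  have h0 : ∑ a, y a • x a = 0 := by
    rw [← hrel]
    exact Finset.sum_congr rfl fun a _ => by rw [← hy a]; rfl
  obtain ⟨n, c, z, hxz, hc⟩ := Module.Flat.isTrivialRelation_of_sum_smul_eq_zero (R := G k) h0
  refine ⟨n, fun a j => Ring.DirectLimit.of G (fun i j h => f i j h) k (c a j), z,
    fun a => hxz a, fun j => ?_⟩
  simp_rw [← hy, ← map_mul, ← map_sum, hc j, map_zero]

end Groth.Agent.S12209
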