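import Groth.Statements.S12214
import Groth.Agent.Lib.RG.NearFlat
-- import your own Groth.Agent.* helpers here

set_option autoImplicit false
universe u
open FlatMor

namespace Groth.Agent.S12214

/-- Let R → S be a ring map of finite presentation, M a finite S-module, and assume R has finitely many
weakly associated primes. Then for every g ∈ S whose basic open D(g) is contained in the flat locus
U = {q : M_q is flat over R}, the localization M_g is a finitely presented S_g-module which is flat
over R. (Openness of U is the companion statement.) -/
theorem result {R S : Type u} [CommRing R] [CommRing S] [Algebra R S]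
    [Algebra.FinitePresentation R S] (hR : (FlatCA.weakAss R R).Finite)
    (M : Type u) [AddCommGroup M] [Module S M] [Module R M] [IsScalarTower R S M] [Module.Finite S M]
    (g : S) (hg : ∀ (q : Ideal S) [q.IsPrime], g ∉ q → FlatCA.FlatAt R q M) :
    Module.FinitePresentation (Localization.Away g) (LocalizedModule (Submonoid.powers g) M) ∧
      Module.Flat R (LocalizedModule (Submonoid.powers g) M) := by
  classical
  let Sg := Localization.Away g
  let Mg := LocalizedModule (Submonoid.powers g) M
  haveI : Algebra.FinitePresentation R Sg := Algebra.FinitePresentation.trans R S Sg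
  obtain ⟨k, π, hπ⟩ := Module.Finite.exists_fin' Sg Mg
  refine ⟨Lib.RG.NearFlat.finitePresentation_of_good π hπ fun Q hQ => ?_,
    Lib.RG.OpenFlat.flat_away_of_forall g fun q _ hq => hg q hq⟩
  haveI := hQ
  have hgQ : g ∉ Q.comap (algebraMap S Sg) := fun h => hQ.ne_top (Ideal.eq_top_of_isUnit_mem _ h
    (IsLocalization.map_units Sg (⟨g, Submonoid.mem_powers g⟩ : Submonoid.powers g)))
  have hflat : Module.Flat R (LocalizedModule Q.primeCompl Mg) := by
    haveI : Module.Flat R Mg := Lib.RG.OpenFlat.flat_away_of_forall g fun q _ hq => hg q hq
    exact H19.FlatLocus.Model.flat_localized Q.primeCompl (LocalizedModule.mkLinearMap Q.primeCompl Mg)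
  obtain ⟨h, hh, T, hT, hgen, -, -⟩ := Lib.RG.NearFlat.exists_good hR π hπ Q hflat
  exact ⟨h, hh, T, hT, hgen⟩

end Groth.Agent.S12214
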