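import Groth.Statements.S12217
import Groth.Agent.Lib.Goren.Artin
import Mathlib.RingTheory.AdicCompletion.Completeness
import Mathlib.RingTheory.PowerSeries.Inverse
import Mathlib.RingTheory.Filtration

set_option autoImplicit false
universe u
open Curves

namespace Groth.Agent.S12217

open IsLocalRing

variable {k : Type u} [Field k] {A : Type u} [CommRing A] [IsLocalRing A] {n : ℕ}
  (φ : AdicCompletion (maximalIdeal A) A →+* (Fin n → PowerSeries k))

/-- The branches of an element of `A`. -/
noncomputable def br : A →+* (Fin n → PowerSeries k) := φ.comp (algebraMap A _)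

section

variable (hinj : Function.Injective φ)
  (hrange : Set.range φ = {f : Fin n → PowerSeries k | ∀ i j : Fin n, PowerSeries.constantCoeff (f i) = PowerSeries.constantCoeff (f j)})
include hinj hrange

theorem const_eq_zero {y : A} (hy : y ∈ maximalIdeal A) (i : Fin n) :
    PowerSeries.constantCoeff (br φ y i) = 0 := by
  by_contra hne
  have hmem : br φ y ∈ Set.range φ := ⟨_, rfl⟩
  rw [hrange] at hmem
  have hinv : (fun j => (br φ y j)⁻¹) ∈ Set.range φ := by
    rw [hrange]
    intro a b
    simp only [PowerSeries.constantCoeff_inv, hmem a b]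
  obtain ⟨g, hg⟩ := hinv
  have h1 : algebraMap A _ y * g = 1 := by
    apply hinj
    rw [map_mul, map_one, hg]
    funext j
    refine PowerSeries.mul_inv_cancel (br φ y j) ?_
    rw [hmem j i]; exact hne
  have h2 := congrArg (AdicCompletion.evalOneₐ (maximalIdeal A)) h1
  rw [map_mul, map_one, AlgHom.commutes] at h2
  rw [show algebraMap A (A ⧸ maximalIdeal A) y = 0 from Ideal.Quotient.eq_zero_iff_mem.mpr hy, zero_mul] at h2
  exact zero_ne_one h2

theorem exists_lift [IsNoetherianRing A] (f : Fin n → k) : ∃ a : A, a ∈ maximalIdeal A ∧ ∀ i, PowerSeries.coeff 1 (br φ a i) = f i := by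
  have hmem : (fun i => PowerSeries.C (f i) * PowerSeries.X) ∈ Set.range φ := by
    rw [hrange]; intro i j; simp
  obtain ⟨g, hg⟩ := hmem
  obtain ⟨a, ha⟩ := Submodule.Quotient.mk_surjective _ (AdicCompletion.eval (maximalIdeal A) A 2 g)
  have hd : g - algebraMap A _ a ∈ (maximalIdeal A ^ 2 • ⊤ : Submodule A (AdicCompletion (maximalIdeal A) A)) := by
    have hfg : (maximalIdeal A).FG := (inferInstance : IsNoetherianRing A).noetherian _
    rw [AdicCompletion.pow_smul_top_eq_ker_eval hfg, LinearMap.mem_ker, map_sub, sub_eq_zero, ← ha]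
    rfl
  have hdiv : ∀ i, PowerSeries.X ^ 2 ∣ φ (g - algebraMap A _ a) i := by
    intro i
    refine Submodule.smul_induction_on hd (fun r hr z _ => ?_) (fun y z hy hz => ?_)
    · rw [Algebra.smul_def, map_mul, Pi.mul_apply]
      refine Dvd.dvd.mul_right ?_ _
      rw [pow_two] at hr
      show PowerSeries.X ^ 2 ∣ br φ r i
      refine Submodule.mul_induction_on hr (fun p hp q hq => ?_) (fun p q hp hq => ?_)
      · rw [map_mul, Pi.mul_apply, pow_two]
        exact mul_dvd_mul (PowerSeries.X_dvd_iff.mpr (const_eq_zero φ hinj hrange hp i))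
          (PowerSeries.X_dvd_iff.mpr (const_eq_zero φ hinj hrange hq i))
      · rw [map_add, Pi.add_apply]; exact dvd_add hp hq
    · rw [map_add, Pi.add_apply]; exact dvd_add hy hz
  have hco : ∀ i m, m < 2 → PowerSeries.coeff m (br φ a i) = PowerSeries.coeff m (φ g i) := by
    intro i m hm
    have h := PowerSeries.X_pow_dvd_iff.mp (hdiv i) m hm
    rw [map_sub, Pi.sub_apply, map_sub, sub_eq_zero] at h
    exact h.symm
  refine ⟨a, ?_, fun i => by rw [hco i 1 one_lt_two, hg]; simp⟩
  rw [mem_maximalIdeal, mem_nonunits_iff]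
  intro hu
  rcases Nat.eq_zero_or_pos n with rfl | hn
  · obtain ⟨g', hg'⟩ : (0 : Fin 0 → PowerSeries k) ∈ Set.range φ := by rw [hrange]; intro i; exact i.elim0
    have h01 := congrArg (AdicCompletion.evalOneₐ (maximalIdeal A))
      (hinj (Subsingleton.elim (φ (0 : AdicCompletion (maximalIdeal A) A)) (φ 1)))
    rw [map_zero, map_one] at h01
    exact zero_ne_one h01
  have h0 := hco ⟨0, hn⟩ 0 two_pos
  rw [hg] at h0
  simp only [PowerSeries.coeff_zero_eq_constantCoeff, map_mul, PowerSeries.constantCoeff_X, mul_zero] at h0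
  have hu' := ((hu.map (br φ)).map (Pi.evalRingHom _ ⟨0, hn⟩)).map (PowerSeries.constantCoeff (R := k))
  have hu'' : IsUnit (PowerSeries.constantCoeff (br φ a ⟨0, hn⟩)) := hu'
  rw [h0] at hu''
  exact not_isUnit_zero hu''

omit hrange in
theorem algebraMap_injective' [IsNoetherianRing A] {y : A} (hy : br φ y = 0) : y = 0 := by
  have h : algebraMap A (AdicCompletion (maximalIdeal A) A) y = 0 := hinj (by rw [map_zero]; exact hy)
  have hmem : y ∈ ⨅ N : ℕ, maximalIdeal A ^ N := Submodule.mem_iInf _ |>.mpr fun N => by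
    have h2 := congrArg (AdicCompletion.evalₐ (maximalIdeal A) N) h
    rw [map_zero, AlgHom.commutes, Ideal.Quotient.algebraMap_eq, Ideal.Quotient.eq_zero_iff_mem] at h2
    exact h2
  rwa [Ideal.iInf_pow_eq_bot_of_isLocalRing _ (maximalIdeal.isMaximal A).ne_top] at hmem

end

/-- In this form A is the local ring of the curve at the point, and a Gorenstein scheme has Gorenstein
local rings. Let k be an algebraically closed field and A a Gorenstein local ring whose completion
with respect to its maximal ideal is isomorphic to the multicross ring with n ≥ 2 branches, the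
subring of (k[[t]])^n consisting of the n-tuples of power series having a common constant term. Then
n = 2: a Gorenstein multicross singularity is a node. The isomorphism is given as an injective ring
map from the completion to (k[[t]])^n with that subring as its range. -/
theorem result (k : Type u) [Field k] [IsAlgClosed k]
    (A : Type u) [CommRing A] [LocCoh.IsGorensteinLocalRing A] (n : ℕ) (hn : 2 ≤ n)
    (φ : AdicCompletion (IsLocalRing.maximalIdeal A) A →+* (Fin n → PowerSeries k))
    (hinj : Function.Injective φ)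
    (hrange : Set.range φ = {f : Fin n → PowerSeries k | ∀ i j : Fin n, PowerSeries.constantCoeff (f i) = PowerSeries.constantCoeff (f j)}) :
    n = 2 := by
  classical
  by_contra hne
  have hn3 : 3 ≤ n := by omega
  obtain ⟨x, hxm, hx⟩ := exists_lift φ hinj hrange (fun _ => 1)
  obtain ⟨a, ham, ha⟩ := exists_lift φ hinj hrange (Pi.single (⟨0, by omega⟩ : Fin n) 1)
  obtain ⟨b, hbm, hb⟩ := exists_lift φ hinj hrange (Pi.single (⟨1, by omega⟩ : Fin n) 1)
  have hu : ∀ i, ∃ u : PowerSeries k, PowerSeries.constantCoeff u ≠ 0 ∧ br φ x i = PowerSeries.X * u := fun i => by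
    obtain ⟨u, hu⟩ := PowerSeries.X_dvd_iff.mpr (const_eq_zero φ hinj hrange hxm i)
    refine ⟨u, fun h => ?_, hu⟩
    have := hx i
    rw [hu, PowerSeries.coeff_succ_X_mul, PowerSeries.coeff_zero_eq_constantCoeff, h] at this
    exact zero_ne_one this
  choose u hu0 hxu using hu
  have hreg : IsSMulRegular A x := by
    suffices ∀ y : A, x • y = 0 → y = 0 from fun p q hab => sub_eq_zero.mp (this (p - q) (by rw [smul_sub]; exact sub_eq_zero.mpr hab))
    refine fun y hy => algebraMap_injective' φ hinj ?_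
    funext i
    have h : br φ x i * br φ y i = 0 := by rw [← Pi.mul_apply, ← map_mul]; rw [smul_eq_mul] at hy; rw [hy, map_zero]; rfl
    refine (mul_eq_zero.mp h).resolve_left ?_
    rw [hxu i]
    exact mul_ne_zero PowerSeries.X_ne_zero (fun h' => hu0 i (by rw [h', map_zero]))
  have hsq : ∀ y ∈ IsLocalRing.maximalIdeal A, ∀ z ∈ IsLocalRing.maximalIdeal A, y * z ∈ Ideal.span {x} := by
    intro y hy z hz
    have hh : ∀ i, ∃ h : PowerSeries k, PowerSeries.constantCoeff h = 0 ∧ br φ (y * z) i = br φ x i * h := fun i => by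
      obtain ⟨p, hp⟩ := PowerSeries.X_dvd_iff.mpr (const_eq_zero φ hinj hrange hy i)
      obtain ⟨q, hq⟩ := PowerSeries.X_dvd_iff.mpr (const_eq_zero φ hinj hrange hz i)
      refine ⟨PowerSeries.X * (p * q * (u i)⁻¹), by simp, ?_⟩
      rw [map_mul, Pi.mul_apply, hp, hq, hxu i]
      have := PowerSeries.mul_inv_cancel (u i) (hu0 i)
      linear_combination -(PowerSeries.X ^ 2 * p * q) * this
    choose h hh0 hh using hh
    have hmem : h ∈ Set.range φ := by rw [hrange]; intro i j; rw [hh0, hh0]
    obtain ⟨g, hg⟩ := hmem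
    have heq : algebraMap A (AdicCompletion (IsLocalRing.maximalIdeal A) A) (y * z) = algebraMap A _ x * g := by
      apply hinj
      funext i
      rw [map_mul (f := φ) (algebraMap A _ x) g, Pi.mul_apply, hg]
      exact hh i
    rw [← Ideal.Quotient.eq_zero_iff_mem]
    have hcl : Ideal.Quotient.mk (Ideal.span {x}) (y * z) ∈
        (⨅ N : ℕ, IsLocalRing.maximalIdeal A ^ N • (⊤ : Submodule A (A ⧸ Ideal.span {x}))) := by
      refine Submodule.mem_iInf _ |>.mpr fun N => ?_
      have h2 := congrArg (AdicCompletion.evalₐ (IsLocalRing.maximalIdeal A) N) heq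
      simp only [map_mul, AlgHom.commutes] at h2
      obtain ⟨g', hg'⟩ := Ideal.Quotient.mk_surjective (AdicCompletion.evalₐ (IsLocalRing.maximalIdeal A) N g)
      rw [← hg', Ideal.Quotient.algebraMap_eq, ← map_mul, ← map_mul, Ideal.Quotient.mk_eq_mk_iff_sub_mem] at h2
      rw [Ideal.smul_top_eq_map, Submodule.restrictScalars_mem, Ideal.Quotient.algebraMap_eq]
      rw [show Ideal.Quotient.mk (Ideal.span {x}) (y * z) = Ideal.Quotient.mk _ (y * z - x * g') by
        rw [map_sub, Ideal.Quotient.eq_zero_iff_mem.mpr (Ideal.mul_mem_right _ _ (Ideal.mem_span_singleton_self x)), sub_zero]]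
      exact Ideal.mem_map_of_mem _ h2
    rw [Ideal.iInf_pow_smul_eq_bot_of_isLocalRing _ (IsLocalRing.maximalIdeal.isMaximal A).ne_top] at hcl
    exact (Submodule.mem_bot A).mp hcl
  have := (Groth.Agent.Lib.Goren.Basic.isGorensteinLocalRing_quotient_iff hxm hreg).mp inferInstance
  set Q := A ⧸ Ideal.span {x}
  have hle : IsLocalRing.maximalIdeal Q ≤ (IsLocalRing.maximalIdeal A).map (Ideal.Quotient.mk (Ideal.span {x})) := by
    intro q hq
    obtain ⟨r, rfl⟩ := Ideal.Quotient.mk_surjective q
    refine Ideal.mem_map_of_mem _ ?_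
    rw [IsLocalRing.mem_maximalIdeal, mem_nonunits_iff] at hq ⊢
    exact fun hr => hq (hr.map _)
  have hsq' : ∀ p ∈ IsLocalRing.maximalIdeal Q, ∀ q ∈ IsLocalRing.maximalIdeal Q, p * q = 0 := by
    intro p hp q hq
    obtain ⟨r, hr, rfl⟩ := (Ideal.mem_map_iff_of_surjective _ Ideal.Quotient.mk_surjective).mp (hle hp)
    obtain ⟨s, hs, rfl⟩ := (Ideal.mem_map_iff_of_surjective _ Ideal.Quotient.mk_surjective).mp (hle hq)
    rw [← map_mul, Ideal.Quotient.eq_zero_iff_mem]
    exact hsq r hr s hs
  have hart : IsArtinianRing Q := by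
    rw [isArtinianRing_iff_isNilpotent_maximalIdeal]
    exact ⟨2, by rw [pow_two, Ideal.zero_eq_bot, eq_bot_iff]; exact Ideal.mul_le.mpr fun p hp q hq => (Submodule.mem_bot Q).mpr (hsq' p hp q hq)⟩
  have hlen := (Groth.Agent.Lib.Goren.Artin.isGorensteinLocalRing_iff_socle (A := Q)).mp inferInstance
  have hsimple := Module.length_eq_one_iff.mp hlen
  have hmk : ∀ {r : A}, r ∈ IsLocalRing.maximalIdeal A →
      Ideal.Quotient.mk (Ideal.span {x}) r ∈ IsLocalRing.maximalIdeal Q := fun {r} hr => by
    rw [IsLocalRing.mem_maximalIdeal, mem_nonunits_iff]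
    intro hu'
    obtain ⟨s, hs⟩ := Ideal.Quotient.mk_surjective (↑hu'.unit⁻¹ : Q)
    have : r * s - 1 ∈ IsLocalRing.maximalIdeal A := by
      refine (Ideal.span_le.mpr (Set.singleton_subset_iff.mpr hxm) : Ideal.span {x} ≤ _) ?_
      rw [← Ideal.Quotient.eq_zero_iff_mem, map_sub, map_mul, hs, IsUnit.mul_val_inv, map_one, sub_self]
    exact (IsLocalRing.maximalIdeal.isMaximal A).ne_top ((Ideal.eq_top_iff_one _).mpr
      (by simpa using Ideal.sub_mem _ (Ideal.mul_mem_right s _ hr) this))
  have hsoc : ∀ {r : A}, r ∈ IsLocalRing.maximalIdeal A →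
      Ideal.Quotient.mk (Ideal.span {x}) r ∈ LocCoh.torsionBy (IsLocalRing.maximalIdeal Q) Q := fun {r} hr =>
    (Submodule.mem_torsionBySet_iff _ _).mpr fun q => hsq' _ q.2 _ (hmk hr)
  have ha0 : Ideal.Quotient.mk (Ideal.span {x}) a ≠ 0 := fun h => by
    obtain ⟨e, he⟩ := Ideal.mem_span_singleton'.mp (Ideal.Quotient.eq_zero_iff_mem.mp h)
    have hlin : ∀ i, PowerSeries.coeff 1 (br φ a i) = PowerSeries.constantCoeff (br φ e i) := fun i => by
      rw [← he, map_mul, Pi.mul_apply, hxu i, mul_left_comm, PowerSeries.coeff_succ_X_mul,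
        PowerSeries.coeff_zero_eq_constantCoeff, map_mul]
      have := hx i
      rw [hxu i, PowerSeries.coeff_succ_X_mul, PowerSeries.coeff_zero_eq_constantCoeff] at this
      rw [this, mul_one]
    have hc : br φ e ∈ Set.range φ := ⟨_, rfl⟩
    rw [hrange] at hc
    have h01 := hc ⟨0, by omega⟩ ⟨1, by omega⟩
    rw [← hlin, ← hlin, ha, ha] at h01
    simp at h01
  obtain ⟨c, hc⟩ := (IsSimpleModule.toSpanSingleton_surjective Q
    (m := (⟨_, hsoc ham⟩ : LocCoh.torsionBy (IsLocalRing.maximalIdeal Q) Q))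
    (fun h => ha0 (congrArg Subtype.val h))) ⟨_, hsoc hbm⟩
  obtain ⟨c, rfl⟩ := Ideal.Quotient.mk_surjective c
  have hc' := congrArg Subtype.val hc
  simp only [LinearMap.toSpanSingleton_apply, SetLike.val_smul, smul_eq_mul, ← map_mul] at hc'
  obtain ⟨e, he⟩ := Ideal.mem_span_singleton'.mp (Ideal.Quotient.mk_eq_mk_iff_sub_mem _ _ |>.mp hc'.symm)
  have hbeq : b = c * a + e * x := by rw [he]; ring
  have hlin : ∀ i, PowerSeries.coeff 1 (br φ b i) =
      PowerSeries.constantCoeff (br φ c i) * PowerSeries.coeff 1 (br φ a i) + PowerSeries.constantCoeff (br φ e i) := fun i => by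
    obtain ⟨p, hp⟩ := PowerSeries.X_dvd_iff.mpr (const_eq_zero φ hinj hrange ham i)
    have := hx i
    rw [hxu i, PowerSeries.coeff_succ_X_mul, PowerSeries.coeff_zero_eq_constantCoeff] at this
    rw [hbeq, map_add, Pi.add_apply, map_mul, map_mul, Pi.mul_apply, Pi.mul_apply, hp, hxu i, mul_left_comm,
      mul_left_comm (br φ e i), map_add, PowerSeries.coeff_succ_X_mul, PowerSeries.coeff_succ_X_mul,
      PowerSeries.coeff_succ_X_mul]
    simp only [PowerSeries.coeff_zero_eq_constantCoeff, map_mul, this, mul_one]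
  have hce : br φ e ∈ Set.range φ := ⟨_, rfl⟩
  rw [hrange] at hce
  have h2' := hlin ⟨2, by omega⟩
  have h1' := hlin ⟨1, by omega⟩
  rw [hb, ha, Pi.single_eq_of_ne (by simp), Pi.single_eq_of_ne (by simp), mul_zero, zero_add] at h2'
  rw [hb, ha, Pi.single_eq_same, Pi.single_eq_of_ne (by simp), mul_zero, zero_add, hce ⟨1, by omega⟩ ⟨2, by omega⟩, ← h2'] at h1'
  exact one_ne_zero h1'

end Groth.Agent.S12217
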