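import Groth.Statements.S1224
import Groth.Agent.Lib.FlatCA.Impurity

set_option autoImplicit false
universe u
open FlatMor

namespace Groth.Agent.S1224

/-- Ring form, X = Spec B affine, where proper support means finite support: let B be a finite type
A-algebra and N a finite B-module such that B modulo the annihilator of N is finite over A. Then N
is universally pure relative to Spec A. -/
theorem result {A B : Type u} [CommRing A] [CommRing B] [Algebra A B] [Algebra.FiniteType A B]
    (N : Type u) [AddCommGroup N] [Module B N] [Module A N] [IsScalarTower A B N] [Module.Finite B N]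
    [Module.Finite A (B ⧸ Module.annihilator B N)] : FlatCA.IsUnivPure A B N := by
  intro p _ A' B' N' _ _ _ _ _ _ _ _ _ _ _ _ _ _ f t' t _ _ P _ h
  obtain ⟨hpo, hbc, hle, _, _, hass, hno⟩ := h
  obtain ⟨Q, _, hPQ, hQ, hann⟩ := Lib.FlatCA.Impurity.exists_assoc_point t' hass
  let I := Module.annihilator B N
  let J := I.map (algebraMap B B')
  have hJ : J ≤ Q := by
    refine le_trans (Ideal.map_le_iff_le_comap.2 fun b hb => ?_) hann
    rw [Ideal.mem_comap, Module.mem_annihilator]
    intro x
    induction x using hbc.inductionOn with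
    | zero => exact smul_zero _
    | tmul n => rw [algebraMap_smul, ← map_smul, Module.mem_annihilator.1 hb n, map_zero]
    | smul c n hn => rw [smul_comm, hn, smul_zero]
    | add x y hx hy => rw [smul_add, hx, hy, add_zero]
  haveI : Algebra.IsIntegral A' (B' ⧸ J) := ⟨fun z => by
    obtain ⟨z, rfl⟩ := Ideal.Quotient.mk_surjective z
    induction z using hpo.symm.out.inductionOn with
    | zero => rw [map_zero]; exact isIntegral_zero
    | tmul b =>
      let g : B ⧸ I →ₐ[A] B' ⧸ J := Ideal.Quotient.liftₐ I
        ((Ideal.Quotient.mkₐ A J).comp (IsScalarTower.toAlgHom A B B')) fun b hb =>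
          Ideal.Quotient.eq_zero_iff_mem.2 (Ideal.mem_map_of_mem _ hb)
      exact ((Algebra.IsIntegral.isIntegral (R := A) (Ideal.Quotient.mk I b)).map g).tower_top
    | smul c b hb =>
      rw [Algebra.smul_def, map_mul]
      exact isIntegral_algebraMap.mul hb
    | add x y hx hy => rw [map_add]; exact hx.add hy⟩
  haveI hQJ : (Q.map (Ideal.Quotient.mk J)).IsPrime :=
    Ideal.map_isPrime_of_surjective Ideal.Quotient.mk_surjective (by rwa [Ideal.mk_ker])
  have hQc : (Q.map (Ideal.Quotient.mk J)).comap (Ideal.Quotient.mk J) = Q := by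
    rw [Ideal.comap_map_of_surjective _ Ideal.Quotient.mk_surjective, ← RingHom.ker_eq_comap_bot, Ideal.mk_ker]
    exact sup_eq_left.2 hJ
  obtain ⟨Q₁, hle₁, hp₁, hc₁⟩ := Ideal.exists_ideal_over_prime_of_isIntegral t (Q.map (Ideal.Quotient.mk J)) (by
    show (Q.map (Ideal.Quotient.mk J)).comap ((Ideal.Quotient.mk J).comp (algebraMap A' B')) ≤ t
    rw [← Ideal.comap_comap, hQc]
    exact hQ.over.ge.trans hle)
  haveI := hp₁
  refine @hno (Q₁.comap (Ideal.Quotient.mk J)) (Ideal.IsPrime.comap _)
    (hPQ.trans (hQc.ge.trans (Ideal.comap_mono hle₁))) ⟨?_⟩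
  rw [← hc₁]
  rfl

end Groth.Agent.S1224
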