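import Groth.Statements.S1222
-- import your own Groth.Agent.* helpers here
import Groth.Agent.Lib.FlatCA.FiniteCriterion
import Groth.Agent.Lib.FlatCA.FibreAss
import Groth.Agent.H22.SupportBC
import Groth.Agent.S1224
import Mathlib.RingTheory.Ideal.AssociatedPrime.Localization

set_option autoImplicit false
universe u
open FlatMor

namespace Groth.Agent.S1222

open TensorProduct

attribute [local instance] Algebra.TensorProduct.rightAlgebra

section

variable {A B : Type u} [CommRing A] [CommRing B] [Algebra A B] (N : Type u) [AddCommGroup N] [Module B N]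
  [Module A N] [IsScalarTower A B N] [Module.Finite B N]

/-- The prime of a fibre over a support point is in the support of the fibre module. -/
theorem mem_support_fibre (p : Ideal A) [p.IsPrime] (r : Ideal (p.Fiber B)) [hr : r.IsPrime] :
    (⟨r, hr⟩ : PrimeSpectrum (p.Fiber B)) ∈ Module.support (p.Fiber B) (FlatCA.fiberMod p B N) ↔
      Module.annihilator B N ≤ r.comap (Lib.FlatCA.Impurity.incl p) := by
  refine (Set.ext_iff.1 (Groth.Agent.H22.SupportBC.support_baseChange (R' := p.Fiber B) N) _).trans ?_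
  rw [Set.mem_preimage, Module.support_eq_zeroLocus]
  rfl

/-- Finite fibre supports make the support ring quasi-finite. -/
theorem quasiFinite_quotient [Algebra.FiniteType A B]
    (hfin : ∀ (p : Ideal A) [p.IsPrime], (Module.support (p.Fiber B) (FlatCA.fiberMod p B N)).Finite) :
    Algebra.QuasiFinite A (B ⧸ Module.annihilator B N) := by
  refine Algebra.QuasiFinite.iff_finite_primesOver.2 fun p hp => ?_
  haveI := hp
  let mk := Ideal.Quotient.mk (Module.annihilator B N)
  haveI := (hfin p).to_subtype
  refine Set.finite_coe_iff.1 (Finite.of_injective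
    (fun Q : p.primesOver (B ⧸ Module.annihilator B N) =>
      (show Module.support (p.Fiber B) (FlatCA.fiberMod p B N) from
        haveI := Q.2.1
        haveI : (Q.1.comap mk).LiesOver p := ⟨Q.2.2.over⟩
        ⟨⟨FlatCA.fiberIdeal p (Q.1.comap mk), (Lib.FlatCA.WeakAss.fiberIdeal_prime p _).1⟩,
          haveI := (Lib.FlatCA.WeakAss.fiberIdeal_prime p (Q.1.comap mk)).1
          (mem_support_fibre (N := N) p _).2 (by
            rw [(Lib.FlatCA.WeakAss.fiberIdeal_prime p (Q.1.comap mk)).2]
            intro b hb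
            rw [Ideal.mem_comap, Ideal.Quotient.eq_zero_iff_mem.2 hb]
            exact zero_mem _)⟩)) fun Q Q' h => ?_)
  haveI := Q.2.1
  haveI := Q'.2.1
  haveI : (Q.1.comap mk).LiesOver p := ⟨Q.2.2.over⟩
  haveI : (Q'.1.comap mk).LiesOver p := ⟨Q'.2.2.over⟩
  refine Subtype.ext (Ideal.comap_injective_of_surjective mk Ideal.Quotient.mk_surjective ?_)
  rw [← (Lib.FlatCA.WeakAss.fiberIdeal_prime p (Q.1.comap mk)).2,
    ← (Lib.FlatCA.WeakAss.fiberIdeal_prime p (Q'.1.comap mk)).2,
    show FlatCA.fiberIdeal p (Q.1.comap mk) = FlatCA.fiberIdeal p (Q'.1.comap mk) from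
      congrArg (fun z => z.1.asIdeal) h]

/-- Purity lifts specializations in the support. -/
theorem lifts_of_isPure [Algebra.FiniteType A B] [Algebra.QuasiFinite A (B ⧸ Module.annihilator B N)]
    (hpure : FlatCA.IsPure A B N) (p : Ideal A) [p.IsPrime] :
    Lib.FlatCA.FiniteCriterion.Lifts A (B ⧸ Module.annihilator B N) p := by
  intro A' _ _ t _ hn P hP hle
  let I := Module.annihilator B N
  let π : A' ⊗[A] B →ₐ[A'] A' ⊗[A] (B ⧸ I) :=
    Algebra.TensorProduct.map (AlgHom.id A' A') (Ideal.Quotient.mkₐ A I)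
  have hπ : Function.Surjective π :=
    show Function.Surjective ((Ideal.Quotient.mkₐ A I).toLinearMap.lTensor A') from
      LinearMap.lTensor_surjective A' Ideal.Quotient.mk_surjective
  have hker : RingHom.ker π.toRingHom =
      I.map (Algebra.TensorProduct.includeRight (R := A) (A := A') (B := B)).toRingHom := by
    have := Algebra.TensorProduct.lTensor_ker (A := A') (Ideal.Quotient.mkₐ A I) Ideal.Quotient.mk_surjective
    rw [show RingHom.ker (Ideal.Quotient.mkₐ A I) = I from Ideal.mk_ker] at this
    exact this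
  let B' := A' ⊗[A] B
  let Q : Ideal B' := P.comap π.toRingHom
  let t' : Ideal A' := Q.comap (algebraMap A' B')
  have ht' : t' ≤ t := fun a ha => hle (by
    rw [Ideal.mem_comap, Ideal.mem_comap] at ha
    rw [Ideal.mem_comap, ← AlgHom.commutes π]
    exact ha)
  haveI : Q.LiesOver t' := ⟨rfl⟩
  have hIQ : I ≤ Q.comap (algebraMap B B') := Ideal.map_le_iff_le_comap.1 (hker.ge.trans (Ideal.comap_mono bot_le))
  have hass : FlatCA.fiberIdeal t' Q ∈
      associatedPrimes (t'.Fiber B') (FlatCA.fiberMod t' B' (B' ⊗[B] N)) := by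
    haveI : IsNoetherianRing (t'.Fiber B') := Algebra.FiniteType.isNoetherianRing t'.ResidueField _
    haveI : Module.Finite (t'.Fiber B') (FlatCA.fiberMod t' B' (B' ⊗[B] N)) :=
      Module.Finite.base_change B' (t'.Fiber B') (B' ⊗[B] N)
    obtain ⟨hpr, hcomap⟩ := Lib.FlatCA.WeakAss.fiberIdeal_prime t' Q
    refine Module.associatedPrimes.minimalPrimes_annihilator_subset_associatedPrimes _ _ ?_
    have key : ∀ (r : Ideal (t'.Fiber B')) (hr : r.IsPrime),
        Module.annihilator (t'.Fiber B') (FlatCA.fiberMod t' B' (B' ⊗[B] N)) ≤ r ↔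
          I ≤ (r.comap (Lib.FlatCA.Impurity.incl t')).comap (algebraMap B B') := by
      intro r hr
      haveI := hr
      have h1 := Module.support_eq_zeroLocus (R := t'.Fiber B') (M := FlatCA.fiberMod t' B' (B' ⊗[B] N))
      rw [show Module.annihilator (t'.Fiber B') (FlatCA.fiberMod t' B' (B' ⊗[B] N)) ≤ r ↔
        (⟨r, hr⟩ : PrimeSpectrum _) ∈ Module.support (t'.Fiber B') (FlatCA.fiberMod t' B' (B' ⊗[B] N)) from
          by rw [h1]; exact Iff.rfl]
      refine (Set.ext_iff.1 (Groth.Agent.H22.SupportBC.support_baseChange (R' := t'.Fiber B') (B' ⊗[B] N)) _).trans ?_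
      rw [Set.mem_preimage, Groth.Agent.H22.SupportBC.support_baseChange, Set.mem_preimage,
        Module.support_eq_zeroLocus]
      rfl
    refine ⟨⟨hpr, (key _ hpr).2 (by rw [hcomap]; exact hIQ)⟩, fun r hr hrle => ?_⟩
    haveI := hr.1
    have h0 := (key r hr.1).1 hr.2
    let r₀ := r.comap (Lib.FlatCA.Impurity.incl t')
    haveI : r₀.LiesOver t' := Lib.FlatCA.FibreAss.liesOver_comap t' r
    have hker0 : RingHom.ker π.toRingHom ≤ r₀ := hker.le.trans (Ideal.map_le_iff_le_comap.2 h0)
    have hkerQ : RingHom.ker π.toRingHom ≤ Q := Ideal.comap_mono bot_le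
    haveI : (r₀.map π.toRingHom).IsPrime := Ideal.map_isPrime_of_surjective hπ hker0
    have hback : ∀ (J : Ideal B'), RingHom.ker π.toRingHom ≤ J → (J.map π.toRingHom).comap π.toRingHom = J := by
      intro J hJ
      rw [Ideal.comap_map_of_surjective π.toRingHom hπ, ← RingHom.ker_eq_comap_bot]
      exact sup_eq_left.2 hJ
    have hle0 : r₀ ≤ Q := (Ideal.comap_mono hrle).trans hcomap.le
    have heq : r₀.map π.toRingHom = P := by
      refine Algebra.QuasiFinite.eq_of_le_of_under_eq (R := A') _ _
        ((Ideal.map_mono hle0).trans Ideal.map_comap_le) (Ideal.ext fun a => ?_)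
      show algebraMap A' (A' ⊗[A] (B ⧸ I)) a ∈ r₀.map π.toRingHom ↔ algebraMap A' (A' ⊗[A] (B ⧸ I)) a ∈ P
      rw [← AlgHom.commutes π]
      show algebraMap A' B' a ∈ (r₀.map π.toRingHom).comap π.toRingHom ↔ a ∈ t'
      rw [hback _ hker0, Ideal.LiesOver.over (p := t') (P := r₀)]
      rfl
    rw [← Lib.FlatCA.WeakAss.map_comap_incl t' r]
    refine Ideal.map_mono ?_
    show Q ≤ r₀
    rw [← hback _ hker0, heq]
  haveI := hn.2.choose
  obtain ⟨P₁, hP₁, hQP, hP₁t⟩ : ∃ (P₁ : Ideal B') (_ : P₁.IsPrime), Q ≤ P₁ ∧ P₁.LiesOver t := by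
    by_contra hcon
    push Not at hcon
    exact hpure p A' B' (B' ⊗[B] N) (TensorProduct.mk B B' N 1) t' t Q hn
      ⟨inferInstance, TensorProduct.isBaseChange B N B', ht', inferInstance, inferInstance, hass,
        fun P' hP' hPP' hl => hcon P' hP' hPP' hl⟩
  have hk : RingHom.ker π.toRingHom ≤ P₁ := le_trans (Ideal.comap_mono bot_le) hQP
  refine ⟨P₁.map π.toRingHom, Ideal.map_isPrime_of_surjective hπ hk, ?_, ?_⟩
  · rw [← Ideal.map_comap_of_surjective π.toRingHom hπ P]
    exact Ideal.map_mono hQP
  · rw [hP₁t.over]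
    ext a
    rw [Ideal.mem_comap, ← AlgHom.commutes π]
    show algebraMap A' B' a ∈ (P₁.map π.toRingHom).comap π.toRingHom ↔ _
    rw [Ideal.comap_map_of_surjective π.toRingHom hπ, ← RingHom.ker_eq_comap_bot, sup_eq_left.2 hk]
    rfl

end

/-- Ring form, X = Spec B affine hence separated over Spec A: let B be a finite type A-algebra and N a
finite B-module such that for every prime p of A the fibre module of N over p has finite support.
Then the following are equivalent: N is pure relative to Spec A; the scheme-theoretic support of N,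
namely B modulo the annihilator of N, is finite over A; N is universally pure relative to Spec A. -/
theorem result {A B : Type u} [CommRing A] [CommRing B] [Algebra A B] [Algebra.FiniteType A B]
    (N : Type u) [AddCommGroup N] [Module B N] [Module A N] [IsScalarTower A B N] [Module.Finite B N]
    (hfin : ∀ (p : Ideal A) [p.IsPrime], (Module.support (p.Fiber B) (FlatCA.fiberMod p B N)).Finite) :
    [FlatCA.IsPure A B N, Module.Finite A (B ⧸ Module.annihilator B N), FlatCA.IsUnivPure A B N].TFAE := by
  tfae_have 1 → 2 := fun h => by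
    haveI := quasiFinite_quotient N hfin
    exact Lib.FlatCA.FiniteCriterion.finite_of_lifts fun p _ => lifts_of_isPure N h p
  tfae_have 2 → 3 := fun h => Groth.Agent.S1224.result N
  tfae_have 3 → 1 := fun h p _ A' B' N' _ _ _ _ _ _ _ _ _ _ _ _ _ _ f t' t _ _ P _ _ =>
    h p A' B' N' f t' t P
  tfae_finish

end Groth.Agent.S1222
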