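import Groth.Statements.S12221
import Groth.Agent.H2.CanExt.Stalk
import Groth.Agent.H2.CanExt.FlatQuasi

set_option autoImplicit false
universe u
open CategoryTheory AlgebraicGeometry Opposite
open Algz

namespace Groth.Agent.S12221

/-- Let A be a Noetherian ring, I ⊆ 𝔞 ideals, U the complement of V(𝔞) in Spec A and (F_n) an object of
Coh(U, IO_U), indexed here from 0. Assume that for some Noetherian local ring R with maximal ideal 𝔪
and some ring map φ : R → A we have (1) I = 𝔪A, (2) for every point y of U lying in V(I) the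
completed stalk F_y^∧ is flat as an R-module (through R → A → O_{U,y} → O_{U,y}^∧), and (3) the
cohomology groups H^0(U, F_0), H^1(U, F_0) are finitely generated over A. Then (F_n) has a canonical
extension to Spec A. -/
theorem result (A : Type u) [CommRing A] [IsNoetherianRing A] (I 𝔞 : Ideal A) (hI𝔞 : I ≤ 𝔞)
    (G : ℕᵒᵖ ⥤ (↑(LocCoh.puncturedOpen A 𝔞) : Scheme.{u}).Modules) (hG : Formal.IsCohFormal I G)
    (R : Type u) [CommRing R] [IsNoetherianRing R] [IsLocalRing R] (φ : R →+* A)
    (h1 : I = Ideal.map φ (IsLocalRing.maximalIdeal R))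
    (h2 : ∀ (y : (↑(LocCoh.puncturedOpen A 𝔞) : Scheme.{u})), (LocCoh.puncturedOpen A 𝔞).ι.base y ∈ PrimeSpectrum.zeroLocus (R := A) I →
      letI : Module R ↥(Algz.hatStalk I G y) := Module.compHom ↥(Algz.hatStalk I G y)
        ((algebraMap ((↑(LocCoh.puncturedOpen A 𝔞) : Scheme.{u}).presheaf.stalk y) (Algz.hatRing I y)).comp ((Algz.toStalk A (↑(LocCoh.puncturedOpen A 𝔞) : Scheme.{u}) y).comp φ));
      Module.Flat R ↥(Algz.hatStalk I G y))
    (h3 : Module.Finite A (Coh.HH (↑(LocCoh.puncturedOpen A 𝔞) : Scheme.{u}) (G.obj (op 0)) 0) ∧ Module.Finite A (Coh.HH (↑(LocCoh.puncturedOpen A 𝔞) : Scheme.{u}) (G.obj (op 0)) 1)) :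
    Algz.CanonicallyExtends A I (LocCoh.puncturedOpen A 𝔞) G := by
  classical
  refine H2.CanExt.Crit.canonicallyExtends hG (fun n => ?_) h3.1 h3.2
  obtain ⟨N, t, ht, hgen, hind⟩ := H2.CanExt.FlatQuasi.exists_basis (R := R) (n + 1)
  have hb : ∀ i, φ (t i) ∈ I ^ (n + 1) := fun i => by
    rw [h1, ← Ideal.map_pow]
    exact Ideal.mem_map_of_mem φ (ht i)
  refine ⟨N, fun i => φ (t i), hb, H2.CanExt.Stalk.isIso_desc hG _ hb (fun y => ?_) (fun y x hx => ?_)⟩
  all_goals
    let ρ : R →+* (↑(LocCoh.puncturedOpen A 𝔞) : Scheme.{u}).presheaf.stalk y :=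
      (Algz.toStalk A (↑(LocCoh.puncturedOpen A 𝔞) : Scheme.{u}) y).comp φ
    have hJ : Algz.stalkIdeal I y = (IsLocalRing.maximalIdeal R).map ρ := by
      rw [h1, Algz.stalkIdeal, Ideal.map_map]
  · rw [hJ, ← Ideal.map_pow, ← Ideal.map_pow]
    refine (Ideal.map_mono hgen).trans (le_of_eq ?_)
    rw [Ideal.map_sup, Ideal.map_span, ← Set.range_comp]
    rfl
  · by_cases hy : (LocCoh.puncturedOpen A 𝔞).ι.base y ∈ PrimeSpectrum.zeroLocus (R := A) I
    · letI : Module R ↥(Algz.hatStalk I G y) := Module.compHom ↥(Algz.hatStalk I G y)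
        ((algebraMap ((↑(LocCoh.puncturedOpen A 𝔞) : Scheme.{u}).presheaf.stalk y) (Algz.hatRing I y)).comp ((Algz.toStalk A (↑(LocCoh.puncturedOpen A 𝔞) : Scheme.{u}) y).comp φ))
      haveI : Module.Flat R ↥(Algz.hatStalk I G y) := h2 y hy
      have hsm : ∀ (r : R) (z : ↥(Algz.hatStalk I G y)), r • z = ρ r • z := fun r z =>
        algebraMap_smul (Algz.hatRing I y) (ρ r) z
      have hto : ∀ k : ℕ, ∀ z ∈ Algz.stalkIdeal I y ^ k • (⊤ : Submodule ((↑(LocCoh.puncturedOpen A 𝔞) :
          Scheme.{u}).presheaf.stalk y) ↥(Algz.hatStalk I G y)),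
          z ∈ IsLocalRing.maximalIdeal R ^ k • (⊤ : Submodule R ↥(Algz.hatStalk I G y)) := by
        intro k z hz
        refine Submodule.smul_induction_on hz (fun q hq w _ => ?_) fun _ _ ha hb => add_mem ha hb
        rw [hJ, ← Ideal.map_pow] at hq
        revert w
        induction hq using Submodule.span_induction with
        | mem q hq =>
          obtain ⟨r, hr, rfl⟩ := hq
          intro w _
          rw [← hsm]
          exact Submodule.smul_mem_smul hr trivial
        | zero => intro w _; rw [zero_smul]; exact zero_mem _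
        | add p q _ _ hp hq => intro w _; rw [add_smul]; exact add_mem (hp w trivial) (hq w trivial)
        | smul c q _ hq => intro w _; rw [smul_eq_mul, mul_comm, mul_smul]; exact hq _ trivial
      intro i
      have hx' : ∑ i, t i • x i ∈ IsLocalRing.maximalIdeal R ^ (n + 1 + 1) • (⊤ : Submodule R ↥(Algz.hatStalk I G y)) := by
        simp only [hsm]
        exact hto _ _ hx
      refine Submodule.smul_induction_on (H2.CanExt.FlatQuasi.mem_smul_top t hind x hx' i)
        (fun r hr z _ => ?_) fun _ _ ha hb => add_mem ha hb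
      rw [hsm]
      exact Submodule.smul_mem_smul (hJ ▸ Ideal.mem_map_of_mem ρ hr) trivial
    · intro i
      have h : (1 : (↑(LocCoh.puncturedOpen A 𝔞) : Scheme.{u}).presheaf.stalk y) ∈ Algz.stalkIdeal I y :=
        (H2.CanExt.Stalk.stalkIdeal_eq_top y hy).ge trivial
      exact (one_smul ((↑(LocCoh.puncturedOpen A 𝔞) : Scheme.{u}).presheaf.stalk y) (x i)) ▸
        Submodule.smul_mem_smul h trivial

end Groth.Agent.S12221
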