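import Groth.Statements.S12222
import Groth.Agent.Lib.Henselian.QuasiFinite

set_option autoImplicit false
universe u
open Hensel

namespace Groth.Agent.S12222

/-- (11) ⇒ (1): let R be a local ring such that every finite-type R-algebra S can be written as a
product A × B with A finite over R and R → B quasi-finite at no prime lying over the maximal ideal —
concretely, S has an idempotent e with S/(1 − e) finite over R and R → S/(e) quasi-finite at no
prime over the maximal ideal. Then R is henselian. -/
theorem result (R : Type u) [CommRing R] [IsLocalRing R]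
    (h : ∀ (S : Type u) [CommRing S] [Algebra R S] [Algebra.FiniteType R S],
      ∃ e : S, IsIdempotentElem e ∧ Module.Finite R (S ⧸ Ideal.span ({1 - e} : Set S)) ∧
        ∀ (q : Ideal (S ⧸ Ideal.span ({e} : Set S))) [q.IsPrime],
          q.LiesOver (IsLocalRing.maximalIdeal R) → ¬ Algebra.QuasiFiniteAt R q) :
    HenselianLocalRing R := by
  rw [Groth.Agent.Lib.Henselian.LocalRing.henselianLocalRing_iff_henselianRing]
  refine Groth.Agent.Lib.Henselian.Finite.henselianRing_of_adjoinRoot_surjOn _
    (IsLocalRing.maximalIdeal_le_jacobson ⊥) fun m p hp _ => ?_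
  have := hp.finite_adjoinRoot
  suffices hfin : ∀ n : MaximalSpectrum (AdjoinRoot p),
      Module.Finite R (Localization.AtPrime n.asIdeal) by
    have hb := Groth.Agent.Lib.Henselian.QuasiFinite.toPiLocalization_bijective_of_finite_localizations hfin
    exact Groth.Agent.Lib.Henselian.Finite.surjOn_of_ringEquiv_pi (RingEquiv.ofBijective _ hb) _
  intro n
  set B := AdjoinRoot p
  have : Finite (MaximalSpectrum B) := Groth.Agent.Lib.Henselian.Finite.finite_maximalSpectrum R
  classical
  cases nonempty_fintype (MaximalSpectrum B)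
  -- `b` avoids exactly `n` among the maximal ideals
  obtain ⟨b, hbn, hb⟩ : ∃ b : B, b ∉ n.asIdeal ∧ ∀ n' : MaximalSpectrum B, n' ≠ n → b ∈ n'.asIdeal := by
    have hsel : ∀ n' : MaximalSpectrum B, ∃ c, c ∉ n.asIdeal ∧ (n' ≠ n → c ∈ n'.asIdeal) := fun n' => by
      rcases eq_or_ne n' n with rfl | hne
      · exact ⟨1, fun h1 => n'.isMaximal.ne_top ((Ideal.eq_top_iff_one _).mpr h1), fun h' => absurd rfl h'⟩
      · obtain ⟨c, hc, hc'⟩ := SetLike.not_le_iff_exists.mp fun hle =>
          hne (MaximalSpectrum.ext (n'.isMaximal.eq_of_le n.isMaximal.ne_top hle))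
        exact ⟨c, hc', fun _ => hc⟩
    choose c hc hc' using hsel
    refine ⟨∏ n', c n', fun hmem => ?_, fun n' hn' =>
      Ideal.mem_of_dvd _ (Finset.dvd_prod_of_mem c (Finset.mem_univ n')) (hc' n' hn')⟩
    obtain ⟨n', -, h'⟩ := (Ideal.IsPrime.prod_mem_iff (hp := n.isMaximal.isPrime)).mp hmem
    exact hc n' h'
  let S := Localization.Away b
  have : Algebra.FiniteType R S := Algebra.FiniteType.trans (S := B) inferInstance inferInstance
  have : Algebra.QuasiFinite R S := Algebra.QuasiFinite.of_isLocalization (S := B) (Submonoid.powers b)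
  obtain ⟨e, he, hA, hnot⟩ := h S
  let J := Ideal.span ({1 - e} : Set S)
  let L := Localization.AtPrime n.asIdeal
  let θ : S →+* L := IsLocalization.Away.lift b
    (IsLocalization.map_units L (⟨b, hbn⟩ : n.asIdeal.primeCompl))
  have hθ : ∀ y : B, θ (algebraMap B S y) = algebraMap B L y := fun y =>
    IsLocalization.Away.lift_eq b _ y
  have hθR : ∀ r : R, θ (algebraMap R S r) = algebraMap R L r := fun r => by
    rw [IsScalarTower.algebraMap_apply R B S, hθ, ← IsScalarTower.algebraMap_apply]
  let q := (IsLocalRing.maximalIdeal L).comap θ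
  have hqn : q.comap (algebraMap B S) = n.asIdeal := by
    ext y
    rw [Ideal.mem_comap, Ideal.mem_comap, hθ]
    exact IsLocalization.AtPrime.to_map_mem_maximal_iff L n.asIdeal y
  have hqlo : q.comap (algebraMap R S) = IsLocalRing.maximalIdeal R := by
    rw [IsScalarTower.algebraMap_eq R B S, ← Ideal.comap_comap, hqn]
    exact IsLocalRing.eq_maximalIdeal (Ideal.isMaximal_comap_of_isIntegral_of_isMaximal n.asIdeal)
  have heq : e ∉ q := by
    intro hmem
    have hle : Ideal.span ({e} : Set S) ≤ q := (Ideal.span_singleton_le_iff_mem _).mpr hmem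
    have hp' : (q.map (Ideal.Quotient.mk (Ideal.span ({e} : Set S)))).IsPrime :=
      Ideal.map_isPrime_of_surjective Ideal.Quotient.mk_surjective (by rw [Ideal.mk_ker]; exact hle)
    refine hnot (q.map (Ideal.Quotient.mk (Ideal.span ({e} : Set S)))) ⟨?_⟩ inferInstance
    conv_lhs => rw [← hqlo]
    rw [Ideal.under_def, IsScalarTower.algebraMap_eq R S (S ⧸ Ideal.span ({e} : Set S)),
      ← Ideal.comap_comap, Ideal.Quotient.algebraMap_eq,
      Ideal.comap_map_of_surjective _ Ideal.Quotient.mk_surjective, ← RingHom.ker_eq_comap_bot,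
      Ideal.mk_ker, sup_eq_left.mpr hle]
  have hθJ : J ≤ RingHom.ker θ := by
    have hu : IsUnit (θ e) := IsLocalRing.notMem_maximalIdeal.mp heq
    rw [Ideal.span_le, Set.singleton_subset_iff, SetLike.mem_coe, RingHom.mem_ker, map_sub, map_one,
      IsIdempotentElem.iff_eq_one_of_isUnit hu |>.mp (he.map _), sub_self]
  let g : (S ⧸ J) →ₐ[R] L :=
    { toRingHom := Ideal.Quotient.lift J θ fun a ha => hθJ ha
      commutes' := fun r => hθR r }
  let φ : B →+* S ⧸ J := (Ideal.Quotient.mk J).comp (algebraMap B S)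
  refine Module.Finite.of_surjective g.toLinearMap fun y => ?_
  obtain ⟨x, ⟨u, hu⟩, rfl⟩ := IsLocalization.exists_mk'_eq n.asIdeal.primeCompl y
  have hunit : IsUnit (φ u) := by
    by_contra hne
    obtain ⟨M, hM, hmem⟩ := exists_max_ideal_of_mem_nonunits (mem_nonunits_iff.mpr hne)
    have hMm : (M.comap φ).comap (algebraMap R B) = IsLocalRing.maximalIdeal R := by
      rw [Ideal.comap_comap]
      refine IsLocalRing.eq_maximalIdeal ?_
      rw [show φ.comp (algebraMap R B) = algebraMap R (S ⧸ J) by
        ext r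
        show Ideal.Quotient.mk J (algebraMap B S (algebraMap R B r)) = _
        rw [← IsScalarTower.algebraMap_apply]; rfl]
      exact Ideal.isMaximal_comap_of_isIntegral_of_isMaximal M
    have : (M.comap φ).IsPrime := Ideal.IsPrime.comap φ
    have hmax : (M.comap φ).IsMaximal := Ideal.isMaximal_of_isIntegral_of_isMaximal_comap (R := R) _
      (by rw [hMm]; infer_instance)
    rcases eq_or_ne (⟨_, hmax⟩ : MaximalSpectrum B) n with heq' | hne'
    · exact hu (congrArg MaximalSpectrum.asIdeal heq' ▸ hmem)
    · exact hM.ne_top (Ideal.eq_top_of_isUnit_mem _ (hb _ hne')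
        ((IsLocalization.Away.algebraMap_isUnit (S := S) b).map (Ideal.Quotient.mk J)))
  refine ⟨φ x * ↑hunit.unit⁻¹, ?_⟩
  have hgφ : ∀ z, g (φ z) = algebraMap B L z := fun z => hθ z
  show g (φ x * ↑hunit.unit⁻¹) = _
  rw [IsLocalization.eq_mk'_iff_mul_eq, ← hgφ u, ← hgφ x, ← map_mul, mul_assoc,
    IsUnit.val_inv_mul, mul_one]

end Groth.Agent.S12222
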