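import Groth.Statements.S1223
import Groth.Agent.Lib.FlatCA.Impurity

set_option autoImplicit false
universe u
open FlatMor
open AlgebraicGeometry CategoryTheory

namespace Groth.Agent.S1223
attribute [local instance] Algebra.TensorProduct.rightAlgebra

/-- Ring form, X = Spec B affine: a finite type, flat A-algebra B with geometrically integral fibres is
universally pure relative to Spec A. -/
theorem result {A B : Type u} [CommRing A] [CommRing B] [Algebra A B] [Algebra.FiniteType A B] [Module.Flat A B]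
    (h : FlatCA.GeomIntegralFibres A B) : FlatCA.IsUnivPure A B B := by
  intro p _ A' B' N' _ _ _ _ _ _ _ _ _ _ _ _ _ _ f t' t _ _ P _ h'
  obtain ⟨hpo, hbc, hle, _, hPt, hass, hno⟩ := h'
  haveI : Module.Flat A' B' := Module.Flat.isBaseChange A A' B B' hpo.symm.out
  haveI hgi : GeometricallyIntegral (Spec.map (CommRingCat.ofHom (algebraMap A' B'))) :=
    MorphismProperty.of_isPullback (P := @GeometricallyIntegral)
      (isPullback_SpecMap_of_isPushout _ _ _ _ (CommRingCat.isPushout_iff_isPushout.2 hpo)) h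
  have hdom : ∀ (s : Ideal A') [s.IsPrime], IsDomain (s.Fiber B') := fun s _ =>
    (affine_isIntegral_iff (CommRingCat.of (s.Fiber B'))).1 (hgi.geometrically_isIntegral _ _ _
      (isPullback_SpecMap_of_isPushout _ _ _ _ (CommRingCat.isPushout_tensorProduct A' s.ResidueField B')).flip)
  haveI := hdom t
  haveI := hdom t'
  obtain ⟨ξ⟩ : Nonempty (PrimeSpectrum (t.Fiber B')) := inferInstance
  obtain ⟨⟨Q, hQp⟩, hQc⟩ : ∃ Q : PrimeSpectrum B', PrimeSpectrum.comap (algebraMap A' B') Q = ⟨t, inferInstance⟩ :=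
    ⟨_, ((PrimeSpectrum.preimageEquivFiber A' B' ⟨t, inferInstance⟩).symm ξ).2⟩
  haveI := hQp
  haveI hQt : Q.LiesOver t := ⟨(congrArg PrimeSpectrum.asIdeal hQc).symm⟩
  obtain ⟨Q', hQ'Q, _, hQ'⟩ := Ideal.exists_ideal_le_liesOver_of_le Q hle
  suffices hbot : FlatCA.fiberIdeal t' P = ⊥ by
    refine @hno Q hQp (le_trans (fun x hx => ?_) hQ'Q) hQt
    have h0 : Lib.FlatCA.Impurity.incl t' x = 0 :=
      Ideal.mem_bot.1 (hbot ▸ Ideal.mem_map_of_mem _ hx)
    let η := PrimeSpectrum.preimageEquivFiber A' B' ⟨t', inferInstance⟩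
      ⟨⟨Q', inferInstance⟩, PrimeSpectrum.ext hQ'.over.symm⟩
    have hη : η.asIdeal.comap (Lib.FlatCA.Impurity.incl t') = Q' :=
      congrArg (fun z => z.1.asIdeal) ((PrimeSpectrum.preimageEquivFiber A' B' ⟨t', inferInstance⟩).symm_apply_apply
        ⟨⟨Q', inferInstance⟩, PrimeSpectrum.ext hQ'.over.symm⟩)
    rw [← hη, Ideal.mem_comap, h0]
    exact zero_mem _
  obtain ⟨hpr, x, hx⟩ := hass
  let e₁ : N' ≃ₗ[B'] B' := hbc.equiv.symm.trans (TensorProduct.AlgebraTensorModule.rid B B' B')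
  let e : FlatCA.fiberMod t' B' N' ≃ₗ[t'.Fiber B'] t'.Fiber B' :=
    (LinearEquiv.baseChange B' (t'.Fiber B') N' B' e₁).trans
      (TensorProduct.AlgebraTensorModule.rid B' (t'.Fiber B') (t'.Fiber B'))
  have hx0 : x ≠ 0 := by
    rintro rfl
    refine hpr.ne_top (hx.trans ?_)
    rw [Ideal.radical_eq_top, Ideal.eq_top_iff_one, Submodule.mem_colon_singleton, smul_zero]
    exact zero_mem _
  have hcolon : Submodule.colon (⊥ : Submodule (t'.Fiber B') (FlatCA.fiberMod t' B' N')) {x} = ⊥ := by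
    refine (Submodule.eq_bot_iff _).2 fun c hc => ?_
    rw [Submodule.mem_colon_singleton, Submodule.mem_bot] at hc
    have h2 : c * e x = 0 := by rw [← smul_eq_mul, ← map_smul, hc, map_zero]
    exact (mul_eq_zero.1 h2).resolve_right fun h => hx0 (e.map_eq_zero_iff.1 h)
  rw [hx, hcolon]
  exact (Ideal.isPrime_bot : (⊥ : Ideal (t'.Fiber B')).IsPrime).radical

end Groth.Agent.S1223
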