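import Groth.Statements.S1536
import Groth.Agent.H2.Rigid.H0
import Groth.Agent.Lib.Curves.GlobalSections

set_option autoImplicit false
universe u
open CategoryTheory CategoryTheory.Limits AlgebraicGeometry
open Variety

namespace Groth.Agent.S1536

/-- For a proper scheme X over a field k which is geometrically reduced and geometrically connected,
H^0(X, O_X) is one-dimensional over k, i.e. the global functions are the constants. -/
theorem result (k : Type u) [Field k] (X : Scheme.{u}) [X.Over (Spec (CommRingCat.of k))] [IsProper (X ↘ (Spec (CommRingCat.of k)))]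
    [GeometricallyReduced (X ↘ (Spec (CommRingCat.of k)))] [GeometricallyConnected (X ↘ (Spec (CommRingCat.of k)))] :
    Module.finrank k (Coh.HH X (Coh.structureModule X) 0) = 1 := by
  let f := X ↘ Spec (CommRingCat.of k)
  have hH0 : Groth.Agent.H2.Rigid.H0 f := Groth.Agent.H2.Rigid.H0.of_geometrically f
  have hs : Function.Surjective f.appTop.hom :=
    hH0.isPullback (L := k) (pt := 𝟙 (Spec (CommRingCat.of k))) (p₁ := 𝟙 X)
      (IsPullback.of_horiz_isIso ⟨by rw [Category.id_comp, Category.comp_id]⟩)
  haveI : ConnectedSpace X := by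
    haveI : ConnectedSpace ↥(Limits.pullback f (𝟙 (Spec (CommRingCat.of k)))) :=
      pullback_of_geometrically GeometricallyConnected.geometrically_connectedSpace k (𝟙 _)
    exact (Limits.pullback.fst f (𝟙 (Spec (CommRingCat.of k)))).surjective.connectedSpace
      (Limits.pullback.fst f (𝟙 (Spec (CommRingCat.of k)))).continuous
  haveI : Nontrivial Γ(X, ⊤) :=
    haveI : Nonempty ((⊤ : X.Opens) : Scheme.{u}) := ⟨⟨Classical.arbitrary _, trivial⟩⟩
    inferInstance
  let φ : k →+* Γ(X, ⊤) := Coh.toGlobal f
  have hφ : Function.Bijective φ := ⟨φ.injective, hs.comp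
    (ConcreteCategory.bijective_of_isIso (Scheme.ΓSpecIso (CommRingCat.of k)).inv).2⟩
  letI : Algebra k Γ(X, ⊤) := φ.toAlgebra
  letI := Groth.Agent.Lib.Curves.GlobalSections.secModule k (Coh.structureModule X)
  rw [(Groth.Agent.Lib.Curves.GlobalSections.h0Linear k (Coh.structureModule X)).finrank_eq]
  exact ((AlgEquiv.ofBijective (Algebra.ofId k Γ(X, ⊤)) hφ).toLinearEquiv.finrank_eq).symm.trans
    (Module.finrank_self k)


end Groth.Agent.S1536
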