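import Groth.Statements.S12235
import Groth.Agent.Lib.Flat55.CurveNormalizationH0
import Groth.Agent.S1536

set_option autoImplicit false
universe u
open CategoryTheory CategoryTheory.Limits AlgebraicGeometry
open Curves

namespace Groth.Agent.S12235

/-- Let k be a field, X a proper geometrically irreducible curve over k (proper over k, integral, of
dimension one), K/k a field extension and Y_K the normalization of the reduction of X_K (that
reduction is integral). If Y_K is smooth over K then H^0(Y_K, O) = K: the global functions of Y_K
form a one-dimensional K-vector space. (Stated for proper X; the instance hypotheses on (X_K)_red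
always hold.) -/
theorem result (k : Type u) [Field k] (X : Scheme.{u})
    [X.Over (Spec (CommRingCat.of k))] [IsIntegral X] [IsProper (X ↘ (Spec (CommRingCat.of k)))]
    [GeometricallyIrreducible (X ↘ (Spec (CommRingCat.of k)))] (hdim : topologicalKrullDim X = 1)
    (K : Type u) [Field K] [Algebra k K] [IsIntegral ((Curv2.bc k X K).nilradical).subscheme]
    [QuasiCompact ((((Curv2.bc k X K).nilradical).subscheme).fromSpecStalk (genericPoint ((Curv2.bc k X K).nilradical).subscheme))]
    [QuasiSeparated ((((Curv2.bc k X K).nilradical).subscheme).fromSpecStalk (genericPoint ((Curv2.bc k X K).nilradical).subscheme))]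
    (hsm : Smooth (Curv2.normalizationι ((Curv2.bc k X K).nilradical).subscheme ≫ ((Curv2.bc k X K).nilradical).subschemeι ≫ Curv2.bcSnd k X K)) :
    letI : (Curv2.normalization ((Curv2.bc k X K).nilradical).subscheme).Over (Spec (CommRingCat.of K)) := ⟨(Curv2.normalizationι ((Curv2.bc k X K).nilradical).subscheme ≫ ((Curv2.bc k X K).nilradical).subschemeι ≫ Curv2.bcSnd k X K)⟩
    Module.finrank K (Coh.HH (Curv2.normalization ((Curv2.bc k X K).nilradical).subscheme) (Coh.structureModule (Curv2.normalization ((Curv2.bc k X K).nilradical).subscheme)) 0) = 1 := by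
  let Z := (Curv2.bc k X K).nilradical.subscheme
  let h := (Curv2.bc k X K).nilradical.subschemeι ≫ Curv2.bcSnd k X K
  have : Smooth (Curv2.normalizationι Z ≫ h) := hsm
  let : Z.Over (Spec (CommRingCat.of K)) := ⟨h⟩
  have : LocallyOfFiniteType (Z ↘ Spec (CommRingCat.of K)) := (inferInstance : LocallyOfFiniteType h)
  obtain ⟨hfin, -⟩ := Groth.Agent.S1585.result K Z
  have : IsFinite (Curv2.normalizationι Z) := hfin
  have : IsProper (Curv2.normalizationι Z ≫ h) := inferInstance
  have := Groth.Agent.Lib.Flat55.CurveNormalizationH0.geometricallyConnected k X K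
  have : GeometricallyReduced (Curv2.normalizationι Z ≫ h) := by
    refine ⟨geometrically_iff_of_isClosedUnderIsomorphisms.mpr fun L _ y => ?_⟩
    have : Smooth (pullback.snd (Curv2.normalizationι Z ≫ h) y) := MorphismProperty.pullback_snd _ _ ‹_›
    exact Groth.Agent.Lib.Flat55.CurveNormalizationBC.isReduced_of_smooth (pullback.snd (Curv2.normalizationι Z ≫ h) y)
  exact @Groth.Agent.S1536.result K _ (Curv2.normalization Z) ⟨Curv2.normalizationι Z ≫ h⟩ ‹_› ‹_› ‹_›

end Groth.Agent.S12235
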