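import Groth.Statements.S12241
import Groth.Agent.H69.Shrink.Main

set_option autoImplicit false
universe u
open FlatMor

namespace Groth.Agent.S12241

open TensorProduct in
/-- All schemes are affine and standard opens are rendered as localizations away from one element. Let R
→ S be of finite type, N a finite S-module, p ⊆ R and q ⊆ S primes with q over p, and (C, D, G, n;
z, y) a one-step dévissage of N/S/R at q: (C, D, G, n) is a one-step dévissage over p (C a finitely
presented quotient of S carrying a finite module G identified with N, D smooth of relative dimension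
n over R with geometrically irreducible fibres, D → C finite, n the dimension of the support of N ⊗
κ(p)), z is a prime of C over q and over the prime y of D, the local dimension at q of that support
is n, z is the only prime of C over y, and κ(y)/κ(p) is purely transcendental. Then for every u ∈ S
outside q (an open neighbourhood D(u) of the point q) there is a standard shrinking inside D(u):
elements g ∉ p, hX ∉ q, hZ ∉ z, hY ∉ y with u invertible in S[1/hX], and ring and module structures
making S[1/hX], C[1/hZ], D[1/hY] algebras over R[1/g], C[1/hZ] an algebra over S[1/hX] and over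
D[1/hY], all compatibly with the given maps, such that (C[1/hZ], D[1/hY], G[1/hZ], n) is a one-step
dévissage of N[1/hX] over S[1/hX] relative to R[1/g] at the extended prime of q, with the extended
primes of z and y as its points (z-point over the q-point and the y-point, unique over the y-point,
purely transcendental residue field over that of pR[1/g], and local dimension n of the fibre support
at the q-point). -/
theorem result
    (R S : Type u) [CommRing R] [CommRing S] [Algebra R S] [Algebra.FiniteType R S]
    (N : Type u) [AddCommGroup N] [Module S N] [Module R N] [IsScalarTower R S N] [Module.Finite S N]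
    (p : Ideal R) [p.IsPrime] (q : Ideal S) [q.IsPrime] [q.LiesOver p]
    (C D G : Type u) [CommRing C] [CommRing D] [Algebra S C] [Algebra R C] [IsScalarTower R S C]
    [Algebra R D] [Algebra D C] [IsScalarTower R D C] [AddCommGroup G] [Module C G] [Module S G]
    [IsScalarTower S C G] (n : ℕ)
    (h : FlatCA.IsOneStepDevissage R S N p C D G n)
    (z : Ideal C) [z.IsPrime] (y : Ideal D) [y.IsPrime] [z.LiesOver q] [z.LiesOver y] [y.LiesOver p]
    (h1 : ∃ (ξ : PrimeSpectrum (p.Fiber S)) (hξ : ξ ∈ Module.support (p.Fiber S) (FlatCA.fiberMod p S N)),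
      ξ.asIdeal = FlatCA.fiberIdeal p q ∧
      FlatMor.localDim (Module.support (p.Fiber S) (FlatCA.fiberMod p S N)) ⟨ξ, hξ⟩ = n)
    (h3 : ∀ (z₁ : Ideal C) [z₁.IsPrime], z₁.LiesOver y → z₁ = z)
    (h4 : FlatCA.PurelyTranscendental p y)
    (u : S) (hu : u ∉ q) :
    ∃ (g : R) (hX : S) (hZ : C) (hY : D), g ∉ p ∧ hX ∉ q ∧ hZ ∉ z ∧ hY ∉ y ∧
      IsUnit (algebraMap S (Localization.Away hX) u) ∧
      ∃ (_ : Algebra (Localization.Away g) (Localization.Away hX)) (_ : IsScalarTower R (Localization.Away g) (Localization.Away hX))
        (_ : Algebra (Localization.Away g) (Localization.Away hZ)) (_ : IsScalarTower R (Localization.Away g) (Localization.Away hZ))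
        (_ : Algebra (Localization.Away g) (Localization.Away hY)) (_ : IsScalarTower R (Localization.Away g) (Localization.Away hY))
        (_ : Algebra (Localization.Away hX) (Localization.Away hZ)) (_ : IsScalarTower S (Localization.Away hX) (Localization.Away hZ))
        (_ : IsScalarTower (Localization.Away g) (Localization.Away hX) (Localization.Away hZ))
        (_ : Algebra (Localization.Away hY) (Localization.Away hZ)) (_ : IsScalarTower D (Localization.Away hY) (Localization.Away hZ))
        (_ : IsScalarTower (Localization.Away g) (Localization.Away hY) (Localization.Away hZ))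
        (_ : Module (Localization.Away g) (LocalizedModule (Submonoid.powers hX) N)) (_ : IsScalarTower (Localization.Away g) (Localization.Away hX) (LocalizedModule (Submonoid.powers hX) N))
        (_ : Module (Localization.Away hX) (LocalizedModule (Submonoid.powers hZ) G)) (_ : IsScalarTower (Localization.Away hX) (Localization.Away hZ) (LocalizedModule (Submonoid.powers hZ) G))
        (_ : (Ideal.map (algebraMap R (Localization.Away g)) p).IsPrime) (_ : (Ideal.map (algebraMap D (Localization.Away hY)) y).IsPrime) (_ : (Ideal.map (algebraMap D (Localization.Away hY)) y).LiesOver (Ideal.map (algebraMap R (Localization.Away g)) p)),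
        FlatCA.IsOneStepDevissage (Localization.Away g) (Localization.Away hX) (LocalizedModule (Submonoid.powers hX) N) (Ideal.map (algebraMap R (Localization.Away g)) p) (Localization.Away hZ) (Localization.Away hY) (LocalizedModule (Submonoid.powers hZ) G) n ∧
        (∃ (ξ : PrimeSpectrum ((Ideal.map (algebraMap R (Localization.Away g)) p).Fiber (Localization.Away hX)))
            (hξ : ξ ∈ Module.support ((Ideal.map (algebraMap R (Localization.Away g)) p).Fiber (Localization.Away hX)) (FlatCA.fiberMod (Ideal.map (algebraMap R (Localization.Away g)) p) (Localization.Away hX) (LocalizedModule (Submonoid.powers hX) N))),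
          ξ.asIdeal = FlatCA.fiberIdeal (Ideal.map (algebraMap R (Localization.Away g)) p) (Ideal.map (algebraMap S (Localization.Away hX)) q) ∧
          FlatMor.localDim (Module.support ((Ideal.map (algebraMap R (Localization.Away g)) p).Fiber (Localization.Away hX)) (FlatCA.fiberMod (Ideal.map (algebraMap R (Localization.Away g)) p) (Localization.Away hX) (LocalizedModule (Submonoid.powers hX) N))) ⟨ξ, hξ⟩ = n) ∧
        (Ideal.map (algebraMap C (Localization.Away hZ)) z).LiesOver (Ideal.map (algebraMap S (Localization.Away hX)) q) ∧ (Ideal.map (algebraMap C (Localization.Away hZ)) z).LiesOver (Ideal.map (algebraMap D (Localization.Away hY)) y) ∧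
        (∀ (z₂ : Ideal (Localization.Away hZ)) [z₂.IsPrime], z₂.LiesOver (Ideal.map (algebraMap D (Localization.Away hY)) y) → z₂ = Ideal.map (algebraMap C (Localization.Away hZ)) z) ∧
        FlatCA.PurelyTranscendental (Ideal.map (algebraMap R (Localization.Away g)) p) (Ideal.map (algebraMap D (Localization.Away hY)) y) := by
  obtain ⟨hsurjC, hfin, hsm⟩ : Function.Surjective (algebraMap S C) ∧ Module.Finite D C ∧ FlatCA.SmoothRelDim n R D :=
    ⟨h.2.1, h.2.2.2.1, h.2.2.2.2.2.1⟩
  haveI := hfin
  have huz : algebraMap S C u ∉ z := fun hh => hu ((Ideal.mem_of_liesOver z q u).mpr hh)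
  obtain ⟨y₀, hy₀, hy₀r⟩ : ∃ y₀ : D, y₀ ∉ y ∧ algebraMap D C y₀ ∈ (Ideal.span {algebraMap S C u}).radical := by
    by_contra hcon
    push Not at hcon
    have hle : (Ideal.span {algebraMap S C u}).radical.comap (algebraMap D C) ≤ y := fun a ha =>
      by_contra fun hay => hcon a hay (Ideal.mem_comap.mp ha)
    obtain ⟨z₁, hz₁, hz₁p, hz₁y⟩ := Ideal.exists_ideal_over_prime_of_isIntegral y _ hle
    have := hz₁p
    have hzz : z₁ = z := h3 z₁ ⟨hz₁y.symm⟩
    exact huz (hzz ▸ hz₁ (Ideal.le_radical (Ideal.mem_span_singleton_self _)))
  obtain ⟨k, hk⟩ := hy₀r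
  obtain ⟨c, hc⟩ := Ideal.mem_span_singleton'.mp hk
  obtain ⟨v, rfl⟩ := hsurjC c
  have hky : y₀ ^ k ∉ y := fun hh => hy₀ (Ideal.IsPrime.mem_of_pow_mem ‹_› k hh)
  obtain ⟨g, hg, hgim⟩ := Groth.Agent.H69.Shrink.exists_basicOpen_le_image n hsm p y (y₀ ^ k) hky
  have hgy : algebraMap R D g ∉ y := fun hh => hg ((Ideal.mem_of_liesOver y p g).mpr hh)
  have hY : y₀ ^ k * algebraMap R D g ∉ y := fun hh =>
    ((Ideal.IsPrime.mem_or_mem ‹_› hh).elim hky hgy)
  obtain ⟨hXq, hZz, hrest⟩ := Groth.Agent.H69.Shrink.main R S N p q C D G n h z y h1 h3 h4 g hg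
    (y₀ ^ k * algebraMap R D g) hY (v * u * algebraMap R S g) (dvd_mul_left _ _) (dvd_mul_left _ _)
    (by rw [map_mul, map_mul, map_mul, hc, map_pow, ← IsScalarTower.algebraMap_apply R S C,
      ← IsScalarTower.algebraMap_apply R D C])
    (fun P hP => by
      obtain ⟨Q, hQw, hQ⟩ := hgim P hP
      refine ⟨Q, fun hh => (Q.2.mem_or_mem hh).elim hQw fun hh' => hP ?_, hQ⟩
      rw [← hQ]; exact hh')
  refine ⟨g, _, _, _, hg, hXq, hZz, hY, ?_, hrest⟩
  have hunit : IsUnit (algebraMap S (Localization.Away (v * u * algebraMap R S g)) (v * u * algebraMap R S g)) :=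
    IsLocalization.Away.algebraMap_isUnit _
  have h2 := hunit
  simp only [map_mul, IsUnit.mul_iff] at h2
  exact h2.1.2

end Groth.Agent.S12241
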