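import Groth.Statements.S12244
import Groth.Agent.H21.Devissage.Fibre
import Groth.Agent.H21.Devissage.Point

set_option autoImplicit false
universe u
open FlatMor

namespace Groth.Agent.S12244

open TensorProduct in
/-- All schemes are affine. Let R → S be of finite type, N a finite S-module, p ⊆ R and q ⊆ S primes, 𝒟
a complete dévissage of N/S/R over p in the prelude's algebraic form and 𝒜 a datum making it a
complete dévissage at q (primes qB_i ⊆ B_i over p with purely transcendental residue fields, unique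
primes qA_i ⊆ A_i over them, threaded through q and through the maps B_i → A_{i+1}, relative
dimensions d_i of R → B_i equal to the local dimension of the fibre support of M_i at qB_i). Let R →
R' be a ring map and p' a prime over p with κ(p) → κ(p') bijective, S' the base change of S, N' = N
⊗_S S', and q' a prime of S' over q and over p'. Let 𝒟' be a complete dévissage of N'/S'/R' over p'
of the same length whose rings A'_i, B'_i (i below the length) are base changes of A_i, B_i along R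
→ R' compatibly with B_i → A_i, B_i → A_{i+1}, S → A_0 and S' → A'_0, and whose modules M'_i are
base changes of M_i along A_i → A'_i compatibly with N ≅ M_0 and N' ≅ M'_0. Assume moreover that at
every index at or beyond the length the ring B'_i has a prime over p' and A'_i a prime over that one
(the structure's families run over all natural numbers and constrain nothing at those indices, while
a datum at a point asks for such primes at every index; the condition touches only this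
unconstrained tail and holds, for instance, when the tail repeats the last genuine step — without it
the zero ring could sit there and no datum would exist). Then 𝒟' is a complete dévissage at q' with
the same relative dimensions: there is a datum 𝒜' for (𝒟', q') with d' = d whose primes qB'_i, qA'_i
lie over qB_i, qA_i for every step i below the length. -/
theorem result
    (R S : Type u) [CommRing R] [CommRing S] [Algebra R S] [Algebra.FiniteType R S]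
    (N : Type u) [AddCommGroup N] [Module S N] [Module.Finite S N]
    (p : Ideal R) [p.IsPrime] (q : Ideal S) [q.IsPrime] (𝒟 : FlatCA.CompleteDevissage R S N p)
    (𝒜 : FlatCA.CompleteDevissageAt R S N p q 𝒟)
    (R' : Type u) [CommRing R'] [Algebra R R'] (p' : Ideal R') [p'.IsPrime] [hp' : p'.LiesOver p]
    (hκ : Function.Bijective (Ideal.ResidueField.mapₐ p p' (Algebra.ofId R R') hp'.over))
    (S' : Type u) [CommRing S'] [Algebra R' S'] [Algebra R S'] [Algebra S S'] [IsScalarTower R R' S']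
    [IsScalarTower R S S'] [Algebra.IsPushout R R' S S']
    (N' : Type u) [AddCommGroup N'] [Module S' N'] [Module S N'] [IsScalarTower S S' N']
    (f : N →ₗ[S] N') (hf : IsBaseChange S' f)
    (q' : Ideal S') [q'.IsPrime] [q'.LiesOver q] [q'.LiesOver p']
    (𝒟' : FlatCA.CompleteDevissage R' S' N' p') (hn : 𝒟'.n = 𝒟.n)
    (htail : ∀ i, 𝒟.n ≤ i → ∃ (Q : Ideal (𝒟'.B i)) (P : Ideal (𝒟'.A i)),
      Q.IsPrime ∧ P.IsPrime ∧ Q.LiesOver p' ∧ P.LiesOver Q)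
    [aA : ∀ i : Fin 𝒟.n, Algebra (𝒟.A i) (𝒟'.A i)] [rA : ∀ i : Fin 𝒟.n, Algebra R (𝒟'.A i)]
      [∀ i : Fin 𝒟.n, IsScalarTower R (R') (𝒟'.A i)] [∀ i : Fin 𝒟.n, IsScalarTower R (𝒟.A i) (𝒟'.A i)]
      [aB : ∀ i : Fin 𝒟.n, Algebra (𝒟.B i) (𝒟'.B i)] [rB : ∀ i : Fin 𝒟.n, Algebra R (𝒟'.B i)]
      [∀ i : Fin 𝒟.n, IsScalarTower R (R') (𝒟'.B i)] [∀ i : Fin 𝒟.n, IsScalarTower R (𝒟.B i) (𝒟'.B i)]
      [bA : ∀ i : Fin 𝒟.n, Algebra (𝒟.B i) (𝒟'.A i)] [∀ i : Fin 𝒟.n, IsScalarTower (𝒟.B i) (𝒟.A i) (𝒟'.A i)]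
      [∀ i : Fin 𝒟.n, IsScalarTower (𝒟.B i) (𝒟'.B i) (𝒟'.A i)]
      [bA' : ∀ i : Fin 𝒟.n, Algebra (𝒟.B i) (𝒟'.A (i + 1))]
      [∀ i : Fin 𝒟.n, IsScalarTower (𝒟.B i) (𝒟'.B i) (𝒟'.A (i + 1))]
      [sA : Algebra S (𝒟'.A 0)] [IsScalarTower S (S') (𝒟'.A 0)]
      [mA : ∀ i : Fin 𝒟.n, Module (𝒟.A i) (𝒟'.M i)] [∀ i : Fin 𝒟.n, IsScalarTower (𝒟.A i) (𝒟'.A i) (𝒟'.M i)]
      (gM : ∀ i : Fin 𝒟.n, 𝒟.M i →ₗ[𝒟.A i] 𝒟'.M i)
    (hbc : (letI := aA ⟨0, 𝒟.pos⟩; IsScalarTower S (𝒟.A 0) (𝒟'.A 0)) ∧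
      (∀ x : N, 𝒟'.isoN (f x) = gM ⟨0, 𝒟.pos⟩ (𝒟.isoN x)) ∧
      (∀ (i : Fin 𝒟.n) (h : (i : ℕ) + 1 < 𝒟.n),
        letI := aA ⟨i + 1, h⟩; IsScalarTower (𝒟.B i) (𝒟.A (i + 1)) (𝒟'.A (i + 1))) ∧
      ∀ i : Fin 𝒟.n,
        Algebra.IsPushout R R' (𝒟.A i) (𝒟'.A i) ∧ Algebra.IsPushout R R' (𝒟.B i) (𝒟'.B i) ∧
        IsBaseChange (𝒟'.A i) (gM i)) :
    ∃ 𝒜' : FlatCA.CompleteDevissageAt R' S' N' p' q' 𝒟', 𝒜'.d = 𝒜.d ∧
      ∀ i : Fin 𝒟.n, (𝒜'.qB i).LiesOver (𝒜.qB i) ∧ (𝒜'.qA i).LiesOver (𝒜.qA i) := by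
  classical
  obtain ⟨hS0, hiso, hstep, hpo⟩ := hbc
  letI := 𝒜.hqA; letI := 𝒜.hqB; letI := 𝒜.overA; letI := 𝒜.overB
  have key : ∀ i : Fin 𝒟.n, ∃ (Q : Ideal (𝒟'.B i)) (P : Ideal (𝒟'.A i)),
      Q.IsPrime ∧ P.IsPrime ∧ Q.LiesOver p' ∧ P.LiesOver p' ∧ P.LiesOver Q ∧
        Q.LiesOver (𝒜.qB i) ∧ P.LiesOver (𝒜.qA i) := by
    intro i
    haveI := (hpo i).1
    haveI := (hpo i).2.1
    haveI : (𝒜.qA i).LiesOver p := Ideal.LiesOver.trans (𝒜.qA i) (𝒜.qB i) p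
    obtain ⟨Q, hQ, hQy, hQp⟩ := H21.Devissage.Point.exists_prime_over p p' hκ (T' := 𝒟'.B i) (𝒜.qB i)
    obtain ⟨P, hP, hPy, hPp⟩ := H21.Devissage.Point.exists_prime_over p p' hκ (T' := 𝒟'.A i) (𝒜.qA i)
    haveI : (P.comap (algebraMap (𝒟'.B i) (𝒟'.A i))).LiesOver (𝒜.qB i) := ⟨by
      rw [Ideal.under_def, Ideal.comap_comap, ← IsScalarTower.algebraMap_eq (𝒟.B i) (𝒟'.B i) (𝒟'.A i),
        IsScalarTower.algebraMap_eq (𝒟.B i) (𝒟.A i) (𝒟'.A i), ← Ideal.comap_comap,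
        ← Ideal.under_def (𝒟.A i) P, ← hPy.over, ← Ideal.under_def (𝒟.B i) (𝒜.qA i),
        ← Ideal.LiesOver.over (p := 𝒜.qB i) (P := 𝒜.qA i)]⟩
    haveI : (P.comap (algebraMap (𝒟'.B i) (𝒟'.A i))).LiesOver p' := ⟨by
      rw [Ideal.under_def, Ideal.comap_comap, ← IsScalarTower.algebraMap_eq R' (𝒟'.B i) (𝒟'.A i)]
      exact hPp.over⟩
    exact ⟨Q, P, hQ, hP, hQp, hPp,
      ⟨H21.Devissage.Residue.eq_of_liesOver p p' hκ (𝒜.qB i) Q (P.comap (algebraMap (𝒟'.B i) (𝒟'.A i)))⟩,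
      hQy, hPy⟩
  have key' : ∀ i : ℕ, ∃ (Q : Ideal (𝒟'.B i)) (P : Ideal (𝒟'.A i)),
      Q.IsPrime ∧ P.IsPrime ∧ Q.LiesOver p' ∧ P.LiesOver Q ∧
        ∀ h : i < 𝒟.n, P.LiesOver p' ∧
          (letI := aB ⟨i, h⟩; Q.LiesOver (𝒜.qB i)) ∧ (letI := aA ⟨i, h⟩; P.LiesOver (𝒜.qA i)) := by
    intro i
    by_cases h : i < 𝒟.n
    · obtain ⟨Q, P, h1, h2, h3, h4, h5, h6, h7⟩ := key ⟨i, h⟩
      exact ⟨Q, P, h1, h2, h3, h5, fun _ => ⟨h4, h6, h7⟩⟩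
    · obtain ⟨Q, P, h1, h2, h3, h4⟩ := htail i (not_lt.mp h)
      exact ⟨Q, P, h1, h2, h3, h4, fun h' => absurd h' h⟩
  choose Q P hQ hP hQp hPQ hover using key'
  refine ⟨{ qB := Q, qA := P, hqB := hQ, hqA := hP, overB := hQp, overA := hPQ, d := 𝒜.d,
            pureTrans := ?_, uniq := ?_, q0 := ?_, qStep := ?_, relDim := ?_, locDim := ?_ },
    rfl, fun i => ⟨(hover i i.2).2.1, (hover i i.2).2.2⟩⟩
  · intro i hi'
    obtain ⟨i, rfl⟩ : ∃ j : Fin 𝒟.n, (j : ℕ) = i := ⟨⟨i, hn ▸ hi'⟩, rfl⟩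
    haveI := (hpo i).2.1
    haveI := hQ i; haveI := hQp i; haveI : (Q i).LiesOver (𝒜.qB i) := (hover i i.2).2.1
    exact H21.Devissage.Residue.purelyTranscendental p p' hκ (𝒜.qB i) (Q i) (𝒜.pureTrans i i.2)
  · intro i hi' P₁ _ hP₁
    obtain ⟨i, rfl⟩ : ∃ j : Fin 𝒟.n, (j : ℕ) = i := ⟨⟨i, hn ▸ hi'⟩, rfl⟩
    haveI := (hpo i).1
    haveI := hP i; haveI := hQ i; haveI := hQp i
    haveI : (Q i).LiesOver (𝒜.qB i) := (hover i i.2).2.1
    haveI : (P i).LiesOver (𝒜.qA i) := (hover i i.2).2.2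
    haveI : (P i).LiesOver p' := (hover i i.2).1
    haveI : (𝒜.qA i).LiesOver p := Ideal.LiesOver.trans (𝒜.qA i) (𝒜.qB i) p
    haveI : P₁.LiesOver p' := Ideal.LiesOver.trans P₁ (Q i) p'
    haveI : (P₁.comap (algebraMap (𝒟.A i) (𝒟'.A i))).LiesOver (𝒜.qB i) := ⟨by
      rw [Ideal.under_def, Ideal.comap_comap, ← IsScalarTower.algebraMap_eq (𝒟.B i) (𝒟.A i) (𝒟'.A i),
        IsScalarTower.algebraMap_eq (𝒟.B i) (𝒟'.B i) (𝒟'.A i), ← Ideal.comap_comap,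
        ← Ideal.under_def (𝒟'.B i) P₁, ← hP₁.over, ← Ideal.under_def (𝒟.B i) (Q i),
        ← Ideal.LiesOver.over (p := 𝒜.qB i) (P := Q i)]⟩
    haveI : P₁.LiesOver (𝒜.qA i) :=
      ⟨(𝒜.uniq i i.2 (P₁.comap (algebraMap (𝒟.A i) (𝒟'.A i))) inferInstance).symm⟩
    exact H21.Devissage.Residue.eq_of_liesOver p p' hκ (𝒜.qA i) P₁ (P i)
  · let i₀ : Fin 𝒟.n := ⟨0, 𝒟.pos⟩
    letI := aA i₀
    haveI : IsScalarTower S (𝒟.A 0) (𝒟'.A 0) := hS0
    haveI := hP 0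
    haveI : (P 0).LiesOver p' := (hover 0 𝒟.pos).1
    haveI : (P 0).LiesOver (𝒜.qA 0) := (hover 0 𝒟.pos).2.2
    haveI : q.LiesOver p := ⟨by
      rw [← 𝒜.q0, Ideal.under_def, Ideal.comap_comap, ← IsScalarTower.algebraMap_eq R S (𝒟.A 0)]
      exact (Ideal.LiesOver.trans (𝒜.qA 0) (𝒜.qB 0) p).over⟩
    haveI : ((P 0).comap (algebraMap S' (𝒟'.A 0))).LiesOver p' := ⟨by
      rw [Ideal.under_def, Ideal.comap_comap, ← IsScalarTower.algebraMap_eq R' S' (𝒟'.A 0)]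
      exact Ideal.LiesOver.over⟩
    haveI : ((P 0).comap (algebraMap S' (𝒟'.A 0))).LiesOver q := ⟨by
      rw [Ideal.under_def, Ideal.comap_comap, ← IsScalarTower.algebraMap_eq S S' (𝒟'.A 0),
        IsScalarTower.algebraMap_eq S (𝒟.A 0) (𝒟'.A 0), ← Ideal.comap_comap,
        ← Ideal.under_def (𝒟.A 0) (P 0), ← Ideal.LiesOver.over (p := 𝒜.qA 0) (P := P 0), 𝒜.q0]⟩
    exact H21.Devissage.Residue.eq_of_liesOver p p' hκ q ((P 0).comap (algebraMap S' (𝒟'.A 0))) q'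
  · intro i hi'
    have hi1 : i + 1 < 𝒟.n := hn ▸ hi'
    obtain ⟨i, rfl⟩ : ∃ j : Fin 𝒟.n, (j : ℕ) = i := ⟨⟨i, by omega⟩, rfl⟩
    letI := aA ⟨i + 1, hi1⟩
    haveI : IsScalarTower (𝒟.B i) (𝒟.A (i + 1)) (𝒟'.A (i + 1)) := hstep i hi1
    haveI := (hpo i).2.1
    haveI := hQ i; haveI := hQp i; haveI := hP (i + 1)
    haveI : (Q i).LiesOver (𝒜.qB i) := (hover i i.2).2.1
    haveI : (P (i + 1)).LiesOver p' := (hover _ hi1).1
    haveI : (P (i + 1)).LiesOver (𝒜.qA (i + 1)) := (hover _ hi1).2.2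
    haveI : ((P (i + 1)).comap (algebraMap (𝒟'.B i) (𝒟'.A (i + 1)))).LiesOver p' := ⟨by
      rw [Ideal.under_def, Ideal.comap_comap, ← IsScalarTower.algebraMap_eq R' (𝒟'.B i) (𝒟'.A (i + 1))]
      exact Ideal.LiesOver.over⟩
    haveI : ((P (i + 1)).comap (algebraMap (𝒟'.B i) (𝒟'.A (i + 1)))).LiesOver (𝒜.qB i) := ⟨by
      rw [Ideal.under_def, Ideal.comap_comap, ← IsScalarTower.algebraMap_eq (𝒟.B i) (𝒟'.B i) (𝒟'.A (i + 1)),
        IsScalarTower.algebraMap_eq (𝒟.B i) (𝒟.A (i + 1)) (𝒟'.A (i + 1)), ← Ideal.comap_comap,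
        ← Ideal.under_def (𝒟.A (i + 1)) (P (i + 1)),
        ← Ideal.LiesOver.over (p := 𝒜.qA (i + 1)) (P := P (i + 1)), 𝒜.qStep i hi1]⟩
    exact H21.Devissage.Residue.eq_of_liesOver p p' hκ (𝒜.qB i) _ (Q i)
  · intro i hi'
    obtain ⟨i, rfl⟩ : ∃ j : Fin 𝒟.n, (j : ℕ) = i := ⟨⟨i, hn ▸ hi'⟩, rfl⟩
    haveI := (hpo i).2.1
    haveI := AlgebraicGeometry.smoothOfRelativeDimension_isStableUnderBaseChange.{u} (𝒜.d i)
    exact CategoryTheory.MorphismProperty.of_isPullback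
      (P := @AlgebraicGeometry.SmoothOfRelativeDimension (𝒜.d i))
      (H21.Devissage.BaseChange.spec_isPullback R R' (𝒟.B i) (𝒟'.B i)) (𝒜.relDim i i.2)
  · intro i hi'
    obtain ⟨i, rfl⟩ : ∃ j : Fin 𝒟.n, (j : ℕ) = i := ⟨⟨i, hn ▸ hi'⟩, rfl⟩
    haveI := (hpo i).1
    haveI := (hpo i).2.1
    haveI := hQ i; haveI := hQp i
    haveI : (Q i).LiesOver (𝒜.qB i) := (hover i i.2).2.1
    haveI : Algebra.IsPushout (𝒟.B i) (𝒟'.B i) (𝒟.A i) (𝒟'.A i) :=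
      H21.Devissage.BaseChange.isPushout R R' (𝒟.B i) (𝒟'.B i) (𝒟.A i) (𝒟'.A i)
    letI : Module (𝒟.B i) (𝒟'.M i) := Module.compHom (𝒟'.M i) (algebraMap (𝒟.B i) (𝒟'.B i))
    haveI : IsScalarTower (𝒟.B i) (𝒟'.B i) (𝒟'.M i) := IsScalarTower.of_compHom _ _ _
    haveI : IsScalarTower (𝒟.B i) (𝒟.A i) (𝒟'.M i) := ⟨fun s c x => by
      rw [Algebra.smul_def, mul_smul, ← IsScalarTower.algebraMap_smul (𝒟'.A i) (algebraMap (𝒟.B i) (𝒟.A i) s),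
        ← IsScalarTower.algebraMap_apply (𝒟.B i) (𝒟.A i) (𝒟'.A i),
        IsScalarTower.algebraMap_apply (𝒟.B i) (𝒟'.B i) (𝒟'.A i),
        IsScalarTower.algebraMap_smul (𝒟'.A i) (algebraMap (𝒟.B i) (𝒟'.B i) s),
        IsScalarTower.algebraMap_smul (𝒟'.B i) s]⟩
    haveI : Algebra.Smooth R (𝒟.B i) := 𝒟.smooth i i.2
    haveI : Module.Finite (𝒟.B i) (𝒟.A i) := 𝒟.finiteBA i i.2
    haveI : Module.Finite (𝒟.A i) (𝒟.M i) := 𝒟.finiteM i i.2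
    haveI : Module.Finite (𝒟.B i) (𝒟.M i) := Module.Finite.trans (𝒟.A i) (𝒟.M i)
    exact H21.Devissage.Fibre.exists_fibre_point p p' hκ (𝒜.qB i) (Q i) (𝒟.M i) (𝒟'.M i) _
      (H21.Devissage.BaseChange.isBaseChange_restrict (𝒟.B i) (𝒟'.B i) (𝒟.A i) (𝒟'.A i) inferInstance
        (gM i) (hpo i).2.2) (𝒜.d i) (𝒜.locDim i i.2)

end Groth.Agent.S12244
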