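import Groth.Statements.S12245
import Groth.Agent.Lib.RG.Localize

set_option autoImplicit false
universe u
open FlatMor

namespace Groth.Agent.S12245

open TensorProduct AlgebraicGeometry in
/-- All schemes are affine. Let R → S be of finite type, N a finite S-module, p ⊆ R and q ⊆ S primes
with q over p, and (C, D, G, n; z, y) a one-step dévissage of N/S/R at q (one-step dévissage over p;
z a prime of C over q and over the prime y of D, unique over y; κ(y)/κ(p) purely transcendental;
local dimension of the fibre support at q equal to n). Let (R, p) → (R', p') and (D, y) → (D', y')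
be elementary étale ring maps at those primes (étale, prime over prime, trivial residue field
extension) with D' an R'-algebra compatibly with D and R, and y' over p'. Then there are: an
elementary étale ring map (R', p') → (R'', p''); an R''-algebra D'' which is an affine open of the
base change of D' to R'' (an open immersion on spectra out of a pushout T of D' along R' → R''),
compatibly with D' and R'', with a prime y'' over y' and over p''; the base change C'' of C along D
→ D'' with a prime z'' over z and y'' and the base change G'' of G to C''; an elementary étale ring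
map (S, q) → (S'', q'') with S'' an R''-algebra compatibly with R → S and a surjection S'' → C''
compatible with S → C and with D'' → C'' over R'', z'' lying over q''; and the base change N'' of N
to S'' — such that (C'', D'', G'', n; z'', y'') is a one-step dévissage of N''/S''/R'' at q''
(including the four pointed conditions). -/
theorem result
    (R S : Type u) [CommRing R] [CommRing S] [Algebra R S] [Algebra.FiniteType R S]
    (N : Type u) [AddCommGroup N] [Module S N] [Module R N] [IsScalarTower R S N] [Module.Finite S N]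
    (p : Ideal R) [p.IsPrime] (q : Ideal S) [q.IsPrime] [q.LiesOver p]
    (C D G : Type u) [CommRing C] [CommRing D] [Algebra S C] [Algebra R C] [IsScalarTower R S C]
    [Algebra R D] [Algebra D C] [IsScalarTower R D C] [AddCommGroup G] [Module C G] [Module S G]
    [IsScalarTower S C G] (n : ℕ)
    (h : FlatCA.IsOneStepDevissage R S N p C D G n)
    (z : Ideal C) [z.IsPrime] (y : Ideal D) [y.IsPrime] [z.LiesOver q] [z.LiesOver y] [y.LiesOver p]
    (h1 : ∃ (ξ : PrimeSpectrum (p.Fiber S)) (hξ : ξ ∈ Module.support (p.Fiber S) (FlatCA.fiberMod p S N)),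
      ξ.asIdeal = FlatCA.fiberIdeal p q ∧
      FlatMor.localDim (Module.support (p.Fiber S) (FlatCA.fiberMod p S N)) ⟨ξ, hξ⟩ = n)
    (h3 : ∀ (z₁ : Ideal C) [z₁.IsPrime], z₁.LiesOver y → z₁ = z)
    (h4 : FlatCA.PurelyTranscendental p y)
    (R' : Type u) [CommRing R'] [Algebra R R'] (p' : Ideal R') [p'.IsPrime] (hR' : FlatCA.IsEtaleNhd R R' p p')
    (D' : Type u) [CommRing D'] [Algebra D D'] [Algebra R' D'] [Algebra R D'] [IsScalarTower R R' D']
    [IsScalarTower R D D'] (y' : Ideal D') [y'.IsPrime] (hD' : FlatCA.IsEtaleNhd D D' y y') [y'.LiesOver p'] :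
    ∃ (R'' : Type u) (_ : CommRing R'') (_ : Algebra R' R'') (_ : Algebra R R'') (_ : IsScalarTower R R' R'')
      (p'' : Ideal R'') (_ : p''.IsPrime),
      FlatCA.IsEtaleNhd R' R'' p' p'' ∧
    ∃ (T : Type u) (_ : CommRing T) (_ : Algebra R' T) (_ : Algebra R'' T) (_ : Algebra D' T)
      (_ : IsScalarTower R' R'' T) (_ : IsScalarTower R' D' T),
      Algebra.IsPushout R' R'' D' T ∧
    ∃ (D'' : Type u) (_ : CommRing D'') (_ : Algebra T D'') (_ : Algebra D' D'') (_ : Algebra R'' D'')
      (_ : Algebra D D'') (_ : Algebra R D'') (_ : IsScalarTower D' T D'') (_ : IsScalarTower R'' T D'')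
      (_ : IsScalarTower D D' D'') (_ : IsScalarTower R R'' D'') (_ : IsScalarTower R D D'')
      (y'' : Ideal D'') (_ : y''.IsPrime) (_ : y''.LiesOver y') (_ : y''.LiesOver p''),
      IsOpenImmersion (Spec.map (CommRingCat.ofHom (algebraMap T D''))) ∧
    ∃ (C'' : Type u) (_ : CommRing C'') (_ : Algebra C C'') (_ : Algebra D'' C'') (_ : Algebra D C'')
      (_ : Algebra R'' C'') (_ : IsScalarTower D D'' C'') (_ : IsScalarTower D C C'') (_ : IsScalarTower R'' D'' C'')
      (z'' : Ideal C'') (_ : z''.IsPrime) (_ : z''.LiesOver z) (_ : z''.LiesOver y''),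
      Algebra.IsPushout D D'' C C'' ∧
    ∃ (G'' : Type u) (_ : AddCommGroup G'') (_ : Module C'' G'') (_ : Module C G'') (_ : IsScalarTower C C'' G'')
      (gG : G →ₗ[C] G''), IsBaseChange C'' gG ∧
    ∃ (S'' : Type u) (_ : CommRing S'') (_ : Algebra S S'') (_ : Algebra R'' S'') (_ : Algebra R S'')
      (_ : IsScalarTower R S S'') (_ : IsScalarTower R R'' S'') (q'' : Ideal S'') (_ : q''.IsPrime)
      (_ : Algebra S'' C'') (_ : Algebra S C'') (_ : IsScalarTower S S'' C'') (_ : IsScalarTower S C C'')
      (_ : IsScalarTower R'' S'' C'') (_ : Module S'' G'') (_ : IsScalarTower S'' C'' G''),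
      FlatCA.IsEtaleNhd S S'' q q'' ∧ z''.LiesOver q'' ∧
    ∃ (N'' : Type u) (_ : AddCommGroup N'') (_ : Module S'' N'') (_ : Module S N'') (_ : IsScalarTower S S'' N'')
      (_ : Module R'' N'') (_ : IsScalarTower R'' S'' N'') (gN : N →ₗ[S] N''), IsBaseChange S'' gN ∧
      FlatCA.IsOneStepDevissage R'' S'' N'' p'' C'' D'' G'' n ∧
      (∃ (ξ : PrimeSpectrum (p''.Fiber S'')) (hξ : ξ ∈ Module.support (p''.Fiber S'') (FlatCA.fiberMod p'' S'' N'')),
        ξ.asIdeal = FlatCA.fiberIdeal p'' q'' ∧
        FlatMor.localDim (Module.support (p''.Fiber S'') (FlatCA.fiberMod p'' S'' N'')) ⟨ξ, hξ⟩ = n) ∧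
      (∀ (z₂ : Ideal C'') [z₂.IsPrime], z₂.LiesOver y'' → z₂ = z'') ∧
      FlatCA.PurelyTranscendental p'' y'' := by
  classical
  obtain ⟨hR'et, hp'p, hR'b⟩ := hR'
  obtain ⟨hD'et, hy'y, hD'b⟩ := hD'
  haveI := hR'et
  haveI := hp'p
  haveI := hD'et
  haveI := hy'y
  obtain ⟨⟨eN⟩, hsurj, hfp, hfin, hGfin, hsm, -, hdim⟩ := h
  -- the localised smooth algebra
  have hsm' : FlatCA.SmoothRelDim n R' D' := Lib.RG.Localize.smoothRelDim_localize n hsm
  haveI : Algebra.Smooth R' D' := Lib.RG.Localize.smooth_of_smoothRelDim n hsm'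
  obtain ⟨ι, t, ht, hgen⟩ := Lib.RG.Localize.pure_transfer p y p' y' hR'b hD'b h4
  obtain ⟨R'', D'', iR'', iD'', aR'R'', aD'D'', aR''D'', aR'D'', tw1, tw2, p'', y'', hp'', hy'', hp''p', hy''y',
    hy''p'', hnhd', hD''et, hyb, hgi, hsm'', ψ, hψa, hψr, hψo⟩ :=
    Lib.RG.GeomRing.exists_nhd_open (R := R') (A := D') p' (⟨y', inferInstance⟩ : PrimeSpectrum D') t ⟨ht.1, hgen⟩
  haveI := hD''et
  haveI : y''.LiesOver y' := hy''y'
  letI aRR'' : Algebra R R'' := ((algebraMap R' R'').comp (algebraMap R R')).toAlgebra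
  haveI tRR'' : IsScalarTower R R' R'' := IsScalarTower.of_algebraMap_eq' rfl
  have hnhd : FlatCA.IsEtaleNhd R R'' p p'' := Lib.RG.NhdPoint.trans ⟨hR'et, hp'p, hR'b⟩ hnhd'
  haveI : Algebra.Etale R R'' := hnhd.1
  let T := D' ⊗[R'] R''
  letI aR''T : Algebra R'' T := Algebra.TensorProduct.rightAlgebra
  letI aTD'' : Algebra T D'' := ψ.toAlgebra
  haveI tD'T : IsScalarTower D' T D'' := IsScalarTower.of_algebraMap_eq (R := D') (S := T) (A := D'') fun a => (hψa a).symm
  haveI tR''T : IsScalarTower R'' T D'' := IsScalarTower.of_algebraMap_eq (R := R'') (S := T) (A := D'') fun r => (hψr r).symm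
  letI aDD'' : Algebra D D'' := ((algebraMap D' D'').comp (algebraMap D D')).toAlgebra
  haveI tDD'' : IsScalarTower D D' D'' := IsScalarTower.of_algebraMap_eq' rfl
  letI aRD'' : Algebra R D'' := ((algebraMap D D'').comp (algebraMap R D)).toAlgebra
  haveI tRD'' : IsScalarTower R D D'' := IsScalarTower.of_algebraMap_eq' rfl
  haveI tRR''D'' : IsScalarTower R R'' D'' := IsScalarTower.of_algebraMap_eq (R := R) (S := R'') (A := D'') fun r => by
    show algebraMap D' D'' (algebraMap D D' (algebraMap R D r)) =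
      algebraMap R'' D'' (algebraMap R' R'' (algebraMap R R' r))
    rw [← IsScalarTower.algebraMap_apply R D D', IsScalarTower.algebraMap_apply R R' D',
      ← IsScalarTower.algebraMap_apply R' D' D'', ← IsScalarTower.algebraMap_apply R' R'' D'']
  haveI : Algebra.Etale D D'' := Algebra.Etale.comp D D' D''
  have hnhdD : FlatCA.IsEtaleNhd D D'' y y'' :=
    Lib.RG.NhdPoint.trans ⟨hD'et, hy'y, hD'b⟩ ⟨hD''et, hy''y', hyb⟩
  -- the finite algebra and its point
  let C'' := C ⊗[D] D''
  letI aD''C'' : Algebra D'' C'' := Algebra.TensorProduct.rightAlgebra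
  haveI tDD''C'' : IsScalarTower D D'' C'' := IsScalarTower.of_algebraMap_eq (R := D) (S := D'') (A := C'') fun d =>
    ((Algebra.TensorProduct.includeRight (R := D) (A := C) (B := D'')).commutes d).symm
  letI aR''C'' : Algebra R'' C'' := ((algebraMap D'' C'').comp (algebraMap R'' D'')).toAlgebra
  haveI tR''D''C'' : IsScalarTower R'' D'' C'' := IsScalarTower.of_algebraMap_eq' rfl
  obtain ⟨z'', hz'', hzC, hzD⟩ := Lib.RG.NhdPoint.exists_point (R := D) (R' := D'') (S := C) y y'' z hnhdD
  haveI := hz''
  haveI : z''.LiesOver z := ⟨hzC.symm⟩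
  haveI : z''.LiesOver y'' := ⟨hzD.symm⟩
  obtain ⟨hC''et, _, hzb⟩ := Lib.RG.NhdPoint.isEtaleNhd y y'' z hnhdD z'' hzC hzD
  haveI : Algebra.Etale C C'' := hC''et
  haveI tSC'' : IsScalarTower S C C'' := inferInstance
  haveI tRSC'' : IsScalarTower R S C'' := IsScalarTower.of_algebraMap_eq (R := R) (S := S) (A := C'') fun r => by
    rw [IsScalarTower.algebraMap_apply S C C'', IsScalarTower.algebraMap_apply R C C'',
      ← IsScalarTower.algebraMap_apply R S C]
  haveI tRR''C'' : IsScalarTower R R'' C'' := IsScalarTower.of_algebraMap_eq (R := R) (S := R'') (A := C'') fun r => by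
    show algebraMap R C'' r = algebraMap D'' C'' (algebraMap R'' D'' (algebraMap R R'' r))
    rw [IsScalarTower.algebraMap_apply R C C'', IsScalarTower.algebraMap_apply R D C,
      ← IsScalarTower.algebraMap_apply D C C'', ← IsScalarTower.algebraMap_apply R R'' D'',
      IsScalarTower.algebraMap_apply R D D'', ← IsScalarTower.algebraMap_apply D D'' C'']
  obtain ⟨S'', iS'', aSS'', aR''S'', aRS'', tRSS'', tRR''S'', aS''C'', tSS''C'', tR''S''C'', hS''et, hsurj'', hpo⟩ :=
    Lib.RG.EtaleQuot.exists_lift R S C R'' C'' hsurj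
  haveI := hS''et
  let q'' : Ideal S'' := z''.comap (algebraMap S'' C'')
  haveI : q''.IsPrime := Ideal.IsPrime.comap _
  haveI hzq'' : z''.LiesOver q'' := ⟨rfl⟩
  haveI hzq : z''.LiesOver q := Ideal.LiesOver.trans z'' z q
  haveI hzp : z''.LiesOver p'' := Ideal.LiesOver.trans z'' y'' p''
  haveI hq''q : q''.LiesOver q := ⟨hzq.over.trans (by
    rw [Ideal.under_def, Ideal.under_def, IsScalarTower.algebraMap_eq S S'' C'', ← Ideal.comap_comap])⟩
  haveI hq''p : q''.LiesOver p'' := ⟨hzp.over.trans (by
    rw [Ideal.under_def, Ideal.under_def, IsScalarTower.algebraMap_eq R'' S'' C'', ← Ideal.comap_comap])⟩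
  have hnhdS : FlatCA.IsEtaleNhd S S'' q q'' := by
    refine ⟨hS''et, hq''q, RingHom.injective _, ?_⟩
    have hb : Function.Bijective (Ideal.ResidueField.mapₐ q z'' (Algebra.ofId S C'') (z''.over_def q)) := by
      rw [Lib.RG.Localize.mapₐ_comp q z z'']
      exact Function.Bijective.comp hzb (Lib.RG.Localize.bijective_of_surjective hsurj q z)
    rw [Lib.RG.Localize.mapₐ_comp q q'' z''] at hb
    exact hb.2.of_comp_left (Lib.RG.Localize.bijective_of_surjective hsurj'' q'' z'').1
  -- the module
  haveI := hGfin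
  obtain ⟨G'', iG'', mC''G'', mCG'', tCC''G'', gG, hgG, hG''fin⟩ : ∃ (G'' : Type u) (_ : AddCommGroup G'')
      (_ : Module C'' G'') (_ : Module C G'') (_ : IsScalarTower C C'' G'') (gG : G →ₗ[C] G''),
      IsBaseChange C'' gG ∧ Module.Finite C'' G'' :=
    ⟨C'' ⊗[C] G, inferInstance, inferInstance, inferInstance, inferInstance, TensorProduct.mk C C'' G 1,
      TensorProduct.isBaseChange C G C'', inferInstance⟩
  letI mS''G'' : Module S'' G'' := Module.compHom G'' (algebraMap S'' C'')
  haveI tS''C''G'' : IsScalarTower S'' C'' G'' := IsScalarTower.of_algebraMap_smul fun _ _ => rfl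
  letI mSG'' : Module S G'' := Module.compHom G'' (algebraMap S C'')
  haveI tSC''G'' : IsScalarTower S C'' G'' := IsScalarTower.of_algebraMap_smul fun _ _ => rfl
  haveI tSS''G'' : IsScalarTower S S'' G'' := IsScalarTower.of_algebraMap_smul fun s m => by
    show algebraMap S'' C'' (algebraMap S S'' s) • m = algebraMap S C'' s • m
    rw [← IsScalarTower.algebraMap_apply S S'' C'']
  haveI tSCG'' : IsScalarTower S C G'' := IsScalarTower.of_algebraMap_smul fun s m => by
    rw [← IsScalarTower.algebraMap_smul C'' (algebraMap S C s) m, ← IsScalarTower.algebraMap_apply S C C'',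
      IsScalarTower.algebraMap_smul]
  letI mR''G'' : Module R'' G'' := Module.compHom G'' (algebraMap R'' S'')
  haveI tR''S''G'' : IsScalarTower R'' S'' G'' := IsScalarTower.of_algebraMap_smul fun _ _ => rfl
  let gN : N →ₗ[S] G'' := (gG.restrictScalars S).comp eN.toLinearMap
  have hgN : IsBaseChange S'' gN := by
    have hg' := H21.Devissage.BaseChange.isBaseChange_restrict S S'' C C'' hpo gG hgG
    refine IsBaseChange.of_equiv ((TensorProduct.AlgebraTensorModule.congr (LinearEquiv.refl S'' S'') eN).trans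
      hg'.equiv) fun x => ?_
    simp [gN, IsBaseChange.equiv_tmul]
  obtain ⟨hdim'', hpt⟩ := Lib.RG.FibreEtale.exists_point_dim p p'' hnhd N G'' gN hgN q q'' n hdim h1
  haveI hpoD : Algebra.IsPushout D D'' C C'' := TensorProduct.isPushout'
  haveI := hfp
  haveI := hfin
  haveI := hGfin
  refine ⟨R'', iR'', aR'R'', aRR'', tRR'', p'', hp'', hnhd', T, inferInstance, inferInstance, aR''T, inferInstance,
    ?_, inferInstance, ?_, D'', iD'', aTD'', aD'D'', aR''D'', aDD'', aRD'', tD'T, tR''T, tDD'', tRR''D'', tRD'',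
    y'', hy'', hy''y', hy''p'', hψo, C'', inferInstance, inferInstance, aD''C'', inferInstance, aR''C'', tDD''C'',
    inferInstance, tR''D''C'', z'', hz'', inferInstance, inferInstance, hpoD, G'', inferInstance, inferInstance,
    inferInstance, inferInstance, gG, hgG, S'', iS'', aSS'', aR''S'', aRS'', tRSS'', tRR''S'', q'', inferInstance,
    aS''C'', inferInstance, tSS''C'', tSC'', tR''S''C'', mS''G'', tS''C''G'', hnhdS, hzq'', G'', inferInstance, mS''G'',
    mSG'', tSS''G'', mR''G'', tR''S''G'', gN, hgN,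
    ⟨⟨LinearEquiv.refl _ _⟩, hsurj'', H21.Devissage.BaseChange.finitePresentation S S'' C C'' hpo,
      H21.Devissage.BaseChange.moduleFinite D D'' C C'' hpoD, inferInstance, hsm'' n hsm', ?_, hdim''⟩, hpt, ?_, ?_⟩
  · exact IsScalarTower.of_algebraMap_eq (R := R') (S := R'') (A := T) fun r =>
      ((Algebra.TensorProduct.includeRight (R := R') (A := D') (B := R'')).commutes r).symm
  · exact TensorProduct.isPushout'
  · show GeometricallyIrreducible (Spec.map (CommRingCat.ofHom (algebraMap R'' D'')))
    haveI : GeometricallyIntegral (Spec.map (CommRingCat.ofHom (algebraMap R'' D''))) := hgi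
    infer_instance
  · intro z₂ hz₂p hz₂
    have hover : (z₂.comap (algebraMap C C'')).LiesOver y := ⟨by
      rw [Ideal.under_def, Ideal.comap_comap, ← IsScalarTower.algebraMap_eq D C C'',
        IsScalarTower.algebraMap_eq D D'' C'', ← Ideal.comap_comap, ← Ideal.under_def D'' z₂, ← hz₂.over]
      exact hnhdD.2.choose.over⟩
    haveI := Ideal.IsPrime.comap (algebraMap C C'') (K := z₂)
    exact Lib.RG.NhdPoint.point_unique y y'' z hnhdD z₂ z'' (h3 _ hover) hz₂.over.symm hzC hzD
  · haveI := hp''p'
    exact Lib.RG.Localize.pure_transfer (A := R') (B := D') p' y' p'' y'' hnhd'.2.choose_spec hyb ⟨ι, t, ht, hgen⟩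

end Groth.Agent.S12245
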