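import Groth.Statements.S12246
import Groth.Agent.H69.Shrink.Choose

set_option autoImplicit false
universe u
open FlatMor

namespace Groth.Agent.S12246

open TensorProduct in
/-- All schemes are affine and standard opens are rendered as localizations away from one element. Let R
→ S be of finite type, N a finite S-module, p ⊆ R and q ⊆ S primes, and (𝒟, 𝒜) a complete dévissage
of N/S/R at q in the prelude's algebraic form (rings A_i and smooth R-algebras B_i, modules M_i,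
maps α_i, points qA_i, qB_i and relative dimensions d_i). Then for every u ∈ S outside q there is a
standard shrinking inside D(u): g ∉ p and hX ∉ q with u invertible in S[1/hX], compatible structures
making S[1/hX] and N[1/hX] live over R[1/g], and a complete dévissage (𝒟', 𝒜') of N[1/hX] over
S[1/hX] relative to R[1/g] at the extended prime of q, of the same length, ranks and relative
dimensions, whose rings A'_i, B'_i are localizations of A_i, B_i away from single elements a_i ∉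
qA_i, b_i ∉ qB_i (as algebras compatible with R → R[1/g], with B_i → A_i, B_i → A_{i+1}, S → A_0 and
S[1/hX] → A'_0), whose modules M'_i are the corresponding localizations of M_i (compatibly with N ≅
M_0), whose points lie over the qA_i, qB_i, and with the image of α_i generating the image of α'_i.
(The cokernel identifications of 𝒟' are not pinned.) -/
theorem result
    (R S : Type u) [CommRing R] [CommRing S] [Algebra R S] [Algebra.FiniteType R S]
    (N : Type u) [AddCommGroup N] [Module S N] [Module.Finite S N]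
    (p : Ideal R) [p.IsPrime] (q : Ideal S) [q.IsPrime] (𝒟 : FlatCA.CompleteDevissage R S N p)
    (𝒜 : FlatCA.CompleteDevissageAt R S N p q 𝒟)
    (u : S) (hu : u ∉ q) :
    ∃ (g : R) (hX : S), g ∉ p ∧ hX ∉ q ∧
      IsUnit (algebraMap S (Localization.Away hX) u) ∧
      ∃ (_ : Algebra (Localization.Away g) (Localization.Away hX)) (_ : IsScalarTower R (Localization.Away g) (Localization.Away hX))
        (_ : Module (Localization.Away g) (LocalizedModule (Submonoid.powers hX) N)) (_ : IsScalarTower (Localization.Away g) (Localization.Away hX) (LocalizedModule (Submonoid.powers hX) N))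
        (_ : (Ideal.map (algebraMap R (Localization.Away g)) p).IsPrime) (_ : (Ideal.map (algebraMap S (Localization.Away hX)) q).IsPrime)
        (𝒟' : FlatCA.CompleteDevissage (Localization.Away g) (Localization.Away hX) (LocalizedModule (Submonoid.powers hX) N) (Ideal.map (algebraMap R (Localization.Away g)) p))
        (𝒜' : FlatCA.CompleteDevissageAt (Localization.Away g) (Localization.Away hX) (LocalizedModule (Submonoid.powers hX) N) (Ideal.map (algebraMap R (Localization.Away g)) p) (Ideal.map (algebraMap S (Localization.Away hX)) q) 𝒟')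
        (a : ∀ i : Fin 𝒟.n, 𝒟.A i) (b : ∀ i : Fin 𝒟.n, 𝒟.B i)
      (aA : ∀ i : Fin 𝒟.n, Algebra (𝒟.A i) (𝒟'.A i)) (rA : ∀ i : Fin 𝒟.n, Algebra R (𝒟'.A i))
      (_t1 : ∀ i : Fin 𝒟.n, IsScalarTower R (Localization.Away g) (𝒟'.A i)) (_t2 : ∀ i : Fin 𝒟.n, IsScalarTower R (𝒟.A i) (𝒟'.A i))
      (aB : ∀ i : Fin 𝒟.n, Algebra (𝒟.B i) (𝒟'.B i)) (rB : ∀ i : Fin 𝒟.n, Algebra R (𝒟'.B i))
      (_t3 : ∀ i : Fin 𝒟.n, IsScalarTower R (Localization.Away g) (𝒟'.B i)) (_t4 : ∀ i : Fin 𝒟.n, IsScalarTower R (𝒟.B i) (𝒟'.B i))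
      (bA : ∀ i : Fin 𝒟.n, Algebra (𝒟.B i) (𝒟'.A i)) (_t5 : ∀ i : Fin 𝒟.n, IsScalarTower (𝒟.B i) (𝒟.A i) (𝒟'.A i))
      (_t6 : ∀ i : Fin 𝒟.n, IsScalarTower (𝒟.B i) (𝒟'.B i) (𝒟'.A i))
      (bA' : ∀ i : Fin 𝒟.n, Algebra (𝒟.B i) (𝒟'.A (i + 1)))
      (_t7 : ∀ i : Fin 𝒟.n, IsScalarTower (𝒟.B i) (𝒟'.B i) (𝒟'.A (i + 1)))
      (sA : Algebra S (𝒟'.A 0)) (_t8 : IsScalarTower S (Localization.Away hX) (𝒟'.A 0))
      (mA : ∀ i : Fin 𝒟.n, Module (𝒟.A i) (𝒟'.M i)) (_t9 : ∀ i : Fin 𝒟.n, IsScalarTower (𝒟.A i) (𝒟'.A i) (𝒟'.M i))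
      (gM : ∀ i : Fin 𝒟.n, 𝒟.M i →ₗ[𝒟.A i] 𝒟'.M i),
        𝒟'.n = 𝒟.n ∧ 𝒟'.r = 𝒟.r ∧ 𝒜'.d = 𝒜.d ∧
        (letI := aA ⟨0, 𝒟.pos⟩; IsScalarTower S (𝒟.A 0) (𝒟'.A 0)) ∧
      (∀ x : N, 𝒟'.isoN (LocalizedModule.mkLinearMap (Submonoid.powers hX) N x) = gM ⟨0, 𝒟.pos⟩ (𝒟.isoN x)) ∧
      (∀ (i : Fin 𝒟.n) (h : (i : ℕ) + 1 < 𝒟.n),
        letI := aA ⟨i + 1, h⟩; IsScalarTower (𝒟.B i) (𝒟.A (i + 1)) (𝒟'.A (i + 1))) ∧
        ∀ i : Fin 𝒟.n,
          a i ∉ 𝒜.qA i ∧ b i ∉ 𝒜.qB i ∧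
          IsLocalization.Away (a i) (𝒟'.A i) ∧ IsLocalization.Away (b i) (𝒟'.B i) ∧
          IsLocalizedModule (Submonoid.powers (a i)) (gM i) ∧
          (𝒜'.qA i).LiesOver (𝒜.qA i) ∧ (𝒜'.qB i).LiesOver (𝒜.qB i) ∧
          LinearMap.range (𝒟'.α i) =
            Submodule.span (𝒟'.B i) ((gM i) '' (LinearMap.range (𝒟.α i) : Set (𝒟.M i))) := by
  have hu0 : algebraMap S (𝒟.A 0) u ∉ 𝒜.qA 0 := fun hh => hu (by rw [← 𝒜.q0]; exact hh)
  obtain ⟨y, hy, hy0, hyc⟩ := Groth.Agent.H69.Shrink.exists_forward 𝒟 𝒜 (algebraMap S (𝒟.A 0) u) hu0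
  obtain ⟨b, -, hb, hbc⟩ := Groth.Agent.H69.Shrink.exists_backward 𝒟 𝒜 (y (𝒟.n - 1))
    (hy _ (Nat.sub_one_lt_of_lt 𝒟.pos)) y dvd_rfl hyc
  obtain ⟨c, hc⟩ := hy0.trans ((algebraMap (𝒟.B 0) (𝒟.A 0)).map_dvd (hb 0 𝒟.pos).2)
  obtain ⟨v, rfl⟩ := 𝒟.surjSA c
  replace hc : algebraMap (𝒟.B 0) (𝒟.A 0) (b 0) = algebraMap S (𝒟.A 0) u * algebraMap S (𝒟.A 0) v := hc
  obtain ⟨g, hg, hbg, hsurj⟩ := Groth.Agent.H69.Shrink.exists_base_open 𝒟 𝒜 b fun i h => (hb i h).1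
  obtain ⟨hXq, a1, t1, m1, t8, hp', hq', 𝒟', 𝒜', a, b', aA, rA, h1, h2, aB, rB, h3, h4, bA, h5, h6, bA', h7,
      sA, h8, mA, h9, gM, hb', hn, hr, hd, hS, hiso, hstep, hall⟩ :=
    Groth.Agent.H69.Shrink.complete R S N p q 𝒟 𝒜 g hg (u * v * algebraMap R S g) (dvd_mul_left _ _)
      (fun i => b i * algebraMap R (𝒟.B i) g) hbg (fun i _ => dvd_mul_left _ _)
      (fun i h => by
        rw [map_mul, map_mul, hbc i h, ← IsScalarTower.algebraMap_apply R (𝒟.B i) (𝒟.A (i + 1)),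
          ← IsScalarTower.algebraMap_apply R (𝒟.B (i + 1)) (𝒟.A (i + 1))])
      (by
        rw [map_mul, map_mul, map_mul, hc, ← IsScalarTower.algebraMap_apply R S (𝒟.A 0),
          ← IsScalarTower.algebraMap_apply R (𝒟.B 0) (𝒟.A 0)])
      hsurj
  refine ⟨g, _, hg, hXq, ?_, a1, t1, m1, t8, hp', hq', 𝒟', 𝒜', a, b', aA, rA, h1, h2, aB, rB, h3, h4, bA, h5, h6, bA', h7,
    sA, h8, mA, h9, gM, hn, hr, hd, hS, hiso, hstep, hall⟩
  exact isUnit_of_dvd_unit ((algebraMap S _).map_dvd (Dvd.intro _ (mul_assoc u v _).symm))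
    (IsLocalization.Away.algebraMap_isUnit (u * v * algebraMap R S g))

end Groth.Agent.S12246
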