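import Groth.Statements.S12249
import Groth.Agent.Lib.ArtinFun.HR

set_option autoImplicit false
universe u v
open CategoryTheory
open Deform

namespace Groth.Agent.S12249

/-- Let k be an algebraically closed field and F a set-valued functor on local Artinian k-algebras with
residue field k such that F(k) is a single point. If F has a semiuniversal formal element and its
tangent space F(k[ε]) is reduced to one element, then F(A) consists of exactly one element for every
A: F is the constant one-point functor h_k. -/
theorem result
    {k : Type u} [Field k] [IsAlgClosed k]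
    (F : ArtFun.Art k k ⥤ Type v) (h0 : ArtFun.H0 F) (hF : ArtFun.HasHull F)
    (ht : Subsingleton (ArtFun.TangentSpace F)) (A : ArtFun.Art k k) :
    Nonempty (F.obj A) ∧ Subsingleton (F.obj A) := by
  obtain ⟨H⟩ := hF
  have hb := Groth.Agent.Lib.ArtinFun.surjective_base_of_h0 H.family h0
  exact Groth.Agent.Lib.ArtinFun.unique_obj_of_subsingleton_tangent h0
    ((Groth.Agent.Lib.ArtinFun.s1_iff_hbar F).1
      (Groth.Agent.Lib.ArtinFun.hbar_of_isVersal H.family H.miniversal.1 hb))
    (Groth.Agent.Lib.ArtinFun.heps_of_isMiniversal H.family H.miniversal hb) ht A

end Groth.Agent.S12249
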