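import Groth.Statements.S1225
import Groth.Agent.Lib.RelAss.FlatAtPoint
import Groth.Agent.S1221

set_option autoImplicit false
set_option linter.style.haveILetI false
universe u
open FlatMor

namespace Groth.Agent.S1225

open IsLocalRing in
/-- Ring form, X = Spec B affine: let A be a local ring, B a finite type A-algebra and N a finite
B-module which is flat over A and pure along the closed fibre. Then a B-linear map φ from N to any
B-module is injective if and only if its localization at q is injective for every prime q of B over
𝔪_A whose extension to the closed fibre ring is an associated prime of the closed fibre module. -/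
theorem result {A B : Type u} [CommRing A] [IsLocalRing A] [CommRing B] [Algebra A B] [Algebra.FiniteType A B]
    (N : Type u) [AddCommGroup N] [Module B N] [Module A N] [IsScalarTower A B N] [Module.Finite B N] [Module.Flat A N]
    (hpure : FlatCA.IsPureAlong A B N (maximalIdeal A))
    (N' : Type u) [AddCommGroup N'] [Module B N'] (φ : N →ₗ[B] N') :
    Function.Injective φ ↔ ∀ (q : Ideal B) [q.IsPrime], q.LiesOver (maximalIdeal A) →
      FlatCA.fiberIdeal (maximalIdeal A) q ∈ associatedPrimes ((maximalIdeal A).Fiber B) (FlatCA.fiberMod (maximalIdeal A) B N) →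
      Function.Injective (LocalizedModule.map q.primeCompl φ) := by
  have hfl : ∀ (Q : Ideal B) [Q.IsPrime], FlatCA.FlatAt A Q N := fun Q _ =>
    H19.FlatLocus.Model.flat_localized Q.primeCompl (LocalizedModule.mkLinearMap Q.primeCompl N)
  refine ⟨fun h q _ _ _ => LocalizedModule.map_injective _ φ h, fun h => ?_⟩
  refine (injective_iff_map_eq_zero φ).2 fun z hz => ?_
  by_contra hne
  obtain ⟨t, ht, Q, hQ, hQt, hass, hzQ⟩ := Lib.RelAss.FlatAtPoint.exists_assoc_of_ne_zero N hfl hne
  haveI := ht
  haveI := hQ
  haveI := hQt
  haveI : (maximalIdeal A).LiesOver (maximalIdeal A) := ⟨rfl⟩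
  -- purity along the closed fibre, for the trivial étale neighbourhood
  have hspec : ∃ (P : Ideal B), P.IsPrime ∧ Q ≤ P ∧ P.LiesOver (maximalIdeal A) := by
    by_contra hcon
    push Not at hcon
    refine hpure A B N LinearMap.id t (maximalIdeal A) Q ⟨inferInstance, inferInstance, ?_⟩
      ⟨inferInstance, IsBaseChange.of_equiv (TensorProduct.lid B N) fun x => by simp,
        IsLocalRing.le_maximalIdeal ht.ne_top, inferInstance, inferInstance, hass,
        fun P' hP' hle hP'm => hcon P' hP' hle hP'm⟩
    have hid : (Ideal.ResidueField.mapₐ (maximalIdeal A) (maximalIdeal A) (Algebra.ofId A A)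
        (Ideal.LiesOver.over (p := maximalIdeal A) (P := maximalIdeal A))).toRingHom = RingHom.id _ :=
      Ideal.ResidueField.ringHom_ext (RingHom.ext fun a =>
        (Ideal.ResidueField.mapₐ (maximalIdeal A) (maximalIdeal A) (Algebra.ofId A A)
          (Ideal.LiesOver.over (p := maximalIdeal A) (P := maximalIdeal A))).commutes a)
    have hid' : ∀ x, Ideal.ResidueField.mapₐ (maximalIdeal A) (maximalIdeal A) (Algebra.ofId A A)
        (Ideal.LiesOver.over (p := maximalIdeal A) (P := maximalIdeal A)) x = x := fun x => RingHom.congr_fun hid x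
    exact ⟨fun x y hxy => by rwa [hid', hid'] at hxy, fun x => ⟨x, hid' x⟩⟩
  obtain ⟨P, hP, hQP, hPm, hassP⟩ := S1221.result N (maximalIdeal A) (fun q _ _ => hfl q) t
    (IsLocalRing.le_maximalIdeal ht.ne_top) Q hass hspec
  haveI := hP
  haveI := hPm
  obtain ⟨w, hw, hwz⟩ := Lib.RG.Induct.killed_of_injective_map P φ (h P inferInstance hassP) z hz
  exact hzQ w (fun hwQ => hw (hQP hwQ)) hwz

end Groth.Agent.S1225
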