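import Groth.Statements.S12259
import Groth.Agent.Lib.ArtinFun.Tangent
import Groth.Agent.Lib.ArtinFun.Hull
import Groth.Agent.Lib.ArtinFun.DefAut
import Groth.Agent.Lib.ArtinFun.DefRS
import Groth.Agent.Lib.CurveFF.SmoothBC
import Groth.Agent.Lib.SmallLift.DefTangent
import Groth.Agent.Lib.RG.GeomComp
import Groth.Agent.Lib.Curves.Degree
import Groth.Agent.Lib.Curves.GlobalSections
import Groth.Agent.Lib.Curves.Positivity
-- import your own Groth.Agent.* helpers here

set_option autoImplicit false
universe u
open CategoryTheory CategoryTheory.Limits AlgebraicGeometry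
open Deform

namespace Groth.Agent.S12259

open ArtFun Groth.Agent.Lib.ArtinFun Groth.Agent.Lib

/-- Let k be an algebraically closed field and X a nonsingular connected projective curve over k, i.e. X
is smooth over k, connected, of dimension one and a closed subscheme of some projective space P^n_k,
and assume its genus g = dim_k H^1(X, O_X) is at least 2. Then the local moduli functor Def_X
(isomorphism classes of deformations of X over local Artinian k-algebras with residue field k) is
prorepresentable by a complete local Noetherian k-algebra with residue field k. (The published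
statement treats every genus and identifies the prorepresenting ring with a power series ring in 0,
1 or 3g − 3 variables; this row is the prorepresentability for g ≥ 2 only.) -/
theorem result
    {k : Type u} [Field k] [IsAlgClosed k] (X : Scheme.{u}) [X.Over (Spec (CommRingCat.of k))]
    [Smooth (X ↘ Spec (CommRingCat.of k))] [IsSeparated (X ↘ Spec (CommRingCat.of k))]
    [QuasiCompact (X ↘ Spec (CommRingCat.of k))] [ConnectedSpace X]
    (hdim : topologicalKrullDim X = 1)
    (hproj : ∃ (n : ℕ) (c : X ⟶ CohB1.ProjSpaceOver n (Spec (CommRingCat.of k))),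
      IsClosedImmersion c ∧ c ≫ CohB1.ProjSpaceOver.toBase n (Spec (CommRingCat.of k)) = X ↘ Spec (CommRingCat.of k))
    (hg : 2 ≤ Curv2.genus k X) :
    ArtFun.IsProrepresentable (ArtFun.defFunctor (Λ := k) X (X ↘ Spec (CommRingCat.of k))) := by
  let x := X ↘ Spec (CommRingCat.of k)
  obtain ⟨n, c, hc, hcx⟩ := hproj
  haveI := hc
  haveI : IsProper (X ↘ Spec (CommRingCat.of k)) := by rw [← hcx]; infer_instance
  haveI : IsIntegral X := RG.GeomComp.isIntegral_of_smooth_connected (X ↘ Spec (CommRingCat.of k))
  haveI : DCoh.HasSheafHom (Omega.sheaf (X ↘ Spec (CommRingCat.of k))) := SqZeroLift.ExtVanish.hasSheafHom' _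
  have hdim' : topologicalKrullDim X ≤ 1 := hdim.le
  have h0 := Curves.GlobalSections.finrank_h0_structure k X
  have hΩ := CurveFF.SmoothBC.isInvertible (k := k) (X := X) hdim
  have hdeg := (CurveFF.SmoothBC.omega_facts (k := k) (X := X) hdim h0).2
  haveI : TopologicalSpace.NoetherianSpace X := Curves.GlobalSections.noetherianSpace_of_proper k X
  -- no infinitesimal automorphisms
  haveI : Subsingleton (Omega.sheaf x ⟶ Coh.structureModule X) := by
    have key : ∀ φ : Omega.sheaf x ⟶ Coh.structureModule X, φ = 0 := fun φ => by
      by_contra hφ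
      have h := Curves.Positivity.deg_le_of_ne_zero (k := k) hdim' hΩ (PicLoc.isInvertible_structureModule X)
        (Curves.Degree.isGood hdim' hΩ) (Curves.Degree.isGood_structureModule hdim') hφ
      rw [hdeg, Curves.Degree.deg_structureModule] at h
      omega
    exact ⟨fun a b => (key a).trans (key b).symm⟩
  have hk : Function.Surjective (algebraMap k k) := fun c => ⟨c, rfl⟩
  obtain ⟨T⟩ := Groth.Agent.Lib.ArtinFun.nonempty_tangentStr (defFunctor (Λ := k) X x)
    DefRS.h0_defFunctor (DefRS.heps_defFunctor hk)
  obtain ⟨e⟩ := SmallLift.DefTangent.nonempty_linearEquiv (k := k) X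
  have hcoh : Coh.IsCoh ((DCoh.sheafHom (Omega.sheaf x)).obj (Coh.structureModule X)) :=
    CurveBundle.Coherent.isCoh (SheafHomDual.isFinLocFree_sheafHom
      (TensorMod.LocFree.of_rank (TensorMod.LocFree.of_isInvertible hΩ)))
  have h3 : Hfin (defFunctor (Λ := k) X x) := by
    haveI := (Curves.Finiteness.isGood_of_isCoh (k := k) hdim' hcoh).fin₁
    exact Module.Finite.equiv e.symm
  refine Groth.Agent.Lib.ArtinFun.isProrepresentable_of_conditions _ DefRS.h0_defFunctor ?_ h3 ?_
  · exact DefRS.rs_defFunctor fun A' A p _ ξ η q hq θ => ⟨DefSch.Iso.refl ξ, by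
      rw [DefAut.subsingleton_iso A η θ]
      exact (Category.comp_id q).trans (Category.id_comp q).symm⟩
  · intro x₀ σ τ _
    exact Art.hom_ext (AlgHom.ext fun c => (σ.toAlgHom.commutes c).trans (τ.toAlgHom.commutes c).symm)

end Groth.Agent.S12259
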