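import Groth.Statements.S1246
-- import your own Groth.Agent.* helpers here
import Groth.Agent.Lib.FlatCA.ImpurityMove
import Mathlib.RingTheory.Etale.QuasiFinite

set_option autoImplicit false
universe u
open FlatMor

namespace Groth.Agent.S1246

open TensorProduct

/-- Ring form, X = Spec B affine: let B be a finite type A-algebra, N a finite B-module and p a prime of
A. If there is an impurity of N above p whose base change A → A' is of finite type and quasi-finite
at the point t, then there is an impurity of N above p for which (A', t) is an elementary étale ring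
map at p. -/
theorem result {A B : Type u} [CommRing A] [CommRing B] [Algebra A B] [Algebra.FiniteType A B]
    (N : Type u) [AddCommGroup N] [Module B N] [Module.Finite B N] (p : Ideal A) [p.IsPrime]
    (h : FlatCA.HasImpurity A B N p (fun A' _ _ t => ∃ _ : t.IsPrime, Algebra.FiniteType A A' ∧ Algebra.QuasiFiniteAt A t)) :
    FlatCA.HasImpurity A B N p (fun A' _ _ t => ∃ _ : t.IsPrime, FlatCA.IsEtaleNhd A A' p t) := by
  classical
  obtain ⟨A₁, B₁, N₁, _, _, _, _, _, _, _, _, _, _, _, _, _, _, f₁, t₁', t₁, ht₁', ht₁, P₁, hP₁,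
    himp, hq⟩ := h
  obtain ⟨ht₁i, hft, hqf⟩ := hq
  haveI := hft
  haveI : Algebra.QuasiFiniteAt A t₁ := hqf
  haveI := himp.2.2.2.1
  obtain ⟨R', _, _, hetale, PR, _, _, e, he, P', _, _, hP'q, heP', hpP, hfin, huniq⟩ :=
    Algebra.exists_etale_isIdempotentElem_forall_liesOver_eq p t₁
  letI : Algebra A₁ (R' ⊗[A] A₁) := Algebra.TensorProduct.rightAlgebra
  haveI : Algebra.IsPushout A R' A₁ (R' ⊗[A] A₁) := inferInstance
  haveI : Algebra.IsPushout A A₁ R' (R' ⊗[A] A₁) := Algebra.IsPushout.symm inferInstance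
  haveI : Module.Flat A₁ (R' ⊗[A] A₁) :=
    Module.Flat.isBaseChange A A₁ R' (R' ⊗[A] A₁) (Algebra.IsPushout.out (R := A) (S := A₁) (R' := R'))
  let T := R' ⊗[A] A₁
  let X := Localization.Away e
  haveI : Module.Flat T X := IsLocalization.flat X (Submonoid.powers e)
  haveI : IsScalarTower A₁ T X := inferInstance
  haveI : Module.Flat A₁ X := Module.Flat.trans A₁ T X
  haveI : IsScalarTower A A₁ X := IsScalarTower.of_algebraMap_eq fun a => by
    rw [IsScalarTower.algebraMap_apply A₁ T X, ← IsScalarTower.algebraMap_apply A A₁ T,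
      ← IsScalarTower.algebraMap_apply]
  have hd : Disjoint (Submonoid.powers e : Set T) ↑P' := by
    rwa [Ideal.disjoint_powers_iff_notMem_of_isPrime]
  let u : Ideal X := P'.map (algebraMap T X)
  haveI : u.IsPrime := IsLocalization.isPrime_of_isPrime_disjoint (.powers e) _ _ ‹P'.IsPrime› hd
  haveI : u.LiesOver P' := IsLocalization.liesOver_map_of_isPrime_disjoint (.powers e) _ hd
  haveI : P'.LiesOver t₁ := ⟨hP'q.symm⟩
  haveI : u.LiesOver t₁ := .trans _ P' _
  haveI : u.LiesOver PR := .trans _ P' _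
  obtain ⟨t'', hle, ht'', ht''l⟩ := u.exists_ideal_le_liesOver_of_le (p := t₁') (q := t₁) himp.2.2.1
  haveI := ht''
  haveI := ht''l
  have hup := Lib.FlatCA.ImpurityMove.up himp X t'' u hle
    (fun Y _ _ v => ∃ (_ : Algebra R' Y) (_ : IsScalarTower A R' Y), Module.Finite R' Y ∧ v.LiesOver PR ∧
      ∀ w : Ideal Y, w.IsPrime → w.LiesOver PR → w = v)
    ⟨inferInstance, inferInstance, hfin, inferInstance, fun w hw hwl => by
      have hw' : (w.comap (algebraMap T X)) = P' := huniq _ inferInstance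
        ⟨by rw [Ideal.under_def, Ideal.comap_comap, ← IsScalarTower.algebraMap_eq]; exact hwl.over⟩
        (Ideal.notMem_of_isUnit _ (IsLocalization.Away.algebraMap_isUnit e) ∘ Ideal.mem_comap.1)
      rw [← IsLocalization.map_comap (.powers e) X w]
      exact congrArg (Ideal.map _) hw'⟩
  obtain ⟨A₂, B₂, N₂, _, _, _, _, _, _, _, _, _, _, _, _, _, _, f₂, t₂', t₂, ht₂', ht₂, P₂, hP₂,
    himp₂, _, _, hfin₂, hl₂, huniq₂⟩ := hup
  obtain ⟨ψ, hψ₁, hψ₂⟩ : ∃ ψ : R' ⊗[A] B →ₐ[A] B₂,
      (∀ r : R', ψ (r ⊗ₜ 1) = algebraMap A₂ B₂ (algebraMap R' A₂ r)) ∧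
      ∀ b : B, ψ ((1 : R') ⊗ₜ b) = algebraMap B B₂ b := Lib.FlatCA.ImpurityMove.exists_hom R'
  refine Lib.FlatCA.ImpurityMove.down R' himp₂ ψ.toRingHom hψ₁ hψ₂ (fun Q₁ hQ₁ hle₁ hl₁ => ?_) _ ?_
  · letI := ψ.toRingHom.toAlgebra
    haveI := himp₂.1
    haveI : Algebra.IsPushout A A₂ B B₂ := himp₂.1.symm
    have hint : ψ.toRingHom.IsIntegral := by
      intro z
      induction z using (Algebra.IsPushout.out (R := A) (S := A₂) (R' := B) (S' := B₂)).inductionOn with
      | zero => exact RingHom.isIntegralElem_zero _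
      | tmul b =>
        rw [show (IsScalarTower.toAlgHom A B B₂).toLinearMap b = algebraMap B B₂ b from rfl, ← hψ₂]
        exact RingHom.isIntegralElem_map _
      | smul a b hb =>
        rw [Algebra.smul_def]
        refine RingHom.IsIntegralElem.mul _ ?_ hb
        obtain ⟨q, hq, hqa⟩ := Algebra.IsIntegral.isIntegral (R := R') a
        refine ⟨q.map (algebraMap R' (R' ⊗[A] B)), hq.map _, ?_⟩
        rw [Polynomial.eval₂_map,
          show (ψ.toRingHom.comp (algebraMap R' (R' ⊗[A] B))) = (algebraMap A₂ B₂).comp (algebraMap R' A₂) from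
            RingHom.ext hψ₁,
          ← Polynomial.hom_eval₂, hqa, map_zero]
      | add x y hx hy => exact RingHom.IsIntegralElem.add _ hx hy
    haveI : Algebra.IsIntegral (R' ⊗[A] B) B₂ := ⟨hint⟩
    obtain ⟨Q₂, hle₂, hQ₂, hc₂⟩ := Ideal.exists_ideal_over_prime_of_isIntegral Q₁ P₂ hle₁
    haveI := hQ₂
    refine himp₂.2.2.2.2.2.2 Q₂ hle₂ ⟨(huniq₂ _ inferInstance ⟨?_⟩).symm⟩
    rw [hl₂.over, Ideal.under_def, Ideal.under_def, Ideal.comap_comap]
    refine hl₁.over.trans ?_
    rw [← hc₂, Ideal.under_def, Ideal.comap_comap]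
    exact congrArg (fun g => Q₂.comap g) (RingHom.ext hψ₁)
  · refine ⟨inferInstance, ?_⟩
    simp only [← Ideal.under_def, ← hl₂.over]
    exact ⟨hetale, inferInstance, hpP⟩

end Groth.Agent.S1246
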