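import Groth.Statements.S1226
-- import your own Groth.Agent.* helpers here
import Groth.Agent.S1246
import Mathlib.RingTheory.Unramified.LocalStructure

set_option autoImplicit false
universe u
open FlatMor

namespace Groth.Agent.S1226

open TensorProduct

/-- Ring form, X = Spec B affine: let B be a finite type A-algebra, N a finite B-module and p a prime of
A; let A' be an A-algebra with a prime p' over p such that A' is of finite type over A and
quasi-finite at p', and let B', N' be the base changes of B, N. If N is pure along the fibre over p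
then N' is pure along the fibre over p'. -/
theorem result {A B : Type u} [CommRing A] [CommRing B] [Algebra A B] [Algebra.FiniteType A B]
    (N : Type u) [AddCommGroup N] [Module B N] [Module.Finite B N] (p : Ideal A) [p.IsPrime]
    (A' B' N' : Type u) [CommRing A'] [CommRing B'] [Algebra A A'] [Algebra B B'] [Algebra A' B'] [Algebra A B']
    [IsScalarTower A B B'] [IsScalarTower A A' B'] [Algebra.IsPushout A B A' B']
    [AddCommGroup N'] [Module B' N'] [Module B N'] [IsScalarTower B B' N'] (f : N →ₗ[B] N') (hf : IsBaseChange B' f)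
    (p' : Ideal A') [p'.IsPrime] [p'.LiesOver p] [Algebra.FiniteType A A'] [Algebra.QuasiFiniteAt A p']
    (h : FlatCA.IsPureAlong A B N p) : FlatCA.IsPureAlong A' B' N' p' := by
  intro A'' B'' N'' _ _ _ _ _ _ _ _ _ _ _ _ _ _ g t' t _ _ P _ hn himp
  obtain ⟨hpo₂, hg, hle, htp, hPt, hass, hno⟩ := himp
  haveI := htp
  haveI := hpo₂
  haveI := hn.1
  letI : Algebra A A'' := ((algebraMap A' A'').comp (algebraMap A A')).toAlgebra
  haveI : IsScalarTower A A' A'' := .of_algebraMap_eq' rfl
  letI : Algebra B B'' := ((algebraMap B' B'').comp (algebraMap B B')).toAlgebra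
  haveI : IsScalarTower B B' B'' := .of_algebraMap_eq' rfl
  letI : Algebra A B'' := ((algebraMap A' B'').comp (algebraMap A A')).toAlgebra
  haveI : IsScalarTower A A' B'' := .of_algebraMap_eq' rfl
  haveI : IsScalarTower A A'' B'' := IsScalarTower.of_algebraMap_eq fun a => by
    rw [IsScalarTower.algebraMap_apply A A' A'', ← IsScalarTower.algebraMap_apply A' A'' B'',
      ← IsScalarTower.algebraMap_apply A A' B'']
  haveI : IsScalarTower A B' B'' := IsScalarTower.of_algebraMap_eq fun a => by
    rw [IsScalarTower.algebraMap_apply A A' B', ← IsScalarTower.algebraMap_apply A' B' B'',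
      ← IsScalarTower.algebraMap_apply A A' B'']
  haveI : IsScalarTower A B B'' := IsScalarTower.of_algebraMap_eq fun a => by
    rw [IsScalarTower.algebraMap_apply B B' B'', ← IsScalarTower.algebraMap_apply A B B',
      ← IsScalarTower.algebraMap_apply]
  haveI : Algebra.IsPushout A A' B B' := Algebra.IsPushout.symm inferInstance
  have hpo : Algebra.IsPushout A B A'' B'' :=
    ((Algebra.IsPushout.comp_iff A A' B B' (T := A'')).2 hpo₂.symm).symm
  letI : Module B N'' := Module.compHom N'' (algebraMap B B'')
  haveI : IsScalarTower B B'' N'' := IsScalarTower.of_algebraMap_smul fun _ _ => rfl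
  haveI : IsScalarTower B B' N'' := IsScalarTower.of_algebraMap_smul fun b n => by
    show algebraMap B B' b • n = algebraMap B B'' b • n
    rw [IsScalarTower.algebraMap_apply B B' B'', algebraMap_smul B'' (algebraMap B B' b) n]
  haveI : Algebra.FiniteType A A'' := Algebra.FiniteType.trans (R := A) (S := A') (A := A'') ‹Algebra.FiniteType A A'› inferInstance
  haveI : Algebra.QuasiFiniteAt A t := by
    let L := Localization.AtPrime p'
    let T := L ⊗[A'] A''
    haveI : Algebra.QuasiFinite A L := ‹Algebra.QuasiFiniteAt A p'›
    haveI : Algebra.QuasiFinite L T := inferInstance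
    haveI : Algebra.QuasiFinite A T := Algebra.QuasiFinite.trans A L T
    let φ : L →ₐ[A'] Localization.AtPrime t :=
      IsLocalization.liftAlgHom (M := p'.primeCompl) (f := Algebra.ofId A' (Localization.AtPrime t)) fun s => by
        show IsUnit (algebraMap A' (Localization.AtPrime t) s.1)
        rw [IsScalarTower.algebraMap_apply A' A'' (Localization.AtPrime t)]
        exact IsLocalization.map_units (M := t.primeCompl) _ ⟨_, fun h => s.2 ((Ideal.mem_of_liesOver t p' _).2 h)⟩
    let F : T →ₐ[A] Localization.AtPrime t :=
      (Algebra.TensorProduct.lift φ (IsScalarTower.toAlgHom A' A'' (Localization.AtPrime t))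
        fun _ _ => Commute.all _ _).restrictScalars A
    refine Algebra.QuasiFinite.of_forall_exists_mul_mem_range F fun x => ?_
    obtain ⟨x, s, rfl⟩ := IsLocalization.exists_mk'_eq t.primeCompl x
    have hF : ∀ a : A'', F ((1 : L) ⊗ₜ a) = algebraMap A'' (Localization.AtPrime t) a := fun a => by
      refine (Algebra.TensorProduct.lift_tmul φ (IsScalarTower.toAlgHom A' A'' (Localization.AtPrime t))
        (fun _ _ => Commute.all _ _) (1 : L) a).trans ?_
      rw [map_one, one_mul]
      rfl
    refine ⟨(1 : L) ⊗ₜ s.1, ?_, (1 : L) ⊗ₜ x, ?_⟩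
    · rw [hF]
      exact IsLocalization.map_units _ s
    · show F ((1 : L) ⊗ₜ x) = IsLocalization.mk' _ x s * F ((1 : L) ⊗ₜ s.1)
      rw [hF, hF, IsLocalization.mk'_spec]
  haveI : t.LiesOver p := .trans _ p' _
  obtain ⟨A₂, B₂, N₂, _, _, _, _, _, _, _, _, _, _, _, _, _, _, f₂, t₂', t₂, _, _, P₂, _, himp₂, _, hn₂⟩ :=
    Groth.Agent.S1246.result N p
      ⟨A'', B'', N'', inferInstance, inferInstance, inferInstance, inferInstance, inferInstance, inferInstance,
        inferInstance, inferInstance, inferInstance, inferInstance, inferInstance, inferInstance, inferInstance,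
        inferInstance, (g.restrictScalars B).comp f, t', t, inferInstance, inferInstance, P, inferInstance,
        ⟨hpo, hf.comp hg, hle, inferInstance, hPt, hass, hno⟩, inferInstance, inferInstance, inferInstance⟩
  exact h A₂ B₂ N₂ f₂ t₂' t₂ P₂ hn₂ himp₂

end Groth.Agent.S1226
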