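import Groth.Statements.S12261
import Groth.Agent.Lib.ArtinFun.LocalHilbNormal
import Groth.Agent.Lib.ArtinFun.HomFinite
import Groth.Agent.Lib.ArtinFun.Hull
import Groth.Agent.Lib.ProjSpace.BaseChange


set_option autoImplicit false
universe u
open CategoryTheory CategoryTheory.Limits AlgebraicGeometry
open Deform

namespace Groth.Agent.S12261

open Groth.Agent

/-- Let k be an algebraically closed field, Y a separated k-scheme of finite type and X ⊆ Y the closed
subscheme of a quasi-coherent ideal sheaf I₀; assume X is projective over k, i.e. X admits a closed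
immersion over k into some projective space P^n_k. Then the local Hilbert functor of X in Y (closed
subschemes of Y ×_k Spec A flat over Spec A restricting to X on the closed fibre, for A local
Artinian with residue field k) is prorepresentable by a complete local Noetherian k-algebra with
residue field k. (The published statement assumes only that the space of global sections of the
normal sheaf of X in Y is finite-dimensional, X projective being the named instance; this row states
the projective case.) -/
theorem result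
    {k : Type u} [Field k] [IsAlgClosed k] (Y : Scheme.{u}) (y : Y ⟶ Spec (CommRingCat.of k))
    [LocallyOfFiniteType y] [IsSeparated y] [QuasiCompact y] (I₀ : Y.IdealSheafData)
    (hproj : ∃ (n : ℕ) (c : I₀.subscheme ⟶ CohB1.ProjSpaceOver n (Spec (CommRingCat.of k))),
      IsClosedImmersion c ∧ c ≫ CohB1.ProjSpaceOver.toBase n (Spec (CommRingCat.of k)) = I₀.subschemeι ≫ y) :
    ArtFun.IsProrepresentable (ArtFun.localHilb Y y I₀) := by
  letI : Y.Over (Spec (CommRingCat.of k)) := ⟨y⟩
  letI : I₀.subscheme.Over (Spec (CommRingCat.of k)) := ⟨I₀.subschemeι ≫ y⟩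
  haveI : I₀.subschemeι.IsOver (Spec (CommRingCat.of k)) := ⟨rfl⟩
  obtain ⟨n, c, hc, hcy⟩ := hproj
  haveI : IsProper (I₀.subscheme ↘ Spec (CommRingCat.of k)) := by
    show IsProper (I₀.subschemeι ≫ y)
    rw [← hcy]
    haveI : IsProper (CohB1.ProjSpaceOver.toBase n (Spec (CommRingCat.of k))) :=
      Lib.ProjSpace.BaseChange.isProper_toBase n _
    infer_instance
  haveI : IsLocallyNoetherian Y := LocallyOfFiniteType.isLocallyNoetherian y
  haveI : IsLocallyNoetherian I₀.subscheme :=
    LocallyOfFiniteType.isLocallyNoetherian (I₀.subscheme ↘ Spec (CommRingCat.of k))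
  have hrs := Lib.ArtinFun.LocalHilbRS.rs_localHilb y I₀
  have h0 := Lib.ArtinFun.LocalHilbRS.h0_localHilb y I₀
  obtain ⟨T⟩ := Lib.ArtinFun.nonempty_tangentStr (ArtFun.localHilb Y y I₀) h0 hrs.heps
  haveI := T
  obtain ⟨e₁⟩ := Lib.ArtinFun.LocalHilbTangent.nonempty_linearEquiv_tangent y I₀ rfl hrs.heps h0.2
  obtain ⟨e₂⟩ := Lib.ArtinFun.NormalH0.nonempty_linearEquiv_congr (k := k) I₀.ker_subschemeι.symm (ClSub.quotMod I₀)
  obtain ⟨e₃⟩ := Lib.ArtinFun.NormalH0.nonempty_linearEquiv_adj (k := k) I₀.subschemeι
    (ClSub.idealMod I₀.subschemeι.ker) (Coh.structureModule I₀.subscheme)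
  haveI : Module.Finite k ((Scheme.Modules.pullback I₀.subschemeι).obj (ClSub.idealMod I₀.subschemeι.ker) ⟶
      Coh.structureModule I₀.subscheme) :=
    Lib.ArtinFun.HomFinite.finite_hom (Lib.ArtinFun.HomFinite.isCoh_conormal I₀.subschemeι) Lib.RefHull.Reflexive.isCoh_structure
  have h3 : ArtFun.Hfin (ArtFun.localHilb Y y I₀) :=
    Module.Finite.equiv ((e₁.trans e₂).trans e₃.symm).symm
  refine Lib.ArtinFun.isProrepresentable_of_conditions _ h0 hrs h3 fun x₀ σ τ _ => ?_
  haveI := Lib.ArtinFun.subsingleton_base_dual_of_surjective (Λ := k) (k := k) Function.surjective_id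
  exact Subsingleton.elim σ τ

end Groth.Agent.S12261
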