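import Groth.Statements.S12263
import Groth.Agent.Lib.ArtinFun.AffExtensions


set_option autoImplicit false
universe u
open CategoryTheory CategoryTheory.Limits AlgebraicGeometry
open Deform

namespace Groth.Agent.S12263

open Groth.Agent.Lib Groth.Agent.Lib.ArtinFun.AffDef TensorProduct

/-- Let k be an algebraically closed field and B₀ a finitely generated commutative k-algebra. Suppose
T^1_{B₀} = 0 in the form: every k-algebra extension of B₀ by the B₀-module B₀ (square-zero kernel)
is trivial. Then B₀ is rigid: every deformation of Spec B₀ over a local Artinian k-algebra A with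
residue field k (a scheme flat over Spec A together with a cartesian square exhibiting Spec B₀ as
the fibre over the closed point) is isomorphic, over Spec A and under Spec B₀, to the product
deformation Spec B₀ ×_k Spec A. (The published statement is for a k-algebra B₀, Noetherian by the
standing convention; this row takes B₀ finitely generated over k, the case covered by the results on
algebraic schemes that its proof cites. It also asserts a semiuniversal formal element when T^1_{B₀}
is finite-dimensional, in particular for isolated singularities; those clauses are instances of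
results on all algebraic schemes and are not repeated here. The first-order deformations of B₀
correspond to the k-algebra extensions of B₀ by B₀, the trivial deformation to the trivial
extension.) -/
theorem result
    {k : Type u} [Field k] [IsAlgClosed k] (B₀ : Type u) [CommRing B₀] [Algebra k B₀] [Algebra.FiniteType k B₀]
    (hT : ∀ E : Exal.Ext k B₀ B₀, E.IsTrivial) (A : ArtFun.Art k k)
    (ξ : ArtFun.DefSch (Spec (CommRingCat.of B₀)) (Spec.map (CommRingCat.ofHom (algebraMap k B₀))) A) :
    Nonempty (ξ.Iso (ArtFun.DefSch.trivial (Spec (CommRingCat.of B₀))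
      (Spec.map (CommRingCat.ofHom (algebraMap k B₀))) inferInstance A)) := by
  let x := Spec.map (CommRingCat.ofHom (algebraMap k B₀))
  suffices h : ∀ (A : ArtFun.Art k k) (ξ : ArtFun.DefSch (Spec (CommRingCat.of B₀)) x A),
      ξ.cl = (ArtFun.DefSch.trivial (Spec (CommRingCat.of B₀)) x inferInstance A).cl from Quotient.exact (h A ξ)
  intro A
  induction A using ArtinFun.obj_induction with
  | hiso e he h =>
    intro ξ
    refine (ArtinFun.bijective_map_of_isIso _ e).1 ?_
    rw [trivial_cl_map]
    exact h _
  | hbase => exact fun ξ => Quotient.sound ⟨isoBase _ _⟩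
  | @hsmall A A' p hp h =>
    intro ξ
    let τ := ArtFun.DefSch.trivial (Spec (CommRingCat.of B₀)) x inferInstance A'
    have h1 : (ξ.baseChange p).cl = (τ.baseChange p).cl := by
      refine (h _).trans ?_
      exact (trivial_cl_map inferInstance p).symm
    obtain ⟨e⟩ := Quotient.exact h1
    obtain ⟨E⟩ := nonempty_equiv_extensions_exalcom hp.isSemismallExt (τ.baseChange p)
      ⟨τ, ⟨ArtFun.DefSch.Iso.refl _⟩⟩
    obtain ⟨k₁⟩ := nonempty_ker_equiv hp
    obtain ⟨f⟩ := nonempty_tensor_equiv (B₀ := B₀) k₁
    haveI := subsingleton_exalcom hT
    haveI : Subsingleton (Exal.Exalcom k B₀ (B₀ ⊗[k] Ker p)) := (exalcomCongr f).subsingleton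
    haveI := E.subsingleton
    let r := fun a b : (Σ 𝒳' : ArtFun.DefSch (Spec (CommRingCat.of B₀)) x A', (𝒳'.baseChange p).Iso (τ.baseChange p)) =>
      ∃ ψ : a.1.Iso b.1, ((ψ.baseChange p).trans b.2).iso = a.2.iso
    let g : Quot r → (ArtFun.defFunctor (Spec (CommRingCat.of B₀)) x).obj A' :=
      Quot.lift (fun a => a.1.cl) fun _ _ h => Quotient.sound ⟨h.choose⟩
    exact congrArg g (Subsingleton.elim (Quot.mk r ⟨ξ, e⟩) (Quot.mk r ⟨τ, ArtFun.DefSch.Iso.refl _⟩))

end Groth.Agent.S12263
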