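import Groth.Statements.S12265
import Groth.Agent.Lib.ArtinFun.HilbBridge
import Groth.Agent.Lib.ArtinFun.LocalHilbTangent
import Groth.Agent.Lib.ArtinFun.NormalH0
import Groth.Agent.Lib.ArtinFun.QuotModIso
import Groth.Agent.Lib.ArtinFun.AffHull
import Groth.Agent.Lib.ArtinFun.HR
import Groth.Agent.Lib.ProjSpace.BaseChange


set_option autoImplicit false
universe u
open CategoryTheory CategoryTheory.Limits AlgebraicGeometry
attribute [local instance] HasDerivedCategory.standard
open Deform

namespace Groth.Agent.S12265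

open Groth.Agent

/-- Let k be an algebraically closed field and Y a projective k-scheme (separated, of finite type, with
a closed k-immersion into some P^m_k). Let (H, Z) represent the Hilbert functor of Y over k on
locally Noetherian k-schemes: H is locally Noetherian, Z ⊆ Y ×_k H is a closed subscheme proper and
flat over H, and every closed subscheme of Y ×_k T proper and flat over a locally Noetherian
k-scheme T is the pullback of Z along a unique k-morphism T → H. Let i : X → Y be a closed immersion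
over k, N = Hom_{O_X}(I/I², O_X) its normal sheaf (the sheaf Hom of the conormal sheaf, taken as a
right adjoint, assumed to exist) and h : Spec k → H the k-point classifying X, i.e. the pullback of
Z along h is X ⊆ Y ×_k Spec k. Then the Zariski tangent space of H at the point [X] = h(pt) and
H^0(X, N) have the same dimension: the dimension of m/m² over the residue field of the local ring of
H at [X] equals dim_k H^0(X, N). (The published statement gives a canonical isomorphism T_{[X]} H ≅
H^0(X, N); this row records the equality of dimensions.) -/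
theorem result
    {k : Type u} [Field k] [IsAlgClosed k] (Y : Scheme.{u}) (y : Y ⟶ Spec (CommRingCat.of k))
    [LocallyOfFiniteType y] [IsSeparated y] [QuasiCompact y]
    (hprojY : ∃ (m : ℕ) (c : Y ⟶ CohB1.ProjSpaceOver m (Spec (CommRingCat.of k))),
      IsClosedImmersion c ∧ c ≫ CohB1.ProjSpaceOver.toBase m (Spec (CommRingCat.of k)) = y)
    (H : Over (Spec (CommRingCat.of k))) (Z : FGA.HilbSet y H) (hH : FGA.HilbRepresentedBy y H Z)
    (X : Scheme.{u}) [X.Over (Spec (CommRingCat.of k))] (i : X ⟶ Y) [IsClosedImmersion i] (hi : i ≫ y = X ↘ (Spec (CommRingCat.of k)))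
    [DCoh.HasSheafHom (Omega.conormal i)]
    (h : Over.mk (𝟙 (Spec (CommRingCat.of k))) ⟶ H)
    (hh : FGA.hilbPull y h Z.1 = i.ker.comap (pullback.fst y (Over.mk (𝟙 (Spec (CommRingCat.of k)))).hom)) :
    Module.finrank (IsLocalRing.ResidueField (H.left.presheaf.stalk (h.left.base (IsLocalRing.closedPoint k))))
        (IsLocalRing.CotangentSpace (H.left.presheaf.stalk (h.left.base (IsLocalRing.closedPoint k)))) =
      Module.finrank k (Coh.HH X ((DCoh.sheafHom (Omega.conormal i)).obj (Coh.structureModule X)) 0) := by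
  letI : Y.Over (Spec (CommRingCat.of k)) := ⟨y⟩
  haveI : i.IsOver (Spec (CommRingCat.of k)) := ⟨hi⟩
  obtain ⟨m, c, hc, hcy⟩ := hprojY
  haveI : IsProper y := by
    rw [← hcy]
    haveI : IsProper (CohB1.ProjSpaceOver.toBase m (Spec (CommRingCat.of k))) :=
      Lib.ProjSpace.BaseChange.isProper_toBase m _
    infer_instance
  obtain ⟨ξ, hξ⟩ := Lib.ArtinFun.HilbBridge.exists_universal_family y Z h i.ker hh hH
  haveI := hH.1
  haveI : IsNoetherianRing (Lib.ArtinFun.HilbBridge.Stalk h) :=
    inferInstanceAs (IsNoetherianRing (H.left.presheaf.stalk (Lib.ArtinFun.HilbBridge.pt h)))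
  obtain ⟨P, ι, hι, hP, -, -, hfin⟩ := Lib.ArtinFun.exists_completion_local
    (Lib.ArtinFun.HilbBridge.Stalk h) (Lib.ArtinFun.HilbBridge.resR h)
  let res' : ∀ {A : ArtFun.Art k k} (ψ : ArtFun.HomSet P.carrier P.res A),
      ArtFun.HomSet (Lib.ArtinFun.HilbBridge.Stalk h) (Lib.ArtinFun.HilbBridge.resR h) A := fun {A} ψ =>
    ⟨ψ.1.comp ι, by rw [← AlgHom.comp_assoc, ψ.2, hι]⟩
  have hres' : ∀ A : ArtFun.Art k k, Function.Bijective (res' (A := A)) := fun A =>
    ⟨fun a b e => (hP A (res' a)).unique (fun _ => rfl) fun r => (AlgHom.congr_fun (congrArg Subtype.val e) r).symm,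
      fun φ => ⟨(hP A φ).choose, Subtype.ext (AlgHom.ext (hP A φ).choose_spec.1)⟩⟩
  let η : ∀ A : ArtFun.Art k k, (ArtFun.hR P.carrier P.res).obj A → (ArtFun.localHilb Y y i.ker).obj A :=
    fun A ψ => ξ.app A (res' ψ)
  have hη : Lib.ArtinFun.IsNatMap (ArtFun.hR P.carrier P.res) (ArtFun.localHilb Y y i.ker) η :=
    fun {A B} f ψ => (congrArg (ξ.app B) (Subtype.ext rfl)).trans (ξ.natural f (res' ψ))
  have hηb : ∀ A, Function.Bijective (η A) := fun A => (hξ A).comp (hres' A)
  have hrsP := Lib.ArtinFun.rs_hR (Λ := k) P.carrier P.res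
  have hrs := Lib.ArtinFun.LocalHilbRS.rs_localHilb y i.ker
  have h0 := Lib.ArtinFun.LocalHilbRS.h0_localHilb y i.ker
  obtain ⟨T₁⟩ := Lib.ArtinFun.nonempty_tangentStr (ArtFun.hR P.carrier P.res)
    (Lib.ArtinFun.h0_hR _ _) hrsP.heps
  obtain ⟨T₂⟩ := Lib.ArtinFun.nonempty_tangentStr (ArtFun.localHilb Y y i.ker) h0 hrs.heps
  haveI := T₁
  haveI := T₂
  obtain ⟨f, hf⟩ := Lib.ArtinFun.exists_linearMap_tangent (F := ArtFun.hR P.carrier P.res)
    (G := ArtFun.localHilb Y y i.ker) η hη (Lib.ArtinFun.h0_hR _ _).2 hrsP.heps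
  have hfb : Function.Bijective f := by
    rw [show (f : _ → _) = η (ArtFun.Art.dual k k) from funext hf]
    exact hηb _
  obtain ⟨e₁⟩ := Lib.ArtinFun.LocalHilbTangent.nonempty_linearEquiv_tangent y i.ker rfl hrs.heps h0.2
  obtain ⟨e₂⟩ := Lib.ArtinFun.NormalH0.nonempty_linearEquiv_h0_normal (k := k) i
  obtain ⟨q⟩ := Lib.ArtinFun.QuotModIso.nonempty_iso_quotMod i
  refine (show Module.finrank (IsLocalRing.ResidueField (Lib.ArtinFun.HilbBridge.Stalk h))
    (IsLocalRing.CotangentSpace (Lib.ArtinFun.HilbBridge.Stalk h)) = _ from ?_)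
  rw [hfin, ← Lib.ArtinFun.finrank_hR_tangent P, (LinearEquiv.ofBijective f hfb).finrank_eq, e₁.finrank_eq,
    e₂.finrank_eq]
  exact (Linear.homCongr k (Iso.refl _) q.symm).finrank_eq

end Groth.Agent.S12265
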