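import Groth.Statements.S12268
import Groth.Agent.Lib.ArtinFun.AffTangent
import Groth.Agent.Lib.ArtinFun.AffObsTheory
import Groth.Agent.Lib.ArtinFun.AffHull
import Groth.Agent.Lib.ArtinFun.HR


set_option autoImplicit false
universe u
open CategoryTheory CategoryTheory.Limits AlgebraicGeometry
open Deform

namespace Groth.Agent.S12268

open Groth.Agent.Lib.ArtinFun Groth.Agent.Lib.ArtinFun.AffDef

/-- Let k be an algebraically closed field and B₀ a k-algebra with a finite presentation P =
k[X_i]/(f_s); let T¹ = T¹(B₀/k, B₀) and T² = T²(B₀/k, B₀) be the first and second cotangent modules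
computed from P, and assume T¹ is finite-dimensional over k. Then for every semiuniversal formal
deformation of Spec B₀ — a complete local Noetherian k-algebra R̄ with residue field k carrying a
miniversal family for the functor Def_{B₀} of isomorphism classes of deformations — one has dim R̄ ≤
dim_k T¹; if T² is finite-dimensional as well, dim_k T¹ ≤ dim R̄ + dim_k T²; and dim R̄ = dim_k T¹
holds exactly when Spec B₀ is unobstructed, i.e. Def_{B₀}(B) → Def_{B₀}(A) is surjective for every
surjection B → A of local Artinian k-algebras with residue field k. (The published statement writes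
the lower bound as dim_k T¹ − dim_k T² ≤ dim R̄, empty when T² is infinite-dimensional, and allows a
localisation of the polynomial ring as ambient algebra.) -/
theorem result
    {k : Type u} [Field k] [IsAlgClosed k] (B₀ : Type u) [CommRing B₀] [Algebra k B₀] {ι σ : Type u} [Finite ι] [Finite σ]
    (P : Algebra.Presentation k B₀ ι σ)
    [Module.Finite k (CotT.T1 P B₀)] (H : ArtFun.Hull (ArtFun.defFunctor (Λ := k) (Spec (CommRingCat.of B₀)) (Spec.map (CommRingCat.ofHom (algebraMap k B₀))))) :
    ringKrullDim H.ring.carrier ≤ ((Module.finrank k (CotT.T1 P B₀) : ℕ∞) : WithBot ℕ∞) ∧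
      (Module.Finite k (CotT.T2 P B₀) →
        ((Module.finrank k (CotT.T1 P B₀) : ℕ∞) : WithBot ℕ∞) ≤
          ringKrullDim H.ring.carrier + ((Module.finrank k (CotT.T2 P B₀) : ℕ∞) : WithBot ℕ∞)) ∧
      (ringKrullDim H.ring.carrier = ((Module.finrank k (CotT.T1 P B₀) : ℕ∞) : WithBot ℕ∞) ↔
        ArtFun.IsSmoothFunctor (ArtFun.defFunctor (Λ := k) (Spec (CommRingCat.of B₀)) (Spec.map (CommRingCat.ofHom (algebraMap k B₀))))) := by
  let F := ArtFun.defFunctor (Λ := k) (Spec (CommRingCat.of B₀)) (xB (k := k) B₀)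
  let R := H.ring
  have h0 : ArtFun.H0 F := ⟨⟨(ArtFun.DefSch.self _ (xB (k := k) B₀) inferInstance).cl⟩, ⟨fun a b => by
    induction a using Quotient.ind with
    | _ ξ =>
      induction b using Quotient.ind with
      | _ ξ' => exact Quotient.sound ⟨isoBase ξ ξ'⟩⟩⟩
  have hb := surjective_base_of_h0 H.family h0
  have heps : ArtFun.Heps F := heps_of_isMiniversal H.family H.miniversal hb
  obtain ⟨T⟩ := nonempty_tangentStr F h0 heps
  obtain ⟨TR⟩ := nonempty_tangentStr (ArtFun.hR R.carrier R.res) (h0_hR _ _) (rs_hR _ _).heps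
  obtain ⟨f, hf⟩ := exists_linearMap_tangent (F := ArtFun.hR R.carrier R.res) (G := F) (fun A => H.family.app A)
    (isNatMap_family H.family) subsingleton_homSet_base (rs_hR _ _).heps
  have hfb : Function.Bijective f := by
    refine ⟨fun a b hab => H.miniversal.2.1 (((hf a).symm.trans hab).trans (hf b)), fun y => ?_⟩
    obtain ⟨φ, hφ⟩ := H.miniversal.2.2 y
    exact ⟨φ, (hf φ).trans hφ⟩
  obtain ⟨E⟩ := nonempty_tangent_linearEquiv P (k := k) (B₀ := B₀) fun x y => by
    obtain ⟨z, h₁, h₂⟩ := (cmp_surjective_iff ArtFun.Art.isFibreProd_dual2).1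
      (heps _ _ ArtFun.Art.isFibreProd_dual2).2 x y (@Subsingleton.elim _ h0.2 _ _)
    exact ⟨z, h₁, h₂⟩
  have hn : Module.finrank k (CotT.T1 P B₀) =
      Module.finrank (IsLocalRing.ResidueField R.carrier) (IsLocalRing.CotangentSpace R.carrier) := by
    rw [← finrank_hR_tangent R]
    exact ((LinearEquiv.ofBijective f hfb).trans E).finrank_eq.symm
  obtain ⟨d, resP, q, hlift, hq, hqres⟩ := exists_powerSeries_presentation R
  haveI := isRegularLocalRing_ps (k := k) d
  rw [hn]
  refine ⟨?_, fun hfin => ?_, ?_⟩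
  · rw [← IsLocalRing.spanFinrank_maximalIdeal_eq_finrank_cotangentSpace]
    exact ringKrullDim_le_spanFinrank_maximalIdeal R.carrier
  · obtain ⟨TF⟩ := hasObsTheory_defFunctor P (k := k) (B₀ := B₀)
    obtain ⟨TH⟩ := hasObsTheory_of_versal H.family H.miniversal.1 TF
    exact (estimates_of_obsTheory resP R.res q hlift hq hqres (CotT.T2 P B₀) TH).2.1
  · rw [isSmoothFunctor_iff_regular h0 H, ← IsLocalRing.spanFinrank_maximalIdeal_eq_finrank_cotangentSpace]
    exact ⟨fun h => IsRegularLocalRing.of_spanFinrank_maximalIdeal_le _ h.ge,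
      fun h => (IsRegularLocalRing.spanFinrank_maximalIdeal (R := R.carrier)).symm⟩

end Groth.Agent.S12268
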