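import Groth.Statements.S1227
import Mathlib.LinearAlgebra.DirectSum.Finsupp
import Mathlib.LinearAlgebra.TensorProduct.RightExactness

set_option autoImplicit false
universe u
open FlatMor

namespace Groth.Agent.S1227

open TensorProduct in
/-- Let u be a surjective linear map from a projective A-module M to an A-module N. Then there is an
ideal I of A such that for every A-algebra B, the base change u ⊗ 1 from B ⊗ M to B ⊗ N is bijective
if and only if the image of I in B is zero. -/
theorem result {A : Type u} [CommRing A] {M N : Type u} [AddCommGroup M] [Module A M] [Module.Projective A M]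
    [AddCommGroup N] [Module A N] (u : M →ₗ[A] N) (hu : Function.Surjective u) :
    ∃ I : Ideal A, ∀ (B : Type u) [CommRing B] [Algebra A B],
      Function.Bijective (u.baseChange B) ↔ I.map (algebraMap A B) = ⊥ := by
  obtain ⟨s, hs⟩ := Module.projective_def.1 (inferInstance : Module.Projective A M)
  classical
  refine ⟨Ideal.span {a | ∃ k ∈ LinearMap.ker u, ∃ i : M, s k i = a}, fun B _ _ => ?_⟩
  let e := TensorProduct.finsuppScalarRight A A B M
  have key : ∀ k, ((1 : B) ⊗ₜ[A] k = 0) ↔ ∀ i, algebraMap A B (s k i) = 0 := by
    intro k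
    have h1 : ((1 : B) ⊗ₜ[A] k = 0) ↔ ((1 : B) ⊗ₜ[A] s k = 0) := by
      constructor
      · intro h
        simpa using congrArg (s.lTensor B) h
      · intro h
        have := congrArg ((Finsupp.linearCombination A id : (M →₀ A) →ₗ[A] M).lTensor B) h
        simpa [hs k] using this
    rw [h1, ← e.map_eq_zero_iff, DFunLike.ext_iff]
    refine forall_congr' fun i => ?_
    simp [e, Algebra.smul_def]
  rw [Ideal.map_span, Ideal.span_eq_bot]
  constructor
  · intro hbij x
    rintro ⟨a, ⟨k, hk, i, rfl⟩, rfl⟩
    exact (key k).1 (hbij.1 (by rw [LinearMap.baseChange_tmul, LinearMap.mem_ker.1 hk, tmul_zero, map_zero])) i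
  · intro hI
    refine ⟨?_, ?_⟩
    · rw [injective_iff_map_eq_zero]
      intro z hz
      rw [LinearMap.baseChange_eq_ltensor] at hz
      obtain ⟨y, rfl⟩ := ((lTensor_exact (M := ↥(LinearMap.ker u)) B (LinearMap.exact_subtype_ker_map u) hu) z).1 hz
      clear hz
      induction y using TensorProduct.induction_on with
      | zero => simp
      | add a b ha hb => rw [map_add, ha, hb, add_zero]
      | tmul b k =>
        rw [LinearMap.lTensor_tmul, Submodule.coe_subtype, ← mul_one b, ← smul_eq_mul,
          ← TensorProduct.smul_tmul', (key k).2 (fun i => hI _ ⟨s k i, ⟨k, k.2, i, rfl⟩, rfl⟩),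
          smul_zero]
    · rw [LinearMap.baseChange_eq_ltensor]
      exact LinearMap.lTensor_surjective B hu


end Groth.Agent.S1227
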