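import Groth.Statements.S12271
import Groth.Agent.Lib.ProjSpace.BaseChange
import Groth.Agent.Lib.ArtinFun.HilbTangent
import Groth.Agent.Lib.ArtinFun.NormalFinite


set_option autoImplicit false
universe u
open CategoryTheory CategoryTheory.Limits AlgebraicGeometry
attribute [local instance] HasDerivedCategory.standard
open Deform

namespace Groth.Agent.S12271

open Groth.Agent

/-- Let k be an algebraically closed field, Y a separated k-scheme of finite type and i : X → Y a
regular closed immersion over k (its ideal is locally generated by a regular sequence) with X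
projective over k; let N = Hom_{O_X}(I/I², O_X) be the normal sheaf (sheaf Hom of the conormal sheaf
of i, as a right adjoint, assumed to exist). Let R̄ be a complete local Noetherian k-algebra with
residue field k prorepresenting the local Hilbert functor of X in Y (closed subschemes of Y ×_k Spec
A flat over A restricting to X, X ⊆ Y given by the kernel ideal of i), i.e. carrying a universal
family — the formal universal deformation of X in Y. Then dim R̄ ≤ h⁰(X, N); h⁰(X, N) ≤ dim R̄ +
h¹(X, N); and dim R̄ = h⁰(X, N) if and only if X is unobstructed in Y, i.e. the local Hilbert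
functor takes every surjection B → A of local Artinian k-algebras with residue field k to a
surjective map. (The published statement writes the second bound as h⁰(N) − h¹(N) ≤ dim R̄.) -/
theorem result
    {k : Type u} [Field k] [IsAlgClosed k] (Y : Scheme.{u}) (y : Y ⟶ Spec (CommRingCat.of k))
    [LocallyOfFiniteType y] [IsSeparated y] [QuasiCompact y]
    (X : Scheme.{u}) [X.Over (Spec (CommRingCat.of k))] (i : X ⟶ Y) [IsClosedImmersion i] (hi : i ≫ y = X ↘ (Spec (CommRingCat.of k)))
    (hreg : Mor2.IsRegularClosedImmersion i)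
    (hproj : ∃ (n : ℕ) (c : X ⟶ CohB1.ProjSpaceOver n (Spec (CommRingCat.of k))),
      IsClosedImmersion c ∧ c ≫ CohB1.ProjSpaceOver.toBase n (Spec (CommRingCat.of k)) = X ↘ (Spec (CommRingCat.of k)))
    [DCoh.HasSheafHom (Omega.conormal i)]
    (R : ArtFun.ProRep (ArtFun.localHilb Y y i.ker)) :
    ringKrullDim R.ring.carrier ≤ ((Module.finrank k (Coh.HH X ((DCoh.sheafHom (Omega.conormal i)).obj (Coh.structureModule X)) 0) : ℕ∞) : WithBot ℕ∞) ∧
      ((Module.finrank k (Coh.HH X ((DCoh.sheafHom (Omega.conormal i)).obj (Coh.structureModule X)) 0) : ℕ∞) : WithBot ℕ∞) ≤ ringKrullDim R.ring.carrier + ((Module.finrank k (Coh.HH X ((DCoh.sheafHom (Omega.conormal i)).obj (Coh.structureModule X)) 1) : ℕ∞) : WithBot ℕ∞) ∧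
      (ringKrullDim R.ring.carrier = ((Module.finrank k (Coh.HH X ((DCoh.sheafHom (Omega.conormal i)).obj (Coh.structureModule X)) 0) : ℕ∞) : WithBot ℕ∞) ↔ ArtFun.IsSmoothFunctor (ArtFun.localHilb Y y i.ker)) := by
  letI : Y.Over (Spec (CommRingCat.of k)) := ⟨y⟩
  haveI : i.IsOver (Spec (CommRingCat.of k)) := ⟨hi⟩
  haveI : IsLocallyNoetherian Y := LocallyOfFiniteType.isLocallyNoetherian y
  obtain ⟨m, c, hc, hcy⟩ := hproj
  haveI : IsProper (X ↘ Spec (CommRingCat.of k)) := by
    rw [← hcy]
    haveI : IsProper (CohB1.ProjSpaceOver.toBase m (Spec (CommRingCat.of k))) :=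
      Lib.ProjSpace.BaseChange.isProper_toBase m _
    infer_instance
  have hh1 := Lib.ArtinFun.LciLocal.isH1Ideal_of_regularImmersion hreg
  haveI := Lib.ArtinFun.NormalFinite.finite_HH (k := k) i hh1 1
  obtain ⟨h2, h3, -, -⟩ := Lib.ArtinFun.HilbLocal.estimates_cring R.ring R.family R.universal _
    (Lib.ArtinFun.LiftImm.hasObsTheory_H1 (k := k) i hh1)
  have hh0 := Lib.ArtinFun.HilbTangent.finrank_cotangentSpace i R.ring R.family R.universal
  rw [hh0] at h2 h3
  refine ⟨h2, h3, fun heq => ?_, fun hsm => ?_⟩
  · haveI : IsRegularLocalRing R.ring.carrier := by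
      refine IsRegularLocalRing.of_spanFinrank_maximalIdeal_le _ ?_
      rw [IsLocalRing.spanFinrank_maximalIdeal_eq_finrank_cotangentSpace, hh0, heq]
      exact le_rfl
    exact Lib.ArtinFun.HilbTangent.isSmoothFunctor_of_regular R.ring R.family R.universal
  · obtain ⟨h2', h3', -, -⟩ := Lib.ArtinFun.HilbLocal.estimates_cring R.ring R.family R.universal PUnit.{u + 1}
      (Lib.ArtinFun.HilbLocal.hasObsTheory_of_surjective fun A' A p hp => hsm p hp.1)
    rw [hh0] at h2' h3'
    have hW : Module.finrank k PUnit.{u + 1} = 0 := Module.finrank_zero_of_subsingleton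
    rw [hW] at h3'
    simp only [Nat.cast_zero, add_zero] at h3'
    exact le_antisymm h2' h3'

end Groth.Agent.S12271
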