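import Groth.Statements.S12272
import Groth.Agent.Lib.ArtinFun.LocalHilbNormal
import Groth.Agent.Lib.ArtinFun.QuotModIso


set_option autoImplicit false
universe u
open CategoryTheory CategoryTheory.Limits AlgebraicGeometry
attribute [local instance] HasDerivedCategory.standard
open Deform

namespace Groth.Agent.S12272

open Groth.Agent

/-- Let k be an algebraically closed field, Y a separated k-scheme of finite type and i : X → Y a
regular closed immersion over k with X projective over k; let N = Hom_{O_X}(I/I², O_X) be the normal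
sheaf (sheaf Hom of the conormal sheaf of i, as a right adjoint, assumed to exist). Then X is rigid
in Y, meaning that for every local Artinian k-algebra A with residue field k there is at most one
closed subscheme of Y ×_k Spec A flat over Spec A restricting to X on the closed fibre (necessarily
X ×_k Spec A), if and only if H⁰(X, N) = 0. -/
theorem result
    {k : Type u} [Field k] [IsAlgClosed k] (Y : Scheme.{u}) (y : Y ⟶ Spec (CommRingCat.of k))
    [LocallyOfFiniteType y] [IsSeparated y] [QuasiCompact y]
    (X : Scheme.{u}) [X.Over (Spec (CommRingCat.of k))] (i : X ⟶ Y) [IsClosedImmersion i] (hi : i ≫ y = X ↘ (Spec (CommRingCat.of k)))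
    (hreg : Mor2.IsRegularClosedImmersion i)
    (hproj : ∃ (n : ℕ) (c : X ⟶ CohB1.ProjSpaceOver n (Spec (CommRingCat.of k))),
      IsClosedImmersion c ∧ c ≫ CohB1.ProjSpaceOver.toBase n (Spec (CommRingCat.of k)) = X ↘ (Spec (CommRingCat.of k)))
    [DCoh.HasSheafHom (Omega.conormal i)] :
    (∀ A : ArtFun.Art k k, Subsingleton ((ArtFun.localHilb Y y i.ker).obj A)) ↔
      Subsingleton (Coh.HH X ((DCoh.sheafHom (Omega.conormal i)).obj (Coh.structureModule X)) 0) := by
  letI : Y.Over (Spec (CommRingCat.of k)) := ⟨y⟩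
  haveI : i.IsOver (Spec (CommRingCat.of k)) := ⟨hi⟩
  have hrs := Lib.ArtinFun.LocalHilbRS.rs_localHilb y i.ker
  obtain ⟨Ψ, hΨ, -⟩ := Lib.ArtinFun.LocalHilbTangent.exists_psi y i.ker
  obtain ⟨e₂⟩ := Lib.ArtinFun.NormalH0.nonempty_linearEquiv_h0_normal (k := k) i
  obtain ⟨q⟩ := Lib.ArtinFun.QuotModIso.nonempty_iso_quotMod i
  let e : (ArtFun.localHilb Y y i.ker).obj (ArtFun.Art.dual k k) ≃
      Coh.HH X ((DCoh.sheafHom (Omega.conormal i)).obj (Coh.structureModule X)) 0 :=
    (Equiv.ofBijective Ψ hΨ).symm.trans ((CategoryTheory.Iso.homCongr (Iso.refl _) q.symm).trans e₂.symm.toEquiv)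
  refine ⟨fun h => ?_, fun h A => ?_⟩
  · haveI := h (ArtFun.Art.dual k k)
    exact e.symm.subsingleton
  · exact (Lib.ArtinFun.unique_obj_of_subsingleton_tangent (Lib.ArtinFun.LocalHilbRS.h0_localHilb y i.ker)
      hrs.hbar hrs.heps e.subsingleton A).2

end Groth.Agent.S12272
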