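import Groth.Statements.S12278
import Groth.Agent.Lib.DefVB16.Main
import Groth.Agent.Lib.SqZeroLift.Free
-- import your own Groth.Agent.* helpers here

set_option autoImplicit false
universe u
open CategoryTheory CategoryTheory.Limits AlgebraicGeometry
open scoped TensorProduct
attribute [local instance] HasDerivedCategory.standard
open DefT
open Groth.Agent.Lib

namespace Groth.Agent.S12278

/-- Let k be a field and X₀ a separated k-scheme; let C' → C be a surjection of local Artinian
k-algebras with residue field k whose kernel J is annihilated by the maximal ideal of C', X' a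
deformation of X₀ over C' (a scheme flat over Spec C' with a morphism from X₀ identifying X₀ with
the closed fibre) and X = X' ×_{Spec C'} Spec C its base change, a deformation of X₀ over C. Let F
be a finite locally free O_X-module and F₀ its restriction to X₀, and let End F₀ = Hom_{O_{X₀}}(F₀,
F₀) be the sheaf of endomorphisms (the sheaf Hom, assumed to exist as the right adjoint of tensoring
with F₀). If H^2(X₀, End F₀) = 0, then F extends over X': there is a finite locally free
O_{X'}-module F' whose restriction to X is isomorphic to F. (The published statement attaches to F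
an obstruction in H^2(X₀, End F₀ ⊗ J) whose vanishing is equivalent to the existence of an
extension, for deformations over arbitrary local Artin rings; this row states the consequence when
H^2(X₀, End F₀) = 0, over local Artinian k-algebras, and also assumes X₀ separated, so that the
second cohomology of the quasi-coherent module End F₀ is computed on affine open covers.) -/
theorem result
    {k : Type u} [Field k] (X₀ : Scheme.{u}) (x : X₀ ⟶ Spec (CommRingCat.of k)) [IsSeparated x]
    {C' C : ArtFun.Art k k} (p : C' ⟶ C) (hp : ArtFun.Art.IsSemismallExt p)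
    (X' : ArtFun.DefSch X₀ x C')
    (F : (X'.baseChange p).total.Modules) (hF : FlatMod.IsFinLocFree F)
    [DCoh.HasSheafHom ((Scheme.Modules.pullback (X'.baseChange p).i).obj F)]
    (h2 : Subsingleton (Coh.HH X₀ ((DCoh.sheafHom ((Scheme.Modules.pullback (X'.baseChange p).i).obj F)).obj
        ((Scheme.Modules.pullback (X'.baseChange p).i).obj F)) 2)) :
    ∃ F' : X'.total.Modules, FlatMod.IsFinLocFree F' ∧
      Nonempty ((Scheme.Modules.pullback (pullback.fst X'.f (ArtFun.Art.specMap p))).obj F' ≅ F) := by
  haveI := DefVB16.isClosedImmersion_g₁ p X' hp.1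
  let g := DefVB16.g₁ p X'
  let I := DefVB16.II p X'
  have hI : I ^ 2 = ⊥ := DefVB16.II_sq p X' hp
  let ti := g.toImage
  let inv' := inv ti
  let E₀ := (Scheme.Modules.pullback inv').obj F
  have hE₀ : FlatMod.IsFinLocFree E₀ := TensorMod.LocFree.isFinLocFree_pullback inv' hF
  have hi : DefVB16.i₀ p X' ≫ inv' = (X'.baseChange p).i := by
    rw [Category.assoc, IsIso.hom_inv_id, Category.comp_id]
  let a : (Scheme.Modules.pullback (DefVB16.i₀ p X')).obj E₀ ≅ (Scheme.Modules.pullback (X'.baseChange p).i).obj F :=
    (Scheme.Modules.pullbackComp (DefVB16.i₀ p X') inv').app F ≪≫ (Scheme.Modules.pullbackCongr hi).app F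
  haveI : HasExt.{u} I.subscheme.Modules := hasExt_of_enoughInjectives _
  haveI hc := SqZeroLift.isIso_counit I hI E₀
  let e₁ : (Scheme.Modules.pullback I.subschemeι).obj ((Scheme.Modules.pushforward I.subschemeι).obj E₀) ≅ E₀ :=
    asIso ((Scheme.Modules.pullbackPushforwardAdjunction I.subschemeι).counit.app E₀)
  let e₂ : (Scheme.Modules.pullback I.subschemeι).obj ((SqZeroLift.TI I).obj
      ((Scheme.Modules.pushforward I.subschemeι).obj E₀)) ≅
      CohB1.tensorMod ((Scheme.Modules.pullback I.subschemeι).obj (ClSub.idealMod I)) E₀ :=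
    TensorMod.Pullback.pullbackTensorIso I.subschemeι (ClSub.idealMod I)
    ((Scheme.Modules.pushforward I.subschemeι).obj E₀) ≪≫ PicGrp.tensorModIso (Iso.refl _) e₁
  have hE2 := DefVB16.subsingleton_ext p X' hp hE₀ a a 2 h2
  have hE2' : Subsingleton (Abelian.Ext.{u}
      ((Scheme.Modules.pullback I.subschemeι).obj ((Scheme.Modules.pushforward I.subschemeι).obj E₀))
      ((Scheme.Modules.pullback I.subschemeι).obj ((SqZeroLift.TI I).obj
        ((Scheme.Modules.pushforward I.subschemeι).obj E₀))) 2) := by
    refine ⟨fun u v => ?_⟩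
    have := hE2.elim (((Abelian.Ext.mk₀ e₁.inv).comp u (zero_add 2)).comp (Abelian.Ext.mk₀ e₂.hom) (add_zero 2))
      (((Abelian.Ext.mk₀ e₁.inv).comp v (zero_add 2)).comp (Abelian.Ext.mk₀ e₂.hom) (add_zero 2))
    simpa using congrArg (fun t => ((Abelian.Ext.mk₀ e₁.hom).comp t (zero_add 2)).comp
      (Abelian.Ext.mk₀ e₂.inv) (add_zero 2)) this
  obtain ⟨E, q, f, w, hS, hw⟩ :=
    SqZeroLift.exists_extension hI (SqZeroMod.killed_push I.subschemeι E₀) hE2'
  obtain ⟨e⟩ := SqZeroLift.nonempty_pb_iso hI hS hw
  have hg : ti ≫ I.subschemeι = g := Scheme.Hom.toImage_imageι _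
  exact ⟨E, SqZeroLift.isFinLocFree_of_extension hI hE₀ hS hw,
    ⟨(Scheme.Modules.pullbackCongr hg).symm.app E ≪≫ (Scheme.Modules.pullbackComp ti I.subschemeι).symm.app E ≪≫
      (Scheme.Modules.pullback ti).mapIso e ≪≫ (Scheme.Modules.pullbackComp ti inv').app F ≪≫
      (Scheme.Modules.pullbackCongr (IsIso.hom_inv_id ti)).app F ≪≫ (Scheme.Modules.pullbackId _).app F⟩⟩

end Groth.Agent.S12278
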