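import Groth.Statements.S12279
import Groth.Agent.Lib.DefVB16.Main
import Groth.Agent.Lib.SqZeroMod.Lift
-- import your own Groth.Agent.* helpers here

set_option autoImplicit false
universe u
open CategoryTheory CategoryTheory.Limits AlgebraicGeometry
open scoped TensorProduct
attribute [local instance] HasDerivedCategory.standard
open DefT
open Groth.Agent.Lib

namespace Groth.Agent.S12279

/-- Let k be a field and X₀ a k-scheme; let C' → C be a surjection of local Artinian k-algebras with
residue field k whose kernel J is annihilated by the maximal ideal of C', X' a deformation of X₀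
over C' (a scheme flat over Spec C' with a morphism from X₀ identifying X₀ with the closed fibre)
and X = X' ×_{Spec C'} Spec C its base change. Let F be a finite locally free O_X-module, F₀ its
restriction to X₀ and End F₀ = Hom_{O_{X₀}}(F₀, F₀) its sheaf of endomorphisms (the sheaf Hom,
assumed to exist as the right adjoint of tensoring with F₀). If H^1(X₀, End F₀) = 0, then any two
finite locally free O_{X'}-modules F' and F'' whose restrictions to X are both isomorphic to F are
isomorphic. (The published statement says that the set of extensions of F over X', when non-empty,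
is a torsor under H^1(X₀, End F₀ ⊗ J), for deformations over arbitrary local Artin rings; this row
states the consequence when H^1(X₀, End F₀) = 0, over local Artinian k-algebras, and compares the
extensions only as O_{X'}-modules.) -/
theorem result
    {k : Type u} [Field k] (X₀ : Scheme.{u}) (x : X₀ ⟶ Spec (CommRingCat.of k))
    {C' C : ArtFun.Art k k} (p : C' ⟶ C) (hp : ArtFun.Art.IsSemismallExt p)
    (X' : ArtFun.DefSch X₀ x C')
    (F : (X'.baseChange p).total.Modules) (hF : FlatMod.IsFinLocFree F)
    [DCoh.HasSheafHom ((Scheme.Modules.pullback (X'.baseChange p).i).obj F)]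
    (h1 : Subsingleton (Coh.HH X₀ ((DCoh.sheafHom ((Scheme.Modules.pullback (X'.baseChange p).i).obj F)).obj
        ((Scheme.Modules.pullback (X'.baseChange p).i).obj F)) 1))
    (F' F'' : X'.total.Modules) (hF' : FlatMod.IsFinLocFree F') (hF'' : FlatMod.IsFinLocFree F'')
    (e' : Nonempty ((Scheme.Modules.pullback (pullback.fst X'.f (ArtFun.Art.specMap p))).obj F' ≅ F))
    (e'' : Nonempty ((Scheme.Modules.pullback (pullback.fst X'.f (ArtFun.Art.specMap p))).obj F'' ≅ F)) :
    Nonempty (F' ≅ F'') := by
  obtain ⟨e'⟩ := e'
  obtain ⟨e''⟩ := e''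
  haveI := DefVB16.isClosedImmersion_g₁ p X' hp.1
  let g := DefVB16.g₁ p X'
  let ι := (DefVB16.II p X').subschemeι
  let inv' := inv g.toImage
  have hι : inv' ≫ g = ι := (IsIso.inv_comp_eq _).2 (Scheme.Hom.toImage_imageι _).symm
  let toF : ∀ M : X'.total.Modules, ((Scheme.Modules.pullback g).obj M ≅ F) →
      ((Scheme.Modules.pullback ι).obj M ≅ (Scheme.Modules.pullback inv').obj F) := fun M e =>
    (Scheme.Modules.pullbackCongr hι).symm.app M ≪≫ (Scheme.Modules.pullbackComp inv' g).symm.app M ≪≫
      (Scheme.Modules.pullback inv').mapIso e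
  have hi : DefVB16.i₀ p X' ≫ inv' = (X'.baseChange p).i := by
    rw [Category.assoc, IsIso.hom_inv_id, Category.comp_id]
  let a : ∀ M : X'.total.Modules, ((Scheme.Modules.pullback g).obj M ≅ F) →
      ((Scheme.Modules.pullback (DefVB16.i₀ p X')).obj ((Scheme.Modules.pullback ι).obj M) ≅
        (Scheme.Modules.pullback (X'.baseChange p).i).obj F) := fun M e =>
    (Scheme.Modules.pullback (DefVB16.i₀ p X')).mapIso (toF M e) ≪≫
      (Scheme.Modules.pullbackComp (DefVB16.i₀ p X') inv').app F ≪≫ (Scheme.Modules.pullbackCongr hi).app F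
  haveI : HasExt.{u} (DefVB16.II p X').subscheme.Modules := hasExt_of_enoughInjectives _
  have hL := fun (M : X'.total.Modules) (hM : FlatMod.IsFinLocFree M) =>
    TensorMod.LocFree.isFinLocFree_pullback ι hM
  exact SqZeroMod.exists_iso_lift (DefVB16.II_sq p X' hp) (TensorMod.FPConv.isFlat_of_isFinLocFree hF')
    (TensorMod.FPConv.isFlat_of_isFinLocFree hF'') (toF F' e' ≪≫ (toF F'' e'').symm)
    (DefVB16.subsingleton_ext p X' hp (hL F' hF') (a F' e') (a F'' e'') 1 h1)
    (DefVB16.subsingleton_ext p X' hp (hL F'' hF'') (a F'' e'') (a F' e') 1 h1)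

end Groth.Agent.S12279
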