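import Groth.Statements.S12280
import Groth.Agent.Lib.ArtinFun.HilbBridge
import Groth.Agent.Lib.ArtinFun.LocalHilbTangent
import Groth.Agent.Lib.ArtinFun.NormalH0
import Groth.Agent.Lib.ArtinFun.QuotModIso
import Groth.Agent.Lib.ArtinFun.AffHull
import Groth.Agent.Lib.ArtinFun.HR
import Groth.Agent.Lib.ProjSpace.BaseChange
import Groth.Agent.Lib.ArtinFun.LiftImm
import Groth.Agent.Lib.ArtinFun.HilbLocal


set_option autoImplicit false
universe u
open CategoryTheory CategoryTheory.Limits AlgebraicGeometry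
open scoped TensorProduct
attribute [local instance] HasDerivedCategory.standard
open DefT

namespace Groth.Agent.S12280

open Groth.Agent

/-- Let k be an algebraically closed field, X = P^n_k, and (H, Z) a Hilbert scheme of X over k: H is a
locally Noetherian k-scheme and Z ⊆ X ×_k H a closed subscheme, proper and flat over H, such that
every closed subscheme of X ×_k T proper and flat over a locally Noetherian k-scheme T is the
pull-back of Z along a unique k-morphism T → H. Let Y ⊆ X be a closed subscheme, regarded as a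
k-scheme through X, with ideal sheaf I and normal sheaf N = Hom_{O_Y}(I/I², O_Y) (the sheaf Hom,
assumed to exist as the right adjoint of tensoring with I/I²), and let y ∈ H be the k-point
classifying Y (the pull-back of Z along Spec k → H is Y). If Y → X is a regular closed immersion (Y
is a local complete intersection in X) and H^1(Y, N) = 0, then H is nonsingular at y: the local ring
O_{H,y} is regular, and its dimension equals dim_k H^0(Y, N). -/
theorem result
    {k : Type u} [Field k] [IsAlgClosed k] (n : ℕ)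
    (H : Over (Spec (CommRingCat.of k))) (Z : FGA.HilbSet (CohB1.ProjSpaceOver.toBase n (Spec (CommRingCat.of k))) H) (hH : FGA.HilbRepresentedBy (CohB1.ProjSpaceOver.toBase n (Spec (CommRingCat.of k))) H Z)
    (Y : Scheme.{u}) [Y.Over (Spec (CommRingCat.of k))] (i : Y ⟶ CohB1.ProjSpaceOver n (Spec (CommRingCat.of k))) [IsClosedImmersion i]
    (hi : i ≫ CohB1.ProjSpaceOver.toBase n (Spec (CommRingCat.of k)) = Y ↘ Spec (CommRingCat.of k))
    (hreg : Mor2.IsRegularClosedImmersion i)
    [DCoh.HasSheafHom (Omega.conormal i)]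
    (y : Over.mk (𝟙 (Spec (CommRingCat.of k))) ⟶ H)
    (hy : FGA.hilbPull (CohB1.ProjSpaceOver.toBase n (Spec (CommRingCat.of k))) y Z.1 = i.ker.comap (pullback.fst (CohB1.ProjSpaceOver.toBase n (Spec (CommRingCat.of k))) (Over.mk (𝟙 (Spec (CommRingCat.of k)))).hom))
    (h1 : Subsingleton (Coh.HH Y ((DCoh.sheafHom (Omega.conormal i)).obj (Coh.structureModule Y)) 1)) :
    IsRegularLocalRing (H.left.presheaf.stalk (y.left.base (IsLocalRing.closedPoint k))) ∧
      ringKrullDim (H.left.presheaf.stalk (y.left.base (IsLocalRing.closedPoint k))) = (Module.finrank k (Coh.HH Y ((DCoh.sheafHom (Omega.conormal i)).obj (Coh.structureModule Y)) 0) : WithBot ℕ∞) := by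
  let X := CohB1.ProjSpaceOver n (Spec (CommRingCat.of k))
  let x := CohB1.ProjSpaceOver.toBase n (Spec (CommRingCat.of k))
  letI : X.Over (Spec (CommRingCat.of k)) := ⟨x⟩
  haveI : i.IsOver (Spec (CommRingCat.of k)) := ⟨hi⟩
  haveI : IsProper x := Lib.ProjSpace.BaseChange.isProper_toBase n _
  haveI : IsLocallyNoetherian X := LocallyOfFiniteType.isLocallyNoetherian x
  obtain ⟨ξ, hξ⟩ := Lib.ArtinFun.HilbBridge.exists_universal_family x Z y i.ker hy hH
  haveI := hH.1
  haveI : IsNoetherianRing (Lib.ArtinFun.HilbBridge.Stalk y) :=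
    inferInstanceAs (IsNoetherianRing (H.left.presheaf.stalk (Lib.ArtinFun.HilbBridge.pt y)))
  obtain ⟨P, η, hη, -, hdim, hreg', hfin⟩ := Lib.ArtinFun.HilbLocal.exists_completion_family ξ hξ
  have hT := Lib.ArtinFun.HilbLocal.hasObsTheory_of_surjective (k := k) (F := ArtFun.localHilb X x i.ker)
    fun A' A p hp => Lib.ArtinFun.LiftImm.surjective_map_H1 i
      (Lib.ArtinFun.LciLocal.isH1Ideal_of_regularImmersion hreg) h1 p hp
  obtain ⟨h2, h3, h4, -⟩ := Lib.ArtinFun.HilbLocal.estimates_cring P η hη PUnit.{u + 1} hT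
  have hW : Module.finrank k PUnit.{u + 1} = 0 := Module.finrank_zero_of_subsingleton
  rw [hW] at h3
  have hrs := Lib.ArtinFun.LocalHilbRS.rs_localHilb x i.ker
  have h0 := Lib.ArtinFun.LocalHilbRS.h0_localHilb x i.ker
  obtain ⟨T₁⟩ := Lib.ArtinFun.nonempty_tangentStr (ArtFun.hR P.carrier P.res)
    (Lib.ArtinFun.h0_hR _ _) (Lib.ArtinFun.rs_hR (Λ := k) P.carrier P.res).heps
  obtain ⟨T₂⟩ := Lib.ArtinFun.nonempty_tangentStr (ArtFun.localHilb X x i.ker) h0 hrs.heps
  haveI := T₁
  haveI := T₂
  obtain ⟨f, hf⟩ := Lib.ArtinFun.exists_linearMap_tangent (F := ArtFun.hR P.carrier P.res)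
    (G := ArtFun.localHilb X x i.ker) η.app (fun {A B} g ψ => η.natural g ψ) (Lib.ArtinFun.h0_hR _ _).2
    (Lib.ArtinFun.rs_hR (Λ := k) P.carrier P.res).heps
  have hfb : Function.Bijective f := by
    rw [show (f : _ → _) = η.app (ArtFun.Art.dual k k) from funext hf]
    exact hη _
  obtain ⟨e₁⟩ := Lib.ArtinFun.LocalHilbTangent.nonempty_linearEquiv_tangent x i.ker rfl hrs.heps h0.2
  obtain ⟨e₂⟩ := Lib.ArtinFun.NormalH0.nonempty_linearEquiv_h0_normal (k := k) i
  obtain ⟨q⟩ := Lib.ArtinFun.QuotModIso.nonempty_iso_quotMod i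
  have hh0 : Module.finrank (IsLocalRing.ResidueField P.carrier) (IsLocalRing.CotangentSpace P.carrier) =
      Module.finrank k (Coh.HH Y ((DCoh.sheafHom (Omega.conormal i)).obj (Coh.structureModule Y)) 0) := by
    rw [← Lib.ArtinFun.finrank_hR_tangent P, (LinearEquiv.ofBijective f hfb).finrank_eq, e₁.finrank_eq,
      e₂.finrank_eq]
    exact (Linear.homCongr k (Iso.refl _) q.symm).finrank_eq
  refine ⟨hreg'.2 (h4 hW), ?_⟩
  rw [hh0] at h2 h3
  refine (show ringKrullDim (Lib.ArtinFun.HilbBridge.Stalk y) = _ from ?_)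
  rw [← hdim]
  simp only [Nat.cast_zero, add_zero] at h3
  exact le_antisymm h2 h3

end Groth.Agent.S12280
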