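import Groth.Statements.S12282
import Groth.Agent.Lib.ArtinFun.HilbBridge
import Groth.Agent.Lib.ProjSpace.BaseChange
import Groth.Agent.Lib.ArtinFun.HilbTangent
import Groth.Agent.Lib.ArtinFun.NormalFinite
import Groth.Agent.Lib.JacCrit.FlatRegular
import Groth.Agent.H20.CMRegular


set_option autoImplicit false
universe u
open CategoryTheory CategoryTheory.Limits AlgebraicGeometry
open scoped TensorProduct
attribute [local instance] HasDerivedCategory.standard
open DefT

namespace Groth.Agent.S12282

open Groth.Agent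

/-- Let k be an algebraically closed field, X = P^n_k, and (H, Z) a Hilbert scheme of X over k: H is a
locally Noetherian k-scheme and Z ⊆ X ×_k H a closed subscheme, proper and flat over H, such that
every closed subscheme of X ×_k T proper and flat over a locally Noetherian k-scheme T is the
pull-back of Z along a unique k-morphism T → H. Let Y ⊆ X be a closed subscheme, regarded as a
k-scheme through X, with ideal sheaf I and normal sheaf N = Hom_{O_Y}(I/I², O_Y) (the sheaf Hom,
assumed to exist as the right adjoint of tensoring with I/I²), and let y ∈ H be the k-point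
classifying Y (the pull-back of Z along Spec k → H is Y). If Y → X is a regular closed immersion (Y
is a local complete intersection in X), then the dimension of H at y is at least h^0(Y, N) − h^1(Y,
N), written dim_k H^0(Y, N) ≤ dim O_{H,y} + dim_k H^1(Y, N); and when equality holds, O_{H,y} is a
complete intersection ring (its completion is the quotient of a regular local ring modulo a regular
sequence). -/
theorem result
    {k : Type u} [Field k] [IsAlgClosed k] (n : ℕ)
    (H : Over (Spec (CommRingCat.of k))) (Z : FGA.HilbSet (CohB1.ProjSpaceOver.toBase n (Spec (CommRingCat.of k))) H) (hH : FGA.HilbRepresentedBy (CohB1.ProjSpaceOver.toBase n (Spec (CommRingCat.of k))) H Z)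
    (Y : Scheme.{u}) [Y.Over (Spec (CommRingCat.of k))] (i : Y ⟶ CohB1.ProjSpaceOver n (Spec (CommRingCat.of k))) [IsClosedImmersion i]
    (hi : i ≫ CohB1.ProjSpaceOver.toBase n (Spec (CommRingCat.of k)) = Y ↘ Spec (CommRingCat.of k))
    (hreg : Mor2.IsRegularClosedImmersion i)
    [DCoh.HasSheafHom (Omega.conormal i)]
    (y : Over.mk (𝟙 (Spec (CommRingCat.of k))) ⟶ H)
    (hy : FGA.hilbPull (CohB1.ProjSpaceOver.toBase n (Spec (CommRingCat.of k))) y Z.1 = i.ker.comap (pullback.fst (CohB1.ProjSpaceOver.toBase n (Spec (CommRingCat.of k))) (Over.mk (𝟙 (Spec (CommRingCat.of k)))).hom)) :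
    (Module.finrank k (Coh.HH Y ((DCoh.sheafHom (Omega.conormal i)).obj (Coh.structureModule Y)) 0) : WithBot ℕ∞) ≤
        ringKrullDim (H.left.presheaf.stalk (y.left.base (IsLocalRing.closedPoint k))) + (Module.finrank k (Coh.HH Y ((DCoh.sheafHom (Omega.conormal i)).obj (Coh.structureModule Y)) 1) : WithBot ℕ∞) ∧
      (ringKrullDim (H.left.presheaf.stalk (y.left.base (IsLocalRing.closedPoint k))) + (Module.finrank k (Coh.HH Y ((DCoh.sheafHom (Omega.conormal i)).obj (Coh.structureModule Y)) 1) : WithBot ℕ∞) =
          (Module.finrank k (Coh.HH Y ((DCoh.sheafHom (Omega.conormal i)).obj (Coh.structureModule Y)) 0) : WithBot ℕ∞) →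
        Pi1.IsCompleteIntersection (H.left.presheaf.stalk (y.left.base (IsLocalRing.closedPoint k)))) := by
  let X := CohB1.ProjSpaceOver n (Spec (CommRingCat.of k))
  let x := CohB1.ProjSpaceOver.toBase n (Spec (CommRingCat.of k))
  letI : X.Over (Spec (CommRingCat.of k)) := ⟨x⟩
  haveI : i.IsOver (Spec (CommRingCat.of k)) := ⟨hi⟩
  haveI : IsProper x := Lib.ProjSpace.BaseChange.isProper_toBase n _
  haveI : IsLocallyNoetherian X := LocallyOfFiniteType.isLocallyNoetherian x
  haveI : IsProper (Y ↘ Spec (CommRingCat.of k)) := by rw [← hi]; infer_instance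
  have hh1 := Lib.ArtinFun.LciLocal.isH1Ideal_of_regularImmersion hreg
  obtain ⟨ξ, hξ⟩ := Lib.ArtinFun.HilbBridge.exists_universal_family x Z y i.ker hy hH
  haveI := hH.1
  haveI : IsNoetherianRing (Lib.ArtinFun.HilbBridge.Stalk y) :=
    inferInstanceAs (IsNoetherianRing (H.left.presheaf.stalk (Lib.ArtinFun.HilbBridge.pt y)))
  obtain ⟨P, η, hη, ⟨e⟩, hdim, -, -⟩ := Lib.ArtinFun.HilbLocal.exists_completion_family ξ hξ
  haveI := Lib.ArtinFun.NormalFinite.finite_HH (k := k) i hh1 1
  obtain ⟨-, h3, -, h5⟩ := Lib.ArtinFun.HilbLocal.estimates_cring P η hη _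
    (Lib.ArtinFun.LiftImm.hasObsTheory_H1 (k := k) i hh1)
  have hh0 := Lib.ArtinFun.HilbTangent.finrank_cotangentSpace i P η hη
  rw [hh0, hdim] at h3
  refine ⟨h3, fun heq => ?_⟩
  obtain ⟨P₀, _, _, π, s, hπ, hspan, hs⟩ := h5 (by rw [hh0, hdim]; exact heq)
  haveI := Lib.JacCrit.FlatRegular.isCohenMacaulayLocalRing P₀
  have hspan' : Ideal.ofList s.toList = RingHom.ker π := by
    rw [← hspan, Ideal.ofList]
    exact congrArg Ideal.span (Set.ext fun a => by simp)
  refine Lib.ArtinFun.HilbLocal.isCompleteIntersection_of_presentation e π hπ s.toList ?_ hspan'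
  refine H20.CMRegular.isRegular_of_ringKrullDim_le s.toList
    (fun r hr => IsLocalRing.le_maximalIdeal (RingHom.ker_ne_top π) (hspan' ▸ Ideal.subset_span hr)) (le_of_eq ?_)
  rw [hs, Finset.length_toList]
  exact congrArg (· + (s.card : WithBot ℕ∞))
    (ringKrullDim_eq_of_ringEquiv ((Ideal.quotEquivOfEq hspan').trans (RingHom.quotientKerEquivOfSurjective hπ)))

end Groth.Agent.S12282
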