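import Groth.Statements.S12284
import Groth.Agent.Lib.CotTwo.Special
import Groth.Agent.Lib.CotTwo.Snake
import Groth.Agent.Lib.CotTwo.MapM

set_option autoImplicit false
universe u w m
open scoped TensorProduct
open DefT

open Groth.Agent.Lib.CotTwo

namespace Groth.Agent.S12284

set_option maxHeartbeats 8000000 in
/-- Let A → B be a ring homomorphism, P a presentation of B over A with cotangent complex L₂ → L₁ → L₀,
and 0 → M' → M → M'' → 0 a short exact sequence of B-modules (f : M' → M injective, g : M → M''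
surjective, image of f = kernel of g). Write T^i(N) for the i-th cohomology of Hom_B(L•, N) and
T^i(f), T^i(g) for the maps induced by composition. Then T^0(f) is injective, the sequences T^i(M')
→ T^i(M) → T^i(M'') are exact for i = 0, 1, 2, and there are B-linear connecting maps δ₀ : T^0(M'')
→ T^1(M') and δ₁ : T^1(M'') → T^2(M') such that the nine-term sequence 0 → T^0(M') → T^0(M) →
T^0(M'') → T^1(M') → T^1(M) → T^1(M'') → T^2(M') → T^2(M) → T^2(M'') is exact. (The connecting maps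
are asserted to exist with this exactness; the text does not single them out otherwise.) -/
theorem result
    (A B : Type u) [CommRing A] [CommRing B] [Algebra A B] (ι σ : Type w)
    (P : Algebra.Presentation A B ι σ)
    (M' M M'' : Type m) [AddCommGroup M'] [Module B M'] [AddCommGroup M] [Module B M] [AddCommGroup M''] [Module B M'']
    (f : M' →ₗ[B] M) (g : M →ₗ[B] M'') (hf : Function.Injective f) (hg : Function.Surjective g)
    (hfg : Function.Exact f g) :
    Function.Injective (CotT.T0map P f) ∧ Function.Exact (CotT.T0map P f) (CotT.T0map P g) ∧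
      Function.Exact (CotT.T1map P f) (CotT.T1map P g) ∧ Function.Exact (CotT.T2map P f) (CotT.T2map P g) ∧
      ∃ (δ₀ : CotT.T0 P M'' →ₗ[B] CotT.T1 P M') (δ₁ : CotT.T1 P M'' →ₗ[B] CotT.T2 P M'),
        Function.Exact (CotT.T0map P g) δ₀ ∧ Function.Exact δ₀ (CotT.T1map P f) ∧
        Function.Exact (CotT.T1map P g) δ₁ ∧ Function.Exact δ₁ (CotT.T2map P f) := by
  classical
  have lift : ∀ {X : Type _} [AddCommGroup X] [Module B X] {κ : Type _} (b : Module.Basis κ B X) (φ : X →ₗ[B] M''),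
      ∃ φ' : X →ₗ[B] M, g ∘ₗ φ' = φ := fun b φ =>
    ⟨b.constr B fun i => Function.surjInv hg (φ (b i)), b.ext fun i => by
      rw [LinearMap.comp_apply, b.constr_basis, Function.surjInv_eq hg]⟩
  have factor : ∀ {X : Type _} [AddCommGroup X] [Module B X] (φ : X →ₗ[B] M),
      (∀ x, g (φ x) = 0) → ∃ φ' : X →ₗ[B] M', f ∘ₗ φ' = φ := fun φ h =>
    ⟨(LinearEquiv.ofInjective f hf).symm.toLinearMap ∘ₗ φ.codRestrict _ (fun x => (hfg _).1 (h x)),
      LinearMap.ext fun x => congrArg Subtype.val ((LinearEquiv.ofInjective f hf).apply_symm_apply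
        ⟨φ x, (hfg _).1 (h x)⟩)⟩
  have ex : ∀ {X : Type _} [AddCommGroup X] [Module B X],
      Function.Exact (fun φ : X →ₗ[B] M' => f ∘ₗ φ) (fun φ : X →ₗ[B] M => g ∘ₗ φ) := by
    intro X _ _ φ
    constructor
    · exact fun h => factor φ fun x => LinearMap.congr_fun h x
    · rintro ⟨φ', rfl⟩
      exact LinearMap.ext fun x => hfg.apply_apply_eq_zero (φ' x)
  let S : Rows B (CotT.L0 P →ₗ[B] M') (CotT.L1 P →ₗ[B] M') (CotT.L2 P →ₗ[B] M')
      (CotT.L0 P →ₗ[B] M) (CotT.L1 P →ₗ[B] M) (CotT.L2 P →ₗ[B] M)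
      (CotT.L0 P →ₗ[B] M'') (CotT.L1 P →ₗ[B] M'') (CotT.L2 P →ₗ[B] M'') :=
    { a0 := CotT.d1Star P M', a1 := CotT.d2Star P M', b0 := CotT.d1Star P M, b1 := CotT.d2Star P M
      c0 := CotT.d1Star P M'', c1 := CotT.d2Star P M''
      i0 := LinearMap.llcomp B _ M' M f, i1 := LinearMap.llcomp B _ M' M f, i2 := LinearMap.llcomp B _ M' M f
      p0 := LinearMap.llcomp B _ M M'' g, p1 := LinearMap.llcomp B _ M M'' g, p2 := LinearMap.llcomp B _ M M'' g
      hbb := fun x => LinearMap.congr_fun (CotT.d2Star_comp_d1Star P M) x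
      hia0 := fun x => rfl, hia1 := fun x => rfl, hpb0 := fun x => rfl, hpb1 := fun x => rfl
      hi0 := fun a b h => LinearMap.ext fun x => hf (LinearMap.congr_fun h x)
      hi1 := fun a b h => LinearMap.ext fun x => hf (LinearMap.congr_fun h x)
      hi2 := fun a b h => LinearMap.ext fun x => hf (LinearMap.congr_fun h x)
      hex0 := ex, hex1 := ex, hex2 := ex
      hp0 := fun φ => lift P.cotangentSpaceBasis φ
      hp1 := fun φ => lift (CotT.L1basis P) φ }
  let π' := (CotT.coboundaries1 P M').mkQ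
  let π'' := (CotT.coboundaries1 P M'').mkQ
  have hπ : ∀ {N : Type m} [AddCommGroup N] [Module B N] (z : CotT.cocycles1 P N),
      (CotT.coboundaries1 P N).mkQ z = 0 ↔ ∃ x, CotT.d1Star P N x = z := fun z => by
    rw [Submodule.mkQ_apply, Submodule.Quotient.mk_eq_zero]
    rfl
  have hq : ∀ {N : Type m} [AddCommGroup N] [Module B N] (z : CotT.L2 P →ₗ[B] N),
      (LinearMap.range (CotT.d2Star P N)).mkQ z = 0 ↔ ∃ x, CotT.d2Star P N x = z := fun z => by
    rw [Submodule.mkQ_apply, Submodule.Quotient.mk_eq_zero]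
    rfl
  obtain ⟨δ₀, hδ₀, hδ₀'⟩ := S.exists_δ0 π' (Submodule.mkQ_surjective _) hπ
  obtain ⟨δ₁, hδ₁, hδ₁'⟩ := S.exists_δ1 π'' (Submodule.mkQ_surjective _) hπ
    (LinearMap.range (CotT.d2Star P M')).mkQ (Submodule.mkQ_surjective _) hq
  refine ⟨fun a b h => Subtype.ext (S.hi0 (congrArg Subtype.val h)), ?_, ?_, ?_, δ₀, δ₁, ?_, ?_, ?_, ?_⟩
  · intro x
    constructor
    · intro h
      obtain ⟨a, ha, hax⟩ := S.exact_zero x.1 x.2 (congrArg Subtype.val h)
      exact ⟨⟨a, ha⟩, Subtype.ext hax⟩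
    · rintro ⟨a, rfl⟩
      exact Subtype.ext (S.hex0.apply_apply_eq_zero _)
  · intro x
    constructor
    · intro h
      obtain ⟨z, rfl⟩ := Submodule.Quotient.mk_surjective _ x
      obtain ⟨w, hw⟩ := (hπ _).1 h
      obtain ⟨a, ha, y, hy⟩ := S.exact_one z.1 z.2 w hw
      refine ⟨Submodule.Quotient.mk ⟨a, ha⟩, (Submodule.Quotient.eq _).2 ⟨y, ?_⟩⟩
      show _ = f ∘ₗ a - z.1
      exact (eq_sub_iff_add_eq'.2 hy.symm)
    · rintro ⟨a, rfl⟩
      obtain ⟨a, rfl⟩ := Submodule.Quotient.mk_surjective _ a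
      refine (Submodule.Quotient.mk_eq_zero _).2 ⟨0, ?_⟩
      rw [map_zero]
      exact (S.hex1.apply_apply_eq_zero _).symm
  · intro x
    constructor
    · intro h
      obtain ⟨z, rfl⟩ := Submodule.Quotient.mk_surjective _ x
      obtain ⟨w, hw⟩ := (hq _).1 h
      obtain ⟨a, y, hy⟩ := S.exact_two z w hw
      refine ⟨Submodule.Quotient.mk a, ?_⟩
      show (Submodule.Quotient.mk (f ∘ₗ a) : CotT.T2 P M) = Submodule.Quotient.mk z
      rw [Submodule.Quotient.eq]
      refine ⟨y, ?_⟩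
      show CotT.d2Star P M y = f ∘ₗ a - z
      have hy' : f ∘ₗ a = z + CotT.d2Star P M y := hy
      rw [hy', add_sub_cancel_left]
    · intro hx
      obtain ⟨a', rfl⟩ := Set.mem_range.1 hx
      exact T2map_comp_eq_zero P f g (fun x => hfg.apply_apply_eq_zero x) a'
  · intro w
    refine (hδ₀ w).trans ?_
    exact ⟨fun ⟨x, h1, h2⟩ => ⟨⟨x, h1⟩, Subtype.ext h2⟩, fun ⟨x, h⟩ => ⟨x.1, x.2, congrArg Subtype.val h⟩⟩
  · intro x
    obtain ⟨z, rfl⟩ := Submodule.Quotient.mk_surjective _ x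
    exact (hπ _).trans (hδ₀' z)
  · intro x
    obtain ⟨w, rfl⟩ := Submodule.Quotient.mk_surjective _ x
    refine (hδ₁ w).trans ⟨fun ⟨z, y, h1, h2⟩ => ⟨Submodule.Quotient.mk ⟨z, h1⟩,
      (Submodule.Quotient.eq _).2 ⟨y, (eq_sub_iff_add_eq'.2 h2.symm)⟩⟩, ?_⟩
    rintro ⟨t, ht⟩
    obtain ⟨z, rfl⟩ := Submodule.Quotient.mk_surjective _ t
    obtain ⟨y, hy⟩ := (Submodule.Quotient.eq _).1 ht
    exact ⟨z.1, y, z.2, (eq_sub_iff_add_eq'.1 hy).symm⟩
  · intro x
    obtain ⟨a, rfl⟩ := Submodule.Quotient.mk_surjective _ x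
    exact (hq _).trans (hδ₁' a)

end Groth.Agent.S12284
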