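import Groth.Statements.S12286
import Groth.Agent.Lib.CotTwo.Special

set_option autoImplicit false
universe u w m
open scoped TensorProduct
open DefT

open Groth.Agent.Lib.CotTwo

namespace Groth.Agent.S12286

/-- Let A → B be a ring homomorphism, P a presentation of B over A and M a B-module. The canonical
B-linear map from the A-derivations Der_A(B, M) = Hom_B(Ω_{B/A}, M) to T^0(B/A, M) (the kernel of
Hom_B(L₀, M) → Hom_B(L₁, M), L₀ = B ⊗_R Ω_{R/A}), sending a derivation D to b ⊗ dr ↦ b·D(r̄), is
bijective. -/
theorem result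
    (A B : Type u) [CommRing A] [CommRing B] [Algebra A B] (ι σ : Type w) (P : Algebra.Presentation A B ι σ)
    (M : Type m) [AddCommGroup M] [Module B M] [Module A M] [IsScalarTower A B M] :
    Function.Bijective (CotT.derToT0 P M) := by
  let R := P.toExtension.Ring
  have hbasis : ∀ i, (P.cotangentSpaceBasis i : CotT.L0 P) =
      (1 : B) ⊗ₜ KaehlerDifferential.D A R (var P i) := fun i => basis_eq i
  constructor
  · refine (injective_iff_map_eq_zero _).2 fun D hD => Derivation.ext fun b => ?_
    obtain ⟨r, rfl⟩ := algebraMap_surjective P b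
    have hX : ∀ i, D (P.val i) = 0 := fun i => by
      rw [← CotT.derLift_basis P M D i, ← CotT.derToT0_apply, hD]
      rfl
    rw [CotT.algebraMap_toExtension, Derivation.zero_apply]
    refine MvPolynomial.induction_on (motive := fun p => D (MvPolynomial.aeval P.val p) = 0) r
      (fun a => ?_) (fun p q hp hq => ?_) (fun p i hp => ?_)
    · rw [MvPolynomial.aeval_C, Derivation.map_algebraMap]
    · rw [map_add, map_add, hp, hq, add_zero]
    · rw [map_mul, Derivation.leibniz, hp, MvPolynomial.aeval_X, hX, smul_zero, smul_zero, add_zero]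
  · intro ψ
    let δ : R → M := fun r => (ψ : CotT.L0 P →ₗ[B] M) ((1 : B) ⊗ₜ KaehlerDifferential.D A R r)
    have hδI : ∀ r r', algebraMap R B r = algebraMap R B r' → δ r = δ r' := fun r r' h => by
      obtain ⟨f, hf⟩ := exists_jmap_eq P (x := r - r') (by rw [map_sub, h, sub_self])
      have h2 := LinearMap.congr_fun (show CotT.d1Star P M (ψ : CotT.L0 P →ₗ[B] M) = 0 from ψ.2) ((1 : B) ⊗ₜ f)
      rw [CotT.d1Star_apply, LinearMap.comp_apply, CotT.d1_tmul, one_smul, hf, map_sub, TensorProduct.tmul_sub,
        map_sub, LinearMap.zero_apply, sub_eq_zero] at h2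
      exact h2
    have hmul : ∀ r r', δ (r * r') = algebraMap R B r • δ r' + algebraMap R B r' • δ r := fun r r' => by
      have hb : ∀ c x, (1 : B) ⊗ₜ[R] (c • x) = algebraMap R B c • ((1 : B) ⊗ₜ[R] (x : Ω[R⁄A])) := fun c x => by
        rw [TensorProduct.smul_tmul', smul_eq_mul, mul_one, ← TensorProduct.smul_tmul, Algebra.smul_def, mul_one]
      show (ψ : CotT.L0 P →ₗ[B] M) _ = _
      rw [Derivation.leibniz, TensorProduct.tmul_add, map_add, hb, hb, map_smul, map_smul]
    let s : B → R := P.toExtension.σ
    have hs : ∀ b, algebraMap R B (s b) = b := P.toExtension.algebraMap_σ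
    let D : Derivation A B M := Derivation.mk'
      { toFun := fun b => δ (s b)
        map_add' := fun b c => by
          rw [hδI (s (b + c)) (s b + s c) (by rw [map_add, hs, hs, hs])]
          show (ψ : CotT.L0 P →ₗ[B] M) _ = _
          rw [map_add, TensorProduct.tmul_add, map_add]
        map_smul' := fun a b => by
          rw [hδI (s (a • b)) (algebraMap A R a * s b) (by
              rw [map_mul, hs, hs, ← IsScalarTower.algebraMap_apply, Algebra.smul_def]),
            hmul, hs, ← IsScalarTower.algebraMap_apply, IsScalarTower.algebraMap_smul, RingHom.id_apply]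
          have h0 : δ (algebraMap A R a) = 0 := by
            show (ψ : CotT.L0 P →ₗ[B] M) _ = 0
            rw [Derivation.map_algebraMap, TensorProduct.tmul_zero, map_zero]
          rw [h0, smul_zero, add_zero] }
      fun b c => by
        show δ (s (b * c)) = b • δ (s c) + c • δ (s b)
        rw [hδI (s (b * c)) (s b * s c) (by rw [map_mul, hs, hs, hs]), hmul, hs, hs]
    refine ⟨D, Subtype.ext ((P.cotangentSpaceBasis).ext fun i => ?_)⟩
    rw [CotT.derToT0_apply, CotT.derLift_basis]
    refine Eq.trans (hδI (s (P.val i)) (var P i) ?_) (congrArg (ψ : CotT.L0 P →ₗ[B] M) (hbasis i)).symm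
    rw [hs, CotT.algebraMap_toExtension]
    exact (MvPolynomial.aeval_X _ _).symm

end Groth.Agent.S12286
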