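import Groth.Statements.S12288
import Groth.Agent.Lib.CotTwo.Koszul

set_option autoImplicit false
universe u w m
open scoped TensorProduct
open DefT

open Groth.Agent.Lib.CotTwo

namespace Groth.Agent.S12288

/-- Let A be a local ring and A → B a surjective ring homomorphism whose kernel is generated by a
regular sequence a_1, …, a_r on A (each a_i is a non-zero-divisor on A/(a_1, …, a_{i-1}) and the
ideal is proper). Then T^2(B/A, M) = 0 for every B-module M, the module being computed from the
choice-free presentation of B over A. -/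
theorem result
    (A B : Type u) [CommRing A] [IsLocalRing A] [CommRing B] [Algebra A B]
    (hs : Function.Surjective (algebraMap A B)) (rs : List A) (hreg : RingTheory.Sequence.IsRegular A rs)
    (hI : RingHom.ker (algebraMap A B) = Ideal.ofList rs) (M : Type u) [AddCommGroup M] [Module B M] :
    Subsingleton (CotT.T2 (CotT.canon A B) M) := by
  let a : Fin rs.length → A := fun i => rs.get i
  have hrange : Set.range a = {x | x ∈ rs} := Set.ext fun x => ⟨fun ⟨i, hi⟩ => hi ▸ List.get_mem rs i,
    fun hx => List.get_of_mem hx⟩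
  have hIa : RingHom.ker (algebraMap A B) = Ideal.span (Set.range a) := by
    rw [hI, hrange]
  have htake : ∀ i : Fin rs.length, Ideal.span (a '' {j | j < i}) = Ideal.ofList (rs.take i.val) := fun i => by
    refine congrArg Ideal.span (Set.ext fun x => ?_)
    constructor
    · rintro ⟨j, hj, rfl⟩
      exact List.mem_take_iff_getElem.2 ⟨j.val, lt_min (Fin.lt_def.1 hj) j.2, rfl⟩
    · intro hx
      obtain ⟨k, hk, hkx⟩ := List.mem_take_iff_getElem.1 hx
      exact ⟨⟨k, (lt_min_iff.1 hk).2⟩, Fin.lt_def.2 (lt_min_iff.1 hk).1, hkx⟩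
  have hr : ∀ (i : Fin rs.length) (x : A), a i * x ∈ Ideal.span (a '' {j | j < i}) →
      x ∈ Ideal.span (a '' {j | j < i}) := fun i x hx => by
    rw [htake] at hx ⊢
    have h1 := hreg.regular_mod_prev i.val i.2
    have htop : (Ideal.ofList (rs.take i.val) • ⊤ : Submodule A A) = Ideal.ofList (rs.take i.val) := by
      rw [smul_eq_mul, Ideal.mul_top]
    rw [isSMulRegular_quotient_iff_mem_of_smul_mem, htop] at h1
    exact h1 x hx
  haveI := subsingleton_T2_quotPres.{u, u, u, u} hs a hIa hr M
  obtain ⟨e⟩ := nonempty_T2_equiv (CotT.canon A B) (quotPres.{u, u, u, u} hs a hIa) M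
  exact e.toEquiv.subsingleton

end Groth.Agent.S12288
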