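import Groth.Statements.S12290
import Groth.Agent.Lib.CotTwo.SmoothVanish
import Groth.Agent.Lib.JacCrit.Regular
import Groth.Agent.Lib.JacCrit.RegularOfSmooth
import Mathlib.RingTheory.Smooth.Field
import Mathlib.FieldTheory.IsAlgClosed.Basic

set_option autoImplicit false
universe u w m
open scoped TensorProduct
open DefT

open Groth.Agent.Lib.CotTwo

namespace Groth.Agent.S12290

/-- Let k be an algebraically closed field and B a finitely generated k-algebra, X = Spec B. Then X is
nonsingular (localizing B at any prime ideal gives a regular local ring) exactly when T^1(B/k, M)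
vanishes for every B-module M; and when X is nonsingular, T^2(B/k, M) vanishes too, for every
B-module M. Here T^1, T^2 are computed from the choice-free presentation of B over k. -/
theorem result
    (k B : Type u) [Field k] [IsAlgClosed k] [CommRing B] [Algebra k B] [Algebra.FiniteType k B] :
    ((∀ (p : Ideal B) [p.IsPrime], IsRegularLocalRing (Localization.AtPrime p)) ↔
      ∀ (M : Type u) [AddCommGroup M] [Module B M], Subsingleton (CotT.T1 (CotT.canon k B) M)) ∧
    ((∀ (p : Ideal B) [p.IsPrime], IsRegularLocalRing (Localization.AtPrime p)) →
      ∀ (M : Type u) [AddCommGroup M] [Module B M], Subsingleton (CotT.T2 (CotT.canon k B) M)) := by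
  haveI : Algebra.FinitePresentation k B := Algebra.FinitePresentation.of_finiteType.mp inferInstance
  have hT1 : (∀ (M : Type u) [AddCommGroup M] [Module B M], Subsingleton (CotT.T1 (CotT.canon k B) M)) ↔
      Algebra.FormallySmooth k B := subsingleton_T1_iff (CotT.canon k B)
  have hiff : Algebra.FormallySmooth k B ↔
      ∀ (p : Ideal B) [p.IsPrime], IsRegularLocalRing (Localization.AtPrime p) := by
    constructor
    · intro h p _
      haveI := h
      haveI : Algebra.FormallyEtale B (Localization.AtPrime p) := .of_isLocalization p.primeCompl
      haveI : Algebra.IsSmoothAt k p := Algebra.FormallySmooth.comp k B _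
      exact Groth.Agent.Lib.JacCrit.RegularOfSmooth.isRegularLocalRing k p
    · intro h
      haveI : Algebra.Smooth k B := ⟨Algebra.smoothLocus_eq_univ_iff.mp (Set.eq_univ_iff_forall.mpr fun p => by
        haveI := h p.asIdeal
        haveI : Algebra.EssFiniteType B (Localization.AtPrime p.asIdeal) := .of_isLocalization _ p.asIdeal.primeCompl
        haveI : Algebra.EssFiniteType k (Localization.AtPrime p.asIdeal) := .comp _ B _
        haveI : Algebra.EssFiniteType (Localization.AtPrime p.asIdeal) p.asIdeal.ResidueField := .of_surjective
          (IsScalarTower.toAlgHom (Localization.AtPrime p.asIdeal) (Localization.AtPrime p.asIdeal) p.asIdeal.ResidueField)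
          IsLocalRing.residue_surjective
        haveI : Algebra.EssFiniteType k p.asIdeal.ResidueField := .comp _ (Localization.AtPrime p.asIdeal) _
        haveI : Algebra.FormallySmooth k p.asIdeal.ResidueField := Algebra.FormallySmooth.of_perfectField
        exact Groth.Agent.Lib.JacCrit.Regular.isSmoothAt k p.asIdeal), ‹_›⟩
      infer_instance
  refine ⟨⟨fun h => hT1.2 (hiff.2 h), fun h => hiff.1 (hT1.1 h)⟩, fun h M _ _ => ?_⟩
  haveI := hiff.2 h
  let P := Algebra.Presentation.ofFinitePresentation k B
  haveI := subsingleton_T2_of_isSyz P (isSyz_rel_of_regular P h) M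
  obtain ⟨e⟩ := nonempty_T2_equiv (CotT.canon k B) P M
  exact e.toEquiv.subsingleton

end Groth.Agent.S12290
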