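import Groth.Statements.S12291
import Groth.Agent.Lib.CotTwo.TrivSyzT2
import Groth.Agent.Lib.CotTwo.NineTerm
import Groth.Agent.Lib.CotTwo.Indep
import Groth.Agent.Lib.JacCrit.FlatRegular
import Groth.Agent.Lib.Vasconcelos.Global


set_option autoImplicit false
universe u w m
open scoped TensorProduct
open DefT

namespace Groth.Agent.S12291

open Groth.Agent.Lib.CotTwo IsLocalRing

/-- Let k be an algebraically closed field and A a regular local k-algebra with residue field k such
that T^1(A/k, N) = 0 and T^2(A/k, N) = 0 for all A-modules N; let I be a proper ideal of A and B =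
A/I. Then B is cut out of A as a local complete intersection — meaning I is generated by some list
of r elements with r + dim B = dim A, i.e. by dim A − dim B elements — exactly when T^2(B/k, M)
vanishes for each B-module M. The T^i are computed from the choice-free presentations. (The
published statement assumes only that A is a regular local k-algebra with residue field k; its proof
uses the vanishing of T^1(A/k, −) and T^2(A/k, −), which holds when A is essentially of finite type
over k and which this row carries as a hypothesis.) -/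
theorem result
    (k A : Type u) [Field k] [IsAlgClosed k] [CommRing A] [IsRegularLocalRing A] [Algebra k A]
    (hres : Function.Surjective (algebraMap k (IsLocalRing.ResidueField A)))
    (hT : ∀ (N : Type u) [AddCommGroup N] [Module A N],
      Subsingleton (CotT.T1 (CotT.canon k A) N) ∧ Subsingleton (CotT.T2 (CotT.canon k A) N))
    (I : Ideal A) (hI : I ≠ ⊤) :
    (∃ rs : List A, Ideal.ofList rs = I ∧ (rs.length : WithBot ℕ∞) + ringKrullDim (A ⧸ I) = ringKrullDim A) ↔
      ∀ (M : Type u) [AddCommGroup M] [Module (A ⧸ I) M], Subsingleton (CotT.T2 (CotT.canon k (A ⧸ I)) M) := by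
  classical
  haveI : LocCoh.IsCohenMacaulayLocalRing A := Groth.Agent.Lib.JacCrit.FlatRegular.isCohenMacaulayLocalRing A
  let B := A ⧸ I
  have hs : Function.Surjective (algebraMap A B) := Ideal.Quotient.mk_surjective
  have hker : RingHom.ker (algebraMap A B) = I := Ideal.mk_ker
  have hiso : ∀ (M : Type u) [AddCommGroup M] [Module B M] [Module A M] [IsScalarTower A B M],
      Subsingleton (CotT.T2 (CotT.canon A B) M) ↔ Subsingleton (CotT.T2 (CotT.canon k B) M) := by
    intro M _ _ _ _
    obtain ⟨-, -, -, hex, δ₀, δ₁, -, -, -, hδ⟩ := nineTerm (CotT.canon k A) (CotT.canon A B) M (CotT.canon k B)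
      (CotT.canonHom k B A B) (CotT.canonHom k A k B)
    haveI := (hT M).1
    haveI := (hT M).2
    have hinj : Function.Injective ((CotT.canonHom k B A B).T2pull M) := (injective_iff_map_eq_zero _).2 fun x hx => by
      obtain ⟨w, rfl⟩ := (hδ x).1 hx
      rw [Subsingleton.elim w 0, map_zero]
    have hsurj : Function.Surjective ((CotT.canonHom k B A B).T2pull M) := fun y => by
      obtain ⟨x, hx⟩ := (hex y).1 (Subsingleton.elim _ _)
      exact ⟨x, hx⟩
    exact ⟨fun _ => hsurj.subsingleton, fun _ => hinj.subsingleton⟩
  constructor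
  · rintro ⟨rs, hrs, hdim⟩ M _ _
    letI : Module A M := Module.compHom M (algebraMap A B)
    haveI : IsScalarTower A B M := IsScalarTower.of_compHom A B M
    refine (hiso M).1 ?_
    let a : Fin rs.length → A := fun i => rs.get i
    have hrange : Set.range a = {x | x ∈ rs} := Set.ext fun x => ⟨fun ⟨i, hi⟩ => hi ▸ List.get_mem rs i,
      fun hx => List.get_of_mem hx⟩
    have hspan : Ideal.span (Set.range a) = I := by rw [← hrs, hrange]
    have hm : ∀ i, a i ∈ maximalIdeal A := fun i => le_maximalIdeal hI (hspan ▸ Ideal.subset_span ⟨i, rfl⟩)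
    have hreg : RegFam a := regFam_of_ringKrullDim _ A a hm (by rw [hspan]; exact hdim.le)
    have hI' : RingHom.ker (algebraMap A B) = Ideal.span (Set.range a) := hker.trans hspan.symm
    haveI := subsingleton_T2_quotPres.{u, u, u, u} hs a hI' hreg M
    obtain ⟨e⟩ := nonempty_T2_equiv (CotT.canon A B) (quotPres.{u, u, u, u} hs a hI') M
    exact e.toEquiv.subsingleton
  · intro h
    have hex : ∃ n : ℕ, ∃ a : Fin n → A, Ideal.span (Set.range a) = I := by
      obtain ⟨s, hs'⟩ := (IsNoetherian.noetherian I : I.FG)
      refine ⟨s.card, fun i => (s.equivFin.symm i : A), ?_⟩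
      rw [← hs']
      refine congrArg Ideal.span (Set.ext fun x => ⟨fun ⟨i, hi⟩ => hi ▸ (s.equivFin.symm i).2,
        fun hx => ⟨s.equivFin ⟨x, hx⟩, by simp⟩⟩)
    obtain ⟨a, hspan⟩ := Nat.find_spec hex
    have hI' : RingHom.ker (algebraMap A B) = Ideal.span (Set.range a) := hker.trans hspan.symm
    obtain ⟨r, hr, hq⟩ := exists_syz_of_T2 hs a hI' (fun M _ _ => by
      letI : Module A M := Module.compHom M (algebraMap A B)
      haveI : IsScalarTower A B M := IsScalarTower.of_compHom A B M
      haveI := (hiso M).2 (h M)
      obtain ⟨e⟩ := nonempty_T2_equiv (quotPres.{u, u, u, u} hs a hI') (CotT.canon A B) M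
      exact e.toEquiv.subsingleton)
    have hm : ∀ i, a i ∈ maximalIdeal A := fun i => le_maximalIdeal hI (hspan ▸ Ideal.subset_span ⟨i, rfl⟩)
    have hcoef : ∀ q : Fin (Nat.find hex) →₀ A, Finsupp.linearCombination A a q = 0 →
        ∀ s, q s ∈ maximalIdeal A := by
      intro q hq s hu
      obtain ⟨u, hu'⟩ := (hu : IsUnit (q s))
      have hmem : a s ∈ Ideal.span (a '' {j | j ≠ s}) := by
        refine (Ideal.unit_mul_mem_iff_mem _ u.isUnit).1 ?_
        rw [Finsupp.linearCombination_apply, Finsupp.sum_fintype q (fun i c => c • a i) (fun _ => zero_smul _ _),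
          ← Finset.add_sum_erase _ _ (Finset.mem_univ s), add_eq_zero_iff_eq_neg] at hq
        rw [hu', ← smul_eq_mul, hq]
        exact neg_mem (Ideal.sum_mem _ fun j hj => Ideal.mul_mem_left _ _
          (Ideal.subset_span ⟨j, Finset.ne_of_mem_erase hj, rfl⟩))
      obtain ⟨m, hm'⟩ : ∃ m, Nat.find hex = m + 1 := ⟨Nat.find hex - 1, by have := s.2; omega⟩
      refine Nat.find_min hex (m := m) (by omega) ⟨fun j => a (Fin.cast hm'.symm ((Fin.cast hm' s).succAbove j)), ?_⟩
      refine le_antisymm (Ideal.span_le.2 ?_) ?_
      · rintro _ ⟨j, rfl⟩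
        exact hspan.le (Ideal.subset_span ⟨_, rfl⟩)
      · refine hspan.ge.trans (Ideal.span_le.2 ?_)
        rintro _ ⟨i, rfl⟩
        have hle : Ideal.span (a '' {j | j ≠ s}) ≤
            Ideal.span (Set.range fun j => a (Fin.cast hm'.symm ((Fin.cast hm' s).succAbove j))) := by
          refine Ideal.span_mono ?_
          rintro _ ⟨i, hi, rfl⟩
          obtain ⟨j, hj⟩ := Fin.exists_succAbove_eq (x := Fin.cast hm' i) (y := Fin.cast hm' s)
            (fun h => hi (Fin.cast_injective _ h))
          exact ⟨j, (congrArg (fun z => a (Fin.cast hm'.symm z)) hj).trans rfl⟩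
        by_cases his : i = s
        · subst his; exact hle hmem
        · exact hle (Ideal.subset_span ⟨i, his, rfl⟩)
    have hsyz : ∀ q : Fin (Nat.find hex) →₀ A, Finsupp.linearCombination A a q = 0 → q ∈ triv a := by
      let K : Submodule A (Fin (Nat.find hex) →₀ A) := LinearMap.ker (Finsupp.linearCombination A a)
      have : K ≤ triv a := by
        refine Submodule.le_of_le_smul_of_le_jacobson_bot (I := maximalIdeal A) (IsNoetherian.noetherian K)
          (IsLocalRing.jacobson_eq_maximalIdeal (I := ⊥) bot_ne_top).ge ?_
        intro q hqK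
        have h1 := hq q hqK
        have h2 : Finsupp.linearCombination A r q ∈ maximalIdeal A • K := by
          rw [Finsupp.linearCombination_apply]
          exact Submodule.sum_mem _ fun s _ => Submodule.smul_mem_smul (hcoef q hqK s) (show r s ∈ K from hr s)
        have := Submodule.add_mem_sup h1 h2
        rwa [sub_add_cancel] at this
      exact fun q hq => this hq
    have hreg := regFam_of_syz_le_triv _ a hm hsyz
    refine ⟨List.ofFn a, ?_, ?_⟩
    · exact (congrArg Ideal.span (Set.ext fun x => by simp [List.mem_ofFn])).trans hspan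
    · have hw : RingTheory.Sequence.IsWeaklyRegular A (List.ofFn a) :=
        (Groth.Agent.Lib.Vasconcelos.Global.isWeaklyRegular_ofFn a).2 hreg
      have hofl : Ideal.ofList (List.ofFn a) = I := by
        exact (congrArg Ideal.span (Set.ext fun x => by simp [List.mem_ofFn])).trans hspan
      have hR : RingTheory.Sequence.IsRegular A (List.ofFn a) := ⟨hw, by
        rw [hofl, smul_eq_mul, Ideal.mul_top]
        exact fun h => hI h.symm⟩
      have := ringKrullDim_add_length_eq_ringKrullDim_of_isRegular _ hR
      rw [hofl] at this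
      rw [← this, add_comm]

end Groth.Agent.S12291
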