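import Groth.Statements.S12293
import Groth.Agent.Lib.ArtinFun.AffExtensions
import Groth.Agent.Lib.ArtinFun.SqZero


set_option autoImplicit false
universe u w m
open CategoryTheory CategoryTheory.Limits AlgebraicGeometry
open scoped TensorProduct
open DefT

namespace Groth.Agent.S12293

open Groth.Agent.Lib Groth.Agent.Lib.ArtinFun.AffDef Groth.Agent.Lib.CotTwo

/-- Let k be a field and B a k-algebra. The set of isomorphism classes of deformations of X = Spec B
over the dual numbers D = k[ε] (schemes flat over Spec D with a morphism from X identifying X with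
the fibre over the closed point, up to isomorphism over Spec D and under X) is in bijection with the
B-module T^1(B/k, B), computed from the choice-free presentation of B over k. (The published
statement calls the correspondence natural; this row asserts the existence of a bijection.) -/
theorem result
    (k B : Type u) [Field k] [CommRing B] [Algebra k B] :
    Nonempty ((ArtFun.defFunctor (Λ := k) (Spec (CommRingCat.of B)) (Spec.map (CommRingCat.ofHom (algebraMap k B)))).obj
        (ArtFun.Art.dual k k) ≃ CotT.T1 (CotT.canon k B) B) := by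
  have hsq : ∀ a ∈ IsLocalRing.maximalIdeal (ArtFun.Art.dual k k), ∀ b ∈ IsLocalRing.maximalIdeal (ArtFun.Art.dual k k),
      a * b = 0 := fun a ha b hb => by
    have ha' : TrivSqZeroExt.fst a = 0 := ((ArtFun.Art.dual k k).mem_maximalIdeal_iff a).1 ha
    have hb' : TrivSqZeroExt.fst b = 0 := ((ArtFun.Art.dual k k).mem_maximalIdeal_iff b).1 hb
    refine TrivSqZeroExt.ext ?_ ?_
    · show TrivSqZeroExt.fst a * TrivSqZeroExt.fst b = 0
      rw [ha', zero_mul]
    · rw [ArtinFun.dual_snd_mul, ha', hb']
      simp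
      rfl
  let p : ArtFun.Art.dual k k ⟶ ArtFun.Art.base k k := ArtFun.Art.toBase _
  have hp : ArtFun.Art.IsSemismallExt p := ⟨ArtinFun.toBase_surjective _, by
    refine le_bot_iff.1 (Ideal.mul_le.2 fun a ha b hb => ?_)
    exact (Submodule.mem_bot _).2 (hsq a ha b (ArtinFun.ker_le_maximalIdeal p hb))⟩
  let x := Spec.map (CommRingCat.ofHom (algebraMap k B))
  let 𝒳 := ArtFun.DefSch.self (Λ := k) (Spec (CommRingCat.of B)) x inferInstance
  obtain ⟨E₁⟩ := nonempty_equiv_quot_base p 𝒳
  obtain ⟨E₂⟩ := nonempty_equiv_extensions_exalcom hp 𝒳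
    ⟨ArtFun.DefSch.trivial _ x inferInstance _, ⟨isoBase _ _⟩⟩
  have hs : ArtFun.Art.IsSmallExt p := ⟨hp.1, fun h => by
      have h1 : (TrivSqZeroExt.inr (1 : k) : ArtFun.Art.dual k k) ∈ RingHom.ker p.toAlgHom := TrivSqZeroExt.fst_inr k (1 : k)
      rw [h] at h1
      exact one_ne_zero (congrArg TrivSqZeroExt.snd (Ideal.mem_bot.1 h1) : (1 : k) = 0), ⟨TrivSqZeroExt.inr (1 : k), by
      refine le_antisymm (fun a ha => Ideal.mem_span_singleton'.2 ⟨TrivSqZeroExt.inl (TrivSqZeroExt.snd a), ?_⟩)
        ((Ideal.span_singleton_le_iff_mem _).2 (TrivSqZeroExt.fst_inr k (1 : k)))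
      refine TrivSqZeroExt.ext ?_ ?_
      · show TrivSqZeroExt.snd a * 0 = TrivSqZeroExt.fst a
        rw [mul_zero]
        exact (ha : TrivSqZeroExt.fst a = 0).symm
      · simp⟩, hp.2⟩
  obtain ⟨e⟩ := nonempty_ker_equiv hs
  obtain ⟨f⟩ := nonempty_tensor_equiv (B₀ := B) e
  obtain ⟨E₃, -⟩ := exists_equiv_exalcom (M := B) (CotT.canon k B)
  exact ⟨E₁.trans (E₂.trans ((exalcomCongr f).trans E₃))⟩

end Groth.Agent.S12293
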