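import Groth.Statements.S12297
import Groth.Agent.Lib.CotTwo.Localization
import Groth.Agent.Lib.JacCrit.Regular
import Groth.Agent.Lib.JacCrit.RegularOfSmooth
import Mathlib.RingTheory.Smooth.Field
import Mathlib.RingTheory.Smooth.Locus
import Mathlib.RingTheory.Localization.LocalizationLocalization
import Mathlib.FieldTheory.IsAlgClosed.Basic


set_option autoImplicit false
universe u w m
open scoped TensorProduct
open DefT

namespace Groth.Agent.S12297

open Groth.Agent.Lib.CotTwo

/-- Let k be an algebraically closed field, B a finitely generated k-algebra, m a maximal ideal of B and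
B_m the localization, a local k-algebra with residue field k. Then B_m is a regular local ring if
and only if T^1(B_m/k, M) = 0 for all B_m-modules M, and in that case T^2(B_m/k, M) = 0 for all M as
well; the T^i are computed from the choice-free presentation of B_m over k. (The published statement
is for a local k-algebra with residue field k, k algebraically closed, proved by localization from
the finitely generated case; this row states it for the localizations of finitely generated
k-algebras at maximal ideals, the case that proof covers.) -/
theorem result
    (k B : Type u) [Field k] [IsAlgClosed k] [CommRing B] [Algebra k B] [Algebra.FiniteType k B]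
    (m : Ideal B) [m.IsMaximal] :
    (IsRegularLocalRing (Localization.AtPrime m) ↔
      ∀ (M : Type u) [AddCommGroup M] [Module (Localization.AtPrime m) M],
        Subsingleton (CotT.T1 (CotT.canon k (Localization.AtPrime m)) M)) ∧
    (IsRegularLocalRing (Localization.AtPrime m) →
      ∀ (M : Type u) [AddCommGroup M] [Module (Localization.AtPrime m) M],
        Subsingleton (CotT.T2 (CotT.canon k (Localization.AtPrime m)) M)) := by
  haveI : Algebra.FinitePresentation k B := Algebra.FinitePresentation.of_finiteType.mp inferInstance
  have hiff : IsRegularLocalRing (Localization.AtPrime m) ↔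
      Algebra.FormallySmooth k (Localization.AtPrime m) := by
    constructor
    · intro _
      haveI : Algebra.EssFiniteType B (Localization.AtPrime m) := .of_isLocalization _ m.primeCompl
      haveI : Algebra.EssFiniteType k (Localization.AtPrime m) := .comp _ B _
      haveI : Algebra.EssFiniteType (Localization.AtPrime m) m.ResidueField := .of_surjective
        (IsScalarTower.toAlgHom (Localization.AtPrime m) (Localization.AtPrime m) m.ResidueField)
        IsLocalRing.residue_surjective
      haveI : Algebra.EssFiniteType k m.ResidueField := .comp _ (Localization.AtPrime m) _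
      haveI : Algebra.FormallySmooth k m.ResidueField := Algebra.FormallySmooth.of_perfectField
      exact Groth.Agent.Lib.JacCrit.Regular.isSmoothAt k m
    · intro h
      haveI : Algebra.IsSmoothAt k m := h
      exact Groth.Agent.Lib.JacCrit.RegularOfSmooth.isRegularLocalRing k m
  have hT1 := subsingleton_T1_iff.{u, u, u, u} (CotT.canon k (Localization.AtPrime m))
  refine ⟨⟨fun h => hT1.2 (hiff.1 h), fun h => hiff.2 (hT1.1 h)⟩, fun h M _ _ => ?_⟩
  haveI : Algebra.IsSmoothAt k m := hiff.1 h
  obtain ⟨_, ⟨_, ⟨g, rfl⟩, rfl⟩, hxg, hg⟩ := PrimeSpectrum.isBasis_basic_opens.exists_subset_of_mem_open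
    (show (⟨m, inferInstance⟩ : PrimeSpectrum B) ∈ Algebra.smoothLocus k B from ‹Algebra.IsSmoothAt k m›)
    Algebra.isOpen_smoothLocus
  have hgm : g ∉ m := hxg
  rw [Algebra.basicOpen_subset_smoothLocus_iff_smooth] at hg
  let B' := Localization.Away g
  let L := Localization.AtPrime m
  have hle : Submonoid.powers g ≤ m.primeCompl := Submonoid.powers_le.2 hgm
  letI : Algebra B' L := (IsLocalization.Away.lift (S := B') g (g := algebraMap B L)
    (IsLocalization.map_units L (⟨g, hgm⟩ : m.primeCompl))).toAlgebra
  haveI : IsScalarTower B B' L := IsScalarTower.of_algebraMap_eq fun b =>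
    (IsLocalization.Away.lift_eq (S := B') g _ b).symm
  haveI : IsScalarTower k B' L := IsScalarTower.of_algebraMap_eq fun c => by
    rw [IsScalarTower.algebraMap_apply k B B', ← IsScalarTower.algebraMap_apply B B' L,
      ← IsScalarTower.algebraMap_apply k B L]
  haveI := IsLocalization.isLocalization_of_submonoid_le B' L (Submonoid.powers g) m.primeCompl hle
  letI : Module B' M := Module.compHom M (algebraMap B' L)
  haveI : IsScalarTower B' L M := IsScalarTower.of_compHom B' L M
  haveI : Algebra.Smooth k B' := hg
  haveI : Algebra.FiniteType k B' := inferInstance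
  have hreg : ∀ (q : Ideal B') [q.IsPrime], IsRegularLocalRing (Localization.AtPrime q) := fun q _ => by
    haveI : Algebra.FormallyEtale B' (Localization.AtPrime q) := .of_isLocalization q.primeCompl
    haveI : Algebra.IsSmoothAt k q := Algebra.FormallySmooth.comp k B' _
    exact Groth.Agent.Lib.JacCrit.RegularOfSmooth.isRegularLocalRing k q
  let P := Algebra.Presentation.ofFinitePresentation k B'
  haveI := subsingleton_T2_of_isSyz P (isSyz_rel_of_regular P hreg) M
  obtain ⟨e⟩ := nonempty_T2_equiv (CotT.canon k B') P M
  haveI : Subsingleton (CotT.T2 (CotT.canon k B') M) := e.toEquiv.subsingleton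
  haveI := subsingleton_T2_locPres (m.primeCompl.map (algebraMap B B')) L M
  exact subsingleton_T2_trans (CotT.canon k B') (locPres (m.primeCompl.map (algebraMap B B')) L)
    (CotT.canon k L) M

end Groth.Agent.S12297
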