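import Groth.Statements.S12299
import Groth.Agent.Lib.ArtinFun.SqZero
import Groth.Agent.Lib.ArtinFun.Formal

set_option autoImplicit false
universe u v
open CategoryTheory
open ArtFun Groth.Agent.Lib.ArtinFun

namespace Groth.Agent.S12299

/-- Let k be an algebraically closed field, F a set-valued functor on local Artinian k-algebras with
residue field k, and (R, ξ) a miniversal family for F, with R a complete local Noetherian k-algebra
with residue field k: the morphism h_R → F has the lifting property along surjections and is
bijective on the dual numbers. Let S be a complete local Noetherian k-algebra with residue field k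
and g₁, g₂ : R → S two k-algebra maps compatible with the augmentations along which ξ induces the
same formal family over S (the same compatible sequence in the F(S/m^(n+1))). Then g₁ and g₂ induce
the same map R → S/m_S², so the map R/m_R² → S/m_S² attached to a formal family over S is well
defined. (Coefficient rings are taken Noetherian here.) -/
theorem result
    {k : Type u} [Field k] [IsAlgClosed k] {F : ArtFun.Art k k ⥤ Type v}
    (R : ArtFun.CRing k k) (ξ : ArtFun.Family R.carrier R.res F) (hξ : ArtFun.IsMiniversal ξ)
    (S : ArtFun.CRing k k) (g₁ g₂ : R.carrier →ₐ[k] S.carrier)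
    (hg₁ : S.res.comp g₁ = R.res) (hg₂ : S.res.comp g₂ = R.res)
    (h : (ξ.along g₁ hg₁).toFormalElt = (ξ.along g₂ hg₂).toFormalElt) :
    (S.truncHom 1).1.comp g₁ = (S.truncHom 1).1.comp g₂ := by
  have hE : IsLocalRing.maximalIdeal (S.trunc 1) ^ 2 = ⊥ := by
    refine le_bot_iff.1 ((Ideal.pow_right_mono (CRing.maximalIdeal_quot_le S 1) 2).trans ?_)
    rw [← Ideal.map_pow]
    exact (Ideal.map_quotient_self (S.mpow 1)).le
  refine AlgHom.ext fun r => eq_of_forall_to_dual (ofBaseHom (S.trunc 1)) hE (fun δ => ?_) ?_
  · have h1 : F.map δ ((ξ.along g₁ hg₁).toFormalElt.elt 1) = F.map δ ((ξ.along g₂ hg₂).toFormalElt.elt 1) := by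
      rw [h]
    change F.map δ (ξ.app _ _) = F.map δ (ξ.app _ _) at h1
    rw [← Family.natural, ← Family.natural] at h1
    exact AlgHom.congr_fun (congrArg Subtype.val (hξ.2.1 h1)) r
  · change (S.trunc 1).res ((S.truncHom 1).1 (g₁ r)) = (S.trunc 1).res ((S.truncHom 1).1 (g₂ r))
    rw [homSet_res, homSet_res]
    exact (AlgHom.congr_fun hg₁ r).trans (AlgHom.congr_fun hg₂ r).symm

end Groth.Agent.S12299
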