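import Groth.Statements.S1230
import Groth.Agent.Lib.RelAss.FlatAtPoint

set_option autoImplicit false
set_option linter.style.haveILetI false
universe u
open FlatMor

namespace Groth.Agent.S1230

open TensorProduct in
/-- Ring form, X = Spec B, X' = Spec B' affine: let B be a finite type A-algebra, N a finite B-module
flat over A, and B' a flat B-algebra such that every prime q of B, over p in A, whose extension to
the fibre ring over p is an associated prime of the fibre module of N is the contraction of a prime
of B'. Then the canonical map N → B' ⊗_B N is injective and remains injective after tensoring over A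
with any A-algebra. -/
theorem result {A B B' : Type u} [CommRing A] [CommRing B] [CommRing B'] [Algebra A B] [Algebra B B'] [Algebra A B'] [IsScalarTower A B B']
    [Algebra.FiniteType A B] [Module.Flat B B']
    (N : Type u) [AddCommGroup N] [Module B N] [Module A N] [IsScalarTower A B N] [Module.Finite B N] [Module.Flat A N]
    (h : ∀ (p : Ideal A) (q : Ideal B) [p.IsPrime] [q.IsPrime] [q.LiesOver p],
      FlatCA.fiberIdeal p q ∈ associatedPrimes (p.Fiber B) (FlatCA.fiberMod p B N) →
      ∃ q' : Ideal B', q'.IsPrime ∧ q'.comap (algebraMap B B') = q) :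
    ∀ (A' : Type u) [CommRing A'] [Algebra A A'],
      Function.Injective (((TensorProduct.mk B B' N 1).restrictScalars A).baseChange A') := by
  intro A' _ _
  show Function.Injective (((TensorProduct.mk B B' N 1).restrictScalars A).lTensor A')
  refine (LinearMap.lTensor_inj_iff_rTensor_inj _ _).2 ((injective_iff_map_eq_zero _).2 fun x hx => ?_)
  by_contra hx0
  let e := TensorProduct.AlgebraTensorModule.assoc A B B B' N A'
  have he : ∀ y, e (((TensorProduct.mk B B' N 1).restrictScalars A).rTensor A' y) = (1 : B') ⊗ₜ[B] y := fun y => by
    induction y using TensorProduct.induction_on with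
    | zero => simp
    | add a b ha hb => simp only [map_add, ha, hb, TensorProduct.tmul_add]
    | tmul a b => rfl
  have h1 : (1 : B') ⊗ₜ[B] x = 0 := by rw [← he, hx, map_zero]
  obtain ⟨q, hq⟩ := Ideal.nonempty_minimalPrimes (I := (Submodule.span B {x}).annihilator) fun htop => hx0 (by
    simpa using (Submodule.mem_annihilator_span_singleton x (1 : B)).1 (htop ▸ trivial))
  haveI := hq.1.1
  haveI : q.LiesOver (q.under A) := ⟨rfl⟩
  have hm : Lib.RelAss.FlatAtPoint.MinAt q x := Lib.RelAss.FlatAtPoint.minAt_iff.2 hq
  obtain ⟨q', hq', hq'c⟩ := h (q.under A) q ((Lib.RelAss.FlatAtPoint.exists_minAt_iff_of_flatAt N (q.under A) q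
    (H19.FlatLocus.Model.flat_localized q.primeCompl (LocalizedModule.mkLinearMap q.primeCompl N)) A').1 ⟨x, hm⟩).2
  haveI := hq'
  obtain ⟨w, hw, hwx⟩ := Lib.FlatCA.WeakAss.exists_kill_of_flat x h1 q q' hq'c
  exact hm.1 w hw hwx

end Groth.Agent.S1230
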