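import Groth.Statements.S12304
import Groth.Agent.Lib.ArtinFun.AffDef
import Groth.Agent.Lib.ArtinFun.Completion


set_option autoImplicit false
universe u
open CategoryTheory CategoryTheory.Limits AlgebraicGeometry
open ArtFun

namespace Groth.Agent.S12304

open Groth.Agent.Lib.ArtinFun Groth.Agent.Lib.ArtinFun.AffDef

/-- Spectra of local Artinian rings have one point. -/
lemma subsingleton_spec {k : Type u} [Field k] (A : ArtFun.Art k k) : Subsingleton ↥(ArtFun.Art.spec A) := by
  refine ⟨fun p q => PrimeSpectrum.ext ?_⟩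
  exact (IsLocalRing.eq_maximalIdeal (Ideal.IsPrime.isMaximal' p.2)).trans
    (IsLocalRing.eq_maximalIdeal (Ideal.IsPrime.isMaximal' q.2)).symm


/-- Let k be an algebraically closed field, M a locally Noetherian k-scheme and x₀ : Spec k → M a
k-rational point. For a local Artinian k-algebra A with residue field k consider the k-morphisms
Spec A → M whose restriction along the closed point Spec k → Spec A is x₀ (the local functor of M at
x₀, a morphism A → B acting by composition with Spec B → Spec A). This functor is pro-representable: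
there are a complete local Noetherian k-algebra R with residue field k and bijections, natural in A,
between the augmentation-compatible k-algebra maps R → A and these morphisms. (The published
statement is phrased for the fine moduli scheme M of a moduli problem, whose local functor at the
point of a given object is this one; M is taken locally Noetherian here so that the coefficient ring
is Noetherian.) -/
theorem result
    {k : Type u} [Field k] [IsAlgClosed k] (M : Scheme.{u}) (m : M ⟶ Spec (CommRingCat.of k))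
    [IsLocallyNoetherian M] (x₀ : Spec (CommRingCat.of k) ⟶ M) (hx₀ : x₀ ≫ m = 𝟙 _) :
    ∃ (R : ArtFun.CRing k k)
      (e : ∀ A : ArtFun.Art k k, ArtFun.HomSet R.carrier R.res A ≃
        {g : ArtFun.Art.spec A ⟶ M // g ≫ m = ArtFun.Art.specMap (ArtFun.Art.ofBase A) ∧ ArtFun.Art.specRes A ≫ g = x₀}),
      ∀ (A B : ArtFun.Art k k) (h : A ⟶ B) (φ : ArtFun.HomSet R.carrier R.res A),
        ((e B) (ArtFun.HomSet.map h φ)).1 = ArtFun.Art.specMap h ≫ ((e A) φ).1 := by
  classical
  let pt : Spec (CommRingCat.of k) := IsLocalRing.closedPoint k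
  obtain ⟨_, ⟨U, hU, rfl⟩, hxU, -⟩ := M.isBasis_affineOpens.exists_subset_of_mem_open
    (Set.mem_univ (x₀ pt)) isOpen_univ
  haveI : IsAffineOpen U := hU
  let S : Type u := Γ(M, U)
  haveI : IsNoetherianRing S := IsLocallyNoetherian.component_noetherian ⟨U, hU⟩
  let j : Spec (CommRingCat.of S) ⟶ M := hU.fromSpec
  have hrange : ∀ {T : Scheme.{u}} [Subsingleton T] (g : T ⟶ M) (t : T), g t = x₀ pt → Set.range g ⊆ Set.range j := by
    rintro T _ g t ht _ ⟨t', rfl⟩
    rw [Subsingleton.elim t' t, ht]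
    exact (IsAffineOpen.range_fromSpec hU).ge hxU
  obtain ⟨s, hs⟩ := exists_sp (R := k) (S := S) (j ≫ m)
  letI : Algebra k S := s.toAlgebra
  haveI : Subsingleton (Spec (CommRingCat.of k)) := inferInstanceAs (Subsingleton (PrimeSpectrum k))
  obtain ⟨r, hr⟩ := exists_sp (R := S) (S := k) (IsOpenImmersion.lift j x₀ (hrange x₀ pt rfl))
  have hr' : sp r ≫ j = x₀ := by rw [hr]; exact IsOpenImmersion.lift_fac _ _ _
  have hrs : r.comp (algebraMap k S) = RingHom.id k := sp_injective (by
    show sp (r.comp s) = _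
    rw [← sp_comp, hs, ← Category.assoc, hr', hx₀]
    exact (Spec.map_id _).symm)
  let resS : S →ₐ[k] k := { r with commutes' := fun c => RingHom.congr_fun hrs c }
  obtain ⟨R, ι, hι, -, -, huniv⟩ := exists_completion_strong (Λ := k) S resS fun c => ⟨algebraMap k S c, resS.commutes c⟩
  let P : ∀ A : ArtFun.Art k k, (ArtFun.Art.spec A ⟶ M) → Prop :=
    fun A g => g ≫ m = ArtFun.Art.specMap (ArtFun.Art.ofBase A) ∧ ArtFun.Art.specRes A ≫ g = x₀
  have hres : ∀ A (φ : ArtFun.HomSet S resS A), P A (sp φ.1.toRingHom ≫ j) := fun A φ => by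
    refine ⟨?_, ?_⟩
    · show (sp φ.1.toRingHom ≫ j) ≫ m = sp (algebraMap k A)
      rw [Category.assoc, ← hs, sp_comp]
      exact congrArg sp φ.1.comp_algebraMap
    · show sp A.res.toRingHom ≫ sp φ.1.toRingHom ≫ j = x₀
      rw [← Category.assoc, sp_comp, ← hr']
      exact congrArg (fun t : S →+* k => sp t ≫ j) (congrArg AlgHom.toRingHom φ.2)
  have hsurj : ∀ A g, P A g → ∃ φ : ArtFun.HomSet S resS A, sp φ.1.toRingHom ≫ j = g := fun A g hg => by
    haveI := subsingleton_spec A
    obtain ⟨φ, hφ⟩ := exists_sp (R := S) (S := A) (IsOpenImmersion.lift j g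
      (hrange g (ArtFun.Art.specRes A pt) (by rw [← hg.2]; rfl)))
    have hφ' : sp φ ≫ j = g := by rw [hφ]; exact IsOpenImmersion.lift_fac _ _ _
    have hc : φ.comp (algebraMap k S) = algebraMap k A := sp_injective (by
      show sp (φ.comp s) = _
      rw [← sp_comp, hs, ← Category.assoc, hφ', hg.1]
      rfl)
    refine ⟨⟨{ φ with commutes' := fun c => RingHom.congr_fun hc c }, AlgHom.ext fun x => ?_⟩, hφ'⟩
    refine RingHom.congr_fun (sp_injective (f := A.res.toRingHom.comp φ) (g := r) ((cancel_mono j).1 ?_)) x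
    rw [hr', ← sp_comp, Category.assoc, hφ']
    exact hg.2
  have hinj : ∀ A (φ φ' : ArtFun.HomSet S resS A), sp φ.1.toRingHom ≫ j = sp φ'.1.toRingHom ≫ j → φ = φ' :=
    fun A φ φ' h => Subtype.ext (AlgHom.coe_ringHom_injective (sp_injective ((cancel_mono j).1 h)))
  let toS : ∀ A, ArtFun.HomSet R.carrier R.res A → ArtFun.HomSet S resS A := fun A ψ =>
    ⟨ψ.1.comp ι, by rw [← AlgHom.comp_assoc, ψ.2]; exact hι⟩
  have hbij : ∀ A, Function.Bijective (fun ψ : ArtFun.HomSet R.carrier R.res A =>
      (⟨sp (toS A ψ).1.toRingHom ≫ j, hres A (toS A ψ)⟩ : {g // P A g})) := fun A => by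
    refine ⟨fun ψ ψ' h => ?_, fun g => ?_⟩
    · have h1 := hinj A _ _ (congrArg Subtype.val h)
      obtain ⟨χ, -, hu⟩ := huniv A (toS A ψ')
      rw [hu ψ fun b => AlgHom.congr_fun (congrArg Subtype.val h1) b, hu ψ' fun b => rfl]
    · obtain ⟨φ, hφ⟩ := hsurj A g.1 g.2
      obtain ⟨ψ, hψ, -⟩ := huniv A φ
      refine ⟨ψ, Subtype.ext ?_⟩
      show sp (toS A ψ).1.toRingHom ≫ j = g.1
      rw [show toS A ψ = φ from Subtype.ext (AlgHom.ext hψ), hφ]
  refine ⟨R, fun A => Equiv.ofBijective _ (hbij A), fun A B h ψ => ?_⟩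
  show sp (toS B (ArtFun.HomSet.map h ψ)).1.toRingHom ≫ j = sp h.toAlgHom.toRingHom ≫ sp (toS A ψ).1.toRingHom ≫ j
  rw [← Category.assoc, sp_comp]
  rfl

end Groth.Agent.S12304
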