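import Groth.Statements.S12306
import Groth.Agent.Lib.CotTwo.NoSmoothing
import Mathlib.RingTheory.KrullDimension.Field


set_option autoImplicit false
universe u
open CotT

namespace Groth.Agent.S12306

open Groth.Agent.Lib.CotTwo.NoSmooth

/-- Let k be an algebraically closed field and B₀ a finitely generated k-algebra which is not smooth
over k and is rigid, in the sense that the cotangent module T¹(B₀/k, B₀) (from the choice-free
presentation) vanishes. Let A be a finitely generated k-algebra which is a domain, smooth over k of
Krull dimension one, t ∈ A an element generating a maximal ideal, and B a finitely generated flat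
A-algebra, a k-algebra compatibly with A, whose fibre B/tB is k-isomorphic to B₀. Then this family
does not smooth Spec B₀: there is a prime of B not containing t at which B is not smooth over A.
(The published statement asserts that a singular rigid scheme admits no smoothing by any flat
family; this row states it for flat families with affine total space over an affine nonsingular
curve whose point is cut out by one equation.) -/
theorem result
    {k : Type u} [Field k] [IsAlgClosed k] (B₀ : Type u) [CommRing B₀] [Algebra k B₀] [Algebra.FiniteType k B₀]
    (hsing : ¬ Algebra.Smooth k B₀) (hrigid : Subsingleton (CotT.T1 (CotT.canon k B₀) B₀))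
    (A B : Type u) [CommRing A] [CommRing B] [IsDomain A] [Algebra k A] [Algebra.FiniteType k A]
    [Algebra.Smooth k A] (hdim : ringKrullDim A = 1) (t : A) (ht : (Ideal.span {t}).IsMaximal)
    [Algebra A B] [Algebra.FiniteType A B] [Module.Flat A B] [Algebra k B] [IsScalarTower k A B]
    (e : (B ⧸ Ideal.span {algebraMap A B t}) ≃ₐ[k] B₀) :
    ∃ q : PrimeSpectrum B, algebraMap A B t ∉ q.asIdeal ∧ q ∉ Algebra.smoothLocus A B := by
  have ht0 : t ≠ 0 := fun h0 => by
    have hf : IsField A := by
      rw [← not_not (a := IsField A)]
      intro hnf
      have := (Ring.not_isField_iff_exists_ideal_bot_lt_and_lt_top).1 hnf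
      obtain ⟨I, hI1, hI2⟩ := this
      rw [h0, Ideal.span_singleton_eq_bot.2 rfl] at ht
      exact hI2.ne (ht.out.2 I hI1)
    letI := hf.toField
    rw [ringKrullDim_eq_zero_of_field] at hdim
    exact zero_ne_one hdim
  exact exists_not_mem_smoothLocus hsing hrigid t ht0 ht e

end Groth.Agent.S12306
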