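import Groth.Statements.S12309
import Groth.Agent.Lib.ArtinFun.DefRS
import Groth.Agent.Lib.ArtinFun.Hull


set_option autoImplicit false
universe u
open CategoryTheory AlgebraicGeometry
open SGA7

namespace Groth.Agent.S12309

open Groth.Agent

/-- Suppose Λ is a Noetherian local ring, complete for its maximal ideal, whose residue field is k (so
that Λ → k is surjective), and work with functors defined on local Artinian Λ-algebras having
residue field k. Take a k-scheme X₀ and assume its deformation functor (sending A to isomorphism
classes of schemes flat over Spec A whose closed fibre is X₀) admits a hull. The deformation functor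
is then pro-representable exactly when the following holds: given any surjective morphism p : A' → A
and any deformation X' of X₀ over A', every automorphism of the base change of X' along p arises by
restricting some automorphism of X' (automorphisms being taken over Spec A' and inducing the
identity on X₀), i.e. the restriction map is surjective. (In the published version the assertion is
stated for X₀ proper over k, or affine of finite type with only finitely many non-smooth points,
cases in which a hull exists; here the existence of a hull is assumed outright, as that is all the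
printed proof relies on.) -/
theorem result (Λ k : Type u) [CommRing Λ] [IsLocalRing Λ] [IsNoetherianRing Λ]
    [IsAdicComplete (IsLocalRing.maximalIdeal Λ) Λ] [Field k] [Algebra Λ k]
    (hk : Function.Surjective (algebraMap Λ k))
    (X : Scheme.{u}) (x : X ⟶ Spec (CommRingCat.of k))
    (hX : ArtFun.HasHull (ArtFun.defFunctor (Λ := Λ) X x)) :
    ArtFun.IsProrepresentable (ArtFun.defFunctor (Λ := Λ) X x) ↔
      ∀ (A' A : ArtFun.Art Λ k) (p : A' ⟶ A), Function.Surjective p →
        ∀ ξ' : ArtFun.DefSch (Λ := Λ) X x A',
          Function.Surjective (fun e : ξ'.Iso ξ' => e.baseChange p) := by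
  haveI : Module.Finite Λ k := Module.Finite.of_surjective (Algebra.linearMap Λ k) hk
  have h0 := Lib.ArtinFun.DefRS.h0_defFunctor (Λ := Λ) (X := X) (x := x)
  have heps := Lib.ArtinFun.DefRS.heps_defFunctor (X := X) (x := x) hk
  obtain ⟨T⟩ := Lib.ArtinFun.nonempty_tangentStr (ArtFun.defFunctor (Λ := Λ) X x) h0 heps
  haveI := T
  constructor
  · intro hp A' A p hsurj ξ'
    obtain ⟨-, hrs, -⟩ := Lib.ArtinFun.conditions_of_isProrepresentable _ hp
    refine (Lib.ArtinFun.DefRS.lifts_iff p ξ').1 (Lib.ArtinFun.DefRS.lifts_of_surjective ?_ p hsurj ξ')
    exact Lib.ArtinFun.DefRS.lifts_of_rs fun B A A₁ A₂ p₁ p₂ f₁ f₂ hB hs => hrs p₁ p₂ f₁ f₂ hB hs.1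
  · intro h
    have hrs := Lib.ArtinFun.DefRS.rs_defFunctor (X := X) (x := x) fun A' A p hp ξ =>
      (Lib.ArtinFun.DefRS.lifts_iff p ξ).2 (h A' A p hp.1 ξ)
    obtain ⟨V⟩ := hX
    refine Lib.ArtinFun.isProrepresentable_of_conditions _ h0 hrs
      (Lib.ArtinFun.hfin_of_surjective_family _ V.family V.miniversal.2.2) fun x₀ a b _ => ?_
    exact @Subsingleton.elim _ (Lib.ArtinFun.subsingleton_base_dual_of_surjective hk) a b

end Groth.Agent.S12309
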