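import Groth.Statements.S12310
import Groth.Agent.Lib.ArtinFun.AffBaseChange
import Groth.Agent.Lib.Smoothing.Synt.Artin
import Groth.Agent.Lib.Smoothing.Synt.Lift


set_option autoImplicit false
universe u
open CategoryTheory AlgebraicGeometry
open SGA7

namespace Groth.Agent.S12310

open Groth.Agent.Lib Groth.Agent.Lib.ArtinFun.AffDef

/-- Suppose Λ is a Noetherian local ring, complete for its maximal-ideal-adic topology, whose residue
field is k (so Λ → k is surjective), and work with functors defined on local Artinian Λ-algebras
having residue field k. Take a finite-type k-algebra A₀ that is a local complete intersection over k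
(meaning it admits a presentation as a quotient of a polynomial algebra in finitely many variables
whose kernel is Koszul-regular), and put X₀ = Spec A₀. Then X₀ has a smooth deformation functor (the
functor of isomorphism classes of schemes flat over Spec A whose closed fibre is X₀): given any
surjection A' → A, each deformation over A can be lifted to one over A'. -/
theorem result (Λ k : Type u) [CommRing Λ] [IsLocalRing Λ] [IsNoetherianRing Λ]
    [IsAdicComplete (IsLocalRing.maximalIdeal Λ) Λ] [Field k] [Algebra Λ k]
    (hk : Function.Surjective (algebraMap Λ k))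
    (A₀ : Type u) [CommRing A₀] [Algebra k A₀] (hA : LCI.IsLCI k A₀) :
    ArtFun.IsSmoothFunctor (ArtFun.defFunctor (Λ := Λ) (Spec (CommRingCat.of A₀))
      (Spec.map (CommRingCat.ofHom (algebraMap k A₀)))) := by
  have hsyn : Synt.IsSyntomic k A₀ := (S9287.result k A₀).2 ⟨inferInstance, hA⟩
  intro B A μ hμ η
  induction η using Quotient.ind with | _ ξ => ?_
  obtain ⟨D, ⟨e₀⟩⟩ := exists_data ξ
  let I : Ideal B := RingHom.ker μ.toAlgHom.toRingHom
  let e : (B : Type u) ⧸ I ≃+* A := RingHom.quotientKerEquivOfSurjective (f := μ.toAlgHom.toRingHom) hμ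
  have he : ∀ b, e (Ideal.Quotient.mk I b) = μ b := fun b => rfl
  letI : Algebra ((B : Type u) ⧸ I) D.R := ((algebraMap A D.R).comp e.toRingHom).toAlgebra
  haveI : Module.Flat ((B : Type u) ⧸ I) D.R := RingHom.flat_algebraMap_iff.1
    ((RingHom.Flat.of_bijective e.bijective).comp (RingHom.flat_algebraMap_iff.2 D.flat))
  let res : (B : Type u) ⧸ I →+* k := A.res.toRingHom.comp e.toRingHom
  have hresB : ∀ b, res (Ideal.Quotient.mk I b) = B.res b := fun b => ArtFun.Art.res_app μ b
  have hm : (RingHom.ker res).map e.toRingHom = RingHom.ker A.res.toRingHom := by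
    rw [show RingHom.ker res = (RingHom.ker A.res.toRingHom).comap e.toRingHom from
      (RingHom.comap_ker _ _).symm]
    exact Ideal.map_comap_of_surjective e.toRingHom e.surjective _
  have hnil : IsNilpotent (RingHom.ker res) := by
    obtain ⟨N, hN⟩ := ArtinFun.exists_maximalIdeal_pow_eq_bot A
    refine ⟨N, (Ideal.map_eq_bot_iff_of_injective (f := e.toRingHom) e.injective).1 ?_⟩
    rw [Ideal.map_pow, hm, ker_res, hN]
  have hs := Smoothing.Synt.Artin.isSyntomic_of_closedFiber hsyn res (A.res_surjective.comp e.surjective) hnil
    D.π D.surj (fun a => D.comm (e a)) (by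
      rw [show algebraMap ((B : Type u) ⧸ I) D.R = (algebraMap A D.R).comp e.toRingHom from rfl,
        ← Ideal.map_map, hm]
      exact D.ker_π)
  obtain ⟨C, _, _, hC, ⟨eC⟩⟩ := Smoothing.Synt.Lift.exists_lift I hs
  let q : C →+* D.R := eC.toRingEquiv.toRingHom.comp (Ideal.Quotient.mk (I.map (algebraMap B C)))
  have hq : ∀ b : B, q (algebraMap B C b) = algebraMap A D.R (μ b) := fun b =>
    eC.commutes (Ideal.Quotient.mk I b)
  have hqs : Function.Surjective q := eC.surjective.comp Ideal.Quotient.mk_surjective
  have hkq : RingHom.ker q = I.map (algebraMap B C) := by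
    ext c
    exact (map_eq_zero_iff eC eC.injective).trans Ideal.Quotient.eq_zero_iff_mem
  let D' : Data A₀ B :=
    { R := C
      flat := hC.1
      π := D.π.comp q
      surj := D.surj.comp hqs
      comm := fun b => by
        rw [RingHom.comp_apply, hq, D.comm, ← ArtFun.Art.res_app μ b]
      ker_π := by
        have h1 : RingHom.ker D.π = ((RingHom.ker B.res.toRingHom).map (algebraMap B C)).map q := by
          rw [Ideal.map_map, show q.comp (algebraMap B C) = (algebraMap A D.R).comp μ.toAlgHom.toRingHom from
            RingHom.ext hq, ← Ideal.map_map, D.ker_π]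
          congr 1
          refine le_antisymm (fun a ha => ?_) (Ideal.map_le_iff_le_comap.2 fun b hb =>
            (ArtFun.Art.res_app μ b).trans hb)
          obtain ⟨b, rfl⟩ := hμ a
          exact Ideal.mem_map_of_mem _ ((ArtFun.Art.res_app μ b).symm.trans ha)
        rw [← RingHom.comap_ker, h1, Ideal.comap_map_of_surjective q hqs, ← RingHom.ker_eq_comap_bot, hkq]
        exact sup_eq_left.2 (Ideal.map_mono fun b hb => by
          show B.res b = 0
          rw [← ArtFun.Art.res_app μ b, show μ b = 0 from hb, map_zero]) }
  let Q : D'.HomOver D μ := ⟨q, hq, fun _ => rfl⟩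
  exact ⟨D'.toDef.cl, Quotient.sound ⟨(isoOf hμ Q).trans e₀.symm⟩⟩

end Groth.Agent.S12310
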