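import Groth.Statements.S12314
import Mathlib.Data.Nat.Factorization.Basic

set_option autoImplicit false
universe u
open CategoryTheory CategoryTheory.Limits AlgebraicGeometry MonObj
open SGA7

namespace Groth.Agent.S12314

/-- Let R be a henselian discrete valuation ring with fraction field K and residue field k, Ω a
separable closure of K, W a valuation subring of Ω lying over R, A and C abelian varieties over K
(proper, geometrically integral commutative group schemes), and u : C → A an isogeny, in the form: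
there are a homomorphism v : A → C and an integer n > 0 with v ∘ u = n and u ∘ v = n. Let ℓ be a
prime invertible in k and consider the ℓ-adic Tate modules of the Ω-points of C and A; call an
element fixed when all its components are fixed by the inertia group at W (for such ℓ the fixed part
is the inertia invariants). Then T_ℓ(u) maps the fixed part of T_ℓ(C) into the fixed part of T_ℓ(A)
and induces an isogeny between them: T_ℓ(u) is injective, and n times every fixed element of T_ℓ(A)
is the image of a fixed element of T_ℓ(C). (The case of a prime equal to the residue characteristic,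
where the fixed part is defined through the Néron model, is not stated.) -/
theorem result (R K Ω : Type u) [CommRing R] [IsDomain R] [IsDiscreteValuationRing R] [HenselianLocalRing R]
    [Field K] [Algebra R K] [IsFractionRing R K] [Field Ω] [Algebra K Ω] [IsSepClosure K Ω]
    (W : ValuationSubring Ω) (hW : SGA7.LiesOver K R W)
    (A C : Over (Spec (CommRingCat.of K))) [GrpObj A] [IsCommMonObj A] [IsProper A.hom] [GeometricallyIntegral A.hom]
    [GrpObj C] [IsCommMonObj C] [IsProper C.hom] [GeometricallyIntegral C.hom]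
    (u : C ⟶ A) [IsMonHom u] (v : A ⟶ C) [IsMonHom v] (n : ℕ) (hn : 0 < n)
    (huv : u ≫ v = (𝟙 C) ^ n) (hvu : v ≫ u = (𝟙 A) ^ n)
    (l : ℕ) (hl : l.Prime) (hlp : (l : IsLocalRing.ResidueField R) ≠ 0) :
    (∀ z : AbDual.TateMod C l (SGA7.pt Ω),
      (∀ (τ : Ω ≃ₐ[K] Ω) (m : ℕ), SGA7.IsInertia W τ →
        SGA7.galAct τ (AbDual.TateMod.component C l (SGA7.pt Ω) m z).toMul =
          (AbDual.TateMod.component C l (SGA7.pt Ω) m z).toMul) →
      (∀ (τ : Ω ≃ₐ[K] Ω) (m : ℕ), SGA7.IsInertia W τ →
        SGA7.galAct τ (AbDual.TateMod.component A l (SGA7.pt Ω) m (AbDual.tateMap u z)).toMul =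
          (AbDual.TateMod.component A l (SGA7.pt Ω) m (AbDual.tateMap u z)).toMul)) ∧
    (∀ z : AbDual.TateMod C l (SGA7.pt Ω), AbDual.tateMap (l := l) (T := SGA7.pt Ω) u z = 0 → z = 0) ∧
    (∀ y : AbDual.TateMod A l (SGA7.pt Ω),
      (∀ (τ : Ω ≃ₐ[K] Ω) (m : ℕ), SGA7.IsInertia W τ →
        SGA7.galAct τ (AbDual.TateMod.component A l (SGA7.pt Ω) m y).toMul =
          (AbDual.TateMod.component A l (SGA7.pt Ω) m y).toMul) →
      ∃ z : AbDual.TateMod C l (SGA7.pt Ω),
        (∀ (τ : Ω ≃ₐ[K] Ω) (m : ℕ), SGA7.IsInertia W τ →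
        SGA7.galAct τ (AbDual.TateMod.component C l (SGA7.pt Ω) m z).toMul =
          (AbDual.TateMod.component C l (SGA7.pt Ω) m z).toMul) ∧
        AbDual.tateMap (l := l) (T := SGA7.pt Ω) u z = n • y) := by
  have key : ∀ {P Q : Over (Spec (CommRingCat.of K))} [GrpObj P] [IsCommMonObj P] [GrpObj Q]
      [IsCommMonObj Q] (f : P ⟶ Q) [IsMonHom f] (g : Q ⟶ P) [IsMonHom g],
      f ≫ g = (𝟙 P) ^ n → ∀ x : AbDual.TateMod P l (SGA7.pt Ω),
        AbDual.tateMap g (AbDual.tateMap f x) = n • x := by
    intro P Q _ _ _ _ f _ g _ hfg x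
    apply AbDual.TateMod.ext
    intro m
    change Additive.ofMul (((x : ℕ → Additive (SGA7.pt Ω ⟶ P)) m).toMul ≫ f ≫ g) = _
    rw [hfg, MonObj.comp_pow, Category.comp_id]
    rfl
  have tf : ∀ z : AbDual.TateMod C l (SGA7.pt Ω), n • z = 0 → z = 0 := by
    intro z hz
    obtain ⟨k, m, hm, hnk⟩ := Nat.exists_eq_pow_mul_and_not_dvd hn.ne' l hl.ne_one
    have hcomp : ∀ j i, (l ^ i) • (z : ℕ → Additive (SGA7.pt Ω ⟶ C)) (j + i) =
        (z : ℕ → Additive (SGA7.pt Ω ⟶ C)) j := by
      intro j i
      induction i with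
      | zero => simp
      | succ i ih => rw [pow_succ, mul_nsmul', ← add_assoc, z.compat, ih]
    apply AbDual.TateMod.ext
    intro j
    set y := (z : ℕ → Additive (SGA7.pt Ω ⟶ C)) j
    have h1 : m • y = 0 := by
      have h2 : n • (z : ℕ → Additive (SGA7.pt Ω ⟶ C)) (j + k) = 0 :=
        congrFun (congrArg Subtype.val hz) (j + k)
      rwa [hnk, mul_nsmul, hcomp] at h2
    have h3 : (l ^ j) • y = 0 := z.torsion j
    have hc : Nat.Coprime m (l ^ j) := ((hl.coprime_iff_not_dvd.mpr hm).symm).pow_right j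
    have := addOrderOf_dvd_of_nsmul_eq_zero h1
    have := Nat.dvd_gcd this (addOrderOf_dvd_of_nsmul_eq_zero h3)
    rw [hc.gcd_eq_one, Nat.dvd_one, AddMonoid.addOrderOf_eq_one_iff] at this
    simpa using this
  have fixed : ∀ {P Q : Over (Spec (CommRingCat.of K))} [GrpObj P] [IsCommMonObj P] [GrpObj Q]
      [IsCommMonObj Q] (f : P ⟶ Q) [IsMonHom f] (x : AbDual.TateMod P l (SGA7.pt Ω)),
      (∀ (τ : Ω ≃ₐ[K] Ω) (m : ℕ), SGA7.IsInertia W τ →
        SGA7.galAct τ (AbDual.TateMod.component P l (SGA7.pt Ω) m x).toMul =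
          (AbDual.TateMod.component P l (SGA7.pt Ω) m x).toMul) →
      ∀ (τ : Ω ≃ₐ[K] Ω) (m : ℕ), SGA7.IsInertia W τ →
        SGA7.galAct τ (AbDual.TateMod.component Q l (SGA7.pt Ω) m (AbDual.tateMap f x)).toMul =
          (AbDual.TateMod.component Q l (SGA7.pt Ω) m (AbDual.tateMap f x)).toMul := by
    intro P Q _ _ _ _ f _ x hx τ m hτ
    have h : SGA7.specAut τ ≫ (AbDual.TateMod.component P l (SGA7.pt Ω) m x).toMul =
      (AbDual.TateMod.component P l (SGA7.pt Ω) m x).toMul := hx τ m hτ
    rw [AbDual.tateMap_component]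
    show SGA7.specAut τ ≫ (AbDual.TateMod.component P l (SGA7.pt Ω) m x).toMul ≫ f = _
    rw [← Category.assoc, h]
  refine ⟨fun z hz => fixed u z hz, fun z hz => tf z ?_, fun y hy => ⟨AbDual.tateMap v y, fixed v y hy, key v u hvu y⟩⟩
  rw [← key u v huv z, hz, map_zero]

end Groth.Agent.S12314
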