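import Groth.Statements.S1236
import Groth.Agent.Lib.RG.NearFlat
-- import your own Groth.Agent.* helpers here

set_option autoImplicit false
universe u
open FlatMor

namespace Groth.Agent.S1236

open TensorProduct in
/-- Let S be a finite type R-algebra, N a finite S-module, M an R-module and q a prime of S over p such
that N_q is flat over R. Then q is a weakly associated prime of the S-module N ⊗_R M if and only if
p is a weakly associated prime of M and the extension of q to the fibre ring over p is an associated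
prime of the fibre module of N. -/
theorem result {R S : Type u} [CommRing R] [CommRing S] [Algebra R S] [Algebra.FiniteType R S]
    (N : Type u) [AddCommGroup N] [Module S N] [Module R N] [IsScalarTower R S N] [Module.Finite S N]
    (M : Type u) [AddCommGroup M] [Module R M]
    (p : Ideal R) [p.IsPrime] (q : Ideal S) [q.IsPrime] [q.LiesOver p] (hflat : FlatCA.FlatAt R q N) :
    q ∈ FlatCA.weakAss S (N ⊗[R] M) ↔
      (p ∈ FlatCA.weakAss R M ∧ FlatCA.fiberIdeal p q ∈ associatedPrimes (p.Fiber S) (FlatCA.fiberMod p S N)) := by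
  classical
  obtain ⟨n, ψ, hψ⟩ := Algebra.FiniteType.iff_quotient_mvPolynomial''.1 (inferInstance : Algebra.FiniteType R S)
  let P := MvPolynomial (Fin n) R
  letI : Algebra P S := ψ.toRingHom.toAlgebra
  haveI : IsScalarTower R P S := IsScalarTower.of_algebraMap_eq' ψ.comp_algebraMap.symm
  letI : Module P N := Module.compHom N (algebraMap P S)
  haveI : IsScalarTower P S N := IsScalarTower.of_algebraMap_smul fun _ _ => rfl
  haveI : IsScalarTower R P N := IsScalarTower.of_algebraMap_smul fun r x => by
    show algebraMap P S (algebraMap R P r) • x = r • x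
    rw [← IsScalarTower.algebraMap_apply, algebraMap_smul]
  haveI : Module.Finite P S := Module.Finite.of_surjective (Algebra.linearMap P S) hψ
  haveI : Module.Finite P N := Module.Finite.trans S N
  let Q := q.comap (algebraMap P S)
  haveI : Q.LiesOver p := ⟨by
    rw [Ideal.LiesOver.over (p := p) (P := q)]
    show q.comap (algebraMap R S) = (q.comap (algebraMap P S)).comap (algebraMap R P)
    rw [Ideal.comap_comap, ← IsScalarTower.algebraMap_eq]⟩
  have hfr : ∀ c : S, ∃ s ∉ Q, ∃ a, algebraMap P S s * c = algebraMap P S a := fun c => by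
    obtain ⟨a, ha⟩ := hψ c
    exact ⟨1, fun h => Ideal.IsPrime.ne_top inferInstance ((Ideal.eq_top_iff_one Q).2 h), a, by
      rw [map_one, one_mul]; exact ha.symm⟩
  obtain ⟨k, π, hπ⟩ := Module.Finite.exists_fin' P N
  obtain ⟨T, hT, hgen, g, hg, hflatg⟩ := Lib.RG.NearFlat.exists_near (R := R) π hπ Q
    ((Lib.RG.NearFlat.flatAt_restrict N hfr rfl).2 hflat)
  let L := Submodule.span P (T : Set (Fin k → P))
  let M' := (Fin k → P) ⧸ L
  haveI : Module.FinitePresentation P M' :=
    Module.finitePresentation_of_surjective L.mkQ (Submodule.mkQ_surjective _)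
      (by rw [Submodule.ker_mkQ]; exact ⟨T, rfl⟩)
  let φ : M' →ₗ[P] N := Submodule.liftQ L π (Submodule.span_le.2 fun t ht => hT t ht)
  have hφ : Function.Surjective φ := fun m => by
    obtain ⟨v, rfl⟩ := hπ m
    exact ⟨Submodule.Quotient.mk v, rfl⟩
  have hker : ∀ z, φ z = 0 → ∃ w ∉ Q, w • z = 0 := fun z hz => by
    obtain ⟨x, rfl⟩ := Submodule.Quotient.mk_surjective L z
    obtain ⟨w, hw, hwx⟩ := hgen x hz
    exact ⟨w, hw, by rwa [← Submodule.Quotient.mk_smul, Submodule.Quotient.mk_eq_zero]⟩
  let Pg := Localization.Away g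
  let Mg := LocalizedModule (Submonoid.powers g) M'
  haveI : Algebra.FinitePresentation R Pg := Algebra.FinitePresentation.trans R P Pg
  haveI : Module.FinitePresentation Pg Mg := inferInstance
  haveI : Module.Flat R Mg := hflatg
  have hd : Disjoint (Submonoid.powers g : Set P) (Q : Set P) := Set.disjoint_left.2 fun c ⟨m, hm⟩ hc =>
    hg (Ideal.IsPrime.mem_of_pow_mem inferInstance m (by simp only at hm; rw [hm]; exact hc))
  have hW : ∀ w ∈ Submonoid.powers g, w ∉ Q := fun w hw h => Set.disjoint_left.1 hd hw h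
  let Q' := Q.map (algebraMap P Pg)
  haveI : Q'.IsPrime := IsLocalization.isPrime_of_isPrime_disjoint (Submonoid.powers g) Pg Q inferInstance hd
  have hc : Q'.comap (algebraMap P Pg) = Q :=
    IsLocalization.under_map_of_isPrime_disjoint (Submonoid.powers g) Pg inferInstance hd
  haveI : Q'.LiesOver p := ⟨by
    rw [Ideal.LiesOver.over (p := p) (P := Q)]
    show Q.comap (algebraMap R P) = Q'.comap (algebraMap R Pg)
    rw [IsScalarTower.algebraMap_eq R P Pg, ← Ideal.comap_comap, hc]⟩
  have hfr' : ∀ c : Pg, ∃ s ∉ Q, ∃ a, algebraMap P Pg s * c = algebraMap P Pg a := fun c => by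
    obtain ⟨⟨a, ⟨s, hs⟩⟩, h⟩ := IsLocalization.surj (Submonoid.powers g) c
    exact ⟨s, hW s hs, a, by rw [mul_comm]; exact h⟩
  have key : ∀ (X : Type u) [AddCommGroup X] [Module R X],
      Lib.RG.WA.WA q (N ⊗[R] X) ↔ Lib.RG.WA.WA Q' (Mg ⊗[R] X) := fun X _ _ => by
    rw [← Lib.RG.WA.wa_iff_restrict hfr rfl (N ⊗[R] X), ← Lib.RG.WA.wa_tensor_of_surjective X φ hφ hker,
      Lib.RG.WA.wa_tensor_of_localized X (Submonoid.powers g) hW (LocalizedModule.mkLinearMap (Submonoid.powers g) M'),
      Lib.RG.WA.wa_iff_restrict hfr' hc]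
  rw [← Lib.RG.WA.wa_iff_mem q, key M, Lib.RG.WA.wa_iff_mem, Groth.Agent.S1192.result Mg M p Q',
    ← Lib.RG.WA.wa_fibre_iff, ← Lib.RG.WA.wa_fibre_iff, key]

end Groth.Agent.S1236
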