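import Groth.Statements.S1238
import Groth.Agent.Lib.RG.NearFlat
import Mathlib.RingTheory.Finiteness.ModuleFinitePresentation
-- import your own Groth.Agent.* helpers here

set_option autoImplicit false
universe u
open FlatMor

namespace Groth.Agent.S1238

/-- Ring form, X = Spec S, S = Spec R affine: let R be a ring with finitely many weakly associated
primes and S a finite type R-algebra. Then the set of primes q of S with S_q flat over R is open in
Spec S, and every such q has a basic open neighbourhood D(g) with S_g flat and of finite
presentation over R. -/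
theorem result {R S : Type u} [CommRing R] [CommRing S] [Algebra R S] [Algebra.FiniteType R S]
    (hR : (FlatCA.weakAss R R).Finite) :
    IsOpen {q : PrimeSpectrum S | Module.Flat R (Localization.AtPrime q.asIdeal)} ∧
    ∀ (q : Ideal S) [q.IsPrime], Module.Flat R (Localization.AtPrime q) → ∃ g : S, g ∉ q ∧
      Algebra.FinitePresentation R (Localization.Away g) ∧ Module.Flat R (Localization.Away g) := by
  classical
  obtain ⟨n, ψ, hψ⟩ := Algebra.FiniteType.iff_quotient_mvPolynomial''.1 (inferInstance : Algebra.FiniteType R S)
  let P := MvPolynomial (Fin n) R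
  letI : Algebra P S := ψ.toRingHom.toAlgebra
  haveI : IsScalarTower R P S := IsScalarTower.of_algebraMap_eq' ψ.comp_algebraMap.symm
  haveI : Module.Finite P S := Module.Finite.of_surjective (Algebra.linearMap P S) hψ
  have hiff : ∀ (q : Ideal S) [q.IsPrime], Module.Flat R (Localization.AtPrime q) ↔
      Module.Flat R (LocalizedModule (q.comap (algebraMap P S)).primeCompl S) := fun q _ => by
    rw [Lib.RG.NearFlat.flatAt_restrict S (q := q.comap (algebraMap P S)) (q' := q) (fun c => ?_) rfl]
    · obtain ⟨a, ha⟩ := hψ c
      exact ⟨1, fun h => Ideal.IsPrime.ne_top inferInstance ((Ideal.eq_top_iff_one _).2 h), a, by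
        rw [map_one, one_mul]; exact ha.symm⟩
  obtain ⟨k, π, hπ⟩ := Module.Finite.exists_fin' P S
  have key : ∀ (q : Ideal S) [q.IsPrime], Module.Flat R (Localization.AtPrime q) → ∃ g : P,
      algebraMap P S g ∉ q ∧ Module.FinitePresentation (Localization.Away g) (LocalizedModule (Submonoid.powers g) S) ∧
      Module.Flat R (LocalizedModule (Submonoid.powers g) S) := fun q _ hq => by
    obtain ⟨g, hg, T, -, -, h1, h2⟩ := Lib.RG.NearFlat.exists_good hR π hπ _ ((hiff q).1 hq)
    exact ⟨g, hg, h1, h2⟩
  refine ⟨isOpen_iff_forall_mem_open.2 fun x hx => ?_, fun q _ hq => ?_⟩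
  · obtain ⟨g, hg, -, hflat⟩ := key x.asIdeal hx
    exact ⟨PrimeSpectrum.basicOpen (algebraMap P S g),
      fun Q hQ => (hiff Q.asIdeal).2 (Lib.RG.OpenFlat.flatAt_of_away g _ hQ hflat),
      (PrimeSpectrum.basicOpen (algebraMap P S g)).isOpen, hg⟩
  · obtain ⟨g, hg, hfp, hflat⟩ := key q hq
    refine ⟨algebraMap P S g, hg, ?_⟩
    let Pg := Localization.Away g
    let Sh := Localization.Away (algebraMap P S g)
    letI : Algebra Pg Sh := (IsLocalization.Away.map Pg Sh (algebraMap P S) g).toAlgebra
    haveI : IsScalarTower P Pg Sh := IsScalarTower.of_algebraMap_eq fun a => by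
      show algebraMap P Sh a = IsLocalization.Away.map Pg Sh (algebraMap P S) g (algebraMap P Pg a)
      rw [IsLocalization.Away.map, IsLocalization.map_eq]
      exact IsScalarTower.algebraMap_apply P S Sh a
    haveI : IsScalarTower R Pg Sh := IsScalarTower.of_algebraMap_eq fun a => by
      rw [IsScalarTower.algebraMap_apply R P Sh, IsScalarTower.algebraMap_apply P Pg Sh,
        ← IsScalarTower.algebraMap_apply R P Pg]
    haveI : IsLocalization (Algebra.algebraMapSubmonoid S (Submonoid.powers g)) Sh := by
      rw [Algebra.algebraMapSubmonoid_powers]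
      exact (inferInstance : IsLocalization (Submonoid.powers (algebraMap P S g)) Sh)
    let l := (IsScalarTower.toAlgHom P S Sh).toLinearMap
    haveI : IsLocalizedModule (Submonoid.powers g) l := isLocalizedModule_iff_isLocalization.2 inferInstance
    let e : LocalizedModule (Submonoid.powers g) S ≃ₗ[Pg] Sh :=
      (IsLocalizedModule.iso (Submonoid.powers g) l).extendScalarsOfIsLocalization (Submonoid.powers g) Pg
    haveI : Module.FinitePresentation Pg Sh := Module.FinitePresentation.of_equiv e
    haveI : Algebra.FinitePresentation R Pg := Algebra.FinitePresentation.trans R P Pg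
    haveI : Module.Flat R (LocalizedModule (Submonoid.powers g) S) := hflat
    haveI : Algebra.FinitePresentation Pg Sh := inferInstance
    exact ⟨Algebra.FinitePresentation.trans R Pg Sh,
      Module.Flat.of_linearEquiv ((IsLocalizedModule.iso (Submonoid.powers g) l).symm.restrictScalars R)⟩

end Groth.Agent.S1238
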