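import Groth.Statements.S1241
import Groth.Agent.Lib.RG.OpenApply
-- import your own Groth.Agent.* helpers here

set_option autoImplicit false
universe u
open FlatMor

attribute [local instance] Algebra.TensorProduct.rightAlgebra

namespace Groth.Agent.S1241

open Lib.RG Lib.RG.NhdPoint Lib.RG.OpenApply

open TensorProduct in
/-- Ring form, X = Spec S and S = Spec R affine: let S be a finitely presented R-algebra, N a finitely
presented S-module and p a prime of R such that N_q is flat over R for every prime q of S over p.
Then there are an étale R-algebra R' with a prime p' over p having the same residue field, and an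
étale S-algebra S' with a compatible R'-algebra structure, such that every prime of S over p is the
contraction of a prime of S' and S' ⊗_S N is a projective R'-module. -/
theorem result {R S : Type u} [CommRing R] [CommRing S] [Algebra R S] [Algebra.FinitePresentation R S]
    (N : Type u) [AddCommGroup N] [Module S N] [Module R N] [IsScalarTower R S N] [Module.FinitePresentation S N]
    (p : Ideal R) [p.IsPrime] (hflat : ∀ (q : Ideal S) [q.IsPrime], q.LiesOver p → FlatCA.FlatAt R q N) :
    ∃ (R' S' : Type u) (_ : CommRing R') (_ : CommRing S') (_ : Algebra R R') (_ : Algebra S S') (_ : Algebra R' S')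
      (_ : Algebra R S') (_ : IsScalarTower R R' S') (_ : IsScalarTower R S S')
      (p' : Ideal R') (_ : p'.IsPrime),
      FlatCA.IsEtaleNhd R R' p p' ∧ Algebra.Etale S S' ∧
      (∀ (q : Ideal S) [q.IsPrime], q.LiesOver p → ∃ q' : Ideal S', q'.IsPrime ∧ q'.comap (algebraMap S S') = q) ∧
      Module.Projective R' (RestrictScalars R' S' (S' ⊗[S] N)) := by
  obtain ⟨R', cR', aR', p', hp', hnhd, ι, fι, T, cT, aT, t, g, u, hgt, hPr, hcov⟩ :=
    exists_fibre_charts (S := S) p (fun T _ _ t u => Module.Projective T (OpenProj.Model N u)) fun q _ hq => by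
      haveI := hq
      obtain ⟨R', cR', aR', p', hp', hnhd, u, hu, hproj, -⟩ := OpenMain.exists_chart p q (hflat q hq)
      exact ⟨R', cR', aR', p', hp', hnhd, u, hu, hproj⟩
  haveI := hnhd.1
  let v : ∀ i, S ⊗[R] R' := fun i => push (g i) (u i)
  let C := ∀ i, Localization.Away (v i)
  haveI : ∀ i, Algebra.Etale S (Localization.Away (v i)) := fun i => by
    haveI : Algebra.Etale (S ⊗[R] R') (Localization.Away (v i)) := Algebra.Etale.of_isLocalizationAway (v i)
    exact Algebra.Etale.comp S (S ⊗[R] R') _
  haveI : IsScalarTower R R' C := IsScalarTower.of_algebraMap_eq fun s => funext fun i =>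
    IsScalarTower.algebraMap_apply R R' (Localization.Away (v i)) s
  haveI : IsScalarTower R S C := IsScalarTower.of_algebraMap_eq fun s => funext fun i =>
    IsScalarTower.algebraMap_apply R S (Localization.Away (v i)) s
  refine ⟨R', C, cR', inferInstance, aR', inferInstance, inferInstance, inferInstance, inferInstance, inferInstance,
    p', hp', hnhd, inferInstance, fun q _ hq => ?_, ?_⟩
  · obtain ⟨ψ, hψ⟩ := exists_psiS p q p' hnhd
    obtain ⟨hker, hkS, hkR⟩ := ker_point q ψ hψ
    obtain ⟨i, hi⟩ := hcov _ hker hkR
    obtain ⟨ψC, hψC⟩ := exists_psiC q ψ (v i) fun h => hi h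
    refine ⟨RingHom.ker (ψC.toRingHom.comp (Pi.evalRingHom (fun j => Localization.Away (v j)) i)),
      RingHom.ker_isPrime _, Ideal.ext fun s => ?_⟩
    show ψC (algebraMap S C s i) = 0 ↔ s ∈ q
    rw [Pi.algebraMap_apply, ψC.commutes]
    exact Ideal.algebraMap_residueField_eq_zero
  · haveI : ∀ i, Module.Projective R' (Localization.Away (v i) ⊗[S] N) := fun i => by
      letI : Algebra (T i) R' := (g i).toRingHom.toAlgebra
      haveI : IsScalarTower R (T i) R' := IsScalarTower.of_algebraMap_eq fun r => ((g i).commutes r).symm
      haveI := hPr i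
      exact OpenProj.projective_push N (R'' := R') (u i)
    haveI : Module.Projective R' (∀ i, Localization.Away (v i) ⊗[S] N) := by
      classical
      exact Module.Projective.of_equiv (DFinsupp.linearEquivFunOnFintype (R := R')
        (M := fun i => Localization.Away (v i) ⊗[S] N))
    obtain ⟨E⟩ := exists_piEquiv_base (S := S) (fun i => Localization.Away (v i)) N R'
    exact Module.Projective.of_equiv (E.symm.trans (rsEquiv R' C _))

end Groth.Agent.S1241
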