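import Groth.Statements.S12418
import Mathlib.RingTheory.Ideal.Colon
import Mathlib.Tactic.Ring

set_option autoImplicit false
universe u
open CAlg

namespace Groth.Agent.S12418

/-- Let R be a Noetherian ring and b ∈ R; for x outside the ideal (b) put I_x = ((b) : x), the ideal of
r with r x ∈ (b). If s ∉ (b) and I_s is maximal among the I_x (x ∉ (b)), then I_s is prime. -/
theorem result {R : Type u} [CommRing R] [IsNoetherianRing R]
    (b s : R) (hs : s ∉ Ideal.span {b})
    (hmax : ∀ x : R, x ∉ Ideal.span {b} →
      Submodule.colon (Ideal.span {b}) (Ideal.span {s}) ≤ Submodule.colon (Ideal.span {b}) (Ideal.span {x}) →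
      Submodule.colon (Ideal.span {b}) (Ideal.span {x}) = Submodule.colon (Ideal.span {b}) (Ideal.span {s})) :
    (Submodule.colon (Ideal.span {b}) (Ideal.span ({s} : Set R))).IsPrime := by
  have hmem : ∀ x a : R,
      a ∈ Submodule.colon (Ideal.span {b}) (Ideal.span ({x} : Set R) : Ideal R) ↔
        a * x ∈ Ideal.span {b} := by
    intro x a
    simp only [Submodule.mem_colon, SetLike.mem_coe, smul_eq_mul]
    constructor
    · intro h; exact h x (Ideal.mem_span_singleton_self x)
    · intro h p hp
      obtain ⟨r, rfl⟩ := Ideal.mem_span_singleton'.mp hp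
      rw [mul_left_comm]; exact Ideal.mul_mem_left _ _ h
  refine ⟨?_, ?_⟩
  · intro h
    have h1 := (hmem s 1).mp (by rw [h]; trivial)
    rw [one_mul] at h1
    exact hs h1
  · intro a c hac
    rw [hmem] at hac
    rw [or_iff_not_imp_left, hmem]
    intro ha
    have hle : Submodule.colon (Ideal.span {b}) (Ideal.span ({s} : Set R) : Ideal R) ≤
        Submodule.colon (Ideal.span {b}) (Ideal.span ({a * s} : Set R) : Ideal R) := by
      intro y hy
      rw [hmem] at hy ⊢
      rw [mul_left_comm]; exact Ideal.mul_mem_left _ _ hy
    have heq := hmax (a * s) ha hle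
    rw [← heq]
    refine (hmem (a * s) c).mpr ?_
    rwa [show c * (a * s) = a * c * s by ring]

end Groth.Agent.S12418
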