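import Groth.Statements.S12421

set_option autoImplicit false
set_option backward.isDefEq.respectTransparency false
set_option backward.isDefEq.respectTransparency.types false
universe u
open TensorProduct
open Desc

namespace Groth.Agent.S12421

/-- Let R → R' be faithfully flat and M an R-module. With δ¹ : M ⊗ R' → M ⊗ (R' ⊗ R'), m ⊗ r ↦ m ⊗ (1 ⊗
r) − m ⊗ (r ⊗ 1), and δ² : M ⊗ (R' ⊗ R') → M ⊗ (R' ⊗ (R' ⊗ R')), m ⊗ x ↦ m ⊗ (1 ⊗ x) − m ⊗ (ins₁ x)
+ m ⊗ (ins₂ x), where ins₁ (r₁ ⊗ r₂) = r₁ ⊗ (1 ⊗ r₂) and ins₂ (r₁ ⊗ r₂) = r₁ ⊗ (r₂ ⊗ 1), the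
sequence M ⊗ R' → M ⊗ R'^{⊗2} → M ⊗ R'^{⊗3} is exact: the kernel of δ² is the image of δ¹. (The
published statement asserts exactness of the whole complex; this row states exactness at M ⊗ R′ ⊗ R′
only.) -/
theorem result (R R' : Type u) [CommRing R] [CommRing R'] [Algebra R R']
    [Module.FaithfullyFlat R R'] (M : Type u) [AddCommGroup M] [Module R M] :
    Function.Exact
      (LinearMap.lTensor M (Algebra.TensorProduct.includeRight : R' →ₐ[R] R' ⊗[R] R').toLinearMap -
        LinearMap.lTensor M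
          (Algebra.TensorProduct.includeLeft : R' →ₐ[R] R' ⊗[R] R').toLinearMap)
      (LinearMap.lTensor M
          (Algebra.TensorProduct.includeRight : R' ⊗[R] R' →ₐ[R] R' ⊗[R] (R' ⊗[R] R')).toLinearMap -
        LinearMap.lTensor M
          (Algebra.TensorProduct.map (AlgHom.id R R')
            (Algebra.TensorProduct.includeRight : R' →ₐ[R] R' ⊗[R] R')).toLinearMap +
        LinearMap.lTensor M
          (Algebra.TensorProduct.map (AlgHom.id R R')
            (Algebra.TensorProduct.includeLeft : R' →ₐ[R] R' ⊗[R] R')).toLinearMap) := by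
  intro x
  constructor
  · intro hx
    let P := R' ⊗[R] (M ⊗[R] (R' ⊗[R] R'))
    let psi : M ⊗[R] (R' ⊗[R] (R' ⊗[R] R')) →ₗ[R] P :=
      (TensorProduct.leftComm R M R' (R' ⊗[R] R')).toLinearMap
    let sw : M ⊗[R] (R' ⊗[R] R') →ₗ[R] R' ⊗[R] (M ⊗[R] R') :=
      (TensorProduct.leftComm R M R' R').toLinearMap
    let d1 : M ⊗[R] R' →ₗ[R] M ⊗[R] (R' ⊗[R] R') :=
      LinearMap.lTensor M (Algebra.TensorProduct.includeRight : R' →ₐ[R] R' ⊗[R] R').toLinearMap -
        LinearMap.lTensor M
          (Algebra.TensorProduct.includeLeft : R' →ₐ[R] R' ⊗[R] R').toLinearMap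
    have key : psi.comp (LinearMap.lTensor M
          (Algebra.TensorProduct.includeRight : R' ⊗[R] R' →ₐ[R] R' ⊗[R] (R' ⊗[R] R')).toLinearMap -
        LinearMap.lTensor M
          (Algebra.TensorProduct.map (AlgHom.id R R')
            (Algebra.TensorProduct.includeRight : R' →ₐ[R] R' ⊗[R] R')).toLinearMap +
        LinearMap.lTensor M
          (Algebra.TensorProduct.map (AlgHom.id R R')
            (Algebra.TensorProduct.includeLeft : R' →ₐ[R] R' ⊗[R] R')).toLinearMap) =
        TensorProduct.mk R R' (M ⊗[R] (R' ⊗[R] R')) 1 - (LinearMap.lTensor R' d1).comp sw := by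
      ext m a b
      simp [psi, sw, d1, P, tmul_sub, sub_add]
    have h := LinearMap.congr_fun key x
    rw [LinearMap.comp_apply, hx, map_zero, LinearMap.sub_apply, eq_comm, sub_eq_zero] at h
    show x ∈ LinearMap.range d1
    rw [← Submodule.Quotient.mk_eq_zero]
    refine (Module.FaithfullyFlat.one_tmul_eq_zero_iff R _ (A := R') _).1 ?_
    have h2 := congrArg (LinearMap.lTensor R' (LinearMap.range d1).mkQ) h
    rw [LinearMap.comp_apply, ← LinearMap.comp_apply (LinearMap.lTensor R' _) (LinearMap.lTensor R' d1),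
      ← LinearMap.lTensor_comp, LinearMap.range_mkQ_comp, LinearMap.lTensor_zero] at h2
    exact h2
  · rintro ⟨y, rfl⟩
    induction y using TensorProduct.induction_on with
    | zero => simp
    | tmul m r =>
      simp [tmul_sub, Algebra.TensorProduct.one_def]
    | add _ _ h1 h2 => rw [map_add, map_add, h1, h2, add_zero]

end Groth.Agent.S12421
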