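import Groth.Statements.S5020
import Groth.Agent.Lib.Conormal92.SplitInj

set_option autoImplicit false
universe u
open CategoryTheory CategoryTheory.Limits AlgebraicGeometry TopologicalSpace
open Unram17

namespace Groth.Agent.S5020

/-- Let j : X' ⟶ X be a quasi-compact immersion and f : X ⟶ Y a morphism with j ≫ f formally smooth. Let
(Ω', d) be a sheaf of differentials of X over Y (d universal) and φ the canonical map from the
conormal sheaf of j to the pullback of Ω' along j (the O_{X'}-linear map sending the class of a
local section s of the ideal of j to the pullback of d s). Then φ is a monomorphism. (The published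
statement allows any immersion j and also asserts that the sequence conormal sheaf → pullback of Ω'
→ differentials of X' over Y is short exact and locally split; this row assumes j quasi-compact, the
case in which the conormal sheaf used here is known to be the conormal sheaf of j, and states only
that the first map is injective.) -/
theorem result {X' X Y : Scheme.{u}} (j : X' ⟶ X)
    [IsImmersion j] [QuasiCompact j] (f : X ⟶ Y) (hf : MoreMor.IsFormallySmoothHom (j ≫ f))
    (Ω' : X.Modules) (d : OmegaSh.Der f Ω') (hd : OmegaSh.IsUniversal d)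
    (φ : Omega.conormal j ⟶ (Scheme.Modules.pullback j).obj Ω') (hφ : OmegaSh.IsConormalDiff j d φ) :
    Mono φ := by
  haveI := Groth.Agent.Lib.Conormal92.Affine.isQCoh_conormal j
  haveI : Ω'.IsQuasicoherent := Groth.Agent.Lib.Kaehler.Finite.isQuasicoherent hd
  haveI : ((Scheme.Modules.pullback j).obj Ω').IsQuasicoherent :=
    Groth.Agent.Lib.QCoh.Pullback.isQCoh_pullback j _
  refine Groth.Agent.Lib.QCohChart.Basic.mono_of_charts φ fun z => ?_
  obtain ⟨Y₀, hY₀, hz, -⟩ := AlgebraicGeometry.exists_isAffineOpen_mem_and_subset (U := (⊤ : Y.Opens))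
    (x := f (j z)) trivial
  obtain ⟨V, hch, hzV, hV⟩ := Groth.Agent.Lib.Conormal92.Affine.exists_chart j z (W := f ⁻¹ᵁ Y₀) hz
  refine ⟨j ⁻¹ᵁ V, hch.affine_preimage, hzV, ?_⟩
  exact Groth.Agent.Lib.Conormal92.SplitInj.injective_app hd hφ hch hY₀ hV
    (Groth.Agent.Lib.Kaehler.FSmooth.formallySmooth_appLE hf hY₀ hch.affine_preimage _)

end Groth.Agent.S5020
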