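import Groth.Statements.S12423
import Groth.Agent.Lib.BirMap96.ConormalSmooth
import Groth.Agent.S5020
import Groth.Agent.S5021
import Groth.Agent.Lib.Kaehler.LocFree
-- import your own Groth.Agent.* helpers here

set_option autoImplicit false
set_option linter.style.haveILetI false
universe u
open CategoryTheory CategoryTheory.Limits AlgebraicGeometry
open NonsingVar

namespace Groth.Agent.S12423

/-- Let k be an algebraically closed field, X a nonsingular variety over k (integral, separated and of
finite type over k, all local rings regular) of dimension n, i : Y → X an irreducible closed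
subscheme of dimension q with ideal sheaf I, (Ω_X, d_X) and (Ω_Y, d_Y) sheaves of differentials of X
and Y over k (universal derivations), and φ : I/I² → i^*Ω_X the canonical map from the conormal
sheaf (class of a local section s of I ↦ pullback of d_X s). Then Y is nonsingular if and only if
(1) Ω_Y is locally free and (2) φ is a monomorphism (the conormal sequence 0 → I/I² → i^*Ω_X → Ω_Y →
0 is exact on the left too). Moreover in that case I/I² is locally free of rank n − q, the
codimension of Y. (The clause that I is then locally generated by n − q sections is not restated.) -/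
theorem result (k : Type u) [Field k]
    [IsAlgClosed k] (n q : ℕ)
    (X : Scheme.{u}) [X.Over (Spec (CommRingCat.of k))] [IsIntegral X] [IsSeparated (X ↘ (Spec (CommRingCat.of k)))]
    [LocallyOfFiniteType (X ↘ (Spec (CommRingCat.of k)))] [QuasiCompact (X ↘ (Spec (CommRingCat.of k)))]
    (hreg : ∀ x : ↥X, IsRegularLocalRing ↑(X.presheaf.stalk x))
    (hn : topologicalKrullDim ↥X = (n : WithBot ℕ∞))
    (Y : Scheme.{u}) (i : Y ⟶ X) [IsClosedImmersion i] [IrreducibleSpace ↥Y]
    (hq : topologicalKrullDim ↥Y = (q : WithBot ℕ∞))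
    (ΩX : X.Modules) (dX : OmegaSh.Der (X ↘ (Spec (CommRingCat.of k))) ΩX) (hX : OmegaSh.IsUniversal dX)
    (ΩY : Y.Modules) (dY : OmegaSh.Der (i ≫ (X ↘ (Spec (CommRingCat.of k)))) ΩY) (hY : OmegaSh.IsUniversal dY)
    (φ : Omega.conormal i ⟶ (Scheme.Modules.pullback i).obj ΩX) (hφ : OmegaSh.IsConormalDiff i dX φ) :
    ((∀ y : ↥Y, IsRegularLocalRing ↑(Y.presheaf.stalk y)) ↔ (FlatMod.IsFinLocFree ΩY ∧ Mono φ)) ∧
      ((∀ y : ↥Y, IsRegularLocalRing ↑(Y.presheaf.stalk y)) →
        FlatMod.IsFinLocFreeOfRank (n - q) (Omega.conormal i)) := by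
  let p := X ↘ Spec (CommRingCat.of k)
  haveI : LocallyOfFinitePresentation p := Groth.Agent.Lib.JacCrit.OverField.locallyOfFinitePresentation p
  haveI : Smooth p := by
    rw [← Scheme.Hom.smoothLocus_eq_top_iff]
    exact top_le_iff.mp fun x _ =>
      Groth.Agent.Lib.JacCrit.OverField.mem_smoothLocus_of_isRegular (f := p) (x := x) (h := hreg x)
  haveI := Groth.Agent.Lib.JacCrit.OverField.locallyOfFinitePresentation (i ≫ p)
  have hsm : (∀ y : Y, IsRegularLocalRing (Y.presheaf.stalk y)) → Smooth (i ≫ p) := fun h => by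
    rw [← Scheme.Hom.smoothLocus_eq_top_iff]
    exact top_le_iff.mp fun y _ =>
      Groth.Agent.Lib.JacCrit.OverField.mem_smoothLocus_of_isRegular (f := i ≫ p) (x := y) (h := h y)
  refine ⟨⟨fun h => ?_, fun ⟨hfree, hmono⟩ y => ?_⟩, fun h y => ?_⟩
  · haveI := hsm h
    exact ⟨Groth.Agent.Lib.Kaehler.LocFree.isFinLocFree_of_smooth hY,
      Groth.Agent.S5020.result i p
        (Groth.Agent.Lib.SmoothLift.Formal.isFormallySmoothHom_of_smooth _) ΩX dX hX φ hφ⟩
  · haveI := hmono
    exact Groth.Agent.Lib.BirMap96.ConormalSmooth.isRegularLocalRing_stalk i hX hY hfree hφ y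
  · haveI := hsm h
    obtain ⟨U, r, hyU, hiso, hdim⟩ := Groth.Agent.S5021.result p i y
    rw [Groth.Agent.Lib.JacCrit.OverField.fibreDimAt_eq_localDim,
      Groth.Agent.Lib.JacCrit.OverField.fibreDimAt_eq_localDim,
      Groth.Agent.Lib.JacCrit.OverField.localDim_eq_of_irreducible (f := p),
      Groth.Agent.Lib.JacCrit.OverField.localDim_eq_of_irreducible (f := i ≫ p), hn, hq] at hdim
    have hr : n = q + r := by exact_mod_cast hdim
    have : n - q = r := by omega
    exact ⟨U, hyU, this ▸ hiso⟩

end Groth.Agent.S12423
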