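import Groth.Statements.S12424
import Groth.Agent.H83.Cubic.LineExist
import Groth.Agent.H83.Cubic.Polar
import Mathlib.Algebra.MvPolynomial.NoZeroDivisors

set_option autoImplicit false
universe u
open Cubic

namespace Groth.Agent.S12424

open MvPolynomial

/-- A polynomial of degree at most one is affine. -/
theorem eval_affine {k : Type u} [CommRing k] {ι : Type*} [Fintype ι] (q : MvPolynomial ι k)
    (hq : q.totalDegree ≤ 1) (x : ι → k) :
    eval x q = coeff 0 q + ∑ i, coeff (Finsupp.single i 1) q * x i := by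
  classical
  have : q = C (coeff 0 q) + ∑ i, C (coeff (Finsupp.single i 1) q) * X i := by
    ext m
    rw [coeff_add, coeff_sum, coeff_C]
    simp only [coeff_C_mul, coeff_X']
    by_cases h0 : m = 0
    · subst h0; simp
    by_cases h1 : ∃ i, m = Finsupp.single i 1
    · obtain ⟨i, rfl⟩ := h1
      rw [if_neg (Ne.symm h0), zero_add, Finset.sum_eq_single i]
      · simp
      · intro j _ hj
        rw [if_neg, mul_zero]
        exact fun h => hj (Finsupp.single_left_injective one_ne_zero h)
      · simp
    · rw [if_neg (Ne.symm h0), zero_add, Finset.sum_eq_zero fun j _ => by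
        rw [if_neg fun h => h1 ⟨j, h.symm⟩, mul_zero]]
      by_contra hne
      have hle := (le_totalDegree (mem_support_iff.2 hne)).trans hq
      obtain ⟨i, hi⟩ := Finsupp.ne_iff.1 h0
      have hi' : 1 ≤ m i := Nat.one_le_iff_ne_zero.2 hi
      refine h1 ⟨i, Finsupp.ext fun j => ?_⟩
      have hle' : ∑ l, m l ≤ 1 := by rwa [Finsupp.sum_fintype _ _ (fun _ => rfl)] at hle
      rw [← Finset.add_sum_erase _ _ (Finset.mem_univ i)] at hle'
      by_cases hj : j = i
      · subst hj; simp; omega
      · have := Finset.single_le_sum (f := m) (fun _ _ => Nat.zero_le _)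
          (Finset.mem_erase.2 ⟨hj, Finset.mem_univ j⟩)
        rw [Finsupp.single_eq_of_ne hj]
        omega
  conv_lhs => rw [this]
  simp [map_sum]

/-- Let k be an algebraically closed field of characteristic zero and S = V_+(f) ⊂ P^3_k a smooth cubic
surface, f a nonzero homogeneous cubic in four variables with the Jacobian condition at every
nonzero zero. For every hyperplane H of P^3_k the scheme-theoretic intersection S ∩ H is reduced;
concretely, for every 4 × 3 matrix A of rank 3 over k (a linear parametrisation of H), the ternary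
cubic obtained from f by substituting X_i ↦ Σ_j A_{ij} Y_j is squarefree. -/
theorem result (k : Type u) [Field k] [IsAlgClosed k] [CharZero k]
    (f : MvPolynomial (Fin 4) k) (hf : f.IsHomogeneous 3) (hf0 : f ≠ 0)
    (hsm : ∀ v : Fin 4 → k, v ≠ 0 → MvPolynomial.eval v f = 0 →
      ∃ i : Fin 4, MvPolynomial.eval v (MvPolynomial.pderiv i f) ≠ 0)
    (A : Matrix (Fin 4) (Fin 3) k) (hA : A.rank = 3) :
    Squarefree (MvPolynomial.aeval (fun i : Fin 4 => ∑ j : Fin 3, MvPolynomial.C (A i j) * MvPolynomial.X j) f) := by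
  classical
  obtain ⟨T, hT⟩ := Groth.Agent.H83.Cubic.exists_isPolar hf
  have hs := hT.smooth hsm
  set M := A.mulVecLin with hM
  have hrange : Module.finrank k ↥(LinearMap.range M) = 3 := hA
  have hinj : Function.Injective M := by
    have h := M.finrank_range_add_finrank_ker
    rw [hrange, Module.finrank_fintype_fun_eq_card, Fintype.card_fin] at h
    rw [← LinearMap.ker_eq_bot, ← Submodule.finrank_eq_zero]
    omega
  obtain ⟨φ, hφ, hle⟩ := Submodule.exists_le_ker_of_lt_top (LinearMap.range M)
    (lt_top_iff_ne_top.2 fun h => by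
      rw [h, finrank_top, Module.finrank_fintype_fun_eq_card, Fintype.card_fin] at hrange; omega)
  have hker : ∀ y, φ y = 0 → ∃ z, M z = y := by
    have h := Module.Dual.finrank_ker_add_one_of_ne_zero hφ
    rw [Module.finrank_fintype_fun_eq_card, Fintype.card_fin] at h
    have e : LinearMap.range M = LinearMap.ker φ := Submodule.eq_of_le_of_finrank_le hle (by omega)
    exact fun y hy => LinearMap.mem_range.1 (e ▸ LinearMap.mem_ker.2 hy)
  set g := MvPolynomial.aeval (fun i : Fin 4 => ∑ j : Fin 3, MvPolynomial.C (A i j) * MvPolynomial.X j) f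
  have hev : ∀ y, eval y g = eval (M y) f := fun y => by
    rw [← aeval_eq_eval, ← AlgHom.comp_apply, comp_aeval, aeval_eq_eval]
    congr 2
    funext i
    simp [aeval_eq_eval, hM, Matrix.mulVec, dotProduct]
  have hg0 : g ≠ 0 := by
    obtain ⟨x, hx, hfx⟩ := Groth.Agent.H83.Cubic.exists_eval_ne_zero_of_ker hT hs (by simp) φ
    obtain ⟨z, rfl⟩ := hker x hx
    intro h
    rw [← hev, h, map_zero] at hfx
    exact hfx rfl
  have hgh : g.IsHomogeneous 3 := by
    simpa using hf.aeval (fun i : Fin 4 => ∑ j : Fin 3, C (A i j) * X j) (n := 1) fun i =>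
      IsHomogeneous.sum _ _ _ fun j _ => (isHomogeneous_X k j).C_mul (A i j)
  intro q ⟨r, hr⟩
  by_contra hq
  have hq0 : q ≠ 0 := fun h => hg0 (by rw [hr, h, zero_mul, zero_mul])
  have hr0 : r ≠ 0 := fun h => hg0 (by rw [hr, h, mul_zero])
  have hdeg := hgh.totalDegree hg0
  rw [hr, totalDegree_mul_of_isDomain (mul_ne_zero hq0 hq0) hr0,
    totalDegree_mul_of_isDomain hq0 hq0] at hdeg
  have hq1 : q.totalDegree = 1 := by
    by_contra h
    have hz : q.totalDegree = 0 := by omega
    rw [totalDegree_eq_zero_iff_eq_C] at hz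
    refine hq ?_
    rw [hz] at hq0 ⊢
    exact (isUnit_iff_ne_zero.2 fun h' => hq0 (by rw [h', map_zero])).map C
  -- doubled zeros
  have hS : ∀ y, eval y q = 0 → ∀ z, T (M y) (M y) (M z) = 0 := by
    intro y hy z
    set γ : Fin 3 → Polynomial k := fun e => Polynomial.C (y e) + Polynomial.C (z e) * Polynomial.X
    set a := T (M y) (M y) (M y)
    set b := T (M y) (M y) (M z)
    set c := T (M y) (M z) (M z)
    set d := T (M z) (M z) (M z)
    have : aeval γ g = Polynomial.C a + Polynomial.C (3 * b) * Polynomial.X +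
        Polynomial.C (3 * c) * Polynomial.X ^ 2 + Polynomial.C d * Polynomial.X ^ 3 :=
      Polynomial.funext fun t => by
        rw [Groth.Agent.H83.LineExist.eval_aeval_poly, hev]
        have : (fun e => (γ e).eval t) = y + t • z := funext fun e => by simp [γ, mul_comm t]
        rw [this, map_add, map_smul, hT.eval_add_smul, hT.eval_eq (M y), hT.eval_eq (M z)]
        simp
        ring
    have h1 := congrArg (fun P => (Polynomial.derivative P).eval 0) this
    have hz : (aeval γ q).eval 0 = 0 := by
      rw [Groth.Agent.H83.LineExist.eval_aeval_poly]; refine Eq.trans ?_ hy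
      congr 2
      funext e
      simp [γ]
    simp [hr, Polynomial.derivative_mul, hz] at h1
    simpa using h1
  have hS' : ∀ (s : k) (y : Fin 3 → k), eval y q = 0 → ∀ z, T (M (s • y)) (M (s • y)) (M z) = 0 :=
    fun s y hy z => by simp [hS y hy z]
  let L : (Fin 3 → k) →ₗ[k] k := ∑ i, coeff (Finsupp.single i 1) q • LinearMap.proj i
  have hL : ∀ x, eval x q = coeff 0 q + L x := fun x => by
    rw [eval_affine q hq1.le]
    simp [L]
  have hL2 : 2 ≤ Module.finrank k ↥(LinearMap.ker L) := by
    have h := L.finrank_range_add_finrank_ker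
    have := (Submodule.finrank_le (LinearMap.range L)).trans (Module.finrank_self k).le
    rw [Module.finrank_fintype_fun_eq_card, Fintype.card_fin] at h
    omega
  obtain ⟨w₁, w₂, m₁, m₂, hind⟩ := Groth.Agent.H83.Cubic.exists_indep_of_two_le hL2
  rw [LinearMap.mem_ker] at m₁ m₂
  obtain ⟨h₁, h₂, hi, hh₁, hh₂, hh₃⟩ : ∃ h₁ h₂ : Fin 3 → k,
      (∀ a b : k, a • h₁ + b • h₂ = 0 → a = 0 ∧ b = 0) ∧ (∀ z, T (M h₁) (M h₁) (M z) = 0) ∧
      (∀ z, T (M h₂) (M h₂) (M z) = 0) ∧ ∀ z, T (M (h₁ + h₂)) (M (h₁ + h₂)) (M z) = 0 := by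
    by_cases hc : coeff 0 q = 0
    · exact ⟨w₁, w₂, hind, hS _ (by rw [hL, hc, m₁, add_zero]), hS _ (by rw [hL, hc, m₂, add_zero]),
        hS _ (by rw [hL, hc, map_add, m₁, m₂, add_zero, add_zero])⟩
    obtain ⟨v, hv⟩ : ∃ v, L v ≠ 0 := by
      by_contra hh
      push Not at hh
      have : q = C (coeff 0 q) := MvPolynomial.funext fun x => by rw [hL, hh, add_zero, eval_C]
      rw [this, totalDegree_C] at hq1
      omega
    set u := (-(coeff 0 q) / L v) • v
    have hu : L u = -coeff 0 q := by simp [u, hv]
    refine ⟨u, u + w₁, fun a b e => ?_, hS _ (by rw [hL, hu, add_neg_cancel]),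
      hS _ (by rw [hL, map_add, hu, m₁, add_zero, add_neg_cancel]), ?_⟩
    · have hab := congrArg L e
      simp only [map_add, map_smul, hu, m₁, map_zero, smul_eq_mul, add_zero] at hab
      have hab' : a = -b := by
        have : (a + b) * coeff 0 q = 0 := by linear_combination -hab
        exact eq_neg_of_add_eq_zero_left ((mul_eq_zero.1 this).resolve_right hc)
      subst hab'
      have hb : b = 0 := (hind b 0 (by
        rw [zero_smul, add_zero]
        rw [smul_add, ← add_assoc, neg_smul, neg_add_cancel, zero_add] at e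
        exact e)).1
      simp [hb]
    · rw [show u + (u + w₁) = (2 : k) • (u + (2 : k)⁻¹ • w₁) by
        funext i; simp only [Pi.add_apply, Pi.smul_apply, smul_eq_mul]; field_simp; ring]
      exact hS' _ _ (by rw [hL, map_add, hu, map_smul, m₁, smul_zero, add_zero, add_neg_cancel])
  refine Groth.Agent.H83.Cubic.no_pencil hT hs φ (M h₁) (M h₂) (fun a b e => hi a b (hinj (by
    simpa using e))) ?_ ?_ ?_ <;> intro y hy <;> obtain ⟨z, rfl⟩ := hker y hy
  · exact hh₁ z
  · have := hh₃ z
    simp only [map_add, LinearMap.add_apply, hh₁ z, hh₂ z, hT.symm₁ (M h₂) (M h₁) (M z), zero_add,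
      add_zero] at this
    rwa [← two_mul, mul_eq_zero, or_iff_right two_ne_zero] at this
  · exact hh₂ z

end Groth.Agent.S12424
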