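import Groth.Statements.S12429
import Groth.Agent.H34.Ruled.FibreInt
import Groth.Agent.S18902
-- import your own Groth.Agent.* helpers here

set_option autoImplicit false
universe u
open CategoryTheory CategoryTheory.Limits AlgebraicGeometry
open Surf

namespace Groth.Agent.S12429

/-- Let π : X → C be a ruled surface over an algebraically closed field k: X a surface (integral, of
dimension two, all local rings regular, with a closed immersion into some P^n_k over k), C a curve
(integral, proper over k, of dimension one, all local rings regular), π a surjective k-morphism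
whose fibre over every closed point is isomorphic to P^1_k and which admits a section σ. Let L be an
invertible O_X-module, the sheaf of a divisor D, with D.f = n for every closed fibre f = π⁻¹(y),
written (L·I_f) = −n for the ideal I_f = m_y·O_X of the fibre and the intersection number (L·M) =
χ(O) − χ(L) − χ(M) + χ(L ⊗ M). Then π_*L is a locally free O_C-module of rank n + 1. Moreover π_*O_X
= O_C: for every open U of C the map O_C(U) → O_X(π⁻¹U) is bijective. -/
theorem result (k : Type u) [Field k] [IsAlgClosed k] (X : Scheme.{u}) [X.Over (Spec (CommRingCat.of k))]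
    [IsIntegral X] (hdim : topologicalKrullDim X = 2) (hreg : ∀ x : X, IsRegularLocalRing (X.presheaf.stalk x))
    (hproj : ∃ (n : ℕ) (ι : X ⟶ CohB1.ProjSpace n k), IsClosedImmersion ι ∧ ι ≫ CohB1.ProjSpace.toSpec n k = (X ↘ (Spec (CommRingCat.of k))))
    (C : Scheme.{u}) [C.Over (Spec (CommRingCat.of k))]
    [IsIntegral C] [IsProper (C ↘ (Spec (CommRingCat.of k)))] (hdimC : topologicalKrullDim C = 1)
    (hregC : ∀ x : C, IsRegularLocalRing (C.presheaf.stalk x))
    (π : X ⟶ C) (hπ : π ≫ (C ↘ (Spec (CommRingCat.of k))) = (X ↘ (Spec (CommRingCat.of k)))) (hsurj : Function.Surjective π)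
    (hfib : ∀ y : C, IsClosed ({y} : Set C) → Nonempty (pullback π (C.fromSpecResidueField y) ≅ CohB1.ProjSpace 1 k))
    (σ : C ⟶ X) (hσ : σ ≫ π = 𝟙 C)
    [HasInjectiveResolutions X.Modules] (n : ℕ) (L : X.Modules) (hL : PicF.IsInvertible L)
    (hdeg : ∀ (y : C) (hy : IsClosed ({y} : Set C)), FGA.intNum k X 2 ![L, (ClSub.idealMod ((Scheme.IdealSheafData.vanishingIdeal ⟨{y}, hy⟩).comap π))] (Coh.structureModule X) = -(n : ℤ)) :
    FlatMod.IsFinLocFreeOfRank (n + 1) ((Coh.push π).obj L) ∧
      ∀ U : C.Opens, Function.Bijective (π.app U).hom := by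
  obtain ⟨N, ι, hι, hιk⟩ := hproj
  haveI := hι
  haveI := Groth.Agent.Lib.ProjSpace.Basic.isProper_toSpec N k
  haveI : IsProper (X ↘ Spec (CommRingCat.of k)) := hιk ▸ inferInstance
  obtain ⟨hsm, hgc, hfd, hg0⟩ :=
    Groth.Agent.H34.Ruled.family_facts (k := k) hdim hdimC hregC π hπ hsurj hfib σ hσ
  haveI := hsm
  haveI := hgc
  haveI : IsProper (π ≫ (C ↘ Spec (CommRingCat.of k))) := hπ.symm ▸ inferInstance
  haveI : IsProper π := IsProper.of_comp π (C ↘ Spec (CommRingCat.of k))
  haveI : IsLocallyNoetherian C := LocallyOfFiniteType.isLocallyNoetherian (C ↘ Spec (CommRingCat.of k))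
  haveI : LocallyOfFinitePresentation π :=
    LocallyOfFinitePresentation.iff_locallyOfFiniteType.2 inferInstance
  have hlf := Groth.Agent.Lib.TensorMod.LocFree.of_rank (Groth.Agent.Lib.TensorMod.LocFree.of_isInvertible hL)
  haveI : L.IsQuasicoherent := Groth.Agent.Lib.TensorMod.QCohInv.isQCoh_of_isInvertible hL
  have hFP := Groth.Agent.Lib.TensorMod.FPConv.isFP_of_isFinLocFree hlf
  have hfl := ZarCoh.Exchange.NearFibre.isFlatOver_of_isFinLocFree π hlf
  obtain ⟨hv, hr⟩ := Groth.Agent.H34.Ruled.fibre_ranks hdim hdimC hregC π hπ hfd hfib L hL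
    (fun y hy => by rw [hdeg y hy]; omega)
  have hrk := hr n hdeg
  refine ⟨fun y => ?_, fun U => ?_⟩
  · obtain ⟨V, hV, hyV, -⟩ := exists_isAffineOpen_mem_and_subset (U := ⊤) (x := y) trivial
    haveI : IsAffine (V : Scheme.{u}) := hV
    obtain ⟨P, hP, he, -, hz⟩ := Groth.Agent.Lib.ExchangeFP29.Main.exists_of_vanish π L hFP hfl V
    obtain ⟨e⟩ := he 0
    have hq : Module.Flat (_root_.ZarCoh.Exchange.Local.AV V)
        (Groth.Agent.Lib.FlatCx.Basic.Q P (-((0 : ℕ) : ℤ) - 1)) := by
      have h := (hz 1 fun z _ => hv 1 le_rfl z).2.1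
      simpa using h
    obtain ⟨W, hW, ⟨i⟩⟩ := Groth.Agent.Lib.ExchangeFP29.Main.exists_free_nhd π L 0 hP e
      (hP.flat_Q_nonneg _ (by simp)) hq hyV
    obtain ⟨w⟩ := Groth.Agent.Lib.ExchangeFP29.Main.nonempty_zeroIso π L
    rw [hrk y] at i
    exact ⟨W, hW, ⟨(Scheme.Modules.restrictFunctor W.ι).mapIso w.symm ≪≫ i⟩⟩
  · haveI hu : IsIso (ClSub.unitToPush π) := Groth.Agent.S18902.result π hfd fun b => by
      letI : (π.fiber b).Over (Spec (C.residueField b)) := ⟨π.fiberToSpecResidueField b⟩
      exact (Groth.Agent.Lib.Curves.Euler.hdim_eq_of_iso (k := C.residueField b)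
        (PicLoc.pullbackStructureIso (π.fiberι b)) 1).symm.trans (hg0 b)
    exact ConcreteCategory.bijective_of_isIso ((ClSub.unitToPush π).app U)

end Groth.Agent.S12429
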