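import Groth.Statements.S12432
import Groth.Agent.Lib.CurveFF.OmegaRep
import Groth.Agent.Lib.CurveFF.H1Div
import Groth.Agent.S11350
-- import your own Groth.Agent.* helpers here

set_option autoImplicit false
universe u
open CategoryTheory CategoryTheory.Limits AlgebraicGeometry
open Curves

namespace Groth.Agent.S12432
open Groth.Agent.Lib
attribute [local instance] Curv2.stalkAlgebra

/-- In degree d = 6 the curve is canonical. Take k algebraically closed and suppose X is a curve over k
(integral, proper over k, one-dimensional, with every local ring regular), equipped with a closed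
immersion i : X → P^3_k over k whose image lies in no plane — that is, any nonzero global section of
O(1) on P^3_k pulls back to a nonzero global section of i^*O(1). Assume the hyperplane section is
special, meaning H^1(X, i^*O(1)) ≠ 0, and that deg i^*O(1) = 6. Then i^*O(1) is isomorphic to the
canonical sheaf Ω_{X/k}, and X has genus 4 (so X is a canonical curve of genus 4; the isomorphism is
asserted to exist as O_X-modules). -/
theorem result (k : Type u) [Field k] [IsAlgClosed k] (X : Scheme.{u}) [X.Over (Spec (CommRingCat.of k))]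
    [IsIntegral X] [IsProper (X ↘ (Spec (CommRingCat.of k)))] (hdim : topologicalKrullDim X = 1)
    (hreg : ∀ x : X, IsRegularLocalRing (X.presheaf.stalk x))
    (i : X ⟶ CohB1.ProjSpace 3 k) [IsClosedImmersion i] (hi : i ≫ CohB1.ProjSpace.toSpec 3 k = (X ↘ (Spec (CommRingCat.of k))))
    (hplane : ∀ s : LinSer.Sect (CohB1.ProjSpace 3 k) (Twist.twistProjSpace 3 k 1), s ≠ 0 →
      OmegaSh.pullSect i (Twist.twistProjSpace 3 k 1) ⊤ s ≠ 0)
    (hspecial : Nontrivial (Coh.HH X ((Scheme.Modules.pullback i).obj (Twist.twistProjSpace 3 k 1)) 1))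
    (hdeg : Curv2.deg k X ((Scheme.Modules.pullback i).obj (Twist.twistProjSpace 3 k 1)) 1 = 6) :
    Nonempty (((Scheme.Modules.pullback i).obj (Twist.twistProjSpace 3 k 1)) ≅ Omega.sheaf (X ↘ (Spec (CommRingCat.of k)))) ∧ Curv2.genus k X = 4 := by
  classical
  have h := CurveFF.curveHyp_of_regular k hdim hreg
  have hK := CurveFF.isFunctionField (k := k) h (Curves.GlobalSections.finrank_h0_structure k X)
  set L := (Scheme.Modules.pullback i).obj (Twist.twistProjSpace 3 k 1)
  have hb := (S11350.result k X hdim hreg i hi hplane).2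
  rw [hdeg, CurveFF.genus_eq h (Curves.GlobalSections.finrank_h0_structure k X)] at hb
  norm_num at hb
  obtain ⟨S, hS⟩ := CurveFF.OmegaRep.exists_rep (k := k) h hK
  have hinv : PicF.IsInvertible (Twist.twist (CohB1.polyGrading 3 k) 1) :=
    ProjTilde.Invertible.twist_isInvertible_of_cover (fun y => by
      obtain ⟨c, hc⟩ := ProjMor.Main.cover (ProjMor.Poly.lin_mem 3 k) (ProjMor.Poly.adjoin_lin 3 k) y
      exact ⟨c, c.2, hc⟩) 1
  obtain ⟨R⟩ : Nonempty (CurveFF.LineDiv.Rep L) :=
    CurveFF.LineDiv.nonempty_rep (PicLoc.isInvertible_pullback i hinv)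
  have hd : (R.div h hK).deg = 6 := by rw [← R.deg_eq h hK]; exact hdeg
  haveI : Module.Finite k (Coh.HH X L 1) := (Curves.Degree.isGood (k := k) h.dim.le R.inv).fin₁
  have h1 : 0 < Module.finrank k (Coh.HH X L 1) :=
    haveI := hspecial; Module.finrank_pos
  rw [CurveFF.H1Div.finrank_h1 h hK hS R] at h1
  obtain ⟨G, a, hG, ha, hGe, hGd⟩ := FunFld.SmallGenus.exists_nonneg hK h1
  have hW := FunFld.Weil.deg_canonical hK hS
  have hGd' := FunFld.Degree.deg_nonneg hG
  rw [hGd, FunFld.Degree.deg_sub, hd, hW] at hGd'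
  have hg : _root_.FunFld.genus k X.functionField = 4 := by omega
  refine ⟨?_, by rw [CurveFF.genus_eq h (Curves.GlobalSections.finrank_h0_structure k X), hg]⟩
  have hG0 := FunFld.SmallGenus.eq_zero_of_nonneg hK hG (by
    rw [hGd, FunFld.Degree.deg_sub, hd, hW, hg]; rfl)
  rw [hG0, zero_add] at hGe
  refine CurveFF.LineDiv.nonempty_iso (k := k) h R S (f := a⁻¹) (inv_ne_zero ha) fun x => ?_
  have hx := DFunLike.congr_fun hGe (CurveFF.placeOf k h x)
  simp only [Finsupp.sub_apply, CurveFF.LineDiv.Rep.div_placeOf,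
    FunFld.Degree.div_apply (k := k) (K := X.functionField) hK] at hx
  rw [FunFld.Place.val_eq_exp (CurveFF.placeOf k h x) (inv_ne_zero ha), ← WithZero.exp_add,
    FunFld.Place.ord_inv]
  congr 1
  omega

end Groth.Agent.S12432
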