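import Groth.Statements.S12438
import Groth.Agent.Lib.H1.Grosshans.BigCellTorus
import Groth.Agent.H1.Obs.UFG.WeightSpace
import Groth.Agent.S11245

set_option autoImplicit false
universe u
open CategoryTheory MonoidalCategory CartesianMonoidalCategory MonObj GrpObj AlgebraicGeometry
open scoped TensorProduct
open AGF

namespace Groth.Agent.S12438

set_option linter.style.haveILetI false
set_option linter.unusedSectionVars false

open WithConv
open Groth.Agent.Lib.RedPts Groth.Agent.Lib.RedPts.Points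
open Groth.Agent.H1.Classical Groth.Agent.H1.Classical.Scheme' Groth.Agent.H1.Classical.Torus
  Groth.Agent.H1.Classical.Torus.Centraliser Groth.Agent.H1.Classical.MaxTorusScheme Groth.Agent.H1.Classical.MaxTorusApply
open Groth.Agent.H1.Obs Groth.Agent.H1.Obs.UFG Groth.Agent.H1.RInv Groth.Agent.Lib.H1.Grosshans

attribute [local instance] Groth.Agent.Lib.RedPts.Points.baseAlgebra

variable {k : Type u} [Field k] [IsAlgClosed k]
  {G B U T : Over (Spec (CommRingCat.of k))} [GrpObj G] [GrpObj B] [GrpObj U] [GrpObj T]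
  [IsAffine G.left] [Smooth G.hom] [ConnectedSpace G.left] {iB : B ⟶ G} {u : U ⟶ B} {t : T ⟶ B}

/-- The points of a Borel subgroup are products of points of a maximal torus and of the unipotent radical. -/
theorem exists_split_pt (hB : Red.IsBorelOver k iB) (hU : Par.IsUnipotentRadical u) [IsMonHom t]
    (hT : AGF.IsMaxTorus (t ≫ iB)) (y : P B) : ∃ (z : P T) (w : P U), y = (z ≫ t) * (w ≫ u) := by
  haveI := hB.1
  haveI := hB.2.1
  haveI := hU.1
  haveI : Mono iB := Over.mono_of_mono_left iB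
  obtain ⟨A, _, _, _, _, e, he⟩ := exists_GA G
  haveI := he
  haveI := locallyOfFiniteType (k := k) (A := A)
  have hbor := isBor_ptsOf (iB ≫ e.hom) (isBorelOver_comp hB e)
  obtain ⟨W, _, σ, hσ⟩ := GenRep.exists_gen (HopfPts.D k A) hasMul_pts pts_ext
  have hirrB : ((HopfPts.D k A).restrict _ hbor.cl).SIrr Set.univ :=
    ((HopfPts.D k A).sirr_restrict).mpr (by rw [Set.image_univ, Subtype.range_coe_subtype]; exact hbor.irr)
  haveI := hbor.solv
  obtain ⟨T₀, Us, τ, hs⟩ := Groth.Agent.H1.Classical.Torus.Split.exists_split _ hirrB (σ.comp (ptsOf (iB ≫ e.hom)).subtype)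
    (GenRep.Gen.restrict (HopfPts.D k A) hσ (ptsOf (iB ≫ e.hom)) hbor.cl)
  have hUs := unipotent_mem_radical e hB hU hσ hs
  haveI : IsMonHom (t ≫ iB) := hT.1
  have hmax := isMax_ptsOf_torus ((t ≫ iB) ≫ e.hom) (isMaxTorus_comp e hT)
  have hle : ptsOf ((t ≫ iB) ≫ e.hom) ≤ ptsOf (iB ≫ e.hom) := by
    rintro χ ⟨x, hx⟩
    exact ⟨x ≫ t, by rw [← hx]; show (x ≫ t) ≫ iB ≫ e.hom = x ≫ (t ≫ iB) ≫ e.hom; simp only [Category.assoc]⟩
  obtain ⟨a, haB, ha⟩ := MaxTorus.conj_into_borel hasMul_pts hσ hbor.cl hs hmax.tor hle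
  have hset : ((T₀.map (ptsOf (iB ≫ e.hom)).subtype : Subgroup _) : Set (HopfPts.Pt k A)) =
      Subtype.val '' (T₀ : Set (ptsOf (iB ≫ e.hom))) := Subgroup.coe_map _ _
  have hT₀ : IsTor (HopfPts.D k A) (T₀.map (ptsOf (iB ≫ e.hom)).subtype) := by
    refine ⟨hset ▸ (HopfPts.D k A).isCl_image hs.clT, hset ▸ (HopfPts.D k A).sirr_restrict.mp hs.irrT, ?_, ?_⟩
    · rintro _ ⟨a, ha, rfl⟩ _ ⟨b, hb, rfl⟩
      rw [← map_mul, hs.comm a ha b hb, map_mul]
    · rintro f hf h _ ⟨z, hz, rfl⟩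
      refine hs.dense _ ⟨f, hf, rfl⟩ (fun s hsT ⟨m, hm, hsm⟩ => h _ ⟨s, hsT, rfl⟩ ⟨m, hm, ?_⟩) z hz
      show ((s : HopfPts.Pt k A)) ^ m = 1
      rw [← SubmonoidClass.coe_pow, hsm, OneMemClass.coe_one]
  have heq := (hmax.map_conj a).max _ hT₀ (by rintro _ ⟨x, hx, rfl⟩; exact ha x hx)
  obtain ⟨χ, hχ⟩ := toP_surjective e (y ≫ iB)
  let b : ptsOf (iB ≫ e.hom) := ⟨χ, y, by rw [← toP_comp e, hχ, Category.assoc]; rfl⟩
  obtain ⟨x, ⟨w, hw⟩, hx⟩ := heq ⟨τ b, hs.tau_mem b, rfl⟩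
  let a' : ptsOf (iB ≫ e.hom) := ⟨a, haB⟩
  let x' : ptsOf (iB ≫ e.hom) := ⟨x, hle ⟨w, hw⟩⟩
  have h1 : τ b = a' * x' * a'⁻¹ := Subtype.ext hx.symm
  have h2 : τ x' = τ b := by
    have h3 : τ (τ b) = τ b := hs.tau_fix _ (hs.tau_mem b)
    rw [h1, map_mul, map_mul, map_inv, hs.comm _ (hs.tau_mem a') _ (hs.tau_mem x'), mul_inv_cancel_right] at h3
    rw [h3, ← h1]
  obtain ⟨v, hv⟩ := hUs (x'⁻¹ * b) ((hs.tau_ker _).mp (by rw [map_mul, map_inv, h2, inv_mul_cancel]))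
  refine ⟨w, v, ?_⟩
  have hwx : (w ≫ t ≫ iB : P G) = toP e x := by
    rw [← cancel_mono e.hom, toP_comp, Category.assoc]
    exact hw
  rw [← cancel_mono iB, MonObj.mul_comp, Category.assoc, Category.assoc, hv, hwx, Subgroup.coe_mul, Subgroup.coe_inv,
    map_mul, map_inv, mul_inv_cancel_left, hχ]

/-- The functions invariant on the right under the radical and of a weight under the torus. -/
def wspace (u : U ⟶ B) (t : T ⟶ B) (iB : B ⟶ G) (ω : P T → k) : Submodule k Γ(G.left, ⊤) where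
  carrier := {f | (∀ (x : P G) (z : P U), ev (x * (z ≫ u ≫ iB)) f = ev x f) ∧
    ∀ (x : P G) (z : P T), ev (x * (z ≫ t ≫ iB)) f = ω z * ev x f}
  zero_mem' := ⟨fun x z => by simp, fun x z => by simp⟩
  add_mem' := fun {f g} hf hg => ⟨fun x z => by rw [map_add, map_add, hf.1, hg.1],
    fun x z => by rw [map_add, map_add, hf.2, hg.2, mul_add]⟩
  smul_mem' := fun r f hf => ⟨fun x z => by
      rw [Algebra.smul_def, map_mul, map_mul, hf.1, ev_const, ev_const],
    fun x z => by rw [Algebra.smul_def, map_mul, map_mul, hf.2, ev_const, ev_const]; ring⟩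

set_option maxHeartbeats 1000000 in
/-- The product of two weight spaces is the weight space of the product, in characteristic zero. -/
theorem mul_wspace [CharZero k] (hG : Red.IsReductiveOver k G) (hB : Red.IsBorelOver k iB)
    (hU : Par.IsUnipotentRadical u) [IsMonHom t] (hT : AGF.IsMaxTorus (t ≫ iB)) (ω ω' : P T → k)
    {a b f : Γ(G.left, ⊤)} (ha : a ∈ wspace u t iB ω) (ha0 : a ≠ 0) (hb : b ∈ wspace u t iB ω') (hb0 : b ≠ 0)
    (hf : f ∈ wspace u t iB fun z => ω z * ω' z) :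
    f ∈ Submodule.span k {h | ∃ p ∈ wspace u t iB ω, ∃ q ∈ wspace u t iB ω', h = p * q} := by
  haveI : IsReduced G.left := Groth.Agent.Lib.GrpSch.isReduced_of_smooth_field G.hom
  haveI := Groth.Agent.H1.Obs.isDomain_functions G
  haveI := hB.1
  haveI := hU.1
  obtain ⟨Bc, hTs⟩ := exists_bigCell_torus hG hB hU
  letI := Bc.grpB2
  letI := Bc.grpU2
  obtain ⟨hm2, hA2, hS2, hc2, hno2⟩ := props_of_radical Bc.hB2 Bc.hU2
  haveI := hm2
  haveI := hA2
  haveI := hS2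
  haveI := hc2
  set E := wspace u t iB (fun z => ω z * ω' z)
  set W := Submodule.span k {h | ∃ p ∈ wspace u t iB ω, ∃ q ∈ wspace u t iB ω', h = p * q}
  have hst : ∀ (χ : P T → k) (y : P G), ∀ p ∈ wspace u t iB χ, ltr y p ∈ wspace u t iB χ := fun χ y p hp =>
    ⟨fun x z => by rw [ev_ltr, ev_ltr, ← _root_.mul_assoc, hp.1],
      fun x z => by rw [ev_ltr, ev_ltr, ← _root_.mul_assoc, hp.2]⟩
  have hWE : W ≤ E := Submodule.span_le.mpr fun h ⟨p, hp, q, hq, hh⟩ =>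
    ⟨fun x z => by rw [hh, map_mul, map_mul, hp.1, hq.1],
      fun x z => by rw [hh, map_mul, map_mul, hp.2, hq.2]; ring⟩
  have hW : ∀ y : P G, W ≤ W.comap (ltr y).toLinearMap := fun y => Submodule.span_le.mpr
    fun h ⟨p, hp, q, hq, hh⟩ => Submodule.subset_span
      ⟨_, hst ω y p hp, _, hst ω' y q hq, by rw [hh]; exact map_mul (ltr y) p q⟩
  have hab : a * b ∈ W := Submodule.subset_span ⟨a, ha, b, hb, rfl⟩
  -- at most one fixed line
  have huniq : ∀ p ∈ E, p ∈ (regularL G).fixedUnder (Bc.u2 ≫ Bc.iB2) → ev Bc.a0 p = 0 → p = 0 := by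
    intro p hp hpfix h0
    have hne : rtr Bc.a0⁻¹ Bc.h ≠ 0 := fun h => Bc.h_ne (by
      have := congrArg (rtr Bc.a0) h
      rwa [rtr_rtr, mul_inv_cancel, rtr_one, map_zero] at this)
    have h1 : p * rtr Bc.a0⁻¹ Bc.h = 0 := ext_points fun x => by
      rw [map_mul, map_zero]
      by_cases hx : ev x (rtr Bc.a0⁻¹ Bc.h) = 0
      · rw [hx, mul_zero]
      rw [ev_rtr] at hx
      obtain ⟨n, hn, s, hs, v, hv, hx'⟩ := Bc.cell _ hx
      obtain ⟨z, rfl⟩ := (Bc.mem_Us v).mp hv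
      obtain ⟨z', hz'⟩ := (Bc.mem_Ns n).mp hn
      obtain ⟨y, hy⟩ := hTs s hs
      obtain ⟨zt, zu, rfl⟩ := exists_split_pt hB hU hT y
      have h3 : x = n * (Bc.a0 * ((zt ≫ t ≫ iB) * (zu ≫ u ≫ iB) * (z ≫ u ≫ iB))) := by
        rw [MonObj.mul_comp, Category.assoc, Category.assoc] at hy
        rw [hy, mul_inv_eq_iff_eq_mul.mp hx']
        group
      have h2 := congrArg (ev x) ((mem_fixedUnder_iff _ _ p).mp hpfix z')
      rw [act_regularL, ev_ltr, hz'] at h2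
      rw [← h2, h3, inv_mul_cancel_left, ← _root_.mul_assoc, hp.1, ← _root_.mul_assoc, hp.1, hp.2, h0, mul_zero, zero_mul]
    exact (mul_eq_zero.mp h1).resolve_right hne
  obtain ⟨V₁, hV₁f, hfV₁, hV₁⟩ := exists_finite_stable (regularL G) f
  obtain ⟨V₂, hV₂f, habV₂, hV₂⟩ := exists_finite_stable (regularL G) (a * b)
  haveI := hV₁f
  haveI := hV₂f
  have hEst : ∀ (x : P G), ∀ p ∈ E, act (regularL G) x p ∈ E := fun x p hp => by
    rw [act_regularL]; exact hst _ _ p hp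
  have hWst : ∀ (x : P G), ∀ p ∈ W, act (regularL G) x p ∈ W := fun x p hp => by
    rw [act_regularL]; exact hW _ hp
  set V := E ⊓ (V₁ ⊔ V₂)
  haveI : FiniteDimensional k V := Submodule.finiteDimensional_of_le (inf_le_right : V ≤ V₁ ⊔ V₂)
  have hVst : ∀ (x : P G), ∀ p ∈ V, act (regularL G) x p ∈ V := fun x p hp => by
    refine ⟨hEst x p hp.1, ?_⟩
    obtain ⟨p₁, h₁, p₂, h₂, rfl⟩ := Submodule.mem_sup.mp hp.2
    rw [map_add]
    exact Submodule.add_mem_sup (hV₁ x _ h₁) (hV₂ x _ h₂)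
  obtain ⟨C, hCV, hC, hdisj, hsup⟩ := Groth.Agent.S11245.exists_compl hG (regularL G) V (W ⊓ V) hVst
    (fun x p hp => ⟨hWst x p hp.1, hVst x p hp.2⟩) inf_le_right
  have hne : W ⊓ V ≠ ⊥ := fun h => by
    have : a * b ∈ W ⊓ V := ⟨hab, hWE hab, Submodule.mem_sup_right habV₂⟩
    rw [h, Submodule.mem_bot] at this
    exact mul_ne_zero ha0 hb0 this
  obtain ⟨w, hw, hw0, hwfix⟩ := exists_fixed (Bc.u2 ≫ Bc.iB2) (regularL G) hno2 (W ⊓ V) hne
    fun x p hp => ⟨hWst _ p hp.1, hVst _ p hp.2⟩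
  have hC0 : C = ⊥ := by
    by_contra hCne
    obtain ⟨c, hc, hc0, hcfix⟩ := exists_fixed (Bc.u2 ≫ Bc.iB2) (regularL G) hno2 C hCne fun x p hp => hC _ p hp
    have hd := huniq (ev Bc.a0 c • w - ev Bc.a0 w • c)
      (E.sub_mem (E.smul_mem _ (hWE hw.1)) (E.smul_mem _ (hCV hc).1))
      (Submodule.sub_mem _ (Submodule.smul_mem _ _ hwfix) (Submodule.smul_mem _ _ hcfix)) (by
        rw [map_sub, Algebra.smul_def, Algebra.smul_def, map_mul, map_mul, ev_const, ev_const, mul_comm, sub_self])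
    have hz : ev Bc.a0 w • c = 0 := by
      rw [sub_eq_zero] at hd
      exact Submodule.disjoint_def.mp hdisj _ (hd ▸ Submodule.smul_mem _ _ hw) (Submodule.smul_mem _ _ hc)
    refine hw0 (huniq w (hWE hw.1) hwfix ?_)
    by_contra h0
    exact hc0 (by rw [← one_smul k c, ← inv_mul_cancel₀ h0, mul_smul, hz, smul_zero])
  rw [hC0, sup_bot_eq] at hsup
  exact (hsup ⟨hf, Submodule.mem_sup_left hfV₁⟩).1

/-- Let k be an algebraically closed field of characteristic zero, G a connected reductive linear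
algebraic group over k, B a Borel subgroup with unipotent radical U, T a maximal torus of G inside
B, and ω, ω′ characters of T. Write E(ω) for the space of global functions f on G with f(x·u) = f(x)
for u in U and f(x·t) = ω(t)·f(x) for t in T, and assume E(ω) and E(ω′) are nonzero (equivalently ω
and ω′ are dominant). Then the multiplication map E(ω) ⊗ E(ω′) → E(ω + ω′) is surjective: every
function in the weight space of the product character ω·ω′ is a finite sum of products a·b with a ∈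
E(ω) and b ∈ E(ω′). -/
theorem result (k : Type u) [Field k] [IsAlgClosed k] [CharZero k]
    (G : Over (Spec (CommRingCat.of k))) [GrpObj G] (hG : Red.IsReductiveOver k G)
    (Bo : Over (Spec (CommRingCat.of k))) [GrpObj Bo] (iB : Bo ⟶ G) (hB : Red.IsBorelOver k iB)
    (U : Over (Spec (CommRingCat.of k))) [GrpObj U] (u : U ⟶ Bo) (hU : Par.IsUnipotentRadical u)
    (T : Over (Spec (CommRingCat.of k))) [GrpObj T] (t : T ⟶ Bo) [IsMonHom t] (hT : AGF.IsMaxTorus (t ≫ iB))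
    (ω ω' : T ⟶ Red.Gm (Spec (CommRingCat.of k))) [IsMonHom ω] [IsMonHom ω']
    (hω : ∃ a : Γ(G.left, ⊤), a ≠ 0 ∧ (((G ◁ (u ≫ iB)) ≫ μ[G]).left.appTop a = (fst G U).left.appTop a ∧
        ((G ◁ (t ≫ iB)) ≫ μ[G]).left.appTop a = (fst G T).left.appTop a * (snd G T).left.appTop (Red.gmFn ω)))
    (hω' : ∃ b : Γ(G.left, ⊤), b ≠ 0 ∧ (((G ◁ (u ≫ iB)) ≫ μ[G]).left.appTop b = (fst G U).left.appTop b ∧
        ((G ◁ (t ≫ iB)) ≫ μ[G]).left.appTop b = (fst G T).left.appTop b * (snd G T).left.appTop (Red.gmFn ω')))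
    (f : Γ(G.left, ⊤)) (hf : (((G ◁ (u ≫ iB)) ≫ μ[G]).left.appTop f = (fst G U).left.appTop f ∧
        ((G ◁ (t ≫ iB)) ≫ μ[G]).left.appTop f = (fst G T).left.appTop f * (snd G T).left.appTop (Red.gmFn ω * Red.gmFn ω'))) :
    ∃ s : Finset (Γ(G.left, ⊤) × Γ(G.left, ⊤)),
      (∀ p ∈ s, (((G ◁ (u ≫ iB)) ≫ μ[G]).left.appTop p.1 = (fst G U).left.appTop p.1 ∧
        ((G ◁ (t ≫ iB)) ≫ μ[G]).left.appTop p.1 = (fst G T).left.appTop p.1 * (snd G T).left.appTop (Red.gmFn ω)) ∧ (((G ◁ (u ≫ iB)) ≫ μ[G]).left.appTop p.2 = (fst G U).left.appTop p.2 ∧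
        ((G ◁ (t ≫ iB)) ≫ μ[G]).left.appTop p.2 = (fst G T).left.appTop p.2 * (snd G T).left.appTop (Red.gmFn ω'))) ∧
      f = ∑ p ∈ s, p.1 * p.2 := by
  classical
  obtain ⟨hGa, hGs, hGc, -⟩ := id hG
  haveI := hGa
  haveI := hGs
  haveI := hGc
  haveI := hB.1
  haveI := hB.2.1
  haveI := hU.1
  obtain ⟨-, hUa, hUs, -, -⟩ := props_of_radical hB hU
  haveI := hUa
  haveI := hUs
  haveI : IsMonHom (t ≫ iB) := hT.1
  haveI : Mono (t ≫ iB) := hT.2.1
  obtain ⟨-, hTs, -, hTa⟩ := Groth.Agent.H1.Classical.TorusPts.torus_props (t ≫ iB) hT.2.2.1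
  haveI := hTs
  haveI := hTa
  have key : ∀ (g : Γ(G.left, ⊤)) (r : Γ(T.left, ⊤)), (((G ◁ (u ≫ iB)) ≫ μ[G]).left.appTop g = (fst G U).left.appTop g ∧
        ((G ◁ (t ≫ iB)) ≫ μ[G]).left.appTop g = (fst G T).left.appTop g * (snd G T).left.appTop r) ↔
      g ∈ wspace u t iB (fun z => ev z r) := fun g r => by
    refine ⟨fun h => ⟨fun x z => rTransInv_apply (u ≫ iB) g h.1 x z, fun x z => ?_⟩, fun h => ⟨?_, ?_⟩⟩
    · have h' := congrArg (ev (lift x z)) h.2
      rw [map_mul, ← ev_comp, ← ev_comp, ← ev_comp, lift_whiskerLeft_assoc, lift_fst, lift_snd, ← Hom.mul_def] at h'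
      exact h'.trans (mul_comm _ _)
    · exact (rTransInv_iff (u ≫ iB) g).mpr h.1
    · haveI : IsAffine (G ⊗ T).left := inferInstanceAs (IsAffine (Limits.pullback G.hom T.hom))
      haveI : Smooth (G ⊗ T).hom := inferInstanceAs (Smooth (Limits.pullback.fst G.hom T.hom ≫ G.hom))
      haveI : IsReduced (G ⊗ T).left := Groth.Agent.Lib.GrpSch.isReduced_of_smooth_field (G ⊗ T).hom
      refine ext_points fun p => ?_
      rw [map_mul, ← ev_comp, ← ev_comp, ← ev_comp, show p = lift (p ≫ fst G T) (p ≫ snd G T) from by simp,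
        lift_whiskerLeft_assoc, lift_fst, lift_snd, ← Hom.mul_def, h.2, mul_comm]
  obtain ⟨a, ha0, ha⟩ := hω
  obtain ⟨b, hb0, hb⟩ := hω'
  have hf' : f ∈ wspace u t iB fun z => ev z (Red.gmFn ω) * ev z (Red.gmFn ω') := by
    have h := (key f _).mp hf
    simpa only [map_mul] using h
  have hmem := mul_wspace hG hB hU hT _ _ ((key a _).mp ha) ha0 ((key b _).mp hb) hb0 hf'
  obtain ⟨m, hm, hfm⟩ := Submodule.mem_span_finite_of_mem_span hmem
  obtain ⟨c, -, hc⟩ := Submodule.mem_span_finset.mp hfm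
  choose p hp q hq hpq using fun h : m => hm h.2
  let P' : Γ(G.left, ⊤) → Γ(G.left, ⊤) := fun q₀ => ∑ h ∈ Finset.univ.filter (fun h : m => q h = q₀), c h • p h
  refine ⟨(Finset.univ.image q).image fun q₀ => (P' q₀, q₀), fun r hr => ?_, ?_⟩
  · obtain ⟨q₀, hq₀, rfl⟩ := Finset.mem_image.mp hr
    obtain ⟨h, -, rfl⟩ := Finset.mem_image.mp hq₀
    exact ⟨(key _ _).mpr (Submodule.sum_mem _ fun i _ => Submodule.smul_mem _ _ (hp i)), (key _ _).mpr (hq h)⟩
  · rw [Finset.sum_image (fun x _ y _ h => congrArg Prod.snd h), ← hc, ← Finset.sum_coe_sort]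
    show _ = ∑ q₀ ∈ Finset.univ.image q, P' q₀ * q₀
    rw [← Finset.sum_fiberwise_of_maps_to (t := Finset.univ.image q) (g := q)
      (fun h _ => Finset.mem_image_of_mem _ (Finset.mem_univ h))]
    refine Finset.sum_congr rfl fun q₀ _ => ?_
    rw [Finset.sum_mul]
    exact Finset.sum_congr rfl fun h hh => by rw [← (Finset.mem_filter.mp hh).2, smul_mul_assoc, ← hpq h]

end Groth.Agent.S12438
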