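import Groth.Statements.S12439
import Groth.Agent.H19.NoetherInt
import Groth.Agent.Lib.Dim.Basic
import Mathlib.RingTheory.IntegralClosure.GoingDown
import Mathlib.RingTheory.Polynomial.RationalRoot

set_option autoImplicit false
universe u
open Variety

namespace Groth.Agent.S12439

open MvPolynomial Groth.Agent.Lib

section
variable (k : Type u) [Field k]

/-- The ideal of the first `m` variables. -/
noncomputable def J (d m : ℕ) : Ideal (MvPolynomial (Fin d) k) :=
  Ideal.span (MvPolynomial.X '' {l : Fin d | (l : ℕ) < m})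

/-- Killing the first variable. -/
noncomputable def π (d : ℕ) : MvPolynomial (Fin (d + 1)) k →ₐ[k] MvPolynomial (Fin d) k :=
  aeval (Fin.cases 0 X)

/-- Shifting the variables. -/
noncomputable def sh (d : ℕ) : MvPolynomial (Fin d) k →ₐ[k] MvPolynomial (Fin (d + 1)) k :=
  rename Fin.succ

@[simp] theorem π_X_zero (d : ℕ) : π k d (X 0) = 0 := by simp [π]
@[simp] theorem π_X_succ (d : ℕ) (j : Fin d) : π k d (X j.succ) = X j := by simp [π]
@[simp] theorem sh_X (d : ℕ) (j : Fin d) : sh k d (X j) = X j.succ := by simp [sh]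

theorem π_sh (d : ℕ) : (π k d).comp (sh k d) = AlgHom.id k _ :=
  algHom_ext fun j => by simp

theorem π_surjective (d : ℕ) : Function.Surjective (π k d) := fun x =>
  ⟨sh k d x, AlgHom.congr_fun (π_sh k d) x⟩

theorem sub_mem_span (d : ℕ) (x : MvPolynomial (Fin (d + 1)) k) :
    x - sh k d (π k d x) ∈ Ideal.span {(X 0 : MvPolynomial (Fin (d + 1)) k)} := by
  rw [← Ideal.Quotient.eq]
  revert x
  refine fun x => AlgHom.congr_fun (φ₁ := Ideal.Quotient.mkₐ k _)
    (φ₂ := (Ideal.Quotient.mkₐ k (Ideal.span {(X 0 : MvPolynomial (Fin (d + 1)) k)})).comp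
      ((sh k d).comp (π k d))) (algHom_ext fun j => ?_) x
  cases j using Fin.cases with
  | zero =>
    simp only [AlgHom.comp_apply, π_X_zero, map_zero]
    exact Ideal.Quotient.eq_zero_iff_mem.mpr (Ideal.mem_span_singleton_self _)
  | succ j => simp only [AlgHom.comp_apply, π_X_succ, sh_X]

theorem comap_π_J (d m : ℕ) : (J k d m).comap (π k d) = J k (d + 1) (m + 1) := by
  refine le_antisymm (fun x hx => ?_) ?_
  · have h0 : (X 0 : MvPolynomial (Fin (d + 1)) k) ∈ J k (d + 1) (m + 1) :=
      Ideal.subset_span ⟨0, Nat.succ_pos m, rfl⟩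
    have h1 : (J k d m).map (sh k d) ≤ J k (d + 1) (m + 1) := by
      rw [J, Ideal.map_span, Ideal.span_le]
      rintro _ ⟨_, ⟨l, hl, rfl⟩, rfl⟩
      rw [sh_X]
      exact Ideal.subset_span ⟨l.succ, Nat.succ_lt_succ hl, rfl⟩
    have h2 := Ideal.add_mem _ ((Ideal.span_singleton_le_iff_mem _).mpr h0 (sub_mem_span k d x))
      (h1 (Ideal.mem_map_of_mem _ (show π k d x ∈ J k d m from hx)))
    rwa [sub_add_cancel] at h2
  · rw [J, Ideal.span_le]
    rintro _ ⟨l, hl, rfl⟩
    show π k d (X l) ∈ J k d m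
    cases l using Fin.cases with
    | zero => rw [π_X_zero]; exact (J k d m).zero_mem
    | succ j =>
      rw [π_X_succ]
      refine Ideal.subset_span ⟨j, ?_, rfl⟩
      have : (j.succ : ℕ) < m + 1 := hl
      simpa using this

theorem J_zero (d : ℕ) : J k d 0 = ⊥ := by
  simp [J]

theorem J_facts : ∀ d m : ℕ, ∃ _ : (J k d m).IsPrime,
    IsIntegrallyClosed (MvPolynomial (Fin d) k ⧸ J k d m)
  | 0, m => by
    have h : J k 0 m = ⊥ := by
      rw [J, Ideal.span_eq_bot]
      rintro _ ⟨l, -, rfl⟩
      exact l.elim0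
    rw [h]
    exact ⟨Ideal.isPrime_bot, .of_equiv (AlgEquiv.quotientBot k _).toRingEquiv.symm⟩
  | d + 1, 0 => by
    rw [J_zero]
    exact ⟨Ideal.isPrime_bot, .of_equiv (AlgEquiv.quotientBot k _).toRingEquiv.symm⟩
  | d + 1, m + 1 => by
    obtain ⟨hp, hc⟩ := J_facts d m
    rw [← comap_π_J]
    refine ⟨Ideal.IsPrime.comap _, ?_⟩
    have hbij : Function.Bijective (Ideal.quotientMap (J k d m) (π k d).toRingHom le_rfl) :=
      ⟨Ideal.quotientMap_injective' le_rfl,
        Ideal.quotientMap_surjective (π_surjective k d)⟩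
    exact .of_equiv (RingEquiv.ofBijective _ hbij).symm

instance J_isPrime (d m : ℕ) : (J k d m).IsPrime := (J_facts k d m).1

theorem J_mono (d : ℕ) {m n : ℕ} (h : m ≤ n) : J k d m ≤ J k d n :=
  Ideal.span_mono (Set.image_mono fun _ hl => lt_of_lt_of_le hl h)

theorem J_le_imp (d : ℕ) {m n : ℕ} (hn : n ≤ d) (h : J k d n ≤ J k d m) : n ≤ m := by
  by_contra hlt
  rw [not_le] at hlt
  let e : MvPolynomial (Fin d) k →ₐ[k] k := aeval fun l => if (l : ℕ) < m then 0 else 1
  have hle : J k d m ≤ RingHom.ker e := by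
    rw [J, Ideal.span_le]
    rintro _ ⟨l, hl, rfl⟩
    show e (X l) = 0
    rw [aeval_X, if_pos]
    exact hl
  have hmem : (X ⟨m, by omega⟩ : MvPolynomial (Fin d) k) ∈ RingHom.ker e :=
    hle (h (Ideal.subset_span ⟨⟨m, by omega⟩, hlt, rfl⟩))
  rw [RingHom.mem_ker, aeval_X, if_neg (by simp)] at hmem
  exact one_ne_zero hmem

/-- Contraction along a finite map preserves the dimension of the quotient. -/
theorem dim_comap {d : ℕ} {A : Type u} [CommRing A] [Algebra k A]
    (φ : MvPolynomial (Fin d) k →ₐ[k] A) (hφ : φ.toRingHom.Finite) (q : Ideal A) :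
    ringKrullDim (MvPolynomial (Fin d) k ⧸ q.comap φ) = ringKrullDim (A ⧸ q) := by
  let ψ : (MvPolynomial (Fin d) k ⧸ q.comap φ) →+* A ⧸ q :=
    Ideal.quotientMap q φ.toRingHom (le_refl (q.comap φ.toRingHom))
  letI := ψ.toAlgebra
  haveI : FaithfulSMul (MvPolynomial (Fin d) k ⧸ q.comap φ) (A ⧸ q) :=
    (faithfulSMul_iff_algebraMap_injective _ _).mpr (Ideal.quotientMap_injective' le_rfl)
  haveI : Module.Finite (MvPolynomial (Fin d) k ⧸ q.comap φ) (A ⧸ q) := by
    have h1 : (ψ.comp (Ideal.Quotient.mk _)).Finite := by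
      rw [Ideal.quotientMap_comp_mk]
      exact RingHom.Finite.comp (RingHom.Finite.of_surjective _ Ideal.Quotient.mk_surjective) hφ
    exact RingHom.finite_algebraMap.mp (RingHom.Finite.of_comp_finite h1)
  exact (Dim.Integral.ringKrullDim_eq_of_isIntegral (R := MvPolynomial (Fin d) k ⧸ q.comap φ)).symm

theorem injective_of_finite {d : ℕ} {A : Type u} [CommRing A] [IsDomain A] [Algebra k A]
    (φ : MvPolynomial (Fin d) k →ₐ[k] A) (hφ : φ.toRingHom.Finite)
    (hd : ringKrullDim A = (d : WithBot ℕ∞)) : Function.Injective φ := by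
  rw [injective_iff_map_eq_zero]
  intro x hx
  by_contra hne
  have h := dim_comap k φ hφ (⊥ : Ideal A)
  rw [ringKrullDim_eq_of_ringEquiv (AlgEquiv.quotientBot k A).toRingEquiv, hd,
    Dim.Basic.ringKrullDim_quotient_prime k] at h
  have hlt := Dim.Basic.dimQ_lt_of_lt k (A := MvPolynomial (Fin d) k) (P := (⊥ : Ideal _))
    (Q := (⊥ : Ideal A).comap φ) (bot_lt_iff_ne_bot.mpr fun h0 => hne (by
      have : x ∈ (⊥ : Ideal A).comap φ := hx
      rwa [h0, Ideal.mem_bot] at this))
  rw [Dim.Basic.dimQ_bot] at hlt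
  have h2 := Dim.Basic.ringKrullDim_eq_trdegNat k (MvPolynomial (Fin d) k)
  rw [Dim.Basic.ringKrullDim_mvPolynomial, Nat.card_eq_fintype_card, Fintype.card_fin] at h2
  have h3 : Dim.Basic.dimQ k ((⊥ : Ideal A).comap φ) = d := by exact_mod_cast h
  have h4 : d = Dim.Basic.trdegNat k (MvPolynomial (Fin d) k) := by exact_mod_cast h2
  omega

open H19.NoetherInt in
/-- Nagata: a nonconstant polynomial is the first variable of some finite change of variables. -/
theorem exists_finite_first {d : ℕ} (f : MvPolynomial (Fin (d + 1)) k) (hf : f ≠ 0)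
    (hu : ¬ IsUnit f) :
    ∃ ψ : MvPolynomial (Fin (d + 1)) k →ₐ[k] MvPolynomial (Fin (d + 1)) k,
      ψ.toRingHom.Finite ∧ ψ (X 0) = f := by
  let σ : MvPolynomial (Fin (d + 1)) k ≃ₐ[k] Polynomial (MvPolynomial (Fin d) k) :=
    (T f).trans (finSuccEquiv k d)
  let ψ : MvPolynomial (Fin (d + 1)) k →ₐ[k] MvPolynomial (Fin (d + 1)) k :=
    aeval (Fin.cases f fun j => σ.symm (Polynomial.C (X j)))
  refine ⟨ψ, ?_, by simp [ψ]⟩
  set g := σ f with hg
  let χ : MvPolynomial (Fin (d + 1)) k →ₐ[k] Polynomial (MvPolynomial (Fin d) k) :=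
    σ.toAlgHom.comp ψ
  have hC : ∀ c : MvPolynomial (Fin d) k, χ (sh k d c) = Polynomial.C c := by
    intro c
    have : χ.comp (sh k d) = IsScalarTower.toAlgHom k (MvPolynomial (Fin d) k) _ := by
      refine algHom_ext fun j => ?_
      simp only [AlgHom.comp_apply, sh_X, χ, ψ, aeval_X, Fin.cases_succ]
      exact (σ.apply_symm_apply _).trans rfl
    exact AlgHom.congr_fun this c
  have h0 : χ (X 0) = g := by simp [χ, ψ, hg]
  have hlead : IsUnit g.leadingCoeff := T_leadingcoeff_isUnit f hf
  have hdeg : 0 < g.natDegree := by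
    by_contra h
    have hgC := Polynomial.eq_C_of_natDegree_eq_zero (Nat.eq_zero_of_not_pos h)
    rw [hgC, Polynomial.leadingCoeff_C] at hlead
    have : IsUnit g := by rw [hgC]; exact hlead.map Polynomial.C
    exact hu ((MulEquiv.isUnit_map σ).mp this)
  -- the variable is integral
  letI := χ.toRingHom.toAlgebra
  have hX : IsIntegral (MvPolynomial (Fin (d + 1)) k) (Polynomial.X : Polynomial (MvPolynomial (Fin d) k)) := by
    obtain ⟨w, hw⟩ := hlead
    let P : Polynomial (MvPolynomial (Fin (d + 1)) k) :=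
      Polynomial.C (sh k d ((w⁻¹ : (MvPolynomial (Fin d) k)ˣ) : MvPolynomial (Fin d) k)) *
        (g.map (sh k d).toRingHom - Polynomial.C (X 0))
    refine ⟨P, ?_, ?_⟩
    · refine Polynomial.monic_C_mul_of_mul_leadingCoeff_eq_one ?_
      have hshinj : Function.Injective (sh k d).toRingHom :=
        rename_injective _ (Fin.succ_injective d)
      rw [Polynomial.leadingCoeff_sub_of_degree_lt, Polynomial.leadingCoeff_map_of_injective
        hshinj, ← hw]
      · show sh k d ↑w⁻¹ * sh k d ↑w = 1
        rw [← map_mul, Units.inv_mul, map_one]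
      · rw [Polynomial.degree_map_eq_of_injective hshinj]
        refine lt_of_le_of_lt Polynomial.degree_C_le ?_
        rw [← Polynomial.natDegree_pos_iff_degree_pos]
        exact hdeg
    · show Polynomial.eval₂ χ.toRingHom Polynomial.X P = 0
      rw [Polynomial.eval₂_mul, Polynomial.eval₂_C, Polynomial.eval₂_sub, Polynomial.eval₂_C,
        Polynomial.eval₂_map]
      have hcomp : χ.toRingHom.comp (sh k d).toRingHom = Polynomial.C := RingHom.ext hC
      rw [hcomp, Polynomial.eval₂_C_X, show χ.toRingHom (X 0) = g from h0, sub_self, mul_zero]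
  have hint : χ.toRingHom.IsIntegral := by
    intro z
    show IsIntegral (MvPolynomial (Fin (d + 1)) k) z
    induction z using Polynomial.induction_on with
    | C c => rw [← hC]; exact isIntegral_algebraMap
    | add p q hp hq => exact hp.add hq
    | monomial n c _ => rw [← hC]; exact isIntegral_algebraMap.mul (hX.pow _)
  have hψ : ψ.toRingHom = σ.symm.toAlgHom.toRingHom.comp χ.toRingHom :=
    RingHom.ext fun x => (σ.symm_apply_apply _).symm
  refine RingHom.IsIntegral.to_finite ?_ (RingHom.FiniteType.of_comp_finiteType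
    (f := (C : k →+* MvPolynomial (Fin (d + 1)) k)) ?_)
  · rw [hψ]
    exact RingHom.IsIntegral.trans _ _ hint (RingHom.isIntegral_of_surjective _ σ.symm.surjective)
  · have : ψ.toRingHom.comp C = algebraMap k _ := RingHom.ext fun c => ψ.commutes c
    rw [this]
    exact RingHom.finiteType_algebraMap.mpr inferInstance

/-- Noether normalisation of a polynomial ring adapted to a chain of primes. -/
theorem exists_adapted : ∀ (d : ℕ) (ι : Type) (p : ι → Ideal (MvPolynomial (Fin d) k))
    (_hp : ∀ i, (p i).IsPrime) (_hch : ∀ i j, p i ≤ p j ∨ p j ≤ p i) (h : ι → ℕ)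
    (_hh : ∀ i, h i ≤ d)
    (_hdim : ∀ i, ringKrullDim (MvPolynomial (Fin d) k ⧸ p i) = ((d - h i : ℕ) : WithBot ℕ∞)),
    ∃ φ : MvPolynomial (Fin d) k →ₐ[k] MvPolynomial (Fin d) k, φ.toRingHom.Finite ∧
      ∀ i, (p i).comap φ = J k d (h i) := by
  intro d
  induction d with
  | zero =>
    intro ι p hp hch h hh hdim
    refine ⟨AlgHom.id k _, RingHom.Finite.id _, fun i => ?_⟩
    rw [Nat.le_zero.mp (hh i), J_zero]
    refine eq_bot_iff.mpr fun x hx => ?_
    rw [Ideal.mem_bot]
    by_contra hne
    rw [eq_C_of_isEmpty x] at hx hne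
    exact (hp i).ne_top (Ideal.eq_top_of_isUnit_mem _ hx
      ((isUnit_iff_ne_zero.mpr fun h0 => hne (by rw [h0, map_zero])).map C))
  | succ e ih =>
    intro ι p hp hch h hh hdim
    haveI := hp
    have hD : ∀ i, Dim.Basic.dimQ k (p i) = e + 1 - h i := fun i => by
      have := hdim i
      rw [Dim.Basic.ringKrullDim_quotient_prime k] at this
      exact_mod_cast this
    have hbot : Dim.Basic.dimQ k (⊥ : Ideal (MvPolynomial (Fin (e + 1)) k)) = e + 1 := by
      rw [Dim.Basic.dimQ_bot]
      have h2 := Dim.Basic.ringKrullDim_eq_trdegNat k (MvPolynomial (Fin (e + 1)) k)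
      rw [Dim.Basic.ringKrullDim_mvPolynomial, Nat.card_eq_fintype_card, Fintype.card_fin] at h2
      exact_mod_cast h2.symm
    have hzero : ∀ i, h i = 0 → p i = ⊥ := fun i hi => by
      by_contra hne
      have := Dim.Basic.dimQ_lt_of_lt k (P := (⊥ : Ideal _)) (Q := p i) (bot_lt_iff_ne_bot.mpr hne)
      rw [hbot, hD, hi] at this
      omega
    by_cases hpos : ∃ i, 0 < h i
    swap
    · push Not at hpos
      refine ⟨AlgHom.id k _, RingHom.Finite.id _, fun i => ?_⟩
      rw [Nat.le_zero.mp (hpos i), J_zero, hzero i (Nat.le_zero.mp (hpos i))]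
      exact eq_bot_iff.mpr fun x hx => hx
    classical
    have hex : ∃ n, ∃ i, 0 < h i ∧ h i = n := by
      obtain ⟨i, hi⟩ := hpos
      exact ⟨h i, i, hi, rfl⟩
    obtain ⟨i₀, hi₀, hi₀n⟩ := Nat.find_spec hex
    have hmin : ∀ i, 0 < h i → h i₀ ≤ h i := fun i hi => by
      rw [hi₀n]; exact Nat.find_min' hex ⟨i, hi, rfl⟩
    have hne : p i₀ ≠ ⊥ := fun h0 => by
      have := hD i₀
      rw [h0, hbot] at this
      have := hh i₀
      omega
    obtain ⟨f, hfp, hf⟩ := Submodule.exists_mem_ne_zero_of_ne_bot hne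
    obtain ⟨ψ, hψ, hψ0⟩ := exists_finite_first k f hf fun hu =>
      (hp i₀).ne_top (Ideal.eq_top_of_isUnit_mem _ hfp hu)
    have hfmem : ∀ i, 0 < h i → f ∈ p i := fun i hi => by
      rcases hch i₀ i with hle | hle
      · exact hle hfp
      · rcases hle.eq_or_lt with heq | hlt
        · exact heq.symm ▸ hfp
        · have := Dim.Basic.dimQ_lt_of_lt k hlt
          rw [hD, hD] at this
          have := hmin i hi
          omega
    let ι' := {i : ι // 0 < h i}
    have hker : ∀ i : ι', RingHom.ker (π k e) ≤ (p i.1).comap ψ := fun i x hx => by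
      have h1 := sub_mem_span k e x
      rw [show π k e x = 0 from hx, map_zero, sub_zero] at h1
      refine (Ideal.span_singleton_le_iff_mem _).mpr ?_ h1
      show ψ (X 0) ∈ p i.1
      rw [hψ0]
      exact hfmem _ i.2
    let p' : ι' → Ideal (MvPolynomial (Fin e) k) := fun i => ((p i.1).comap ψ).map (π k e)
    have hp'c : ∀ i, (p' i).comap (π k e) = (p i.1).comap ψ := fun i =>
      (Ideal.comap_map_of_surjective' _ (π_surjective k e) _).trans (sup_eq_left.mpr (hker i))
    have hp' : ∀ i, (p' i).IsPrime := fun i =>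
      Ideal.map_isPrime_of_surjective (π_surjective k e) (hker i)
    obtain ⟨φ', hφ', hφ'J⟩ := ih ι' p' hp' (fun i j => by
      rcases hch i.1 j.1 with hle | hle
      · exact Or.inl (Ideal.map_mono (Ideal.comap_mono hle))
      · exact Or.inr (Ideal.map_mono (Ideal.comap_mono hle)))
      (fun i => h i.1 - 1) (fun i => by have := hh i.1; omega) (fun i => by
        have hπfin : (π k e).toRingHom.Finite :=
          RingHom.Finite.of_surjective _ (π_surjective k e)
        rw [← dim_comap k (π k e) hπfin (p' i), hp'c, dim_comap k ψ hψ, hdim]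
        have := i.2
        exact_mod_cast (by omega : e + 1 - h i.1 = e - (h i.1 - 1)))
    let ε : MvPolynomial (Fin (e + 1)) k →ₐ[k] MvPolynomial (Fin (e + 1)) k :=
      aeval (Fin.cases (X 0) fun j => sh k e (φ' (X j)))
    have hεs : ∀ c, ε (sh k e c) = sh k e (φ' c) := fun c =>
      AlgHom.congr_fun (φ₁ := ε.comp (sh k e)) (φ₂ := (sh k e).comp φ')
        (algHom_ext fun j => by simp [ε]) c
    have hπε : (π k e).comp ε = φ'.comp (π k e) := algHom_ext fun j => by
      cases j using Fin.cases with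
      | zero => simp [ε]
      | succ j =>
        simp only [AlgHom.comp_apply, ε, aeval_X, Fin.cases_succ, π_X_succ]
        exact AlgHom.congr_fun (π_sh k e) _
    have hεfin : ε.toRingHom.Finite := by
      refine RingHom.IsIntegral.to_finite ?_ (RingHom.FiniteType.of_comp_finiteType
        (f := (C : k →+* MvPolynomial (Fin (e + 1)) k)) ?_)
      · letI := ε.toRingHom.toAlgebra
        intro z
        show IsIntegral (MvPolynomial (Fin (e + 1)) k) z
        induction z using MvPolynomial.induction_on with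
        | C c =>
          rw [show (C c : MvPolynomial (Fin (e + 1)) k) = algebraMap (MvPolynomial (Fin (e + 1)) k) _ (C c)
            from (ε.commutes c).symm]
          exact isIntegral_algebraMap
        | add p q hp hq => exact hp.add hq
        | mul_X p j hp =>
          refine hp.mul ?_
          cases j using Fin.cases with
          | zero =>
            rw [show (X 0 : MvPolynomial (Fin (e + 1)) k) = algebraMap (MvPolynomial (Fin (e + 1)) k) _ (X 0)
              from (by simp [ε, RingHom.algebraMap_toAlgebra])]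
            exact isIntegral_algebraMap
          | succ j =>
            obtain ⟨P, hP, hPx⟩ := hφ'.to_isIntegral (X j)
            refine ⟨P.map (sh k e).toRingHom, hP.map _, ?_⟩
            show Polynomial.eval₂ ε.toRingHom _ _ = 0
            rw [Polynomial.eval₂_map, show ε.toRingHom.comp (sh k e).toRingHom =
              (sh k e).toRingHom.comp φ'.toRingHom from RingHom.ext hεs, ← sh_X,
              show (sh k e) (X j) = (sh k e).toRingHom (X j) from rfl, ← Polynomial.hom_eval₂,
              hPx, map_zero]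
      · have : ε.toRingHom.comp C = algebraMap k _ := RingHom.ext fun c => ε.commutes c
        rw [this]
        exact RingHom.finiteType_algebraMap.mpr inferInstance
    refine ⟨ψ.comp ε, RingHom.Finite.comp hψ hεfin, fun i => ?_⟩
    have hfin : (ψ.comp ε).toRingHom.Finite := RingHom.Finite.comp hψ hεfin
    rcases Nat.eq_zero_or_pos (h i) with hi | hi
    · rw [hzero i hi, hi, J_zero, eq_bot_iff]
      intro x hx
      rw [Ideal.mem_bot]
      refine injective_of_finite k (ψ.comp ε) hfin ?_ (hx.trans (map_zero (ψ.comp ε)).symm)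
      rw [Dim.Basic.ringKrullDim_mvPolynomial, Nat.card_eq_fintype_card, Fintype.card_fin]
    · have h1 : (p i).comap (ψ.comp ε) = ((p' ⟨i, hi⟩).comap (π k e)).comap ε := by
        rw [hp'c]; rfl
      rw [h1]
      have h2 : ((p' ⟨i, hi⟩).comap (π k e)).comap ε = (p' ⟨i, hi⟩).comap ((π k e).comp ε) := rfl
      rw [h2, hπε]
      show ((p' ⟨i, hi⟩).comap φ').comap (π k e) = _
      rw [hφ'J, comap_π_J]
      congr 1
      show h i - 1 + 1 = h i
      omega

theorem exists_between {d : ℕ} {A : Type u} [CommRing A] [Algebra k A]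
    (φ : MvPolynomial (Fin d) k →ₐ[k] A) (hfin : φ.toRingHom.Finite) (q q' : Ideal A) [q.IsPrime]
    [q'.IsPrime] (hle : q ≤ q') {m j n : ℕ} (hmj : m ≤ j) (hjn : j ≤ n)
    (hq : q.comap φ = J k d m) (hq' : q'.comap φ = J k d n) :
    ∃ Q : Ideal A, Q.IsPrime ∧ q ≤ Q ∧ Q ≤ q' ∧ Q.comap φ = J k d j := by
  let R := MvPolynomial (Fin d) k ⧸ J k d m
  haveI : IsIntegrallyClosed R := (J_facts k d m).2
  let ψ : R →+* A ⧸ q := Ideal.quotientMap q φ.toRingHom hq.ge
  letI := ψ.toAlgebra
  haveI : FaithfulSMul R (A ⧸ q) :=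
    (faithfulSMul_iff_algebraMap_injective _ _).mpr (Ideal.quotientMap_injective' hq.le)
  haveI : Algebra.IsIntegral R (A ⧸ q) := ⟨fun z => by
    have h1 : (ψ.comp (Ideal.Quotient.mk _)).IsIntegral := by
      rw [Ideal.quotientMap_comp_mk]
      exact RingHom.IsIntegral.trans _ _ hfin.to_isIntegral
        (RingHom.isIntegral_of_surjective _ Ideal.Quotient.mk_surjective)
    exact RingHom.IsIntegral.tower_top _ _ h1 z⟩
  have hker : ∀ {i : ℕ}, m ≤ i → RingHom.ker (Ideal.Quotient.mk (J k d m)) ≤ J k d i := fun hi => by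
    rw [Ideal.mk_ker]; exact J_mono k d hi
  haveI := Ideal.map_isPrime_of_surjective (f := Ideal.Quotient.mk (J k d m))
    Ideal.Quotient.mk_surjective (hker hmj)
  haveI := Ideal.map_isPrime_of_surjective (f := Ideal.Quotient.mk (J k d m))
    Ideal.Quotient.mk_surjective (hker (hmj.trans hjn))
  have hqker : RingHom.ker (Ideal.Quotient.mk q) ≤ q' := by rw [Ideal.mk_ker]; exact hle
  haveI := Ideal.map_isPrime_of_surjective (f := Ideal.Quotient.mk q) Ideal.Quotient.mk_surjective hqker
  haveI : (q'.map (Ideal.Quotient.mk q)).LiesOver ((J k d n).map (Ideal.Quotient.mk (J k d m))) := ⟨by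
    refine Ideal.comap_injective_of_surjective (Ideal.Quotient.mk (J k d m))
      Ideal.Quotient.mk_surjective ?_
    rw [Ideal.comap_map_of_surjective' _ Ideal.Quotient.mk_surjective,
      sup_eq_left.mpr (hker (hmj.trans hjn)), Ideal.under_def, ← hq']
    ext x
    show φ x ∈ q' ↔ Ideal.Quotient.mk q (φ x) ∈ q'.map (Ideal.Quotient.mk q)
    rw [← Ideal.mem_comap, ← Ideal.mem_comap, ← Ideal.mem_comap,
      Ideal.comap_map_of_surjective' _ Ideal.Quotient.mk_surjective, sup_eq_left.mpr hqker]⟩
  obtain ⟨P, hPle, hP, hPover⟩ := Ideal.exists_ideal_le_liesOver_of_le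
    (p := (J k d j).map (Ideal.Quotient.mk (J k d m))) (q'.map (Ideal.Quotient.mk q))
    (Ideal.map_mono (J_mono k d hjn))
  refine ⟨P.comap (Ideal.Quotient.mk q), inferInstance, fun x hx => ?_, fun x hx => ?_, ?_⟩
  · show Ideal.Quotient.mk q x ∈ P
    rw [Ideal.Quotient.eq_zero_iff_mem.mpr hx]
    exact P.zero_mem
  · have := hPle hx
    rwa [← Ideal.mem_comap, Ideal.comap_map_of_surjective' _ Ideal.Quotient.mk_surjective,
      sup_eq_left.mpr hqker] at this
  · have h1 := congrArg (Ideal.comap (Ideal.Quotient.mk (J k d m))) hPover.over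
    rw [Ideal.comap_map_of_surjective' _ Ideal.Quotient.mk_surjective,
      sup_eq_left.mpr (hker hmj)] at h1
    rw [h1]
    ext x
    rfl

end

/-- Let k be a field, A an integral domain which is a finitely generated k-algebra of Krull dimension d,
and q_{h(1)} ⊊ … ⊊ q_{h(r)} a chain of prime ideals with dim A/q_{h(i)} = d − h(i), where 0 ≤ h(i) ≤
d. Then (1) there is a finite injective k-algebra homomorphism φ : k[T_1, …, T_d] → A with
φ⁻¹(q_{h(i)}) = (T_1, …, T_{h(i)}) for every i (variables indexed from 0 below: the ideal generated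
by the T_l with l < h(i)); and (2) for every such φ the given chain extends to a chain of primes q_0
⊊ … ⊊ q_d of A with φ⁻¹(q_j) = (T_1, …, T_j) for all j ≤ d. -/
theorem result (k A : Type u) [Field k]
    [CommRing A] [IsDomain A] [Algebra k A] [Algebra.FiniteType k A] (d : ℕ) (hd : ringKrullDim A = (d : WithBot ℕ∞))
    (r : ℕ) (q : Fin r → PrimeSpectrum A) (hq : StrictMono q) (h : Fin r → ℕ) (hh : ∀ i, h i ≤ d)
    (hdim : ∀ i, ringKrullDim (A ⧸ (q i).asIdeal) = ((d - h i : ℕ) : WithBot ℕ∞)) :
    (∃ φ : MvPolynomial (Fin d) k →ₐ[k] A, φ.toRingHom.Finite ∧ Function.Injective φ ∧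
      ∀ i, (q i).asIdeal.comap φ = Ideal.span (MvPolynomial.X '' {l : Fin d | (l : ℕ) < h i})) ∧
    (∀ φ : MvPolynomial (Fin d) k →ₐ[k] A, φ.toRingHom.Finite → Function.Injective φ →
      (∀ i, (q i).asIdeal.comap φ = Ideal.span (MvPolynomial.X '' {l : Fin d | (l : ℕ) < h i})) →
      ∃ Q : ℕ → PrimeSpectrum A,
        (∀ j, j ≤ d → (Q j).asIdeal.comap φ = Ideal.span (MvPolynomial.X '' {l : Fin d | (l : ℕ) < j})) ∧
        (∀ j, j < d → Q j < Q (j + 1)) ∧ (∀ i, Q (h i) = q i)) := by
  have hJ : ∀ i, Ideal.span (MvPolynomial.X '' {l : Fin d | (l : ℕ) < h i}) = J k d (h i) :=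
    fun i => rfl
  simp only [hJ]
  refine ⟨?_, fun φ hfin hinj hφ => ?_⟩
  · obtain ⟨s, g, hg, hgfin, -, hs⟩ := Dim.Basic.exists_noether k A
    obtain rfl : s = d := by
      rw [hd] at hs
      exact_mod_cast hs.symm
    obtain ⟨ψ, hψ, hψJ⟩ := exists_adapted k s (Fin r) (fun i => (q i).asIdeal.comap g)
      (fun i => inferInstance) (fun i j => by
        rcases le_total i j with hij | hij
        · exact Or.inl (Ideal.comap_mono (hq.monotone hij))
        · exact Or.inr (Ideal.comap_mono (hq.monotone hij)))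
      h hh (fun i => by rw [dim_comap k g hgfin, hdim])
    refine ⟨g.comp ψ, RingHom.Finite.comp hgfin hψ, hg.comp
      (injective_of_finite k ψ hψ (by
        rw [Dim.Basic.ringKrullDim_mvPolynomial, Nat.card_eq_fintype_card, Fintype.card_fin])),
      fun i => hψJ i⟩
  · classical
    letI := φ.toRingHom.toAlgebra
    haveI : Algebra.IsIntegral (MvPolynomial (Fin d) k) A := ⟨hfin.to_isIntegral⟩
    have hlt : ∀ i j, i < j → h i < h j := fun i j hij => by
      have h1 : (q i).asIdeal.comap φ < (q j).asIdeal.comap φ :=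
        Ideal.IsIntegral.comap_lt_comap (R := MvPolynomial (Fin d) k) (hq hij)
      rw [hφ, hφ] at h1
      by_contra hle
      exact h1.not_ge (J_mono k d (not_lt.mp hle))
    have hbot : ∀ i, h i = 0 → (q i).asIdeal = ⊥ := fun i hi => by
      refine Ideal.eq_bot_of_comap_eq_bot (R := MvPolynomial (Fin d) k) ?_
      rw [show (q i).asIdeal.comap (algebraMap (MvPolynomial (Fin d) k) A) = (q i).asIdeal.comap φ from rfl,
        hφ, hi, J_zero]
    -- build the chain from below
    have main : ∀ j, j ≤ d → ∃ Q : ℕ → PrimeSpectrum A,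
        (∀ l, l ≤ j → (Q l).asIdeal.comap φ = J k d l) ∧
        (∀ l, l < j → Q l < Q (l + 1)) ∧ (∀ i, h i ≤ j → Q (h i) = q i) ∧
        (∀ i, j ≤ h i → Q j ≤ q i) := by
      intro j
      induction j with
      | zero =>
        intro _
        refine ⟨fun _ => ⟨⊥, Ideal.isPrime_bot⟩, fun l hl => ?_, fun l hl => absurd hl (by omega),
          fun i hi => PrimeSpectrum.ext (hbot i (Nat.le_zero.mp hi)).symm,
          fun i _ => show (⊥ : Ideal A) ≤ _ from bot_le⟩
        rw [Nat.le_zero.mp hl, J_zero, eq_bot_iff]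
        intro x hx
        rw [Ideal.mem_bot]
        exact hinj (hx.trans (map_zero φ).symm)
      | succ j ih =>
        intro hjd
        obtain ⟨Q, hQc, hQlt, hQq, hQle⟩ := ih (by omega)
        suffices ∃ P : PrimeSpectrum A, P.asIdeal.comap φ = J k d (j + 1) ∧ Q j ≤ P ∧
            (∀ i, h i = j + 1 → P = q i) ∧ (∀ i, j + 1 ≤ h i → P ≤ q i) by
          obtain ⟨P, hPc, hQP, hPq, hPle⟩ := this
          refine ⟨Function.update Q (j + 1) P, fun l hl => ?_, fun l hl => ?_, fun i hi => ?_, fun i hi => ?_⟩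
          · rcases Nat.lt_or_eq_of_le hl with hl | rfl
            · rw [Function.update_of_ne (by omega)]
              exact hQc l (by omega)
            · rw [Function.update_self]; exact hPc
          · rw [Function.update_of_ne (show l ≠ j + 1 by omega)]
            rcases Nat.lt_or_eq_of_le (show l ≤ j by omega) with hl' | rfl
            · rw [Function.update_of_ne (by omega)]
              exact hQlt l hl'
            · rw [Function.update_self]
              refine lt_of_le_of_ne hQP fun he => ?_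
              have h1 := hQc l le_rfl
              rw [he, hPc] at h1
              have := J_le_imp k d hjd h1.le
              omega
          · rcases Nat.lt_or_eq_of_le hi with hi | hi
            · rw [Function.update_of_ne (by omega)]
              exact hQq i (by omega)
            · rw [hi, Function.update_self]; exact hPq i hi
          · rw [Function.update_self]; exact hPle i hi
        by_cases hne : ∃ n, ∃ i, j + 1 ≤ h i ∧ h i = n
        · obtain ⟨i₁, hi₁, hi₁n⟩ := Nat.find_spec hne
          have hmin : ∀ i, j + 1 ≤ h i → q i₁ ≤ q i := fun i hi => by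
            refine hq.monotone (le_of_not_gt fun hgt => ?_)
            have := hlt i i₁ hgt
            have := Nat.find_min' hne ⟨i, hi, rfl⟩
            omega
          obtain ⟨P, hP, hP1, hP2, hPc⟩ := exists_between k φ hfin (Q j).asIdeal (q i₁).asIdeal
            (hQle i₁ (by omega)) (Nat.le_succ j) hi₁ (hQc j le_rfl) (hφ i₁)
          by_cases he : h i₁ = j + 1
          · refine ⟨q i₁, by rw [← he]; exact hφ i₁, hQle i₁ (by omega), fun i hi => ?_, hmin⟩
            congr 1
            rcases lt_trichotomy i i₁ with hl | hl | hl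
            · have := hlt _ _ hl; omega
            · exact hl.symm
            · have := hlt _ _ hl; omega
          · refine ⟨⟨P, hP⟩, hPc, hP1, fun i hi => ?_,
              fun i hi => le_trans (show (⟨P, hP⟩ : PrimeSpectrum A) ≤ q i₁ from hP2) (hmin i hi)⟩
            have := Nat.find_min' hne ⟨i, hi.ge, rfl⟩
            omega
        · obtain ⟨P, hP1, hP, hPc⟩ := Ideal.exists_ideal_over_prime_of_isIntegral_of_isPrime
            (J k d (j + 1)) (Q j).asIdeal
            (show (Q j).asIdeal.comap φ ≤ _ from (hQc j le_rfl).le.trans (J_mono k d (Nat.le_succ j)))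
          refine ⟨⟨P, hP⟩, hPc, hP1, fun i hi => absurd ⟨h i, i, hi.ge, rfl⟩ hne,
            fun i hi => absurd ⟨h i, i, hi, rfl⟩ hne⟩
    obtain ⟨Q, hQc, hQlt, hQq, -⟩ := main d le_rfl
    exact ⟨Q, fun j hj => hQc j hj, hQlt, fun i => hQq i (hh i)⟩

end Groth.Agent.S12439
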