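import Groth.Statements.S1244
import Mathlib.AlgebraicGeometry.ZariskisMainTheorem
import Mathlib.AlgebraicGeometry.Morphisms.UniversallyOpen
import Mathlib.AlgebraicGeometry.QuasiAffine

set_option autoImplicit false
universe u
open FlatMor

namespace Groth.Agent.S1244

open AlgebraicGeometry CategoryTheory

theorem quasiAffine_of_mono {T : Scheme.{u}} {A : CommRingCat.{u}} (h : T ⟶ Spec A) [Mono h]
    [LocallyOfFiniteType h] [CompactSpace T] : T.IsQuasiAffine := by
  haveI : QuasiCompact h := (quasiCompact_iff_compactSpace h).mpr ‹CompactSpace T›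
  haveI : LocallyQuasiFinite h := inferInstance
  haveI : IsAffine h.normalization := isAffine_of_isAffineHom h.fromNormalization
  haveI : IsOpenImmersion h.toNormalization := inferInstance
  exact Scheme.IsQuasiAffine.of_isImmersion h.toNormalization

theorem isUnit_of_limit {A : Type u} [CommRing A] {A' : ℕ → Type u} [∀ n, CommRing (A' n)]
    {φ : ∀ n, A' (n + 1) →+* A' n} {π : ∀ n, A →+* A' n}
    (hlim : FlatCA.IsRingLimit A A' φ π) (a : A) (ha : ∀ n, IsUnit (π n a)) : IsUnit a := by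
  obtain ⟨hc, hinj, hex⟩ := hlim
  choose v hv using fun n => (ha n).exists_right_inv
  have hcomp : ∀ n, φ n (v (n + 1)) = v n := fun n => by
    apply (ha n).mul_left_cancel
    rw [hv n]
    have := congrArg (φ n) (hv (n + 1))
    rwa [map_mul, map_one, ← RingHom.comp_apply, hc] at this
  obtain ⟨b, hb⟩ := hex v hcomp
  exact .of_mul_eq_one b (hinj _ _ fun n => by rw [map_mul, hb, hv, map_one])

theorem ker_le_jacobson {A : Type u} [CommRing A] {A' : ℕ → Type u} [∀ n, CommRing (A' n)]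
    {φ : ∀ n, A' (n + 1) →+* A' n} {π : ∀ n, A →+* A' n}
    (hlim : FlatCA.IsRingLimit A A' φ π)
    (hnil : ∀ n, ∀ x ∈ RingHom.ker (φ n), IsNilpotent x) :
    RingHom.ker (π 0) ≤ (⊥ : Ideal A).jacobson := by
  intro a ha
  rw [Ideal.mem_jacobson_bot]
  intro y
  apply isUnit_of_limit hlim
  intro n
  have hn : ∀ n, IsNilpotent (π n (a * y)) := by
    intro n
    induction n with
    | zero => rw [map_mul, RingHom.mem_ker.mp ha, zero_mul]; exact IsNilpotent.zero
    | succ n ih =>
      obtain ⟨k, hk⟩ := ih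
      have hmem : (π (n + 1) (a * y)) ^ k ∈ RingHom.ker (φ n) := by
        rw [RingHom.mem_ker, map_pow, ← RingHom.comp_apply, hlim.1, hk]
      exact .of_pow (hnil n _ hmem)
  rw [map_add, map_one]
  exact (hn n).isUnit_add_one

theorem surjective_pi_zero {A : Type u} [CommRing A] {A' : ℕ → Type u} [∀ n, CommRing (A' n)]
    {φ : ∀ n, A' (n + 1) →+* A' n} {π : ∀ n, A →+* A' n}
    (hlim : FlatCA.IsRingLimit A A' φ π) (hsurj : ∀ n, Function.Surjective (φ n)) :
    Function.Surjective (π 0) := by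
  intro x
  choose s hs using hsurj
  let seq : ∀ n, A' n := fun n => Nat.rec x (fun m xm => s m xm) n
  obtain ⟨a, ha⟩ := hlim.2.2 seq fun n => hs n (seq n)
  exact ⟨a, ha 0⟩

theorem mem_of_isMaximal {A : Type u} [CommRing A] (V : (Spec (.of A)).Opens)
    (h : ∀ x : PrimeSpectrum A, x.asIdeal.IsMaximal → (x : Spec (.of A)) ∈ V) : V = ⊤ := by
  refine top_unique fun x _ => ?_
  obtain ⟨M, hM, hle⟩ := Ideal.exists_le_maximal
    (PrimeSpectrum.asIdeal (R := A) x) (Ideal.IsPrime.ne_top (PrimeSpectrum.isPrime _))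
  have hsp : (x : PrimeSpectrum A) ⤳ ⟨M, hM.isPrime⟩ := (PrimeSpectrum.le_iff_specializes _ _).mp hle
  exact hsp.mem_open V.2 (h _ hM)

open AlgebraicGeometry CategoryTheory in
/-- Let A be the limit of an inverse system of rings (A_n) indexed by the natural numbers whose
transition maps are surjective with locally nilpotent kernels. Let T → Spec A be a monomorphism of
schemes which is locally of finite type. If each Spec A_n → Spec A factors through T, then T → Spec
A is an isomorphism. -/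
theorem result {A : Type u} [CommRing A] (A' : ℕ → Type u) [∀ n, CommRing (A' n)]
    (φ : ∀ n, A' (n + 1) →+* A' n) (π : ∀ n, A →+* A' n) (hlim : FlatCA.IsRingLimit A A' φ π)
    (hsurj : ∀ n, Function.Surjective (φ n)) (hnil : ∀ n, ∀ x ∈ RingHom.ker (φ n), IsNilpotent x)
    {T : Scheme.{u}} (h : T ⟶ Spec (CommRingCat.of A)) [Mono h] [LocallyOfFiniteType h]
    (hsec : ∀ n, ∃ g : Spec (CommRingCat.of (A' n)) ⟶ T, g ≫ h = Spec.map (CommRingCat.ofHom (π n))) :
    IsIso h := by
  let ψ : ∀ n, Spec (CommRingCat.of (A' n)) ⟶ Spec (CommRingCat.of A) :=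
    fun n => Spec.map (CommRingCat.ofHom (π n))
  let p : ∀ n, Spec (CommRingCat.of (A' n)) ⟶ Spec (CommRingCat.of (A' (n + 1))) :=
    fun n => Spec.map (CommRingCat.ofHom (φ n))
  have hψ : ∀ n, p n ≫ ψ (n + 1) = ψ n := fun n => by
    rw [← Spec.map_comp, ← CommRingCat.ofHom_comp, hlim.1]
  choose g hg using hsec
  have hgc : ∀ n, p n ≫ g (n + 1) = g n := fun n => by
    rw [← cancel_mono h, Category.assoc, hg, hg]
    exact hψ n
  have hps : ∀ n, Function.Surjective (p n) := fun n x => by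
    obtain ⟨x⟩ := x
    have hk : RingHom.ker (φ n) ≤ ‹Ideal _› := fun z hz => by
      obtain ⟨k, hk⟩ := hnil n z hz
      exact ‹Ideal.IsPrime _›.mem_of_pow_mem k (by rw [hk]; exact zero_mem _)
    refine ⟨⟨Ideal.map (φ n) ‹_›, Ideal.map_isPrime_of_surjective (hsurj n) hk⟩, ?_⟩
    apply PrimeSpectrum.ext
    exact (Ideal.comap_map_of_surjective' (φ n) (hsurj n) _).trans (sup_eq_left.mpr hk)
  obtain ⟨U, hU, hgU⟩ : ∃ U : T.Opens, IsCompact (U : Set T) ∧ Set.range (g 0) ⊆ (U : Set T) := by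
    choose W hW hxW _ using fun x : T =>
      exists_isAffineOpen_mem_and_subset (U := (⊤ : T.Opens)) (Set.mem_univ x)
    obtain ⟨t, ht⟩ := (isCompact_range (g 0).continuous).elim_finite_subcover
      (fun x : T => (W x : Set T)) (fun x => (W x).2) (fun y _ => Set.mem_iUnion.mpr ⟨y, hxW y⟩)
    refine ⟨⨆ x ∈ t, W x, ?_, ?_⟩
    · have hU : ((⨆ x ∈ t, W x : T.Opens) : Set T) = ⋃ x ∈ t, (W x : Set T) := by simp
      rw [hU]
      exact t.isCompact_biUnion fun x _ => (hW x).isCompact
    · intro y hy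
      simpa using ht hy
  have hgnU : ∀ n, Set.range (g n) ⊆ (U : Set T) := by
    intro n
    induction n with
    | zero => exact hgU
    | succ n ih =>
      rintro _ ⟨x, rfl⟩
      obtain ⟨y, rfl⟩ := hps n x
      exact ih ⟨y, by rw [← hgc n]; rfl⟩
  haveI : CompactSpace U.toScheme := isCompact_iff_compactSpace.1 hU
  haveI : LocallyOfFiniteType (U.ι ≫ h) := inferInstance
  haveI : Mono (U.ι ≫ h) := inferInstance
  haveI := quasiAffine_of_mono (U.ι ≫ h)
  let j := U.toScheme.toSpecΓ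
  let gU : ∀ n, Spec (CommRingCat.of (A' n)) ⟶ U.toScheme := fun n =>
    IsOpenImmersion.lift U.ι (g n) (by rw [Scheme.Opens.range_ι]; exact hgnU n)
  have hgUι : ∀ n, gU n ≫ U.ι = g n := fun n => IsOpenImmersion.lift_fac _ _ _
  have hgUc : ∀ n, p n ≫ gU (n + 1) = gU n := fun n => by
    rw [← cancel_mono U.ι, Category.assoc, hgUι, hgUι, hgc]
  let b : ∀ n, Γ(U.toScheme, ⊤) ⟶ CommRingCat.of (A' n) := fun n => Spec.preimage (gU n ≫ j)
  have hb : ∀ n, b (n + 1) ≫ CommRingCat.ofHom (φ n) = b n := fun n => by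
    apply Spec.map_injective
    rw [Spec.map_comp, Spec.map_preimage, Spec.map_preimage, ← hgUc n, Category.assoc]
  have hex : ∀ x, ∃ a : A, ∀ n, π n a = (b n).hom x := fun x =>
    hlim.2.2 (fun n => (b n).hom x) fun n => congrArg (fun m => m.hom x) (hb n)
  choose β hβ using hex
  let βhom : Γ(U.toScheme, ⊤) →+* A :=
    { toFun := β
      map_one' := hlim.2.1 _ _ fun n => by rw [hβ, map_one, map_one]
      map_mul' := fun x y => hlim.2.1 _ _ fun n => by rw [hβ, map_mul, map_mul, hβ, hβ]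
      map_zero' := hlim.2.1 _ _ fun n => by rw [hβ, map_zero, map_zero]
      map_add' := fun x y => hlim.2.1 _ _ fun n => by rw [hβ, map_add, map_add, hβ, hβ] }
  let B : Spec (CommRingCat.of A) ⟶ Spec Γ(U.toScheme, ⊤) := Spec.map (CommRingCat.ofHom βhom)
  have hB : ∀ n, ψ n ≫ B = gU n ≫ j := fun n => by
    refine ((Spec.map_comp _ _).symm.trans ?_).trans (Spec.map_preimage (gU n ≫ j))
    congr 1
    ext x
    exact hβ x n
  have hrange : Set.range B ⊆ Set.range j := by
    have hV : B ⁻¹ᵁ j.opensRange = ⊤ := by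
      refine mem_of_isMaximal _ fun x hx => ?_
      have hk : RingHom.ker (π 0) ≤ x.asIdeal :=
        (ker_le_jacobson hlim hnil).trans (sInf_le ⟨bot_le, hx⟩)
      let y : Spec (CommRingCat.of (A' 0)) := ⟨Ideal.map (π 0) x.asIdeal,
        Ideal.map_isPrime_of_surjective (surjective_pi_zero hlim hsurj) hk⟩
      have hy : ψ 0 y = x := PrimeSpectrum.ext
        ((Ideal.comap_map_of_surjective' (π 0) (surjective_pi_zero hlim hsurj) _).trans
          (sup_eq_left.mpr hk))
      rw [← hy]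
      show B (ψ 0 y) ∈ j.opensRange
      refine ⟨gU 0 y, ?_⟩
      show (gU 0 ≫ j) y = (ψ 0 ≫ B) y
      rw [hB]
    rintro _ ⟨x, rfl⟩
    have hx : x ∈ B ⁻¹ᵁ j.opensRange := by rw [hV]; trivial
    exact hx
  let s := IsOpenImmersion.lift j B hrange
  have hs : ∀ n, ψ n ≫ s = gU n := fun n => by
    rw [← cancel_mono j, Category.assoc, IsOpenImmersion.lift_fac, hB]
  have hid : (s ≫ U.ι) ≫ h = 𝟙 (Spec (CommRingCat.of A)) := by
    rw [← Spec.map_preimage ((s ≫ U.ι) ≫ h), ← Spec.map_id]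
    congr 1
    ext a
    refine hlim.2.1 _ _ fun n => ?_
    have hn : Spec.preimage ((s ≫ U.ι) ≫ h) ≫ CommRingCat.ofHom (π n) =
        CommRingCat.ofHom (π n) := by
      apply Spec.map_injective
      rw [Spec.map_comp, Spec.map_preimage]
      show ψ n ≫ (s ≫ U.ι) ≫ h = ψ n
      rw [← Category.assoc, ← Category.assoc, hs, hgUι, hg]
    exact congrArg (fun m => m.hom a) hn
  exact ⟨⟨s ≫ U.ι, by rw [← cancel_mono h, Category.assoc, hid, Category.comp_id, Category.id_comp], hid⟩⟩

end Groth.Agent.S1244
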