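import Groth.Statements.S12442
import Mathlib.AlgebraicGeometry.Morphisms.FinitePresentation
import Mathlib.AlgebraicGeometry.Morphisms.Finite

set_option autoImplicit false
universe u
open Mor

namespace Groth.Agent.S12442

set_option backward.isDefEq.respectTransparency.types false

open AlgebraicGeometry CategoryTheory in
/-- Let f : X → Y and g : Y → S be morphisms of schemes. If the composite X → S is locally of finite
presentation and g is locally of finite type, then f is locally of finite presentation. -/
theorem result {X Y S : Scheme.{u}} (f : X ⟶ Y) (g : Y ⟶ S)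
    [LocallyOfFinitePresentation (f ≫ g)] [LocallyOfFiniteType g] :
    LocallyOfFinitePresentation f := by
  wlog hZ : IsAffine S generalizing X Y S
  · rw [IsZariskiLocalAtTarget.iff_of_iSup_eq_top (P := @LocallyOfFinitePresentation.{u}) _
      (g.iSup_preimage_eq_top (iSup_affineOpens_eq_top S))]
    intro U
    have H := IsZariskiLocalAtTarget.restrict (P := @LocallyOfFinitePresentation.{u}) (‹_› : LocallyOfFinitePresentation (f ≫ g)) U.1
    rw [morphismRestrict_comp] at H
    have hg : LocallyOfFiniteType (g ∣_ U.1) := IsZariskiLocalAtTarget.restrict (P := @LocallyOfFiniteType) ‹_› U.1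
    have H2 : LocallyOfFinitePresentation (f ∣_ g ⁻¹ᵁ U.1 ≫ g ∣_ U.1) := H
    exact this (f ∣_ g ⁻¹ᵁ U.1) (g ∣_ U.1) inferInstance
  wlog hY : IsAffine Y generalizing X Y
  · rw [IsZariskiLocalAtTarget.iff_of_iSup_eq_top (P := @LocallyOfFinitePresentation.{u}) _ (iSup_affineOpens_eq_top Y)]
    intro U
    have H := HasRingHomProperty.comp_of_isOpenImmersion @LocallyOfFinitePresentation.{u} (f ⁻¹ᵁ U.1).ι (f ≫ g) ‹_›
    rw [← morphismRestrict_ι_assoc] at H
    have hg : LocallyOfFiniteType (U.1.ι ≫ g) := HasRingHomProperty.comp_of_isOpenImmersion @LocallyOfFiniteType.{u} U.1.ι g ‹_›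
    exact this (f ∣_ U.1) (U.1.ι ≫ g) inferInstance
  wlog hX : IsAffine X generalizing X
  · rw [IsZariskiLocalAtSource.iff_of_iSup_eq_top (P := @LocallyOfFinitePresentation.{u}) _ (iSup_affineOpens_eq_top X)]
    intro U
    have H := HasRingHomProperty.comp_of_isOpenImmersion @LocallyOfFinitePresentation.{u} U.1.ι (f ≫ g) ‹_›
    rw [← Category.assoc] at H
    exact this (U.1.ι ≫ f) inferInstance
  have h1 := (HasRingHomProperty.iff_of_isAffine (P := @LocallyOfFinitePresentation.{u}) (f := f ≫ g)).1 inferInstance
  have h2 := (HasRingHomProperty.iff_of_isAffine (P := @LocallyOfFiniteType) (f := g)).1 inferInstance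
  rw [HasRingHomProperty.iff_of_isAffine (P := @LocallyOfFinitePresentation.{u})]
  rw [Scheme.Hom.comp_appTop, CommRingCat.hom_comp] at h1
  exact RingHom.FinitePresentation.of_comp_finiteType _ h1 h2

end Groth.Agent.S12442
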