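import Groth.Statements.S12447
import Groth.Agent.H18.DimFunLocal
import Mathlib.AlgebraicGeometry.Noetherian


set_option autoImplicit false
universe u
open CategoryTheory AlgebraicGeometry
open Props

namespace Groth.Agent.S12447

/-- Let S be a locally Noetherian scheme. Then the underlying topological space of S is catenary if and
only if locally in the Zariski topology there is a dimension function, i.e. every point has an open
neighbourhood U carrying a function δ : U → ℤ which strictly decreases along nontrivial
specializations and drops by exactly one along immediate specializations. -/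
theorem result (S : Scheme.{u}) [IsLocallyNoetherian S] :
    PtTop.IsCatenarySpace S ↔
      ∀ s : S, ∃ U : S.Opens, s ∈ U ∧ ∃ δ : U → ℤ, PtTop.IsDimensionFunction δ := by
  constructor
  · intro h s
    obtain ⟨U, hU, hsU, -⟩ := exists_isAffineOpen_mem_and_subset (x := s) (U := ⊤) trivial
    have := IsLocallyNoetherian.component_noetherian (X := S) ⟨U, hU⟩
    have : TopologicalSpace.NoetherianSpace U := noetherianSpace_of_isAffineOpen U hU
    have : QuasiSober (U : Set S) := U.2.isOpenEmbedding_subtypeVal.quasiSober
    have : TopologicalSpace.NoetherianSpace (U : Set S) := noetherianSpace_of_isAffineOpen U hU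
    obtain ⟨O, hsO, δ, hδ⟩ := Groth.Agent.H18.DimFunLocal.exists_dimensionFunction
      (X := (U : Set S)) (Groth.Agent.Lib.TopDim.Catenary.isCatenarySpace_subspace U.2.isLocallyClosed h) ⟨s, hsU⟩
    obtain ⟨V, hV, hδ'⟩ := Groth.Agent.H18.DimFunLocal.exists_of_isOpenEmbedding
      (Subtype.val : U → S) U.2.isOpenEmbedding_subtypeVal O δ hδ
    exact ⟨V, hV.ge ⟨⟨s, hsU⟩, hsO, rfl⟩, hδ'⟩
  · intro h
    refine Groth.Agent.Lib.TopDim.Catenary.isCatenarySpace_of_open_cover fun s => ?_
    obtain ⟨U, hsU, δ, hδ⟩ := h s
    have : QuasiSober U := U.2.isOpenEmbedding_subtypeVal.quasiSober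
    exact ⟨U, hsU, Groth.Agent.Lib.TopDim.DimFun.isCatenarySpace (X := U) hδ⟩

end Groth.Agent.S12447
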