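import Groth.Statements.S12452
import Mathlib

set_option autoImplicit false
universe u
open CategoryTheory TopologicalSpace Opposite
open ShSp

namespace Groth.Agent.S12452

/-- For sheaves of sets, let f : X → Y be a continuous map, F a sheaf of sets on X, G a sheaf of sets on
Y, and B_X, B_Y bases for the topologies of X and Y. Suppose given, for every V in B_Y and U in B_X
with U ⊆ f⁻¹V, a map φ_V^U : G(V) → F(U), compatibly with restrictions. Then there is exactly one
morphism of sheaves ψ : G → f_*F (an f-map G → F) such that G(V) → F(f⁻¹V) → F(U) equals φ_V^U for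
every such pair. -/
theorem result {X Y : TopCat.{u}} (f : X ⟶ Y) (F : X.Sheaf (Type u)) (G : Y.Sheaf (Type u))
    {BX : Set (Opens X)} (hBX : Opens.IsBasis BX) {BY : Set (Opens Y)} (hBY : Opens.IsBasis BY)
    (φ : ∀ (V : BY) (U : BX), (U : Opens X) ≤ (Opens.map f).obj V →
      (G.presheaf.obj (op (V : Opens Y)) → F.presheaf.obj (op (U : Opens X))))
    (hφ : ∀ (V V' : BY) (U U' : BX) (hUV : (U : Opens X) ≤ (Opens.map f).obj V)
      (hU'V' : (U' : Opens X) ≤ (Opens.map f).obj V') (hV : (V' : Opens Y) ≤ V) (hU : (U' : Opens X) ≤ U)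
      (s : G.presheaf.obj (op (V : Opens Y))),
      F.presheaf.map (homOfLE hU).op (φ V U hUV s) = φ V' U' hU'V' (G.presheaf.map (homOfLE hV).op s)) :
    ∃! ψ : G ⟶ (TopCat.Sheaf.pushforward (Type u) f).obj F,
      ∀ (V : BY) (U : BX) (hUV : (U : Opens X) ≤ (Opens.map f).obj V) (s : G.presheaf.obj (op (V : Opens Y))),
        F.presheaf.map (homOfLE hUV).op (ψ.1.app (op (V : Opens Y)) s) = φ V U hUV s := by
  let res : ∀ (H : TopCat.Sheaf (Type u) X) {A B : Opens X}, B ≤ A → H.presheaf.obj (op A) → H.presheaf.obj (op B) :=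
    fun H A B h t => H.presheaf.map (homOfLE h).op t
  let resY : ∀ {A B : Opens Y}, B ≤ A → G.presheaf.obj (op A) → G.presheaf.obj (op B) :=
    fun {A B} h t => G.presheaf.map (homOfLE h).op t
  have res_res : ∀ {A B D : Opens X} (h : B ≤ A) (h' : D ≤ B) (t : F.presheaf.obj (op A)),
      res F h' (res F h t) = res F (h'.trans h) t := fun {A B D} h h' t => by
    change (F.presheaf.map (homOfLE h).op ≫ F.presheaf.map (homOfLE h').op) t = _
    rw [← F.presheaf.map_comp]; rfl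
  have resY_res : ∀ {A B D : Opens Y} (h : B ≤ A) (h' : D ≤ B) (t : G.presheaf.obj (op A)),
      resY h' (resY h t) = resY (h'.trans h) t := fun {A B D} h h' t => by
    change (G.presheaf.map (homOfLE h).op ≫ G.presheaf.map (homOfLE h').op) t = _
    rw [← G.presheaf.map_comp]; rfl
  let I : Opens Y → Type u := fun V =>
    {p : BY × BX // (p.1 : Opens Y) ≤ V ∧ (p.2 : Opens X) ≤ (Opens.map f).obj p.1}
  have hle : ∀ (V : Opens Y) (p : I V), (p.1.2 : Opens X) ≤ (Opens.map f).obj V :=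
    fun V p => p.2.2.trans (fun x hx => p.2.1 hx)
  have hcov : ∀ V : Opens Y, (Opens.map f).obj V ≤ ⨆ p : I V, (p.1.2 : Opens X) := fun V x hx => by
    obtain ⟨W, hW, hxW, hWV⟩ := Opens.isBasis_iff_nbhd.1 hBY (show f x ∈ V from hx)
    obtain ⟨U, hU, hxU, hUW⟩ := Opens.isBasis_iff_nbhd.1 hBX (show x ∈ (Opens.map f).obj W from hxW)
    exact Opens.mem_iSup.2 ⟨⟨(⟨W, hW⟩, ⟨U, hU⟩), hWV, hUW⟩, hxU⟩
  have key : ∀ (V : Opens Y) (s : G.presheaf.obj (op V)), ∃! t : F.presheaf.obj (op ((Opens.map f).obj V)),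
      ∀ p : I V, res F (hle V p) t = φ p.1.1 p.1.2 p.2.2 (resY p.2.1 s) := fun V s => by
    refine TopCat.Sheaf.existsUnique_gluing' F (fun p : I V => (p.1.2 : Opens X)) _
      (fun p => homOfLE (hle V p)) (hcov V) _ fun p q => ?_
    change res F inf_le_left _ = res F inf_le_right _
    let K : Type u := {w : BY × BX // (w.1 : Opens Y) ≤ (p.1.1 : Opens Y) ⊓ q.1.1 ∧
      (w.2 : Opens X) ≤ (Opens.map f).obj w.1 ∧ (w.2 : Opens X) ≤ (p.1.2 : Opens X) ⊓ q.1.2}
    refine TopCat.Sheaf.eq_of_locally_eq' F (fun w : K => (w.1.2 : Opens X)) _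
      (fun w => homOfLE w.2.2.2) (fun x hx => ?_) _ _ fun w => ?_
    · obtain ⟨W, hW, hxW, hWV⟩ := Opens.isBasis_iff_nbhd.1 hBY
        (show f x ∈ (p.1.1 : Opens Y) ⊓ q.1.1 from ⟨p.2.2 hx.1, q.2.2 hx.2⟩)
      obtain ⟨U, hU, hxU, hUW⟩ := Opens.isBasis_iff_nbhd.1 hBX
        (show x ∈ (Opens.map f).obj W ⊓ ((p.1.2 : Opens X) ⊓ q.1.2) from ⟨hxW, hx⟩)
      exact Opens.mem_iSup.2 ⟨⟨(⟨W, hW⟩, ⟨U, hU⟩), hWV, hUW.trans inf_le_left, hUW.trans inf_le_right⟩, hxU⟩
    · change res F w.2.2.2 _ = res F w.2.2.2 _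
      rw [res_res, res_res]
      refine (hφ p.1.1 w.1.1 p.1.2 w.1.2 p.2.2 w.2.2.1 (w.2.1.trans inf_le_left) _ _).trans ?_
      refine Eq.trans ?_ (hφ q.1.1 w.1.1 q.1.2 w.1.2 q.2.2 w.2.2.1 (w.2.1.trans inf_le_right) _ _).symm
      exact congrArg _ ((resY_res _ _ s).trans (resY_res _ _ s).symm)
  choose g hg hguniq using key
  let ψ : G ⟶ (TopCat.Sheaf.pushforward (Type u) f).obj F :=
    ⟨{ app := fun V => TypeCat.ofHom (g V.unop)
       naturality := fun V V' i => by
        ext s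
        change g V'.unop (resY i.unop.le s) = res F (fun x hx => i.unop.le hx) (g V.unop s)
        refine (hguniq V'.unop _ _ fun p => ?_).symm
        refine (res_res _ _ _).trans ((hg V.unop s ⟨p.1, p.2.1.trans i.unop.le, p.2.2⟩).trans ?_)
        exact congrArg _ (resY_res _ _ _).symm }⟩
  refine ⟨ψ, fun V U hUV s => ?_, fun ψ' hψ' => ?_⟩
  · refine (hg V s ⟨(V, U), le_rfl, hUV⟩).trans (congrArg _ ?_)
    exact ConcreteCategory.congr_hom (G.presheaf.map_id _) s
  · refine Sheaf.hom_ext (NatTrans.ext (funext fun V => ?_))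
    ext s
    refine hguniq V.unop s _ fun p => ?_
    have hn := NatTrans.naturality_apply ψ'.hom (homOfLE p.2.1).op s
    refine Eq.trans ?_ (hψ' p.1.1 p.1.2 p.2.2 (resY p.2.1 s))
    change res F (hle V.unop p) (ψ'.1.app V s) = res F p.2.2 (ψ'.1.app _ (resY p.2.1 s))
    refine Eq.trans ?_ (congrArg (res F p.2.2) hn).symm
    exact (res_res (fun x hx => p.2.1 hx) p.2.2 _).symm

end Groth.Agent.S12452
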