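import Groth.Statements.S12456
import Groth.Agent.Lib.Ideal.Comap
import Mathlib.AlgebraicGeometry.IdealSheaf.Functorial
import Mathlib.AlgebraicGeometry.Morphisms.ClosedImmersion

set_option autoImplicit false
universe u
open CategoryTheory AlgebraicGeometry
open OmegaSh

namespace Groth.Agent.S12456

section
open CategoryTheory Limits AlgebraicGeometry

theorem ker_inclusion {X : Scheme.{u}} {I J : X.IdealSheafData} (h : J ≤ I) :
    (Scheme.IdealSheafData.inclusion h).ker = I.comap J.subschemeι := by
  refine le_antisymm ?_ ?_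
  · rw [← Scheme.IdealSheafData.ker_subschemeι (I := I.comap J.subschemeι)]
    have h2 : ((I.comapIso J.subschemeι).hom ≫ pullback.snd _ _) ≫
        Scheme.IdealSheafData.inclusion h = (I.comap J.subschemeι).subschemeι := by
      rw [← cancel_mono J.subschemeι, Category.assoc, Scheme.IdealSheafData.inclusion_subschemeι,
        Category.assoc, ← pullback.condition, Scheme.IdealSheafData.comapIso_hom_fst_assoc]
    conv_rhs => rw [← h2]
    exact Scheme.Hom.le_ker_comp _ _
  · rw [← Scheme.IdealSheafData.le_map_iff_comap_le, Scheme.IdealSheafData.map_ker,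
      Scheme.IdealSheafData.inclusion_subschemeι, Scheme.IdealSheafData.ker_subschemeι]

theorem comap_self {X : Scheme.{u}} (J : X.IdealSheafData) : J.comap J.subschemeι = ⊥ := by
  refine eq_bot_iff.mpr (Scheme.IdealSheafData.le_map_iff_comap_le.mp ?_)
  conv_lhs => rw [← Scheme.IdealSheafData.ker_subschemeι (I := J)]
  rw [Scheme.IdealSheafData.map]
  refine le_trans ?_ (Scheme.Hom.le_ker_comp _ _)
  exact le_rfl

end

/-- Let i : Z → X be an immersion, written as the closed subscheme of an open U ⊆ X cut out by an ideal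
sheaf I followed by the inclusion of U. Then the first order infinitesimal neighbourhood of Z in X —
the closed subscheme of U cut out by I² — together with Z ⊂ V(I²) and V(I²) → U → X is a universal
first order thickening of Z over X. (The inequality I² ≤ I is carried as an argument h; it always
holds.) -/
theorem result {X : Scheme.{u}} (U : X.Opens) (I : (U : Scheme.{u}).IdealSheafData)
    (h : I ^ 2 ≤ I) :
    OmegaSh.IsUnivThickening (I.subschemeι ≫ U.ι) (Scheme.IdealSheafData.inclusion h)
      ((I ^ 2).subschemeι ≫ U.ι) := by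
  have hcl : IsClosedImmersion (Scheme.IdealSheafData.inclusion h) := by
    have : IsClosedImmersion (Scheme.IdealSheafData.inclusion h ≫ (I ^ 2).subschemeι) := by
      rw [Scheme.IdealSheafData.inclusion_subschemeι]; infer_instance
    exact IsClosedImmersion.of_comp _ (I ^ 2).subschemeι
  have hfot : MoreMor.IsFirstOrderThickening (Scheme.IdealSheafData.inclusion h) := by
    refine ⟨⟨hcl, ⟨fun y => ?_⟩⟩, ?_⟩
    · have hy : (I ^ 2).subschemeι y ∈ Set.range (I.subschemeι) := by
        rw [Scheme.IdealSheafData.range_subschemeι, ← Scheme.IdealSheafData.support_pow I 2 two_ne_zero,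
          ← Scheme.IdealSheafData.range_subschemeι]
        exact ⟨y, rfl⟩
      obtain ⟨z, hz⟩ := hy
      refine ⟨z, (I ^ 2).subschemeι.isClosedEmbedding.injective ?_⟩
      rw [← hz, ← Scheme.Hom.comp_apply, Scheme.IdealSheafData.inclusion_subschemeι]
    · rw [ker_inclusion h, ← Groth.Agent.Lib.Ideal.Comap.comap_mul, ← pow_two, comap_self]
  refine ⟨hfot, by rw [Scheme.IdealSheafData.inclusion_subschemeι_assoc], ?_⟩
  intro T T' j b a hj hjb
  have : IsClosedImmersion j := hj.1.1
  have : Surjective j := hj.1.2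
  have hrange : Set.range b ⊆ Set.range U.ι := by
    rintro _ ⟨x, rfl⟩
    obtain ⟨t, rfl⟩ := j.surjective x
    refine ⟨I.subschemeι (a t), ?_⟩
    rw [← Scheme.Hom.comp_apply, ← Scheme.Hom.comp_apply, ← Scheme.Hom.comp_apply, hjb]
  let b' := IsOpenImmersion.lift U.ι b hrange
  have hb' : b' ≫ U.ι = b := IsOpenImmersion.lift_fac _ _ _
  have hjb' : j ≫ b' = a ≫ I.subschemeι := by
    rw [← cancel_mono U.ι, Category.assoc, hb', hjb, Category.assoc]
  have hker : I ^ 2 ≤ b'.ker := by
    have h1 : I ≤ (j ≫ b').ker := by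
      rw [hjb']
      exact I.ker_subschemeι.ge.trans (Scheme.Hom.le_ker_comp _ _)
    rw [← Scheme.IdealSheafData.map_ker, Scheme.IdealSheafData.le_map_iff_comap_le] at h1
    have h2 : (I ^ 2).comap b' ≤ ⊥ := by
      rw [← hj.2, pow_two, Groth.Agent.Lib.Ideal.Comap.comap_mul]
      intro V
      simp only [Scheme.IdealSheafData.ideal_mul, Pi.mul_apply]
      exact Ideal.mul_mono (h1 V) (h1 V)
    refine (Scheme.IdealSheafData.le_map_iff_comap_le.mpr h2).trans ?_
    rw [Scheme.IdealSheafData.map]
    have : IsIso ((⊥ : T'.IdealSheafData).subschemeι) := inferInstance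
    rw [Scheme.Hom.ker_comp_of_isIso]
  have hker' : (I ^ 2).subschemeι.ker ≤ b'.ker := by rwa [Scheme.IdealSheafData.ker_subschemeι]
  refine ⟨IsClosedImmersion.lift _ b' hker', ⟨?_, ?_⟩, ?_⟩
  · rw [← cancel_mono (I ^ 2).subschemeι, Category.assoc, IsClosedImmersion.lift_fac, hjb',
      Category.assoc, Scheme.IdealSheafData.inclusion_subschemeι]
  · rw [IsClosedImmersion.lift_fac_assoc, hb']
  · rintro a'' ⟨-, h2⟩
    rw [← cancel_mono (I ^ 2).subschemeι, IsClosedImmersion.lift_fac, ← cancel_mono U.ι, hb',
      Category.assoc, h2]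

end Groth.Agent.S12456
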