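import Groth.Statements.S12459
import Groth.Agent.H18.CatSpace
import Groth.Agent.Lib.Excellent.Localization
import Groth.Agent.H18.Catenary

set_option autoImplicit false
universe u
open CategoryTheory AlgebraicGeometry
open Props

namespace Groth.Agent.S12459

/-- For a locally Noetherian scheme S, the scheme S is universally catenary — every scheme X locally of
finite type over S has catenary underlying topological space — if and only if all local rings
O_{S,s} are universally catenary rings. (Schemes X over S are taken in the universe of S.) -/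
theorem result (S : Scheme.{u}) [IsLocallyNoetherian S] :
    (∀ (X : Scheme.{u}) (f : X ⟶ S), LocallyOfFiniteType f → PtTop.IsCatenarySpace X) ↔
      ∀ s : S, CAlg.IsUniversallyCatenary (S.presheaf.stalk s) := by
  constructor
  · intro h s
    obtain ⟨U, hU, hs, -⟩ := exists_isAffineOpen_mem_and_subset (x := s) (U := ⊤) trivial
    have := IsLocallyNoetherian.component_noetherian (X := S) ⟨U, hU⟩
    have hA : CAlg.IsUniversallyCatenary Γ(S, U) := by
      refine ⟨this, fun T _ _ hT => ?_⟩
      let g : Spec (CommRingCat.of T) ⟶ S :=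
        Spec.map (CommRingCat.ofHom (algebraMap Γ(S, U) T)) ≫ hU.fromSpec
      have hg : LocallyOfFiniteType g := by
        have : LocallyOfFiniteType (Spec.map (CommRingCat.ofHom (algebraMap Γ(S, U) T))) :=
          HasRingHomProperty.Spec_iff.mpr (RingHom.finiteType_algebraMap.mpr hT)
        exact inferInstance
      exact Groth.Agent.H18.CatSpace.isCatenary_of_isCatenarySpace (X := Spec (CommRingCat.of T)) id
        Topology.IsInducing.id (fun a y _ => ⟨y, rfl⟩) (h _ g hg)
    letI := TopCat.Presheaf.algebra_section_stalk S.presheaf (⟨s, hs⟩ : U)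
    have := hU.isLocalization_stalk ⟨s, hs⟩
    exact Groth.Agent.Lib.Excellent.Localization.isUniversallyCatenary_of_isLocalization
      (hU.primeIdealOf ⟨s, hs⟩).asIdeal.primeCompl hA
  · intro h X f hf
    refine Groth.Agent.H18.CatSpace.isCatenarySpace_of_affine X fun x => ?_
    obtain ⟨U, hU, hxU, -⟩ := exists_isAffineOpen_mem_and_subset (x := f x) (U := ⊤) trivial
    obtain ⟨V, hV, hxV, hVU⟩ := exists_isAffineOpen_mem_and_subset (x := x) (U := f ⁻¹ᵁ U) hxU
    refine ⟨⟨V, hV⟩, hxV, ?_⟩
    have := IsLocallyNoetherian.component_noetherian (X := S) ⟨U, hU⟩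
    have hA : CAlg.IsUniversallyCatenary Γ(S, U) := by
      refine Groth.Agent.H18.Catenary.isUniversallyCatenary_of_localization_maximal _ fun m _ => ?_
      have hy : hU.fromSpec ⟨m, inferInstance⟩ ∈ U := by
        have h' : hU.fromSpec ⟨m, inferInstance⟩ ∈ Set.range hU.fromSpec := Set.mem_range_self _
        rwa [IsAffineOpen.range_fromSpec] at h'
      letI := TopCat.Presheaf.algebra_section_stalk S.presheaf (⟨_, hy⟩ : U)
      have : IsLocalization m.primeCompl (S.presheaf.stalk (hU.fromSpec ⟨m, inferInstance⟩)) :=
        hU.isLocalization_stalk' ⟨m, inferInstance⟩ hy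
      let e := IsLocalization.algEquiv m.primeCompl
        (S.presheaf.stalk (hU.fromSpec ⟨m, inferInstance⟩)) (Localization.AtPrime m)
      letI := e.toRingEquiv.toRingHom.toAlgebra
      have : Algebra.FiniteType (S.presheaf.stalk (hU.fromSpec ⟨m, inferInstance⟩)) (Localization.AtPrime m) :=
        RingHom.finiteType_algebraMap.mp (RingHom.FiniteType.of_surjective _ e.surjective)
      exact Groth.Agent.Lib.Excellent.Localization.isUniversallyCatenary_of_finiteType (h (hU.fromSpec ⟨m, inferInstance⟩))
    have hft : (f.appLE U V hVU).hom.FiniteType :=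
      LocallyOfFiniteType.finiteType_appLE f hU hV hVU
    letI := (f.appLE U V hVU).hom.toAlgebra
    exact hA.2 Γ(X, V) hft

end Groth.Agent.S12459
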