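import Groth.Statements.S12461
import Groth.Agent.H83.QCohGroth.Cat
import Groth.Agent.Lib.PushClosed.Basic
import Groth.Agent.Lib.QCoh.Pushforward

set_option autoImplicit false
universe u
open CategoryTheory AlgebraicGeometry
open QCohSub

namespace Groth.Agent.S12461

/-- Let i : Z → X be a closed immersion of schemes. The functor i_* : QCoh(O_Z) → QCoh(O_X) has a right
adjoint i^! : QCoh(O_X) → QCoh(O_Z). Stated as: there is a functor L between the full subcategories
of quasi-coherent modules which agrees with i_* after the inclusion into all O_X-modules (this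
determines L up to isomorphism, the inclusion being fully faithful) and which is a left adjoint. -/
theorem result {Z X : Scheme.{u}} (i : Z ⟶ X) [IsClosedImmersion i] :
    ∃ L : QCohCat.QCoh Z ⥤ QCohCat.QCoh X,
      Nonempty (L ⋙ (QCohCat.isQCoh X).ι ≅ (QCohCat.isQCoh Z).ι ⋙ Coh.push i) ∧ L.IsLeftAdjoint := by
  haveI := Lib.PushClosed.Basic.pushforward_preservesColimits i
  let F := (QCohCat.isQCoh Z).ι ⋙ Coh.push i
  have hF : ∀ M, QCohCat.isQCoh X (F.obj M) := fun M =>
    haveI : M.obj.IsQuasicoherent := M.property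
    Lib.QCoh.Pushforward.isQCoh_pushforward (f := i) (M := M.obj)
  let L := ObjectProperty.lift (QCohCat.isQCoh X) F hF
  haveI : Limits.PreservesColimitsOfSize.{u, u} (L ⋙ (QCohCat.isQCoh X).ι) :=
    inferInstanceAs (Limits.PreservesColimitsOfSize.{u, u} ((QCohCat.isQCoh Z).ι ⋙ Scheme.Modules.pushforward i))
  haveI : Limits.PreservesColimitsOfSize.{u, u} L :=
    Limits.preservesColimits_of_reflects_of_preserves L (QCohCat.isQCoh X).ι
  exact ⟨L, ⟨Iso.refl _⟩, H83.QCohGroth.isLeftAdjoint Z L⟩

end Groth.Agent.S12461
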