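import Groth.Statements.S12462
import Groth.Agent.Lib.Spectral.Product
import Mathlib.Topology.Category.TopCat.Limits.Basic
import Mathlib.CategoryTheory.Limits.Types.Limits

set_option autoImplicit false
universe u
open CategoryTheory CategoryTheory.Limits
open SpecSp

namespace Groth.Agent.S12462
open Set Groth.Agent.Lib.Spectral.Product Groth.Agent.Lib.Spectral.Basic

variable (X : Type u) [TopologicalSpace X]

/-- The projection of `X` to the space of truth values at finitely many compact opens. -/
def proj (s : Finset (QC X)) (x : X) : s → Prop := fun U ↦ toPiProp X x U.1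

lemma continuous_proj (s : Finset (QC X)) : Continuous (proj X s) :=
  continuous_pi fun U ↦ continuous_Prop.mpr U.1.2.1

/-- The finite quotient attached to a finite set of compact opens. -/
abbrev lvl (s : Finset (QC X)) : Type u := range (proj X s)

/-- Transition maps between the finite quotients. -/
def transition {s t : Finset (QC X)} (h : s ⊆ t) (φ : lvl X t) : lvl X s :=
  ⟨fun U ↦ φ.1 ⟨U.1, h U.2⟩, by
    obtain ⟨_, x, rfl⟩ := φ
    exact ⟨x, rfl⟩⟩

lemma continuous_transition {s t : Finset (QC X)} (h : s ⊆ t) :
    Continuous (transition X h) :=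
  continuous_induced_rng.mpr (continuous_pi fun U : s ↦
    (continuous_apply (⟨U.1, h U.2⟩ : t)).comp
      (continuous_subtype_val : Continuous (fun φ : lvl X t ↦ φ.1)))

/-- The system of finite quotients. -/
def sys : (Finset (QC X))ᵒᵖ ⥤ TopCat.{u} where
  obj s := TopCat.of (lvl X s.unop)
  map {s t} a := TopCat.ofHom ⟨transition X (leOfHom a.unop), continuous_transition X _⟩
  map_id s := rfl
  map_comp a b := rfl

/-- The cone over the system of finite quotients with vertex `X`. -/
def sysCone : Cone (sys X) where
  pt := TopCat.of X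
  π :=
    { app := fun s ↦ TopCat.ofHom
        ⟨fun x ↦ ⟨proj X s.unop x, x, rfl⟩, (continuous_proj X s.unop).subtype_mk _⟩
      naturality := fun s t a ↦ rfl }

variable [SpectralSpace X]

lemma bijective_sectionOfCone :
    (Types.sectionOfCone ((forget TopCat.{u}).mapCone (sysCone X))).Bijective := by
  constructor
  · intro x y h
    refine (isEmbedding_toPiProp X).injective (funext fun U ↦ ?_)
    have h1 := congrArg (fun φ ↦ φ.1) (congrFun (congrArg Subtype.val h) (Opposite.op {U}))
    exact congrFun h1 ⟨U, Finset.mem_singleton_self U⟩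
  · rintro ⟨φ, hφ⟩
    classical
    let val : QC X → Prop := fun U ↦ (φ (Opposite.op {U})).1 ⟨U, Finset.mem_singleton_self U⟩
    have hval : ∀ (s : Finset (QC X)) (U : s), (φ (Opposite.op s)).1 U = val U.1 := by
      rintro s ⟨U, hU⟩
      have h := hφ (Quiver.Hom.op (homOfLE (Finset.singleton_subset_iff.mpr hU) : ({U} : Finset (QC X)) ⟶ s))
      have h1 := congrFun (congrArg (fun ψ ↦ ψ.1) h) ⟨U, Finset.mem_singleton_self U⟩
      exact h1
    let A : QC X → Set X := fun U ↦ if val U then U.1 else U.1ᶜ
    have hfin : ∀ s : Finset (QC X), (⋂ U ∈ s, A U).Nonempty := fun s ↦ by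
      obtain ⟨x, hx⟩ := (φ (Opposite.op s)).2
      refine ⟨x, mem_iInter₂.mpr fun U hU ↦ ?_⟩
      have h : (x ∈ U.1) = val U := (congrFun hx ⟨U, hU⟩).trans (hval s ⟨U, hU⟩)
      simp only [A]
      split_ifs with hv
      · exact h.mpr hv
      · exact fun hxU ↦ hv (h.mp hxU)
    obtain ⟨x, hx⟩ := nonempty_iInter_of_isClosed_cons A (fun U ↦ by
      simp only [A]
      split_ifs
      · exact isClosed_cons U.2.1 U.2.2
      · exact @IsOpen.isClosed_compl X (constructibleTopology X) _ (isOpen_cons U.2.1 U.2.2)) hfin
    rw [mem_iInter] at hx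
    refine ⟨x, Subtype.ext (funext fun s ↦ Subtype.ext (funext fun U ↦ ?_))⟩
    refine Eq.trans ?_ (hval s.unop U).symm
    have h := hx U.1
    simp only [A] at h
    by_cases hv : val U.1
    · rw [if_pos hv] at h
      exact propext (iff_of_true h hv)
    · rw [if_neg hv] at h
      exact propext (iff_of_false h hv)

lemma nonempty_isLimit : Nonempty (IsLimit (sysCone X)) := by
  obtain ⟨hc⟩ := (Types.isLimit_iff_bijective_sectionOfCone _).mpr (bijective_sectionOfCone X)
  refine (TopCat.nonempty_isLimit_iff_eq_induced _ hc).mpr (le_antisymm (le_iInf fun s ↦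
    continuous_iff_le_induced.mp ((sysCone X).π.app s).hom.continuous) ?_)
  show _ ≤ (inferInstance : TopologicalSpace X)
  intro V hV
  refine (@isOpen_iff_forall_mem_open X (_) V).mpr fun x hx ↦ ?_
  obtain ⟨U, ⟨hUo, hUc⟩, hxU, hUV⟩ :=
    PrespectralSpace.isTopologicalBasis.exists_subset_of_mem_open hx hV
  let s : Finset (QC X) := {⟨U, hUo, hUc⟩}
  refine ⟨U, hUV, ?_, hxU⟩
  refine iInf_le (fun j ↦ TopologicalSpace.induced ((sysCone X).π.app j)
    ((sys X).obj j).str) (Opposite.op s) U ?_
  refine ⟨(fun φ : lvl X s ↦ φ.1 ⟨⟨U, hUo, hUc⟩, Finset.mem_singleton_self _⟩) ⁻¹' {True},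
    isOpen_singleton_true.preimage
      ((continuous_apply _).comp continuous_subtype_val), ?_⟩
  ext y
  exact ⟨fun h ↦ of_eq_true h, fun h ↦ eq_true h⟩


/-- A spectral space is a directed inverse limit of finite sober topological spaces. Precisely: for X
spectral there exist a nonempty directed preordered index set J, a functor from the opposite of J to
topological spaces whose values are finite sober (T0, every irreducible closed subset has a generic
point) spaces, and a limit cone of it whose vertex is isomorphic to X. -/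
theorem result (X : Type u) [TopologicalSpace X] [SpectralSpace X] :
    ∃ (J : Type u) (_ : Preorder J) (_ : Nonempty J) (_ : IsDirected J (· ≤ ·)) (F : Jᵒᵖ ⥤ TopCat.{u})
      (c : Cone F), Nonempty (IsLimit c) ∧
        (∀ j : Jᵒᵖ, Finite (F.obj j) ∧ T0Space (F.obj j) ∧ QuasiSober (F.obj j)) ∧
        Nonempty (c.pt ≅ TopCat.of X) := by
  classical
  refine ⟨Finset (QC X), inferInstance, inferInstance, inferInstance, sys X, sysCone X,
    nonempty_isLimit X, fun s ↦ ?_, ⟨Iso.refl _⟩⟩
  have hfin : Finite (lvl X s.unop) := inferInstance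
  have h0 : T0Space (lvl X s.unop) :=
    have := Groth.Agent.Lib.Spectral.Product.spectralSpace_pi_prop (I := ↥s.unop)
    inferInstance
  exact ⟨hfin, h0, quasiSober_of_finite (X := lvl X s.unop)⟩

end Groth.Agent.S12462
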