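import Groth.Statements.S12469
import Groth.Agent.Lib.SymAlg.PE.Tensor
import Groth.Agent.Lib.TensorMod.QCohInv
import Groth.Agent.Lib.TensorMod.Invertible

set_option autoImplicit false
universe u
open CategoryTheory CategoryTheory.Limits AlgebraicGeometry TopologicalSpace Opposite
open scoped HomogeneousIdeal
open EGA2

namespace Groth.Agent.S12469

/-- Let q : X → Y be a morphism of schemes, L an invertible O_X-module and K an invertible O_Y-module.
Then L is very ample relative to q (isomorphic to the inverse image of O(1) along a Y-immersion of X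
into the projective bundle P(E) of a quasi-coherent O_Y-module E) if and only if L ⊗ q^*K is. -/
theorem result {X Y : Scheme.{u}} (q : X ⟶ Y) (L : X.Modules)
    (hL : PicF.IsInvertible L) (K : Y.Modules) (hK : PicF.IsInvertible K) :
    RelProj.IsRelVeryAmple q L ↔
      RelProj.IsRelVeryAmple q (CohB1.tensorMod L ((Scheme.Modules.pullback q).obj K)) := by
  have key : ∀ (M : X.Modules) (K : Y.Modules), PicF.IsInvertible M → PicF.IsInvertible K →
      RelProj.IsRelVeryAmple q M → RelProj.IsRelVeryAmple q (CohB1.tensorMod M ((Scheme.Modules.pullback q).obj K)) :=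
    fun M K hM hK h => Groth.Agent.Lib.SymAlg.PE.isRelVeryAmple_tensor hM (PicLoc.isInvertible_pullback q hK) h
      (Groth.Agent.Lib.TensorMod.QCohInv.isQCoh_of_isInvertible hK) _ (Groth.Agent.Lib.SymAlg.PE.generates_unit hK)
  refine ⟨key L K hL hK, fun h => ?_⟩
  obtain ⟨K', hK', ⟨e⟩⟩ := Groth.Agent.Lib.TensorMod.Invertible.exists_inverse hK
  have hqK := PicLoc.isInvertible_pullback q hK
  refine Groth.Agent.Lib.SymAlg.PE.isRelVeryAmple_of_iso ?_ (key _ K' (Groth.Agent.Lib.TensorMod.Invertible.isInvertible_tensorMod hL hqK) hK' h)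
  exact Groth.Agent.Lib.TensorMod.Basic.assoc _ _ _ ≪≫
    Groth.Agent.Lib.TensorMod.Basic.tensorIso (Iso.refl L)
      ((Groth.Agent.Lib.TensorMod.Pullback.pullbackTensorIso q K K').symm ≪≫ (Scheme.Modules.pullback q).mapIso e ≪≫
        PicLoc.pullbackStructureIso q) ≪≫ Groth.Agent.Lib.TensorMod.Basic.rightUnit L

end Groth.Agent.S12469
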