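import Groth.Statements.S1247
-- import your own Groth.Agent.* helpers here
import Groth.Agent.Lib.FlatCA.ImpurityReduce

set_option autoImplicit false
universe u
open FlatMor

namespace Groth.Agent.S1247

/-- Ring form, X = Spec B and S = Spec A affine with A Noetherian: let B be a finite type A-algebra, N a
finite B-module and p a prime of A. If there is an impurity of N above p then there is one whose
base change A → A' is of finite type and quasi-finite at the point t. -/
theorem result {A B : Type u} [CommRing A] [IsNoetherianRing A] [CommRing B] [Algebra A B] [Algebra.FiniteType A B]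
    (N : Type u) [AddCommGroup N] [Module B N] [Module.Finite B N] (p : Ideal A) [p.IsPrime]
    (h : FlatCA.HasImpurity A B N p (fun _ _ _ _ => True)) :
    FlatCA.HasImpurity A B N p (fun A' _ _ t => ∃ _ : t.IsPrime, Algebra.FiniteType A A' ∧ Algebra.QuasiFiniteAt A t) := by
  letI : Module A N := Module.compHom N (algebraMap A B)
  haveI : IsScalarTower A B N := IsScalarTower.of_algebraMap_smul fun _ _ => rfl
  obtain ⟨A', B', N', _, _, _, _, _, _, _, _, _, _, _, _, _, _, f, t', t, _, _, P, _, himp, -, hfp, hmax⟩ :=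
    Lib.FlatCA.ImpurityReduce.exists_fp_closed h
  have htp' : ¬ t'.LiesOver p := Lib.FlatCA.ImpurityReduce.not_liesOver himp
  haveI := himp.2.2.2.1
  haveI : Algebra.FiniteType A A' := .of_finitePresentation
  have hclosed : ∀ w : Ideal A', w.IsPrime → w.LiesOver p → t ≤ w → w = t := fun w hw hwl htw => by
    obtain ⟨hp1, hc1⟩ := Lib.FlatCA.WeakAss.fiberIdeal_prime p w
    obtain ⟨hp2, hc2⟩ := Lib.FlatCA.WeakAss.fiberIdeal_prime p t
    rw [← hc1, ← hc2, hmax.eq_of_le hp1.ne_top (Ideal.map_mono htw)]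
  -- pass to the domain `A' / t'`
  let R := A' ⧸ t'
  let mk := Ideal.Quotient.mk t'
  haveI : (t.map mk).IsPrime :=
    Ideal.map_isPrime_of_surjective Ideal.Quotient.mk_surjective (by rw [Ideal.mk_ker]; exact himp.2.2.1)
  have htc : (t.map mk).comap mk = t := by
    rw [Ideal.comap_map_of_surjective _ Ideal.Quotient.mk_surjective, ← RingHom.ker_eq_comap_bot, Ideal.mk_ker]
    exact sup_eq_left.2 himp.2.2.1
  haveI : (t.map mk).LiesOver t := ⟨htc.symm⟩
  haveI : (⊥ : Ideal R).IsPrime := Ideal.isPrime_bot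
  haveI : (⊥ : Ideal R).LiesOver t' := ⟨by rw [Ideal.under_def, Ideal.Quotient.algebraMap_eq, ← RingHom.ker_eq_comap_bot, Ideal.mk_ker]⟩
  obtain ⟨B₁, N₁, _, _, _, _, _, _, _, _, _, _, _, _, f₁, P₁, _, himp₁⟩ :=
    Lib.FlatCA.ImpurityReduce.up_exact himp R (⊥ : Ideal R) (t.map mk) bot_le
  obtain ⟨hpo₁, hf₁, -, htp₁, hPl₁, hass₁, hno₁⟩ := himp₁
  haveI := htp₁
  haveI := hPl₁
  haveI : Algebra.FiniteType A R := .of_surjective (Ideal.Quotient.mkₐ A t') Ideal.Quotient.mk_surjective
  haveI : IsNoetherianRing R := Algebra.FiniteType.isNoetherianRing A R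
  haveI : Algebra.IsPushout A R B B₁ := hpo₁.symm
  haveI : Algebra.FiniteType R B₁ :=
    .equiv (Algebra.FiniteType.baseChange R (A := B)) (Algebra.IsPushout.equiv A R B B₁)
  haveI : Module.Finite B₁ N₁ := Module.Finite.equiv hf₁.equiv
  obtain ⟨f₀, hf₀, hgen⟩ := Lib.FlatCA.ImpurityReduce.exists_generic P₁ hass₁
  obtain ⟨a, hap, ha⟩ : ∃ a ∈ p, algebraMap A R a ≠ 0 := by
    by_contra hcon
    push Not at hcon
    refine htp' ⟨le_antisymm (fun a ha => ?_) fun a ha => ?_⟩
    · rw [Ideal.under_def, Ideal.mem_comap, ← Ideal.Quotient.eq_zero_iff_mem]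
      exact hcon a ha
    · exact (Ideal.mem_of_liesOver t p a).2 (himp.2.2.1 ha)
  obtain ⟨q, hq, hqu, hfq, hbtw⟩ := Lib.FlatCA.ImpurityReduce.exists_prime_avoiding (t.map mk)
    (mul_ne_zero hf₀ ha) (Ideal.mul_mem_left _ _ ((Ideal.mem_of_liesOver (t.map mk) p a).1 hap))
  haveI := hq
  obtain ⟨P₂, hP₂, hle₂, hl₂, hass₂⟩ := hgen q fun h => hfq (q.mul_mem_right _ h)
  haveI := hl₂
  have himp₂ : FlatCA.IsImpurity A B N p R B₁ N₁ f₁ q (t.map mk) P₂ :=
    ⟨hpo₁, hf₁, hqu, htp₁, hl₂, hass₂, fun P' _ hP' => hno₁ P' (hle₂.trans hP')⟩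
  -- pass to `R / q`
  let X := R ⧸ q
  let mk₂ := Ideal.Quotient.mk q
  let v := (t.map mk).map mk₂
  haveI : v.IsPrime :=
    Ideal.map_isPrime_of_surjective Ideal.Quotient.mk_surjective (by rw [Ideal.mk_ker]; exact hqu)
  have hvc : v.comap mk₂ = t.map mk := by
    rw [Ideal.comap_map_of_surjective _ Ideal.Quotient.mk_surjective, ← RingHom.ker_eq_comap_bot, Ideal.mk_ker]
    exact sup_eq_left.2 hqu
  haveI : v.LiesOver (t.map mk) := ⟨hvc.symm⟩
  haveI : v.LiesOver p := .trans _ (t.map mk) _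
  haveI : (⊥ : Ideal X).IsPrime := Ideal.isPrime_bot
  haveI : (⊥ : Ideal X).LiesOver q := ⟨by rw [Ideal.under_def, Ideal.Quotient.algebraMap_eq, ← RingHom.ker_eq_comap_bot, Ideal.mk_ker]⟩
  haveI : Algebra.FiniteType A X := .of_surjective (Ideal.Quotient.mkₐ A q) Ideal.Quotient.mk_surjective
  refine Lib.FlatCA.ImpurityMove.up himp₂ X (⊥ : Ideal X) v bot_le _ ⟨inferInstance, inferInstance, ?_⟩
  -- `v` is isolated in its fibre
  obtain ⟨hpT, hcT⟩ := Lib.FlatCA.WeakAss.fiberIdeal_prime p v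
  haveI := hpT
  haveI : IsNoetherianRing (p.Fiber X) := Algebra.FiniteType.isNoetherianRing p.ResidueField _
  haveI : IsJacobsonRing (p.Fiber X) := isJacobsonRing_of_finiteType (A := p.ResidueField)
  have huniq : ∀ Q : Ideal (p.Fiber X), Q.IsPrime →
      (Q ≤ FlatCA.fiberIdeal p v ∨ FlatCA.fiberIdeal p v ≤ Q) → Q = FlatCA.fiberIdeal p v := fun Q hQ hQv => by
    haveI := hQ
    let w := Q.comap (Lib.FlatCA.Impurity.incl p)
    haveI : w.LiesOver p := Lib.FlatCA.FibreAss.liesOver_comap p Q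
    suffices w = v by
      rw [← Lib.FlatCA.WeakAss.map_comap_incl p Q]
      exact congrArg (Ideal.map _) this
    rcases hQv with hQv | hQv
    · have hwv : w ≤ v := (Ideal.comap_mono hQv).trans hcT.le
      have hqw : q < w.comap mk₂ := lt_of_le_of_ne (fun x hx => by
          rw [Ideal.mem_comap, Ideal.Quotient.eq_zero_iff_mem.2 hx]; exact zero_mem _) fun h =>
        hfq (h ▸ Ideal.mul_mem_left _ _ (by
          show algebraMap A X a ∈ w
          exact (Ideal.mem_of_liesOver w p a).1 hap))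
      refine Ideal.comap_injective_of_surjective mk₂ Ideal.Quotient.mk_surjective (Eq.trans ?_ hvc.symm)
      exact hbtw _ (Ideal.IsPrime.comap _) hqw ((Ideal.comap_mono hwv).trans hvc.le)
    · have hvw : v ≤ w := hcT.ge.trans (Ideal.comap_mono hQv)
      have htw : (w.comap mk₂).comap mk = t := by
        refine hclosed _ (Ideal.IsPrime.comap _) ⟨?_⟩ ?_
        · rw [Ideal.under_def, Ideal.comap_comap, Ideal.comap_comap]
          exact Ideal.LiesOver.over
        · rw [← htc, ← hvc]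
          exact Ideal.comap_mono (Ideal.comap_mono hvw)
      refine Ideal.comap_injective_of_surjective mk₂ Ideal.Quotient.mk_surjective
        (Ideal.comap_injective_of_surjective mk Ideal.Quotient.mk_surjective ?_)
      rw [htw, hvc, htc]
  let x : PrimeSpectrum (p.Fiber X) := ⟨FlatCA.fiberIdeal p v, hpT⟩
  have hopen : IsOpen ({x} : Set (PrimeSpectrum (p.Fiber X))) := by
    refine ((PrimeSpectrum.isOpen_singleton_tfae_of_isNoetherian_of_isJacobsonRing x).out 0 2 rfl rfl).2 ⟨?_, ?_⟩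
    · rw [PrimeSpectrum.isClosed_singleton_iff_isMaximal]
      obtain ⟨m, hm, hle⟩ := Ideal.exists_le_maximal _ hpT.ne_top
      show (FlatCA.fiberIdeal p v).IsMaximal
      rw [← huniq m hm.isPrime (Or.inr hle)]
      exact hm
    · intro z w hzw hz
      rw [Set.mem_singleton_iff] at hz ⊢
      subst hz
      exact PrimeSpectrum.ext (huniq _ w.2 (Or.inl ((PrimeSpectrum.le_iff_specializes _ _).2 hzw)))
  haveI : Algebra.QuasiFiniteAt p.ResidueField (FlatCA.fiberIdeal p v) :=
    Algebra.QuasiFiniteAt.of_isOpen_singleton x hopen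
  exact Algebra.QuasiFiniteAt.of_quasiFiniteAt_residueField p v (FlatCA.fiberIdeal p v) hcT

end Groth.Agent.S1247
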