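import Groth.Statements.S12471
import Groth.Agent.Lib.SymAlg.PE.Tensor

set_option autoImplicit false
universe u
open CategoryTheory CategoryTheory.Limits AlgebraicGeometry TopologicalSpace Opposite
open scoped HomogeneousIdeal
open EGA2

namespace Groth.Agent.S12471

/-- Let q : X → Y be a morphism of schemes and L an invertible O_X-module which is very ample relative
to q (isomorphic to the inverse image of O(1) along a Y-immersion of X into the projective bundle
P(E) of a quasi-coherent O_Y-module E). Then for every n > 0 the tensor power L^{⊗n} is very ample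
relative to q. -/
theorem result {X Y : Scheme.{u}} (q : X ⟶ Y) (L : X.Modules)
    (hL : PicF.IsInvertible L) (hva : RelProj.IsRelVeryAmple q L) (n : ℕ) (hn : 0 < n) :
    RelProj.IsRelVeryAmple q (CohB1.tensorPow L n) := by
  induction n with
  | zero => exact absurd hn (lt_irrefl 0)
  | succ m ih =>
    rcases Nat.eq_zero_or_pos m with rfl | hm
    · exact Groth.Agent.Lib.SymAlg.PE.isRelVeryAmple_of_iso (Groth.Agent.Lib.TensorMod.Basic.leftUnit L).symm hva
    · obtain ⟨E', hE', v', hg, -⟩ := Groth.Agent.Lib.SymAlg.PE.exists_data hva
      exact Groth.Agent.Lib.SymAlg.PE.isRelVeryAmple_tensor (Groth.Agent.Lib.TensorMod.Invertible.isInvertible_tensorPow hL m) hL (ih hm) hE' v' hg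

end Groth.Agent.S12471
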