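import Groth.Statements.S12476
import Groth.Agent.Lib.H70.BundleBC

set_option autoImplicit false
universe u
open CategoryTheory CategoryTheory.Limits AlgebraicGeometry TopologicalSpace Opposite
open scoped HomogeneousIdeal
open EGA2

namespace Groth.Agent.S12476

/-- Let f : X → Y and g : Y → Z be morphisms of schemes and L an invertible O_X-module which is very
ample relative to the composite X → Y → Z (isomorphic to the inverse image of O(1) along a
Z-immersion of X into the projective bundle of a quasi-coherent O_Z-module). Then L is very ample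
relative to f. -/
theorem result {X Y Z : Scheme.{u}} (f : X ⟶ Y) (g : Y ⟶ Z) (L : X.Modules)
    (hL : PicF.IsInvertible L) (hva : RelProj.IsRelVeryAmple (f ≫ g) L) : RelProj.IsRelVeryAmple f L := by
  obtain ⟨E, hE, 𝒮, j, hj, P, p, chart, hP, O1, lam, hO, i, hi, hif, ⟨eL⟩⟩ := hva
  haveI : E.IsQuasicoherent := hE
  obtain ⟨E', hE', 𝒯, jT, hT, P', p', chart', hP', O1', lam', hO', gP, hpb, ⟨eO⟩⟩ :=
    Groth.Agent.Lib.H70.BundleBC.exists_bc g hj hP hO
  let i' := hpb.lift i f hif
  have h1 : i' ≫ gP = i := hpb.lift_fst _ _ _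
  have h2 : i' ≫ p' = f := hpb.lift_snd _ _ _
  haveI : IsImmersion (i' ≫ gP) := by rw [h1]; exact hi
  haveI : IsImmersion i' := IsImmersion.of_comp i' gP
  refine ⟨E', hE', 𝒯, jT, hT, P', p', chart', hP', O1', lam', hO', i', inferInstance, h2, ⟨?_⟩⟩
  exact eL ≪≫ (Scheme.Modules.pullbackCongr h1.symm).app O1 ≪≫
    ((Scheme.Modules.pullbackComp i' gP).app O1).symm ≪≫ (Scheme.Modules.pullback i').mapIso eO

end Groth.Agent.S12476
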