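import Groth.Statements.S1248
-- import your own Groth.Agent.* helpers here
import Groth.Agent.Lib.FlatCA.ImpurityReduce
import Groth.Agent.Lib.Henselian.Henselization
import Groth.Agent.S1246
import Mathlib.RingTheory.Unramified.LocalStructure

set_option autoImplicit false
universe u
open FlatMor

namespace Groth.Agent.S1248

open TensorProduct

open IsLocalRing in
/-- Ring form, X = Spec B affine: let B be a finite type A-algebra, N a finite B-module and p a prime of
A. If there is an impurity of N above p whose base change ring A' is a henselization of the local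
ring A_p (compatibly with A → A_p) and whose point t is the maximal ideal, then there is an impurity
of N above p for which (A', t) is an elementary étale ring map at p. -/
theorem result {A B : Type u} [CommRing A] [CommRing B] [Algebra A B] [Algebra.FiniteType A B]
    (N : Type u) [AddCommGroup N] [Module B N] [Module.Finite B N] (p : Ideal A) [p.IsPrime]
    (h : FlatCA.HasImpurity A B N p (fun A' _ _ t => ∃ (_ : IsLocalRing A') (_ : Algebra (Localization.AtPrime p) A')
        (_ : IsScalarTower A (Localization.AtPrime p) A') (_ : IsLocalHom (algebraMap (Localization.AtPrime p) A')),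
        Hensel.IsHenselization (Localization.AtPrime p) A' ∧ t = maximalIdeal A')) :
    FlatCA.HasImpurity A B N p (fun A' _ _ t => ∃ _ : t.IsPrime, FlatCA.IsEtaleNhd A A' p t) := by
  classical
  obtain ⟨A', B', N', _, _, _, _, _, _, _, _, _, _, _, _, _, _, f, t', t, _, _, P, _, himp, iL, iA, iT, iH, hH,
    htmax⟩ := h
  haveI := iL
  letI := iA
  haveI := iT
  haveI := iH
  haveI := hH
  haveI := himp.2.2.2.1
  haveI : Algebra.IsPushout A A' B B' := himp.1.symm
  obtain ⟨s, hs, τ, hτ, hmem⟩ : ∃ s ∉ t, ∃ τ ∈ t.map (algebraMap A' B'), algebraMap A' B' s + τ ∈ P := by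
    by_contra hcon
    push Not at hcon
    obtain ⟨P', hP', hle, hl⟩ := Lib.FlatCA.Impurity.exists_prime_over t P hcon
    exact himp.2.2.2.2.2.2 P' hle hl
  obtain ⟨n, a, b, ha, hτe⟩ := Lib.FlatCA.ImpurityReduce.exists_rep (A := A) (B := B) t hτ
  let Ap := Localization.AtPrime p
  let e := Lib.Henselian.Henselization.equivOfIsHenselization Ap A'
  obtain ⟨A₁, _, _, _, φ₁, hφ₁⟩ := Lib.Henselian.Pointed.Lim.exists_etale_range
    (insert (e.symm s) (Finset.univ.image fun i => e.symm (a i)))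
  obtain ⟨s₁, hs₁⟩ := hφ₁ (Finset.mem_insert_self _ _)
  choose a₁ ha₁ using fun i => hφ₁ (Finset.mem_insert_of_mem (Finset.mem_image_of_mem (fun i => e.symm (a i)) (Finset.mem_univ i)))
  letI : Algebra A A₁ := ((algebraMap Ap A₁).comp (algebraMap A Ap)).toAlgebra
  haveI : IsScalarTower A Ap A₁ := .of_algebraMap_eq' rfl
  obtain ⟨gs, hgs⟩ := (inferInstance : Algebra.FiniteType Ap A₁).out
  let C := Algebra.adjoin A ((↑gs : Set A₁) ∪ ({s₁} ∪ Set.range a₁))
  haveI : Algebra.FiniteType A C := ⟨(Subalgebra.fg_top C).2 (by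
    have hf : ((↑gs : Set A₁) ∪ ({s₁} ∪ Set.range a₁)).Finite :=
      gs.finite_toSet.union ((Set.finite_singleton _).union (Set.finite_range _))
    exact ⟨hf.toFinset, by rw [hf.coe_toFinset]⟩)⟩
  let χ : A₁ →ₐ[A] A' := (e.toAlgHom.comp φ₁).restrictScalars A
  letI : Algebra C A' := (χ.comp C.val).toRingHom.toAlgebra
  haveI : IsScalarTower A C A' := IsScalarTower.of_algebraMap_eq (R := A) (S := C) (A := A') fun x =>
    ((χ.comp C.val).commutes x).symm
  have hχs : χ s₁ = s := by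
    show e (φ₁ s₁) = s
    rw [hs₁, AlgEquiv.apply_symm_apply]
  have hχa : ∀ i, χ (a₁ i) = a i := fun i => by
    show e (φ₁ (a₁ i)) = a i
    rw [ha₁ i, AlgEquiv.apply_symm_apply]
  let sC : C := ⟨s₁, Algebra.subset_adjoin (Or.inr (Or.inl rfl))⟩
  let aC : Fin n → C := fun i => ⟨a₁ i, Algebra.subset_adjoin (Or.inr (Or.inr ⟨i, rfl⟩))⟩
  let t₀ := t.comap (algebraMap C A')
  obtain ⟨ψ, hψ₁, hψ₂⟩ : ∃ ψ : C ⊗[A] B →ₐ[A] B',
      (∀ r : C, ψ (r ⊗ₜ 1) = algebraMap A' B' (algebraMap C A' r)) ∧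
      ∀ x : B, ψ ((1 : C) ⊗ₜ x) = algebraMap B B' x := Lib.FlatCA.ImpurityMove.exists_hom C
  have hψt : ∀ (r : C) (x : B), ψ (r ⊗ₜ x) = algebraMap A' B' (χ r.1) * algebraMap B B' x := fun r x => by
    rw [show r ⊗ₜ[A] x = (r ⊗ₜ 1) * ((1 : C) ⊗ₜ x) by simp, map_mul, hψ₁, hψ₂]
    rfl
  have hz : algebraMap C (C ⊗[A] B) sC + ∑ i, aC i ⊗ₜ[A] b i ∈ P.comap ψ.toRingHom := by
    rw [Ideal.mem_comap]
    show ψ (sC ⊗ₜ 1 + ∑ i, aC i ⊗ₜ[A] b i) ∈ P
    rw [map_add, map_sum, hψt, map_one, mul_one, hχs,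
      Finset.sum_congr rfl fun i _ => (hψt (aC i) (b i)).trans (by rw [hχa i])]
    exact hτe ▸ hmem
  have hno : ∀ (Q : Ideal (C ⊗[A] B)) [Q.IsPrime], P.comap ψ.toRingHom ≤ Q → ¬ Q.LiesOver t₀ := fun Q _ hQ hl => by
    have h1 : ∀ i, aC i ⊗ₜ[A] b i ∈ Q := fun i => by
      rw [show aC i ⊗ₜ[A] b i = algebraMap C (C ⊗[A] B) (aC i) * ((1 : C) ⊗ₜ b i) by simp]
      refine Q.mul_mem_right _ ((Ideal.mem_of_liesOver Q t₀ _).1 ?_)
      show χ (a₁ i) ∈ t
      rw [hχa]
      exact ha i
    refine hs ?_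
    have h2 : χ s₁ ∈ t := (Ideal.mem_of_liesOver Q t₀ sC).2
      ((add_mem_cancel_right (sum_mem fun i _ => h1 i)).1 (hQ hz))
    rwa [hχs] at h2
  refine Groth.Agent.S1246.result N p
    (Lib.FlatCA.ImpurityMove.down C himp ψ.toRingHom hψ₁ hψ₂ hno _ ⟨inferInstance, inferInstance, ?_⟩)
  -- the finite type algebra is quasi-finite at the point
  let M := Algebra.algebraMapSubmonoid C p.primeCompl
  have hsurjC : ∀ z : A₁, ∃ c ∈ p.primeCompl, algebraMap A A₁ c * z ∈ C := by
    intro z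
    have hz : z ∈ Algebra.adjoin Ap (gs : Set A₁) := hgs ▸ trivial
    induction hz using Algebra.adjoin_induction with
    | mem x hx => exact ⟨1, one_mem _, by rw [map_one, one_mul]; exact Algebra.subset_adjoin (Or.inl hx)⟩
    | algebraMap r =>
      obtain ⟨x, c, rfl⟩ := IsLocalization.exists_mk'_eq p.primeCompl r
      refine ⟨c, c.2, ?_⟩
      rw [IsScalarTower.algebraMap_apply A Ap A₁, ← map_mul, IsLocalization.mk'_spec', ← IsScalarTower.algebraMap_apply]
      exact C.algebraMap_mem x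
    | add x y _ _ hx hy =>
      obtain ⟨c, hc, hcx⟩ := hx
      obtain ⟨d, hd, hdy⟩ := hy
      refine ⟨c * d, mul_mem hc hd, ?_⟩
      rw [show algebraMap A A₁ (c * d) * (x + y) = algebraMap A A₁ d * (algebraMap A A₁ c * x) +
        algebraMap A A₁ c * (algebraMap A A₁ d * y) by rw [map_mul]; ring]
      exact add_mem (mul_mem (C.algebraMap_mem d) hcx) (mul_mem (C.algebraMap_mem c) hdy)
    | mul x y _ _ hx hy =>
      obtain ⟨c, hc, hcx⟩ := hx
      obtain ⟨d, hd, hdy⟩ := hy
      refine ⟨c * d, mul_mem hc hd, ?_⟩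
      rw [show algebraMap A A₁ (c * d) * (x * y) = (algebraMap A A₁ c * x) * (algebraMap A A₁ d * y) by
        rw [map_mul]; ring]
      exact mul_mem hcx hdy
  haveI : Algebra.QuasiFinite A Ap := .of_isLocalization (S := A) p.primeCompl
  haveI : Algebra.QuasiFinite Ap A₁ := inferInstance
  haveI : Algebra.QuasiFinite A A₁ := .trans A Ap A₁
  let L := Localization.AtPrime t₀
  haveI : IsLocalization M A₁ :=
    { map_units := by
        rintro ⟨_, c, hc, rfl⟩
        show IsUnit (algebraMap A A₁ c)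
        rw [IsScalarTower.algebraMap_apply A Ap A₁]
        exact (IsLocalization.map_units Ap (⟨c, hc⟩ : p.primeCompl)).map _
      surj := fun z => by
        obtain ⟨c, hc, hcz⟩ := hsurjC z
        exact ⟨⟨⟨_, hcz⟩, ⟨algebraMap A C c, c, hc, rfl⟩⟩, mul_comm _ _⟩
      exists_of_eq := fun {x y} hxy => ⟨1, by rw [Subtype.ext hxy]⟩ }
  let F : A₁ →ₐ[A] L := IsLocalization.liftAlgHom (M := M) (f := IsScalarTower.toAlgHom A C L) (by
    rintro ⟨_, c, hc, rfl⟩
    refine IsLocalization.map_units (M := t₀.primeCompl) L ⟨algebraMap A C c, fun h => hc ?_⟩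
    have h' : algebraMap C A' (algebraMap A C c) ∈ t := h
    rw [← IsScalarTower.algebraMap_apply] at h'
    exact (Ideal.mem_of_liesOver t p c).2 h')
  refine Algebra.QuasiFinite.of_forall_exists_mul_mem_range F fun x => ?_
  obtain ⟨x, y, rfl⟩ := IsLocalization.exists_mk'_eq t₀.primeCompl x
  have hF : ∀ z : C, F z.1 = algebraMap C L z := fun z => IsLocalization.lift_eq (M := M) _ z
  refine ⟨y.1.1, ?_, x.1, ?_⟩
  · rw [hF]
    exact IsLocalization.map_units L y
  · show F x.1 = IsLocalization.mk' L x y * F y.1.1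
    rw [hF, hF, IsLocalization.mk'_spec]

end Groth.Agent.S1248
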