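import Groth.Statements.S12482
import Mathlib.RingTheory.Ideal.Cotangent
import Mathlib.RingTheory.Regular.RegularSequence

set_option autoImplicit false
universe u
open Dual

namespace Groth.Agent.S12482
theorem mem_of_relation (A : Type u) [CommRing A] : ∀ (p : ℕ) (x : Fin p → A),
    RingTheory.Sequence.IsWeaklyRegular A (List.ofFn x) → ∀ c : Fin p → A, ∑ i, c i * x i = 0 →
      ∀ i, c i ∈ Ideal.span (Set.range x) := by
  intro p
  induction p with
  | zero => exact fun x _ c _ i => i.elim0
  | succ p ih =>
    intro x hreg c hc
    let x' : Fin p → A := fun i => x i.castSucc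
    have hsub : Ideal.span (Set.range x') ≤ Ideal.span (Set.range x) :=
      Ideal.span_mono (by rintro _ ⟨i, rfl⟩; exact ⟨_, rfl⟩)
    have hl : List.ofFn x = List.ofFn x' ++ [x (Fin.last p)] := by
      rw [List.ofFn_succ', List.concat_eq_append]
    rw [hl, RingTheory.Sequence.isWeaklyRegular_append_iff] at hreg
    obtain ⟨h1, h2⟩ := hreg
    rw [RingTheory.Sequence.isWeaklyRegular_singleton_iff] at h2
    have hJ : (Ideal.ofList (List.ofFn x') • ⊤ : Submodule A A) = Ideal.span (Set.range x') := by
      rw [Ideal.smul_eq_mul, Ideal.mul_top, Ideal.ofList]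
      congr 1
      ext y
      simp [List.mem_ofFn]
    rw [Fin.sum_univ_castSucc] at hc
    have hlast : c (Fin.last p) ∈ Ideal.span (Set.range x') := by
      have hmem : x (Fin.last p) • c (Fin.last p) ∈ (Ideal.ofList (List.ofFn x') • ⊤ : Submodule A A) := by
        rw [hJ, smul_eq_mul, mul_comm, show c (Fin.last p) * x (Fin.last p) = - ∑ i, c i.castSucc * x' i
          from eq_neg_of_add_eq_zero_right hc]
        exact (Ideal.span (Set.range x')).neg_mem (Ideal.sum_mem (Ideal.span (Set.range x')) fun i _ =>
          (Ideal.span _).mul_mem_left _ (Ideal.subset_span (Set.mem_range_self (f := x') i)))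
      have := h2.right_eq_zero_of_smul (x := Submodule.Quotient.mk (c (Fin.last p)))
        (by rw [← Submodule.Quotient.mk_smul, Submodule.Quotient.mk_eq_zero]; exact hmem)
      rw [Submodule.Quotient.mk_eq_zero, hJ] at this
      exact this
    obtain ⟨d, hd⟩ := (Ideal.mem_span_range_iff_exists_fun).mp hlast
    have hrel : ∑ i, (c i.castSucc + d i * x (Fin.last p)) * x' i = 0 := by
      rw [← hc, ← hd, Finset.sum_mul, ← Finset.sum_add_distrib]
      exact Finset.sum_congr rfl fun i _ => by simp only [x']; ring
    intro i
    refine Fin.lastCases ?_ (fun j => ?_) i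
    · exact hsub hlast
    · have := hsub (ih x' h1 _ hrel j)
      have h5 : d j * x (Fin.last p) ∈ Ideal.span (Set.range x) :=
        Ideal.mul_mem_left _ _ (Ideal.subset_span (Set.mem_range_self _))
      simpa using Ideal.sub_mem _ this h5

/-- Let `A` be a commutative ring, `x_1, …, x_p` a sequence of elements of `A` such that each `x_i` is a
non-zero-divisor on `A/(x_1, …, x_{i-1})`, and `J` the ideal generated by the `x_i`. Then `J/J²` is
a free `(A/J)`-module with basis the classes of the `x_i`: there is a basis of `J/J²` over `A/J`,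
indexed by `1, …, p`, whose `i`-th vector is the class of `x_i`. (The other assertions of the
published statement, on the Koszul complex and on Ext and Tor against `A/J`, are stated separately.) -/
theorem result (A : Type u) [CommRing A] (p : ℕ) (x : Fin p → A)
    (hreg : RingTheory.Sequence.IsWeaklyRegular A (List.ofFn x)) :
    ∃ b : Module.Basis (Fin p) (A ⧸ Ideal.span (Set.range x)) (Ideal.span (Set.range x)).Cotangent,
      ∀ i, b i = (Ideal.span (Set.range x)).toCotangent ⟨x i, Ideal.subset_span (Set.mem_range_self i)⟩ := by

  classical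
  let J := Ideal.span (Set.range x)
  let v : Fin p → J.Cotangent := fun i => J.toCotangent ⟨x i, Ideal.subset_span (Set.mem_range_self i)⟩
  have hspan : Submodule.span A (Set.range v) = ⊤ := by
    rw [show v = J.toCotangent ∘ (fun i => (⟨x i, Ideal.subset_span (Set.mem_range_self i)⟩ : J)) from rfl,
      Set.range_comp, Submodule.span_image, ← LinearMap.range_eq_top.mpr J.toCotangent_surjective,
      ← Submodule.map_top]
    congr 1
    apply Submodule.map_injective_of_injective (f := J.subtype) Subtype.val_injective
    rw [Submodule.map_span, Submodule.map_subtype_top, ← Set.range_comp]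
    rfl
  refine ⟨Module.Basis.mk (v := v) ?_ (le_of_eq (Eq.symm ?_)), fun i => Module.Basis.mk_apply _ _ i⟩
  · rw [Fintype.linearIndependent_iff]
    intro c hc i
    choose a ha using fun j => Ideal.Quotient.mk_surjective (c j)
    have h1 : J.toCotangent (∑ j, a j • (⟨x j, Ideal.subset_span (Set.mem_range_self j)⟩ : J)) = 0 := by
      rw [map_sum, ← hc]
      refine Finset.sum_congr rfl fun j _ => ?_
      rw [map_smul, ← ha j]
      rfl
    rw [J.toCotangent_eq_zero] at h1
    have h2 : ∑ j, a j * x j ∈ J ^ 2 := by simpa using h1
    rw [sq] at h2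
    have h3 : J * J = J • Submodule.span A (Set.range x) := rfl
    rw [h3, Submodule.mem_ideal_smul_span_iff_exists_sum] at h2
    obtain ⟨b, hbJ, hb⟩ := h2
    have h4 : ∑ j, (a j - b j) * x j = 0 := by
      have : ∑ j, b j * x j = ∑ j, a j * x j := by
        rw [← hb, Finsupp.sum_fintype _ _ (by simp)]
        rfl
      simp [sub_mul, Finset.sum_sub_distrib, this]
    rw [← ha i, Ideal.Quotient.eq_zero_iff_mem]
    have := mem_of_relation A p x hreg (fun j => a j - b j) h4 i
    simpa using J.add_mem this (hbJ i)
  · refine Submodule.restrictScalars_injective A _ _ ?_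
    rw [Submodule.restrictScalars_top, ← top_le_iff, ← hspan]
    exact Submodule.span_le_restrictScalars A _ _

end Groth.Agent.S12482
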