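import Groth.Statements.S12484
import Groth.Agent.H81.VeryAmple.Sub
import Groth.Agent.Lib.SymAlg.PE.Eventual
import Groth.Agent.Lib.SymAlg.PE.Local
import Groth.Agent.Lib.Ample.RelAmple

set_option autoImplicit false
set_option linter.style.haveILetI false
universe u
open CategoryTheory CategoryTheory.Limits AlgebraicGeometry TopologicalSpace Opposite
open scoped HomogeneousIdeal
open EGA2

namespace Groth.Agent.S12484

/-- Let Y be a scheme which is either quasi-compact and separated or has Noetherian underlying space,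
and let f : X → Y be quasi-projective (of finite type, and some invertible O_X-module is ample
relative to f). Then there are a quasi-coherent O_Y-module E of finite type, its graded symmetric
algebra 𝒯 with projective bundle p : P(E) = Proj(𝒯) → Y (given with its charts over affine opens),
and an immersion i : X → P(E) with i ≫ p = f: X is Y-isomorphic to a sub-scheme of the projective
bundle of a finite-type module. (The converse implication and the third equivalent condition of the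
published statement are not stated here.) -/
theorem result {X Y : Scheme.{u}}
    (hY : (CompactSpace Y ∧ Y.IsSeparated) ∨ TopologicalSpace.NoetherianSpace Y) (f : X ⟶ Y)
    (hf : RelProj.IsQuasiProjective f) :
    ∃ (E : Y.Modules) (𝒯 : RelProj.QCGrAlg Y) (j : E ⟶ 𝒯.toModule) (P : Scheme.{u}) (p : P ⟶ Y)
      (chart : ∀ (U : Y.Opens) (hU : IsAffineOpen U), ((p ⁻¹ᵁ U : P.Opens) : Scheme.{u}) ≅ Proj (𝒯.deg U hU))
      (i : X ⟶ P),
      Coh.IsQCoh E ∧ CohB1.IsFT E ∧ RelProj.IsGrSymAlg E 𝒯 j ∧ RelProj.IsRelProj 𝒯 p chart ∧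
        IsImmersion i ∧ i ≫ p = f := by
  open Groth.Agent.Lib Groth.Agent.H81.VeryAmple SymAlg.PE in
  obtain ⟨hc, hqs⟩ := Sub.qcqs hY
  obtain ⟨_, _, L, hA⟩ := hf
  have hL₀ := Ample.RelAmple.isInvertible_of_isRelAmple hA
  obtain ⟨n₀, hn⟩ := eventually_isRelVeryAmple f L (Coh.structureModule X) hL₀
    (TensorMod.Invertible.isInvertible_tensorPow hL₀ 0) hA
  have hva := isRelVeryAmple_of_iso (TensorMod.Basic.rightUnit _) (hn n₀ le_rfl)
  have hLn := TensorMod.Invertible.isInvertible_tensorPow hL₀ n₀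
  obtain ⟨E₀, hE₀, v₀, hg₀, hI₀⟩ := exists_data hva
  obtain ⟨E, hE, hFT, ι, -, hC⟩ := FTCrit.exists_ft_crit hLn hE₀ v₀ (crit_of_data hg₀ hI₀)
  haveI : E.IsQuasicoherent := hE
  have hj : RelProj.IsGrSymAlg E (SymAlg.Exists.grAlg E) (SymAlg.Exists.jmap E) := SymAlg.Exists.isGrSymAlg E
  let B : Tw Y := Tw.ofAlg (SymAlg.Exists.grAlg E) (SymAlg.Gen.isGenDegOne hj hE)
  obtain ⟨r, hr⟩ := exists_isMapFor (B := B) (hE := hE) hj (ι ≫ v₀) hC.generates
  obtain ⟨τ, hτ⟩ := exists_tau (G := Tw.Gens.ofSym B hE hj) hC.generates hr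
  have heq : ∀ (U : Y.Opens) (hU : IsAffineOpen U) (e : Γ((Tw.Gens.ofSym B hE hj).E, U)),
      gloc (ev (ι ≫ v₀) U e) = r ⁻¹ᵁ B.D hU ((Tw.Gens.ofSym B hE hj).g U e) := fun U hU e => by
    have h1 : ev (ι ≫ v₀) U e = ev (vOf (Tw.Gens.ofSym B hE hj) r hr.hq τ) U e :=
      (hτ U hU e).trans (ev_vOf (Tw.Gens.ofSym B hE hj) r hr.hq τ hU e).symm
    exact (congrArg gloc h1).trans (gloc_vOf _ r hr.hq τ hU e)
  exact ⟨E, B.alg, SymAlg.Exists.jmap E, B.P, B.p, B.chart, r, hE, hFT, hj, B.hP,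
    isImmersion_of_crit (Tw.Gens.ofSym B hE hj) hr heq hC, hr.hq⟩

end Groth.Agent.S12484
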