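import Groth.Statements.S8292
import Groth.Agent.H58VA.AwayPos
-- import your own Groth.Agent.* helpers here

set_option autoImplicit false
universe u
open CategoryTheory CategoryTheory.Limits AlgebraicGeometry Opposite TopologicalSpace
open scoped HomogeneousIdeal
noncomputable section
open EGA2

namespace Groth.Agent.S8292

/-- Let 𝒮 be a quasi-coherent positively graded O_Y-algebra generated by 𝒮_1, M a quasi-coherent
O_Y-module and u : M → 𝒮_1 a surjective module map; let ū : Sym(M) → 𝒮 be the graded algebra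
homomorphism extending u. Then the morphism Proj(𝒮) → P(M) = Proj(Sym(M)) induced by ū is a closed
immersion. -/
theorem result {Y PT PS : Scheme.{u}} (𝒮 𝒯 : RelProj.QCGrAlg Y)
    (hgen : 𝒮.IsGenDegOne) (M : Y.Modules) (hM : Coh.IsQCoh M)
    (u : M ⟶ 𝒮.toModule)
    (hu1 : ∀ (U : Y.Opens) (hU : IsAffineOpen U) (x : Γ(M, U)), (u.app U) x ∈ 𝒮.deg U hU 1)
    (husurj : ∀ (U : Y.Opens) (hU : IsAffineOpen U) (s : 𝒮.presheaf.obj (op U)), s ∈ 𝒮.deg U hU 1 →
      ∃ x : Γ(M, U), (u.app U) x = s)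
    (j : M ⟶ 𝒯.toModule) (hT : RelProj.IsGrSymAlg M 𝒯 j)
    (ubar : 𝒯.toQCAlg ⟶ 𝒮.toQCAlg) (hubar : RelProj.IsGradedHom ubar)
    (hju : j ≫ RelSpec.QCAlg.Hom.toModuleMap ubar = u)
    (hirr : ∀ (U : Y.Opens) (hU : IsAffineOpen U),
      (𝒮.deg U hU)₊ ≤ ((𝒯.deg U hU)₊).map (RelProj.gradedHomAt ubar hubar U hU))
    (pT : PT ⟶ Y) (pS : PS ⟶ Y)
    (chartT : ∀ (U : Y.Opens) (hU : IsAffineOpen U), (((pT ⁻¹ᵁ U : PT.Opens) : Scheme.{u}) ≅ Proj (𝒯.deg U hU)))
    (chartS : ∀ (U : Y.Opens) (hU : IsAffineOpen U), (((pS ⁻¹ᵁ U : PS.Opens) : Scheme.{u}) ≅ Proj (𝒮.deg U hU)))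
    (hPT : RelProj.IsRelProj 𝒯 pT chartT) (hPS : RelProj.IsRelProj 𝒮 pS chartS)
    (h : PS ⟶ PT) (hh : RelProj.IsRelProjMap ubar hubar hirr chartT chartS h) : IsClosedImmersion h := by
  classical
  refine H58VA.AwayPos.relProjMap_of_charts @IsClosedImmersion ubar hubar hirr hPT hPS h hh
    fun U hU => H58VA.AwayPos.isClosedImmersion_map _ (fun n hn b hb => ?_) (hirr U hU)
  let φ := RelProj.gradedHomAt ubar hubar U hU
  let S0 := 𝒮.deg U hU 0
  let K : ℕ → AddSubgroup (𝒮.presheaf.obj (op U)) := fun n =>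
    { carrier := {x | ∀ c ∈ S0, ∃ a ∈ 𝒯.deg U hU n, φ a = x * c}
      zero_mem' := fun c _ => ⟨0, zero_mem _, by rw [map_zero, zero_mul]⟩
      add_mem' := fun {x y} hx hy c hc => by
        obtain ⟨a, ha, e⟩ := hx c hc
        obtain ⟨a', ha', e'⟩ := hy c hc
        exact ⟨a + a', add_mem ha ha', by rw [map_add, e, e', add_mul]⟩
      neg_mem' := fun {x} hx c hc => by
        obtain ⟨a, ha, e⟩ := hx c hc
        exact ⟨-a, neg_mem ha, by rw [map_neg, e, neg_mul]⟩ }
  have hK0 : ∀ (m : ℕ) (x y : 𝒮.presheaf.obj (op U)), x ∈ S0 → y ∈ K m → x * y ∈ K m := by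
    intro m x y hx hy c hc
    obtain ⟨a, ha, e⟩ := hy (x * c) (by simpa only [add_zero] using SetLike.mul_mem_graded hx hc)
    exact ⟨a, ha, e.trans (by ring)⟩
  have hK1 : ∀ x ∈ 𝒮.deg U hU 1, x ∈ K 1 := by
    intro x hx c hc
    obtain ⟨m, hm⟩ := husurj U hU (x * c)
      (by simpa only [add_zero] using SetLike.mul_mem_graded hx hc)
    refine ⟨(j.app U) m, hT.2 U hU m, Eq.trans ?_ hm⟩
    exact congrArg (fun f : M ⟶ _ => f.app U m) hju
  have hKm : ∀ (m k : ℕ) (x y : 𝒮.presheaf.obj (op U)), x ∈ K m → y ∈ K k → x * y ∈ K (m + k) := by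
    intro m k x y hx hy c hc
    obtain ⟨a, ha, e⟩ := hx 1 SetLike.GradedOne.one_mem
    obtain ⟨a', ha', e'⟩ := hy c hc
    exact ⟨a * a', SetLike.mul_mem_graded ha ha', by rw [map_mul, e, e', mul_one, mul_assoc]⟩
  let P : Subring (𝒮.presheaf.obj (op U)) :=
    { carrier := {x | ∀ m, 0 < m → (DirectSum.decompose (𝒮.deg U hU) x m : 𝒮.presheaf.obj (op U)) ∈ K m}
      zero_mem' := fun m _ => by simp
      one_mem' := fun m hm => by
        rw [DirectSum.decompose_of_mem_ne _ SetLike.GradedOne.one_mem hm.ne]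
        exact zero_mem _
      add_mem' := fun {x y} hx hy m hm => by
        rw [DirectSum.decompose_add, DirectSum.add_apply, AddMemClass.coe_add]
        exact add_mem (hx m hm) (hy m hm)
      neg_mem' := fun {x} hx m hm => by
        rw [DirectSum.decompose_neg]
        exact neg_mem (hx m hm)
      mul_mem' := fun {x y} hx hy m hm => by
        rw [DirectSum.decompose_mul, DirectSum.coe_mul_apply]
        refine sum_mem fun ij hij => ?_
        obtain ⟨i, k⟩ := ij
        have hik : i + k = m := (Finset.mem_filter.1 hij).2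
        subst hik
        rcases Nat.eq_zero_or_pos i with rfl | hi
        · rw [zero_add] at hm ⊢
          exact hK0 k _ _ (SetLike.coe_mem _) (hy k hm)
        · rcases Nat.eq_zero_or_pos k with rfl | hk
          · rw [mul_comm, add_zero]
            exact hK0 i _ _ (SetLike.coe_mem _) (hx i hi)
          · exact hKm i k _ _ (hx i hi) (hy k hk) }
  have hP : (⊤ : Subring (𝒮.presheaf.obj (op U))) ≤ P := by
    rw [← hgen U hU, Subring.closure_le]
    rintro x (hx | hx) m hm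
    · rw [DirectSum.decompose_of_mem_ne _ hx hm.ne]
      exact zero_mem _
    · rcases eq_or_ne 1 m with rfl | h1
      · rw [DirectSum.decompose_of_mem_same _ hx]
        exact hK1 x hx
      · rw [DirectSum.decompose_of_mem_ne _ hx h1]
        exact zero_mem _
  have hbK := hP (Subring.mem_top b) n hn
  rw [DirectSum.decompose_of_mem_same _ hb] at hbK
  obtain ⟨a, ha, e⟩ := hbK 1 SetLike.GradedOne.one_mem
  exact ⟨a, ha, e.trans (mul_one b)⟩

end Groth.Agent.S8292
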