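import Groth.Statements.S12485
import Groth.Agent.Lib.H70.DegOne
import Groth.Agent.Lib.H70.TwistComapIso
import Groth.Agent.H81.RelProj.Map
import Groth.Agent.H81.RelProj.Exists
import Groth.Agent.H81.RelProj.RelTwist
import Groth.Agent.S8292

set_option autoImplicit false
universe u
open CategoryTheory CategoryTheory.Limits AlgebraicGeometry TopologicalSpace Opposite
open scoped HomogeneousIdeal
open EGA2

namespace Groth.Agent.S12485

/-- Let q : X → Y be a morphism of schemes and L an invertible O_X-module. Suppose there are a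
quasi-coherent graded O_Y-algebra 𝒮 generated by its degree-one part, its relative homogeneous
spectrum p : P = Proj(𝒮) → Y (given with its charts over affine opens) with twisting sheaf O_P(1)
(given with its chart identifications), and an immersion i : X → P with i ≫ p = q such that L is
isomorphic to i^*O_P(1). Then L is very ample relative to q: there are a quasi-coherent O_Y-module E
and a Y-immersion of X into the projective bundle P(E) along which O_{P(E)}(1) pulls back to a
module isomorphic to L. -/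
theorem result {X Y P : Scheme.{u}} (q : X ⟶ Y) (L : X.Modules)
    (hL : PicF.IsInvertible L) (𝒮 : RelProj.QCGrAlg Y) (h𝒮 : 𝒮.IsGenDegOne) (p : P ⟶ Y)
    (chart : ∀ (U : Y.Opens) (hU : IsAffineOpen U), ((p ⁻¹ᵁ U : P.Opens) : Scheme.{u}) ≅ Proj (𝒮.deg U hU))
    (hP : RelProj.IsRelProj 𝒮 p chart) (O1 : P.Modules)
    (lam : ∀ (U : Y.Opens) (hU : IsAffineOpen U),
      O1 ⟶ (Scheme.Modules.pushforward (RelProj.emb p chart U hU)).obj (GrTwist.twist (𝒮.deg U hU) 1))
    (hO1 : RelProj.IsRelTwist 𝒮 p chart 1 O1 lam) (i : X ⟶ P) [IsImmersion i] (hi : i ≫ p = q)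
    (e : L ≅ (Scheme.Modules.pullback i).obj O1) : RelProj.IsRelVeryAmple q L := by
  open Groth.Agent.H81.RelProj in
  obtain ⟨E, hE, u, hu1, hus, 𝒯, j, hT, ub, hju, hub⟩ := Groth.Agent.Lib.H70.DegOne.exists_sym 𝒮
  haveI : E.IsQuasicoherent := hE
  have hirr : ∀ (U : Y.Opens) (hU : IsAffineOpen U),
      (𝒮.deg U hU)₊ ≤ ((𝒯.deg U hU)₊).map (RelProj.gradedHomAt ub hub U hU) := fun U hU =>
    Groth.Agent.Lib.H70.DegOne.irrelevant_le 𝒮 hU h𝒮 _ fun s hs => by
      obtain ⟨x, rfl⟩ := hus U hU s hs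
      have hx : (ub.hom.app (op U)).hom ((j.app U) x) = (u.app U) x :=
        congrArg (fun f : E ⟶ 𝒮.toModule => f.app U x) hju
      rw [← hx]
      exact Ideal.mem_map_of_mem _ (HomogeneousIdeal.mem_irrelevant_of_mem _ Nat.one_pos (hT.2 U hU x))
  obtain ⟨⟨h, hh, -⟩, hover⟩ := Map.existsUnique ub hub hirr (Exists.isRelProj 𝒯) hP
  haveI := Groth.Agent.S8292.result 𝒮 𝒯 h𝒮 E hE u hu1 hus j hT ub hub hju hirr _ p _ chart (Exists.isRelProj 𝒯) hP h hh
  obtain ⟨O1', lam', hO'⟩ := RelTwist.exists_isRelTwist (Exists.isRelProj 𝒯) 1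
  obtain ⟨ε⟩ := Groth.Agent.Lib.H70.TwistComapIso.exists_iso ub hub (Groth.Agent.Lib.SymAlg.Gen.isGenDegOne hT inferInstance) hirr
    _ p _ chart (Exists.isRelProj 𝒯) hP h hh 1 O1' lam' hO' O1 lam hO1
  refine ⟨E, hE, 𝒯, j, hT, _, _, _, Exists.isRelProj 𝒯, O1', lam', hO', i ≫ h, inferInstance, ?_, ⟨?_⟩⟩
  · rw [Category.assoc, hover h hh, hi]
  · exact e ≪≫ (Scheme.Modules.pullback i).mapIso ε.symm ≪≫ (Scheme.Modules.pullbackComp i h).app O1'

end Groth.Agent.S12485
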