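import Groth.Statements.S12491
import Groth.Agent.Lib.Regular.Serre
import Mathlib.RingTheory.Ideal.Height
import Mathlib.Algebra.Module.LocalizedModule.Exact
import Mathlib.RingTheory.LocalRing.Module

set_option autoImplicit false
universe u
open VBPn

namespace Groth.Agent.S12491

open Groth.Agent.Lib.Regular.PD

theorem syz {A F M : Type u} [CommRing A] [AddCommGroup F] [Module A F] [AddCommGroup M] [Module A M]
    [Module.Free A F] (p : Ideal A) [p.IsPrime] (f : F →ₗ[A] M) (hf : Function.Surjective f)
    {Z : Submodule A F} (hZ : LinearMap.ker f = Z) (n : ℕ)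
    (h : PDle (Localization.AtPrime p) (LocalizedModule p.primeCompl M) (n + 1)) :
    PDle (Localization.AtPrime p) (LocalizedModule p.primeCompl Z) n := by
  subst hZ
  haveI : Module.Projective (Localization.AtPrime p) (LocalizedModule p.primeCompl F) :=
    Module.projective_of_isLocalizedModule p.primeCompl (LocalizedModule.mkLinearMap p.primeCompl F)
  have hsurj : Function.Surjective (LocalizedModule.map p.primeCompl f) :=
    IsLocalizedModule.map_surjective p.primeCompl (LocalizedModule.mkLinearMap _ _) (LocalizedModule.mkLinearMap _ _) f hf
  have hinj : Function.Injective (LocalizedModule.map p.primeCompl (LinearMap.ker f).subtype) :=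
    IsLocalizedModule.map_injective p.primeCompl (LocalizedModule.mkLinearMap _ _) (LocalizedModule.mkLinearMap _ _) _ Subtype.val_injective
  have hex : Function.Exact (LocalizedModule.map p.primeCompl (LinearMap.ker f).subtype) (LocalizedModule.map p.primeCompl f) :=
    LocalizedModule.map_exact p.primeCompl (LinearMap.ker f).subtype f (LinearMap.exact_subtype_ker_map f)
  exact pdle_of_equiv ((LinearEquiv.ofEq _ _ (LinearMap.exact_iff.mp hex)).trans (LinearEquiv.ofInjective _ hinj).symm)
    ((pdle_succ_iff hsurj n).mp h)


/-- Let A be a regular local ring, k ≥ 0, and N_0, N_1, … A-modules with N_0 finitely generated and N_1,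
…, N_k finitely generated and free, with linear maps d_i : N_i → N_{i+1} such that d_0 is injective
and the sequence 0 → N_0 → N_1 → ⋯ → N_k is exact. Then for every prime ideal p of A of height at
most k the localization of N_0 at p is a free module over A_p. The published statement is for a
coherent analytic sheaf on a complex manifold that is locally a k-th syzygy sheaf and says its set
of non-free stalks has codimension greater than k; this row is the statement at one stalk, over any
regular local ring. -/
theorem result (A : Type u) [CommRing A] [IsRegularLocalRing A]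
    (k : ℕ) (N : ℕ → Type u) [∀ i, AddCommGroup (N i)] [∀ i, Module A (N i)] [Module.Finite A (N 0)]
    (hfree : ∀ i, 1 ≤ i → i ≤ k → Module.Free A (N i) ∧ Module.Finite A (N i))
    (d : ∀ i, N i →ₗ[A] N (i + 1)) (hinj : Function.Injective (d 0))
    (hex : ∀ i, i + 1 < k → LinearMap.range (d i) = LinearMap.ker (d (i + 1)))
    (p : Ideal A) [p.IsPrime] (hp : p.height ≤ k) :
    Module.Free (Localization.AtPrime p) (LocalizedModule p.primeCompl (N 0)) := by
  haveI : IsRegularLocalRing (Localization.AtPrime p) := Groth.Agent.Lib.Regular.Serre.isRegularLocalRing_localization p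
  set B := Localization.AtPrime p
  haveI : Module.Finite B (LocalizedModule p.primeCompl (N 0)) :=
    Module.Finite.of_isLocalizedModule p.primeCompl (LocalizedModule.mkLinearMap p.primeCompl (N 0))
  suffices h : PDle B (LocalizedModule p.primeCompl (N 0)) 0 by
    haveI := pdle_zero_iff.mp h
    exact Module.free_of_flat_of_isLocalRing
  have hs : (IsLocalRing.maximalIdeal B).spanFinrank ≤ k := by
    have h1 := IsRegularLocalRing.spanFinrank_maximalIdeal (R := B)
    rw [IsLocalization.AtPrime.ringKrullDim_eq_height p B] at h1
    have h2 : (p.height : WithBot ℕ∞) ≤ (k : ℕ∞) := WithBot.coe_le_coe.mpr hp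
    rw [← h1] at h2
    exact_mod_cast h2
  rcases Nat.eq_zero_or_pos k with rfl | hk
  · exact pdle_mono (Groth.Agent.Lib.Regular.Serre.pdle_all _) (by omega)
  suffices hkey : ∀ m j, j + m + 1 = k → PDle B (LocalizedModule p.primeCompl (LinearMap.range (d j))) j by
    have h0 := hkey (k - 1) 0 (by omega)
    let e := LinearEquiv.ofInjective (d 0) hinj
    refine pdle_of_equiv (LinearEquiv.ofBijective (LocalizedModule.map p.primeCompl e.symm.toLinearMap)
      ⟨IsLocalizedModule.map_injective p.primeCompl (LocalizedModule.mkLinearMap _ _) (LocalizedModule.mkLinearMap _ _) _ e.symm.injective,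
        IsLocalizedModule.map_surjective p.primeCompl (LocalizedModule.mkLinearMap _ _) (LocalizedModule.mkLinearMap _ _) _ e.symm.surjective⟩) h0
  intro m
  induction m with
  | zero =>
    intro j hj
    obtain rfl : k = j + 1 := by omega
    obtain ⟨hF, hfin⟩ := hfree (j + 1) (by omega) le_rfl
    haveI := hF; haveI := hfin
    refine syz p (Submodule.mkQ (LinearMap.range (d j))) (Submodule.mkQ_surjective _) (Submodule.ker_mkQ _) j ?_
    haveI : Module.Finite B (LocalizedModule p.primeCompl (N (j + 1) ⧸ LinearMap.range (d j))) :=
      Module.Finite.of_isLocalizedModule p.primeCompl (LocalizedModule.mkLinearMap p.primeCompl _)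
    exact pdle_mono (Groth.Agent.Lib.Regular.Serre.pdle_all _) hs
  | succ m ih =>
    intro j hj
    obtain ⟨hF, hfin⟩ := hfree (j + 1) (by omega) (by omega)
    haveI := hF; haveI := hfin
    refine syz p (d (j + 1)).rangeRestrict (d (j + 1)).surjective_rangeRestrict ?_ j (ih (j + 1) (by omega))
    rw [LinearMap.ker_rangeRestrict]
    exact (hex j (by omega)).symm

end Groth.Agent.S12491
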