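import Groth.Statements.S12498
import Mathlib.LinearAlgebra.TensorProduct.Quotient
import Mathlib.Tactic.LinearCombination

set_option autoImplicit false
universe u
open Deform

namespace Groth.Agent.S12498

/-- Let k be an algebraically closed field, A a local Artinian k-algebra with residue field k, and t a
nonzero element of the maximal ideal m_A annihilated by m_A, so that A → A/tA is a small extension.
Let B be a flat A-algebra (a deformation over A of its closed fibre B_0 = B/m_A B), and σ an
A-algebra automorphism of B/tB inducing the identity on B_0. Fix an A-algebra automorphism τ of B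
inducing σ (so τ induces the identity on B_0). Then the A-algebra automorphisms η of B inducing σ
correspond bijectively to the k-derivations d of B_0 through the rule η = τ + t·d, meaning η(b) =
τ(b) + t b′ for all b ∈ B and all b′ ∈ B lifting d applied to the image of b in B_0: every such η
determines a unique d, and every d comes from some such η. (The published statement phrases the
conclusion as a free and transitive action of Der_k(B_0, B_0) on the nonempty set of lifts of σ; the
condition that σ induces the identity on B_0 is expressed here through the chosen lift τ.) -/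
theorem result
    {k : Type u} [Field k] [IsAlgClosed k]
    {A : Type u} [CommRing A] [Algebra k A] [IsLocalRing A] [IsArtinianRing A]
    (hres : ∀ a : A, ∃ c : k, a - algebraMap k A c ∈ IsLocalRing.maximalIdeal A)
    (t : A) (ht : t ∈ IsLocalRing.maximalIdeal A) (ht0 : t ≠ 0)
    (htm : ∀ a ∈ IsLocalRing.maximalIdeal A, a * t = 0)
    {B : Type u} [CommRing B] [Algebra A B] [Module.Flat A B] [Algebra k B] [IsScalarTower k A B]
    (σ : (B ⧸ Ideal.span {algebraMap A B t}) ≃ₐ[A] (B ⧸ Ideal.span {algebraMap A B t}))
    (τ : B ≃ₐ[A] B)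
    (hτ : ∀ b : B, Ideal.Quotient.mk (Ideal.span {algebraMap A B t}) (τ b) =
      σ (Ideal.Quotient.mk (Ideal.span {algebraMap A B t}) b))
    (hτ0 : ∀ b : B, τ b - b ∈ (IsLocalRing.maximalIdeal A).map (algebraMap A B)) :
    (∀ η : B ≃ₐ[A] B, (∀ b : B, Ideal.Quotient.mk (Ideal.span {algebraMap A B t}) (η b) =
        σ (Ideal.Quotient.mk (Ideal.span {algebraMap A B t}) b)) →
      ∃! d : Derivation k (B ⧸ (IsLocalRing.maximalIdeal A).map (algebraMap A B))
          (B ⧸ (IsLocalRing.maximalIdeal A).map (algebraMap A B)),
        ∀ b b' : B, Ideal.Quotient.mk ((IsLocalRing.maximalIdeal A).map (algebraMap A B)) b' =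
            d (Ideal.Quotient.mk ((IsLocalRing.maximalIdeal A).map (algebraMap A B)) b) →
          η b = τ b + algebraMap A B t * b') ∧
    (∀ d : Derivation k (B ⧸ (IsLocalRing.maximalIdeal A).map (algebraMap A B))
        (B ⧸ (IsLocalRing.maximalIdeal A).map (algebraMap A B)),
      ∃ η : B ≃ₐ[A] B, (∀ b : B, Ideal.Quotient.mk (Ideal.span {algebraMap A B t}) (η b) =
          σ (Ideal.Quotient.mk (Ideal.span {algebraMap A B t}) b)) ∧
        ∀ b b' : B, Ideal.Quotient.mk ((IsLocalRing.maximalIdeal A).map (algebraMap A B)) b' =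
            d (Ideal.Quotient.mk ((IsLocalRing.maximalIdeal A).map (algebraMap A B)) b) →
          η b = τ b + algebraMap A B t * b') := by
  let mA := IsLocalRing.maximalIdeal A
  let mB : Ideal B := mA.map (algebraMap A B)
  let T : B := algebraMap A B t
  have hTm : ∀ x ∈ mB, T * x = 0 := by
    intro x hx
    let P : Ideal B := LinearMap.ker (LinearMap.mulLeft B T)
    have hle : mB ≤ P := by
      refine Ideal.map_le_iff_le_comap.2 fun a ha => ?_
      show T * algebraMap A B a = 0
      rw [← map_mul, mul_comm, htm a ha, map_zero]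
    exact hle hx
  have hT0 : T ∈ mB := Ideal.mem_map_of_mem _ ht
  have hker : ∀ x : B, T * x = 0 → x ∈ mB := by
    intro x hx
    have hle : mA ≤ LinearMap.ker (LinearMap.toSpanSingleton A A t) := fun a ha => by
      simpa using htm a ha
    let f : (A ⧸ mA) →ₗ[A] A := Submodule.liftQ mA (LinearMap.toSpanSingleton A A t) hle
    have hfinj : Function.Injective f := by
      rw [injective_iff_map_eq_zero]
      intro a ha
      obtain ⟨a, rfl⟩ := Ideal.Quotient.mk_surjective a
      by_contra hne
      have hu : IsUnit a := IsLocalRing.notMem_maximalIdeal.1 fun h => hne (Ideal.Quotient.eq_zero_iff_mem.2 h)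
      have ha' : a * t = 0 := ha
      exact ht0 (hu.mul_right_eq_zero.1 ha')
    have h1 : LinearMap.rTensor B f ((1 : A ⧸ mA) ⊗ₜ[A] x) = 0 := by
      have h2 : f 1 = t := by
        show f (Ideal.Quotient.mk mA 1) = t
        exact one_mul t
      rw [LinearMap.rTensor_tmul, h2, ← mul_one t, ← smul_eq_mul, TensorProduct.smul_tmul,
        Algebra.smul_def]
      rw [show algebraMap A B t * x = 0 from hx, TensorProduct.tmul_zero]
    have h3 : (1 : A ⧸ mA) ⊗ₜ[A] x = 0 :=
      Module.Flat.rTensor_preserves_injective_linearMap f hfinj (h1.trans (map_zero _).symm)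
    have h4 := congrArg (TensorProduct.quotTensorEquivQuotSMul B mA) h3
    rw [map_zero, ← map_one (Ideal.Quotient.mk mA), TensorProduct.quotTensorEquivQuotSMul_mk_tmul mA 1 x, one_smul,
      Submodule.Quotient.mk_eq_zero, Ideal.smul_top_eq_map] at h4
    exact h4
  have hcongr : ∀ x y : B, x - y ∈ mB → T * x = T * y := fun x y h => by
    rw [← sub_eq_zero, ← mul_sub]; exact hTm _ h
  constructor
  · intro η hη
    have hex : ∀ b, ∃ g : B, η b - τ b = T * g := fun b => by
      have h := Ideal.Quotient.eq.1 ((hη b).trans (hτ b).symm)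
      obtain ⟨g, hg⟩ := Ideal.mem_span_singleton.1 h
      exact ⟨g, hg⟩
    choose g hg using hex
    have key : ∀ b g', η b - τ b = T * g' →
        Ideal.Quotient.mk mB g' = Ideal.Quotient.mk mB (g b) := fun b g' h => by
      rw [Ideal.Quotient.eq]
      exact hker _ (by rw [mul_sub, ← h, ← hg, sub_self])
    have hwd : ∀ b b', b - b' ∈ mB → Ideal.Quotient.mk mB (g b) = Ideal.Quotient.mk mB (g b') := by
      intro b b' h
      refine key b' (g b) ?_
      have hz : ∀ x ∈ mB, η x - τ x = 0 := fun x hx => by
        change x ∈ Ideal.map (algebraMap A B) mA at hx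
        refine Submodule.span_induction (p := fun x _ => η x - τ x = 0) ?_ (by simp)
          (fun p q _ _ hp hq => ?_) (fun r p _ hp => ?_) hx
        · rintro _ ⟨a, -, rfl⟩
          rw [AlgEquiv.commutes, AlgEquiv.commutes, sub_self]
        · rw [map_add, map_add, add_sub_add_comm, hp, hq, add_zero]
        · rename_i hp'
          rw [sub_eq_zero] at hp
          rw [smul_eq_mul, map_mul, map_mul, ← hp, ← sub_mul, hg r, mul_comm T, mul_assoc]
          have : η p ∈ mB := by
            have hp2 : τ p - p ∈ mB := hτ0 p
            rw [hp]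
            simpa using mB.add_mem hp2 hp'
          rw [hTm _ this, mul_zero]
      have h2 := hz _ h
      rw [map_sub, map_sub, sub_sub_sub_comm, sub_eq_zero] at h2
      rw [← h2, hg]
    have hsur := Ideal.Quotient.mk_surjective (I := mB)
    choose s hs using hsur
    have hd : ∀ b, Ideal.Quotient.mk mB (g (s (Ideal.Quotient.mk mB b))) = Ideal.Quotient.mk mB (g b) :=
      fun b => hwd _ _ (Ideal.Quotient.eq.1 (hs _))
    let dl : (B ⧸ mB) →ₗ[k] (B ⧸ mB) :=
      { toFun := fun x => Ideal.Quotient.mk mB (g (s x))
        map_add' := fun x y => by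
          obtain ⟨a, rfl⟩ := Ideal.Quotient.mk_surjective x
          obtain ⟨b, rfl⟩ := Ideal.Quotient.mk_surjective y
          rw [← map_add (Ideal.Quotient.mk mB), hd, hd, hd, ← map_add (Ideal.Quotient.mk mB)]
          refine (key _ _ ?_).symm
          rw [map_add, map_add, add_sub_add_comm, hg, hg, mul_add]
        map_smul' := fun c x => by
          obtain ⟨a, rfl⟩ := Ideal.Quotient.mk_surjective x
          have hmk : ∀ z, c • Ideal.Quotient.mk mB z = Ideal.Quotient.mk mB (c • z) := fun z => rfl
          rw [RingHom.id_apply, hmk, hd, hd, hmk]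
          refine (key _ _ ?_).symm
          rw [← algebraMap_smul A c a, ← algebraMap_smul A c (g a), Algebra.smul_def,
            Algebra.smul_def, map_mul, map_mul, AlgEquiv.commutes, AlgEquiv.commutes, ← mul_sub, hg]
          ring }
    let D : Derivation k (B ⧸ mB) (B ⧸ mB) := Derivation.mk' dl fun x y => by
      obtain ⟨a, rfl⟩ := Ideal.Quotient.mk_surjective x
      obtain ⟨b, rfl⟩ := Ideal.Quotient.mk_surjective y
      show Ideal.Quotient.mk mB (g (s (Ideal.Quotient.mk mB a * Ideal.Quotient.mk mB b))) =
        Ideal.Quotient.mk mB a * Ideal.Quotient.mk mB (g (s (Ideal.Quotient.mk mB b))) +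
          Ideal.Quotient.mk mB b * Ideal.Quotient.mk mB (g (s (Ideal.Quotient.mk mB a)))
      rw [← map_mul, hd, hd, hd, ← map_mul, ← map_mul, ← map_add]
      refine (key _ _ ?_).symm
      have ha := hg a
      have hb := hg b
      have h1 : T * (τ a * g b) = T * (a * g b) := hcongr _ _ (by
        rw [← sub_mul]; exact mB.mul_mem_right _ (hτ0 a))
      have h2 : T * (η b * g a) = T * (b * g a) := hcongr _ _ (by
        rw [← sub_mul]
        refine mB.mul_mem_right _ ?_
        have e : η b - b = T * g b + (τ b - b) := by rw [← hb]; abel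
        rw [e]
        exact mB.add_mem (mB.mul_mem_right _ hT0) (hτ0 b))
      rw [map_mul, map_mul, mul_add]
      linear_combination h1 + h2 + (η b) * ha + (τ a) * hb
    refine ⟨D, fun b b' hb' => ?_, fun d hd' => Derivation.ext fun x => ?_⟩
    · have : Ideal.Quotient.mk mB b' = Ideal.Quotient.mk mB (g b) := hb'.trans (hd b)
      have h := hcongr _ _ (Ideal.Quotient.eq.1 this)
      show η b = τ b + T * b'
      rw [h, ← hg]
      ring
    · obtain ⟨a, rfl⟩ := Ideal.Quotient.mk_surjective x
      obtain ⟨b', hb'⟩ := Ideal.Quotient.mk_surjective (d (Ideal.Quotient.mk mB a))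
      have h := hd' a b' hb'
      refine Eq.trans hb'.symm ?_
      rw [key a b' (by rw [h]; ring)]
      exact (hd a).symm
  · intro d
    have hsur := Ideal.Quotient.mk_surjective (I := mB)
    choose s hs using hsur
    let δ : B → B := fun b => T * s (d (Ideal.Quotient.mk mB b))
    have hδ : ∀ b b', Ideal.Quotient.mk mB b' = d (Ideal.Quotient.mk mB b) → δ b = T * b' :=
      fun b b' h => hcongr _ _ (Ideal.Quotient.eq.1 ((hs _).trans h.symm))
    have hδadd : ∀ a b, δ (a + b) = δ a + δ b := fun a b => by
      rw [hδ (a + b) (s (d (Ideal.Quotient.mk mB a)) + s (d (Ideal.Quotient.mk mB b)))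
        (by rw [map_add, hs, hs, map_add, map_add]), mul_add]
    have hδmul : ∀ a b, δ (a * b) = a * δ b + b * δ a := fun a b => by
      rw [hδ (a * b) (a * s (d (Ideal.Quotient.mk mB b)) + b * s (d (Ideal.Quotient.mk mB a)))
        (by rw [map_add, map_mul, map_mul, map_mul, hs, hs, Derivation.leibniz]; rfl)]
      simp only [δ]
      ring
    have hδalg : ∀ a : A, δ (algebraMap A B a) = 0 := fun a => by
      obtain ⟨c, hc⟩ := hres a
      have e : Ideal.Quotient.mk mB (algebraMap A B a) = algebraMap k (B ⧸ mB) c := by
        rw [IsScalarTower.algebraMap_apply k B (B ⧸ mB), Ideal.Quotient.algebraMap_eq,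
          Ideal.Quotient.eq, IsScalarTower.algebraMap_apply k A B, ← map_sub]
        exact Ideal.mem_map_of_mem _ hc
      rw [hδ _ 0 (by rw [e, Derivation.map_algebraMap, map_zero]), mul_zero]
    have hδcongr : ∀ a b, a - b ∈ mB → δ a = δ b := fun a b h => by
      simp only [δ]; rw [Ideal.Quotient.eq.2 h]
    have hδm : ∀ b, δ b ∈ mB := fun b => mB.mul_mem_right _ hT0
    have hδδ : ∀ b, δ (δ b) = 0 := fun b => by
      rw [hδ _ 0 (by rw [Ideal.Quotient.eq_zero_iff_mem.2 (hδm b), map_zero, map_zero]), mul_zero]
    have hTT : ∀ a b, δ a * δ b = 0 := fun a b => by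
      show T * s (d (Ideal.Quotient.mk mB a)) * δ b = 0
      rw [mul_assoc]
      exact hTm _ (mB.mul_mem_left _ (hδm b))
    have hτδ : ∀ a b, τ a * δ b = a * δ b := fun a b => by
      have := hcongr (τ a * s (d (Ideal.Quotient.mk mB b))) (a * s (d (Ideal.Quotient.mk mB b)))
        (by rw [← sub_mul]; exact mB.mul_mem_right _ (hτ0 a))
      simp only [δ]
      linear_combination this
    have hτδ' : ∀ b, τ (δ b) = δ b := fun b => by
      show τ (algebraMap A B t * _) = T * _
      rw [map_mul, AlgEquiv.commutes]
      exact hcongr _ _ (hτ0 _)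
    let E : B →ₐ[A] B :=
      { toFun := fun b => τ b + δ b
        map_one' := by
          have := hδalg 1
          rw [map_one] at this
          rw [map_one, this, add_zero]
        map_mul' := fun a b => by
          rw [map_mul, hδmul]
          linear_combination (-1 : B) * hτδ a b - hτδ b a - hTT a b
        map_zero' := by
          have := hδalg 0
          rw [map_zero] at this
          rw [map_zero, this, add_zero]
        map_add' := fun a b => by rw [map_add, hδadd]; ring
        commutes' := fun a => by rw [AlgEquiv.commutes, hδalg, add_zero] }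
    have hinvm : ∀ b, τ.symm b - b ∈ mB := fun b => by
      have h := mB.neg_mem (hτ0 (τ.symm b))
      rwa [AlgEquiv.apply_symm_apply, neg_sub] at h
    have hbij : Function.Bijective E := by
      refine Function.bijective_iff_has_inverse.2 ⟨fun b => τ.symm b - δ b, fun b => ?_, fun b => ?_⟩
      · show τ.symm (τ b + δ b) - δ (τ b + δ b) = b
        have h : τ.symm (δ b) = δ b := by rw [AlgEquiv.symm_apply_eq, hτδ']
        rw [map_add, AlgEquiv.symm_apply_apply, h, hδadd, hδδ, hδcongr _ _ (hτ0 b)]
        ring
      · show τ (τ.symm b - δ b) + δ (τ.symm b - δ b) = b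
        have h : δ (τ.symm b - δ b) = δ b := hδcongr _ _ (by
          have := mB.sub_mem (hinvm b) (hδm b)
          rwa [sub_right_comm] at this)
        rw [map_sub, AlgEquiv.apply_symm_apply, hτδ', h]
        ring
    refine ⟨AlgEquiv.ofBijective E hbij, fun b => ?_, fun b b' h => ?_⟩
    · rw [← hτ b]
      show Ideal.Quotient.mk _ (τ b + δ b) = _
      rw [map_add, add_eq_left, Ideal.Quotient.eq_zero_iff_mem]
      exact Ideal.mem_span_singleton'.2 ⟨_, mul_comm _ _⟩
    · show τ b + δ b = τ b + T * b'
      rw [hδ b b' h]

end Groth.Agent.S12498
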