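import Groth.Statements.S1250
import Groth.Agent.Lib.RG.ElemData
import Groth.Agent.Lib.RG.OpenFlat
import Mathlib.Tactic.TFAE
-- import your own Groth.Agent.* helpers here

set_option autoImplicit false
universe u
open FlatMor

namespace Groth.Agent.S1250

/-- Given an elementary dévissage E of N at q over p in dimension n, the following are equivalent: N_q
is flat over R; G_z is flat over R'; G_y (G viewed as a D-module) is flat over R'. Also equivalent
to each other: N becomes flat over R on some basic open D(g) ∋ q of Spec S; G becomes flat over R'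
on some basic open of Spec C containing z; G as a D-module becomes flat over R' on some basic open
of Spec D containing y. -/
theorem result {R S : Type u} [CommRing R] [CommRing S] [Algebra R S] [Algebra.FiniteType R S]
    (N : Type u) [AddCommGroup N] [Module S N] [Module R N] [IsScalarTower R S N] [Module.Finite S N]
    (p : Ideal R) [p.IsPrime] (q : Ideal S) [q.IsPrime] [q.LiesOver p] (n : ℕ) (E : FlatCA.ElemDevissage R S N p q n) :
    [FlatCA.FlatAt R q N, FlatCA.FlatAt E.R' E.z E.G, FlatCA.FlatAt E.R' E.y E.G].TFAE ∧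
    [∃ g : S, g ∉ q ∧ Module.Flat R (LocalizedModule (Submonoid.powers g) N),
     ∃ g : E.C, g ∉ E.z ∧ Module.Flat E.R' (LocalizedModule (Submonoid.powers g) E.G),
     ∃ g : E.D, g ∉ E.y ∧ Module.Flat E.R' (LocalizedModule (Submonoid.powers g) E.G)].TFAE := by
  classical
  obtain ⟨_, _, _, _, _, _, _, f, hf⟩ := Lib.RG.ElemData.exists_base E
  obtain ⟨hetR, hp'p, -⟩ := E.etaleR
  obtain ⟨hetS, hq'q, -⟩ := E.etaleS
  haveI := hetR
  haveI := hetS
  haveI := hq'q
  haveI := E.finiteDC
  haveI : Module.Flat R E.R' := inferInstance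
  haveI : Module.Flat S E.S' := inferInstance
  haveI : Algebra.IsIntegral E.D E.C := Algebra.IsIntegral.of_finite _ _
  have hzy : ∀ d, algebraMap E.D E.C d ∈ E.z ↔ d ∈ E.y := fun d => by rw [E.z.over_def E.y]; rfl
  have hzq : ∀ w, algebraMap E.S' E.C w ∈ E.z ↔ w ∈ E.q' := fun w => by rw [E.z.over_def E.q']; rfl
  have hur : ∀ (w : Ideal E.S') [w.IsPrime], Module.Flat R (LocalizedModule w.primeCompl E.G) →
      Module.Flat E.R' (LocalizedModule w.primeCompl E.G) := by
    intro w _ h
    haveI : IsScalarTower R E.R' (LocalizedModule w.primeCompl E.G) :=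
      IsScalarTower.of_algebraMap_smul fun r x => by
        rw [← algebraMap_smul E.S' (algebraMap R E.R' r) x, ← IsScalarTower.algebraMap_apply, algebraMap_smul]
    exact Algebra.FormallyUnramified.flat_of_restrictScalars (R := R) (S := E.R') _
  have hru : ∀ (w : Ideal E.S') [w.IsPrime], Module.Flat E.R' (LocalizedModule w.primeCompl E.G) →
      Module.Flat R (LocalizedModule w.primeCompl E.G) := by
    intro w _ h
    haveI : IsScalarTower R E.R' (LocalizedModule w.primeCompl E.G) :=
      IsScalarTower.of_algebraMap_smul fun r x => by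
        rw [← algebraMap_smul E.S' (algebraMap R E.R' r) x, ← IsScalarTower.algebraMap_apply, algebraMap_smul]
    exact Module.Flat.trans R E.R' _
  have hC : ∀ (z₁ : Ideal E.C) [z₁.IsPrime] (w : Ideal E.S') [w.IsPrime], z₁.comap (algebraMap E.S' E.C) = w →
      Module.Flat E.R' (LocalizedModule w.primeCompl E.G) →
      Module.Flat E.R' (LocalizedModule z₁.primeCompl E.G) := by
    rintro z₁ _ _ _ rfl h
    refine (H19.FlatLocus.flat_iff_killed z₁.primeCompl (LocalizedModule.mkLinearMap z₁.primeCompl E.G)).2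
      fun J ξ hξ => ?_
    obtain ⟨w, hw, hwξ⟩ := (H19.FlatLocus.flat_iff_killed (z₁.comap (algebraMap E.S' E.C)).primeCompl
      (LocalizedModule.mkLinearMap (z₁.comap (algebraMap E.S' E.C)).primeCompl E.G)).1 h J ξ hξ
    exact ⟨algebraMap E.S' E.C w, hw, by rw [algebraMap_smul]; exact hwξ⟩
  constructor
  · tfae_have 1 → 2 := fun h =>
      hC E.z E.q' (E.z.over_def E.q').symm (hur E.q' (Lib.RG.FibrePoint.flatAt_up f hf q E.q' (E.q'.over_def q).symm h))
    tfae_have 2 → 3 := fun h => by
      refine Lib.RG.DevTools.flatAt_of_forall_over (R := E.R') (C := E.C) E.y fun z₁ hz₁ h1 => ?_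
      obtain rfl := E.uniq z₁ ⟨h1.symm⟩
      exact h
    tfae_have 3 → 1 := fun h => by
      refine Lib.RG.FibrePoint.flatAt_down f hf q E.q' (E.q'.over_def q).symm (hru E.q' ?_)
      refine (H19.FlatLocus.flat_iff_killed E.q'.primeCompl (LocalizedModule.mkLinearMap E.q'.primeCompl E.G)).2
        fun J ξ hξ => ?_
      obtain ⟨d, hd, hdξ⟩ := (H19.FlatLocus.flat_iff_killed E.y.primeCompl
        (LocalizedModule.mkLinearMap E.y.primeCompl E.G)).1 h J ξ hξ
      obtain ⟨w, hw⟩ := E.surjC (algebraMap E.D E.C d)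
      refine ⟨w, fun hwq => hd ((hzy d).1 (hw ▸ (hzq w).2 hwq)), ?_⟩
      rw [← algebraMap_smul E.C w ξ, hw, algebraMap_smul]
      exact hdξ
    tfae_finish
  · tfae_have 1 → 2 := fun ⟨g, hg, h⟩ => by
      let c := algebraMap E.S' E.C (algebraMap S E.S' g)
      refine ⟨c, fun hc => hg (by rw [E.q'.over_def q]; exact (hzq _).1 hc),
        Lib.RG.OpenFlat.flat_away_of_forall c fun z₁ hz₁ hcz => hC z₁ _ rfl (hur _ ?_)⟩
      exact Lib.RG.FibrePoint.flatAt_up f hf ((z₁.comap (algebraMap E.S' E.C)).comap (algebraMap S E.S')) _ rfl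
        (Lib.RG.OpenFlat.flatAt_of_away g _ hcz h)
    tfae_have 2 → 3 := fun ⟨c, hc, h⟩ => by
      obtain ⟨d, hd, hdc⟩ := Lib.RG.ElemData.exists_notMem_mem E c hc
      refine ⟨d, hd, Lib.RG.OpenFlat.flat_away_of_forall d fun Q hQ hdQ => ?_⟩
      refine Lib.RG.DevTools.flatAt_of_forall_over (R := E.R') (C := E.C) Q fun z₁ hz₁ h1 => ?_
      refine Lib.RG.OpenFlat.flatAt_of_away c z₁ (fun hcz => hdQ ?_) h
      rw [← h1]
      exact (Ideal.span_singleton_le_iff_mem _).2 hcz hdc
    tfae_have 3 → 1 := fun ⟨d, hd, h⟩ => by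
      obtain ⟨w, hw⟩ := E.surjC (algebraMap E.D E.C d)
      have hwq : w ∉ E.q' := fun hwq => hd ((hzy d).1 (hw ▸ (hzq w).2 hwq))
      have hflat : ∀ (P : Ideal E.S') [P.IsPrime], w ∉ P → Module.Flat R (LocalizedModule P.primeCompl E.G) := by
        intro P _ hP
        refine hru P ?_
        refine (H19.FlatLocus.flat_iff_killed P.primeCompl (LocalizedModule.mkLinearMap P.primeCompl E.G)).2
          fun J ξ hξ => ?_
        obtain ⟨_, ⟨k, rfl⟩, hdξ⟩ := (H19.FlatLocus.flat_iff_killed (Submonoid.powers d)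
          (LocalizedModule.mkLinearMap (Submonoid.powers d) E.G)).1 h J ξ hξ
        refine ⟨w ^ k, fun hk => hP (Ideal.IsPrime.mem_of_pow_mem inferInstance k hk), ?_⟩
        rw [← algebraMap_smul E.C (w ^ k) ξ, map_pow, hw, ← map_pow, algebraMap_smul]
        exact hdξ
      have hopen := PrimeSpectrum.isOpenMap_comap_of_hasGoingDown_of_finitePresentation (R := S) (S := E.S') _
        (PrimeSpectrum.isOpen_basicOpen (a := w))
      obtain ⟨_, ⟨g, rfl⟩, hgq, hsub⟩ :=
        PrimeSpectrum.isTopologicalBasis_basic_opens.exists_subset_of_mem_open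
          (show (⟨q, inferInstance⟩ : PrimeSpectrum S) ∈
            PrimeSpectrum.comap (algebraMap S E.S') '' (PrimeSpectrum.basicOpen w : Set (PrimeSpectrum E.S')) from
            ⟨⟨E.q', inferInstance⟩, hwq, PrimeSpectrum.ext (E.q'.over_def q).symm⟩) hopen
      refine ⟨g, hgq, Lib.RG.OpenFlat.flat_away_of_forall g fun P hP hgP => ?_⟩
      obtain ⟨P', hP', hP'P⟩ := hsub (show (⟨P, hP⟩ : PrimeSpectrum S) ∈ _ from hgP)
      exact Lib.RG.FibrePoint.flatAt_down f hf P P'.asIdeal (congrArg PrimeSpectrum.asIdeal hP'P) (hflat P'.asIdeal hP')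
    tfae_finish

end Groth.Agent.S1250
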