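import Groth.Statements.S18494
import Groth.Agent.S7782
import Groth.Agent.H4.AVHom
import Groth.Agent.H4.KernelSquare
import Groth.Agent.H2.FlatHom.Field
import Groth.Agent.Lib.GrpQ.Kernel
import Groth.Agent.Lib.EtaleTors.Basic

set_option autoImplicit false
universe u
open CategoryTheory CategoryTheory.Limits AlgebraicGeometry MonObj
open Neron

namespace Groth.Agent.S18494

open MonoidalCategory CartesianMonoidalCategory Groth.Agent.Lib

attribute [local instance] Hom.commMonoid

/-- Kernels are preserved by base change. -/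
theorem isKernel_map {S S' : Scheme.{u}} (f : S' ⟶ S) {N A B : Over S} [GrpObj B] (i : N ⟶ A)
    (φ : A ⟶ B) (h : AlgGrp.IsKernel i φ) :
    AlgGrp.IsKernel ((Over.pullback f).map i) ((Over.pullback f).map φ) := by
  let F := Over.pullback f
  have h' : IsPullback (F.map i) (F.map (toUnit N)) (F.map φ) (F.map η[B]) := h.map F
  refine h'.of_iso (Iso.refl _) (Iso.refl _) (asIso (Functor.LaxMonoidal.ε F)).symm (Iso.refl _) ?_ ?_ ?_ ?_
  · simp [F]
  · simp only [Iso.refl_hom, Category.id_comp]
    exact toUnit_unique _ _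
  · simp [F]
  · simp only [Iso.refl_hom, Category.comp_id, Iso.symm_hom, asIso_inv]
    rw [Functor.obj.η_def, IsIso.inv_hom_id_assoc]

/-- Abelian varieties are commutative. -/
theorem isCommMonObj_of_proper {k : Type u} [Field k] (A : Over (Spec (CommRingCat.of k))) [GrpObj A]
    [IsProper A.hom] [GeometricallyIntegral A.hom] : IsCommMonObj A := by
  have : IsMonHom (GrpObj.inv : A ⟶ A) :=
    Groth.Agent.H4.AVHom.isMonHom_of_pointed _ (by simp)
  refine ⟨?_⟩
  have h : (fst A A * snd A A)⁻¹ = (fst A A)⁻¹ * (snd A A)⁻¹ := by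
    rw [Hom.inv_def, Hom.inv_def, Hom.inv_def, MonObj.mul_comp]
  rw [mul_inv_rev] at h
  have h2 : fst A A * snd A A = snd A A * fst A A := by
    have h3 := congrArg Inv.inv h
    rw [mul_inv_rev, mul_inv_rev, inv_inv, inv_inv] at h3
    exact h3
  rw [MonObj.mul_eq_mul, MonObj.comp_mul, braiding_hom_fst, braiding_hom_snd]
  exact h2.symm

/-- A surjective homomorphism of abelian varieties with finite kernel of order `d` factors
multiplication by `d`. -/
theorem exists_dual {k : Type u} [Field k] {A B N : Over (Spec (CommRingCat.of k))} [GrpObj A]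
    [IsCommMonObj A] [GrpObj B] [IsProper A.hom] [IsProper B.hom] [GeometricallyIntegral B.hom]
    (φ : A ⟶ B) [IsMonHom φ] [Surjective φ.left] (i : N ⟶ A) (hN : AlgGrp.IsKernel i φ)
    [IsFinite N.hom] (d : ℕ) (hd : ∀ x, N.hom.finrank x = d) :
    ∃ ψ : B ⟶ A, φ ≫ ψ = (𝟙 A) ^ d := by
  obtain ⟨M, hM, j, hj, hjc, hjk, -⟩ := GrpQ.exists_kernel φ
  have : Mono j := GrpQ.kernel_mono hjk
  have : IsCommMonObj M := ⟨by
    rw [← cancel_mono j, Category.assoc, IsMonHom.mul_hom j,
      ← BraidedCategory.braiding_naturality_assoc, IsCommMonObj.mul_comm]⟩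
  let e : M ≅ N := hjk.isoIsPullback _ _ hN
  have hw : e.hom.left ≫ N.hom = M.hom := Over.w e.hom
  have : IsIso e.hom.left := ((Over.forget _).mapIso e).isIso_hom
  have : IsFinite M.hom := hw ▸ inferInstance
  have : Flat M.hom := inferInstance
  have : LocallyOfFinitePresentation M.hom := inferInstance
  have : Flat N.hom := inferInstance
  have : LocallyOfFinitePresentation N.hom := inferInstance
  have hrank : ∀ x, M.hom.finrank x = d := fun x => by
    have h : Scheme.Hom.finrank (e.hom.left ≫ N.hom) x = d :=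
      (congrFun (Scheme.Hom.finrank_comp_left_of_isIso e.hom.left N.hom) x).trans (hd x)
    simpa only [hw] using h
  have hker : ∀ {T : Over (Spec (CommRingCat.of k))} (x : T ⟶ A), x ≫ φ = 1 → x ^ d = 1 := by
    intro T x hx
    obtain ⟨n, rfl⟩ := (GrpQ.mem_kernel hjk x).2 hx
    rw [← MonObj.pow_comp, Groth.Agent.S7782.result M d hrank T n, MonObj.one_comp]
  have : LocallyOfFiniteType A.hom := inferInstance
  have : Flat φ.left := Groth.Agent.H2.FlatHom.Field.flat_of_geometricallyReduced φ
  have : IsProper (φ.left ≫ B.hom) := by rw [Over.w]; infer_instance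
  have : IsProper φ.left := IsProper.of_comp φ.left B.hom
  have hfac : ∀ {Z : Scheme.{u}} (g₁ g₂ : Z ⟶ A.left), g₁ ≫ φ.left = g₂ ≫ φ.left →
      g₁ ≫ ((𝟙 A : A ⟶ A) ^ d).left = g₂ ≫ ((𝟙 A : A ⟶ A) ^ d).left := by
    intro Z g₁ g₂ h
    let T : Over (Spec (CommRingCat.of k)) := Over.mk (g₁ ≫ A.hom)
    let x : T ⟶ A := Over.homMk g₁ rfl
    let y : T ⟶ A := Over.homMk g₂ (by
      show g₂ ≫ A.hom = g₁ ≫ A.hom
      rw [← Over.w φ, ← Category.assoc, ← h, Category.assoc])
    have hxy : x ≫ φ = y ≫ φ := Over.OverMorphism.ext h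
    have h1 := hker (x⁻¹ * y) (by rw [MonObj.mul_comp, GrpObj.inv_comp, hxy, inv_mul_cancel])
    rw [mul_pow, inv_pow, inv_mul_eq_one] at h1
    have h2 : x ≫ (𝟙 A : A ⟶ A) ^ d = y ≫ (𝟙 A : A ⟶ A) ^ d := by
      rw [MonObj.comp_pow, MonObj.comp_pow, Category.comp_id, Category.comp_id, h1]
    exact congrArg Over.Hom.left h2
  let r : B.left ⟶ A.left := EffectiveEpi.desc φ.left ((𝟙 A : A ⟶ A) ^ d).left hfac
  have hr : φ.left ≫ r = ((𝟙 A : A ⟶ A) ^ d).left := EffectiveEpi.fac _ _ _
  exact ⟨Over.homMk r (by rw [← cancel_epi φ.left, ← Category.assoc, hr, Over.w, Over.w]),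
    Over.OverMorphism.ext hr⟩

/-- Let R be a Dedekind domain with fraction field K, let A and B be group schemes over Spec R which are
Néron models of their generic fibres, both abelian varieties over K (proper and geometrically
integral), let φ : A → B be a homomorphism whose generic fibre φ_K is an isogeny (surjective with
finite kernel), and let i : N → A be a kernel of φ. If the degree of φ_K, that is the order of the
finite K-group scheme N_K (its rank over Spec K), is a unit in R, then N is a Néron model of its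
generic fibre N_K (smooth, separated, of finite type, with the Néron mapping property for smooth
Spec R-schemes) and N → Spec R is étale. -/
theorem result (R : Type u) [CommRing R]
    [IsDedekindDomain R] (A B : Over (Spec (CommRingCat.of R))) [GrpObj A] [GrpObj B]
    (hA : Neron.IsNeronModelOf R A ((Neron.genericFibre R).obj A) (Iso.refl _))
    (hB : Neron.IsNeronModelOf R B ((Neron.genericFibre R).obj B) (Iso.refl _))
    [IsProper ((Neron.genericFibre R).obj A).hom] [GeometricallyIntegral ((Neron.genericFibre R).obj A).hom]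
    [IsProper ((Neron.genericFibre R).obj B).hom] [GeometricallyIntegral ((Neron.genericFibre R).obj B).hom]
    (φ : A ⟶ B) [IsMonHom φ] (hφ : SGA7.IsIsogenyOver ((Neron.genericFibre R).map φ))
    (N : Over (Spec (CommRingCat.of R))) (i : N ⟶ A) (hN : AlgGrp.IsKernel i φ)
    (hdeg : ∀ x : ↥(Spec (CommRingCat.of (FractionRing R))),
      IsUnit ((((Neron.genericFibre R).obj N).hom.finrank x : ℕ) : R)) :
    Neron.IsNeronModelOf R N ((Neron.genericFibre R).obj N) (Iso.refl _) ∧ Etale N.hom := by
  let F := Neron.genericFibre R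
  have : Smooth A.hom := hA.1
  have : IsSeparated A.hom := hA.2.1
  have : QuasiCompact A.hom := hA.2.2.2.1
  have : Smooth B.hom := hB.1
  have : IsSeparated B.hom := hB.2.1
  have injA : ∀ {Y : Over (Spec (CommRingCat.of R))}, Smooth Y.hom → ∀ g g' : Y ⟶ A,
      F.map g = F.map g' → g = g' := fun hY g g' h =>
    (hA.2.2.2.2 _ hY).1 (by simpa [F] using h)
  have injB : ∀ {Y : Over (Spec (CommRingCat.of R))}, Smooth Y.hom → ∀ g g' : Y ⟶ B,
      F.map g = F.map g' → g = g' := fun hY g g' h =>
    (hB.2.2.2.2 _ hY).1 (by simpa [F] using h)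
  have : IsCommMonObj (F.obj A) := isCommMonObj_of_proper _
  have : IsCommMonObj (F.obj B) := isCommMonObj_of_proper _
  have hAA : Smooth (A ⊗ A).hom := by
    rw [Over.tensorObj_hom]
    infer_instance
  have hBB : Smooth (B ⊗ B).hom := by
    rw [Over.tensorObj_hom]
    infer_instance
  have : IsCommMonObj A := ⟨by
    rw [MonObj.mul_eq_mul, MonObj.comp_mul, braiding_hom_fst, braiding_hom_snd]
    refine injA hAA _ _ ?_
    rw [Functor.map_mul, Functor.map_mul, mul_comm]⟩
  have : IsCommMonObj B := ⟨by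
    rw [MonObj.mul_eq_mul, MonObj.comp_mul, braiding_hom_fst, braiding_hom_snd]
    refine injB hBB _ _ ?_
    rw [Functor.map_mul, Functor.map_mul, mul_comm]⟩
  -- the degree and the dual isogeny
  let x₀ : ↥(Spec (CommRingCat.of (FractionRing R))) := IsLocalRing.closedPoint (FractionRing R)
  let d := (F.obj N).hom.finrank x₀
  have hdu : IsUnit (d : R) := hdeg x₀
  have hNK : AlgGrp.IsKernel (F.map i) (F.map φ) := isKernel_map _ i φ hN
  have : IsFinite (F.obj N).hom := hφ.2 _ _ hNK
  have : Surjective (F.map φ).left := hφ.1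
  obtain ⟨ψ, hψ⟩ := exists_dual (F.map φ) (F.map i) hNK d
    (fun x => congrArg _ (Subsingleton.elim x x₀))
  obtain ⟨g, hg⟩ := (hA.2.2.2.2 B hB.1).2 ψ
  have hg' : F.map g = ψ := by simpa [F] using hg
  have hφg : φ ≫ g = (𝟙 A) ^ d := injA hA.1 _ _ (by
    rw [Functor.map_comp, hg', hψ]
    exact ((map_pow (Functor.homMonoidHom F) (𝟙 A) d).trans
      (by rw [Functor.homMonoidHom_apply, CategoryTheory.Functor.map_id])).symm)
  have hkill : ∀ {T : Over (Spec (CommRingCat.of R))} (x : T ⟶ A), x ≫ φ = 1 → x ^ d = 1 := by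
    intro T x hx
    have e : ∀ y : T ⟶ A, y ≫ φ ≫ g = y ^ d := fun y => by
      rw [hφg, MonObj.comp_pow, Category.comp_id]
    have e1 := e 1
    rw [one_pow, ← Category.assoc, MonObj.one_comp] at e1
    rw [← e x, ← Category.assoc, hx, e1]
  -- the étale kernels of multiplication by `d`
  have hd' : ∀ (L : Type u) [Field L], (Spec (CommRingCat.of L) ⟶ Spec (CommRingCat.of R)) →
      (d : L) ≠ 0 := fun L _ b => by
    have h := hdu.map (Spec.preimage b).hom
    rw [map_natCast] at h
    exact h.ne_zero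
  have := Groth.Agent.H4.NPowEtale.isMonHom_pow_id A d
  have := Groth.Agent.H4.NPowEtale.isMonHom_pow_id B d
  obtain ⟨EA, gA, jA, hjA, -, hkA, -⟩ := GrpQ.exists_kernel ((𝟙 A : A ⟶ A) ^ d)
  obtain ⟨EB, gB, jB, hjB, -, hkB, -⟩ := GrpQ.exists_kernel ((𝟙 B : B ⟶ B) ^ d)
  have hEA : Etale EA.hom := Groth.Agent.H4.KernelSquare.hom_of _ _ hkA
    (P := @Etale) (Groth.Agent.Lib.EtaleTors.Basic.etale_pow hd')
  have hEB : Etale EB.hom := Groth.Agent.H4.KernelSquare.hom_of _ _ hkB
    (P := @Etale) (Groth.Agent.Lib.EtaleTors.Basic.etale_pow hd')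
  have : Mono i := GrpQ.kernel_mono hN
  have : Mono jA := GrpQ.kernel_mono hkA
  have : Mono jB := GrpQ.kernel_mono hkB
  have hjA1 : jA ^ d = 1 := by
    simpa [MonObj.comp_pow] using GrpQ.kernel_comp hkA
  obtain ⟨φ', hφ'⟩ := (GrpQ.mem_kernel hkB (jA ≫ φ)).2 (by
    rw [MonObj.comp_pow, Category.comp_id, ← MonObj.pow_comp, hjA1, MonObj.one_comp])
  obtain ⟨i', hi'⟩ := (GrpQ.mem_kernel hkA i).2 (by
    rw [MonObj.comp_pow, Category.comp_id, hkill i (GrpQ.kernel_comp hN)])
  have : Mono i' := by
    have : Mono (i' ≫ jA) := hi' ▸ inferInstance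
    exact mono_of_mono i' jA
  have hk' : AlgGrp.IsKernel i' φ' := GrpQ.isKernel_of i' (by
      rw [← cancel_mono jB, Category.assoc, hφ', ← Category.assoc, hi', GrpQ.kernel_comp hN,
        MonObj.one_comp]) fun T x hx => by
    obtain ⟨n, hn⟩ := (GrpQ.mem_kernel hN (x ≫ jA)).2 (by
      rw [Category.assoc, ← hφ', ← Category.assoc, hx, MonObj.one_comp])
    exact ⟨n, by rw [← cancel_mono jA, Category.assoc, hi', hn]⟩
  have : Etale φ'.left := by
    have : Etale (φ'.left ≫ EB.hom) := by rw [Over.w]; exact hEA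
    exact Etale.of_comp φ'.left EB.hom
  have hNet : Etale N.hom := Groth.Agent.H4.KernelSquare.hom_of _ _ hk' (P := @Etale) this
  have : IsClosedImmersion i.left := by
    have : IsClosedImmersion η[B].left := by
      have : IsClosedImmersion (η[B].left ≫ B.hom) := by
        rw [Over.w]
        exact inferInstanceAs (IsClosedImmersion (𝟙 _))
      exact IsClosedImmersion.of_comp η[B].left B.hom
    exact MorphismProperty.of_isPullback (P := @IsClosedImmersion) (hN.map (Over.forget _)).flip this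
  refine ⟨⟨inferInstance, ?_, inferInstance, ?_, fun Y hY => ⟨fun g₁ g₂ h => ?_, fun h => ?_⟩⟩, hNet⟩
  · rw [← Over.w i]; infer_instance
  · rw [← Over.w i]; infer_instance
  · rw [← cancel_mono i]
    refine injA hY _ _ ?_
    simp only [Iso.refl_hom, Category.comp_id] at h
    rw [Functor.map_comp, Functor.map_comp, h]
  · obtain ⟨g₀, hg₀⟩ := (hA.2.2.2.2 Y hY).2 (h ≫ F.map i)
    have hg₀' : F.map g₀ = h ≫ F.map i := by simpa [F] using hg₀
    have h1 : g₀ ≫ φ = 1 := injB hY _ _ (by
      rw [Functor.map_comp, hg₀', Category.assoc, GrpQ.kernel_comp hNK, MonObj.comp_one,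
        Functor.map_one])
    obtain ⟨n, rfl⟩ := (GrpQ.mem_kernel hN g₀).2 h1
    have : Mono (F.map i) := GrpQ.kernel_mono hNK
    rw [Functor.map_comp, cancel_mono] at hg₀'
    exact ⟨n, by simpa [F] using hg₀'⟩

end Groth.Agent.S18494
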