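import Groth.Statements.S12500

import Groth.Agent.S1627
import Groth.Agent.S7976
import Groth.Agent.S18494
import Groth.Agent.H1.Classical.MaxTorusApply
import Groth.Agent.H1.Classical.Smooth
import Groth.Agent.Lib.RedPts.Ga
import Groth.Agent.Lib.RedPts.Gm
import Groth.Agent.H52.SmoothChain
import Groth.Agent.Lib.ProjSpace.BaseChange

set_option autoImplicit false
universe u
open CategoryTheory AlgebraicGeometry
open Neron

open Groth.Agent Groth.Agent.Lib

namespace Groth.Agent.S12500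

section

open CategoryTheory.Limits MonoidalCategory CartesianMonoidalCategory MonObj

theorem isMonHom_of_mul {S : Scheme.{u}} {G H : Over S} [GrpObj G] [GrpObj H] (f : G ⟶ H)
    (hf : ∀ (W : Over S) (x y : W ⟶ G), (x * y) ≫ f = (x ≫ f) * (y ≫ f)) : IsMonHom f where
  one_hom := by
    have h1 : (1 : 𝟙_ (Over S) ⟶ G) ≫ f = 1 := by
      have := hf _ (1 : 𝟙_ (Over S) ⟶ G) 1
      rwa [_root_.one_mul, left_eq_mul] at this
    rwa [Hom.one_def, Hom.one_def, toUnit_unique (toUnit _) (𝟙 _), Category.id_comp, Category.id_comp] at h1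
  mul_hom := by
    have := hf _ (fst G G) (snd G G)
    rw [show fst G G * snd G G = μ[G] by simp [Hom.mul_def]] at this
    rw [this, Hom.mul_def]
    congr 1

variable {k : Type u} [Field k]

attribute [local instance] RedPts.Points.baseAlgebra

theorem sym_iso_Ga : Nonempty (Grp.mk (H1.Classical.Scheme'.GA k (SymmetricAlgebra k k)) ≅
    Grp.mk (Red.Ga (Spec (CommRingCat.of k)))) := by
  obtain ⟨f, hf⟩ : ∃ f : H1.Classical.Scheme'.GA k (SymmetricAlgebra k k) ⟶ Red.Ga (Spec (CommRingCat.of k)),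
      ∀ (W : Over (Spec (CommRingCat.of k))) (x : W ⟶ _), Red.gaFn (x ≫ f) = RedPts.Affine.symFn x :=
    ⟨RedPts.Ga.gaPt (RedPts.Affine.symFn (𝟙 _)), fun W x => by
      rw [RedPts.Ga.gaFn_comp, RedPts.Ga.gaFn_gaPt, RedPts.Affine.symFn, RedPts.Affine.symFn]
      refine (RedPts.Points.ringHomOf_comp x.left _ _).symm.trans ?_
      exact congrArg (fun t : W ⟶ _ => RedPts.Points.algHomOf t (SymmetricAlgebra.ι k k 1)) (Category.comp_id x)⟩
  obtain ⟨g, hg⟩ : ∃ g : Red.Ga (Spec (CommRingCat.of k)) ⟶ H1.Classical.Scheme'.GA k (SymmetricAlgebra k k),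
      RedPts.Affine.symFn g = Red.gaFn (𝟙 _) := RedPts.Affine.symFn_surjective _
  have hgf : g ≫ f = 𝟙 _ := RedPts.Ga.gaFn_injective (by rw [hf, hg])
  have hfg : f ≫ g = 𝟙 _ := RedPts.Affine.symFn_injective (by
    refine (RedPts.Points.ringHomOf_comp f.left _ _).trans ?_
    change f.left.appTop (RedPts.Affine.symFn g) = _
    rw [hg, ← RedPts.Ga.gaFn_comp, Category.comp_id]
    simpa using hf _ (𝟙 _))
  haveI : IsMonHom f := isMonHom_of_mul f fun W x y => RedPts.Ga.gaFn_injective (by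
    rw [RedPts.Ga.gaFn_mul, hf, hf, hf, RedPts.Affine.symFn_mul])
  exact ⟨Grp.mkIso' (⟨f, g, hfg, hgf⟩ : _ ≅ _)⟩

theorem laurent_iso_Gm : Nonempty (Grp.mk (H1.Classical.Scheme'.GA k (MonoidAlgebra k (Multiplicative ℤ))) ≅
    Grp.mk (Red.Gm (Spec (CommRingCat.of k)))) := by
  let χ : ∀ {W : Over (Spec (CommRingCat.of k))}, (W ⟶ Red.diag k ℤ) → (Multiplicative ℤ →* Γ(W.left, ⊤)) :=
    fun x =>
      { toFun := fun m => RedPts.Affine.diagFn x (Multiplicative.toAdd m)
        map_one' := RedPts.Affine.diagFn_zero x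
        map_mul' := fun m n => RedPts.Affine.diagFn_add x _ _ }
  obtain ⟨f, hf⟩ : ∃ f : H1.Classical.Scheme'.GA k (MonoidAlgebra k (Multiplicative ℤ)) ⟶
      Red.Gm (Spec (CommRingCat.of k)),
      ∀ (W : Over (Spec (CommRingCat.of k))) (x : W ⟶ Red.diag k ℤ) (m : ℤ),
        RedPts.Gm.dsFn (x ≫ f) m = RedPts.Affine.diagFn x m :=
    ⟨RedPts.Gm.dsPt (χ (𝟙 (Red.diag k ℤ))), fun W x m => by
      rw [RedPts.Gm.dsFn_comp, RedPts.Gm.dsFn_dsPt]
      refine ((RedPts.Affine.diagFn_comp x (𝟙 (Red.diag k ℤ)) m).symm).trans ?_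
      rw [Category.comp_id]⟩
  obtain ⟨g, hg⟩ : ∃ g : Red.Gm (Spec (CommRingCat.of k)) ⟶ Red.diag k ℤ,
      ∀ m : ℤ, RedPts.Affine.diagFn g m = RedPts.Gm.dsFn (𝟙 _) m :=
    ⟨RedPts.Affine.diagPt
      { toFun := fun m : Multiplicative ℤ => RedPts.Gm.dsFn (𝟙 (Red.Gm (Spec (CommRingCat.of k)))) (Multiplicative.toAdd m)
        map_one' := RedPts.Gm.dsFn_zero _
        map_mul' := fun m n => RedPts.Gm.dsFn_add _ _ _ }, fun m => RedPts.Affine.diagFn_diagPt _ m⟩
  have hgf : g ≫ f = 𝟙 _ := RedPts.Gm.dsFn_ext fun m => by rw [hf, hg]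
  have hfg : f ≫ g = 𝟙 _ := RedPts.Affine.diagFn_ext fun m => by
    rw [RedPts.Affine.diagFn_comp, hg, ← RedPts.Gm.dsFn_comp, Category.comp_id]
    simpa using hf _ (𝟙 _) m
  haveI : IsMonHom f := isMonHom_of_mul f fun W x y => RedPts.Gm.dsFn_ext fun m => by
    rw [RedPts.Gm.dsFn_mul, hf, hf, hf]
    exact RedPts.Affine.diagFn_mul x y m
  exact ⟨Grp.mkIso' (⟨f, g, hfg, hgf⟩ : _ ≅ _)⟩

theorem specHom_comp_self {A A' : Type u} [CommRing A] [HopfAlgebra k A] [CommRing A'] [HopfAlgebra k A']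
    (f : A →ₐc[k] A') (g : A' →ₐc[k] A) (h : ∀ a, g (f a) = a) :
    H1.Classical.Scheme'.specHom g ≫ H1.Classical.Scheme'.specHom f = 𝟙 _ := by
  apply Over.OverMorphism.ext
  refine (Spec.map_comp _ _).symm.trans ?_
  refine (congrArg Spec.map (?_ : _ = 𝟙 _)).trans (Spec.map_id _)
  exact CommRingCat.hom_ext (RingHom.ext h)

theorem grp_iso_of_bialgEquiv {A A' : Type u} [CommRing A] [HopfAlgebra k A] [CommRing A'] [HopfAlgebra k A']
    (e : A ≃ₐc[k] A') :
    Nonempty (Grp.mk (H1.Classical.Scheme'.GA k A) ≅ Grp.mk (H1.Classical.Scheme'.GA k A')) :=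
  ⟨Grp.mkIso' (⟨H1.Classical.Scheme'.specHom (e.symm : A' →ₐc[k] A), H1.Classical.Scheme'.specHom (e : A →ₐc[k] A'),
    specHom_comp_self _ _ fun a => e.symm_apply_apply a, specHom_comp_self _ _ fun a => e.apply_symm_apply a⟩ : _ ≅ _)⟩

end

/-- Let k be an algebraically closed field and G a k-group scheme whose underlying scheme is integral,
separated and of finite type over k and has dimension one. Then either G is isomorphic to G_a as a
k-group scheme, or G is isomorphic to G_m as a k-group scheme, or G is proper over k and its group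
law is commutative. (The published third alternative says G is an elliptic curve, i.e. a smooth
proper curve of genus one whose group-variety law is the elliptic-curve addition with origin the
identity; this row records properness and the commutativity that the printed proof establishes.) -/
theorem result (k : Type u) [Field k] [IsAlgClosed k]
    (G : Over (Spec (CommRingCat.of k))) [GrpObj G] [IsIntegral G.left]
    [IsSeparated G.hom] [LocallyOfFiniteType G.hom] [QuasiCompact G.hom]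
    (hdim : topologicalKrullDim ↥G.left = 1) :
    Nonempty (Grp.mk G ≅ Grp.mk (Red.Ga (Spec (CommRingCat.of k)))) ∨
      Nonempty (Grp.mk G ≅ Grp.mk (Red.Gm (Spec (CommRingCat.of k)))) ∨
      (IsProper G.hom ∧ IsCommMonObj G) := by
  haveI : IsReduced G.left := inferInstance
  letI : GrpObj (Over.mk G.hom) := inferInstanceAs (GrpObj G)
  haveI : Smooth G.hom := H1.Classical.Smooth.smooth_of_isReduced G.hom
  letI : G.left.Over (Spec (CommRingCat.of k)) := ⟨G.hom⟩
  haveI : IsSeparated (G.left ↘ Spec (CommRingCat.of k)) := inferInstanceAs (IsSeparated G.hom)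
  haveI : LocallyOfFiniteType (G.left ↘ Spec (CommRingCat.of k)) := inferInstanceAs (LocallyOfFiniteType G.hom)
  haveI : QuasiCompact (G.left ↘ Spec (CommRingCat.of k)) := inferInstanceAs (QuasiCompact G.hom)
  rcases Groth.Agent.S1627.result k G.left hdim with haff | ⟨d, c, hc, hct⟩
  · haveI := haff
    obtain ⟨A, _, _, _, _, e, he⟩ := H1.Classical.MaxTorusApply.exists_GA G
    haveI := he
    haveI : IsIso e.hom.left := ((Over.forget _).mapIso e).isIso_hom
    have hA : ringKrullDim A = 1 := by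
      rw [← PrimeSpectrum.topologicalKrullDim_eq_ringKrullDim, ← hdim]
      exact (IsHomeomorph.topologicalKrullDim_eq _ e.hom.left.homeomorph.isHomeomorph).symm
    have hi : ∀ x : A, IsIdempotentElem x → x = 0 ∨ x = 1 := fun x hx => IsIdempotentElem.iff_eq_zero_or_one.1 hx
    have i₀ : Grp.mk G ≅ Grp.mk (H1.Classical.Scheme'.GA k A) := Grp.mkIso' e
    rcases Groth.Agent.S7976.result k A hi hA with ⟨⟨f⟩⟩ | ⟨⟨f⟩⟩
    · obtain ⟨i₁⟩ := grp_iso_of_bialgEquiv f
      obtain ⟨i₂⟩ := laurent_iso_Gm (k := k)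
      exact Or.inr (Or.inl ⟨i₀ ≪≫ i₁ ≪≫ i₂⟩)
    · obtain ⟨i₁⟩ := grp_iso_of_bialgEquiv f
      obtain ⟨i₂⟩ := sym_iso_Ga (k := k)
      exact Or.inl ⟨i₀ ≪≫ i₁ ≪≫ i₂⟩
  · haveI := hc
    haveI : IsProper G.hom := by
      haveI : IsProper (CohB1.ProjSpace.toSpec d k) := ProjSpace.Basic.isProper_toSpec d k
      change IsProper (G.left ↘ Spec (CommRingCat.of k))
      rw [← hct]; infer_instance
    haveI : GeometricallyIntegral G.hom := H52.SmoothChain.geometricallyIntegral G
    exact Or.inr (Or.inr ⟨inferInstance, Groth.Agent.S18494.isCommMonObj_of_proper G⟩)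


end Groth.Agent.S12500
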