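import Groth.Statements.S12504
import Groth.Agent.Lib.DerCat.DerAdj
import Groth.Agent.Lib.DerCat.KInjExists

set_option autoImplicit false
universe v u
open CategoryTheory CategoryTheory.Limits
attribute [local instance] HasDerivedCategory.standard
open CohDer

namespace Groth.Agent.S12504

/-- Let A and B be abelian categories with B a Grothendieck category, F : A → B an exact additive
functor with right adjoint G, and RG : D(B) → D(A) a right derived functor of G on the unbounded
derived categories, i.e. a functor equipped with a natural transformation α from the composite 'G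
termwise on cochain complexes, then localisation' to 'localisation, then RG' that makes (RG, α) a
right derived functor with respect to quasi-isomorphisms. Then the functor D(A) → D(B) induced by F
is left adjoint to RG (existence of an adjunction; the existence of RG itself is assumed, as a
binder). -/
theorem result
    {A : Type u} [Category.{v} A] [Abelian A] {B : Type u} [Category.{v} B] [Abelian B]
    [IsGrothendieckAbelian.{v} B]
    (F : A ⥤ B) (G : B ⥤ A) (adj : F ⊣ G) [F.Additive] [G.Additive]
    [PreservesFiniteLimits F] [PreservesFiniteColimits F]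
    (RG : DerivedCategory B ⥤ DerivedCategory A)
    (α : G.mapHomologicalComplex (ComplexShape.up ℤ) ⋙ DerivedCategory.Q ⟶ DerivedCategory.Q ⋙ RG)
    [RG.IsRightDerivedFunctor α (HomologicalComplex.quasiIso B (ComplexShape.up ℤ))] :
    Nonempty (F.mapDerivedCategory ⊣ RG) := by
  have := Groth.Agent.Lib.DerivedOX.RightDerived.isLeftAdjoint_Qh (A := B)
    Groth.Agent.Lib.DerCat.KInjExists.hasKInjRes
  let e : HomotopyCategory.quotient B (ComplexShape.up ℤ) ⋙
      (G.mapHomotopyCategory (ComplexShape.up ℤ) ⋙ DerivedCategory.Qh) ≅
      G.mapHomologicalComplex (ComplexShape.up ℤ) ⋙ DerivedCategory.Q :=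
    (Functor.associator _ _ _).symm ≪≫
      Functor.isoWhiskerRight (G.mapHomotopyCategoryFactors _) _ ≪≫ Functor.associator _ _ _ ≪≫
      Functor.isoWhiskerLeft _ (DerivedCategory.quotientCompQhIso A)
  have := Groth.Agent.Lib.DerCat.DerAdj.isRightDerived_unitC (B := B) e
  exact ⟨(Groth.Agent.Lib.DerCat.DerAdj.derivedAdj adj).ofNatIsoRight
    (Functor.rightDerivedUnique _ _ (Groth.Agent.Lib.DerCat.DerAdj.unitC (B := B) e) α
      (HomologicalComplex.quasiIso B (ComplexShape.up ℤ)))⟩

end Groth.Agent.S12504
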