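import Groth.Statements.S1251
import Groth.Agent.Lib.RG.FPTransfer
import Groth.Agent.Lib.RG.ElemData
import Mathlib.RingTheory.Spectrum.Prime.Chevalley
-- import your own Groth.Agent.* helpers here

set_option autoImplicit false
universe u
open FlatMor

namespace Groth.Agent.S1251

open Lib.RG Lib.RG.FPTransfer Lib.RG.FPOn

set_option maxHeartbeats 1600000

/-- Given an elementary dévissage E of N at q over p in dimension n, with S of finite presentation over
R: the finite map D → C is of finite presentation; the following are equivalent: N_q is a finitely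
presented S_q-module; G_z is a finitely presented C_z-module; G_y is a finitely presented
D_y-module. Also equivalent to each other: N is finitely presented on some basic open of Spec S
containing q; G is finitely presented on some basic open of Spec C containing z; G as a D-module is
finitely presented on some basic open of Spec D containing y. -/
theorem result {R S : Type u} [CommRing R] [CommRing S] [Algebra R S] [Algebra.FinitePresentation R S]
    (N : Type u) [AddCommGroup N] [Module S N] [Module R N] [IsScalarTower R S N] [Module.Finite S N]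
    (p : Ideal R) [p.IsPrime] (q : Ideal S) [q.IsPrime] [q.LiesOver p] (n : ℕ) (E : FlatCA.ElemDevissage R S N p q n) :
    Algebra.FinitePresentation E.D E.C ∧
    [Module.FinitePresentation (Localization.AtPrime q) (LocalizedModule q.primeCompl N),
     Module.FinitePresentation (Localization.AtPrime E.z) (LocalizedModule E.z.primeCompl E.G),
     Module.FinitePresentation (Localization.AtPrime E.y) (LocalizedModule E.y.primeCompl E.G)].TFAE ∧
    [∃ g : S, g ∉ q ∧ Module.FinitePresentation (Localization.Away g) (LocalizedModule (Submonoid.powers g) N),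
     ∃ g : E.C, g ∉ E.z ∧ Module.FinitePresentation (Localization.Away g) (LocalizedModule (Submonoid.powers g) E.G),
     ∃ g : E.D, g ∉ E.y ∧ Module.FinitePresentation (Localization.Away g) (LocalizedModule (Submonoid.powers g) E.G)].TFAE := by
  haveI := E.etaleR.1
  haveI := E.etaleS.1
  haveI := E.etaleS.2.choose
  haveI := E.finiteDC
  haveI := E.finiteG
  haveI := E.fpC
  haveI := Lib.RG.Reduce.smooth_of_smoothRelDim E.smooth
  haveI : Algebra.FinitePresentation E.R' E.D := inferInstance
  obtain ⟨mSG, mRG, t₁, t₂, t₃, t₄, t₅, f, hf⟩ := ElemData.exists_base E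
  haveI : Algebra.FinitePresentation R E.S' := Algebra.FinitePresentation.trans R S E.S'
  haveI : Algebra.FinitePresentation E.R' E.S' :=
    Algebra.FinitePresentation.of_restrict_scalars_finitePresentation R E.R' E.S'
  haveI : Algebra.FinitePresentation E.R' E.C := Algebra.FinitePresentation.trans E.R' E.S' E.C
  haveI hDC : Algebra.FinitePresentation E.D E.C :=
    Algebra.FinitePresentation.of_restrict_scalars_finitePresentation E.R' E.D E.C
  haveI : Module.FinitePresentation E.D E.C := Module.FinitePresentation.of_finite_of_finitePresentation E.D E.C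
  haveI : Module.Finite E.D E.G := Module.Finite.trans E.C E.G
  haveI : Module.Finite E.S' E.C := Module.Finite.of_surjective (Algebra.linearMap E.S' E.C) E.surjC
  haveI : Module.Finite E.S' E.G := Module.Finite.trans E.C E.G
  have hker : (RingHom.ker (algebraMap E.S' E.C)).FG :=
    Algebra.FinitePresentation.ker_fG_of_surjective (Algebra.ofId E.S' E.C) E.surjC
  haveI : Module.Flat S E.S' := inferInstance
  have hq : E.q'.comap (algebraMap S E.S') = q := (E.q'.over_def q).symm
  have hzy : E.z.comap (algebraMap E.D E.C) = E.y := (E.z.over_def E.y).symm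
  have hzq : E.z.comap (algebraMap E.S' E.C) = E.q' := (E.z.over_def E.q').symm
  refine ⟨hDC, ?_, ?_⟩
  · rw [← fpOn_singleton_iff_local (N := N) q, ← fpOn_singleton_iff_local (N := E.G) E.z,
      ← fpOn_singleton_iff_local (N := E.G) E.y]
    tfae_have 1 → 2 := fun h => by
      refine FPOn.of_finite (U := {E.q'}) {E.z} (fun z hz => ?_)
        (baseChange f hf {E.q'} (fun z hz => ?_) h)
      · rw [Set.mem_singleton_iff.1 hz]; exact hzq
      · rw [Set.mem_singleton_iff.1 hz]; exact ⟨inferInstance, hq⟩
    tfae_have 2 → 1 := fun h => by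
      refine FPOn.descend (U := {q}) {E.q'} (fun Q hQ => ⟨E.q', rfl, inferInstance, by
        rw [Set.mem_singleton_iff.1 hQ]; exact hq⟩) f hf ?_
      refine FPOn.of_surjective E.surjC hker {E.z} (fun Q hQ => ?_) (fun Q hQ _ => ⟨E.z, rfl, ?_⟩) h
      · rw [Set.mem_singleton_iff.1 hQ]; infer_instance
      · rw [Set.mem_singleton_iff.1 hQ]; exact hzq
    tfae_have 3 → 2 := fun h => FPOn.of_finite (U := {E.y}) {E.z} (fun z hz => by
      rw [Set.mem_singleton_iff.1 hz]; exact hzy) h
    tfae_have 2 → 3 := fun h => finite_down (U := {E.y}) {E.z}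
      (fun Q hQ => by rw [Set.mem_singleton_iff.1 hQ]; infer_instance)
      (fun Q hQ z hz hzQ => by
        haveI := hz
        exact E.uniq z ⟨((Set.mem_singleton_iff.1 hQ).symm.trans hzQ.symm)⟩) h
    tfae_finish
  · simp only [← fpOn_basicOpen_iff_away]
    tfae_have 1 → 2 := fun ⟨g, hg, h⟩ => by
      refine ⟨algebraMap E.S' E.C (algebraMap S E.S' g), fun hm => hg (hq.le (hzq.le hm)), ?_⟩
      exact FPOn.of_finite (U := {Q : Ideal E.S' | Q.IsPrime ∧ algebraMap S E.S' g ∉ Q}) _ (fun z hz => ⟨hz.1.comap _, hz.2⟩)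
        (baseChange (U := {Q : Ideal S | Q.IsPrime ∧ g ∉ Q}) f hf {Q : Ideal E.S' | Q.IsPrime ∧ algebraMap S E.S' g ∉ Q}
          (fun z hz => ⟨hz.1, hz.1.comap _, hz.2⟩) h)
    tfae_have 2 → 1 := fun ⟨c, hc, h⟩ => by
      obtain ⟨s, rfl⟩ := E.surjC c
      have hopen := PrimeSpectrum.isOpenMap_comap_of_hasGoingDown_of_finitePresentation (R := S) (S := E.S') _
        (PrimeSpectrum.isOpen_basicOpen (a := s))
      obtain ⟨_, ⟨g, rfl⟩, hgq, hsub⟩ := PrimeSpectrum.isTopologicalBasis_basic_opens.exists_subset_of_mem_open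
        (show (⟨q, inferInstance⟩ : PrimeSpectrum S) ∈
          PrimeSpectrum.comap (algebraMap S E.S') '' (PrimeSpectrum.basicOpen s : Set (PrimeSpectrum E.S')) from
          ⟨⟨E.q', inferInstance⟩, fun hm => hc (hzq.ge hm), PrimeSpectrum.ext hq⟩) hopen
      refine ⟨g, hgq, FPOn.descend {Q : Ideal E.S' | Q.IsPrime ∧ s ∉ Q} (fun Q hQ => ?_) f hf ?_⟩
      · obtain ⟨x, hx, hxQ⟩ := hsub (show (⟨Q, hQ.1⟩ : PrimeSpectrum S) ∈ _ from hQ.2)
        exact ⟨x.asIdeal, ⟨x.2, hx⟩, x.2, congrArg PrimeSpectrum.asIdeal hxQ⟩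
      · refine FPOn.of_surjective E.surjC hker _ (fun Q hQ => hQ.1) (fun Q hQ hle => ?_) h
        haveI := hQ.1
        refine ⟨Q.map (algebraMap E.S' E.C), ⟨Ideal.map_isPrime_of_surjective E.surjC hle, fun hm => hQ.2 ?_⟩, ?_⟩
        · have h1 : s ∈ (Q.map (algebraMap E.S' E.C)).comap (algebraMap E.S' E.C) := hm
          rwa [Ideal.comap_map_of_surjective _ E.surjC, ← RingHom.ker_eq_comap_bot, sup_eq_left.2 hle] at h1
        · rw [Ideal.comap_map_of_surjective _ E.surjC, ← RingHom.ker_eq_comap_bot, sup_eq_left.2 hle]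
    tfae_have 3 → 2 := fun ⟨d, hd, h⟩ =>
      ⟨algebraMap E.D E.C d, fun hm => hd (hzy.le hm), FPOn.of_finite (U := {Q : Ideal E.D | Q.IsPrime ∧ d ∉ Q}) _ (fun z hz => ⟨hz.1.comap _, hz.2⟩) h⟩
    tfae_have 2 → 3 := fun ⟨c, hc, h⟩ => by
      obtain ⟨d, hd, hdc⟩ := ElemData.exists_notMem_mem E c hc
      refine ⟨d, hd, finite_down (U := {Q : Ideal E.D | Q.IsPrime ∧ d ∉ Q}) {z : Ideal E.C | z.IsPrime ∧ c ∉ z} (fun Q hQ => hQ.1) (fun Q hQ z hz hzQ => ⟨hz, fun hm => hQ.2 ?_⟩) h⟩
      rw [← hzQ]
      exact (Ideal.span_le.2 (Set.singleton_subset_iff.2 hm)) hdc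
    tfae_finish

end Groth.Agent.S1251
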