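import Groth.Statements.S12514
import Groth.Agent.Lib.FunFld.Ext
-- import your own Groth.Agent.* helpers here

set_option autoImplicit false
open FunFld

namespace Groth.Agent.S12514
open Groth.Agent.Lib.FunFld

/-- For a geometric function field of one variable `K/k` and finite extensions `K ⊆ K' ⊆ K''`, the
conorm maps on divisors compose: `N*_{K''/K'} ∘ N*_{K'/K} = N*_{K''/K}`. The companion identity for
norms is not stated. -/
theorem result (k K K' K'' : Type*) [Field k] [Field K] [Field K'] [Field K'']
    [Algebra k K] [Algebra k K'] [Algebra k K''] [Algebra K K'] [Algebra K' K''] [Algebra K K'']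
    [IsScalarTower k K K'] [IsScalarTower k K' K''] [IsScalarTower k K K''] [IsScalarTower K K' K'']
    [FiniteDimensional K K'] [FiniteDimensional K' K'']
    (hK : FunFld.IsFunctionField k K) (hg : FunFld.IsGeometric k K) (D : FunFld.Divisor k K) :
    FunFld.conorm K'' (FunFld.conorm K' D) = FunFld.conorm K'' D := by
  have : FiniteDimensional K K'' := FiniteDimensional.trans K K' K''
  have hK' : Gen.Bound.IsFF k K' := Ext.isFF_of_finite hK
  have hcomp : ∀ {Q : FunFld.Place k K''} {R : FunFld.Place k K'} {P : FunFld.Place k K} {a b : ℕ},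
      FunFld.IsOverWith R P a → FunFld.IsOverWith Q R b → FunFld.IsOverWith Q P (a * b) :=
    fun hR hQ x => by
      rw [IsScalarTower.algebraMap_apply K K' K'', hQ, hR, ← pow_mul]
  have hfin : ∀ R : FunFld.Place k K', {Q : FunFld.Place k K'' | FunFld.IsOver Q R}.Finite := fun R => by
    obtain ⟨P, a, -, ha⟩ := Ext.exists_place_below hK R
    exact (Ext.finite_over hK P).subset fun Q ⟨b, hb⟩ => ⟨a * b, hcomp ha hb⟩
  ext Q
  obtain ⟨R, b, -, hb⟩ := Ext.exists_place_below' (K := K') hK' Q
  obtain ⟨P, a, -, ha⟩ := Ext.exists_place_below hK R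
  rw [Ext.conorm_apply' hfin _ hb, Ext.conorm_apply hK _ ha, Ext.conorm_apply hK _ (hcomp ha hb)]
  push_cast
  ring

end Groth.Agent.S12514
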