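import Groth.Statements.S12515
import Groth.Agent.H81.Quadratic
import Mathlib.FieldTheory.RatFunc.AsPolynomial
import Mathlib.Algebra.Squarefree.Basic

set_option autoImplicit false
open FunFld Polynomial

namespace Groth.Agent.S12515

theorem exists_squarefree {k : Type*} [Field k] : ∀ (n : ℕ) (F : k[X]), F.natDegree ≤ n → F ≠ 0 →
    ∃ f q : k[X], Squarefree f ∧ q ≠ 0 ∧ F = f * q ^ 2 := by
  intro n
  induction n with
  | zero =>
    intro F h hF
    have hu : IsUnit F := Polynomial.isUnit_iff_degree_eq_zero.2 (by rw [degree_eq_natDegree hF, Nat.le_zero.1 h]; rfl)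
    exact ⟨F, 1, hu.squarefree, one_ne_zero, by ring⟩
  | succ n ih =>
    intro F h hF
    by_cases hs : Squarefree F
    · exact ⟨F, 1, hs, one_ne_zero, by ring⟩
    · rw [Squarefree] at hs
      push Not at hs
      obtain ⟨x, ⟨G, rfl⟩, hx⟩ := hs
      have hx0 : x ≠ 0 := by rintro rfl; simp at hF
      have hG : G ≠ 0 := by rintro rfl; simp at hF
      have hd : 0 < x.natDegree := Nat.pos_of_ne_zero fun h0 =>
        hx (Polynomial.isUnit_iff_degree_eq_zero.2 (by rw [degree_eq_natDegree hx0, h0]; rfl))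
      rw [natDegree_mul (mul_ne_zero hx0 hx0) hG, natDegree_mul hx0 hx0] at h
      obtain ⟨f, q, hf, hq, rfl⟩ := ih G (by omega) hG
      exact ⟨f, q * x, hf, mul_ne_zero hq hx0, by ring⟩

/-- If `char k ≠ 2` and `K` has degree `2` over the rational function field `k(x)`, then `K = k(x)(y)`
for some `y` with `y² = f(x)`, `f` a squarefree polynomial over `k`. -/
theorem result (k K : Type*) [Field k] [Field K] (h2 : ringChar k ≠ 2)
    [Algebra (RatFunc k) K] (hdeg : Module.finrank (RatFunc k) K = 2) :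
    ∃ (y : K) (f : Polynomial k), Squarefree f ∧
      y ^ 2 = algebraMap (RatFunc k) K (algebraMap (Polynomial k) (RatFunc k) f) ∧
      IntermediateField.adjoin (RatFunc k) ({y} : Set K) = ⊤ := by
  obtain ⟨z, a, b, hz, he, -⟩ := H81.Quadratic.exists_eq hdeg
  have h20 : (2 : RatFunc k) ≠ 0 := by
    rw [← map_ofNat (algebraMap k (RatFunc k)) 2]
    exact (_root_.map_ne_zero _).2 (Ring.two_ne_zero h2)
  let w := z + algebraMap (RatFunc k) K (a / 2)
  let c := (a / 2) ^ 2 - b
  have hw : w ^ 2 = algebraMap (RatFunc k) K c := by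
    have e : algebraMap (RatFunc k) K a = 2 * algebraMap (RatFunc k) K (a / 2) := by
      rw [← map_ofNat (algebraMap (RatFunc k) K) 2, ← map_mul, mul_div_cancel₀ _ h20]
    simp only [w, c, map_sub, map_pow]
    linear_combination he - z * e
  have hwr : w ∉ Set.range (algebraMap (RatFunc k) K) := by
    rintro ⟨t, ht⟩
    exact hz ⟨t - a / 2, by rw [map_sub, ht]; exact add_sub_cancel_right z _⟩
  have hc : c ≠ 0 := by
    intro h0
    rw [h0, map_zero, sq_eq_zero_iff] at hw
    exact hwr ⟨0, by rw [map_zero, hw]⟩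
  have hs : (algebraMap (Polynomial k) (RatFunc k) c.denom) ≠ 0 :=
    (map_ne_zero_iff _ (IsFractionRing.injective _ _)).2 c.denom_ne_zero
  obtain ⟨f, q, hf, hq, hF⟩ := exists_squarefree _ (c.num * c.denom) le_rfl
    (mul_ne_zero (RatFunc.num_ne_zero hc) c.denom_ne_zero)
  have hq' : (algebraMap (Polynomial k) (RatFunc k) q) ≠ 0 :=
    (map_ne_zero_iff _ (IsFractionRing.injective _ _)).2 hq
  let u : RatFunc k := algebraMap (Polynomial k) (RatFunc k) c.denom / algebraMap (Polynomial k) (RatFunc k) q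
  have hu : u ≠ 0 := div_ne_zero hs hq'
  refine ⟨w * algebraMap (RatFunc k) K u, f, hf, ?_, H81.Quadratic.adjoin_eq_top hdeg ?_⟩
  · rw [mul_pow, hw, ← map_pow, ← map_mul]
    congr 1
    have e := congrArg (algebraMap (Polynomial k) (RatFunc k)) hF
    rw [map_mul, map_mul, map_pow] at e
    conv_lhs => rw [← c.num_div_denom]
    simp only [u]
    field_simp
    linear_combination e
  · rintro ⟨t, ht⟩
    exact hwr ⟨t / u, by rw [map_div₀, ht, mul_div_cancel_right₀ _ ((_root_.map_ne_zero _).2 hu)]⟩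

end Groth.Agent.S12515
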