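import Groth.Statements.S12516
import Groth.Agent.H81.RatPlace
import Groth.Agent.H81.Quadratic

set_option autoImplicit false
open FunFld Polynomial Groth.Agent.Lib.FunFld

namespace Groth.Agent.S12516

/-- Let `char k ≠ 2`, `K` of degree `2` over `k(x)`, `y ∈ K` with `y² = f(x)` for a squarefree
polynomial `f` of degree `≥ 1`, and `P∞` the place of `k(x)` at which `x` has a pole. If `deg f` is
odd there is a unique place of `K` above `P∞`; it has ramification index `2` and degree `1`. If `deg
f` is even, every place of `K` above `P∞` is unramified and the conorm of `P∞` has degree `2` (so it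
is one place of degree `2` or the sum of two places of degree `1`). -/
theorem result (k K : Type*) [Field k] [Field K] (h2 : ringChar k ≠ 2) [Algebra k K]
    [Algebra (RatFunc k) K] [IsScalarTower k (RatFunc k) K]
    (hdeg : Module.finrank (RatFunc k) K = 2) (y : K) (f : Polynomial k) (hf : Squarefree f)
    (hd : 1 ≤ f.natDegree)
    (heq : y ^ 2 = algebraMap (RatFunc k) K (algebraMap (Polynomial k) (RatFunc k) f))
    (Pinf : FunFld.Place k (RatFunc k)) (hinf : Pinf.ord (RatFunc.X : RatFunc k) < 0) :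
    (Odd f.natDegree → (∃! P : FunFld.Place k K, FunFld.IsOver P Pinf) ∧
      ∀ P : FunFld.Place k K, FunFld.IsOver P Pinf → FunFld.IsOverWith P Pinf 2 ∧ P.deg = 1) ∧
    (Even f.natDegree → (FunFld.conorm K (Finsupp.single Pinf 1)).deg = 2 ∧
      ∀ P : FunFld.Place k K, FunFld.IsOver P Pinf → FunFld.IsOverWith P Pinf 1) := by
  classical
  have hfin : FiniteDimensional (RatFunc k) K := Module.finite_of_finrank_eq_succ hdeg
  have hf0 : f ≠ 0 := by rintro rfl; simp at hd
  have hordf : Pinf.ord (algebraMap (Polynomial k) (RatFunc k) f) = -(f.natDegree : ℤ) :=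
    H81.RatPlace.ord_poly_inf Pinf hinf hf0
  have hP1 := H81.RatPlace.deg_inf Pinf hinf
  refine ⟨fun hodd => ?_, fun heven => ?_⟩
  · have h := H81.Quadratic.ramified (K' := K) H81.RatPlace.isFunctionField hdeg Pinf (m := -(f.natDegree : ℤ))
      (by exact_mod_cast hodd.natCast.neg) fun Q e he => by
        have h1 := Ext.ord_map he (algebraMap (Polynomial k) (RatFunc k) f)
        rw [← heq, Place.ord_pow, hordf] at h1
        exact ⟨Q.ord y, h1.symm⟩
    exact ⟨h.1, fun Q hQ => ⟨(h.2 Q hQ).1, (h.2 Q hQ).2.trans hP1⟩⟩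
  refine ⟨?_, fun Q hQ => ?_⟩
  · rw [Ext.deg_conorm H81.RatPlace.isFunctionField, Degree.deg_single, hP1, hdeg]
    norm_num
  obtain ⟨e, he⟩ := hQ
  obtain ⟨m, hm⟩ := heven
  let u : RatFunc k := algebraMap (Polynomial k) (RatFunc k) f / RatFunc.X ^ f.natDegree
  have hu0 : u ≠ 0 := div_ne_zero (H81.RatPlace.ι_ne_zero hf0) (pow_ne_zero _ RatFunc.X_ne_zero)
  have hordu : Pinf.ord u = 0 := by
    rw [Place.ord_div Pinf (H81.RatPlace.ι_ne_zero hf0) (pow_ne_zero _ RatFunc.X_ne_zero), hordf, Place.ord_pow,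
      H81.RatPlace.ord_X_eq_neg_one Pinf hinf]
    ring
  let z : K := y / algebraMap (RatFunc k) K RatFunc.X ^ m
  have hz2 : z ^ 2 = algebraMap (RatFunc k) K u := by
    simp only [z, u, div_pow, heq, map_div₀, map_pow, ← pow_mul]
    rw [hm, mul_two]
  have hzr : z ∉ Set.range (algebraMap (RatFunc k) K) := by
    rintro ⟨c, hc⟩
    have h3 : (c * RatFunc.X ^ m) ^ 2 = algebraMap (Polynomial k) (RatFunc k) f := by
      refine (algebraMap (RatFunc k) K).injective ?_
      rw [map_pow, map_mul, map_pow, hc]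
      simp only [z]
      rw [div_mul_cancel₀ _ (pow_ne_zero _ ((_root_.map_ne_zero _).2 RatFunc.X_ne_zero)), heq]
    obtain ⟨r, hr⟩ := IsIntegrallyClosed.isIntegral_iff.1
      (IsIntegral.of_pow two_pos (h3 ▸ isIntegral_algebraMap) : IsIntegral (Polynomial k) (c * RatFunc.X ^ m))
    rw [← hr, ← map_pow] at h3
    have h4 := IsFractionRing.injective (Polynomial k) (RatFunc k) h3
    have h5 : IsUnit r := hf r ⟨1, by rw [← h4]; ring⟩
    have h6 := congrArg natDegree h4
    rw [natDegree_pow, natDegree_eq_zero_of_isUnit h5] at h6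
    omega
  have hu1 : Pinf.1 u = 1 := by rw [Place.val_eq_exp Pinf hu0, hordu]; simp
  let p : Pinf.O[X] := X ^ 2 - C ⟨u, hu1.le⟩
  have hQz : Q.1 z = 1 := by
    have := congrArg Q.1 hz2
    rw [map_pow, he, hu1, one_pow] at this
    exact (pow_eq_one_iff_of_nonneg zero_le two_ne_zero).1 this
  have h := H81.Quadratic.e_eq_one Q Pinf (Ext.pos_of_isOverWith he) he (y := z) (f := p)
    (monic_X_pow_sub_C _ two_ne_zero) ?_ ?_ (H81.Quadratic.exists_linear hdeg hzr)
  · exact h ▸ he
  · simp [p, hz2]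
  · have h22 : Q.1 (2 : K) = 1 := by
      rw [← map_ofNat (algebraMap k K) 2]
      exact Place.val_algebraMap Q (Ring.two_ne_zero h2)
    simp [p, map_mul, hQz, one_add_one_eq_two]
    rw [show ((2 : Pinf.O) : RatFunc k) = 2 from rfl, map_ofNat, h22]

end Groth.Agent.S12516
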