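import Groth.Statements.S12517
import Groth.Agent.H81.Quadratic
import Mathlib.FieldTheory.RatFunc.AsPolynomial
import Mathlib.Algebra.CharP.Two

set_option autoImplicit false
open FunFld Polynomial

namespace Groth.Agent.S12517

/-- If `k` is perfect of characteristic `2` and `K` is a separable extension of degree `2` of the
rational function field `k(x)`, then `K = k(x)(y)` for some `y` with `y² + y = f(x)`, `f ∈ k(x)`.
The correspondence between such extensions and cosets of `{a² + a}` in `k(x)` is not stated. -/
theorem result (k K : Type*) [Field k] [Field K] [PerfectField k]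
    (h2 : ringChar k = 2) [Algebra (RatFunc k) K] (hdeg : Module.finrank (RatFunc k) K = 2)
    [Algebra.IsSeparable (RatFunc k) K] :
    ∃ (y : K) (f : RatFunc k), y ^ 2 + y = algebraMap (RatFunc k) K f ∧
      IntermediateField.adjoin (RatFunc k) ({y} : Set K) = ⊤ := by
  obtain ⟨z, a, b, hz, he, hmin⟩ := H81.Quadratic.exists_eq hdeg
  have : CharP k 2 := h2 ▸ ringChar.charP k
  have : CharP (RatFunc k) 2 := charP_of_injective_algebraMap (algebraMap k (RatFunc k)).injective 2
  have : CharP K 2 := charP_of_injective_algebraMap (algebraMap (RatFunc k) K).injective 2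
  have ha : a ≠ 0 := by
    rintro rfl
    have hs := (separable_iff_derivative_ne_zero (minpoly.irreducible (Algebra.IsIntegral.isIntegral z))).1
      (Algebra.IsSeparable.isSeparable (RatFunc k) z)
    rw [hmin] at hs
    exact hs (by simp [one_add_one_eq_two, CharTwo.two_eq_zero])
  refine ⟨z / algebraMap (RatFunc k) K a, b / a ^ 2, ?_, H81.Quadratic.adjoin_eq_top hdeg ?_⟩
  · have ha' : algebraMap (RatFunc k) K a ≠ 0 := (_root_.map_ne_zero _).2 ha
    rw [map_div₀, map_pow, eq_div_iff (pow_ne_zero _ ha')]
    field_simp
    linear_combination he - CharTwo.two_eq_zero (R := K) * algebraMap (RatFunc k) K b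
  · rintro ⟨c, hc⟩
    exact hz ⟨c * a, by rw [map_mul, hc, div_mul_cancel₀ _ ((_root_.map_ne_zero _).2 ha)]⟩

end Groth.Agent.S12517
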