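import Groth.Statements.S12518
import Groth.Agent.H81.RatPlace
import Groth.Agent.H81.Quadratic
import Groth.Agent.Lib.FunFld.Weil
import Groth.Agent.S12517
import Mathlib.Algebra.CharP.Two
import Mathlib.FieldTheory.Perfect

set_option autoImplicit false
open FunFld WithZero Groth.Agent.Lib.FunFld Groth.Agent.Lib.FunFld.Place

namespace Groth.Agent.S12518

section
variable {k : Type*} [Field k]

local notation "R" => RatFunc k

set_option backward.isDefEq.respectTransparency false in
/-- Any residue is attained by a function with a single pole. -/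
theorem exists_mem_L (P : FunFld.Place k (RatFunc k)) (m : ℕ) (hm : 1 ≤ m) (t : RatFunc k)
    (ht : P.1 t = exp (-1)) (r : IsLocalRing.ResidueField P.O) :
    ∃ a ∈ FunFld.L (Finsupp.single P (m : ℤ)), ∃ h : P.1 (a * t ^ m) ≤ 1,
      IsLocalRing.residue P.O ⟨a * t ^ m, h⟩ = r := by
  have hK := H81.RatPlace.isFunctionField (k := k)
  let D : FunFld.Divisor k R := Finsupp.single P (m : ℤ)
  let D' : FunFld.Divisor k R := Finsupp.single P ((m : ℤ) - 1)
  have hle : ∀ a ∈ FunFld.L D, P.1 (a * t ^ m) ≤ 1 := fun a ha => by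
    rcases eq_or_ne a 0 with rfl | ha0
    · simp
    have h1 := (Degree.mem_L_iff_ord.1 ha).resolve_left ha0 P
    rw [Finsupp.single_eq_same] at h1
    rw [map_mul, map_pow, ht, val_eq_exp P ha0, ← exp_nsmul, ← exp_add]
    refine (exp_le_exp.2 ?_).trans exp_zero.le
    simp only [nsmul_eq_mul]; omega
  let g : FunFld.L D →ₗ[k] IsLocalRing.ResidueField P.O :=
    { toFun := fun a => IsLocalRing.residue P.O ⟨(a : R) * t ^ m, hle a a.2⟩
      map_add' := fun a b => by rw [← map_add]; congr 1; exact Subtype.ext (add_mul _ _ _)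
      map_smul' := fun c a => by
        rw [RingHom.id_apply, Algebra.smul_def]
        show _ = IsLocalRing.residue P.O (algebraMap k P.O c) * IsLocalRing.residue P.O _
        rw [← map_mul]
        congr 1
        refine Subtype.ext ?_
        show (c • (a : R)) * t ^ m = ((algebraMap k P.O c : P.O) : R) * ((a : R) * t ^ m)
        rw [coe_algebraMap_O, Algebra.smul_def, mul_assoc] }
  have hker : ∀ a : FunFld.L D, g a = 0 → (a : R) ∈ FunFld.L D' := by
    intro a ha
    have ha' : P.1 ((a : R) * t ^ m) < 1 := (res_eq_zero_iff P _).1 ha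
    rw [Degree.mem_L_iff_ord]
    rcases eq_or_ne (a : R) 0 with h0 | h0
    · exact Or.inl h0
    refine Or.inr fun Q => ?_
    have h1 := (Degree.mem_L_iff_ord.1 a.2).resolve_left h0 Q
    rcases eq_or_ne Q P with rfl | hQ
    · rw [Finsupp.single_eq_same]
      rw [map_mul, map_pow, ht, val_eq_exp Q h0, ← exp_nsmul, ← exp_add] at ha'
      have := exp_lt_exp.1 (ha'.trans_eq exp_zero.symm)
      simp only [nsmul_eq_mul] at this
      omega
    · rw [Finsupp.single_eq_of_ne hQ]
      simp only [D, Finsupp.single_eq_of_ne hQ] at h1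
      exact h1
  have hg0 := Rational.genus_eq_zero_of_adjoin_eq_top hK (H81.RatPlace.adjoin_X_eq_top (k := k))
  have hPpos := Existence.deg_pos hK P
  have hellD := Weil.ell_eq_of_deg_ge hK (D := D) (by rw [hg0, Degree.deg_single]; push_cast; nlinarith)
  have hellD' := Weil.ell_eq_of_deg_ge hK (D := D') (by
    rw [hg0, Degree.deg_single]; push_cast
    have : (0 : ℤ) ≤ ((m : ℤ) - 1) * P.deg := mul_nonneg (by omega) (Int.natCast_nonneg _)
    omega)
  rw [hg0, Degree.deg_single] at hellD hellD'
  have := Degree.finiteDimensional_L hK D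
  have := Degree.finiteDimensional_L hK D'
  have := Gen.Existence.finiteDimensional_residueField hK.1 P
  let j : LinearMap.ker g →ₗ[k] FunFld.L D' :=
    LinearMap.codRestrict _ ((Submodule.subtype _).comp (LinearMap.ker g).subtype) fun a => hker a a.2
  have hj : Function.Injective j := fun a b h => Subtype.ext (Subtype.ext (congrArg (Subtype.val) h :))
  have h1 := LinearMap.finrank_le_finrank_of_injective hj
  have h2 := g.finrank_range_add_finrank_ker
  have htop : LinearMap.range g = ⊤ := by
    refine Submodule.eq_top_of_finrank_eq (le_antisymm (Submodule.finrank_le _) ?_)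
    show P.deg ≤ _
    simp only [FunFld.ell] at hellD hellD'
    have : ((m : ℤ) - 1) * P.deg = m * P.deg - P.deg := by ring
    omega
  obtain ⟨a, ha⟩ : r ∈ LinearMap.range g := htop ▸ Submodule.mem_top
  exact ⟨a, a.2, hle a a.2, ha⟩

set_option backward.isDefEq.respectTransparency false in
/-- An even pole can be lowered. -/
theorem exists_step [PerfectField k] [CharP k 2] (f : RatFunc k) (P : FunFld.Place k (RatFunc k))
    (hneg : P.ord f < 0) (heven : Even (P.ord f)) :
    ∃ h : RatFunc k, (Degree.poleDiv (k := k) (f + h ^ 2 + h)).deg < (Degree.poleDiv (k := k) f).deg := by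
  classical
  have hK := H81.RatPlace.isFunctionField (k := k)
  have : CharP R 2 := charP_of_injective_algebraMap (algebraMap k R).injective 2
  obtain ⟨c, hc⟩ := heven
  obtain ⟨m, hm⟩ : ∃ m : ℕ, (m : ℤ) = -c := ⟨(-c).toNat, Int.toNat_of_nonneg (by omega)⟩
  obtain ⟨t, ht⟩ := exists_val_eq_exp P (-1)
  have := Gen.Existence.finiteDimensional_residueField hK.1 P
  have : Algebra.IsAlgebraic k (IsLocalRing.ResidueField P.O) := Algebra.IsAlgebraic.of_finite k _
  have : PerfectField (IsLocalRing.ResidueField P.O) := Algebra.IsAlgebraic.perfectField (K := k)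
  have : CharP (IsLocalRing.ResidueField P.O) 2 :=
    charP_of_injective_algebraMap (algebraMap k (IsLocalRing.ResidueField P.O)).injective 2
  have hf0 : f ≠ 0 := by rintro rfl; simp at hneg
  have hft : P.1 (f * t ^ (2 * m)) ≤ 1 := by
    rw [map_mul, map_pow, ht, val_eq_exp P hf0, ← exp_nsmul, ← exp_add]
    refine (exp_le_exp.2 ?_).trans exp_zero.le
    simp only [nsmul_eq_mul]; push_cast; omega
  have : PerfectRing (IsLocalRing.ResidueField P.O) 2 := PerfectField.toPerfectRing 2
  obtain ⟨r, hr⟩ := surjective_frobenius (IsLocalRing.ResidueField P.O) 2 (IsLocalRing.residue P.O ⟨_, hft⟩)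
  obtain ⟨a, haL, hat, hres⟩ := exists_mem_L P m (by omega) t ht r
  refine ⟨a, ?_⟩
  have hd : P.1 (f * t ^ (2 * m) + (a * t ^ m) ^ 2) < 1 := by
    have h0 : IsLocalRing.residue P.O (⟨_, hft⟩ + ⟨_, hat⟩ ^ 2) = 0 := by
      rw [map_add, map_pow, hres, ← hr]
      exact CharTwo.add_self_eq_zero (r ^ 2)
    exact (res_eq_zero_iff P _).1 h0
  have hstrict : P.1 (f + a ^ 2 + a) < exp (2 * (m : ℤ)) := by
    refine P.1.map_add_lt ?_ ?_
    · rw [show f * t ^ (2 * m) + (a * t ^ m) ^ 2 = (f + a ^ 2) * t ^ (2 * m) by ring,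
        map_mul, map_pow, ht] at hd
      rcases eq_or_ne (P.1 (f + a ^ 2)) 0 with h0 | h0
      · rw [h0]; exact exp_pos
      · rw [← exp_log h0, ← exp_nsmul, ← exp_add] at hd
        have := exp_lt_exp.1 (hd.trans_eq exp_zero.symm)
        rw [← exp_log h0, exp_lt_exp]
        simp only [nsmul_eq_mul] at this
        push_cast at this
        omega
    · rcases eq_or_ne a 0 with rfl | ha0
      · rw [map_zero]; exact exp_pos
      · have h1 := (Degree.mem_L_iff_ord.1 haL).resolve_left ha0 P
        rw [Finsupp.single_eq_same] at h1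
        rw [val_eq_exp P ha0, exp_lt_exp]
        omega
  have hsame : ∀ Q : FunFld.Place k R, Q ≠ P →
      Q.1 (f + a ^ 2 + a) ≤ max (Q.1 f) 1 := by
    intro Q hQ
    have ha1 : Q.1 a ≤ 1 := by
      rcases eq_or_ne a 0 with rfl | ha0
      · simp
      · have h1 := (Degree.mem_L_iff_ord.1 haL).resolve_left ha0 Q
        rw [Finsupp.single_eq_of_ne hQ] at h1
        rw [val_le_one_iff]; omega
    exact (Q.1.map_add _ _).trans (max_le ((Q.1.map_add _ _).trans (max_le (le_max_left _ _)
      ((by rw [map_pow]; exact pow_le_one₀ zero_le ha1 : Q.1 (a ^ 2) ≤ 1).trans (le_max_right _ _))))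
      (ha1.trans (le_max_right _ _)))
  have hlt : Degree.poleDiv (k := k) (f + a ^ 2 + a) + Finsupp.single P 1 ≤ Degree.poleDiv (k := k) f := by
    intro Q
    rw [Finsupp.add_apply, Degree.poleDiv_apply hK, Degree.poleDiv_apply hK]
    rcases eq_or_ne (f + a ^ 2 + a) 0 with h0 | h0
    · rw [h0, ord_zero]
      rcases eq_or_ne Q P with rfl | hQ
      · rw [Finsupp.single_eq_same]; omega
      · rw [Finsupp.single_eq_of_ne hQ]; omega
    rcases eq_or_ne Q P with rfl | hQ
    · rw [Finsupp.single_eq_same]
      rw [val_eq_exp Q h0, exp_lt_exp] at hstrict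
      omega
    · rw [Finsupp.single_eq_of_ne hQ]
      have h1 := hsame Q hQ
      rcases le_max_iff.1 h1 with h1 | h1
      · rw [val_eq_exp Q h0, val_eq_exp Q hf0, exp_le_exp] at h1; omega
      · rw [val_le_one_iff] at h1; omega
  have h3 := Degree.deg_mono hlt
  rw [Degree.deg_add, Degree.deg_single, one_mul] at h3
  have := Existence.deg_pos hK P
  omega

end

/-- If `k` is perfect of characteristic `2` and `K` is a separable extension of degree `2` of `k(x)`,
then `K = k(x)(y)` for some `y` with `y² + y = f(x)` such that every pole of `f`, at any place of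
`k(x)/k` including the infinite one, has odd order. -/
theorem result (k K : Type*) [Field k] [Field K] [PerfectField k] (h2 : ringChar k = 2)
    [Algebra k K] [Algebra (RatFunc k) K] [IsScalarTower k (RatFunc k) K]
    (hdeg : Module.finrank (RatFunc k) K = 2) [Algebra.IsSeparable (RatFunc k) K] :
    ∃ (y : K) (f : RatFunc k), y ^ 2 + y = algebraMap (RatFunc k) K f ∧
      IntermediateField.adjoin (RatFunc k) ({y} : Set K) = ⊤ ∧
      ∀ P : FunFld.Place k (RatFunc k), P.ord f < 0 → Odd (P.ord f) := by
  classical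
  have : CharP k 2 := h2 ▸ ringChar.charP k
  have : CharP K 2 := charP_of_injective_algebraMap (algebraMap k K).injective 2
  obtain ⟨y₀, f₀, h₀, htop₀⟩ := S12517.result k K h2 hdeg
  have hy₀ : y₀ ∉ Set.range (algebraMap (RatFunc k) K) := by
    rintro ⟨c, rfl⟩
    rw [IntermediateField.adjoin_simple_eq_bot_iff.2 (IntermediateField.algebraMap_mem _ c)] at htop₀
    have := IntermediateField.finrank_top' (F := RatFunc k) (E := K)
    rw [← htop₀, IntermediateField.finrank_bot, hdeg] at this
    omega
  suffices key : ∀ n : ℕ, ∀ (y : K) (f : RatFunc k), y ∉ Set.range (algebraMap (RatFunc k) K) →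
      y ^ 2 + y = algebraMap (RatFunc k) K f → (Degree.poleDiv (k := k) f).deg ≤ n →
      ∃ (y : K) (f : RatFunc k), y ∉ Set.range (algebraMap (RatFunc k) K) ∧
        y ^ 2 + y = algebraMap (RatFunc k) K f ∧
        ∀ P : FunFld.Place k (RatFunc k), P.ord f < 0 → Odd (P.ord f) by
    obtain ⟨y, f, hy, he, hodd⟩ := key _ y₀ f₀ hy₀ h₀ (Int.self_le_toNat _)
    exact ⟨y, f, he, H81.Quadratic.adjoin_eq_top hdeg hy, hodd⟩
  intro n
  induction n using Nat.strong_induction_on with
  | _ n ih =>
    intro y f hy he hn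
    by_cases hall : ∀ P : FunFld.Place k (RatFunc k), P.ord f < 0 → Odd (P.ord f)
    · exact ⟨y, f, hy, he, hall⟩
    push Not at hall
    obtain ⟨P, hneg, hev⟩ := hall
    obtain ⟨a, ha⟩ := exists_step f P hneg (Int.not_odd_iff_even.1 hev)
    have h0 : 0 ≤ (Degree.poleDiv (k := k) (f + a ^ 2 + a)).deg := Degree.deg_nonneg (negPart_nonneg _)
    refine ih (Degree.poleDiv (k := k) (f + a ^ 2 + a)).deg.toNat (by omega) (y + algebraMap (RatFunc k) K a)
      (f + a ^ 2 + a) ?_ ?_ (Int.self_le_toNat _)
    · rintro ⟨c, hc⟩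
      exact hy ⟨c - a, by rw [map_sub, hc]; exact add_sub_cancel_right y _⟩
    · simp only [map_add, map_pow]
      rw [CharTwo.add_sq]
      linear_combination he

end Groth.Agent.S12518
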