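import Groth.Statements.S12519
import Groth.Agent.H81.RatPlace
import Groth.Agent.H81.Quadratic
import Mathlib.Algebra.CharP.Two

set_option autoImplicit false
open FunFld Polynomial Groth.Agent.Lib.FunFld

namespace Groth.Agent.S12519

/-- Let `k` be perfect of characteristic `2`, `K` separable of degree `2` over `k(x)`, and `y ∈ K \
k(x)` with `y² + y = f(x)`. At a place `p` of `k(x)/k` where `f` has a pole of odd order there is a
unique place `P` of `K` above `p`, with `e(P|p) = 2` and `deg P = deg p` (residue degree `1`); at a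
place where `f` has no pole, every place of `K` above it is unramified. The different is not stated. -/
theorem result (k K : Type*) [Field k] [Field K] [PerfectField k] (h2 : ringChar k = 2)
    [Algebra k K] [Algebra (RatFunc k) K] [IsScalarTower k (RatFunc k) K]
    (hdeg : Module.finrank (RatFunc k) K = 2) [Algebra.IsSeparable (RatFunc k) K]
    (y : K) (hy : y ∉ Set.range (algebraMap (RatFunc k) K))
    (f : RatFunc k) (heq : y ^ 2 + y = algebraMap (RatFunc k) K f)
    (P₀ : FunFld.Place k (RatFunc k)) :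
    ((P₀.ord f < 0 ∧ Odd (P₀.ord f)) → (∃! P : FunFld.Place k K, FunFld.IsOver P P₀) ∧
      ∀ P : FunFld.Place k K, FunFld.IsOver P P₀ → FunFld.IsOverWith P P₀ 2 ∧ P.deg = P₀.deg) ∧
    (0 ≤ P₀.ord f → ∀ P : FunFld.Place k K, FunFld.IsOver P P₀ → FunFld.IsOverWith P P₀ 1) := by
  have : FiniteDimensional (RatFunc k) K := Module.finite_of_finrank_eq_succ hdeg
  have : CharP k 2 := h2 ▸ ringChar.charP k
  have : CharP K 2 := charP_of_injective_algebraMap (algebraMap k K).injective 2
  refine ⟨fun ⟨hneg, hodd⟩ => ?_, fun hnn Q hQ => ?_⟩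
  · refine H81.Quadratic.ramified H81.RatPlace.isFunctionField hdeg P₀ (m := P₀.ord f) hodd fun Q e he => ?_
    have h1 := Ext.ord_map he f
    rw [← heq] at h1
    have he0 : (0 : ℤ) < e := by exact_mod_cast Ext.pos_of_isOverWith he
    have hlt : (e : ℤ) * P₀.ord f < 0 := mul_neg_of_pos_of_neg he0 hneg
    have hy0 : 1 < Q.1 y := by
      by_contra h
      rw [not_lt] at h
      have : Q.1 (y ^ 2 + y) ≤ 1 := (Q.1.map_add _ _).trans (max_le (by rw [map_pow]; exact pow_le_one₀ zero_le h) h)
      have := (Place.val_le_one_iff Q).1 this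
      omega
    have hval : Q.1 (y ^ 2 + y) = Q.1 y ^ 2 := by
      rw [Valuation.map_add_eq_of_lt_left, map_pow]
      rw [map_pow]
      exact lt_self_pow₀ hy0 one_lt_two
    have h3 : Q.ord (y ^ 2 + y) = 2 * Q.ord y := by
      rw [Place.ord_def, Place.ord_def, hval, WithZero.log_pow, nsmul_eq_mul]; push_cast; ring
    exact ⟨Q.ord y, by rw [← h3, h1]⟩
  · obtain ⟨e, he⟩ := hQ
    have hf1 : P₀.1 f ≤ 1 := (Place.val_le_one_iff P₀).2 hnn
    let p : P₀.O[X] := X ^ 2 + X - C ⟨f, hf1⟩
    have hp : p.Monic := by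
      simp only [p, sub_eq_add_neg, add_assoc]
      refine monic_X_pow_add ?_
      rw [← C_neg]
      exact (degree_X_add_C _).trans_lt (by norm_num)
    have h := H81.Quadratic.e_eq_one Q P₀ (Ext.pos_of_isOverWith he) he (y := y) hp ?_ ?_
      (H81.Quadratic.exists_linear hdeg hy)
    · exact h ▸ he
    · simp only [p, eval₂_sub, eval₂_add, eval₂_pow, eval₂_X, eval₂_C, heq]
      exact sub_self _
    · simp [p, one_add_one_eq_two]
      rw [show ((2 : P₀.O) : RatFunc k) = 2 from rfl, map_ofNat, CharTwo.two_eq_zero, zero_mul, zero_add, map_one]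

end Groth.Agent.S12519
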