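import Groth.Statements.S12520
import Groth.Agent.H81.FunFldSub

set_option autoImplicit false
universe u v
open FunFld

namespace Groth.Agent.S12520

/-- For a geometric function field of one variable `K/k` of characteristic `p > 0` and a geometric
function field `K₀/k₀` with `K₀ ⊆ K` of finite index (and `k₀ ⊆ k` compatibly), the map `Ω_{K₀/k₀} →
Ω_{K/k}` induced by the inclusion vanishes when `K₀ ⊆ kK^p` and is injective otherwise. -/
theorem result (k₀ k : Type u) (K₀ K : Type v) [Field k₀] [Field k] [Field K₀] [Field K]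
    [Algebra k₀ k] [Algebra k₀ K₀] [Algebra k₀ K] [Algebra k K] [Algebra K₀ K]
    [IsScalarTower k₀ k K] [IsScalarTower k₀ K₀ K] [FiniteDimensional K₀ K]
    (p : ℕ) [Fact p.Prime] [CharP K p]
    (hK : FunFld.IsFunctionField k K) (hg : FunFld.IsGeometric k K)
    (hK₀ : FunFld.IsFunctionField k₀ K₀) (hg₀ : FunFld.IsGeometric k₀ K₀) :
    (Set.range (algebraMap K₀ K) ⊆ ↑(IntermediateField.adjoin k (Set.range fun y : K => y ^ p)) →
      KaehlerDifferential.map k₀ k K₀ K = 0) ∧
    (¬ Set.range (algebraMap K₀ K) ⊆ ↑(IntermediateField.adjoin k (Set.range fun y : K => y ^ p)) →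
      Function.Injective (KaehlerDifferential.map k₀ k K₀ K)) := by
  have hsep := Lib.FunFld.Hasse.Separable.exists_isSep_of_geometric hK hg
  have hiff := fun z : K => H81.FunFldSep.mem_powField_iff (p := p) hK hsep z
  constructor
  · intro h
    refine LinearMap.ext_on (KaehlerDifferential.span_range_derivation k₀ K₀) ?_
    rintro _ ⟨a, rfl⟩
    rw [KaehlerDifferential.map_D, LinearMap.zero_apply]
    exact (hiff _).1 (h ⟨a, rfl⟩)
  · intro h
    obtain ⟨_, ⟨a, rfl⟩, ha⟩ := Set.not_subset.1 h
    have hne : KaehlerDifferential.map k₀ k K₀ K (KaehlerDifferential.D k₀ K₀ a) ≠ 0 := by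
      rw [KaehlerDifferential.map_D]
      exact fun h0 => ha ((hiff _).2 h0)
    obtain ⟨x₀, hx₀⟩ := Lib.FunFld.Hasse.Separable.exists_isSep_of_geometric hK₀ hg₀
    have hspan := Lib.FunFld.Hasse.Separable.span_D_eq_top hx₀
    obtain ⟨b, hb⟩ := Submodule.mem_span_singleton.1
      (hspan ▸ Submodule.mem_top : KaehlerDifferential.D k₀ K₀ a ∈ _)
    rw [injective_iff_map_eq_zero]
    intro ω hω
    obtain ⟨c, rfl⟩ := Submodule.mem_span_singleton.1 (hspan ▸ Submodule.mem_top : ω ∈ _)
    rw [map_smul, ← algebraMap_smul K c, smul_eq_zero] at hω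
    rcases hω with h0 | h0
    · rw [(map_eq_zero _).1 h0, zero_smul]
    · exact absurd (by rw [← hb, map_smul, h0, smul_zero]) hne

end Groth.Agent.S12520
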