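import Groth.Statements.S12521
import Groth.Agent.Lib.FunFld.InertiaField
-- import your own Groth.Agent.* helpers here

set_option autoImplicit false
open FunFld

namespace Groth.Agent.S12521
open Groth.Agent.Lib.FunFld
open scoped Pointwise


/-- For a finite Galois extension `K'/K` of a geometric function field of one variable, a place `Q` of
`K'` with residue field separable over `k`, and `K₁` the inertia field of `Q` (fixed field of the
inertia group), `K'/K₁` is totally ramified at `Q`: the place of `K₁` under `Q` has ramification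
index `[K' : K₁]`. (The published hypothesis is that the residue field of `Q` is separable over the
residue field of the place of `K` below `Q`; this row assumes the stronger condition that the
residue field of `Q` is separable over `k`.) -/
theorem result (k K K' : Type*) [Field k] [Field K] [Field K'] [Algebra k K] [Algebra K K'] [Algebra k K']
    [IsScalarTower k K K'] [FiniteDimensional K K'] (hK : FunFld.IsFunctionField k K) (hg : FunFld.IsGeometric k K)
    [IsGalois K K'] (Q : FunFld.Place k K') [Algebra.IsSeparable k (IsLocalRing.ResidueField Q.O)] :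
    let K₁ : IntermediateField K K' := IntermediateField.fixedField
        (((Q.O).inertiaSubgroup K).map ((Q.O).decompositionSubgroup K).subtype)
    ∃ Q₁ : FunFld.Place k K₁, FunFld.IsOverWith Q Q₁ (Module.finrank K₁ K') := by
  intro K₁
  have : IsScalarTower k K₁ K' := IsScalarTower.of_algebraMap_eq fun c => by
    rw [IsScalarTower.algebraMap_apply k K K₁, ← IsScalarTower.algebraMap_apply K K₁ K',
      ← IsScalarTower.algebraMap_apply k K K']
  set H := ((Q.O).inertiaSubgroup K).map ((Q.O).decompositionSubgroup K).subtype with hH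
  have hmem : ∀ σ : K' ≃ₐ[K₁] K', ∃ τ : (Q.O).decompositionSubgroup K,
      τ ∈ (Q.O).inertiaSubgroup K ∧ ∀ x, (τ : K' ≃ₐ[K] K') x = σ x := by
    intro σ
    have h1 : σ.restrictScalars K ∈ IntermediateField.fixingSubgroup K₁ := by
      rw [IntermediateField.mem_fixingSubgroup_iff]
      intro x hx
      exact σ.commutes ⟨x, hx⟩
    rw [IntermediateField.fixingSubgroup_fixedField] at h1
    obtain ⟨τ, hτ, he⟩ := Subgroup.mem_map.mp h1
    exact ⟨τ, hτ, fun x => DFunLike.congr_fun he x⟩
  refine InertiaField.totally_ramified (T := K₁) (Ext.isFF_of_finite hK) Q (fun σ x => ?_) fun σ x hx => ?_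
  · obtain ⟨τ, -, he⟩ := hmem σ
    rw [← he]
    have h2 := τ.2
    rw [MulAction.mem_stabilizer_iff] at h2
    have h3 := ValuationSubring.smul_mem_pointwise_smul_iff (g := (τ : K' ≃ₐ[K] K')) (S := Q.O) (x := x)
    rw [h2] at h3
    exact h3
  · obtain ⟨τ, hτ, he⟩ := hmem σ
    have h2 := RingEquiv.congr_fun (MonoidHom.mem_ker.mp hτ) (IsLocalRing.residue Q.O ⟨x, hx⟩)
    have h3 : IsLocalRing.residue Q.O (τ • (⟨x, hx⟩ : Q.O)) = IsLocalRing.residue Q.O ⟨x, hx⟩ := h2
    rw [← sub_eq_zero, ← map_sub, Place.res_eq_zero_iff] at h3
    rw [← he]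
    exact h3

end Groth.Agent.S12521
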