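import Groth.Statements.S12630
import Mathlib
import Groth.Agent.H24.PowerSeries

set_option autoImplicit false
universe u v
open CAlg

namespace Groth.Agent.S12630

/-- Let `A` be a complete discrete valuation ring containing a field `K` that maps bijectively onto the
residue field (a coefficient field). Then for every generator `x` of the maximal ideal there is a
`K`-algebra isomorphism from the formal power series ring `K[[t]]` onto `A` sending `t` to `x`; it
extends the evaluation map `K[t] → A`, `t ↦ x`, and is the only `K`-algebra map `K[[t]] → A` with `t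
↦ x` since `A` is separated. (The first assertion, the mere existence of an isomorphism with a power
series ring, is the one-variable case of the structure of complete regular local rings with a
coefficient field and is not restated.) -/
theorem result (K : Type u) (A : Type v) [Field K]
    [CommRing A] [IsDomain A] [IsDiscreteValuationRing A] [IsAdicComplete (IsLocalRing.maximalIdeal A) A]
    [Algebra K A] (hK : Function.Bijective (algebraMap K (IsLocalRing.ResidueField A)))
    (x : A) (hx : IsLocalRing.maximalIdeal A = Ideal.span {x}) :
    ∃ e : PowerSeries K ≃ₐ[K] A, e PowerSeries.X = x := by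
  obtain ⟨ψ, hψ⟩ := Groth.Agent.H24.PowerSeries.exists_hom (A := K) (σ := Unit)
    (IsLocalRing.maximalIdeal A) (fun _ => x) (fun _ => hx ▸ Ideal.mem_span_singleton_self x)
  have := Groth.Agent.H24.PowerSeries.isAdicComplete K Unit
  have hX : ψ PowerSeries.X = x := hψ ()
  have hmap : (IsLocalRing.maximalIdeal (PowerSeries K)).map ψ.toRingHom = IsLocalRing.maximalIdeal A := by
    rw [PowerSeries.maximalIdeal_eq_span_X, Ideal.map_span, Set.image_singleton, hx]
    exact congrArg (fun z => Ideal.span {z}) hX
  have hsurj : Function.Surjective ψ := by
    refine Groth.Agent.H24.PowerSeries.surjective_of_cotangent ψ.toRingHom ?_ hmap.le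
      (hmap.symm ▸ le_sup_left)
    intro q
    obtain ⟨c, hc⟩ := hK.2 q
    refine ⟨algebraMap K _ c, ?_⟩
    simp only [RingHom.comp_apply, AlgHom.toRingHom_eq_coe, RingHom.coe_coe, AlgHom.commutes]
    exact hc
  have hinj : Function.Injective (ψ : PowerSeries K →ₐ[K] A) := by
    rw [injective_iff_map_eq_zero]
    intro f hf
    by_contra h0
    obtain ⟨n, u, hu⟩ := IsDiscreteValuationRing.eq_unit_mul_pow_irreducible h0 (PowerSeries.X_prime.irreducible)
    rw [hu, map_mul, map_pow, hX, (u.isUnit.map ψ).mul_right_eq_zero] at hf
    have hx0 : x = 0 := eq_zero_of_pow_eq_zero hf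
    apply IsDiscreteValuationRing.not_a_field A
    rw [hx, hx0, Ideal.span_singleton_zero]
  exact ⟨AlgEquiv.ofBijective ψ ⟨hinj, hsurj⟩, hX⟩

end Groth.Agent.S12630
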