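import Groth.Statements.S12524
import Mathlib
import Groth.Agent.S12630

set_option autoImplicit false
universe u v
open CAlg

namespace Groth.Agent.S12524

open IsLocalRing in
/-- Let `A` be a complete discrete valuation ring with maximal ideal `m`, containing a field `K` such
that `K → A → A/m` is bijective (a coefficient field), and let `x` be any generator of `m`. Then the
`K`-algebra map `K[X] → A`, `X ↦ x`, extends to a bijective `K`-algebra map `φ : K⟦X⟧ → A`,
characterised by `φ(∑ aᵢ Xⁱ) ≡ ∑_{i<n} aᵢ xⁱ (mod mⁿ)` for every `n`. -/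
theorem result (K : Type u) (A : Type v) [Field K]
    [CommRing A] [IsDomain A] [IsDiscreteValuationRing A] [Algebra K A]
    [IsAdicComplete (maximalIdeal A) A]
    (hK : Function.Bijective ((residue A).comp (algebraMap K A)))
    (x : A) (hx : maximalIdeal A = Ideal.span {x}) :
    ∃ φ : PowerSeries K →ₐ[K] A, φ PowerSeries.X = x ∧ Function.Bijective φ ∧
      ∀ (f : PowerSeries K) (n : ℕ),
        φ f - (Finset.range n).sum (fun i => algebraMap K A (PowerSeries.coeff i f) * x ^ i) ∈
          maximalIdeal A ^ n := by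
  obtain ⟨e, he⟩ := Groth.Agent.S12630.result K A hK x hx
  refine ⟨e.toAlgHom, he, e.bijective, fun f n => ?_⟩
  set g : PowerSeries K := f - ∑ i ∈ Finset.range n, PowerSeries.C (PowerSeries.coeff i f) * PowerSeries.X ^ i with hg
  have hdvd : (PowerSeries.X : PowerSeries K) ^ n ∣ g := by
    rw [PowerSeries.X_pow_dvd_iff]
    intro m hm
    rw [hg, map_sub, map_sum, Finset.sum_eq_single m]
    · rw [PowerSeries.coeff_C_mul, PowerSeries.coeff_X_pow, if_pos rfl, mul_one, sub_self]
    · intro b _ hb; rw [PowerSeries.coeff_C_mul, PowerSeries.coeff_X_pow, if_neg (Ne.symm hb), mul_zero]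
    · exact fun hh => absurd (Finset.mem_range.mpr hm) hh
  obtain ⟨q, hq⟩ := hdvd
  have h := congrArg e hq
  rw [hg, map_sub, map_sum, map_mul, map_pow, he] at h
  have hterm : ∀ i, e (PowerSeries.C (PowerSeries.coeff i f) * PowerSeries.X ^ i) =
      algebraMap K A (PowerSeries.coeff i f) * x ^ i := fun i => by
    rw [map_mul, map_pow, he, ← AlgEquiv.commutes e]
    rfl
  rw [Finset.sum_congr rfl fun i _ => hterm i] at h
  show e f - _ ∈ _
  rw [h, hx, Ideal.span_singleton_pow]
  exact Ideal.mul_mem_right _ _ (Ideal.mem_span_singleton_self _)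

end Groth.Agent.S12524
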