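import Groth.Statements.S12526
import Groth.Agent.Lib.FunFld.ConstBase
-- import your own Groth.Agent.* helpers here

set_option autoImplicit false
universe u v
open FunFld

namespace Groth.Agent.S12526
open Groth.Agent Groth.Agent.Lib.FunFld


/-- Let `K/k` be a geometric function field of one variable, `P` a place of `K`, `k'/k` finite and `K' =
k' ⊗_k K`; let `R` be the integral closure of `O_P` in `K'` and `R̃ = k' ⊗_k O_P = O_P[k']`. Then
`R/R̃` is finite-dimensional over `k`, and `R̃` contains a nonzero ideal of `R`. -/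
theorem result (k k' : Type u) (K K' : Type v) [Field k] [Field k'] [Field K] [Field K']
    [Algebra k k'] [FiniteDimensional k k'] [Algebra k K] [Algebra K K'] [Algebra k' K'] [Algebra k K']
    [IsScalarTower k k' K'] [IsScalarTower k K K']
    (h : Function.Bijective (Algebra.TensorProduct.productMap
      (IsScalarTower.toAlgHom k k' K') (IsScalarTower.toAlgHom k K K')))
    (hK : FunFld.IsFunctionField k K) (hg : FunFld.IsGeometric k K)
    (P : FunFld.Place k K) [Algebra P.O K'] [IsScalarTower P.O K K'] :
    (∃ V : Submodule k K', FiniteDimensional k V ∧ ∀ r ∈ integralClosure P.O K',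
        ∃ s ∈ Algebra.adjoin P.O (Set.range (algebraMap k' K')), r - s ∈ V) ∧
    (∃ c ∈ integralClosure P.O K', c ≠ 0 ∧ ∀ r ∈ integralClosure P.O K',
        c * r ∈ Algebra.adjoin P.O (Set.range (algebraMap k' K'))) := by
  classical
  have : FiniteDimensional K K' := ConstBase.finiteDimensional h
  let b := Module.finBasis k k'
  let B := ConstBase.constBasis h b
  obtain ⟨T, hT⟩ := (H81.IntClosure.finite (K' := K') (P := P) hK)
  obtain ⟨π, hπ⟩ := Place.exists_val_eq_exp P (-1)
  have hπ0 : π ≠ 0 := fun h => WithZero.exp_ne_zero (by rw [← hπ, h, map_zero])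
  have hπ1 : P.1 π ≤ 1 := hπ.le.trans (by rw [← WithZero.exp_zero, WithZero.exp_le_exp]; omega)
  have hpow : ∀ n : ℕ, P.1 (π ^ n) = WithZero.exp (-(n : ℤ)) := fun n => by
    rw [map_pow, hπ, ← WithZero.exp_nsmul]; simp
  -- a power of `π` clearing all coordinates of the generators
  obtain ⟨N, hN⟩ : ∃ N : ℕ, ∀ g ∈ T, ∀ j, P.1 (π ^ N * B.repr (g : K') j) ≤ 1 := by
    refine ⟨T.sup fun g => Finset.univ.sup fun j => (-(P.ord (B.repr (g : K') j))).toNat, fun g hg j => ?_⟩
    rcases eq_or_ne (B.repr (g : K') j) 0 with h0 | h0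
    · simp [h0]
    rw [map_mul, hpow, Place.val_eq_exp P h0, ← WithZero.exp_add]
    refine (WithZero.exp_le_exp.2 (show _ ≤ (0 : ℤ) from ?_)).trans WithZero.exp_zero.le
    have h1 := (Finset.le_sup (f := fun j => (-(P.ord (B.repr (g : K') j))).toNat) (Finset.mem_univ j)).trans
      (Finset.le_sup (f := fun g : integralClosure P.O K' =>
        Finset.univ.sup fun j => (-(P.ord (B.repr (g : K') j))).toNat) hg)
    omega
  let c : K' := algebraMap K K' (π ^ N)
  have hcmem : ∀ g ∈ T, c * (g : K') ∈ Algebra.adjoin P.O (Set.range (algebraMap k' K')) := by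
    intro g hg
    refine (ConstBase.mem_adjoin_O_iff h b P _).2 fun j => ?_
    show P.1 ((B.repr (algebraMap K K' (π ^ N) * (g : K'))) j) ≤ 1
    rw [← Algebra.smul_def, map_smul]
    exact hN g hg j
  have hexp : ∀ r ∈ integralClosure P.O K', ∃ a : integralClosure P.O K' → P.O,
      r = ∑ g ∈ T, algebraMap P.O K' (a g) * (g : K') := by
    intro r hr
    have h1 : (⟨r, hr⟩ : integralClosure P.O K') ∈ Submodule.span P.O (T : Set (integralClosure P.O K')) := by
      rw [hT]; trivial
    obtain ⟨a, -, ha⟩ := Submodule.mem_span_finset.1 h1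
    refine ⟨a, ?_⟩
    have := congrArg (Subtype.val : integralClosure P.O K' → K') ha
    rw [AddSubmonoidClass.coe_finsetSum] at this
    exact this.symm.trans (Finset.sum_congr rfl fun g _ => Algebra.smul_def (a g) (g : K'))
  refine ⟨?_, c, ?_, by simpa [c] using pow_ne_zero N hπ0, fun r hr => ?_⟩
  · -- `O_P` modulo `π^N` is finite over `k`
    have hfd : FiniteDimensional k (IsLocalRing.ResidueField P.O) :=
      Module.finite_of_finrank_pos (Existence.deg_pos hK P)
    let w := Module.finBasis k (IsLocalRing.ResidueField P.O)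
    choose l hl using fun i => IsLocalRing.residue_surjective (w i)
    let U : Submodule k K := Submodule.span k
      (Set.range fun p : Fin N × Fin (Module.finrank k (IsLocalRing.ResidueField P.O)) =>
        π ^ (p.1 : ℕ) * (l p.2 : K))
    have hU : ∀ n ≤ N, ∀ a : P.O, ∃ u ∈ U, P.1 ((a : K) - u) ≤ WithZero.exp (-(n : ℤ)) := by
      intro n
      induction n with
      | zero => exact fun _ a => ⟨0, U.zero_mem, by simp only [sub_zero, Nat.cast_zero, neg_zero, WithZero.exp_zero]; exact a.2⟩
      | succ n ih =>
        intro hn a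
        obtain ⟨u, hu, hua⟩ := ih (by omega) a
        have h1 : P.1 (((a : K) - u) / π ^ n) ≤ 1 := by
          rw [map_div₀, hpow, div_le_one₀ WithZero.exp_pos]; exact hua
        let cf := w.repr (IsLocalRing.residue P.O ⟨_, h1⟩)
        refine ⟨u + ∑ i, cf i • (π ^ n * (l i : K)), U.add_mem hu (Submodule.sum_mem _ fun i _ =>
          U.smul_mem _ (Submodule.subset_span ⟨(⟨n, by omega⟩, i), rfl⟩)), ?_⟩
        let d : P.O := ⟨_, h1⟩ - ∑ i, algebraMap k P.O (cf i) * l i
        have hd : P.1 (d : K) < 1 := by
          rw [← Place.res_eq_zero_iff, map_sub, map_sum, sub_eq_zero]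
          refine (w.sum_repr _).symm.trans (Finset.sum_congr rfl fun i _ => ?_)
          rw [map_mul, hl]
          exact Algebra.smul_def (cf i) (w i)
        have e : (a : K) - (u + ∑ i, cf i • (π ^ n * (l i : K))) = π ^ n * (d : K) := by
          simp only [d, AddSubgroupClass.coe_sub, AddSubmonoidClass.coe_finsetSum, MulMemClass.coe_mul,
            Place.coe_algebraMap_O, mul_sub, Finset.mul_sum, Algebra.smul_def]
          rw [mul_div_cancel₀ _ (pow_ne_zero _ hπ0), sub_sub]
          congr 2
          exact Finset.sum_congr rfl fun i _ => by ring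
        have h2 : P.1 (d : K) ≤ WithZero.exp (-1) := by
          simpa using Approx.val_le_of_lt_one hd 1
        rw [e, map_mul, hpow]
        refine (mul_le_mul' le_rfl h2).trans ?_
        rw [← WithZero.exp_add, WithZero.exp_le_exp]; omega
    have : FiniteDimensional k U := FiniteDimensional.span_of_finite k (Set.finite_range _)
    let V : Submodule k K' := ⨆ g ∈ T, U.map
      ((LinearMap.mulRight k (g : K')).comp (IsScalarTower.toAlgHom k K K').toLinearMap)
    refine ⟨V, ?_, fun r hr => ?_⟩
    · have : ∀ g, FiniteDimensional k (U.map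
        ((LinearMap.mulRight k ((g : integralClosure P.O K') : K')).comp
          (IsScalarTower.toAlgHom k K K').toLinearMap)) := fun g => inferInstance
      show FiniteDimensional k (⨆ g ∈ T, _ : Submodule k K')
      rw [← Finset.sup_eq_iSup]
      exact Submodule.finite_finset_sup _ _
    obtain ⟨a, rfl⟩ := hexp r hr
    choose u hu hua using fun g => hU N le_rfl (a g)
    have ho : ∀ g, P.1 (((a g : K) - u g) / π ^ N) ≤ 1 := fun g => by
      rw [map_div₀, hpow, div_le_one₀ WithZero.exp_pos]; exact hua g
    refine ⟨∑ g ∈ T, algebraMap P.O K' ⟨_, ho g⟩ * (c * (g : K')),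
      Subalgebra.sum_mem _ fun g hg => Subalgebra.mul_mem _ (Subalgebra.algebraMap_mem _ _) (hcmem g hg), ?_⟩
    rw [← Finset.sum_sub_distrib]
    refine Submodule.sum_mem _ fun g hg => ?_
    refine le_biSup (f := fun g : integralClosure P.O K' => U.map
      ((LinearMap.mulRight k (g : K')).comp (IsScalarTower.toAlgHom k K K').toLinearMap)) hg
      ⟨u g, hu g, ?_⟩
    simp only [c, LinearMap.comp_apply, LinearMap.mulRight_apply, AlgHom.toLinearMap_apply,
      IsScalarTower.toAlgHom_apply, H81.IntClosure.algebraMap_O]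
    rw [← mul_assoc, ← map_mul, div_mul_cancel₀ _ (pow_ne_zero _ hπ0), map_sub]
    ring
  · show IsIntegral P.O (algebraMap K K' (π ^ N))
    rw [show algebraMap K K' (π ^ N) = algebraMap P.O K' (⟨π, hπ1⟩ ^ N) by
      rw [H81.IntClosure.algebraMap_O]; rfl]
    exact isIntegral_algebraMap
  · obtain ⟨a, rfl⟩ := hexp r hr
    rw [Finset.mul_sum]
    refine Subalgebra.sum_mem _ fun g hg => ?_
    rw [mul_left_comm]
    exact Subalgebra.mul_mem _ (Subalgebra.algebraMap_mem _ _) (hcmem g hg)

end Groth.Agent.S12526
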