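import Groth.Statements.S12534
import Groth.Agent.Lib.FunFld.ConstIntegral
import Groth.Agent.H81.ConstPlace
-- import your own Groth.Agent.* helpers here

set_option autoImplicit false
universe u v
open FunFld

namespace Groth.Agent.S12534
open Groth.Agent Groth.Agent.Lib.FunFld


/-- Let `K/k` be a geometric function field of one variable, `P` a place of `K`, and `k ⊆ k' ⊆ k''`
finite extensions, `K' = k' ⊗_k K`, `K'' = k'' ⊗_{k'} K'`. Then `P` is nonsingular with respect to
`k''` if and only if `P` is nonsingular with respect to `k'` and every place `Q` of `K'` above `P`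
is nonsingular with respect to `k''`. Here 'nonsingular with respect to `k'`' means that the
integral closure of the valuation ring in `K'` is the ring generated over it by `k'`, both taken
inside `K'` over the image of the valuation ring. -/
theorem result (k k' k'' : Type u) (K K' K'' : Type v) [Field k] [Field k'] [Field k''] [Field K] [Field K'] [Field K'']
    [Algebra k k'] [Algebra k' k''] [Algebra k k''] [IsScalarTower k k' k'']
    [FiniteDimensional k k'] [FiniteDimensional k' k'']
    [Algebra k K] [Algebra K K'] [Algebra k' K'] [Algebra k K'] [IsScalarTower k k' K'] [IsScalarTower k K K']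
    [Algebra K' K''] [Algebra k'' K''] [Algebra k' K''] [Algebra k K''] [Algebra K K'']
    [IsScalarTower k' k'' K''] [IsScalarTower k' K' K''] [IsScalarTower K K' K''] [IsScalarTower k K K'']
    (h1 : Function.Bijective (Algebra.TensorProduct.productMap
      (IsScalarTower.toAlgHom k k' K') (IsScalarTower.toAlgHom k K K')))
    (h2 : Function.Bijective (Algebra.TensorProduct.productMap
      (IsScalarTower.toAlgHom k' k'' K'') (IsScalarTower.toAlgHom k' K' K'')))
    (hK : FunFld.IsFunctionField k K) (hg : FunFld.IsGeometric k K) (P : FunFld.Place k K) :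
    (integralClosure (P.O.toSubring.map (algebraMap K K'')) K'' =
        Algebra.adjoin (P.O.toSubring.map (algebraMap K K'')) (Set.range (algebraMap k'' K''))) ↔
      (integralClosure (P.O.toSubring.map (algebraMap K K')) K' =
          Algebra.adjoin (P.O.toSubring.map (algebraMap K K')) (Set.range (algebraMap k' K')) ∧
        ∀ Q : FunFld.Place k K', FunFld.IsOver Q P →
          integralClosure (Q.O.toSubring.map (algebraMap K' K'')) K'' =
            Algebra.adjoin (Q.O.toSubring.map (algebraMap K' K'')) (Set.range (algebraMap k'' K''))) := by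
  classical
  have : FiniteDimensional K K' := ConstBase.finiteDimensional h1
  have : FiniteDimensional k k'' := FiniteDimensional.trans k k' k''
  let b := Module.finBasis k k'
  let b' := Module.finBasis k' k''
  let B := ConstBase.constBasis h2 b'
  let f := algebraMap K K'
  let g := algebraMap K' K''
  let R'' := P.O.toSubring.map (algebraMap K K'')
  let A' := Algebra.adjoin (P.O.toSubring.map f) (Set.range (algebraMap k' K'))
  have eK : ∀ a : K, algebraMap K K'' a = g (f a) := IsScalarTower.algebraMap_apply K K' K''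
  have hkk : ∀ c : k, algebraMap k K'' c ∈ R'' := fun c =>
    ⟨algebraMap k K c, P.2.1 c, (IsScalarTower.algebraMap_apply k K K'' c).symm⟩
  have hkk' : ∀ c : k, algebraMap k K' c ∈ P.O.toSubring.map f := fun c =>
    ⟨algebraMap k K c, P.2.1 c, (IsScalarTower.algebraMap_apply k K K' c).symm⟩
  haveI : IsScalarTower k k'' K'' := IsScalarTower.of_algebraMap_eq fun c => by
    rw [IsScalarTower.algebraMap_apply k k' k'', ← IsScalarTower.algebraMap_apply k' k'' K'',
      IsScalarTower.algebraMap_apply k' K' K'', ← IsScalarTower.algebraMap_apply k k' K',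
      IsScalarTower.algebraMap_apply k K K', IsScalarTower.algebraMap_apply k K K'']
    exact eK _
  -- coordinates of `O_P[k'']`
  have hA'' : ∀ z : K'', z ∈ Algebra.adjoin R'' (Set.range (algebraMap k'' K'')) ↔
      ∀ i, B.repr z i ∈ A' := by
    intro z
    rw [← Subalgebra.mem_toSubring, Algebra.adjoin_eq_ring_closure]
    refine Iff.trans ?_ (ConstBase.mem_closure_iff h2 b' A'.toSubring
      (fun c => Algebra.subset_adjoin ⟨c, rfl⟩) z)
    suffices hs : Subring.closure (Set.range (algebraMap R'' K'') ∪ Set.range (algebraMap k'' K'')) =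
        Subring.closure (g '' (A'.toSubring : Set K') ∪ Set.range (algebraMap k'' K'')) by rw [hs]
    refine le_antisymm (Subring.closure_le.2 ?_) (Subring.closure_le.2 ?_)
    · rintro _ (⟨⟨_, a, ha, rfl⟩, rfl⟩ | hc)
      · exact Subring.subset_closure (Or.inl ⟨f a,
          Subalgebra.algebraMap_mem A' ⟨f a, a, ha, rfl⟩, (eK a).symm⟩)
      · exact Subring.subset_closure (Or.inr hc)
    · rintro _ (⟨y, hy, rfl⟩ | hc)
      · have : y ∈ (Algebra.adjoin (P.O.toSubring.map f) (Set.range (algebraMap k' K'))).toSubring := hy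
        rw [Algebra.adjoin_eq_ring_closure] at this
        refine (Subring.closure_le (t := (Subring.closure
          (Set.range (algebraMap R'' K'') ∪ Set.range (algebraMap k'' K''))).comap g)).2 ?_ this
        rintro _ (⟨⟨_, a, ha, rfl⟩, rfl⟩ | ⟨c, rfl⟩)
        · exact Subring.subset_closure (Or.inl ⟨⟨algebraMap K K'' a, a, ha, rfl⟩, eK a⟩)
        · exact Subring.subset_closure (Or.inr ⟨algebraMap k' k'' c, by
            rw [← IsScalarTower.algebraMap_apply k' k'' K'', IsScalarTower.algebraMap_apply k' K' K'']⟩)
      · exact Subring.subset_closure (Or.inr hc)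
  have hQ'' : ∀ (Q : FunFld.Place k K') (z : K''),
      z ∈ Algebra.adjoin (Q.O.toSubring.map g) (Set.range (algebraMap k'' K'')) ↔
        ∀ i, Q.1 (B.repr z i) ≤ 1 := fun Q z =>
    ConstBase.mem_adjoin_map_iff h2 b' Q.O.toSubring (H81.ConstPlace.val_algebraMap_le Q) z
  have hR_le : ∀ Q : FunFld.Place k K', FunFld.IsOver Q P → R'' ≤ Q.O.toSubring.map g := by
    rintro Q ⟨e, he⟩ _ ⟨a, ha, rfl⟩
    refine ⟨f a, ?_, (eK a).symm⟩
    show Q.1 _ ≤ 1
    rw [he]
    exact pow_le_one₀ zero_le ha
  have hQk : ∀ (Q : FunFld.Place k K') (c : k), algebraMap k K'' c ∈ Q.O.toSubring.map g := fun Q c =>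
    ⟨algebraMap k K' c, Q.2.1 c, by
      rw [IsScalarTower.algebraMap_apply k K K', IsScalarTower.algebraMap_apply k K K'']
      exact (eK _).symm⟩
  constructor
  · intro hP
    have hk' : integralClosure (P.O.toSubring.map f) K' = A' := by
      refine le_antisymm (fun y hy => ?_) (ConstBase.adjoin_le_integralClosure _ hkk')
      have hy'' : IsIntegral R'' (g y) := by
        obtain ⟨p, hp, hp0⟩ := (ConstBase.isIntegral_map_iff f _ y).1 hy
        refine (ConstBase.isIntegral_map_iff (algebraMap K K'') _ _).2 ⟨p, hp, ?_⟩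
        rw [show (algebraMap K K'').comp P.O.toSubring.subtype = g.comp (f.comp P.O.toSubring.subtype)
          from RingHom.ext fun a => eK a, ← Polynomial.hom_eval₂, hp0, map_zero]
      have h1' : g y ∈ Algebra.adjoin R'' (Set.range (algebraMap k'' K'')) := hP.le hy''
      obtain ⟨i, hi⟩ : ∃ i, b'.repr 1 i ≠ 0 := by
        by_contra hc
        push Not at hc
        exact one_ne_zero (b'.repr.map_eq_zero_iff.1 (Finsupp.ext hc))
      have h2' := (hA'' _).1 h1' i
      rw [Algebra.algebraMap_eq_smul_one, map_smul, Finsupp.smul_apply, smul_eq_mul,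
        ← map_one (algebraMap k'' K''), ConstBase.repr_algebraMap] at h2'
      have h3 := A'.mul_mem h2' (Algebra.subset_adjoin ⟨(b'.repr 1 i)⁻¹, rfl⟩)
      rwa [mul_assoc, ← map_mul, mul_inv_cancel₀ hi, map_one, mul_one] at h3
    refine ⟨hk', fun Q hQ => le_antisymm (fun z hz => ?_) (ConstBase.adjoin_le_integralClosure _ (hQk Q))⟩
    obtain ⟨p, hp, hp0⟩ := (ConstBase.isIntegral_map_iff g _ z).1 hz
    let S := (Ext.finite_over (K' := K') hK P).toFinset
    let M : ℕ := S.sup fun Q' => p.support.sup fun n => (-(Q'.ord (p.coeff n : K'))).toNat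
    obtain ⟨s, hs⟩ := Approx.approximation S (fun Q' => if Q' = Q then 1 else 0) (fun _ => -(M + 1 : ℤ))
    have hsQ : Q.1 s = 1 := by
      have h := hs Q ((Set.Finite.mem_toFinset _).2 hQ)
      rw [if_pos rfl] at h
      have h' : Q.1 (s - 1) < Q.1 1 := by
        rw [map_one]
        exact h.trans_lt (by rw [← WithZero.exp_zero, WithZero.exp_lt_exp]; omega)
      simpa using Q.1.map_add_eq_of_lt_left h'
    have hsO : ∀ Q', FunFld.IsOver Q' P → Q'.1 s ≤ 1 ∧ ∀ n, Q'.1 (s * (p.coeff n : K')) ≤ 1 := by
      intro Q' hQ'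
      by_cases h : Q' = Q
      · subst h
        refine ⟨hsQ.le, fun n => ?_⟩
        rw [map_mul, hsQ, one_mul]
        exact (p.coeff n).2
      have h1' := hs Q' ((Set.Finite.mem_toFinset _).2 hQ')
      rw [if_neg h, sub_zero] at h1'
      refine ⟨h1'.trans ?_, fun n => ?_⟩
      · rw [← WithZero.exp_zero, WithZero.exp_le_exp]; omega
      rcases eq_or_ne (p.coeff n : K') 0 with h0 | h0
      · simp [h0]
      rw [map_mul, Place.val_eq_exp Q' h0]
      refine (mul_le_mul' h1' le_rfl).trans ?_
      rw [← WithZero.exp_add, ← WithZero.exp_zero, WithZero.exp_le_exp]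
      have h2' := (Finset.le_sup (f := fun n => (-(Q'.ord (p.coeff n : K'))).toNat)
        (Polynomial.mem_support_iff.2 fun h => h0 (by rw [h]; rfl))).trans
        (Finset.le_sup (f := fun Q' => p.support.sup fun n => (-(Q'.ord (p.coeff n : K'))).toNat)
          (show Q' ∈ S from (Set.Finite.mem_toFinset _).2 hQ'))
      omega
    -- `s z` is integral over `O_P`
    have hsz : IsIntegral R'' (g s * z) := by
      let q := (p.map (g.comp Q.O.toSubring.subtype)).scaleRoots (g s)
      have hq0 : q.eval (g s * z) = 0 := by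
        have := Polynomial.scaleRoots_eval₂_eq_zero (RingHom.id K'') (r := z) (s := g s)
          (p := p.map (g.comp Q.O.toSubring.subtype)) (by rw [Polynomial.eval₂_map]; exact hp0)
        rw [Polynomial.eval₂_id, RingHom.id_apply] at this
        exact this
      have hqmonic : q.Monic := Polynomial.monic_scaleRoots_iff (g s) |>.2 (hp.map _)
      have hcoef : ∀ n, q.coeff n ∈ integralClosure R'' K'' := by
        intro n
        have hn : ∃ y : K', (∀ Q', FunFld.IsOver Q' P → Q'.1 y ≤ 1) ∧ q.coeff n = g y := by
          refine ⟨(p.coeff n : K') * s ^ (p.natDegree - n), fun Q' hQ' => ?_, ?_⟩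
          · rcases lt_trichotomy n p.natDegree with hlt | heq | hgt
            · obtain ⟨d, hd⟩ := Nat.exists_eq_succ_of_ne_zero (Nat.sub_ne_zero_of_lt hlt)
              rw [hd, pow_succ', ← mul_assoc, mul_comm (p.coeff n : K') s, map_mul, map_pow]
              exact mul_le_one' ((hsO Q' hQ').2 n) (pow_le_one₀ zero_le (hsO Q' hQ').1)
            · subst heq
              simp [hp.coeff_natDegree]
            · simp [Polynomial.coeff_eq_zero_of_natDegree_lt hgt]
          · simp only [q, Polynomial.coeff_scaleRoots, Polynomial.coeff_map, hp.natDegree_map, map_mul, map_pow]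
            rfl
        obtain ⟨y, hy, e⟩ := hn
        rw [e]
        have hy' : y ∈ A' := hk' ▸ ((ConstBase.isIntegral_map_O_iff hK P y).2 hy)
        rw [show (g y ∈ integralClosure R'' K'') ↔ (g y ∈ Algebra.adjoin R'' (Set.range (algebraMap k'' K'')))
          by rw [hP]]
        refine (hA'' _).2 fun i => ?_
        rw [Algebra.algebraMap_eq_smul_one, map_smul, Finsupp.smul_apply, smul_eq_mul,
          ← map_one (algebraMap k'' K''), ConstBase.repr_algebraMap]
        exact A'.mul_mem hy' (Algebra.subset_adjoin ⟨_, rfl⟩)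
      have hint : IsIntegral (integralClosure R'' K'') (g s * z) := by
        obtain ⟨q', hq', -, hq''⟩ := Polynomial.lifts_and_degree_eq_and_monic
          ((Polynomial.lifts_iff_coeff_lifts (f := algebraMap (integralClosure R'' K'') K'') q).2
            fun n => ⟨⟨_, hcoef n⟩, rfl⟩) hqmonic
        refine ⟨q', hq'', ?_⟩
        rw [Polynomial.eval₂_eq_eval_map, hq']
        exact hq0
      exact isIntegral_trans _ hint
    refine (hQ'' Q z).2 fun i => ?_
    have h4 := (hA'' _).1 (hP.le hsz) i
    rw [← Algebra.smul_def, map_smul, Finsupp.smul_apply, smul_eq_mul] at h4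
    have h5 : IsIntegral (P.O.toSubring.map f) (s * B.repr z i) := hk'.ge h4
    have h6 := (ConstBase.isIntegral_map_O_iff hK P _).1 h5 Q hQ
    rwa [map_mul, hsQ, one_mul] at h6
  · rintro ⟨hk', hQ⟩
    refine le_antisymm (fun z hz => (hA'' z).2 fun i => ?_) (ConstBase.adjoin_le_integralClosure _ hkk)
    refine hk'.le ((ConstBase.isIntegral_map_O_iff hK P _).2 fun Q hQP => ?_)
    exact (hQ'' Q z).1 ((hQ Q hQP).le (ConstBase.isIntegral_mono (hR_le Q hQP) hz)) i

end Groth.Agent.S12534
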