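import Groth.Statements.S12535
import Groth.Agent.H81.RatPlace
import Groth.Agent.H81.Quadratic

set_option autoImplicit false
open FunFld Groth.Agent.Lib.FunFld

namespace Groth.Agent.S12535

/-- Let `char k ≠ 2`, `K` of degree `2` over `k(x)`, and `y ∈ K` with `y² = f(x)`, `f` a squarefree
polynomial of degree `≥ 1`. Then a place `P` of `K` is a zero of `y` exactly when it lies over a
finite place of `k(x)` where `f` has a zero, and in that case `ord_P(y) = 1`: the divisor of zeros
of `y` is `Σ P_i`, one place over each irreducible factor of `f`, with multiplicity one. -/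
theorem result (k K : Type*) [Field k] [Field K] (h2 : ringChar k ≠ 2) [Algebra k K]
    [Algebra (RatFunc k) K] [IsScalarTower k (RatFunc k) K]
    (hdeg : Module.finrank (RatFunc k) K = 2) (y : K) (f : Polynomial k) (hf : Squarefree f)
    (hd : 1 ≤ f.natDegree)
    (heq : y ^ 2 = algebraMap (RatFunc k) K (algebraMap (Polynomial k) (RatFunc k) f)) (P : FunFld.Place k K) :
    (0 < P.ord y → P.ord y = 1) ∧
    (0 < P.ord y ↔ ∃ P₀ : FunFld.Place k (RatFunc k), FunFld.IsOver P P₀ ∧ 0 ≤ P₀.ord (RatFunc.X : RatFunc k) ∧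
      0 < P₀.ord (algebraMap (Polynomial k) (RatFunc k) f)) := by
  have : FiniteDimensional (RatFunc k) K := Module.finite_of_finrank_eq_succ hdeg
  obtain ⟨P₀, e, he0, he⟩ := Ext.exists_place_below H81.RatPlace.isFunctionField P
  have hf0 : f ≠ 0 := hf.ne_zero
  have h1 := Ext.ord_map he (algebraMap (Polynomial k) (RatFunc k) f)
  rw [← heq, Place.ord_pow] at h1
  have hX : 0 < P.ord y → 0 ≤ P₀.ord (RatFunc.X : RatFunc k) ∧
      0 < P₀.ord (algebraMap (Polynomial k) (RatFunc k) f) := fun hy => by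
    have h3 : 0 < P₀.ord (algebraMap (Polynomial k) (RatFunc k) f) := by
      by_contra hle
      have := mul_nonpos_of_nonneg_of_nonpos (Int.natCast_nonneg e) (not_lt.1 hle)
      push_cast at h1
      omega
    refine ⟨not_lt.1 fun hlt => ?_, h3⟩
    rw [H81.RatPlace.ord_poly_inf P₀ hlt hf0] at h3
    omega
  refine ⟨fun hy => ?_, fun hy => ⟨P₀, ⟨e, he⟩, hX hy⟩, ?_⟩
  · have h4 := H81.RatPlace.ord_eq_one_of_squarefree P₀ hf (hX hy).2
    have h5 := (H81.Quadratic.ramified H81.RatPlace.isFunctionField hdeg P₀ (m := 1) odd_one fun Q e' he' => by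
      have h6 := Ext.ord_map he' (algebraMap (Polynomial k) (RatFunc k) f)
      rw [← heq, Place.ord_pow, h4] at h6
      exact ⟨Q.ord y, h6.symm⟩).2 P ⟨e, he⟩
    have h7 := (Ext.place_below_unique he h5.1).2
    rw [h4, h7] at h1
    push_cast at h1
    omega
  · rintro ⟨P₁, ⟨e₁, he₁⟩, -, hpos⟩
    have h8 := Ext.ord_map he₁ (algebraMap (Polynomial k) (RatFunc k) f)
    rw [← heq, Place.ord_pow] at h8
    have := mul_pos (by exact_mod_cast Ext.pos_of_isOverWith he₁ : (0 : ℤ) < e₁) hpos
    push_cast at h8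
    omega

end Groth.Agent.S12535
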