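import Groth.Statements.S12536
import Groth.Agent.H56.CurveDual.Main
import Groth.Agent.Lib.TFOne.Euler

set_option autoImplicit false
universe u
open CategoryTheory CategoryTheory.Limits AlgebraicGeometry Opposite
attribute [local instance] HasDerivedCategory.standard
open Dual3

open Groth.Agent

namespace Groth.Agent.S12536

/-- Let `X` be proper and reduced over a field `k`, of pure dimension `1`, with dualizing module `ω =
H^{-1}(a(O))` (`a` right adjoint to `Rf_*` on `D_QCoh`, `O` the structure sheaf of `Spec k` in
degree `0`), and let `U ⊆ X` be an open subscheme containing every non-closed point. Then `ω →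
j_*(ω|_U)` is injective: for every open `V`, restriction of sections `ω(V) → ω(V ∩ U)` is injective.
(The published statement takes `U` to be the dense open smooth locus of a generically smooth `X`;
this row allows any open `U` containing the generic points, which is what the printed proof uses:
the kernel is supported at finitely many closed points.) -/
theorem result (k : Type u) [Field k] (X : Scheme.{u}) (f : X ⟶ Spec (CommRingCat.of k))
    [IsProper f] [IsReduced X]
    (hdim : ∀ Z ∈ irreducibleComponents X, topologicalKrullDim ↥Z = (1 : WithBot ℕ∞))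
    [DCoh.HasRpush f] (hf : DCoh.RpushPreservesQCoh f)
    (a : DCoh.DQCoh (Spec (CommRingCat.of k)) ⥤ DCoh.DQCoh X) (adj : DCoh.RpushQ f hf ⊣ a)
    (O : DCoh.DQCoh (Spec (CommRingCat.of k)))
    (hO : Nonempty (O.obj ≅ DCoh.inD (Spec (CommRingCat.of k)) (Coh.structureModule (Spec (CommRingCat.of k)))))
    (U : X.Opens) (hU : ∀ x : X, ¬ IsClosed ({x} : Set X) → x ∈ U) (V : X.Opens) :
    Function.Injective ((DCoh.HD (a.obj O).obj (-(1 : ℤ))).presheaf.map (homOfLE (inf_le_left : V ⊓ U ≤ V)).op) := by
  haveI := LocallyOfFiniteType.isLocallyNoetherian f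
  haveI : CompactSpace X := QuasiCompact.compactSpace_of_compactSpace f
  haveI : IsNoetherian X := ⟨⟩
  have hX : topologicalKrullDim X ≤ (1 : ℕ) := Groth.Agent.Lib.TFOne.Euler.dim_le hdim
  have hO' : O.obj.IsGE 0 := by
    obtain ⟨e⟩ := hO
    have h : DerivedCategory.TStructure.t.IsGE (DCoh.inD (Spec (CommRingCat.of k)) (Coh.structureModule (Spec (CommRingCat.of k)))) 0 :=
      inferInstance
    exact DerivedCategory.TStructure.t.isGE_of_iso e.symm 0
  have hz := H56.CurveDual.isZero_gammaZ f hX hf a adj O hO' U hU
  haveI : Mono ((Scheme.Modules.restrictAdjunction U.ι).unit.app (DCoh.HD (a.obj O).obj (-(1 : ℤ)))) :=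
    Preadditive.mono_of_isZero_kernel _ hz
  have h := (Groth.Agent.Lib.Modules.Stalk.mono_iff_app_injective
    ((Scheme.Modules.restrictAdjunction U.ι).unit.app (DCoh.HD (a.obj O).obj (-(1 : ℤ))))).mp inferInstance V
  have h2 : U.ι ''ᵁ (U.ι ⁻¹ᵁ V) ≤ V ⊓ U := le_inf (U.ι.image_preimage_le V) (by
    rw [Scheme.Hom.image_preimage_eq_opensRange_inf, Scheme.Opens.opensRange_ι]
    exact inf_le_left)
  intro s t hst
  refine h ?_
  have key := fun s => congrArg (fun g => g s)
    ((DCoh.HD (a.obj O).obj (-(1 : ℤ))).presheaf.map_comp (homOfLE (inf_le_left : V ⊓ U ≤ V)).op (homOfLE h2).op)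
  exact (key s).trans ((congrArg ((DCoh.HD (a.obj O).obj (-(1 : ℤ))).presheaf.map (homOfLE h2).op) hst).trans (key t).symm)

end Groth.Agent.S12536
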