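import Groth.Statements.S1254
import Groth.Agent.Lib.RG57.DevissageProj

set_option autoImplicit false
set_option linter.style.haveILetI false
universe u
open FlatMor

namespace Groth.Agent.S1254

/-- Let S be a finitely presented R-algebra, N a finitely presented S-module which is flat over R, and 𝔯
a prime of R such that N/S/R admits a complete dévissage over 𝔯. Then for some f ∈ R outside 𝔯 the
localization N_f is projective over R_f, and is R_f-isomorphic to a finite product of free modules
B_i^{r_i} over smooth R_f-algebras B_i whose fibres are geometrically irreducible. -/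
theorem result {R S : Type u} [CommRing R] [CommRing S] [Algebra R S] [Algebra.FinitePresentation R S]
    (N : Type u) [AddCommGroup N] [Module S N] [Module R N] [IsScalarTower R S N] [Module.FinitePresentation S N] [Module.Flat R N]
    (rr : Ideal R) [rr.IsPrime] (D : FlatCA.CompleteDevissage R S N rr) :
    ∃ f : R, f ∉ rr ∧
      Module.Projective (Localization.Away f) (LocalizedModule (Submonoid.powers f) N) ∧
      ∃ (k : ℕ) (B : Fin k → Type u) (_ : ∀ i, CommRing (B i)) (_ : ∀ i, Algebra (Localization.Away f) (B i)) (r : Fin k → ℕ),
        (∀ i, Algebra.Smooth (Localization.Away f) (B i) ∧ FlatCA.GeomIrredFibres (Localization.Away f) (B i)) ∧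
        Nonempty (LocalizedModule (Submonoid.powers f) N ≃ₗ[Localization.Away f] (∀ i, Fin (r i) → B i)) := by
  obtain ⟨f, hf, hform⟩ := Lib.RG57.DevissageProj.exists_hasForm D
  let e := ((isLocalizedModule_iff_isBaseChange (Submonoid.powers f) (Localization.Away f)
    (LocalizedModule.mkLinearMap (Submonoid.powers f) N)).1 inferInstance).equiv
  haveI := hform.projective
  refine ⟨f, hf, Module.Projective.of_equiv e, ?_⟩
  obtain ⟨k, B, _, _, r, hB, ⟨eN⟩⟩ := hform
  exact ⟨k, B, _, _, r, fun i => ⟨(hB i).1, (hB i).2.1⟩, ⟨e.symm.trans eN⟩⟩

end Groth.Agent.S1254
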