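import Groth.Statements.S12545
import Groth.Agent.Lib.Comod.Linear
-- import your own Groth.Agent.* helpers here

set_option autoImplicit false
universe u
open TensorProduct LaurentPolynomial
open GIT

namespace Groth.Agent.S12545

/-- Let a commutative bialgebra A over a field k coact linearly on affine ι-space, let λ be a
one-parameter subgroup (a bialgebra map to the Laurent polynomial ring) and v ≠ 0 a vector; write
μ(v, λ) = m when t^m · (v moved by λ(t)) extends to the affine line with non-zero value at t = 0.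
Then v moved by λ(t) has no limit as t → 0 exactly when μ(v, λ) > 0, has a limit different from the
origin exactly when μ(v, λ) = 0, and tends to the origin exactly when μ(v, λ) < 0. -/
theorem result (k : Type u) [Field k] (A : Type u) [CommRing A] [Bialgebra k A]
    (ι : Type u) [Fintype ι] [HopfRep.Comod k A (MvPolynomial ι k)] [GLin.IsCoactAlg k A (MvPolynomial ι k)]
    (hlin : GLin.IsLinear k A ι) (lam : A →ₐc[k] k[T;T⁻¹]) (v : ι → k) (hv : v ≠ 0) :
    (¬ GLin.HasLimit k A lam (GLin.vecPt k ι v) ↔ ∃ m : ℤ, GLin.IsMu k A lam v m ∧ 0 < m) ∧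
      ((GLin.HasLimit k A lam (GLin.vecPt k ι v) ∧
          ¬ GLin.IsLimit k A lam (GLin.vecPt k ι v) (GLin.vecPt k ι (fun _ => (0 : k)))) ↔
        GLin.IsMu k A lam v 0) ∧
      (GLin.IsLimit k A lam (GLin.vecPt k ι v) (GLin.vecPt k ι (fun _ => (0 : k))) ↔
        ∃ m : ℤ, GLin.IsMu k A lam v m ∧ m < 0) := by
  obtain ⟨μ, hμ, huniq⟩ := Groth.Agent.Lib.Comod.Linear.existsUnique_isMu (A := A) lam hv
  obtain ⟨hpos, i₀, hi₀⟩ := (Groth.Agent.Lib.Comod.Linear.isMu_iff lam v μ).1 hμ
  have hex : ∀ P : ℤ → Prop, (∃ m, GLin.IsMu k A lam v m ∧ P m) ↔ P μ := fun P =>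
    ⟨fun ⟨m, hm, hP⟩ => huniq m hm ▸ hP, fun hP => ⟨μ, hμ, hP⟩⟩
  have hlim : GLin.HasLimit k A lam (GLin.vecPt k ι v) ↔ μ ≤ 0 := by
    rw [Groth.Agent.Lib.Comod.Linear.hasLimit_iff]
    refine ⟨fun h => ?_, fun h i n hn => ?_⟩
    · have := h i₀ _ hi₀; omega
    · have := hpos i n hn; omega
  have hlim0 : GLin.IsLimit k A lam (GLin.vecPt k ι v) (GLin.vecPt k ι (fun _ => (0 : k))) ↔ μ < 0 := by
    rw [Groth.Agent.Lib.Comod.Linear.isLimit_iff]
    refine ⟨fun ⟨h, h0⟩ => ?_, fun h => ⟨fun i n hn => ?_, fun i => ?_⟩⟩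
    · have h1 := h i₀ _ hi₀
      rcases lt_or_eq_of_le (show μ ≤ 0 by omega) with hlt | heq
      · exact hlt
      · exact absurd (h0 i₀) (by simpa [heq] using hi₀)
    · have := hpos i n hn; omega
    · by_contra hne
      have := hpos i 0 hne
      omega
  refine ⟨?_, ?_, ?_⟩
  · rw [hlim, hex]; omega
  · rw [hlim, hlim0]
    refine ⟨fun h => ?_, fun h => ?_⟩
    · obtain rfl : μ = 0 := by omega
      exact hμ
    · have := huniq 0 h; omega
  · rw [hlim0, hex]

end Groth.Agent.S12545
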