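import Groth.Statements.S12550
import Mathlib.LinearAlgebra.FiniteDimensional.Lemmas
import Mathlib.Data.Set.Card
-- import your own Groth.Agent.* helpers here

set_option autoImplicit false
universe u
open GIT

namespace Groth.Agent.S12550

/-- Let V be a finite-dimensional vector space over a field K and x_0, …, x_m non-zero vectors, a
configuration of m + 1 points of the projective space P(V). If for every subspace L with 0 ≠ L ≠ V
the number of indices i with x_i ∈ L, multiplied by dim V, is less than dim L · (m + 1) (the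
configuration is stable), then no two proper subspaces L', L'' with L' ∩ L'' = 0 contain between
them all the x_i. -/
theorem result (K : Type u) [Field K]
    (V : Type u) [AddCommGroup V] [Module K V] [FiniteDimensional K V]
    (m : ℕ) (x : Fin (m + 1) → V) (hx : ∀ i, x i ≠ 0)
    (hst : ∀ L : Submodule K V, L ≠ ⊥ → L ≠ ⊤ →
      Set.ncard {i : Fin (m + 1) | x i ∈ L} * Module.finrank K V < Module.finrank K L * (m + 1)) :
    ¬ ∃ L' L'' : Submodule K V, L' ≠ ⊤ ∧ L'' ≠ ⊤ ∧ Disjoint L' L'' ∧ ∀ i, x i ∈ L' ∨ x i ∈ L'' := by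
  classical
  rintro ⟨L', L'', h', h'', hd, hcov⟩
  have key : ∀ L : Submodule K V, L ≠ ⊤ →
      Set.ncard {i : Fin (m + 1) | x i ∈ L} * Module.finrank K V ≤ Module.finrank K L * (m + 1) ∧
      (L ≠ ⊥ → Set.ncard {i : Fin (m + 1) | x i ∈ L} * Module.finrank K V < Module.finrank K L * (m + 1)) := by
    intro L hL
    refine ⟨?_, fun h => hst L h hL⟩
    by_cases h : L = ⊥
    · subst h
      have : {i : Fin (m + 1) | x i ∈ (⊥ : Submodule K V)} = ∅ := by ext i; simp [hx i]
      rw [this, Set.ncard_empty, Nat.zero_mul]; exact Nat.zero_le _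
    · exact (hst L h hL).le
  have hsum : m + 1 ≤ Set.ncard {i : Fin (m + 1) | x i ∈ L'} + Set.ncard {i : Fin (m + 1) | x i ∈ L''} := by
    refine le_trans ?_ (Set.ncard_union_le _ _)
    rw [show {i : Fin (m + 1) | x i ∈ L'} ∪ {i : Fin (m + 1) | x i ∈ L''} = Set.univ from
      Set.eq_univ_of_forall fun i => hcov i, Set.ncard_univ, Nat.card_fin]
  have hdim : Module.finrank K L' + Module.finrank K L'' ≤ Module.finrank K V :=
    by
    rw [← Submodule.finrank_sup_add_finrank_inf_eq, hd.eq_bot, finrank_bot, Nat.add_zero]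
    exact Submodule.finrank_le _
  have h1 := (key L' h').1
  have h2 := (key L'' h'').1
  have hne : L' ≠ ⊥ ∨ L'' ≠ ⊥ := by
    rcases hcov 0 with h | h
    · exact Or.inl fun e => hx 0 (by simpa [e] using h)
    · exact Or.inr fun e => hx 0 (by simpa [e] using h)
  rcases hne with h | h
  · have := (key L' h').2 h
    nlinarith
  · have := (key L'' h'').2 h
    nlinarith

end Groth.Agent.S12550
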