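import Groth.Statements.S12552
import Groth.Agent.H21.MatroidPartition
import Mathlib.Data.Fintype.BigOperators
import Mathlib.LinearAlgebra.FiniteDimensional.Lemmas

set_option autoImplicit false
universe u
open GIT

namespace Groth.Agent.S12552

/-- Let V be a finite-dimensional vector space over a field K and x_0, …, x_m non-zero vectors, a
configuration of m + 1 points of P(V); a set S of dim V indices with (x_j)_(j ∈ S) linearly
independent is a determinant section non-zero at the configuration. Then the configuration is stable
(for every subspace L with 0 ≠ L ≠ V, the number of i with x_i ∈ L times dim V is less than dim L ·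
(m + 1)) if and only if there are integers N ≥ N_0 > 0 such that for each index i some non-empty
finite multiset of such sets S contains every index j ≠ i exactly N times and the index i exactly N
− N_0 times (a monomial in the determinant sections, non-zero at the configuration, of multidegree
(N, …, N − N_0, …, N) with the N − N_0 in place i). -/
theorem result (K : Type u) [Field K]
    (V : Type u) [AddCommGroup V] [Module K V] [FiniteDimensional K V]
    (m : ℕ) (x : Fin (m + 1) → V) (hx : ∀ i, x i ≠ 0) :
    (∀ L : Submodule K V, L ≠ ⊥ → L ≠ ⊤ →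
        Set.ncard {i : Fin (m + 1) | x i ∈ L} * Module.finrank K V < Module.finrank K L * (m + 1)) ↔
      ∃ N N₀ : ℕ, 0 < N₀ ∧ N₀ ≤ N ∧
        ∀ i : Fin (m + 1), ∃ P : Multiset (Finset (Fin (m + 1))), P ≠ 0 ∧
          (∀ S ∈ P, S.card = Module.finrank K V ∧ LinearIndependent K (fun j : S => x j)) ∧
          ∀ j : Fin (m + 1),
            Multiset.card (P.filter (fun S => j ∈ S)) = if j = i then N - N₀ else N := by
  classical
  have hcount : ∀ (L : Submodule K V), Set.ncard {i : Fin (m + 1) | x i ∈ L} =
      (Finset.univ.filter fun i => x i ∈ L).card := fun L => by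
    rw [← Set.ncard_coe_finset, Finset.coe_filter]; simp
  constructor
  · intro hst
    have hd : 0 < Module.finrank K V := by
      rw [Module.finrank_pos_iff_exists_ne_zero]; exact ⟨x 0, hx 0⟩
    set d := Module.finrank K V with hdd
    refine ⟨d * (d + 1), d, hd, Nat.le_mul_of_pos_right _ (Nat.succ_pos _), fun i => ?_⟩
    let mult : Fin (m + 1) → ℕ := fun j => if j = i then d * (d + 1) - d else d * (d + 1)
    let P := (m + 1) * (d + 1) - 1
    have hP1 : P + 1 = (m + 1) * (d + 1) := Nat.succ_pred_eq_of_pos (Nat.mul_pos (Nat.succ_pos _) (Nat.succ_pos _))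
    have hmult : ∀ j, mult j + (if j = i then d else 0) = d * (d + 1) := by
      intro j; simp only [mult]; split_ifs
      · exact Nat.sub_add_cancel (Nat.le_mul_of_pos_right _ (Nat.succ_pos _))
      · simp
    have htot : (∑ j, mult j) + d = (m + 1) * (d * (d + 1)) := by
      have := congrArg (fun f => ∑ j, f j) (funext hmult)
      simpa [Finset.sum_add_distrib] using this
    have hbound : ∀ L : Submodule K V,
        Nat.card {e : (j : Fin (m + 1)) × Fin (mult j) // x e.1 ∈ L} ≤ P * Module.finrank K L := by
      intro L
      have hcard : Nat.card {e : (j : Fin (m + 1)) × Fin (mult j) // x e.1 ∈ L} =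
          ∑ j ∈ Finset.univ.filter (fun j => x j ∈ L), mult j := by
        rw [Nat.card_eq_fintype_card, Fintype.card_subtype,
          show (Finset.univ.filter fun e : (j : Fin (m + 1)) × Fin (mult j) => x e.1 ∈ L) =
            (Finset.univ.filter fun j => x j ∈ L).sigma fun _ => Finset.univ by ext e; simp]
        simp
      rw [hcard]
      rcases eq_or_ne L ⊥ with rfl | hbot
      · rw [Finset.sum_eq_zero fun j hj => absurd ((Submodule.mem_bot K).mp (Finset.mem_filter.mp hj).2) (hx j)]
        exact Nat.zero_le _
      rcases eq_or_ne L ⊤ with rfl | htop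
      · rw [finrank_top, ← hdd, show Finset.univ.filter (fun j => x j ∈ (⊤ : Submodule K V)) = Finset.univ by simp]
        have h1 : P * d + d = (m + 1) * (d + 1) * d := by rw [← hP1]; ring
        have h2 : (m + 1) * (d * (d + 1)) = (m + 1) * (d + 1) * d := by ring
        omega
      set l := Module.finrank K L
      have hlt := hst L hbot htop
      rw [hcount] at hlt
      set c := (Finset.univ.filter fun i => x i ∈ L).card
      have hsum : ∑ j ∈ Finset.univ.filter (fun j => x j ∈ L), mult j ≤ c * (d * (d + 1)) := by
        refine (Finset.sum_le_card_nsmul _ _ _ fun j _ => ?_).trans_eq (smul_eq_mul _ _)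
        rw [← hmult j]; exact Nat.le_add_right _ _
      have hl : l ≤ d := Submodule.finrank_le L
      have h1 : (c * d + 1) * (d + 1) ≤ l * (m + 1) * (d + 1) := Nat.mul_le_mul_right _ hlt
      have h2 : P * l + l = (m + 1) * (d + 1) * l := by rw [← hP1]; ring
      have h3 : (c * d + 1) * (d + 1) = c * (d * (d + 1)) + (d + 1) := by ring
      have h4 : l * (m + 1) * (d + 1) = (m + 1) * (d + 1) * l := by ring
      omega
    obtain ⟨col, hcol⟩ := H21.MatroidPartition.exists_partition
      (fun e : (j : Fin (m + 1)) × Fin (mult j) => x e.1) hbound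
    let S : Fin P → Finset (Fin (m + 1)) := fun p => (Finset.univ.filter fun e => col e = p).image Sigma.fst
    have hinj : ∀ p, Set.InjOn Sigma.fst {e : (j : Fin (m + 1)) × Fin (mult j) | col e = p} := by
      intro p a ha b hb hab
      exact (hcol p).injOn ha hb (congrArg x hab)
    have hcardS : ∀ p, (S p).card = (Finset.univ.filter fun e => col e = p).card := fun p =>
      Finset.card_image_of_injOn (by simpa [Finset.coe_filter] using hinj p)
    have hind : ∀ p, LinearIndepOn K x (↑(S p) : Set (Fin (m + 1))) := by
      intro p
      rw [Finset.coe_image, Finset.coe_filter]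
      simpa using LinearIndepOn.image_of_comp Sigma.fst x (hcol p)
    have hle : ∀ p, (S p).card ≤ d := fun p => by
      have := LinearIndependent.fintype_card_le_finrank (hind p)
      simpa using this
    have hPd : ∑ p, (S p).card = P * d := by
      simp only [hcardS]
      rw [← Finset.card_eq_sum_card_fiberwise (fun _ _ => Finset.mem_univ _), Finset.card_univ]
      have h1 : P * d + d = (m + 1) * (d + 1) * d := by rw [← hP1]; ring
      have h2 : (m + 1) * (d * (d + 1)) = (m + 1) * (d + 1) * d := by ring
      have h3 : Fintype.card ((j : Fin (m + 1)) × Fin (mult j)) = ∑ j, mult j := by simp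
      omega
    have heq : ∀ p, (S p).card = d := fun p =>
      (Finset.sum_eq_sum_iff_of_le (fun q _ => hle q)).mp (by rw [hPd]; simp) p (Finset.mem_univ _)
    refine ⟨Finset.univ.val.map S, ?_, ?_, fun j => ?_⟩
    · intro h0
      have h1 := congrArg Multiset.card h0
      have h5 : (m + 1) * (d + 1) ≥ 2 :=
        (Nat.le_mul_of_pos_left _ (Nat.succ_pos m)).trans' (by omega)
      simp at h1
      omega
    · intro T hT
      obtain ⟨p, -, rfl⟩ := Multiset.mem_map.mp hT
      exact ⟨heq p, hind p⟩
    · rw [Multiset.filter_map, Multiset.card_map]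
      change (Finset.univ.filter fun p => j ∈ S p).card = mult j
      rw [← Fintype.card_fin (mult j), ← Finset.card_univ]
      refine (Finset.card_bij (fun a _ => col ⟨j, a⟩) (fun a _ => ?_) (fun a _ b _ hab => ?_) (fun p hp => ?_)).symm
      · simp only [Finset.mem_filter, Finset.mem_univ, true_and, S, Finset.mem_image]
        exact ⟨⟨j, a⟩, rfl, rfl⟩
      · exact eq_of_heq (Sigma.mk.inj_iff.mp (hinj _ (show col ⟨j, a⟩ = col ⟨j, b⟩ from hab) rfl rfl)).2
      · simp only [Finset.mem_filter, Finset.mem_univ, true_and, S, Finset.mem_image] at hp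
        obtain ⟨⟨j', a⟩, ha, rfl⟩ := hp
        exact ⟨a, Finset.mem_univ _, ha⟩
  · rintro ⟨N, N₀, hN₀, hN, hP⟩ L hbot htop
    rw [hcount]
    set c := (Finset.univ.filter fun i => x i ∈ L).card
    obtain ⟨i, hi⟩ : ∃ i, x i ∉ L := by
      by_contra hall
      push Not at hall
      obtain ⟨P, hP0, hPS, -⟩ := hP 0
      obtain ⟨S, hS⟩ := Multiset.exists_mem_of_ne_zero hP0
      obtain ⟨hc, hli⟩ := hPS S hS
      refine htop (eq_top_iff.mpr ?_)
      rw [← hli.span_eq_top_of_card_eq_finrank' (by simpa using hc), Submodule.span_le]
      rintro _ ⟨j, rfl⟩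
      exact hall _
    obtain ⟨P, -, hPS, hPN⟩ := hP i
    -- double counting of incidences
    have hdc : ∀ (A : Finset (Fin (m + 1))), (P.map fun S => (S ∩ A).card).sum =
        ∑ j ∈ A, Multiset.card (P.filter fun S => j ∈ S) := by
      intro A
      clear hPN hPS
      induction P using Multiset.induction with
      | empty => simp
      | cons S P ih =>
        rw [Multiset.map_cons, Multiset.sum_cons, ih,
          Finset.card_eq_sum_ones, Finset.inter_comm, ← Finset.filter_mem_eq_inter, Finset.sum_filter,
          ← Finset.sum_add_distrib]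
        refine Finset.sum_congr rfl fun j _ => ?_
        rw [Multiset.filter_cons, Multiset.card_add]
        split_ifs <;> simp
    have hall := hdc Finset.univ
    simp only [Finset.inter_univ, hPN] at hall
    have h1 : (P.map fun S => S.card).sum = Multiset.card P * Module.finrank K V := by
      rw [Multiset.map_congr rfl fun S hS => (hPS S hS).1]; simp
    have h2 : (∑ j, if j = i then N - N₀ else N) + N₀ = (m + 1) * N := by
      rw [show N₀ = ∑ j : Fin (m + 1), if j = i then N₀ else 0 by simp, ← Finset.sum_add_distrib]
      rw [show (∑ j : Fin (m + 1), if j = i then N₀ else 0) = N₀ by simp]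
      have : ∀ j : Fin (m + 1), ((if j = i then N - N₀ else N) + if j = i then N₀ else 0) = N := fun j => by
        split_ifs <;> omega
      simp [this]
    have hA := hdc (Finset.univ.filter fun j => x j ∈ L)
    rw [Finset.sum_congr rfl (fun j hj => by
      rw [hPN j, if_neg (fun h : j = i => hi (h ▸ (Finset.mem_filter.mp hj).2))]), Finset.sum_const, smul_eq_mul] at hA
    have h3 : (P.map fun S => (S ∩ Finset.univ.filter fun j => x j ∈ L).card).sum ≤
        Multiset.card P * Module.finrank K L := by
      refine (Multiset.sum_le_card_nsmul _ (Module.finrank K L) ?_).trans_eq (by simp)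
      intro a ha
      obtain ⟨S, hS, rfl⟩ := Multiset.mem_map.mp ha
      let T := S ∩ Finset.univ.filter fun j => x j ∈ L
      have hT : LinearIndependent K (fun j : T => x j) :=
        (hPS S hS).2.comp (fun j : T => (⟨j.1, (Finset.mem_inter.mp j.2).1⟩ : S))
          (fun a b h => Subtype.ext (Subtype.mk.inj h))
      have hT' : LinearIndependent K (fun j : T => (⟨x j, (Finset.mem_filter.mp (Finset.mem_inter.mp j.2).2).2⟩ : L)) :=
        LinearIndependent.of_comp L.subtype hT
      simpa using hT'.fintype_card_le_finrank
    set d := Module.finrank K V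
    set l := Module.finrank K L
    set p := Multiset.card P
    have hl : 0 < l := Nat.pos_of_ne_zero fun h => hbot (Submodule.finrank_eq_zero.mp h)
    have h4 : c * N * d ≤ p * l * d := Nat.mul_le_mul_right _ (by rw [← hA]; exact h3)
    have h5 : p * d < (m + 1) * N := by omega
    by_contra hge
    push Not at hge
    have h6 : p * d * l < (m + 1) * N * l := Nat.mul_lt_mul_of_pos_right h5 hl
    have h7 : l * (m + 1) * N ≤ c * d * N := Nat.mul_le_mul_right _ hge
    nlinarith

end Groth.Agent.S12552
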