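import Groth.Statements.S12553
import Groth.Agent.Lib.Comod.Diag
import Groth.Agent.Lib.Comod.Linear
-- import your own Groth.Agent.* helpers here

set_option autoImplicit false
universe u
open TensorProduct LaurentPolynomial
open GIT

namespace Groth.Agent.S12553

/-- Let k be a field and T = Spec A a diagonalizable affine group (A a commutative Hopf algebra spanned
by its group-like elements, e.g. a torus) acting linearly on affine ι-space. Then there are finitely
many characters χ_1, …, χ_N of T (group-like elements of A) such that every vector v ≠ 0 has a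
non-empty set I of indices for which, for every one-parameter subgroup λ of T with λ(χ_j) = t^(e_j),
the numerical function μ(v, λ) (the m for which t^m · (v moved by λ(t)) tends to a non-zero vector)
equals the maximum of −e_j over j ∈ I: μ is the maximum of finitely many linear functionals on
one-parameter subgroups. (The published proposition concerns a maximal torus of a reductive group
acting on a proper scheme with an ample linearised invertible sheaf; this row is the case of
projective space with the hyperplane bundle, for any diagonalizable group acting linearly, stated on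
the affine cone.) -/
theorem result (k : Type u) [Field k]
    (A : Type u) [CommRing A] [HopfAlgebra k A] (hdiag : HopfRep.IsDiagonalizable k A)
    (ι : Type u) [Fintype ι] [HopfRep.Comod k A (MvPolynomial ι k)] [GLin.IsCoactAlg k A (MvPolynomial ι k)]
    (hlin : GLin.IsLinear k A ι) :
    ∃ (N : ℕ) (χ : Fin N → A), (∀ j, IsGroupLikeElem k (χ j)) ∧
      ∀ v : ι → k, v ≠ 0 → ∃ I : Finset (Fin N), I.Nonempty ∧
        ∀ (lam : A →ₐc[k] k[T;T⁻¹]) (e : Fin N → ℤ), (∀ j, lam (χ j) = LaurentPolynomial.T (e j)) →
          ∀ m : ℤ, GLin.IsMu k A lam v m ↔ ((∀ j ∈ I, -e j ≤ m) ∧ ∃ j ∈ I, m = -e j) := by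
  classical
  open Groth.Agent.Lib.Comod.Basic Groth.Agent.Lib.Comod.Orbits Groth.Agent.Lib.Comod.Diag Groth.Agent.Lib.Comod.Linear in
  obtain ⟨b, hb⟩ := Groth.Agent.Lib.Comod.Diag.exists_groupLike_basis hdiag
  have hbg : ∀ a, IsGroupLikeElem k (b a) := fun a => (hb a).symm ▸ a.2
  choose s hs0 hs using fun i : ι => exists_finset_sum_proj (V := MvPolynomial ι k) b hbg (MvPolynomial.X i)
  let S := Finset.univ.biUnion s
  let χ : Fin S.card → {a : A // IsGroupLikeElem k a} := fun j => (S.equivFin.symm j).1
  have hχinj : Function.Injective χ := Subtype.val_injective.comp S.equivFin.symm.injective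
  refine ⟨S.card, fun j => b (χ j), fun j => hbg _, fun v hv => ?_⟩
  let x := GLin.vecPt k ι v
  let co : Fin S.card → ι → k := fun j i => x (proj b (MvPolynomial ι k) (χ j) (MvPolynomial.X i))
  have hsum : ∀ i, (MvPolynomial.X i : MvPolynomial ι k) =
      ∑ j, proj b (MvPolynomial ι k) (χ j) (MvPolynomial.X i) := by
    intro i
    conv_lhs => rw [hs i]
    refine (Finset.sum_subset (fun a ha => Finset.mem_biUnion.2 ⟨i, Finset.mem_univ _, ha⟩)
      (fun a _ ha => hs0 i a ha)).trans ?_
    rw [← Finset.sum_coe_sort S]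
    exact (Equiv.sum_comp S.equivFin.symm
      fun a : S => proj b (MvPolynomial ι k) a.1 (MvPolynomial.X i)).symm
  refine ⟨Finset.univ.filter fun j => ∃ i, co j i ≠ 0, ?_, fun lam e he m => ?_⟩
  · obtain ⟨i, hi⟩ := Function.ne_iff.1 hv
    have : ∑ j, co j i ≠ 0 := by
      simp only [co, ← map_sum, ← hsum i]
      simpa [x] using hi
    obtain ⟨j, -, hj⟩ := Finset.exists_ne_zero_of_sum_ne_zero this
    exact ⟨j, Finset.mem_filter.2 ⟨Finset.mem_univ _, i, hj⟩⟩
  have horb : ∀ i, lamCoord lam v i = ∑ j, co j i • T (e j) := by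
    intro i
    change lam (GLin.orbitHom k A x (MvPolynomial.X i)) = _
    conv_lhs => rw [hsum i, map_sum, map_sum]
    refine Finset.sum_congr rfl fun j _ => ?_
    have hmem := proj_mem_eigenspace (V := MvPolynomial ι k) b hbg (χ j) (MvPolynomial.X i)
    simp only [GLin.orbitHom, AlgHom.comp_apply, GLin.coactAlgHom_apply,
      show HopfRep.Comod.coact (k := k) (A := A) (proj b (MvPolynomial ι k) (χ j) (MvPolynomial.X i)) =
        proj b (MvPolynomial ι k) (χ j) (MvPolynomial.X i) ⊗ₜ b (χ j) from hmem,
      Algebra.TensorProduct.map_tmul]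
    refine (congrArg lam (Algebra.TensorProduct.lid_tmul _ _)).trans ?_
    rw [map_smul]
    exact congrArg _ (he j)
  have hcoeff : ∀ i n, (lamCoord lam v i).coeff n = ∑ j, if e j = n then co j i else 0 := by
    intro i n
    rw [horb, AddMonoidAlgebra.coeff_sum, Finsupp.finset_sum_apply]
    refine Finset.sum_congr rfl fun j _ => ?_
    rw [AddMonoidAlgebra.coeff_smul, Finsupp.smul_apply, T_apply]
    split_ifs <;> simp
  have hexp : ∀ n, (∃ i, (lamCoord lam v i).coeff n ≠ 0) ↔ ∃ j, (∃ i, co j i ≠ 0) ∧ e j = n := by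
    intro n
    constructor
    · rintro ⟨i, hi⟩
      rw [hcoeff] at hi
      obtain ⟨j, -, hj⟩ := Finset.exists_ne_zero_of_sum_ne_zero hi
      by_cases hjn : e j = n
      · exact ⟨j, ⟨i, by simpa [hjn] using hj⟩, hjn⟩
      · exact absurd (if_neg hjn) hj
    · rintro ⟨j, ⟨i, hji⟩, rfl⟩
      by_contra hno
      push Not at hno
      let L : MvPolynomial ι k →ₗ[k] k :=
        ∑ j' : Fin S.card, if e j' = e j then x.toLinearMap ∘ₗ proj b (MvPolynomial ι k) (χ j') else 0
      have hL : ∀ y ∈ MvPolynomial.homogeneousSubmodule ι k 1, L y = 0 := by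
        rw [MvPolynomial.homogeneousSubmodule_one_eq_span_X]
        intro y hy
        refine (Submodule.span_le (p := LinearMap.ker L)).2 ?_ hy
        rintro _ ⟨l, rfl⟩
        simp only [SetLike.mem_coe, LinearMap.mem_ker, L, LinearMap.sum_apply]
        refine (Finset.sum_congr rfl fun j' _ => ?_).trans ((hcoeff l (e j)).symm.trans (hno l))
        split_ifs <;> rfl
      have h1 : proj b (MvPolynomial ι k) (χ j) (MvPolynomial.X i) ∈ MvPolynomial.homogeneousSubmodule ι k 1 :=
        dact_mem (isSubcomod_degree_one hlin) _ (MvPolynomial.isHomogeneous_X k i)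
      refine hji ?_
      have h2 := hL _ h1
      simp only [L, LinearMap.sum_apply] at h2
      rw [Finset.sum_eq_single j (fun j' _ hne => ?_) (by simp), if_pos rfl, LinearMap.comp_apply,
        proj_of_mem b (proj_mem_eigenspace b hbg (χ j) _), if_pos rfl] at h2
      · exact h2
      · split_ifs
        · rw [LinearMap.comp_apply, proj_of_mem b (proj_mem_eigenspace b hbg (χ j) _),
            if_neg (fun h => hne (hχinj h)), map_zero]
        · rfl
  rw [Groth.Agent.Lib.Comod.Linear.isMu_iff]
  simp only [Finset.mem_filter, Finset.mem_univ, true_and]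
  constructor
  · rintro ⟨hpos, i, hi⟩
    obtain ⟨j, hj, hjn⟩ := (hexp _).1 ⟨i, hi⟩
    refine ⟨fun j' hj' => ?_, j, hj, by omega⟩
    obtain ⟨i', hi'⟩ := (hexp _).2 ⟨j', hj', rfl⟩
    have := hpos i' _ hi'
    omega
  · rintro ⟨hle, j, hj, rfl⟩
    refine ⟨fun i n hn => ?_, ?_⟩
    · obtain ⟨j', hj', rfl⟩ := (hexp n).1 ⟨i, hn⟩
      have := hle j' hj'
      omega
    · obtain ⟨i, hi⟩ := (hexp _).2 ⟨j, hj, rfl⟩
      exact ⟨i, by simpa using hi⟩

end Groth.Agent.S12553
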