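import Groth.Statements.S1256
import Groth.Agent.Lib.RG.GoodCover

set_option autoImplicit false
universe u
open FlatMor

namespace Groth.Agent.S1256

/-- Ring form, X = Spec B and S = Spec A affine: let B be a finite type A-algebra, N a finite B-module
and p a prime of A. Then there is an étale A-algebra A' with a prime p' over p having the same
residue field such that, for the base changes B_{A'}, N_{A'} (any models), there are finitely many
étale B_{A'}-algebras C_i with base changes N_i of N_{A'}, each N_i/C_i/A' admitting a complete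
dévissage over p', such that every prime of B_{A'} over p' is the contraction of a prime of some
C_i. -/
theorem result {A B : Type u} [CommRing A] [CommRing B] [Algebra A B] [Algebra.FiniteType A B]
    (N : Type u) [AddCommGroup N] [Module B N] [Module.Finite B N] (p : Ideal A) [p.IsPrime] :
    ∃ (A' : Type u) (_ : CommRing A') (_ : Algebra A A') (p' : Ideal A') (_ : p'.IsPrime), FlatCA.IsEtaleNhd A A' p p' ∧
      ∀ (BA NA : Type u) [CommRing BA] [Algebra B BA] [Algebra A' BA] [Algebra A BA] [IsScalarTower A B BA] [IsScalarTower A A' BA]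
        [Algebra.IsPushout A B A' BA]
        [AddCommGroup NA] [Module BA NA] [Module B NA] [IsScalarTower B BA NA]
        (fA : N →ₗ[B] NA), IsBaseChange BA fA →
        ∃ (k : ℕ) (C : Fin k → Type u) (_ : ∀ i, CommRing (C i)) (_ : ∀ i, Algebra BA (C i)) (_ : ∀ i, Algebra A' (C i))
          (_ : ∀ i, IsScalarTower A' BA (C i))
          (Nc : Fin k → Type u) (_ : ∀ i, AddCommGroup (Nc i)) (_ : ∀ i, Module (C i) (Nc i)) (_ : ∀ i, Module BA (Nc i))
          (_ : ∀ i, IsScalarTower BA (C i) (Nc i)) (g : ∀ i, NA →ₗ[BA] Nc i),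
          (∀ i, Algebra.Etale BA (C i) ∧ IsBaseChange (C i) (g i) ∧ Nonempty (FlatCA.CompleteDevissage A' (C i) (Nc i) p')) ∧
          ∀ (Q : Ideal BA) [Q.IsPrime], Q.LiesOver p' → ∃ (i : Fin k) (Q' : Ideal (C i)), Q'.IsPrime ∧ Q'.comap (algebraMap BA (C i)) = Q := by
  classical
  letI : Module A N := Module.compHom N (algebraMap A B)
  haveI : IsScalarTower A B N := IsScalarTower.of_algebraMap_smul fun _ _ => rfl
  obtain ⟨A', _, _, p', hp', hA', ι, hι, T, cT, aT, t, g, u, hg, hPr, hcov⟩ :=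
    Lib.RG.OpenApply.exists_fibre_charts (S := B) p
      (fun T _ _ t v => Algebra.Etale A T ∧ Lib.RG.GoodDev.Chart N T t v)
      (fun q _ hq => by
        obtain ⟨T, cT, aT, t, ht, hnhd, v, hv, hc⟩ := Lib.RG.GoodDev.exists_chart N p q
        exact ⟨T, cT, aT, t, ht, hnhd, v, hv, hnhd.1, hc⟩)
  refine ⟨A', inferInstance, inferInstance, p', hp', hA', fun BA NA _ _ _ _ _ _ _ _ _ _ _ fA hfA => ?_⟩
  have hall : ∀ i, ∃ (C' : Type u) (_ : CommRing C') (_ : Algebra BA C') (_ : Algebra A' C') (_ : IsScalarTower A' BA C')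
      (Nc : Type u) (_ : AddCommGroup Nc) (_ : Module C' Nc) (_ : Module BA Nc) (_ : IsScalarTower BA C' Nc)
      (gc : NA →ₗ[BA] Nc),
      Algebra.Etale BA C' ∧ IsBaseChange C' gc ∧ Nonempty (FlatCA.CompleteDevissage A' C' Nc p') ∧
      ∀ (X : Ideal (TensorProduct A B A')), X.IsPrime → X.comap Lib.RG.NhdPoint.inR = p' →
        Lib.RG.OpenApply.push (g i) (u i) ∉ X →
        ∃ Q' : Ideal C', Q'.IsPrime ∧
          Q'.comap (algebraMap BA C') = X.comap (Algebra.IsPushout.equiv A B A' BA).symm.toAlgHom.toRingHom := by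
    intro i
    haveI := (hPr i).1
    obtain ⟨ht, hc⟩ := hPr i
    haveI := hc.choose
    exact Lib.RG.GoodDev.transport_chart p A' p' hA' (t i) (g i) (hg i) (u i) hc BA NA fA hfA
  choose C' cC aBC aAC tC Nc gN mCN mBN tN gc h1 h2 h3 h4 using hall
  let e := (Fintype.equivFin ι).symm
  refine ⟨Fintype.card ι, fun i => C' (e i), fun i => cC (e i), fun i => aBC (e i), fun i => aAC (e i),
    fun i => tC (e i), fun i => Nc (e i), fun i => gN (e i), fun i => mCN (e i), fun i => mBN (e i),
    fun i => tN (e i), fun i => gc (e i), fun i => ⟨h1 _, h2 _, h3 _⟩, fun Q _ hQ => ?_⟩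
  let E := Algebra.IsPushout.equiv A B A' BA
  let X := Q.comap E.toAlgHom.toRingHom
  haveI hX : X.IsPrime := Ideal.IsPrime.comap _
  have hXR : X.comap Lib.RG.NhdPoint.inR = p' := by
    rw [hQ.over, Ideal.comap_comap]
    congr 1
    refine RingHom.ext fun a => ?_
    show E (Lib.RG.NhdPoint.inR a) = algebraMap A' BA a
    rw [← Lib.RG.OpenApply.equiv_symm_base (R := A) (S := B) (SA := BA) a, AlgEquiv.apply_symm_apply]
  obtain ⟨i, hi⟩ := hcov X hX hXR
  obtain ⟨Q', hQ', hQ'e⟩ := h4 i X hX hXR hi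
  obtain ⟨j, rfl⟩ := e.surjective i
  refine ⟨j, Q', hQ', hQ'e.trans ?_⟩
  rw [Ideal.comap_comap]
  ext z
  show E (E.symm z) ∈ Q ↔ _
  rw [AlgEquiv.apply_symm_apply]

end Groth.Agent.S1256
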