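import Groth.Statements.S1257
import Groth.Agent.Lib.RG.OpenApply
-- import your own Groth.Agent.* helpers here

set_option autoImplicit false
universe u
open FlatMor

attribute [local instance] Algebra.TensorProduct.rightAlgebra

namespace Groth.Agent.S1257

open Lib.RG Lib.RG.NhdPoint Lib.RG.OpenApply

open TensorProduct in
/-- Ring form, X = Spec S and S = Spec R affine: let S be a finite type R-algebra, N a finite S-module
and q a prime of S over p with N_q flat over R. Then there is an étale R-algebra R' with a prime p'
over p having the same residue field such that, writing A for the local ring of R' at p' and S_A,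
N_A for the base changes (any models): there is an étale S_A-algebra C with a prime over q whose
residue field equals that of q, such that C ⊗ N_A is a free A-module. -/
theorem result {R S : Type u} [CommRing R] [CommRing S] [Algebra R S] [Algebra.FiniteType R S]
    (N : Type u) [AddCommGroup N] [Module S N] [Module R N] [IsScalarTower R S N] [Module.Finite S N]
    (p : Ideal R) [p.IsPrime] (q : Ideal S) [q.IsPrime] [q.LiesOver p] (hflat : FlatCA.FlatAt R q N) :
    ∃ (R' : Type u) (_ : CommRing R') (_ : Algebra R R') (p' : Ideal R') (_ : p'.IsPrime), FlatCA.IsEtaleNhd R R' p p' ∧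
      ∀ (SA NA : Type u) [CommRing SA] [Algebra R SA] [Algebra S SA] [Algebra (Localization.AtPrime p') SA]
        [IsScalarTower R S SA] [IsScalarTower R (Localization.AtPrime p') SA]
        [Algebra.IsPushout R S (Localization.AtPrime p') SA]
        [AddCommGroup NA] [Module SA NA] [Module S NA] [IsScalarTower S SA NA]
        (f : N →ₗ[S] NA), IsBaseChange SA f →
        ∃ (C : Type u) (_ : CommRing C) (_ : Algebra SA C) (_ : Algebra (Localization.AtPrime p') C)
          (_ : IsScalarTower (Localization.AtPrime p') SA C) (_ : Algebra S C) (_ : IsScalarTower S SA C)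
          (x' : Ideal C) (_ : x'.IsPrime) (hx : x'.LiesOver q),
          Algebra.Etale SA C ∧ Function.Bijective (Ideal.ResidueField.mapₐ q x' (Algebra.ofId S C) hx.over) ∧
          Module.Free (Localization.AtPrime p') (RestrictScalars (Localization.AtPrime p') C (C ⊗[SA] NA)) := by
  obtain ⟨R', cR', aR', p', hp', hnhd, u, hu, hfree⟩ := exists_localFree N p q hflat
  refine ⟨R', cR', aR', p', hp', hnhd, ?_⟩
  intro SA NA _ _ _ _ _ _ _ _ _ _ _ f hf
  let A := Localization.AtPrime p'
  let g : R' →ₐ[R] A := IsScalarTower.toAlgHom R R' A
  have hg : (IsLocalRing.maximalIdeal A).comap g.toRingHom ≤ p' :=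
    (Localization.AtPrime.comap_maximalIdeal (I := p')).le
  let v := push (P := S) g u
  let C := Localization.Away v
  letI := modelAlgebra (R := R) (S := S) (A := A) (SA := SA) C
  haveI := modelTower_left (R := R) (S := S) (A := A) (SA := SA) C
  haveI := modelTower_right (R := R) (S := S) (A := A) (SA := SA) C
  haveI := modelAway (R := R) (S := S) (A := A) (SA := SA) v
  obtain ⟨ψ, hψ⟩ := exists_psiA (A' := A) p q p' hnhd
  obtain ⟨hker, hkS, hkR⟩ := ker_point q ψ hψ
  haveI : (IsLocalRing.maximalIdeal A).LiesOver p' := ⟨(Localization.AtPrime.comap_maximalIdeal (I := p')).symm⟩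
  obtain ⟨hXS, hXR⟩ := OpenProj.point_comap (R' := R') (p' := p') _ hkS hkR
  obtain ⟨ψC, hψC⟩ := exists_psiC q ψ v fun h => hu _ (hker.comap (OpenProj.sig (R' := R') (R'' := A)).toRingHom) hXS hXR h
  haveI : (RingHom.ker ψC.toRingHom).IsPrime := RingHom.ker_isPrime _
  obtain ⟨hx, hbij⟩ := point_residue q ψC
  haveI : Module.Free A (C ⊗[S] N) := hfree A g hg
  haveI : Algebra.Etale SA C := Algebra.Etale.of_isLocalizationAway (Algebra.IsPushout.equiv R S A SA v)
  exact ⟨C, inferInstance, inferInstance, inferInstance, inferInstance, inferInstance, inferInstance,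
    RingHom.ker ψC.toRingHom, inferInstance, hx, inferInstance, hbij,
    Module.Free.of_equiv (((transport hf (C := C)).symm.restrictScalars A).trans (rsEquiv A C _))⟩

end Groth.Agent.S1257
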