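import Groth.Statements.S12573
import Groth.Agent.H81.Diff.Minpoly
import Groth.Agent.H81.Quadratic

set_option autoImplicit false
universe u v w
open FunFld

namespace Groth.Agent.S12573

/-- For a place `Q` of a finite separable extension `K'` of a geometric function field of one variable
`K/k`, lying over `P` with ramification index `e = [K' : K]`, both places with Laurent expansions
over `k` in local parameters, and any local parameter `s` at `Q` with minimal polynomial `f` over
`K`: `v_Q(f'(s)) = d(Q|P)` (computed on `dx`). -/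
theorem result (k : Type u) (K K' : Type v) [Field k] [Field K] [Field K'] [Algebra k K] [Algebra K K'] [Algebra k K']
    [IsScalarTower k K K'] [FiniteDimensional K K'] [Algebra.IsSeparable K K']
    (hK : FunFld.IsFunctionField k K) (hg : FunFld.IsGeometric k K)
    (F F' : Type w) [Field F] [Algebra k F] [Field F'] [Algebra k F']
    (P : FunFld.Place k K) (Q : FunFld.Place k K') (e : ℕ) (he : FunFld.IsOverWith Q P e)
    (φ : K →ₐ[k] LaurentSeries F) (hφ : LocRes.IsExpansionAt P.1 φ)
    (ψ : K' →ₐ[k] LaurentSeries F') (hψ : LocRes.IsExpansionAt Q.1 ψ)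
    (x : K) (hx : LocRes.vDiff φ 1 x ≠ 0) (hx' : LocRes.vDiff ψ 1 (algebraMap K K' x) ≠ 0)
    (hn : e = Module.finrank K K') (s : K') (hs : Q.1 s = WithZero.exp (-1)) :
    Q.ord (Polynomial.aeval s (Polynomial.derivative (minpoly K s))) = LocRes.diffExp φ ψ e x := by
  classical
  obtain ⟨hfin, hsum⟩ := Groth.Agent.Lib.FunFld.Ext.sum_ramIdx_mul_deg (K' := K') hK P
  have hQ : Q ∈ hfin.toFinset := hfin.mem_toFinset.2 ⟨e, he⟩
  rw [← Finset.add_sum_erase _ _ hQ, Groth.Agent.Lib.FunFld.Ext.ramIdx_eq he] at hsum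
  have hle := Groth.Agent.H81.Quadratic.deg_le_of_isOverWith hK he
  rw [← hn] at hsum
  have he0 := Groth.Agent.Lib.FunFld.Ext.pos_of_isOverWith he
  have h1 : e * P.deg ≤ e * Q.deg := Nat.mul_le_mul_left e hle
  have hdeg : Q.deg = P.deg := Nat.eq_of_mul_eq_mul_left he0 (by omega)
  refine (Groth.Agent.H81.Diff.Minpoly.main hK hg he hφ hψ hx hx' hdeg hs ?_).2
  intro Q' hQ' hne
  exfalso
  obtain ⟨e', he'⟩ := hQ'
  have h2 : 0 < FunFld.ramIdx Q' P * Q'.deg := by
    rw [Groth.Agent.Lib.FunFld.Ext.ramIdx_eq he']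
    exact Nat.mul_pos (Groth.Agent.Lib.FunFld.Ext.pos_of_isOverWith he')
      (Groth.Agent.Lib.FunFld.Gen.Existence.deg_pos (Groth.Agent.Lib.FunFld.Ext.isFF_of_finite hK) Q')
  have h3 := Finset.single_le_sum (f := fun R => FunFld.ramIdx R P * R.deg) (fun R _ => Nat.zero_le _)
    (Finset.mem_erase.2 ⟨hne, hfin.mem_toFinset.2 ⟨e', he'⟩⟩)
  omega

end Groth.Agent.S12573
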