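import Groth.Statements.S12575
import Groth.Agent.S12574
import Groth.Agent.H81.Diff.Dual

set_option autoImplicit false
universe u v w
open FunFld

namespace Groth.Agent.S12575

/-- Let `Q` be a place of a finite separable extension `K' = K(y)` of a geometric function field of one
variable `K/k`, over `P` with ramification index `e` and residue degree `1`, both with Laurent
expansions over `k` in local parameters, with `y` integral over `O_P` and `g` its minimal polynomial
over `K`. Then `v_Q(g'(y)) ≥ d(Q|P)`, and when equality holds `O_Q` is the localisation of `O_P[y]`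
at `Q`. -/
theorem result (k : Type u) (K K' : Type v) [Field k] [Field K] [Field K'] [Algebra k K] [Algebra K K'] [Algebra k K']
    [IsScalarTower k K K'] [FiniteDimensional K K'] [Algebra.IsSeparable K K']
    (hK : FunFld.IsFunctionField k K) (hg : FunFld.IsGeometric k K)
    (F F' : Type w) [Field F] [Algebra k F] [Field F'] [Algebra k F']
    (P : FunFld.Place k K) (Q : FunFld.Place k K') (e : ℕ) (he : FunFld.IsOverWith Q P e)
    (φ : K →ₐ[k] LaurentSeries F) (hφ : LocRes.IsExpansionAt P.1 φ)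
    (ψ : K' →ₐ[k] LaurentSeries F') (hψ : LocRes.IsExpansionAt Q.1 ψ)
    (x : K) (hx : LocRes.vDiff φ 1 x ≠ 0) (hx' : LocRes.vDiff ψ 1 (algebraMap K K' x) ≠ 0)
    [P.1.HasExtension Q.1]
    (hf : Function.Surjective (algebraMap (IsLocalRing.ResidueField P.O) (IsLocalRing.ResidueField Q.O)))
    [Algebra P.O K'] [IsScalarTower P.O K K']
    (y : K') (hy : IntermediateField.adjoin K ({y} : Set K') = ⊤) (hyi : IsIntegral P.O y) :
    LocRes.diffExp φ ψ e x ≤ Q.ord (Polynomial.aeval y (Polynomial.derivative (minpoly K y))) ∧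
    (Q.ord (Polynomial.aeval y (Polynomial.derivative (minpoly K y))) = LocRes.diffExp φ ψ e x →
      ∀ z : K', Q.1 z ≤ 1 → ∃ a ∈ Algebra.adjoin P.O ({y} : Set K'), ∃ b ∈ Algebra.adjoin P.O ({y} : Set K'),
        Q.1 b = 1 ∧ z * b = a) := by
  classical
  obtain ⟨-, ys, hys, hysv⟩ :=
    S12574.result k K K' hK hg F F' P Q e he φ hφ ψ hψ x hx hx' hf
  set D := Polynomial.aeval y (Polynomial.derivative (minpoly K y)) with hDdef
  have hD0 : D ≠ 0 :=
    (Algebra.IsSeparable.isSeparable K y).aeval_derivative_ne_zero (minpoly.aeval K y)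
  have hmul : ∀ z, IsIntegral P.O z → D * ys * z ∈ Algebra.adjoin P.O ({y} : Set K') := fun z hz => by
    rw [mul_assoc]
    refine (Groth.Agent.H81.Diff.Dual.dual_iff hy hyi (ys * z)).1 fun z' hz' => ?_
    rw [mul_assoc]
    exact hys _ (hz.mul (adjoin_le_integralClosure hyi hz'))
  have ha0 : D * ys ∈ Algebra.adjoin P.O ({y} : Set K') := by simpa using hmul 1 isIntegral_one
  have hv : Q.1 (D * ys) = WithZero.exp (LocRes.diffExp φ ψ e x - Q.ord D) := by
    rw [map_mul, hysv, Groth.Agent.Lib.FunFld.Place.val_eq_exp Q hD0, ← WithZero.exp_add]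
    congr 1
    ring
  refine ⟨?_, fun heq z hz => ?_⟩
  · have h1 := Groth.Agent.H81.Diff.Dual.adjoin_le hK hyi ha0 ⟨e, he⟩
    rw [hv] at h1
    have := WithZero.exp_le_exp.1 (h1.trans WithZero.exp_zero.symm.le)
    omega
  · rw [heq, sub_self, WithZero.exp_zero] at hv
    let S := (Groth.Agent.Lib.FunFld.Ext.finite_over (K' := K') hK P).toFinset
    obtain ⟨N, hN⟩ : ∃ N : ℕ, ∀ R ∈ S, R.1 z ≤ WithZero.exp (N : ℤ) := by
      refine ⟨S.sup fun R => (-R.ord z).toNat, fun R hR => ?_⟩
      have := Finset.le_sup (f := fun R => (-R.ord z).toNat) hR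
      rcases eq_or_ne z 0 with rfl | hz0
      · simp
      rw [Groth.Agent.Lib.FunFld.Place.val_eq_exp R hz0, WithZero.exp_le_exp]
      omega
    obtain ⟨u, hu1, hu2⟩ := Groth.Agent.Lib.FunFld.Approx.exists_near_one Q (S.erase Q)
      (Finset.notMem_erase Q S) (N + 1)
    have huQ : Q.1 u = 1 := by
      rw [show u = 1 + (u - 1) by ring, Valuation.map_add_eq_of_lt_left, map_one]
      rw [map_one]
      exact hu1.trans_lt ((WithZero.exp_lt_exp.2 (by omega)).trans_eq WithZero.exp_zero)
    have hsmall : ∀ R : FunFld.Place k K', FunFld.IsOver R P → R.1 u ≤ 1 ∧ R.1 (z * u) ≤ 1 := by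
      intro R hR
      by_cases hne : R = Q
      · subst hne
        exact ⟨huQ.le, by rw [map_mul, huQ, mul_one]; exact hz⟩
      have hRS : R ∈ S := (Set.Finite.mem_toFinset _).2 hR
      have h2 := hu2 R (Finset.mem_erase.2 ⟨hne, hRS⟩)
      refine ⟨h2.trans ((WithZero.exp_le_exp.2 (by omega)).trans WithZero.exp_zero.le), ?_⟩
      rw [map_mul]
      refine (mul_le_mul' (hN R hRS) h2).trans ?_
      rw [← WithZero.exp_add]
      exact (WithZero.exp_le_exp.2 (by omega)).trans WithZero.exp_zero.le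
    have huI : IsIntegral P.O u :=
      (Groth.Agent.H81.IntClosure.isIntegral_iff hK).2 fun R hR => (hsmall R hR).1
    have hzuI : IsIntegral P.O (z * u) :=
      (Groth.Agent.H81.IntClosure.isIntegral_iff hK).2 fun R hR => (hsmall R hR).2
    refine ⟨_, hmul _ hzuI, _, hmul _ huI, ?_, by ring⟩
    rw [map_mul, hv, huQ, one_mul]

end Groth.Agent.S12575
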