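import Groth.Statements.S12577
import Groth.Agent.H81.Diff.Hilbert

set_option autoImplicit false
universe u v w
open FunFld

namespace Groth.Agent.S12577

/-- For a place `Q` of a finite Galois extension `K'` of a geometric function field of one variable
`K/k`, lying over `P` with ramification index `e`, both places with Laurent expansions over `k` in
local parameters (separable places), the different exponent is `d(Q|P) = ∑_{i ≥ 1} (|G_i| - 1)`,
where `G_i` is the `i`-th ramification group (automorphisms moving every element of `O_Q` by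
something of valuation at least `i`); `d(Q|P)` is computed on `dx`. -/
theorem result (k : Type u) (K K' : Type v) [Field k] [Field K] [Field K'] [Algebra k K] [Algebra K K'] [Algebra k K']
    [IsScalarTower k K K'] [FiniteDimensional K K'] (hK : FunFld.IsFunctionField k K) (hg : FunFld.IsGeometric k K)
    [IsGalois K K']
    (F F' : Type w) [Field F] [Algebra k F] [Field F'] [Algebra k F']
    (P : FunFld.Place k K) (Q : FunFld.Place k K') (e : ℕ) (he : FunFld.IsOverWith Q P e)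
    (φ : K →ₐ[k] LaurentSeries F) (hφ : LocRes.IsExpansionAt P.1 φ)
    (ψ : K' →ₐ[k] LaurentSeries F') (hψ : LocRes.IsExpansionAt Q.1 ψ)
    (x : K) (hx : LocRes.vDiff φ 1 x ≠ 0) (hx' : LocRes.vDiff ψ 1 (algebraMap K K' x) ≠ 0) :
    (Function.support fun i : ℕ => (Nat.card {σ : K' ≃ₐ[K] K' //
        ∀ z : K', Q.1 z ≤ 1 → Q.1 (σ z - z) ≤ WithZero.exp (-(i : ℤ))} : ℤ) - 1).Finite ∧
    LocRes.diffExp φ ψ e x = ∑ᶠ i : ℕ, if 1 ≤ i then
      (Nat.card {σ : K' ≃ₐ[K] K' // ∀ z : K', Q.1 z ≤ 1 → Q.1 (σ z - z) ≤ WithZero.exp (-(i : ℤ))} : ℤ) - 1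
      else 0 := by
  classical
  have hFF' := Groth.Agent.Lib.FunFld.Ext.isFF_of_finite (K' := K') hK
  have : FiniteDimensional k F' := Module.finite_of_finrank_pos (by
    rw [Groth.Agent.Lib.FunFld.Res.Coef.finrank_eq_deg hψ]
    exact Groth.Agent.Lib.FunFld.Gen.Existence.deg_pos hFF' Q)
  obtain ⟨x₀, hx₀⟩ := Groth.Agent.Lib.FunFld.Hasse.Separable.exists_isSep_of_geometric hK hg
  have := Groth.Agent.Lib.FunFld.Res.SepRes.isSeparable_of_expansion hψ
    ⟨_, Groth.Agent.H81.Diff.Hilbert.isSep_map hx₀⟩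
  obtain ⟨s, hs⟩ := Groth.Agent.Lib.FunFld.Place.exists_val_eq_exp Q (-1)
  let T := Groth.Agent.H81.Diff.Hilbert.T K Q
  let _ : Fintype T := Fintype.ofFinite T
  obtain ⟨hmove, hd⟩ := Groth.Agent.H81.Diff.Hilbert.exponent hK hg he hφ hψ hx hx' hs
  let n : (K' ≃ₐ[K] K') → ℤ := fun σ => Q.ord (σ s - s)
  let G : ℕ → Type v := fun i =>
    {σ : K' ≃ₐ[K] K' // ∀ z : K', Q.1 z ≤ 1 → Q.1 (σ z - z) ≤ WithZero.exp (-(i : ℤ))}
  have hs1 : Q.1 s ≤ 1 := hs.le.trans ((WithZero.exp_le_exp.2 (by norm_num)).trans WithZero.exp_zero.le)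
  have hn1 : ∀ σ : T, σ ≠ 1 → 1 ≤ n σ := fun σ hne => by
    have h := σ.2 s hs1
    rw [Groth.Agent.Lib.FunFld.Place.val_eq_exp Q (sub_ne_zero.2 (hmove σ σ.2 fun h => hne (Subtype.ext h))),
      WithZero.exp_le_exp] at h
    show 1 ≤ Q.ord _
    omega
  have hcount : ∀ i : ℕ, 1 ≤ i → (Nat.card (G i) : ℤ) - 1 =
      ((Finset.univ : Finset T).filter fun (σ : T) => σ ≠ 1 ∧ (i : ℤ) ≤ n σ).card := by
    intro i hi
    have hmem : ∀ σ : K' ≃ₐ[K] K', (∀ z : K', Q.1 z ≤ 1 → Q.1 (σ z - z) ≤ WithZero.exp (-(i : ℤ))) ↔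
        σ ∈ T ∧ (σ = 1 ∨ (i : ℤ) ≤ n σ) := by
      intro σ
      constructor
      · intro h
        refine ⟨fun z hz => (h z hz).trans (WithZero.exp_le_exp.2 (by omega)), ?_⟩
        by_cases h1 : σ = 1
        · exact Or.inl h1
        right
        have hT : σ ∈ T := fun z hz => (h z hz).trans (WithZero.exp_le_exp.2 (by omega))
        have h2 := h s hs1
        rw [Groth.Agent.Lib.FunFld.Place.val_eq_exp Q (sub_ne_zero.2 (hmove σ hT h1)), WithZero.exp_le_exp] at h2
        show (i : ℤ) ≤ Q.ord _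
        omega
      · rintro ⟨hT, h⟩ z hz
        rcases h with rfl | h
        · simp
        refine (Groth.Agent.H81.Diff.Hilbert.move_le hψ (σ := (σ : K' →ₐ[K] K').restrictScalars k) hT hs i z hz).trans
          (max_le ?_ le_rfl)
        show Q.1 (σ s - s) ≤ _
        by_cases h0 : σ s - s = 0
        · rw [h0, map_zero]; exact zero_le
        rw [Groth.Agent.Lib.FunFld.Place.val_eq_exp Q h0, WithZero.exp_le_exp]
        have : (i : ℤ) ≤ Q.ord (σ s - s) := h
        omega
    have hcard : Nat.card (G i) = ((Finset.univ : Finset T).filter fun (σ : T) => σ = 1 ∨ (i : ℤ) ≤ n σ).card := by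
      rw [← Fintype.card_subtype, ← Nat.card_eq_fintype_card]
      exact Nat.card_congr
        { toFun := fun σ => ⟨⟨σ.1, ((hmem _).1 σ.2).1⟩, ((hmem _).1 σ.2).2.imp_left fun h => Subtype.ext h⟩
          invFun := fun σ => ⟨σ.1.1, (hmem _).2 ⟨σ.1.2, σ.2.imp_left fun h => congrArg Subtype.val h⟩⟩
          left_inv := fun _ => rfl
          right_inv := fun _ => rfl }
    rw [hcard, ← Finset.insert_erase (show (1 : T) ∈ (Finset.univ : Finset T).filter
      (fun (σ : T) => σ = 1 ∨ (i : ℤ) ≤ n σ) by simp), Finset.card_insert_of_notMem (Finset.notMem_erase _ _)]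
    have : ((Finset.univ : Finset T).filter fun (σ : T) => σ = 1 ∨ (i : ℤ) ≤ n σ).erase 1 =
        (Finset.univ : Finset T).filter fun (σ : T) => σ ≠ 1 ∧ (i : ℤ) ≤ n σ := by
      ext σ
      simp only [Finset.mem_erase, Finset.mem_filter, Finset.mem_univ, true_and]
      tauto
    rw [this]
    push_cast
    ring
  let M : ℕ := (Finset.univ : Finset T).sup fun (σ : T) => (n σ).toNat
  have hzero : ∀ i : ℕ, M < i → (Nat.card (G i) : ℤ) - 1 = 0 := fun i hi => by
    rw [hcount i (by omega)]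
    simp only [Nat.cast_eq_zero, Finset.card_eq_zero, Finset.filter_eq_empty_iff, Finset.mem_univ, true_implies]
    rintro σ ⟨-, hle⟩
    have : (n σ).toNat ≤ M := Finset.le_sup (f := fun σ : T => (n σ).toNat) (Finset.mem_univ σ)
    omega
  refine ⟨(Set.finite_Iic M).subset fun i hi => ?_, ?_⟩
  · by_contra h
    exact hi (hzero i (not_le.1 h))
  rw [finsum_eq_sum_of_support_subset (s := Finset.Icc 1 M) _ fun i hi => ?_]
  swap
  · rw [Finset.coe_Icc, Set.mem_Icc]
    simp only [Function.mem_support, ne_eq] at hi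
    split_ifs at hi with h1
    · exact ⟨h1, not_lt.1 fun h => hi (hzero i h)⟩
    · exact absurd rfl hi
  have hrw : ∀ i ∈ Finset.Icc 1 M, (if 1 ≤ i then (Nat.card (G i) : ℤ) - 1 else 0) =
      ∑ σ : T, if σ ≠ 1 ∧ (i : ℤ) ≤ n σ then (1 : ℤ) else 0 := fun i hi => by
    rw [if_pos (Finset.mem_Icc.1 hi).1, hcount i (Finset.mem_Icc.1 hi).1, Finset.sum_boole]
  rw [hd, Finset.sum_congr rfl hrw, Finset.sum_comm]
  refine Finset.sum_congr rfl fun σ _ => ?_
  by_cases h1 : σ = 1
  · subst h1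
    simp
  rw [Finset.sum_boole]
  have hpos := hn1 σ h1
  have hle : (n σ).toNat ≤ M := Finset.le_sup (f := fun σ : T => (n σ).toNat) (Finset.mem_univ σ)
  have : (Finset.Icc 1 M).filter (fun i : ℕ => σ ≠ 1 ∧ (i : ℤ) ≤ n σ) = Finset.Icc 1 (n σ).toNat := by
    ext i
    simp only [Finset.mem_filter, Finset.mem_Icc]
    exact ⟨fun h => ⟨h.1.1, by omega⟩, fun h => ⟨⟨h.1, by omega⟩, h1, by omega⟩⟩
  rw [this, Nat.card_Icc, Nat.add_sub_cancel, Int.toNat_of_nonneg (by omega)]

end Groth.Agent.S12577
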