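import Groth.Statements.S1258
import Groth.Agent.Lib.RG.OpenApply
-- import your own Groth.Agent.* helpers here

set_option autoImplicit false
universe u
open FlatMor

attribute [local instance] Algebra.TensorProduct.rightAlgebra

namespace Groth.Agent.S1258

open Lib.RG Lib.RG.NhdPoint Lib.RG.OpenApply

open TensorProduct IsLocalRing in
/-- Ring form, X = Spec S and S = Spec R affine: let S be a finitely presented R-algebra, N a finite
S-module and p a prime of R such that N_q is flat over R for every prime q of S over p. Then there
is an étale R-algebra R' with a prime p' over p having the same residue field such that, writing A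
for the local ring of R' at p' and S_A, N_A for the base changes: there is an étale S_A-algebra C,
finitely presented over A, such that every prime of S over p is the contraction of a prime of C
lying over the maximal ideal of A, C ⊗ N_A is a finitely presented C-module, and C ⊗ N_A is a free
A-module. -/
theorem result {R S : Type u} [CommRing R] [CommRing S] [Algebra R S] [Algebra.FinitePresentation R S]
    (N : Type u) [AddCommGroup N] [Module S N] [Module R N] [IsScalarTower R S N] [Module.Finite S N]
    (p : Ideal R) [p.IsPrime] (hflat : ∀ (q : Ideal S) [q.IsPrime], q.LiesOver p → FlatCA.FlatAt R q N) :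
    ∃ (R' : Type u) (_ : CommRing R') (_ : Algebra R R') (p' : Ideal R') (_ : p'.IsPrime), FlatCA.IsEtaleNhd R R' p p' ∧
      ∀ (SA NA : Type u) [CommRing SA] [Algebra R SA] [Algebra S SA] [Algebra (Localization.AtPrime p') SA]
        [IsScalarTower R S SA] [IsScalarTower R (Localization.AtPrime p') SA]
        [Algebra.IsPushout R S (Localization.AtPrime p') SA]
        [AddCommGroup NA] [Module SA NA] [Module S NA] [IsScalarTower S SA NA]
        (f : N →ₗ[S] NA), IsBaseChange SA f →
        ∃ (C : Type u) (_ : CommRing C) (_ : Algebra SA C) (_ : Algebra (Localization.AtPrime p') C)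
          (_ : IsScalarTower (Localization.AtPrime p') SA C) (_ : Algebra S C) (_ : IsScalarTower S SA C),
          Algebra.Etale SA C ∧ Algebra.FinitePresentation (Localization.AtPrime p') C ∧
          (∀ (q : Ideal S) [q.IsPrime], q.LiesOver p → ∃ x' : Ideal C, x'.IsPrime ∧ x'.comap (algebraMap S C) = q ∧
            x'.LiesOver (maximalIdeal (Localization.AtPrime p'))) ∧
          Module.FinitePresentation C (C ⊗[SA] NA) ∧
          Module.Free (Localization.AtPrime p') (RestrictScalars (Localization.AtPrime p') C (C ⊗[SA] NA)) := by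
  obtain ⟨R', cR', aR', p', hp', hnhd, ι, fι, T, cT, aT, t, g, u, hgt, hPr, hcov⟩ :=
    exists_fibre_charts (S := S) p (fun T _ _ t u => LocalFree N t u ∧ LocalFP N t u) fun q _ hq => by
      haveI := hq
      obtain ⟨R', cR', aR', p', hp', hnhd, u, hu, h⟩ := exists_local N p q (hflat q hq)
      exact ⟨R', cR', aR', p', hp', hnhd, u, hu, h⟩
  refine ⟨R', cR', aR', p', hp', hnhd, ?_⟩
  intro SA NA _ _ _ _ _ _ _ _ _ _ _ f hf
  let A := Localization.AtPrime p'
  let gA : ∀ i, T i →ₐ[R] A := fun i => (IsScalarTower.toAlgHom R R' A).comp (g i)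
  have hgA : ∀ i, (IsLocalRing.maximalIdeal A).comap (gA i).toRingHom ≤ t i := fun i => by
    rw [← hgt i]
    exact fun r hr => (Localization.AtPrime.comap_maximalIdeal (I := p')).le hr
  let v : ∀ i, S ⊗[R] A := fun i => push (gA i) (u i)
  letI : ∀ i, Algebra SA (Localization.Away (v i)) := fun i =>
    modelAlgebra (R := R) (S := S) (A := A) (SA := SA) (Localization.Away (v i))
  haveI : ∀ i, IsScalarTower S SA (Localization.Away (v i)) := fun i =>
    modelTower_left (R := R) (S := S) (A := A) (SA := SA) (Localization.Away (v i))
  haveI : ∀ i, IsScalarTower A SA (Localization.Away (v i)) := fun i =>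
    modelTower_right (R := R) (S := S) (A := A) (SA := SA) (Localization.Away (v i))
  haveI : ∀ i, Algebra.Etale SA (Localization.Away (v i)) := fun i =>
    haveI := modelAway (R := R) (S := S) (A := A) (SA := SA) (v i)
    Algebra.Etale.of_isLocalizationAway (Algebra.IsPushout.equiv R S A SA (v i))
  let C := ∀ i, Localization.Away (v i)
  haveI : IsScalarTower S SA C := IsScalarTower.of_algebraMap_eq fun s => funext fun i =>
    IsScalarTower.algebraMap_apply S SA (Localization.Away (v i)) s
  haveI : IsScalarTower A SA C := IsScalarTower.of_algebraMap_eq fun s => funext fun i =>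
    IsScalarTower.algebraMap_apply A SA (Localization.Away (v i)) s
  haveI : Module.Free A (C ⊗[S] N) := by
    haveI : ∀ i, Module.Free A (Localization.Away (v i) ⊗[S] N) := fun i => (hPr i).1 A (gA i) (hgA i)
    obtain ⟨E⟩ := exists_piEquiv_base (S := S) (fun i => Localization.Away (v i)) N A
    exact Module.Free.of_equiv E.symm
  have hpt : ∀ (q : Ideal S) [q.IsPrime], q.LiesOver p → ∃ x' : Ideal C, x'.IsPrime ∧
      x'.comap (algebraMap S C) = q ∧ x'.LiesOver (maximalIdeal A) := by
    intro q _ hq
    obtain ⟨ψ, hψ⟩ := exists_psiA (A' := A) p q p' hnhd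
    obtain ⟨hker, hkS, hkR⟩ := ker_point q ψ hψ
    obtain ⟨i, hi⟩ := hcov ((RingHom.ker ψ.toRingHom).comap (OpenProj.sig (R' := R') (R'' := A)).toRingHom)
      (hker.comap _) (by
        haveI : (IsLocalRing.maximalIdeal A).LiesOver p' := ⟨(Localization.AtPrime.comap_maximalIdeal (I := p')).symm⟩
        exact (OpenProj.point_comap (R' := R') (p' := p') _ hkS hkR).2)
    obtain ⟨ψC, hψC⟩ := exists_psiC q ψ (v i) fun h => hi (by
      show ψ (OpenProj.sig (R' := R') (R'' := A) (push (g i) (u i))) = 0
      rw [← h]
      exact congrArg ψ (push_push (IsScalarTower.toAlgHom R R' A) (g i) (u i)))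
    refine ⟨RingHom.ker (ψC.toRingHom.comp (Pi.evalRingHom (fun j => Localization.Away (v j)) i)),
      RingHom.ker_isPrime _, Ideal.ext fun s => ?_, ⟨Ideal.ext fun r => ?_⟩⟩
    · show ψC (algebraMap S C s i) = 0 ↔ s ∈ q
      rw [Pi.algebraMap_apply, ψC.commutes]
      exact Ideal.algebraMap_residueField_eq_zero
    · show r ∈ maximalIdeal A ↔ ψC (algebraMap A C r i) = 0
      rw [Pi.algebraMap_apply, IsScalarTower.algebraMap_apply A (S ⊗[R] A) (Localization.Away (v i)), hψC]
      exact (hψ r).symm
  let E0 : C ⊗[SA] NA ≃ₗ[C] C ⊗[S] N := transport hf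
  haveI : Module.FinitePresentation C (C ⊗[S] N) :=
    finitePresentation_pi (S := S) (fun i => Localization.Away (v i)) N fun i => (hPr i).2 A (gA i) (hgA i)
  haveI : Algebra.FinitePresentation A SA := by
    haveI : Algebra.FinitePresentation A (S ⊗[R] A) :=
      (Algebra.FinitePresentation.baseChange A (A := S) : Algebra.FinitePresentation A (A ⊗[R] S)).equiv
        (Algebra.TensorProduct.commRight R A S)
    exact Algebra.FinitePresentation.equiv (AlgEquiv.ofRingEquiv (f := (Algebra.IsPushout.equiv R S A SA).toRingEquiv)
      fun a => (AlgEquiv.eq_symm_apply _).1 (equiv_symm_base (R := R) (S := S) (SA := SA) a).symm)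
  haveI : Algebra.Etale SA C := inferInstance
  exact ⟨C, inferInstance, inferInstance, inferInstance, inferInstance, inferInstance, inferInstance,
    inferInstance, Algebra.FinitePresentation.trans A SA C, hpt, Module.FinitePresentation.of_equiv E0.symm,
    Module.Free.of_equiv ((E0.symm.restrictScalars A).trans (rsEquiv A C _))⟩

end Groth.Agent.S1258
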