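import Groth.Statements.S12584
import Groth.Agent.H81.Diff.Regular
import Groth.Agent.H81.Hyperelliptic
import Groth.Agent.H81.Quadratic

set_option autoImplicit false
universe u v w
open FunFld

namespace Groth.Agent.S12584

/-- For `char k ≠ 2` and `K` of degree `2` over `k(x)` with `y² = f(x)`, `f` squarefree of degree `≥ 1`,
the forms `x^i dx/y`, `0 ≤ i < g`, are a `k`-basis of the regular differential forms: each is
regular, and every regular `z dx` has `z = a(x)/y` with `deg a < g`; regularity read through Laurent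
expansions over `k` at every place (all places separable). -/
theorem result (k : Type u) (K : Type v) [Field k] [Field K] [Algebra k K] [Algebra (RatFunc k) K] [IsScalarTower k (RatFunc k) K]
    (hK : FunFld.IsFunctionField k K) (hdeg : Module.finrank (RatFunc k) K = 2) (h2 : ringChar k ≠ 2)
    (y : K) (f : Polynomial k) (hf : Squarefree f) (hd : 1 ≤ f.natDegree)
    (heq : y ^ 2 = algebraMap (RatFunc k) K (algebraMap (Polynomial k) (RatFunc k) f))
    (F : FunFld.Place k K → Type w) [∀ P, Field (F P)] [∀ P, Algebra k (F P)] [∀ P, FiniteDimensional k (F P)]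
    (φ : ∀ P, K →ₐ[k] LaurentSeries (F P)) (hφ : ∀ P, LocRes.IsExpansionAt P.1 (φ P)) :
    (∀ i : ℕ, i < FunFld.genus k K → ∀ P,
      LocRes.vDiff (φ P) (algebraMap (RatFunc k) K RatFunc.X ^ i / y) (algebraMap (RatFunc k) K RatFunc.X) ≤ 1) ∧
    ∀ z : K, (∀ P, LocRes.vDiff (φ P) z (algebraMap (RatFunc k) K RatFunc.X) ≤ 1) →
      ∃ a : Polynomial k, a.degree < (FunFld.genus k K : WithBot ℕ) ∧
        z = algebraMap (RatFunc k) K (algebraMap (Polynomial k) (RatFunc k) a) / y := by
  classical
  have : FiniteDimensional (RatFunc k) K := Module.finite_of_finrank_eq_succ hdeg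
  have hK₀ := Groth.Agent.H81.RatPlace.isFunctionField (k := k)
  have h20 : (2 : RatFunc k) ≠ 0 := by
    rw [← map_ofNat (algebraMap k (RatFunc k)) 2]
    exact (_root_.map_ne_zero _).2 (Ring.two_ne_zero h2)
  have : Algebra.IsSeparable (RatFunc k) K := by
    refine ⟨fun z => ?_⟩
    have hint : IsIntegral (RatFunc k) z := Algebra.IsIntegral.isIntegral z
    refine (Polynomial.separable_iff_derivative_ne_zero (minpoly.irreducible hint)).2 fun h => ?_
    have hpos := minpoly.natDegree_pos hint
    have hle : (minpoly (RatFunc k) z).natDegree ≤ 2 := hdeg ▸ minpoly.natDegree_le z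
    have h1 := congrArg (fun p : Polynomial (RatFunc k) => p.coeff ((minpoly (RatFunc k) z).natDegree - 1)) h
    simp only [Polynomial.coeff_derivative, Polynomial.coeff_zero, Nat.sub_add_cancel hpos,
      (minpoly.monic hint).coeff_natDegree, one_mul] at h1
    rcases (show (minpoly (RatFunc k) z).natDegree = 1 ∨ (minpoly (RatFunc k) z).natDegree = 2 by omega) with h3 | h3
    · rw [h3] at h1; norm_num at h1
    · rw [h3] at h1; norm_num at h1; exact h20 h1
  have hf0 : f ≠ 0 := hf.ne_zero
  have hgen : FunFld.genus k K = (f.natDegree - 1) / 2 :=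
    Groth.Agent.H81.Hyperelliptic.genus_eq hK h2 hdeg y f hf hd heq
  have hfne := Groth.Agent.H81.RatPlace.ι_ne_zero hf0
  have hy0 : y ≠ 0 := fun h => by
    rw [h, zero_pow two_ne_zero] at heq
    exact hfne ((map_eq_zero _).1 heq.symm)
  let s : Polynomial k →ₗ[k] K :=
    { toFun := fun a => algebraMap (RatFunc k) K (algebraMap (Polynomial k) (RatFunc k) a) / y
      map_add' := fun a b => by rw [map_add, map_add, add_div]
      map_smul' := fun c a => by
        rw [RingHom.id_apply, Algebra.smul_def, Algebra.smul_def, map_mul, map_mul, mul_div_assoc,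
          ← IsScalarTower.algebraMap_apply k (Polynomial k) (RatFunc k),
          ← IsScalarTower.algebraMap_apply k (RatFunc k) K] }
  have hs : Function.Injective s := (injective_iff_map_eq_zero s).2 fun a ha => by
    have h1 : algebraMap (RatFunc k) K (algebraMap (Polynomial k) (RatFunc k) a) / y = 0 := ha
    rw [div_eq_zero_iff, or_iff_left hy0, map_eq_zero, map_eq_zero_iff _ (IsFractionRing.injective _ _)] at h1
    exact h1
  have hreg : ∀ i : ℕ, i < FunFld.genus k K → ∀ P,
      LocRes.vDiff (φ P) (algebraMap (RatFunc k) K RatFunc.X ^ i / y) (algebraMap (RatFunc k) K RatFunc.X) ≤ 1 := by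
    intro i hi Q
    obtain ⟨P, e, he0, he⟩ := Groth.Agent.Lib.FunFld.Ext.exists_place_below hK₀ Q
    have hy2 : 2 * Q.ord y = (e : ℤ) * P.ord (algebraMap (Polynomial k) (RatFunc k) f) := by
      rw [← Groth.Agent.Lib.FunFld.Ext.ord_map he, ← heq, Groth.Agent.Lib.FunFld.Place.ord_pow]
      norm_num
    rw [LocRes.vDiff, map_mul, (hφ Q).1, map_div₀, map_pow, he, Groth.Agent.Lib.FunFld.Place.val_eq_exp Q hy0,
      Groth.Agent.Lib.FunFld.Place.val_eq_exp P RatFunc.X_ne_zero, ← WithZero.exp_nsmul, ← WithZero.exp_nsmul,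
      ← WithZero.exp_sub]
    simp only [nsmul_eq_mul]
    rcases le_or_gt 0 (P.ord (RatFunc.X : RatFunc k)) with hX | hX
    · rcases (Groth.Agent.H81.RatPlace.ord_nonneg_of_X P hX f).eq_or_lt with hf1 | hf1
      · rw [← hf1, mul_zero] at hy2
        refine mul_le_one' ((WithZero.exp_le_exp.2 ?_).trans WithZero.exp_zero.le)
          (Groth.Agent.H81.Diff.Regular.vDx_le_one (hφ Q) he hX)
        have : 0 ≤ (i : ℤ) * ((e : ℤ) * P.ord (RatFunc.X : RatFunc k)) := by positivity
        linarith
      · obtain ⟨p, hp, -, hlt⟩ := Groth.Agent.H81.RatPlace.exists_irreducible_dvd P hf0 hf1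
        rw [Groth.Agent.H81.RatPlace.ord_eq_one_of_squarefree P hf hf1] at hy2
        refine (mul_le_mul' le_rfl (Groth.Agent.H81.Diff.Regular.vDx_le (hφ Q) he hp hlt)).trans ?_
        rw [← WithZero.exp_add]
        refine (WithZero.exp_le_exp.2 ?_).trans WithZero.exp_zero.le
        have : 0 ≤ (i : ℤ) * ((e : ℤ) * P.ord (RatFunc.X : RatFunc k)) := by positivity
        have : (1 : ℤ) ≤ e := by exact_mod_cast he0
        linarith
    · rw [Groth.Agent.H81.RatPlace.ord_poly_inf P hX hf0] at hy2
      refine (mul_le_mul' le_rfl (Groth.Agent.H81.Diff.Regular.vDx_inf (hφ Q) he hX).1).trans ?_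
      rw [← WithZero.exp_add, Groth.Agent.H81.RatPlace.ord_X_eq_neg_one P hX]
      refine (WithZero.exp_le_exp.2 ?_).trans WithZero.exp_zero.le
      have hM : 1 ≤ (f.natDegree : ℤ) - 2 * i - 2 := by omega
      have he1 : (1 : ℤ) ≤ e := by exact_mod_cast he0
      have hprod : 1 ≤ (e : ℤ) * ((f.natDegree : ℤ) - 2 * i - 2) := one_le_mul_of_one_le_of_one_le he1 hM
      have heven : (e : ℤ) * ((f.natDegree : ℤ) - 2 * i - 2) = 2 * (-Q.ord y - e * i - e) := by
        linear_combination hy2
      linarith [show 1 ≤ -Q.ord y - e * i - e by omega]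
  refine ⟨hreg, fun z hz => ?_⟩
  obtain ⟨a, ha, hza⟩ := Groth.Agent.H81.Diff.Regular.spans φ hK hφ s hs (fun i hi P => by
    show LocRes.vDiff (φ P) (algebraMap (RatFunc k) K (algebraMap (Polynomial k) (RatFunc k) (Polynomial.X ^ i)) / y) _ ≤ 1
    rw [map_pow, map_pow, RatFunc.algebraMap_X]
    exact hreg i hi P) z hz
  exact ⟨a, ha, hza⟩

end Groth.Agent.S12584
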