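import Groth.Statements.S12587
import Groth.Agent.H81.Diff.Line
import Groth.Agent.H81.ASGenus

set_option autoImplicit false
universe u v w
open FunFld

namespace Groth.Agent.S12587

/-- For `k` perfect of characteristic `2` and `K = k(x, y)` with `y² + y = f(x)`, all poles of `f` of
odd order `2d_i - 1` at `p_i`, and `q = ∏ p_i^{d_i}` over the finite poles, the forms `x^i dx/q(x)`,
`0 ≤ i < g`, are a `k`-basis of the regular differential forms; regularity read through Laurent
expansions over `k` at every place; `q` is pinned up to a constant by its orders at the finite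
places. -/
theorem result (k : Type u) (K : Type v) [Field k] [Field K] [Algebra k K] [Algebra (RatFunc k) K] [IsScalarTower k (RatFunc k) K]
    (hK : FunFld.IsFunctionField k K) (hdeg : Module.finrank (RatFunc k) K = 2) [PerfectField k] (h2 : ringChar k = 2)
    [Algebra.IsSeparable (RatFunc k) K]
    (y : K) (hy : y ∉ Set.range (algebraMap (RatFunc k) K)) (f : RatFunc k)
    (heq : y ^ 2 + y = algebraMap (RatFunc k) K f)
    (hodd : ∀ p : FunFld.Place k (RatFunc k), 1 < p.1 f → Odd (p.ord f))
    (q : Polynomial k) (hq0 : q ≠ 0)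
    (hq : ∀ p : FunFld.Place k (RatFunc k), p.1 RatFunc.X ≤ 1 →
      p.ord (algebraMap (Polynomial k) (RatFunc k) q) = if 1 < p.1 f then (1 - p.ord f) / 2 else 0)
    (F : FunFld.Place k K → Type w) [∀ P, Field (F P)] [∀ P, Algebra k (F P)] [∀ P, FiniteDimensional k (F P)]
    (φ : ∀ P, K →ₐ[k] LaurentSeries (F P)) (hφ : ∀ P, LocRes.IsExpansionAt P.1 (φ P)) :
    (∀ i : ℕ, i < FunFld.genus k K → ∀ P,
      LocRes.vDiff (φ P) (algebraMap (RatFunc k) K (RatFunc.X ^ i / algebraMap (Polynomial k) (RatFunc k) q))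
        (algebraMap (RatFunc k) K RatFunc.X) ≤ 1) ∧
    ∀ z : K, (∀ P, LocRes.vDiff (φ P) z (algebraMap (RatFunc k) K RatFunc.X) ≤ 1) →
      ∃ a : Polynomial k, a.degree < (FunFld.genus k K : WithBot ℕ) ∧
        z = algebraMap (RatFunc k) K (algebraMap (Polynomial k) (RatFunc k) a / algebraMap (Polynomial k) (RatFunc k) q) := by
  classical
  have : FiniteDimensional (RatFunc k) K := Module.finite_of_finrank_eq_succ hdeg
  have : CharP k 2 := h2 ▸ ringChar.charP k
  have : CharP K 2 := charP_of_injective_algebraMap (algebraMap k K).injective 2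
  have hK₀ := Groth.Agent.H81.RatPlace.isFunctionField (k := k)
  let ι := algebraMap (Polynomial k) (RatFunc k)
  let d : FunFld.Place k (RatFunc k) → ℤ := fun P => if 1 < P.1 f then (1 - P.ord f) / 2 else 0
  have hfin : {P : FunFld.Place k (RatFunc k) | P.ord f < 0}.Finite := by
    refine (FunFld.div k f).hasFiniteSupport.subset fun P hP => ?_
    rw [Function.mem_support, Groth.Agent.Lib.FunFld.Degree.div_apply hK₀]
    exact (ne_of_lt hP)
  have hgenus := Groth.Agent.H81.ASGenus.genus_eq hK hdeg y hy f heq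
    (fun P hP => hodd P ((Groth.Agent.Lib.FunFld.Place.one_lt_val_iff P).2 hP)) hfin.toFinset
    (fun P => hfin.mem_toFinset)
  obtain ⟨Pinf, hPinf⟩ := Groth.Agent.Lib.FunFld.Gen.Existence.exists_pole hK₀.1 (RatFunc.transcendental_X (K := k))
  have huniq : ∀ P : FunFld.Place k (RatFunc k), P.ord (RatFunc.X : RatFunc k) < 0 → P = Pinf := by
    intro P hP
    obtain ⟨Q, hQ, hQX, hother⟩ := Groth.Agent.Lib.FunFld.Rational.exists_place_deg_one_of_adjoin_eq_top
      hK₀ (Groth.Agent.H81.RatPlace.adjoin_X_eq_top (k := k))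
    have h1 : P = Q := by
      by_contra h
      have := hother P h
      omega
    have h2 : Pinf = Q := by
      by_contra h
      have := hother Pinf h
      omega
    rw [h1, h2]
  have hdegq : (FunFld.genus k K : ℤ) = -1 + (q.natDegree : ℤ) + d Pinf := by
    rw [hgenus]
    have hsum := Groth.Agent.Lib.FunFld.Degree.deg_div hK₀ (ι q)
    have hS : ∑ P ∈ hfin.toFinset, (1 - P.ord f) / 2 * (P.deg : ℤ) =
        ∑ P ∈ hfin.toFinset, d P * (P.deg : ℤ) := Finset.sum_congr rfl fun P hP => by
      simp only [d, if_pos ((Groth.Agent.Lib.FunFld.Place.one_lt_val_iff P).2 (hfin.mem_toFinset.1 hP))]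
    rw [hS]
    have hd0 : ∀ P, P ∉ hfin.toFinset → d P = 0 := fun P hP => by
      simp only [d]
      rw [if_neg fun h => hP (hfin.mem_toFinset.2 ((Groth.Agent.Lib.FunFld.Place.one_lt_val_iff P).1 h))]
    have hqd : ∀ P : FunFld.Place k (RatFunc k), P ≠ Pinf → P.ord (ι q) = d P := fun P hP => by
      refine hq P ((Groth.Agent.Lib.FunFld.Place.val_le_one_iff P).2 ?_)
      by_contra h
      exact hP (huniq P (not_le.1 h))
    rw [FunFld.Divisor.deg, Finsupp.sum_of_support_subset (s := insert Pinf hfin.toFinset) _ ?_ _ (by simp)] at hsum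
    swap
    · intro P hP
      rw [Finsupp.mem_support_iff, Groth.Agent.Lib.FunFld.Degree.div_apply hK₀] at hP
      by_contra h
      rw [Finset.mem_insert, not_or] at h
      exact hP ((hqd P h.1).trans (hd0 P h.2))
    simp only [Groth.Agent.Lib.FunFld.Degree.div_apply hK₀] at hsum
    rw [← Finset.sum_erase_add _ _ (Finset.mem_insert_self Pinf _),
      Groth.Agent.H81.RatPlace.deg_inf Pinf hPinf, Groth.Agent.H81.RatPlace.ord_poly_inf Pinf hPinf hq0,
      Finset.sum_congr rfl (g := fun P => d P * (P.deg : ℤ)) fun P hP => by rw [hqd P (Finset.mem_erase.1 hP).1],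
      Finset.erase_insert_eq_erase] at hsum
    by_cases hmem : Pinf ∈ hfin.toFinset
    · rw [← Finset.sum_erase_add _ _ hmem, Groth.Agent.H81.RatPlace.deg_inf Pinf hPinf]
      push_cast at hsum ⊢
      linarith
    · rw [Finset.erase_eq_of_notMem hmem] at hsum
      rw [hd0 Pinf hmem]
      push_cast at hsum
      linarith
  let s : Polynomial k →ₗ[k] K :=
    { toFun := fun a => algebraMap (RatFunc k) K (ι a / ι q)
      map_add' := fun a b => by rw [map_add, add_div, map_add]
      map_smul' := fun c a => by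
        rw [RingHom.id_apply, Algebra.smul_def, Algebra.smul_def, map_mul, mul_div_assoc, map_mul,
          ← IsScalarTower.algebraMap_apply k (Polynomial k) (RatFunc k),
          ← IsScalarTower.algebraMap_apply k (RatFunc k) K] }
  have hqne : ι q ≠ 0 := Groth.Agent.H81.RatPlace.ι_ne_zero hq0
  have hs : Function.Injective s := (injective_iff_map_eq_zero s).2 fun a ha => by
    have h1 : algebraMap (RatFunc k) K (ι a / ι q) = 0 := ha
    rw [map_eq_zero, div_eq_zero_iff, or_iff_left hqne, map_eq_zero_iff _ (IsFractionRing.injective _ _)] at h1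
    exact h1
  have hreg : ∀ i : ℕ, i < FunFld.genus k K → ∀ P,
      LocRes.vDiff (φ P) (algebraMap (RatFunc k) K (RatFunc.X ^ i / ι q))
        (algebraMap (RatFunc k) K RatFunc.X) ≤ 1 := by
    intro i hi Q
    obtain ⟨P, e, he0, he⟩ := Groth.Agent.Lib.FunFld.Ext.exists_place_below hK₀ Q
    rw [LocRes.vDiff, map_mul, (hφ Q).1, he, map_div₀, map_pow,
      Groth.Agent.Lib.FunFld.Place.val_eq_exp P RatFunc.X_ne_zero,
      Groth.Agent.Lib.FunFld.Place.val_eq_exp P hqne, ← WithZero.exp_nsmul, ← WithZero.exp_sub,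
      ← WithZero.exp_nsmul]
    simp only [nsmul_eq_mul]
    have he1 : (1 : ℤ) ≤ e := by exact_mod_cast he0
    have hram : 1 < P.1 f → e = 2 ∧ P.1 f = WithZero.exp (-P.ord f) ∧ Q.1 y = WithZero.exp (-P.ord f) ∧
        Odd (P.ord f) := by
      intro hpole
      have hf0 : f ≠ 0 := fun h => by rw [h, map_zero] at hpole; exact absurd hpole (not_lt.2 zero_le)
      have hy2 : ∀ (Q' : FunFld.Place k K) (e' : ℕ), FunFld.IsOverWith Q' P e' → Q'.1 y ^ 2 = P.1 f ^ e' := by
        intro Q' e' he'
        have hlt : 1 < Q'.1 y := by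
          by_contra h
          rw [not_lt] at h
          have h2 : Q'.1 (y ^ 2 + y) ≤ 1 :=
            (Q'.1.map_add _ _).trans (max_le (by rw [map_pow]; exact pow_le_one₀ zero_le h) h)
          rw [heq, he'] at h2
          exact absurd h2 (not_le.2 (one_lt_pow₀ hpole (Groth.Agent.Lib.FunFld.Ext.pos_of_isOverWith he').ne'))
        rw [← he', ← heq, Valuation.map_add_eq_of_lt_left, map_pow]
        rw [map_pow]
        exact lt_self_pow₀ hlt one_lt_two
      have hy0 : y ≠ 0 := fun h => hy ⟨0, by rw [map_zero, h]⟩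
      have hordy : ∀ (Q' : FunFld.Place k K) (e' : ℕ), FunFld.IsOverWith Q' P e' →
          2 * Q'.ord y = (e' : ℤ) * P.ord f := by
        intro Q' e' he'
        have h := congrArg WithZero.log (hy2 Q' e' he')
        rw [WithZero.log_pow, WithZero.log_pow, nsmul_eq_mul, nsmul_eq_mul] at h
        rw [Groth.Agent.Lib.FunFld.Place.ord_def, Groth.Agent.Lib.FunFld.Place.ord_def]
        push_cast at h
        linarith
      have h4 := Groth.Agent.H81.Quadratic.ramified hK₀ hdeg P (m := P.ord f) (hodd P hpole) fun Q' e' he' =>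
        ⟨Q'.ord y, (hordy Q' e' he').symm⟩
      have he2 : e = 2 := (Groth.Agent.Lib.FunFld.Ext.place_below_unique he (h4.2 Q ⟨e, he⟩).1).2
      refine ⟨he2, Groth.Agent.Lib.FunFld.Place.val_eq_exp P hf0, ?_, hodd P hpole⟩
      rw [Groth.Agent.Lib.FunFld.Place.val_eq_exp Q hy0]
      have := hordy Q e he
      rw [he2] at this
      push_cast at this
      congr 1
      omega
    rcases le_or_gt 0 (P.ord (RatFunc.X : RatFunc k)) with hX | hX
    · have hPq : P.ord (ι q) = if 1 < P.1 f then (1 - P.ord f) / 2 else 0 :=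
        hq P ((Groth.Agent.Lib.FunFld.Place.val_le_one_iff P).2 hX)
      have hiX : 0 ≤ (i : ℤ) * P.ord (RatFunc.X : RatFunc k) := by positivity
      have hprod : 0 ≤ (e : ℤ) * ((i : ℤ) * P.ord (RatFunc.X : RatFunc k)) := by positivity
      by_cases hpole : 1 < P.1 f
      · obtain ⟨he2, hfv, hyv, hm⟩ := hram hpole
        subst he2
        rw [if_pos hpole] at hPq
        have hpos : 0 < P.ord (ι q) := by
          rw [hPq]
          have := (Groth.Agent.Lib.FunFld.Place.one_lt_val_iff P).1 hpole
          omega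
        obtain ⟨p, hp, -, hpl⟩ := Groth.Agent.H81.RatPlace.exists_irreducible_dvd P hq0 hpos
        have hπ : P.1 (ι p) = WithZero.exp (-1) := by
          rw [Groth.Agent.Lib.FunFld.Place.val_eq_exp P (Groth.Agent.H81.RatPlace.ι_ne_zero hp.ne_zero),
            Groth.Agent.H81.RatPlace.ord_irreducible P hp hpl]
        have hDx : Valued.v (LocRes.D (F Q) (φ Q (algebraMap (RatFunc k) K (ι p)))) ≤
            Valued.v (LocRes.D (F Q) (φ Q (algebraMap (RatFunc k) K RatFunc.X))) :=
          Groth.Agent.H81.Diff.Line.D_le_fin (hφ Q) he hX (le_of_lt hpl)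
        have hsep : ¬ Valued.v (LocRes.D (F Q) (φ Q (algebraMap (RatFunc k) K (ι p)))) <
            Valued.v (LocRes.D (F Q) (φ Q (algebraMap (RatFunc k) K RatFunc.X))) := by
          intro hlt
          rw [← Groth.Agent.H81.Diff.Regular.aeval_X, Groth.Agent.H81.Diff.Regular.D_aeval, map_mul,
            (hφ Q).1, Groth.Agent.H81.Diff.Regular.aeval_X, he] at hlt
          have h1 : P.1 (ι (Polynomial.derivative p)) = 1 := by
            have hcop : IsCoprime p (Polynomial.derivative p) := PerfectField.separable_of_irreducible hp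
            rw [Groth.Agent.Lib.FunFld.Place.val_eq_exp P (Groth.Agent.H81.RatPlace.ι_ne_zero fun h0 =>
              hp.not_isUnit (isCoprime_zero_right.1 (h0 ▸ hcop))),
              Groth.Agent.H81.RatPlace.ord_eq_zero_of_isCoprime P hp hpl hcop, neg_zero, WithZero.exp_zero]
          rw [h1, one_pow, one_mul] at hlt
          exact lt_irrefl _ hlt
        have hT := le_antisymm hDx (not_lt.1 hsep)
        have hD := Groth.Agent.H81.Diff.Line.D_uniformizer (hφ Q) he hπ
          (fun u hu => (Groth.Agent.H81.Diff.Line.D_le_fin (hφ Q) he hX hu).trans_eq hT.symm)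
          heq hfv hyv hm
        rw [← hT, hD, ← WithZero.exp_add]
        refine (WithZero.exp_le_exp.2 ?_).trans WithZero.exp_zero.le
        obtain ⟨c, hc⟩ := hm
        push_cast
        have hdiv : (1 - P.ord f) / 2 * 2 = 1 - P.ord f := by omega
        rw [hPq]
        nlinarith [hdiv, hiX]
      · rw [if_neg hpole] at hPq
        refine mul_le_one' ((WithZero.exp_le_exp.2 ?_).trans WithZero.exp_zero.le)
          (Groth.Agent.H81.Diff.Regular.vDx_le_one (hφ Q) he hX)
        rw [hPq]
        linarith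
    · have hPi := huniq P hX
      rw [Groth.Agent.H81.RatPlace.ord_X_eq_neg_one P hX, Groth.Agent.H81.RatPlace.ord_poly_inf P hX hq0]
      by_cases hpole : 1 < P.1 f
      · obtain ⟨he2, hfv, hyv, hm⟩ := hram hpole
        subst he2
        let π : RatFunc k := RatFunc.X⁻¹
        have hXv : P.1 (RatFunc.X : RatFunc k) = WithZero.exp 1 := by
          rw [Groth.Agent.Lib.FunFld.Place.val_eq_exp P RatFunc.X_ne_zero,
            Groth.Agent.H81.RatPlace.ord_X_eq_neg_one P hX, neg_neg]
        have hπ : P.1 π = WithZero.exp (-1) := by rw [map_inv₀, hXv, ← WithZero.exp_neg]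
        have hT : Valued.v (LocRes.D (F Q) (φ Q (algebraMap (RatFunc k) K π))) =
            WithZero.exp (-(2 * (2 : ℤ))) * Valued.v (LocRes.D (F Q) (φ Q (algebraMap (RatFunc k) K RatFunc.X))) := by
          rw [map_inv₀ (algebraMap (RatFunc k) K), map_inv₀ (φ Q), Derivation.leibniz_inv]
          simp only [smul_eq_mul, map_mul, Valuation.map_neg, map_pow, map_inv₀]
          rw [(hφ Q).1, he, hXv, ← WithZero.exp_nsmul, ← WithZero.exp_neg, ← WithZero.exp_nsmul]
          rfl
        have hD := Groth.Agent.H81.Diff.Line.D_uniformizer (hφ Q) he hπ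
          (fun u hu => (Groth.Agent.H81.Diff.Line.D_le_inf (hφ Q) he hX hu).trans_eq (by
            rw [hT]; norm_num))
          heq hfv hyv hm
        rw [hT] at hD
        have hd : d Pinf = (1 - P.ord f) / 2 := by simp only [d, ← hPi, if_pos hpole]
        generalize Valued.v (LocRes.D (F Q) (φ Q (algebraMap (RatFunc k) K RatFunc.X))) = T at hD ⊢
        rcases eq_or_ne T 0 with rfl | hT0
        · rw [mul_zero]; exact zero_le
        rw [← WithZero.exp_log hT0] at hD ⊢
        rw [← WithZero.exp_add, WithZero.exp_inj] at hD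
        rw [← WithZero.exp_add]
        refine (WithZero.exp_le_exp.2 ?_).trans WithZero.exp_zero.le
        obtain ⟨c, hc⟩ := hm
        push_cast
        omega
      · have hd : d Pinf = 0 := by simp only [d, ← hPi, if_neg hpole]
        refine (mul_le_mul' le_rfl (Groth.Agent.H81.Diff.Regular.vDx_inf (hφ Q) he hX).1).trans ?_
        rw [← WithZero.exp_add]
        refine (WithZero.exp_le_exp.2 ?_).trans WithZero.exp_zero.le
        have : (e : ℤ) * 2 ≤ e * ((q.natDegree : ℤ) - i) := mul_le_mul_of_nonneg_left (by omega) (by omega)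
        nlinarith
  refine ⟨hreg, fun z hz => ?_⟩
  obtain ⟨a, ha, hza⟩ := Groth.Agent.H81.Diff.Regular.spans φ hK hφ s hs (fun i hi P => by
    show LocRes.vDiff (φ P) (algebraMap (RatFunc k) K (ι (Polynomial.X ^ i) / ι q)) _ ≤ 1
    rw [map_pow, RatFunc.algebraMap_X]
    exact hreg i hi P) z hz
  exact ⟨a, ha, hza⟩

end Groth.Agent.S12587
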