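import Groth.Statements.S12588
import Groth.Agent.Lib.FunFld.Different.Basic
import Groth.Agent.S12519
-- import your own Groth.Agent.* helpers here

set_option autoImplicit false
universe u v w
open FunFld

namespace Groth.Agent.S12588
open Groth.Agent.Lib.FunFld


/-- For `k` perfect of characteristic `2`, `K` separable of degree `2` over `k(x)` with `y² + y = f(x)`,
and a place `p` of `k(x)` where `f` has a pole whose order `2d - 1` is odd: a place `P` of `K` above
`p` with ramification index `e` (necessarily `e = 2`, `P` unique) has different exponent `d(P|p) =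
2d = 1 - ord_p(f)`; the exponent is computed on `dz` through Laurent expansions over `k` at `p` and
`P`. -/
theorem result (k : Type u) (K : Type v) [Field k] [Field K] [Algebra k K] [Algebra (RatFunc k) K] [IsScalarTower k (RatFunc k) K]
    (hK : FunFld.IsFunctionField k K) (hdeg : Module.finrank (RatFunc k) K = 2) [PerfectField k] (h2 : ringChar k = 2)
    [Algebra.IsSeparable (RatFunc k) K]
    (y : K) (hy : y ∉ Set.range (algebraMap (RatFunc k) K)) (f : RatFunc k)
    (heq : y ^ 2 + y = algebraMap (RatFunc k) K f)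
    (p : FunFld.Place k (RatFunc k)) (hp : 1 < p.1 f) (hodd : Odd (p.ord f))
    (P : FunFld.Place k K) (e : ℕ) (he : FunFld.IsOverWith P p e)
    (F F' : Type w) [Field F] [Algebra k F] [Field F'] [Algebra k F']
    (φ : RatFunc k →ₐ[k] LaurentSeries F) (hφ : LocRes.IsExpansionAt p.1 φ)
    (ψ : K →ₐ[k] LaurentSeries F') (hψ : LocRes.IsExpansionAt P.1 ψ)
    (z : RatFunc k) (hz : LocRes.vDiff φ 1 z ≠ 0) (hz' : LocRes.vDiff ψ 1 (algebraMap (RatFunc k) K z) ≠ 0) :
    LocRes.diffExp φ ψ e z = 1 - p.ord f := by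
  have : FiniteDimensional (RatFunc k) K := Module.finite_of_finrank_eq_succ hdeg
  have hkR : CharP k 2 := h2 ▸ ringChar.charP k
  have : CharP F 2 := charP_of_injective_algebraMap (algebraMap k F).injective 2
  have : CharP F' 2 := charP_of_injective_algebraMap (algebraMap k F').injective 2
  have : CharP K 2 := charP_of_injective_algebraMap (algebraMap k K).injective 2
  have hneg : p.ord f < 0 := (Place.one_lt_val_iff p).mp hp
  obtain ⟨-, he2⟩ := ((Groth.Agent.S12519.result k K h2 hdeg y hy f heq p).1 ⟨hneg, hodd⟩)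
  obtain ⟨he2, -⟩ := he2 P ⟨e, he⟩
  obtain rfl : e = 2 := (Ext.place_below_unique he he2).2
  have hodd' : ∀ (L : Type w) [Field L] [CharP L 2] (n : ℤ), Odd n → (n : L) ≠ 0 := by
    intro L _ _ n hn h0
    rw [CharP.intCast_eq_zero_iff L 2] at h0
    exact Int.not_even_iff_odd.mpr hn (even_iff_two_dvd.mpr (by exact_mod_cast h0))
  have hf0 : f ≠ 0 := fun h => by simp [h] at hneg
  set g := algebraMap (RatFunc k) K f with hg
  have hgv : P.1 g = WithZero.exp (-(2 * p.ord f)) := by
    rw [hg, he f, Place.val_eq_exp p hf0, ← WithZero.exp_nsmul]; simp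
  have hy1 : 1 < P.1 y := by
    by_contra hc
    rw [not_lt] at hc
    have : P.1 g ≤ 1 := heq ▸ (P.1.map_add _ _).trans (max_le (by rw [map_pow]; exact pow_le_one₀ zero_le hc) hc)
    rw [hgv, ← WithZero.exp_zero, WithZero.exp_le_exp] at this
    omega
  have hyv : P.1 y = WithZero.exp (-(p.ord f)) := by
    have h1 : P.1 (y ^ 2 + y) = P.1 y ^ 2 := by
      rw [Valuation.map_add_eq_of_lt_left _ (by rw [map_pow]; exact lt_self_pow₀ hy1 one_lt_two), map_pow]
    rw [heq, hgv] at h1
    have hy0 : y ≠ 0 := fun h => hy ⟨0, by rw [map_zero, h]⟩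
    rw [Place.val_eq_exp P hy0, ← WithZero.exp_nsmul, WithZero.exp_inj] at h1
    rw [Place.val_eq_exp P hy0, WithZero.exp_inj]
    simp at h1
    omega
  have hDφ : Valued.v (LocRes.D F (φ f)) = WithZero.exp (-(p.ord f - 1)) :=
    (Different.val_D (by rw [hφ.1, Place.val_eq_exp p hf0])).1 (hodd' F _ hodd)
  have hDψ : Valued.v (LocRes.D F' (ψ g)) = WithZero.exp (-(p.ord f - 1)) := by
    have h20 : ψ y + ψ y = 0 := by
      rw [← map_add, CharTwo.add_self_eq_zero, map_zero]
    rw [← heq, map_add, map_add, map_pow, pow_two, Derivation.leibniz, smul_eq_mul, ← add_mul, h20,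
      zero_mul, zero_add]
    exact (Different.val_D (by rw [hψ.1, hyv])).1 (hodd' F' _ hodd)
  have hne : LocRes.vDiff φ 1 f ≠ 0 := by rw [Different.vDiff_one, hDφ]; exact WithZero.exp_ne_zero
  rw [(Different.diffExp_eq he (H81.RatPlace.isFunctionField (k := k))
    (Hasse.Separable.exists_isSep (H81.RatPlace.isFunctionField (k := k))) hφ hψ hz hne hz').2,
    LocRes.diffExp, Different.ordDiff_one, Different.ordDiff_one, hDφ, ← hg, hDψ, WithZero.log_exp]
  ring

end Groth.Agent.S12588
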