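import Groth.Statements.S12589
import Groth.Agent.H81.IntClosure

set_option autoImplicit false
universe u v
open FunFld

namespace Groth.Agent.S12589

/-- If a place `P` of a geometric function field of one variable `K/k` is nonsingular with respect to
the finite extension `k'/k` (the integral closure of `O_P` in `K' = k' ⊗_k K` is `O_P[k']`) and `Q`
is a place of `K'` above `P`, then `F_Q = k' F_P`. -/
theorem result (k k' : Type u) (K K' : Type v) [Field k] [Field k'] [Field K] [Field K']
    [Algebra k k'] [FiniteDimensional k k'] [Algebra k K] [Algebra K K'] [Algebra k' K'] [Algebra k K']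
    [IsScalarTower k k' K'] [IsScalarTower k K K']
    (h : Function.Bijective (Algebra.TensorProduct.productMap
      (IsScalarTower.toAlgHom k k' K') (IsScalarTower.toAlgHom k K K')))
    (hK : FunFld.IsFunctionField k K) (hg : FunFld.IsGeometric k K)
    (P : FunFld.Place k K) [Algebra P.O K'] [IsScalarTower P.O K K']
    (hns : (integralClosure P.O K').toSubring = (Algebra.adjoin P.O (Set.range (algebraMap k' K'))).toSubring)
    (Q : FunFld.Place k K') [P.1.HasExtension Q.1] (hk' : ∀ c : k', Q.1 (algebraMap k' K' c) ≤ 1) :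
    Algebra.adjoin (IsLocalRing.ResidueField P.O)
      (Set.range fun c : k' => IsLocalRing.residue Q.O ⟨algebraMap k' K' c, hk' c⟩) = ⊤ := by
  classical
  have hfd : FiniteDimensional K K' := by
    let g : TensorProduct k k' K →ₐ[k] K' := Algebra.TensorProduct.productMap
      (IsScalarTower.toAlgHom k k' K') (IsScalarTower.toAlgHom k K K')
    let b := Module.finBasis k k'
    refine ⟨⟨Finset.univ.image (fun i => algebraMap k' K' (b i)), ?_⟩⟩
    rw [eq_top_iff]
    rintro x -
    obtain ⟨z, rfl⟩ := h.2 x
    induction z using TensorProduct.induction_on with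
    | zero => simp
    | tmul c a =>
      rw [Algebra.TensorProduct.productMap_apply_tmul]
      have e : algebraMap k' K' c * algebraMap K K' a =
          ∑ i, (algebraMap k K (b.repr c i) * a) • algebraMap k' K' (b i) := by
        conv_lhs => rw [← b.sum_repr c]
        rw [map_sum, Finset.sum_mul]
        refine Finset.sum_congr rfl fun i _ => ?_
        rw [Algebra.smul_def (b.repr c i) (b i), map_mul, Algebra.smul_def, map_mul,
          ← IsScalarTower.algebraMap_apply k k' K', ← IsScalarTower.algebraMap_apply k K K']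
        ring
      show IsScalarTower.toAlgHom k k' K' c * IsScalarTower.toAlgHom k K K' a ∈ _
      rw [IsScalarTower.toAlgHom_apply, IsScalarTower.toAlgHom_apply, e]
      exact Submodule.sum_mem _ fun i _ => Submodule.smul_mem _ _
        (Submodule.subset_span (Finset.mem_coe.2 (Finset.mem_image.2 ⟨i, Finset.mem_univ _, rfl⟩)))
    | add a c ha hc => rw [map_add]; exact Submodule.add_mem _ ha hc
  obtain ⟨R, e, he0, he⟩ := Lib.FunFld.Ext.exists_place_below hK Q
  have hRP : R = P := by
    refine Lib.FunFld.Place.place_ext_of_le_iff fun a => ?_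
    have h1 := Valuation.HasExtension.val_map_le_one_iff P.1 Q.1 a
    rw [he] at h1
    exact (pow_le_one_iff_of_nonneg zero_le he0.ne').symm.trans h1
  subst hRP
  rw [eq_top_iff]
  intro r _
  obtain ⟨⟨z, hz⟩, rfl⟩ := IsLocalRing.residue_surjective r
  let S := (Lib.FunFld.Ext.finite_over (K' := K') hK R).toFinset
  obtain ⟨z', hz'⟩ := Lib.FunFld.Approx.approximation S (fun Q' => if Q' = Q then z else 0) (fun _ => -1)
  have hQS : Q ∈ S := (Set.Finite.mem_toFinset _).2 ⟨e, he⟩
  have hle : WithZero.exp (-(1 : ℤ)) < (1 : WithZero (Multiplicative ℤ)) := by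
    rw [← WithZero.exp_zero, WithZero.exp_lt_exp]; omega
  have hzint : IsIntegral R.O z' := by
    rw [H81.IntClosure.isIntegral_iff hK]
    intro Q' hQ'
    have h1 := hz' Q' ((Set.Finite.mem_toFinset _).2 hQ')
    have h2 := Q'.1.map_add (z' - if Q' = Q then z else 0) (if Q' = Q then z else 0)
    rw [sub_add_cancel] at h2
    refine h2.trans (max_le (h1.trans hle.le) ?_)
    split_ifs with hh
    · subst hh; exact hz
    · simp
  have hmem : z' ∈ (Algebra.adjoin R.O (Set.range (algebraMap k' K'))).toSubring := hns ▸ hzint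
  have hz'le : Q.1 z' ≤ 1 := (H81.IntClosure.isIntegral_iff hK).1 hzint Q ⟨e, he⟩
  have key : ∀ y ∈ Algebra.adjoin R.O (Set.range (algebraMap k' K')), ∃ hy : Q.1 y ≤ 1,
      IsLocalRing.residue Q.O ⟨y, hy⟩ ∈ Algebra.adjoin (IsLocalRing.ResidueField R.O)
        (Set.range fun c : k' => IsLocalRing.residue Q.O ⟨algebraMap k' K' c, hk' c⟩) := by
    intro y hy
    induction hy using Algebra.adjoin_induction with
    | mem y hy =>
      obtain ⟨c, rfl⟩ := hy
      exact ⟨hk' c, Algebra.subset_adjoin ⟨c, rfl⟩⟩
    | algebraMap a =>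
      have h1 : Q.1 (algebraMap R.O K' a) ≤ 1 := by
        rw [H81.IntClosure.algebraMap_O, he]
        exact pow_le_one₀ zero_le a.2
      refine ⟨h1, ?_⟩
      have e1 : (⟨algebraMap R.O K' a, h1⟩ : Q.O) = algebraMap R.O Q.O a :=
        Subtype.ext (H81.IntClosure.algebraMap_O a)
      rw [e1]
      exact Subalgebra.algebraMap_mem _ (IsLocalRing.residue R.O a)
    | add a c _ _ ha hc =>
      obtain ⟨ha, ha'⟩ := ha
      obtain ⟨hc, hc'⟩ := hc
      refine ⟨(Q.1.map_add a c).trans (max_le ha hc), ?_⟩
      have := Subalgebra.add_mem _ ha' hc'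
      rw [← map_add] at this
      exact this
    | mul a c _ _ ha hc =>
      obtain ⟨ha, ha'⟩ := ha
      obtain ⟨hc, hc'⟩ := hc
      refine ⟨by rw [map_mul]; exact mul_le_one' ha hc, ?_⟩
      have := Subalgebra.mul_mem _ ha' hc'
      rw [← map_mul] at this
      exact this
  obtain ⟨_, hres⟩ := key z' hmem
  have hsame : IsLocalRing.residue Q.O ⟨z', hz'le⟩ = IsLocalRing.residue Q.O ⟨z, hz⟩ := by
    rw [← sub_eq_zero, ← map_sub, Lib.FunFld.Place.res_eq_zero_iff]
    have h1 := hz' Q hQS
    rw [if_pos rfl] at h1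
    exact h1.trans_lt hle
  exact hsame ▸ hres

end Groth.Agent.S12589
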