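import Groth.Statements.S12591
import Groth.Agent.H81.ConstRank
import Groth.Agent.Lib.FunFld.Approx
import Mathlib.FieldTheory.IsAlgClosed.AlgebraicClosure
import Mathlib.RingTheory.Valuation.Extension

set_option autoImplicit false
universe u v
open FunFld WithZero IntermediateField Groth.Agent.Lib.FunFld Groth.Agent.Lib.FunFld.Place
open scoped TensorProduct

namespace Groth.Agent.S12591

theorem sum_zeros {k₁ : Type*} {K₁ : Type*} [Field k₁] [Field K₁] [Algebra k₁ K₁]
    (hF : Gen.Bound.IsFF k₁ K₁) {x : K₁} (hx : Transcendental k₁ x) :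
    ∑ R ∈ (Gen.Degree.finite_zeros hF x).toFinset, R.ord x * (R.deg : ℤ) =
      (Module.finrank (adjoin k₁ ({x} : Set K₁)) K₁ : ℤ) := by
  rw [← Gen.Degree.deg_zeroDiv hF hx, FunFld.Divisor.deg, Finsupp.sum]
  have hsupp : (Degree.zeroDiv (k := k₁) x).support = (Gen.Degree.finite_zeros hF x).toFinset := by
    ext R
    rw [Finsupp.mem_support_iff, Gen.Degree.zeroDiv_apply hF, Set.Finite.mem_toFinset]
    change _ ↔ 0 < R.ord x
    omega
  rw [hsupp]
  refine Finset.sum_congr rfl fun R hR => ?_
  rw [Set.Finite.mem_toFinset] at hR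
  rw [Gen.Degree.zeroDiv_apply hF, max_eq_left (le_of_lt hR)]

section
variable {k : Type u} {K : Type v} [Field k] [Field K] [Algebra k K] {A : Type u} [Field A] [Algebra k A]

theorem map_mem_mono {L L' : IntermediateField k A} (hle : L ≤ L') {z : A ⊗[k] K}
    (hz : z ∈ (Algebra.TensorProduct.map L.val (AlgHom.id k K)).range) :
    z ∈ (Algebra.TensorProduct.map L'.val (AlgHom.id k K)).range := by
  obtain ⟨w, rfl⟩ := hz
  refine ⟨Algebra.TensorProduct.map (IntermediateField.inclusion hle) (AlgHom.id k K) w, ?_⟩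
  induction w using TensorProduct.induction_on with
  | zero => simp
  | tmul a b => simp
  | add a b ha hb =>
    simp only [AlgHom.toRingHom_eq_coe, RingHom.coe_coe] at ha hb ⊢
    rw [map_add, map_add, map_add, ha, hb]

theorem exists_finite_stage [Algebra.IsAlgebraic k A] (z : A ⊗[k] K) :
    ∃ L : IntermediateField k A, FiniteDimensional k L ∧
      z ∈ (Algebra.TensorProduct.map L.val (AlgHom.id k K)).range := by
  induction z using TensorProduct.induction_on with
  | zero => exact ⟨⊥, inferInstance, zero_mem _⟩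
  | tmul c a =>
    exact ⟨k⟮c⟯, adjoin.finiteDimensional (Algebra.IsIntegral.isIntegral c),
      ⟨⟨c, mem_adjoin_simple_self k c⟩ ⊗ₜ a, rfl⟩⟩
  | add x y hx hy =>
    obtain ⟨L, _, hL⟩ := hx
    obtain ⟨L', _, hL'⟩ := hy
    exact ⟨L ⊔ L', inferInstance, add_mem (map_mem_mono le_sup_left hL) (map_mem_mono le_sup_right hL')⟩

theorem exists_finite_stage_finset [Algebra.IsAlgebraic k A] (s : Finset (A ⊗[k] K)) :
    ∃ L : IntermediateField k A, FiniteDimensional k L ∧
      ∀ z ∈ s, z ∈ (Algebra.TensorProduct.map L.val (AlgHom.id k K)).range := by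
  classical
  induction s using Finset.induction_on with
  | empty => exact ⟨⊥, inferInstance, by simp⟩
  | insert z s _ ih =>
    obtain ⟨L, _, hL⟩ := exists_finite_stage z
    obtain ⟨L', _, hL'⟩ := ih
    refine ⟨L ⊔ L', inferInstance, fun w hw => ?_⟩
    rcases Finset.mem_insert.1 hw with rfl | hw
    · exact map_mem_mono le_sup_left hL
    · exact map_mem_mono le_sup_right (hL' w hw)

theorem isField_tensor [Algebra.IsAlgebraic k A] (hg : FunFld.IsGeometric k K) : IsField (A ⊗[k] K) := by
  have : Nontrivial (A ⊗[k] K) :=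
    (Algebra.TensorProduct.includeRight_injective (R := k) (A := A) (B := K) (algebraMap k A).injective).nontrivial
  refine ⟨exists_pair_ne _, mul_comm, fun {z} hz => ?_⟩
  obtain ⟨L, _, w, rfl⟩ := exists_finite_stage z
  obtain ⟨w', hw'⟩ := (hg L inferInstance).mul_inv_cancel (a := w) fun h => hz (by rw [h, map_zero])
  exact ⟨Algebra.TensorProduct.map L.val (AlgHom.id k K) w', by
    exact (map_mul _ w w').symm.trans ((congrArg _ hw').trans (map_one _))⟩

variable {Ω : Type*} [Field Ω] [Algebra A Ω] [Algebra k Ω] [IsScalarTower k A Ω]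

set_option backward.isDefEq.respectTransparency false in
theorem main [IsAlgClosed A] [Algebra.IsAlgebraic k A] (φ : K →ₐ[k] Ω)
    (hbij : Function.Bijective (Algebra.TensorProduct.productMap (IsScalarTower.toAlgHom k A Ω) φ))
    (hK : FunFld.IsFunctionField k K) (P : FunFld.Place k K) :
    ∃ L : IntermediateField k A, FiniteDimensional k L ∧
      ∀ (K' : Type v) [Field K'] [Algebra K K'] [Algebra L K'] [Algebra k K']
        [IsScalarTower k L K'] [IsScalarTower k K K'],
        Function.Bijective (Algebra.TensorProduct.productMap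
          (IsScalarTower.toAlgHom k L K') (IsScalarTower.toAlgHom k K K')) →
        ∀ Q : FunFld.Place L K', P.1.HasExtension Q.1 → Q.deg = 1 := by
  classical
  obtain ⟨z, hz, hPz, hother⟩ := Ext.exists_only_zero hK P
  have := Bound.finiteDimensional_adjoin_transcendental hK hz
  obtain ⟨hfinΩ, hrankΩ⟩ := H81.ConstRank.finrank_adjoin (k' := A) φ hbij hz
  have hzΩ : Transcendental A (φ z) := H81.ConstRank.transcendental_map φ hz
  have hΩ : Gen.Bound.IsFF A Ω := ⟨φ z, hzΩ, hfinΩ⟩
  let S := (Gen.Degree.finite_zeros hΩ (φ z)).toFinset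
  have hex : ∀ R₀ ∈ S, ∃ t : Ω, ∀ R ∈ S, R.1 t = exp (if R = R₀ then -1 else 0) := by
    intro R₀ _
    choose a ha using fun R : FunFld.Place A Ω => exists_val_eq_exp R (-1)
    obtain ⟨w, hw⟩ := Approx.approximation S (fun R => if R = R₀ then a R else 1)
      (fun R => if R = R₀ then -2 else -1)
    refine ⟨w, fun R hR => ?_⟩
    have h1 := hw R hR
    by_cases h : R = R₀
    · rw [if_pos h, if_pos h] at h1
      rw [if_pos h, ← ha R]
      exact R.1.map_eq_of_sub_lt (h1.trans_lt (by rw [ha R, exp_lt_exp]; norm_num))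
    · rw [if_neg h, if_neg h] at h1
      rw [if_neg h]
      have h2 : R.1 w = R.1 (1 : Ω) := R.1.map_eq_of_sub_lt (h1.trans_lt (by
        rw [map_one]; exact (exp_lt_exp.2 (by norm_num)).trans_eq exp_zero))
      rw [h2, map_one, exp_zero]
  choose! t ht using hex
  choose u hu using hbij.2
  obtain ⟨L, hLfin, hL⟩ := exists_finite_stage_finset ((S.image t).image u)
  refine ⟨L, hLfin, fun K' _ _ _ _ _ _ h Q hQ => ?_⟩
  let e := AlgEquiv.ofBijective _ h
  let ψ : K' →ₐ[k] Ω := ((Algebra.TensorProduct.productMap (IsScalarTower.toAlgHom k A Ω) φ).comp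
    (Algebra.TensorProduct.map L.val (AlgHom.id k K))).comp e.symm.toAlgHom
  have hψ : ∀ w, ψ (e w) = Algebra.TensorProduct.productMap (IsScalarTower.toAlgHom k A Ω) φ
      (Algebra.TensorProduct.map L.val (AlgHom.id k K) w) := fun w => by simp [ψ]
  have hψL : ∀ c : L, ψ (algebraMap L K' c) = algebraMap A Ω c := fun c => by
    rw [show algebraMap L K' c = e (c ⊗ₜ 1) by simp [e], hψ]; simp
  have hψK : ∀ a : K, ψ (algebraMap K K' a) = φ a := fun a => by
    rw [show algebraMap K K' a = e (1 ⊗ₜ a) by simp [e], hψ]; simp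
  have htr : ∀ R ∈ S, ∃ x : K', ψ x = t R := fun R hR => by
    obtain ⟨w, hw⟩ := hL (u (t R)) (Finset.mem_image_of_mem u (Finset.mem_image_of_mem t hR))
    exact ⟨e w, (hψ w).trans ((congrArg _ hw).trans (hu (t R)))⟩
  choose! t' ht' using htr
  have hsurj : ∀ R : S, Function.Surjective (R.1.1.comap ψ.toRingHom) := fun R x => by
    rcases eq_or_ne x 0 with rfl | hx
    · exact ⟨0, map_zero _⟩
    refine ⟨t' R ^ (-log x), ?_⟩
    show R.1.1 (ψ (t' R ^ (-log x))) = x
    rw [map_zpow₀, ht' R R.2, map_zpow₀, ht R R.2 R R.2, if_pos rfl, ← exp_zsmul]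
    simp [exp_log hx]
  have hS : ∀ R ∈ S, 0 < R.ord (φ z) := fun R hR => (Gen.Degree.finite_zeros hΩ (φ z)).mem_toFinset.1 hR
  let res : S → FunFld.Place L K' := fun R =>
    ⟨R.1.1.comap ψ.toRingHom, fun c => by
      show R.1.1 (ψ (algebraMap L K' c)) ≤ 1
      rw [hψL]; exact R.1.2.1 _, hsurj R⟩
  have hres : ∀ R w, (res R).1 w = R.1.1 (ψ w) := fun R w => rfl
  have hinj : Function.Injective res := by
    intro R R' hRR
    by_contra hne
    have h1 := hres R (t' R)
    rw [hRR, hres, ht' R R.2, ht R R.2 R R.2, ht R R.2 R' R'.2, if_pos rfl,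
      if_neg (fun h' => hne (Subtype.ext h').symm), exp_inj] at h1
    omega
  let z' : K' := algebraMap K K' z
  have hord : ∀ R : S, (res R).ord z' = R.1.ord (φ z) := fun R => by
    rw [ord_def, ord_def, hres, hψK]
  obtain ⟨hfin', hrank'⟩ := H81.ConstRank.finrank_adjoin (k' := L) (IsScalarTower.toAlgHom k K K') h hz
  have : Algebra.IsAlgebraic k L := Algebra.IsAlgebraic.of_finite k L
  have hz' : Transcendental L z' := H81.ConstRank.transcendental_map (IsScalarTower.toAlgHom k K K') hz
  have hFF : Gen.Bound.IsFF L K' := ⟨z', hz', hfin'⟩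
  let T := (Gen.Degree.finite_zeros hFF z').toFinset
  have hsumΩ := sum_zeros hΩ hzΩ
  have hsum' := sum_zeros hFF hz'
  have hdegΩ : ∀ R : FunFld.Place A Ω, R.deg = 1 := fun R => by
    have := Gen.Existence.finiteDimensional_residueField hΩ R
    have : Algebra.IsIntegral A (IsLocalRing.ResidueField R.O) := Algebra.IsIntegral.of_finite A _
    have hb := IsAlgClosed.algebraMap_bijective_of_isIntegral (k := A) (K := IsLocalRing.ResidueField R.O)
    exact ((AlgEquiv.ofBijective (Algebra.ofId A (IsLocalRing.ResidueField R.O)) hb).toLinearEquiv.finrank_eq).symm.trans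
      (Module.finrank_self A)
  have himg : (Finset.univ : Finset S).image res ⊆ T := fun Q' hQ' => by
    obtain ⟨R, -, rfl⟩ := Finset.mem_image.1 hQ'
    rw [Set.Finite.mem_toFinset]
    show 0 < (res R).ord z'
    rw [hord]; exact hS R R.2
  have hle : ∀ R : S, R.1.ord (φ z) ≤ (res R).ord z' * ((res R).deg : ℤ) := fun R => by
    have h1 : 0 < R.1.ord (φ z) := hS R R.2
    have h2 := Gen.Existence.deg_pos hFF (res R)
    rw [hord]; nlinarith
  have heq : ∑ R : S, R.1.ord (φ z) = ∑ Q' ∈ T, Q'.ord z' * (Q'.deg : ℤ) := by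
    rw [hsum', show adjoin L ({z'} : Set K') = adjoin L ({(IsScalarTower.toAlgHom k K K') z} : Set K') from rfl,
      hrank', ← hrankΩ, ← hsumΩ, Finset.sum_coe_sort S (fun R => R.ord (φ z))]
    exact Finset.sum_congr rfl fun R _ => by rw [hdegΩ R]; simp
  have hsub : ∑ R : S, (res R).ord z' * ((res R).deg : ℤ) ≤ ∑ Q' ∈ T, Q'.ord z' * (Q'.deg : ℤ) := by
    rw [← Finset.sum_image (f := fun Q' => Q'.ord z' * (Q'.deg : ℤ)) hinj.injOn]
    refine Finset.sum_le_sum_of_subset_of_nonneg himg fun Q' hQ' _ => ?_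
    rw [Set.Finite.mem_toFinset] at hQ'
    exact mul_nonneg (le_of_lt hQ') (Int.natCast_nonneg _)
  have hall : ∀ R : S, R.1.ord (φ z) = (res R).ord z' * ((res R).deg : ℤ) := fun R =>
    (Finset.sum_eq_sum_iff_of_le fun R _ => hle R).1
      (le_antisymm (Finset.sum_le_sum fun R _ => hle R) (hsub.trans heq.ge)) R (Finset.mem_univ R)
  have hQz : 0 < Q.ord z' := by
    have h1 := (ord_pos_iff P).1 hPz
    have h2 : P.1 z < 1 := (val_lt_one_iff P).2 (Or.inr hPz)
    have h3 : Q.1 z' < 1 := (hQ.val_isEquiv_comap.lt_one_iff_lt_one).1 h2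
    rcases (val_lt_one_iff Q).1 h3 with h0 | h0
    · exact absurd h0 ((map_ne_zero _).2 (Bound.ne_zero_of_transcendental hz))
    · exact h0
  have hQimg : Q ∈ (Finset.univ : Finset S).image res := by
    by_contra hQn
    have hQT : Q ∈ T := (Set.Finite.mem_toFinset _).2 hQz
    have h1 : ∑ Q' ∈ (Finset.univ : Finset S).image res, Q'.ord z' * (Q'.deg : ℤ) <
        ∑ Q' ∈ T, Q'.ord z' * (Q'.deg : ℤ) :=
      Finset.sum_lt_sum_of_subset himg hQT hQn
        (mul_pos hQz (by exact_mod_cast Gen.Existence.deg_pos hFF Q)) fun Q' hQ' _ =>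
        mul_nonneg (le_of_lt (show 0 < Q'.ord z' from (Gen.Degree.finite_zeros hFF z').mem_toFinset.1 hQ')) (Int.natCast_nonneg _)
    rw [Finset.sum_image hinj.injOn, ← Finset.sum_congr rfl fun R _ => hall R, heq] at h1
    exact lt_irrefl _ h1
  obtain ⟨R, -, rfl⟩ := Finset.mem_image.1 hQimg
  have h1 := hall R
  rw [hord] at h1
  have h2 : 0 < R.1.ord (φ z) := hS R R.2
  have h3 : ((res R).deg : ℤ) = 1 := (mul_eq_left₀ h2.ne').1 h1.symm
  exact_mod_cast h3

end

/-- Every place `P` of a geometric function field of one variable `K/k` has a splitting field of finite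
degree over `k`: a finite extension `k'` such that every place of `k' ⊗_k K` above `P` has degree
one over `k'`. (The finiteness of the set of singular places and the existence of a purely
inseparable `k'` making `k' ⊗_k K` nonsingular are not stated here.) -/
theorem result (k : Type u) (K : Type v) [Field k] [Field K] [Algebra k K]
    (hK : FunFld.IsFunctionField k K) (hg : FunFld.IsGeometric k K) (P : FunFld.Place k K) :
    ∃ (k' : Type u) (_ : Field k') (_ : Algebra k k'), FiniteDimensional k k' ∧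
      ∀ (K' : Type v) [Field K'] [Algebra K K'] [Algebra k' K'] [Algebra k K']
        [IsScalarTower k k' K'] [IsScalarTower k K K'],
        Function.Bijective (Algebra.TensorProduct.productMap
          (IsScalarTower.toAlgHom k k' K') (IsScalarTower.toAlgHom k K K')) →
        ∀ Q : FunFld.Place k' K', P.1.HasExtension Q.1 → Q.deg = 1 := by
  let A := AlgebraicClosure k
  let := (isField_tensor (A := A) hg).toField
  obtain ⟨L, hL, h⟩ := main (A := A) (Ω := A ⊗[k] K) Algebra.TensorProduct.includeRight (by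
    convert Function.bijective_id using 1
    funext w
    induction w using TensorProduct.induction_on with
    | zero => simp
    | tmul a b => simp
    | add a b ha hb => simp only [map_add, id_eq] at ha hb ⊢; rw [ha, hb]) hK P
  exact ⟨L, inferInstance, inferInstance, hL, fun K' _ _ _ _ _ _ hb Q hQ => h K' hb Q hQ⟩

end Groth.Agent.S12591
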