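import Groth.Statements.S12592
import Groth.Agent.Lib.FunFld.ConstIntegral
import Groth.Agent.H81.ConstPlace
import Groth.Agent.Lib.FunFld.Gen.Ramification
import Mathlib.FieldTheory.PurelyInseparable.Basic
import Mathlib.FieldTheory.IsAlgClosed.AlgebraicClosure
-- import your own Groth.Agent.* helpers here

set_option autoImplicit false
set_option synthInstance.maxHeartbeats 200000
set_option maxHeartbeats 1600000
universe u v
open FunFld

namespace Groth.Agent.S12592
open Groth.Agent Groth.Agent.Lib.FunFld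
open scoped TensorProduct
-- use the module structure coming from `Place.algRes`
attribute [-instance] IsLocalRing.instModuleResidueFieldOfAlgebra


/-- For a nonsingular place `P` of a geometric function field of one variable `K/k` and a finite
extension `k'/k` that is a splitting field for `P`, the scalar extension `k' ⊗_k K` has exactly
`[F_P^{sep} : k]` places above `P`, each with ramification index `[F_P : F_P^{sep}]`. (Part (2), on
the scalar extension to an algebraic closure, is not stated.) -/
theorem result (k k' : Type u) (K K' : Type v) [Field k] [Field k'] [Field K] [Field K']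
    [Algebra k k'] [FiniteDimensional k k'] [Algebra k K] [Algebra K K'] [Algebra k' K'] [Algebra k K']
    [IsScalarTower k k' K'] [IsScalarTower k K K']
    (h : Function.Bijective (Algebra.TensorProduct.productMap
      (IsScalarTower.toAlgHom k k' K') (IsScalarTower.toAlgHom k K K')))
    (hK : FunFld.IsFunctionField k K) (hg : FunFld.IsGeometric k K) (P : FunFld.Place k K)
    (hns : ∀ (k'' : Type u) [Field k''] [Algebra k k''] [FiniteDimensional k k'']
      (K'' : Type v) [Field K''] [Algebra K K''] [Algebra k'' K''] [Algebra k K'']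
      [IsScalarTower k k'' K''] [IsScalarTower k K K''],
      Function.Bijective (Algebra.TensorProduct.productMap
        (IsScalarTower.toAlgHom k k'' K'') (IsScalarTower.toAlgHom k K K'')) →
      integralClosure (P.O.toSubring.map (algebraMap K K'')) K'' =
        Algebra.adjoin (P.O.toSubring.map (algebraMap K K'')) (Set.range (algebraMap k'' K'')))
    (hsplit : ∀ Q : FunFld.Place k' K', (∃ e : ℕ, ∀ z : K, Q.1 (algebraMap K K' z) = P.1 z ^ e) → Q.deg = 1) :
    {Q : FunFld.Place k' K' | ∃ e : ℕ, ∀ z : K, Q.1 (algebraMap K K' z) = P.1 z ^ e}.Finite ∧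
    {Q : FunFld.Place k' K' | ∃ e : ℕ, ∀ z : K, Q.1 (algebraMap K K' z) = P.1 z ^ e}.ncard =
      Field.finSepDegree k (IsLocalRing.ResidueField P.O) ∧
    ∀ Q : FunFld.Place k' K', (∃ e : ℕ, ∀ z : K, Q.1 (algebraMap K K' z) = P.1 z ^ e) →
      ∀ z : K, Q.1 (algebraMap K K' z) = P.1 z ^ Module.finrank (separableClosure k (IsLocalRing.ResidueField P.O)) (IsLocalRing.ResidueField P.O) := by
  classical
  have : FiniteDimensional K K' := ConstBase.finiteDimensional h
  letI : Algebra P.O K' := ((algebraMap K K').comp P.O.subtype).toAlgebra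
  haveI : IsScalarTower P.O K K' := IsScalarTower.of_algebraMap_eq fun _ => rfl
  let f := algebraMap K K'
  let ι := IsScalarTower.toAlgHom k k' K'
  let b := Module.finBasis k k'
  let B := ConstBase.constBasis h b
  let F := IsLocalRing.ResidueField P.O
  let res := IsLocalRing.residue P.O
  haveI : FiniteDimensional k F := Module.finite_of_finrank_pos (Existence.deg_pos hK P)
  let pl := H81.ConstPlace.equiv k k' K'
  set T := {Q : FunFld.Place k' K' | ∃ e : ℕ, ∀ z : K, Q.1 (algebraMap K K' z) = P.1 z ^ e} with hT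
  have hTS : ∀ Q, Q ∈ T ↔ FunFld.IsOver (pl Q) P := fun Q => Iff.rfl
  obtain ⟨hfin, hsum⟩ := Gen.Ramification.sum_ramIdx_mul_deg (K' := K') (Ext.isFF hK) P
  have hTfin : T.Finite := (hfin.preimage (f := pl) pl.injective.injOn).subset fun Q hQ => (hTS Q).1 hQ
  have hlt_of : ∀ {Q : FunFld.Place k' K'}, Q ∈ T → ∀ {a : K}, P.1 a < 1 → Q.1 (f a) < 1 := by
    rintro Q ⟨e, he⟩ a ha
    rw [he]
    exact pow_lt_one₀ zero_le ha (Ext.pos_of_isOverWith (Q := pl Q) he).ne'
  have hle_of : ∀ {Q : FunFld.Place k' K'}, Q ∈ T → ∀ (a : P.O), Q.1 (f a) ≤ 1 := by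
    rintro Q ⟨e, he⟩ a
    rw [he]
    exact pow_le_one₀ zero_le a.2
  -- residues are constants
  have hres : ∀ {Q : FunFld.Place k' K'}, Q ∈ T → ∀ (y : K'), Q.1 y ≤ 1 →
      ∃ c : k', Q.1 (y - algebraMap k' K' c) < 1 := by
    intro Q hQ y hy
    have hd : Module.finrank k' (IsLocalRing.ResidueField Q.O) = 1 := hsplit Q hQ
    obtain ⟨c, hc⟩ := (finrank_eq_one_iff_of_nonzero' (1 : IsLocalRing.ResidueField Q.O) one_ne_zero).1 hd
      (IsLocalRing.residue Q.O ⟨y, hy⟩)
    have hc : algebraMap k' (IsLocalRing.ResidueField Q.O) c = IsLocalRing.residue Q.O ⟨y, hy⟩ :=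
      (Algebra.algebraMap_eq_smul_one c).trans hc
    refine ⟨c, ?_⟩
    have := (Place.res_eq_zero_iff Q (⟨y, hy⟩ - algebraMap k' Q.O c)).1 (by
      rw [map_sub, sub_eq_zero]; exact hc.symm)
    simpa using this
  have hconst : ∀ (Q : FunFld.Place k' K') {c : k'}, Q.1 (algebraMap k' K' c) < 1 → c = 0 := by
    intro Q c hc
    by_contra h0
    rw [Place.val_algebraMap Q h0] at hc
    exact lt_irrefl _ hc
  have hcu : ∀ (Q : FunFld.Place k' K') {y : K'} {c c' : k'}, Q.1 (y - algebraMap k' K' c) < 1 →
      Q.1 (y - algebraMap k' K' c') < 1 → c = c' := by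
    intro Q y c c' h1 h2
    refine sub_eq_zero.1 (hconst Q ?_)
    rw [map_sub, show algebraMap k' K' c - algebraMap k' K' c' =
      (y - algebraMap k' K' c') - (y - algebraMap k' K' c) by ring]
    exact Q.1.map_sub_lt h2 h1
  -- integral elements
  have hB : ∀ y : K', (∀ Q ∈ T, Q.1 y ≤ 1) → ∀ j, P.1 (B.repr y j) ≤ 1 := by
    intro y hy
    have h1 : IsIntegral (P.O.toSubring.map f) y := (ConstBase.isIntegral_map_O_iff hK P y).2 fun R hR => by
      have := hy (pl.symm R) (by rw [hTS, Equiv.apply_symm_apply]; exact hR)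
      exact this
    exact (ConstBase.mem_adjoin_map_iff h b P.O.toSubring P.2.1 y).1 ((hns k' K' h).le h1)
  have hsumB : ∀ y : K', y = ∑ j, algebraMap k' K' (b j) * f (B.repr y j) := fun y => by
    conv_lhs => rw [← B.sum_repr y]
    exact Finset.sum_congr rfl fun j _ => by
      rw [Algebra.smul_def, mul_comm, ConstBase.constBasis_apply]
  -- the residue embedding of a place
  have hψ : ∀ Q : T, ∃ ψ : F →ₐ[k] k', ∀ a : P.O, Q.1.1 (f a - algebraMap k' K' (ψ (res a))) < 1 := by
    rintro ⟨Q, hQ⟩
    choose c hc using fun a : P.O => hres hQ _ (hle_of hQ a)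
    have hadd : ∀ a a', c (a + a') = c a + c a' := fun a a' => hcu Q (hc (a + a')) (by
      rw [AddMemClass.coe_add, map_add, map_add, show f (a : K) + f (a' : K) - (algebraMap k' K' (c a) + algebraMap k' K' (c a')) =
        (f (a : K) - algebraMap k' K' (c a)) + (f (a' : K) - algebraMap k' K' (c a')) by ring]
      exact Q.1.map_add_lt (hc a) (hc a'))
    have hmul : ∀ a a', c (a * a') = c a * c a' := fun a a' => hcu Q (hc (a * a')) (by
      rw [MulMemClass.coe_mul, map_mul, map_mul, show f (a : K) * f (a' : K) - algebraMap k' K' (c a) * algebraMap k' K' (c a') =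
        (f (a : K) - algebraMap k' K' (c a)) * f (a' : K) +
          algebraMap k' K' (c a) * (f (a' : K) - algebraMap k' K' (c a')) by ring]
      refine Q.1.map_add_lt ?_ ?_
      · rw [map_mul]
        exact mul_lt_one_of_nonneg_of_lt_one_left zero_le (hc a) (hle_of hQ a')
      · rw [map_mul]
        exact mul_lt_one_of_nonneg_of_lt_one_right (Place.val_algebraMap_le Q _) zero_le (hc a'))
    have hone : c 1 = 1 := hcu Q (hc 1) (by simp)
    have hzero : c 0 = 0 := hcu Q (hc 0) (by simp)
    let g : P.O →+* k' := ⟨⟨⟨c, hone⟩, hmul⟩, hzero, hadd⟩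
    have hg0 : ∀ a ∈ IsLocalRing.maximalIdeal P.O, g a = 0 := fun a ha => hcu Q (hc a) (by
      rw [map_zero, sub_zero]
      exact hlt_of hQ ((Place.mem_maximalIdeal_iff P a).1 ha))
    refine ⟨⟨Ideal.Quotient.lift _ g hg0, fun r => ?_⟩, fun a => ?_⟩
    · show g (algebraMap k P.O r) = algebraMap k k' r
      refine hcu Q (hc _) ?_
      rw [Place.coe_algebraMap_O, ← IsScalarTower.algebraMap_apply k k' K', ← IsScalarTower.algebraMap_apply k K K',
        sub_self, map_zero]
      exact zero_lt_one
    · exact hc a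
  choose ψ hψ using hψ
  let Ω := AlgebraicClosure k'
  haveI : Algebra.IsAlgebraic k Ω := Algebra.IsAlgebraic.trans k k' Ω
  let Ψ : T → (F →ₐ[k] Ω) := fun Q => (IsScalarTower.toAlgHom k k' Ω).comp (ψ Q)
  -- approximation at the places over `P`
  have happrox : ∀ (u : FunFld.Place k' K' → K') (n : ℕ), ∃ y : K', ∀ Q ∈ T,
      Q.1 (y - u Q) ≤ WithZero.exp (-(n : ℤ)) := by
    intro u n
    obtain ⟨y, hy⟩ := Approx.approximation hTfin.toFinset u (fun _ => -(n : ℤ))
    exact ⟨y, fun Q hQ => hy Q ((Set.Finite.mem_toFinset _).2 hQ)⟩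
  have hexp1 : WithZero.exp (-((1 : ℕ) : ℤ)) < 1 := by
    rw [← WithZero.exp_zero, WithZero.exp_lt_exp]; omega
  have hΨinj : Function.Injective Ψ := by
    rintro ⟨Q, hQ⟩ ⟨R, hR⟩ heq
    have hψeq : ψ ⟨Q, hQ⟩ = ψ ⟨R, hR⟩ := AlgHom.ext fun x =>
      (algebraMap k' Ω).injective (DFunLike.congr_fun heq x)
    by_contra hne
    have hne' : R ≠ Q := fun e => hne (Subtype.ext e.symm)
    obtain ⟨y, hy⟩ := happrox (fun Q' => if Q' = Q then 1 else 0) 1
    have hyQ : Q.1 (y - algebraMap k' K' 1) < 1 := by
      have := hy Q hQ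
      rw [if_pos rfl] at this
      rw [map_one]
      exact this.trans_lt hexp1
    have hyR : R.1 (y - algebraMap k' K' 0) < 1 := by
      have := hy R hR
      rw [if_neg hne'] at this
      rw [map_zero]
      exact this.trans_lt hexp1
    have hy1 : ∀ Q' ∈ T, Q'.1 y ≤ 1 := fun Q' hQ' => by
      have h1 := (hy Q' hQ').trans hexp1.le
      rw [← sub_add_cancel y (if Q' = Q then (1 : K') else 0)]
      refine Q'.1.map_add_le h1 ?_
      split <;> simp
    let a : Fin (Module.finrank k k') → P.O := fun j => ⟨_, hB y hy1 j⟩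
    have key : ∀ Q' : T, Q'.1.1 (y - algebraMap k' K' (∑ j, b j * ψ Q' (res (a j)))) < 1 := by
      intro Q'
      conv in y - _ => rw [hsumB y]
      rw [map_sum, ← Finset.sum_sub_distrib]
      refine Valuation.map_sum_lt _ one_ne_zero fun j _ => ?_
      rw [map_mul, ← mul_sub, map_mul]
      exact mul_lt_one_of_nonneg_of_lt_one_right (Place.val_algebraMap_le _ _) zero_le (hψ Q' (a j))
    have h1 := hcu Q hyQ (key ⟨Q, hQ⟩)
    have h0 := hcu R hyR (key ⟨R, hR⟩)
    rw [← hψeq, ← h1] at h0
    exact zero_ne_one h0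
  have hΨsurj : Function.Surjective Ψ := by
    intro σ
    let Θ : k' ⊗[k] P.O →ₐ[k] Ω := Algebra.TensorProduct.productMap (IsScalarTower.toAlgHom k k' Ω)
      (σ.comp { res with commutes' := fun _ => rfl })
    let Φ := H81.ConstExt.Φ ι (P := P)
    have hΦ : Function.Injective Φ := H81.ConstExt.Φ_injective ι h.1
    have hΦle : ∀ (t : k' ⊗[k] P.O), ∀ Q ∈ T, Q.1 (Φ t) ≤ 1 := by
      intro t Q hQ
      obtain ⟨a, rfl⟩ := H81.ConstExt.exists_repr b t
      rw [map_sum]
      refine Valuation.map_sum_le _ fun i _ => ?_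
      rw [H81.ConstExt.Φ_tmul, map_mul]
      exact mul_le_one' (Place.val_algebraMap_le Q _) (hle_of hQ (a i))
    have hΦsurj : ∀ y : K', (∀ Q ∈ T, Q.1 y ≤ 1) → ∃ t, Φ t = y := fun y hy =>
      ⟨∑ j, b j ⊗ₜ[k] (⟨_, hB y hy j⟩ : P.O), by
        simp only [Φ, map_sum, H81.ConstExt.Φ_tmul]
        exact (hsumB y).symm⟩
    obtain ⟨Q, hQ, hker⟩ : ∃ Q ∈ T, ∀ t, Θ t = 0 → Q.1 (Φ t) < 1 := by
      by_contra hc
      push Not at hc
      choose t ht htQ using hc
      have hu : ∀ Q ∈ T, ∃ u : k' ⊗[k] P.O, Q.1 (Φ u - 1) < 1 ∧ ∀ R ∈ T, R ≠ Q → R.1 (Φ u) < 1 := by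
        intro Q hQ
        obtain ⟨y, hy⟩ := happrox (fun Q' => if Q' = Q then 1 else 0) 1
        obtain ⟨u, hu⟩ := hΦsurj y fun Q' hQ' => by
          rw [← sub_add_cancel y (if Q' = Q then (1 : K') else 0)]
          refine Q'.1.map_add_le ((hy Q' hQ').trans hexp1.le) ?_
          split <;> simp
        refine ⟨u, ?_, fun R hR hne => ?_⟩
        · have := hy Q hQ
          rw [if_pos rfl] at this
          rw [hu]; exact this.trans_lt hexp1
        · have := hy R hR
          rw [if_neg hne, sub_zero] at this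
          rw [hu]; exact this.trans_lt hexp1
      choose u hu1 hu0 using hu
      let w := ∑ Q ∈ hTfin.toFinset.attach,
        u Q.1 ((Set.Finite.mem_toFinset _).1 Q.2) * t Q.1 ((Set.Finite.mem_toFinset _).1 Q.2)
      have hw : Θ w = 0 := by simp [w, map_sum, ht]
      have hwQ : ∀ Q ∈ T, Q.1 (Φ w) = 1 := by
        intro Q hQ
        let i : hTfin.toFinset := ⟨Q, (Set.Finite.mem_toFinset _).2 hQ⟩
        simp only [w, map_sum]
        rw [Valuation.map_sum_eq_of_lt _ (Finset.mem_attach _ i)]
        · have h1 : Q.1 (Φ (u Q hQ)) = 1 := by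
            have := Q.1.map_add_eq_of_lt_left (x := (1 : K')) (y := Φ (u Q hQ) - 1) (by rw [map_one]; exact hu1 Q hQ)
            simpa using this
          rw [map_mul, map_mul, h1, one_mul]
          exact le_antisymm (hΦle _ Q hQ) (htQ Q hQ)
        · intro R hR
          have hne : R.1 ≠ Q := fun e => (Finset.mem_sdiff.1 hR).2 (Finset.mem_singleton.2 (Subtype.ext e))
          have h1 : Q.1 (Φ (u Q hQ)) = 1 := by
            have := Q.1.map_add_eq_of_lt_left (x := (1 : K')) (y := Φ (u Q hQ) - 1) (by rw [map_one]; exact hu1 Q hQ)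
            simpa using this
          rw [map_mul, map_mul, map_mul, map_mul]
          calc Q.1 (Φ (u R.1 _)) * Q.1 (Φ (t R.1 _)) ≤ Q.1 (Φ (u R.1 _)) :=
                mul_le_of_le_one_right zero_le (hΦle _ Q hQ)
            _ < 1 := hu0 R.1 _ Q hQ (Ne.symm hne)
            _ = Q.1 (Φ (u Q hQ)) * Q.1 (Φ (t Q hQ)) := by
                rw [h1, one_mul]; exact le_antisymm (htQ Q hQ) (hΦle _ Q hQ)
      obtain ⟨v, hv⟩ := hΦsurj (Φ w)⁻¹ fun Q hQ => by rw [map_inv₀, hwQ Q hQ, inv_one]
      have hnz : Φ w ≠ 0 := by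
        intro h0
        obtain ⟨R, hR⟩ := Finset.nonempty_of_sum_ne_zero (hsum.trans_ne
          (Nat.mul_pos Module.finrank_pos (Existence.deg_pos hK P)).ne')
        have hRT : pl.symm R ∈ T := by
          rw [hTS, Equiv.apply_symm_apply]; exact (Set.Finite.mem_toFinset hfin).1 hR
        have := hwQ _ hRT
        rw [h0, map_zero] at this
        exact zero_ne_one this
      have hwv : w * v = 1 := hΦ (by rw [map_mul, hv, mul_inv_cancel₀ hnz, map_one])
      have := congrArg Θ hwv
      rw [map_mul, hw, zero_mul, map_one] at this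
      exact zero_ne_one this
    refine ⟨⟨Q, hQ⟩, AlgHom.ext fun x => ?_⟩
    obtain ⟨a, rfl⟩ := IsLocalRing.residue_surjective x
    let c := ψ ⟨Q, hQ⟩ (res a)
    let t : k' ⊗[k] P.O := 1 ⊗ₜ a - c ⊗ₜ 1
    have hΘt : Θ t = σ (res a) - algebraMap k' Ω c := by simp [Θ, t]
    have hΦt : Φ t = f a - algebraMap k' K' c := by
      simp [Φ, t, H81.ConstExt.Φ_tmul, ι, f]
    by_contra hne
    have hne' : Θ t ≠ 0 := by
      rw [hΘt, sub_ne_zero]
      exact fun e => hne e.symm
    have hinv : (Θ t)⁻¹ ∈ Algebra.adjoin k ({Θ t} : Set Ω) :=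
      (Algebra.adjoin k ({Θ t} : Set Ω)).inv_mem_of_algebraic (x := ⟨Θ t, Algebra.subset_adjoin rfl⟩)
        (Algebra.IsAlgebraic.isAlgebraic _)
    rw [Algebra.adjoin_singleton_eq_range_aeval] at hinv
    obtain ⟨p, hp⟩ := hinv
    have h1 := hker (t * Polynomial.aeval t p - 1) (by
      rw [map_sub, map_mul, ← Polynomial.aeval_algHom_apply, map_one]
      exact sub_eq_zero.2 (by rw [show Polynomial.aeval (Θ t) p = (Θ t)⁻¹ from hp, mul_inv_cancel₀ hne']))
    have h2 : Q.1 (Φ (t * Polynomial.aeval t p)) < 1 := by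
      rw [map_mul, map_mul, hΦt]
      exact mul_lt_one_of_nonneg_of_lt_one_left zero_le (hψ ⟨Q, hQ⟩ a) (hΦle _ Q hQ)
    rw [map_sub, map_one, Valuation.map_sub_swap, Q.1.map_one_sub_of_lt h2] at h1
    exact lt_irrefl _ h1
  have hcard : T.ncard = Field.finSepDegree k F := by
    rw [Field.finSepDegree_eq_of_isAlgClosed k F Ω, ← Nat.card_coe_set_eq]
    exact Nat.card_congr (Equiv.ofBijective Ψ ⟨hΨinj, hΨsurj⟩)
  -- ramification is at most the inseparable degree
  let Fs := separableClosure k F
  let w := Module.finBasis Fs F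
  choose l hl using fun i => IsLocalRing.residue_surjective (w i)
  have hram : ∀ Q ∈ T, FunFld.ramIdx (pl Q) P ≤ Module.finrank Fs F := by
    intro Q hQ
    set e := FunFld.ramIdx (pl Q) P
    have he : ∀ z : K, Q.1 (f z) = P.1 z ^ e := Ext.isOverWith_ramIdx (Q := pl Q) hQ
    let E := WithZero.exp (-(e : ℤ))
    have hsmall : ∀ a : K, P.1 a < 1 → Q.1 (f a) ≤ E := fun a ha => by
      rw [he]; exact Approx.val_le_of_lt_one ha e
    -- separable residues are constants up to `t ^ e`
    have hsep : ∀ a : P.O, res a ∈ Fs → Q.1 (f a - algebraMap k' K' (ψ ⟨Q, hQ⟩ (res a))) ≤ E := by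
      intro a ha
      set c := ψ ⟨Q, hQ⟩ (res a)
      let p := minpoly k (res a)
      have hps : p.Separable := mem_separableClosure_iff.1 ha
      have hroot : (p.map (algebraMap k k')).IsRoot c := by
        rw [Polynomial.IsRoot, Polynomial.eval_map_algebraMap, Polynomial.aeval_algHom_apply, minpoly.aeval, map_zero]
      obtain ⟨r, hr⟩ := Polynomial.dvd_iff_isRoot.2 hroot
      have hrc : r.eval c ≠ 0 := by
        intro h0
        have hps' : (p.map (algebraMap k k')).Separable := hps.map
        have hd := hps'.eval₂_derivative_ne_zero (RingHom.id k') (x := c) (by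
          rw [Polynomial.eval₂_id]; exact hroot)
        apply hd
        rw [hr, Polynomial.eval₂_id, Polynomial.derivative_mul]
        simp [h0]
      have hpa : Q.1 (f (Polynomial.aeval a p : P.O)) ≤ E := hsmall _ ((Place.res_eq_zero_iff P _).1 (by
        let r' : P.O →ₐ[k] F := { res with commutes' := fun _ => rfl }
        show r' (Polynomial.aeval a p) = 0
        rw [← Polynomial.aeval_algHom_apply]
        exact minpoly.aeval k (res a)))
      let g : P.O →ₐ[k] K' := (IsScalarTower.toAlgHom k K K').comp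
        { P.O.subtype with commutes' := fun c => Place.coe_algebraMap_O P c }
      have e1 : f (Polynomial.aeval a p : P.O) =
          (f a - algebraMap k' K' c) * Polynomial.aeval (f (a : K)) r := by
        rw [show f (Polynomial.aeval a p : P.O) = g (Polynomial.aeval a p) from rfl, ← Polynomial.aeval_algHom_apply,
          show g a = f (a : K) from rfl, ← Polynomial.aeval_map_algebraMap k' (f (a : K)) p, hr, map_mul]
        simp
      have hr1 : Q.1 (Polynomial.aeval (f (a : K)) r) = 1 := by
        obtain ⟨s, hs⟩ := Polynomial.X_sub_C_dvd_sub_C_eval (a := c) (p := r)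
        have e2 : Polynomial.aeval (f (a : K)) r = algebraMap k' K' (r.eval c) +
            (f a - algebraMap k' K' c) * Polynomial.aeval (f (a : K)) s := by
          have := congrArg (Polynomial.aeval (f (a : K))) hs
          simp only [map_sub, map_mul, Polynomial.aeval_X, Polynomial.aeval_C] at this
          rw [← this]; ring
        rw [e2, Q.1.map_add_eq_of_lt_left, Place.val_algebraMap Q hrc]
        rw [Place.val_algebraMap Q hrc, map_mul]
        refine mul_lt_one_of_nonneg_of_lt_one_left zero_le (hψ ⟨Q, hQ⟩ a) ?_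
        rw [Polynomial.aeval_eq_sum_range]
        refine Valuation.map_sum_le _ fun i _ => ?_
        rw [Algebra.smul_def, map_mul, map_pow]
        exact mul_le_one' (Place.val_algebraMap_le Q _) (pow_le_one₀ zero_le (hle_of hQ a))
      rwa [e1, map_mul, hr1, mul_one] at hpa
    have hspan : ∀ a : P.O, ∃ c : Fin (Module.finrank Fs F) → k',
        Q.1 (f a - ∑ i, algebraMap k' K' (c i) * f (l i)) ≤ E := by
      intro a
      choose s hs using fun i => IsLocalRing.residue_surjective ((w.repr (res a) i : Fs) : F)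
      refine ⟨fun i => ψ ⟨Q, hQ⟩ (res (s i)), ?_⟩
      rw [show f a - ∑ i, algebraMap k' K' (ψ ⟨Q, hQ⟩ (res (s i))) * f (l i) =
        f ((a : K) - ∑ i, (s i : K) * (l i : K)) +
          ∑ i, (f (s i) - algebraMap k' K' (ψ ⟨Q, hQ⟩ (res (s i)))) * f (l i) by
        simp only [map_sub, map_sum, map_mul, sub_mul, Finset.sum_sub_distrib]; ring]
      refine Q.1.map_add_le (hsmall _ ?_) (Valuation.map_sum_le _ fun i _ => ?_)
      · have := (Place.res_eq_zero_iff P (a - ∑ i, s i * l i)).1 (by
          rw [map_sub, map_sum, sub_eq_zero]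
          refine (w.sum_repr _).symm.trans (Finset.sum_congr rfl fun i _ => ?_)
          rw [map_mul, hl, hs]
          rfl)
        simpa using this
      · rw [map_mul]
        refine (mul_le_of_le_one_right zero_le (hle_of hQ (l i))).trans (hsep (s i) ?_)
        show res (s i) ∈ Fs
        rw [show res (s i) = _ from hs i]
        exact SetLike.coe_mem _
    let W : Submodule k' K' := Submodule.span k' (Set.range fun i => f (l i : K))
    have hW : ∀ n : Fin e, ∃ v ∈ W, Q.1 v = WithZero.exp (-(n : ℤ)) := by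
      intro n
      obtain ⟨t, ht⟩ := Place.exists_val_eq_exp Q (-(n : ℤ))
      obtain ⟨y, hy⟩ := happrox (fun Q' => if Q' = Q then t else 0) e
      have hy1 : ∀ Q' ∈ T, Q'.1 y ≤ 1 := fun Q' hQ' => by
        rw [← sub_add_cancel y (if Q' = Q then t else 0)]
        refine Q'.1.map_add_le ((hy Q' hQ').trans ?_) ?_
        · rw [← WithZero.exp_zero, WithZero.exp_le_exp]; omega
        split
        · next hQ'' => rw [hQ'', ht, ← WithZero.exp_zero, WithZero.exp_le_exp]; omega
        · simp
      choose c hc using fun j => hspan ⟨_, hB y hy1 j⟩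
      refine ⟨∑ j, algebraMap k' K' (b j) * ∑ i, algebraMap k' K' (c j i) * f (l i),
        Submodule.sum_mem _ fun j _ => ?_, ?_⟩
      · rw [← Algebra.smul_def]
        refine W.smul_mem _ (Submodule.sum_mem _ fun i _ => ?_)
        rw [← Algebra.smul_def]
        exact W.smul_mem _ (Submodule.subset_span ⟨i, rfl⟩)
      · set v := ∑ j, algebraMap k' K' (b j) * ∑ i, algebraMap k' K' (c j i) * f (l i)
        have h1 : Q.1 (y - v) ≤ E := by
          rw [show y - v = ∑ j, algebraMap k' K' (b j) *
              (f (B.repr y j) - ∑ i, algebraMap k' K' (c j i) * f (l i)) by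
            simp only [mul_sub, Finset.sum_sub_distrib, v, ← hsumB]]
          refine Valuation.map_sum_le _ fun j _ => ?_
          rw [map_mul]
          exact (mul_le_of_le_one_left zero_le (Place.val_algebraMap_le Q _)).trans (hc j)
        have h2 := hy Q hQ
        rw [if_pos rfl] at h2
        have h3 : Q.1 (v - t) < Q.1 t := by
          rw [show v - t = (y - t) - (y - v) by ring]
          refine (Q.1.map_sub_le h2 h1).trans_lt ?_
          rw [ht, WithZero.exp_lt_exp]
          have := n.2
          omega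
        rw [← ht, ← Q.1.map_add_eq_of_lt_left h3]
        congr 1
        ring
    choose v hv hval using hW
    have hli : LinearIndependent k' v := by
      rw [Fintype.linearIndependent_iff]
      intro g hg i
      by_contra hi
      have hne : (Finset.univ.filter fun j => g j ≠ 0).Nonempty := ⟨i, by simp [hi]⟩
      obtain ⟨j, hj, hmin⟩ := Finset.exists_min_image _ (fun j : Fin e => (j : ℕ)) hne
      rw [Finset.mem_filter] at hj
      have hgj : Q.1 (g j • v j) = WithZero.exp (-(j : ℤ)) := by
        rw [Algebra.smul_def, map_mul, Place.val_algebraMap Q hj.2, one_mul, hval]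
      have h1 := Valuation.map_sum_eq_of_lt Q.1 (f := fun j => g j • v j) (Finset.mem_univ j) (fun j' hj' => by
        rw [Finset.mem_sdiff, Finset.mem_singleton] at hj'
        rw [hgj]
        rcases eq_or_ne (g j') 0 with h0 | h0
        · rw [h0, zero_smul, map_zero]; exact WithZero.exp_pos
        rw [Algebra.smul_def, map_mul, Place.val_algebraMap Q h0, one_mul, hval, WithZero.exp_lt_exp]
        have h2 := hmin j' (Finset.mem_filter.2 ⟨Finset.mem_univ _, h0⟩)
        have h3 : (j : ℕ) ≠ (j' : ℕ) := fun e => hj'.2 (Fin.ext e.symm)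
        omega)
      rw [hg, map_zero, hgj] at h1
      exact WithZero.exp_ne_zero h1.symm
    haveI : FiniteDimensional k' W := FiniteDimensional.span_of_finite k' (Set.finite_range _)
    have h1 : e ≤ Module.finrank k' W := by
      have h2 : LinearIndependent k' (fun n => (⟨v n, hv n⟩ : W)) := LinearIndependent.of_comp W.subtype hli
      simpa using h2.fintype_card_le_finrank
    refine h1.trans ((finrank_range_le_card (R := k') (fun i => f (l i : K))).trans ?_)
    simp
  -- the degree formula
  have hdeg : ∀ Q ∈ T, (pl Q).deg = Module.finrank k k' := fun Q hQ => by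
    rw [H81.ConstPlace.deg_equiv, hsplit Q hQ, mul_one]
  have hKK' : Module.finrank K K' = Module.finrank k k' := by
    rw [Module.finrank_eq_card_basis B, Fintype.card_fin]
  have hT' : hfin.toFinset = hTfin.toFinset.map pl.toEmbedding := by
    ext R
    simp [hTS, Finset.mem_map_equiv]
  rw [hT', Finset.sum_map, hKK'] at hsum
  have hsum2 : (∑ Q ∈ hTfin.toFinset, FunFld.ramIdx (pl Q) P) = Module.finrank k F := by
    refine Nat.eq_of_mul_eq_mul_left (Module.finrank_pos (R := k) (M := k')) (Eq.trans ?_ hsum)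
    rw [Finset.mul_sum]
    refine Finset.sum_congr rfl fun Q hQ => ?_
    rw [Equiv.coe_toEmbedding, hdeg Q ((Set.Finite.mem_toFinset _).1 hQ), mul_comm]
  have hFs : Field.finSepDegree k F = Module.finrank k Fs := by
    rw [Field.finSepDegree_eq]; rfl
  refine ⟨hTfin, hcard, fun Q hQ z => ?_⟩
  have hall : FunFld.ramIdx (pl Q) P = Module.finrank Fs F := by
    have h1 : ∑ Q ∈ hTfin.toFinset, FunFld.ramIdx (pl Q) P = ∑ Q ∈ hTfin.toFinset, Module.finrank Fs F := by
      rw [hsum2, Finset.sum_const, smul_eq_mul, ← Set.ncard_eq_toFinset_card T hTfin, hcard, hFs,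
        Module.finrank_mul_finrank]
    exact (Finset.sum_eq_sum_iff_of_le fun Q hQ => hram Q ((Set.Finite.mem_toFinset _).1 hQ)).1 h1 Q
      ((Set.Finite.mem_toFinset _).2 hQ)
  exact hall ▸ Ext.isOverWith_ramIdx (Q := pl Q) hQ z

end Groth.Agent.S12592
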