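import Groth.Statements.S12593
import Groth.Agent.H81.ConstRank
import Groth.Agent.Lib.FunFld.Approx

set_option autoImplicit false
universe u v
open FunFld WithZero Groth.Agent.Lib.FunFld Groth.Agent.Lib.FunFld.Place
open scoped TensorProduct

namespace Groth.Agent.S12593

theorem exists_stage {k kbar : Type u} {K Kbar : Type v} [Field k] [Field kbar] [Field K] [Field Kbar]
    [Algebra k kbar] [Algebra.IsAlgebraic k kbar] [Algebra k K] [Algebra K Kbar] [Algebra kbar Kbar] [Algebra k Kbar]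
    [IsScalarTower k kbar Kbar] [IsScalarTower k K Kbar]
    (h : Function.Surjective (Algebra.TensorProduct.productMap
      (IsScalarTower.toAlgHom k kbar Kbar) (IsScalarTower.toAlgHom k K Kbar))) (y : Kbar) :
    ∃ L : IntermediateField k kbar, FiniteDimensional k L ∧
      y ∈ Algebra.adjoin K (Set.range fun c : L => algebraMap kbar Kbar c) := by
  obtain ⟨w, rfl⟩ := h y
  induction w using TensorProduct.induction_on with
  | zero => exact ⟨⊥, inferInstance, by rw [map_zero]; exact zero_mem _⟩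
  | tmul c a =>
    refine ⟨IntermediateField.adjoin k {c}, IntermediateField.adjoin.finiteDimensional (Algebra.IsIntegral.isIntegral c), ?_⟩
    rw [Algebra.TensorProduct.productMap_apply_tmul]
    exact mul_mem (Algebra.subset_adjoin ⟨⟨c, IntermediateField.mem_adjoin_simple_self k c⟩, rfl⟩) (Subalgebra.algebraMap_mem _ a)
  | add x z hx hz =>
    obtain ⟨L, _, hL⟩ := hx
    obtain ⟨L', _, hL'⟩ := hz
    refine ⟨L ⊔ L', inferInstance, ?_⟩
    rw [map_add]
    refine add_mem (Algebra.adjoin_mono ?_ hL) (Algebra.adjoin_mono ?_ hL')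
    · rintro _ ⟨c, rfl⟩; exact ⟨⟨c, (le_sup_left : L ≤ L ⊔ L') c.2⟩, rfl⟩
    · rintro _ ⟨c, rfl⟩; exact ⟨⟨c, (le_sup_right : L' ≤ L ⊔ L') c.2⟩, rfl⟩

/-- Every divisor of `K̄ = k̄ ⊗_k K`, for a geometric function field of one variable `K/k`, is defined
over a finite extension `k'` of `k`; stated for a single place `Q` of `K̄/k̄`: for some finite `k' ⊆
k̄`, the field `K' = k'K ⊆ K̄` contains a local parameter at `Q` and `Q` is the only place of `K̄`
above its restriction to `K'` (so `Q` is the conorm of the point `Q ∩ K'`). -/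
theorem result (k kbar : Type u) (K Kbar : Type v) [Field k] [Field kbar] [Field K] [Field Kbar]
    [Algebra k kbar] [IsAlgClosure k kbar] [Algebra k K] [Algebra K Kbar] [Algebra kbar Kbar] [Algebra k Kbar]
    [IsScalarTower k kbar Kbar] [IsScalarTower k K Kbar]
    (h : Function.Bijective (Algebra.TensorProduct.productMap
      (IsScalarTower.toAlgHom k kbar Kbar) (IsScalarTower.toAlgHom k K Kbar)))
    (hK : FunFld.IsFunctionField k K) (hg : FunFld.IsGeometric k K) (Q : FunFld.Place kbar Kbar) :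
    ∃ k' : IntermediateField k kbar, FiniteDimensional k k' ∧
      (∃ z ∈ Algebra.adjoin K (Set.range fun c : k' => algebraMap kbar Kbar c), Q.1 z = WithZero.exp (-1)) ∧
      ∀ Q' : FunFld.Place kbar Kbar,
        (∃ e : ℕ, ∀ z ∈ Algebra.adjoin K (Set.range fun c : k' => algebraMap kbar Kbar c), Q'.1 z = Q.1 z ^ e) → Q' = Q := by
  classical
  have : Algebra.IsAlgebraic k kbar := IsAlgClosure.isAlgebraic
  obtain ⟨x, hx, -⟩ := hK.1
  have := Bound.finiteDimensional_adjoin_transcendental hK hx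
  let φ := IsScalarTower.toAlgHom k K Kbar
  obtain ⟨hfin, -⟩ := H81.ConstRank.finrank_adjoin (k' := kbar) φ h hx
  have hFF : Gen.Bound.IsFF kbar Kbar := ⟨_, H81.ConstRank.transcendental_map φ hx, hfin⟩
  obtain ⟨t, ht⟩ := exists_val_eq_exp Q (-1)
  let S := insert Q (Gen.Degree.finite_zeros hFF t).toFinset
  obtain ⟨u, hu⟩ := Approx.approximation S (fun R => if R = Q then 0 else 1) (fun _ => -1)
  obtain ⟨L₁, _, h₁⟩ := exists_stage h.2 t
  obtain ⟨L₂, _, h₂⟩ := exists_stage h.2 u
  have hmono : ∀ L : IntermediateField k kbar, L ≤ L₁ ⊔ L₂ →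
      Algebra.adjoin K (Set.range fun c : L => algebraMap kbar Kbar c) ≤
        Algebra.adjoin K (Set.range fun c : (L₁ ⊔ L₂ : IntermediateField k kbar) => algebraMap kbar Kbar c) :=
    fun L hL => Algebra.adjoin_mono (by rintro _ ⟨c, rfl⟩; exact ⟨⟨c, hL c.2⟩, rfl⟩)
  refine ⟨L₁ ⊔ L₂, inferInstance, ⟨t, hmono _ le_sup_left h₁, ht⟩, ?_⟩
  rintro Q' ⟨e, he⟩
  have he0 : e ≠ 0 := by
    rintro rfl
    simpa using he 0 (zero_mem _)
  have hlt : exp (-1 : ℤ) < (1 : WithZero (Multiplicative ℤ)) := (exp_lt_exp.2 (by norm_num)).trans_eq exp_zero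
  have htQ' : Q'.1 t < 1 := by
    rw [he t (hmono _ le_sup_left h₁), ht]; exact pow_lt_one₀ zero_le hlt he0
  have hQ'S : Q' ∈ S := Finset.mem_insert_of_mem ((Gen.Degree.finite_zeros hFF t).mem_toFinset.2 (by
    rcases (val_lt_one_iff Q').1 htQ' with h0 | h0
    · exact absurd (h0 ▸ map_zero Q.1 : Q.1 t = 0) (by rw [ht]; exact exp_ne_zero)
    · exact h0))
  by_contra hne
  have h1 := hu Q (Finset.mem_insert_self _ _)
  rw [if_pos rfl, sub_zero] at h1
  have h2 := hu Q' hQ'S
  rw [if_neg hne] at h2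
  have h3 : Q'.1 u = 1 := by
    rw [Q'.1.map_eq_of_sub_lt (y := u) (x := (1 : Kbar)) (h2.trans_lt (by rw [map_one]; exact hlt)), map_one]
  rw [he u (hmono _ le_sup_right h₂)] at h3
  exact (pow_lt_one₀ zero_le (h1.trans_lt hlt) he0).ne h3

end Groth.Agent.S12593
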