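import Groth.Statements.S12594
import Groth.Agent.Lib.FunFld.ConstInsep
import Groth.Agent.Lib.FunFld.ConstTower
import Groth.Agent.S12591
import Groth.Agent.S12534
import Groth.Agent.Lib.FunFld.Gen.Ramification
import Mathlib.FieldTheory.PurelyInseparable.PerfectClosure
import Mathlib.FieldTheory.IntermediateField.Adjoin.Basic
-- import your own Groth.Agent.* helpers here

set_option autoImplicit false
set_option synthInstance.maxHeartbeats 200000
set_option maxHeartbeats 1000000
universe u v
open FunFld

namespace Groth.Agent.S12594
open Groth.Agent Groth.Agent.Lib.FunFld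
open scoped TensorProduct
-- use the module structure coming from `Place.algRes`
attribute [-instance] IsLocalRing.instModuleResidueFieldOfAlgebra


/-- For a geometric function field of one variable `K/k` there is a finite purely inseparable extension
`k'/k` such that `k' ⊗_k K` is nonsingular: every place of it is nonsingular with respect to every
finite extension `k''/k'` (the integral closure of its valuation ring in `k'' ⊗_{k'} (k' ⊗_k K)` is
generated by `k''`). -/
theorem result (k : Type u) (K : Type v) [Field k] [Field K] [Algebra k K]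
    (hK : FunFld.IsFunctionField k K) (hg : FunFld.IsGeometric k K) :
    ∃ (k' : Type u) (_ : Field k') (_ : Algebra k k'), FiniteDimensional k k' ∧ IsPurelyInseparable k k' ∧
      ∀ (K' : Type v) [Field K'] [Algebra K K'] [Algebra k' K'] [Algebra k K']
        [IsScalarTower k k' K'] [IsScalarTower k K K'],
        Function.Bijective (Algebra.TensorProduct.productMap
          (IsScalarTower.toAlgHom k k' K') (IsScalarTower.toAlgHom k K K')) →
        ∀ (Q : FunFld.Place k' K') (k'' : Type u) [Field k''] [Algebra k' k''] [FiniteDimensional k' k'']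
          (K'' : Type v) [Field K''] [Algebra K' K''] [Algebra k'' K''] [Algebra k' K'']
          [IsScalarTower k' k'' K''] [IsScalarTower k' K' K''],
          Function.Bijective (Algebra.TensorProduct.productMap
            (IsScalarTower.toAlgHom k' k'' K'') (IsScalarTower.toAlgHom k' K' K'')) →
          integralClosure (Q.O.toSubring.map (algebraMap K' K'')) K'' =
            Algebra.adjoin (Q.O.toSubring.map (algebraMap K' K'')) (Set.range (algebraMap k'' K'')) := by
  classical
  let A := perfectClosure k (AlgebraicClosure k)
  have hΩ : IsField (A ⊗[k] K) := S12591.isField_tensor (A := A) hg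
  obtain ⟨S, hS⟩ := ConstSingular.exists_bad.{u, v, v} hK hg
  choose lev hlevfin hlev using fun P => ConstInsep.exists_level (A := A) hK hg hΩ P
  let L : IntermediateField k A := ⨆ P : (S : Set (FunFld.Place k K)), lev P
  haveI : ∀ P, FiniteDimensional k (lev P) := hlevfin
  haveI hLfin : FiniteDimensional k L := IntermediateField.finiteDimensional_iSup_of_finite
  refine ⟨L, inferInstance, inferInstance, hLfin, IsPurelyInseparable.tower_bot k L A, ?_⟩
  intro K' _ _ _ _ _ _ h1 Q k'' _ _ _ K'' _ _ _ _ _ _ h2
  haveI : FiniteDimensional K K' := ConstBase.finiteDimensional h1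
  let plQ := H81.ConstPlace.equiv k L K' Q
  obtain ⟨P, e, he0, he⟩ := Ext.exists_place_below hK plQ
  letI : Algebra k k'' := ((algebraMap L k'').comp (algebraMap k L)).toAlgebra
  haveI : IsScalarTower k L k'' := IsScalarTower.of_algebraMap_eq fun _ => rfl
  haveI : FiniteDimensional k k'' := FiniteDimensional.trans k L k''
  letI : Algebra K K'' := ((algebraMap K' K'').comp (algebraMap K K')).toAlgebra
  haveI : IsScalarTower K K' K'' := IsScalarTower.of_algebraMap_eq fun _ => rfl
  letI : Algebra k K'' := ((algebraMap K' K'').comp (algebraMap k K')).toAlgebra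
  haveI : IsScalarTower k K' K'' := IsScalarTower.of_algebraMap_eq fun _ => rfl
  haveI : IsScalarTower k K K'' := IsScalarTower.of_algebraMap_eq fun c => by
    exact congrArg (algebraMap K' K'') (IsScalarTower.algebraMap_apply k K K' c)
  haveI : IsScalarTower k k'' K'' := IsScalarTower.of_algebraMap_eq fun c => by
    show algebraMap K' K'' (algebraMap k K' c) = algebraMap k'' K'' (algebraMap L k'' (algebraMap k L c))
    rw [← IsScalarTower.algebraMap_apply L k'' K'', IsScalarTower.algebraMap_apply L K' K'']
    exact congrArg (algebraMap K' K'') (IsScalarTower.algebraMap_apply k L K' c)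
  by_cases hPS : P ∈ S
  · -- separable residue field
    haveI : Algebra.IsSeparable L (IsLocalRing.ResidueField Q.O) :=
      ⟨hlev P L hLfin (le_iSup (fun P : (S : Set (FunFld.Place k K)) => lev P) ⟨P, hPS⟩) K' h1 Q ⟨e, he⟩⟩
    obtain ⟨x, hx, hxfin⟩ := Ext.isFF hK
    obtain ⟨hfd, -⟩ := H81.ConstRank.finrank_adjoin (IsScalarTower.toAlgHom k K K') h1 hx
    haveI : FiniteDimensional L (IsLocalRing.ResidueField Q.O) := Module.finite_of_finrank_pos
      (Gen.Existence.deg_pos ⟨_, H81.ConstRank.transcendental_map (IsScalarTower.toAlgHom k K K') hx, hfd⟩ Q)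
    haveI := Algebra.FormallyUnramified.of_isSeparable L (IsLocalRing.ResidueField Q.O)
    haveI : IsReduced (k'' ⊗[L] IsLocalRing.ResidueField Q.O) :=
      Algebra.FormallyUnramified.isReduced_of_field k'' (k'' ⊗[L] IsLocalRing.ResidueField Q.O)
    letI : Algebra Q.O K'' := ((algebraMap K' K'').comp Q.O.subtype).toAlgebra
    haveI : IsScalarTower Q.O K' K'' := IsScalarTower.of_algebraMap_eq fun _ => rfl
    have key := H81.ConstExt.integralClosure_eq (IsScalarTower.toAlgHom L k'' K'') (P := Q) h2.1 h2.2
    refine le_antisymm (fun z hz => ?_) (ConstBase.adjoin_le_integralClosure (k := L) _ fun c =>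
      ⟨algebraMap L K' c, Q.2.1 c, (IsScalarTower.algebraMap_apply L K' K'' c).symm⟩)
    have hz' : IsIntegral Q.O z := (ConstBase.isIntegral_map_iff _ _ _).1 hz
    have hz'' : z ∈ (Algebra.adjoin Q.O (Set.range (IsScalarTower.toAlgHom L k'' K''))).toSubring :=
      key ▸ hz'
    rw [Algebra.adjoin_eq_ring_closure] at hz''
    rw [← Subalgebra.mem_toSubring, Algebra.adjoin_eq_ring_closure]
    refine Subring.closure_mono (Set.union_subset_union ?_ subset_rfl) hz''
    rintro _ ⟨a, rfl⟩
    exact ⟨⟨_, a, a.2, rfl⟩, rfl⟩
  · have hns := hS P hPS k'' K'' (ConstBase.bijective_trans h1 h2)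
    exact ((S12534.result k L k'' K K' K'' h1 h2 hK hg P).1 hns).2 plQ ⟨e, he⟩

end Groth.Agent.S12594
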