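import Groth.Statements.S12595
import Groth.Agent.Lib.FunFld.Hasse.Param
-- import your own Groth.Agent.* helpers here

set_option autoImplicit false
open FunFld

namespace Groth.Agent.S12595
open Groth.Agent.Lib.FunFld.Hasse

/-- Over an algebraically closed constant field, let `φ` be a birational projective map of the function
field `K` (the ratios `φ i / φ 0` generate `K`), `τ` a `k`-endomorphism of `K` and `H` a total Hasse
derivative. Then the first `τ`-order of `φ` is positive — the column `φ` of `0`-th Hasse derivatives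
lies in the `K`-span of the leading column `τ(φ)` — exactly when `τ` is the identity. -/
theorem result
    (k K : Type*) [Field k] [IsAlgClosed k] [Field K] [Algebra k K]
    (hK : FunFld.IsFunctionField k K) {n : ℕ} (φ : Fin (n + 1) → K) (h0 : φ 0 ≠ 0)
    (hbir : IntermediateField.adjoin k (Set.range fun i => φ i / φ 0) = ⊤)
    (τ : K →ₐ[k] K) (s : K) (H : K →ₐ[k] PowerSeries K) (hH : LocRes.IsHasseFamily s H) :
    ¬ FunFld.IsJump K (FunFld.hcol τ H φ) 1 ↔ τ = AlgHom.id k K := by
  have h1 : FunFld.hcol τ H φ 1 = φ := funext fun i => Param.hasseD_zero hH (φ i)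
  rw [FunFld.IsJump, not_not, h1, show Set.Iio 1 = ({0} : Set ℕ) by ext x; simp,
    Set.image_singleton, Submodule.mem_span_singleton]
  refine ⟨fun ⟨a, ha⟩ => ?_, fun h => ⟨1, by subst h; funext i; simp [FunFld.hcol]⟩⟩
  have hmem : ∀ i, τ (φ i / φ 0) = φ i / φ 0 := fun i => by
    have hi : a * τ (φ i) = φ i := congrFun ha i
    have h00 : a * τ (φ 0) = φ 0 := congrFun ha 0
    conv_rhs => rw [← hi, ← h00]
    rw [map_div₀, mul_div_mul_left _ _ (left_ne_zero_of_mul (h00 ▸ h0))]
  refine AlgHom.ext fun z => ?_
  have hz : z ∈ IntermediateField.adjoin k (Set.range fun i => φ i / φ 0) := by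
    rw [hbir]; exact IntermediateField.mem_top
  induction hz using IntermediateField.adjoin_induction with
  | mem y hy => obtain ⟨i, rfl⟩ := hy; exact hmem i
  | algebraMap c => exact τ.commutes c
  | add y z _ _ hy hz => rw [map_add, map_add, hy, hz]
  | mul y z _ _ hy hz => rw [map_mul, map_mul, hy, hz]
  | inv y _ hy => rw [map_inv₀, map_inv₀, hy]

end Groth.Agent.S12595
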