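import Groth.Statements.S12596
import Groth.Agent.Lib.FunFld.Hasse.Param
-- import your own Groth.Agent.* helpers here

set_option autoImplicit false
open FunFld

namespace Groth.Agent.S12596
open Groth.Agent.Lib.FunFld.Hasse

/-- Over an algebraically closed constant field, replacing a projective map `φ` by `Aφ` for an
invertible matrix `A` over `k` does not change the `τ`-order sequence, and multiplies every
generalized Wronskian determinant `det [τ(φ) | D^(I₁) φ | ⋯ | D^(Iₙ) φ]` (Hasse derivatives taken
with `H`) by `det A`. -/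
theorem result
    (k K : Type*) [Field k] [IsAlgClosed k] [Field K] [Algebra k K]
    (hK : FunFld.IsFunctionField k K) {n : ℕ} (φ : Fin (n + 1) → K) (hφ : LinearIndependent k φ)
    (τ : K →ₐ[k] K) (s : K) (H : K →ₐ[k] PowerSeries K) (hH : LocRes.IsHasseFamily s H)
    (A : Matrix (Fin (n + 1)) (Fin (n + 1)) k) (hA : A.det ≠ 0)
    (φ' : Fin (n + 1) → K) (hφ' : ∀ i, φ' i = ∑ j, A i j • φ j) :
    (∀ J : Fin n → ℕ, FunFld.IsOrders K (FunFld.hcol τ H φ') J ↔ FunFld.IsOrders K (FunFld.hcol τ H φ) J) ∧
    ∀ I : Fin n → ℕ, (FunFld.wrMat τ H φ' I).det = algebraMap k K A.det * (FunFld.wrMat τ H φ I).det := by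
  have hdet : (A.map (algebraMap k K)).det = algebraMap k K A.det := (RingHom.map_det _ A).symm
  have hinj : Function.Injective (A.map (algebraMap k K)).mulVecLin :=
    Matrix.mulVec_injective_iff_isUnit.mpr ((Matrix.isUnit_iff_isUnit_det _).mpr
      (isUnit_iff_ne_zero.mpr (by rw [hdet]; exact (map_ne_zero _).mpr hA)))
  refine ⟨Jumps.isOrders_congr fun j => ?_, fun I => ?_⟩
  · simp only [FunFld.IsJump, Param.hcol_linear τ φ A H φ' hφ']
    refine not_congr ?_
    rw [← Set.image_image (A.map (algebraMap k K)).mulVecLin (FunFld.hcol τ H φ),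
      Submodule.span_image, Submodule.mem_map]
    exact ⟨fun ⟨v, hv, hvc⟩ => hinj hvc ▸ hv, fun h => ⟨_, h, rfl⟩⟩
  · rw [show FunFld.wrMat τ H φ' I = A.map (algebraMap k K) * FunFld.wrMat τ H φ I from
      Matrix.ext fun i c => by
        cases c using Fin.cases with
        | zero =>
          have := congrFun (Param.hcol_linear τ φ A H φ' hφ' 0) i
          simpa [FunFld.wrMat, FunFld.hcol, Matrix.mul_apply, Matrix.mulVec, dotProduct] using this
        | succ l =>
          have := congrFun (Param.hcol_linear τ φ A H φ' hφ' (I l + 1)) i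
          simpa [FunFld.wrMat, FunFld.hcol, Matrix.mul_apply, Matrix.mulVec, dotProduct] using this,
      Matrix.det_mul, hdet]

end Groth.Agent.S12596
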