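import Groth.Statements.S12597
import Groth.Agent.Lib.FunFld.Hasse.Param
-- import your own Groth.Agent.* helpers here

set_option autoImplicit false
open FunFld

namespace Groth.Agent.S12597
open Groth.Agent.Lib.FunFld.Hasse

/-- Over an algebraically closed constant field, multiplying a projective map `φ = (φ₀, …, φₙ)` by a
nonzero function `y` does not change its `τ`-order sequence `J`, and multiplies the Wronskian `det
[τ(φ) | D^(j₁) φ | ⋯ | D^(jₙ) φ]` taken at that sequence by `τ(y) yⁿ`. -/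
theorem result
    (k K : Type*) [Field k] [IsAlgClosed k] [Field K] [Algebra k K]
    (hK : FunFld.IsFunctionField k K) {n : ℕ} (φ : Fin (n + 1) → K) (hφ : LinearIndependent k φ)
    (τ : K →ₐ[k] K) (s : K) (H : K →ₐ[k] PowerSeries K) (hH : LocRes.IsHasseFamily s H) (y : K) (hy : y ≠ 0) :
    (∀ J : Fin n → ℕ, FunFld.IsOrders K (FunFld.hcol τ H (y • φ)) J ↔ FunFld.IsOrders K (FunFld.hcol τ H φ) J) ∧
    ∀ J : Fin n → ℕ, FunFld.IsOrders K (FunFld.hcol τ H φ) J →
      (FunFld.wrMat τ H (y • φ) J).det = τ y * y ^ n * (FunFld.wrMat τ H φ J).det := by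
  have h0 := Param.hcol_zero_ne_zero τ φ ⟨0, hφ.ne_zero 0⟩ H
  refine ⟨Jumps.isOrders_congr (Jumps.isJump_congr (Jumps.sp_eq_of_triangular
    (Param.mult'_ne_zero ((map_ne_zero τ).mpr hy) hy) (Param.hcol_smul τ φ hH y))),
    fun J hJ => ?_⟩
  rw [Jumps.wrMat_det, Jumps.wrMat_det,
    Jumps.det_sel_of_triangular h0 hJ (Param.hcol_smul τ φ hH y)]
  simp [Param.mult']

end Groth.Agent.S12597
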