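import Groth.Statements.S12598
import Groth.Agent.Lib.FunFld.Hasse.Param
-- import your own Groth.Agent.* helpers here

set_option autoImplicit false
open FunFld

namespace Groth.Agent.S12598
open Groth.Agent.Lib.FunFld.Hasse

/-- Over an algebraically closed constant field, the `τ`-order sequence `J = (j₁, …, jₙ)` of a
projective map `φ` does not depend on the separating variable used for the Hasse derivatives, and
the Wronskians with respect to `t` and to `s` differ by the factor `(ds/dt)^(j₁ + ⋯ + jₙ)`, where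
`ds/dt` is the first Hasse derivative of `s` with respect to `t`. -/
theorem result
    (k K : Type*) [Field k] [IsAlgClosed k] [Field K] [Algebra k K]
    (hK : FunFld.IsFunctionField k K) {n : ℕ} (φ : Fin (n + 1) → K) (hφ : LinearIndependent k φ)
    (τ : K →ₐ[k] K) (s : K) (Hs : K →ₐ[k] PowerSeries K) (hHs : LocRes.IsHasseFamily s Hs)
    (t : K) (Ht : K →ₐ[k] PowerSeries K) (hHt : LocRes.IsHasseFamily t Ht) :
    (∀ J : Fin n → ℕ, FunFld.IsOrders K (FunFld.hcol τ Ht φ) J ↔ FunFld.IsOrders K (FunFld.hcol τ Hs φ) J) ∧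
    ∀ J : Fin n → ℕ, FunFld.IsOrders K (FunFld.hcol τ Hs φ) J →
      (FunFld.wrMat τ Ht φ J).det =
        LocRes.hasseD Ht 1 s ^ (∑ l, J l) * (FunFld.wrMat τ Hs φ J).det := by
  have h0 := Param.hcol_zero_ne_zero τ φ ⟨0, hφ.ne_zero 0⟩ Hs
  refine ⟨Jumps.isOrders_congr (Jumps.isJump_congr (Jumps.sp_eq_of_triangular
    (Param.mult_ne_zero (Param.d1_ne_zero hK hHs hHt)) (Param.hcol_change τ φ hK hHs hHt))),
    fun J hJ => ?_⟩
  rw [Jumps.wrMat_det, Jumps.wrMat_det,
    Jumps.det_sel_of_triangular h0 hJ (Param.hcol_change τ φ hK hHs hHt)]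
  simp [Param.mult, Finset.prod_pow_eq_pow_sum]

end Groth.Agent.S12598
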