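import Groth.Statements.S12602
import Groth.Agent.Lib.FunFld.Hasse.Param
-- import your own Groth.Agent.* helpers here

set_option autoImplicit false
open FunFld

namespace Groth.Agent.S12602
open Groth.Agent.Lib.FunFld.Hasse

/-- Over an algebraically closed constant field, for a birational projective map `φ = (φ₀, …, φₙ)`, `n ≥
1`, with orders `j₁ < ⋯ < jₙ`, and `τ ≠ 1`, the `τ`-orders of `φ` are `(0, j₁, …, j_{m-1}, j_{m+1},
…, jₙ)` for some `m`: the jump indices of `[τ(φ) | D^(0) φ | D^(1) φ | ⋯]` after the leading column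
are `0` and the `jₗ` with `l ≠ m`. -/
theorem result
    (k K : Type*) [Field k] [IsAlgClosed k] [Field K] [Algebra k K]
    (hK : FunFld.IsFunctionField k K) {n : ℕ} (hn : 0 < n) (φ : Fin (n + 1) → K) (hφ : LinearIndependent k φ)
    (h0 : φ 0 ≠ 0) (hbir : IntermediateField.adjoin k (Set.range fun i => φ i / φ 0) = ⊤)
    (τ : K →ₐ[k] K) (hτ : τ ≠ AlgHom.id k K) (s : K) (H : K →ₐ[k] PowerSeries K) (hH : LocRes.IsHasseFamily s H)
    (J : Fin n → ℕ) (hJ : FunFld.IsOrders K (FunFld.hcol (AlgHom.id k K) H φ) J) :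
    ∃ m : Fin n, ∀ j : ℕ,
      FunFld.IsJump K (FunFld.hcol τ H φ) (j + 1) ↔ (j = 0 ∨ ∃ l, l ≠ m ∧ J l = j) := by
  set v : ℕ → (Fin (n + 1) → K) := fun j i => LocRes.hasseD H j (φ i) with hv
  let S : ℕ → Submodule K (Fin (n + 1) → K) := fun j => Submodule.span K (v '' Set.Iio j)
  set e : Fin (n + 1) → K := fun i => τ (φ i)
  have hv0 : v 0 = φ := funext fun i => Param.hasseD_zero hH (φ i)
  have hS : ∀ j, S (j + 1) = S j ⊔ Submodule.span K {v j} := Jumps.sp_succ
  have hmono : ∀ {i j}, i ≤ j → S i ≤ S j := fun h => Jumps.sp_mono h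
  have hσ : ∀ (σ : K →ₐ[k] K) j, Jumps.sp K (FunFld.hcol σ H φ) (j + 1) =
      Submodule.span K {fun i => σ (φ i)} ⊔ S j := fun σ j => by
    rw [Jumps.sp, show Set.Iio (j + 1) = {0} ∪ Nat.succ '' Set.Iio j by
      ext x; cases x <;> simp, Set.image_union, Set.image_singleton, Submodule.span_union,
      Set.image_image]
    rfl
  have hτj : ∀ j, FunFld.IsJump K (FunFld.hcol τ H φ) (j + 1) ↔
      v j ∉ Submodule.span K {e} ⊔ S j := fun j => not_congr (by
    change _ ∈ Jumps.sp K _ (j + 1) ↔ _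
    rw [hσ τ j]; rfl)
  have hidj : ∀ j, 0 < j → ((∃ l, J l = j) ↔ v j ∉ S j) := fun j hj => by
    refine (hJ.2 j).trans (not_congr ?_)
    change _ ∈ Jumps.sp K _ (j + 1) ↔ _
    rw [hσ _ j]
    have : Submodule.span K {fun i => (AlgHom.id k K) (φ i)} ≤ S j := by
      rw [Submodule.span_singleton_le_iff_mem]
      exact Submodule.subset_span ⟨0, hj, hv0⟩
    rw [sup_eq_right.mpr this]
    rfl
  have hne : e ∉ S 1 := fun h => by
    rw [show S 1 = Submodule.span K {v 0} by simp [S], hv0, Submodule.mem_span_singleton] at h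
    obtain ⟨a, ha⟩ := h
    refine hτ (AlgHom.ext fun z => ?_)
    have hmem : ∀ i, τ (φ i / φ 0) = φ i / φ 0 := fun i => by
      have hi : a * φ i = τ (φ i) := congrFun ha i
      have h00 : a * φ 0 = τ (φ 0) := congrFun ha 0
      rw [map_div₀, ← hi, ← h00, mul_div_mul_left _ _ (fun ha0 => h0 ((map_eq_zero τ).mp
        (by rw [← h00, ha0, zero_mul])))]
    have hz : z ∈ IntermediateField.adjoin k (Set.range fun i => φ i / φ 0) := by
      rw [hbir]; exact IntermediateField.mem_top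
    induction hz using IntermediateField.adjoin_induction with
    | mem y hy => obtain ⟨i, rfl⟩ := hy; exact hmem i
    | algebraMap c => exact τ.commutes c
    | add y z _ _ hy hz => rw [map_add, map_add, hy, hz]
    | mul y z _ _ hy hz => rw [map_mul, map_mul, hy, hz]
    | inv y _ hy => rw [map_inv₀, map_inv₀, hy]
  have hex : ∃ j, e ∈ S (j + 1) := by
    have htop : Submodule.span K (Set.range (FunFld.hcol (AlgHom.id k K) H φ)) = ⊤ :=
      Param.span_hasse_top _ φ hK hφ hH
    have hmem : e ∈ ⨆ j, S j := by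
      refine (le_top.trans_eq htop.symm).trans (Submodule.span_le.mpr ?_) (Submodule.mem_top (x := e))
      rintro _ ⟨j, rfl⟩
      refine Submodule.mem_iSup_of_mem (j + 1) ?_
      cases j with
      | zero => exact Submodule.subset_span ⟨0, Nat.one_pos, hv0⟩
      | succ j => exact Submodule.subset_span ⟨j, by simp, rfl⟩
    obtain ⟨j, hj⟩ := (Submodule.mem_iSup_of_directed S
      (Monotone.directed_le fun _ _ h => hmono h)).mp hmem
    exact ⟨j, hmono (Nat.le_succ j) hj⟩
  classical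
  obtain ⟨j₀, hj₀, hmin⟩ : ∃ j₀, e ∈ S (j₀ + 1) ∧ ∀ j < j₀, e ∉ S (j + 1) :=
    ⟨Nat.find hex, Nat.find_spec hex, fun j hj => Nat.find_min hex hj⟩
  have hj₀pos : 0 < j₀ := Nat.pos_of_ne_zero fun h => hne (by rw [h] at hj₀; exact hj₀)
  have hnot : e ∉ S j₀ := fun h => hmin (j₀ - 1) (by omega) (by rwa [Nat.sub_add_cancel hj₀pos])
  obtain ⟨m, hm⟩ := (hidj j₀ hj₀pos).mpr fun h => hnot (by
    rw [hS, sup_eq_left.mpr ((Submodule.span_singleton_le_iff_mem _ _).mpr h)] at hj₀
    exact hj₀)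
  refine ⟨m, fun j => ?_⟩
  rw [hτj]
  rcases Nat.eq_zero_or_pos j with rfl | hj
  · refine iff_of_true (fun h => hne ?_) (Or.inl rfl)
    rw [show S 0 = ⊥ by simp [S], sup_bot_eq, Submodule.mem_span_singleton] at h
    obtain ⟨a, ha⟩ := h
    have ha0 : a ≠ 0 := fun h' => hφ.ne_zero 0 (by
      have := congrFun ha 0
      simp [h', hv0] at this
      exact this.symm)
    rw [← inv_smul_smul₀ ha0 e, ha]
    exact Submodule.smul_mem _ _ (Submodule.subset_span ⟨0, Nat.one_pos, rfl⟩)
  rw [or_iff_right hj.ne']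
  constructor
  · intro h
    obtain ⟨l, hl⟩ := (hidj j hj).mpr fun hS' => h (Submodule.mem_sup_right hS')
    refine ⟨l, fun hlm => h ?_, hl⟩
    subst hlm
    rw [hm] at hl
    subst hl
    rw [hS, Submodule.mem_sup] at hj₀
    obtain ⟨s', hs', w, hw, hsw⟩ := hj₀
    obtain ⟨a, rfl⟩ := Submodule.mem_span_singleton.mp hw
    have ha : a ≠ 0 := fun ha => hnot (by rw [← hsw, ha, zero_smul, add_zero]; exact hs')
    rw [← inv_smul_smul₀ ha (v j₀)]
    refine Submodule.smul_mem _ _ ?_
    rw [show a • v j₀ = e - s' by rw [← hsw]; abel]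
    exact Submodule.sub_mem _ (Submodule.mem_sup_left (Submodule.mem_span_singleton_self e))
      (Submodule.mem_sup_right hs')
  · rintro ⟨l, hlm, hl⟩ h
    have hnj := (hidj j hj).mp ⟨l, hl⟩
    obtain ⟨w, hw, s', hs', hsw⟩ := Submodule.mem_sup.mp h
    obtain ⟨a, rfl⟩ := Submodule.mem_span_singleton.mp hw
    rcases eq_or_ne a 0 with rfl | ha
    · exact hnj (by rw [← hsw, zero_smul, zero_add]; exact hs')
    have he : e ∈ S (j + 1) := by
      rw [← inv_smul_smul₀ ha e, show a • e = v j - s' by rw [← hsw]; abel]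
      exact Submodule.smul_mem _ _ (Submodule.sub_mem _
        (Submodule.subset_span ⟨j, Nat.lt_succ_self j, rfl⟩) (hmono (Nat.le_succ j) hs'))
    have hle : j₀ ≤ j := not_lt.mp fun hlt => hmin j hlt he
    have hlt : j₀ < j := lt_of_le_of_ne hle fun h' => hlm (hJ.1.injective (by rw [hl, hm, h']))
    have he' : e ∈ S j := hmono hlt hj₀
    exact hnj (by rw [← hsw]; exact Submodule.add_mem _ (Submodule.smul_mem _ _ he') hs')

end Groth.Agent.S12602
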