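import Groth.Statements.S12604
import Groth.Agent.Lib.FunFld.Hasse.Wdiv
-- import your own Groth.Agent.* helpers here

set_option autoImplicit false
open FunFld

namespace Groth.Agent.S12604
open Groth.Agent.Lib.FunFld.Hasse Groth.Agent.Lib.FunFld

/-- Over an algebraically closed constant field, let `τ` be a `k`-endomorphism of the function field `K`
of genus `g`, of degree `deg τ = [K : τ(K)]`, and `φ = (φ₀, …, φₙ)` a projective map such that
`τ(φ)` is not a `K`-multiple of `φ`, with `τ`-orders `j₁, …, jₙ`. Then the number `N` of strong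
fixed points of `τ` (places whose maximal ideal `τ` maps into its square) is finite and `n N ≤ (n +
deg τ) deg φ + (2g - 2)(j₁ + ⋯ + jₙ)`, i.e. `N ≤ (1/n) deg W(φ, τ)`. -/
theorem result
    (k K : Type*) [Field k] [IsAlgClosed k] [Field K] [Algebra k K]
    (hK : FunFld.IsFunctionField k K) (τ : K →ₐ[k] K) {n : ℕ} (φ : Fin (n + 1) → K) (hφ : LinearIndependent k φ)
    (hτφ : ¬ ∃ y : K, ∀ i, τ (φ i) = y * φ i) (s : K) (H : K →ₐ[k] PowerSeries K) (hH : LocRes.IsHasseFamily s H)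
    (J : Fin n → ℕ) (hJ : FunFld.IsOrders K (FunFld.hcol τ H φ) J) :
    {P : FunFld.Place k K | FunFld.IsStrongFixedPt τ P}.Finite ∧
    (n : ℤ) * (Set.ncard {P : FunFld.Place k K | FunFld.IsStrongFixedPt τ P} : ℤ) ≤
      ((n : ℤ) + Module.finrank τ.fieldRange K) * (FunFld.mapDiv k φ).deg +
        (2 * (FunFld.genus k K : ℤ) - 2) * ∑ l, (J l : ℤ) := by
  have hn : 0 < n := by
    rcases Nat.eq_zero_or_pos n with rfl | h
    · refine absurd ⟨τ (φ 0) / φ 0, fun i => ?_⟩ hτφ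
      rw [Fin.fin_one_eq_zero i, div_mul_cancel₀ _ (hφ.ne_zero 0)]
    · exact h
  obtain ⟨Φ, hΦ⟩ := Wdiv.exists_expansions hK
  set W := FunFld.wDiv τ H Φ s φ J
  have hsub : {P : FunFld.Place k K | FunFld.IsStrongFixedPt τ P} ⊆ ↑W.support := fun P hP => by
    have := Wdiv.weight_ge_of_fixed hK hP hn Φ hΦ hH hφ hJ
    rw [Finset.mem_coe, Finsupp.mem_support_iff]
    change (n : ℤ) ≤ W P at this
    omega
  refine ⟨W.support.finite_toSet.subset hsub, ?_⟩
  set S := {P : FunFld.Place k K | FunFld.IsStrongFixedPt τ P}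
  have hfin : S.Finite := W.support.finite_toSet.subset hsub
  have hdeg := Wdiv.deg_wDiv hK τ Φ hΦ hH φ J
  rw [add_comm (n : ℤ), ← hdeg, Set.ncard_eq_toFinset_card S hfin, FunFld.Divisor.deg, Finsupp.sum]
  calc (n : ℤ) * (hfin.toFinset.card : ℤ) = ∑ _P ∈ hfin.toFinset, (n : ℤ) := by
        simp [mul_comm]
    _ ≤ ∑ P ∈ hfin.toFinset, W P * (P.deg : ℤ) := Finset.sum_le_sum fun P hP => by
        rw [Wdiv.deg_eq_one hK, Nat.cast_one, mul_one]
        exact Wdiv.weight_ge_of_fixed hK (hfin.mem_toFinset.mp hP) hn Φ hΦ hH hφ hJ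
    _ ≤ _ := Finset.sum_le_sum_of_subset_of_nonneg
        (fun P hP => hsub (hfin.mem_toFinset.mp hP))
        fun P _ _ => mul_nonneg (Wdiv.wDiv_nonneg hK τ Φ hΦ hH hφ hJ P) (Nat.cast_nonneg _)

end Groth.Agent.S12604
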