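import Groth.Statements.S12608
import Groth.Agent.Lib.FunFld.Hasse.Diff
-- import your own Groth.Agent.* helpers here

set_option autoImplicit false
open FunFld

namespace Groth.Agent.S12608
open Groth.Agent.Lib.FunFld.Hasse Groth.Agent.Lib.FunFld

/-- Over an algebraically closed constant field, let `φ = (φ₀, …, φₙ)` be an effective projective map
normalized at the place `P`, `t` a local parameter at `P`, `j₁, …, jₙ` the orders of `φ` and `j'₁,
…, j'ₙ` the orders of `φ` at `P`. Then `jₗ ≤ j'ₗ` for all `l`, and the following are equivalent: all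
`j'ₗ = jₗ`; the Wronskian `w_t(φ)` does not vanish at `P`; the Weierstrass divisor `W(φ)` has
coefficient `0` at `P` (the divisor of `dt` in it read through a family of Laurent expansions). -/
theorem result
    (k K : Type*) [Field k] [IsAlgClosed k] [Field K] [Algebra k K]
    (hK : FunFld.IsFunctionField k K) (P : FunFld.Place k K) {n : ℕ} (φ : Fin (n + 1) → K) (hφ : LinearIndependent k φ)
    (heff : (1 : K) ∈ Submodule.span k (Set.range φ)) (hnorm : ∀ i, P.1 (φ i) ≤ 1)
    (t : K) (ht : P.1 t = WithZero.exp (-1))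
    (Ht : K →ₐ[k] PowerSeries K) (hHt : LocRes.IsHasseFamily t Ht)
    (J : Fin n → ℕ) (hJ : FunFld.IsOrders K (FunFld.hcol (AlgHom.id k K) Ht φ) J)
    (J' : Fin n → ℕ) (hJ' : FunFld.IsOrders (IsLocalRing.ResidueField P.O) (FunFld.hcolAt P Ht φ) J')
    (Φ : FunFld.Place k K → (K →ₐ[k] LaurentSeries k))
    (hΦ : ∀ P : FunFld.Place k K, LocRes.IsExpansionAt P.1 (Φ P)) :
    (∀ l, J l ≤ J' l) ∧
    ((∀ l, J' l = J l) ↔ FunFld.evalP P (FunFld.wrMat (AlgHom.id k K) Ht φ J).det ≠ 0) ∧
    ((∀ l, J' l = J l) ↔ FunFld.wDiv (AlgHom.id k K) Ht Φ t φ J P = 0) := by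
  obtain ⟨ψ, hψ, hψt⟩ := Param.exists_expansion hK ht
  have hP : FunFld.IsFixedPt (AlgHom.id k K) P := fun z hz => hz
  have hne := Param.det_ne_zero (AlgHom.id k K) φ ⟨0, hφ.ne_zero 0⟩ hJ
  have hpos' : ∀ l, 0 < J' l := fun l =>
    ((Local.isJump_hcolAt_iff φ hK hψ hψt hHt hnorm (J' l)).mp ((hJ'.2 _).mp ⟨l, rfl⟩)).1
  have hbin : (FunFld.binomMat k J' J').det = 1 := by
    rw [Matrix.det_of_isLowerTriangular _ fun r s (hrs : OrderDual.toDual s < OrderDual.toDual r) => by
      simp only [FunFld.binomMat, Matrix.of_apply]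
      rw [Nat.choose_eq_zero_of_lt (show J' r < J' s from hJ'.1 hrs), Nat.cast_zero]]
    simp [FunFld.binomMat]
  have hdet' : (FunFld.wrMat (AlgHom.id k K) Ht φ J').det ≠ 0 := fun h0 => by
    have := ((Local.val_det φ hK hP hψ hψt ht hHt hφ heff hnorm hJ' J').2 (Or.inl hpos')).mpr
      (by rw [hbin]; exact one_ne_zero)
    rw [h0, map_zero] at this
    exact WithZero.exp_ne_zero this.symm
  have hle : ∀ l, J l ≤ J' l := Jumps.orders_le
    (Param.hcol_zero_ne_zero _ φ ⟨0, hφ.ne_zero 0⟩ Ht) hJ hJ'.1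
    ((Jumps.det_ne_zero_iff J').mp (Jumps.wrMat_det (AlgHom.id k K) Ht φ J' ▸ hdet'))
  obtain ⟨h1, h2⟩ := Local.val_det φ hK hP hψ hψt ht hHt hφ heff hnorm hJ' J
  have hiff : (∀ l, J' l = J l) ↔ P.ord (FunFld.wrMat (AlgHom.id k K) Ht φ J).det = 0 := by
    constructor
    · intro h
      have hJJ : J = J' := funext fun l => (h l).symm
      subst hJJ
      have := (h2 (Or.inl hpos')).mpr (by rw [hbin]; exact one_ne_zero)
      rw [Place.ord_eq_of_val_eq_exp P this, Finset.sum_eq_zero (by simp)]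
      simp
    · intro h l
      rw [Place.val_eq_exp P hne, h, WithZero.exp_le_exp] at h1
      by_contra hl
      have : (0 : ℤ) < ∑ l, ((J' l : ℤ) - J l) :=
        Finset.sum_pos' (fun i _ => by have := hle i; omega)
          ⟨l, Finset.mem_univ l, by have := hle l; omega⟩
      omega
  have hint : P.1 (FunFld.wrMat (AlgHom.id k K) Ht φ J).det ≤ 1 := by
    refine h1.trans ?_
    rw [← WithZero.exp_zero, WithZero.exp_le_exp, neg_nonpos]
    exact Finset.sum_nonneg fun i _ => by have := hle i; omega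
  refine ⟨hle, hiff.trans ?_, ?_⟩
  · rw [FunFld.evalP, dif_pos hint, ne_eq, Place.res_eq_zero_iff]
    rw [Place.val_lt_one_iff, not_or, not_lt]
    refine ⟨fun h => ⟨hne, h.le⟩, fun h => le_antisymm h.2 ((Place.val_le_one_iff P).mp hint)⟩
  · rw [Diff.wDiv_fixed hK hP hφ heff hnorm ht hHt Φ hΦ]
    exact hiff

end Groth.Agent.S12608
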