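import Groth.Statements.S12609
import Groth.Agent.Lib.FunFld.Hasse.Classical
-- import your own Groth.Agent.* helpers here

set_option autoImplicit false
open FunFld

namespace Groth.Agent.S12609
open Groth.Agent.Lib.FunFld.Hasse Groth.Agent.Lib.FunFld WithZero

/-- Over an algebraically closed constant field, let `φ` be the canonical map (a basis of `L(C)`, `C`
canonical), normalized at the place `P` after multiplication by `y ≠ 0`, and `t` a local parameter
at `P`. For `j ≥ 1`: the canonical orders at `P` include `j` exactly when `j + 1` is a gap number at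
`P`, i.e. `L((j+1)P) = L(jP)`. -/
theorem result
    (k K : Type*) [Field k] [IsAlgClosed k] [Field K] [Algebra k K]
    (hK : FunFld.IsFunctionField k K) (C : FunFld.Divisor k K) (hC : FunFld.IsCanonical k K C)
    {n : ℕ} (φ : Fin (n + 1) → K) (hφ : LinearIndependent k φ)
    (hspan : Submodule.span k (Set.range φ) = FunFld.L C)
    (P : FunFld.Place k K) (y : K) (hy : y ≠ 0)
    (heff : (1 : K) ∈ Submodule.span k (Set.range (y • φ))) (hnorm : ∀ i, P.1 (y * φ i) ≤ 1)
    (t : K) (ht : P.1 t = WithZero.exp (-1))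
    (Ht : K →ₐ[k] PowerSeries K) (hHt : LocRes.IsHasseFamily t Ht) (j : ℕ) (hj : 1 ≤ j) :
    FunFld.IsJump (IsLocalRing.ResidueField P.O) (FunFld.hcolAt P Ht (y • φ)) (j + 1) ↔
      FunFld.L (Finsupp.single P ((j : ℤ) + 1)) = FunFld.L (Finsupp.single P (j : ℤ)) := by
  classical
  have hP := Wdiv.deg_eq_one hK P
  obtain ⟨ψ, hψ, hψt⟩ := Param.exists_expansion hK ht
  have hjump := Local.isJump_hcolAt_iff (φ := y • φ) hK hψ hψt hHt (fun i => hnorm i) j
  have hspan' : Submodule.span k (Set.range (y • φ)) = (FunFld.L C).map (LinearMap.mulLeft k y) := by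
    rw [← hspan, ← Submodule.span_image, ← Set.range_comp]
    rfl
  -- the normalisation
  have hyC : P.1 y = exp (-(C P)) := by
    have hmem : (y⁻¹ : K) ∈ FunFld.L C := by
      rw [hspan'] at heff
      obtain ⟨z, hz, hz1⟩ := heff
      rwa [show y⁻¹ = z from inv_eq_of_mul_eq_one_right hz1]
    obtain ⟨z, hz, hzv⟩ : ∃ z ∈ FunFld.L C, P.1 z = exp (C P - (0 : ℕ)) := by
      refine (Classical.exists_val_canonical_iff hK hP hC 0).mpr ?_
      refine fun h => absurd h ?_
      have hg : 1 ≤ FunFld.genus k K := by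
        have h1 := Weil.ell_canonical hK hC
        simp only [FunFld.ell] at h1
        rw [← hspan, finrank_span_eq_card hφ, Fintype.card_fin] at h1
        omega
      intro h1
      have hall : ∀ m, Gaps.IsPole P m := fun m => by
        induction m with
        | zero => exact Gaps.isPole_zero P
        | succ m ih => exact Gaps.isPole_add P ih h1
      have h2 := Gaps.card_eq_genus hK hP (n := 2 * FunFld.genus k K) (by omega)
      rw [Finset.eq_empty_of_forall_notMem (s := Gaps.gapsTo P _)
        fun m hm => ((Gaps.mem_gapsTo P).mp hm).2 (hall m), Finset.card_empty] at h2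
      omega
    have h1 : P.1 (y * z) ≤ 1 := by
      refine Diff.val_le_of_mem_span (φ := y • φ) (fun i => hnorm i) ?_
      rw [hspan']
      exact ⟨z, hz, rfl⟩
    rw [map_mul, hzv, Nat.cast_zero, sub_zero] at h1
    have h2 := hmem P
    rw [map_inv₀] at h2
    rw [Place.val_eq_exp P hy] at h1 h2 ⊢
    rw [← exp_neg, exp_le_exp] at h2
    rw [← exp_add, ← exp_zero, exp_le_exp] at h1
    rw [exp_inj]
    omega
  rw [hjump, and_iff_right (show 0 < j from hj)]
  have h3 := Classical.exists_val_canonical_iff hK hP hC j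
  rw [← Gaps.L_eq_iff, Nat.cast_add, Nat.cast_one, add_sub_cancel_right] at h3
  rw [← h3, hspan']
  constructor
  · rintro ⟨f, ⟨z, hz, rfl⟩, hv⟩
    refine ⟨z, hz, ?_⟩
    change P.1 (y * z) = _ at hv
    rw [map_mul, hyC] at hv
    rcases eq_or_ne z 0 with rfl | hz0
    · rw [map_zero, mul_zero] at hv; exact absurd hv.symm exp_ne_zero
    · rw [Place.val_eq_exp P hz0, ← exp_add, exp_inj] at hv
      rw [Place.val_eq_exp P hz0, exp_inj]
      omega
  · rintro ⟨z, hz, hv⟩
    refine ⟨y * z, ⟨z, hz, rfl⟩, ?_⟩
    rw [map_mul, hyC, hv, ← exp_add]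
    congr 1
    omega

end Groth.Agent.S12609
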