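import Groth.Statements.S12610
import Groth.Agent.Lib.FunFld.Hasse.Diff
import Groth.Agent.S12602
-- import your own Groth.Agent.* helpers here

set_option autoImplicit false
open FunFld

namespace Groth.Agent.S12610
open Groth.Agent.Lib.FunFld.Hasse Groth.Agent.Lib.FunFld

/-- Over an algebraically closed constant field, for a birational projective map `φ`, a `k`-endomorphism
`τ ≠ 1` and a place `P` fixed by `τ`, the place `P` is a Weierstrass point of `φ` with respect to
`τ`: the Weierstrass divisor `W(φ, τ) = [w_s(φ, τ)] + [τ(φ)] + n[φ] + j(φ, τ)[ds]` has positive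
coefficient at `P` (the divisor of `ds` read through a family of Laurent expansions). -/
theorem result
    (k K : Type*) [Field k] [IsAlgClosed k] [Field K] [Algebra k K]
    (hK : FunFld.IsFunctionField k K) {n : ℕ} (φ : Fin (n + 1) → K) (hφ : LinearIndependent k φ)
    (h0 : φ 0 ≠ 0) (hbir : IntermediateField.adjoin k (Set.range fun i => φ i / φ 0) = ⊤)
    (τ : K →ₐ[k] K) (hτ : τ ≠ AlgHom.id k K) (P : FunFld.Place k K) (hP : FunFld.IsFixedPt τ P)
    (s : K) (H : K →ₐ[k] PowerSeries K) (hH : LocRes.IsHasseFamily s H)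
    (J : Fin n → ℕ) (hJ : FunFld.IsOrders K (FunFld.hcol τ H φ) J)
    (Φ : FunFld.Place k K → (K →ₐ[k] LaurentSeries k))
    (hΦ : ∀ P : FunFld.Place k K, LocRes.IsExpansionAt P.1 (Φ P)) :
    0 < FunFld.wDiv τ H Φ s φ J P := by
  have hn : 0 < n := by
    rcases Nat.eq_zero_or_pos n with rfl | h
    · exfalso
      obtain ⟨x, hx⟩ := Riemann.exists_transcendental hK
      have hmem : x ∈ (⊥ : IntermediateField k K) := by
        have : x ∈ IntermediateField.adjoin k (Set.range fun i => φ i / φ 0) := by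
          rw [hbir]; exact IntermediateField.mem_top
        refine (IntermediateField.adjoin_le_iff.mpr ?_) this
        rintro _ ⟨i, rfl⟩
        rw [Fin.fin_one_eq_zero i]
        simp [div_self h0]
      obtain ⟨c, hc⟩ := IntermediateField.mem_bot.mp hmem
      exact hx (hc ▸ isAlgebraic_algebraMap c)
    · exact h
  obtain ⟨i₀, -, hmax⟩ := Finset.exists_max_image Finset.univ (fun i => P.1 (φ i)) Finset.univ_nonempty
  have hy : (φ i₀)⁻¹ ≠ 0 := inv_ne_zero (hφ.ne_zero i₀)
  let φ' : Fin (n + 1) → K := fun i => (φ i₀)⁻¹ * φ i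
  have hint : ∀ i, P.1 (φ' i) ≤ 1 := fun i => by
    simp only [φ', map_mul, map_inv₀]
    exact inv_mul_le_one_of_le₀ (hmax i (Finset.mem_univ i)) zero_le
  have hli : LinearIndependent k φ' :=
    hφ.map' (LinearMap.mulLeft k (φ i₀)⁻¹) (LinearMap.ker_eq_bot.mpr (mul_right_injective₀ hy))
  have heff : (1 : K) ∈ Submodule.span k (Set.range φ') :=
    Submodule.subset_span ⟨i₀, inv_mul_cancel₀ (hφ.ne_zero i₀)⟩
  have hbir' : IntermediateField.adjoin k (Set.range fun i => φ' i / φ' 0) = ⊤ := by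
    simpa only [φ', mul_div_mul_left _ _ hy] using hbir
  obtain ⟨t, -, ht⟩ := Place.exists_uniformizer P
  obtain ⟨ψ, hψ, hψt⟩ := Param.exists_expansion hK ht
  have htr : Transcendental k t := Existence.transcendental_of_ord_ne_zero hK P (by
    rw [Place.ord_eq_of_val_eq_exp P ht]; norm_num)
  have hsep : Separable.IsSep k t := Separable.isSep_of_D_ne_zero hK (Separable.exists_isSep hK)
    fun h0 => by
      have h1 := LocRes.resOmega_smul_D ψ t⁻¹ t
      rw [h0, smul_zero, map_zero, LocRes.resExp, map_inv₀, hψt, HahnSeries.inv_single, inv_one,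
        LocRes.D_apply, LocRes.res_apply, HahnSeries.coeff_single_mul, one_mul,
        LocRes.derivative_coeff] at h1
      simp at h1
  obtain ⟨Ht, hHt⟩ := Family.exists_hasse hK htr hsep
  obtain ⟨hJt, hW⟩ := Diff.wDiv_invariant hK hφ τ hH hHt hJ (A := 1)
    (by rw [Matrix.det_one]; exact one_ne_zero) hy (φ' := φ')
    (fun i => by simp [φ', Matrix.one_apply, ite_smul]) Φ hΦ
  rw [← hW, Diff.wDiv_fixed hK hP hli heff hint ht hHt Φ hΦ]
  obtain ⟨J', hJ'⟩ := Diff.exists_orders_at hK hli heff hint ht hHt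
  obtain ⟨J₁, hJ₁⟩ := Param.exists_orders (AlgHom.id k K) φ' hK hli hHt
  obtain ⟨m, hm⟩ := Groth.Agent.S12602.result k K hK hn φ' hli (mul_ne_zero hy h0) hbir' τ hτ t Ht
    hHt J₁ hJ₁
  have hpos₁ : ∀ l, 0 < J₁ l := fun l => by
    rcases Nat.eq_zero_or_pos (J₁ l) with hl | hl
    · refine absurd ?_ ((hJ₁.2 0).mp ⟨l, hl⟩)
      refine Submodule.subset_span ⟨0, Nat.one_pos, funext fun i => ?_⟩
      simp only [FunFld.hcol, AlgHom.id_apply, Param.hasseD_zero hHt]
    · exact hl
  have hpos' : ∀ l, 0 < J' l := fun l =>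
    ((Local.isJump_hcolAt_iff φ' hK hψ hψt hHt hint (J' l)).mp ((hJ'.2 _).mp ⟨l, rfl⟩)).1
  have hle : ∀ l, J₁ l ≤ J' l := by
    have hid : FunFld.IsFixedPt (AlgHom.id k K) P := fun z hz => hz
    have hbin : (FunFld.binomMat k J' J').det = 1 := by
      rw [Matrix.det_of_isLowerTriangular _ fun r s (hrs : OrderDual.toDual s < OrderDual.toDual r) => by
        simp only [FunFld.binomMat, Matrix.of_apply]
        rw [Nat.choose_eq_zero_of_lt (show J' r < J' s from hJ'.1 hrs), Nat.cast_zero]]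
      simp [FunFld.binomMat]
    refine Jumps.orders_le (Param.hcol_zero_ne_zero _ φ' ⟨0, hli.ne_zero 0⟩ Ht) hJ₁ hJ'.1
      ((Jumps.det_ne_zero_iff J').mp (Jumps.wrMat_det (AlgHom.id k K) Ht φ' J' ▸ fun h0 => ?_))
    have := ((Local.val_det φ' hK hid hψ hψt ht hHt hli heff hint hJ' J').2 (Or.inl hpos')).mpr
      (by rw [hbin]; exact one_ne_zero)
    rw [h0, map_zero] at this
    exact WithZero.exp_ne_zero this.symm
  have himg : Finset.univ.image J = insert 0 ((Finset.univ.erase m).image J₁) := by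
    ext j
    simp only [Finset.mem_image, Finset.mem_univ, true_and, Finset.mem_insert, Finset.mem_erase,
      and_true]
    exact (hJt.2 j).trans (hm j)
  have hsum : ∑ l, J l + J₁ m = ∑ l, J₁ l := by
    rw [← Finset.sum_image (f := fun x => x) hJt.1.injective.injOn, himg, Finset.sum_insert,
      zero_add, Finset.sum_image hJ₁.1.injective.injOn, Finset.sum_erase_add _ _ (Finset.mem_univ m)]
    simp only [Finset.mem_image, not_exists, not_and]
    exact fun l _ h => (hpos₁ l).ne' h
  have h1 := (Local.val_det φ' hK hP hψ hψt ht hHt hli heff hint hJ' J).1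
  rw [Place.val_eq_exp P (Param.det_ne_zero τ φ' ⟨0, hli.ne_zero 0⟩ hJt), WithZero.exp_le_exp,
    neg_le_neg_iff, Finset.sum_sub_distrib] at h1
  have h2 : ∑ l, (J₁ l : ℤ) ≤ ∑ l, (J' l : ℤ) :=
    Finset.sum_le_sum fun l _ => Int.ofNat_le.mpr (hle l)
  have h3 := hpos₁ m
  have h4 : (∑ l, (J l : ℤ)) + J₁ m = ∑ l, (J₁ l : ℤ) := by exact_mod_cast hsum
  omega

end Groth.Agent.S12610
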