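import Groth.Statements.S12617
import Groth.Agent.Lib.FunFld.Hasse.Local
-- import your own Groth.Agent.* helpers here

set_option autoImplicit false
open FunFld

namespace Groth.Agent.S12617
open Groth.Agent.Lib.FunFld.Hasse Groth.Agent.Lib.FunFld

/-- Over an algebraically closed constant field, if the effective projective map `φ = (φ₀, …, φₙ)`, `n ≥
1`, normalized at `P`, is nonsingular at `P`, then its first order at `P` is `1`. -/
theorem result
    (k K : Type*) [Field k] [IsAlgClosed k] [Field K] [Algebra k K]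
    (hK : FunFld.IsFunctionField k K) (P : FunFld.Place k K) {n : ℕ} (hn : 0 < n) (φ : Fin (n + 1) → K)
    (hφ : LinearIndependent k φ)
    (heff : (1 : K) ∈ Submodule.span k (Set.range φ)) (hnorm : ∀ i, P.1 (φ i) ≤ 1) (hns : FunFld.IsNonsingularAt φ P)
    (t : K) (ht : P.1 t = WithZero.exp (-1))
    (Ht : K →ₐ[k] PowerSeries K) (hHt : LocRes.IsHasseFamily t Ht)
    (J' : Fin n → ℕ) (hJ' : FunFld.IsOrders (IsLocalRing.ResidueField P.O) (FunFld.hcolAt P Ht φ) J') :
    J' ⟨0, hn⟩ = 1 := by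
  obtain ⟨ψ, hψ, hψt⟩ := Param.exists_expansion hK ht
  have hkey := Local.isJump_hcolAt_iff φ hK hψ hψt hHt hnorm
  obtain ⟨hpos, f, hf, hfv⟩ : 0 < J' ⟨0, hn⟩ ∧ ∃ f ∈ Submodule.span k (Set.range φ),
      P.1 f = WithZero.exp (-(J' ⟨0, hn⟩ : ℤ)) := (hkey _).mp ((hJ'.2 _).mp ⟨⟨0, hn⟩, rfl⟩)
  by_contra hne
  have hno : ∀ g ∈ Submodule.span k (Set.range φ), P.1 g ≠ WithZero.exp (-1) := fun g hg hv => by
    obtain ⟨l, hl⟩ := (hJ'.2 1).mpr ((hkey 1).mpr ⟨Nat.one_pos, g, hg, by simpa using hv⟩)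
    have := hJ'.1.monotone (show (⟨0, hn⟩ : Fin n) ≤ l from Fin.le_def.mpr (Nat.zero_le _))
    omega
  have hcoeff : ∀ i, (ψ (φ i)).coeff 1 = 0 := fun i => by
    by_contra hc
    obtain ⟨c, hc'⟩ := Param.isDegOne hK P _ (hnorm i)
    refine hno (φ i - algebraMap k K c) (Submodule.sub_mem _ (Submodule.subset_span ⟨i, rfl⟩) ?_) ?_
    · rw [Algebra.algebraMap_eq_smul_one]; exact Submodule.smul_mem _ c heff
    · refine (Local.val_eq_iff hψ 1).mpr ⟨fun m hm => ?_, ?_⟩
      · rw [map_sub, HahnSeries.coeff_sub, LocRes.map_algebraMap]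
        rcases lt_or_eq_of_le (show m ≤ 0 by omega) with hm0 | rfl
        · obtain ⟨p, hp⟩ := Formula.exists_powerSeries hψ (hnorm i)
          rw [← hp, PowerSeries.coeff_coe, if_pos hm0, HahnSeries.C_apply,
            HahnSeries.coeff_single_of_ne hm0.ne, sub_zero]
        · rw [Param.coeff_zero_eq hψ hc']; simp
      · rw [map_sub, HahnSeries.coeff_sub, LocRes.map_algebraMap, HahnSeries.C_apply,
          HahnSeries.coeff_single_of_ne one_ne_zero, sub_zero]
        exact hc
  obtain ⟨j, hj0, hmax, u, hu, w, hw, hw1, huw⟩ := hns t (by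
    rw [ht, ← WithZero.exp_zero, WithZero.exp_le_exp]; norm_num)
  have hj1 : P.1 (φ j) = 1 := by
    refine le_antisymm (hnorm j) ?_
    obtain ⟨a, ha⟩ := (Submodule.mem_span_range_iff_exists_fun k).mp heff
    refine (map_one P.1).ge.trans ?_
    rw [← ha]
    refine P.1.map_sum_le fun i _ => ?_
    rw [Algebra.smul_def, map_mul]
    exact (mul_le_mul' (P.2.1 _) (hmax i)).trans_eq (one_mul _)
  -- elements with value in `k + m²`
  have hgood : ∀ z ∈ Algebra.adjoin k (Set.range fun i => φ i / φ j),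
      ∃ p : PowerSeries k, (p : LaurentSeries k) = ψ z ∧ PowerSeries.coeff 1 p = 0 := by
    have hmul : ∀ p q : PowerSeries k, PowerSeries.coeff 1 p = 0 → PowerSeries.coeff 1 q = 0 →
        PowerSeries.coeff 1 (p * q) = 0 := fun p q hp hq => by
      rw [PowerSeries.coeff_one_mul, hp, hq]; simp
    have hps : ∀ i, ∃ p : PowerSeries k, (p : LaurentSeries k) = ψ (φ i) ∧ PowerSeries.coeff 1 p = 0 :=
      fun i => by
        obtain ⟨p, hp⟩ := Formula.exists_powerSeries hψ (hnorm i)
        refine ⟨p, hp, ?_⟩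
        have := hcoeff i
        rwa [← hp, PowerSeries.coeff_coe, if_neg (by norm_num)] at this
    intro z hz
    induction hz using Algebra.adjoin_induction with
    | mem y hy =>
      obtain ⟨i, rfl⟩ := hy
      obtain ⟨p, hp, hp1⟩ := hps i
      obtain ⟨q, hq, hq1⟩ := hps j
      have hq0 : PowerSeries.constantCoeff q ≠ 0 := fun h => by
        have := ((Local.val_eq_iff hψ 0).mp (by simpa using hj1)).2
        rw [← hq, PowerSeries.coeff_coe, if_neg (lt_irrefl _), Int.natAbs_zero,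
          PowerSeries.coeff_zero_eq_constantCoeff_apply] at this
        exact this h
      obtain ⟨v, hv⟩ := PowerSeries.isUnit_iff_constantCoeff.mpr hq0.isUnit
      have hv1 : PowerSeries.coeff 1 (↑v⁻¹ : PowerSeries k) = 0 := by
        have h1 := congrArg (PowerSeries.coeff 1) v.mul_inv
        rw [PowerSeries.coeff_one_mul, hv, hq1, PowerSeries.coeff_one, if_neg one_ne_zero] at h1
        simpa [hq0] using h1
      refine ⟨p * ↑v⁻¹, ?_, hmul _ _ hp1 hv1⟩
      rw [map_div₀, eq_div_iff ((map_ne_zero ψ).mpr hj0), PowerSeries.coe_mul, hp, mul_assoc, ← hq,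
        ← hv, ← PowerSeries.coe_mul, v.inv_mul, PowerSeries.coe_one, mul_one]
    | algebraMap c =>
      exact ⟨PowerSeries.C c, by rw [LocRes.map_algebraMap, HahnSeries.ofPowerSeries_C]; rfl,
        by simp [PowerSeries.coeff_C]⟩
    | add y z _ _ hy hz =>
      obtain ⟨p, hp, hp1⟩ := hy
      obtain ⟨q, hq, hq1⟩ := hz
      exact ⟨p + q, by rw [PowerSeries.coe_add, hp, hq, map_add], by rw [map_add, hp1, hq1, add_zero]⟩
    | mul y z _ _ hy hz =>
      obtain ⟨p, hp, hp1⟩ := hy
      obtain ⟨q, hq, hq1⟩ := hz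
      exact ⟨p * q, by rw [PowerSeries.coe_mul, hp, hq, map_mul], hmul _ _ hp1 hq1⟩
  obtain ⟨p, hp, hp1⟩ := hgood u hu
  obtain ⟨q, hq, -⟩ := hgood w hw
  have hw0 := ((Local.val_eq_iff hψ 0).mp (by simpa using hw1)).2
  have h1 := congrArg (fun x : LaurentSeries k => x.coeff 1) (congrArg ψ huw)
  simp only [map_mul, hψt, HahnSeries.coeff_single_mul, one_mul, sub_self] at h1
  rw [← hp, PowerSeries.coeff_coe, if_neg (by norm_num)] at h1
  exact hw0 (h1.trans (by simpa using hp1))

end Groth.Agent.S12617
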