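import Groth.Statements.S1262
import Groth.Agent.S1201
import Groth.Agent.Lib.FlatCA.WeakAss
-- import your own Groth.Agent.* helpers here

set_option autoImplicit false
universe u
open FlatMor
attribute [local instance] Algebra.TensorProduct.rightAlgebra

namespace Groth.Agent.S1262

/-- Ring form, X = Spec S affine: let S be a finite type R-algebra, N a finite S-module and p a prime of
R. Then the set of points x of the fibre Spec(κ(p) ⊗ S) such that N is flat over R at the prime of S
under x is open in the fibre. -/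
theorem result {R S : Type u} [CommRing R] [CommRing S] [Algebra R S] [Algebra.FiniteType R S]
    (N : Type u) [AddCommGroup N] [Module S N] [Module R N] [IsScalarTower R S N] [Module.Finite S N]
    (p : Ideal R) [p.IsPrime] :
    IsOpen {x : PrimeSpectrum (p.Fiber S) |
      FlatCA.FlatAt R (x.asIdeal.comap (Algebra.TensorProduct.includeRight (R := R) (A := p.ResidueField) (B := S)).toRingHom) N} := by
  classical
  haveI : IsNoetherianRing (p.Fiber S) := Algebra.FiniteType.isNoetherianRing p.ResidueField _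
  haveI : Module.Finite (p.Fiber S) (FlatCA.fiberMod p S N) := Module.Finite.base_change S (p.Fiber S) N
  have hover : ∀ x : PrimeSpectrum (p.Fiber S), (x.asIdeal.comap (Lib.FlatCA.Impurity.incl p)).LiesOver p :=
    fun x => ⟨by
      ext r
      show r ∈ p ↔ Lib.FlatCA.Impurity.incl p (algebraMap R S r) ∈ x.asIdeal
      rw [show Lib.FlatCA.Impurity.incl p (algebraMap R S r) = algebraMap R (p.Fiber S) r from
        AlgHom.commutes (Algebra.TensorProduct.includeRight : S →ₐ[R] p.Fiber S) r]
      refine ⟨fun h => ?_, fun h => ?_⟩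
      · rw [IsScalarTower.algebraMap_apply R p.ResidueField (p.Fiber S), Ideal.algebraMap_residueField_eq_zero.2 h,
          map_zero]
        exact x.asIdeal.zero_mem
      · by_contra hr
        exact x.2.ne_top (Ideal.eq_top_of_isUnit_mem _ h (Lib.FlatCA.WeakAss.isUnit_algebraMap_fiber p hr))⟩
  let Bad : Set (Ideal (p.Fiber S)) := {r ∈ associatedPrimes (p.Fiber S) (FlatCA.fiberMod p S N) |
    ∃ _ : (r.comap (Lib.FlatCA.Impurity.incl p)).IsPrime, ¬ FlatCA.FlatAt R (r.comap (Lib.FlatCA.Impurity.incl p)) N}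
  have hBad : Bad.Finite := (associatedPrimes.finite (p.Fiber S) _).subset fun r hr => hr.1
  suffices heq : {x : PrimeSpectrum (p.Fiber S) |
      FlatCA.FlatAt R (x.asIdeal.comap (Lib.FlatCA.Impurity.incl p)) N} =
      (⋃ r ∈ Bad, PrimeSpectrum.zeroLocus (r : Set (p.Fiber S)))ᶜ by
    exact heq.symm ▸ (hBad.isClosed_biUnion fun r _ => PrimeSpectrum.isClosed_zeroLocus _).isOpen_compl
  ext x
  haveI := hover x
  rw [Set.mem_setOf_eq, Set.mem_compl_iff, Groth.Agent.S1201.result N p (x.asIdeal.comap (Lib.FlatCA.Impurity.incl p))]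
  refine ⟨fun h hx => ?_, fun h q' _ hle hq' hass => ?_⟩
  · obtain ⟨r, ⟨hr, hrp, hbad⟩, hrx⟩ := Set.mem_iUnion₂.1 hx
    haveI := hr.1
    haveI := hover ⟨r, hr.1⟩
    refine hbad (h _ (Ideal.comap_mono hrx) (hover ⟨r, hr.1⟩) ?_)
    rw [show FlatCA.fiberIdeal p (r.comap (Lib.FlatCA.Impurity.incl p)) = r from
      Lib.FlatCA.WeakAss.map_comap_incl p r]
    exact hr
  · by_contra hbad
    haveI := hq'
    obtain ⟨hP, hc⟩ := Lib.FlatCA.WeakAss.fiberIdeal_prime p q'
    refine h (Set.mem_iUnion₂.2 ⟨FlatCA.fiberIdeal p q', ⟨hass, Ideal.IsPrime.comap _, ?_⟩, ?_⟩)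
    · intro hflat
      apply hbad
      convert hflat
      exact hc.symm
    · exact (Ideal.map_mono hle).trans Ideal.map_comap_le

end Groth.Agent.S1262
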