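import Groth.Statements.S12627
import Groth.Agent.H4.EllSum.Basic
import Groth.Agent.H4.NPowEtale
import Groth.Agent.H52.SmoothChain
-- import your own Groth.Agent.* helpers here

set_option autoImplicit false
universe u
open CategoryTheory CategoryTheory.Limits MonoidalCategory CartesianMonoidalCategory MonObj GrpObj AlgebraicGeometry
open AbVar

namespace Groth.Agent.S12627

/-- Let `k` be an algebraically closed field and `E₁`, `E₂` elliptic curves over `k`, i.e. group schemes
over `Spec k` whose underlying schemes are proper, smooth, integral and one-dimensional. If `φ, φ' :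
E₁ → E₂` are homomorphisms with `φ` finite, surjective and étale (a separable isogeny) and `φ'` not
étale (the zero homomorphism or an inseparable isogeny), then their sum under the group law of `E₂`
— the composite of `(φ, φ')` with the multiplication of `E₂` — is finite, surjective and étale, i.e.
again a separable isogeny. (The published statement is for arbitrary morphisms `φ, φ'` and takes
`φ'` inseparable; this row takes homomorphisms, the case its proof treats — a morphism of elliptic
curves is a homomorphism followed by a translation, which changes neither the hypotheses nor the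
conclusion — and allows `φ'` to be the zero map, that case being immediate.) -/
theorem result (k : Type u) [Field k] [IsAlgClosed k]
    (E₁ E₂ : Over (Spec (CommRingCat.of k)))
    [GrpObj E₁] [IsProper E₁.hom] [Smooth E₁.hom] [IsIntegral E₁.left] (hE₁ : topologicalKrullDim E₁.left = 1)
    [GrpObj E₂] [IsProper E₂.hom] [Smooth E₂.hom] [IsIntegral E₂.left] (hE₂ : topologicalKrullDim E₂.left = 1)
    (φ φ' : E₁ ⟶ E₂) [IsMonHom φ] [IsMonHom φ'] [IsFinite φ.left] [Surjective φ.left] [Etale φ.left]
    (hφ' : ¬ Etale φ'.left) :
    IsFinite (φ * φ').left ∧ Surjective (φ * φ').left ∧ Etale (φ * φ').left := by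
  obtain ⟨v, hv⟩ := Groth.Agent.H4.EllSum.exists_tangent (E₁ := E₁) (E₂ := E₂) hE₁ hE₂
  haveI : IsCommMonObj E₂ := by
    haveI : GeometricallyIntegral E₂.hom := Groth.Agent.H52.SmoothChain.geometricallyIntegral E₂
    exact isCommMonObj_of_isProper_of_geometricallyIntegral _
  haveI : IsMonHom (φ * φ') :=
    { one_hom := by
        rw [MonObj.comp_mul, IsMonHom.one_hom, IsMonHom.one_hom, MonObj.one_eq_one, _root_.one_mul]
      mul_hom := by
        rw [MonObj.comp_mul, IsMonHom.mul_hom, IsMonHom.mul_hom, MonObj.mul_eq_mul, MonObj.comp_mul, MonObj.comp_mul]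
        simp only [tensorHom_fst, tensorHom_snd, MonObj.comp_mul]
        exact mul_mul_mul_comm _ _ _ _ }
  haveI : Etale (φ * φ').left := (hv _).2 fun h => by
    rw [MonObj.comp_mul, not_not.1 fun hh => hφ' ((hv φ').2 hh), _root_.mul_one] at h
    exact (hv φ).1 inferInstance h
  haveI : IsProper ((φ * φ').left ≫ E₂.hom) := by rw [Over.w]; infer_instance
  haveI : IsProper (φ * φ').left := IsProper.of_comp _ E₂.hom
  haveI : LocallyQuasiFinite (φ * φ').left :=
    Groth.Agent.H4.NPowEtale.locallyQuasiFinite_of_formallyUnramified _
  haveI : IsLocallyNoetherian E₂.left := LocallyOfFiniteType.isLocallyNoetherian E₂.hom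
  exact ⟨IsFinite.of_isProper_of_locallyQuasiFinite _,
    Groth.Agent.H4.NPowEtale.surjective_of_flat_proper _, inferInstance⟩

end Groth.Agent.S12627
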