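import Groth.Statements.S1263
import Groth.Agent.Lib.RG.NearApply
import Groth.Agent.Lib.RG.NearFlat
import Mathlib.RingTheory.Finiteness.ModuleFinitePresentation
-- import your own Groth.Agent.* helpers here

set_option autoImplicit false
universe u
open FlatMor
open scoped TensorProduct

namespace Groth.Agent.S1263

/-- Ring form, X = Spec S and S = Spec R affine: let S be a finite type R-algebra and q a prime of S
over p with S_q flat over R. Then there is an étale R-algebra R' with a prime p' over p having the
same residue field such that, writing A for the local ring of R' at p' and S_A for the base change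
(any model): some g ∈ S_A outside every prime over both q and the maximal ideal of A has (S_A)_g
flat and of finite presentation over A. -/
theorem result {R S : Type u} [CommRing R] [CommRing S] [Algebra R S] [Algebra.FiniteType R S]
    (p : Ideal R) [p.IsPrime] (q : Ideal S) [q.IsPrime] [q.LiesOver p] (hflat : Module.Flat R (Localization.AtPrime q)) :
    ∃ (R' : Type u) (_ : CommRing R') (_ : Algebra R R') (p' : Ideal R') (_ : p'.IsPrime), FlatCA.IsEtaleNhd R R' p p' ∧
      ∀ (SA : Type u) [CommRing SA] [Algebra R SA] [Algebra S SA] [Algebra (Localization.AtPrime p') SA]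
        [IsScalarTower R S SA] [IsScalarTower R (Localization.AtPrime p') SA]
        [Algebra.IsPushout R S (Localization.AtPrime p') SA],
        ∃ g : SA, (∀ (Q : Ideal SA) [Q.IsPrime], Q.LiesOver q → Q.LiesOver (IsLocalRing.maximalIdeal (Localization.AtPrime p')) → g ∉ Q) ∧
          Module.Flat (Localization.AtPrime p') (Localization.Away g) ∧
          Algebra.FinitePresentation (Localization.AtPrime p') (Localization.Away g) := by
  classical
  obtain ⟨n, ψ, hψ⟩ := Algebra.FiniteType.iff_quotient_mvPolynomial''.1 (inferInstance : Algebra.FiniteType R S)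
  let P := MvPolynomial (Fin n) R
  letI : Algebra P S := ψ.toRingHom.toAlgebra
  haveI : IsScalarTower R P S := IsScalarTower.of_algebraMap_eq' ψ.comp_algebraMap.symm
  haveI : Module.Finite P S := Module.Finite.of_surjective (Algebra.linearMap P S) hψ
  let Q₀ := q.comap (algebraMap P S)
  haveI : Q₀.LiesOver p := ⟨by
    rw [Ideal.LiesOver.over (p := p) (P := q)]
    show q.comap (algebraMap R S) = (q.comap (algebraMap P S)).comap (algebraMap R P)
    rw [Ideal.comap_comap, ← IsScalarTower.algebraMap_eq]⟩
  have hflat₀ : Module.Flat R (LocalizedModule Q₀.primeCompl S) := by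
    refine (Lib.RG.NearFlat.flatAt_restrict S (q' := q) (fun c => ?_) rfl).2 hflat
    obtain ⟨a, ha⟩ := hψ c
    exact ⟨1, fun h => Ideal.IsPrime.ne_top inferInstance ((Ideal.eq_top_iff_one Q₀).2 h), a, by
      rw [map_one, one_mul]; exact ha.symm⟩
  obtain ⟨R', cR', aR', p', hp', hnhd, h, hh, hgood⟩ := Lib.RG.Near.near_of_flat p Q₀ hflat₀
  haveI := hnhd.1
  refine ⟨R', cR', aR', p', hp', hnhd, ?_⟩
  intro SA _ _ _ _ _ _ _
  let A := Localization.AtPrime p'
  letI : Algebra A (P ⊗[R] A) := Algebra.TensorProduct.rightAlgebra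
  haveI : Algebra.IsPushout R P A (P ⊗[R] A) := inferInstance
  let θ : P ⊗[R] A →ₐ[R] SA := Algebra.TensorProduct.lift
    ((IsScalarTower.toAlgHom R S SA).comp (IsScalarTower.toAlgHom R P S))
    (IsScalarTower.toAlgHom R A SA) fun _ _ => Commute.all _ _
  letI : Algebra (P ⊗[R] A) SA := θ.toRingHom.toAlgebra
  letI : Algebra P SA := ((algebraMap S SA).comp (algebraMap P S)).toAlgebra
  haveI : IsScalarTower P S SA := IsScalarTower.of_algebraMap_eq fun _ => rfl
  haveI : IsScalarTower R P SA := IsScalarTower.of_algebraMap_eq fun r => by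
    rw [IsScalarTower.algebraMap_apply R S SA, IsScalarTower.algebraMap_apply R P S]
    rfl
  haveI : IsScalarTower P (P ⊗[R] A) SA := IsScalarTower.of_algebraMap_eq fun a => by
    show _ = θ (a ⊗ₜ[R] (1 : A))
    rw [Algebra.TensorProduct.lift_tmul, map_one, mul_one]
    rfl
  haveI : IsScalarTower A (P ⊗[R] A) SA := IsScalarTower.of_algebraMap_eq fun a => by
    show _ = θ ((1 : P) ⊗ₜ[R] a)
    rw [Algebra.TensorProduct.lift_tmul, map_one, one_mul]
    rfl
  haveI : Algebra.IsPushout P S (P ⊗[R] A) SA :=
    (Algebra.IsPushout.comp_iff R P A (P ⊗[R] A) (T := S) (T' := SA)).1 inferInstance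
  have hf : IsBaseChange (P ⊗[R] A) (IsScalarTower.toAlgHom P S SA).toLinearMap :=
    (Algebra.IsPushout.symm (inferInstance : Algebra.IsPushout P S (P ⊗[R] A) SA)).out
  obtain ⟨φ, hφS, hφR⟩ := Lib.RG.NearApply.exists_toModel (R := R) (S := P) (SA := P ⊗[R] A) p'
  let g := φ h
  haveI hfp : Module.FinitePresentation (Localization.Away g) (LocalizedModule (Submonoid.powers g) SA) :=
    Lib.RG.NearApply.fp_model _ hgood.2 _ hf g
      (fun Q hQ hgQ => haveI := hQ; Lib.RG.NearApply.mem_shadow p' hφS hφR h Q hgQ)
  haveI hfl : Module.Flat A (LocalizedModule (Submonoid.powers g) SA) :=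
    Lib.RG.NearApply.flat_model p' hφS hφR _ hf h hgood
  refine ⟨θ g, fun Q _ hQq hQm => ?_, ?_⟩
  · haveI := hQq
    haveI : (Q.comap θ.toRingHom).LiesOver Q₀ := ⟨by
      show q.comap (algebraMap P S) = (Q.comap (algebraMap (P ⊗[R] A) SA)).comap (algebraMap P (P ⊗[R] A))
      rw [Ideal.comap_comap, ← IsScalarTower.algebraMap_eq, Q.over_def q]
      show (Q.comap (algebraMap S SA)).comap (algebraMap P S) = _
      rw [Ideal.comap_comap]
      rfl⟩
    haveI : (Q.comap θ.toRingHom).LiesOver (IsLocalRing.maximalIdeal A) := ⟨by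
      show _ = (Q.comap (algebraMap (P ⊗[R] A) SA)).comap (algebraMap A (P ⊗[R] A))
      rw [Ideal.comap_comap, ← IsScalarTower.algebraMap_eq]
      exact hQm.over⟩
    exact Lib.RG.NearApply.notMem_of_point p' hφS hφR Q₀ h hh (Q.comap θ.toRingHom) inferInstance
  · let Pg := Localization.Away g
    let Sh := Localization.Away (θ g)
    letI : Algebra Pg Sh := (IsLocalization.Away.map Pg Sh (algebraMap (P ⊗[R] A) SA) g).toAlgebra
    haveI : IsScalarTower (P ⊗[R] A) Pg Sh := IsScalarTower.of_algebraMap_eq fun a => by
      show algebraMap (P ⊗[R] A) Sh a =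
        IsLocalization.Away.map Pg Sh (algebraMap (P ⊗[R] A) SA) g (algebraMap (P ⊗[R] A) Pg a)
      rw [IsLocalization.Away.map, IsLocalization.map_eq]
      exact IsScalarTower.algebraMap_apply (P ⊗[R] A) SA Sh a
    haveI : IsScalarTower A Pg Sh := IsScalarTower.of_algebraMap_eq fun a => by
      rw [IsScalarTower.algebraMap_apply A (P ⊗[R] A) Sh, IsScalarTower.algebraMap_apply (P ⊗[R] A) Pg Sh,
        ← IsScalarTower.algebraMap_apply A (P ⊗[R] A) Pg]
    haveI : IsLocalization (Algebra.algebraMapSubmonoid SA (Submonoid.powers g)) Sh := by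
      rw [Algebra.algebraMapSubmonoid_powers]
      exact (inferInstance : IsLocalization (Submonoid.powers (θ g)) Sh)
    let l := (IsScalarTower.toAlgHom (P ⊗[R] A) SA Sh).toLinearMap
    haveI : IsLocalizedModule (Submonoid.powers g) l := isLocalizedModule_iff_isLocalization.2 inferInstance
    let e : LocalizedModule (Submonoid.powers g) SA ≃ₗ[Pg] Sh :=
      (IsLocalizedModule.iso (Submonoid.powers g) l).extendScalarsOfIsLocalization (Submonoid.powers g) Pg
    haveI : Module.FinitePresentation Pg Sh := Module.FinitePresentation.of_equiv e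
    haveI : Algebra.FinitePresentation A (P ⊗[R] A) :=
      Algebra.FinitePresentation.equiv (Algebra.TensorProduct.commRight R A P)
    haveI : Algebra.FinitePresentation A Pg := Algebra.FinitePresentation.trans A (P ⊗[R] A) Pg
    haveI : Algebra.FinitePresentation Pg Sh := inferInstance
    exact ⟨Module.Flat.of_linearEquiv ((IsLocalizedModule.iso (Submonoid.powers g) l).symm.restrictScalars A),
      Algebra.FinitePresentation.trans A Pg Sh⟩

end Groth.Agent.S1263
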