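import Groth.Statements.S12631
import Groth.Agent.Lib.FunFld.Res.Omega
-- import your own Groth.Agent.* helpers here

set_option autoImplicit false
universe u v w
open FunFld

namespace Groth.Agent.S12631
open Groth.Agent.Lib.FunFld Groth.Agent.Lib.FunFld.Res

/-- Let `K/k` be a geometric function field of one variable of genus one all of whose places carry a
Laurent expansion over `k` in a local parameter (so every place is separable), and `v ∈ K` with `dv
≠ 0`. Then there is a nonzero `u ∈ K` whose differential `u dv` has divisor zero — the order of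
`φ_P(u) · (φ_P v)′` is `0` at every place `P` — and such a `u` is unique up to a factor from `k`.
(The published statement concerns elliptic curves over algebraically closed fields; this row is the
form for any constant field under the stated separability of all places.) -/
theorem result (k : Type u) (K : Type v) [Field k] [Field K] [Algebra k K]
    (hK : FunFld.IsFunctionField k K) (hg : FunFld.IsGeometric k K) (h1 : FunFld.genus k K = 1)
    (F : FunFld.Place k K → Type w) [∀ P, Field (F P)] [∀ P, Algebra k (F P)] [∀ P, FiniteDimensional k (F P)]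
    (φ : ∀ P, K →ₐ[k] LaurentSeries (F P)) (hφ : ∀ P, LocRes.IsExpansionAt P.1 (φ P))
    (v : K) (hv : KaehlerDifferential.D k K v ≠ 0) :
    (∃ u : K, u ≠ 0 ∧ ∀ P, LocRes.vDiff (φ P) u v = 1) ∧
      ∀ u u' : K, u ≠ 0 → (∀ P, LocRes.vDiff (φ P) u v = 1) → (∀ P, LocRes.vDiff (φ P) u' v = 1) →
        ∃ c : k, u' = c • u := by
  have hsep := Hasse.Separable.exists_isSep_of_geometric hK hg
  obtain ⟨C, hC⟩ := Weil.exists_isCanonical hK
  set S := Submodule.span k {y : K | ∀ P, LocRes.vDiff (φ P) y v ≤ 1}
  have hdim : Module.finrank k S = 1 := by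
    have h := Omega.finrank_span φ hφ hK hsep hv (0 : FunFld.Divisor k K)
    rw [Weil.finrank_WD_eq_ell hK hC, sub_zero, Weil.ell_canonical hK hC, h1] at h
    refine Eq.trans ?_ h
    congr 1
  refine ⟨?_, fun u u' hu h h' => ?_⟩
  · obtain ⟨⟨y, hyS⟩, hy0, -⟩ := finrank_eq_one_iff'.mp hdim
    have hy0' : y ≠ 0 := fun h => hy0 (Subtype.ext h)
    have hyset : ∀ P, LocRes.vDiff (φ P) y v ≤ 1 := by
      refine Submodule.span_induction (fun z hz => hz)
        (fun P => by rw [LocRes.vDiff, map_zero, zero_mul, map_zero]; exact zero_le)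
        (fun a b _ _ ha hb P => ?_) (fun c a _ ha P => ?_) hyS
      · rw [LocRes.vDiff, map_add, add_mul]
        exact Valuation.map_add_le _ (ha P) (hb P)
      · rw [Algebra.smul_def, Omega.vDiff_mul, (hφ P).1]
        exact mul_le_one' (P.2.1 c) (ha P)
    obtain ⟨C', hC', hC'v⟩ := Omega.exists_canonical φ hφ hK hsep hy0' hv
    have hdeg : C'.deg = 0 := by rw [Weil.deg_canonical hK hC', h1]; norm_num
    refine ⟨y, hy0', fun P => ?_⟩
    have h0 := Omega.vDiff_ne_zero φ hφ hK hsep hy0' hv P
    have hnn : ∀ Q, 0 ≤ C' Q := fun Q => by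
      have := hyset Q
      rw [← WithZero.exp_log (Omega.vDiff_ne_zero φ hφ hK hsep hy0' hv Q), ← WithZero.exp_zero,
        WithZero.exp_le_exp] at this
      rw [hC'v, LocRes.ordDiff]
      omega
    have hle : Finsupp.single P (C' P) ≤ C' := Finsupp.le_def.mpr fun Q => by
      rcases eq_or_ne Q P with rfl | hQ
      · rw [Finsupp.single_eq_same]
      · rw [Finsupp.single_eq_of_ne hQ]; exact hnn Q
    have h2 := Degree.deg_mono hle
    rw [Degree.deg_single, hdeg] at h2
    have h3 : C' P = 0 := by
      have h4 : (0 : ℤ) < P.deg := by exact_mod_cast Existence.deg_pos hK P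
      nlinarith [hnn P]
    rw [hC'v, LocRes.ordDiff, neg_eq_zero] at h3
    rw [← WithZero.exp_log h0, h3, WithZero.exp_zero]
  · obtain ⟨c, hc⟩ := exists_smul_eq_of_finrank_eq_one hdim
      (x := (⟨u, Submodule.subset_span fun P => (h P).le⟩ : S)) (fun e => hu (congrArg Subtype.val e))
      ⟨u', Submodule.subset_span fun P => (h' P).le⟩
    exact ⟨c, (congrArg Subtype.val hc).symm⟩

end Groth.Agent.S12631
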