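import Groth.Statements.S7635
import Groth.Agent.Lib.KunnethAD.Main
import Groth.Agent.Lib.QuadricKer.Box

set_option autoImplicit false
universe u
open CategoryTheory CategoryTheory.Limits AlgebraicGeometry
open scoped TensorProduct
open Variety

namespace Groth.Agent.S7635

open Groth.Agent AlgebraicGeometry CategoryTheory CategoryTheory.Limits
set_option linter.style.haveILetI false
set_option maxHeartbeats 1000000

/-- Let X and Y be quasi-compact schemes over a field k whose diagonal morphisms over k are affine (for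
instance X and Y separated over k), F a quasi-coherent O_X-module and G a quasi-coherent O_Y-module.
Then for every n ≥ 0 the k-vector space H^n(X ×_k Y, pr_1^*F ⊗ pr_2^*G) is isomorphic to ⊕_{p+q=n}
H^p(X, F) ⊗_k H^q(Y, G). (The published statement asserts that the canonical map built from
pullbacks and cup products is an isomorphism; this row asserts only that some k-linear isomorphism
exists.) -/
theorem result (k : Type u) [Field k] (X : Scheme.{u}) [X.Over (Spec (CommRingCat.of k))] [CompactSpace ↥X] [IsAffineHom (pullback.diagonal (X ↘ (Spec (CommRingCat.of k))))]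
    (Y : Scheme.{u}) [Y.Over (Spec (CommRingCat.of k))] [CompactSpace ↥Y] [IsAffineHom (pullback.diagonal (Y ↘ (Spec (CommRingCat.of k))))]
    (F : X.Modules) (hF : Coh.IsQCoh F) (G : Y.Modules) (hG : Coh.IsQCoh G) (n : ℕ) :
    letI : (pullback (X ↘ (Spec (CommRingCat.of k))) (Y ↘ (Spec (CommRingCat.of k)))).Over (Spec (CommRingCat.of k)) := ⟨pullback.fst (X ↘ (Spec (CommRingCat.of k))) (Y ↘ (Spec (CommRingCat.of k))) ≫ (X ↘ (Spec (CommRingCat.of k)))⟩
    Nonempty ((Π p : Fin (n + 1), Coh.HH X F (p : ℕ) ⊗[k] Coh.HH Y G (n - (p : ℕ))) ≃ₗ[k]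
      Coh.HH (pullback (X ↘ (Spec (CommRingCat.of k))) (Y ↘ (Spec (CommRingCat.of k)))) (CohB1.tensorMod ((Scheme.Modules.pullback (pullback.fst (X ↘ (Spec (CommRingCat.of k))) (Y ↘ (Spec (CommRingCat.of k))))).obj F)
        ((Scheme.Modules.pullback (pullback.snd (X ↘ (Spec (CommRingCat.of k))) (Y ↘ (Spec (CommRingCat.of k))))).obj G)) n) :=  by
  classical
  haveI := hF
  haveI := hG
  haveI : QuasiCompact (X ↘ Spec (CommRingCat.of k)) := (quasiCompact_iff_compactSpace _).2 inferInstance
  haveI : QuasiCompact (Y ↘ Spec (CommRingCat.of k)) := (quasiCompact_iff_compactSpace _).2 inferInstance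
  letI : (pullback (X ↘ (Spec (CommRingCat.of k))) (Y ↘ (Spec (CommRingCat.of k)))).Over (Spec (CommRingCat.of k)) :=
    ⟨pullback.fst (X ↘ (Spec (CommRingCat.of k))) (Y ↘ (Spec (CommRingCat.of k))) ≫ (X ↘ (Spec (CommRingCat.of k)))⟩
  obtain ⟨e⟩ := Lib.KunnethAD.nonempty_kunneth_linear k X Y F G
    (Lib.IntTheory.BaseChange.isFlatOver (k := k) _) (fun _ => inferInstance) n
  let σ : Fin (n + 1) ≃ ↥(Finset.HasAntidiagonal.antidiagonal n) :=
    { toFun := fun p => ⟨((p : ℕ), n - (p : ℕ)), Finset.HasAntidiagonal.mem_antidiagonal.2 (by omega)⟩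
      invFun := fun pq => ⟨pq.1.1, by have := Finset.HasAntidiagonal.mem_antidiagonal.1 pq.2; omega⟩
      left_inv := fun p => rfl
      right_inv := fun pq => by
        have := Finset.HasAntidiagonal.mem_antidiagonal.1 pq.2
        apply Subtype.ext
        exact Prod.ext rfl (by simp only; omega) }
  exact ⟨(LinearEquiv.piCongrLeft k (fun pq : ↥(Finset.HasAntidiagonal.antidiagonal n) =>
      TensorProduct k (Coh.HH X F pq.1.1) (Coh.HH Y G pq.1.2)) σ).trans
    ((DirectSum.linearEquivFunOnFintype k _ _).symm.trans e.symm)⟩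

end Groth.Agent.S7635
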