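import Groth.Statements.S1265
import Groth.Agent.H22.Nil
import Groth.Agent.Lib.FlatCA.Impurity
import Mathlib.RingTheory.SimpleModule.InjectiveProjective

set_option autoImplicit false
universe u
open FlatMor

namespace Groth.Agent.S1265

open TensorProduct in
theorem cancel_baseChange {A X Y : Type u} [CommRing A] [AddCommGroup X] [Module A X] [AddCommGroup Y] [Module A Y]
    (S Q : Type u) [CommRing S] [Algebra A S] [AddCommGroup Q] [Module A Q]
    [Module S Q] [IsScalarTower A S Q] (φ : X →ₗ[A] Y) (z : Q ⊗[S] (S ⊗[A] X)) :
    AlgebraTensorModule.cancelBaseChange A S S Q Y ((φ.baseChange S).lTensor Q z) =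
      φ.lTensor Q (AlgebraTensorModule.cancelBaseChange A S S Q X z) := by
  induction z using TensorProduct.induction_on with
  | zero => simp
  | add a b ha hb => simp only [map_add, ha, hb]
  | tmul q w =>
    induction w using TensorProduct.induction_on with
    | zero => simp
    | add a b ha hb => simp only [TensorProduct.tmul_add, map_add, ha, hb]
    | tmul s n => simp

/-- Ring form, stated for X = Spec B affine: let A be an Artinian ring, B an A-algebra and N a B-module.
Then there is an ideal I of A such that for every A-algebra A', with B' = B ⊗_A A' and N' the base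
change of N (any models), N' is flat over A' if and only if IA' = 0. -/
theorem result {A B : Type u} [CommRing A] [IsArtinianRing A] [CommRing B] [Algebra A B]
    (N : Type u) [AddCommGroup N] [Module B N] [Module A N] [IsScalarTower A B N] :
    ∃ I : Ideal A, ∀ (A' B' N' : Type u) [CommRing A'] [CommRing B'] [Algebra A A'] [Algebra B B'] [Algebra A' B'] [Algebra A B']
      [IsScalarTower A B B'] [IsScalarTower A A' B'] [Algebra.IsPushout A B A' B']
      [AddCommGroup N'] [Module B' N'] [Module B N'] [IsScalarTower B B' N'] [Module A' N'] [IsScalarTower A' B' N']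
      (f : N →ₗ[B] N'), IsBaseChange B' f →
      (Module.Flat A' N' ↔ I.map (algebraMap A A') = ⊥) := by
  classical
  let J : Ideal A := nilradical A
  have hJ : IsNilpotent J := IsArtinianRing.isNilpotent_nilradical
  haveI : IsReduced (A ⧸ J) := (Ideal.isRadical_iff_quotient_reduced _).1 (Ideal.radical_isRadical _)
  haveI : IsSemisimpleRing (A ⧸ J) := IsArtinianRing.isSemisimpleRing_of_isReduced _
  haveI : Module.Projective (A ⧸ J) (TensorProduct A (A ⧸ J) N) := Module.projective_of_isSemisimpleRing _ _
  obtain ⟨P, _, _, hP, φ, hφT⟩ : ∃ (P : Type u) (_ : AddCommGroup P) (_ : Module A P) (_ : Module.Projective A P)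
      (φ : P →ₗ[A] N), Function.Bijective (φ.lTensor (A ⧸ J)) := by
    obtain ⟨P, hP, ⟨e⟩⟩ := H22.Nil.exists_projective_lift hJ (TensorProduct A (A ⧸ J) N)
    obtain ⟨φ, hφ⟩ := H22.Nil.exists_lift (M := P) (N := N) (A ⧸ J) Ideal.Quotient.mk_surjective e.toLinearMap
    refine ⟨P, P.addCommGroup, P.module, hP, φ, ?_⟩
    show Function.Bijective (φ.baseChange (A ⧸ J))
    rw [hφ]
    exact e.bijective
  have hφs : Function.Surjective φ := H22.Nil.surjective_of_lTensor hJ φ hφT.2
  obtain ⟨s, hs⟩ := Module.projective_lifting_property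
    (Finsupp.linearCombination A (id : P → P)) LinearMap.id (Finsupp.linearCombination_id_surjective A P)
  let c : P → P → A := fun k i => s k i
  refine ⟨Ideal.span {a | ∃ k ∈ LinearMap.ker φ, ∃ i, c k i = a},
    fun A' B' N' _ _ _ _ _ _ _ _ _ _ _ _ _ _ _ f hf => ?_⟩
  let e' : N' ≃ₗ[A'] TensorProduct A A' N := Lib.FlatCA.Impurity.baseChangeEquiv (A := A) (B := B) (B' := B') inferInstance f hf
  let φ' := φ.baseChange A'
  have hφ's : Function.Surjective φ' := LinearMap.lTensor_surjective A' hφs
  constructor
  · intro h
    haveI : Module.Flat A' (TensorProduct A A' N) := Module.Flat.of_linearEquiv e'.symm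
    have hbij : Function.Bijective φ' := by
      refine H22.Nil.bijective_of_lTensor (I := J.map (algebraMap A A')) (hJ.map (Ideal.mapHom (algebraMap A A'))) φ' ?_
      let C := A' ⧸ J.map (algebraMap A A')
      letI : Algebra (A ⧸ J) C := (Ideal.quotientMap _ (algebraMap A A') Ideal.le_comap_map).toAlgebra
      haveI : IsScalarTower A (A ⧸ J) C := IsScalarTower.of_algebraMap_eq fun _ => rfl
      let a := fun (X : Type u) [AddCommGroup X] [Module A X] =>
        (TensorProduct.AlgebraTensorModule.cancelBaseChange A A' A' C X).restrictScalars A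
      let b := fun (X : Type u) [AddCommGroup X] [Module A X] =>
        (TensorProduct.AlgebraTensorModule.cancelBaseChange A (A ⧸ J) (A ⧸ J) C X).restrictScalars A
      have h1 : ∀ z, a N (φ'.lTensor C z) = φ.lTensor C (a P z) := fun z =>
        cancel_baseChange A' C φ z
      have h2 : ∀ z, b N ((φ.baseChange (A ⧸ J)).lTensor C z) = φ.lTensor C (b P z) := fun z =>
        cancel_baseChange (A ⧸ J) C φ z
      have h3 : Function.Bijective (φ.lTensor C) := by
        have h4 : Function.Bijective ((φ.baseChange (A ⧸ J)).lTensor C) :=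
          (LinearEquiv.lTensor C (LinearEquiv.ofBijective (φ.baseChange (A ⧸ J)) hφT)).bijective
        rw [show φ.lTensor C = b N ∘ (φ.baseChange (A ⧸ J)).lTensor C ∘ (b P).symm from funext fun z => by
          rw [Function.comp_apply, Function.comp_apply, h2, LinearEquiv.apply_symm_apply]]
        exact (b N).bijective.comp (h4.comp (b P).symm.bijective)
      rw [show (φ'.lTensor C : _ → _) = (a N).symm ∘ φ.lTensor C ∘ a P from funext fun z => by
        rw [Function.comp_apply, Function.comp_apply, ← h1, LinearEquiv.symm_apply_apply]]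
      exact (a N).symm.bijective.comp (h3.comp (a P).bijective)
    rw [Ideal.map_eq_bot_iff_le_ker, Ideal.span_le]
    rintro _ ⟨k, hk, i, rfl⟩
    let ψ : P →ₗ[A] A := Finsupp.lapply i ∘ₗ s
    have h0 : (1 : A') ⊗ₜ[A] k = 0 := hbij.1 (by
      rw [LinearMap.baseChange_tmul, LinearMap.mem_ker.1 hk, TensorProduct.tmul_zero, map_zero])
    have h1 := congrArg (TensorProduct.rid A A') (congrArg (ψ.lTensor A') h0)
    rw [LinearMap.lTensor_tmul, TensorProduct.rid_tmul, map_zero, map_zero, ← Algebra.algebraMap_eq_smul_one] at h1
    exact h1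
  · intro hI
    have hker : ∀ k ∈ LinearMap.ker φ, (1 : A') ⊗ₜ[A] k = 0 := by
      intro k hk
      have hk' : k = ∑ i ∈ (s k).support, c k i • i := by
        conv_lhs => rw [← LinearMap.id_apply (R := A) k, ← hs, LinearMap.comp_apply, Finsupp.linearCombination_apply]
        rfl
      rw [hk', TensorProduct.tmul_sum]
      refine Finset.sum_eq_zero fun i _ => ?_
      have : algebraMap A A' (c k i) = 0 := by
        rw [← Ideal.mem_bot, ← hI]
        exact Ideal.mem_map_of_mem _ (Ideal.subset_span ⟨k, hk, i, rfl⟩)
      rw [← TensorProduct.smul_tmul, Algebra.smul_def, this, zero_mul, TensorProduct.zero_tmul]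
    have hinj : Function.Injective φ' := by
      rw [injective_iff_map_eq_zero]
      intro z hz
      obtain ⟨w, rfl⟩ := (lTensor_exact A' (LinearMap.exact_subtype_ker_map φ) hφs z).1 hz
      clear hz
      induction w using TensorProduct.induction_on with
      | zero => rw [map_zero]
      | add x y hx hy => rw [map_add, hx, hy, add_zero]
      | tmul a k =>
        rw [LinearMap.lTensor_tmul, ← mul_one a, ← smul_eq_mul, ← TensorProduct.smul_tmul', Submodule.subtype_apply,
          hker k.1 k.2, smul_zero]
    exact Module.Flat.of_linearEquiv (e'.trans (LinearEquiv.ofBijective φ' ⟨hinj, hφ's⟩).symm)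

end Groth.Agent.S1265
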