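import Groth.Statements.S12659
import Groth.Agent.Lib.Cyc.CH.PushCh

set_option autoImplicit false
universe u
open CategoryTheory CategoryTheory.Limits AlgebraicGeometry
open Cyc

namespace Groth.Agent.S12659

/-- Chern class caps commute with proper pushforward: for f : X → Y proper, E finite locally free of
rank r on Y and α a k-cycle on X, f_*(c_j(f^*E) ∩ α) = c_j(E) ∩ f_*α in CH_{k-j}(Y). The caps of
f^*E are taken through the base-changed bundle P' = X ×_Y P (a cartesian square) with O_{P'}(1) the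
pullback of O_P(1) and the induced dimension function on P'; f_* is the proper pushforward of
cycles. Setting: (X, δ) with Cyc.IsSetup stands for a scheme locally of finite type over the base
(S, δ) (X locally Noetherian with universally catenary local rings, δ a dimension function); (p : P
→ X, O_P(1), q) is the projective bundle of E given by its universal property (KRR.IsProjBundle), p
is proper and δP is the induced dimension function (Cyc.DeltaCompat); a tuple γ with Cyc.IsChernCap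
represents (c_0(E) ∩ α, …, c_r(E) ∩ α) through the defining relation Σ_i (-1)^i c_1(O_P(1))^i ∩
p^*(γ_{r-i}) ∼_rat 0 on P, and classes are compared up to rational equivalence of representing
cycles. -/
theorem result (X Y : Scheme.{u}) (δX : X → ℤ) (δY : Y → ℤ) (hX : Cyc.IsSetup X δX) (hY : Cyc.IsSetup Y δY) (f : X ⟶ Y) [IsProper f] (hf : Cyc.DeltaCompat f δX δY) (r : ℕ) (E : Y.Modules) (hPE : FlatMod.IsFinLocFreeOfRank r E) (P : Scheme.{u}) (π : P ⟶ Y) (O1 : P.Modules) (q : (Scheme.Modules.pullback π).obj E ⟶ O1) (hP : KRR.IsProjBundle π E O1 q) [IsProper π] (δP : P → ℤ) (hPs : Cyc.IsSetup P δP) (hπ : Cyc.DeltaCompat π δP δY) (P' : Scheme.{u}) (π' : P' ⟶ X) (f' : P' ⟶ P) (hsq : IsPullback f' π' π f) (δP' : P' → ℤ) (hPs' : Cyc.IsSetup P' δP') (hπ' : Cyc.DeltaCompat π' δP' δX) (k : ℤ) (α : AlgebraicCycle X ℤ) (hα : α ∈ Cyc.Zk X δX k) (γ : Fin (r + 1) → AlgebraicCycle X ℤ) (hγ : Cyc.IsChernCap π' δX δP' ((Scheme.Modules.pullback f').obj O1) r k α γ) (γ' : Fin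 (r + 1) → AlgebraicCycle Y ℤ) (hγ' : Cyc.IsChernCap π δY δP O1 r k (AlgebraicCycle.map f δX δY α) γ') (j : Fin (r + 1)) : Cyc.RatEquiv δY (k - ((j : ℕ) : ℤ)) (AlgebraicCycle.map f δX δY (γ j)) (γ' j) := by
  haveI := hX.1
  haveI := hY.1
  haveI := hPs.1
  haveI := hPs'.1
  haveI : IsProper π' := MorphismProperty.of_isPullback hsq inferInstance
  haveI : IsProper f' := MorphismProperty.of_isPullback hsq.flip inferInstance
  rcases r with _ | n
  · have h0 : j = 0 := Fin.ext (by have := j.2; omega)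
    subst h0
    rw [hγ.1, hγ'.1]
    exact Lib.Cyc.Ord.ratEquiv_refl _ _ _
  have B := Lib.Cyc.CH.Bdl.of_isProjBundle hY.2.2 hPs.2.2 hπ hP hPE
  have B' := B.baseChange hsq hX.2.2 hPs'.2.2 hπ'
  have hm : AlgebraicCycle.map f δX δY α ∈ Cyc.Zk Y δY k := Lib.Cyc.CH.map_mem f hα
  have hγj := hγ.2.1 j
  rw [← Lib.Cyc.CH.cls_eq_iff hY.2.2 (Lib.Cyc.CH.map_mem f hγj) (hγ'.2.1 j),
    B.cls_eq_ch hγ' hm j, ← Lib.Cyc.CH.push_cls hX.2.2 hY.2.2 f hf hγj rfl (Lib.Cyc.CH.map_mem f hγj),
    ← Lib.Cyc.CH.push_cls hX.2.2 hY.2.2 f hf hα rfl hm, ← B.push_ch hsq B' hf,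
    ← B'.cls_eq_ch hγ hα j]

end Groth.Agent.S12659
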