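import Groth.Statements.S1266
import Groth.Agent.H26.UnivInjFibre
import Groth.Agent.Lib.FlatCA.LocalModel


set_option autoImplicit false
universe u
open FlatMor

namespace Groth.Agent.S1266

open TensorProduct in
/-- Let B be a finitely presented A-algebra, T a multiplicative subset of B, and N a finitely presented
module over the localization T⁻¹B which is flat as an A-module. Let M be a flat A-module and u an
A-linear map from N to M such that u ⊗ κ(p) is injective for every prime p of A. Then u is
universally injective over A. -/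
theorem result {A B : Type u} [CommRing A] [CommRing B] [Algebra A B] [Algebra.FinitePresentation A B]
    (T : Submonoid B) (N : Type u) [AddCommGroup N] [Module (Localization T) N] [Module A N] [IsScalarTower A (Localization T) N]
    [Module.FinitePresentation (Localization T) N] [Module.Flat A N]
    (M : Type u) [AddCommGroup M] [Module A M] [Module.Flat A M] (u : N →ₗ[A] M)
    (h : ∀ (p : Ideal A) [p.IsPrime], Function.Injective (u.lTensor p.ResidueField)) :
    FlatCA.UnivInj A u := by
  classical
  obtain ⟨n, f, hf, hker⟩ := ‹Algebra.FinitePresentation A B›.out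
  letI : Module B N := Module.compHom N (algebraMap B (Localization T))
  haveI : IsScalarTower B (Localization T) N := IsScalarTower.of_algebraMap_smul fun _ _ => rfl
  obtain ⟨N₀, _, _, _, l₀, hl₀⟩ :=
    Groth.Agent.Lib.FlatCA.LocalModel.exists_descend (S := Localization T) (N := N) T
  haveI : IsLocalizedModule T l₀ := (isLocalizedModule_iff_isBaseChange T (Localization T) l₀).2 hl₀
  letI : Algebra (MvPolynomial (Fin n) A) B := f.toRingHom.toAlgebra
  letI : Module (MvPolynomial (Fin n) A) N := Module.compHom N f.toRingHom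
  letI : Module (MvPolynomial (Fin n) A) N₀ := Module.compHom N₀ f.toRingHom
  haveI : IsScalarTower (MvPolynomial (Fin n) A) B N₀ := IsScalarTower.of_algebraMap_smul fun _ _ => rfl
  haveI : IsScalarTower A B (Localization T) := inferInstance
  haveI : IsScalarTower A (MvPolynomial (Fin n) A) N := IsScalarTower.of_algebraMap_smul fun a x => by
    show f (algebraMap A _ a) • x = a • x
    rw [f.commutes]
    show algebraMap B (Localization T) (algebraMap A B a) • x = a • x
    rw [← IsScalarTower.algebraMap_apply, algebraMap_smul]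
  haveI : Module.FinitePresentation (MvPolynomial (Fin n) A) B :=
    Module.finitePresentation_of_surjective (Algebra.linearMap (MvPolynomial (Fin n) A) B) hf hker
  haveI : Module.FinitePresentation (MvPolynomial (Fin n) A) N₀ :=
    Module.FinitePresentation.trans (MvPolynomial (Fin n) A) N₀ B
  obtain ⟨m, K, e, hK⟩ := Module.FinitePresentation.exists_fin (MvPolynomial (Fin n) A) N₀
  obtain ⟨k, J, hJ⟩ := Submodule.fg_iff_exists_fin_generating_family.1 hK
  let l₀P : N₀ →ₗ[MvPolynomial (Fin n) A] N :=
    { toFun := l₀, map_add' := l₀.map_add, map_smul' := fun c x => l₀.map_smul (f c) x }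
  let l : (Fin m → MvPolynomial (Fin n) A) →ₗ[MvPolynomial (Fin n) A] N :=
    l₀P ∘ₗ e.symm.toLinearMap ∘ₗ K.mkQ
  have hsurj0 : Function.Surjective (e.symm.toLinearMap ∘ₗ K.mkQ) :=
    e.symm.surjective.comp K.mkQ_surjective
  apply H26.UnivInjFibre.univInj_of_reps u h
  intro p _
  refine H26.UnivInjFibre.reps (T.comap f.toRingHom.toMonoidHom) l J ?_ ?_ ?_ ?_ p
  · intro x
    obtain ⟨⟨x₀, t⟩, hx⟩ := IsLocalizedModule.surj T l₀ x
    obtain ⟨t', ht'⟩ := hf t
    obtain ⟨v, hv⟩ := hsurj0 x₀
    refine ⟨t', ?_, v, ?_⟩
    · show f t' ∈ T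
      rw [ht']; exact t.2
    · show f t' • x = l₀ ((e.symm.toLinearMap ∘ₗ K.mkQ) v)
      rw [hv, ht']; exact hx
  · intro j
    have : J j ∈ K := hJ ▸ Submodule.subset_span ⟨j, rfl⟩
    show l₀ (e.symm (K.mkQ (J j))) = 0
    rw [Submodule.mkQ_apply, (Submodule.Quotient.mk_eq_zero K).2 this, map_zero, map_zero]
  · intro v hv
    obtain ⟨⟨t, ht⟩, htv⟩ := (IsLocalizedModule.eq_zero_iff T l₀).1
      (show l₀ ((e.symm.toLinearMap ∘ₗ K.mkQ) v) = 0 from hv)
    obtain ⟨t', rfl⟩ := hf t
    refine ⟨t', ht, ?_⟩
    rw [hJ, ← Submodule.Quotient.mk_eq_zero K]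
    apply e.symm.injective
    rw [map_zero, Submodule.Quotient.mk_smul, map_smul]
    exact htv
  · intro t ht
    exact (Module.End.isUnit_iff _).1 (IsLocalizedModule.map_units l₀ (⟨f t, ht⟩ : T))

end Groth.Agent.S1266
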