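import Groth.Statements.S12660
import Groth.Agent.Lib.Cyc.CH.Square
import Groth.Agent.S9358

set_option autoImplicit false
universe u
open CategoryTheory CategoryTheory.Limits AlgebraicGeometry
open Cyc

namespace Groth.Agent.S12660

/-- Chern class caps commute with flat pullback: for f : X → Y flat of relative dimension c, E finite
locally free of rank r on Y and α a k-cycle on Y, f^*(c_j(E) ∩ α) = c_j(f^*E) ∩ f^*α in
CH_{k+c-j}(X). Flat pullbacks of cycles are taken coefficientwise (Cyc.pullFun); the caps of f^*E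
are taken through the base-changed bundle P' = X ×_Y P (a cartesian square) with O_{P'}(1) the
pullback of O_P(1) and the induced dimension function on P'. (The published statement writes the
same letter for the rank of E and the relative dimension of f; the two are independent here, as in
its proof.) Setting: (X, δ) with Cyc.IsSetup stands for a scheme locally of finite type over the
base (S, δ) (X locally Noetherian with universally catenary local rings, δ a dimension function); (p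
: P → X, O_P(1), q) is the projective bundle of E given by its universal property
(KRR.IsProjBundle), p is proper and δP is the induced dimension function (Cyc.DeltaCompat); a tuple
γ with Cyc.IsChernCap represents (c_0(E) ∩ α, …, c_r(E) ∩ α) through the defining relation Σ_i
(-1)^i c_1(O_P(1))^i ∩ p^*(γ_{r-i}) ∼_rat 0 on P, and classes are compared up to rational
equivalence of representing cycles. -/
theorem result (X Y : Scheme.{u}) (δX : X → ℤ) (δY : Y → ℤ) (hX : Cyc.IsSetup X δX) (hY : Cyc.IsSetup Y δY) (f : X ⟶ Y) [Flat f] [LocallyOfFiniteType f] (c : ℕ) (hc : Cyc.HasRelDim f c) (hf : Cyc.DeltaCompat f δX δY) (r : ℕ) (E : Y.Modules) (hPE : FlatMod.IsFinLocFreeOfRank r E) (P : Scheme.{u}) (π : P ⟶ Y) (O1 : P.Modules) (q : (Scheme.Modules.pullback π).obj E ⟶ O1) (hP : KRR.IsProjBundle π E O1 q) [IsProper π] (δP : P → ℤ) (hPs : Cyc.IsSetup P δP) (hπ : Cyc.DeltaCompat π δP δY) (P' : Scheme.{u}) (π' : P' ⟶ X) (f' : P' ⟶ P) (hsq : IsPullback f' π' π f) (δP' :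 P' → ℤ) (hPs' : Cyc.IsSetup P' δP') (hπ' : Cyc.DeltaCompat π' δP' δX) (k : ℤ) (α : AlgebraicCycle Y ℤ) (hα : α ∈ Cyc.Zk Y δY k) (αX : AlgebraicCycle X ℤ) (hαX : ⇑αX = Cyc.pullFun f δX δY c ⇑α) (γ : Fin (r + 1) → AlgebraicCycle Y ℤ) (hγ : Cyc.IsChernCap π δY δP O1 r k α γ) (γ' : Fin (r + 1) → AlgebraicCycle X ℤ) (hγ' : Cyc.IsChernCap π' δX δP' ((Scheme.Modules.pullback f').obj O1) r (k + c) αX γ') (β : Fin (r + 1) → AlgebraicCycle X ℤ) (hβ : ∀ j, ⇑(β j) = Cyc.pullFun f δX δY c ⇑(γ j)) (j : Fin (r + 1)) : Cyc.RatEquiv δX (k + c - ((j : ℕ) : ℤ)) (β j) (γ' j) := by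
  haveI := hX.1
  haveI := hY.1
  haveI := hPs.1
  haveI := hPs'.1
  haveI : IsProper π' := MorphismProperty.of_isPullback hsq inferInstance
  haveI : Flat f' := MorphismProperty.of_isPullback hsq.flip inferInstance
  haveI : LocallyOfFiniteType f' := MorphismProperty.of_isPullback hsq.flip inferInstance
  rcases r with _ | n
  · have h0 : j = 0 := Fin.ext (by have := j.2; omega)
    subst h0
    rw [show β 0 = γ' 0 from Function.locallyFinsuppWithin.ext fun x =>
      congrFun ((hβ 0).trans (by rw [hγ.1, ← hαX, hγ'.1])) x]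
    exact Lib.Cyc.Ord.ratEquiv_refl _ _ _
  have B := Lib.Cyc.CH.Bdl.of_isProjBundle hY.2.2 hPs.2.2 hπ hP hPE
  have B' := B.baseChange hsq hX.2.2 hPs'.2.2 hπ'
  have hc1 : Lib.Cyc.FP.Main.Shift f δX δY c := Lib.Cyc.FP.Main.shift_of_hasRelDim f hc hf
  have hc2 : Lib.Cyc.FP.Main.Shift f' δP' δP c := Lib.Cyc.FP.Main.shift_of_hasRelDim f'
    ((Groth.Agent.S9358.result f π π' f' hsq.flip c).2.2 hc)
    (Lib.Cyc.CH.deltaCompat_of_comm hsq.w hπ hπ' hf)
  have hγj := hγ.2.1 j
  have hβj : β j ∈ Cyc.Zk X δX (k + c - ((j : ℕ) : ℤ)) := by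
    obtain ⟨b, hb, hb'⟩ := Lib.Cyc.CH.PullExists.exists_pullFun (δX := δX) f c hγj
    rw [show β j = b from Function.locallyFinsuppWithin.ext fun x => congrFun ((hβ j).trans hb'.symm) x]
    rwa [show k + c - ((j : ℕ) : ℤ) = k - ((j : ℕ) : ℤ) + c by ring]
  have hαX' : αX ∈ Cyc.Zk X δX (k + c) := by
    obtain ⟨b, hb, hb'⟩ := Lib.Cyc.CH.PullExists.exists_pullFun (δX := δX) f c hα
    rwa [show αX = b from Function.locallyFinsuppWithin.ext fun x => congrFun (hαX.trans hb'.symm) x]
  rw [← Lib.Cyc.CH.cls_eq_iff hX.2.2 hβj (hγ'.2.1 j), B'.cls_eq_ch hγ' hαX' j,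
    ← Lib.Cyc.CH.pull_cls hX.2.2 hY.2.2 f hc1 hα rfl hαX' hαX, ← B.pull_ch hsq B' hc1 hc2,
    ← B.cls_eq_ch hγ hα j]
  exact (Lib.Cyc.CH.pull_cls hX.2.2 hY.2.2 f hc1 hγj (by ring) hβj (hβ j)).symm

end Groth.Agent.S12660
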