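import Groth.Statements.S12663
import Groth.Agent.Lib.Cyc.CH.SubLine

set_option autoImplicit false
universe u
open CategoryTheory CategoryTheory.Limits AlgebraicGeometry
open Cyc

namespace Groth.Agent.S12663

/-- If E, F are finite locally free of ranks m + 1, m on X sitting in a short exact sequence 0 → O_X → E
→ F → 0, then c_{m+1}(E) = 0 and c_j(E) = c_j(F) for j = 0, …, m, as cap operations: for every
k-cycle α, c_{m+1}(E) ∩ α ∼_rat 0 and c_j(E) ∩ α ∼_rat c_j(F) ∩ α. Setting: (X, δ) with Cyc.IsSetup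
stands for a scheme locally of finite type over the base (S, δ) (X locally Noetherian with
universally catenary local rings, δ a dimension function); (p : P → X, O_P(1), q) is the projective
bundle of E given by its universal property (KRR.IsProjBundle), p is proper and δP is the induced
dimension function (Cyc.DeltaCompat); a tuple γ with Cyc.IsChernCap represents (c_0(E) ∩ α, …,
c_r(E) ∩ α) through the defining relation Σ_i (-1)^i c_1(O_P(1))^i ∩ p^*(γ_{r-i}) ∼_rat 0 on P, and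
classes are compared up to rational equivalence of representing cycles. -/
theorem result (X : Scheme.{u}) (δ : X → ℤ) (hX : Cyc.IsSetup X δ) (m : ℕ) (E : X.Modules) (hPE : FlatMod.IsFinLocFreeOfRank (m + 1) E) (P : Scheme.{u}) (p : P ⟶ X) (O1 : P.Modules) (q : (Scheme.Modules.pullback p).obj E ⟶ O1) (hP : KRR.IsProjBundle p E O1 q) [IsProper p] (δP : P → ℤ) (hPs : Cyc.IsSetup P δP) (hδ : Cyc.DeltaCompat p δP δ) (F : X.Modules) (hQE : FlatMod.IsFinLocFreeOfRank m F) (Q : Scheme.{u}) (p' : Q ⟶ X) (O1' : Q.Modules) (q' : (Scheme.Modules.pullback p').obj F ⟶ O1') (hQ : KRR.IsProjBundle p' F O1' q') [IsProper p'] (δQ : Q → ℤ) (hQs : Cyc.IsSetup Q δQ) (hδ' : Cyc.DeltaCompat p' δQ δ) (a : Coh.structureModule X ⟶ E) (b : E ⟶ F) (hab : a ≫ b = 0) (hex : (ShortComplex.mk a b hab).ShortExact) (k : ℤ) (α : AlgebraicCycle X ℤ) (hα : α ∈ Cyc.Zk X δ k) (γ : Fin (m + 2) → AlgebraicCycle X ℤ) (hγ : Cyc.IsChernCap p δ δP O1 (m + 1)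 k α γ) (γ' : Fin (m + 1) → AlgebraicCycle X ℤ) (hγ' : Cyc.IsChernCap p' δ δQ O1' m k α γ') : Cyc.RatEquivZero δ (k - ((m : ℤ) + 1)) (γ (Fin.last (m + 1))) ∧ ∀ j : Fin (m + 1), Cyc.RatEquiv δ (k - ((j : ℕ) : ℤ)) (γ (Fin.castSucc j)) (γ' j) := by
  haveI := hX.1
  haveI := hPs.1
  haveI := hQs.1
  haveI := hP.epi
  have B := Lib.Cyc.CH.Bdl.of_isProjBundle hX.2.2 hPs.2.2 hδ hP hPE
  have hO : PicF.IsInvertible (Coh.structureModule X) := PicLoc.isInvertible_structureModule X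
  have hlast : γ (Fin.last (m + 1)) ∈ Cyc.Zk X δ (k - ((m : ℤ) + 1)) := by
    have := hγ.2.1 (Fin.last (m + 1))
    rwa [Fin.val_last, show k - ((m + 1 : ℕ) : ℤ) = k - ((m : ℤ) + 1) by push_cast; ring] at this
  have hlast' : Lib.Cyc.CH.cls δ (k - ((m : ℤ) + 1)) (γ (Fin.last (m + 1))) hlast =
      B.ch (m + 1) (Lib.Cyc.CH.cls δ k α hα) :=
    (Lib.Cyc.CH.cls_congr (by simp) rfl).trans ((B.cls_eq_ch hγ hα (Fin.last (m + 1))).trans (by rw [Fin.val_last]))
  rcases m with _ | n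
  · refine ⟨?_, fun j => ?_⟩
    · rw [← Lib.Cyc.CH.cls_eq_zero_iff hX.2.2 hlast, hlast']
      refine (B.ch_sub_line_zero (q := q) hQE hO a b hab hex _).trans ?_
      rw [Lib.Cyc.CH.c1_structureModule hX.2.2 hO hX]
      rfl
    · have hj : j = 0 := Fin.ext (by have := j.2; omega)
      subst hj
      rw [show Fin.castSucc (0 : Fin 1) = 0 from rfl, hγ.1, hγ'.1]
      exact Lib.Cyc.Ord.ratEquiv_refl _ _ _
  have BQ := Lib.Cyc.CH.Bdl.of_isProjBundle hX.2.2 hQs.2.2 hδ' hQ hQE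
  have hch : ∀ (i : ℕ) (x : Lib.Cyc.CH.Tot X δ), B.ch i x = BQ.ch i x := by
    intro i x
    rcases i with _ | i
    · rw [B.ch_zero, BQ.ch_zero]
    · rw [B.ch_sub_line (q := q) hPs BQ hQ hO a b hab hex, Lib.Cyc.CH.c1_structureModule hX.2.2 hO hX]
      exact add_zero _
  refine ⟨?_, fun j => ?_⟩
  · rw [← Lib.Cyc.CH.cls_eq_zero_iff hX.2.2 hlast, hlast', hch, BQ.ch_eq_zero (by omega)]
    rfl
  · have h1 : γ (Fin.castSucc j) ∈ Cyc.Zk X δ (k - ((j : ℕ) : ℤ)) := hγ.2.1 (Fin.castSucc j)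
    rw [← Lib.Cyc.CH.cls_eq_iff hX.2.2 h1 (hγ'.2.1 j), BQ.cls_eq_ch hγ' hα j, ← hch]
    exact B.cls_eq_ch hγ hα (Fin.castSucc j)

end Groth.Agent.S12663
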