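import Groth.Statements.S12664
import Groth.Agent.Lib.Cyc.CH.SubLine

set_option autoImplicit false
universe u
open CategoryTheory CategoryTheory.Limits AlgebraicGeometry
open Cyc

namespace Groth.Agent.S12664

/-- If 0 → L → E → F → 0 is a short exact sequence on X with L invertible and E, F finite locally free
of ranks m + 1, m, then c(E) = c(L) c(F), that is c_i(E) = c_i(F) + c_1(L) c_{i-1}(F) for i = 1, …,
m and c_{m+1}(E) = c_1(L) c_m(F), as cap operations on every k-cycle α, with c_1(L) ∩ - computed on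
coefficient functions from any nonzero rational sections (Cyc.c1CapFun) applied to the
representatives of c_{i-1}(F) ∩ α. Setting: (X, δ) with Cyc.IsSetup stands for a scheme locally of
finite type over the base (S, δ) (X locally Noetherian with universally catenary local rings, δ a
dimension function); (p : P → X, O_P(1), q) is the projective bundle of E given by its universal
property (KRR.IsProjBundle), p is proper and δP is the induced dimension function (Cyc.DeltaCompat);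
a tuple γ with Cyc.IsChernCap represents (c_0(E) ∩ α, …, c_r(E) ∩ α) through the defining relation
Σ_i (-1)^i c_1(O_P(1))^i ∩ p^*(γ_{r-i}) ∼_rat 0 on P, and classes are compared up to rational
equivalence of representing cycles. -/
theorem result (X : Scheme.{u}) (δ : X → ℤ) (hX : Cyc.IsSetup X δ) (m : ℕ) (E : X.Modules) (hPE : FlatMod.IsFinLocFreeOfRank (m + 1) E) (P : Scheme.{u}) (p : P ⟶ X) (O1 : P.Modules) (q : (Scheme.Modules.pullback p).obj E ⟶ O1) (hP : KRR.IsProjBundle p E O1 q) [IsProper p] (δP : P → ℤ) (hPs : Cyc.IsSetup P δP) (hδ : Cyc.DeltaCompat p δP δ) (F : X.Modules) (hQE : FlatMod.IsFinLocFreeOfRank m F) (Q : Scheme.{u}) (p' : Q ⟶ X) (O1' : Q.Modules) (q' : (Scheme.Modules.pullback p').obj F ⟶ O1') (hQ : KRR.IsProjBundle p' F O1' q') [IsProper p'] (δQ : Q → ℤ) (hQs : Cyc.IsSetup Q δQ) (hδ' : Cyc.DeltaCompat p' δQ δ) (L : X.Modules) (hL : PicF.IsInvertible L)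 (a : L ⟶ E) (b : E ⟶ F) (hab : a ≫ b = 0) (hex : (ShortComplex.mk a b hab).ShortExact) (k : ℤ) (α : AlgebraicCycle X ℤ) (hα : α ∈ Cyc.Zk X δ k) (γ : Fin (m + 2) → AlgebraicCycle X ℤ) (hγ : Cyc.IsChernCap p δ δP O1 (m + 1) k α γ) (γ' : Fin (m + 1) → AlgebraicCycle X ℤ) (hγ' : Cyc.IsChernCap p' δ δQ O1' m k α γ') (t : (ξ : X) → Cyc.secFibre L ξ) (ht : ∀ ξ, t ξ ≠ 0) (ζ : Fin (m + 1) → AlgebraicCycle X ℤ) (hζ : ∀ j, ⇑(ζ j) = Cyc.c1CapFun δ L ⇑(γ' j) t) : (∀ j : Fin m, Cyc.RatEquiv δ (k - ((j : ℕ) : ℤ) - 1) (γ (Fin.succ (Fin.castSucc j))) (γ' (Fin.succ j) + ζ (Fin.castSucc j))) ∧ Cyc.RatEquiv δ (k - (m : ℤ) - 1) (γ (Fin.last (m + 1))) (ζ (Fin.last m)) := by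
  haveI := hX.1
  haveI := hPs.1
  haveI := hQs.1
  haveI := hP.epi
  have B := Lib.Cyc.CH.Bdl.of_isProjBundle hX.2.2 hPs.2.2 hδ hP hPE
  have hζmem : ∀ i : Fin (m + 1), ζ i ∈ Cyc.Zk X δ (k - ((i : ℕ) : ℤ) - 1) := fun i =>
    Lib.Cyc.CH.c1_mem δ (hγ'.2.1 i) t (hζ i) hX.2.2
  have hc : ∀ i : Fin (m + 1), Lib.Cyc.CH.c1 δ hX.2.2 hL (Lib.Cyc.CH.cls δ (k - ((i : ℕ) : ℤ)) (γ' i) (hγ'.2.1 i)) =
      Lib.Cyc.CH.cls δ (k - ((i : ℕ) : ℤ) - 1) (ζ i) (hζmem i) := fun i =>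
    Lib.Cyc.CH.c1_cls δ hX.2.2 hL (hγ'.2.1 i) rfl (hζmem i) t ht (hζ i)
  rcases m with _ | n
  · refine ⟨fun j => j.elim0, ?_⟩
    have hlast : γ (Fin.last 1) ∈ Cyc.Zk X δ (k - ((0 : ℕ) : ℤ) - 1) := by simpa using hγ.2.1 (Fin.last 1)
    have hz : ζ (Fin.last 0) ∈ Cyc.Zk X δ (k - ((0 : ℕ) : ℤ) - 1) := by simpa using hζmem (Fin.last 0)
    rw [← Lib.Cyc.CH.cls_eq_iff hX.2.2 hlast hz]
    refine (Lib.Cyc.CH.cls_congr (by simp) rfl).trans ((B.cls_eq_ch hγ hα (Fin.last 1)).trans ?_)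
    refine (B.ch_sub_line_zero (q := q) hQE hL a b hab hex _).trans ?_
    refine Eq.trans (congrArg (Lib.Cyc.CH.c1 δ hX.2.2 hL) ?_) ((hc 0).trans (Lib.Cyc.CH.cls_congr (by simp) rfl))
    exact Lib.Cyc.CH.cls_congr (by simp) (by rw [hγ'.1])
  have BQ := Lib.Cyc.CH.Bdl.of_isProjBundle hX.2.2 hQs.2.2 hδ' hQ hQE
  have key : ∀ i : Fin (n + 2), Lib.Cyc.CH.cls δ (k - (((Fin.succ i : Fin (n + 3)) : ℕ) : ℤ)) (γ (Fin.succ i)) (hγ.2.1 _) =
      BQ.ch ((i : ℕ) + 1) (Lib.Cyc.CH.cls δ k α hα) +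
        Lib.Cyc.CH.cls δ (k - ((i : ℕ) : ℤ) - 1) (ζ i) (hζmem i) := fun i => by
    rw [B.cls_eq_ch hγ hα, Fin.val_succ, B.ch_sub_line (q := q) hPs BQ hQ hL a b hab hex, ← hc i,
      BQ.cls_eq_ch hγ' hα i]
  refine ⟨fun j => ?_, ?_⟩
  · have h1 : γ (Fin.succ (Fin.castSucc j)) ∈ Cyc.Zk X δ (k - ((j : ℕ) : ℤ) - 1) := by
      have := hγ.2.1 (Fin.succ (Fin.castSucc j))
      simp only [Fin.val_succ, Fin.val_castSucc, Nat.cast_succ, Nat.cast_add, Nat.cast_one] at this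
      rwa [sub_sub]
    have h2 : γ' (Fin.succ j) ∈ Cyc.Zk X δ (k - ((j : ℕ) : ℤ) - 1) := by
      have := hγ'.2.1 (Fin.succ j)
      simp only [Fin.val_succ, Nat.cast_succ, Nat.cast_add, Nat.cast_one] at this
      rwa [sub_sub]
    have h3 : ζ (Fin.castSucc j) ∈ Cyc.Zk X δ (k - ((j : ℕ) : ℤ) - 1) := by
      simpa using hζmem (Fin.castSucc j)
    rw [← Lib.Cyc.CH.cls_eq_iff hX.2.2 h1 (Lib.Cyc.CH.mem_add h2 h3), Lib.Cyc.CH.cls_add h2 h3]
    refine (Lib.Cyc.CH.cls_congr (by simp [sub_sub]) rfl).trans ((key (Fin.castSucc j)).trans ?_)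
    refine congrArg₂ (· + ·) ?_ (Lib.Cyc.CH.cls_congr (by simp) rfl)
    exact (show _ = BQ.ch ((Fin.succ j : Fin (n + 2)) : ℕ) (Lib.Cyc.CH.cls δ k α hα) by simp).trans
      ((BQ.cls_eq_ch hγ' hα (Fin.succ j)).symm.trans (Lib.Cyc.CH.cls_congr (by simp [sub_sub]) rfl))
  · have h1 : γ (Fin.last (n + 2)) ∈ Cyc.Zk X δ (k - ((n + 1 : ℕ) : ℤ) - 1) := by
      have := hγ.2.1 (Fin.last (n + 2))
      rwa [Fin.val_last, show k - ((n + 1 + 1 : ℕ) : ℤ) = k - ((n + 1 : ℕ) : ℤ) - 1 by push_cast; ring] at this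
    have h2 : ζ (Fin.last (n + 1)) ∈ Cyc.Zk X δ (k - ((n + 1 : ℕ) : ℤ) - 1) := by
      simpa using hζmem (Fin.last (n + 1))
    rw [← Lib.Cyc.CH.cls_eq_iff hX.2.2 h1 h2]
    refine (Lib.Cyc.CH.cls_congr (by simp; ring) (by rw [Fin.succ_last])).trans ((key (Fin.last (n + 1))).trans ?_)
    rw [BQ.ch_eq_zero (j := ((Fin.last (n + 1) : Fin (n + 2)) : ℕ) + 1) (by simp)]
    refine (zero_add _).trans (Lib.Cyc.CH.cls_congr (by simp) rfl)

end Groth.Agent.S12664
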