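import Groth.Statements.S12665
import Groth.Agent.Lib.Cyc.CH.Roots

set_option autoImplicit false
universe u
open CategoryTheory CategoryTheory.Limits AlgebraicGeometry
open Cyc

namespace Groth.Agent.S12665

/-- For a short exact sequence 0 → E₁ → E → E₂ → 0 of finite locally free modules of ranks r₁, r₁ + r₂,
r₂ on X, c(E) = c(E₁) c(E₂), that is c_j(E) ∩ α ∼_rat Σ_{a+b=j} c_a(E₁) ∩ (c_b(E₂) ∩ α) for every
k-cycle α and every j; the inner caps are represented by a tuple for E₂ over α and, for each of its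
components, a tuple for E₁ over it. Setting: (X, δ) with Cyc.IsSetup stands for a scheme locally of
finite type over the base (S, δ) (X locally Noetherian with universally catenary local rings, δ a
dimension function); (p : P → X, O_P(1), q) is the projective bundle of E given by its universal
property (KRR.IsProjBundle), p is proper and δP is the induced dimension function (Cyc.DeltaCompat);
a tuple γ with Cyc.IsChernCap represents (c_0(E) ∩ α, …, c_r(E) ∩ α) through the defining relation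
Σ_i (-1)^i c_1(O_P(1))^i ∩ p^*(γ_{r-i}) ∼_rat 0 on P, and classes are compared up to rational
equivalence of representing cycles. -/
theorem result (X : Scheme.{u}) (δ : X → ℤ) (hX : Cyc.IsSetup X δ) (r₁ r₂ : ℕ) (E₁ : X.Modules) (hP₁E : FlatMod.IsFinLocFreeOfRank r₁ E₁) (P₁ : Scheme.{u}) (p₁ : P₁ ⟶ X) (O₁ : P₁.Modules) (q₁ : (Scheme.Modules.pullback p₁).obj E₁ ⟶ O₁) (hP₁ : KRR.IsProjBundle p₁ E₁ O₁ q₁) [IsProper p₁] (δ₁ : P₁ → ℤ) (hP₁s : Cyc.IsSetup P₁ δ₁) (hδ₁ : Cyc.DeltaCompat p₁ δ₁ δ) (E : X.Modules) (hPE : FlatMod.IsFinLocFreeOfRank (r₁ + r₂) E) (P : Scheme.{u}) (p : P ⟶ X) (O1 : P.Modules) (q : (Scheme.Modules.pullback p).obj E ⟶ O1) (hP : KRR.IsProjBundle p E O1 q) [IsProper p] (δP : P → ℤ) (hPs : Cyc.IsSetup P δP) (hδ : Cyc.DeltaCompat p δP δ) (E₂ : X.Modules) (hP₂E : FlatMod.IsFinLocFreeOfRank r₂ E₂) (P₂ : Scheme.{u}) (p₂ : P₂ ⟶ X)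 (O₂ : P₂.Modules) (q₂ : (Scheme.Modules.pullback p₂).obj E₂ ⟶ O₂) (hP₂ : KRR.IsProjBundle p₂ E₂ O₂ q₂) [IsProper p₂] (δ₂ : P₂ → ℤ) (hP₂s : Cyc.IsSetup P₂ δ₂) (hδ₂ : Cyc.DeltaCompat p₂ δ₂ δ) (a : E₁ ⟶ E) (b : E ⟶ E₂) (hab : a ≫ b = 0) (hex : (ShortComplex.mk a b hab).ShortExact) (k : ℤ) (α : AlgebraicCycle X ℤ) (hα : α ∈ Cyc.Zk X δ k) (γ₂ : Fin (r₂ + 1) → AlgebraicCycle X ℤ) (hγ₂ : Cyc.IsChernCap p₂ δ δ₂ O₂ r₂ k α γ₂) (ε : Fin (r₂ + 1) → Fin (r₁ + 1) → AlgebraicCycle X ℤ) (hε : ∀ b : Fin (r₂ + 1), Cyc.IsChernCap p₁ δ δ₁ O₁ r₁ (k - ((b : ℕ) : ℤ)) (γ₂ b) (ε b)) (γ : Fin (r₁ + r₂ + 1) → AlgebraicCycle X ℤ) (hγ : Cyc.IsChernCap p δ δP O1 (r₁ + r₂) k α γ) (j : Fin (r₁ + r₂ + 1)) : Cyc.RatEquiv δ (k - ((j : ℕ) : ℤ)) (γ j) (∑ a : Fin (r₁ + 1), ∑ b : Fin (r₂ + 1), if (a : ℕ) + (b : ℕ) = (j : ℕ) then ε b a else 0) := by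
  haveI := hX.1
  obtain ⟨c₁, hc₁, e₁⟩ := Lib.Cyc.CH.exists_isChern hX hP₁E hP₁ hP₁s hδ₁
  obtain ⟨c₂, hc₂, e₂⟩ := Lib.Cyc.CH.exists_isChern hX hP₂E hP₂ hP₂s hδ₂
  obtain ⟨c, hc, e⟩ := Lib.Cyc.CH.exists_isChern hX hPE hP hPs hδ
  have hm : ∀ (a : Fin (r₁ + 1)) (b : Fin (r₂ + 1)),
      (if (a : ℕ) + (b : ℕ) = (j : ℕ) then ε b a else 0) ∈ Cyc.Zk X δ (k - ((j : ℕ) : ℤ)) := by
    intro a b
    split_ifs with h
    · have := (hε b).2.1 a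
      rwa [show k - ((b : ℕ) : ℤ) - ((a : ℕ) : ℤ) = k - ((j : ℕ) : ℤ) by omega] at this
    · exact Lib.Cyc.CH.mem_zero
  have hi : ∀ a : Fin (r₁ + 1), (∑ b : Fin (r₂ + 1), if (a : ℕ) + (b : ℕ) = (j : ℕ) then ε b a else 0) ∈
      Cyc.Zk X δ (k - ((j : ℕ) : ℤ)) := fun a =>
    (ChowOps.zk X δ _).sum_mem fun b _ => hm a b
  have hs : (∑ a : Fin (r₁ + 1), ∑ b : Fin (r₂ + 1), if (a : ℕ) + (b : ℕ) = (j : ℕ) then ε b a else 0) ∈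
      Cyc.Zk X δ (k - ((j : ℕ) : ℤ)) := (ChowOps.zk X δ _).sum_mem fun a _ => hi a
  rw [← Lib.Cyc.CH.cls_eq_iff hX.2.2 (hγ.2.1 j) hs, e hγ hα, Lib.Cyc.CH.cls_sum _ _ hi hs]
  simp only [Lib.Cyc.CH.cls_sum _ _ (hm _) (hi _)]
  have hval : ∀ (a : Fin (r₁ + 1)) (b : Fin (r₂ + 1)),
      Lib.Cyc.CH.cls δ (k - ((j : ℕ) : ℤ)) _ (hm a b) = if (a : ℕ) + (b : ℕ) = (j : ℕ) then
        c₁ a (c₂ b (Lib.Cyc.CH.cls δ k α hα)) else 0 := by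
    intro a b
    by_cases h : (a : ℕ) + (b : ℕ) = (j : ℕ)
    · refine Eq.trans ?_ (if_pos h).symm
      rw [← e₂ hγ₂ hα b, ← e₁ (hε b) (hγ₂.2.1 b) a]
      exact Lib.Cyc.CH.cls_congr (by omega) (by rw [if_pos h])
    · refine Eq.trans ?_ (if_neg h).symm
      exact (Lib.Cyc.CH.cls_congr rfl (by rw [if_neg h])).trans Lib.Cyc.CH.cls_zero
  rw [Finset.sum_congr rfl fun a _ => Finset.sum_congr rfl fun b _ => hval a b]
  obtain ⟨C, l₁, l₂, hinj, hl₁, hlen₁, hl₂, hlen₂⟩ := hc₁.exists_split_two hX hc₂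
  haveI := hex.mono_f
  have hS := Lib.Cyc.C1K.Pull.shortExact_pullback C.g hex
  have hl := hl₁.append _ _ _ hS hl₂
  refine C.pl_cls_eq hinj ?_
  rw [hc.pl_eq C hl (by rw [List.length_append, hlen₁, hlen₂]) _ _, Lib.Cyc.CH.roots_append,
    Lib.Cyc.CH.Sym.esymm_add_fin _ _ ((Lib.Cyc.CH.card_roots _ _ _).trans hlen₁)
      ((Lib.Cyc.CH.card_roots _ _ _).trans hlen₂), ← Lib.Cyc.CH.evalAt_apply]
  simp only [map_sum]
  refine Finset.sum_congr rfl fun a _ => Finset.sum_congr rfl fun b _ => ?_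
  by_cases h : (a : ℕ) + (b : ℕ) = (j : ℕ)
  · rw [if_pos h, if_pos h, hc₁.pl_eq C hl₁ hlen₁, hc₂.pl_eq C hl₂ hlen₂]
    rfl
  · rw [if_neg h, if_neg h, map_zero, map_zero]

end Groth.Agent.S12665
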