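import Groth.Statements.S12666
import Groth.Agent.Lib.Cyc.CH.FiltTensor

set_option autoImplicit false
universe u
open CategoryTheory CategoryTheory.Limits AlgebraicGeometry
open Cyc

namespace Groth.Agent.S12666

/-- For E finite locally free of rank r and L invertible on X, c_i(E ⊗ L) = Σ_{j=0}^{i} C(r-i+j, j)
c_{i-j}(E) c_1(L)^j for i ≤ r, as cap operations on every k-cycle α: c_i(E ⊗ L) ∩ α ∼_rat Σ_j
C(r-i+j, j) c_1(L)^j ∩ (c_{i-j}(E) ∩ α), where c_1(L)^j ∩ - is the j-fold iterated cap on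
coefficient functions with any nonzero rational sections (Cyc.c1PowFun) and E ⊗ L is the tensor
product of O_X-modules (CohB1.tensorMod). Setting: (X, δ) with Cyc.IsSetup stands for a scheme
locally of finite type over the base (S, δ) (X locally Noetherian with universally catenary local
rings, δ a dimension function); (p : P → X, O_P(1), q) is the projective bundle of E given by its
universal property (KRR.IsProjBundle), p is proper and δP is the induced dimension function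
(Cyc.DeltaCompat); a tuple γ with Cyc.IsChernCap represents (c_0(E) ∩ α, …, c_r(E) ∩ α) through the
defining relation Σ_i (-1)^i c_1(O_P(1))^i ∩ p^*(γ_{r-i}) ∼_rat 0 on P, and classes are compared up
to rational equivalence of representing cycles. -/
theorem result (X : Scheme.{u}) (δ : X → ℤ) (hX : Cyc.IsSetup X δ) (r : ℕ) (E : X.Modules) (hPE : FlatMod.IsFinLocFreeOfRank r E) (P : Scheme.{u}) (p : P ⟶ X) (O1 : P.Modules) (q : (Scheme.Modules.pullback p).obj E ⟶ O1) (hP : KRR.IsProjBundle p E O1 q) [IsProper p] (δP : P → ℤ) (hPs : Cyc.IsSetup P δP) (hδ : Cyc.DeltaCompat p δP δ) (L : X.Modules) (hL : PicF.IsInvertible L) (hP'E : FlatMod.IsFinLocFreeOfRank r (CohB1.tensorMod E L)) (P' : Scheme.{u}) (p' : P' ⟶ X) (O1' : P'.Modules) (q' : (Scheme.Modules.pullback p').obj (CohB1.tensorMod E L) ⟶ O1') (hP' : KRR.IsProjBundle p' (CohB1.tensorMod E L) O1' q') [IsProper p'] (δP' :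 P' → ℤ) (hPs' : Cyc.IsSetup P' δP') (hδ' : Cyc.DeltaCompat p' δP' δ) (k : ℤ) (α : AlgebraicCycle X ℤ) (hα : α ∈ Cyc.Zk X δ k) (γ : Fin (r + 1) → AlgebraicCycle X ℤ) (hγ : Cyc.IsChernCap p δ δP O1 r k α γ) (γ' : Fin (r + 1) → AlgebraicCycle X ℤ) (hγ' : Cyc.IsChernCap p' δ δP' O1' r k α γ') (t : ℕ → (ξ : X) → Cyc.secFibre L ξ) (ht : ∀ m ξ, t m ξ ≠ 0) (i : Fin (r + 1)) (ζ : Fin (r + 1) → AlgebraicCycle X ℤ) (hζ : ∀ j : Fin (r + 1), (j : ℕ) ≤ (i : ℕ) → ⇑(ζ j) = Cyc.c1PowFun δ L t j ⇑(γ ⟨(i : ℕ) - (j : ℕ), Nat.lt_of_le_of_lt (Nat.sub_le _ _) i.isLt⟩)) : Cyc.RatEquiv δ (k - ((i : ℕ) : ℤ)) (γ' i) (∑ j : Fin (r + 1), if (j : ℕ) ≤ (i : ℕ) then ((Nat.choose (r - i + j) j : ℕ) : ℤ) • ζ j else 0) := by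
  haveI := hX.1
  obtain ⟨c, hc, e⟩ := Lib.Cyc.CH.exists_isChern hX hPE hP hPs hδ
  obtain ⟨c', hc', e'⟩ := Lib.Cyc.CH.exists_isChern hX hP'E hP' hPs' hδ'
  let x := Lib.Cyc.CH.cls δ k α hα
  have hz : ∀ j : Fin (r + 1), (j : ℕ) ≤ (i : ℕ) → ∃ h : ζ j ∈ Cyc.Zk X δ (k - ((i : ℕ) : ℤ)),
      Lib.Cyc.CH.cls δ _ (ζ j) h =
        (Lib.Cyc.CH.c1 δ hX.2.2 hL ^ (j : ℕ)) (c ((i : ℕ) - (j : ℕ)) x) := by
    intro j hj
    obtain ⟨β, hβ, e1, e2⟩ := Lib.Cyc.CH.exists_c1Pow hX.2.2 hL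
      (hγ.2.1 ⟨(i : ℕ) - (j : ℕ), Nat.lt_of_le_of_lt (Nat.sub_le _ _) i.isLt⟩) t ht (j : ℕ)
    have heq : ζ j = β := Function.locallyFinsuppWithin.ext fun z =>
      congrFun ((hζ j hj).trans e1.symm) z
    have hk : k - (((i : ℕ) - (j : ℕ) : ℕ) : ℤ) - ((j : ℕ) : ℤ) = k - ((i : ℕ) : ℤ) := by omega
    refine ⟨hk ▸ heq ▸ hβ, ?_⟩
    rw [e hγ hα] at e2
    exact (Lib.Cyc.CH.cls_congr hk.symm (by rw [heq])).trans e2
  have hm : ∀ j : Fin (r + 1),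
      (if (j : ℕ) ≤ (i : ℕ) then ((Nat.choose (r - i + j) j : ℕ) : ℤ) • ζ j else 0) ∈
        Cyc.Zk X δ (k - ((i : ℕ) : ℤ)) := by
    intro j
    split_ifs with h
    · exact Lib.Cyc.CH.mem_zsmul _ (hz j h).1
    · exact Lib.Cyc.CH.mem_zero
  have hs : (∑ j : Fin (r + 1),
      if (j : ℕ) ≤ (i : ℕ) then ((Nat.choose (r - i + j) j : ℕ) : ℤ) • ζ j else 0) ∈
        Cyc.Zk X δ (k - ((i : ℕ) : ℤ)) := (ChowOps.zk X δ _).sum_mem fun j _ => hm j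
  rw [← Lib.Cyc.CH.cls_eq_iff hX.2.2 (hγ'.2.1 i) hs, e' hγ' hα, Lib.Cyc.CH.cls_sum _ _ hm hs]
  have hval : ∀ j : Fin (r + 1), Lib.Cyc.CH.cls δ (k - ((i : ℕ) : ℤ)) _ (hm j) =
      if (j : ℕ) ≤ (i : ℕ) then ((Nat.choose (r - i + j) j : ℕ) : ℤ) •
        (Lib.Cyc.CH.c1 δ hX.2.2 hL ^ (j : ℕ)) (c ((i : ℕ) - (j : ℕ)) x) else 0 := by
    intro j
    by_cases h : (j : ℕ) ≤ (i : ℕ)
    · refine Eq.trans ?_ (if_pos h).symm
      rw [← (hz j h).2, ← Lib.Cyc.CH.cls_zsmul]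
      exact Lib.Cyc.CH.cls_congr rfl (by rw [if_pos h])
    · refine Eq.trans ?_ (if_neg h).symm
      exact (Lib.Cyc.CH.cls_congr rfl (by rw [if_neg h])).trans Lib.Cyc.CH.cls_zero
  rw [Finset.sum_congr rfl fun j _ => hval j]
  obtain ⟨C, l, hinj, hl, hlen⟩ := hc.exists_split_one hX
  have hL' := PicLoc.isInvertible_pullback C.g hL
  have hl' := (hl.tensor_invertible hL').of_iso
    (Lib.TensorMod.Pullback.pullbackTensorIso C.g E L).symm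
  refine C.pl_cls_eq hinj ?_
  rw [hc'.pl_eq C hl' ((List.length_map _).trans hlen) _ _,
    Lib.Cyc.CH.roots_map_tensor _ C.hY hL' hl.inv,
    Lib.Cyc.CH.Sym.esymm_map_add _ _ (by rw [Lib.Cyc.CH.card_roots, hlen]; omega),
    ← Lib.Cyc.CH.evalAt_apply]
  simp only [map_sum]
  rw [Fin.sum_univ_eq_sum_range (fun j => C.pl (if j ≤ (i : ℕ) then ((Nat.choose (r - i + j) j : ℕ) : ℤ) •
      (Lib.Cyc.CH.c1 δ hX.2.2 hL ^ j) (c ((i : ℕ) - j) x) else 0)),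
    ← Finset.sum_subset (Finset.range_mono (show (i : ℕ) + 1 ≤ r + 1 by omega))
      (fun j _ hj => by rw [if_neg (by simpa using hj), map_zero])]
  refine Finset.sum_congr rfl fun j hj => ?_
  rw [if_pos (Nat.le_of_lt_succ (Finset.mem_range.1 hj)), map_zsmul, C.pl_c1_pow hL,
    hc.pl_eq C hl hlen, Lib.Cyc.CH.card_roots, hlen, ← nsmul_eq_mul, natCast_zsmul]
  exact map_nsmul _ _ _

end Groth.Agent.S12666
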