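import Groth.Statements.S12667
import Groth.Agent.Lib.Cyc.CH.TopChern

set_option autoImplicit false
universe u
open CategoryTheory CategoryTheory.Limits AlgebraicGeometry
open Cyc

namespace Groth.Agent.S12667

/-- Let E be finite locally free of rank r on X with dim_δ(X) ≤ n, s ∈ Γ(X, E) a global section and Z =
Z(s) its zero scheme, the closed subscheme whose ideal is the image of s : E^∨ → O_X (pinned here
pointwise: Z is the locus where s vanishes in E(x), and at each point of Z the ideal of Z in O_{X,x}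
is generated by the coordinates of the germ of s in a basis of the free module E_x). Suppose further
that dim_δ(Z) ≤ n - r, and that whenever ξ is a generic point of Z with δ(ξ) = n - r, the ideal of Z
in the local ring O_{X,ξ} admits r generators forming a regular sequence. Under these hypotheses the
classes c_r(E) ∩ [X]_n and [Z]_{n-r} coincide in CH_{n-r}(X), where [X]_n and [Z]_{n-r} denote the
cycles attached to the closed subschemes (Cyc.subschemeFun). (The published statement is for a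
section of f^*E along any f : X' → X locally of finite type; since f^*E is again finite locally free
of rank r on X', the case f = id stated here for all X and E is the general one.) Setting: (X, δ)
with Cyc.IsSetup stands for a scheme locally of finite type over the base (S, δ) (X locally
Noetherian with universally catenary local rings, δ a dimension function); (p : P → X, O_P(1), q) is
the projective bundle of E given by its universal property (KRR.IsProjBundle), p is proper and δP is
the induced dimension function (Cyc.DeltaCompat); a tuple γ with Cyc.IsChernCap represents (c_0(E) ∩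
α, …, c_r(E) ∩ α) through the defining relation Σ_i (-1)^i c_1(O_P(1))^i ∩ p^*(γ_{r-i}) ∼_rat 0 on
P, and classes are compared up to rational equivalence of representing cycles. -/
theorem result (X : Scheme.{u}) (δ : X → ℤ) (hX : Cyc.IsSetup X δ) (r : ℕ) (E : X.Modules) (hPE : FlatMod.IsFinLocFreeOfRank r E) (P : Scheme.{u}) (p : P ⟶ X) (O1 : P.Modules) (q : (Scheme.Modules.pullback p).obj E ⟶ O1) (hP : KRR.IsProjBundle p E O1 q) [IsProper p] (δP : P → ℤ) (hPs : Cyc.IsSetup P δP) (hδ : Cyc.DeltaCompat p δP δ) (n : ℤ) (hn : ∀ x : X, δ x ≤ n) (s : E.presheaf.obj (Opposite.op ⊤)) (Z : Scheme.{u}) (i : Z ⟶ X) [IsClosedImmersion i] (hZ1 : Set.range ⇑i = {x : X | (E.presheaf.germ ⊤ x trivial) s ∈ IsLocalRing.maximalIdeal (X.presheaf.stalk x) • (⊤ : Submodule (X.presheaf.stalk x) (E.presheaf.stalk x))}) (hZ2 : ∀ z : Z, ∃ b : Module.Basis (Fin r) (X.presheaf.stalk (i z)) (E.presheaf.stalk (i z)), RingHom.ker (i.stalkMap z).hom = Ideal.span (Set.range fun l : Fin r => b.repr ((E.presheaf.germ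 ⊤ (i z) trivial) s) l)) (hZ3 : ∀ z : Z, δ (i z) ≤ n - (r : ℤ)) (hZ4 : ∀ z : Z, δ (i z) = n - (r : ℤ) → ∃ f : Fin r → X.presheaf.stalk (i z), RingTheory.Sequence.IsRegular (X.presheaf.stalk (i z)) (List.ofFn f) ∧ RingHom.ker (i.stalkMap z).hom = Ideal.span (Set.range f)) (α : AlgebraicCycle X ℤ) (hα : ⇑α = Cyc.subschemeFun δ n (𝟙 X)) (γ : Fin (r + 1) → AlgebraicCycle X ℤ) (hγ : Cyc.IsChernCap p δ δP O1 r n α γ) (ζ : AlgebraicCycle X ℤ) (hζ : ⇑ζ = Cyc.subschemeFun δ (n - (r : ℤ)) i) : Cyc.RatEquiv δ (n - (r : ℤ)) (γ (Fin.last r)) ζ := by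
  haveI := hX.1
  obtain ⟨c, hc, e⟩ := Lib.Cyc.CH.exists_isChern hX hPE hP hPs hδ
  have hcc := hc.ext hX (Lib.Cyc.Bivar.isChern_chern hX hPE)
  have hαm : α ∈ Cyc.Zk X δ n := fun x hx => by rw [hα]; exact if_neg hx
  have hζm : ζ ∈ Cyc.Zk X δ (n - (r : ℤ)) := fun x hx => by rw [hζ]; exact if_neg hx
  have hat : ∀ (z : Z), RingHom.ker (i.stalkMap z).hom = Lib.Cyc.CH.SecIdeal.at' s (i z) := fun z => by
    obtain ⟨b, hb⟩ := hZ2 z
    rw [hb, Lib.Cyc.CH.SecIdeal.at', Lib.Cyc.CH.SecIdeal.ofVec_eq_span b]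
  have hrange : ∀ x, x ∈ Set.range ⇑i ↔
      Lib.Cyc.CH.SecIdeal.at' s x ≤ IsLocalRing.maximalIdeal (X.presheaf.stalk x) := fun x => by
    obtain ⟨b⟩ := Lib.CurveBundle.Coherent.exists_basis_stalk hPE x
    rw [Lib.Cyc.CH.SecIdeal.at', Lib.Cyc.CH.SecIdeal.ofVec_le_iff b, hZ1]
    rfl
  have hreg : ∀ z : Z, δ (i z) = n - (r : ℤ) → ∃ f : Fin r → X.presheaf.stalk (i z),
      RingTheory.Sequence.IsRegular (X.presheaf.stalk (i z)) (List.ofFn f) ∧
        Ideal.span (Set.range f) = Lib.Cyc.CH.SecIdeal.at' s (i z) := fun z hz => by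
    obtain ⟨f, hf, hf'⟩ := hZ4 z hz
    exact ⟨f, hf, hf'.symm.trans (hat z)⟩
  rw [← Lib.Cyc.CH.cls_eq_iff hX.2.2 (show γ (Fin.last r) ∈ Cyc.Zk X δ (n - (r : ℤ)) from hγ.2.1 (Fin.last r)) hζm]
  refine (e hγ hαm (Fin.last r)).trans ?_
  rw [hcc]
  exact Lib.Cyc.CH.TopChern.top_chern r hX n hn hPE s i hrange hat hZ3 hreg hαm hα hζm hζ

end Groth.Agent.S12667
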