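import Groth.Statements.S12668
import Groth.Agent.Lib.Cyc.CH.FiltTensor

set_option autoImplicit false
universe u
open CategoryTheory CategoryTheory.Limits AlgebraicGeometry
open Cyc

namespace Groth.Agent.S12668

/-- For E, F finite locally free of ranks r, s on X, c_1(E ⊗ F) = r c_1(F) + s c_1(E), as cap operations
on every k-cycle α; E ⊗ F is the tensor product of O_X-modules (CohB1.tensorMod), of rank rs, and
enters through its own projective bundle. Stated for r, s ≥ 1. Setting: (X, δ) with Cyc.IsSetup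
stands for a scheme locally of finite type over the base (S, δ) (X locally Noetherian with
universally catenary local rings, δ a dimension function); (p : P → X, O_P(1), q) is the projective
bundle of E given by its universal property (KRR.IsProjBundle), p is proper and δP is the induced
dimension function (Cyc.DeltaCompat); a tuple γ with Cyc.IsChernCap represents (c_0(E) ∩ α, …,
c_r(E) ∩ α) through the defining relation Σ_i (-1)^i c_1(O_P(1))^i ∩ p^*(γ_{r-i}) ∼_rat 0 on P, and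
classes are compared up to rational equivalence of representing cycles. -/
theorem result (X : Scheme.{u}) (δ : X → ℤ) (hX : Cyc.IsSetup X δ) (r s : ℕ) (hr : 1 ≤ r) (hs : 1 ≤ s) (E : X.Modules) (hPE : FlatMod.IsFinLocFreeOfRank r E) (P : Scheme.{u}) (p : P ⟶ X) (O1 : P.Modules) (q : (Scheme.Modules.pullback p).obj E ⟶ O1) (hP : KRR.IsProjBundle p E O1 q) [IsProper p] (δP : P → ℤ) (hPs : Cyc.IsSetup P δP) (hδ : Cyc.DeltaCompat p δP δ) (F : X.Modules) (hQE : FlatMod.IsFinLocFreeOfRank s F) (Q : Scheme.{u}) (p' : Q ⟶ X) (O1' : Q.Modules) (q' : (Scheme.Modules.pullback p').obj F ⟶ O1') (hQ : KRR.IsProjBundle p' F O1' q') [IsProper p'] (δQ : Q → ℤ) (hQs : Cyc.IsSetup Q δQ) (hδ' : Cyc.DeltaCompat p' δQ δ) (hTE : FlatMod.IsFinLocFreeOfRank (r * s) (CohB1.tensorMod E F)) (T : Scheme.{u}) (p'' : T ⟶ X) (O1'' : T.Modules) (q'' : (Scheme.Modules.pullback p'').obj (CohB1.tensorMod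 E F) ⟶ O1'') (hT : KRR.IsProjBundle p'' (CohB1.tensorMod E F) O1'' q'') [IsProper p''] (δT : T → ℤ) (hTs : Cyc.IsSetup T δT) (hδ'' : Cyc.DeltaCompat p'' δT δ) (k : ℤ) (α : AlgebraicCycle X ℤ) (hα : α ∈ Cyc.Zk X δ k) (ε : Fin (r + 1) → AlgebraicCycle X ℤ) (hε : Cyc.IsChernCap p δ δP O1 r k α ε) (φ : Fin (s + 1) → AlgebraicCycle X ℤ) (hφ : Cyc.IsChernCap p' δ δQ O1' s k α φ) (τ : Fin (r * s + 1) → AlgebraicCycle X ℤ) (hτ : Cyc.IsChernCap p'' δ δT O1'' (r * s) k α τ) : Cyc.RatEquiv δ (k - 1) (τ ⟨1, Nat.lt_succ_of_le (Nat.mul_pos hr hs)⟩) (((r : ℕ) : ℤ) • φ ⟨1, Nat.lt_succ_of_le hs⟩ + ((s : ℕ) : ℤ) • ε ⟨1, Nat.lt_succ_of_le hr⟩) := by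
  haveI := hX.1
  obtain ⟨cE, hcE, eE⟩ := Lib.Cyc.CH.exists_isChern hX hPE hP hPs hδ
  obtain ⟨cF, hcF, eF⟩ := Lib.Cyc.CH.exists_isChern hX hQE hQ hQs hδ'
  obtain ⟨cT, hcT, eT⟩ := Lib.Cyc.CH.exists_isChern hX hTE hT hTs hδ''
  let x := Lib.Cyc.CH.cls δ k α hα
  have m1 : τ ⟨1, Nat.lt_succ_of_le (Nat.mul_pos hr hs)⟩ ∈ Cyc.Zk X δ (k - 1) := by
    simpa using hτ.2.1 ⟨1, Nat.lt_succ_of_le (Nat.mul_pos hr hs)⟩
  have m2 : φ ⟨1, Nat.lt_succ_of_le hs⟩ ∈ Cyc.Zk X δ (k - 1) := by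
    simpa using hφ.2.1 ⟨1, Nat.lt_succ_of_le hs⟩
  have m3 : ε ⟨1, Nat.lt_succ_of_le hr⟩ ∈ Cyc.Zk X δ (k - 1) := by
    simpa using hε.2.1 ⟨1, Nat.lt_succ_of_le hr⟩
  have t1 : Lib.Cyc.CH.cls δ (k - 1) _ m1 = cT 1 x :=
    (Lib.Cyc.CH.cls_congr (by simp) rfl).trans (eT hτ hα _)
  have t2 : Lib.Cyc.CH.cls δ (k - 1) _ m2 = cF 1 x :=
    (Lib.Cyc.CH.cls_congr (by simp) rfl).trans (eF hφ hα _)
  have t3 : Lib.Cyc.CH.cls δ (k - 1) _ m3 = cE 1 x :=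
    (Lib.Cyc.CH.cls_congr (by simp) rfl).trans (eE hε hα _)
  rw [← Lib.Cyc.CH.cls_eq_iff hX.2.2 m1 (Lib.Cyc.CH.mem_add (Lib.Cyc.CH.mem_zsmul _ m2)
      (Lib.Cyc.CH.mem_zsmul _ m3)), Lib.Cyc.CH.cls_add (Lib.Cyc.CH.mem_zsmul _ m2) (Lib.Cyc.CH.mem_zsmul _ m3),
    Lib.Cyc.CH.cls_zsmul _ m2, Lib.Cyc.CH.cls_zsmul _ m3,
    t1, t2, t3]
  obtain ⟨C, l, l', hinj, hl, hlen, hl', hlen'⟩ := hcE.exists_split_two hX hcF
  have hlT := C.filt_tensor (Lib.TensorMod.LocFree.of_rank hPE) hl hl'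
  refine C.pl_cls_eq hinj ?_
  rw [hcT.pl_eq C hlT (by rw [Lib.Cyc.CH.length_tensorList, hlen, hlen']),
    Lib.Cyc.CH.roots_tensorList _ C.hY hl.inv hl'.inv,
    Lib.Cyc.CH.Sym.esymm_one_pairs, map_add, map_zsmul, map_zsmul, hcE.pl_eq C hl hlen,
    hcF.pl_eq C hl' hlen', ← Lib.Cyc.CH.evalAt_apply, Lib.Cyc.CH.card_roots, Lib.Cyc.CH.card_roots,
    hlen, hlen']
  refine (map_add _ _ _).trans ?_
  exact congrArg₂ (· + ·) (Lib.Cyc.CH.Sym.map_natCast_mul _ _ _) (Lib.Cyc.CH.Sym.map_natCast_mul _ _ _)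

end Groth.Agent.S12668
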