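import Groth.Statements.S12669
import Groth.Agent.Lib.Cyc.CH.FiltTensor

set_option autoImplicit false
universe u
open CategoryTheory CategoryTheory.Limits AlgebraicGeometry
open Cyc

namespace Groth.Agent.S12669

/-- For E, F finite locally free of ranks r, s on X, c_2(E ⊗ F) = r c_2(F) + s c_2(E) + C(r,2) c_1(F)^2
+ (rs - 1) c_1(F) c_1(E) + C(s,2) c_1(E)^2, as cap operations on every k-cycle α; products of
classes are iterated caps represented by nested tuples (a tuple for F, resp. E, over the first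
component of a tuple for F; a tuple for E over the first component of a tuple for E), c_2 of a
module of rank < 2 is 0, and E ⊗ F (CohB1.tensorMod, rank rs) enters through its own projective
bundle. Stated for r, s ≥ 1. Setting: (X, δ) with Cyc.IsSetup stands for a scheme locally of finite
type over the base (S, δ) (X locally Noetherian with universally catenary local rings, δ a dimension
function); (p : P → X, O_P(1), q) is the projective bundle of E given by its universal property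
(KRR.IsProjBundle), p is proper and δP is the induced dimension function (Cyc.DeltaCompat); a tuple
γ with Cyc.IsChernCap represents (c_0(E) ∩ α, …, c_r(E) ∩ α) through the defining relation Σ_i
(-1)^i c_1(O_P(1))^i ∩ p^*(γ_{r-i}) ∼_rat 0 on P, and classes are compared up to rational
equivalence of representing cycles. -/
theorem result (X : Scheme.{u}) (δ : X → ℤ) (hX : Cyc.IsSetup X δ) (r s : ℕ) (hr : 1 ≤ r) (hs : 1 ≤ s) (E : X.Modules) (hPE : FlatMod.IsFinLocFreeOfRank r E) (P : Scheme.{u}) (p : P ⟶ X) (O1 : P.Modules) (q : (Scheme.Modules.pullback p).obj E ⟶ O1) (hP : KRR.IsProjBundle p E O1 q) [IsProper p] (δP : P → ℤ) (hPs : Cyc.IsSetup P δP) (hδ : Cyc.DeltaCompat p δP δ) (F : X.Modules) (hQE : FlatMod.IsFinLocFreeOfRank s F) (Q : Scheme.{u}) (p' : Q ⟶ X) (O1' : Q.Modules) (q' : (Scheme.Modules.pullback p').obj F ⟶ O1') (hQ : KRR.IsProjBundle p'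 F O1' q') [IsProper p'] (δQ : Q → ℤ) (hQs : Cyc.IsSetup Q δQ) (hδ' : Cyc.DeltaCompat p' δQ δ) (hTE : FlatMod.IsFinLocFreeOfRank (r * s) (CohB1.tensorMod E F)) (T : Scheme.{u}) (p'' : T ⟶ X) (O1'' : T.Modules) (q'' : (Scheme.Modules.pullback p'').obj (CohB1.tensorMod E F) ⟶ O1'') (hT : KRR.IsProjBundle p'' (CohB1.tensorMod E F) O1'' q'') [IsProper p''] (δT : T → ℤ) (hTs : Cyc.IsSetup T δT) (hδ'' : Cyc.DeltaCompat p'' δT δ) (k : ℤ) (α : AlgebraicCycle X ℤ) (hα : α ∈ Cyc.Zk X δ k) (ε : Fin (r + 1) → AlgebraicCycle X ℤ) (hε : Cyc.IsChernCap p δ δP O1 r k α ε) (φ : Fin (s + 1) → AlgebraicCycle X ℤ) (hφ : Cyc.IsChernCap p' δ δQ O1' s k α φ) (τ : Fin (r * s + 1) → AlgebraicCycle X ℤ) (hτ : Cyc.IsChernCap p'' δ δT O1'' (r * s) k α τ) (φφ : Fin (s + 1) → AlgebraicCycle X ℤ) (hφφ : Cyc.IsChernCap p' δ δQ O1' s (k - 1) (φ ⟨1, Nat.lt_succ_of_le hs⟩) φφ) (εφ : Fin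 (r + 1) → AlgebraicCycle X ℤ) (hεφ : Cyc.IsChernCap p δ δP O1 r (k - 1) (φ ⟨1, Nat.lt_succ_of_le hs⟩) εφ) (εε : Fin (r + 1) → AlgebraicCycle X ℤ) (hεε : Cyc.IsChernCap p δ δP O1 r (k - 1) (ε ⟨1, Nat.lt_succ_of_le hr⟩) εε) : Cyc.RatEquiv δ (k - 2) (if h2 : 2 ≤ r * s then τ ⟨2, Nat.lt_succ_of_le h2⟩ else 0) (((r : ℕ) : ℤ) • (if h2 : 2 ≤ s then φ ⟨2, Nat.lt_succ_of_le h2⟩ else 0) + ((s : ℕ) : ℤ) • (if h2 : 2 ≤ r then ε ⟨2, Nat.lt_succ_of_le h2⟩ else 0) + ((Nat.choose r 2 : ℕ) : ℤ) • φφ ⟨1, Nat.lt_succ_of_le hs⟩ + (((r * s : ℕ) : ℤ) - 1) • εφ ⟨1, Nat.lt_succ_of_le hr⟩ + ((Nat.choose s 2 : ℕ) : ℤ) • εε ⟨1, Nat.lt_succ_of_le hr⟩) := by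
  haveI := hX.1
  obtain ⟨cE, hcE, eE⟩ := Lib.Cyc.CH.exists_isChern hX hPE hP hPs hδ
  obtain ⟨cF, hcF, eF⟩ := Lib.Cyc.CH.exists_isChern hX hQE hQ hQs hδ'
  obtain ⟨cT, hcT, eT⟩ := Lib.Cyc.CH.exists_isChern hX hTE hT hTs hδ''
  let x := Lib.Cyc.CH.cls δ k α hα
  obtain ⟨m0, t0⟩ := hcT.exists_cls_dite hX hτ.2.1 (eT hτ hα) 2
  obtain ⟨m1, t1⟩ := hcF.exists_cls_dite hX hφ.2.1 (eF hφ hα) 2
  obtain ⟨m2, t2⟩ := hcE.exists_cls_dite hX hε.2.1 (eE hε hα) 2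
  have f1 : φ ⟨1, Nat.lt_succ_of_le hs⟩ ∈ Cyc.Zk X δ (k - 1) := by
    simpa using hφ.2.1 ⟨1, Nat.lt_succ_of_le hs⟩
  have g1 : ε ⟨1, Nat.lt_succ_of_le hr⟩ ∈ Cyc.Zk X δ (k - 1) := by
    simpa using hε.2.1 ⟨1, Nat.lt_succ_of_le hr⟩
  have u1 : Lib.Cyc.CH.cls δ (k - 1) _ f1 = cF 1 x :=
    (Lib.Cyc.CH.cls_congr (by simp) rfl).trans (eF hφ hα _)
  have v1 : Lib.Cyc.CH.cls δ (k - 1) _ g1 = cE 1 x :=
    (Lib.Cyc.CH.cls_congr (by simp) rfl).trans (eE hε hα _)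
  have m3 : φφ ⟨1, Nat.lt_succ_of_le hs⟩ ∈ Cyc.Zk X δ (k - 2) := by
    simpa [sub_sub, one_add_one_eq_two] using hφφ.2.1 ⟨1, Nat.lt_succ_of_le hs⟩
  have m4 : εφ ⟨1, Nat.lt_succ_of_le hr⟩ ∈ Cyc.Zk X δ (k - 2) := by
    simpa [sub_sub, one_add_one_eq_two] using hεφ.2.1 ⟨1, Nat.lt_succ_of_le hr⟩
  have m5 : εε ⟨1, Nat.lt_succ_of_le hr⟩ ∈ Cyc.Zk X δ (k - 2) := by
    simpa [sub_sub, one_add_one_eq_two] using hεε.2.1 ⟨1, Nat.lt_succ_of_le hr⟩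
  have t3 : Lib.Cyc.CH.cls δ (k - 2) _ m3 = cF 1 (cF 1 x) := by
    rw [← u1]
    exact (Lib.Cyc.CH.cls_congr (by simp [sub_sub]) rfl).trans (eF hφφ f1 _)
  have t4 : Lib.Cyc.CH.cls δ (k - 2) _ m4 = cE 1 (cF 1 x) := by
    rw [← u1]
    exact (Lib.Cyc.CH.cls_congr (by simp [sub_sub]) rfl).trans (eE hεφ f1 _)
  have t5 : Lib.Cyc.CH.cls δ (k - 2) _ m5 = cE 1 (cE 1 x) := by
    rw [← v1]
    exact (Lib.Cyc.CH.cls_congr (by simp [sub_sub]) rfl).trans (eE hεε g1 _)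
  have a1 := Lib.Cyc.CH.mem_zsmul ((r : ℕ) : ℤ) m1
  have a2 := Lib.Cyc.CH.mem_zsmul ((s : ℕ) : ℤ) m2
  have a3 := Lib.Cyc.CH.mem_zsmul ((Nat.choose r 2 : ℕ) : ℤ) m3
  have a4 := Lib.Cyc.CH.mem_zsmul (((r * s : ℕ) : ℤ) - 1) m4
  have a5 := Lib.Cyc.CH.mem_zsmul ((Nat.choose s 2 : ℕ) : ℤ) m5
  have a12 := Lib.Cyc.CH.mem_add a1 a2
  have a123 := Lib.Cyc.CH.mem_add a12 a3
  have a1234 := Lib.Cyc.CH.mem_add a123 a4
  refine (Lib.Cyc.CH.cls_eq_iff hX.2.2 m0 (Lib.Cyc.CH.mem_add a1234 a5)).1 ?_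
  rw [Lib.Cyc.CH.cls_add a1234 a5, Lib.Cyc.CH.cls_add a123 a4, Lib.Cyc.CH.cls_add a12 a3,
    Lib.Cyc.CH.cls_add a1 a2]
  refine t0.trans (Eq.trans ?_ (congrArg₂ (· + ·) (congrArg₂ (· + ·) (congrArg₂ (· + ·)
    (congrArg₂ (· + ·) ((Lib.Cyc.CH.cls_zsmul _ m1).trans (congrArg _ t1))
      ((Lib.Cyc.CH.cls_zsmul _ m2).trans (congrArg _ t2)))
    ((Lib.Cyc.CH.cls_zsmul _ m3).trans (congrArg _ t3)))
    ((Lib.Cyc.CH.cls_zsmul _ m4).trans (congrArg _ t4)))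
    ((Lib.Cyc.CH.cls_zsmul _ m5).trans (congrArg _ t5))).symm)
  beta_reduce
  obtain ⟨C, l, l', hinj, hl, hlen, hl', hlen'⟩ := hcE.exists_split_two hX hcF
  have hlT := C.filt_tensor (Lib.TensorMod.LocFree.of_rank hPE) hl hl'
  refine C.pl_cls_eq hinj ?_
  rw [hcT.pl_eq C hlT (by rw [Lib.Cyc.CH.length_tensorList, hlen, hlen']),
    Lib.Cyc.CH.roots_tensorList _ C.hY hl.inv hl'.inv,
    Lib.Cyc.CH.Sym.esymm_two_pairs, map_add, map_add, map_add, map_add, map_zsmul, map_zsmul,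
    map_zsmul, map_zsmul, map_zsmul]
  simp only [hcE.pl_eq C hl hlen, hcF.pl_eq C hl' hlen', Lib.Cyc.CH.card_roots, hlen, hlen',
    ← Lib.Cyc.CH.evalAt_apply, ← Lib.Cyc.CH.evalAt_mul]
  refine (map_add _ _ _).trans (congrArg₂ (· + ·) ((map_add _ _ _).trans (congrArg₂ (· + ·)
    ((map_add _ _ _).trans (congrArg₂ (· + ·) ((map_add _ _ _).trans (congrArg₂ (· + ·)
      ?_ ?_)) ?_)) ?_)) ?_)
  all_goals first
    | exact Lib.Cyc.CH.Sym.map_natCast_mul _ _ _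
    | exact Lib.Cyc.CH.Sym.map_pred_mul _ _ _ _

end Groth.Agent.S12669
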