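import Groth.Statements.S6352
import Groth.Agent.H22.FlatMod

set_option autoImplicit false
universe u
open scoped TensorProduct
open CAlg

namespace Groth.Agent.S6352

/-- Let R → R' be an injective ring map, I ⊆ R a nilpotent ideal and M an R-module. Then flatness of M
over R follows from flatness of M/IM over R/I together with flatness of R' ⊗_R M over R'. -/
theorem result (R R' : Type u) [CommRing R] [CommRing R']
    [Algebra R R'] (hinj : Function.Injective (algebraMap R R')) (I : Ideal R) (hI : IsNilpotent I)
    (M : Type u) [AddCommGroup M] [Module R M] [Module.Flat (R ⧸ I) ((R ⧸ I) ⊗[R] M)]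
    [Module.Flat R' (R' ⊗[R] M)] : Module.Flat R M := by
  exact H22.FlatMod.flat_of_nilpotent hinj hI (H22.FlatMod.flatAt inferInstance)

end Groth.Agent.S6352
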