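import Groth.Statements.S1267
import Groth.Agent.S6352
import Groth.Agent.H19.FlatLocus.Model
import Mathlib.LinearAlgebra.TensorProduct.Pi

set_option autoImplicit false
universe u
open FlatMor

namespace Groth.Agent.S1267

open TensorProduct in
theorem flat_pi_of_factors {R : Type u} [CommRing R] {ι : Type u} [Fintype ι] [DecidableEq ι] (F : ι → Type u)
    [∀ i, CommRing (F i)] [∀ i, Algebra R (F i)] (M : Type u) [AddCommGroup M] [Module R M]
    (h : ∀ i, Module.Flat (F i) (F i ⊗[R] M)) : Module.Flat (∀ i, F i) ((∀ i, F i) ⊗[R] M) := by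
  let P := ∀ i, F i
  letI : ∀ i, Algebra P (F i) := fun i => (Pi.evalRingHom F i).toAlgebra
  haveI : ∀ i, IsScalarTower R P (F i) := fun i => IsScalarTower.of_algebraMap_eq fun _ => rfl
  haveI : ∀ i, Module.Flat P (F i) := fun i =>
    Module.Flat.of_retract (R := P) (M := P)
      ({ toFun := Pi.single i
         map_add' := Pi.single_add i
         map_smul' := fun c x => by
          funext j
          show Pi.single i (c • x) j = c j * Pi.single i x j
          rcases eq_or_ne j i with rfl | hj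
          · rw [Pi.single_eq_same, Pi.single_eq_same]; rfl
          · rw [Pi.single_eq_of_ne hj, Pi.single_eq_of_ne hj, mul_zero] } : F i →ₗ[P] P)
      (Algebra.linearMap P (F i)) (LinearMap.ext fun x => Pi.single_eq_same (M := F) i x)
  let X := P ⊗[R] M
  haveI : ∀ i, Module.Flat P (F i ⊗[P] X) := fun i =>
    haveI := h i
    haveI : Module.Flat (F i) (F i ⊗[P] X) :=
      Module.Flat.of_linearEquiv (AlgebraTensorModule.cancelBaseChange R P (F i) (F i) M)
    Module.Flat.trans P (F i) _
  let e₀ : P ≃ₗ[P] ((i : ι) → F i) :=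
    { toFun := fun x => x
      invFun := fun x => x
      map_add' := fun _ _ => rfl
      map_smul' := fun c x => funext fun i => rfl
      left_inv := fun _ => rfl
      right_inv := fun _ => rfl }
  let e : X ≃ₗ[P] ∀ i, F i ⊗[P] X :=
    (TensorProduct.lid P X).symm.trans ((LinearEquiv.rTensor X e₀).trans (TensorProduct.piLeft P X F))
  haveI : Module.Flat P (∀ i, F i ⊗[P] X) :=
    Module.Flat.of_linearEquiv (DirectSum.linearEquivFunOnFintype P ι fun i => F i ⊗[P] X).symm
  exact Module.Flat.of_linearEquiv e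

/-- Let A be a local ring, I an ideal, U a quasi-compact open subset of Spec A and M an A-module such
that M/IM is flat over A/I and M_p is flat over A for all p in U. Let I₂ be the kernel of I → Γ(U,
I/I²), that is the set of x ∈ I such that for every p ∈ U some s outside p has s·x ∈ I². Then M/I₂M
is flat over A/I₂. -/
theorem result {A : Type u} [CommRing A] [IsLocalRing A] (I : Ideal A)
    (U : Set (PrimeSpectrum A)) (hU : IsOpen U) (hUc : IsCompact U)
    (M : Type u) [AddCommGroup M] [Module A M]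
    [Module.Flat (A ⧸ I) (M ⧸ (I • ⊤ : Submodule A M))]
    (hflat : ∀ p ∈ U, Module.Flat A (LocalizedModule p.asIdeal.primeCompl M))
    (I₂ : Ideal A) (hI₂ : ∀ x : A, x ∈ I₂ ↔ x ∈ I ∧ ∀ p ∈ U, ∃ s : A, s ∉ p.asIdeal ∧ s * x ∈ I ^ 2) :
    Module.Flat (A ⧸ I₂) (M ⧸ (I₂ • ⊤ : Submodule A M)) := by
  classical
  let Ab := A ⧸ I₂
  have hle : I₂ ≤ I := fun x hx => ((hI₂ x).1 hx).1
  have hsq : I ^ 2 ≤ I₂ := fun x hx => (hI₂ x).2 ⟨Ideal.pow_le_self two_ne_zero hx,
    fun p _ => ⟨1, p.asIdeal.primeCompl.one_mem, by rwa [one_mul]⟩⟩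
  obtain ⟨t, ht, hUt⟩ : ∃ t : Finset A, (∀ f ∈ t, (PrimeSpectrum.basicOpen f : Set (PrimeSpectrum A)) ⊆ U) ∧
      U ⊆ ⋃ f ∈ t, (PrimeSpectrum.basicOpen f : Set (PrimeSpectrum A)) := by
    obtain ⟨t, ht⟩ := hUc.elim_finite_subcover
      (fun f : {f : A // (PrimeSpectrum.basicOpen f : Set (PrimeSpectrum A)) ⊆ U} => (PrimeSpectrum.basicOpen f.1 : Set (PrimeSpectrum A)))
      (fun f => (PrimeSpectrum.basicOpen f.1).2) (fun p hp => by
        obtain ⟨_, ⟨f, rfl⟩, hpf, hf⟩ := PrimeSpectrum.isTopologicalBasis_basic_opens.isOpen_iff.1 hU p hp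
        exact Set.mem_iUnion.2 ⟨⟨f, hf⟩, hpf⟩)
    refine ⟨t.image Subtype.val, fun f hf => ?_, fun p hp => ?_⟩
    · obtain ⟨g, _, rfl⟩ := Finset.mem_image.1 hf
      exact g.2
    · obtain ⟨g, hg, hpg⟩ := Set.mem_iUnion₂.1 (ht hp)
      exact Set.mem_iUnion₂.2 ⟨g.1, Finset.mem_image_of_mem _ hg, hpg⟩
  let ι := ULift.{u} (Option t)
  let J : ι → Ideal A := fun i => i.down.elim I fun _ => I₂
  let g : ι → A := fun i => i.down.elim 1 fun f => f.1
  let F : ι → Type u := fun i => Localization.Away (Ideal.Quotient.mk (J i) (g i))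
  have hJ : ∀ i, I₂ ≤ J i := fun i => by
    rcases i with ⟨_ | f⟩
    · exact hle
    · exact le_rfl
  letI : ∀ i, Algebra Ab (F i) := fun i =>
    ((algebraMap (A ⧸ J i) (F i)).comp (Ideal.Quotient.factor (hJ i))).toAlgebra
  haveI : ∀ i, IsScalarTower A Ab (F i) := fun i => IsScalarTower.of_algebraMap_eq fun a => by
    show algebraMap A (F i) a = algebraMap (A ⧸ J i) (F i) (Ideal.Quotient.factor (hJ i) (Ideal.Quotient.mk _ a))
    rw [Ideal.Quotient.factor_mk, IsScalarTower.algebraMap_apply A (A ⧸ J i) (F i)]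
    rfl
  let Mb := TensorProduct A Ab M
  haveI : Module.Flat Ab Mb := by
    have hflatI : Module.Flat (A ⧸ I) (TensorProduct A (A ⧸ I) M) :=
      Module.Flat.of_linearEquiv ((TensorProduct.quotTensorEquivQuotSMul M I).extendScalarsOfSurjective Ideal.Quotient.mk_surjective)
    have hF : ∀ i, Module.Flat (F i) (TensorProduct A (F i) M) := fun i => by
      rcases i with ⟨_ | f⟩
      · haveI := hflatI
        letI : Algebra (A ⧸ I) (F ⟨none⟩) :=
          (algebraMap (A ⧸ I) (Localization.Away (Ideal.Quotient.mk I (1 : A)))).toAlgebra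
        haveI : IsScalarTower A (A ⧸ I) (F ⟨none⟩) := IsScalarTower.of_algebraMap_eq fun a =>
          IsScalarTower.algebraMap_apply A (A ⧸ I) (Localization.Away (Ideal.Quotient.mk I (1 : A))) a
        exact Module.Flat.of_linearEquiv
          (TensorProduct.AlgebraTensorModule.cancelBaseChange A (A ⧸ I) (F ⟨none⟩) (F ⟨none⟩) M).symm
      · let Af := Localization.Away (f.1 : A)
        let Mf := LocalizedModule (Submonoid.powers (f.1 : A)) M
        have hflatA : Module.Flat A Mf := by
          refine (H19.FlatLocus.flat_iff_killed (Submonoid.powers (f.1 : A)) (LocalizedModule.mkLinearMap _ M)).2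
            fun K y hy => ?_
          by_contra hcon
          push Not at hcon
          let Ann : Ideal A := LinearMap.ker (LinearMap.toSpanSingleton A _ y)
          obtain ⟨P, hP, hle', hd⟩ := Ideal.exists_le_prime_disjoint Ann (Submonoid.powers (f.1 : A)) (by
            rw [Set.disjoint_left]
            intro c hc hc'
            exact hcon c hc' hc)
          have hPf : (⟨P, hP⟩ : PrimeSpectrum A) ∈ U := ht _ f.2 (fun hc => Set.disjoint_left.1 hd hc (Submonoid.mem_powers _))
          obtain ⟨w, hw, hwz⟩ := (H19.FlatLocus.flat_iff_killed P.primeCompl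
            (LocalizedModule.mkLinearMap P.primeCompl M)).1 (hflat _ hPf) K y hy
          exact hw (hle' hwz)
        haveI : Module.Flat Af (TensorProduct A Af M) := by
          haveI : Module.Flat Af Mf := (Module.flat_iff_of_isLocalization Af (Submonoid.powers (f.1 : A)) Mf).2 hflatA
          exact Module.Flat.of_linearEquiv
            ((isLocalizedModule_iff_isBaseChange (Submonoid.powers (f.1 : A)) Af
              (LocalizedModule.mkLinearMap (Submonoid.powers (f.1 : A)) M)).1 inferInstance).equiv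
        letI : Algebra Af (F ⟨some f⟩) := (IsLocalization.Away.lift (f.1 : A) (g := algebraMap A (F ⟨some f⟩)) (by
          show IsUnit (algebraMap A (Localization.Away (Ideal.Quotient.mk I₂ (f.1 : A))) f.1)
          rw [IsScalarTower.algebraMap_apply A (A ⧸ I₂) (Localization.Away (Ideal.Quotient.mk I₂ (f.1 : A))),
            Ideal.Quotient.algebraMap_eq]
          exact IsLocalization.Away.algebraMap_isUnit _)).toAlgebra
        haveI : IsScalarTower A Af (F ⟨some f⟩) := IsScalarTower.of_algebraMap_eq fun a =>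
          (IsLocalization.Away.lift_eq _ _ a).symm
        exact Module.Flat.of_linearEquiv
          (TensorProduct.AlgebraTensorModule.cancelBaseChange A Af (F ⟨some f⟩) (F ⟨some f⟩) M).symm
    have hF' : ∀ i, Module.Flat (F i) (TensorProduct Ab (F i) Mb) := fun i =>
      haveI := hF i
      Module.Flat.of_linearEquiv (TensorProduct.AlgebraTensorModule.cancelBaseChange A Ab (F i) (F i) M)
    haveI := flat_pi_of_factors F Mb hF'
    let Ib : Ideal Ab := I.map (Ideal.Quotient.mk I₂)
    have hIb : IsNilpotent Ib := ⟨2, by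
      show Ib ^ 2 = ⊥
      rw [← Ideal.map_pow, Ideal.map_eq_bot_iff_le_ker, Ideal.mk_ker]
      exact hsq⟩
    haveI : Module.Flat (Ab ⧸ Ib) (TensorProduct Ab (Ab ⧸ Ib) Mb) := by
      let e : (A ⧸ I) ≃ₐ[A] Ab ⧸ Ib := (DoubleQuot.quotQuotEquivQuotOfLEₐ A hle).symm
      letI : Algebra (A ⧸ I) (Ab ⧸ Ib) := e.toAlgHom.toRingHom.toAlgebra
      haveI : IsScalarTower A (A ⧸ I) (Ab ⧸ Ib) := IsScalarTower.of_algebraMap_eq fun a => (e.commutes a).symm
      haveI := hflatI
      exact Module.Flat.of_linearEquiv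
        ((TensorProduct.AlgebraTensorModule.cancelBaseChange A Ab (Ab ⧸ Ib) (Ab ⧸ Ib) M).trans
          (TensorProduct.AlgebraTensorModule.cancelBaseChange A (A ⧸ I) (Ab ⧸ Ib) (Ab ⧸ Ib) M).symm)
    refine S6352.result Ab (∀ i, F i) ((injective_iff_map_eq_zero _).2 fun x hx => ?_) Ib hIb Mb
    obtain ⟨x, rfl⟩ := Ideal.Quotient.mk_surjective x
    have hzero : ∀ i, ∃ n : ℕ, g i ^ n * x ∈ J i := fun i => by
      have h0 : algebraMap (A ⧸ J i) (F i) (Ideal.Quotient.mk (J i) x) = 0 := congrFun hx i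
      rw [IsLocalization.map_eq_zero_iff (Submonoid.powers (Ideal.Quotient.mk (J i) (g i)))] at h0
      obtain ⟨⟨_, n, rfl⟩, h0⟩ := h0
      refine ⟨n, Ideal.Quotient.eq_zero_iff_mem.1 ?_⟩
      rw [map_mul, map_pow]
      exact h0
    rw [Ideal.Quotient.eq_zero_iff_mem, hI₂]
    obtain ⟨n, hn⟩ := hzero ⟨none⟩
    refine ⟨by simpa [g, J] using hn, fun p hp => ?_⟩
    obtain ⟨f, hf, hpf⟩ := Set.mem_iUnion₂.1 (hUt hp)
    obtain ⟨n, hn⟩ := hzero ⟨some ⟨f, hf⟩⟩
    obtain ⟨s, hs, hsx⟩ := ((hI₂ _).1 hn).2 p hp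
    refine ⟨s * f ^ n, fun hc => ?_, by rwa [mul_assoc]⟩
    rcases p.2.mem_or_mem hc with h | h
    · exact hs h
    · exact hpf (p.2.mem_of_pow_mem n h)
  exact Module.Flat.of_linearEquiv
    ((TensorProduct.quotTensorEquivQuotSMul M I₂).extendScalarsOfSurjective Ideal.Quotient.mk_surjective).symm

end Groth.Agent.S1267
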