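import Groth.Statements.S12671
import Groth.Agent.Lib.Cyc.CH.Product

set_option autoImplicit false
universe u
open CategoryTheory CategoryTheory.Limits AlgebraicGeometry
open Cyc

namespace Groth.Agent.S12671

/-- Let E be a locally free O_X-module of rank r with a filtration 0 = E_0 ⊂ E_1 ⊂ … ⊂ E_r = E such that
E_i/E_{i-1} ≅ L_i is invertible for i = 1, …, r. Then c(E) = Π_i (1 + c_1(L_i)), that is c_p(E) ∩ α
∼_rat Σ_{I ⊆ {1,…,r}, |I| = p} (Π_{i ∈ I} c_1(L_i)) ∩ α for every k-cycle α, where the product over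
I is the iterated cap applied in increasing order of i on coefficient functions with any nonzero
rational sections (Cyc.c1CapFun); the filtration is given by short exact sequences 0 → E_{i-1} → E_i
→ L_i → 0 with E_0 = 0 and E_r ≅ E. Setting: (X, δ) with Cyc.IsSetup stands for a scheme locally of
finite type over the base (S, δ) (X locally Noetherian with universally catenary local rings, δ a
dimension function); (p : P → X, O_P(1), q) is the projective bundle of E given by its universal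
property (KRR.IsProjBundle), p is proper and δP is the induced dimension function (Cyc.DeltaCompat);
a tuple γ with Cyc.IsChernCap represents (c_0(E) ∩ α, …, c_r(E) ∩ α) through the defining relation
Σ_i (-1)^i c_1(O_P(1))^i ∩ p^*(γ_{r-i}) ∼_rat 0 on P, and classes are compared up to rational
equivalence of representing cycles. -/
theorem result (X : Scheme.{u}) (δ : X → ℤ) (hX : Cyc.IsSetup X δ) (r : ℕ) (E : X.Modules) (hPE : FlatMod.IsFinLocFreeOfRank r E) (P : Scheme.{u}) (p : P ⟶ X) (O1 : P.Modules) (q : (Scheme.Modules.pullback p).obj E ⟶ O1) (hP : KRR.IsProjBundle p E O1 q) [IsProper p] (δP : P → ℤ) (hPs : Cyc.IsSetup P δP) (hδ : Cyc.DeltaCompat p δP δ) (M : Fin (r + 1) → X.Modules) (h0 : IsZero (M 0)) (e : M (Fin.last r) ≅ E) (L : Fin r → X.Modules) (hL : ∀ i, PicF.IsInvertible (L i)) (a : ∀ i : Fin r, M (Fin.castSucc i) ⟶ M (Fin.succ i)) (b : ∀ i : Fin r, M (Fin.succ i) ⟶ L i) (hab : ∀ i, a i ≫ b i = 0) (hex : ∀ i,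 (ShortComplex.mk (a i) (b i) (hab i)).ShortExact) (k : ℤ) (α : AlgebraicCycle X ℤ) (hα : α ∈ Cyc.Zk X δ k) (γ : Fin (r + 1) → AlgebraicCycle X ℤ) (hγ : Cyc.IsChernCap p δ δP O1 r k α γ) (t : (i : Fin r) → (ξ : X) → Cyc.secFibre (L i) ξ) (ht : ∀ i ξ, t i ξ ≠ 0) (κ : Finset (Fin r) → AlgebraicCycle X ℤ) (hκ0 : κ ∅ = α) (hκ : ∀ (I : Finset (Fin r)) (i : Fin r), (∀ i' ∈ I, i' < i) → ⇑(κ (insert i I)) = Cyc.c1CapFun δ (L i) ⇑(κ I) (t i)) (n : Fin (r + 1)) : Cyc.RatEquiv δ (k - ((n : ℕ) : ℤ)) (γ n) (∑ I ∈ Finset.powersetCard n Finset.univ, κ I) := by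
  classical
  haveI := hX.1
  haveI := hPs.1
  rcases r with _ | m
  · have hn : n = 0 := Fin.ext (by have := n.2; omega)
    subst hn
    rw [hγ.1, show ((0 : Fin (0 + 1)) : ℕ) = 0 from rfl, Finset.powersetCard_zero, Finset.sum_singleton, hκ0]
    exact Lib.Cyc.Ord.ratEquiv_refl _ _ _
  haveI := hP.epi
  have B := Lib.Cyc.CH.Bdl.of_isProjBundle hX.2.2 hPs.2.2 hδ hP hPE
  let adj := Scheme.Modules.pullbackPushforwardAdjunction p
  haveI : PreservesColimitsOfSize.{0, 0} (Scheme.Modules.pullback p) := adj.leftAdjoint_preservesColimits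
  haveI : (Scheme.Modules.pullback p).PreservesZeroMorphisms :=
    Functor.preservesZeroMorphisms_of_preserves_initial_object
  let φ := (Scheme.Modules.pullback p).map e.hom ≫ q
  have hφ : (Scheme.Modules.pullback p).map (Lib.Cyc.CH.toLast M a 0) ≫ φ = 0 := by
    rw [h0.eq_of_src (Lib.Cyc.CH.toLast M a 0) 0, Functor.map_zero, zero_comp]
  let x := Lib.Cyc.CH.cls δ k α hα
  let A : ℕ → Lib.Cyc.CH.Tot X δ := fun i => Lib.Cyc.CH.esym hX.2.2 hL 0 i x
  have h1 := (Lib.Cyc.CH.tail_pb hX.2.2 hL B (0 : Fin (m + 1 + 1)) x).symm.trans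
    (Lib.Cyc.CH.tail_eq_zero M a hL hex 0 hPs p B.inv φ hφ _)
  simp only [Fin.val_zero, Nat.sub_zero] at h1
  have h2 : ∑ i ∈ Finset.range (m + 2), ((-1 : ℤ) ^ i) • B.term i (A (m + 1 - i)) = 0 := by
    rw [← Finset.sum_range_reflect]
    have h3 := congrArg (fun v => ((-1 : ℤ) ^ (m + 1)) • v) h1
    simp only [smul_zero, Finset.smul_sum, smul_smul, ← pow_add] at h3
    refine Eq.trans (Finset.sum_congr rfl fun i hi => ?_) h3
    have hi' := Finset.mem_range.1 hi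
    rw [show m + 2 - 1 - i = m + 1 - i by omega, show m + 1 - (m + 1 - i) = i by omega]
    congr 1
    rw [neg_one_pow_eq_pow_mod_two, neg_one_pow_eq_pow_mod_two (n := m + 1 + i)]
    congr 1
    omega
  have hA0 : A 0 = x := by
    simp only [A, Lib.Cyc.CH.esym_zero]
    rfl
  have hmem := fun I => Lib.Cyc.CH.kappa_mem hX.2.2 hα hκ0 hκ I
  have hempty : x = Lib.Cyc.CH.cls δ (k - ((∅ : Finset (Fin (m + 1))).card : ℤ)) (κ ∅) (hmem ∅) :=
    Lib.Cyc.CH.cls_congr (by simp) (by rw [hκ0])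
  have hS : (Finset.univ.filter fun i : Fin (m + 1) => ((0 : Fin (m + 1 + 1)) : ℕ) ≤ i) = Finset.univ :=
    Finset.filter_true_of_mem fun i _ => Nat.zero_le _
  have hsum := (congrArg (Lib.Cyc.CH.esym hX.2.2 hL 0 (n : ℕ)) hempty).trans
    (Lib.Cyc.CH.esym_kappa hX.2.2 hL hα hκ0 hκ ht 0 n ∅ (fun i hi => absurd hi (Finset.notMem_empty i)))
  rw [hS] at hsum
  have hcard : ∀ I ∈ Finset.powersetCard (n : ℕ) (Finset.univ : Finset (Fin (m + 1))),
      κ I ∈ Cyc.Zk X δ (k - ((n : ℕ) : ℤ)) := fun I hI => by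
    have := hmem I
    rwa [(Finset.mem_powersetCard.1 hI).2] at this
  have hsumZ : ∑ I ∈ Finset.powersetCard (n : ℕ) Finset.univ, κ I ∈ Cyc.Zk X δ (k - ((n : ℕ) : ℤ)) :=
    (ChowOps.zk X δ (k - ((n : ℕ) : ℤ))).sum_mem hcard
  rw [← Lib.Cyc.CH.cls_eq_iff hX.2.2 (hγ.2.1 n) hsumZ, B.cls_eq_ch hγ hα n,
    show B.ch (n : ℕ) (Lib.Cyc.CH.cls δ k α hα) = A n by
      rw [B.eq_ch h2 (Nat.le_of_lt_succ n.2), hA0]]
  refine hsum.trans ?_
  have key : ∀ (s : Finset (Finset (Fin (m + 1)))) (h : ∀ I ∈ s, κ I ∈ Cyc.Zk X δ (k - ((n : ℕ) : ℤ)))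
      (_ : ∀ I ∈ s, I.card = (n : ℕ)) (hs : ∑ I ∈ s, κ I ∈ Cyc.Zk X δ (k - ((n : ℕ) : ℤ))),
      ∑ J ∈ s, Lib.Cyc.CH.cls δ (k - ((∅ ∪ J).card : ℤ)) (κ (∅ ∪ J)) (hmem _) =
        Lib.Cyc.CH.cls δ (k - ((n : ℕ) : ℤ)) (∑ I ∈ s, κ I) hs := by
    intro s
    induction s using Finset.induction_on with
    | empty => exact fun _ _ _ => Lib.Cyc.CH.cls_zero.symm
    | insert J s hJ ih =>
      intro h hc hs
      have h' : ∑ I ∈ s, κ I ∈ Cyc.Zk X δ (k - ((n : ℕ) : ℤ)) :=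
        (ChowOps.zk X δ (k - ((n : ℕ) : ℤ))).sum_mem fun I hI => h I (Finset.mem_insert_of_mem hI)
      rw [Finset.sum_insert hJ, ih (fun I hI => h I (Finset.mem_insert_of_mem hI))
        (fun I hI => hc I (Finset.mem_insert_of_mem hI)) h',
        Lib.Cyc.CH.cls_congr (h' := h J (Finset.mem_insert_self J s))
          (by rw [Finset.empty_union, hc J (Finset.mem_insert_self J s)]) (by rw [Finset.empty_union]),
        ← Lib.Cyc.CH.cls_add]
      exact Lib.Cyc.CH.cls_congr rfl (by rw [Finset.sum_insert hJ])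
  exact key _ hcard (fun I hI => (Finset.mem_powersetCard.1 hI).2) hsumZ

end Groth.Agent.S12671
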