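import Groth.Statements.S1928
import Groth.Agent.Lib.Cyc.DegK.Main
import Groth.Agent.Lib.Cyc.SheafLen
import Groth.Agent.Lib.Snapper.IntNum
import Groth.Agent.Lib.TensorMod.Invertible

set_option autoImplicit false
universe u
open CategoryTheory AlgebraicGeometry
open Cyc

namespace Groth.Agent.S1928

/-- Let X be proper over a field k with dim X ≤ 1 and L an invertible O_X-module. Then deg(L) := χ(X, L)
− χ(X, O_X) equals the degree Σ_x [κ(x) : k] · n_x of the 0-cycle c_1(L) ∩ [X]_1 = Σ n_x [x],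
computed with any nonzero rational sections (the degree is independent of the choice). Dimension
function: transcendence degree over k. (The source treats finite locally free modules of any
constant rank via c_1 of a vector bundle; only the invertible case is stated.) Here L(ξ) = L_ξ/𝔪_ξ
L_ξ is the space of rational sections of L on the closure of ξ, div_{L|W}(s) and c_1(L) ∩ α are
computed as coefficient functions from chosen nonzero rational sections (Cyc.secDivFun,
Cyc.c1CapFun), and results are compared up to rational equivalence for any cycles with those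
coefficients. -/
theorem result (k : Type u) [Field k] (X : Scheme.{u}) [X.Over (Spec (CommRingCat.of k))] [IsProper (X ↘ Spec (CommRingCat.of k))] (hdim : topologicalKrullDim X ≤ 1) (δ : X → ℤ) (hδ : Cyc.DeltaCompat (X ↘ Spec (CommRingCat.of k)) δ (fun _ => 0)) (L : X.Modules) (hL : PicF.IsInvertible L) (s : (ξ : X) → Cyc.secFibre L ξ) (hs : ∀ ξ, s ξ ≠ 0) : Curv2.deg k X L 1 = ∑ᶠ x : X, ((X ↘ Spec (CommRingCat.of k)).residueDegree x : ℤ) * Cyc.c1CapFun δ L (Cyc.subschemeFun δ 1 (𝟙 X)) s x := by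
  classical
  haveI := Groth.Agent.Lib.Curves.GlobalSections.isNoetherian_of_proper k X
  have hd : Cyc.IsDimFun X δ := by
    rw [show δ = Groth.Agent.Lib.Cyc.FieldDim.fdelta (X ↘ Spec (CommRingCat.of k)) from
      funext fun x => Groth.Agent.Lib.Cyc.DegK.Dim.delta_eq hδ x]
    exact Groth.Agent.Lib.Cyc.FieldDim.isDimFun_fdelta _
  have hnn := fun x => Groth.Agent.Lib.Cyc.DegK.Dim.delta_nonneg hδ x
  have hD : topologicalKrullDim X ≤ ((1 : ℕ) : WithBot ℕ∞) := by exact_mod_cast hdim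
  obtain ⟨M, hM, ⟨e⟩⟩ := Groth.Agent.Lib.TensorMod.Invertible.exists_inverse hL
  set O := Coh.structureModule X with hOdef
  have hO : Cyc.CohLe δ (((0 : ℕ) : ℤ) + 1) O := ⟨Groth.Agent.Lib.Snapper.Twist.isCoh_structureModule X,
    fun x _ => by
      have := Groth.Agent.Lib.Cyc.DegK.Dim.delta_le hδ isClosed_univ (d := 1)
        ((Topology.IsInducing.subtypeVal.topologicalKrullDim_le).trans hD) (Set.mem_univ x)
      simpa using this⟩
  have hfun : Cyc.subschemeFun δ 1 (𝟙 X) = Cyc.sheafFun δ (((0 : ℕ) : ℤ) + 1) O := funext fun x => by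
    obtain ⟨w⟩ := Groth.Agent.Lib.Cyc.SheafLen.exists_unit_stalk_equiv (X := X) x
    simp only [Cyc.subschemeFun, Cyc.sheafFun, Nat.cast_zero, zero_add]
    rw [show {z : X | (𝟙 X : X ⟶ X) z = x} = {x} from rfl, finsum_mem_singleton]
    exact if_congr Iff.rfl (congrArg (fun n : ℕ∞ => (n.toNat : ℤ)) w.length_eq.symm) rfl
  obtain ⟨A, B, hA, hB, hcap, hsym⟩ := Groth.Agent.Lib.Cyc.DegK.Main.sym_cons_eq k 1 hD hd hnn [] (by simp)
    0 rfl hL hM (Groth.Agent.Lib.TensorMod.Basic.comm M L ≪≫ e) s hs hO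
  let α : AlgebraicCycle X ℤ := Groth.Agent.Lib.Cyc.FP.Rat.cycleOf _ hd hA -
    Groth.Agent.Lib.Cyc.FP.Rat.cycleOf _ hd hB
  have hα : ∀ x, α x = Cyc.c1CapFun δ L (Cyc.subschemeFun δ 1 (𝟙 X)) s x := fun x => by
    rw [hfun, ← hcap x]
    rfl
  have hinv := Groth.Agent.Lib.Snapper.IntNum.sym_inverse
    (Groth.Agent.Lib.Snapper.Finite.cohFinite k X) hD hL hM e [] (by simp) hO.1
    (Groth.Agent.Lib.Snapper.IntNum.dim_support_lt (n := 1) hD)
  have hdeg := Groth.Agent.Lib.Cyc.DegK.Main.euler_sub_eq_deg hd hδ 1 hA hB α fun x => rfl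
  have hLO : CohB1.tensorMod L O ≅ L := Groth.Agent.Lib.TensorMod.Basic.comm L O ≪≫
    Groth.Agent.Lib.TensorMod.Basic.leftUnit L
  rw [Curv2.deg, Groth.Agent.Lib.Snapper.Chi.euler_eq_eulerCharLE hD,
    Groth.Agent.Lib.Snapper.Chi.euler_eq_eulerCharLE hD]
  rw [hinv, Groth.Agent.Lib.Snapper.Vanish.sym_cons] at hsym
  simp only [Groth.Agent.Lib.Snapper.Vanish.sym] at hsym
  rw [Groth.Agent.Lib.Snapper.Chi.eulerCharLE_of_iso hLO] at hsym
  rw [← hsym] at hdeg
  simp only [Nat.cast_one, one_mul]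
  rw [← neg_sub, hdeg]
  have hfin : (Function.support ⇑α).Finite := by
    have h := α.locallyFiniteSupport.finite_inter_support_of_isCompact isCompact_univ
    simpa using h
  rw [Groth.Agent.Lib.Cyc.DegK.Main.deg_eq_sum α hfin.toFinset fun x hx => hfin.mem_toFinset.2 hx,
    finsum_eq_sum_of_support_subset _ (s := hfin.toFinset) fun x hx => hfin.mem_toFinset.2 fun h0 =>
      hx (by rw [← hα, h0, mul_zero])]
  refine Finset.sum_congr rfl fun x hx => ?_
  rw [← hα, mul_comm]
  by_cases h : δ x = 0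
  · simp [AlgebraicCycle.mapCoeff, h]
  · exfalso
    refine hfin.mem_toFinset.1 hx ?_
    change Cyc.sheafFun δ ((0 : ℕ) : ℤ) A x - Cyc.sheafFun δ ((0 : ℕ) : ℤ) B x = 0
    simp [Cyc.sheafFun, h]

end Groth.Agent.S1928
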