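import Groth.Statements.S12672
import Groth.Agent.Lib.Cyc.CH.ChernDet
import Groth.Agent.Lib.Cyc.CH.DegEquiv
import Groth.Agent.Lib.FundLocal.ExtPowExists
import Groth.Agent.Lib.Cyc.DegK.Main
import Groth.Agent.S1928
import Groth.Agent.S7638

set_option autoImplicit false
universe u
open CategoryTheory CategoryTheory.Limits AlgebraicGeometry
open Cyc

namespace Groth.Agent.S12672

/-- Let X be proper over a field K with dim X ≤ 1 and E a finite locally free O_X-module of constant
rank r. Then deg(E) = deg(c_1(E) ∩ [X]_1), where deg(E) = χ(X, E) - r·χ(X, O_X) (Curv2.deg) and the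
right side is the degree (ChowOps.deg, pushforward to the point) of a representative of c_1(E) ∩
[X]_1, [X]_1 being the 1-cycle of X (Cyc.subschemeFun); for r = 0 both sides are 0. Dimension
function: transcendence degree over K. (This is the general constant-rank case; the invertible case
is a separate result stated with c_1(L) ∩ - of an invertible module.) Setting: (X, δ) with
Cyc.IsSetup stands for a scheme locally of finite type over the base (S, δ) (X locally Noetherian
with universally catenary local rings, δ a dimension function); (p : P → X, O_P(1), q) is the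
projective bundle of E given by its universal property (KRR.IsProjBundle), p is proper and δP is the
induced dimension function (Cyc.DeltaCompat); a tuple γ with Cyc.IsChernCap represents (c_0(E) ∩ α,
…, c_r(E) ∩ α) through the defining relation Σ_i (-1)^i c_1(O_P(1))^i ∩ p^*(γ_{r-i}) ∼_rat 0 on P,
and classes are compared up to rational equivalence of representing cycles. -/
theorem result (K : Type u) [Field K] (X : Scheme.{u}) [X.Over (Spec (CommRingCat.of K))] [IsProper (X ↘ Spec (CommRingCat.of K))] (hdim : topologicalKrullDim X ≤ 1) (δ : X → ℤ) (hX : Cyc.IsSetup X δ) (hK : Cyc.DeltaCompat (X ↘ Spec (CommRingCat.of K)) δ (fun _ => 0)) (r : ℕ) (E : X.Modules) (hPE : FlatMod.IsFinLocFreeOfRank r E) (P : Scheme.{u}) (p : P ⟶ X) (O1 : P.Modules) (q : (Scheme.Modules.pullback p).obj E ⟶ O1) (hP : KRR.IsProjBundle p E O1 q) [IsProper p] (δP : P → ℤ) (hPs : Cyc.IsSetup P δP) (hδ : Cyc.DeltaCompat p δP δ) (α : AlgebraicCycle X ℤ) (hα : ⇑α = Cyc.subschemeFun δ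 1 (𝟙 X)) (γ : Fin (r + 1) → AlgebraicCycle X ℤ) (hγ : Cyc.IsChernCap p δ δP O1 r 1 α γ) : Curv2.deg K X E r = (if h : 1 ≤ r then ChowOps.deg (X ↘ Spec (CommRingCat.of K)) δ (γ ⟨1, Nat.lt_succ_of_le h⟩) else 0) := by
  haveI := hX.1
  haveI := hPs.1
  haveI : E.IsQuasicoherent :=
    (Lib.CurveBundle.Coherent.isCoh (Lib.TensorMod.LocFree.of_rank hPE)).1
  obtain ⟨L, hL⟩ := Lib.FundLocal.ExtPowExists.exists_isExtPow E r
  rw [S7638.result K X hdim r E hPE L hL]
  obtain ⟨A⟩ := Lib.Cyc.CH.nonempty_detAtlas_of_isExtPow hPE hL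
  have hLi := A.isInvertible
  obtain ⟨s, hs⟩ := Lib.Cyc.CH.exists_sections hLi
  obtain ⟨c, hc, e⟩ := Lib.Cyc.CH.exists_isChern hX hPE hP hPs hδ
  have hα1 : α ∈ Cyc.Zk X δ 1 := fun x hx => by
    rw [hα]; exact if_neg hx
  have hα' : α ∈ Cyc.Zk X δ (0 + 1) := by simpa using hα1
  obtain ⟨β, hβ⟩ := Lib.Cyc.Gys.C1.exists_cap hX.2.2 hLi hα' s hs
  have hβm : β ∈ Cyc.Zk X δ 0 := Lib.Cyc.Gys.C1.cap_mem hX.2.2 hα' s β hβ
  have hc1 := Lib.Cyc.CH.c1_cls δ hX.2.2 hLi hα1 (by norm_num : (0 : ℤ) = 1 - 1) hβm s hs hβ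
  rw [← hc.ch_one hX hPE A] at hc1
  have hdeg : ChowOps.deg (X ↘ Spec (CommRingCat.of K)) δ β =
      ∑ᶠ x : X, ((X ↘ Spec (CommRingCat.of K)).residueDegree x : ℤ) *
        Cyc.c1CapFun δ L (Cyc.subschemeFun δ 1 (𝟙 X)) s x := by
    haveI := Lib.Curves.GlobalSections.isNoetherian_of_proper K X
    have hfin : (Function.support ⇑β).Finite := by
      simpa using β.locallyFiniteSupport.finite_inter_support_of_isCompact isCompact_univ
    rw [Lib.Cyc.DegK.Main.deg_eq_sum β hfin.toFinset fun x hx => hfin.mem_toFinset.2 hx,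
      finsum_eq_sum_of_support_subset _ (s := hfin.toFinset) fun x hx => hfin.mem_toFinset.2 fun h0 =>
        hx (by rw [← hα, ← hβ, h0, mul_zero])]
    refine Finset.sum_congr rfl fun x hx => ?_
    rw [← hα, ← hβ, mul_comm]
    by_cases h : δ x = 0
    · simp [AlgebraicCycle.mapCoeff, h]
    · exact absurd (hβm x h) (hfin.mem_toFinset.1 hx)
  rw [S1928.result K X hdim δ hK L hLi s hs, ← hdeg]
  split
  case isTrue h =>
    refine (Lib.Cyc.CH.deg_congr _ hX.2.2 hK ?_).symm
    refine (Lib.Cyc.CH.cls_eq_iff hX.2.2 ?_ hβm).1 ?_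
    · simpa using hγ.2.1 ⟨1, Nat.lt_succ_of_le h⟩
    · rw [← hc1]
      exact (Lib.Cyc.CH.cls_congr (by simp) rfl).trans (e hγ hα1 ⟨1, Nat.lt_succ_of_le h⟩)
  case isFalse h =>
    rw [hc.eq_zero hX (by omega : r < 1)] at hc1
    have hz : Lib.Cyc.CH.cls δ 0 β hβm =
        Lib.Cyc.CH.cls δ 0 0 Lib.Cyc.CH.mem_zero := by
      rw [Lib.Cyc.CH.cls_zero]; exact hc1.symm
    rw [Lib.Cyc.CH.deg_congr _ hX.2.2 hK ((Lib.Cyc.CH.cls_eq_iff hX.2.2 _ _).1 hz),
      ChowOps.deg]
    have h0 := Lib.Cyc.PP.Div.map_sub_apply (δX := δ) (δY := fun _ => (0 : ℤ))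
      (X ↘ Spec (CommRingCat.of K)) 0 0 (IsLocalRing.closedPoint K)
    rw [sub_zero] at h0
    omega

end Groth.Agent.S12672
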