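import Groth.Statements.S12675
import Groth.Agent.Lib.Cyc.CH.Line

set_option autoImplicit false
universe u
open CategoryTheory CategoryTheory.Limits AlgebraicGeometry
open Cyc

namespace Groth.Agent.S12675

/-- Suppose X is integral of δ-dimension n and L is an O_X-module that is invertible; then L's first
Chern class on X, taken in the sense of the projective-bundle characterisation (rank r = 1), agrees
with the Weil divisor class c_1(L) ∩ [X] of L (the divisor of a nonzero rational section,
Cyc.c1CapFun on the cycle [X]_n). The projective bundle of L is given abstractly by its universal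
property, so the identification P(L) = X, O(1) = L is part of what is asserted. Setting: (X, δ) with
Cyc.IsSetup stands for a scheme locally of finite type over the base (S, δ) (X locally Noetherian
with universally catenary local rings, δ a dimension function); (p : P → X, O_P(1), q) is the
projective bundle of E given by its universal property (KRR.IsProjBundle), p is proper and δP is the
induced dimension function (Cyc.DeltaCompat); a tuple γ with Cyc.IsChernCap represents (c_0(E) ∩ α,
…, c_r(E) ∩ α) through the defining relation Σ_i (-1)^i c_1(O_P(1))^i ∩ p^*(γ_{r-i}) ∼_rat 0 on P,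
and classes are compared up to rational equivalence of representing cycles. -/
theorem result (X : Scheme.{u}) (δ : X → ℤ) (hX : Cyc.IsSetup X δ) [IsIntegral X] (n : ℤ) (hn : δ (genericPoint X) = n) (L : X.Modules) (hL : PicF.IsInvertible L) (hPE : FlatMod.IsFinLocFreeOfRank 1 L) (P : Scheme.{u}) (p : P ⟶ X) (O1 : P.Modules) (q : (Scheme.Modules.pullback p).obj L ⟶ O1) (hP : KRR.IsProjBundle p L O1 q) [IsProper p] (δP : P → ℤ) (hPs : Cyc.IsSetup P δP) (hδ : Cyc.DeltaCompat p δP δ) (α : AlgebraicCycle X ℤ) (hα : ⇑α = Cyc.subschemeFun δ n (𝟙 X)) (γ : Fin 2 → AlgebraicCycle X ℤ) (hγ : Cyc.IsChernCap p δ δP O1 1 n α γ) (s : (ξ : X) → Cyc.secFibre L ξ) (hs : ∀ ξ, s ξ ≠ 0) (β : AlgebraicCycle X ℤ) (hβ : ⇑β = Cyc.c1CapFun δ L ⇑α s) : Cyc.RatEquiv δ (n - 1) (γ 1) β := by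
  haveI := hX.1
  haveI := hPs.1
  haveI := hP.epi
  have B := Lib.Cyc.CH.Bdl.of_isProjBundle (n := 0) hX.2.2 hPs.2.2 hδ hP hPE
  haveI : IsIso q := Lib.Cyc.CH.isIso_of_epi_invertible (PicLoc.isInvertible_pullback p hL) B.inv q
  have hα' : α ∈ Cyc.Zk X δ n := by
    have := hγ.2.1 0
    rw [hγ.1] at this
    simpa using this
  have hβ' : β ∈ Cyc.Zk X δ (n - 1) := Lib.Cyc.CH.c1_mem δ hα' s hβ hX.2.2
  have hγ1 : γ 1 ∈ Cyc.Zk X δ (n - 1) := by simpa using hγ.2.1 1
  rw [← Lib.Cyc.CH.cls_eq_iff hX.2.2 hγ1 hβ']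
  refine (Lib.Cyc.CH.cls_congr (by simp) rfl).trans ((B.cls_eq_ch hγ hα' 1).trans ?_)
  rw [show ((1 : Fin 2) : ℕ) = 1 from rfl, B.ch_one hL (asIso q)]
  exact Lib.Cyc.CH.c1_cls δ hX.2.2 hL hα' rfl hβ' s hs hβ

end Groth.Agent.S12675
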