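import Groth.Statements.S1950
import Groth.Agent.H19.IntMult.PushCore


set_option autoImplicit false
universe u
open CategoryTheory CategoryTheory.Limits AlgebraicGeometry
attribute [local instance] HasDerivedCategory.standard
open IntMult

namespace Groth.Agent.S1950

open Groth.Agent.Lib Groth.Agent.Lib.Cyc Groth.Agent.H19.IntMult

theorem lift_of_specializes {X Y : Scheme.{u}} (f : X ⟶ Y) [IsProper f] {ξ : X} {z : Y} (hz : f ξ ⤳ z) :
    ∃ x, ξ ⤳ x ∧ f x = z := by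
  have h1 : closure {f ξ} ⊆ f '' closure {ξ} :=
    ((f.isClosedMap _ isClosed_closure).closure_subset_iff).2
      (Set.singleton_subset_iff.2 ⟨ξ, subset_closure rfl, rfl⟩)
  obtain ⟨x, hx, rfl⟩ := h1 hz.mem_closure
  exact ⟨x, specializes_iff_mem_closure.2 hx, rfl⟩

theorem finite_gens {X Y : Scheme.{u}} (f : X ⟶ Y) [QuasiCompact f] (α : AlgebraicCycle X ℤ) (y : Y) :
    {ξ : X | α ξ ≠ 0 ∧ f ξ ⤳ y}.Finite := by
  obtain ⟨_, ⟨V, hV, rfl⟩, hyV, -⟩ :=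
    Y.isBasis_affineOpens.exists_subset_of_mem_open (Set.mem_univ y) isOpen_univ
  exact (α.locallyFiniteSupport.finite_inter_support_of_isCompact
    (QuasiCompact.isCompact_preimage (f := f) (V : Set Y) V.2 hV.isCompact)).subset
    fun ξ hξ => ⟨hξ.2.mem_open V.2 hyV, hξ.1⟩

variable {K : Type u} [Field K] [IsAlgClosed K] {X Y : Scheme.{u}} (f : X ⟶ Y) [Flat f] {δX : X → ℤ} {δY : Y → ℤ}

/-- The coefficient of the product upstairs. -/
theorem gamma_eq (gX : X ⟶ Spec (CommRingCat.of K)) [Smooth gX] [IsIntegral X] [IsLocallyNoetherian X]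
    [IsLocallyNoetherian Y] (hX : Cyc.IsDimFun X δX) (hY : Cyc.IsDimFun Y δY) {e : ℕ}
    (hsh : FP.Main.Shift f δX δY (e : ℤ)) {n r s k : ℤ} (hn : δX (genericPoint X) = n)
    (hnum : k + n = r + s + e) (α : X → ℤ) (β : Y → ℤ) (hα : ∀ ξ, α ξ ≠ 0 → δX ξ = r)
    (hβ : ∀ ω, β ω ≠ 0 → δY ω = s)
    (hmeet : ∀ ξ ω, α ξ ≠ 0 → β ω ≠ 0 → ∀ z : X, ξ ⤳ z → ω ⤳ f z → δX z ≤ k) {y : Y} (x : X) (hxy : f x = y)
    (hx : δX x = k) (A : Finset X) (hA : ∀ ξ, ξ ∈ A ↔ α ξ ≠ 0 ∧ f ξ ⤳ y) (B : Finset Y)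
    (hB : ∀ ω, ω ∈ B ↔ β ω ≠ 0 ∧ ω ⤳ y) [DecidablePred fun ξ : X => ξ ⤳ x] :
    IntMult.interProd δX n α (Cyc.pullFun f δX δY e β) x =
      ∑ ξ ∈ A, ∑ ω ∈ B, if ξ ⤳ x then α ξ * β ω * PushCore.chiX f ξ ω x else 0 := by
  classical
  have hW : ∀ ξ ω, α ξ ≠ 0 → β ω ≠ 0 → ξ ⤳ x → ω ⤳ f x → ∃ W : Finset X,
      (∀ w, w ∈ W ↔ w ⤳ x ∧ f w = ω ∧ δX w = s + e) ∧
      ∑ w ∈ W, ((FibLen.fibLen f w).toNat : ℤ) *
        IntMult.mult (IntMult.ptIdeal ξ) (IntMult.ptIdeal w) x = PushCore.chiX f ξ ω x := fun ξ ω h1 h2 h3 h4 =>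
    PushCore.local_eq f gX hX hY hsh hn hnum (hα ξ h1) (hβ ω h2) x h3 h4 hx (hmeet ξ ω h1 h2)
  choose! W hWmem hWsum using hW
  let A' := A.filter fun ξ => ξ ⤳ x
  have hA' : ∀ ξ ∈ A', α ξ ≠ 0 ∧ ξ ⤳ x := fun ξ h =>
    ⟨((hA ξ).1 (Finset.mem_filter.1 h).1).1, (Finset.mem_filter.1 h).2⟩
  have hB' : ∀ ω ∈ B, β ω ≠ 0 ∧ ω ⤳ f x := fun ω h => ⟨((hB ω).1 h).1, hxy ▸ ((hB ω).1 h).2⟩
  let T := A'.biUnion fun ξ => (B.biUnion (W ξ)).image (Prod.mk ξ)
  let tm : X × X → ℤ := fun p => α p.1 * Cyc.pullFun f δX δY e β p.2 *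
    IntMult.mult (IntMult.ptIdeal p.1) (IntMult.ptIdeal p.2) x
  show (∑ᶠ p : {p : X × X // p.1 ⤳ x ∧ p.2 ⤳ x ∧ δX p.1 + δX p.2 - n = δX x}, tm p.1) = _
  refine (finsum_subtype_eq_finsum_cond (f := tm) _).trans ?_
  refine (finsum_cond_eq_sum_of_cond_iff tm (t := T) ?_).trans ?_
  · rintro ⟨ξ, w⟩ hne
    simp only [T, Finset.mem_biUnion, Finset.mem_image, Prod.mk.injEq]
    constructor
    · rintro ⟨h1, h2, h3⟩
      have h4 : α ξ ≠ 0 := left_ne_zero_of_mul (left_ne_zero_of_mul hne)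
      have h5 : Cyc.pullFun f δX δY e β w ≠ 0 := right_ne_zero_of_mul (left_ne_zero_of_mul hne)
      rw [FibLen.pullFun_apply] at h5
      split_ifs at h5 with h6
      · have h7 : β (f w) ≠ 0 := left_ne_zero_of_mul h5
        have h8 : f w ⤳ y := hxy ▸ h2.map f.continuous
        have hξA : ξ ∈ A' := Finset.mem_filter.2 ⟨(hA ξ).2 ⟨h4, hxy ▸ h1.map f.continuous⟩, h1⟩
        refine ⟨ξ, hξA, w, ⟨f w, (hB _).2 ⟨h7, h8⟩, ?_⟩, rfl, rfl⟩
        exact (hWmem ξ (f w) h4 h7 h1 (h2.map f.continuous) w).2 ⟨h2, rfl, by rw [h6, hβ _ h7]⟩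
      · exact absurd rfl h5
    · rintro ⟨ξ', hξ', w', ⟨ω, hω, hw⟩, rfl, rfl⟩
      obtain ⟨a1, a2⟩ := hA' _ hξ'
      obtain ⟨b1, b2⟩ := hB' _ hω
      obtain ⟨c1, c2, c3⟩ := (hWmem _ _ a1 b1 a2 b2 _).1 hw
      exact ⟨a2, c1, by rw [hα _ a1, c3, hx]; omega⟩
  rw [Finset.sum_biUnion (fun ξ _ ξ' _ hne => by
    simp only [Function.onFun, Finset.disjoint_left, Finset.mem_image]
    rintro _ ⟨w, -, rfl⟩ ⟨w', -, h⟩
    exact hne (congrArg Prod.fst h).symm)]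
  refine Eq.trans ?_ (Finset.sum_congr rfl fun ξ _ => Finset.sum_ite_irrel _ _ _ _).symm
  simp only [Finset.sum_const_zero]
  rw [← Finset.sum_filter]
  refine Finset.sum_congr rfl fun ξ hξ => ?_
  obtain ⟨a1, a2⟩ := hA' _ hξ
  rw [Finset.sum_image fun w _ w' _ h => congrArg Prod.snd h, Finset.sum_biUnion (fun ω hω ω' hω' hne => by
    simp only [Function.onFun, Finset.disjoint_left]
    intro w h1 h2
    obtain ⟨b1, b2⟩ := hB' _ hω
    obtain ⟨b1', b2'⟩ := hB' _ hω'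
    exact hne (((hWmem _ _ a1 b1 a2 b2 _).1 h1).2.1.symm.trans ((hWmem _ _ a1 b1' a2 b2' _).1 h2).2.1))]
  refine Finset.sum_congr rfl fun ω hω => ?_
  obtain ⟨b1, b2⟩ := hB' _ hω
  rw [← hWsum ξ ω a1 b1 a2 b2, Finset.mul_sum]
  refine Finset.sum_congr rfl fun w hw => ?_
  obtain ⟨c1, c2, c3⟩ := (hWmem _ _ a1 b1 a2 b2 _).1 hw
  simp only [tm, FibLen.pullFun_apply]
  rw [if_pos (by rw [c2, hβ _ b1, c3]), c2]
  ring


/-- Let f : X → Y be proper and flat, where X and Y are nonsingular varieties over K of dimensions n and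
m, e = n − m, α an r-cycle on X and β an s-cycle on Y such that α and f^*β intersect properly. The
pushforward f_*α then meets β properly, and on Y the cycle f_*α · β equals f_*(α · f^*β) (flat
pullback and products taken coefficientwise; f_* is Mathlib's pushforward, applied to any cycle with
the coefficients of α · f^*β). Here X is a nonsingular variety over the algebraically closed field K
(smooth, separated, quasi-compact, integral) with dimension function δ (transcendence degree) and n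
= dim X; cycles are Mathlib AlgebraicCycles with Cyc.Zk membership, proper intersection is
IntMult.IntersectProperly and α · β is the Tor-formula intersection product on coefficient functions
(IntMult.interProd), bundled where needed as 'any cycle with these coefficients'. -/
theorem result (K : Type u) [Field K] [IsAlgClosed K] (X Y : Scheme.{u}) (f : X ⟶ Y) (gX : X ⟶ Spec (CommRingCat.of K)) (gY : Y ⟶ Spec (CommRingCat.of K)) (hf : f ≫ gY = gX) [Smooth gX] [IsSeparated gX] [QuasiCompact gX] [IsIntegral X] [Smooth gY] [IsSeparated gY] [QuasiCompact gY] [IsIntegral Y] [Flat f] [IsProper f] (δX : X → ℤ) (δY : Y → ℤ) (hX : Cyc.IsSetup X δX) (hY : Cyc.IsSetup Y δY) (hδX : Cyc.DeltaCompat gX δX (fun _ => 0)) (hδY : Cyc.DeltaCompat gY δY (fun _ => 0)) (hδ : Cyc.DeltaCompat f δX δY) (n m : ℤ) (hn : δX (genericPoint X) = n) (hm : δY (genericPoint Y) = m) (e : ℕ) (he : (e : ℤ) = n - m) (hrel : Cyc.HasRelDim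 f e) (r s : ℤ) (α : AlgebraicCycle X ℤ) (β : AlgebraicCycle Y ℤ) (hα : α ∈ Cyc.Zk X δX r) (hβ : β ∈ Cyc.Zk Y δY s) (hprop : IntMult.IntersectProperly δX n ⇑α (Cyc.pullFun f δX δY e ⇑β)) (γ : AlgebraicCycle X ℤ) (hγ : ⇑γ = IntMult.interProd δX n ⇑α (Cyc.pullFun f δX δY e ⇑β)) : IntMult.IntersectProperly δY m ⇑(AlgebraicCycle.map f δX δY α) ⇑β ∧ IntMult.interProd δY m ⇑(AlgebraicCycle.map f δX δY α) ⇑β = ⇑(AlgebraicCycle.map f δX δY γ) := by
  classical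
  haveI := hX.1
  haveI := hY.1
  have dX := hX.2.2
  have dY := hY.2.2
  have hsh : FP.Main.Shift f δX δY (e : ℤ) := FP.Main.shift_of_hasRelDim f hrel hδ
  let k := r + s - m
  have hnum : k + n = r + s + e := by simp only [k]; omega
  have hα' : ∀ ξ, α ξ ≠ 0 → δX ξ = r := fun ξ h => by_contra fun h' => h (hα ξ h')
  have hβ' : ∀ ω, β ω ≠ 0 → δY ω = s := fun ω h => by_contra fun h' => h (hβ ω h')
  have hmeet : ∀ ξ ω, α ξ ≠ 0 → β ω ≠ 0 → ∀ z : X, ξ ⤳ z → ω ⤳ f z → δX z ≤ k := fun ξ ω h1 h2 z h3 h4 => by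
    obtain ⟨ω', hw, hfw, hmax⟩ := PushLocal.exists_fib_gen f z h4
    have h5 : δX ω' = s + e := by rw [hsh ω' hmax, hfw, hβ' _ h2]
    have h6 : Cyc.pullFun f δX δY e ⇑β ω' ≠ 0 := by
      rw [FibLen.pullFun_apply, if_pos (hsh ω' hmax), hfw]
      have := FibLen.toNat_fibLen_pos f ω' hmax
      exact mul_ne_zero h2 (by exact_mod_cast this.ne')
    have h7 := hprop ξ ω' z h1 h6 h3 hw
    rw [hα' _ h1, h5] at h7
    simp only [k]; omega
  have hmapne : ∀ η, AlgebraicCycle.map f δX δY α η ≠ 0 → ∃ ξ, f ξ = η ∧ α ξ ≠ 0 ∧ δY η = r := fun η h => by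
    rw [Push.map_apply] at h
    obtain ⟨ξ, hξ, h'⟩ := exists_ne_zero_of_finsum_mem_ne_zero h
    have hc := right_ne_zero_of_mul h'
    have hd : δX ξ = δY (f ξ) := by
      by_contra hne
      exact hc (by simp only [AlgebraicCycle.mapCoeff]; rw [if_neg hne]; rfl)
    have he : f ξ = η := hξ
    exact ⟨ξ, he, left_ne_zero_of_mul h', by rw [← he, ← hd, hα' _ (left_ne_zero_of_mul h')]⟩
  refine ⟨fun η ω y h1 h2 h3 h4 => ?_, ?_⟩
  · obtain ⟨ξ, hξ, hξ0, hηr⟩ := hmapne η h1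
    obtain ⟨x, hx1, hx2⟩ := lift_of_specializes f (hξ ▸ h3)
    have h5 := hmeet ξ ω hξ0 h2 x hx1 (hx2 ▸ h4)
    have h6 := Residue.deltaY_le hδ x
    rw [hx2] at h6
    rw [hηr, hβ' _ h2]
    simp only [k] at h5
    omega
  funext y
  rw [Push.map_apply f δX δY γ]
  let tmY : Y × Y → ℤ := fun p => AlgebraicCycle.map f δX δY α p.1 * β p.2 *
    IntMult.mult (IntMult.ptIdeal p.1) (IntMult.ptIdeal p.2) y
  show (∑ᶠ p : {p : Y × Y // p.1 ⤳ y ∧ p.2 ⤳ y ∧ δY p.1 + δY p.2 - m = δY y}, tmY p.1) = _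
  have hγk : ∀ x, γ x ≠ 0 → δX x = k := fun x hx => by
    rw [congrFun hγ x] at hx
    obtain ⟨⟨⟨ξ, w⟩, h1, h2, h3⟩, hne⟩ := not_forall.1 fun h => hx (finsum_eq_zero_of_forall_eq_zero h)
    dsimp only at hne h3
    have h4 := hα' _ (left_ne_zero_of_mul (left_ne_zero_of_mul hne))
    have h5 := right_ne_zero_of_mul (left_ne_zero_of_mul hne)
    rw [FibLen.pullFun_apply] at h5
    split_ifs at h5 with h6
    · have h7 := hβ' _ (left_ne_zero_of_mul h5)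
      rw [h4, h6, h7] at h3
      simp only [k]; omega
    · exact absurd rfl h5
  by_cases hy : δY y = k
  swap
  · rw [finsum_eq_zero_of_forall_eq_zero, finsum_mem_eq_zero_of_forall_eq_zero]
    · intro x hx
      by_contra hne
      have h1 := hγk x (left_ne_zero_of_mul hne)
      have h2 : δX x = δY (f x) := by
        by_contra hne'
        exact right_ne_zero_of_mul hne (by simp only [AlgebraicCycle.mapCoeff]; rw [if_neg hne']; rfl)
      rw [show f x = y from hx] at h2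
      exact hy (h2.symm.trans h1)
    · rintro ⟨⟨η, ω⟩, -, -, h3⟩
      by_contra hne
      obtain ⟨ξ, -, -, hηr⟩ := hmapne η (left_ne_zero_of_mul (left_ne_zero_of_mul hne))
      have h5 := hβ' ω (right_ne_zero_of_mul (left_ne_zero_of_mul hne))
      dsimp only at h3
      rw [hηr, h5] at h3
      exact hy h3.symm
  let A := (finite_gens f α y).toFinset
  have hA : ∀ ξ, ξ ∈ A ↔ α ξ ≠ 0 ∧ f ξ ⤳ y := fun ξ => Set.Finite.mem_toFinset _
  let B := (finite_gens (𝟙 Y) β y).toFinset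
  have hB : ∀ ω, ω ∈ B ↔ β ω ≠ 0 ∧ ω ⤳ y := fun ω => (Set.Finite.mem_toFinset _).trans (by simp)
  have hcore := fun ξ ω (h1 : ξ ∈ A) (h2 : ω ∈ B) =>
    PushCore.core f gY dX dY hδ hm (show k + m = r + s by simp only [k]; omega) (hα' ξ ((hA ξ).1 h1).1)
      (hβ' ω ((hB ω).1 h2).1) hy ((hA ξ).1 h1).2 ((hB ω).1 h2).2 (hmeet ξ ω ((hA ξ).1 h1).1 ((hB ω).1 h2).1)
  choose! hηr F hF hFk hFsum using hcore
  -- the left hand side
  have hL : (∑ᶠ p : {p : Y × Y // p.1 ⤳ y ∧ p.2 ⤳ y ∧ δY p.1 + δY p.2 - m = δY y}, tmY p.1) =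
      ∑ ξ ∈ A, ∑ ω ∈ B, α ξ * (f.residueDegree ξ : ℤ) * β ω *
        IntMult.mult (IntMult.ptIdeal (f ξ)) (IntMult.ptIdeal ω) y := by
    refine (finsum_subtype_eq_finsum_cond (f := tmY) _).trans ?_
    refine (finsum_cond_eq_sum_of_cond_iff tmY (t := (A.image f) ×ˢ B) ?_).trans ?_
    · rintro ⟨η, ω⟩ hne
      simp only [Finset.mem_product, Finset.mem_image]
      constructor
      · rintro ⟨h1, h2, h3⟩
        obtain ⟨ξ, hξ, hξ0, -⟩ := hmapne η (left_ne_zero_of_mul (left_ne_zero_of_mul hne))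
        exact ⟨⟨ξ, (hA ξ).2 ⟨hξ0, hξ ▸ h1⟩, hξ⟩, (hB ω).2 ⟨right_ne_zero_of_mul (left_ne_zero_of_mul hne), h2⟩⟩
      · rintro ⟨⟨ξ, hξ, rfl⟩, hω⟩
        refine ⟨((hA ξ).1 hξ).2, ((hB ω).1 hω).2, ?_⟩
        rw [hηr ξ ω hξ hω, hβ' ω ((hB ω).1 hω).1, hy]
    rw [Finset.sum_product, Finset.sum_comm]
    conv_rhs => rw [Finset.sum_comm]
    refine Finset.sum_congr rfl fun ω hω => ?_
    have hmap : ∀ η ∈ A.image f, AlgebraicCycle.map f δX δY α η =
        ∑ ξ ∈ A with f ξ = η, α ξ * (f.residueDegree ξ : ℤ) := fun η hη => by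
      obtain ⟨ξ₀, hξ₀, rfl⟩ := Finset.mem_image.1 hη
      rw [Push.map_apply, finsum_mem_eq_sum_of_inter_support_eq (t := A.filter fun ξ => f ξ = f ξ₀)]
      · refine Finset.sum_congr rfl fun ξ hξ => ?_
        obtain ⟨h1, h2⟩ := Finset.mem_filter.1 hξ
        rw [AlgebraicCycle.mapCoeff, if_pos (show δX ξ = δY (f ξ) by
          rw [hα' ξ ((hA ξ).1 h1).1, hηr ξ ω h1 hω])]
      · ext ξ
        simp only [Set.mem_inter_iff, Set.mem_preimage, Set.mem_singleton_iff, Function.mem_support,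
          Finset.coe_filter, Set.mem_setOf_eq]
        constructor
        · rintro ⟨h1, h2⟩
          exact ⟨⟨(hA ξ).2 ⟨left_ne_zero_of_mul h2, h1 ▸ ((hA ξ₀).1 hξ₀).2⟩, h1⟩, h2⟩
        · rintro ⟨⟨-, h1⟩, h2⟩
          exact ⟨h1, h2⟩
    rw [← Finset.sum_fiberwise_of_maps_to (fun ξ hξ => Finset.mem_image_of_mem f hξ)
      (fun ξ => α ξ * (f.residueDegree ξ : ℤ) * β ω * IntMult.mult (IntMult.ptIdeal (f ξ)) (IntMult.ptIdeal ω) y)]
    refine Finset.sum_congr rfl fun η hη => ?_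
    simp only [tmY]
    rw [hmap η hη, Finset.sum_mul, Finset.sum_mul]
    exact Finset.sum_congr rfl fun ξ hξ => by rw [(Finset.mem_filter.1 hξ).2]
  rw [hL]
  -- the right hand side
  let G := (Push.finite_fiber_support f γ y).toFinset ∪ A.biUnion fun ξ => B.biUnion (F ξ)
  have hG : ∀ x ∈ G, f x = y ∧ δX x = k := fun x hx => by
    rcases Finset.mem_union.1 hx with h | h
    · obtain ⟨h1, h2⟩ := (Set.Finite.mem_toFinset _).1 h
      exact ⟨h1, hγk x h2⟩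
    · simp only [Finset.mem_biUnion] at h
      obtain ⟨ξ, hξ, ω, hω, h⟩ := h
      exact ⟨((hF ξ ω hξ hω x).1 h).2, hFk ξ ω hξ hω x h⟩
  rw [finsum_mem_eq_sum_of_inter_support_eq (t := G)]
  swap
  · ext x
    simp only [Set.mem_inter_iff, Set.mem_preimage, Set.mem_singleton_iff, Function.mem_support, Finset.mem_coe]
    constructor
    · rintro ⟨h1, h2⟩
      exact ⟨Finset.mem_union_left _ ((Set.Finite.mem_toFinset _).2 ⟨h1, left_ne_zero_of_mul h2⟩), h2⟩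
    · rintro ⟨h1, h2⟩
      exact ⟨(hG x h1).1, h2⟩
  have hterm : ∀ x ∈ G, γ x * (AlgebraicCycle.mapCoeff f δX δY x : ℤ) = ∑ ξ ∈ A, ∑ ω ∈ B,
      (if ξ ⤳ x then α ξ * β ω * PushCore.chiX f ξ ω x else 0) * (f.residueDegree x : ℤ) := fun x hx => by
    rw [congrFun hγ x, gamma_eq f gX dX dY hsh hn hnum α β hα' hβ' hmeet x (hG x hx).1 (hG x hx).2 A hA B hB,
      AlgebraicCycle.mapCoeff, if_pos (show δX x = δY (f x) by rw [(hG x hx).1, (hG x hx).2, hy]), Finset.sum_mul]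
    exact Finset.sum_congr rfl fun ξ _ => Finset.sum_mul _ _ _
  refine Eq.trans ?_ (Finset.sum_congr rfl hterm).symm
  refine Eq.trans ?_ Finset.sum_comm
  refine Finset.sum_congr rfl fun ξ hξ => ?_
  refine Eq.trans ?_ Finset.sum_comm
  refine Finset.sum_congr rfl fun ω hω => ?_
  have hsub : F ξ ω ⊆ G := fun x hx => Finset.mem_union_right _
    (Finset.mem_biUnion.2 ⟨ξ, hξ, Finset.mem_biUnion.2 ⟨ω, hω, hx⟩⟩)
  refine Eq.trans ?_ (Finset.sum_subset hsub fun x hx hnot => by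
    rw [if_neg fun h => hnot ((hF ξ ω hξ hω x).2 ⟨h, (hG x hx).1⟩), zero_mul])
  refine Eq.trans ?_ (Finset.sum_congr rfl (g := fun x => (if ξ ⤳ x then α ξ * β ω * PushCore.chiX f ξ ω x else 0) *
      (f.residueDegree x : ℤ)) (f := fun x => α ξ * β ω * PushCore.chiX f ξ ω x * (f.residueDegree x : ℤ)) fun x hx => ?_)
  swap
  · rw [if_pos ((hF ξ ω hξ hω x).1 hx).1]
  calc α ξ * (f.residueDegree ξ : ℤ) * β ω * IntMult.mult (IntMult.ptIdeal (f ξ)) (IntMult.ptIdeal ω) y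
      = α ξ * β ω * ((f.residueDegree ξ : ℤ) * IntMult.mult (IntMult.ptIdeal (f ξ)) (IntMult.ptIdeal ω) y) := by ring
    _ = _ := by
      rw [← hFsum ξ ω hξ hω, Finset.mul_sum]
      exact Finset.sum_congr rfl fun x _ => by ring


end Groth.Agent.S1950
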