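import Groth.Statements.S12676
import Groth.Agent.S1950
import Groth.Agent.H19.IntMult.SectDiv
import Groth.Agent.Lib.Cyc.PP.Main
import Groth.Agent.Lib.Cyc.Retr.Main
import Groth.Agent.Lib.ProjSpace.Basic

set_option autoImplicit false
universe u
open CategoryTheory CategoryTheory.Limits AlgebraicGeometry
attribute [local instance] HasDerivedCategory.standard
open IntMult

namespace Groth.Agent.S12676

open Groth.Agent.Lib Groth.Agent.Lib.Cyc Groth.Agent.H19.IntMult IsLocalRing
open scoped TensorProduct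

/-- Dimension functions over a base point are compatible along morphisms over the base. -/
theorem deltaCompat_of_base {A B S : Scheme.{u}} (h : A ⟶ B) (g : B ⟶ S) {δA : A → ℤ} {δB : B → ℤ} {δS : S → ℤ}
    (hB : Cyc.DeltaCompat g δB δS) (hA : Cyc.DeltaCompat (h ≫ g) δA δS) : Cyc.DeltaCompat h δA δB := by
  intro a
  obtain ⟨m, hm, hm'⟩ := Residue.exists_trdegAt hA a
  obtain ⟨l, hl, hl'⟩ := Residue.exists_trdegAt hB (h a)
  rw [Residue.trdegAt_comp, hl] at hm
  have hlt : Residue.trdegAt h a < Cardinal.aleph0 :=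
    lt_of_le_of_lt (hm ▸ self_le_add_left _ _) (Cardinal.natCast_lt_aleph0 (n := m))
  obtain ⟨j, hj⟩ := Cardinal.lt_aleph0.1 hlt
  rw [hj] at hm
  have hlj : l + j = m := by exact_mod_cast hm
  refine ⟨j, hj, ?_⟩
  rw [Scheme.Hom.comp_apply] at hm'
  omega

/-- Intersection number of a flat quotient with a pulled back ideal. -/
theorem chi_flat_quot {A : Type u} [CommRing A] (C L : Type u) [CommRing C] [CommRing L] [Algebra A C]
    [Algebra A L] [Algebra C L] [IsScalarTower A C L] [Module.Flat A C] [Module.Flat A L]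
    (hs : Function.Surjective (algebraMap C L)) (I : Ideal A) (J : Ideal C)
    (hJ : RingHom.ker (algebraMap C L) = J) :
    IntMult.chi C (C ⧸ J) (C ⧸ I.map (algebraMap A C)) =
      ((Module.length L (L ⧸ I.map (algebraMap A L))).toNat : ℤ) := by
  haveI : Module.Flat A (C ⧸ J) := Module.Flat.of_linearEquiv
    (((Submodule.quotEquivOfEq _ _ hJ.symm).trans
      (Ideal.quotientKerAlgEquivOfSurjective (f := Algebra.ofId C L) hs).toLinearEquiv).restrictScalars A)
  rw [ExtProd.chi_eq_length_of_vanish _ _ fun j => Positive.vanish_baseChange (R := A) (S := C) (C ⧸ J) I j]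
  congr 2
  have hm : I.map (algebraMap A L) = (I.map (algebraMap A C)).map (algebraMap C L) := by
    rw [Ideal.map_map, ← IsScalarTower.algebraMap_eq]
  rw [SectDiv.length_of_surj ((Ideal.Quotient.mk (I.map (algebraMap A L))).comp (algebraMap C L))
    (Ideal.Quotient.mk_surjective.comp hs) (I.map (algebraMap A C) ⊔ J) (by
      rw [← RingHom.comap_ker, Ideal.mk_ker, hm, Ideal.comap_map_of_surjective _ hs]
      exact congrArg _ hJ)]
  exact (Module.length_eq_of_surjective (S := L) Ideal.Quotient.mk_surjective).symm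

/-- Pushforward along the identity. -/
theorem map_eq_self {X : Scheme.{u}} {g : X ⟶ X} [QuasiCompact g] (h : g = 𝟙 X) {δ : X → ℤ}
    (α : AlgebraicCycle X ℤ) : AlgebraicCycle.map g δ δ α = α := by
  subst h
  refine Function.locallyFinsuppWithin.ext fun x => ?_
  rw [Push.map_apply, show ⇑(𝟙 X) ⁻¹' {x} = {x} from rfl, finsum_mem_singleton]
  simp only [AlgebraicCycle.mapCoeff]
  rw [if_pos (show δ x = δ ((𝟙 X) x) from rfl), Residue.residueDegree_eq_one_of_surjective x (FieldDim.residueFieldMap_surjective (𝟙 X) x)]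
  simp

/-- The intersection number of a graph with a fibre, at a point of the graph. -/
theorem chiX_graph {X W Y : Scheme.{u}} [IsIntegral X] (s : X ⟶ W) [IsClosedImmersion s] (q : W ⟶ Y) [Flat q]
    (f : X ⟶ Y) [Flat f] (hsq : s ≫ q = f) (x : X) :
    PushCore.chiX q (s (genericPoint X)) (f x) (s x) = ((FibLen.fibLen f x).toNat : ℤ) := by
  subst hsq
  have hξ : s (genericPoint X) ⤳ s x := (genericPoint_specializes x).map s.continuous
  show PushCore.chiX q (s (genericPoint X)) (q (s x)) (s x) = _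
  unfold PushCore.chiX
  rw [MultOne.stalkIdeal_ptIdeal (s (genericPoint X)) (s x) hξ,
    MultOne.stalkIdeal_ptIdeal (q (s x)) (q (s x)) (specializes_of_eq rfl),
    ← PushLocal.ker_stalkMap_closed s x hξ]
  have hmax : (DimFun.genPrime (q (s x)) (q (s x)) (specializes_of_eq rfl)).asIdeal =
      maximalIdeal (Y.presheaf.stalk (q (s x))) := by
    rw [DimFun.genPrime_eq, TopCat.Presheaf.stalkSpecializes_refl]
    exact Ideal.comap_id _
  rw [hmax]
  letI : Algebra (Y.presheaf.stalk (q (s x))) (W.presheaf.stalk (s x)) := (q.stalkMap (s x)).hom.toAlgebra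
  letI : Algebra (W.presheaf.stalk (s x)) (X.presheaf.stalk x) := (s.stalkMap x).hom.toAlgebra
  letI : Algebra (Y.presheaf.stalk (q (s x))) (X.presheaf.stalk x) :=
    ((s.stalkMap x).hom.comp (q.stalkMap (s x)).hom).toAlgebra
  haveI : IsScalarTower (Y.presheaf.stalk (q (s x))) (W.presheaf.stalk (s x)) (X.presheaf.stalk x) :=
    IsScalarTower.of_algebraMap_eq fun _ => rfl
  haveI : Module.Flat (Y.presheaf.stalk (q (s x))) (W.presheaf.stalk (s x)) := Flat.stalkMap q (s x)
  have hcomp : ((s ≫ q).stalkMap x).hom = (s.stalkMap x).hom.comp (q.stalkMap (s x)).hom :=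
    congrArg CommRingCat.Hom.hom (Scheme.Hom.stalkMap_comp s q x)
  haveI : Module.Flat (Y.presheaf.stalk (q (s x))) (X.presheaf.stalk x) := by
    have := Flat.stalkMap (s ≫ q) x
    rw [hcomp] at this
    exact this
  refine (chi_flat_quot (W.presheaf.stalk (s x)) (X.presheaf.stalk x) (s.stalkMap_surjective x)
    (maximalIdeal (Y.presheaf.stalk (q (s x)))) (RingHom.ker (s.stalkMap x).hom) rfl).trans ?_
  unfold FibLen.fibLen
  rw [hcomp]
  rfl



/-- Let f : X → Y be a morphism of nonsingular projective varieties over an algebraically closed field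
and define f^*α = pr_{X,*}(Γ_f · pr_Y^*α) on Chow groups, with Γ_f ⊂ X × Y the graph and · the
intersection product of the nonsingular projective variety X × Y. If f is flat, f^*α agrees with the
flat pullback of α (relative dimension dim X - dim Y). Here X, Y and X × Y are nonsingular varieties
over the algebraically closed field K (smooth, separated, quasi-compact, integral) embedded as
closed subschemes of projective spaces over K, with dimension functions the transcendence degree
(Cyc.IsSetup, Cyc.DeltaCompat to Spec K with value 0) and dimensions pinned at the generic points;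
the product on CH_*(X × Y) is any mul with ChowOps.IsChowMul (it agrees with the Tor-formula product
IntMult.interProd on properly meeting cycles, which determines it); [Γ_f] is the prime cycle of the
image of the generic point of X under the graph morphism, pr_Y^* and f^* are coefficientwise flat
pullbacks (Cyc.pullFun), pr_{X,*} is the proper pushforward of a representing cycle, and the two
sides are compared up to rational equivalence on X. (Parts (1)–(3) of the published statement — f^*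
is a ring map, functoriality, projection formula — are not stated here.) -/
theorem result (K : Type u) [Field K] [IsAlgClosed K] (X : Scheme.{u}) (fX : X ⟶ Spec (CommRingCat.of K)) [Smooth fX] [IsSeparated fX] [QuasiCompact fX] [IsIntegral X] (δX : X → ℤ) (hX : Cyc.IsSetup X δX) (hδX : Cyc.DeltaCompat fX δX (fun _ => 0)) (dX : ℕ) (hdX : δX (genericPoint X) = dX) (NX : ℕ) (ιX : X ⟶ CohB1.ProjSpace NX K) [IsClosedImmersion ιX] (hιX : ιX ≫ CohB1.ProjSpace.toSpec NX K = fX) (Y : Scheme.{u}) (fY : Y ⟶ Spec (CommRingCat.of K)) [Smooth fY] [IsSeparated fY] [QuasiCompact fY] [IsIntegral Y] (δY : Y → ℤ) (hY : Cyc.IsSetup Y δY) (hδY : Cyc.DeltaCompat fY δY (fun _ => 0)) (dY : ℕ) (hdY : δY (genericPoint Y) = dY) (NY : ℕ) (ιY : Y ⟶ CohB1.ProjSpace NY K) [IsClosedImmersion ιY] (hιY : ιY ≫ CohB1.ProjSpace.toSpec NY K = fY) (f : X ⟶ Y) (hf : f ≫ fY = fX) [Flat f] [IsIntegral (pullback fX fY)] (δW : ↥(pullback fX fY) → ℤ) (hW : Cyc.IsSetup (pullback fX fY) δW) (hδW : Cyc.DeltaCompat (pullback.fst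 fX fY ≫ fX) δW (fun _ => 0)) (hdW : δW (genericPoint ↥(pullback fX fY)) = (dX : ℤ) + (dY : ℤ)) (NW : ℕ) (ιW : (pullback fX fY) ⟶ CohB1.ProjSpace NW K) [IsClosedImmersion ιW] (hιW : ιW ≫ CohB1.ProjSpace.toSpec NW K = pullback.fst fX fY ≫ fX) (mul : (r s : ℤ) → ChowOps.CH (pullback fX fY) δW r → ChowOps.CH (pullback fX fY) δW s → ChowOps.CH (pullback fX fY) δW (r + s - ((dX : ℤ) + (dY : ℤ)))) (hmul : ChowOps.IsChowMul (pullback fX fY) δW ((dX : ℤ) + (dY : ℤ)) mul) (γ : AlgebraicCycle (pullback fX fY) ℤ) (hγ : ⇑γ = Set.indicator {(pullback.lift (𝟙 X) f (Eq.trans (Category.id_comp fX) hf.symm)) (genericPoint X)} 1) (hγk : γ ∈ Cyc.Zk (pullback fX fY) δW (dX : ℤ)) (k : ℤ) (α : AlgebraicCycle Y ℤ) (hα : α ∈ Cyc.Zk Y δY k) (αW : AlgebraicCycle (pullback fX fY) ℤ) (hαW : ⇑αW = Cyc.pullFun (pullback.snd fX fY) δW δY (dX : ℤ) ⇑α) (hαWk : αW ∈ Cyc.Zk (pullback fX fY) δW (k + dX)) (ζ : AlgebraicCycle (pullback fX fY) ℤ) (hζk : ζ ∈ Cyc.Zk (pullback fX fY) δW ((dX : ℤ) + (k + dX) - ((dX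 : ℤ) + (dY : ℤ)))) (hζ : ChowOps.cl ζ hζk = mul (dX : ℤ) (k + dX) (ChowOps.cl γ hγk) (ChowOps.cl αW hαWk)) (αX : AlgebraicCycle X ℤ) (hαX : ⇑αX = Cyc.pullFun f δX δY ((dX : ℤ) - (dY : ℤ)) ⇑α) : Cyc.RatEquiv δX (k + dX - dY) (AlgebraicCycle.map (pullback.fst fX fY) δW δX ζ) αX := by
  classical
  haveI := hX.1
  haveI := hY.1
  haveI := hW.1
  have hfle : LocallyOfFiniteType (f ≫ fY) := hf.symm ▸ inferInstance
  haveI : LocallyOfFiniteType f := locallyOfFiniteType_of_comp f fY
  haveI : IsProper fY := by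
    haveI := ProjSpace.Basic.isProper_toSpec NY K
    rw [← hιY]
    infer_instance
  have hcl : IsClosedImmersion (pullback.lift (𝟙 X) f (Eq.trans (Category.id_comp fX) hf.symm) ≫
      pullback.fst fX fY) := by
    rw [pullback.lift_fst]
    infer_instance
  haveI : IsClosedImmersion (pullback.lift (𝟙 X) f (Eq.trans (Category.id_comp fX) hf.symm)) :=
    IsClosedImmersion.of_comp _ (pullback.fst fX fY)
  have hsp := pullback.lift_fst (f := fX) (g := fY) (𝟙 X) f (Eq.trans (Category.id_comp fX) hf.symm)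
  have hsq := pullback.lift_snd (f := fX) (g := fY) (𝟙 X) f (Eq.trans (Category.id_comp fX) hf.symm)
  generalize pullback.lift (𝟙 X) f (Eq.trans (Category.id_comp fX) hf.symm) = s at *
  have hpδ : Cyc.DeltaCompat (pullback.fst fX fY) δW δX := deltaCompat_of_base _ fX hδX hδW
  have hqδ : Cyc.DeltaCompat (pullback.snd fX fY) δW δY :=
    deltaCompat_of_base _ fY hδY (pullback.condition (f := fX) (g := fY) ▸ hδW)
  have hfδ : Cyc.DeltaCompat f δX δY := deltaCompat_of_base f fY hδY (hf.symm ▸ hδX)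
  have hshq : FP.Main.Shift (pullback.snd fX fY) δW δY ((dX : ℕ) : ℤ) := fun w hw => by
    have := FlatDim.delta_shift (pullback.snd fX fY) hY hqδ w hw
    omega
  have hshf : FP.Main.Shift f δX δY ((dX : ℤ) - dY) := fun x hx => by
    have := FlatDim.delta_shift f hY hfδ x hx
    omega
  have hqs : ∀ x, pullback.snd fX fY (s x) = f x := fun x => by rw [← Scheme.Hom.comp_apply, hsq]
  have hps : ∀ x, pullback.fst fX fY (s x) = x := fun x => by rw [← Scheme.Hom.comp_apply, hsp]; rfl
  have hds : ∀ x, δW (s x) = δX x := fun x => by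
    have h0 : Residue.trdegAt (s ≫ pullback.fst fX fY) x = 0 := by
      rw [FieldDim.trdegAt_congr hsp x]
      exact FieldDim.trdegAt_eq_zero_of_surjective (𝟙 X) x (FieldDim.residueFieldMap_surjective (𝟙 X) x)
    rw [Residue.trdegAt_comp, add_eq_zero] at h0
    rw [(Residue.trdegAt_eq_zero_iff_eq hpδ (s x)).1 h0.1, hps]
  have hsδ : Cyc.DeltaCompat s δX δW := fun x => ⟨0, by
    rw [Nat.cast_zero]
    exact FieldDim.trdegAt_eq_zero_of_surjective s x (FieldDim.residueFieldMap_surjective s x), by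
    rw [hds x]; simp⟩
  have hrange : ∀ z, s (genericPoint X) ⤳ z → ∃ x, s x = z := fun z hz =>
    (s.isClosedEmbedding.isClosed_range.closure_subset_iff.2 (Set.singleton_subset_iff.2 ⟨_, rfl⟩) :
      closure {s (genericPoint X)} ⊆ Set.range s) hz.mem_closure
  have hα' : ∀ ω, α ω ≠ 0 → δY ω = k := fun ω h => by_contra fun h' => h (hα ω h')
  have hγ' : ∀ ξ, γ ξ ≠ 0 → ξ = s (genericPoint X) := fun ξ h =>
    Set.mem_singleton_iff.1 (Set.mem_of_indicator_ne_zero (f := fun _ => (1 : ℤ)) (by rw [hγ] at h; exact h))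
  have hαW' : ∀ w, αW w ≠ 0 → δW w = k + dX := fun w h => by_contra fun h' => h (hαWk w h')
  have hγd : ∀ ξ, γ ξ ≠ 0 → δW ξ = dX := fun ξ h => by rw [hγ' ξ h, hds, hdX]
  have hmeet : ∀ ξ ω, γ ξ ≠ 0 → α ω ≠ 0 → ∀ z, ξ ⤳ z → ω ⤳ pullback.snd fX fY z → δW z ≤ k + dX - dY :=
    fun ξ ω h1 h2 z h3 h4 => by
      obtain ⟨x, rfl⟩ := hrange z (hγ' ξ h1 ▸ h3)
      have h5 := FP.Main.delta_le f hX.2.2 hshf x
      have h6 := DimFun.le_of_specializes hY.2.2 (hqs x ▸ h4)
      rw [hds, hα' ω h2] at *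
      omega
  have hprop : IntMult.IntersectProperly δW ((dX : ℤ) + dY) ⇑γ ⇑αW := fun ξ w z h1 h2 h3 h4 => by
    have h5 : α (pullback.snd fX fY w) ≠ 0 := fun h => h2 (by
      rw [hαW, FibLen.pullFun_apply, h]; simp)
    have h6 := hmeet ξ _ h1 h5 z h3 (h4.map (pullback.snd fX fY).continuous)
    rw [hγd ξ h1, hαW' w h2]
    omega
  have hαX' : ∀ x, αX x ≠ 0 → α (f x) ≠ 0 ∧ δX x = k + dX - dY := fun x h => by
    rw [hαX, FibLen.pullFun_apply] at h
    split_ifs at h with h1
    · have h2 := left_ne_zero_of_mul h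
      exact ⟨h2, by rw [h1, hα' _ h2]; ring⟩
    · exact absurd rfl h
  have hcoeff : ∀ x, (AlgebraicCycle.mapCoeff s δX δW x : ℤ) = 1 := fun x => by
    simp only [AlgebraicCycle.mapCoeff]
    rw [if_pos (hds x).symm, Residue.residueDegree_eq_one_of_surjective x (FieldDim.residueFieldMap_surjective s x)]
    rfl
  have hmap : ∀ x, AlgebraicCycle.map s δX δW αX (s x) = αX x := fun x => by
    rw [Push.map_apply, show ⇑s ⁻¹' {s x} = {x} from Set.ext fun x' =>
      ⟨fun h => s.isClosedEmbedding.injective h, fun h => congrArg s h⟩, finsum_mem_singleton, hcoeff, mul_one]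
  have hmap0 : ∀ z, (∀ x, s x ≠ z) → AlgebraicCycle.map s δX δW αX z = 0 := fun z hz => by
    rw [Push.map_apply]
    exact finsum_mem_eq_zero_of_forall_eq_zero fun x hx => absurd hx (hz x)
  have hprod : ⇑(AlgebraicCycle.map s δX δW αX) = IntMult.interProd δW ((dX : ℤ) + dY) ⇑γ ⇑αW := by
    funext z
    by_cases hz : ∃ x, s x = z ∧ δX x = k + dX - dY
    · obtain ⟨x, rfl, hx⟩ := hz
      have hA : ∀ ξ, ξ ∈ ({s (genericPoint X)} : Finset _) ↔
          γ ξ ≠ 0 ∧ pullback.snd fX fY ξ ⤳ f x := fun ξ => by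
        rw [Finset.mem_singleton]
        refine ⟨fun h => ?_, fun h => hγ' ξ h.1⟩
        subst h
        refine ⟨?_, hqs (genericPoint X) ▸ (genericPoint_specializes x).map f.continuous⟩
        rw [hγ, Set.indicator_of_mem (Set.mem_singleton _)]
        exact one_ne_zero
      have h5 := FP.Main.delta_le f hX.2.2 hshf x
      have hB : ∀ ω, ω ∈ ({f x} : Finset Y).filter (fun ω => α ω ≠ 0) ↔ α ω ≠ 0 ∧ ω ⤳ f x := fun ω => by
        rw [Finset.mem_filter, Finset.mem_singleton]
        refine ⟨fun h => ⟨h.2, specializes_of_eq h.1⟩, fun h => ⟨?_, h.1⟩⟩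
        refine DimFun.eq_of_specializes_of_le hY.2.2 h.2 ?_
        rw [hα' ω h.1]
        omega
      rw [hmap, hαW, S1950.gamma_eq (pullback.snd fX fY) (pullback.fst fX fY ≫ fX) hW.2.2 hY.2.2 hshq hdW
        (r := (dX : ℤ)) (s := k) (k := k + dX - dY) (by ring) ⇑γ ⇑α hγd hα' hmeet (y := f x) (s x) (hqs x)
        (by rw [hds, hx]) _ hA _ hB]
      rw [Finset.sum_singleton, Finset.sum_filter, Finset.sum_singleton,
        if_pos ((genericPoint_specializes x).map s.continuous),
        chiX_graph s (pullback.snd fX fY) f hsq x, hγ, Set.indicator_of_mem (Set.mem_singleton _), Pi.one_apply, one_mul,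
        hαX, FibLen.pullFun_apply]
      by_cases h7 : α (f x) = 0
      · rw [h7]; simp
      · rw [if_pos h7, if_pos (by rw [hx, hα' _ h7]; ring)]
    · have h0 : AlgebraicCycle.map s δX δW αX z = 0 := by
        by_cases hz' : ∃ x, s x = z
        · obtain ⟨x, rfl⟩ := hz'
          rw [hmap]
          exact by_contra fun h => hz ⟨x, rfl, (hαX' x h).2⟩
        · exact hmap0 z fun x h => hz' ⟨x, h⟩
      rw [h0]
      refine (finsum_eq_zero_of_forall_eq_zero ?_).symm
      rintro ⟨⟨ξ, w⟩, h1, h2, h3⟩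
      by_contra h
      have h4 := left_ne_zero_of_mul (left_ne_zero_of_mul h)
      have h5 := right_ne_zero_of_mul (left_ne_zero_of_mul h)
      obtain ⟨x, rfl⟩ := hrange z (hγ' ξ h4 ▸ h1)
      dsimp only at h3
      rw [hγd ξ h4, hαW' w h5, hds] at h3
      exact hz ⟨x, rfl, by omega⟩
  have hkk : (dX : ℤ) + (k + dX) - ((dX : ℤ) + (dY : ℤ)) = k + dX - dY := by ring
  have hζ0 : AlgebraicCycle.map s δX δW αX ∈ Cyc.Zk (pullback fX fY) δW
      ((dX : ℤ) + (k + dX) - ((dX : ℤ) + (dY : ℤ))) := fun z hz => by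
    by_contra h
    obtain ⟨x, hx⟩ := not_forall_not.1 (fun h' => h (hmap0 z h'))
    subst hx
    rw [hmap] at h
    exact hz (by rw [hds, (hαX' x h).2, hkk])
  have hcl2 := hζ.trans (hmul _ _ γ αW hγk hαWk hprop _ hζ0 hprod)
  have hr : Cyc.RatEquivZero δW (k + dX - dY) (ζ - AlgebraicCycle.map s δX δW αX) :=
    hkk ▸ (Retr.Main.cl_eq_cl_iff hW.2.2 hζk hζ0).1 hcl2
  have hr2 := PP.Main.ratEquivZero_map (pullback.fst fX fY) hW.2.2 hX.2.2 hpδ hr
  rw [show AlgebraicCycle.map (pullback.fst fX fY) δW δX (ζ - AlgebraicCycle.map s δX δW αX) =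
    AlgebraicCycle.map (pullback.fst fX fY) δW δX ζ -
      AlgebraicCycle.map (pullback.fst fX fY) δW δX (AlgebraicCycle.map s δX δW αX) from
    Function.locallyFinsuppWithin.ext fun y => PP.Div.map_sub_apply _ _ _ y] at hr2
  have hid : AlgebraicCycle.map (pullback.fst fX fY) δW δX (AlgebraicCycle.map s δX δW αX) = αX := by
    rw [Push.map_map_apply s (pullback.fst fX fY) δX δW δX hsδ hpδ]
    exact map_eq_self hsp αX
  rwa [hid] at hr2

end Groth.Agent.S12676
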