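import Groth.Statements.S1268
import Groth.Agent.Lib.RG.OpenApply
-- import your own Groth.Agent.* helpers here

set_option autoImplicit false
universe u
open FlatMor

attribute [local instance] Algebra.TensorProduct.rightAlgebra

namespace Groth.Agent.S1268

open Lib.RG Lib.RG.NhdPoint Lib.RG.OpenApply

open AlgebraicGeometry CategoryTheory TensorProduct in
/-- Ring form, X = Spec S and S = Spec R affine: let S be a finitely presented R-algebra, N a finitely
presented S-module and q a prime of S over p with N_q flat over R. Then there is an étale R-algebra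
R' with a prime p' over p having the same residue field such that, for the base changes S', N' of S,
N to R' (any models), there is an S'-algebra C with Spec C → Spec S' an open immersion (an affine
open U' of X ×_S S'), containing a point lying over both q and p' (there is exactly one such point
of X ×_S S'), such that C ⊗_{S'} N' (the sections of the pulled-back module over U') is a projective
R'-module. -/
theorem result {R S : Type u} [CommRing R] [CommRing S] [Algebra R S] [Algebra.FinitePresentation R S]
    (N : Type u) [AddCommGroup N] [Module S N] [Module R N] [IsScalarTower R S N] [Module.FinitePresentation S N]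
    (p : Ideal R) [p.IsPrime] (q : Ideal S) [q.IsPrime] [q.LiesOver p] (hflat : FlatCA.FlatAt R q N) :
    ∃ (R' : Type u) (_ : CommRing R') (_ : Algebra R R') (p' : Ideal R') (_ : p'.IsPrime), FlatCA.IsEtaleNhd R R' p p' ∧
      ∀ (S' N' : Type u) [CommRing S'] [Algebra R S'] [Algebra S S'] [Algebra R' S'] [IsScalarTower R S S'] [IsScalarTower R R' S']
        [Algebra.IsPushout R S R' S']
        [AddCommGroup N'] [Module S' N'] [Module S N'] [IsScalarTower S S' N']
        (f : N →ₗ[S] N'), IsBaseChange S' f →
        ∃ (C : Type u) (_ : CommRing C) (_ : Algebra S' C) (_ : Algebra R' C) (_ : IsScalarTower R' S' C)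
          (x' : Ideal C) (_ : x'.IsPrime),
          IsOpenImmersion (Spec.map (CommRingCat.ofHom (algebraMap S' C))) ∧
          (x'.comap (algebraMap S' C)).LiesOver q ∧ (x'.comap (algebraMap S' C)).LiesOver p' ∧
          Module.Projective R' (RestrictScalars R' C (C ⊗[S'] N')) := by
  obtain ⟨R', cR', aR', p', hp', hnhd, u, hu, hproj, -⟩ := OpenMain.exists_chart p q hflat
  refine ⟨R', cR', aR', p', hp', hnhd, ?_⟩
  intro S' N' _ _ _ _ _ _ _ _ _ _ _ f hf
  let C := Localization.Away u
  letI := modelAlgebra (R := R) (S := S) (A := R') (SA := S') C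
  haveI := modelTower_left (R := R) (S := S) (A := R') (SA := S') C
  haveI := modelTower_right (R := R) (S := S) (A := R') (SA := S') C
  haveI := modelAway (R := R) (S := S) (A := R') (SA := S') u
  obtain ⟨ψ, hψ⟩ := exists_psiS p q p' hnhd
  obtain ⟨hker, hkS, hkR⟩ := ker_point q ψ hψ
  obtain ⟨ψC, hψC⟩ := exists_psiC q ψ u fun h => hu _ hker hkS hkR h
  refine ⟨C, inferInstance, inferInstance, inferInstance, inferInstance, RingHom.ker ψC.toRingHom,
    RingHom.ker_isPrime _, IsOpenImmersion.of_isLocalization (Algebra.IsPushout.equiv R S R' S' u),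
    ⟨Ideal.ext fun s => ?_⟩, ⟨Ideal.ext fun r => ?_⟩, ?_⟩
  · show s ∈ q ↔ ψC (algebraMap S' C (algebraMap S S' s)) = 0
    rw [← IsScalarTower.algebraMap_apply, ψC.commutes]
    exact Ideal.algebraMap_residueField_eq_zero.symm
  · show r ∈ p' ↔ ψC (algebraMap S' C (algebraMap R' S' r)) = 0
    rw [← IsScalarTower.algebraMap_apply, IsScalarTower.algebraMap_apply R' (S ⊗[R] R') C, hψC]
    exact (hψ r).symm
  · haveI : Module.Projective R' (C ⊗[S] N) := hproj
    exact Module.Projective.of_equiv (((transport hf (C := C)).symm.restrictScalars R').trans (rsEquiv R' C _))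

end Groth.Agent.S1268
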