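import Groth.Statements.S12683
import Groth.Agent.Lib.ProjQ.Ampleness

set_option autoImplicit false
universe u
open CategoryTheory CategoryTheory.Limits AlgebraicGeometry TopologicalSpace Opposite
open scoped HomogeneousIdeal
noncomputable section
open Variety

namespace Groth.Agent.S12683

open Groth.Agent.Lib.ProjQ in
/-- Injectivity on a standard open, from the injectivity on sections. -/
theorem eq_zero_of_app_eq_zero {Y X P PL : Scheme.{u}} {q : X ⟶ Y} [CompactSpace X] {L : X.Modules}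
    {𝒮 : RelProj.QCGrAlg Y} {𝒮L : RelProj.QCGrAlg X} {j : L ⟶ 𝒮L.toModule}
    {u : RelProj.QGrHom q 𝒮 𝒮L} {p : P ⟶ Y}
    {chart : ∀ (U : Y.Opens) (hU : IsAffineOpen U), ((p ⁻¹ᵁ U : P.Opens) : Scheme.{u}) ≅ Proj (𝒮.deg U hU)}
    {pL : PL ⟶ X}
    {chartL : ∀ (U : X.Opens) (hU : IsAffineOpen U), ((pL ⁻¹ᵁ U : PL.Opens) : Scheme.{u}) ≅ Proj (𝒮L.deg U hU)}
    (hL : PicF.IsInvertible L) (hLq : Coh.IsQCoh L) (hj : RelProj.IsGrSymAlg L 𝒮L j)
    {r : (RelProj.domQ u pL chartL : Scheme.{u}) ⟶ P}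
    (hr : RelProj.IsProjQMapOn u p chart pL chartL (RelProj.domQ u pL chartL) r)
    (hY : IsAffineOpen (⊤ : Y.Opens)) (hu : Function.Injective (u.app ⊤).hom)
    {n : ℕ} (hn : 0 < n) {s : 𝒮.presheaf.obj (op ⊤)} (hs : s ∈ 𝒮.deg ⊤ hY n)
    (c : Γ(P, (std p chart ⊤ hY hn s hs).opensRange))
    (hc : r.app _ c = 0) : c = 0 := by
  let σs := std p chart ⊤ hY hn s hs
  let D := σs.opensRange
  haveI : IsIso (σs.app D) := σs.isIso_app D le_rfl
  have hD : (⊤ : (Spec (CommRingCat.of (HomogeneousLocalization.Away (𝒮.deg ⊤ hY) s))).Opens) ≤ σs ⁻¹ᵁ D :=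
    fun z _ => ⟨z, rfl⟩
  let d' := σs.appLE D ⊤ hD c
  suffices hd : d' = 0 by
    apply (ConcreteCategory.bijective_of_isIso (σs.app D)).1
    rw [map_zero]
    have e := congr($(σs.app_eq_appLE (U := D)) c)
    rw [e]
    refine Eq.trans ?_ ((congrArg (fun v => ((Spec _).presheaf.map (homOfLE le_top).op).hom v) hd).trans
      (map_zero _))
    exact (congr($(σs.appLE_map hD (homOfLE le_top).op) c)).symm
  let z := (Scheme.ΓSpecIso _).hom d'
  suffices hz : z = 0 by
    apply (ConcreteCategory.bijective_of_isIso (Scheme.ΓSpecIso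
      (CommRingCat.of (HomogeneousLocalization.Away (𝒮.deg ⊤ hY) s))).hom).1
    exact hz.trans (map_zero _).symm
  obtain ⟨N, V, hV, t, -, -, hcov⟩ := SecAlg.exists_frames hL hLq hj (W := (⊤ : X.Opens)) isCompact_univ
  have hle : ∀ i, V i ≤ q ⁻¹ᵁ ⊤ := fun i => le_top.trans (Scheme.Hom.preimage_top q).ge
  have key : ∀ i, HomogeneousLocalization.Away.map (u.gradedAt ⊤ hY (V i) (hV i) (hle i)) s z = 0 := by
    intro i
    let I : Idx (g := q) (𝒮 := 𝒮) := ⟨⊤, hY, V i, hV i, hle i, n, hn, s, hs⟩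
    let ψ := CommRingCat.ofHom (HomogeneousLocalization.Away.map (u.gradedAt ⊤ hY (V i) (hV i) (hle i)) s)
    have h1 : lift (u := u) pL chartL I ≫ r = Spec.map ψ ≫ σs := (isProjQMapOn_iff r).1 hr I
    have e1 : (⊤ : (Spec (CommRingCat.of _)).Opens) ≤ (lift (u := u) pL chartL I ≫ r) ⁻¹ᵁ D := by
      rw [h1]; exact fun w _ => hD (Set.mem_univ _)
    have h2 : (lift (u := u) pL chartL I ≫ r).appLE D ⊤ e1 c = 0 := by
      rw [Scheme.Hom.comp_appLE]
      rw [CommRingCat.comp_apply, hc, map_zero]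
    have h3 : (Spec.map ψ ≫ σs).appLE D ⊤ (h1 ▸ e1) c = 0 := by
      simp only [← h1]
      exact h2
    rw [← Scheme.Hom.appLE_comp_appLE (Spec.map ψ) σs D ⊤ ⊤ hD le_top] at h3
    have h4 : (Spec.map ψ).appTop d' = 0 := by
      rw [Scheme.Hom.appTop, Scheme.Hom.app_eq_appLE]
      exact h3
    have h5 := congr($(Scheme.ΓSpecIso_naturality ψ) d')
    exact h5.symm.trans ((congrArg (Scheme.ΓSpecIso _).hom h4).trans (map_zero _))
  obtain ⟨m, a, ha, hza⟩ := HomogeneousLocalization.Away.mk_surjective (𝒮.deg ⊤ hY) hs z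
  have hk : ∀ i, ∃ k, (u.appLE ⊤ (V i) (hle i)).hom (s ^ k * a) = 0 := fun i => by
    have h := congrArg HomogeneousLocalization.val (key i)
    rw [← hza, HomogeneousLocalization.Away.map_mk, HomogeneousLocalization.Away.val_mk,
      HomogeneousLocalization.val_zero, Localization.mk_eq_mk', IsLocalization.mk'_eq_zero_iff] at h
    obtain ⟨⟨_, k, rfl⟩, hk⟩ := h
    exact ⟨k, by rw [map_mul, map_pow]; exact hk⟩
  choose k hk using hk
  have h0 : s ^ Finset.univ.sup k * a = 0 := by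
    refine hu ((SecAlg.eq_of_cover V hle (fun x hx => hcov (Set.mem_univ x)) _ 0 fun i => ?_).trans (map_zero _).symm)
    obtain ⟨l, hl⟩ := Nat.exists_eq_add_of_le (Finset.le_sup (f := k) (Finset.mem_univ i))
    rw [show SecAlg.rz (hle i) (0 : 𝒮L.presheaf.obj (op (q ⁻¹ᵁ ⊤))) = 0 from map_zero _, SecAlg.rz_app, hl,
      pow_add, mul_comm (s ^ k i), mul_assoc, map_mul, hk i, mul_zero]
  rw [← hza]
  apply HomogeneousLocalization.val_injective
  rw [HomogeneousLocalization.Away.val_mk, HomogeneousLocalization.val_zero, Localization.mk_eq_mk',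
    IsLocalization.mk'_eq_zero_iff]
  exact ⟨⟨_, _, rfl⟩, h0⟩

/-- Let X be a quasi-compact scheme, L an ample invertible O_X-module with graded symmetric algebra 𝒮L =
⊕_{d≥0} L^{⊗d} (whose relative Proj PL, given with its charts, is identified with X by its structure
morphism), f : X → Y a quasi-compact morphism to an AFFINE scheme Y, 𝒜 a quasi-coherent graded
O_Y-algebra given with a graded f-morphism u : 𝒜 → f_*𝒮L which is bijective on global sections — so
that Γ(Y, 𝒜) is the graded ring Γ(X, 𝒮L) = ⊕_d Γ(X, L^{⊗d}) and P = Proj(𝒜) (given with its charts)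
is its homogeneous spectrum — and r : G(σ) → P the canonical morphism on its open of definition G(σ)
⊆ PL. Then r is everywhere defined (G(σ) is all of PL) and is a quasi-compact, scheme-theoretically
dominant open immersion. (The published statement forms the homogeneous spectrum of the graded ring
⊕_d Γ(X, L^{⊗d}) itself, over the spectrum of Γ(X, O_X); any affine Y under X gives the same graded
ring, the same homogeneous spectrum and the same morphism. It also assumes X quasi-separated, which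
already follows from ampleness, since the opens X_s are affine with affine pairwise intersections;
only quasi-compactness is assumed here.) -/
theorem result {X Y P PL : Scheme.{u}} [CompactSpace X]
    (f : X ⟶ Y) [QuasiCompact f] (hY : IsAffineOpen (⊤ : Y.Opens))
    (L : X.Modules) (hL : PicF.IsInvertible L) (hLq : Coh.IsQCoh L)
    (𝒮L : RelProj.QCGrAlg X) (jL : L ⟶ 𝒮L.toModule) (hjL : RelProj.IsGrSymAlg L 𝒮L jL)
    (pL : PL ⟶ X) (chartL : ∀ (U : X.Opens) (hU : IsAffineOpen U), (((pL ⁻¹ᵁ U : PL.Opens) : Scheme.{u}) ≅ Proj (𝒮L.deg U hU)))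
    (hPL : RelProj.IsRelProj 𝒮L pL chartL)
    (hLa : CohB1.IsAmple L)
    (𝒜 : RelProj.QCGrAlg Y) (u : RelProj.QGrHom f 𝒜 𝒮L)
    (p : P ⟶ Y) (chart : ∀ (U : Y.Opens) (hU : IsAffineOpen U), (((p ⁻¹ᵁ U : P.Opens) : Scheme.{u}) ≅ Proj (𝒜.deg U hU)))
    (hP : RelProj.IsRelProj 𝒜 p chart)
    (r : ((RelProj.domQ u pL chartL : PL.Opens) : Scheme.{u}) ⟶ P)
    (hr : RelProj.IsProjQMapOn u p chart pL chartL (RelProj.domQ u pL chartL) r)
    (hu : Function.Bijective (u.app ⊤).hom) :
    RelProj.domQ u pL chartL = ⊤ ∧ IsOpenImmersion r ∧ QuasiCompact r ∧ IsSchemeTheoreticallyDominant r := by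
  open Groth.Agent.Lib.ProjQ in
  haveI := isIso_proj hL hLq hjL hPL
  haveI : IsAffine Y := @IsAffine.of_isIso _ _ Y.topIso.inv inferInstance hY
  have h : RelAmple.IsRelAmple f L := (Groth.Agent.Lib.Ample.RelAmple.isRelAmple_iff_isAmple f).2 hLa
  haveI := Groth.Agent.Lib.Ample.Pullback.quasiSeparatedSpace_of_isAmple (h.2 ⟨⊤, hY⟩)
  choose n hn s hs hxs ha using fun x : X =>
    exists_locOf_affine hL hLq hjL hPL hY hu (h.2 ⟨⊤, hY⟩) (x := x) trivial
  have htop : RelProj.domQ u pL chartL = ⊤ := top_le_iff.1 fun y _ =>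
    mem_domQ_of_mem_locOf hL hLq hjL hPL hY (hn (pL y)) (hs _) (hxs (pL y))
  haveI := isIso_ι htop
  haveI := Groth.Agent.Lib.RelProjBasics.Basic.isSeparated hP
  have hq : QuasiCompact r := by
    have : QuasiCompact (r ≫ p) := by rw [Groth.Agent.Lib.ProjQ.«over» hP hPL hr]; infer_instance
    exact QuasiCompact.of_comp r p
  have hopen : IsOpenImmersion r := by
    refine of_restrict_cover @IsOpenImmersion (fun _ _ => inferInstance) r
      (fun x => (std p chart ⊤ hY (hn x) (s x) (hs x)).opensRange) (top_le_iff.1 fun y _ => ?_) fun x => ?_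
    · exact Opens.mem_iSup.2 ⟨pL y.1, (mem_locOf_iff hL hLq hjL hP hPL hr hY (hn _) (hs _) y).2 (hxs _)⟩
    · haveI := isIso_restrict_of_bijective hL hLq hjL hP hPL hr hY (hn x) (hs x)
        (f.isCompact_preimage hY.isCompact) (fun V V' hV hV' => isCompact_inf_of_quasiSeparated V V' hV hV')
        hu (ha x)
      infer_instance
  refine ⟨htop, hopen, hq, ⟨?_⟩⟩
  choose m b hm hb hyb _ using fun y : P => exists_std_le (p := p) (chart := chart) (O := ⊤) (y := y) trivial hY
  refine Scheme.IdealSheafData.ext_of_iSup_eq_top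
    (fun y => ⟨_, isAffineOpen_std (p := p) (chart := chart) ⊤ hY (hm y) (b y) (hb y)⟩)
    (top_le_iff.1 fun y _ => Opens.mem_iSup.2 ⟨y, hyb y⟩) fun y => ?_
  rw [Scheme.Hom.ker_apply, Scheme.IdealSheafData.ideal_bot, Pi.bot_apply]
  refine le_bot_iff.1 fun c hc => ?_
  exact eq_zero_of_app_eq_zero hL hLq hjL hr hY hu.1 (hm y) (hb y) c hc

end Groth.Agent.S12683
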