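import Groth.Statements.S12686
import Groth.Agent.Lib.ProjQ.ChartImm
import Groth.Agent.Lib.SymAlg.VA

set_option autoImplicit false
universe u
open CategoryTheory CategoryTheory.Limits AlgebraicGeometry TopologicalSpace Opposite
open scoped HomogeneousIdeal
noncomputable section
open EGA2

namespace Groth.Agent.S12686

/-- Let q : X → Y be a quasi-compact morphism, L an invertible O_X-module with graded symmetric algebra
𝒮L = ⊕_{n≥0} L^{⊗n} (whose relative Proj PL, given with its charts, is identified with X by its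
structure morphism), and suppose the direct image E = q_*L is quasi-coherent, with graded symmetric
algebra 𝒜 = Sym(E) (structure map jE : E → 𝒜) and projective bundle P = P(E) = Proj(𝒜) → Y given
with its charts. Let u : 𝒜 → q_*𝒮L be the graded q-morphism which on E ⊆ 𝒜 is the inclusion of q_*L
= (q_*𝒮L)_1, i.e. the adjoint of Sym(σ) for the canonical σ : q^*q_*L → L, and r = r_{L,σ} : G(σ) →
P the induced morphism on its open of definition G(σ) ⊆ PL. If L is very ample relative to q, then r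
is everywhere defined (G(σ) is all of PL) and r is an immersion. (The published statement also
asserts that q_*L is quasi-coherent and that the canonical q^*q_*L → L is surjective; this row
presupposes the former through the datum E = q_*L, and its first conclusion, that G(σ) is
everything, expresses the latter.) -/
theorem result {X Y P PL : Scheme.{u}} (q : X ⟶ Y) [QuasiCompact q]
    (L : X.Modules) (hL : PicF.IsInvertible L) (hLq : Coh.IsQCoh L)
    (𝒮L : RelProj.QCGrAlg X) (jL : L ⟶ 𝒮L.toModule) (hjL : RelProj.IsGrSymAlg L 𝒮L jL)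
    (pL : PL ⟶ X) (chartL : ∀ (U : X.Opens) (hU : IsAffineOpen U), (((pL ⁻¹ᵁ U : PL.Opens) : Scheme.{u}) ≅ Proj (𝒮L.deg U hU)))
    (hPL : RelProj.IsRelProj 𝒮L pL chartL)
    (hEq : Coh.IsQCoh ((Scheme.Modules.pushforward q).obj L))
    (𝒜 : RelProj.QCGrAlg Y) (jE : (Scheme.Modules.pushforward q).obj L ⟶ 𝒜.toModule)
    (h𝒜 : RelProj.IsGrSymAlg ((Scheme.Modules.pushforward q).obj L) 𝒜 jE)
    (u : RelProj.QGrHom q 𝒜 𝒮L)
    (hu : ∀ (U : Y.Opens) (x : Γ((Scheme.Modules.pushforward q).obj L, U)),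
      (u.app U).hom ((jE.app U) x) = (jL.app (q ⁻¹ᵁ U)) x)
    (p : P ⟶ Y) (chart : ∀ (U : Y.Opens) (hU : IsAffineOpen U), (((p ⁻¹ᵁ U : P.Opens) : Scheme.{u}) ≅ Proj (𝒜.deg U hU)))
    (hP : RelProj.IsRelProj 𝒜 p chart)
    (r : ((RelProj.domQ u pL chartL : PL.Opens) : Scheme.{u}) ⟶ P)
    (hr : RelProj.IsProjQMapOn u p chart pL chartL (RelProj.domQ u pL chartL) r)
    (h : RelProj.IsRelVeryAmple q L) :
    RelProj.domQ u pL chartL = ⊤ ∧ IsImmersion r := by
  open Groth.Agent.Lib Groth.Agent.Lib.ProjQ TensorMod.Dual in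
  obtain ⟨E', hE', 𝒮', j', hS', P', p', chart', -, O1, lam, hO, i, hi, hcomp, ⟨φ⟩⟩ := h
  haveI : E'.IsQuasicoherent := hE'
  haveI := hi
  have key : ∀ x : X, ∃ (U : Y.Opens) (hU : IsAffineOpen U) (n : ℕ) (hn : 0 < n) (s : 𝒜.presheaf.obj (op U))
      (hs : s ∈ 𝒜.deg U hU n), x ∈ locOf u U n s ∧
        IsClosedImmersion (r ∣_ (std p chart U hU hn s hs).opensRange) := by
    intro x
    obtain ⟨U, hU, hxU, -⟩ := exists_isAffineOpen_mem_and_subset (X := Y) (x := q x) (U := ⊤) trivial
    haveI := SymAlg.VA.isImmersion_kMap (chart := chart') i hcomp hU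
    obtain ⟨ε⟩ := SymAlg.VA.kMap_iso hO i hcomp hU
    let ε' : (Scheme.Modules.pullback (SymAlg.VA.kMap (chart := chart') i hcomp hU)).obj
        (GrTwist.twist (𝒮'.deg U hU) ((1 : ℕ) : ℤ)) ≅ L.restrict (q ⁻¹ᵁ U).ι :=
      ε ≪≫ (Scheme.Modules.restrictFunctor (q ⁻¹ᵁ U).ι).mapIso φ.symm
    refine ⟨U, hU, exists_isClosedImmersion_restrict hL hLq hjL hP hPL hr hU _ ε' ?_ ?_
      (Groth.Agent.H58VA.RelVA.exists_degOne_notMem hS' hU) hxU⟩
    · intro d hd a ha
      letI := SymAlg.Unique.algInst 𝒮'.toQCAlg U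
      have h1 := (SymAlg.Unique.deg_eq hS' hU (d + 1) a).1 ha
      rw [pow_succ'] at h1
      clear ha
      induction h1 using Submodule.mul_induction_on' with
      | mem_mul_mem g hg b hb =>
        refine AddSubmonoid.subset_closure ⟨g, (SymAlg.Unique.deg_eq hS' hU 1 g).2 ?_, b,
          (SymAlg.Unique.deg_eq hS' hU d b).2 hb, rfl⟩
        rwa [pow_one]
      | add b hb c hc hb' hc' => exact add_mem hb' hc'
    · intro g hg
      exact ⟨(jE.app U) (show Γ(L, q ⁻¹ᵁ U) from ChartSec.sec (SymAlg.VA.kMap (chart := chart') i hcomp hU) ε' hg),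
        h𝒜.2 U hU _, hu U _⟩
  choose U hU n hn s hs hxs hcl using key
  refine ⟨top_le_iff.1 fun y _ => mem_domQ_of_mem_locOf hL hLq hjL hPL (hU (pL y)) (hn _) (hs _) (hxs (pL y)),
    of_restrict_cover @IsImmersion (fun _ _ => inferInstance) r
      (fun x => (std p chart (U x) (hU x) (hn x) (s x) (hs x)).opensRange) (top_le_iff.1 fun y _ => ?_) fun x => ?_⟩
  · exact Opens.mem_iSup.2 ⟨pL y.1, (mem_locOf_iff hL hLq hjL hP hPL hr (hU _) (hn _) (hs _) y).2 (hxs _)⟩
  · haveI := hcl x
    infer_instance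

end Groth.Agent.S12686
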