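import Groth.Statements.S12687
import Groth.Agent.H81.RelProj.GrTilde.FinPres
import Groth.Agent.H81.RelProj.RelTwist
import Groth.Agent.Lib.RelProjBasics.Basic
import Groth.Agent.Lib.ProjQ.Charts
import Groth.Agent.Lib.DescAlg.FPPush

set_option autoImplicit false
set_option linter.style.haveILetI false
universe u
open CategoryTheory CategoryTheory.Limits AlgebraicGeometry TopologicalSpace Opposite
open scoped HomogeneousIdeal
noncomputable section
open Divisors

namespace Groth.Agent.S12687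

open Groth.Agent.Lib Groth.Agent.H81.RelProj HomogeneousLocalization

theorem fp_of_bijective {X P : Scheme.{u}} (e : X ⟶ P) [IsOpenImmersion e] {F : P.Modules} {T : X.Modules}
    (φ : F ⟶ (Scheme.Modules.pushforward e).obj T) (V : P.Opens) (hV : V ≤ e.opensRange)
    (hb : Function.Bijective (φ.app V)) (H : Module.FinitePresentation Γ(X, e ⁻¹ᵁ V) Γ(T, e ⁻¹ᵁ V)) :
    Module.FinitePresentation Γ(P, V) Γ(F, V) := by
  haveI := e.isIso_app V hV
  have hσ : Function.Bijective (e.app V).hom := ConcreteCategory.bijective_of_isIso (e.app V)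
  let σ : Γ(P, V) ≃+* Γ(X, e ⁻¹ᵁ V) := RingEquiv.ofBijective _ hσ
  let a : Γ(F, V) ≃+ Γ(T, e ⁻¹ᵁ V) := AddEquiv.ofBijective (φ.app V).hom hb
  refine GrTilde.FinPres.fp_of_semilinear σ.symm.toRingHom σ.symm.surjective a.symm fun r x => hb.1 ?_
  change φ.app V (a.symm (r • x)) = φ.app V (σ.symm r • a.symm x)
  rw [Scheme.Modules.Hom.app_smul φ (σ.symm r) (a.symm x)]
  refine (a.apply_symm_apply (r • x)).trans ?_
  exact congrArg₂ (fun (r' : Γ(X, e ⁻¹ᵁ V)) (x' : Γ(T, e ⁻¹ᵁ V)) => r' • x')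
    (σ.apply_symm_apply r).symm (a.apply_symm_apply x).symm

theorem fp_fromZero {R A : Type u} [CommRing R] [CommRing A] {𝒢 : ℕ → AddSubgroup A} [GradedRing 𝒢]
    (st : R →+* A) (st₀ : R →+* 𝒢 0) (hc : ∀ r, (st₀ r : A) = st r) (hst : st.FinitePresentation)
    {d : ℕ} {f : A} (hd : 0 < d) (hf : f ∈ 𝒢 d) :
    ((fromZeroRingHom 𝒢 (Submonoid.powers f)).comp st₀).FinitePresentation :=
  GrTilde.FinPres.finitePresentation_away st (fun r => hc r ▸ (st₀ r).2) hst hd hf _ fun r => val_injective _ (by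
    refine (congrArg₂ Localization.mk (hc r) (Subtype.ext (pow_zero f).symm) :
      Localization.mk (st₀ r : A) (1 : Submonoid.powers f) = Localization.mk (st r) (⟨f ^ 0, 0, rfl⟩ : Submonoid.powers f)))

theorem cover_eq_top {A : Type u} [CommRing A] (𝒢 : ℕ → AddSubgroup A) [GradedRing 𝒢] :
    ⨆ i : {df : ℕ × A // 0 < df.1 ∧ df.2 ∈ 𝒢 df.1}, Proj.basicOpen 𝒢 i.1.2 = ⊤ :=
  Proj.iSup_basicOpen_eq_top 𝒢 (fun i : {df : ℕ × A // 0 < df.1 ∧ df.2 ∈ 𝒢 df.1} => i.1.2)
    ((HomogeneousIdeal.toIdeal_irrelevant_le _).mpr fun d hd g hg => Ideal.subset_span ⟨⟨(d, g), hd, hg⟩, rfl⟩)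

theorem lfp_chartStr {S : Scheme.{u}} {𝒜 : RelProj.QCGrAlg S} (U : S.Opens) (hU : IsAffineOpen U)
    (hfp : RingHom.FinitePresentation (𝒜.str.app (op U)).hom) :
    LocallyOfFinitePresentation (RelProjBasics.Basic.chartStr 𝒜 U hU) := by
  rw [IsZariskiLocalAtSource.iff_of_iSup_eq_top (P := @LocallyOfFinitePresentation) _ (cover_eq_top (𝒜.deg U hU))]
  intro i
  rw [← MorphismProperty.cancel_left_of_respectsIso (P := @LocallyOfFinitePresentation)
    (Proj.basicOpenIsoSpec (𝒜.deg U hU) i.1.2 i.2.2 i.2.1).inv,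
    RelProjBasics.Basic.chartStr, ← Category.assoc, ← Category.assoc, ← Proj.awayι, Proj.awayι_toSpecZero,
    ← Spec.map_comp, HasRingHomProperty.Spec_iff (P := @LocallyOfFinitePresentation)]
  exact fp_fromZero (𝒜.str.app (op U)).hom (𝒜.strZero U hU).hom (fun _ => rfl) hfp i.2.1 i.2.2

/-- Let S be a scheme, 𝒜 a quasi-coherent graded O_S-algebra which is a finitely presented O_S-algebra
(over every affine open U, 𝒜(U) is a finitely presented algebra over Γ(U, O_S)), and p : P = Proj(𝒜)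
→ S its relative homogeneous spectrum, given with its charts. Then p is of finite presentation
(locally of finite presentation, quasi-compact and quasi-separated), and for every integer d the
twisting module O_P(d) (given with its chart identifications) is an O_P-module of finite
presentation. -/
theorem result {S P : Scheme.{u}} (𝒜 : RelProj.QCGrAlg S)
    (hfp : ∀ (U : S.Opens), IsAffineOpen U → RingHom.FinitePresentation (𝒜.str.app (op U)).hom)
    (p : P ⟶ S) (chart : ∀ (U : S.Opens) (hU : IsAffineOpen U), (((p ⁻¹ᵁ U : P.Opens) : Scheme.{u}) ≅ Proj (𝒜.deg U hU))) (hP : RelProj.IsRelProj 𝒜 p chart) :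
    (LocallyOfFinitePresentation p ∧ QuasiCompact p ∧ QuasiSeparated p) ∧
      ∀ (d : ℤ) (Od : P.Modules)
        (lam : ∀ (U : S.Opens) (hU : IsAffineOpen U),
          Od ⟶ (Scheme.Modules.pushforward (RelProj.emb p chart U hU)).obj (GrTwist.twist (𝒜.deg U hU) d)),
        RelProj.IsRelTwist 𝒜 p chart d Od lam → CohB1.IsFP Od := by
  have hft : ∀ (U : S.Opens) (_ : IsAffineOpen U), (𝒜.str.app (op U)).hom.FiniteType := fun U hU =>
    RingHom.FiniteType.of_finitePresentation (hfp U hU)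
  refine ⟨⟨RelProjBasics.Basic.of_chart hP @LocallyOfFinitePresentation fun U hU => lfp_chartStr U hU (hfp U hU),
    (RelProjBasics.Basic.finiteType hP hft).2, ?_⟩, fun n L lam hL => ?_⟩
  · haveI := RelProjBasics.Basic.isSeparated hP
    infer_instance
  haveI hqc : L.IsQuasicoherent := RelTwist.isQCoh hL
  refine DescAlg.FPPush.isFP_of_sections L fun x => ?_
  obtain ⟨U, hU, hxU, -⟩ := exists_isAffineOpen_mem_and_subset (U := ⊤) (x := p x) trivial
  obtain ⟨y, hy⟩ : x ∈ (RelProj.emb p chart U hU).opensRange := by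
    rw [ProjQ.opensRange_emb]; exact hxU
  obtain ⟨d, hd, f, hf, hfy⟩ : ∃ d, 0 < d ∧ ∃ f ∈ 𝒜.deg U hU d,
      f ∉ ProjectiveSpectrum.asHomogeneousIdeal (𝒜 := 𝒜.deg U hU) y := by
    by_contra h
    push Not at h
    exact y.not_irrelevant_le ((HomogeneousIdeal.irrelevant_le _).mpr h)
  let e := RelProj.emb p chart U hU
  let V := e ''ᵁ Proj.basicOpen (𝒜.deg U hU) f
  have hV : V ≤ e.opensRange := by rintro _ ⟨w, -, rfl⟩; exact ⟨w, rfl⟩
  refine ⟨V, (Proj.isAffineOpen_basicOpen _ f hf hd).image_of_isOpenImmersion e, ⟨y, hfy, hy⟩, ?_⟩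
  let i := GrTilde.Basic.twistIsoTilde (𝒜 := 𝒜.deg U hU) n
  refine fp_of_bijective e (lam U hU ≫ (Scheme.Modules.pushforward e).map i.hom) V hV ?_ ?_
  · have h1 : Function.Bijective ((lam U hU).app V) :=
      hL.bijective U hU V (hV.trans (ProjQ.opensRange_emb (p := p) (chart := chart) U hU).le)
    have h2 : Function.Bijective (i.hom.app (e ⁻¹ᵁ V)) :=
      ConcreteCategory.bijective_of_isIso (i.hom.app (e ⁻¹ᵁ V))
    exact h2.comp h1
  · have he : e ⁻¹ᵁ V = Proj.basicOpen (𝒜.deg U hU) f := Scheme.Hom.preimage_image_eq e _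
    rw [he]
    exact GrTilde.FinPres.finitePresentation_sections (𝒜.str.app (op U)).hom (fun r => 𝒜.str_mem U hU r)
      (hfp U hU) hd hf n

end Groth.Agent.S12687
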