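import Groth.Statements.S12689
import Groth.Agent.H81.VeryAmple.Sub

set_option autoImplicit false
set_option linter.style.haveILetI false
universe u
open CategoryTheory CategoryTheory.Limits AlgebraicGeometry TopologicalSpace Opposite
open scoped HomogeneousIdeal
noncomputable section
open EGA2

namespace Groth.Agent.S12689

/-- Let Y be a scheme which is either quasi-compact and separated or has Noetherian underlying space, q
: X → Y a morphism of finite type, L an invertible O_X-module with graded symmetric algebra 𝒮L =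
⊕_{n≥0} L^{⊗n} (whose relative Proj PL, given with its charts, is identified with X by its structure
morphism), F a quasi-coherent O_Y-module with graded symmetric algebra 𝒯 = Sym(F) (structure map jF)
and projective bundle P = P(F) = Proj(𝒯) → Y given with its charts, u : 𝒯 → q_*𝒮L a graded
q-morphism — adjoint to Sym(φ) for the homomorphism φ : q^*F → L it determines in degree one — with
φ surjective (every point of X has an affine neighbourhood V over which the image of a single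
section of F generates L), and r = r_{L,φ} : G(φ) → P the induced morphism on its open of definition
G(φ) ⊆ PL (which is all of PL, φ being surjective). Then r is an immersion if and only if there are
a quasi-coherent O_Y-module E of finite type with an injective map ι : E → F, its graded symmetric
algebra 𝒯' = Sym(E) (structure map jE) and the graded q-morphism u' : 𝒯' → q_*𝒮L obtained from u
through Sym(ι), such that the corresponding φ' : q^*E → L is surjective (in the same stalkwise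
sense) and, for the projective bundle P(E) = Proj(𝒯') → Y (with its charts) and the induced r' =
r_{L,φ'} : G(φ') → P(E), r' is everywhere defined and an immersion. -/
theorem result {X Y P PL : Scheme.{u}}
    (hYs : (CompactSpace Y ∧ Y.IsSeparated) ∨ NoetherianSpace Y) (q : X ⟶ Y) [QuasiCompact q] [LocallyOfFiniteType q]
    (L : X.Modules) (hL : PicF.IsInvertible L) (hLq : Coh.IsQCoh L)
    (𝒮L : RelProj.QCGrAlg X) (jL : L ⟶ 𝒮L.toModule) (hjL : RelProj.IsGrSymAlg L 𝒮L jL)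
    (pL : PL ⟶ X) (chartL : ∀ (U : X.Opens) (hU : IsAffineOpen U), (((pL ⁻¹ᵁ U : PL.Opens) : Scheme.{u}) ≅ Proj (𝒮L.deg U hU)))
    (hPL : RelProj.IsRelProj 𝒮L pL chartL)
    (F : Y.Modules) (hFq : Coh.IsQCoh F) (𝒯 : RelProj.QCGrAlg Y) (jF : F ⟶ 𝒯.toModule) (h𝒯 : RelProj.IsGrSymAlg F 𝒯 jF)
    (u : RelProj.QGrHom q 𝒯 𝒮L)
    (hsurj : ∀ x : X, ∃ (U : Y.Opens) (hU : IsAffineOpen U) (e : Γ(F, U)) (V : X.Opens) (hV : IsAffineOpen V)
        (hVU : V ≤ q ⁻¹ᵁ U), x ∈ V ∧
          ((𝒮L.deg V hV 1 : AddSubgroup (𝒮L.presheaf.obj (op V))) : Set (𝒮L.presheaf.obj (op V))) ⊆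
              (Ideal.span {(u.appLE U V hVU).hom ((jF.app U) e)} : Set (𝒮L.presheaf.obj (op V))))
    (p : P ⟶ Y) (chart : ∀ (U : Y.Opens) (hU : IsAffineOpen U), (((p ⁻¹ᵁ U : P.Opens) : Scheme.{u}) ≅ Proj (𝒯.deg U hU)))
    (hP : RelProj.IsRelProj 𝒯 p chart)
    (r : ((RelProj.domQ u pL chartL : PL.Opens) : Scheme.{u}) ⟶ P)
    (hr : RelProj.IsProjQMapOn u p chart pL chartL (RelProj.domQ u pL chartL) r) :
    IsImmersion r ↔
      ∃ (E : Y.Modules) (_ : Coh.IsQCoh E) (_ : CohB1.IsFT E) (ι : E ⟶ F) (_ : ∀ U : Y.Opens, Function.Injective (ι.app U))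
        (𝒯' : RelProj.QCGrAlg Y) (jE : E ⟶ 𝒯'.toModule) (_ : RelProj.IsGrSymAlg E 𝒯' jE)
        (u' : RelProj.QGrHom q 𝒯' 𝒮L)
        (_ : ∀ (U : Y.Opens) (x : Γ(E, U)), (u'.app U).hom ((jE.app U) x) = (u.app U).hom ((jF.app U) ((ι.app U) x))),
        (∀ x : X, ∃ (U : Y.Opens) (hU : IsAffineOpen U) (e : Γ(E, U)) (V : X.Opens) (hV : IsAffineOpen V)
            (hVU : V ≤ q ⁻¹ᵁ U), x ∈ V ∧
              ((𝒮L.deg V hV 1 : AddSubgroup (𝒮L.presheaf.obj (op V))) : Set (𝒮L.presheaf.obj (op V))) ⊆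
              (Ideal.span {(u'.appLE U V hVU).hom ((jE.app U) e)} : Set (𝒮L.presheaf.obj (op V)))) ∧
        ∀ (P' : Scheme.{u}) (p' : P' ⟶ Y)
            (chart' : ∀ (U : Y.Opens) (hU : IsAffineOpen U), (((p' ⁻¹ᵁ U : P'.Opens) : Scheme.{u}) ≅ Proj (𝒯'.deg U hU)))
            (_ : RelProj.IsRelProj 𝒯' p' chart')
            (r' : ((RelProj.domQ u' pL chartL : PL.Opens) : Scheme.{u}) ⟶ P')
            (_ : RelProj.IsProjQMapOn u' p' chart' pL chartL (RelProj.domQ u' pL chartL) r'),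
          RelProj.domQ u' pL chartL = ⊤ ∧ IsImmersion r' := by
  open Groth.Agent.Lib Groth.Agent.H81.VeryAmple in
  obtain ⟨hc, hqs⟩ := Sub.qcqs hYs
  obtain ⟨v, hv⟩ := Crit.exists_v hL hLq hjL (u := u) (j := jF) fun U hU e => h𝒯.2 U hU e
  have hg := Sub.generates_of_span hL hLq hjL hPL hv hsurj
  obtain ⟨-, hiff⟩ := Sub.isImmersion_iff hL hLq hjL hPL hv hFq h𝒯 hg hP hr
  refine ⟨fun h => ?_, ?_⟩
  · obtain ⟨E, hE, hFT, ι, hι, hC⟩ := FTCrit.exists_ft_crit hL hFq v (hiff.1 h)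
    haveI : E.IsQuasicoherent := hE
    have h𝒯' := SymAlg.Exists.isGrSymAlg E
    obtain ⟨u', hu'⟩ := SymHom.exists_qGrHom h𝒯' (ι ≫ v) hE hjL
    have hv' : ∀ (U : Y.Opens), IsAffineOpen U → ∀ e : Γ(E, U),
        ProjQ.SecAlg.el jL (q ⁻¹ᵁ U) (SymAlg.PE.ev (ι ≫ v) U e) =
          (u'.app U).hom (((SymAlg.Exists.jmap E).app U) e) := fun U _ e => (hu' U e).symm
    refine ⟨E, hE, hFT, ι, hι, _, _, h𝒯', u', fun U x => (hu' U x).trans ?_,
      Sub.span_of_generates hL hLq hjL hPL hv' hC.generates, fun P' p' chart' hP' r' hr' => ?_⟩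
    · refine ProjQ.SecAlg.eq_of_cover (fun V : {V : Y.affineOpens // V.1 ≤ U} => q ⁻¹ᵁ V.1.1)
        (fun V => q.preimage_mono V.2) (SymHom.preimage_le_iSup_affine q U) _ _ fun V => ?_
      refine (ProjQ.SecAlg.rz_el jL (q.preimage_mono V.2) _).trans ?_
      refine (congrArg _ (SymAlg.PE.ev_rs v V.2 (ι.app U x))).trans ?_
      refine (hv V.1.1 V.1.2 _).trans ?_
      refine Eq.trans ?_ congr($(u.naturality V.2) ((jF.app U) ((ι.app U) x))).symm
      exact congrArg _ (ProjQ.SecAlg.rz_el jF V.2 _).symm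
    · obtain ⟨htop, hiff'⟩ := Sub.isImmersion_iff hL hLq hjL hPL hv' hE h𝒯' hC.generates hP' hr'
      exact ⟨htop, hiff'.2 hC⟩
  · rintro ⟨E, hE, -, ι, -, 𝒯', jE, h𝒯', u', hu', hsurj', hall⟩
    have hP' := Groth.Agent.H81.RelProj.Exists.isRelProj 𝒯'
    obtain ⟨r', hr', -⟩ := ProjQ.existsUnique (u := u') hP' hPL
    have hv' : ∀ (U : Y.Opens), IsAffineOpen U → ∀ e : Γ(E, U),
        ProjQ.SecAlg.el jL (q ⁻¹ᵁ U) (SymAlg.PE.ev (ι ≫ v) U e) = (u'.app U).hom ((jE.app U) e) :=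
      fun U hU e => (hv U hU (ι.app U e)).trans (hu' U e).symm
    have hg' := Sub.generates_of_span hL hLq hjL hPL hv' hsurj'
    obtain ⟨-, hiff'⟩ := Sub.isImmersion_iff hL hLq hjL hPL hv' hE h𝒯' hg' hP' hr'
    exact hiff.2 (FTCrit.crit_of_comp ι v (hiff'.1 (hall _ _ _ hP' r' hr').2))

end Groth.Agent.S12689
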