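import Groth.Statements.S1269
import Groth.Agent.Lib.RG.OpenApply
-- import your own Groth.Agent.* helpers here

set_option autoImplicit false
universe u
open FlatMor

attribute [local instance] Algebra.TensorProduct.rightAlgebra

namespace Groth.Agent.S1269

open Lib.RG Lib.RG.NhdPoint Lib.RG.OpenApply

open AlgebraicGeometry CategoryTheory TensorProduct in
/-- Ring form, X = Spec S and S = Spec R affine: let S be a finite type R-algebra, N a finite S-module
and q a prime of S over p with N_q flat over R. Then there is an étale R-algebra R' with a prime p'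
over p having the same residue field such that, writing A for the local ring of R' at p' and S_A,
N_A for the base changes (any models), there is an S_A-algebra C with Spec C → Spec S_A an open
immersion (an affine open U'), containing a point lying over q and over the maximal ideal of A, such
that C ⊗_{S_A} N_A is a free A-module. -/
theorem result {R S : Type u} [CommRing R] [CommRing S] [Algebra R S] [Algebra.FiniteType R S]
    (N : Type u) [AddCommGroup N] [Module S N] [Module R N] [IsScalarTower R S N] [Module.Finite S N]
    (p : Ideal R) [p.IsPrime] (q : Ideal S) [q.IsPrime] [q.LiesOver p] (hflat : FlatCA.FlatAt R q N) :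
    ∃ (R' : Type u) (_ : CommRing R') (_ : Algebra R R') (p' : Ideal R') (_ : p'.IsPrime), FlatCA.IsEtaleNhd R R' p p' ∧
      ∀ (SA NA : Type u) [CommRing SA] [Algebra R SA] [Algebra S SA] [Algebra (Localization.AtPrime p') SA]
        [IsScalarTower R S SA] [IsScalarTower R (Localization.AtPrime p') SA]
        [Algebra.IsPushout R S (Localization.AtPrime p') SA]
        [AddCommGroup NA] [Module SA NA] [Module S NA] [IsScalarTower S SA NA]
        (f : N →ₗ[S] NA), IsBaseChange SA f →
        ∃ (C : Type u) (_ : CommRing C) (_ : Algebra SA C) (_ : Algebra (Localization.AtPrime p') C)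
          (_ : IsScalarTower (Localization.AtPrime p') SA C) (x' : Ideal C) (_ : x'.IsPrime),
          IsOpenImmersion (Spec.map (CommRingCat.ofHom (algebraMap SA C))) ∧
          (x'.comap (algebraMap SA C)).LiesOver q ∧
          (x'.comap (algebraMap SA C)).LiesOver (IsLocalRing.maximalIdeal (Localization.AtPrime p')) ∧
          Module.Free (Localization.AtPrime p') (RestrictScalars (Localization.AtPrime p') C (C ⊗[SA] NA)) := by
  obtain ⟨R', cR', aR', p', hp', hnhd, u, hu, hfree⟩ := exists_localFree N p q hflat
  refine ⟨R', cR', aR', p', hp', hnhd, ?_⟩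
  intro SA NA _ _ _ _ _ _ _ _ _ _ _ f hf
  let A := Localization.AtPrime p'
  let g : R' →ₐ[R] A := IsScalarTower.toAlgHom R R' A
  have hg : (IsLocalRing.maximalIdeal A).comap g.toRingHom ≤ p' :=
    (Localization.AtPrime.comap_maximalIdeal (I := p')).le
  let v := push (P := S) g u
  let C := Localization.Away v
  letI := modelAlgebra (R := R) (S := S) (A := A) (SA := SA) C
  haveI := modelTower_left (R := R) (S := S) (A := A) (SA := SA) C
  haveI := modelTower_right (R := R) (S := S) (A := A) (SA := SA) C
  haveI := modelAway (R := R) (S := S) (A := A) (SA := SA) v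
  obtain ⟨ψ, hψ⟩ := exists_psiA (A' := A) p q p' hnhd
  obtain ⟨hker, hkS, hkR⟩ := ker_point q ψ hψ
  haveI : (IsLocalRing.maximalIdeal A).LiesOver p' := ⟨(Localization.AtPrime.comap_maximalIdeal (I := p')).symm⟩
  obtain ⟨hXS, hXR⟩ := OpenProj.point_comap (R' := R') (p' := p') _ hkS hkR
  obtain ⟨ψC, hψC⟩ := exists_psiC q ψ v fun h => hu _ (hker.comap (OpenProj.sig (R' := R') (R'' := A)).toRingHom) hXS hXR h
  refine ⟨C, inferInstance, inferInstance, inferInstance, inferInstance, RingHom.ker ψC.toRingHom,
    RingHom.ker_isPrime _, IsOpenImmersion.of_isLocalization (Algebra.IsPushout.equiv R S A SA v),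
    ⟨Ideal.ext fun s => ?_⟩, ⟨Ideal.ext fun r => ?_⟩, ?_⟩
  · show s ∈ q ↔ ψC (algebraMap SA C (algebraMap S SA s)) = 0
    rw [← IsScalarTower.algebraMap_apply, ψC.commutes]
    exact Ideal.algebraMap_residueField_eq_zero.symm
  · show r ∈ IsLocalRing.maximalIdeal A ↔ ψC (algebraMap SA C (algebraMap A SA r)) = 0
    rw [← IsScalarTower.algebraMap_apply, IsScalarTower.algebraMap_apply A (S ⊗[R] A) C, hψC]
    exact (hψ r).symm
  · haveI : Module.Free A (C ⊗[S] N) := hfree A g hg
    exact Module.Free.of_equiv (((transport hf (C := C)).symm.restrictScalars A).trans (rsEquiv A C _))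

end Groth.Agent.S1269
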