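import Groth.Statements.S12690
import Groth.Agent.H81.ProjClosed.Away

set_option autoImplicit false
universe u
open CategoryTheory CategoryTheory.Limits AlgebraicGeometry TopologicalSpace Opposite
open scoped HomogeneousIdeal
noncomputable section
open Divisors

namespace Groth.Agent.S12690

/-- Assume S is a quasi-separated, quasi-compact scheme and 𝒜 is a quasi-coherent graded O_S-algebra
each of whose graded pieces 𝒜_n is a finite type O_S-module (concretely, for every affine open W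
there is a finite set of elements of 𝒜_n(W) spanning it over Γ(W, O_S)). Write p : P = Proj(𝒜) → S
for its relative homogeneous spectrum (supplied together with its charts) and suppose p is
quasi-compact. Consider a closed immersion i : Z → P of finite presentation, and a quasi-compact
open U ⊆ S not meeting p(i(Z)). Then one can find an integer d > 0; a quasi-coherent finite type
O_S-module F together with ι : F → 𝒜 whose image lies in degree d over each affine open; a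
quasi-coherent graded O_S-algebra ℬ and a graded homomorphism φ : 𝒜 → ℬ which, on every affine open
W, is surjective with kernel equal to the ideal spanned by the image of F(W) — i.e. ℬ = 𝒜/F𝒜; a
relative Proj PB = Proj(ℬ) → S equipped with charts; the morphism h = Proj(φ) : PB → P, defined
everywhere; and an isomorphism e : PB ≅ Z whose composite with i is h. Furthermore, for each affine
open W contained in U, the image of F(W) exhausts 𝒜_d(W) (so 𝒜_d/F has support avoiding U). -/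
theorem result {S P Z : Scheme.{u}}
    [CompactSpace S] [QuasiSeparatedSpace S] (𝒜 : RelProj.QCGrAlg S)
    (hft : ∀ (W : S.Opens) (hW : IsAffineOpen W) (n : ℕ), ∃ s : Finset (𝒜.presheaf.obj (op W)),
      (↑s : Set (𝒜.presheaf.obj (op W))) ⊆ (𝒜.deg W hW n : AddSubgroup (𝒜.presheaf.obj (op W))) ∧
        ∀ x ∈ 𝒜.deg W hW n, ∃ c : (𝒜.presheaf.obj (op W)) → Γ(S, W),
          x = ∑ g ∈ s, (𝒜.str.app (op W)).hom (c g) * g)
    (p : P ⟶ S) (chart : ∀ (U : S.Opens) (hU : IsAffineOpen U), (((p ⁻¹ᵁ U : P.Opens) : Scheme.{u}) ≅ Proj (𝒜.deg U hU))) (hP : RelProj.IsRelProj 𝒜 p chart) [QuasiCompact p]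
    (i : Z ⟶ P) [IsClosedImmersion i] [LocallyOfFinitePresentation i]
    (U : S.Opens) (hUc : IsCompact (U : Set S)) (hUZ : Disjoint (U : Set S) (Set.range (i ≫ p).base)) :
    ∃ (d : ℕ) (_ : 0 < d) (F : S.Modules) (_ : Coh.IsQCoh F) (_ : CohB1.IsFT F) (ι : F ⟶ 𝒜.toModule)
      (_ : ∀ (W : S.Opens) (hW : IsAffineOpen W) (x : Γ(F, W)), (ι.app W) x ∈ 𝒜.deg W hW d)
      (ℬ : RelProj.QCGrAlg S) (φ : 𝒜.toQCAlg ⟶ ℬ.toQCAlg) (hφ : RelProj.IsGradedHom φ) (PB : Scheme.{u})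
      (pB : PB ⟶ S) (chartB : ∀ (U : S.Opens) (hU : IsAffineOpen U), (((pB ⁻¹ᵁ U : PB.Opens) : Scheme.{u}) ≅ Proj (ℬ.deg U hU)))
      (h : PB ⟶ P) (e : PB ≅ Z),
      (∀ (W : S.Opens), IsAffineOpen W → Function.Surjective (φ.hom.app (op W)).hom ∧
          RingHom.ker (φ.hom.app (op W)).hom = (Ideal.span (Set.range (ι.app W)) : Ideal (𝒜.presheaf.obj (op W)))) ∧
        RelProj.IsRelProj ℬ pB chartB ∧ RelProj.IsProjQMap (RelProj.QGrHom.ofHom φ hφ) p chart pB chartB h ∧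
        e.hom ≫ i = h ∧
        ∀ (W : S.Opens) (hW : IsAffineOpen W), W ≤ U →
          ((𝒜.deg W hW d : AddSubgroup (𝒜.presheaf.obj (op W))) : Set (𝒜.presheaf.obj (op W))) ⊆
            Set.range (fun x : Γ(F, W) => ((ι.app W) x : 𝒜.presheaf.obj (op W))) := by
  classical
  obtain ⟨T, hTfin, hTcov⟩ :=
    isCompact_and_isOpen_iff_finite_and_eq_biUnion_affineOpens.mp ⟨hUc, U.2⟩
  haveI := hTfin.to_subtype
  have hle : ∀ V : T, (V.1.1 : S.Opens) ≤ U := fun V x hx => by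
    rw [← SetLike.mem_coe, hTcov]; exact Set.mem_biUnion V.2 hx
  choose s hs hgen using fun (n : ℕ) (V : T) => hft V.1.1 V.1.2 n
  have hJ : ∀ V : T, H81.ProjClosed.J 𝒜 p chart i.ker V.1.1 V.1.2 = ⊤ := fun V =>
    H81.ProjClosed.J_eq_top 𝒜 p chart i V.1.2 fun z hz =>
      Set.disjoint_left.1 hUZ (hle V hz) ⟨z, rfl⟩
  obtain ⟨d, hd, F, hq, hF, ι, hι, ℬ, φ, hφ, PB, pB, chartB, h, e, h1, h2, h3, h4, h5⟩ :=
    H81.ProjClosed.exists_finiteType 𝒜 p chart hP i
      (fun n => Σ V : T, (↑(s n V) : Set (𝒜.presheaf.obj (op V.1.1))))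
      (fun n l => l.1.1) (fun n l => l.2.1) (fun n l => hs n l.1 l.2.2)
      (fun n l => (hJ l.1).symm ▸ Submodule.mem_top)
  refine ⟨d, hd, F, hq, hF, ι, hι, ℬ, φ, hφ, PB, pB, chartB, h, e, h1, h2, h3, h4, fun W hW hWU x hx => ?_⟩
  have hV : ∀ (V : T), ∀ a ∈ 𝒜.deg V.1.1 V.1.2 d,
      ∃ b : Γ(F, V.1.1), Lib.QCAlgSub.Basic.jm 𝒜.toQCAlg ι V.1.1 b = a := fun V a ha => by
    obtain ⟨c, hc⟩ := hgen d V a ha
    have hg : ∀ g : 𝒜.presheaf.obj (op V.1.1), g ∈ s d V → ∃ b : Γ(F, V.1.1),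
        Lib.QCAlgSub.Basic.jm 𝒜.toQCAlg ι V.1.1 b = g := fun g hg => h5 ⟨V, g, hg⟩
    choose! b hb using hg
    refine ⟨∑ g ∈ s d V, c g • b g, ?_⟩
    rw [hc]
    refine (map_sum (ι.app V.1.1).hom _ _).trans (Finset.sum_congr rfl fun g hg => ?_)
    refine (Scheme.Modules.Hom.app_smul ι (c g) (b g)).trans ?_
    show Lib.QCAlgSub.Basic.st 𝒜.toQCAlg V.1.1 (c g) * Lib.QCAlgSub.Basic.jm 𝒜.toQCAlg ι V.1.1 (b g) = _
    rw [hb g hg]
  refine H81.ProjClosed.subset_range_of_cover 𝒜 hq ι d (fun V : T => V.1) hV hW (fun y hy => ?_) hx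
  have hy' : y ∈ (U : Set S) := hWU hy
  rw [hTcov] at hy'
  obtain ⟨V, hVT, hyV⟩ := Set.mem_iUnion₂.mp hy'
  exact ⟨⟨V, hVT⟩, hyV⟩

end Groth.Agent.S12690
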