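import Groth.Statements.S12691
import Groth.Agent.Lib.ProjQ.Ampleness
import Groth.Agent.Lib.SymAlg.PE.Main

set_option autoImplicit false
set_option linter.style.haveILetI false
universe u
open CategoryTheory CategoryTheory.Limits AlgebraicGeometry TopologicalSpace Opposite
open scoped HomogeneousIdeal
noncomputable section
open Mor

namespace Groth.Agent.S12691

open Groth.Agent.Lib HomogeneousLocalization
open Groth.Agent.Lib.ProjQ (locOf std locIdx Idx)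
open Groth.Agent.Lib.ProjQ.SecAlg (el el_add el_sub el_smul rz_el isFrame_of_gen eq_zero_of_el_eq_zero rz rz_rz rz_str IsHom eq_of_cover loc loc_inf_frame isHom_app)
open Groth.Agent.Lib.TensorMod.Dual (rs rs_rs rs_self rf rs_smul)
open Groth.Agent.Lib.TensorMod.Gen (IsGen)
open Groth.Agent.Lib.Ample.GenLocus (exists_coord)
open Groth.Agent.Lib.TensorMod.HomGlue (rs_app)
open Groth.Agent.Lib.SymAlg.PE (gloc gloc_le isGen_gloc gloc_inf_eq ratio ratio_spec ratio_unique_on ev toSpec ImmOn rats)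
open Groth.Agent.Lib.QCAlgSub.Basic (jm)

section Line

variable {X : Scheme.{u}} {L : X.Modules} {𝒮L : RelProj.QCGrAlg X} {jL : L ⟶ 𝒮L.toModule}
  (hL : PicF.IsInvertible L) (hLq : Coh.IsQCoh L) (hj : RelProj.IsGrSymAlg L 𝒮L jL)

include hL hLq hj in
theorem el_injective (W : X.Opens) : Function.Injective (el jL W) := by
  intro m m' h
  choose V hV e hxV hVW he using fun x : W => ProjQ.SecAlg.exists_gen_nhd hL (x := x.1) (W := W) x.2
  refine TopCat.Sheaf.eq_of_locally_eq' (⟨L.presheaf, L.isSheaf⟩ : TopCat.Sheaf Ab.{u} X) V W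
    (fun x => homOfLE (hVW x)) (fun x hx => Opens.mem_iSup.2 ⟨⟨x, hx⟩, hxV ⟨x, hx⟩⟩) m m' fun x => ?_
  change rs L (hVW x) m = rs L (hVW x) m'
  obtain ⟨b, hb⟩ := exists_coord (he x) (rs L (hVW x) m - rs L (hVW x) m')
  have h0 : el jL (V x) (rs L (hVW x) m - rs L (hVW x) m') = 0 := by
    rw [el_sub, ← rz_el, ← rz_el, h, sub_self]
  rw [hb, el_smul] at h0
  have hb0 : b = 0 := eq_zero_of_el_eq_zero (n := 1) hLq hj (hV x) (he x) le_rfl b (by
    rw [pow_one, ProjQ.SecAlg.rz_self]; exact h0)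
  rw [hb0, zero_smul, sub_eq_zero] at hb
  exact hb

include hL hLq hj in
theorem exists_el_eq {W : X.Opens} {z : 𝒮L.presheaf.obj (op W)} (hz : IsHom 𝒮L 1 W z) :
    ∃ m : Γ(L, W), el jL W m = z := by
  choose V hV e hxV hVW he using fun x : W => ProjQ.SecAlg.exists_gen_nhd hL (x := x.1) (W := W) x.2
  choose a ha using fun x : W => (isFrame_of_gen hLq hj (hV x) (he x)).surj 1 _ (hz (V x) (hV x) (hVW x))
  let c : ∀ x : W, Γ(L, V x) := fun x => a x • e x
  have hc : ∀ x, el jL (V x) (c x) = rz (hVW x) z := fun x => by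
    rw [el_smul, ha x, pow_one]
  have hcompat : ∀ x y : W, rs L (inf_le_left : V x ⊓ V y ≤ V x) (c x) = rs L inf_le_right (c y) := fun x y =>
    el_injective hL hLq hj _ (by rw [← rz_el, ← rz_el, hc, hc, rz_rz, rz_rz])
  obtain ⟨m, hm, -⟩ := TopCat.Sheaf.existsUnique_gluing'
    (⟨_, L.isSheaf⟩ : TopCat.Sheaf Ab.{u} X) V W (fun x => homOfLE (hVW x))
    (fun x hx => Opens.mem_iSup.2 ⟨⟨x, hx⟩, hxV ⟨x, hx⟩⟩) c hcompat
  refine ⟨m, eq_of_cover V hVW (fun x hx => Opens.mem_iSup.2 ⟨⟨x, hx⟩, hxV ⟨x, hx⟩⟩) _ _ fun x => ?_⟩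
  rw [rz_el, show rs L (hVW x) m = c x from hm x, hc]

variable {PL : Scheme.{u}} {pL : PL ⟶ X}
  {chartL : ∀ (U : X.Opens) (hU : IsAffineOpen U), ((pL ⁻¹ᵁ U : PL.Opens) : Scheme.{u}) ≅ Proj (𝒮L.deg U hU)}
  (hPL : RelProj.IsRelProj 𝒮L pL chartL)

include hL hLq hj hPL in
theorem loc_el {W : X.Opens} (m : Γ(L, W)) (hz : IsHom 𝒮L 1 W (el jL W m)) :
    loc 𝒮L 1 W (el jL W m) = gloc m := by
  apply Opens.ext
  ext x
  by_cases hx : x ∈ W
  · obtain ⟨V, hV, e, hxV, hVW, he⟩ := ProjQ.SecAlg.exists_gen_nhd hL hx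
    obtain ⟨a, ha⟩ := exists_coord he (rs L hVW m)
    have h1 := SetLike.ext_iff.1 (loc_inf_frame hL hLq hj hPL Nat.one_pos _ hz
      (isFrame_of_gen hLq hj hV he) hVW (a := a) (by rw [rz_el, ha, el_smul, pow_one])) x
    have h2 := SetLike.ext_iff.1 (gloc_inf_eq hVW he ha) x
    exact ⟨fun h => (h2.2 (h1.1 ⟨h, hxV⟩)).1, fun h => (h1.2 (h2.1 ⟨h, hxV⟩)).1⟩
  · exact ⟨fun h => (hx (ProjQ.SecAlg.loc_le _ _ _ h)).elim, fun h => (hx (gloc_le m h)).elim⟩

end Line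

theorem exists_toSpec {X : Scheme.{u}} {T : X.Opens} {A : CommRingCat.{u}} (k : (T : Scheme.{u}) ⟶ Spec A) :
    ∃ φ : A ⟶ Γ(X, T), k = toSpec T φ := by
  refine ⟨(Scheme.ΓSpecIso A).inv ≫ k.appTop ≫ T.topIso.hom, ?_⟩
  refine ext_of_isAffine ?_
  simp [toSpec, Scheme.Opens.toSpecΓ]
  erw [← Functor.map_comp, Subsingleton.elim (_ ≫ _) (𝟙 _)]
  exact (Category.comp_id _).symm.trans (congrArg (k.appTop ≫ ·) (X.presheaf.map_id _).symm)

section Imm

variable {X Y P PL : Scheme.{u}} {f : X ⟶ Y} {L : X.Modules}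
  {𝒮L : RelProj.QCGrAlg X} {jL : L ⟶ 𝒮L.toModule} {𝒜 : RelProj.QCGrAlg Y} {u : RelProj.QGrHom f 𝒜 𝒮L}
  {p : P ⟶ Y}
  {chart : ∀ (U : Y.Opens) (hU : IsAffineOpen U), ((p ⁻¹ᵁ U : P.Opens) : Scheme.{u}) ≅ Proj (𝒜.deg U hU)}
  {pL : PL ⟶ X}
  {chartL : ∀ (U : X.Opens) (hU : IsAffineOpen U), ((pL ⁻¹ᵁ U : PL.Opens) : Scheme.{u}) ≅ Proj (𝒮L.deg U hU)}
  {r : (RelProj.domQ u pL chartL : Scheme.{u}) ⟶ P}
  (hL : PicF.IsInvertible L) (hLq : Coh.IsQCoh L) (hj : RelProj.IsGrSymAlg L 𝒮L jL)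
  (hP : RelProj.IsRelProj 𝒜 p chart) (hPL : RelProj.IsRelProj 𝒮L pL chartL)
  (hr : RelProj.IsProjQMapOn u p chart pL chartL (RelProj.domQ u pL chartL) r)
  [IsImmersion r]
  {E : Y.Modules} {j : E ⟶ 𝒜.toModule} {v : E ⟶ (Scheme.Modules.pushforward f).obj L}
  (hv : ∀ (U : Y.Opens), IsAffineOpen U → ∀ e : Γ(E, U),
    el jL (f ⁻¹ᵁ U) (ev v U e) = (u.app U).hom (jm 𝒜.toQCAlg j U e))

include hL hLq hj hP hPL hr hv in
theorem immOn_ev [IsIso pL] [IsIso (RelProj.domQ u pL chartL).ι] (hgen : 𝒜.IsGenDegOne)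
    {U : Y.Opens} (hU : IsAffineOpen U) (hmem : ∀ e : Γ(E, U), jm 𝒜.toQCAlg j U e ∈ 𝒜.deg U hU 1)
    (hsurjE : ∀ b ∈ 𝒜.deg U hU 1, ∃ e : Γ(E, U), jm 𝒜.toQCAlg j U e = b) (e : Γ(E, U)) :
    ImmOn (gloc (ev v U e)) (rats v U e) := by
  let s := jm 𝒜.toQCAlg j U e
  have hs : s ∈ 𝒜.deg U hU 1 := hmem e
  let T := gloc (ev v U e)
  let r' : X ⟶ P := inv pL ≫ inv (RelProj.domQ u pL chartL).ι ≫ r
  have hT : locOf u U 1 s = T := by
    change loc 𝒮L 1 _ ((u.app U).hom s) = T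
    rw [← hv U hU e]
    exact loc_el hL hLq hj hPL _ ((hv U hU e).symm ▸ isHom_app u hU hs)
  let D := std p chart U hU Nat.one_pos s hs
  have hrange : Set.range (T.ι ≫ r') ⊆ Set.range D := by
    rintro _ ⟨x, rfl⟩
    obtain ⟨y, hy⟩ := pL.homeomorph.surjective x.1
    obtain ⟨y', rfl⟩ := (RelProj.domQ u pL chartL).ι.homeomorph.surjective y
    have e1 : r' x.1 = r y' := by
      rw [← hy]
      change (((RelProj.domQ u pL chartL).ι ≫ pL) ≫ r') y' = r y'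
      simp [r']
    change r' x.1 ∈ _
    rw [e1]
    refine (ProjQ.mem_locOf_iff hL hLq hj hP hPL hr hU Nat.one_pos hs y').2 (hT.ge ?_)
    exact (show pL y'.1 = x.1 from hy) ▸ x.2
  let k : (T : Scheme.{u}) ⟶ Spec (CommRingCat.of (Away (𝒜.deg U hU) s)) :=
    IsOpenImmersion.lift D (T.ι ≫ r') hrange
  have hk : k ≫ D = T.ι ≫ r' := IsOpenImmersion.lift_fac _ _ _
  haveI : IsImmersion (k ≫ D) := by rw [hk]; infer_instance
  haveI : IsImmersion k := IsImmersion.of_comp k D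
  obtain ⟨φ, hφ⟩ := exists_toSpec k
  refine SymAlg.PE.immOn_of_range φ ?_ (hφ ▸ ‹IsImmersion k›)
  have key : ∀ e' : Γ(E, U), φ.hom (SymAlg.PE.Away.frac (𝒜.deg U hU) hs (hmem e')) =
      ratio (ev v U e) (ev v U e') := by
    intro e'
    refine TopCat.Sheaf.eq_of_locally_eq' X.sheaf (fun V : {V : X.affineOpens // V.1 ≤ T} => V.1.1) T
      (fun V => homOfLE V.2) (fun x hx => ?_) _ _ fun ⟨⟨V, hV⟩, hVT⟩ => ?_
    · obtain ⟨V, hV, hxV, hsub⟩ := exists_isAffineOpen_mem_and_subset (X := X) (x := x) (U := T) hx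
      exact Opens.mem_iSup.2 ⟨⟨⟨V, hV⟩, hsub⟩, hxV⟩
    have hle : V ≤ f ⁻¹ᵁ U := hVT.trans (gloc_le _)
    have hgen0 : IsGen L V (rs L hle (ev v U e)) := by
      have h := (isGen_gloc (ev v U e)).res hVT
      rwa [rs_rs] at h
    let i : Idx (g := f) (𝒮 := 𝒜) := locIdx hU Nat.one_pos hs V hV hle
    let β := CommRingCat.ofHom ((fromZeroRingHom (𝒮L.deg V hV) (Submonoid.powers (i.φ u s))).comp (𝒮L.strZero V hV).hom)
    have h1 : i.e pL chartL u ≫ pL = Spec.map β ≫ hV.fromSpec :=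
      ProjQ.std_over hPL V hV Nat.one_pos (i.φ u s) _
    have h2 : i.e pL chartL u ≫ inv (RelProj.domQ u pL chartL).ι ≫ r = i.c p chart u := by
      rw [← ProjQ.lift_ι (u := u) (p' := pL) (chart' := chartL) i, Category.assoc, IsIso.hom_inv_id_assoc]
      exact (ProjQ.isProjQMapOn_iff r).1 hr i
    have h3 : hV.fromSpec ≫ r' = Spec.map (φ ≫ X.presheaf.map (homOfLE hVT).op) ≫ D := by
      rw [← hV.isoSpec_inv_ι, Category.assoc, ← X.homOfLE_ι hVT, Category.assoc, ← hk, hφ,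
        ← Category.assoc (X.homOfLE hVT), ← SymAlg.PE.toSpec_res hVT, toSpec, ← hV.isoSpec_hom]
      simp
    have h4 : Spec.map ((φ ≫ X.presheaf.map (homOfLE hVT).op) ≫ β) =
        Spec.map (CommRingCat.ofHom (Away.map (i.φ u) s)) := by
      rw [← cancel_mono D, Spec.map_comp, Category.assoc, ← h3, ← Category.assoc, ← h1]
      rw [Category.assoc, IsIso.hom_inv_id_assoc]
      exact h2
    have h5 := congr($(Spec.map_injective h4) (SymAlg.PE.Away.frac (𝒜.deg U hU) hs (hmem e')))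
    have hfr := isFrame_of_gen hLq hj hV hgen0
    have hs1 : ∀ e'' : Γ(E, U), i.φ u (jm 𝒜.toQCAlg j U e'') = el jL V (rs L hle (ev v U e'')) := fun e'' => by
      change rz hle ((u.app U).hom (jm 𝒜.toQCAlg j U e'')) = _
      rw [← hv U hU e'', rz_el]
    have hc : rs L hle (ev v U e') = rf hVT (ratio (ev v U e) (ev v U e')) • rs L hle (ev v U e) := by
      have h := congrArg (rs L hVT) (ratio_spec (ev v U e) (ev v U e'))
      rwa [rs_smul, rs_rs, rs_rs] at h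
    have hβ : Function.Injective β := by
      refine (injective_iff_map_eq_zero β.hom).2 fun a ha => ?_
      have h0 := congrArg HomogeneousLocalization.val ha
      rw [HomogeneousLocalization.val_zero, ← Localization.mk_zero (1 : Submonoid.powers (i.φ u s))] at h0
      obtain ⟨⟨_, N, rfl⟩, hN⟩ := Localization.r_iff_exists.1 (Localization.mk_eq_mk_iff.1 h0)
      refine hfr.inj N a ?_
      simp only [OneMemClass.coe_one, one_mul, mul_zero] at hN
      have hN' : (i.φ u s) ^ N * (𝒮L.str.app (op V)).hom a = 0 := hN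
      change _ * (el jL V (rs L hle (ev v U e))) ^ N = 0
      rw [← hs1 e, mul_comm]
      exact hN'
    refine hβ (h5.trans ?_)
    apply HomogeneousLocalization.val_injective
    change (Away.map (i.φ u) s (SymAlg.PE.Away.frac (𝒜.deg U hU) hs (hmem e'))).val =
      Localization.mk ((𝒮L.str.app (op V)).hom (rf hVT (ratio (ev v U e) (ev v U e')))) (1 : Submonoid.powers (i.φ u s))
    rw [SymAlg.PE.Away.frac, Away.map_mk, Away.val_mk, Localization.mk_eq_mk_iff, Localization.r_iff_exists]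
    refine ⟨1, ?_⟩
    simp only [OneMemClass.coe_one, one_mul, pow_one]
    change i.φ u (jm 𝒜.toQCAlg j U e') = i.φ u s * _
    rw [hs1 e', hs1 e, hc, el_smul, mul_comm]
  rw [RingHom.range_eq_map, ← SymAlg.PE.Away.closure_frac (𝒜.deg U hU) (hgen U hU) hs, RingHom.map_closure]
  refine Subring.closure_mono ?_
  rintro _ ⟨_, ⟨⟨b, hb⟩, rfl⟩, rfl⟩
  obtain ⟨e', rfl⟩ := hsurjE b hb
  exact ⟨e', (key e').symm⟩

end Imm

/-- Let f : X → Y be a quasi-compact morphism, L an invertible O_X-module with graded symmetric algebra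
𝒮L = ⊕_{n≥0} L^{⊗n} (whose relative Proj PL, given with its charts, is identified with X by its
structure morphism), 𝒜 a quasi-coherent graded O_Y-algebra generated in degree one over O_Y (its
degree-zero part is the image of O_Y and degrees zero and one generate it), u : 𝒜 → f_*𝒮L a graded
f-morphism (adjoint to a homomorphism of graded algebras ψ : f^*𝒜 → ⊕ L^{⊗n}) whose degree-one part
f^*𝒜_1 → L is surjective — every point of X has an affine neighbourhood V over which the image of a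
single degree-one section of 𝒜 generates L — P = Proj(𝒜) → Y with its charts, and r = r_{L,ψ} : U(ψ)
→ P the induced morphism on its open of definition U(ψ) ⊆ PL. If r is an immersion, then L is very
ample relative to f (isomorphic to the inverse image of O(1) along a Y-immersion into the projective
bundle of a quasi-coherent O_Y-module). -/
theorem result {X Y P PL : Scheme.{u}} (f : X ⟶ Y) [QuasiCompact f]
    (L : X.Modules) (hL : PicF.IsInvertible L) (hLq : Coh.IsQCoh L)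
    (𝒮L : RelProj.QCGrAlg X) (jL : L ⟶ 𝒮L.toModule) (hjL : RelProj.IsGrSymAlg L 𝒮L jL)
    (pL : PL ⟶ X) (chartL : ∀ (U : X.Opens) (hU : IsAffineOpen U), (((pL ⁻¹ᵁ U : PL.Opens) : Scheme.{u}) ≅ Proj (𝒮L.deg U hU)))
    (hPL : RelProj.IsRelProj 𝒮L pL chartL)
    (𝒜 : RelProj.QCGrAlg Y) (h1 : 𝒜.IsGenDegOne)
    (h0 : ∀ (U : Y.Opens) (hU : IsAffineOpen U),
      ((𝒜.deg U hU 0 : AddSubgroup (𝒜.presheaf.obj (op U))) : Set (𝒜.presheaf.obj (op U))) = Set.range (𝒜.str.app (op U)).hom)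
    (u : RelProj.QGrHom f 𝒜 𝒮L)
    (hsurj : ∀ x : X, ∃ (U : Y.Opens) (hU : IsAffineOpen U) (e : 𝒜.presheaf.obj (op U)) (_ : e ∈ 𝒜.deg U hU 1)
        (V : X.Opens) (hV : IsAffineOpen V) (hVU : V ≤ f ⁻¹ᵁ U), x ∈ V ∧
          ((𝒮L.deg V hV 1 : AddSubgroup (𝒮L.presheaf.obj (op V))) : Set (𝒮L.presheaf.obj (op V))) ⊆
            (Ideal.span {(u.appLE U V hVU).hom e} : Set (𝒮L.presheaf.obj (op V))))
    (p : P ⟶ Y) (chart : ∀ (U : Y.Opens) (hU : IsAffineOpen U), (((p ⁻¹ᵁ U : P.Opens) : Scheme.{u}) ≅ Proj (𝒜.deg U hU)))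
    (hP : RelProj.IsRelProj 𝒜 p chart)
    (r : ((RelProj.domQ u pL chartL : PL.Opens) : Scheme.{u}) ⟶ P)
    (hr : RelProj.IsProjQMapOn u p chart pL chartL (RelProj.domQ u pL chartL) r)
    (himm : IsImmersion r) :
    RelProj.IsRelVeryAmple f L := by
  haveI := ProjQ.isIso_proj hL hLq hjL hPL
  obtain ⟨G⟩ := (SymAlg.PE.Tw.ofAlg 𝒜 h1).nonempty_gens
  have hz : ∀ (U : Y.affineOpens) (e : Γ(G.E, U.1)),
      ∃ m : Γ(L, f ⁻¹ᵁ U.1), el jL (f ⁻¹ᵁ U.1) m = (u.app U.1).hom (jm 𝒜.toQCAlg G.j U.1 e) := fun U e =>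
    exists_el_eq hL hLq hjL (isHom_app u U.2 (G.mem U.1 U.2 e))
  choose m hm using hz
  let dd : ∀ U : Y.affineOpens, Γ(G.E, U.1) →+ Γ((Scheme.Modules.pushforward f).obj L, U.1) := fun U =>
    AddMonoidHom.mk' (fun e => (m U e : Γ(L, f ⁻¹ᵁ U.1))) fun a b => el_injective hL hLq hjL _ (by
      refine (hm U (a + b)).trans (Eq.trans ?_ (el_add jL _ (m U a) (m U b)).symm)
      rw [hm, hm, ← map_add]
      exact congrArg _ (map_add (G.j.app U.1).hom a b))
  obtain ⟨v, hv'⟩ := ArtinFun.HomAffine.exists_hom_of_affine dd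
    (fun U c e => el_injective hL hLq hjL _ (by
      refine (hm U (c • e)).trans (Eq.trans ?_ (el_smul jL _ (f.app U.1 c) (m U e)).symm)
      rw [hm, show jm 𝒜.toQCAlg G.j U.1 (c • e) = (𝒜.str.app (op U.1)).hom c * jm 𝒜.toQCAlg G.j U.1 e from
        Scheme.Modules.Hom.app_smul G.j c e, map_mul]
      exact congrArg (· * _) congr($(u.str_app U.1) c)))
    (fun U V h e => el_injective hL hLq hjL _ (by
      refine Eq.trans ?_ (hm V _).symm
      refine ((rz_el jL (f.preimage_mono h) (m U e)).symm.trans ?_)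
      rw [hm U e]
      refine congr($(u.naturality h) (jm 𝒜.toQCAlg G.j U.1 e)).trans ?_
      exact congrArg _ (PresheafOfModules.naturality_apply G.j.val (homOfLE h).op e).symm))
  have hv : ∀ (U : Y.Opens), IsAffineOpen U → ∀ e : Γ(G.E, U),
      el jL (f ⁻¹ᵁ U) (ev v U e) = (u.app U).hom (jm 𝒜.toQCAlg G.j U e) := fun U hU e =>
    (congrArg (el jL (f ⁻¹ᵁ U)) (hv' ⟨U, hU⟩ e)).trans (hm ⟨U, hU⟩ e)
  have hcov : ∀ x : X, ∃ (U : Y.Opens) (hU : IsAffineOpen U) (e : Γ(G.E, U)),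
      x ∈ locOf u U 1 (jm 𝒜.toQCAlg G.j U e) := fun x => by
    obtain ⟨U, hU, s, hs, V, hV, hVU, hxV, hsub⟩ := hsurj x
    obtain ⟨e, he⟩ := G.surj U hU s hs
    subst he
    exact ⟨U, hU, e, ProjQ.SecAlg.mem_loc.2 ⟨V, hV, hVU, hxV, hsub⟩⟩
  have htop : RelProj.domQ u pL chartL = ⊤ := top_le_iff.1 fun y _ => by
    obtain ⟨U, hU, e, he⟩ := hcov (pL y)
    exact ProjQ.mem_domQ_of_mem_locOf hL hLq hjL hPL hU Nat.one_pos (G.mem U hU e) he
  haveI := ProjQ.isIso_ι htop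
  refine SymAlg.PE.isRelVeryAmple_of_crit G.qcoh v (SymAlg.PE.crit_of_data (fun x => ?_) fun U hU e => ?_)
  · obtain ⟨U, hU, e, he⟩ := hcov x
    refine ⟨U, hU, e, ?_⟩
    rw [← loc_el hL hLq hjL hPL (ev v U e) ((hv U hU e).symm ▸ isHom_app u hU (G.mem U hU e)), hv U hU e]
    exact he
  · exact immOn_ev hL hLq hjL hP hPL hr hv h1 hU (G.mem U hU) (G.surj U hU) e

end Groth.Agent.S12691
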