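import Groth.Statements.S12693
import Groth.Agent.Lib.ProjMor75.KerSec

set_option autoImplicit false
universe u
open CategoryTheory CategoryTheory.Limits AlgebraicGeometry TopologicalSpace Opposite
open scoped HomogeneousIdeal
noncomputable section
open Variety

namespace Groth.Agent.S12693

/-- Let k be a field, X a scheme proper over k, L an ample invertible O_X-module, i : Z → X a closed
immersion and U the open complement of its image. Then there is an integer n₀ such that for every n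
≥ n₀: the subspace V_n of those global sections of L^{⊗n} whose inverse image on Z vanishes
generates the restriction of L^{⊗n} to U, and the canonical k-morphism U → P(V_n) is an immersion —
stated through a basis: for every k-linearly independent family s_0, …, s_r of V_n spanning V_n over
k (scalars acting through k → Γ(X, O_X)), every k-morphism φ from U to projective r-space over k
together with an isomorphism φ^*O(1) ≅ L^{⊗n}|_U carrying the inverse image of the coordinate T_j to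
s_j|_U for each j is an immersion. -/
theorem result {k : Type u} [Field k] {X Z : Scheme.{u}}
    (f : X ⟶ Spec (CommRingCat.of k)) [IsProper f] (L : X.Modules) (hLa : CohB1.IsAmple L)
    (i : Z ⟶ X) [IsClosedImmersion i] (U : X.Opens) (hU : (U : Set X) = (Set.range i.base)ᶜ) :
    ∃ n₀ : ℕ, ∀ n : ℕ, n₀ ≤ n →
      ProjUP.GeneratedBy ((CohB1.tensorPow L n).restrict U.ι)
        (fun v : {s : ProjUP.Γm (CohB1.tensorPow L n) // ProjUP.pullSec i (CohB1.tensorPow L n) s = 0} =>
          ((CohB1.tensorPow L n).restrictAppIso U.ι ⊤).inv (((CohB1.tensorPow L n).presheaf.map (homOfLE le_top).op) v.1)) ∧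
      ∀ (r : ℕ) (s : Fin (r + 1) → ProjUP.Γm (CohB1.tensorPow L n)),
        (∀ j, ProjUP.pullSec i (CohB1.tensorPow L n) (s j) = 0) →
        (∀ c : Fin (r + 1) → k, (∑ j, ProjUP.toGlobal f (c j) • s j) = 0 → c = 0) →
        (∀ v : ProjUP.Γm (CohB1.tensorPow L n), ProjUP.pullSec i (CohB1.tensorPow L n) v = 0 →
          ∃ c : Fin (r + 1) → k, v = ∑ j, ProjUP.toGlobal f (c j) • s j) →
        ∀ (φ : (U : Scheme.{u}) ⟶ CohB1.ProjSpace r k) (_ : φ ≫ CohB1.ProjSpace.toSpec r k = U.ι ≫ f)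
          (τ : (Scheme.Modules.pullback φ).obj (Twist.twistProjSpace r k 1) ≅ (CohB1.tensorPow L n).restrict U.ι)
          (_ : ∀ j, τ.hom.app ⊤ (ProjUP.pullSec φ (Twist.twistProjSpace r k 1) (ProjUP.coord r k j)) =
            ((CohB1.tensorPow L n).restrictAppIso U.ι ⊤).inv (((CohB1.tensorPow L n).presheaf.map (homOfLE le_top).op) (s j))),
          IsImmersion φ := by
  have := (Lib.Ample.Pow.isAmple_iff.1 hLa).2.1
  have : CompactSpace Z := QuasiCompact.compactSpace_of_compactSpace i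
  have : QuasiSeparatedSpace X := quasiSeparatedSpace_of_quasiSeparated f
  have : IsLocallyNoetherian X := LocallyOfFiniteType.isLocallyNoetherian f
  have : IsNoetherian X := {}
  have hUc : IsCompact (U : Set X) := TopologicalSpace.NoetherianSpace.isCompact _
  have hUZ : ∀ z, i z ∉ U := fun z hz => by
    have h1 : i z ∈ (U : Set X) := hz
    rw [hU] at h1
    exact h1 ⟨z, rfl⟩
  choose O hxO hOU hOaff n₁ hn₁ using fun x : U => Lib.ProjMor75.KerSec.eventually_good i f hLa U hUZ x.2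
  obtain ⟨F, hF⟩ := hUc.elim_finite_subcover (fun x : U => (O x : Set X)) (fun x => (O x).isOpen)
    fun x hx => Set.mem_iUnion.2 ⟨⟨x, hx⟩, hxO ⟨x, hx⟩⟩
  refine ⟨F.sup n₁, fun n hn => ?_⟩
  have hM : PicF.IsInvertible (CohB1.tensorPow L n) :=
    Lib.TensorMod.Invertible.isInvertible_tensorPow (Lib.Ample.Pow.isAmple_iff.1 hLa).1 n
  have key : ∀ y : ↥(U : Scheme.{u}), ∃ x ∈ F, U.ι y ∈ O x := fun y => by
    obtain ⟨x, hx, hy⟩ := Set.mem_iUnion₂.1 (hF y.2)
    exact ⟨x, hx, hy⟩
  have hrestr : PicF.IsInvertible ((CohB1.tensorPow L n).restrict U.ι) :=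
    Lib.TensorMod.Gen.isInvertible_iff.2 fun y => by
      obtain ⟨V, e, hyV, -, he⟩ := Lib.ProjMor75.KerSec.exists_frame hM (U.ι y)
      exact ⟨_, _, hyV, Lib.Ample.Restrict.isGen_restrict he U⟩
  refine ⟨Lib.ProjMor.Embed.generatedBy_of_locus _ fun y => ?_, fun r s hs _ hspan φ hφ τ hτ => ?_⟩
  · obtain ⟨x, hx, hy⟩ := key y
    obtain ⟨v, hv, hvl, -⟩ := hn₁ x n ((Finset.le_sup hx).trans hn)
    refine ⟨⟨v, hv⟩, ?_⟩
    change y ∈ Lib.ProjMor.Sec.locus (Lib.ProjMor75.KerSec.rho (CohB1.tensorPow L n) U v)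
    rw [Lib.ProjMor75.KerSec.locus_rho _ U hM, hvl]
    exact hy
  refine Lib.ProjMor75.KerSec.isImmersion (U.ι ≫ f) hrestr
    (fun l => Lib.ProjMor75.KerSec.rho (CohB1.tensorPow L n) U (s l)) φ hφ τ hτ fun y => ?_
  obtain ⟨x, hx, hy⟩ := key y
  obtain ⟨v, hv, hvl, hgen⟩ := hn₁ x n ((Finset.le_sup hx).trans hn)
  obtain ⟨c, hc⟩ := hspan v hv
  have hvc : Lib.ProjMor75.KerSec.comb (U.ι ≫ f) (fun l => Lib.ProjMor75.KerSec.rho (CohB1.tensorPow L n) U (s l)) c =
      Lib.ProjMor75.KerSec.rho (CohB1.tensorPow L n) U v := by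
    rw [← Lib.ProjMor75.KerSec.rho_comb, hc]
  refine ⟨c, ?_⟩
  rw [hvc, Lib.ProjMor75.KerSec.locus_rho _ U hM, hvl]
  have := U.ι.isIso_app (O x) (by rw [Scheme.Opens.opensRange_ι]; exact hOU x)
  refine ⟨hy, (hOaff x).preimage_of_isOpenImmersion U.ι (by rw [Scheme.Opens.opensRange_ι]; exact hOU x), fun z => ?_⟩
  obtain ⟨z, rfl⟩ := (ConcreteCategory.bijective_of_isIso (U.ι.app (O x))).2 z
  refine (Subring.closure_le (t := (Subring.closure _).comap (U.ι.app (O x)).hom)).2 ?_ (hgen z)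
  rintro a (⟨e, rfl⟩ | ⟨w, hw, hwa⟩)
  · refine Subring.subset_closure (Or.inl ⟨e, ?_⟩)
    exact (congr($(U.ι.naturality (homOfLE (le_top : O x ≤ ⊤)).op) (ProjUP.toGlobal f e))).symm
  · obtain ⟨d, hd⟩ := hspan w hw
    refine Subring.subset_closure (Or.inr ⟨d, ?_⟩)
    rw [← Lib.ProjMor75.KerSec.rho_comb]
    rw [show Lib.ProjMor75.KerSec.comb f s d = w from hd.symm, Lib.ProjMor75.KerSec.gl_rho, hwa,
      Lib.ProjMor75.KerSec.resU_smul, Lib.ProjMor75.KerSec.gl_rho]

end Groth.Agent.S12693
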