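import Groth.Statements.S1271
import Groth.Statements.S1271
import Groth.Agent.H20.FittingEtale

set_option autoImplicit false
universe u
open FlatMor

namespace Groth.Agent.S1271

open Groth.Agent.H20.FittingEtale in
theorem aux {A C L : Type u} [CommRing A] [CommRing C] [CommRing L] [Algebra A C] [Algebra A L] [Algebra C L]
    [IsScalarTower A C L] [Module.Finite A C] [Module.Projective A C] [Algebra.EssFiniteType A L]
    [Algebra.FormallyUnramified A L] (h : C) [IsLocalization.Away h L]
    (a : A) (JL : Ideal L) (hJ : JL.FG) (ha : algebraMap A L a ∈ JL.radical) :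
    ∃ (I : Ideal A) (J' : Ideal L), I.FG ∧ a ∈ I.radical ∧ J'.FG ∧ I.map (algebraMap A L) = JL * J' := by
  classical
  obtain ⟨N, hN⟩ := ha
  obtain ⟨s, hs⟩ := hJ
  let cnum : L → C := fun x => (IsLocalization.surj (Submonoid.powers h) x).choose.1
  have hc : ∀ x : L, ∃ u : L, IsUnit u ∧ algebraMap C L (cnum x) = x * u := fun x =>
    ⟨_, IsLocalization.map_units L (IsLocalization.surj (Submonoid.powers h) x).choose.2,
      (IsLocalization.surj (Submonoid.powers h) x).choose_spec.symm⟩
  let J0 : Ideal C := Ideal.span ((↑(s.image cnum) : Set C) ∪ {algebraMap A C a ^ N})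
  have hJ0 : J0.FG := ⟨s.image cnum ∪ {algebraMap A C a ^ N}, by rw [Finset.coe_union, Finset.coe_singleton]⟩
  have hmap : J0.map (algebraMap C L) = JL := by
    rw [Ideal.map_span]
    refine le_antisymm (Ideal.span_le.2 ?_) ?_
    · rintro _ ⟨c, hc' | hc', rfl⟩
      · obtain ⟨x, hx, rfl⟩ := Finset.mem_image.1 hc'
        obtain ⟨u, -, hu⟩ := hc x
        rw [hu]
        exact Ideal.mul_mem_right _ _ (hs ▸ Ideal.subset_span hx)
      · rw [Set.mem_singleton_iff.1 hc', map_pow, ← IsScalarTower.algebraMap_apply]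
        exact hN
    · rw [← hs, Submodule.span_le]
      intro x hx
      obtain ⟨u, hu, hux⟩ := hc x
      have h1 : x * u ∈ Ideal.span (algebraMap C L '' ((↑(s.image cnum) : Set C) ∪ {algebraMap A C a ^ N})) :=
        hux ▸ Ideal.subset_span ⟨_, Or.inl (Finset.mem_image_of_mem _ hx), rfl⟩
      exact (Ideal.mul_unit_mem_iff_mem _ hu).1 h1
  obtain ⟨J', h1, h2⟩ := exists_factor (A := A) (L := L) h J0
  haveI := finitePresentation_quotient (A := A) hJ0
  obtain ⟨n, x, hx⟩ := Module.Finite.exists_fin (R := A) (M := C ⧸ J0)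
  refine ⟨Fitt.ideal A (C ⧸ J0) 0, J', ideal_fg 0, ⟨N * n, ?_⟩, h2 inferInstance, hmap ▸ h1⟩
  rw [pow_mul]
  refine Groth.Agent.H25.Fitting.pow_mem_ideal_zero x hx _ fun m => ?_
  obtain ⟨m, rfl⟩ := Ideal.Quotient.mk_surjective m
  rw [Algebra.smul_def, IsScalarTower.algebraMap_apply A C (C ⧸ J0), Ideal.Quotient.algebraMap_eq, ← map_mul,
    Ideal.Quotient.eq_zero_iff_mem, map_pow]
  exact J0.mul_mem_right _ (Ideal.subset_span (Or.inr rfl))

theorem aux2 {A B L : Type u} [CommRing A] [CommRing B] [CommRing L] [Algebra A B] [Algebra A L]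
    (e : B ≃ₐ[A] L) (a : A) (J : Ideal B) (hJ : J.FG) (ha : algebraMap A B a ∈ J.radical)
    (H : ∀ JL : Ideal L, JL.FG → algebraMap A L a ∈ JL.radical →
      ∃ (I : Ideal A) (J' : Ideal L), I.FG ∧ a ∈ I.radical ∧ J'.FG ∧ I.map (algebraMap A L) = JL * J') :
    ∃ (I : Ideal A) (J' : Ideal B), I.FG ∧ a ∈ I.radical ∧ J'.FG ∧ I.map (algebraMap A B) = J * J' := by
  obtain ⟨I, J', hI, haI, hJ', heq⟩ := H (J.map (e.toAlgHom : B →+* L)) (hJ.map _) (by
    obtain ⟨N, hN⟩ := ha
    refine ⟨N, ?_⟩
    have h1 := Ideal.mem_map_of_mem (e.toAlgHom : B →+* L) hN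
    simpa using h1)
  refine ⟨I, J'.map (e.symm.toAlgHom : L →+* B), hI, haI, hJ'.map _, ?_⟩
  have h2 := congrArg (Ideal.map (e.symm.toAlgHom : L →+* B)) heq
  rw [Ideal.map_mul, Ideal.map_map, Ideal.map_map] at h2
  rw [show (e.symm.toAlgHom : L →+* B).comp (algebraMap A L) = algebraMap A B from RingHom.ext e.symm.commutes,
    show (e.symm.toAlgHom : L →+* B).comp (e.toAlgHom : B →+* L) = RingHom.id B from RingHom.ext e.symm_apply_apply,
    Ideal.map_id] at h2
  exact h2

/-- Let A → B be an étale ring map, a ∈ A a nonzerodivisor and J a finitely generated ideal of B with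
V(J) ⊆ V(aB), i.e. a lies in the radical of J. Then for every prime q of B there exist a finitely
generated ideal I of A with V(I) ⊆ V(a), an element g of B outside q, and a finitely generated ideal
J' of the localization B_g such that the extension of I to B_g equals the product of the extension
of J with J'. -/
theorem result {A B : Type u} [CommRing A] [CommRing B] [Algebra A B] [Algebra.Etale A B]
    (a : A) (ha : a ∈ nonZeroDivisors A) (J : Ideal B) (hJ : J.FG) (hJa : algebraMap A B a ∈ J.radical)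
    (q : Ideal B) [q.IsPrime] :
    ∃ (I : Ideal A) (g : B) (J' : Ideal (Localization.Away g)), I.FG ∧ a ∈ I.radical ∧ g ∉ q ∧ J'.FG ∧
      I.map (algebraMap A (Localization.Away g)) = J.map (algebraMap B (Localization.Away g)) * J' := by
  obtain ⟨g, hg, hstd⟩ := Algebra.IsEtaleAt.exists_isStandardEtale (R := A) q
  obtain ⟨⟨pres⟩⟩ := hstd
  haveI : Module.Free A (AdjoinRoot pres.f) := pres.monic_f.free_adjoinRoot
  haveI : Module.Finite A (AdjoinRoot pres.f) := pres.monic_f.finite_adjoinRoot
  haveI : Algebra.Etale A (Localization.Away g) := Algebra.Etale.comp A B (Localization.Away g)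
  haveI : Algebra.Etale A (Localization.Away (AdjoinRoot.mk pres.f pres.g)) :=
    Algebra.Etale.of_equiv (pres.equivRing.trans pres.P.equivAwayAdjoinRoot)
  obtain ⟨I, J', hI, haI, hJ', heq⟩ := aux2 (pres.equivRing.trans pres.P.equivAwayAdjoinRoot) a
    (J.map (algebraMap B (Localization.Away g))) (hJ.map _)
    (by
      obtain ⟨N, hN⟩ := hJa
      refine ⟨N, ?_⟩
      rw [IsScalarTower.algebraMap_apply A B (Localization.Away g), ← map_pow]
      exact Ideal.mem_map_of_mem _ hN)
    (fun JL h1 h2 => aux (C := AdjoinRoot pres.f) (AdjoinRoot.mk pres.f pres.g) a JL h1 h2)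
  exact ⟨I, g, J', hI, haI, hg, hJ', heq⟩

end Groth.Agent.S1271
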