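import Groth.Statements.S12712
import Groth.Agent.Lib.ArtinFun.FibProd
import Mathlib.Dynamics.Newton

set_option autoImplicit false
universe u v
open CategoryTheory
open ArtFun ArtFun.Art
open Groth.Agent.Lib.ArtinFun

namespace Groth.Agent.S12712

/-- If k is separable over the image of Λ → k, then for any two morphisms f₁ : A₁ → A and f₂ : A₂ → A in
the category of Artinian local Λ-algebras with residue field k the set-theoretic fibre product A₁
×_A A₂ is again an object of the category. -/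
theorem result {Λ : Type u} {k : Type u} [CommRing Λ] [Field k] [Algebra Λ k]
    [IsNoetherianRing Λ] [Module.Finite Λ k]
    [Algebra.IsSeparable (↥(algebraMap Λ k).range) k]
    {A A₁ A₂ : ArtFun.Art Λ k} (f₁ : A₁ ⟶ A) (f₂ : A₂ ⟶ A) :
    ∃ (B : ArtFun.Art Λ k) (p₁ : B ⟶ A₁) (p₂ : B ⟶ A₂), ArtFun.Art.IsFibreProd p₁ p₂ f₁ f₂ := by
  refine exists_isFibreProd_of_residue f₁ f₂ fun c => ?_
  let K := (algebraMap Λ k).range
  let π : Λ →+* K := (algebraMap Λ k).rangeRestrict
  obtain ⟨p, hp⟩ := Polynomial.map_surjective π (algebraMap Λ k).rangeRestrict_surjective (minpoly K c)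
  have hcomp : (algebraMap K k).comp π = algebraMap Λ k := RingHom.ext fun _ => rfl
  have haev : ∀ q : Polynomial Λ, Polynomial.aeval c q = Polynomial.aeval c (q.map π) := fun q => by
    rw [Polynomial.aeval_def, Polynomial.aeval_def, Polynomial.eval₂_map, hcomp]
  have h0 : Polynomial.aeval c p = 0 := by rw [haev, hp, minpoly.aeval]
  have h1 : Polynomial.aeval c p.derivative ≠ 0 := by
    rw [haev, ← Polynomial.derivative_map, hp]
    exact (Algebra.IsSeparable.isSeparable K c).aeval_derivative_ne_zero (minpoly.aeval _ _)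
  have hev : ∀ (B : ArtFun.Art Λ k) (q : Polynomial Λ) (b : B),
      B.res (Polynomial.aeval b q) = Polynomial.aeval (B.res b) q :=
    fun B q b => (Polynomial.aeval_algHom_apply B.res b q).symm
  have hnil : ∀ (B : ArtFun.Art Λ k) (b : B), B.res b = 0 → IsNilpotent b := fun B b hb => by
    obtain ⟨n, hn⟩ := isNilpotent_maximalIdeal B
    exact ⟨n, by simpa [hn] using Ideal.pow_mem_pow ((Art.mem_maximalIdeal_iff _ _).2 hb) n⟩
  have hroot : ∀ B : ArtFun.Art Λ k, ∃ r : B, B.res r = c ∧ Polynomial.aeval r p = 0 ∧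
      ∀ r' : B, B.res r' = c → Polynomial.aeval r' p = 0 → r' = r := by
    intro B
    obtain ⟨x, hx⟩ := B.res_surjective c
    obtain ⟨r, ⟨hr, hr0⟩, huniq⟩ := Polynomial.existsUnique_nilpotent_sub_and_aeval_eq_zero
      (hnil B (Polynomial.aeval x p) (by rw [hev, hx, h0]))
      ((isUnit_iff_res _).2 (by rw [hev, hx]; exact h1))
    refine ⟨r, ?_, hr0, fun r' hr' hr'0 => huniq r' ⟨hnil B _ (by rw [map_sub, hx, hr', sub_self]), hr'0⟩⟩
    have := (hr.map B.res).eq_zero
    rw [map_sub, hx, sub_eq_zero] at this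
    exact this.symm
  obtain ⟨a₁, ha₁, ha₁', -⟩ := hroot A₁
  obtain ⟨a₂, ha₂, ha₂', -⟩ := hroot A₂
  obtain ⟨a, -, -, huniq⟩ := hroot A
  refine ⟨a₁, a₂, ?_, ha₁⟩
  rw [huniq (f₁ a₁) (by rw [Art.res_app, ha₁]) (by rw [Polynomial.aeval_algHom_apply, ha₁', map_zero]),
    huniq (f₂ a₂) (by rw [Art.res_app, ha₂]) (by rw [Polynomial.aeval_algHom_apply, ha₂', map_zero])]

end Groth.Agent.S12712
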