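import Groth.Statements.S12713
import Groth.Agent.Lib.ArtinFun.Versal

set_option autoImplicit false
universe u v
open CategoryTheory
open ArtFun ArtFun.Art
open Groth.Agent.Lib.ArtinFun

namespace Groth.Agent.S12713

/-- A small extension f : B → A in the category of Artinian local Λ-algebras with residue field k is not
an essential surjection (some morphism g : C → B is non-surjective although the composite C → A is
surjective) if and only if f has a section A → B in the category. -/
theorem result {Λ : Type u} {k : Type u} [CommRing Λ] [Field k] [Algebra Λ k]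
    [IsNoetherianRing Λ] [Module.Finite Λ k]
    {A B : ArtFun.Art Λ k} (f : B ⟶ A) (hf : ArtFun.Art.IsSmallExt f) :
    (∃ (C : ArtFun.Art Λ k) (g : C ⟶ B), Function.Surjective (g ≫ f) ∧ ¬ Function.Surjective g) ↔
      ∃ s : A ⟶ B, s ≫ f = 𝟙 A := by
  constructor
  · rintro ⟨C, g, hgf, hg⟩
    obtain ⟨t, hker, _, _, hmt⟩ := IsSmallExt.exists_generator hf
    have key : ∀ x : C, (g ≫ f) x = 0 → g x = 0 := by
      intro x hx
      by_contra hne
      have hmem : g x ∈ Ideal.span {t} := hker ▸ (mem_ker f (g x)).2 hx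
      obtain ⟨b, hb⟩ := Ideal.mem_span_singleton'.1 hmem
      have hbr : B.res b ≠ 0 := fun h0 =>
        hne (hb ▸ hmt b ((Art.mem_maximalIdeal_iff _ _).2 h0))
      refine hg fun y => ?_
      obtain ⟨c₀, hc₀⟩ := hgf (f y)
      have hmem' : y - g c₀ ∈ Ideal.span {t} := hker ▸ (mem_ker f _).2 (by
        rw [map_sub]; exact sub_eq_zero.2 hc₀.symm)
      obtain ⟨b', hb'⟩ := Ideal.mem_span_singleton'.1 hmem'
      obtain ⟨c, hc⟩ := C.res_surjective (B.res b' / B.res b)
      have h0 : (g c * b - b') * t = 0 := hmt _ ((Art.mem_maximalIdeal_iff _ _).2 (by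
        rw [map_sub, map_mul, Art.res_app, hc, div_mul_cancel₀ _ hbr, sub_self]))
      refine ⟨c₀ + c * x, ?_⟩
      rw [map_add, map_mul, ← hb]
      linear_combination h0 + hb'
    obtain ⟨s, hs⟩ := exists_hom_of_ker_le (C := A) (D := B)
      (⟨(g ≫ f).toAlgHom, (g ≫ f).res_comp⟩ : HomSet C C.res A) hgf ⟨g.toAlgHom, g.res_comp⟩ key
    refine ⟨s, hom_ext_apply fun a => ?_⟩
    obtain ⟨x, rfl⟩ := hgf a
    rw [hom_comp_apply]
    exact congrArg f (AlgHom.congr_fun (congrArg Subtype.val hs) x)
  · rintro ⟨s, hs⟩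
    refine ⟨A, s, fun a => ⟨a, hom_congr_apply hs a⟩, fun hsurj => ?_⟩
    obtain ⟨t, -, ht0, hft, -⟩ := IsSmallExt.exists_generator hf
    obtain ⟨a, rfl⟩ := hsurj t
    have : a = 0 := by
      have h1 := hom_congr_apply hs a
      rw [hom_comp_apply, hft] at h1
      exact h1.symm
    exact ht0 (by rw [this, map_zero])

end Groth.Agent.S12713
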