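import Groth.Statements.S12733
import Groth.Agent.Lib.ArtinFun.HR

set_option autoImplicit false
universe u v
open CategoryTheory
open ArtFun

namespace Groth.Agent.S12733

/-- Let F, G be deformation functors on Artinian local Λ-algebras with residue field k (value at k a
point, and condition (RS): the comparison map for A₁ ×_A A₂ is bijective whenever A₂ → A is
surjective). A smooth morphism φ : F → G inducing a bijection on tangent spaces is an isomorphism:
every φ_A is bijective. -/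
theorem result {Λ : Type u} {k : Type u} [CommRing Λ] [Field k] [Algebra Λ k]
    [IsNoetherianRing Λ] [Module.Finite Λ k]
    {F G : ArtFun.Art Λ k ⥤ Type v}
    (hF0 : ArtFun.H0 F) (hF : (∀ ⦃B A A' A'' : ArtFun.Art Λ k⦄ (p' : B ⟶ A') (p'' : B ⟶ A'') (f' : A' ⟶ A) (f'' : A'' ⟶ A)
        (h : ArtFun.Art.IsFibreProd p' p'' f' f''), Function.Surjective f'' → Function.Bijective (ArtFun.cmp F h)))
    (hG0 : ArtFun.H0 G) (hG : (∀ ⦃B A A' A'' : ArtFun.Art Λ k⦄ (p' : B ⟶ A') (p'' : B ⟶ A'') (f' : A' ⟶ A) (f'' : A'' ⟶ A)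
        (h : ArtFun.Art.IsFibreProd p' p'' f' f''), Function.Surjective f'' → Function.Bijective (ArtFun.cmp G h)))
    (φ : F ⟶ G) (hφ : ArtFun.IsSmooth φ) (hd : Function.Bijective (ArtFun.TangentSpace.map φ))
    (A : ArtFun.Art Λ k) : Function.Bijective (φ.app A) := by
  refine ⟨Groth.Agent.Lib.ArtinFun.injective_of_tangent_injective (fun A => φ.app A)
      (Groth.Agent.Lib.ArtinFun.isNatMap_natTrans φ)
      (fun _ _ _ p₁ p₂ f h hf => (hF p₁ p₂ f f h hf.1).2)
      (fun _ _ p' p'' h => (Groth.Agent.Lib.ArtinFun.RS.heps hF p' p'' h).1)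
      (fun _ _ _ p₁ p₂ f h hf => (hG p₁ p₂ f f h hf.1).1)
      (fun a b _ => @Subsingleton.elim _ hF0.2 a b) hd.1 A, ?_⟩
  exact Groth.Agent.Lib.ArtinFun.surjective_app_of_isSmooth φ hφ
    (fun y => ⟨hF0.1.some, @Subsingleton.elim _ hG0.2 _ _⟩) A

end Groth.Agent.S12733
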