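import Groth.Statements.S12754


set_option autoImplicit false
universe u
open CategoryTheory
open ArtFun

namespace Groth.Agent.S12754

/-- A K-linear functor L from finite-dimensional K-vector spaces to K-vector spaces (K a field) is
isomorphic to the functor V ↦ L(K) ⊗_K V. (Existence of an isomorphism of functors, which is how the
published statement reads; the natural choice sends x ⊗ v to L(f_v)(x) with f_v : K → V, 1 ↦ v.) -/
theorem result (K : Type u) [Field K]
    (L : FGModuleCat.{u} K ⥤ ModuleCat.{u} K) [L.Additive] [Functor.Linear K L] :
    Nonempty (L ≅ (ModuleCat.isFG.{u} K).ι ⋙ MonoidalCategory.tensorLeft (L.obj (FGModuleCat.of K K))) := by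
  classical
  let P := FGModuleCat.of K K
  let f : ∀ (V : FGModuleCat.{u} K), V.obj → (P ⟶ V) := fun V v =>
    ObjectProperty.homMk (ModuleCat.ofHom (LinearMap.toSpanSingleton K V.obj v))
  have hLadd : ∀ {V W : FGModuleCat.{u} K} (g h : V ⟶ W), L.map (g + h) = L.map g + L.map h :=
    fun g h => L.map_add
  let β : ∀ (V : FGModuleCat.{u} K), L.obj P →ₗ[K] V.obj →ₗ[K] L.obj V := fun V =>
    LinearMap.flip
      { toFun := fun v => (L.map (f V v)).hom
        map_add' := fun v w => by
          rw [← ModuleCat.hom_add, ← hLadd]
          congr 2
          apply FGModuleCat.hom_ext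
          refine LinearMap.ext fun c => ?_
          exact smul_add c v w
        map_smul' := fun r v => by
          rw [RingHom.id_apply, ← ModuleCat.hom_smul, ← L.map_smul]
          congr 2
          apply FGModuleCat.hom_ext
          refine LinearMap.ext fun c => ?_
          exact smul_comm c r v }
  let α : ∀ (V : FGModuleCat.{u} K), TensorProduct K (L.obj P) V.obj →ₗ[K] L.obj V :=
    fun V => TensorProduct.lift (β V)
  have hα : ∀ V x v, α V (TensorProduct.tmul K x v) = (L.map (f V v)).hom x := fun _ _ _ => rfl
  have hbij : ∀ V, Function.Bijective (α V) := by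
    intro V
    let b := Module.finBasis K V.obj
    let co : ∀ i, (V ⟶ P) := fun i => ObjectProperty.homMk (ModuleCat.ofHom (b.coord i))
    have hid : 𝟙 V = ∑ i, co i ≫ f V (b i) := by
      apply FGModuleCat.hom_ext
      refine LinearMap.ext fun v => ?_
      change v = _
      rw [show (∑ i, co i ≫ f V (b i)).hom = ∑ i, (co i ≫ f V (b i)).hom from (ModuleCat.isFG.{u} K).ι.map_sum _ _, ModuleCat.hom_sum, LinearMap.sum_apply]
      exact (b.sum_repr v).symm
    let inv : L.obj V →ₗ[K] TensorProduct K (L.obj P) V.obj :=
      ∑ i, ((TensorProduct.mk K (L.obj P) V.obj).flip (b i)).comp (L.map (co i)).hom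
    have hinv : ∀ y, inv y = ∑ i, TensorProduct.tmul K ((L.map (co i)).hom y) (b i) := fun y => by
      simp [inv]
    refine Function.bijective_iff_has_inverse.2 ⟨inv, fun z => ?_, fun y => ?_⟩
    · induction z using TensorProduct.induction_on with
      | zero => rw [map_zero, map_zero]
      | add z w hz hw => rw [map_add, map_add, hz, hw]
      | tmul x v =>
        rw [hα, hinv]
        have he : ∀ i, (L.map (co i)).hom ((L.map (f V v)).hom x) = b.repr v i • x := fun i => by
          have e : f V v ≫ co i = b.repr v i • 𝟙 P := by
            apply FGModuleCat.hom_ext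
            refine LinearMap.ext fun c => ?_
            change b.coord i (c • v) = b.repr v i • c
            rw [map_smul, smul_eq_mul, smul_eq_mul, mul_comm]
            rfl
          have e2 := congrArg (fun g => (L.map g).hom x) e
          simp only [L.map_comp, L.map_smul, L.map_id] at e2
          exact e2
        simp only [he, TensorProduct.smul_tmul]
        rw [← TensorProduct.tmul_sum, b.sum_repr]
    · rw [hinv, map_sum]
      simp only [hα]
      have e := congrArg (fun g => (L.map g).hom y) hid
      simp only [L.map_id, L.map_sum, L.map_comp, ModuleCat.hom_sum, LinearMap.sum_apply] at e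
      exact e.symm
  refine ⟨(NatIso.ofComponents (fun V => (LinearEquiv.ofBijective (α V) (hbij V)).toModuleIso) ?_).symm⟩
  intro V W g
  apply ModuleCat.hom_ext
  refine TensorProduct.ext' fun x v => ?_
  change α W (TensorProduct.tmul K x (g.hom.hom v)) = (L.map g).hom (α V (TensorProduct.tmul K x v))
  rw [hα, hα]
  have e : f V v ≫ g = f W (g.hom.hom v) := by
    apply FGModuleCat.hom_ext
    refine LinearMap.ext fun c => ?_
    exact map_smul g.hom.hom c v
  rw [← e, L.map_comp]
  rfl

end Groth.Agent.S12754
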