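import Groth.Statements.S1276
import Groth.Agent.H22.SupportBC
import Groth.Agent.Lib.FlatCA.Impurity

set_option autoImplicit false
universe u
open FlatMor

namespace Groth.Agent.S1276

/-- Let B be a finite type A-algebra, N a finite B-module and p a prime of A. Then there is a finitely
generated ideal J of B annihilating N (so N is a module on the finitely presented closed subscheme
V(J) of Spec B) such that a point of the fibre Spec(κ(p) ⊗ B) lies in V(J) if and only if it lies in
the support of the fibre module of N. -/
theorem result {A B : Type u} [CommRing A] [CommRing B] [Algebra A B] [Algebra.FiniteType A B]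
    (N : Type u) [AddCommGroup N] [Module B N] [Module A N] [IsScalarTower A B N] [Module.Finite B N] (p : Ideal A) [p.IsPrime] :
    ∃ J : Ideal B, J.FG ∧ J ≤ Module.annihilator B N ∧
      ∀ x : PrimeSpectrum (p.Fiber B), FlatCA.fiberIdeal p J ≤ x.asIdeal ↔ x ∈ Module.support (p.Fiber B) (FlatCA.fiberMod p B N) := by
  classical
  haveI : Algebra.FiniteType p.ResidueField (p.Fiber B) := inferInstance
  haveI : IsNoetherianRing (p.Fiber B) := Algebra.FiniteType.isNoetherianRing p.ResidueField _
  let φ := (Algebra.TensorProduct.includeRight (R := A) (A := p.ResidueField) (B := B)).toRingHom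
  obtain ⟨s, hs, hspan⟩ := (Submodule.fg_span_iff_fg_span_finset_subset
    (φ '' (Module.annihilator B N : Set B))).1
      (show (Submodule.span (p.Fiber B) (φ '' (Module.annihilator B N : Set B))).FG from IsNoetherian.noetherian _)
  obtain ⟨t, ht, rfl⟩ := Finset.subset_set_image_iff.1 hs
  have key : FlatCA.fiberIdeal p (Ideal.span (t : Set B)) = FlatCA.fiberIdeal p (Module.annihilator B N) := by
    refine (Ideal.map_span _ _).trans ?_
    rw [Finset.coe_image] at hspan
    exact hspan.symm
  refine ⟨Ideal.span t, ⟨t, rfl⟩, Ideal.span_le.2 ht, fun x => ?_⟩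
  rw [key]
  letI := (Algebra.TensorProduct.rightAlgebra : Algebra B (p.Fiber B))
  show _ ↔ x ∈ Module.support (p.Fiber B) (TensorProduct B (p.Fiber B) N)
  rw [H22.SupportBC.support_baseChange, Set.mem_preimage, Module.mem_support_iff_of_finite]
  exact Ideal.map_le_iff_le_comap

end Groth.Agent.S1276
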