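import Groth.Statements.S1277
import Groth.Agent.Lib.FlatCA.LocalDescent
-- import your own Groth.Agent.* helpers here

set_option autoImplicit false
universe u
open FlatMor

namespace Groth.Agent.S1277

open IsLocalRing in
/-- Let A be a local ring, A → B a local homomorphism of local rings, B → C a flat local homomorphism of
local rings, M a B-module and N = M ⊗_B C. For every local homomorphism of local rings A → A', with
base changes B' = B ⊗_A A', M', C' = C ⊗_A A', N' (any models): M' is flat over A' at every prime of
B' containing 𝔪_{A'}B' + 𝔪_B B' if and only if N' is flat over A' at every prime of C' containing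
𝔪_{A'}C' + 𝔪_C C'. -/
theorem result {A B C : Type u} [CommRing A] [IsLocalRing A] [CommRing B] [IsLocalRing B] [CommRing C] [IsLocalRing C]
    [Algebra A B] [IsLocalHom (algebraMap A B)] [Algebra B C] [IsLocalHom (algebraMap B C)] [Algebra A C] [IsScalarTower A B C] [Module.Flat B C]
    (M : Type u) [AddCommGroup M] [Module B M] (N : Type u) [AddCommGroup N] [Module C N] [Module B N] [IsScalarTower B C N]
    (g : M →ₗ[B] N) (hg : IsBaseChange C g)
    (A' : Type u) [CommRing A'] [IsLocalRing A'] [Algebra A A'] [IsLocalHom (algebraMap A A')]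
    (B' M' : Type u) [CommRing B'] [Algebra B B'] [Algebra A' B'] [Algebra A B'] [IsScalarTower A B B'] [IsScalarTower A A' B']
        [Algebra.IsPushout A B A' B']
        [AddCommGroup M'] [Module B' M'] [Module B M'] [IsScalarTower B B' M'] [Module A' M'] [IsScalarTower A' B' M']
        (fB : M →ₗ[B] M') (hfB : IsBaseChange B' fB)
    (C' N' : Type u) [CommRing C'] [Algebra C C'] [Algebra A' C'] [Algebra A C'] [IsScalarTower A C C'] [IsScalarTower A A' C']
        [Algebra.IsPushout A C A' C']
        [AddCommGroup N'] [Module C' N'] [Module C N'] [IsScalarTower C C' N'] [Module A' N'] [IsScalarTower A' C' N']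
        (fC : N →ₗ[C] N') (hfC : IsBaseChange C' fC) :
    FlatCA.FlatAboveClosedPoints B A' B' M' ↔ FlatCA.FlatAboveClosedPoints C A' C' N' := by
  -- the map `B' → C'`
  let ψ : B' →ₐ[A] C' := Algebra.pushoutDesc (R := A) (S := B) (R' := A') B'
    ((IsScalarTower.toAlgHom A C C').comp (IsScalarTower.toAlgHom A B C)) (IsScalarTower.toAlgHom A A' C') fun _ _ => mul_comm _ _
  letI : Algebra B' C' := ψ.toRingHom.toAlgebra
  letI : Algebra B C' := ((algebraMap C C').comp (algebraMap B C)).toAlgebra
  haveI : IsScalarTower B C C' := IsScalarTower.of_algebraMap_eq fun _ => rfl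
  haveI : IsScalarTower B B' C' := IsScalarTower.of_algebraMap_eq fun b => by
    show ((IsScalarTower.toAlgHom A C C').comp (IsScalarTower.toAlgHom A B C)) b = ψ (algebraMap B B' b)
    exact (Algebra.pushoutDesc_left (R := A) (S := B) (R' := A') B' _ _ _ b).symm
  haveI : IsScalarTower A' B' C' := IsScalarTower.of_algebraMap_eq fun a => by
    show (IsScalarTower.toAlgHom A A' C') a = ψ (algebraMap A' B' a)
    exact (Algebra.pushoutDesc_right (R := A) (S := B) (R' := A') B' _ _ _ a).symm
  haveI : IsScalarTower A B C' := IsScalarTower.of_algebraMap_eq fun a => by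
    rw [IsScalarTower.algebraMap_apply B C C', ← IsScalarTower.algebraMap_apply A B C, ← IsScalarTower.algebraMap_apply]
  haveI : IsScalarTower A B' C' := IsScalarTower.of_algebraMap_eq fun a => (ψ.commutes a).symm
  haveI hpush : Algebra.IsPushout B B' C C' := by
    have h : Algebra.IsPushout B C B' C' :=
      (Algebra.IsPushout.comp_iff (R := A) (S := B) (T := C) (R' := A') (S' := B') (T' := C')).1 inferInstance
    exact h.symm
  haveI : Module.Flat B' C' := Module.Flat.isBaseChange B B' C C' hpush.out
  -- the map `M' → N'`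
  letI : Module B' N' := Module.compHom N' (algebraMap B' C')
  haveI : IsScalarTower B' C' N' := IsScalarTower.of_algebraMap_smul fun _ _ => rfl
  letI : Module B N' := Module.compHom N' (algebraMap B C')
  haveI : IsScalarTower B C' N' := IsScalarTower.of_algebraMap_smul fun _ _ => rfl
  haveI : IsScalarTower B C N' := IsScalarTower.of_algebraMap_smul fun b x => by
    show (algebraMap B C b) • x = (algebraMap B C') b • x
    rw [← algebraMap_smul C', ← IsScalarTower.algebraMap_apply]
  haveI : IsScalarTower B B' N' := IsScalarTower.of_algebraMap_smul fun b x => by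
    show algebraMap B' C' (algebraMap B B' b) • x = algebraMap B C' b • x
    rw [← IsScalarTower.algebraMap_apply]
  let h : M →ₗ[B] N' := (fC.restrictScalars B).comp g
  have hh : IsBaseChange C' h := IsBaseChange.comp hg hfC
  let g' : M' →ₗ[B'] N' := hfB.lift h
  have hg' : IsBaseChange C' g' := IsBaseChange.of_comp (f := fB) hfB (by
    rw [hfB.lift_comp h]
    exact hh)
  constructor
  · intro hM Q _ hQ
    refine (Groth.Agent.Lib.FlatCA.LocalDescent.flatAt_iff (R := A') g' hg' Q).2 (hM _ (sup_le ?_ ?_))
    · rw [Ideal.map_le_iff_le_comap, Ideal.comap_comap, ← IsScalarTower.algebraMap_eq]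
      exact Ideal.map_le_iff_le_comap.1 (le_sup_left.trans hQ)
    · rw [Ideal.map_le_iff_le_comap, Ideal.comap_comap, ← IsScalarTower.algebraMap_eq,
        IsScalarTower.algebraMap_eq B C C', ← Ideal.comap_comap, ← Ideal.map_le_iff_le_comap]
      exact (IsLocalRing.map_maximalIdeal_le _).trans (Ideal.map_le_iff_le_comap.1 (le_sup_right.trans hQ))
  · intro hN q _ hq
    have hqB : q.comap (algebraMap B B') = IsLocalRing.maximalIdeal B :=
      le_antisymm (IsLocalRing.le_maximalIdeal (Ideal.IsPrime.comap _).ne_top)
        (Ideal.map_le_iff_le_comap.1 (le_sup_right.trans hq))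
    obtain ⟨Q, _, hQ₁, hQ₂⟩ := Groth.Agent.Lib.FlatCA.LocalDescent.exists_prime_pushout hpush q
      (IsLocalRing.maximalIdeal C) (by rw [hqB, IsLocalRing.maximalIdeal_comap])
    subst hQ₁
    refine (Groth.Agent.Lib.FlatCA.LocalDescent.flatAt_iff (R := A') g' hg' Q).1 (hN Q (sup_le ?_ ?_))
    · rw [IsScalarTower.algebraMap_eq A' B' C', ← Ideal.map_map]
      exact Ideal.map_le_iff_le_comap.2 (le_sup_left.trans hq)
    · exact Ideal.map_le_iff_le_comap.2 hQ₂.ge

end Groth.Agent.S1277
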