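import Groth.Statements.S12773
import Groth.Agent.Lib.AlgStack.Bootstrap

set_option autoImplicit false
open CategoryTheory AlgebraicGeometry
universe u
open AlgSt

namespace Groth.Agent.S12773

/-- Let `f : 𝒳 ⟶ 𝒴` be a 1-morphism of algebraic stacks over `S`, `V` a scheme over `S` and `y : (Sch/V)
⟶ 𝒴` surjective and smooth. Then there are a scheme `U` over `S`, a morphism `a : U ⟶ V` and a
surjective smooth `x : (Sch/U) ⟶ 𝒳` such that the square 2-commutes: `f ∘ x ≅ y ∘ a`. -/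
theorem result {S : Scheme.{u}} {𝒳 𝒴 : AlgSt.Cat S}
    (h𝒳 : AlgSt.IsAlgStack Scheme.fppfPrecoverage 𝒳) (h𝒴 : AlgSt.IsAlgStack Scheme.fppfPrecoverage 𝒴)
    (f : 𝒳 ⥤ᵇ 𝒴) (V : Over S) (y : FibCat.overCat V ⥤ᵇ 𝒴)
    (hy : AlgSt.RepByAlgSpWith (AlgSp.LocP @Smooth) y) (hy' : AlgSt.RepByAlgSpWith AlgSp.IsSurjectiveMor y) :
    ∃ (U : Over S) (a : U ⟶ V) (x : FibCat.overCat U ⥤ᵇ 𝒳),
      AlgSt.RepByAlgSpWith (AlgSp.LocP @Smooth) x ∧ AlgSt.RepByAlgSpWith AlgSp.IsSurjectiveMor x ∧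
        Nonempty (BasedFunctor.comp x f ≅ BasedFunctor.comp (AlgSt.overMap a) y) := by
  have hV : AlgSt.IsAlgStack Scheme.fppfPrecoverage (FibCat.overCat V) :=
    Groth.Agent.Lib.AlgStack.IsAlg.isAlgStack_of_isEquivOver (Groth.Agent.Lib.AlgStack.Rep.isEquivOver_toOverCat V)
      (Groth.Agent.Lib.AlgStack.IsAlg.isAlgStack_ofSp ((AlgSp.ofScheme S).obj V))
  have hfp : AlgSt.IsAlgStack Scheme.fppfPrecoverage (FibCat.fp y f) :=
    Groth.Agent.Lib.AlgStack.IsAlgFp.isAlgStack_fp h𝒴.isStack h𝒴.diag hV h𝒳 y f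
  obtain ⟨U, x, h1, h2⟩ := hfp.atlas
  let m := BasedFunctor.comp x (FibCat.fpFst y f)
  obtain ⟨a, ha⟩ := (AlgSp.yon S).map_surjective
    (Groth.Agent.Lib.AlgStack.SpMapProp.ofPoint (BasedFunctor.comp m (AlgSt.ofOverCat V)))
  have e₀ := Groth.Agent.Lib.AlgStack.BasedBasic.isoWhiskerRight (Groth.Agent.Lib.AlgStack.SpMapProp.isoOfPoint (BasedFunctor.comp m (AlgSt.ofOverCat V)))
    (AlgSt.toOverCat V)
  rw [← ha] at e₀
  have e : m ≅ AlgSt.overMap a := eqToIso (by rfl) ≪≫ e₀ ≪≫ eqToIso (by rfl)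
  exact ⟨U, a, BasedFunctor.comp x (FibCat.fpSnd y f),
    Groth.Agent.Lib.AlgStack.IsAlgFp.comp_locP Lib.SourceDescent.Scheme.smooth (Groth.Agent.Lib.AlgStack.Yoneda.isFibGrpd_overCat U) hfp.isStack.1 h1
      (Groth.Agent.Lib.AlgStack.RepOver.repByAlgSpWith_fpSnd f hy),
    Groth.Agent.Lib.AlgStack.IsAlgFp.comp_surjective (Groth.Agent.Lib.AlgStack.Yoneda.isFibGrpd_overCat U) hfp.isStack.1 h2
      (Groth.Agent.Lib.AlgStack.RepOver.repByAlgSpWith_fpSnd f hy'),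
    ⟨Groth.Agent.Lib.AlgStack.BasedBasic.isoWhiskerLeft x (FibCat.fpIso y f).symm ≪≫ Groth.Agent.Lib.AlgStack.BasedBasic.isoWhiskerRight e y⟩⟩

end Groth.Agent.S12773
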