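import Groth.Statements.S1278
import Groth.Agent.Lib.FlatCA.LocalDescent
-- import your own Groth.Agent.* helpers here

set_option autoImplicit false
universe u
open FlatMor

namespace Groth.Agent.S1278

open IsLocalRing in
/-- Let A be a local ring and B → C a finite local homomorphism of local A-algebras (A → B local), and N
a C-module, viewed also as a B-module. For every local homomorphism of local rings A → A', with base
changes B', C' of B, C and base changes M' (of N over B') and N' (of N over C'): M' is flat over A'
at every prime of B' containing 𝔪_{A'}B' + 𝔪_B B' if and only if N' is flat over A' at every prime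
of C' containing 𝔪_{A'}C' + 𝔪_C C'. -/
theorem result {A B C : Type u} [CommRing A] [IsLocalRing A] [CommRing B] [IsLocalRing B] [CommRing C] [IsLocalRing C]
    [Algebra A B] [IsLocalHom (algebraMap A B)] [Algebra B C] [IsLocalHom (algebraMap B C)] [Algebra A C] [IsScalarTower A B C] [Module.Finite B C]
    (N : Type u) [AddCommGroup N] [Module C N] [Module B N] [IsScalarTower B C N]
    (A' : Type u) [CommRing A'] [IsLocalRing A'] [Algebra A A'] [IsLocalHom (algebraMap A A')]
    (B' M' : Type u) [CommRing B'] [Algebra B B'] [Algebra A' B'] [Algebra A B'] [IsScalarTower A B B'] [IsScalarTower A A' B']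
        [Algebra.IsPushout A B A' B']
        [AddCommGroup M'] [Module B' M'] [Module B M'] [IsScalarTower B B' M'] [Module A' M'] [IsScalarTower A' B' M']
        (fB : N →ₗ[B] M') (hfB : IsBaseChange B' fB)
    (C' N' : Type u) [CommRing C'] [Algebra C C'] [Algebra A' C'] [Algebra A C'] [IsScalarTower A C C'] [IsScalarTower A A' C']
        [Algebra.IsPushout A C A' C']
        [AddCommGroup N'] [Module C' N'] [Module C N'] [IsScalarTower C C' N'] [Module A' N'] [IsScalarTower A' C' N']
        (fC : N →ₗ[C] N') (hfC : IsBaseChange C' fC) :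
    FlatCA.FlatAboveClosedPoints B A' B' M' ↔ FlatCA.FlatAboveClosedPoints C A' C' N' := by
  -- the map `B' → C'`
  let ψ : B' →ₐ[A] C' := Algebra.pushoutDesc (R := A) (S := B) (R' := A') B'
    ((IsScalarTower.toAlgHom A C C').comp (IsScalarTower.toAlgHom A B C)) (IsScalarTower.toAlgHom A A' C') fun _ _ => mul_comm _ _
  letI : Algebra B' C' := ψ.toRingHom.toAlgebra
  letI : Algebra B C' := ((algebraMap C C').comp (algebraMap B C)).toAlgebra
  haveI : IsScalarTower B C C' := IsScalarTower.of_algebraMap_eq fun _ => rfl
  haveI : IsScalarTower B B' C' := IsScalarTower.of_algebraMap_eq fun b => by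
    show ((IsScalarTower.toAlgHom A C C').comp (IsScalarTower.toAlgHom A B C)) b = ψ (algebraMap B B' b)
    exact (Algebra.pushoutDesc_left (R := A) (S := B) (R' := A') B' _ _ _ b).symm
  haveI : IsScalarTower A' B' C' := IsScalarTower.of_algebraMap_eq fun a => by
    show (IsScalarTower.toAlgHom A A' C') a = ψ (algebraMap A' B' a)
    exact (Algebra.pushoutDesc_right (R := A) (S := B) (R' := A') B' _ _ _ a).symm
  haveI : IsScalarTower A B C' := IsScalarTower.of_algebraMap_eq fun a => by
    rw [IsScalarTower.algebraMap_apply B C C', ← IsScalarTower.algebraMap_apply A B C, ← IsScalarTower.algebraMap_apply]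
  haveI : IsScalarTower A B' C' := IsScalarTower.of_algebraMap_eq fun a => (ψ.commutes a).symm
  haveI hpush : Algebra.IsPushout B B' C C' := by
    have h : Algebra.IsPushout B C B' C' :=
      (Algebra.IsPushout.comp_iff (R := A) (S := B) (T := C) (R' := A') (S' := B') (T' := C')).1 inferInstance
    exact h.symm
  haveI : Module.Finite B' C' := (RingHom.finite_algebraMap (A := B') (B := C')).1 (by
    have : Module.Finite B' (TensorProduct B B' C) := inferInstance
    exact RingHom.finite_algebraMap.2 (Module.Finite.equiv hpush.out.equiv))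
  haveI : Algebra.IsIntegral B' C' := Algebra.IsIntegral.of_finite B' C'
  letI : Module A N := Module.compHom N (algebraMap A B)
  haveI : IsScalarTower A B N := IsScalarTower.of_algebraMap_smul fun _ _ => rfl
  haveI : IsScalarTower A C N := IsScalarTower.of_algebraMap_smul fun a x => by
    show algebraMap A C a • x = algebraMap A B a • x
    rw [IsScalarTower.algebraMap_apply A B C, algebraMap_smul]
  letI : Module B' N' := Module.compHom N' (algebraMap B' C')
  haveI : IsScalarTower B' C' N' := IsScalarTower.of_algebraMap_smul fun _ _ => rfl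
  letI : Module B N' := Module.compHom N' (algebraMap B C')
  haveI : IsScalarTower B C' N' := IsScalarTower.of_algebraMap_smul fun _ _ => rfl
  haveI : IsScalarTower B C N' := IsScalarTower.of_algebraMap_smul fun b x => by
    show (algebraMap B C b) • x = (algebraMap B C') b • x
    rw [← algebraMap_smul C', ← IsScalarTower.algebraMap_apply]
  haveI : IsScalarTower B B' N' := IsScalarTower.of_algebraMap_smul fun b x => by
    show algebraMap B' C' (algebraMap B B' b) • x = algebraMap B C' b • x
    rw [← IsScalarTower.algebraMap_apply]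
  haveI : IsScalarTower A' B' N' := IsScalarTower.of_algebraMap_smul fun a x => by
    show algebraMap B' C' (algebraMap A' B' a) • x = a • x
    rw [← IsScalarTower.algebraMap_apply, algebraMap_smul]
  let Φ : M' →ₗ[B'] N' := hfB.lift (fC.restrictScalars B)
  have hΦ : Function.Bijective Φ := by
    let EM := Groth.Agent.Lib.FlatCA.Impurity.baseChangeEquiv (A := A) (B := B) (A' := A') (B' := B') inferInstance fB hfB
    let EN := Groth.Agent.Lib.FlatCA.Impurity.baseChangeEquiv (A := A) (B := C) (A' := A') (B' := C') inferInstance fC hfC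
    have hG : ∀ w, Φ (EM.symm w) = EN.symm w := fun w => by
      induction w using TensorProduct.induction_on with
      | zero => simp
      | add a b ha hb => simp only [map_add, ha, hb]
      | tmul r y =>
        rw [show r ⊗ₜ[A] y = r • ((1 : A') ⊗ₜ[A] y) by rw [TensorProduct.smul_tmul', smul_eq_mul, mul_one],
          map_smul EM.symm, map_smul EN.symm, LinearMap.map_smul_of_tower]
        congr 1
        rw [Groth.Agent.Lib.FlatCA.CompleteFlatten.baseChangeEquiv_symm_one_tmul,
          Groth.Agent.Lib.FlatCA.CompleteFlatten.baseChangeEquiv_symm_one_tmul]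
        exact hfB.lift_eq _ y
    rw [show (Φ : M' → N') = EN.symm ∘ EM from funext fun z => by simpa using hG (EM z)]
    exact EN.symm.bijective.comp EM.bijective
  let Φe := LinearEquiv.ofBijective Φ hΦ
  have hker : ∀ q : Ideal B', ∀ [q.IsPrime], Module.Flat A' (LocalizedModule q.primeCompl M') ↔
      ∀ (J : Ideal A') (y : TensorProduct A' N' J), J.subtype.lTensor N' y = 0 → ∃ s ∈ q.primeCompl, s • y = 0 :=
    fun q _ => by
    haveI : IsLocalizedModule q.primeCompl
        ((LocalizedModule.mkLinearMap q.primeCompl M').comp Φe.symm.toLinearMap) :=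
      IsLocalizedModule.of_linearEquiv_right _ _ _
    exact Groth.Agent.H19.FlatLocus.flat_iff_killed q.primeCompl
      ((LocalizedModule.mkLinearMap q.primeCompl M').comp Φe.symm.toLinearMap)
  have hN' : ∀ Q : Ideal C', ∀ [Q.IsPrime], Module.Flat A' (LocalizedModule Q.primeCompl N') ↔
      ∀ (J : Ideal A') (y : TensorProduct A' N' J), J.subtype.lTensor N' y = 0 → ∃ s ∈ Q.primeCompl, s • y = 0 :=
    fun Q _ => Groth.Agent.H19.FlatLocus.flat_iff_killed Q.primeCompl (LocalizedModule.mkLinearMap Q.primeCompl N')
  have hmC : ∀ Q : Ideal C', ∀ [Q.IsPrime], (IsLocalRing.maximalIdeal B).map (algebraMap B C') ≤ Q →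
      (IsLocalRing.maximalIdeal C).map (algebraMap C C') ≤ Q := fun Q _ h => by
    haveI : Algebra.IsIntegral B C := Algebra.IsIntegral.of_finite B C
    have h1 : IsLocalRing.maximalIdeal B = (Q.comap (algebraMap C C')).comap (algebraMap B C) :=
      (IsLocalRing.maximalIdeal.isMaximal B).eq_of_le (Ideal.IsPrime.comap _).ne_top (by
        rw [Ideal.comap_comap, ← IsScalarTower.algebraMap_eq]
        exact Ideal.map_le_iff_le_comap.1 h)
    have h2 : (Q.comap (algebraMap C C')).IsMaximal :=
      Ideal.isMaximal_of_isIntegral_of_isMaximal_comap _ (h1 ▸ IsLocalRing.maximalIdeal.isMaximal B)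
    exact Ideal.map_le_iff_le_comap.2 (IsLocalRing.eq_maximalIdeal h2).ge
  constructor
  · intro hM Q _ hQ
    refine (hN' Q).2 fun J y hy => ?_
    have h1 : (IsLocalRing.maximalIdeal A').map (algebraMap A' B') ≤ Q.comap (algebraMap B' C') := by
      rw [Ideal.map_le_iff_le_comap, Ideal.comap_comap, ← IsScalarTower.algebraMap_eq]
      exact Ideal.map_le_iff_le_comap.1 (le_sup_left.trans hQ)
    have h2 : (IsLocalRing.maximalIdeal B).map (algebraMap B B') ≤ Q.comap (algebraMap B' C') := by
      rw [Ideal.map_le_iff_le_comap, Ideal.comap_comap, ← IsScalarTower.algebraMap_eq,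
        IsScalarTower.algebraMap_eq B C C', ← Ideal.comap_comap, ← Ideal.map_le_iff_le_comap]
      exact (IsLocalRing.map_maximalIdeal_le _).trans (Ideal.map_le_iff_le_comap.1 (le_sup_right.trans hQ))
    obtain ⟨s, hs, hsy⟩ := (hker (Q.comap (algebraMap B' C'))).1 (hM _ (sup_le h1 h2)) J y hy
    exact ⟨algebraMap B' C' s, hs, by rw [algebraMap_smul, hsy]⟩
  · intro hN q _ hq
    refine (hker q).2 fun J y hy => ?_
    by_contra hc
    push Not at hc
    let 𝔞 : Ideal C' := LinearMap.ker (LinearMap.toSpanSingleton C' (TensorProduct A' N' J) y)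
    have h𝔞 : 𝔞.comap (algebraMap B' C') ≤ q := fun s hs => by
      by_contra hsq
      refine hc s hsq ?_
      rw [← algebraMap_smul C' s y]
      exact hs
    obtain ⟨Q, hQa, _, hQq⟩ := Ideal.exists_ideal_over_prime_of_isIntegral q 𝔞 h𝔞
    subst hQq
    have h1 : (IsLocalRing.maximalIdeal A').map (algebraMap A' C') ≤ Q := by
      rw [IsScalarTower.algebraMap_eq A' B' C', ← Ideal.map_map]
      exact Ideal.map_le_iff_le_comap.2 (le_sup_left.trans hq)
    have h2 : (IsLocalRing.maximalIdeal B).map (algebraMap B C') ≤ Q := by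
      rw [IsScalarTower.algebraMap_eq B B' C', ← Ideal.map_map]
      exact Ideal.map_le_iff_le_comap.2 (le_sup_right.trans hq)
    obtain ⟨t, ht, hty⟩ := (hN' Q).1 (hN Q (sup_le h1 (hmC Q h2))) J y hy
    exact ht (hQa hty)

end Groth.Agent.S1278
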