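import Groth.Statements.S12798
import Groth.Agent.Lib.Fibred.StackLocal

set_option autoImplicit false
set_option backward.isDefEq.respectTransparency false
set_option backward.isDefEq.respectTransparency.types false
open CategoryTheory
universe w v u
open Stk

namespace Groth.Agent.S12798

/-- Let `𝒮₁`, `𝒮₂`, `𝒯₁` be stacks in groupoids over `C` for the topology `J`, and `F : 𝒮₂ ⟶ 𝒮₁`, `G :
𝒯₁ ⟶ 𝒮₁` functors over `C` such that every object of `𝒮₁` is locally in the essential image of `F`.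
If the first projection `𝒮₂ ×_{𝒮₁} 𝒯₁ ⟶ 𝒮₂` of the 2-fibre product over `C` is faithful, then `G` is
faithful. (The published statement is for any 2-cartesian square of stacks in groupoids; this row is
the case of the explicit 2-fibre product, to which the general case reduces because faithfulness is
invariant under equivalence.) -/
theorem result {C : Type u} [Category.{v} C] (J : GrothendieckTopology C) {𝒮₁ 𝒮₂ 𝒯₁ : BasedCategory.{v, max u v} C}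
    (h₁ : Stk.IsStack J 𝒮₁) (h₂ : Stk.IsStack J 𝒮₂) (h₃ : Stk.IsStack J 𝒯₁) (F : 𝒮₂ ⥤ᵇ 𝒮₁) (G : 𝒯₁ ⥤ᵇ 𝒮₁)
    (hF : ∀ y : 𝒮₁.obj, ∃ R ∈ J (𝒮₁.p.obj y), ∀ ⦃V : C⦄ (f : V ⟶ 𝒮₁.p.obj y), R f →
      ∃ (x : 𝒮₂.obj) (φ : F.obj x ⟶ y), 𝒮₁.p.IsHomLift f φ)
    (hG' : (FibCat.fpFst F G).toFunctor.Faithful) : G.toFunctor.Faithful := by
  refine Groth.Agent.Lib.Fibred.StackLocal.faithful_of_vertical G h₃.1 h₁.1 fun t θ hθ hGθ => ?_
  obtain ⟨R, hR, hl⟩ := hF (G.obj t)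
  obtain ⟨R', hR', hl'⟩ : ∃ R ∈ J (𝒯₁.p.obj t), ∀ ⦃V : C⦄ (f : V ⟶ 𝒯₁.p.obj t), R f →
      ∃ (x : 𝒮₂.obj) (φ : F.obj x ⟶ G.obj t), 𝒮₁.p.IsHomLift f φ := by
    rw [← G.w_obj t]; exact ⟨R, hR, hl⟩
  obtain ⟨hS, -⟩ := (Groth.Agent.Lib.Fibred.Descent.isStackFor_iff h₃.1).mp (h₃.2 R' hR')
  refine Groth.Agent.Lib.Fibred.StackLocal.eq_id_of_locally h₃.1 hS θ hθ fun V f hf => ?_
  obtain ⟨o, ψ, hψ, ho⟩ := Groth.Agent.Lib.Fibred.StackLocal.exists_fp_obj F G h₁.1 h₃.1 f (hl' f hf)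
  refine ⟨o.obj.snd, ψ, hψ, fun θ' hθ' e => ?_⟩
  have hG : G.map θ' = 𝟙 _ := by
    refine Groth.Agent.Lib.Fibred.Descent.ext_lift h₁.1 (G.map ψ) (f := f) inferInstance (g := 𝟙 V) inferInstance
      (IsHomLift.id ((G.w_obj _).trans ho)) ?_
    rw [← G.toFunctor.map_comp, e, G.toFunctor.map_comp, hGθ, Category.comp_id, Category.id_comp]
  let m : o ⟶ o := Groth.Agent.Lib.Fibred.Fp.mkHom (𝟙 o.obj.fst) θ' (by
    rw [F.toFunctor.map_id, hG, Category.id_comp, Category.comp_id])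
  exact congrArg (fun k : o ⟶ o => k.hom.snd) (hG'.map_injective (show (FibCat.fpFst F G).map m = (FibCat.fpFst F G).map (𝟙 o) from rfl))

end Groth.Agent.S12798
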