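import Groth.Statements.S12799
import Groth.Agent.Lib.Fibred.StackLocal

set_option autoImplicit false
set_option backward.isDefEq.respectTransparency false
set_option backward.isDefEq.respectTransparency.types false
open CategoryTheory
universe w v u
open Stk

namespace Groth.Agent.S12799

/-- Let `𝒮₁`, `𝒮₂`, `𝒯₁` be stacks in groupoids over `C` for the topology `J`, `F : 𝒮₂ ⟶ 𝒮₁` a functor
over `C` whose underlying functor is fully faithful and such that every object of `𝒮₁` is locally in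
the essential image of `F`, and `G : 𝒯₁ ⟶ 𝒮₁` a functor over `C`. If the 2-fibre product `𝒮₂ ×_{𝒮₁}
𝒯₁` over `C` is fibred in setoids, then `𝒯₁` is fibred in setoids, hence a stack in setoids. (The
published statement is for any 2-cartesian square of stacks in groupoids; this row is the case of
the explicit 2-fibre product, to which the general case reduces because being fibred in setoids is
invariant under equivalence over `C`.) -/
theorem result {C : Type u} [Category.{v} C] (J : GrothendieckTopology C) {𝒮₁ 𝒮₂ 𝒯₁ : BasedCategory.{v, max u v} C}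
    (h₁ : Stk.IsStack J 𝒮₁) (h₂ : Stk.IsStack J 𝒮₂) (h₃ : Stk.IsStack J 𝒯₁) (F : 𝒮₂ ⥤ᵇ 𝒮₁) [F.toFunctor.Full] [F.toFunctor.Faithful]
    (hF : ∀ y : 𝒮₁.obj, ∃ R ∈ J (𝒮₁.p.obj y), ∀ ⦃V : C⦄ (f : V ⟶ 𝒮₁.p.obj y), R f →
      ∃ (x : 𝒮₂.obj) (φ : F.obj x ⟶ y), 𝒮₁.p.IsHomLift f φ)
    (G : 𝒯₁ ⥤ᵇ 𝒮₁) (h : FibCat.IsFibSetoid (FibCat.fp F G).p) : FibCat.IsFibSetoid 𝒯₁.p := by
  refine Groth.Agent.Lib.Fibred.Basic.setoid_iff.mpr ⟨h₃.1, ⟨fun {t t' a b} hab => ?_⟩⟩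
  have hfp := (Groth.Agent.Lib.Fibred.Basic.setoid_iff.mp h).2
  have hb : 𝒯₁.p.IsHomLift (𝒯₁.p.map a) b := by rw [hab]; infer_instance
  obtain ⟨θ, hθ, rfl⟩ := Groth.Agent.Lib.Fibred.Descent.exists_factor h₃.1 a (IsHomLift.map 𝒯₁.p a) b hb
  suffices e : θ = 𝟙 t by rw [e, Category.id_comp]
  obtain ⟨R, hR, hl⟩ := hF (G.obj t)
  obtain ⟨R', hR', hl'⟩ : ∃ R ∈ J (𝒯₁.p.obj t), ∀ ⦃V : C⦄ (f : V ⟶ 𝒯₁.p.obj t), R f →
      ∃ (x : 𝒮₂.obj) (φ : F.obj x ⟶ G.obj t), 𝒮₁.p.IsHomLift f φ := by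
    rw [← G.w_obj t]; exact ⟨R, hR, hl⟩
  obtain ⟨hS, -⟩ := (Groth.Agent.Lib.Fibred.Descent.isStackFor_iff h₃.1).mp (h₃.2 R' hR')
  refine Groth.Agent.Lib.Fibred.StackLocal.eq_id_of_locally h₃.1 hS θ hθ fun V f hf => ?_
  obtain ⟨o, ψ, hψ, ho⟩ := Groth.Agent.Lib.Fibred.StackLocal.exists_fp_obj F G h₁.1 h₃.1 f (hl' f hf)
  refine ⟨o.obj.snd, ψ, hψ, fun θ' hθ' e => ?_⟩
  obtain ⟨c, hc⟩ := F.toFunctor.map_surjective (o.obj.iso.hom ≫ G.map θ' ≫ o.obj.iso.inv)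
  let m : o ⟶ o := Groth.Agent.Lib.Fibred.Fp.mkHom c θ' (by rw [hc]; simp)
  have ho' : 𝒮₂.p.obj o.obj.fst = V := (Groth.Agent.Lib.Fibred.Fp.p_snd o).symm.trans ho
  have := Groth.Agent.Lib.Fibred.Fp.iso_isHomLift o ho'
  have hc' : 𝒮₂.p.IsHomLift (𝟙 V) c := (F.isHomLift_iff (𝟙 V) c).mp (by rw [hc]; infer_instance)
  have hm : (FibCat.fp F G).p.IsHomLift (𝟙 V) m := (Groth.Agent.Lib.Fibred.Fp.isHomLift_iff m _).mpr hc'
  have hid : (FibCat.fp F G).p.IsHomLift (𝟙 V) (𝟙 o) := IsHomLift.id ho'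
  exact congrArg (fun k : o ⟶ o => k.hom.snd) (hfp.map_injective (Groth.Agent.Lib.Fibred.Basic.map_eq_of_isHomLift (FibCat.fp F G).p (𝟙 V) m (𝟙 o)))

end Groth.Agent.S12799
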