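import Groth.Statements.S12806
import Groth.Agent.Lib.Fibred.Repr

set_option autoImplicit false
set_option backward.isDefEq.respectTransparency false
set_option backward.isDefEq.respectTransparency.types false
open CategoryTheory
universe v u
open FibCat

namespace Groth.Agent.S12806

/-- Let `𝒮` be fibred in groupoids over `C`, `U` an object of `C` and `x, y : C/U ⟶ 𝒮` two functors over
`C` (objects over `U` in 2-Yoneda form), with `e` the 2-isomorphism identifying their composites
with the structure functor. Then the 2-fibre product over `C` of `(x, y) : C/U ⟶ 𝒮 ×_C 𝒮` with the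
diagonal `𝒮 ⟶ 𝒮 ×_C 𝒮` is fibred in setoids over `C/U` through its first projection. (The published
statement is for a fibred category with `x`, `y` the functors given by chosen pullbacks; this row is
the case of a category fibred in groupoids, where every functor over `C` out of `C/U` is of that
kind.) -/
theorem result {C : Type u} [Category.{v} C] {𝒮 : BasedCategory.{v, max u v} C} (h𝒮 : FibCat.IsFibGrpd 𝒮.p)
    (U : C) (x y : FibCat.overCat U ⥤ᵇ 𝒮)
    (e : BasedFunctor.comp x (FibCat.toSelf 𝒮) ≅ BasedFunctor.comp y (FibCat.toSelf 𝒮)) :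
    FibCat.IsFibSetoid (FibCat.fpFst (FibCat.fpLift x y e) (FibCat.diag (FibCat.toSelf 𝒮))).toFunctor := by
  have h := Groth.Agent.Lib.Fibred.Fp.isFibGrpd (F := FibCat.fpLift x y e) (G := FibCat.diag (FibCat.toSelf 𝒮))
    (Groth.Agent.Lib.Fibred.Slice.overCat_grpd U) h𝒮 (Groth.Agent.Lib.Fibred.Fp.isFibGrpd h𝒮 h𝒮 Groth.Agent.Lib.Fibred.SelfOver.selfOver_grpd)
  refine Groth.Agent.Lib.Fibred.Basic.setoid_iff.mpr ⟨(Groth.Agent.Lib.Fibred.FibSet.grpd_iff_comp (Groth.Agent.Lib.Fibred.FibSet.overForget_isFibSet U)).mpr h,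
    ⟨fun {z w φ ψ} he => ?_⟩⟩
  have h₁ : φ.hom.fst = ψ.hom.fst := he
  refine Groth.Agent.Lib.Fibred.Fp.hom_ext h₁ ?_
  have e₁ := congrArg (fun t => t.hom.fst) (Groth.Agent.Lib.Fibred.Fp.w φ)
  have e₂ := congrArg (fun t => t.hom.fst) (Groth.Agent.Lib.Fibred.Fp.w ψ)
  have : IsIso z.obj.iso.hom.hom.fst := inferInstanceAs
    (IsIso ((FibCat.fpFst (FibCat.toSelf 𝒮) (FibCat.toSelf 𝒮)).toFunctor.mapIso z.obj.iso).hom)
  rw [← cancel_epi z.obj.iso.hom.hom.fst]
  exact e₁.symm.trans ((congrArg (fun t => ((FibCat.fpLift x y e).map t ≫ w.obj.iso.hom).hom.fst) h₁).trans e₂)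

end Groth.Agent.S12806
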