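import Groth.Statements.S12810
import Groth.Agent.Lib.Fibred.StackLemmas

set_option autoImplicit false
set_option backward.isDefEq.respectTransparency false
set_option backward.isDefEq.respectTransparency.types false
open CategoryTheory
universe v u
open Stk

namespace Groth.Agent.S12810

/-- If two categories over `C` are equivalent in the 2-category of categories over `C`, then one is a
stack in setoids for the topology `J` (a stack in groupoids fibred in setoids) if and only if the
other is. -/
theorem result {C : Type u} [Category.{v} C] (J : GrothendieckTopology C) {𝒳 𝒴 : BasedCategory.{v, max u v} C}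
    (F : 𝒳 ⥤ᵇ 𝒴) (hF : FibCat.IsEquivOver F) :
    (Stk.IsStack J 𝒳 ∧ FibCat.IsFibSetoid 𝒳.p) ↔ (Stk.IsStack J 𝒴 ∧ FibCat.IsFibSetoid 𝒴.p) := by
  obtain ⟨G, hG, -⟩ := Groth.Agent.Lib.Fibred.EquivOver.isEquivOver_inverse hF
  exact and_congr (Groth.Agent.Lib.Fibred.StackLemmas.isStack_iff_of_isEquivOver F J hF)
    ⟨Groth.Agent.Lib.Fibred.EquivOver.setoid_target hF, Groth.Agent.Lib.Fibred.EquivOver.setoid_target hG⟩

end Groth.Agent.S12810
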