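import Groth.Statements.S12811
import Groth.Agent.Lib.Fibred.Fp
import Groth.Agent.Lib.AlgStack.StkFp

set_option autoImplicit false
set_option backward.isDefEq.respectTransparency false
set_option backward.isDefEq.respectTransparency.types false
open CategoryTheory
universe v u
open Stk

namespace Groth.Agent.S12811

/-- For stacks in setoids `𝒳`, `𝒴`, `𝒮` over `C` for the topology `J` (stacks in groupoids that are
fibred in setoids) and functors `F : 𝒳 ⟶ 𝒮`, `G : 𝒴 ⟶ 𝒮` over `C`, the 2-fibre product `𝒳 ×_𝒮 𝒴`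
over `C` is again a stack in setoids for `J`. -/
theorem result {C : Type u} [Category.{v} C] (J : GrothendieckTopology C) {𝒳 𝒴 𝒮 : BasedCategory.{v, max u v} C}
    (F : 𝒳 ⥤ᵇ 𝒮) (G : 𝒴 ⥤ᵇ 𝒮) (h𝒳 : Stk.IsStack J 𝒳 ∧ FibCat.IsFibSetoid 𝒳.p) (h𝒴 : Stk.IsStack J 𝒴 ∧ FibCat.IsFibSetoid 𝒴.p)
    (h𝒮 : Stk.IsStack J 𝒮 ∧ FibCat.IsFibSetoid 𝒮.p) :
    Stk.IsStack J (FibCat.fp F G) ∧ FibCat.IsFibSetoid (FibCat.fp F G).p := by
  refine ⟨Groth.Agent.Lib.AlgStack.StkFp.isStack_fp h𝒳.1 h𝒴.1 ?_, ?_⟩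
  · exact ⟨h𝒮.1.1, fun U R hR => ⟨(h𝒮.1.2 R hR).full, (h𝒮.1.2 R hR).faithful⟩⟩
  · refine Groth.Agent.Lib.Fibred.Basic.setoid_iff.mpr ⟨Groth.Agent.Lib.Fibred.Fp.isFibGrpd h𝒳.2.1 h𝒴.2.1 h𝒮.2.1, ⟨fun {z w φ ψ} e => ?_⟩⟩
    have := Groth.Agent.Lib.Fibred.Basic.faithful_of_setoid h𝒳.2
    have := Groth.Agent.Lib.Fibred.Basic.faithful_of_setoid h𝒴.2
    refine Groth.Agent.Lib.Fibred.Fp.hom_ext (𝒳.p.map_injective e) ?_
    apply 𝒴.p.map_injective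
    have := Groth.Agent.Lib.Fibred.Fp.isHomLift_snd φ ((FibCat.fp F G).p.map φ)
    have : (FibCat.fp F G).p.IsHomLift ((FibCat.fp F G).p.map φ) ψ := by rw [e]; infer_instance
    have := Groth.Agent.Lib.Fibred.Fp.isHomLift_snd ψ ((FibCat.fp F G).p.map φ)
    exact Groth.Agent.Lib.Fibred.Basic.map_eq_of_isHomLift 𝒴.p ((FibCat.fp F G).p.map φ) _ _

end Groth.Agent.S12811
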