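import Groth.Statements.S12816
import Groth.Agent.Lib.Fibred.Yoneda
import Groth.Agent.Lib.Fibred.FpEquiv

set_option autoImplicit false
set_option backward.isDefEq.respectTransparency false
set_option backward.isDefEq.respectTransparency.types false
open CategoryTheory
universe v u
open Stk

namespace Groth.Agent.S12816

/-- Let `𝒳`, `𝒴` be fibred in groupoids over `C` and `F : 𝒳 ⟶ 𝒴` a functor over `C`. Then the underlying
functor of `F` is fully faithful if and only if, for every object `U` of `C`, postcomposition with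
`F` is a fully faithful functor from the category of functors `C/U ⟶ 𝒳` over `C` to that of functors
`C/U ⟶ 𝒴` over `C`; under the 2-Yoneda lemma the latter says that `F` induces bijections between
morphisms of pullbacks `x|_V ⟶ y|_V` and `F(x)|_V ⟶ F(y)|_V` for all objects `x, y` over `U` and all
`V ⟶ U`, that is, isomorphisms of the presheaves of morphisms. (The published statement is for
stacks over a site, not necessarily in groupoids; the stack property plays no role and is not
assumed here, and this row treats categories fibred in groupoids.) -/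
theorem result {C : Type u} [Category.{v} C] {𝒳 𝒴 : BasedCategory.{v, max u v} C}
    (h𝒳 : FibCat.IsFibGrpd 𝒳.p) (h𝒴 : FibCat.IsFibGrpd 𝒴.p) (F : 𝒳 ⟶ 𝒴) :
    (F.toFunctor.Full ∧ F.toFunctor.Faithful) ↔
      ∀ U : C, (Bicategory.postcomp (FibCat.overCat U) F).Full ∧ (Bicategory.postcomp (FibCat.overCat U) F).Faithful := by
  constructor
  · rintro ⟨_, _⟩ U
    constructor
    · refine ⟨fun {G H} α => ⟨{
        toNatTrans := { app := fun f => F.toFunctor.preimage (α.toNatTrans.app f), naturality := ?_ }
        isHomLift' := ?_ }, ?_⟩⟩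
      · intro f g h
        apply F.toFunctor.map_injective
        simp only [Functor.map_comp, Functor.map_preimage]
        exact α.toNatTrans.naturality h
      · intro f
        rw [← BasedFunctor.isHomLift_iff F]
        simp only [Functor.map_preimage]
        exact α.isHomLift' f
      · apply BasedNatTrans.homCategory.ext
        apply NatTrans.ext
        funext f
        exact F.toFunctor.map_preimage _
    · refine ⟨fun {G H α β} h => ?_⟩
      apply BasedNatTrans.homCategory.ext
      apply NatTrans.ext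
      funext f
      exact F.toFunctor.map_injective (congrArg (fun t => t.toNatTrans.app f) h)
  · intro h
    have := Groth.Agent.Lib.Fibred.Basic.isFibered_of_grpd h𝒳
    refine (Groth.Agent.Lib.Fibred.FiberFunctor.full_faithful_iff F (Groth.Agent.Lib.Fibred.FiberFunctor.preserves_of_grpd F h𝒴)).mpr fun U => ?_
    have hc := fun G : FibCat.overCat U ⥤ᵇ 𝒳 => Groth.Agent.Lib.Fibred.Yoneda.cartAt_of_grpd h𝒳 G
    have hd := fun G : FibCat.overCat U ⥤ᵇ 𝒴 => Groth.Agent.Lib.Fibred.Yoneda.cartAt_of_grpd h𝒴 G
    constructor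
    · refine ⟨fun {x y} g => ?_⟩
      obtain ⟨ex, hex⟩ := Groth.Agent.Lib.Fibred.Yoneda.fromFiber_id_iso x
      obtain ⟨ey, hey⟩ := Groth.Agent.Lib.Fibred.Yoneda.fromFiber_id_iso y
      have hg : 𝒴.p.IsHomLift (𝟙 U) g.1 := g.2
      let b := F.map ex.hom ≫ g.1 ≫ F.map ey.inv
      have hb : 𝒴.p.IsHomLift (𝟙 U) b := inferInstanceAs (𝒴.p.IsHomLift (𝟙 U) (F.map ex.hom ≫ g.1 ≫ F.map ey.inv))
      have := (h U).1
      obtain ⟨β, hβ⟩ := (Bicategory.postcomp (FibCat.overCat U) F).map_surjective
        (Groth.Agent.Lib.Fibred.Yoneda.extend (G := BasedFunctor.comp (Groth.Agent.Lib.Fibred.Yoneda.fromFiber x) F)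
          (H := BasedFunctor.comp (Groth.Agent.Lib.Fibred.Yoneda.fromFiber y) F) (hd _) b hb)
      have hl := BasedNatTrans.isHomLift β (a := Over.mk (𝟙 U)) (S := U) rfl
      refine ⟨⟨ex.inv ≫ β.toNatTrans.app (Over.mk (𝟙 U)) ≫ ey.hom, inferInstance⟩, Subtype.ext ?_⟩
      have e : F.map (β.toNatTrans.app (Over.mk (𝟙 U))) = b :=
        (congrArg (fun t => t.toNatTrans.app (Over.mk (𝟙 U))) hβ).trans
          (Groth.Agent.Lib.Fibred.Yoneda.extend_app_id (G := BasedFunctor.comp (Groth.Agent.Lib.Fibred.Yoneda.fromFiber x) F)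
            (H := BasedFunctor.comp (Groth.Agent.Lib.Fibred.Yoneda.fromFiber y) F) (hd _) b hb)
      change F.map (ex.inv ≫ β.toNatTrans.app (Over.mk (𝟙 U)) ≫ ey.hom) = g.1
      rw [Functor.map_comp, Functor.map_comp, e]
      simp [b, ← Functor.map_comp]
      exact Category.comp_id _
    · refine ⟨fun {x y φ ψ} he => ?_⟩
      obtain ⟨ex, hex⟩ := Groth.Agent.Lib.Fibred.Yoneda.fromFiber_id_iso x
      obtain ⟨ey, hey⟩ := Groth.Agent.Lib.Fibred.Yoneda.fromFiber_id_iso y
      have := (h U).2
      have hφ : 𝒳.p.IsHomLift (𝟙 U) φ.1 := φ.2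
      have hψ : 𝒳.p.IsHomLift (𝟙 U) ψ.1 := ψ.2
      let α := Groth.Agent.Lib.Fibred.Yoneda.extend (G := Groth.Agent.Lib.Fibred.Yoneda.fromFiber x) (H := Groth.Agent.Lib.Fibred.Yoneda.fromFiber y) (hc _)
        (ex.hom ≫ φ.1 ≫ ey.inv) inferInstance
      let β := Groth.Agent.Lib.Fibred.Yoneda.extend (G := Groth.Agent.Lib.Fibred.Yoneda.fromFiber x) (H := Groth.Agent.Lib.Fibred.Yoneda.fromFiber y) (hc _)
        (ex.hom ≫ ψ.1 ≫ ey.inv) inferInstance
      have e : (Bicategory.postcomp (FibCat.overCat U) F).map α = (Bicategory.postcomp (FibCat.overCat U) F).map β := by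
        refine Groth.Agent.Lib.Fibred.Yoneda.app_ext (hd _) _ _ ?_
        change F.map (α.toNatTrans.app _) = F.map (β.toNatTrans.app _)
        have he' : F.map φ.1 = F.map ψ.1 := congrArg Subtype.val he
        simp [α, β, Groth.Agent.Lib.Fibred.Yoneda.extend_app_id, he']
      have e' := congrArg (fun t => t.toNatTrans.app (Over.mk (𝟙 U))) ((Bicategory.postcomp (FibCat.overCat U) F).map_injective e)
      simp [α, β, Groth.Agent.Lib.Fibred.Yoneda.extend_app_id] at e'
      exact Subtype.ext e'

end Groth.Agent.S12816
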