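import Groth.Statements.S12833
import Groth.Agent.Lib.Gerbe.AlgClosedLift

set_option autoImplicit false
universe u
open CategoryTheory AlgebraicGeometry
open AlgSt

set_option backward.isDefEq.respectTransparency false
set_option backward.isDefEq.respectTransparency.types false

namespace Groth.Agent.S12833

/-- Let `f : 𝒳 ⟶ 𝒴` be a morphism of algebraic stacks over `S` whose diagonal is surjective on points
(for morphisms of algebraic stacks this is the same as universally injective; the published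
statement assumes the latter), `k` an algebraically closed field and `y : Spec k ⟶ 𝒴` whose point
lies in the image of `|𝒳| → |𝒴|`. Then `y` itself lifts: there is `x : Spec k ⟶ 𝒳` with `f ∘ x ≅ y`,
no field extension being needed. -/
theorem result {S : Scheme.{u}} {𝒳 𝒴 : AlgSt.Cat S}
    (h𝒳 : AlgSt.IsAlgStack Scheme.fppfPrecoverage 𝒳) (h𝒴 : AlgSt.IsAlgStack Scheme.fppfPrecoverage 𝒴) (f : 𝒳 ⥤ᵇ 𝒴) (hΔ : AlgSt.IsSurjective (FibCat.diag f))
    (k : Type u) [Field k] [IsAlgClosed k] (s : Spec (CommRingCat.of k) ⟶ S) (y : 𝒴.obj)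
    (hy : 𝒴.p.obj y = Over.mk s)
    (h : AlgSt.Points.mk ⟨k, s, y, hy⟩ ∈ Set.range (AlgSt.Points.map f)) :
    ∃ (x : 𝒳.obj) (φ : f.obj x ⟶ y), 𝒳.p.obj x = Over.mk s ∧ 𝒴.p.IsHomLift (𝟙 (Over.mk s)) φ := by
  let V : Over S := Over.mk s
  have hg := h𝒴.isStack.1
  have hVg := Lib.AlgStack.Yoneda.isFibGrpd_overCat V
  let b : FibCat.overCat V ⥤ᵇ 𝒴 := Lib.AlgStack.Yoneda.fromObj hg hy
  obtain ⟨e, he⟩ := Lib.AlgStack.Yoneda.exists_fromObj_iso hg hy
  obtain ⟨p, hp⟩ := h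
  let v : ↥V.left := (𝟙 V : V ⟶ V).left (IsLocalRing.closedPoint k)
  have hpt : AlgSt.Points.ofChart b v = AlgSt.Points.map f p := by
    rw [hp]
    refine (H14.Chart.Points.mk_obj_eq_ofChart b (𝟙 V)).symm.trans ?_
    exact AlgSt.Points.sound
      ⟨{ K := k, str := s, obj := b.obj (Over.mk (𝟙 V)), lies := b.w_obj _ }, 𝟙 _, e.hom, trivial⟩
  obtain ⟨r, -, -⟩ := H14.Chart.Basic.exists_points_fp h𝒳.isStack.1 hg hVg (g := b)
    (p := AlgSt.Points.ofChart (BasedFunctor.id _) v) hpt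
  obtain ⟨g, ⟨θ⟩⟩ := Lib.Gerbe.AlgClosedLift.exists_section
    (H14.Chart.Basic.isAlgStack_fp h𝒴 (H14.Chart.Basic.isAlgStack_overCat V) h𝒳 b f) s
    (FibCat.fpFst b f) (H14.Chart.UnivInj.surjective_diag_fpFst h𝒳.isStack.1 hg hVg b hΔ) ⟨r⟩
  let x := BasedFunctor.comp g (FibCat.fpSnd b f)
  let η : BasedFunctor.comp x f ≅ b :=
    (Lib.AlgStack.BasedBasic.isoWhiskerLeft g (FibCat.fpIso b f)).symm ≪≫
      Lib.AlgStack.BasedBasic.isoWhiskerRight θ b
  refine ⟨x.obj (Over.mk (𝟙 V)), (Lib.AlgStack.BasedBasic.appIso η (Over.mk (𝟙 V))).hom ≫ e.hom,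
    x.w_obj _, ?_⟩
  have h1 : 𝒴.p.IsHomLift (𝟙 V) (Lib.AlgStack.BasedBasic.appIso η (Over.mk (𝟙 V))).hom :=
    BasedNatTrans.isHomLift η.hom rfl
  exact inferInstance

end Groth.Agent.S12833
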