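import Groth.Statements.S12838
import Groth.Agent.Lib.QuotSt.Basic
set_option backward.isDefEq.respectTransparency false
set_option backward.isDefEq.respectTransparency.types false

set_option autoImplicit false
universe u
open CategoryTheory AlgebraicGeometry
open AlgSt

namespace Groth.Agent.S12838

open MonoidalCategory CartesianMonoidalCategory MonObj GrpObj in
/-- Let `G` be a group scheme over `S` acting on an `S`-scheme `X`, `f : T ⟶ T'` a morphism of
`S`-schemes, `x` a `T`-point and `x'` a `T'`-point of `X`. In the quotient category `[X/G]` (scheme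
torsors for the fppf topology with an equivariant morphism to `X`) the canonical functor `X ⟶ [X/G]`
sends `x` to the trivial torsor `G ×_S T ⟶ T`, with `G` acting by left multiplication on the first
factor and the equivariant morphism `(h, t) ↦ h · x(t)`, and likewise for `x'`. The morphisms from
the image of `x` to the image of `x'` lying over `f` are exactly the maps `(h, t) ↦ (h · g(t),
f(t))` for those `T`-points `g` of `G` with `g · (x' ∘ f) = x`: every morphism over `f` is of this
form, and every such `g` defines one. -/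
theorem result (S : Scheme.{u}) (G : Over S) [GrpObj G] (X : Over S)
    (aX : AlgGrp.Action G X) (T T' : Over S) (f : T ⟶ T') (x : T ⟶ X) (x' : T' ⟶ X) :
    (∀ h : (AlgSt.quotMap Scheme.fppfPrecoverage G aX).obj ((AlgSt.ofOverCat X).obj (Over.mk x)) ⟶ (AlgSt.quotMap Scheme.fppfPrecoverage G aX).obj ((AlgSt.ofOverCat X).obj (Over.mk x')),
        h.base = f → ∃ g : T ⟶ G, lift g (f ≫ x') ≫ aX.act = x ∧
          h.top = lift (fst G T * (snd G T ≫ g)) (snd G T ≫ f)) ∧
    (∀ g : T ⟶ G, lift g (f ≫ x') ≫ aX.act = x →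
        ∃ h : (AlgSt.quotMap Scheme.fppfPrecoverage G aX).obj ((AlgSt.ofOverCat X).obj (Over.mk x)) ⟶ (AlgSt.quotMap Scheme.fppfPrecoverage G aX).obj ((AlgSt.ofOverCat X).obj (Over.mk x')),
          h.base = f ∧ h.top = lift (fst G T * (snd G T ≫ g)) (snd G T ≫ f)) := by
  let A := (AlgSt.quotMap Scheme.fppfPrecoverage G aX).obj ((AlgSt.ofOverCat X).obj (Over.mk x'))
  have key : ∀ (h : (AlgSt.quotMap Scheme.fppfPrecoverage G aX).obj ((AlgSt.ofOverCat X).obj (Over.mk x)) ⟶ A)
      (g : T ⟶ G), Lib.QuotSt.point h = lift g f → h.top = lift (fst G T * (snd G T ≫ g)) (snd G T ≫ f) := by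
    intro h g hp
    rw [Lib.QuotSt.top_eq h, hp]
    change (G ◁ lift g f) ≫ (AlgSt.leftMul G T').act = _
    have e : G ◁ lift g f = lift (fst G T) (lift (snd G T ≫ g) (snd G T ≫ f)) := by
      apply CartesianMonoidalCategory.hom_ext <;> simp [comp_lift]
    rw [e, Lib.QuotSt.lift_leftMul]
  refine ⟨fun h hb => ?_, fun g hg => ?_⟩
  · have h1 := Lib.QuotSt.point_π h
    have h2 := Lib.QuotSt.point_φ h
    have hp : Lib.QuotSt.point h = lift (Lib.QuotSt.point h ≫ fst G T') f := by
      apply CartesianMonoidalCategory.hom_ext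
      · exact (lift_fst (Lib.QuotSt.point h ≫ fst G T') f).symm
      · rw [lift_snd]; exact h1.trans hb
    refine ⟨_, ?_, key h _ hp⟩
    rw [hp] at h2
    change lift _ f ≫ (G ◁ x') ≫ aX.act = x at h2
    rwa [lift_whiskerLeft_assoc] at h2
  · have hx : lift g f ≫ A.φ = x := by
      change lift g f ≫ (G ◁ x') ≫ aX.act = x
      rwa [lift_whiskerLeft_assoc]
    refine ⟨Lib.QuotSt.ofPoint (A := A) x f (lift g f) (lift_snd _ _) hx, rfl, key _ _ ?_⟩
    exact Lib.QuotSt.point_ofPoint x f _ _ _

end Groth.Agent.S12838
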