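import Groth.Statements.S1285
import Groth.Agent.Lib.RG.SuppDim
import Groth.Agent.Lib.RG.StepLemmas
-- import your own Groth.Agent.* helpers here

set_option autoImplicit false
universe u
open FlatMor
open scoped TensorProduct
attribute [local instance] Algebra.TensorProduct.rightAlgebra

namespace Groth.Agent.S1285

/-- Let (C, D, G) be a one-step dévissage of N/S/R over the prime p (see FlatCA.IsOneStepDevissage), and
suppose pD is prime (the generic point of the fibre of Spec D). Then there are r > 0 and a D-linear
map α from D^r to G which becomes bijective after base change to the residue field of pD; moreover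
for every such α the support of the fibre module over p of the cokernel of α has dimension strictly
less than that of the fibre module of N. -/
theorem result {R S : Type u} [CommRing R] [CommRing S] [Algebra R S] [Algebra.FiniteType R S]
    (N : Type u) [AddCommGroup N] [Module S N] [Module R N] [IsScalarTower R S N] [Module.Finite S N] (p : Ideal R) [p.IsPrime]
    (C D G : Type u) [CommRing C] [CommRing D] [Algebra S C] [Algebra R C] [IsScalarTower R S C]
    [Algebra R D] [Algebra D C] [IsScalarTower R D C] [AddCommGroup G] [Module C G] [Module S G] [IsScalarTower S C G]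
    [Module D G] [IsScalarTower D C G] [Module R G] [IsScalarTower R D G]
    (n : ℕ) (h : FlatCA.IsOneStepDevissage R S N p C D G n) [(p.map (algebraMap R D)).IsPrime] :
    (∃ (r : ℕ) (α : (Fin r → D) →ₗ[D] G), 0 < r ∧ Function.Bijective (α.baseChange (p.map (algebraMap R D)).ResidueField)) ∧
    ∀ (r : ℕ) (α : (Fin r → D) →ₗ[D] G), Function.Bijective (α.baseChange (p.map (algebraMap R D)).ResidueField) →
      Module.supportDim (p.Fiber D) (FlatCA.fiberMod p D (G ⧸ LinearMap.range α)) < (n : WithBot ℕ∞) := by
  classical
  obtain ⟨⟨eNG⟩, hsurj, -, hDC, hCG, hsm, hgirr, hdimN⟩ := h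
  haveI := hDC
  haveI := hCG
  haveI : Algebra.Smooth R D := Lib.RG.Reduce.smooth_of_smoothRelDim hsm
  haveI : Module.Finite S C := Module.Finite.of_surjective (Algebra.linearMap S C) hsurj
  haveI : Module.Finite D G := Module.Finite.trans C G
  haveI : IsScalarTower R C G := IsScalarTower.of_algebraMap_smul fun r g => by
    rw [IsScalarTower.algebraMap_apply R D C, algebraMap_smul, algebraMap_smul]
  haveI : IsScalarTower R S G := IsScalarTower.of_algebraMap_smul fun r g => by
    rw [← algebraMap_smul C (algebraMap R S r) g, ← IsScalarTower.algebraMap_apply, algebraMap_smul]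
  have hD : Lib.RG.Engine.GIF R D := Lib.RG.Fibres.gif_of_smooth_of_geomIrred hgirr
  haveI : IsDomain (p.Fiber D) := Lib.RG.Fibres.isDomain_of_smooth_of_geomIrred hgirr p.ResidueField
  let P := p.map (algebraMap R D)
  haveI : P.IsPrime := ‹_›
  haveI hP0 : (Lib.RG.StepModel.genPrime p D).IsPrime :=
    RingHom.ker_isPrime (Algebra.TensorProduct.includeRight : D →ₐ[R] p.ResidueField ⊗[R] D).toRingHom
  have hle : P ≤ Lib.RG.StepModel.genPrime p D := Ideal.map_le_iff_le_comap.2 fun r hr => by
    show Algebra.TensorProduct.includeRight (R := R) (A := p.ResidueField) (algebraMap R D r) = 0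
    rw [AlgHom.commutes, IsScalarTower.algebraMap_apply R p.ResidueField (p.ResidueField ⊗[R] D),
      Ideal.algebraMap_residueField_eq_zero.2 hr, map_zero]
  haveI hPp : P.LiesOver p := ⟨le_antisymm Ideal.le_comap_map fun r hr => by
    by_contra hrp
    have h0 := hle hr
    have h1 : Algebra.TensorProduct.includeRight (R := R) (A := p.ResidueField) (algebraMap R D r) = 0 := h0
    rw [AlgHom.commutes] at h1
    exact (Lib.FlatCA.WeakAss.isUnit_algebraMap_fiber (S := D) p hrp).ne_zero h1⟩
  have hgen : Lib.RG.StepModel.genPrime p D ≤ P := Lib.RG.StepModel.genPrime_le p P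
  have hdimG : Module.supportDim (p.Fiber D) (FlatCA.fiberMod p D G) = n := by
    rw [Lib.RG.SuppDim.supportDim_fiber_eq (A := D) (B := C) p,
      ← Lib.RG.SuppDim.supportDim_fiber_eq (A := S) (B := C) p, ← hdimN]
    exact Module.supportDim_eq_of_equiv
      (TensorProduct.AlgebraTensorModule.congr (LinearEquiv.refl (p.Fiber S) (p.Fiber S)) eNG).symm
  have hkey : ∀ (r : ℕ) (α : (Fin r → D) →ₗ[D] G), Function.Bijective (α.baseChange P.ResidueField) →
      Module.supportDim (p.Fiber D) (FlatCA.fiberMod p D (G ⧸ LinearMap.range α)) < (n : WithBot ℕ∞) := by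
    intro r α hα
    obtain ⟨T, hT⟩ := Module.Finite.fg_top (R := D) (M := G)
    choose dT hdT hmem using Lib.RG.StepLemmas.killed_of_residue P α hα.2
    let d := ∏ g ∈ T, dT g
    have hd : Lib.FlatCA.Impurity.incl p d ≠ 0 := fun h0 => by
      obtain ⟨g, -, hg⟩ := (Ideal.IsPrime.prod_mem_iff (p := P)).1 (hgen (show d ∈ Lib.RG.StepModel.genPrime p D from h0))
      exact hdT g hg
    have hkill : ∀ x : G ⧸ LinearMap.range α, d • x = 0 := by
      intro x
      obtain ⟨g, rfl⟩ := Submodule.Quotient.mk_surjective _ x
      rw [← Submodule.Quotient.mk_smul, Submodule.Quotient.mk_eq_zero]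
      have hg : g ∈ Submodule.span D (T : Set G) := hT ▸ trivial
      induction hg using Submodule.span_induction with
      | mem g hg =>
        rw [show d = (∏ g' ∈ T.erase g, dT g') * dT g from (Finset.prod_erase_mul _ _ (Finset.mem_coe.1 hg)).symm,
          mul_smul]
        exact Submodule.smul_mem _ _ (hmem g)
      | zero => rw [smul_zero]; exact zero_mem _
      | add a b _ _ ha hb => rw [smul_add]; exact add_mem ha hb
      | smul c a _ ha => rw [smul_comm]; exact Submodule.smul_mem _ _ ha
    haveI : Module.Finite (p.Fiber D) (FlatCA.fiberMod p D (G ⧸ LinearMap.range α)) :=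
      Module.Finite.base_change D (p.Fiber D) (G ⧸ LinearMap.range α)
    rw [Module.supportDim_eq_ringKrullDim_quotient_annihilator]
    have hI : Ideal.span {Lib.FlatCA.Impurity.incl p d} ≤
        Module.annihilator (p.Fiber D) (FlatCA.fiberMod p D (G ⧸ LinearMap.range α)) := by
      rw [Ideal.span_singleton_le_iff_mem,
        Lib.RG.SuppDim.mem_annihilator_iff p (Lib.FlatCA.Impurity.incl p d) 1 p.primeCompl.one_mem d (by rw [map_one, one_mul])]
      intro ζ
      induction ζ with
      | zero => simp
      | add a b ha hb => rw [smul_add, ha, hb, add_zero]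
      | tmul a b => rw [TensorProduct.smul_tmul', hkill, TensorProduct.zero_tmul]
    refine lt_of_le_of_lt (ringKrullDim_le_of_surjective (R := p.Fiber D ⧸ Ideal.span {Lib.FlatCA.Impurity.incl p d})
      (S := p.Fiber D ⧸ Module.annihilator (p.Fiber D) (FlatCA.fiberMod p D (G ⧸ LinearMap.range α)))
      (Ideal.Quotient.factor hI) (Ideal.Quotient.factor_surjective hI)) ?_
    have h1 := (ringKrullDim_quotient_succ_le_of_nonZeroDivisor (mem_nonZeroDivisors_of_ne_zero hd)).trans
      (Lib.RG.Reduce.fibreDim_le hsm p)
    generalize ringKrullDim (p.Fiber D ⧸ Ideal.span {Lib.FlatCA.Impurity.incl p d}) = k at h1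
    induction k with
    | bot => exact WithBot.bot_lt_coe _
    | coe k =>
      have h1' : k + 1 ≤ (n : ℕ∞) := WithBot.coe_le_coe.1 h1
      induction k with
      | top => simp at h1'
      | coe k =>
        have : k + 1 ≤ n := by exact_mod_cast h1'
        exact_mod_cast (show k < n by omega)
  refine ⟨?_, hkey⟩
  obtain ⟨r, α, hα⟩ := Lib.RG.StepLemmas.exists_bijective_residue (N := G) P
  refine ⟨r, α, Nat.pos_of_ne_zero fun hr => ?_, hα⟩
  subst hr
  have h1 := hkey 0 α hα
  have hrange : LinearMap.range α = ⊥ := by
    rw [LinearMap.range_eq_bot]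
    exact LinearMap.ext fun v => by rw [Subsingleton.elim v 0, map_zero, map_zero]
  have e : FlatCA.fiberMod p D (G ⧸ LinearMap.range α) ≃ₗ[p.Fiber D] FlatCA.fiberMod p D G :=
    TensorProduct.AlgebraTensorModule.congr (LinearEquiv.refl (p.Fiber D) (p.Fiber D)) (Submodule.quotEquivOfEqBot _ hrange)
  rw [Module.supportDim_eq_of_equiv e, hdimG] at h1
  exact lt_irrefl _ h1

end Groth.Agent.S1285
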