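import Groth.Statements.S12856

import Groth.Agent.H14.Chart.QC2

set_option autoImplicit false
set_option backward.isDefEq.respectTransparency false
set_option backward.isDefEq.respectTransparency.types false
open CategoryTheory AlgebraicGeometry
universe u
open AlgSt

namespace Groth.Agent.S12856

open Groth.Agent.H14.Sep
open Groth.Agent.Lib.AlgStack
open Groth.Agent.H14.Chart

/-- (2) ⇔ (4): an algebraic stack `𝒳` over `S` admits a surjective smooth morphism from an affine scheme
if and only if it admits a surjective smooth morphism from a quasi-compact algebraic space. -/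
theorem result {S : Scheme.{u}} {𝒳 : AlgSt.Cat S}
    (h𝒳 : AlgSt.IsAlgStack Scheme.fppfPrecoverage 𝒳) :
    AlgSt.IsQuasiCompact 𝒳 ↔
      ∃ (U : AlgSp.Space S) (x : AlgSt.ofSp U.obj ⥤ᵇ 𝒳), AlgSp.IsQuasiCompactSp U.obj ∧
        AlgSt.RepByAlgSpWith (AlgSp.LocP @Smooth) x ∧ AlgSt.RepByAlgSpWith AlgSp.IsSurjectiveMor x := by
  constructor
  · rintro ⟨U, x, hU, h1, h2⟩
    have e := Rep.isEquivOver_toOverCat U
    exact ⟨(AlgSp.ofScheme S).obj U, BasedFunctor.comp (AlgSt.toOverCat U) x,
      Lib.AlgSpMor.QC.isQuasiCompactSp_yon,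
      (Rep.repByAlgSpWith_iff_of_isEquivOver e BasedBasic.isEquivOver_id (f := x) (f' := BasedFunctor.comp (AlgSt.toOverCat U) x) (Iso.refl _)).1 h1,
      (Rep.repByAlgSpWith_iff_of_isEquivOver e BasedBasic.isEquivOver_id (f := x) (f' := BasedFunctor.comp (AlgSt.toOverCat U) x) (Iso.refl _)).1 h2⟩
  · rintro ⟨U, x, hU, -, hs⟩
    have := (QC.compactSpace_ofSp_iff U).2 (Lib.AlgSpMor.QC.compactSpace_points hU)
    exact (QC.isQuasiCompact_iff h𝒳).2
      (Basic.compactSpace_of_surjective h𝒳 (Points.isSurjective_of_rep h𝒳.isStack.1 hs))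

end Groth.Agent.S12856
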