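import Groth.Statements.S12857

import Groth.Agent.H14.Chart.QC2

set_option autoImplicit false
set_option backward.isDefEq.respectTransparency false
set_option backward.isDefEq.respectTransparency.types false
open CategoryTheory AlgebraicGeometry
universe u
open AlgSt

namespace Groth.Agent.S12857

open Groth.Agent.H14.Sep
open Groth.Agent.Lib.AlgStack
open Groth.Agent.H14.Chart

/-- (2) ⇔ (3): an algebraic stack `𝒳` over `S` admits a surjective smooth morphism from an affine scheme
if and only if it admits one from a quasi-compact scheme. -/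
theorem result {S : Scheme.{u}} {𝒳 : AlgSt.Cat S}
    (h𝒳 : AlgSt.IsAlgStack Scheme.fppfPrecoverage 𝒳) :
    AlgSt.IsQuasiCompact 𝒳 ↔
      ∃ (U : Over S) (x : FibCat.overCat U ⥤ᵇ 𝒳), CompactSpace ↥U.left ∧
        AlgSt.RepByAlgSpWith (AlgSp.LocP @Smooth) x ∧ AlgSt.RepByAlgSpWith AlgSp.IsSurjectiveMor x := by
  refine ⟨fun ⟨U, x, hU, h1, h2⟩ => ⟨U, x, inferInstance, h1, h2⟩, fun ⟨U, x, hU, _, h2⟩ => ?_⟩
  exact (QC.isQuasiCompact_iff h𝒳).2 (QC.compactSpace_points_of_chart h𝒳 x h2)

end Groth.Agent.S12857
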