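import Groth.Statements.S12860

import Groth.Agent.H14.Chart.OpenSub2

set_option autoImplicit false
set_option backward.isDefEq.respectTransparency false
set_option backward.isDefEq.respectTransparency.types false
open CategoryTheory AlgebraicGeometry
universe u
open AlgSt

namespace Groth.Agent.S12860

open Groth.Agent.H14.Chart
open Groth.Agent.H14.Sep
open Groth.Agent.Lib.AlgStack

/-- Let `𝒳` be an algebraic stack over `S`, `U` an algebraic space with a surjective smooth `u : U ⟶ 𝒳`,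
and `j : V ⟶ U` an open immersion of algebraic spaces. Then there are an algebraic stack `𝒴`, an
open immersion `i : 𝒴 ⟶ 𝒳` and a surjective smooth `g : V ⟶ 𝒴` such that `i ∘ g` is 2-isomorphic to
`u ∘ j` (the compatibility is part of the published proof, which constructs `𝒴` as the image of
`V`). -/
theorem result {S : Scheme.{u}} {𝒳 : AlgSt.Cat S}
    (h𝒳 : AlgSt.IsAlgStack Scheme.fppfPrecoverage 𝒳) (U : AlgSp.Space S) (u : AlgSt.ofSp U.obj ⥤ᵇ 𝒳)
    (hu₁ : AlgSt.RepByAlgSpWith (AlgSp.LocP @Smooth) u) (hu₂ : AlgSt.RepByAlgSpWith AlgSp.IsSurjectiveMor u)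
    (V : AlgSp.Space S) (j : V ⟶ U) (hj : AlgSp.RepWith @IsOpenImmersion j.hom) :
    ∃ (𝒴 : AlgSt.Cat S) (i : 𝒴 ⥤ᵇ 𝒳) (g : AlgSt.ofSp V.obj ⥤ᵇ 𝒴),
      AlgSt.IsAlgStack Scheme.fppfPrecoverage 𝒴 ∧ AlgSt.IsOpenImm i ∧
        AlgSt.RepByAlgSpWith (AlgSp.LocP @Smooth) g ∧ AlgSt.RepByAlgSpWith AlgSp.IsSurjectiveMor g ∧
          Nonempty (BasedFunctor.comp g i ≅ BasedFunctor.comp (AlgSt.ofSpMap j.hom) u) := by
  exact OpenSub.exists_image (IsAlg.isAlgStack_ofSp V) h𝒳 _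
    (IsAlgFp.comp_locP QC.smoothST (Stk.isFibGrpd_ofPsh V.obj.obj) (Stk.isFibGrpd_ofPsh U.obj.obj)
      (Descend.repByAlgSpWith_ofSpMap
        (fun _ _ _ _ hX₁ hY₁ _ hY₂ _ _ _ _ sq ha =>
          Groth.Agent.Lib.AlgSpMor.LocP.locP_of_isPullback QC.smoothST hX₁ hY₁ hY₂ sq ha)
        V.property U.property
        (Groth.Agent.Lib.AlgSpMor.LocP.locP_of_repWith QC.smoothST
          (Groth.Agent.Lib.AlgSpace.repWith_mono hj fun _ _ g hg => have := hg; (inferInstance : Smooth g)))) hu₁)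

end Groth.Agent.S12860
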