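import Groth.Statements.S12867
import Groth.Agent.Lib.Gerbe.RedSub

set_option autoImplicit false
open CategoryTheory AlgebraicGeometry
universe u
open AlgSt

namespace Groth.Agent.S12867

/-- Let `𝒳` be an algebraic stack over `S` and `T ⊂ |𝒳|` a closed subset. Then there is a reduced closed
substack `𝒵 ⊂ 𝒳` with `|𝒵| = T`. (The published statement also asserts uniqueness of such a
substack, whose proof is not given there; only existence is stated here.) -/
theorem result {S : Scheme.{u}} {𝒳 : AlgSt.Cat S}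
    (h𝒳 : AlgSt.IsAlgStack Scheme.fppfPrecoverage 𝒳) (T : Set (AlgSt.Points 𝒳)) (hT : IsClosed T) :
    ∃ Q : 𝒳.obj → Prop, AlgSt.IsClosedSubstack 𝒳 Q Scheme.fppfPrecoverage ∧ Set.range (AlgSt.Points.map (AlgSt.subIncl 𝒳 Q)) = T ∧
      AlgSt.SmoothLocally (fun X => IsReduced X) (AlgSt.fullSub 𝒳 Q) := by
  obtain ⟨U, a, ha, has⟩ := h𝒳.atlas
  let C : TopologicalSpace.Closeds ↥U.left :=
    ⟨AlgSt.Points.ofChart a ⁻¹' T, hT.preimage (Groth.Agent.H14.Chart.Points.continuous_ofChart h𝒳 a)⟩
  let I := Scheme.IdealSheafData.vanishingIdeal C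
  let Z : Over S := Over.mk (I.subschemeι ≫ U.hom)
  let i : Z ⟶ U := Over.homMk I.subschemeι rfl
  have : IsClosedImmersion i.left := inferInstanceAs (IsClosedImmersion I.subschemeι)
  have : IsReduced Z.left := Groth.Agent.H75.RedSub.isReduced_vanishingIdeal C
  have hr : Set.range i.left = AlgSt.Points.ofChart a ⁻¹' T := by
    show Set.range I.subschemeι = _
    rw [Scheme.IdealSheafData.range_subschemeι, Scheme.IdealSheafData.coe_support_vanishingIdeal]
    rfl
  exact ⟨_, Groth.Agent.Lib.Gerbe.RedSub.main h𝒳 ha has hr⟩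

end Groth.Agent.S12867
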