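import Groth.Statements.S12868
import Groth.Agent.H14.Sep.Main2

set_option autoImplicit false
set_option backward.isDefEq.respectTransparency false
set_option backward.isDefEq.respectTransparency.types false
open CategoryTheory AlgebraicGeometry
universe u
open AlgSt

namespace Groth.Agent.S12868

open Groth.Agent.H14.Sep
open Groth.Agent.Lib.AlgStack

/-- An immersion `f : 𝒳 ⟶ 𝒴` (representable by algebraic spaces, with every base change to a scheme a
representable immersion) is a monomorphism. (The published statement is about algebraic stacks; this
row holds for arbitrary categories over `(Sch/S)`.) -/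
theorem result {S : Scheme.{u}} {𝒳 𝒴 : AlgSt.Cat S} (f : 𝒳 ⥤ᵇ 𝒴)
    (hf : AlgSt.IsImm f) : AlgSt.IsMono f := by
  exact Rep.repByAlgSpWith_mono hf fun F G a _ _ h =>
    Groth.Agent.Lib.AlgSpace.mono_of_repWith (P := @IsImmersion)
      (fun _ _ g hg => have := hg; (inferInstance : Mono g)) h

end Groth.Agent.S12868
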