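import Groth.Statements.S12885
import Groth.Agent.H18.ExtDepth
import Groth.Agent.Lib.ExtShStalk.Cor
import Groth.Agent.S11155

set_option autoImplicit false
universe u
open CategoryTheory CategoryTheory.Limits TopologicalSpace AlgebraicGeometry
open Coherent

namespace Groth.Agent.S12885

/-- Let X be a locally Noetherian scheme, Y a closed subset with open complement U, F a coherent
O_X-module and n a natural number. Then the depth of the stalk F_x over O_{X,x} is at least n for
every point x of Y if and only if for every coherent O_X-module G with support contained in Y the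
local Ext sheaves ℰxt^i(G, F) vanish for all i < n. (Internal Hom of every O_X-module and injective
resolutions of O_X-modules are the stated instance hypotheses, both true.) -/
theorem result (X : Scheme.{u}) [IsLocallyNoetherian X]
    (U : X.Opens) (F : X.Modules) (hF : Coh.IsCoh F) (n : ℕ)
    [∀ M : X.Modules, ModSite.HasSheafHom (O := X.sheaf) M] [HasInjectiveResolutions (ModSite.Mod X.sheaf)] :
    (∀ x : X, x ∉ (U : Set X) → (n : ℕ∞) ≤ LocCoh.depth (X.presheaf.stalk x) (F.presheaf.stalk x)) ↔
      ∀ G : X.Modules, Coh.IsCoh G → (∀ x ∈ CohB1.support G, x ∉ (U : Set X)) →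
        ∀ i : ℕ, i < n → IsZero ((ModSite.extSh (O := X.sheaf) G i).obj F) := by
  have hinj : ∀ x : X, Lib.ExtShStalk.Cor.InjStalk x := fun x I hI => Groth.Agent.S11155.result I hI x
  refine ⟨fun h G hG hsupp i hi => (Lib.ExtShStalk.Cor.isZero_iff G hG hinj F i).2 fun x =>
    H18.ExtDepth.subsingleton_ext hF hG n x (fun z hz => h z (hsupp z hz)) hi, fun h x hx => ?_⟩
  obtain ⟨G, hG, hGs⟩ := H18.ExtDepth.exists_support_eq ((U : Set X)ᶜ) U.2.isClosed_compl
  exact H18.ExtDepth.le_depth_of_ext hF hG n x (hGs ▸ hx) fun i hi =>
    (Lib.ExtShStalk.Cor.isZero_iff G hG hinj F i).1 (h G hG (fun z hz => hGs.subset hz) i hi) x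

end Groth.Agent.S12885
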