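import Groth.Statements.S12887
import Groth.Agent.Lib.ModSS29.DerivedNat
import Groth.Agent.Lib.ExtZero.Restr
-- import your own Groth.Agent.* helpers here

set_option autoImplicit false
universe u
open CategoryTheory CategoryTheory.Limits
open ModSite

namespace Groth.Agent.S12887
open Groth.Agent.Lib

/-- On a small ringed site (C, J, O) with O commutative, let X be an object of C, M an O-module and q ≥
0. The formation of the local Ext sheaves ℰxt^q_O(M, -) (right derived functors of the internal Hom
ℋom_O(M, -)) commutes with localisation: the functor N ↦ ℰxt^q_O(M, N)|_X is isomorphic to N ↦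
ℰxt^q_{O|_X}(M|_X, N|_X). (Existence of an isomorphism of functors only. The internal Hom functors
of M and of M|_X and injective resolutions of modules on C and on C/X are the stated instance
hypotheses, all true.) -/
theorem result {C : Type u} [SmallCategory C] {J : GrothendieckTopology C}
    (O : Sheaf J CommRingCat.{u}) (X : C) (M : ModSite.Mod O)
    [ModSite.HasSheafHom M] [ModSite.HasSheafHom ((ModSite.restr O X).obj M)]
    [HasInjectiveResolutions (ModSite.Mod O)] [HasInjectiveResolutions (ModSite.Mod (O.over X))] (q : ℕ) :
    Nonempty (ModSite.extSh M q ⋙ ModSite.restr O X ≅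
      ModSite.restr O X ⋙ ModSite.extSh ((ModSite.restr O X).obj M) q) := by
  haveI := ExtZero.ModSite.preservesFiniteLimits_extZero O X
  haveI : (ModSite.extZero O X).PreservesMonomorphisms := preservesMonomorphisms_of_preservesLimitsOfShape _
  haveI : (ModSite.restr O X).PreservesInjectiveObjects :=
    ⟨fun {I} hI => (ModSite.extZeroAdj O X).map_injective I hI⟩
  haveI : (ModSite.restr O X).IsRightAdjoint := (ModSite.extZeroAdj O X).isRightAdjoint
  haveI : PreservesFiniteColimits (ModSite.restr O X) :=
    PreservesColimitsOfSize.preservesFiniteColimits _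
  exact ⟨(ModSS29.DerivedNat.postIso (ModSite.sheafHom M) (ModSite.restr O X) q).symm ≪≫
    SpecSeq.HomExtNat.rightDerivedMapIso (ExtZero.Restr.restrSheafHomIso X M).symm q ≪≫
    ModSS29.DerivedNat.preIso (ModSite.restr O X) (ModSite.sheafHom ((ModSite.restr O X).obj M)) q⟩

end Groth.Agent.S12887
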