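import Groth.Statements.S12888
import Groth.Statements.S12888
import Groth.Agent.Lib.ModSS29.DerivedNat
import Groth.Agent.Lib.ModSS29.SectRestrict
import Groth.Agent.Lib.ExtZero.Restr

set_option autoImplicit false
universe u
open CategoryTheory CategoryTheory.Limits
open ModSite

set_option linter.style.haveILetI false
set_option backward.isDefEq.respectTransparency.types false

noncomputable section

namespace Groth.Agent.S12888

open Opposite Groth.Agent.Lib Groth.Agent.Lib.ModSS29 OpenFree TA

variable {C : Type u} [SmallCategory C] {J : GrothendieckTopology C}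
  (O : Sheaf J CommRingCat.{u}) [HasBinaryProducts C] (U X : C)
  [ModSite.HasPushOver (O.over X) (Over.mk (Limits.prod.snd : U ⨯ X ⟶ X))]

/-- `U × X` over `X`. -/
abbrev UX : Over X := Over.mk (Limits.prod.snd : U ⨯ X ⟶ X)

lemma restr_restr_ι (N : ModSite.Mod O) :
    (ModSite.restr (O.over X) (UX U X)).map ((ModSite.restr O X).map ((ModSite.sectOnι O U).app N)) = 0 :=
  (restr_map_eq_zero_iff (UX U X) (O.over X) _).2 fun W hW x => by
    obtain ⟨a⟩ := (nonempty_V_iff (J.over X) (UX U X) W.unop).1 hW
    exact (restr_map_eq_zero_iff U O _).1 (restr_sectOnι O U N) (op W.unop.left)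
      ((nonempty_V_iff J U W.unop.left).2 ⟨a.left ≫ prod.fst⟩) x

def cmpMap (N : ModSite.Mod O) :
    (ModSite.restr O X).obj ((ModSite.sectOn O U).obj N) ⟶
      (ModSite.sectOn (O.over X) (UX U X)).obj ((ModSite.restr O X).obj N) :=
  kernel.lift _ ((ModSite.restr O X).map ((ModSite.sectOnι O U).app N))
    ((comp_unit_eq_zero_iff (UX U X) (O.over X) _).2 (restr_restr_ι O U X N))

lemma cmpMap_ι (N : ModSite.Mod O) :
    cmpMap O U X N ≫ (ModSite.sectOnι (O.over X) (UX U X)).app ((ModSite.restr O X).obj N) =
      (ModSite.restr O X).map ((ModSite.sectOnι O U).app N) :=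
  kernel.lift_ι _ _ _

instance mono_cmpMap (N : ModSite.Mod O) : Mono (cmpMap O U X N) := by
  haveI : Mono ((ModSite.sectOnι O U).app N) := inferInstanceAs (Mono (kernel.ι _))
  haveI : (ModSite.restr O X).PreservesMonomorphisms :=
    preservesMonomorphisms_of_preservesLimitsOfShape _
  exact mono_of_mono_fac (cmpMap_ι O U X N)

instance isIso_cmpMap (N : ModSite.Mod O) : IsIso (cmpMap O U X N) := by
  have : Epi (cmpMap O U X N) := by
    apply (SheafOfModules.toSheaf _).epi_of_epi_map
    refine (Sheaf.isLocallySurjective_iff_epi' _ _).1 ?_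
    refine Presheaf.isLocallySurjective_of_surjective _
      ((SheafOfModules.toSheaf _).map (cmpMap O U X N)).hom ?_
    rintro ⟨W⟩ s
    let ι' := (ModSite.sectOnι (O.over X) (UX U X)).app ((ModSite.restr O X).obj N)
    obtain ⟨t, ht⟩ := SectRestrict.exists_sect O U W.left
      ((ι'.val.app (op W) s : N.val.obj (op W.left))) (fun W' g ⟨b⟩ => by
        let W₀ : Over X := Over.mk (g ≫ W.hom)
        let g₀ : W₀ ⟶ W := Over.homMk g rfl
        refine ((PresheafOfModules.naturality_apply ι'.val g₀.op s).symm).trans ?_
        exact (restr_map_eq_zero_iff (UX U X) (O.over X) _).1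
          (restr_sectOnι (O.over X) (UX U X) _) (op W₀)
          ((nonempty_V_iff (J.over X) (UX U X) W₀).2
            ⟨Over.homMk (prod.lift b (g ≫ W.hom)) (prod.lift_snd _ _)⟩) _)
    refine ⟨t, ?_⟩
    have hinj : Function.Injective (ι'.val.app (op W)) := by
      haveI : Mono ι' := inferInstanceAs (Mono (kernel.ι _))
      haveI : (SheafOfModules.forget (ModSite.ringSh (O.over X))).IsRightAdjoint :=
        (ModTensor.Monoidal.adj.{u, u, u} (O.over X)).isRightAdjoint
      have h := (PresheafOfModules.mono_iff_surjective ((SheafOfModules.forget _).map ι')).1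
          inferInstance
      exact @h (op W)
    apply hinj
    exact (congrArg (fun ψ => ψ.val.app (op W) t) (cmpMap_ι O U X N)).trans ht
  exact isIso_of_mono_of_epi _

/-- `Γ_Z` commutes with localisation. -/
def sectRestrIso :
    ModSite.sectOn O U ⋙ ModSite.restr O X ≅
      ModSite.restr O X ⋙ ModSite.sectOn (O.over X) (UX U X) :=
  NatIso.ofComponents (fun N => asIso (cmpMap O U X N)) (fun {M N} f => by
    haveI : Mono ((ModSite.sectOnι (O.over X) (UX U X)).app ((ModSite.restr O X).obj N)) :=
      inferInstanceAs (Mono (kernel.ι _))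
    refine (cancel_mono ((ModSite.sectOnι (O.over X) (UX U X)).app ((ModSite.restr O X).obj N))).1 ?_
    dsimp only [asIso_hom, Functor.comp_map]
    rw [Category.assoc, Category.assoc]
    refine (congrArg (_ ≫ ·) (cmpMap_ι O U X N)).trans ?_
    refine Eq.trans ?_ (congrArg (_ ≫ ·) ((ModSite.sectOnι (O.over X) (UX U X)).naturality
      ((ModSite.restr O X).map f))).symm
    refine Eq.trans ?_ (Category.assoc _ _ _)
    refine Eq.trans ?_ (congrArg (· ≫ _) (cmpMap_ι O U X M)).symm
    exact ((ModSite.restr O X).map_comp _ _).symm.trans ((congrArg (ModSite.restr O X).map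
      ((ModSite.sectOnι O U).naturality f)).trans ((ModSite.restr O X).map_comp _ _)))

/-- On a small ringed site (C, J, O) with O commutative and binary products in C, let U and X be
objects, Z the closed complement of the open generated by U, and Z/X the closed complement of the
object U × X → X of the localised site C/X. The formation of the local cohomology sheaves ℋ^q_Z
(right derived functors of the sections-with-support functor Γ_Z on O-modules) commutes with
localisation: M ↦ ℋ^q_Z(M)|_X is isomorphic to M ↦ ℋ^q_{Z/X}(M|_X). (Existence of an isomorphism of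
functors only. The direct image along the localisation at U × X → X and injective resolutions of
modules on C and on C/X are the stated instance hypotheses, all true.) -/
theorem result {C : Type u} [SmallCategory C] {J : GrothendieckTopology C}
    (O : Sheaf J CommRingCat.{u}) [HasBinaryProducts C] (U X : C)
    [ModSite.HasPushOver (O.over X) (Over.mk (Limits.prod.snd : U ⨯ X ⟶ X))]
    [HasInjectiveResolutions (ModSite.Mod O)] [HasInjectiveResolutions (ModSite.Mod (O.over X))] (q : ℕ) :
    Nonempty (ModSite.HZsh O U q ⋙ ModSite.restr O X ≅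
      ModSite.restr O X ⋙ ModSite.HZsh (O.over X) (Over.mk (Limits.prod.snd : U ⨯ X ⟶ X)) q) := by
  haveI := ExtZero.ModSite.preservesFiniteLimits_extZero O X
  haveI : (ModSite.extZero O X).PreservesMonomorphisms := preservesMonomorphisms_of_preservesLimitsOfShape _
  haveI : (ModSite.restr O X).PreservesInjectiveObjects :=
    ⟨fun {I} hI => (ModSite.extZeroAdj O X).map_injective I hI⟩
  haveI : (ModSite.restr O X).IsRightAdjoint := (ModSite.extZeroAdj O X).isRightAdjoint
  haveI : PreservesFiniteColimits (ModSite.restr O X) :=
    PreservesColimitsOfSize.preservesFiniteColimits _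
  exact ⟨(DerivedNat.postIso (ModSite.sectOn O U) (ModSite.restr O X) q).symm ≪≫
    SpecSeq.HomExtNat.rightDerivedMapIso (sectRestrIso O U X) q ≪≫
    DerivedNat.preIso (ModSite.restr O X) (ModSite.sectOn (O.over X) (UX U X)) q⟩

end Groth.Agent.S12888
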