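import Groth.Statements.S12890
import Groth.Statements.S12890
import Groth.Agent.H30.DerivedSES
import Groth.Agent.H30.DerivedNat
import Groth.Agent.Lib.BigEt.Derived
import Groth.Agent.Lib.ExtZero.ModSite
import Groth.Agent.Lib.ModSS29.TA

set_option autoImplicit false
universe u
open CategoryTheory CategoryTheory.Limits
open ModSite

set_option linter.style.haveILetI false
set_option backward.isDefEq.respectTransparency.types false

noncomputable section

namespace Groth.Agent.S12890

open Opposite Groth.Agent.Lib Groth.Agent.Lib.ExtZero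

variable {C : Type u} [SmallCategory C] {J : GrothendieckTopology C}
  (O : Sheaf J CommRingCat.{u}) (U : C) (hU : ∀ V : C, Subsingleton (V ⟶ U))

/-- The ring sheaf. -/
abbrev A : Sheaf J RingCat.{u} := ModSite.ringSh O

/-- Maps out of the presheaf extension by zero. -/
def adjP : ExtZero.Presheaf.E (A O).obj U ⋙ ExtZero.Sheaf.L (A O) ⊣
    ExtZero.Sheaf.G (A O) ⋙ ExtZero.Presheaf.restrP (A O).obj U :=
  (ExtZero.Presheaf.adj (A O).obj U).comp (ExtZero.Sheaf.adjL (A O))

include hU in
lemma injective_descSec (N : PresheafOfModules.{u} (A O).obj) (V : Cᵒᵖ) :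
    Function.Injective (ExtZero.Presheaf.descSec
      (𝟙 ((ExtZero.Presheaf.restrP (A O).obj U).obj N)) V) := by
  haveI := hU V.unop
  classical
  refine (injective_iff_map_eq_zero (ExtZero.Presheaf.descSec
      (𝟙 ((ExtZero.Presheaf.restrP (A O).obj U).obj N)) V).toAddMonoidHom).2 fun z hz => ?_
  by_cases h : Nonempty (V.unop ⟶ U)
  · obtain ⟨φ⟩ := h
    have e : z = ExtZero.Presheaf.inc _ φ (z φ) := DFinsupp.ext fun ψ => by
      rw [Subsingleton.elim ψ φ]
      unfold ExtZero.Presheaf.inc
      letI := Classical.decEq (V.unop ⟶ U)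
      exact (DirectSum.lof_apply (R := (A O).obj.obj V)
        (M := fun ψ : V.unop ⟶ U => ExtZero.Presheaf.Fib ((ExtZero.Presheaf.restrP (A O).obj U).obj N) ψ) φ (z φ)).symm
    have h0 : z φ = 0 := by
      refine Eq.trans ?_ hz
      rw [e]
      refine Eq.trans ?_ (ExtZero.Presheaf.descSec_inc _ φ _).symm
      exact congrArg (fun w => w φ) e.symm
    rw [e, h0, map_zero]
  · exact DFinsupp.ext fun ψ => absurd ⟨ψ⟩ h

include hU in
lemma mono_counit (M : ModSite.Mod O) : Mono ((adjP O U).counit.app M) := by
  let c := (ExtZero.Presheaf.adj (A O).obj U).counit.app ((ExtZero.Sheaf.G (A O)).obj M)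
  haveI : Mono c := PresheafOfModules.mono_of_injective fun {V} => by
    intro a b hab
    exact injective_descSec O U hU ((ExtZero.Sheaf.G (A O)).obj M) V hab
  haveI : PreservesFiniteLimits (ExtZero.Sheaf.L (A O)) :=
    inferInstanceAs (PreservesFiniteLimits (PresheafOfModules.sheafification.{u} (𝟙 (A O).obj)))
  haveI : (ExtZero.Sheaf.L (A O)).PreservesMonomorphisms :=
    preservesMonomorphisms_of_preservesLimitsOfShape _
  haveI : (ExtZero.Sheaf.G (A O)).Full := (SheafOfModules.fullyFaithfulForget (A O)).full
  haveI : IsIso (ExtZero.Sheaf.adjL (A O)).counit :=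
    (ExtZero.Sheaf.adjL (A O)).counit_isIso_of_R_fully_faithful
  rw [adjP, Adjunction.comp_counit_app]
  exact mono_comp _ _

include hU in
/-- Maps between restrictions extend into injectives. -/
lemma exists_extend (P I : ModSite.Mod O) [Injective I]
    (y : (ModSite.restr O U).obj P ⟶ (ModSite.restr O U).obj I) :
    ∃ k : P ⟶ I, (ModSite.restr O U).map k = y := by
  let S := ExtZero.Sheaf.GU (A O) U
  let e := adjP O U
  haveI : Mono ((e.homEquiv _ _).symm (𝟙 ((ExtZero.Sheaf.G (A O) ⋙
      ExtZero.Presheaf.restrP (A O).obj U).obj P))) := by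
    rw [Adjunction.homEquiv_counit, CategoryTheory.Functor.map_id, Category.id_comp]
    exact mono_counit O U hU P
  let a := (e.homEquiv ((ExtZero.Sheaf.G (A O) ⋙ ExtZero.Presheaf.restrP (A O).obj U).obj P) I).symm
    (S.map y)
  let m := (e.homEquiv _ _).symm
    (𝟙 ((ExtZero.Sheaf.G (A O) ⋙ ExtZero.Presheaf.restrP (A O).obj U).obj P))
  refine ⟨Injective.factorThru a m, SheafOfModules.hom_ext ?_⟩
  have h : m ≫ Injective.factorThru a m = a := Injective.comp_factorThru a m
  have h' := congrArg (e.homEquiv _ _) h
  rw [Adjunction.homEquiv_naturality_right, Equiv.apply_symm_apply, Equiv.apply_symm_apply,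
    Category.id_comp] at h'
  exact h'

variable [ModSite.HasPushOver O U]

include hU in
lemma epi_unit (I : ModSite.Mod O) [Injective I] :
    Epi ((ModSite.restrPushOverAdj O U).unit.app I) := by
  let adj := ModSite.restrPushOverAdj O U
  obtain ⟨k, hk⟩ := exists_extend O U hU _ I (adj.counit.app ((ModSite.restr O U).obj I))
  have : IsSplitEpi (adj.unit.app I) := ⟨⟨⟨k, by
    refine (adj.unit.naturality k).trans ?_
    exact (congrArg (fun t => _ ≫ (ModSite.pushOver O U).map t) hk).trans
      (adj.right_triangle_components _)⟩⟩⟩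
  exact IsSplitEpi.epi _

lemma isZero_id [HasInjectiveResolutions (ModSite.Mod O)] (n : ℕ) (Z : ModSite.Mod O) :
    IsZero (((𝟭 (ModSite.Mod O)).rightDerived (n + 1)).obj Z) :=
  haveI : EnoughInjectives (ModSite.Mod O) := inferInstance
  BigEt.Derived.isZero_of_exact _ (n + 1) n.succ_pos Z

/-- On a small ringed site (C, J, O) with O commutative, let U be a subterminal object (every object has
at most one morphism to U), Z its closed complement and j_{U*} the direct image of modules along the
localisation C/U → C. Then ℋ^1_Z is isomorphic to the cokernel of the unit M → j_{U*}(M|_U) (so that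
0 → ℋ^0_Z(M) → M → j_{U*}(M|_U) → ℋ^1_Z(M) → 0 is exact), and for every q ≥ 1 the functor ℋ^{q+1}_Z
is isomorphic to M ↦ R^q j_{U*}(M|_U). (Existence of isomorphisms of functors only. The direct image
j_{U*} with its additivity and injective resolutions of modules on C and on C/U are the stated
instance hypotheses, all true.) -/
theorem result {C : Type u} [SmallCategory C] {J : GrothendieckTopology C}
    (O : Sheaf J CommRingCat.{u}) (U : C)
    (hU : ∀ V : C, Subsingleton (V ⟶ U)) [ModSite.HasPushOver O U] [(ModSite.pushOver O U).Additive]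
    [HasInjectiveResolutions (ModSite.Mod O)] [HasInjectiveResolutions (ModSite.Mod (O.over U))] :
    Nonempty (ModSite.HZsh O U 1 ≅ cokernel (ModSite.restrPushOverAdj O U).unit) ∧
      ∀ q : ℕ, 1 ≤ q →
        Nonempty (ModSite.HZsh O U (q + 1) ≅ ModSite.restr O U ⋙ (ModSite.pushOver O U).rightDerived q) := by
  haveI : EnoughInjectives (ModSite.Mod O) := inferInstance
  haveI : EnoughInjectives (ModSite.Mod (O.over U)) := inferInstance
  haveI := ExtZero.ModSite.preservesFiniteLimits_extZero O U
  haveI : (ModSite.extZero O U).PreservesMonomorphisms :=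
    preservesMonomorphisms_of_preservesLimitsOfShape _
  haveI : (ModSite.restr O U).PreservesInjectiveObjects :=
    ⟨fun {I} hI => (ModSite.extZeroAdj O U).map_injective I hI⟩
  haveI : (ModSite.restr O U).IsRightAdjoint := (ModSite.extZeroAdj O U).isRightAdjoint
  haveI : PreservesFiniteColimits (ModSite.restr O U) :=
    PreservesColimitsOfSize.preservesFiniteColimits _
  haveI : PreservesLimitsOfSize.{0, 0} (ModSite.restr O U) :=
    (ModSite.extZeroAdj O U).rightAdjoint_preservesLimits
  haveI : PreservesFiniteLimits (ModSite.restr O U) :=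
    PreservesLimitsOfSize.preservesFiniteLimits _
  haveI : PreservesLimitsOfSize.{0, 0} (ModSite.pushOver O U) :=
    (ModSite.restrPushOverAdj O U).rightAdjoint_preservesLimits
  haveI : (ModSite.pushOver O U).IsRightAdjoint := (ModSite.restrPushOverAdj O U).isRightAdjoint
  haveI : PreservesFiniteLimits (ModSite.pushOver O U) :=
    PreservesLimitsOfSize.preservesFiniteLimits _
  haveI : PreservesFiniteLimits (ModSite.restr O U ⋙ ModSite.pushOver O U) :=
    comp_preservesFiniteLimits _ _
  let ι := ModSite.sectOnι O U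
  let η : 𝟭 (ModSite.Mod O) ⟶ ModSite.restr O U ⋙ ModSite.pushOver O U :=
    (ModSite.restrPushOverAdj O U).unit
  have w : ∀ Z, ι.app Z ≫ η.app Z = 0 := fun Z => kernel.condition _
  have hS : ∀ I : ModSite.Mod O, Injective I →
      (ShortComplex.mk (ι.app I) (η.app I) (w I)).ShortExact := fun I hI =>
    haveI := hI
    { exact := ShortComplex.exact_of_f_is_kernel _ (kernelIsKernel _)
      mono_f := equalizer.ι_mono
      epi_g := epi_unit O U hU I }
  refine ⟨⟨(H30.DerivedSES.cokernelIso ι η w hS (isZero_id O 0)).symm⟩, fun q hq => ?_⟩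
  obtain ⟨k, rfl⟩ : ∃ k, q = k + 1 := ⟨q - 1, by omega⟩
  exact ⟨(H30.DerivedSES.δIso ι η w hS (k + 1) (isZero_id O k) (isZero_id O (k + 1))).symm ≪≫
    H30.DerivedNat.precompNatIso (ModSite.restr O U) (ModSite.pushOver O U) (k + 1)⟩

end Groth.Agent.S12890
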