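import Groth.Statements.S12893
import Groth.Agent.Lib.ModSS29.SectHom
-- import your own Groth.Agent.* helpers here

set_option autoImplicit false
universe u
open CategoryTheory CategoryTheory.Limits
open ModSite

namespace Groth.Agent.S12893
open Groth.Agent.Lib Groth.Agent.Lib.ModSS29 Groth.Agent.Lib.ModSS29.Rows

/-- On a small ringed site (C, J, O) with O commutative, let U be an object with Z the closed complement
of the open it generates, M an O-module, Γ_Z the sections-with-support functor (kernel of N →
j_{U*}(N|_U)) and M_Z the cokernel of j_{U!}(M|_U) → M. Then the functors N ↦ Γ_Z(ℋom_O(M, N)), N ↦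
ℋom_O(M, Γ_Z(N)) and N ↦ ℋom_O(M_Z, N) are isomorphic. (Existence of isomorphisms of functors only.
The direct image along the localisation at U and the internal Hom functors of M and of M_Z are the
stated instance hypotheses, all true.) -/
theorem result {C : Type u} [SmallCategory C] {J : GrothendieckTopology C}
    (O : Sheaf J CommRingCat.{u}) (U : C) (M : ModSite.Mod O)
    [ModSite.HasPushOver O U] [ModSite.HasSheafHom M] [ModSite.HasSheafHom ((ModSite.quotOn O U).obj M)] :
    Nonempty (ModSite.sheafHom M ⋙ ModSite.sectOn O U ≅ ModSite.sectOn O U ⋙ ModSite.sheafHom M) ∧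
      Nonempty (ModSite.sheafHom M ⋙ ModSite.sectOn O U ≅ ModSite.sheafHom ((ModSite.quotOn O U).obj M)) := by
  haveI := ModTensor.ModSite.hasSheafHom ((OpenFree.Qt U O).obj M)
  refine ⟨⟨SS.radjIso ((OpenFree.adjQ U O).comp (ModSite.sheafHomAdj M))
      ((ModSite.sheafHomAdj M).comp (OpenFree.adjQ U O)) ?_⟩,
    ⟨SectHom.homSectIso O U M ≪≫ SS.radjIso (ModSite.sheafHomAdj _)
      (ModSite.sheafHomAdj ((ModSite.quotOn O U).obj M))
      ((ModSite.tensorBi O).flip.mapIso ((OpenFree.qtIsoQuotOn U O).app M))⟩⟩
  let fQ := ModTensor.ModSite.flipObjIso (OpenFree.Q U O)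
  exact Functor.isoWhiskerRight fQ.symm ((ModSite.tensorBi O).flip.obj M) ≪≫
    ModTensor.ModSite.flipCompIso (OpenFree.Q U O) M ≪≫
    (ModSite.tensorBi O).flip.mapIso (ModTensor.ModSite.commIso (OpenFree.Q U O) M) ≪≫
    (ModTensor.ModSite.flipCompIso M (OpenFree.Q U O)).symm ≪≫
    Functor.isoWhiskerLeft _ fQ

end Groth.Agent.S12893
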