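import Groth.Statements.S12894
import Groth.Agent.Lib.EtSite.LocBC
import Groth.Agent.Lib.EtSite.LocFlat
import Groth.Agent.Lib.EtSite.LocField
import Groth.Agent.Lib.EtSite.SetsFromAb
-- import your own Groth.Agent.* helpers here

set_option autoImplicit false
universe u
open CategoryTheory CategoryTheory.Limits AlgebraicGeometry
open CohProp

namespace Groth.Agent.S12894

open Groth.Agent.Lib.EtSite Groth.Agent.Lib.EtLim50 IsLocalRing in
/-- Maps of strictly local schemes over a field have connected geometric fibres. -/
theorem connectedSpace_funct_fibre {k : Type u} [Field k] {X : Scheme.{u}} (f : X ⟶ Spec (CommRingCat.of k))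
    {Ω : Type u} [Field Ω] [IsSepClosed Ω] (η : Spec (CommRingCat.of Ω) ⟶ X) {K : Type u} [Field K]
    (s : Spec (CommRingCat.of K) ⟶ Nbhds.S (Spec (CommRingCat.of k)) (η ≫ f)) :
    ConnectedSpace ↥(pullback (Spec.map (LocMap.funct f η)) s) := by
  obtain ⟨aR, lR, hR, sR⟩ := LocMap.exists_algebra (η ≫ f)
  let R := (Spec (CommRingCat.of k)).presheaf.stalk ((η ≫ f).base default)
  let A := EtBase.etaleLocalRing (η ≫ f)
  letI : Algebra R A := aR
  haveI : IsLocalHom (algebraMap R A) := lR
  haveI : Hensel.IsStrictHenselization R A := sR
  let p : PrimeSpectrum k := (η ≫ f).base default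
  letI : Algebra k R := StructureSheaf.stalkAlgebra k p
  haveI : IsLocalization.AtPrime R p.asIdeal := StructureSheaf.IsLocalization.to_stalk k p
  have hu : p.asIdeal.primeCompl ≤ IsUnit.submonoid k := fun y hy =>
    isUnit_iff_ne_zero.2 fun h0 => hy (h0 ▸ p.asIdeal.zero_mem)
  have hm : maximalIdeal R = ⊥ := IsLocalRing.isField_iff_maximalIdeal_eq.1
    ((IsLocalization.atUnits k p.asIdeal.primeCompl hu).toRingEquiv.symm.toMulEquiv.isField (Field.toIsField k))
  have h0 : maximalIdeal A = ⊥ := by
    rw [← Groth.Agent.Lib.Henselian.StrictHenselization.map_maximalIdeal R A, hm, Ideal.map_bot]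
  have hA : IsField A := IsLocalRing.isField_iff_maximalIdeal_eq.2 h0
  letI : Field A := hA.toField
  haveI : IsSepClosed (ResidueField A) := sR.isSepClosure.sep_closed
  let e : ResidueField A ≃+* A := (RingEquiv.ofBijective (residue A)
    ⟨(injective_iff_map_eq_zero _).2 fun r hr => by
      rwa [residue_eq_zero_iff, h0, Ideal.mem_bot] at hr, residue_surjective⟩).symm
  haveI : IsSepClosed A := Groth.Agent.Lib.Henselian.StrictHenselization.isSepClosed_of_ringEquiv e
  haveI : ConnectedSpace ↥(Spec (EtBase.etaleLocalRing η)) :=
    { isPreconnected_univ := by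
        refine isPreconnected_of_forall (IsLocalRing.closedPoint (EtBase.etaleLocalRing η))
          fun y _ => ⟨closure {y}, Set.subset_univ _, ?_, subset_closure rfl,
            isPreconnected_singleton.closure⟩
        exact specializes_iff_mem_closure.1 (IsLocalRing.specializes_closedPoint y)
      toNonempty := inferInstance }
  exact LocField.connectedSpace_pullback (k := A) (Spec.map (LocMap.funct f η)) s

/-- Let k be a field and f : X → Spec k a quasi-compact and quasi-separated morphism. Then for every
sheaf of sets F on the small étale site of X the pair (F, f) is cohomologically proper in dimension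
≤ 0: for every morphism of schemes g : Y' → Spec k and every cartesian square exhibiting X' as X ×_k
Y', with projections h : X' → X and f' : X' → Y', the base-change map g^* f_* F → f'_* h^* F is an
isomorphism. -/
theorem result (k : Type u) [Field k] (X : Scheme.{u})
    (f : X ⟶ Spec (CommRingCat.of k)) [QuasiCompact f] [QuasiSeparated f] (F : EtDesc.Sh X) :
    CohProp.IsCohPropSet (𝟙 (Spec (CommRingCat.of k))) f F := by
  intro S' Y' X' p g q' h f' _ sq
  open Groth.Agent.Lib.EtSite in
  exact SetsFromAb.isIso_baseChange0Sh sq.w (fun A => LocBC.isIso_baseChange0 sq A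
    (fun Ω _ _ η => @LocBC.gen_of_flat _ _ _
      (haveI : Flat g := inferInstance
       LocFlat.flat_specMap_funct g η))
    fun Ω _ _ η Ω' _ _ s => connectedSpace_funct_fibre g η s) F

end Groth.Agent.S12894
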