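import Groth.Statements.S12899
import Groth.Agent.Lib.DR.FlatGlue

set_option autoImplicit false
universe u
open CategoryTheory CategoryTheory.Limits
attribute [local instance] HasDerivedCategory.standard
open DRing

open Groth.Agent.Lib.DR
open scoped TensorProduct

namespace Groth.Agent.S12899

/-- Let R be a commutative ring, f ∈ R and M an object of D(R) such that (1) H^i(M) = 0 for i &gt; 0,
(2) in D(R_f), M ⊗^L_R R_f is isomorphic to a flat R_f-module concentrated in degree 0, and (3) in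
D(R/fR), M ⊗^L_R R/fR is isomorphic to a flat R/fR-module concentrated in degree 0. Then, in D(R), M
itself is isomorphic to a flat R-module concentrated in degree 0. (The derived base change functors
along R → R_f and R → R/fR are the stated instance hypotheses, both true.) -/
theorem result {R : Type u} [CommRing R] (f : R) (M : Dual.D R)
    [DRing.HasLBaseChange (algebraMap R (Localization.Away f))]
    [DRing.HasLBaseChange (Ideal.Quotient.mk (Ideal.span ({f} : Set R)))]
    (h1 : ∀ i : ℤ, 0 < i → Subsingleton (Dual.HD R M i))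
    (h2 : ∃ (N : Type u) (_ : AddCommGroup N) (_ : Module (Localization.Away f) N),
      Module.Flat (Localization.Away f) N ∧
        Nonempty ((DRing.LBaseChange (algebraMap R (Localization.Away f))).obj M ≅ Dual.inD (Localization.Away f) N))
    (h3 : ∃ (N : Type u) (_ : AddCommGroup N) (_ : Module (R ⧸ Ideal.span ({f} : Set R)) N),
      Module.Flat (R ⧸ Ideal.span ({f} : Set R)) N ∧
        Nonempty ((DRing.LBaseChange (Ideal.Quotient.mk (Ideal.span ({f} : Set R)))).obj M ≅
          Dual.inD (R ⧸ Ideal.span ({f} : Set R)) N)) :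
    ∃ (N : Type u) (_ : AddCommGroup N) (_ : Module R N), Module.Flat R N ∧ Nonempty (M ≅ Dual.inD R N) := by
  have hle : M.IsLE 0 := (PseudoCoherent.isLE_iff_subsingleton M 0).2 h1
  obtain ⟨P, hb, hp, ⟨e⟩⟩ := Representative.ba_free hle
  have hflat : ∀ i, PseudoCoherent.flat R (P.X i) := fun i => BaseChange.flat_of_free _ (hp i)
  have : DRing.HasLBaseChange (algebraMap R (R ⧸ Ideal.span ({f} : Set R))) :=
    inferInstanceAs (DRing.HasLBaseChange (Ideal.Quotient.mk (Ideal.span ({f} : Set R))))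
  obtain ⟨N₂, i₂, j₂, hN₂, ⟨e₂⟩⟩ := h2
  obtain ⟨N₃, i₃, j₃, hN₃, ⟨e₃⟩⟩ := h3
  have hex : ∀ (N : Type u) [AddCommGroup N] [Module R N], FlatGlue.Ex P N := fun N _ _ =>
    FlatGlue.ex_all f hb hflat ⟨N₂, i₂, j₂, hN₂, ⟨(DRing.LBaseChange _).mapIso e ≪≫ e₂⟩⟩
      ⟨N₃, i₃, j₃, hN₃, ⟨(DRing.LBaseChange (algebraMap R (R ⧸ Ideal.span ({f} : Set R)))).mapIso e ≪≫ e₃⟩⟩ N
  have hge : (DerivedCategory.Q.obj P).IsGE 0 := by
    rw [DerivedCategory.isGE_Q_obj_iff, CochainComplex.isGE_iff]
    intro i hi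
    rw [HomologicalComplex.exactAt_iff' _ (i - 1) i (i + 1) (by simp) (by simp),
      ShortComplex.ShortExact.moduleCat_exact_iff_function_exact]
    refine (Function.Exact.iff_of_ladder_linearEquiv
      (e₁ := TensorProduct.rid R (P.X (i - 1))) (e₂ := TensorProduct.rid R (P.X i))
      (e₃ := TensorProduct.rid R (P.X (i + 1)))
      (f₁₂ := (P.d (i - 1) i).hom.rTensor R) (f₂₃ := (P.d i (i + 1)).hom.rTensor R)
      ?_ ?_).2 (hex R i hi) <;> exact TensorProduct.ext' fun x r => (congrArg _ (TensorProduct.rid_tmul x r)).trans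
        ((LinearMap.map_smul _ r x).trans (TensorProduct.rid_tmul _ r).symm)
  have hc : PseudoCoherent.flat R (ModuleCat.of R ((P.X 0) ⧸ LinearMap.range (P.d (0 - 1) 0).hom)) :=
    TorAmp.flat_coker_of_exactAt P 0 (hflat 0) fun N => by
      rw [HomologicalComplex.exactAt_iff' _ (0 - 1 - 1) (0 - 1) (0 - 1 + 1) (by simp) (by simp),
        ShortComplex.ShortExact.moduleCat_exact_iff_function_exact]
      exact hex N (0 - 1) (by omega)
  obtain ⟨E, hE, hEf, ⟨eE⟩⟩ := TorAmp.bdd_of_opcycles BaseChange.good_flat hb (fun i _ => hflat i) hge hc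
  have : E.IsStrictlyGE 0 := (CochainComplex.isStrictlyGE_iff E 0).2 fun i hi => hE i (Or.inl hi)
  have : E.IsStrictlyLE 0 := (CochainComplex.isStrictlyLE_iff E 0).2 fun i hi => hE i (Or.inr hi)
  obtain ⟨Y, ⟨eY⟩⟩ := CochainComplex.exists_iso_single E 0
  refine ⟨Y, inferInstance, inferInstance, ?_, ⟨e.symm ≪≫ eE.symm ≪≫ DerivedCategory.Q.mapIso eY ≪≫
    ((DerivedCategory.singleFunctorIsoCompQ (ModuleCat R) 0).app Y).symm⟩⟩
  exact BaseChange.good_flat.iso (HomologicalComplex.Hom.isoApp eY 0 ≪≫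
    HomologicalComplex.singleObjXSelf (ComplexShape.up ℤ) 0 Y) (hEf 0)


end Groth.Agent.S12899
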