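import Groth.Statements.S1290
import Groth.Agent.S1237
import Groth.Agent.Lib.RG.NearFlat
import Groth.Agent.Lib.RG.OpenFlat

set_option autoImplicit false
universe u
open FlatMor

namespace Groth.Agent.S1290

/-- Ring form, X = Spec S, S = Spec R affine: let R be a ring with finitely many weakly associated
primes, S a finite type R-algebra and N a finite S-module. Then the set U of primes q of S with N_q
flat over R is open in Spec S, and every q in U has a basic open neighbourhood D(g) on which N is
flat over R and finitely presented relative to R (finitely presented over a polynomial ring over R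
surjecting onto S_g). -/
theorem result {R S : Type u} [CommRing R] [CommRing S] [Algebra R S] [Algebra.FiniteType R S]
    (hR : (FlatCA.weakAss R R).Finite)
    (N : Type u) [AddCommGroup N] [Module S N] [Module R N] [IsScalarTower R S N] [Module.Finite S N] :
    IsOpen {q : PrimeSpectrum S | FlatCA.FlatAt R q.asIdeal N} ∧
    ∀ (q : Ideal S) [q.IsPrime], FlatCA.FlatAt R q N → ∃ g : S, g ∉ q ∧
      Module.Flat R (LocalizedModule (Submonoid.powers g) N) ∧
      FlatCA.RelFinitePresentation R (Localization.Away g) (LocalizedModule (Submonoid.powers g) N) := by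
  classical
  obtain ⟨n, ψ, hψ⟩ := Algebra.FiniteType.iff_quotient_mvPolynomial''.1 (inferInstance : Algebra.FiniteType R S)
  let P := MvPolynomial (Fin n) R
  letI : Algebra P S := ψ.toRingHom.toAlgebra
  haveI : IsScalarTower R P S := IsScalarTower.of_algebraMap_eq' ψ.comp_algebraMap.symm
  haveI : Module.Finite P S := Module.Finite.of_surjective (Algebra.linearMap P S) hψ
  letI : Module P N := Module.compHom N (algebraMap P S)
  haveI : IsScalarTower P S N := IsScalarTower.of_algebraMap_smul fun _ _ => rfl
  haveI : IsScalarTower R P N := IsScalarTower.of_algebraMap_smul fun r x => by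
    show algebraMap P S (algebraMap R P r) • x = r • x
    rw [← IsScalarTower.algebraMap_apply, algebraMap_smul]
  haveI : Module.Finite P N := Module.Finite.trans S N
  have hiff : ∀ (q : Ideal S) [q.IsPrime],
      FlatCA.FlatAt R q N ↔ FlatCA.FlatAt R (q.comap (algebraMap P S)) N := fun q _ =>
    (Groth.Agent.Lib.RG.NearFlat.flatAt_restrict N (q := q.comap (algebraMap P S)) (q' := q) (fun c => by
      obtain ⟨a, ha⟩ := hψ c
      exact ⟨1, fun h => Ideal.IsPrime.ne_top inferInstance ((Ideal.eq_top_iff_one _).2 h), a, by
        rw [map_one, one_mul]; exact ha.symm⟩) rfl).symm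
  have key : ∀ (q : Ideal S) [q.IsPrime], FlatCA.FlatAt R q N → ∃ g : P, algebraMap P S g ∉ q ∧
      Module.FinitePresentation (Localization.Away g) (LocalizedModule (Submonoid.powers g) N) ∧
      Module.Flat R (LocalizedModule (Submonoid.powers g) N) := fun q _ hq =>
    (Groth.Agent.S1237.result hR N).2 (q.comap (algebraMap P S)) ((hiff q).1 hq)
  refine ⟨isOpen_iff_forall_mem_open.2 fun x hx => ?_, fun q _ hq => ?_⟩
  · obtain ⟨g, hg, -, hflat⟩ := key x.asIdeal hx
    exact ⟨PrimeSpectrum.basicOpen (algebraMap P S g),
      fun Q hQ => (hiff Q.asIdeal).2 (Groth.Agent.Lib.RG.OpenFlat.flatAt_of_away g _ hQ hflat),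
      (PrimeSpectrum.basicOpen (algebraMap P S g)).isOpen, hg⟩
  obtain ⟨g, hg, hfp, hflat⟩ := key q hq
  refine ⟨algebraMap P S g, hg, ?_⟩
  let Pg := Localization.Away g
  let Sh := Localization.Away (algebraMap P S g)
  let Nh := LocalizedModule (Submonoid.powers (algebraMap P S g)) N
  letI : Algebra Pg Sh := (IsLocalization.Away.map Pg Sh (algebraMap P S) g).toAlgebra
  haveI : IsScalarTower P Pg Sh := IsScalarTower.of_algebraMap_eq fun a => by
    show algebraMap P Sh a = IsLocalization.Away.map Pg Sh (algebraMap P S) g (algebraMap P Pg a)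
    rw [IsLocalization.Away.map, IsLocalization.map_eq]
    exact IsScalarTower.algebraMap_apply P S Sh a
  haveI : IsScalarTower R Pg Sh := IsScalarTower.of_algebraMap_eq fun a => by
    rw [IsScalarTower.algebraMap_apply R P Sh, IsScalarTower.algebraMap_apply P Pg Sh,
      ← IsScalarTower.algebraMap_apply R P Pg]
  letI : Module Pg Nh := Module.compHom Nh (algebraMap Pg Sh)
  haveI : IsScalarTower Pg Sh Nh := IsScalarTower.of_algebraMap_smul fun _ _ => rfl
  haveI : IsScalarTower P Pg Nh := IsScalarTower.of_algebraMap_smul fun a x => by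
    show algebraMap Pg Sh (algebraMap P Pg a) • x = a • x
    rw [← IsScalarTower.algebraMap_apply, algebraMap_smul]
  haveI : IsLocalizedModule (Algebra.algebraMapSubmonoid S (Submonoid.powers g))
      (LocalizedModule.mkLinearMap (Submonoid.powers (algebraMap P S g)) N) := by
    rw [Algebra.algebraMapSubmonoid_powers]
    infer_instance
  haveI := IsLocalizedModule.restrictScalars (R := P) (Submonoid.powers g)
    (LocalizedModule.mkLinearMap (Submonoid.powers (algebraMap P S g)) N)
  let e : LocalizedModule (Submonoid.powers g) N ≃ₗ[P] Nh :=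
    IsLocalizedModule.iso (Submonoid.powers g)
      ((LocalizedModule.mkLinearMap (Submonoid.powers (algebraMap P S g)) N).restrictScalars P)
  let e' : LocalizedModule (Submonoid.powers g) N ≃ₗ[Pg] Nh :=
    e.extendScalarsOfIsLocalization (Submonoid.powers g) Pg
  refine ⟨Module.Flat.of_linearEquiv (e.restrictScalars R).symm, n + 1, ?_⟩
  let v : Fin (n + 1) → Pg := Fin.snoc (fun i => algebraMap P Pg (MvPolynomial.X i))
    (IsLocalization.Away.invSelf g)
  let η : MvPolynomial (Fin (n + 1)) R →ₐ[R] Pg := MvPolynomial.aeval v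
  have hP : ∀ a : P, η (MvPolynomial.rename Fin.castSucc a) = algebraMap P Pg a := fun a => by
    rw [MvPolynomial.aeval_rename]
    exact congrArg (fun φ : P →ₐ[R] Pg => φ a) (MvPolynomial.algHom_ext (f := MvPolynomial.aeval (v ∘ Fin.castSucc))
      (g := IsScalarTower.toAlgHom R P Pg) fun i => by simp [v]; rfl)
  have hη : Function.Surjective η := fun z => by
    obtain ⟨m, a, ha⟩ := IsLocalization.Away.surj g z
    refine ⟨MvPolynomial.rename Fin.castSucc a * MvPolynomial.X (Fin.last n) ^ m, ?_⟩
    rw [map_mul, map_pow, hP, ← ha, MvPolynomial.aeval_X]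
    simp only [v, Fin.snoc_last]
    rw [mul_assoc, ← mul_pow, IsLocalization.Away.mul_invSelf, one_pow, mul_one]
  have hPS : Function.Surjective (algebraMap Pg Sh) := fun z => by
    obtain ⟨m, a, ha⟩ := IsLocalization.Away.surj (algebraMap P S g) z
    obtain ⟨b, rfl⟩ := hψ a
    refine ⟨algebraMap P Pg b * IsLocalization.Away.invSelf g ^ m, ?_⟩
    rw [map_mul, map_pow, ← IsScalarTower.algebraMap_apply, IsScalarTower.algebraMap_apply P S Sh]
    show algebraMap S Sh (ψ b) * _ = z
    rw [← ha, mul_assoc, ← mul_pow, show algebraMap S Sh (algebraMap P S g) =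
        algebraMap Pg Sh (algebraMap P Pg g) by rw [← IsScalarTower.algebraMap_apply,
          ← IsScalarTower.algebraMap_apply], ← map_mul, IsLocalization.Away.mul_invSelf, map_one, one_pow,
      mul_one]
  let Φ := (IsScalarTower.toAlgHom R Pg Sh).comp η
  refine ⟨Φ, hPS.comp hη, ?_⟩
  letI : Algebra (MvPolynomial (Fin (n + 1)) R) Pg := η.toRingHom.toAlgebra
  letI : Module (MvPolynomial (Fin (n + 1)) R) Nh := Module.compHom Nh Φ.toRingHom
  haveI : IsScalarTower (MvPolynomial (Fin (n + 1)) R) Pg Nh := IsScalarTower.of_algebraMap_smul fun _ _ => rfl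
  haveI : Algebra.FinitePresentation R Pg := Algebra.FinitePresentation.trans R P Pg
  haveI : Module.FinitePresentation (MvPolynomial (Fin (n + 1)) R) Pg :=
    Module.finitePresentation_of_surjective (Algebra.linearMap _ Pg) hη
      (Algebra.FinitePresentation.ker_fG_of_surjective η hη)
  haveI : Module.FinitePresentation Pg Nh := Module.FinitePresentation.of_equiv e'
  exact Module.FinitePresentation.trans (MvPolynomial (Fin (n + 1)) R) Nh Pg

end Groth.Agent.S1290
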