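import Groth.Statements.S12901
import Groth.Agent.S0056
import Groth.Agent.S11778
import Groth.Agent.H30.IdealLemmas

set_option autoImplicit false
universe u
open CategoryTheory AlgebraicGeometry
open FSch

namespace Groth.Agent.S12901

/-- Let A be a complete Noetherian local ring with maximal ideal m, and 𝔛 a formal scheme proper and
flat over A, presented as an adic system X_0 → X_1 → ⋯ over the thickenings Spec(A/m^{n+1}) (the
structure morphism is adic with proper level 0, and every level X_n → Spec(A/m^{n+1}) is flat). If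
X_0 is projective (it carries an ample invertible sheaf) and H^2(X_0, O_{X_0}) = 0, then 𝔛 is the
m-adic completion of a projective A-scheme: there are a proper A-scheme X carrying an ample
invertible sheaf and an isomorphism of systems, over the base, between 𝔛 and the completion of X
along the pulled-back ideal. -/
theorem result (A : Type u) [CommRing A] [IsLocalRing A]
    [IsNoetherianRing A] [IsAdicComplete (IsLocalRing.maximalIdeal A) A]
    (𝔛 : FSch.Sys.{u}) (f : 𝔛 ⟶ FSch.completionAlong (Spec (CommRingCat.of A)) (FSch.idealSpec A (IsLocalRing.maximalIdeal A)))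
    (hf : FSch.IsProperHom f) (hflat : ∀ n : ℕ, Flat ((f : FSch.Hom _ _).app n))
    (hproj : ∃ L₀ : (𝔛.X 0).Modules, CohB1.IsAmple L₀)
    (hH2 : Subsingleton (Coh.HH (𝔛.X 0) (Coh.structureModule (𝔛.X 0)) 2)) :
    ∃ (X : Scheme.{u}) (g : X ⟶ (Spec (CommRingCat.of A))) (L : X.Modules), IsProper g ∧ CohB1.IsAmple L ∧
      ∃ (h : FSch.PowCompat g ((FSch.idealSpec A (IsLocalRing.maximalIdeal A)).comap g) (FSch.idealSpec A (IsLocalRing.maximalIdeal A)))
        (e : 𝔛 ≅ FSch.completionAlong X ((FSch.idealSpec A (IsLocalRing.maximalIdeal A)).comap g)),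
        e.hom ≫ FSch.completionMap g ((FSch.idealSpec A (IsLocalRing.maximalIdeal A)).comap g) (FSch.idealSpec A (IsLocalRing.maximalIdeal A)) h = f := by
  let J := IsLocalRing.maximalIdeal A
  let K := FSch.idealSpec A J
  let f' : FSch.Hom 𝔛 (FSch.completionAlong (Spec (CommRingCat.of A)) K) := f
  have hK : ∀ n : ℕ, (CohB1.specQuot J n).ker = (K ^ (n + 1)).subschemeι.ker := fun n => by
    rw [Scheme.IdealSheafData.ker_subschemeι]
    exact Groth.Agent.H30.IdealLemmas.ker_specQuot A J n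
  let σ : ∀ n : ℕ, (FSch.completionAlong (Spec (CommRingCat.of A)) K).X n ⟶ Spec (CommRingCat.of (A ⧸ J ^ (n + 1))) := fun n =>
    IsClosedImmersion.lift (CohB1.specQuot J n) (K ^ (n + 1)).subschemeι (hK n).le
  have hσ : ∀ n, σ n ≫ CohB1.specQuot J n = FSch.completionToX (Spec (CommRingCat.of A)) K n := fun n =>
    IsClosedImmersion.lift_fac _ _ _
  haveI : ∀ n, IsIso (σ n) := fun n => IsClosedImmersion.isIso_lift _ _ (hK n)
  let p : ∀ n, 𝔛.X n ⟶ Spec (CommRingCat.of (A ⧸ J ^ (n + 1))) := fun n => f'.app n ≫ σ n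
  have hcart : ∀ n, IsPullback (𝔛.ι n) (p n) (p (n + 1)) (CohB1.specQuotTrans J n) := fun n =>
    (hf.1 n).paste_vert (IsPullback.of_vert_isIso ⟨by
      rw [← cancel_mono (CohB1.specQuot J (n + 1)), Category.assoc, Category.assoc, hσ,
        CohB1.specQuotTrans_specQuot, hσ]
      exact Scheme.IdealSheafData.inclusion_subschemeι _⟩)
  have hflat' : ∀ n, Flat (p n) := fun n => by
    haveI := hflat n
    exact inferInstanceAs (Flat (f'.app n ≫ σ n))
  have hp : IsProper (p 0) := by
    haveI : IsProper (f'.app 0) := hf.2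
    exact inferInstanceAs (IsProper (f'.app 0 ≫ σ 0))
  haveI : (𝔛.X 0).IsSeparated := ⟨by
    rw [Limits.terminal.hom_ext (Limits.terminal.from (𝔛.X 0)) (p 0 ≫ Limits.terminal.from _)]
    infer_instance⟩
  obtain ⟨L₀, hL₀⟩ := hproj
  obtain ⟨L, hL, ⟨e₀⟩, hLt⟩ := Groth.Agent.S11778.result A 𝔛.X p 𝔛.ι hcart hflat' hH2 L₀ hL₀.1
  obtain ⟨Y, g, M, e, hg, hM, hMa, hpb, he, -⟩ := Groth.Agent.S0056.result A J 𝔛.X p 𝔛.ι hcart hp L hL hLt
    (Groth.Agent.Lib.Ample.Pow.isAmple_of_iso e₀.symm hL₀)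
  refine ⟨Y, g, M, hg, hMa, ?_⟩
  let I := K.comap g
  have hI : ∀ n : ℕ, (K ^ (n + 1)).comap g = I ^ (n + 1) := fun n =>
    Groth.Agent.Lib.Ideal.Comap.comap_pow g K (n + 1)
  have h : FSch.PowCompat g I K := fun n => (hI n).le
  haveI : ∀ n, IsClosedImmersion (e n) := fun n =>
    MorphismProperty.of_isPullback (P := @IsClosedImmersion) (hpb n).flip
      (Groth.Agent.H30.IdealLemmas.isClosedImmersion_specQuot A J n)
  have hker : ∀ n, (I ^ (n + 1)).subschemeι.ker = (e n).ker := fun n => by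
    rw [Scheme.IdealSheafData.ker_subschemeι, ← (hpb n).isoPullback_hom_fst,
      Scheme.Hom.ker_comp_of_isIso, Scheme.IdealSheafData.ker_fst_of_isClosedImmersion,
      Groth.Agent.H30.IdealLemmas.ker_specQuot, hI]
  let φ : ∀ n : ℕ, 𝔛.X n ⟶ (FSch.completionAlong Y I).X n := fun n =>
    IsClosedImmersion.lift (I ^ (n + 1)).subschemeι (e n) (hker n).le
  have hφ : ∀ n, φ n ≫ FSch.completionToX Y I n = e n := fun n => IsClosedImmersion.lift_fac _ _ _
  haveI : ∀ n, IsIso (φ n) := fun n => IsClosedImmersion.isIso_lift _ _ (hker n)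
  have hc : ∀ n, φ n ≫ (FSch.completionAlong Y I).ι n = 𝔛.ι n ≫ φ (n + 1) := fun n => by
    refine (cancel_mono (FSch.completionToX Y I (n + 1))).1 ?_
    rw [Category.assoc, Category.assoc, hφ]
    exact ((congrArg (φ n ≫ ·) (Scheme.IdealSheafData.inclusion_subschemeι _)).trans (hφ n)).trans (he n)
  let E : 𝔛 ≅ FSch.completionAlong Y I :=
    { hom := ⟨φ, hc⟩
      inv := ⟨fun n => inv (φ n), fun n => by
        rw [IsIso.eq_comp_inv, Category.assoc, IsIso.inv_comp_eq]
        exact (hc n).symm⟩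
      hom_inv_id := FSch.Hom.ext (funext fun n => IsIso.hom_inv_id (φ n))
      inv_hom_id := FSch.Hom.ext (funext fun n => IsIso.inv_hom_id (φ n)) }
  refine ⟨h, E, FSch.Hom.ext (funext fun n => ?_)⟩
  refine (cancel_mono (FSch.completionToX (Spec (CommRingCat.of A)) K n)).1 ?_
  refine (Category.assoc _ _ _).trans ?_
  refine (congrArg (φ n ≫ ·) (Scheme.IdealSheafData.subschemeMap_subschemeι (I ^ (n + 1)) (K ^ (n + 1)) g
    (Scheme.IdealSheafData.le_map_iff_comap_le.mpr (h n)))).trans ?_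
  refine ((Category.assoc _ _ _).symm.trans (congrArg (· ≫ g) (hφ n))).trans ?_
  rw [(hpb n).w, ← hσ n]
  exact Category.assoc _ _ _

end Groth.Agent.S12901
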