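import Groth.Statements.S12903
import Groth.Agent.Lib.QCoh.Closure
import Groth.Agent.Lib.Modules.StalkModule
import Groth.Agent.Lib.Modules.Support

set_option autoImplicit false
universe u
open CategoryTheory CategoryTheory.Limits AlgebraicGeometry Opposite
open Coherent

namespace Groth.Agent.S12903

open Groth.Agent.Lib Groth.Agent.Lib.Modules.StalkModule Groth.Agent.Lib.QCoh.Localizing
open CategoryTheory CategoryTheory.Limits AlgebraicGeometry TopologicalSpace Opposite
set_option linter.style.haveILetI false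

variable {X : Scheme.{u}}

theorem res_eq_zero_iff (F : X.Modules) {V W : X.Opens} (h : W ≤ V) (s : Γ(F, V)) :
    res F h s = 0 ↔ ∀ (x : X) (hx : x ∈ W), F.presheaf.germ V x (h hx) s = 0 := by
  constructor
  · intro h0 x hx
    rw [← TopCat.Presheaf.germ_res_apply F.presheaf (homOfLE h) x hx s]
    exact (congrArg (F.presheaf.germ W x hx) h0).trans (map_zero _)
  · intro h0
    refine Modules.Support.eq_zero_of_germ_eq_zero (M := F) _ fun x hx _ => ?_
    refine Eq.trans ?_ (h0 x hx)
    exact TopCat.Presheaf.germ_res_apply F.presheaf (homOfLE h) x hx s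

theorem key {U : Scheme.{u}} (j : U ⟶ X) [IsOpenImmersion j] (F : X.Modules) [F.IsQuasicoherent]
    {V : X.Opens} (hV : IsAffineOpen V) (I : Ideal Γ(X, V)) (hI : I.FG)
    (hZ : ∀ x : X, x ∈ V → (x ∉ Set.range j.base ↔ ∀ f ∈ I, x ∉ X.basicOpen f))
    (s : Γ(F, V)) :
    (∃ y : Γ((DCoh.gammaZ j).obj F, V), ((CxOX.gammaZι j).app F).app V y = s) ↔
      ∃ n : ℕ, ∀ a ∈ I ^ n, a • s = 0 := by
  let η := (Scheme.Modules.restrictAdjunction j).unit.app F
  have hker : (∃ y : Γ((DCoh.gammaZ j).obj F, V), ((CxOX.gammaZι j).app F).app V y = s) ↔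
      η.app V s = 0 := by
    let S : ShortComplex X.Modules := ShortComplex.mk (kernel.ι η) η (kernel.condition η)
    haveI : Mono S.f := inferInstanceAs (Mono (kernel.ι η))
    constructor
    · rintro ⟨y, rfl⟩
      exact QCoh.Closure.sections_comp (S := S) V y
    · exact fun h => QCoh.Closure.sections_exact (S := S) (ShortComplex.exact_kernel η) V s h
  have hη : η.app V s = 0 ↔ ∀ (x : X) (hx : x ∈ V), x ∈ Set.range j.base →
      F.presheaf.germ V x hx s = 0 := by
    refine (res_eq_zero_iff F (j.image_preimage_le V) s).trans ⟨fun h x hx hr => ?_, fun h x hx => ?_⟩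
    · obtain ⟨u, rfl⟩ := hr
      exact h (j.base u) ⟨u, hx, rfl⟩
    · exact h x (j.image_preimage_le V hx) (Set.image_subset_range _ _ hx)
  rw [hker, hη]
  constructor
  · intro h
    have hf : ∀ f ∈ I, ∃ n : ℕ, f ^ n • s = 0 := by
      intro f hf
      have hz : res F (X.basicOpen_le f) s = res F (X.basicOpen_le f) 0 := by
        refine ((res_eq_zero_iff F (X.basicOpen_le f) s).mpr fun x hx => ?_).trans (map_zero _).symm
        exact h x (X.basicOpen_le f hx)
          (not_not.mp fun hr => ((hZ x (X.basicOpen_le f hx)).mp hr) f hf hx)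
      exact (localizes_of_isAffineOpen F hV f).sep s (hz.trans (map_zero _))
    let A : Ideal Γ(X, V) := LinearMap.ker (LinearMap.toSpanSingleton Γ(X, V) Γ(F, V) s)
    have hle : I ≤ A.radical := fun f hf' => by
      obtain ⟨n, hn⟩ := hf f hf'
      exact ⟨n, hn⟩
    obtain ⟨n, hn⟩ := Ideal.exists_pow_le_of_le_radical_of_fg hle hI
    exact ⟨n, fun a ha => hn ha⟩
  · rintro ⟨n, hn⟩ x hx hr
    obtain ⟨f, hf, hxf⟩ : ∃ f ∈ I, x ∈ X.basicOpen f := by
      by_contra hc
      push Not at hc
      exact ((hZ x hx).mpr hc) hr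
    have hu : IsUnit (X.presheaf.germ V x hx f) := (X.mem_basicOpen f x hx).mp hxf
    have h0 := congrArg (F.presheaf.germ V x hx) (hn _ (Ideal.pow_mem_pow hf n))
    rw [germ_smul, map_pow, map_zero] at h0
    exact (hu.pow n).smul_eq_zero.mp h0

/-- Let X be a scheme, j : U → X a quasi-compact open immersion with closed complement Z, F a
quasi-coherent O_X-module, V an affine open of X and I a finitely generated ideal of Γ(V, O_X)
cutting out Z ∩ V (a point of V lies outside U if and only if it lies in no basic open X_f with f ∈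
I). Then a section s of F over V belongs to the subsheaf Γ_Z(F) of sections supported in Z (the
kernel of F → j_*(F|_U)) if and only if I^n s = 0 for some n. -/
theorem result {U X : Scheme.{u}} (j : U ⟶ X) [IsOpenImmersion j] [QuasiCompact j]
    (F : X.Modules) (hF : Coh.IsQCoh F) (V : X.Opens) (hV : IsAffineOpen V)
    (I : Ideal (X.ringCatSheaf.obj.obj (op V))) (hI : I.FG)
    (hZ : ∀ x : X, x ∈ V → (x ∉ Set.range j.base ↔ ∀ f ∈ I, x ∉ X.basicOpen (f : Γ(X, V))))
    (s : F.val.obj (op V)) :
    s ∈ Set.range ((((CxOX.gammaZι j).app F).val.app (op V)).hom) ↔ ∃ n : ℕ, ∀ a ∈ I ^ n, a • s = 0 := by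
  haveI : F.IsQuasicoherent := hF
  exact key j F hV I hI hZ s

end Groth.Agent.S12903
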