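import Groth.Statements.S12905
import Groth.Agent.Lib.ProjKoszul.Reg2
import Groth.Agent.Lib.CohBasics.Closure
import Groth.Agent.Lib.GrothVanSupport
import Groth.Agent.Lib.Modules.SupportOps
import Groth.Agent.Lib.Snapper.DimBound
import Groth.Agent.Lib.ProjSpace.Basic

set_option autoImplicit false
universe u
open CategoryTheory CategoryTheory.Limits AlgebraicGeometry
open Variety

namespace Groth.Agent.S12905
open CategoryTheory CategoryTheory.Limits AlgebraicGeometry

/-- Let k be a field and φ : F' → F a monomorphism of coherent modules on P^n_k whose cokernel has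
support of Krull dimension at most zero (a finite set of closed points, possibly empty). If F' is
m-regular then F is m-regular. (The published statement is the case of an ideal sheaf contained in
the ideal sheaf of a curve with quotient supported at finitely many points, phrased as an inequality
of regularities; the argument gives the form stated here.) -/
theorem result (k : Type u) [Field k] (n : ℕ)
    (F' F : (CohB1.ProjSpace n k).Modules) (hF' : Coh.IsCoh F') (hF : Coh.IsCoh F) (φ : F' ⟶ F) [Mono φ]
    (hsupp : topologicalKrullDim (CohB1.support (cokernel φ)) ≤ 0) (m : ℤ)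
    (h : Curv2.IsMRegular k n F' m) : Curv2.IsMRegular k n F m := by
  haveI : IsProper (CohB1.ProjSpace n k ↘ Spec (CommRingCat.of k)) := Lib.ProjSpace.Basic.isProper_toSpec n k
  obtain ⟨N, hN⟩ := Lib.Snapper.DimBound.exists_dim_bound k (CohB1.ProjSpace n k)
  intro i hi hin
  have hC : Coh.IsCoh (cokernel φ) := Lib.CohBasics.Closure.isCoh_cokernel φ hF'.1 hF
  have hS : (ShortComplex.mk φ (cokernel.π φ) (cokernel.condition φ)).ShortExact :=
    ShortComplex.ShortExact.mk' (ShortComplex.exact_cokernel φ) inferInstance inferInstance
  refine Lib.ProjKoszul.Reg2.sub₂ k (Lib.ProjCoh.Coherent.shortExact_tw hS (m - i)) (h i hi hin) ?_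
  let T := CohB1.tensorMod (cokernel φ) (Twist.twistProjSpace n k (m - i))
  have hT : Coh.IsCoh T := Lib.ProjCoh.Coherent.isCoh_tensorMod hC (Lib.ProjCoh.Coherent.isCoh_tw _)
  have := hT.2
  have := hC.2
  have : SheafOfModules.IsFiniteType (R := (CohB1.ProjSpace n k).ringCatSheaf) (Twist.twistProjSpace n k (m - i)) :=
    (Lib.ProjCoh.Coherent.isCoh_tw (n := n) (R := k) (m - i)).2
  haveI := Lib.Curves.GlobalSections.isNoetherian_of_proper k (CohB1.ProjSpace n k)
  refine Lib.GrothVanSupport.subsingleton_HH N hN T (d := 0) ?_ i (by omega)
  refine le_trans ?_ hsupp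
  exact Topology.IsInducing.topologicalKrullDim_le (Topology.IsInducing.subtypeVal.codRestrict
    (s := CohB1.support (cokernel φ)) fun x => ((Lib.Modules.SupportOps.support_tensorMod _ _).le x.2).1)

end Groth.Agent.S12905
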