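import Groth.Statements.S1291
import Groth.Statements.S1291
import Groth.Agent.H20.FittingEtale

set_option autoImplicit false
universe u
open FlatMor

namespace Groth.Agent.S1291

/-- Let A → C be finite locally free of rank d (C a finite projective A-module of constant rank d), h ∈
C such that C_h is étale over A, and J an ideal of C. Let I be the zeroth Fitting ideal of C/J
regarded as a finite A-module. Then the extension of I to C_h equals J·J' for some ideal J' of C_h
(J extended to C_h); and if J is finitely generated then so are I and J'. -/
theorem result {A C : Type u} [CommRing A] [CommRing C] [Algebra A C] [Module.Finite A C] [Module.Projective A C]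
    (d : ℕ) (hd : ∀ p : PrimeSpectrum A, Module.rankAtStalk (R := A) C p = d)
    (h : C) [Algebra.Etale A (Localization.Away h)] (J : Ideal C) :
    ∃ J' : Ideal (Localization.Away h),
      (FlatCA.fittingZero A (C ⧸ J)).map (algebraMap A (Localization.Away h)) = J.map (algebraMap C (Localization.Away h)) * J' ∧
      (J.FG → (FlatCA.fittingZero A (C ⧸ J)).FG ∧ J'.FG) := by
  obtain ⟨J', h1, h2⟩ := Groth.Agent.H20.FittingEtale.exists_factor (A := A) (L := Localization.Away h) h J
  refine ⟨J', ?_, fun hJ => ?_⟩
  · rw [Groth.Agent.H20.FittingEtale.fittingZero_eq]; exact h1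
  · haveI := Groth.Agent.H20.FittingEtale.finitePresentation_quotient (A := A) hJ
    exact ⟨by rw [Groth.Agent.H20.FittingEtale.fittingZero_eq]; exact Groth.Agent.H20.FittingEtale.ideal_fg 0, h2 inferInstance⟩

end Groth.Agent.S1291
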