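import Groth.Statements.S12910
import Groth.Agent.Lib.ProjKoszul.Reg2
import Groth.Agent.Lib.CohBasics.Closure
import Groth.Agent.Lib.GrothVanSupport
import Groth.Agent.Lib.Modules.SupportOps
import Groth.Agent.Lib.Snapper.DimBound
import Groth.Agent.Lib.ProjSpace.Basic

set_option autoImplicit false
universe u
open CategoryTheory CategoryTheory.Limits AlgebraicGeometry
open Variety

namespace Groth.Agent.S12910
open CategoryTheory CategoryTheory.Limits AlgebraicGeometry

section
open Lib.ProjCoh.Coherent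

variable {k : Type u} [Field k] {n : ℕ}

private theorem reg {F : (CohB1.ProjSpace n k).Modules} (hF : Coh.IsCoh F) {m : ℤ}
    (h : Curv2.IsMRegular k n F m) : Lib.ProjKoszul.Regularity.Reg F m := fun i hi => by
  by_cases hin : i ≤ n
  · exact h i hi hin
  · have := (isCoh_tensorMod hF (isCoh_tw (n := n) (R := k) (m - i))).1
    exact Lib.ProjCoh.Twist.subsingleton_HH_of_lt _ (by omega)

private theorem high {H : (CohB1.ProjSpace n k).Modules} (hH : Coh.IsCoh H)
    (hs : topologicalKrullDim (CohB1.support H) ≤ 1) (r : ℤ) (i : ℕ) (hi : 2 ≤ i) :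
    Subsingleton (Coh.HH (CohB1.ProjSpace n k) (CohB1.tensorMod H (tw n k r)) i) := by
  haveI : IsProper (CohB1.ProjSpace n k ↘ Spec (CommRingCat.of k)) := Lib.ProjSpace.Basic.isProper_toSpec n k
  obtain ⟨N, hN⟩ := Lib.Snapper.DimBound.exists_dim_bound k (CohB1.ProjSpace n k)
  haveI := Lib.Curves.GlobalSections.isNoetherian_of_proper k (CohB1.ProjSpace n k)
  have := hH.2
  have : SheafOfModules.IsFiniteType (R := (CohB1.ProjSpace n k).ringCatSheaf) (tw n k r) := (isCoh_tw r).2
  have := (isCoh_tensorMod hH (isCoh_tw (n := n) (R := k) r)).2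
  refine Lib.GrothVanSupport.subsingleton_HH N hN _ (d := 1) ?_ i (by omega)
  refine le_trans ?_ hs
  exact Topology.IsInducing.topologicalKrullDim_le (Topology.IsInducing.subtypeVal.codRestrict
    (s := CohB1.support H) fun x => ((Lib.Modules.SupportOps.support_tensorMod _ _).le x.2).1)

end


/-- Let k be a field, d an integer, and E a bounded chain complex ⋯ → E_2 → E_1 → E_0 of coherent
modules on P^n_k (E_s = 0 for s large) such that E_s is (d + s)-regular for every s and, for every i
> 0, the homology sheaf H_i(E) has support of Krull dimension at most 1. Then the cokernel of E_1 →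
E_0 is d-regular and the image of E_1 → E_0 is (d + 1)-regular. -/
theorem result (k : Type u) [Field k] (n : ℕ)
    (E : ChainComplex ((CohB1.ProjSpace n k).Modules) ℕ) (t : ℕ) (hbdd : ∀ s : ℕ, t < s → IsZero (E.X s))
    (hcoh : ∀ s : ℕ, Coh.IsCoh (E.X s)) (d : ℤ)
    (hreg : ∀ s : ℕ, Curv2.IsMRegular k n (E.X s) (d + s))
    (hsupp : ∀ i : ℕ, 0 < i → topologicalKrullDim (CohB1.support (E.homology i)) ≤ 1) :
    Curv2.IsMRegular k n (cokernel (E.d 1 0)) d ∧
      Curv2.IsMRegular k n (Abelian.image (E.d 1 0)) (d + 1) := by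
  have hT : ∀ {S : ShortComplex (CohB1.ProjSpace n k).Modules}, S.ShortExact → ∀ r : ℤ,
      (S.map (Lib.TensorMod.Basic.tensorBy (Lib.ProjCoh.Coherent.tw n k r))).ShortExact :=
    fun hS r => Lib.ProjCoh.Coherent.shortExact_tw hS r
  let q := fun s => E.homologyπ s
  have hlift : ∀ s, E.toCycles (s + 1) s ≫ q s = 0 := fun s => E.toCycles_comp_homologyπ (s + 1) s
  let p := fun s => kernel.lift (q s) (E.toCycles (s + 1) s) (hlift s)
  have hp : ∀ s, p s ≫ kernel.ι (q s) ≫ E.iCycles s = E.d (s + 1) s := fun s => by simp [p]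
  have hpe : ∀ s, Epi (p s) := fun s =>
    (ShortComplex.exact_of_g_is_cokernel (ShortComplex.mk _ _ (hlift s))
      (E.homologyIsCokernel (s + 1) s (ChainComplex.prev ℕ s))).epi_kernelLift
  have hi0 : ∀ s, E.iCycles (s + 1) ≫ p s = 0 := fun s => by
    rw [← cancel_mono (kernel.ι (q s) ≫ E.iCycles s), zero_comp, Category.assoc, hp, E.iCycles_d]
  have hS1 : ∀ s, (ShortComplex.mk (E.iCycles (s + 1)) (p s) (hi0 s)).ShortExact := fun s => by
    haveI := hpe s
    refine ShortComplex.ShortExact.mk' (ShortComplex.exact_of_f_is_kernel _ ?_) inferInstance inferInstance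
    refine KernelFork.IsLimit.ofι' _ _ fun {W} g hg => ?_
    refine ⟨E.liftCycles g s (ChainComplex.next_nat_succ s) ?_, E.liftCycles_i _ _ _ _⟩
    rw [← hp, reassoc_of% hg, zero_comp]
  have hcohZ : ∀ s, Coh.IsCoh (E.cycles (s + 1)) := fun s =>
    Lib.CohBasics.Closure.isCoh_of_iso ((E.cyclesIsKernel (s + 1) s (ChainComplex.next_nat_succ s)).conePointUniqueUpToIso (kernelIsKernel _)).symm
      (Lib.CohBasics.Closure.isCoh_kernel _ (hcoh _) (hcoh _).1)
  have hcohH : ∀ s, Coh.IsCoh (E.homology (s + 1)) := fun s =>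
    Lib.CohBasics.Closure.isCoh_of_iso
      ((E.homologyIsCokernel (s + 2) (s + 1) (ChainComplex.prev ℕ (s + 1))).coconePointUniqueUpToIso
        (cokernelIsCokernel _)).symm
      (Lib.CohBasics.Closure.isCoh_cokernel _ (hcoh _).1 (hcohZ s))
  have key : ∀ (b s : ℕ), t ≤ s + b → ∀ i : ℕ, 1 ≤ i → Subsingleton (Coh.HH (CohB1.ProjSpace n k)
      (CohB1.tensorMod (kernel (q s)) (Twist.twistProjSpace n k (d + s + 1 - i))) i) := by
    intro b
    induction b with
    | zero =>
      intro s hs i hi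
      haveI := hpe s
      have hz : IsZero (kernel (q s)) := IsZero.of_epi (p s) (hbdd (s + 1) (by omega))
      rw [← Lib.ProjKoszul.Chase.isZero_cohFun_iff k]
      exact (Lib.ProjKoszul.Chase.cohFun k i).map_isZero
        ((Lib.TensorMod.Basic.tensorBy (Lib.ProjCoh.Coherent.tw n k (d + s + 1 - i))).map_isZero hz)
    | succ b ih =>
      intro s hs i hi
      refine Lib.ProjKoszul.Reg2.sub₃ k (hT (hS1 s) (d + s + 1 - i)) ?_ ?_
      · have := reg (hcoh (s + 1)) (hreg (s + 1)) i hi
        rwa [show d + ((s + 1 : ℕ) : ℤ) - (i : ℤ) = d + s + 1 - i by push_cast; ring] at this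
      · have hS2 : (ShortComplex.mk (kernel.ι (q (s + 1))) (q (s + 1)) (kernel.condition _)).ShortExact :=
          ShortComplex.ShortExact.mk' (ShortComplex.exact_kernel _) inferInstance inferInstance
        refine Lib.ProjKoszul.Reg2.sub₂ k (hT hS2 (d + s + 1 - i)) ?_
          (high (hcohH s) (hsupp (s + 1) (Nat.succ_pos _)) _ _ (by omega))
        have := ih (s + 1) (by omega) (i + 1) (by omega)
        rwa [show d + ((s + 1 : ℕ) : ℤ) + 1 - ((i + 1 : ℕ) : ℤ) = d + s + 1 - i by push_cast; ring] at this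
  have hiso : IsIso (E.iCycles 0) := E.isIso_iCycles 0 0 (ChainComplex.next_nat_zero) (E.shape _ _ (by simp))
  let eC : E.homology 0 ≅ cokernel (E.d 1 0) :=
    (E.homologyIsCokernel 1 0 (ChainComplex.prev ℕ 0)).coconePointUniqueUpToIso (cokernelIsCokernel _) ≪≫
      cokernel.mapIso _ _ (Iso.refl _) (asIso (E.iCycles 0)) (by simp)
  have hπ : q 0 ≫ eC.hom = E.iCycles 0 ≫ cokernel.π (E.d 1 0) := by
    simp [eC, q]
    exact (E.homologyIsCokernel 1 0 (ChainComplex.prev ℕ 0)).fac _ WalkingParallelPair.one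
  let eI : kernel (q 0) ≅ Abelian.image (E.d 1 0) :=
    kernel.mapIso _ _ (asIso (E.iCycles 0)) eC hπ
  have himg : ∀ i : ℕ, 1 ≤ i → Subsingleton (Coh.HH (CohB1.ProjSpace n k)
      (CohB1.tensorMod (Abelian.image (E.d 1 0)) (Twist.twistProjSpace n k (d + 1 - i))) i) := fun i hi => by
    refine Lib.ProjKoszul.Chase.subsingleton_of_iso k (Lib.TensorMod.Basic.tensorIso eI
      (eqToIso (congrArg (Twist.twistProjSpace n k) ?_))) (key t 0 (by omega) i hi)
    simp
  refine ⟨fun i hi hin => ?_, fun i hi _ => himg i hi⟩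
  have hS3 : (ShortComplex.mk (Abelian.image.ι (E.d 1 0)) (cokernel.π (E.d 1 0)) (kernel.condition _)).ShortExact :=
    ShortComplex.ShortExact.mk' (ShortComplex.exact_kernel _) inferInstance inferInstance
  refine Lib.ProjKoszul.Reg2.sub₃ k (hT hS3 (d - i)) ?_ ?_
  · have := hreg 0 i hi hin
    rwa [Nat.cast_zero, add_zero] at this
  · have := himg (i + 1) (by omega)
    rwa [show d + 1 - ((i + 1 : ℕ) : ℤ) = d - i by push_cast; ring] at this

end Groth.Agent.S12910
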