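import Groth.Statements.S12912
import Groth.Agent.Lib.Curves.Degree
import Groth.Agent.Lib.ProjCoh.Homog
import Groth.Agent.Lib.Curves.LES
import Groth.Agent.Lib.ProjCoh.Coherent
import Groth.Agent.Lib.Curves.GlobalSections
import Groth.Agent.Lib.Curves.VeryAmple

set_option autoImplicit false
universe u
open CategoryTheory CategoryTheory.Limits AlgebraicGeometry
open Curves

namespace Groth.Agent.S12912

/-- Let k be an algebraically closed field and X a curve over k (integral, proper over k, of dimension
one) with a closed immersion i : X → P^r_k over k whose image lies in no hyperplane: every nonzero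
global section of O(1) on P^r_k pulls back to a nonzero global section of i^* O(1). Then deg i^*
O(1) ≥ r. -/
theorem result (k : Type u) [Field k] [IsAlgClosed k] (r : ℕ)
    (X : Scheme.{u}) [X.Over (Spec (CommRingCat.of k))] [IsIntegral X] [IsProper (X ↘ (Spec (CommRingCat.of k)))]
    (hdim : topologicalKrullDim X = 1)
    (i : X ⟶ CohB1.ProjSpace r k) [IsClosedImmersion i]
    (hi : i ≫ CohB1.ProjSpace.toSpec r k = (X ↘ (Spec (CommRingCat.of k))))
    (hplane : ∀ s : LinSer.Sect (CohB1.ProjSpace r k) (Twist.twistProjSpace r k 1), s ≠ 0 →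
      OmegaSh.pullSect i (Twist.twistProjSpace r k 1) ⊤ s ≠ 0) :
    (r : ℤ) ≤ Curv2.deg k X ((Scheme.Modules.pullback i).obj (Twist.twistProjSpace r k 1)) 1 := by
  let P := CohB1.ProjSpace r k
  letI : P.Over (Spec (CommRingCat.of k)) := ⟨CohB1.ProjSpace.toSpec r k⟩
  set O1 := Twist.twistProjSpace r k 1
  set L := (Scheme.Modules.pullback i).obj O1
  have hL : PicF.IsInvertible L := PicLoc.isInvertible_pullback i
    (Groth.Agent.Lib.ProjTilde.Invertible.twist_isInvertible_of_cover (fun y => by
      obtain ⟨c, hc⟩ := Groth.Agent.Lib.ProjMor.Main.cover (Groth.Agent.Lib.ProjMor.Poly.lin_mem r k)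
        (Groth.Agent.Lib.ProjMor.Poly.adjoin_lin r k) y
      exact ⟨c, c.2, hc⟩) 1)
  obtain ⟨e⟩ := Groth.Agent.Lib.ProjCoh.Homog.nonempty_HH_zero_equiv r 1 k
  let e' : Coh.HH P O1 0 ≃ₗ[k] ↥(MvPolynomial.homogeneousSubmodule (Fin (r + 1)) k 1) :=
    (Groth.Agent.Lib.Curves.LES.isoK k (Groth.Agent.Lib.ProjCoh.Coherent.twIso ((1 : ℕ) : ℤ)) 0).trans e
  letI := Groth.Agent.Lib.Curves.GlobalSections.secModule k O1
  letI := Groth.Agent.Lib.Curves.GlobalSections.secModule k L
  have hc : ∀ c : k, i.app ⊤ (Coh.toGlobal (P ↘ Spec (CommRingCat.of k)) c) =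
      Coh.toGlobal (X ↘ Spec (CommRingCat.of k)) c := fun c => by
    change i.appTop ((CohB1.ProjSpace.toSpec r k).appTop ((Scheme.ΓSpecIso (CommRingCat.of k)).inv c)) = _
    rw [← CommRingCat.comp_apply, ← Scheme.Hom.comp_appTop, hi]
    rfl
  let φ : (O1.val.obj (Opposite.op ⊤) : Type u) →ₗ[k] (L.val.obj (Opposite.op ⊤) : Type u) :=
    { toFun := fun s => OmegaSh.pullSect i O1 ⊤ s
      map_add' := fun a b => map_add (((Scheme.Modules.pullbackPushforwardAdjunction i).unit.app O1).app ⊤).hom a b
      map_smul' := fun c a => by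
        refine (Scheme.Modules.Hom.app_smul (((Scheme.Modules.pullbackPushforwardAdjunction i).unit.app O1)) (Coh.toGlobal (P ↘ Spec (CommRingCat.of k)) c) a).trans ?_
        exact congrArg (fun t : Γ(X, ⊤) => t • (show Γ(L, ⊤) from OmegaSh.pullSect i O1 ⊤ a)) (hc c) }
  let Ψ := (Groth.Agent.Lib.Curves.GlobalSections.h0Linear k L).symm.toLinearMap.comp
    (φ.comp ((Groth.Agent.Lib.Curves.GlobalSections.h0Linear k O1).toLinearMap.comp e'.symm.toLinearMap))
  have hφ : Function.Injective φ := (injective_iff_map_eq_zero φ).mpr fun s hs => by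
    by_contra h
    exact hplane s h hs
  have hΨ : Function.Injective Ψ := by
    intro a b h
    exact e'.symm.injective ((Groth.Agent.Lib.Curves.GlobalSections.h0Linear k O1).injective
      (hφ ((Groth.Agent.Lib.Curves.GlobalSections.h0Linear k L).symm.injective h)))
  haveI : FiniteDimensional k (Coh.HH X L 0) := (Groth.Agent.Lib.Curves.Degree.isGood (k := k) hdim.le hL).fin₀
  have hle := LinearMap.finrank_le_finrank_of_injective hΨ
  have hfr : Module.finrank k ↥(MvPolynomial.homogeneousSubmodule (Fin (r + 1)) k 1) = r + 1 := by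
    rw [MvPolynomial.homogeneousSubmodule_one_eq_span_X, finrank_span_eq_card, Fintype.card_fin]
    exact MvPolynomial.linearIndependent_X (Fin (r + 1)) k
  rw [hfr] at hle
  haveI : Nontrivial (Coh.HH X L 0) := Module.nontrivial_of_finrank_pos (R := k) (by omega)
  have h := Groth.Agent.Lib.Curves.Degree.hdim_zero_le (k := k) hdim.le hL inferInstance
  simp only [Groth.Agent.Lib.Curves.Euler.hdim,
    Groth.Agent.Lib.Curves.GlobalSections.finrank_h0_structure k X] at h
  omega

end Groth.Agent.S12912
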