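import Groth.Statements.S12913
import Groth.Agent.Lib.Curves.NegFiltration
import Groth.Agent.Lib.CurveFF.Hyp

set_option autoImplicit false
universe u
open CategoryTheory CategoryTheory.Limits AlgebraicGeometry
open Curves

namespace Groth.Agent.S12913

open Groth.Agent.Lib

/-- Let k be an algebraically closed field, C a curve over k (integral, proper over k, of dimension one,
all local rings regular), and N a locally free O_C-module of rank r which admits a monomorphism into
O_C^m for some m and has no nonzero global section. Then there is a filtration N = N_0 ⊃ N_1 ⊃ ⋯ ⊃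
N_r = 0 whose successive quotients are invertible sheaves of strictly negative degree; it is given
here as modules M_0, …, M_r with M_0 ≅ N, M_r = 0 and monomorphisms M_{j+1} → M_j whose cokernels
are invertible of negative degree. -/
theorem result (k : Type u) [Field k] [IsAlgClosed k]
    (C : Scheme.{u}) [C.Over (Spec (CommRingCat.of k))] [IsIntegral C] [IsProper (C ↘ (Spec (CommRingCat.of k)))]
    (hdim : topologicalKrullDim C = 1) (hreg : ∀ x : C, IsRegularLocalRing (C.presheaf.stalk x))
    (N : C.Modules) (r : ℕ) (hN : FlatMod.IsFinLocFreeOfRank r N) (m : ℕ) (ι : N ⟶ FlatMod.freeMod C m) [Mono ι]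
    (h0 : ∀ s : LinSer.Sect C N, s = 0) :
    ∃ (M : Fin (r + 1) → C.Modules) (f : (j : Fin r) → (M j.succ ⟶ M j.castSucc)),
      Nonempty (M 0 ≅ N) ∧ IsZero (M (Fin.last r)) ∧
        ∀ j : Fin r, Mono (f j) ∧ PicF.IsInvertible (cokernel (f j)) ∧ Curv2.deg k C (cokernel (f j)) 1 < 0 :=  by
  have hh := CurveFF.curveHyp_of_regular (k := k) hdim hreg
  have hP : ∀ x : C, IsPrincipalIdealRing (C.presheaf.stalk x) := fun x => by
    by_cases hx : x = genericPoint C
    · subst hx
      let _ : Field (C.presheaf.stalk (genericPoint C)) := inferInstanceAs (Field C.functionField)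
      infer_instance
    · haveI := hh.dvr x ((SmoothCurve.Curve.eq_genericPoint_or_isClosed hdim x).resolve_left hx)
      infer_instance
  haveI := Curves.TraceBound.curveCtx (k := k) hdim.le hP
  exact Curves.NegFiltration.exists_filtration r N hN m ι inferInstance h0

end Groth.Agent.S12913
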