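import Groth.Statements.S12915
import Groth.Agent.Lib.Graded.Hilbert

set_option autoImplicit false
universe u
open CAlgX

namespace Groth.Agent.S12915

theorem finrank_homogeneous (k : Type u) [Field k] (r n : ℕ) :
    Module.Finite k (MvPolynomial.homogeneousSubmodule (Fin (r + 1)) k n) ∧
    Module.finrank k (MvPolynomial.homogeneousSubmodule (Fin (r + 1)) k n) = Nat.choose (n + r) r := by
  have h : MvPolynomial.homogeneousSubmodule (Fin (r + 1)) k n =
      GrSyz.stdGr k (Fin (r + 1)) (n : ℤ) := by
    ext p
    constructor
    · intro hp d hd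
      rw [Groth.Agent.Lib.Graded.Poly.weight_one]
      have h1 := hp hd
      rw [Finsupp.degree_eq_weight_one]
      exact_mod_cast h1
    · intro hp d hd
      have h1 := Groth.Agent.Lib.Graded.Poly.degree_eq_of_mem hp (MvPolynomial.mem_support_iff.2 hd)
      rw [Finsupp.degree_eq_weight_one] at h1
      exact_mod_cast h1
  obtain ⟨h1, h2⟩ := Groth.Agent.Lib.Graded.Hilbert.finite_stdGr (k := k) (r := r) (n : ℤ)
  rw [h]
  exact ⟨h1, by rw [h2, Groth.Agent.Lib.Graded.Hilbert.hS, if_pos (by omega), Int.toNat_natCast,
    Nat.add_comm]⟩

/-- Let k be a field, S = k[x_0, …, x_r], and f a nonzero homogeneous polynomial of degree m. For every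
t ≥ m the image in S/(f) of the homogeneous polynomials of degree t is a k-vector space of dimension
C(t + r, r) - C(t + r - m, r). (The published clause states that the hypersurface f = 0 in P^r has
degree m; its proof computes exactly this Hilbert function, whose polynomial has leading term m
t^(r-1)/(r-1)!, and that computation is what is stated here.) -/
theorem result (k : Type u) [Field k] (r m : ℕ)
    (f : MvPolynomial (Fin (r + 1)) k) (hf : f.IsHomogeneous m) (hf0 : f ≠ 0) (t : ℕ) (ht : m ≤ t) :
    Module.finrank k
        (Submodule.map ((Ideal.Quotient.mkₐ k (Ideal.span {f})).toLinearMap)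
          (MvPolynomial.homogeneousSubmodule (Fin (r + 1)) k t)) =
      Nat.choose (t + r) r - Nat.choose (t + r - m) r := by
  classical
  obtain ⟨hfinT, hT⟩ := finrank_homogeneous k r t
  obtain ⟨hfinU, hU⟩ := finrank_homogeneous k r (t - m)
  haveI := hfinT
  set V := MvPolynomial.homogeneousSubmodule (Fin (r + 1)) k t
  set q := (Ideal.Quotient.mkₐ k (Ideal.span {f})).toLinearMap
  let g := q ∘ₗ V.subtype
  have hrange : LinearMap.range g = Submodule.map q V := by
    rw [LinearMap.range_comp, Submodule.range_subtype]
  let μ : MvPolynomial.homogeneousSubmodule (Fin (r + 1)) k (t - m) →ₗ[k] V :=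
    { toFun := fun a => ⟨a.1 * f, by
        have := (show a.1.IsHomogeneous (t - m) from a.2).mul hf
        rwa [Nat.sub_add_cancel ht] at this⟩
      map_add' := fun a b => Subtype.ext (add_mul a.1 b.1 f)
      map_smul' := fun c a => Subtype.ext (smul_mul_assoc c a.1 f) }
  have hμ : Function.Injective μ := fun a b h =>
    Subtype.ext (mul_right_cancel₀ hf0 (congrArg Subtype.val h))
  have hker : LinearMap.ker g = LinearMap.range μ := by
    ext v
    constructor
    · intro hv
      have hv' : (v : MvPolynomial (Fin (r + 1)) k) ∈ Ideal.span {f} :=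
        Ideal.Quotient.eq_zero_iff_mem.1 hv
      obtain ⟨a, ha⟩ := Ideal.mem_span_singleton'.1 hv'
      refine ⟨⟨MvPolynomial.homogeneousComponent (t - m) a,
        MvPolynomial.homogeneousComponent_mem (t - m) a⟩, Subtype.ext ?_⟩
      show MvPolynomial.homogeneousComponent (t - m) a * f = v.1
      have hv2 : MvPolynomial.homogeneousComponent t v.1 = v.1 := by
        rw [MvPolynomial.homogeneousComponent_of_mem v.2, if_pos rfl]
      rw [← hv2, ← ha]
      conv_rhs => rw [← MvPolynomial.sum_homogeneousComponent a, Finset.sum_mul, map_sum]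
      have key : ∀ i, MvPolynomial.homogeneousComponent t (MvPolynomial.homogeneousComponent i a * f) =
          if t - m = i then MvPolynomial.homogeneousComponent i a * f else 0 := fun i => by
        rw [MvPolynomial.homogeneousComponent_of_mem
          ((MvPolynomial.homogeneousComponent_isHomogeneous i a).mul hf)]
        exact if_congr (by omega) rfl rfl
      simp only [key, Finset.sum_ite_eq, Finset.mem_range]
      split_ifs with hi
      · rfl
      · rw [MvPolynomial.homogeneousComponent_eq_zero _ _ (by omega), zero_mul]
    · rintro ⟨a, rfl⟩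
      exact Ideal.Quotient.eq_zero_iff_mem.2 (Ideal.mem_span_singleton'.2 ⟨a.1, rfl⟩)
  have h := LinearMap.finrank_range_add_finrank_ker g
  rw [hker, LinearMap.finrank_range_of_inj hμ, hU, hT, hrange] at h
  rw [show t + r - m = t - m + r by omega]
  omega

end Groth.Agent.S12915
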