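import Groth.Statements.S12916
import Mathlib

set_option autoImplicit false
universe u
open CAlgX

namespace Groth.Agent.S12916

/-- Let k be an infinite field, S = k[x_0, …, x_r], M a finitely generated S-module and d a natural
number. Then some nonzero homogeneous polynomial f of degree d is quasi-regular on M: the submodule
(0 :_M f) of elements of M annihilated by f has finite length. (The published statement assumes M
graded; this row assumes only that M is finitely generated.) -/
theorem result (k : Type u) [Field k] [Infinite k] (r d : ℕ)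
    (M : Type u) [AddCommGroup M] [Module (MvPolynomial (Fin (r + 1)) k) M] [Module.Finite (MvPolynomial (Fin (r + 1)) k) M] :
    ∃ f : MvPolynomial (Fin (r + 1)) k, f.IsHomogeneous d ∧ f ≠ 0 ∧
      IsFiniteLength (MvPolynomial (Fin (r + 1)) k) ↥(Submodule.torsionBy (MvPolynomial (Fin (r + 1)) k) M f) := by
  classical
  let σ := Fin (r + 1)
  let V := MvPolynomial.homogeneousSubmodule σ k d
  have hfin := associatedPrimes.finite (MvPolynomial σ k) M
  let toV : Ideal (MvPolynomial σ k) → Submodule k V := fun P => (P.restrictScalars k).comap V.subtype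
  let s : Finset (Submodule k V) := insert ⊥ ((hfin.toFinset.filter fun P => ¬ P.IsMaximal).image toV)
  have hX : ∀ i : σ, (MvPolynomial.X i : MvPolynomial σ k) ^ d ∈ V := fun i => by
    rw [MvPolynomial.mem_homogeneousSubmodule]
    simpa using (MvPolynomial.isHomogeneous_X k i).pow d
  have htop : ⊤ ∉ s := by
    intro h
    rcases Finset.mem_insert.mp h with h | h
    · have : (⟨_, hX 0⟩ : V) ∈ (⊥ : Submodule k V) := h ▸ Submodule.mem_top
      rw [Submodule.mem_bot, Subtype.ext_iff] at this
      exact pow_ne_zero d (MvPolynomial.X_ne_zero 0) this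
    · obtain ⟨P, hP, hPtop⟩ := Finset.mem_image.mp h
      rw [Finset.mem_filter, Set.Finite.mem_toFinset] at hP
      have hPp : P.IsPrime := hP.1.isPrime
      have hXP : ∀ i : σ, MvPolynomial.X i ∈ P := fun i => hPp.mem_of_pow_mem d
        ((show (⟨_, hX i⟩ : V) ∈ toV P from hPtop ▸ Submodule.mem_top))
      apply hP.2
      have hmax : (RingHom.ker (MvPolynomial.constantCoeff : MvPolynomial σ k →+* k)).IsMaximal :=
        RingHom.ker_isMaximal_of_surjective _ fun c => ⟨MvPolynomial.C c, MvPolynomial.constantCoeff_C σ c⟩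
      have hle : RingHom.ker (MvPolynomial.constantCoeff : MvPolynomial σ k →+* k) ≤ P := by
        intro p hp
        rw [RingHom.mem_ker, MvPolynomial.constantCoeff_eq] at hp
        rw [p.as_sum]
        refine Ideal.sum_mem P fun m hm => ?_
        have hm0 : m ≠ 0 := fun h0 => MvPolynomial.mem_support_iff.mp hm (h0 ▸ hp)
        obtain ⟨i, hi⟩ := Finsupp.ne_iff.mp hm0
        exact P.mem_of_dvd (MvPolynomial.X_dvd_monomial.mpr (Or.inr hi)) (hXP i)
      rwa [← hmax.eq_of_le hPp.ne_top hle]
  obtain ⟨v, hv⟩ := (Set.ne_univ_iff_exists_notMem _).mp (Subspace.biUnion_ne_univ_of_top_notMem htop)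
  simp only [Set.mem_iUnion, SetLike.mem_coe, not_exists] at hv
  have hv0 : (v : MvPolynomial σ k) ≠ 0 := fun h0 =>
    hv ⊥ (Finset.mem_insert_self _ _) ((Submodule.mem_bot k).mpr (Subtype.ext h0))
  have havoid : ∀ P ∈ associatedPrimes (MvPolynomial σ k) M, (v : MvPolynomial σ k) ∈ P → P.IsMaximal := by
    intro P hP hvP
    by_contra hmax
    exact hv (toV P) (Finset.mem_insert_of_mem (Finset.mem_image_of_mem _ (by
      rw [Finset.mem_filter, Set.Finite.mem_toFinset]; exact ⟨hP, hmax⟩))) hvP
  refine ⟨v, (MvPolynomial.mem_homogeneousSubmodule d _).mp v.2, hv0, ?_⟩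
  set N := Submodule.torsionBy (MvPolynomial σ k) M (v : MvPolynomial σ k)
  haveI : Module.Finite (MvPolynomial σ k) N := Module.Finite.iff_fg.mpr (IsNoetherian.noetherian _)
  have hdim : ∀ p : Ideal (MvPolynomial σ k), p.IsPrime → Module.annihilator (MvPolynomial σ k) N ≤ p → p.IsMaximal := by
    intro p hp hle
    obtain ⟨q, hq, hqp⟩ := Ideal.exists_minimalPrimes_le hle
    have hqA := Module.associatedPrimes.minimalPrimes_annihilator_subset_associatedPrimes (MvPolynomial σ k) N hq
    have hvq : (v : MvPolynomial σ k) ∈ q := by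
      refine (IsAssociatedPrime.annihilator_le hqA) ?_
      rw [Submodule.annihilator_top, Module.mem_annihilator]
      exact fun m => Submodule.smul_torsionBy _ m
    have hqmax := havoid q (associatedPrimes.subset_of_injective N.injective_subtype hqA) hvq
    rwa [← hqmax.eq_of_le hp.ne_top hqp]
  refine isFiniteLength_iff_isNoetherian_isArtinian.mpr ⟨inferInstance, ?_⟩
  let J := Module.annihilator (MvPolynomial σ k) N
  haveI : Ring.KrullDimLE 0 (MvPolynomial σ k ⧸ J) := Ring.KrullDimLE.mk₀ fun p hp => by
    have hc : (p.comap (Ideal.Quotient.mk J)).IsMaximal := hdim _ (hp.comap _) (by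
      intro x hx
      rw [Ideal.mem_comap, Ideal.Quotient.eq_zero_iff_mem.mpr hx]
      exact zero_mem p)
    have := Ideal.map_eq_top_or_isMaximal_of_surjective (Ideal.Quotient.mk J) Ideal.Quotient.mk_surjective hc
    rw [Ideal.map_comap_of_surjective _ Ideal.Quotient.mk_surjective] at this
    exact this.resolve_left hp.ne_top
  haveI : IsArtinianRing (MvPolynomial σ k ⧸ J) := isArtinianRing_iff_krullDimLE_zero.mpr inferInstance
  have hJ : Module.IsTorsionBySet (MvPolynomial σ k) N J := fun m a => Module.mem_annihilator.mp a.2 m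
  letI := hJ.module
  haveI : IsScalarTower (MvPolynomial σ k) (MvPolynomial σ k ⧸ J) N := hJ.isScalarTower
  haveI : Module.Finite (MvPolynomial σ k ⧸ J) N := Module.Finite.of_restrictScalars_finite (MvPolynomial σ k) _ _
  exact isArtinian_of_surjective_algebraMap (R := MvPolynomial σ k ⧸ J) (S := MvPolynomial σ k)
    (M := N) Ideal.Quotient.mk_surjective

end Groth.Agent.S12916
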