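import Groth.Statements.S12917
import Groth.Agent.H84.CAlgX.Points

set_option autoImplicit false
set_option linter.style.haveILetI false
universe u
open CAlgX

namespace Groth.Agent.S12917

/-- Let k be a field, Z a finite set of nonzero vectors in k^3, regarded as points of the projective
plane, and I the homogeneous vanishing ideal of Z in S = k[x_0, x_1, x_2]: a polynomial belongs to I
exactly when each of its homogeneous components vanishes at every vector of Z. Then I has a free
resolution of length one: for some t there are a (t+1) × t matrix Ψ over S, injective as a map S^t →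
S^{t+1}, and an S-linear map π : S^{t+1} → S with ker π = im Ψ and im π = I. (The published
statement speaks of the minimal free resolution of I having length 1; stated here as the existence
of such a resolution.) -/
theorem result (k : Type u) [Field k]
    (Z : Finset (Fin 3 → k)) (hZ : ∀ p ∈ Z, p ≠ 0) (I : Ideal (MvPolynomial (Fin 3) k))
    (hI : ∀ f : MvPolynomial (Fin 3) k, f ∈ I ↔
      ∀ p ∈ Z, ∀ j : ℕ, MvPolynomial.eval p (MvPolynomial.homogeneousComponent j f) = 0) :
    ∃ (t : ℕ) (Ψ : Matrix (Fin (t + 1)) (Fin t) (MvPolynomial (Fin 3) k)) (π : (Fin (t + 1) → MvPolynomial (Fin 3) k) →ₗ[MvPolynomial (Fin 3) k] MvPolynomial (Fin 3) k),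
      LinearMap.ker Ψ.mulVecLin = ⊥ ∧ LinearMap.ker π = LinearMap.range Ψ.mulVecLin ∧ LinearMap.range π = I := by
  open Groth.Agent.Lib Groth.Agent.Lib.Graded Groth.Agent.Lib.Graded.Basic Groth.Agent.H84.CAlgX in
  classical
  have hI' : ∀ f, f ∈ I ↔ ∀ p ∈ Z, Points.line p f = 0 := fun f => by
    simp only [hI f, Polynomial.ext_iff, Points.coeff_line, Polynomial.coeff_zero]
  have hIh : Submodule.IsHomogeneous I (GrSyz.stdGr k (Fin 3)) := Points.isHomogeneous Z I hI'
  let X := StarInj.subMod (GrSyz.stdGr k (Fin 3)) (GrSyz.stdGr k (Fin 3)) I hIh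
  let Y := StarInj.qMod (GrSyz.stdGr k (Fin 3)) (GrSyz.stdGr k (Fin 3)) I hIh
  haveI : Module.Finite (MvPolynomial (Fin 3) k) X.carrier :=
    inferInstanceAs (Module.Finite (MvPolynomial (Fin 3) k) I)
  haveI : Module.Finite (MvPolynomial (Fin 3) k) Y.carrier :=
    inferInstanceAs (Module.Finite (MvPolynomial (Fin 3) k) (MvPolynomial (Fin 3) k ⧸ I))
  obtain ⟨G, hG⟩ := MinRes.exists_res (GrSyz.stdGr k (Fin 3)) Y.gr (Reg.unitOutside (k := k) (σ := Fin 3))
  have hpd2 : CategoryTheory.HasProjectiveDimensionLE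
      (ModuleCat.of (MvPolynomial (Fin 3) k) (MvPolynomial (Fin 3) k ⧸ I)) 2 := by
    refine (ProjDim.hasLengthLE_iff hG 2).1 fun i hi => ?_
    by_contra hne
    have hlen : G.HasLengthLE 3 := fun j hj => by
      by_contra hj0
      have := PolyDepth.length_le G hG hj0
      omega
    obtain rfl : i = 3 := by
      have := PolyDepth.length_le G hG hne
      omega
    have hd := PolyDepth.length_add_idealDepth G hG hlen hne
    obtain ⟨f, hf, hreg⟩ := Points.exists_mem_irrel_regular Z hZ I hI'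
    have h1 : ((1 : ℕ) : ℕ∞) ≤ LocCoh.idealDepth (GrSyz.irrel (GrSyz.stdGr k (Fin 3))).toIdeal
        (MvPolynomial (Fin 3) k ⧸ I) :=
      Depth.Basic.length_le_idealDepth (rs := [f])
        ((RingTheory.Sequence.isWeaklyRegular_singleton_iff _ _).2 hreg) (by simpa using hf)
    have h2 : LocCoh.idealDepth (GrSyz.irrel (GrSyz.stdGr k (Fin 3))).toIdeal
        (MvPolynomial (Fin 3) k ⧸ I) = 0 := by
      replace hd : ((3 : ℕ) : ℕ∞) + LocCoh.idealDepth (GrSyz.irrel (GrSyz.stdGr k (Fin 3))).toIdeal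
        (MvPolynomial (Fin 3) k ⧸ I) = ((3 : ℕ) : ℕ∞) := hd
      generalize LocCoh.idealDepth (GrSyz.irrel (GrSyz.stdGr k (Fin 3))).toIdeal
        (MvPolynomial (Fin 3) k ⧸ I) = x at hd h1 ⊢
      induction x using ENat.recTopCoe with
      | top => rw [add_top] at hd; exact absurd hd (ENat.coe_ne_top 3).symm
      | coe a => norm_cast at hd ⊢; omega
    rw [h2] at h1
    exact absurd h1 (by simp)
  obtain ⟨F, hF⟩ := MinRes.exists_res (GrSyz.stdGr k (Fin 3)) X.gr (Reg.unitOutside (k := k) (σ := Fin 3))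
  have hlen1 : F.HasLengthLE 1 := (ProjDim.hasLengthLE_iff hF 1).2 <|
    ProjDim.pd_equiv (LinearEquiv.ofEq _ _ (Submodule.ker_mkQ I)) 1
      ((ProjDim.pd_succ_iff (Submodule.mkQ_surjective I) 1).1 hpd2)
  let S := MvPolynomial (Fin 3) k
  let π0 : (Fin (F.rk 0) → S) →ₗ[S] I := F.augLin
  have hπ0 : Function.Surjective π0 := F.aug_surjective
  let Ψ0 : Matrix (Fin (F.rk 0)) (Fin (F.rk 1)) S := F.d 0
  have hker0 : LinearMap.ker π0 = LinearMap.range Ψ0.mulVecLin := F.exact_zero
  have hΨ0 : LinearMap.ker Ψ0.mulVecLin = ⊥ := by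
    refine (F.exact_succ 0).trans ((Submodule.eq_bot_iff _).2 ?_)
    rintro _ ⟨v, rfl⟩
    haveI : IsEmpty (Fin (F.rk (0 + 1 + 1))) := by
      rw [hlen1 (0 + 1 + 1) (by omega)]; infer_instance
    rw [Subsingleton.elim v 0, map_zero]
  have hI0 : I ≠ ⊥ := by
    intro h0
    have hforms : ∀ p ∈ Z, ∃ f : S, f ≠ 0 ∧ Points.line p f = 0 := by
      intro p _
      rcases eq_or_ne (p 0) 0 with h | h
      · exact ⟨MvPolynomial.X 0, MvPolynomial.X_ne_zero 0, by simp [Points.line, h]⟩
      · refine ⟨MvPolynomial.C (p 1) * MvPolynomial.X 0 - MvPolynomial.C (p 0) * MvPolynomial.X 1, ?_, ?_⟩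
        · intro hc
          have := congrArg (MvPolynomial.eval ![0, 1, 0]) hc
          simp at this
          exact h this
        · simp [Points.line]
          ring
    choose! f hf0 hf using hforms
    have hmem : ∏ p ∈ Z, f p ∈ I := (hI' _).2 fun p hp => by
      rw [map_prod]; exact Finset.prod_eq_zero hp (hf p hp)
    rw [h0, Submodule.mem_bot] at hmem
    exact Finset.prod_ne_zero_iff.2 hf0 hmem
  have hIrank : Module.finrank S I = 1 := by
    haveI : Nontrivial I := Submodule.nontrivial_iff_ne_bot.2 hI0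
    have h1 : Module.finrank S I ≤ Module.finrank S S := Submodule.finrank_le I
    have h2 : 0 < Module.finrank S I := Module.finrank_pos
    rw [Module.finrank_self] at h1
    omega
  have hrk : F.rk 0 = F.rk 1 + 1 := by
    have h := Submodule.finrank_quotient_add_finrank (LinearMap.ker π0)
    rw [(π0.quotKerEquivOfSurjective hπ0).finrank_eq, hIrank, Module.finrank_fin_fun, hker0,
      LinearMap.finrank_range_of_inj (LinearMap.ker_eq_bot.1 hΨ0), Module.finrank_fin_fun] at h
    omega
  have main : ∀ (a b : ℕ) (A : Matrix (Fin a) (Fin b) S) (q : (Fin a → S) →ₗ[S] S), a = b + 1 →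
      LinearMap.ker A.mulVecLin = ⊥ → LinearMap.ker q = LinearMap.range A.mulVecLin →
      LinearMap.range q = I →
      ∃ (t : ℕ) (Ψ : Matrix (Fin (t + 1)) (Fin t) S) (π : (Fin (t + 1) → S) →ₗ[S] S),
        LinearMap.ker Ψ.mulVecLin = ⊥ ∧ LinearMap.ker π = LinearMap.range Ψ.mulVecLin ∧
          LinearMap.range π = I := by
    intro a b A q hab h1 h2 h3
    subst hab
    exact ⟨b, A, q, h1, h2, h3⟩
  refine main _ _ Ψ0 (I.subtype ∘ₗ π0) hrk hΨ0 ?_ ?_
  · rw [LinearMap.ker_comp_of_ker_eq_bot _ (Submodule.ker_subtype I), hker0]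
  · rw [LinearMap.range_comp, LinearMap.range_eq_top.2 hπ0, Submodule.map_top, Submodule.range_subtype]

end Groth.Agent.S12917
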