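import Groth.Statements.S12918
import Groth.Agent.H66.Integral
import Groth.Agent.H66.Base
-- import your own Groth.Agent.* helpers here

set_option autoImplicit false
universe u v w
open HopfRep

namespace Groth.Agent.S12918

/-- Let `k` be a commutative ring, `A` a commutative Hopf algebra over `k`, flat as a `k`-module and `B`
a commutative `k`-algebra with a coaction `ρ : B → B ⊗ A` that is an algebra map (an action of the
affine group scheme `Spec A` on `Spec B`). Then the action admits a total integral — a comodule map
`α : A → B`, for the regular coaction on `A`, with `α 1 = 1` — if and only if `ρ` has a left inverse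
`B ⊗ A → B` which is a comodule map for the coaction `id ⊗ Δ` on `B ⊗ A`. -/
theorem result
    (k : Type u) [CommRing k] (A : Type v) [CommRing A] [HopfAlgebra k A] [Module.Flat k A]
    (B : Type w) [CommRing B] [Algebra k B] [HopfRep.Comod k A B] [GLin.IsCoactAlg k A B] :
    (∃ α : A →ₗ[k] B, Hoch.IsComodHom A α ∧ α 1 = 1) ↔
      ∃ lam : Hoch.Ind k A B →ₗ[k] B, Hoch.IsComodHom A lam ∧ lam ∘ₗ Hoch.toInd k A B = LinearMap.id := by
  haveI := H66.Integral.isHopfMod_self (k := k) (A := A) (B := B)
  constructor
  · rintro ⟨α, hα, hα1⟩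
    refine ⟨H66.Integral.retr B α ∘ₗ (Hoch.Ind.equiv k A B).symm.toLinearMap, LinearMap.ext fun x => ?_,
      LinearMap.ext fun b => ?_⟩
    · exact H66.Integral.coact_retr hα x
    · exact H66.Integral.retr_coact hα1 b
  · rintro ⟨lam, hlam, hl⟩
    refine ⟨lam ∘ₗ (Hoch.Ind.equiv k A B).toLinearMap ∘ₗ TensorProduct.mk k B A 1, LinearMap.ext fun a => ?_, ?_⟩
    · change HopfRep.Comod.coact (k := k) (A := A) (lam (Hoch.Ind.equiv k A B ((1 : B) ⊗ₜ[k] a))) =
        (lam ∘ₗ (Hoch.Ind.equiv k A B).toLinearMap ∘ₗ TensorProduct.mk k B A 1).rTensor A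
          (CoalgebraStruct.comul (R := k) a)
      rw [H66.Base.isComodHom_apply hlam, LinearMap.rTensor_comp_apply]
      refine congrArg (lam.rTensor A) ?_
      refine (Hoch.Ind.coact_equiv_tmul k A B 1 a).trans ?_
      induction CoalgebraStruct.comul (R := k) a using TensorProduct.induction_on with
      | zero => simp; rfl
      | add p q hp hq => simp only [TensorProduct.tmul_add, map_add, hp, hq]; rfl
      | tmul p q => simp; rfl
    · have h := LinearMap.congr_fun hl (1 : B)
      simp only [LinearMap.comp_apply, Hoch.toInd, LinearMap.id_apply] at h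
      rw [← GLin.coactAlgHom_apply, map_one, Algebra.TensorProduct.one_def] at h
      exact h

end Groth.Agent.S12918
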