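import Groth.Statements.S1292
import Groth.Agent.H56.RelPC.WETorAmp
import Groth.Agent.Lib.Henselian.Henselization
import Groth.Agent.Lib.Henselian.StrictHenselization
import Groth.Agent.Lib.Henselian.IndEtale
import Groth.Agent.Lib.IndEtale.Basic
import Groth.Agent.Lib.WeaklyEt.Cancel

set_option autoImplicit false
universe u
open CategoryTheory
attribute [local instance] HasDerivedCategory.standard
open FlatMor

namespace Groth.Agent.S1292

open IsLocalRing in
/-- Let A be a ring, p a prime ideal of A, Ah a henselization and Ash a strict henselization of the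
local ring A_p, with Ash an Ah-algebra compatibly with the structure maps from A_p, and a, b
integers. Tor amplitude is meant in the flat-representative form: an object of the derived category
of a ring has tor amplitude in [a, b] when it is isomorphic to a complex of flat modules vanishing
outside degrees [a, b]. For K in D(Ash) the following are equivalent: K with scalars restricted to
A_p has tor amplitude in [a, b]; K with scalars restricted to Ah has tor amplitude in [a, b]; K has
tor amplitude in [a, b] over Ash. Moreover, for L in D(Ah): L with scalars restricted to A_p has tor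
amplitude in [a, b] if and only if L has tor amplitude in [a, b] over Ah. (The published statement
is for a general scheme S; this is the case S = Spec A.) -/
theorem result {A : Type u} [CommRing A] (p : Ideal A) [p.IsPrime]
    (Ah Ash : Type u) [CommRing Ah] [IsLocalRing Ah] [CommRing Ash] [IsLocalRing Ash]
    [Algebra (Localization.AtPrime p) Ah] [IsLocalHom (algebraMap (Localization.AtPrime p) Ah)] [Hensel.IsHenselization (Localization.AtPrime p) Ah]
    [Algebra (Localization.AtPrime p) Ash] [IsLocalHom (algebraMap (Localization.AtPrime p) Ash)] [Hensel.IsStrictHenselization (Localization.AtPrime p) Ash]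
    [Algebra Ah Ash] [IsScalarTower (Localization.AtPrime p) Ah Ash]
    (a b : ℤ) (K : Dual.D Ash) (L : Dual.D Ah) :
    [DRing.HasTorAmplitudeIn (Localization.AtPrime p) a b ((DRing.restrictD (algebraMap (Localization.AtPrime p) Ash)).obj K),
     DRing.HasTorAmplitudeIn Ah a b ((DRing.restrictD (algebraMap Ah Ash)).obj K),
     DRing.HasTorAmplitudeIn Ash a b K].TFAE ∧
    (DRing.HasTorAmplitudeIn (Localization.AtPrime p) a b ((DRing.restrictD (algebraMap (Localization.AtPrime p) Ah)).obj L) ↔
      DRing.HasTorAmplitudeIn Ah a b L) := by
  haveI : Algebra.WeaklyEtale (Localization.AtPrime p) Ah := Groth.Agent.Lib.IndEtale.Basic.weaklyEtale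
    (Groth.Agent.Lib.IndEtale.Basic.of_algEquiv Groth.Agent.Lib.Henselian.IndEtale.isIndEtale_lim
      (Groth.Agent.Lib.Henselian.Henselization.equivOfIsHenselization (Localization.AtPrime p) Ah))
  haveI : Algebra.WeaklyEtale (Localization.AtPrime p) Ash := Groth.Agent.Lib.IndEtale.Basic.weaklyEtale
    (Groth.Agent.Lib.IndEtale.Basic.of_algEquiv Groth.Agent.Lib.Henselian.IndEtale.isIndEtale_lim
      (Groth.Agent.Lib.Henselian.StrictHenselization.equivOfIsStrictHenselization (Localization.AtPrime p) Ash))
  haveI : Algebra.WeaklyEtale Ah Ash :=
    Groth.Agent.Lib.WeaklyEt.Cancel.weaklyEtale (Localization.AtPrime p) Ah Ash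
  have h13 := Groth.Agent.H56.RelPC.WETorAmp.bdd_flat_res_iff (R := Localization.AtPrime p) K a b
  have h23 := Groth.Agent.H56.RelPC.WETorAmp.bdd_flat_res_iff (R := Ah) K a b
  refine ⟨?_, Groth.Agent.H56.RelPC.WETorAmp.bdd_flat_res_iff (R := Localization.AtPrime p) L a b⟩
  tfae_have 1 ↔ 3 := h13
  tfae_have 2 ↔ 3 := h23
  tfae_finish

end Groth.Agent.S1292
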