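import Groth.Statements.S12925
import Groth.Agent.H66.Base
-- import your own Groth.Agent.* helpers here

set_option autoImplicit false
universe u w
open HopfRep

namespace Groth.Agent.S12925

/-- Let `k` be a commutative ring, `M` a commutative group and `B` a commutative `k`-algebra with a
coaction of the group algebra `k[M]` that is an algebra map (an action of the diagonalizable group
scheme `D(M) = Spec k[M]` on `Spec B`). Then the action is tame: there is a comodule map `α : k[M] →
B`, for the regular coaction on `k[M]`, with `α 1 = 1`. -/
theorem result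
    (k : Type u) [CommRing k] (M : Type u) [CommGroup M]
    (B : Type w) [CommRing B] [Algebra k B] [HopfRep.Comod k (MonoidAlgebra k M) B]
    [GLin.IsCoactAlg k (MonoidAlgebra k M) B] :
    ∃ α : MonoidAlgebra k M →ₗ[k] B, Hoch.IsComodHom (MonoidAlgebra k M) α ∧ α 1 = 1 := by
  let A := MonoidAlgebra k M
  let α₀ : A →ₗ[k] k := Finsupp.lapply 1 ∘ₗ (MonoidAlgebra.coeffLinearEquiv k).toLinearMap
  classical
  have hα₀ : ∀ (m : M) (r : k), α₀ (MonoidAlgebra.single m r) = if m = 1 then r else 0 := by
    intro m r
    change (MonoidAlgebra.single m r).coeff 1 = _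
    simp [Finsupp.single_apply, eq_comm]
  refine ⟨Algebra.linearMap k B ∘ₗ α₀, LinearMap.ext fun a => ?_, ?_⟩
  · have e : α₀.rTensor A (CoalgebraStruct.comul a) = α₀ a ⊗ₜ[k] (1 : A) := by
      induction a using MonoidAlgebra.induction_linear with
      | zero => simp
      | add x y hx hy => simp only [map_add, hx, hy, TensorProduct.add_tmul]
      | single m r =>
        rw [MonoidAlgebra.comul_single]
        by_cases hm : m = 1
        · subst hm
          simp only [TensorProduct.map_tmul, CommSemiring.comul_apply, MonoidAlgebra.lsingle_apply, LinearMap.rTensor_tmul, hα₀, if_true, MonoidAlgebra.one_def]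
          rw [← mul_one r, ← smul_eq_mul, ← MonoidAlgebra.smul_single, TensorProduct.tmul_smul, TensorProduct.smul_tmul']
          simp [MonoidAlgebra.one_def, TensorProduct.smul_tmul']
          rfl
        · simp [hα₀, hm]
    change HopfRep.Comod.coact (k := k) (A := A) (algebraMap k B (α₀ a)) =
      (Algebra.linearMap k B ∘ₗ α₀).rTensor A (CoalgebraStruct.comul a)
    rw [LinearMap.rTensor_comp_apply, e, ← GLin.coactAlgHom_apply, AlgHom.commutes]
    simp
  · simp [MonoidAlgebra.one_def, hα₀]

end Groth.Agent.S12925
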