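import Groth.Statements.S12926
import Groth.Agent.H66.Base
-- import your own Groth.Agent.* helpers here

set_option autoImplicit false
universe u v
open HopfRep

namespace Groth.Agent.S12926

/-- Let `k` be a commutative ring and `A` a commutative bialgebra over `k`, flat as a `k`-module. If the
submodule `k · 1` of the regular comodule `A` has a complement `H` which is a subcomodule — the case
used when `A` is cosemisimple, i.e. every subcomodule of every comodule is a direct summand as a
comodule — then the trivial action of `Spec A` on `Spec k` is tame: there is a comodule map `α : A →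
k`, for the regular coaction on `A` and the trivial coaction `r ↦ r ⊗ 1` on `k`, with `α 1 = 1`. -/
theorem result
    (k : Type u) [CommRing k] (A : Type v) [CommRing A] [Bialgebra k A] [Module.Flat k A]
    (H : Submodule k A) (hH : HopfRep.IsSubcomod (k := k) (A := A) H)
    (hc : IsCompl (Submodule.span k {(1 : A)}) H) :
    ∃ α : A →ₗ[k] k, @Hoch.IsComodHom k _ A _ _ _ A _ _ _ k _ _ (HopfRep.Comod.trivial k A k) α ∧ α 1 = 1 := by
  let p : A →ₗ[k] A := (Submodule.span k {(1 : A)}).subtype ∘ₗ
    (Submodule.span k {(1 : A)}).linearProjOfIsCompl H hc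
  let α : A →ₗ[k] k := CoalgebraStruct.counit ∘ₗ p
  have hp1 : α 1 = 1 := by
    have := Submodule.linearProjOfIsCompl_apply_left hc ⟨1, Submodule.mem_span_singleton_self _⟩
    simp only [α, p, LinearMap.comp_apply, Submodule.coe_subtype]
    erw [this]
    exact Bialgebra.counit_one
  have hpH : ∀ h ∈ H, α h = 0 := by
    intro h hh
    simp only [α, p, LinearMap.comp_apply]
    erw [(Submodule.linearProjOfIsCompl_apply_eq_zero_iff hc).mpr hh, map_zero]
  refine ⟨α, LinearMap.ext fun a => ?_, hp1⟩
  change α a ⊗ₜ[k] (1 : A) = α.rTensor A (CoalgebraStruct.comul a)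
  obtain ⟨s, hs, t, ht, rfl⟩ := Submodule.mem_sup.mp (hc.sup_eq_top ▸ Submodule.mem_top : a ∈ _ ⊔ H)
  obtain ⟨r, rfl⟩ := Submodule.mem_span_singleton.mp hs
  obtain ⟨z, hz⟩ := hH t ht
  have h0 : α.rTensor A (CoalgebraStruct.comul t) = 0 := by
    rw [show CoalgebraStruct.comul t = H.subtype.rTensor A z from hz.symm, ← LinearMap.rTensor_comp_apply,
      show α ∘ₗ H.subtype = 0 from LinearMap.ext fun x => hpH x x.2, LinearMap.rTensor_zero, LinearMap.zero_apply]
  rw [map_add, map_add, map_add, h0, add_zero, hpH t ht, add_zero, map_smul, map_smul, map_smul,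
    Bialgebra.comul_one, Algebra.TensorProduct.one_def, LinearMap.rTensor_tmul, TensorProduct.smul_tmul']

end Groth.Agent.S12926
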