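import Groth.Statements.S12928
import Groth.Agent.H66.FixedHom
import Groth.Agent.H66.Passage
import Groth.Agent.H66.Integral
-- import your own Groth.Agent.* helpers here

set_option autoImplicit false
universe u
open HopfRep

namespace Groth.Agent.S12928

open scoped TensorProduct

/-- Let `k` be a commutative ring, `A` a commutative Hopf algebra over `k` which is finite locally free
(finite projective, in particular flat) as a `k`-module, `B` a commutative `k`-algebra with a
coaction of `A` that is an algebra map, and `C = B^A` the ring of invariants; assume `C` Noetherian
and `B` finite and flat over `C`. If taking invariants is exact on `(B, A)`-modules — for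
`B`-modules `M`, `N` with compatible `A`-coactions (in the universe of `k`, `A`, `B`) every
surjective `B`-linear comodule map `M → N` maps `M^A` onto `N^A` — then the action is tame: there is
a comodule map `α : A → B` with `α 1 = 1`. Together with the converse (a total integral makes
invariants exact) this says that tameness of the action is the exactness of invariants. (The
published statement does not assume `B` finite over `C`; its proof uses that finiteness, which is
assumed here.) -/
theorem result
    (k : Type u) [CommRing k] (A : Type u) [CommRing A] [HopfAlgebra k A] [Module.Flat k A]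
    [Module.Finite k A] [Module.Projective k A]
    (B : Type u) [CommRing B] [Algebra k B] [HopfRep.Comod k A B] [GLin.IsCoactAlg k A B]
    [IsNoetherianRing (GLin.invariants k A B)] [Module.Finite (GLin.invariants k A B) B] [Module.Flat (GLin.invariants k A B) B]
    (hexact : ∀ (M N : Type u) [AddCommGroup M] [Module k M] [Module B M] [IsScalarTower k B M]
      [HopfRep.Comod k A M] [TameAct.IsHopfMod k A B M]
      [AddCommGroup N] [Module k N] [Module B N] [IsScalarTower k B N]
      [HopfRep.Comod k A N] [TameAct.IsHopfMod k A B N] (f : M →ₗ[B] N),
      Hoch.IsComodHom A (f.restrictScalars k) → Function.Surjective f →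
      ∀ n ∈ HopfRep.fixedPts k A N, ∃ m ∈ HopfRep.fixedPts k A M, f m = n) :
    ∃ α : A →ₗ[k] B, Hoch.IsComodHom A α ∧ α 1 = 1 := by
  haveI : Module.FinitePresentation k A := Module.finitePresentation_of_projective k A
  obtain ⟨d, hd⟩ := H66.Passage.exists_isDual (HopfRep.Comod.regular k A)
  letI cM : HopfRep.Comod k A (B ⊗[k] Module.Dual k A) := ComodTens.Comod.tensor inferInstance d
  haveI : TameAct.IsHopfMod k A B (B ⊗[k] Module.Dual k A) := by
    refine ⟨fun b m => ?_⟩
    induction m using TensorProduct.induction_on with
    | zero => simp
    | add p q hp hq => simp only [smul_add, map_add, hp, hq]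
    | tmul c φ =>
      rw [TensorProduct.smul_tmul', smul_eq_mul]
      change (ComodTens.Comod.tensor inferInstance d).coact _ =
        TameAct.hmSMul k A B _ _ ((ComodTens.Comod.tensor inferInstance d).coact _)
      rw [ComodTens.tensor_coact_tmul, ComodTens.tensor_coact_tmul, GLin.IsCoactAlg.coact_mul]
      induction HopfRep.Comod.coact (k := k) (A := A) b using TensorProduct.induction_on with
      | zero => simp
      | add p q hp hq => simp only [add_mul, TensorProduct.add_tmul, map_add, LinearMap.add_apply, hp, hq]
      | tmul b₀ b₁ =>
        induction HopfRep.Comod.coact (k := k) (A := A) c using TensorProduct.induction_on with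
        | zero => simp
        | add p q hp hq => simp only [mul_add, TensorProduct.add_tmul, map_add, hp, hq]
        | tmul c₀ c₁ =>
          induction d.coact φ using TensorProduct.induction_on with
          | zero => simp
          | add p q hp hq => simp only [TensorProduct.tmul_add, map_add, hp, hq]
          | tmul p q => simp [TensorProduct.smul_tmul', mul_assoc]
  haveI := H66.Integral.isHopfMod_self (k := k) (A := A) (B := B)
  let f : B ⊗[k] Module.Dual k A →ₗ[B] B :=
    (TensorProduct.AlgebraTensorModule.rid k B B).toLinearMap ∘ₗ
      TensorProduct.AlgebraTensorModule.map LinearMap.id (LinearMap.applyₗ (R := k) (M₂ := k) (1 : A))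
  have hf : Hoch.IsComodHom A (f.restrictScalars k) := by
    refine LinearMap.ext fun m => ?_
    induction m using TensorProduct.induction_on with
    | zero => simp
    | add p q hp hq => simp only [map_add, hp, hq]
    | tmul c φ =>
      simp only [LinearMap.comp_apply, LinearMap.restrictScalars_apply]
      have e1 : f (c ⊗ₜ φ) = φ 1 • c := by simp [f]
      rw [e1, map_smul]
      change _ = (f.restrictScalars k).rTensor A ((ComodTens.Comod.tensor inferInstance d).coact _)
      rw [ComodTens.tensor_coact_tmul]
      have h1 := LinearMap.congr_fun (hd φ) 1
      rw [ComodTens.dualCoactFun_apply,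
        show (HopfRep.Comod.regular k A).coact (1 : A) = CoalgebraStruct.comul (R := k) (1 : A) from rfl,
        Bialgebra.comul_one, Algebra.TensorProduct.one_def, TensorProduct.map_tmul, TensorProduct.lid_tmul,
        HopfAlgebra.antipode_one] at h1
      induction HopfRep.Comod.coact (k := k) (A := A) c using TensorProduct.induction_on with
      | zero => simp
      | add p q hp hq => simp only [smul_add, TensorProduct.add_tmul, map_add, hp, hq]
      | tmul c₀ c₁ =>
        have h2 : ∀ z : Module.Dual k A ⊗[k] A,
            (f.restrictScalars k).rTensor A (TensorProduct.map LinearMap.id (LinearMap.mul' k A)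
              (TensorProduct.AlgebraTensorModule.tensorTensorTensorComm k k k k B A (Module.Dual k A) A
                ((c₀ ⊗ₜ[k] c₁) ⊗ₜ[k] z))) = c₀ ⊗ₜ[k] (c₁ * dualTensorHom k A A z 1) := by
          intro z
          induction z using TensorProduct.induction_on with
          | zero => simp
          | add p q hp hq => simp only [TensorProduct.tmul_add, map_add, LinearMap.add_apply, mul_add, hp, hq]
          | tmul p q => simp [f, TensorProduct.smul_tmul]
        rw [h2, h1, mul_smul_comm, mul_one, TensorProduct.tmul_smul]
  have hsurj : Function.Surjective f := fun b =>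
    ⟨b ⊗ₜ CoalgebraStruct.counit (R := k) (A := A), by simp [f]⟩
  obtain ⟨x, hx, hx1⟩ := hexact (B ⊗[k] Module.Dual k A) B f hf hsurj 1 (by
    change HopfRep.Comod.coact (k := k) (A := A) (1 : B) = (1 : B) ⊗ₜ[k] (1 : A)
    rw [GLin.IsCoactAlg.coact_one, Algebra.TensorProduct.one_def])
  refine ⟨H66.FixedHom.read x, LinearMap.ext fun m => ?_, ?_⟩
  · have hr := congrArg (fun z => H66.FixedHom.read2 z m) (show cM.coact x = x ⊗ₜ[k] (1 : A) from hx)
    rw [H66.FixedHom.read2_coact inferInstance hd, H66.FixedHom.read2_tmul_one] at hr
    have hm := congrArg (H66.Integral.shearInv B) hr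
    rw [H66.Integral.shearInv_shear, H66.Integral.shearInv, H66.Integral.shear_tmul, H66.Integral.rmul,
      LinearMap.mulRight_one, LinearMap.lTensor_id_apply] at hm
    have hmap : ∀ z : A ⊗[k] A, TensorProduct.map (H66.FixedHom.read x) (HopfAlgebraStruct.antipode (R := k) (A := A)) z =
        (HopfAlgebraStruct.antipode (R := k) (A := A)).lTensor B ((H66.FixedHom.read x).rTensor A z) := by
      intro z
      induction z using TensorProduct.induction_on with
      | zero => simp
      | add p q hp hq => simp only [map_add, hp, hq]
      | tmul p q => simp
    rw [hmap] at hm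
    have hinv : ∀ z : B ⊗[k] A, (HopfAlgebraStruct.antipode (R := k) (A := A)).lTensor B
        ((HopfAlgebraStruct.antipode (R := k) (A := A)).lTensor B z) = z := fun z => by
      rw [← LinearMap.lTensor_comp_apply, show (HopfAlgebraStruct.antipode (R := k) (A := A)) ∘ₗ
        HopfAlgebraStruct.antipode (R := k) (A := A) = LinearMap.id from
        LinearMap.ext H66.FixedHom.antipode_antipode, LinearMap.lTensor_id_apply]
    have := congrArg ((HopfAlgebraStruct.antipode (R := k) (A := A)).lTensor B) hm
    rw [hinv, hinv] at this
    simp only [LinearMap.comp_apply]
    exact this.symm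
  · have e : ∀ z : B ⊗[k] Module.Dual k A, H66.FixedHom.read z 1 = f z := by
      intro z
      induction z using TensorProduct.induction_on with
      | zero => simp
      | add p q hp hq => simp only [map_add, LinearMap.add_apply, hp, hq]
      | tmul p q => simp [f, H66.FixedHom.read]
    rw [e, hx1]

end Groth.Agent.S12928
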