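import Groth.Statements.S12929
import Groth.Agent.H66.Base
-- import your own Groth.Agent.* helpers here

set_option autoImplicit false
universe u v w w'
open HopfRep

namespace Groth.Agent.S12929

/-- Let `k` be a commutative ring, `A` a commutative Hopf algebra over `k`, `M` a right `A`-comodule and
`N` a `k`-module; give `N ⊗ A` the coaction `id ⊗ Δ`. Then for every `k`-linear map `h : M → N` the
composite `(h ⊗ id_A) ∘ ρ_M : M → N ⊗ A` is a comodule map, and every comodule map `f : M → N ⊗ A`
is of this form for exactly one `h` (which is `(id_N ⊗ ε) ∘ f`): comodule maps `M → N ⊗ A`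
correspond bijectively to linear maps `M → N`. -/
theorem result
    (k : Type u) [CommRing k] (A : Type v) [CommRing A] [HopfAlgebra k A]
    (M : Type w) [AddCommGroup M] [Module k M] [HopfRep.Comod k A M]
    (N : Type w') [AddCommGroup N] [Module k N] :
    (∀ h : M →ₗ[k] N, Hoch.IsComodHom A
        ((Hoch.Ind.equiv k A N).toLinearMap ∘ₗ h.rTensor A ∘ₗ HopfRep.Comod.coact (k := k) (A := A))) ∧
      ∀ f : M →ₗ[k] Hoch.Ind k A N, Hoch.IsComodHom A f →
        ∃! h : M →ₗ[k] N,
          f = (Hoch.Ind.equiv k A N).toLinearMap ∘ₗ h.rTensor A ∘ₗ HopfRep.Comod.coact (k := k) (A := A) := by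
  have key : ∀ h : M →ₗ[k] N, ∀ m : M,
      Hoch.Ind.counit k A N (Hoch.Ind.equiv k A N (h.rTensor A (HopfRep.Comod.coact (k := k) (A := A) m))) = h m := by
    intro h m
    change TensorProduct.rid k N ((Coalgebra.counit (R := k) (A := A)).lTensor N (h.rTensor A (HopfRep.Comod.coact (k := k) (A := A) m))) = h m
    rw [← LinearMap.comp_apply ((Coalgebra.counit (R := k) (A := A)).lTensor N), LinearMap.lTensor_comp_rTensor,
      ← LinearMap.rTensor_comp_lTensor, LinearMap.comp_apply, H66.Base.counit_apply]
    simp
  refine ⟨fun h => LinearMap.ext fun m => ?_, fun f hf => ?_⟩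
  · change Hoch.Ind.coactAux k A N (h.rTensor A (HopfRep.Comod.coact (k := k) (A := A) m)) =
      (h.rTensor A ∘ₗ HopfRep.Comod.coact (k := k) (A := A)).rTensor A (HopfRep.Comod.coact (k := k) (A := A) m)
    rw [LinearMap.rTensor_comp_apply, H66.Base.coassoc_symm_apply]
    induction HopfRep.Comod.coact (k := k) (A := A) m using TensorProduct.induction_on with
    | zero => simp
    | add x y hx hy => simp only [map_add, hx, hy]
    | tmul x a =>
      rw [LinearMap.rTensor_tmul, Hoch.Ind.coactAux_tmul, LinearMap.lTensor_tmul]
      induction Coalgebra.comul (R := k) a using TensorProduct.induction_on with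
      | zero => simp
      | add p q hp hq => simp only [TensorProduct.tmul_add, map_add, hp, hq]
      | tmul p q => simp
  · refine ⟨Hoch.Ind.counit k A N ∘ₗ f, LinearMap.ext fun m => ?_, ?_⟩
    · have h3 := H66.Base.counit_rTensor_coact (k := k) (A := A) (f m)
      rw [H66.Base.isComodHom_apply hf, ← LinearMap.rTensor_comp_apply] at h3
      exact h3.symm
    · intro h' hh'
      ext m
      rw [hh']
      exact (key h' m).symm

end Groth.Agent.S12929
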