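import Groth.Statements.S1293
import Groth.Agent.Lib.LocalFlat.UnivInjective
import Mathlib.RingTheory.Localization.BaseChange

set_option autoImplicit false
universe u
open FlatMor

namespace Groth.Agent.S1293

open TensorProduct

/-- A map from a projective to a flat module which is injective at every closed point is universally injective. -/
theorem lTensor_injective_of_projective {A : Type u} [CommRing A] {P M : Type u} [AddCommGroup P] [Module A P]
    [Module.Projective A P] [AddCommGroup M] [Module A M] [Module.Flat A M] (w : P →ₗ[A] M)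
    (h : ∀ (m : Ideal A) [m.IsMaximal], Function.Injective (w.lTensor (A ⧸ m))) (Q : Type u) [AddCommGroup Q] [Module A Q] :
    Function.Injective (w.lTensor Q) := by
  refine (injective_iff_map_eq_zero _).2 fun z hz => ?_
  by_contra hne
  obtain ⟨m, hm, hle⟩ := Ideal.exists_le_maximal (LinearMap.ker (LinearMap.toSpanSingleton A _ z))
    (fun htop => hne (by simpa using (show (1 : A) ∈ LinearMap.ker (LinearMap.toSpanSingleton A _ z) from htop ▸ trivial)))
  let L := Localization.AtPrime m
  let k := IsLocalRing.ResidueField L
  have hcancel : ∀ (X : Type u) [AddCommGroup X] [Module A X] [Module L X] [IsScalarTower A L X] (y : X ⊗[L] (L ⊗[A] P)),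
      TensorProduct.AlgebraTensorModule.cancelBaseChange A L L X M ((w.baseChange L).lTensor X y) =
        w.lTensor X (TensorProduct.AlgebraTensorModule.cancelBaseChange A L L X P y) := by
    intro X _ _ _ _ y
    induction y using TensorProduct.induction_on with
    | zero => simp
    | add a b ha hb => simp only [map_add, ha, hb]
    | tmul q v =>
      induction v using TensorProduct.induction_on with
      | zero => simp
      | add a b ha hb => simp only [TensorProduct.tmul_add, map_add, ha, hb]
      | tmul s n => simp
  have hk : Function.Injective ((w.baseChange L).lTensor k) := by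
    intro a b hab
    apply (TensorProduct.AlgebraTensorModule.cancelBaseChange A L L k P).injective
    let e : (A ⧸ m) ≃ₗ[A] k := LinearEquiv.ofBijective
      ((IsScalarTower.toAlgHom A (A ⧸ m) m.ResidueField).toLinearMap)
      m.bijective_algebraMap_quotient_residueField
    have key : ∀ y, w.lTensor k (e.rTensor P y) = e.rTensor M (w.lTensor (A ⧸ m) y) := fun y => by
      induction y using TensorProduct.induction_on with
      | zero => simp
      | add a b ha hb => simp only [map_add, ha, hb]
      | tmul q v => simp
    obtain ⟨a', ha'⟩ := (e.rTensor P).surjective (TensorProduct.AlgebraTensorModule.cancelBaseChange A L L k P a)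
    obtain ⟨b', hb'⟩ := (e.rTensor P).surjective (TensorProduct.AlgebraTensorModule.cancelBaseChange A L L k P b)
    rw [← ha', ← hb']
    refine congrArg _ (h m ((e.rTensor M).injective ?_))
    rw [← key, ← key, ha', hb', ← hcancel, ← hcancel, hab]
  let X := L ⊗[A] Q
  have hX : Function.Injective (w.lTensor X) := fun a b hab => by
    apply (TensorProduct.AlgebraTensorModule.cancelBaseChange A L L X P).symm.injective
    refine (LinearMap.lTensor_inj_iff_rTensor_inj _ _).2
      (Lib.LocalFlat.UnivInjective.rTensor_injective_of_projective _ hk X) ?_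
    apply (TensorProduct.AlgebraTensorModule.cancelBaseChange A L L X M).injective
    rw [hcancel, hcancel, LinearEquiv.apply_symm_apply, LinearEquiv.apply_symm_apply, hab]
  have hassoc : ∀ y : Q ⊗[A] P, w.lTensor X ((TensorProduct.assoc A L Q P).symm ((1 : L) ⊗ₜ[A] y)) =
      (TensorProduct.assoc A L Q M).symm ((1 : L) ⊗ₜ[A] w.lTensor Q y) := fun y => by
    induction y using TensorProduct.induction_on with
    | zero => simp
    | add a b ha hb => simp only [map_add, TensorProduct.tmul_add, ha, hb]
    | tmul q v => simp
  have h1 : (1 : L) ⊗ₜ[A] z = 0 := by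
    apply (TensorProduct.assoc A L Q P).symm.injective
    rw [map_zero]
    apply hX
    rw [hassoc, hz, TensorProduct.tmul_zero, map_zero, map_zero]
  haveI : IsLocalizedModule m.primeCompl (TensorProduct.mk A L (Q ⊗[A] P) 1) :=
    (isLocalizedModule_iff_isBaseChange m.primeCompl L _).2 (TensorProduct.isBaseChange A (Q ⊗[A] P) L)
  obtain ⟨s, hs⟩ := (IsLocalizedModule.eq_zero_iff m.primeCompl (TensorProduct.mk A L (Q ⊗[A] P) 1)).1 h1
  exact s.2 (hle hs)

/-- Membership in the extension of an ideal, through a universally injective map. -/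
theorem mem_smul_top_of_univInj {A : Type u} [CommRing A] {P N : Type u} [AddCommGroup P] [Module A P] [AddCommGroup N]
    [Module A N] (g : P →ₗ[A] N) (hg : _root_.FlatCA.UnivInj A g) (J : Ideal A) (y : P)
    (hy : g y ∈ J • (⊤ : Submodule A N)) : y ∈ J • (⊤ : Submodule A P) := by
  rw [← Submodule.Quotient.mk_eq_zero] at hy ⊢
  have h1 : (TensorProduct.quotTensorEquivQuotSMul P J).symm (Submodule.Quotient.mk y) = 0 := by
    apply hg (A ⧸ J)
    rw [map_zero, TensorProduct.quotTensorEquivQuotSMul_symm_mk, LinearMap.lTensor_tmul,
      ← TensorProduct.quotTensorEquivQuotSMul_symm_mk, hy, map_zero]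
  exact (TensorProduct.quotTensorEquivQuotSMul P J).symm.map_eq_zero_iff.1 h1

/-- Let B be a finitely presented A-algebra, T ⊆ B a multiplicative subset and N a finitely presented
T⁻¹B-module which admits a pure spreadout (FlatCA.HasPureSpreadout). Then (1) every x ∈ N has a
content ideal, i.e. a smallest ideal I of A with x ∈ IN; and (2) every A-linear map u from N to a
flat A-module M such that u ⊗ A/𝔪 is injective for every maximal ideal 𝔪 of A is universally
injective over A. -/
theorem result {A B : Type u} [CommRing A] [CommRing B] [Algebra A B] [Algebra.FinitePresentation A B]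
    (T : Submonoid B) (N : Type u) [AddCommGroup N] [Module (Localization T) N] [Module A N] [IsScalarTower A (Localization T) N]
    [Module.FinitePresentation (Localization T) N] (h : FlatCA.HasPureSpreadout A B T N) :
    (∀ x : N, ∃ I : Ideal A, x ∈ I • (⊤ : Submodule A N) ∧ ∀ J : Ideal A, x ∈ J • (⊤ : Submodule A N) → I ≤ J) ∧
    ∀ (M : Type u) [AddCommGroup M] [Module A M] [Module.Flat A M] (u : N →ₗ[A] M),
      (∀ (m : Ideal A) [m.IsMaximal], Function.Injective (u.lTensor (A ⧸ m))) → FlatCA.UnivInj A u := by
  obtain ⟨C, _, _, _, _, _, _, _, _, _, _, P, _, _, _, _, g, -, -, hg, hproj, hui⟩ := h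
  haveI := hproj
  let gA := g.restrictScalars A
  have hdiv : ∀ x : N, ∃ (v : (Localization T)ˣ) (y : P), (v : Localization T) • x = gA y := by
    intro x
    induction x using hg.inductionOn with
    | zero => exact ⟨1, 0, by simp⟩
    | tmul y => exact ⟨1, y, by simp [gA]⟩
    | smul c x hx =>
      obtain ⟨b, t, rfl⟩ := IsLocalization.exists_mk'_eq T c
      obtain ⟨v, y, hy⟩ := hx
      refine ⟨(IsLocalization.map_units (Localization T) t).unit * v, algebraMap B C b • y, ?_⟩
      show (algebraMap B (Localization T) (t : B) * (v : Localization T)) • IsLocalization.mk' (Localization T) b t • x =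
        g (algebraMap B C b • y)
      rw [map_smul, ← algebraMap_smul (Localization T) (algebraMap B C b) (g y), ← IsScalarTower.algebraMap_apply,
        show g y = gA y from rfl, ← hy, smul_smul, smul_smul, mul_right_comm, IsLocalization.mk'_spec' (Localization T) b t]
    | add x₁ x₂ h₁ h₂ =>
      obtain ⟨v₁, y₁, hy₁⟩ := h₁
      obtain ⟨v₂, y₂, hy₂⟩ := h₂
      -- clear the units
      obtain ⟨b₁, t₁, e₁⟩ := IsLocalization.exists_mk'_eq T (v₁ : Localization T)
      obtain ⟨b₂, t₂, e₂⟩ := IsLocalization.exists_mk'_eq T (v₂ : Localization T)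
      refine ⟨(IsLocalization.map_units (Localization T) t₁).unit * (IsLocalization.map_units (Localization T) t₂).unit * v₁ * v₂,
        algebraMap B C ((t₁ : B) * b₂) • y₁ + algebraMap B C ((t₂ : B) * b₁) • y₂, ?_⟩
      simp only [gA, LinearMap.restrictScalars_apply, map_add, map_smul]
      simp only [gA, LinearMap.restrictScalars_apply] at hy₁ hy₂
      show _ = algebraMap B C ((t₁ : B) * b₂) • g y₁ + algebraMap B C ((t₂ : B) * b₁) • g y₂
      rw [← algebraMap_smul (Localization T) (algebraMap B C ((t₁ : B) * b₂)) (g y₁),
        ← algebraMap_smul (Localization T) (algebraMap B C ((t₂ : B) * b₁)) (g y₂), ← hy₁, ← hy₂,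
        ← IsScalarTower.algebraMap_apply, ← IsScalarTower.algebraMap_apply, smul_smul, smul_smul, smul_add, map_mul, map_mul,
        ← IsLocalization.mk'_spec' (Localization T) b₁ t₁, ← IsLocalization.mk'_spec' (Localization T) b₂ t₂, e₁, e₂]
      simp only [Units.val_mul, IsUnit.unit_spec]
      congr 2 <;> ring
  let μ : Localization T → (N →ₗ[A] N) := fun c => (LinearMap.lsmul (Localization T) N c).restrictScalars A
  have hmem : ∀ (c : Localization T) (J : Ideal A) (x : N), x ∈ J • (⊤ : Submodule A N) → c • x ∈ J • (⊤ : Submodule A N) := by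
    intro c J x hx
    refine Submodule.smul_induction_on hx (fun a ha n _ => ?_) fun u v hu hv => ?_
    · rw [smul_comm]
      exact Submodule.smul_mem_smul ha trivial
    · rw [smul_add]
      exact add_mem hu hv
  refine ⟨fun x => ?_, fun M _ _ _ u hu Q _ _ => ?_⟩
  · obtain ⟨v, y, hy⟩ := hdiv x
    obtain ⟨s, hs⟩ := Module.projective_def.1 hproj
    let I : Ideal A := Ideal.span (Set.range (s y))
    refine ⟨I, ?_, fun J hJ => Ideal.span_le.2 ?_⟩
    · have hyI : y ∈ I • (⊤ : Submodule A P) := by
        rw [← hs y, Finsupp.linearCombination_apply]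
        exact Submodule.sum_mem _ fun i _ => Submodule.smul_mem_smul (Ideal.subset_span (Set.mem_range_self i)) trivial
      have h1 : gA y ∈ I • (⊤ : Submodule A N) := by
        have := Submodule.mem_map_of_mem (f := gA) hyI
        rw [Submodule.map_smul''] at this
        exact Submodule.smul_mono le_rfl le_top this
      have h2 := hmem (v⁻¹ : (Localization T)ˣ) I _ h1
      rwa [← hy, smul_smul, Units.inv_mul, one_smul] at h2
    · rintro _ ⟨i, rfl⟩
      have h1 : gA y ∈ J • (⊤ : Submodule A N) := hy ▸ hmem _ J _ hJ
      have h2 := mem_smul_top_of_univInj gA hui J y h1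
      have h3 := Submodule.mem_map_of_mem (f := (Finsupp.lapply i).comp s) h2
      rw [Submodule.map_smul''] at h3
      have h4 := Submodule.smul_mono (le_refl J) (le_top : _ ≤ (⊤ : Submodule A A)) h3
      rwa [smul_eq_mul, Ideal.mul_top] at h4
  · have hμ : ∀ (v : (Localization T)ˣ) (X : Type u) [AddCommGroup X] [Module A X] (z : X ⊗[A] N),
        (μ (v : Localization T)).lTensor X ((μ ((v⁻¹ : (Localization T)ˣ) : Localization T)).lTensor X z) = z := by
      intro v X _ _ z
      induction z using TensorProduct.induction_on with
      | zero => simp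
      | add a b ha hb => rw [map_add, map_add, ha, hb]
      | tmul q n => simp [μ, smul_smul]
    refine (injective_iff_map_eq_zero _).2 fun z hz => ?_
    obtain ⟨v, y, hy⟩ : ∃ (v : (Localization T)ˣ) (y : Q ⊗[A] P), (μ (v : Localization T)).lTensor Q z = gA.lTensor Q y := by
      clear hz
      obtain ⟨S, rfl⟩ := TensorProduct.exists_multiset z
      induction S using Multiset.induction_on with
      | empty => exact ⟨1, 0, by simp⟩
      | cons a S ih =>
        obtain ⟨v₁, y₁, hy₁⟩ := hdiv a.2
        obtain ⟨v₂, y₂, hy₂⟩ := ih
        -- simultaneous unit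
        obtain ⟨b₁, t₁, e₁⟩ := IsLocalization.exists_mk'_eq T (v₁ : Localization T)
        obtain ⟨b₂, t₂, e₂⟩ := IsLocalization.exists_mk'_eq T (v₂ : Localization T)
        let c : B → (P →ₗ[A] P) := fun b => (LinearMap.lsmul C P (algebraMap B C b)).restrictScalars A
        refine ⟨(IsLocalization.map_units (Localization T) t₁).unit * (IsLocalization.map_units (Localization T) t₂).unit * v₁ * v₂,
          a.1 ⊗ₜ[A] c ((t₁ : B) * b₂) y₁ + (c ((t₂ : B) * b₁)).lTensor Q y₂, ?_⟩
        have hc : ∀ b n, gA (c b n) = μ (algebraMap B (Localization T) b) (gA n) := fun b n => by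
          show g (algebraMap B C b • n) = algebraMap B (Localization T) b • g n
          rw [map_smul, ← algebraMap_smul (Localization T) (algebraMap B C b) (g n), ← IsScalarTower.algebraMap_apply]
        have hμc : gA.comp (c ((t₂ : B) * b₁)) = (μ (algebraMap B (Localization T) ((t₂ : B) * b₁))).comp gA :=
          LinearMap.ext fun n => hc _ n
        have hμμ : ∀ (d e : Localization T), (μ d).comp (μ e) = μ (d * e) := fun d e =>
          LinearMap.ext fun n => (mul_smul d e n).symm
        rw [Multiset.map_cons, Multiset.sum_cons, map_add, map_add, LinearMap.lTensor_tmul, LinearMap.lTensor_tmul, hc,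
          ← hy₁, ← LinearMap.comp_apply (LinearMap.lTensor Q gA), ← LinearMap.lTensor_comp, hμc, LinearMap.lTensor_comp,
          LinearMap.comp_apply, ← hy₂, ← LinearMap.comp_apply (LinearMap.lTensor Q (μ _)), ← LinearMap.lTensor_comp, hμμ]
        congr 1
        · congr 1
          simp only [μ, LinearMap.restrictScalars_apply, LinearMap.lsmul_apply, smul_smul]
          rw [map_mul, ← IsLocalization.mk'_spec' (Localization T) b₂ t₂, e₂]
          simp only [Units.val_mul, IsUnit.unit_spec]
          congr 1; ring
        · congr 2
          rw [map_mul, ← IsLocalization.mk'_spec' (Localization T) b₁ t₁, e₁]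
          simp only [Units.val_mul, IsUnit.unit_spec]
          congr 1; ring
    let w : P →ₗ[A] M := u.comp ((μ ((v⁻¹ : (Localization T)ˣ) : Localization T)).comp gA)
    have hw : ∀ (m : Ideal A) [m.IsMaximal], Function.Injective (w.lTensor (A ⧸ m)) := fun m _ => by
      intro a b hab
      simp only [w, LinearMap.lTensor_comp, LinearMap.comp_apply] at hab
      apply hui (A ⧸ m)
      exact Function.LeftInverse.injective (hμ v (A ⧸ m)) (hu m hab)
    have hinv : (μ ((v⁻¹ : (Localization T)ˣ) : Localization T)).lTensor Q (gA.lTensor Q y) = z := by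
      rw [← hy]
      have := hμ v⁻¹ Q z
      rwa [inv_inv] at this
    have hy0 : y = 0 := lTensor_injective_of_projective w hw Q (by
      simp only [w, LinearMap.lTensor_comp, LinearMap.comp_apply, map_zero, hinv, hz])
    rw [← hinv, hy0, map_zero, map_zero]

end Groth.Agent.S1293
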