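import Groth.Statements.S12931
import Mathlib.Algebra.BigOperators.Pi
import Mathlib.Data.Fintype.BigOperators
-- import your own Groth.Agent.* helpers here

set_option autoImplicit false
universe u v w
open HopfRep

namespace Groth.Agent.S12931

/-- Let `R` be a commutative ring, `Γ` a finite set and `T` a commutative `R`-algebra which is
connected: nonzero, with no idempotents other than `0` and `1`. Then `γ ↦ (evaluation at γ : (Γ → R)
→ R → T)` is a bijection from `Γ` onto the `R`-algebra maps `(Γ → R) → T`: every such map sends
exactly one of the indicator functions to `1` and the others to `0`. (Only the bijection of sets is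
stated; when `Γ` is a group, the compatibility with the group structures on both sides is not.) -/
theorem result
    (R : Type u) [CommRing R] (Γ : Type v) [Finite Γ]
    (T : Type w) [CommRing T] [Algebra R T] [Nontrivial T]
    (hT : ∀ e : T, IsIdempotentElem e → e = 0 ∨ e = 1) :
    Function.Bijective (fun γ : Γ => (Algebra.ofId R T).comp (Pi.evalAlgHom R (fun _ : Γ => R) γ)) := by
  classical
  cases nonempty_fintype Γ
  constructor
  · intro γ δ h
    by_contra hne
    have := DFunLike.congr_fun h (Pi.single γ (1 : R))
    simp [Pi.single_apply, Ne.symm hne] at this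
  · intro φ
    have hidem : ∀ γ, φ (Pi.single γ (1 : R)) = 0 ∨ φ (Pi.single γ (1 : R)) = 1 := fun γ =>
      hT _ (by rw [IsIdempotentElem, ← map_mul, ← Pi.single_mul, one_mul])
    have hsum : ∑ γ, φ (Pi.single γ (1 : R)) = 1 := by
      rw [← map_sum, Finset.univ_sum_single (fun _ => (1 : R))]
      exact map_one φ
    obtain ⟨γ, hγ⟩ : ∃ γ, φ (Pi.single γ (1 : R)) = 1 := by
      by_contra h
      simp only [not_exists] at h
      rw [Finset.sum_eq_zero fun γ _ => (hidem γ).resolve_right (h γ)] at hsum
      exact zero_ne_one hsum
    refine ⟨γ, AlgHom.ext fun f => ?_⟩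
    have e : f * Pi.single γ 1 = algebraMap R (Γ → R) (f γ) * Pi.single γ 1 := by
      funext i
      by_cases hi : i = γ
      · subst hi; simp
      · simp [hi]
    have := congrArg φ e
    rw [map_mul, map_mul, hγ, mul_one, mul_one, AlgHom.commutes] at this
    simpa using this.symm

end Groth.Agent.S12931
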