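import Groth.Statements.S12932
import Mathlib.RingTheory.Invariant.Basic
import Mathlib.LinearAlgebra.LinearIndependent.Basic
import Mathlib.RingTheory.IntegralClosure.IntegralRestrict
import Mathlib.RingTheory.Ideal.GoingUp

set_option autoImplicit false
universe u v
open scoped BigOperators
open InvTh

namespace Groth.Agent.S12932

/-- Let `B` be a commutative ring with an action of a finite group `Γ` by ring automorphisms, and call a
prime ideal `P` of `B` tame when the order of its inertia group `{γ | γ • x - x ∈ P for all x}` is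
not divisible by the characteristic of `B/P` (its ramification group is trivial). Then every prime
of `B` is tame if and only if the trace `b ↦ Σ_γ γ • b`, which takes values in the invariant ring
`B^Γ` and is `B^Γ`-linear, is onto `B^Γ` — equivalently, some element of `B` has trace `1`. -/
theorem result
    (B : Type u) [CommRing B] (Γ : Type v) [Group Γ] [Fintype Γ] [MulSemiringAction Γ B] :
    (∃ b : B, ∑ γ : Γ, γ • b = 1) ↔
      ∀ P : Ideal B, P.IsPrime → ((Nat.card (P.inertia Γ) : ℕ) : B ⧸ P) ≠ 0 := by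
  classical
  constructor
  · rintro ⟨b, hb⟩ P hP h0
    have hq : ∀ (i : P.inertia Γ) (g : Γ), Ideal.Quotient.mk P (((i : Γ) * g) • b) = Ideal.Quotient.mk P (g • b) := by
      intro i g
      rw [Ideal.Quotient.eq, mul_smul]
      exact AddSubgroup.mem_inertia.mp i.2 (g • b)
    have hd : ((Nat.card (P.inertia Γ) : ℕ) : B ⧸ P) ∣ Ideal.Quotient.mk P (∑ γ : Γ, γ • b) := by
      let s := Quotient.mk (QuotientGroup.rightRel (P.inertia Γ))
      rw [map_sum, ← Finset.sum_fiberwise Finset.univ s]
      refine Finset.dvd_sum fun c _ ↦ ?_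
      obtain ⟨g, rfl⟩ := Quotient.exists_rep c
      rw [Finset.sum_congr rfl (g := fun _ ↦ Ideal.Quotient.mk P (g • b)) fun γ hγ ↦ by
        have h1 : g * γ⁻¹ ∈ P.inertia Γ := QuotientGroup.rightRel_apply.mp
          (Quotient.exact (Finset.mem_filter.mp hγ).2)
        have h2 := hq ⟨g * γ⁻¹, h1⟩ γ
        simp only [inv_mul_cancel_right] at h2
        exact h2.symm]
      rw [Finset.sum_const, nsmul_eq_mul]
      refine Dvd.intro (Ideal.Quotient.mk P (g • b)) ?_
      congr 1
      have hcard : (Finset.univ.filter fun γ : Γ ↦ s γ = s g).card = Nat.card (P.inertia Γ) := by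
        rw [Nat.card_eq_fintype_card, ← Finset.card_univ (α := P.inertia Γ)]
        refine Finset.card_nbij' (fun γ ↦ if h : γ * g⁻¹ ∈ P.inertia Γ then (⟨γ * g⁻¹, h⟩ : P.inertia Γ) else 1)
          (fun i ↦ (i : Γ) * g) (fun _ _ ↦ Finset.mem_coe.mpr (Finset.mem_univ _)) (fun i _ ↦ ?_)
          (fun γ hγ ↦ ?_) (fun i _ ↦ ?_)
        · refine Finset.mem_coe.mpr (Finset.mem_filter.mpr ⟨Finset.mem_univ _, Quotient.sound ?_⟩)
          refine QuotientGroup.rightRel_apply.mpr ?_
          rw [mul_inv_rev, mul_inv_cancel_left]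
          exact inv_mem i.2
        · have h1 : γ * g⁻¹ ∈ P.inertia Γ := by
            have := inv_mem (QuotientGroup.rightRel_apply.mp
              (Quotient.exact (Finset.mem_filter.mp (Finset.mem_coe.mp hγ)).2))
            rwa [mul_inv_rev, inv_inv] at this
          simp [h1]
        · simp
      rw [← hcard]
    rw [h0, hb, map_one, zero_dvd_iff] at hd
    exact one_ne_zero hd
  · intro h
    let tr : B → B := fun b ↦ ∑ γ : Γ, γ • b
    have hinv : ∀ (γ : Γ) b, γ • tr b = tr b := fun γ b ↦ by
      simp only [tr, Finset.smul_sum, smul_smul]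
      exact Fintype.sum_equiv (Equiv.mulLeft γ) _ _ (fun x ↦ rfl)
    let A := FixedPoints.subring B Γ
    let T : Ideal A :=
      { carrier := {a | ∃ b, tr b = (a : B)}
        add_mem' := by
          rintro x y ⟨b, hb⟩ ⟨c, hc⟩
          exact ⟨b + c, by simp [tr, smul_add, Finset.sum_add_distrib, ← hb, ← hc]⟩
        zero_mem' := ⟨0, by simp [tr]⟩
        smul_mem' := by
          rintro a x ⟨b, hb⟩
          refine ⟨a * b, ?_⟩
          show ∑ γ : Γ, γ • ((a : B) * b) = (a : B) * x
          rw [← hb, Finset.mul_sum]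
          exact Finset.sum_congr rfl fun γ _ ↦ by rw [smul_mul', a.2 γ] }
    suffices hT : T = ⊤ by
      obtain ⟨b, hb⟩ : (1 : A) ∈ T := hT ▸ Submodule.mem_top
      exact ⟨b, hb⟩
    by_contra hne
    obtain ⟨M, hM, hTM⟩ := T.exists_le_maximal hne
    have : Algebra.IsInvariant A B Γ := ⟨fun b hb ↦ ⟨⟨b, hb⟩, rfl⟩⟩
    have : Algebra.IsIntegral A B := Algebra.IsInvariant.isIntegral A B Γ
    obtain ⟨P, hP, hPM⟩ := Ideal.exists_ideal_over_maximal_of_isIntegral (S := B) M (by
      intro x hx
      have hx0 : (x : B) = 0 := hx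
      rw [show x = 0 from Subtype.ext hx0]
      exact M.zero_mem)
    have hmem : ∀ b, tr b ∈ P := fun b ↦ by
      have h1 : (⟨tr b, fun γ ↦ hinv γ b⟩ : A) ∈ P.comap (algebraMap A B) := hPM ▸ hTM ⟨b, rfl⟩
      exact h1
    have hPp : P.IsPrime := hP.isPrime
    let φ : Γ → (B →* B ⧸ P) := fun γ ↦
      ((Ideal.Quotient.mk P).comp (MulSemiringAction.toRingHom Γ B γ)).toMonoidHom
    have hsum : ∑ ψ ∈ Finset.univ.image φ, ((Finset.univ.filter fun γ ↦ φ γ = ψ).card : B ⧸ P) •
        (ψ : B → B ⧸ P) = 0 := by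
      funext b
      rw [Finset.sum_apply, Pi.zero_apply]
      simp only [Pi.smul_apply, smul_eq_mul]
      have h1 : ∑ γ : Γ, φ γ b = 0 := by
        show ∑ γ : Γ, Ideal.Quotient.mk P (γ • b) = 0
        rw [← map_sum]
        exact Ideal.Quotient.eq_zero_iff_mem.mpr (hmem b)
      rw [← h1, ← Finset.sum_fiberwise_of_maps_to (g := φ) (t := Finset.univ.image φ)
        (fun γ _ ↦ Finset.mem_image_of_mem φ (Finset.mem_univ γ))]
      refine Finset.sum_congr rfl fun ψ _ ↦ ?_
      rw [Finset.sum_congr rfl (g := fun _ ↦ ψ b) fun γ hγ ↦ by rw [(Finset.mem_filter.mp hγ).2],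
        Finset.sum_const, nsmul_eq_mul]
    have h1 := linearIndependent_iff'.mp (linearIndependent_monoidHom B (B ⧸ P)) _ _ hsum (φ 1)
      (Finset.mem_image_of_mem φ (Finset.mem_univ 1))
    refine h P hPp ?_
    rw [← h1]
    congr 1
    rw [Nat.card_eq_fintype_card]
    refine Fintype.card_of_subtype _ fun γ ↦ ?_
    simp only [Finset.mem_filter, Finset.mem_univ, true_and]
    constructor
    · intro hγ
      exact AddSubgroup.mem_inertia.mpr fun x ↦ Ideal.Quotient.eq.mp
        ((DFunLike.congr_fun hγ x).trans (by simp [φ]))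
    · intro hγ
      ext x
      show Ideal.Quotient.mk P (γ • x) = Ideal.Quotient.mk P ((1 : Γ) • x)
      rw [one_smul, Ideal.Quotient.eq]
      exact AddSubgroup.mem_inertia.mp hγ x

end Groth.Agent.S12932
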