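import Groth.Statements.S12933
import Mathlib.RingTheory.Flat.Basic
import Mathlib.LinearAlgebra.TensorProduct.Pi

set_option autoImplicit false
universe u v w w'
open TensorProduct
open InvTh

namespace Groth.Agent.S12933

/-- Let `R` be a commutative ring, `B` a commutative `R`-algebra with an action of a finite group `Γ` by
`R`-algebra automorphisms, and `R'` a flat commutative `R`-algebra; let `Γ` act on `R' ⊗_R B`
through the factor `B`. Then an element of `R' ⊗_R B` is fixed by every element of `Γ` if and only
if it lies in the `R'`-submodule spanned by the tensors `1 ⊗ b` with `b ∈ B^Γ`: taking invariants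
commutes with flat base change (the map `R' ⊗_R B^Γ → R' ⊗_R B` being moreover injective by
flatness). -/
theorem result
    (R : Type u) [CommRing R] (B : Type v) [CommRing B] [Algebra R B]
    (Γ : Type w) [Group Γ] [Finite Γ] [MulSemiringAction Γ B] [SMulCommClass Γ R B]
    (R' : Type w') [CommRing R'] [Algebra R R'] [Module.Flat R R']
    (x : R' ⊗[R] B) :
    (∀ γ : Γ, Algebra.TensorProduct.map (AlgHom.id R R') (MulSemiringAction.toAlgHom R B γ) x = x) ↔
      x ∈ Submodule.span R' ((fun b : B => (1 : R') ⊗ₜ[R] b) '' {b : B | ∀ γ : Γ, γ • b = b}) := by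
  classical
  cases nonempty_fintype Γ
  have hmap : ∀ (γ : Γ) (y : R' ⊗[R] B), Algebra.TensorProduct.map (AlgHom.id R R') (MulSemiringAction.toAlgHom R B γ) y =
      LinearMap.lTensor R' (MulSemiringAction.toAlgHom R B γ).toLinearMap y := fun γ y => by
    induction y with
    | zero => simp
    | tmul a b => simp
    | add a b ha hb => rw [map_add, map_add, ha, hb]
  let ψ : B →ₗ[R] Γ → B := LinearMap.pi fun γ => (MulSemiringAction.toAlgHom R B γ).toLinearMap - LinearMap.id
  have hψ : ∀ b, ψ b = 0 ↔ ∀ γ : Γ, γ • b = b := fun b => by
    simp [ψ, funext_iff, sub_eq_zero]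
  constructor
  · intro hx
    have hex : Function.Exact (LinearMap.ker ψ).subtype ψ := LinearMap.exact_subtype_ker_map ψ
    have h0 : LinearMap.lTensor R' ψ x = 0 := by
      apply (TensorProduct.piRight R R R' (fun _ : Γ => B)).injective
      rw [map_zero]
      funext γ
      have : ∀ y : R' ⊗[R] B, TensorProduct.piRight R R R' (fun _ : Γ => B) (LinearMap.lTensor R' ψ y) γ =
          LinearMap.lTensor R' (MulSemiringAction.toAlgHom R B γ).toLinearMap y - y := fun y => by
        induction y with
        | zero => simp
        | tmul a b => simp [ψ, TensorProduct.tmul_sub]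
        | add a b ha hb => rw [map_add, map_add, Pi.add_apply, ha, hb, map_add]; abel
      rw [this, ← hmap, hx γ, sub_self]; rfl
    obtain ⟨y, rfl⟩ := (Module.Flat.lTensor_exact R' hex _).mp h0
    clear hx h0
    induction y with
    | zero => simp
    | tmul a b =>
      have h1 : a ⊗ₜ[R] (b : B) = a • ((1 : R') ⊗ₜ[R] (b : B)) := by
        rw [TensorProduct.smul_tmul', smul_eq_mul, mul_one]
      rw [LinearMap.lTensor_tmul, Submodule.subtype_apply, h1]
      exact Submodule.smul_mem _ _ (Submodule.subset_span ⟨b, (hψ _).mp b.2, rfl⟩)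
    | add a b ha hb => rw [map_add]; exact add_mem ha hb
  · intro hx γ
    induction hx using Submodule.span_induction with
    | mem y hy => obtain ⟨b, hb, rfl⟩ := hy; simp [hb γ]
    | zero => simp
    | add a b _ _ ha hb => rw [map_add, ha, hb]
    | smul r a _ ha =>
      rw [Algebra.smul_def, map_mul, ha]
      simp

end Groth.Agent.S12933
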