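import Groth.Statements.S12934
import Mathlib.RingTheory.LocalRing.ResidueField.Basic
import Mathlib.RingTheory.RootsOfUnity.PrimitiveRoots
import Mathlib.RingTheory.IntegralDomain
import Mathlib.GroupTheory.Sylow
import Mathlib.Algebra.CharP.Two
import Mathlib.GroupTheory.Perm.Cycle.Type

set_option autoImplicit false
universe u v
open InvTh

namespace Groth.Agent.S12934

/-- Let `B` be a local commutative ring with maximal ideal `m` and residue field `k`, and `Γ` a finite
group acting faithfully on `B` by ring automorphisms, such that every element of `Γ` acts trivially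
modulo `m` (the whole group is inertia) and maps each principal ideal of `B` into itself (every
ideal is stable). Let `S ⊆ Γ` be the set of `γ` with `γ b ∈ b + b m` for all `b`. Then: if `k` has
characteristic `0`, `S = {1}`; if `k` has characteristic `p > 0`, `S` is (the underlying set of) a
Sylow `p`-subgroup; every commutator of `Γ` lies in `S`, so `Γ/S` is abelian; and whenever the class
of `γ` in `Γ/S` has order `n` (`γ^n ∈ S`, no smaller positive power in `S`), `k` contains a
primitive `n`-th root of unity. (The published statement also bounds the number of generators of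
`Γ/S` by the number of generators of the monoid of principal ideals; that clause is not included.) -/
theorem result
    (B : Type u) [CommRing B] [IsLocalRing B]
    (Γ : Type v) [Group Γ] [Finite Γ] [MulSemiringAction Γ B] [FaithfulSMul Γ B]
    (hin : ∀ (γ : Γ) (b : B), γ • b - b ∈ IsLocalRing.maximalIdeal B)
    (hst : ∀ (γ : Γ) (b : B), ∃ u : B, γ • b = b * u)
    (S : Set Γ)
    (hS : ∀ γ : Γ, γ ∈ S ↔ ∀ b : B, ∃ x ∈ IsLocalRing.maximalIdeal B, γ • b = b + b * x) :
    (ringChar (IsLocalRing.ResidueField B) = 0 → S = {1}) ∧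
      (∀ (p : ℕ) [Fact p.Prime], ringChar (IsLocalRing.ResidueField B) = p →
        ∃ Q : Sylow p Γ, (Q : Set Γ) = S) ∧
      (∀ γ δ : Γ, γ * δ * γ⁻¹ * δ⁻¹ ∈ S) ∧
      (∀ (γ : Γ) (n : ℕ), 0 < n → γ ^ n ∈ S → (∀ i : ℕ, 0 < i → i < n → γ ^ i ∉ S) →
        ∃ ζ : IsLocalRing.ResidueField B, IsPrimitiveRoot ζ n) := by
  classical
  cases nonempty_fintype Γ
  let k := IsLocalRing.ResidueField B
  let r : B →+* k := IsLocalRing.residue B
  have hr : ∀ x, r x = 0 ↔ x ∈ IsLocalRing.maximalIdeal B := fun x => Ideal.Quotient.eq_zero_iff_mem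
  have hkill : ∀ b v : B, b * v = 0 → r v ≠ 0 → b = 0 := fun b v h hv =>
    (IsUnit.mul_left_eq_zero (by
      rw [← IsLocalRing.notMem_maximalIdeal, ← hr]; exact hv)).mp h
  choose u hu using hst
  -- the tame character attached to an element
  have huniq : ∀ b : B, b ≠ 0 → ∀ v w : B, b * v = b * w → r v = r w := fun b hb v w h => by
    by_contra hne
    exact hb (hkill b (v - w) (by rw [mul_sub, h, sub_self]) (by rwa [map_sub, sub_ne_zero]))
  have hχmul : ∀ b : B, b ≠ 0 → ∀ γ δ : Γ, r (u (γ * δ) b) = r (u γ b) * r (u δ b) := fun b hb γ δ => by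
    have h1 : b * u (γ * δ) b = b * (u γ b * (γ • u δ b)) := by
      rw [← hu, mul_smul, hu δ b, smul_mul', hu γ b, mul_assoc]
    rw [huniq b hb _ _ h1, map_mul]
    congr 1
    rw [← sub_eq_zero, ← map_sub, hr]
    exact hin γ _
  have hχone : ∀ b : B, b ≠ 0 → r (u 1 b) = 1 := fun b hb =>
    (huniq b hb _ 1 (by rw [mul_one, ← hu, one_smul])).trans (map_one r)
  let χ : {b : B // b ≠ 0} → Γ →* k := fun b =>
    { toFun := fun γ => r (u γ b.1), map_one' := hχone _ b.2, map_mul' := hχmul _ b.2 }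
  have hmem : ∀ γ, γ ∈ S ↔ ∀ b, χ b γ = 1 := by
    intro γ
    rw [hS]
    constructor
    · intro h b
      obtain ⟨x, hx, he⟩ := h b.1
      show r (u γ b.1) = 1
      rw [huniq b.1 b.2 (u γ b.1) (1 + x) (by rw [← hu, he, mul_add, mul_one]), map_add, map_one, (hr x).mpr hx, add_zero]
    · intro h b
      rcases eq_or_ne b 0 with rfl | hb
      · exact ⟨0, Submodule.zero_mem _, by simp⟩
      · refine ⟨u γ b - 1, (hr _).mp (by rw [map_sub, map_one, show r (u γ b) = 1 from h ⟨b, hb⟩, sub_self]), ?_⟩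
        rw [hu]; ring
  let H : Subgroup Γ := ⨅ b, (χ b).ker
  have hH : ∀ γ, γ ∈ H ↔ γ ∈ S := fun γ => by simp [H, Subgroup.mem_iInf, hmem, MonoidHom.mem_ker]
  have htriv : ∀ γ ∈ H, ∀ n : ℕ, γ ^ n = 1 → (n : k) ≠ 0 → γ = 1 := by
    intro γ hγ n hn hnk
    refine eq_of_smul_eq_smul (α := B) fun b => ?_
    rw [one_smul]
    rcases eq_or_ne b 0 with rfl | hb
    · exact smul_zero _
    obtain ⟨v, hv⟩ : IsUnit (n : B) := by
      rw [← IsLocalRing.notMem_maximalIdeal, ← hr, map_natCast]; exact hnk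
    set a : B := ∑ i ∈ Finset.range n, γ ^ i • b with ha
    have hfix : γ • a = a := by
      have h0 := Finset.sum_range_succ' (fun i => γ ^ i • b) n
      rw [Finset.sum_range_succ, hn, pow_zero] at h0
      rw [ha, Finset.smul_sum, Finset.sum_congr rfl fun i _ => show γ • γ ^ i • b = γ ^ (i + 1) • b by rw [smul_smul, ← pow_succ'],
        ← add_right_cancel h0]
    set d : B := (n : B) * b - a with hd
    have hsum : ∑ i ∈ Finset.range n, γ ^ i • d = 0 := by
      have hfix' : ∀ i, γ ^ i • a = a := fun i => by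
        induction i with
        | zero => rw [pow_zero, one_smul]
        | succ i ih => rw [pow_succ, mul_smul, hfix, ih]
      have hnat : ∀ i : ℕ, γ ^ i • (n : B) = (n : B) := fun i => map_natCast (MulSemiringAction.toRingHom Γ B (γ ^ i)) n
      simp only [hd, smul_sub, smul_mul', hnat, hfix', Finset.sum_sub_distrib, ← Finset.mul_sum, ← ha,
        Finset.sum_const, Finset.card_range, nsmul_eq_mul, sub_self]
    have hd0 : d = 0 := by
      by_contra hd0
      refine hd0 (hkill d (∑ i ∈ Finset.range n, u (γ ^ i) d) ?_ ?_)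
      · rw [Finset.mul_sum, ← hsum]; exact Finset.sum_congr rfl fun i _ => (hu _ _).symm
      · rw [map_sum, Finset.sum_congr rfl fun i _ => show r (u (γ ^ i) d) = 1 from
          (hmem _).mp ((hH _).mp (H.pow_mem hγ i)) ⟨d, hd0⟩, Finset.sum_const, Finset.card_range, nsmul_one]
        exact hnk
    have hb' : b = ↑v⁻¹ * a := by
      rw [hd, sub_eq_zero] at hd0
      rw [← hd0, ← hv, Units.inv_mul_cancel_left]
    rw [hb', smul_mul', hfix]
    congr 1
    have h1 : γ • (v : B) = v := by rw [hv]; exact map_natCast (MulSemiringAction.toRingHom Γ B γ) n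
    exact v.isUnit.mul_left_cancel (by rw [Units.mul_inv, ← h1, ← smul_mul', Units.mul_inv, smul_one])
  refine ⟨fun h0 => ?_, fun p hp hpc => ?_, fun γ δ => ?_, fun γ n hn hns hmin => ?_⟩
  · ext γ
    simp only [Set.mem_singleton_iff]
    refine ⟨fun hγ => ?_, fun h => h ▸ (hH 1).mp H.one_mem⟩
    haveI : CharZero k := by
      haveI : CharP k 0 := ringChar.of_eq h0
      exact CharP.charP_to_charZero k
    exact htriv γ ((hH γ).mpr hγ) (Nat.card Γ) pow_card_eq_one' (Nat.cast_ne_zero.mpr Nat.card_pos.ne')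
  · haveI : CharP k p := ringChar.of_eq hpc
    have hpow : ∀ γ ∈ H, ∃ j : ℕ, γ ^ (p ^ j) = 1 := by
      intro γ hγ
      obtain ⟨j, q, hq, hjq⟩ := Nat.exists_eq_pow_mul_and_not_dvd (orderOf_pos γ).ne' p hp.out.ne_one
      refine ⟨j, htriv _ (H.pow_mem hγ _) q (by rw [← pow_mul, ← hjq, pow_orderOf_eq_one]) ?_⟩
      exact fun h => hq ((CharP.cast_eq_zero_iff k p q).mp h)
    have hpg : IsPGroup p H := fun γ => by
      obtain ⟨j, hj⟩ := hpow γ.1 γ.2
      exact ⟨j, Subtype.ext hj⟩
    refine ⟨⟨H, hpg, fun {Q} hQ hle => le_antisymm (fun γ hγ => ?_) hle⟩, Set.ext hH⟩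
    obtain ⟨j, hj⟩ := hQ ⟨γ, hγ⟩
    rw [hH, hmem]
    intro b
    have h1 : χ b γ ^ p ^ j = 1 := by
      rw [← map_pow, show γ ^ p ^ j = 1 from congrArg Subtype.val hj, map_one]
    rw [← sub_eq_zero]
    exact eq_zero_of_pow_eq_zero (n := p ^ j) (by rw [sub_pow_char_pow, h1, one_pow, sub_self])
  · rw [← hH]
    simp only [H, Subgroup.mem_iInf, MonoidHom.mem_ker]
    intro b
    rw [map_mul, map_mul, map_mul]
    calc χ b γ * χ b δ * χ b γ⁻¹ * χ b δ⁻¹ = (χ b γ * χ b γ⁻¹) * (χ b δ * χ b δ⁻¹) := by ring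
      _ = 1 := by rw [← map_mul, ← map_mul, mul_inv_cancel, mul_inv_cancel, map_one, one_mul]
  · haveI : NeZero n := ⟨hn.ne'⟩
    obtain ⟨g, hg⟩ := IsCyclic.exists_generator (α := rootsOfUnity n k)
    have hgn : g ^ n = 1 := Subtype.ext g.2
    have hd : 0 < orderOf g := orderOf_pos g
    have hle : orderOf g ≤ n := Nat.le_of_dvd hn (orderOf_dvd_of_pow_eq_one hgn)
    have hS' : γ ^ orderOf g ∈ S := by
      rw [hmem]
      intro b
      have hb : χ b γ ^ n = 1 := by rw [← map_pow]; exact (hmem _).mp hns b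
      obtain ⟨l, hl⟩ := Subgroup.mem_zpowers_iff.mp (hg (rootsOfUnity.mkOfPowEq (χ b γ) hb))
      have h1 : (rootsOfUnity.mkOfPowEq (χ b γ) hb) ^ orderOf g = 1 := by
        rw [← hl, ← zpow_natCast, ← zpow_mul, mul_comm, zpow_mul, zpow_natCast, pow_orderOf_eq_one, one_zpow]
      rw [map_pow]
      simpa using congrArg (fun z : rootsOfUnity n k => ((z : kˣ) : k)) h1
    have heq : orderOf g = n := le_antisymm hle (not_lt.mp fun h => hmin _ hd h hS')
    refine ⟨((g : kˣ) : k), IsPrimitiveRoot.coe_units_iff.mpr (IsPrimitiveRoot.coe_submonoidClass_iff.mpr ?_)⟩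
    have := IsPrimitiveRoot.orderOf g
    rwa [heq] at this

end Groth.Agent.S12934
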