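import Groth.Statements.S12935
import Groth.Agent.Lib.InvariantPrimes.Basic

set_option autoImplicit false
universe u v
open InvTh

namespace Groth.Agent.S12935

/-- Let `B` be a commutative ring with an action of a finite group `Γ` by ring automorphisms, `Ω` a
normal subgroup of `Γ`, `B^Ω` the subring of `Ω`-invariants (stable under `Γ`, with the induced
action of `Γ/Ω`), and `P` a prime ideal of `B`. Then (decomposition groups) an element `γ` maps `P ∩
B^Ω` onto itself if and only if `γω` maps `P` onto itself for some `ω ∈ Ω`; and (inertia groups) `γ`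
fixes `B^Ω` modulo `P ∩ B^Ω` if and only if `γω` fixes `B` modulo `P` for some `ω ∈ Ω`. In other
words the decomposition and inertia groups of `P ∩ B^Ω` under `Γ/Ω` are the images of those of `P`.
(The published statement also asserts the same for the ramification groups, the Sylow subgroups of
the inertia groups at the residue characteristic; that clause is not included here.) -/
theorem result
    (B : Type u) [CommRing B] (Γ : Type v) [Group Γ] [Finite Γ] [MulSemiringAction Γ B]
    (Ω : Subgroup Γ) [Ω.Normal] (P : Ideal B) [P.IsPrime] (γ : Γ) :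
    ((∀ x : B, (∀ ω ∈ Ω, ω • x = x) → (x ∈ P ↔ γ • x ∈ P)) ↔
        ∃ ω ∈ Ω, ∀ x : B, x ∈ P ↔ (γ * ω) • x ∈ P) ∧
      ((∀ x : B, (∀ ω ∈ Ω, ω • x = x) → γ • x - x ∈ P) ↔
        ∃ ω ∈ Ω, ∀ x : B, (γ * ω) • x - x ∈ P) := by
  refine ⟨⟨fun h => ?_, ?_⟩, ⟨fun h => ?_, ?_⟩⟩
  · obtain ⟨ω, hω, hP⟩ := Groth.Agent.Lib.InvariantPrimes.Basic.exists_decomposition Ω P γ h
    exact ⟨ω, hω, (Groth.Agent.Lib.InvariantPrimes.Basic.smul_eq_self_iff _ P).mp hP⟩
  · rintro ⟨ω, hω, h⟩ x hx
    rw [h x, mul_smul, hx ω hω]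
  · obtain ⟨ω, hω, hP⟩ := Groth.Agent.Lib.InvariantPrimes.Basic.exists_decomposition Ω P γ (fun x hx =>
      ⟨fun hxP => by simpa using P.add_mem (h x hx) hxP, fun hgx => by simpa using P.sub_mem hgx (h x hx)⟩)
    obtain ⟨δ, hδ, hδP, hd⟩ := Groth.Agent.Lib.InvariantPrimes.Basic.exists_inertia Ω P (γ * ω) hP (fun x hx => by
      rw [mul_smul, hx ω hω]; exact h x hx)
    refine ⟨ω * δ⁻¹, Ω.mul_mem hω (Ω.inv_mem hδ), fun x => ?_⟩
    have := hd (δ⁻¹ • x)
    rwa [smul_inv_smul, smul_smul, mul_assoc] at this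
  · rintro ⟨ω, hω, h⟩ x hx
    have := h x
    rwa [mul_smul, hx ω hω] at this

end Groth.Agent.S12935
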