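import Groth.Statements.S12943

import Groth.Agent.H14.Sep.Main3

set_option autoImplicit false
set_option backward.isDefEq.respectTransparency false
set_option backward.isDefEq.respectTransparency.types false
universe u
open CategoryTheory AlgebraicGeometry
open AlgSt

namespace Groth.Agent.S12943

open Groth.Agent.H14.Sep
open Groth.Agent.Lib.AlgStack

/-- For a morphism f of algebraic stacks that is representable by algebraic spaces, the following are
equivalent: f is separated (every base change to a scheme is a separated morphism of algebraic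
spaces); the diagonal of f is a closed immersion; the diagonal of f is proper; the diagonal of f is
universally closed. -/
theorem result
    (S : Scheme.{u}) (𝒳 : AlgSt.Cat S) (𝒴 : AlgSt.Cat S)
    (h𝒳 : AlgSt.IsAlgStack Scheme.fppfPrecoverage 𝒳)
    (h𝒴 : AlgSt.IsAlgStack Scheme.fppfPrecoverage 𝒴)
    (f : 𝒳 ⥤ᵇ 𝒴)
    (hf : AlgSt.RepByAlgSp1 f) :
    [AlgSt.RepByAlgSpWith AlgSp.IsSeparatedMor f, AlgSt.IsClosedImm (FibCat.diag f),
      AlgSt.IsSeparatedMor f, AlgSt.RepByAlgSpWith AlgSp.IsUnivClosedMor (FibCat.diag f)].TFAE := by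
  tfae_have 1 → 2 := fun h => Main2.diag_closedImm_of_sep h
  tfae_have 2 → 3 := fun h =>
    Rep.repByAlgSpWith_mono h fun _ _ _ _ _ h' => Main2.isProperMor_of_closedImm h'
  tfae_have 3 → 4 := fun h => Rep.repByAlgSpWith_mono h fun _ _ _ _ _ h' => h'.2.2
  tfae_have 4 → 1 := fun h => Main3.sep_of_diag_univClosed hf h
  tfae_finish

end Groth.Agent.S12943
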