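import Groth.Statements.S1296
-- import your own Groth.Agent.* helpers here
import Groth.Agent.Lib.FlatCA.ImpurityMove

set_option autoImplicit false
universe u
open FlatMor

namespace Groth.Agent.S1296

open TensorProduct

/-- Ring form, X = Spec B affine, T = Spec A' with A' the colimit of a directed system of A-algebras
A'_i: let B be a finite type A-algebra, N a finite B-module, p a prime of A, and suppose given an
impurity of N above p with base change ring A' and points t' ⊆ t. Then for some index i there is an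
impurity of N above p whose base change ring is A'_i (up to an A-isomorphism) and whose point t
corresponds to the contraction of t to A'_i. -/
theorem result {A B : Type u} [CommRing A] [CommRing B] [Algebra A B] [Algebra.FiniteType A B]
    (N : Type u) [AddCommGroup N] [Module B N] [Module.Finite B N] (p : Ideal A) [p.IsPrime]
    {ι : Type u} [Preorder ι] (G : ι → Type u) [∀ i, CommRing (G i)] [∀ i, Algebra A (G i)]
    (g : ∀ i j, i ≤ j → G i →ₐ[A] G j)
    (A' : Type u) [CommRing A'] [Algebra A A'] [∀ i, Algebra (G i) A'] [∀ i, IsScalarTower A (G i) A']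
    (hcolim : FlatCA.IsDirectedColimitRing G (fun i j h => (g i j h).toRingHom) A')
    (B' N' : Type u) [CommRing B'] [Algebra B B'] [Algebra A' B'] [Algebra A B'] [IsScalarTower A B B'] [IsScalarTower A A' B']
    [AddCommGroup N'] [Module B' N'] [Module B N'] [IsScalarTower B B' N'] [Module A' N'] [IsScalarTower A' B' N']
    (f : N →ₗ[B] N') (t' t : Ideal A') [t'.IsPrime] [t.IsPrime] (P : Ideal B') [P.IsPrime]
    (himp : FlatCA.IsImpurity A B N p A' B' N' f t' t P) :
    ∃ i : ι, FlatCA.HasImpurity A B N p (fun A'' _ _ t'' => ∃ e : A'' ≃ₐ[A] G i, t''.map e = t.comap (algebraMap (G i) A')) := by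
  classical
  obtain ⟨hdir, hne, -, -, hcompat, hsurj, -⟩ := hcolim
  haveI := hne
  haveI : Algebra.IsPushout A A' B B' := himp.1.symm
  have hψ : ∀ i, ∃ ψ : G i ⊗[A] B →ₐ[A] B', (∀ r : G i, ψ (r ⊗ₜ 1) = algebraMap A' B' (algebraMap (G i) A' r)) ∧
      ∀ b : B, ψ ((1 : G i) ⊗ₜ b) = algebraMap B B' b := fun i => Lib.FlatCA.ImpurityMove.exists_hom (G i)
  choose ψ hψ₁ hψ₂ using hψ
  have htrans : ∀ i j (h : i ≤ j) (z : G i ⊗[A] B),
      ψ j (Algebra.TensorProduct.map (g i j h) (AlgHom.id A B) z) = ψ i z := by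
    intro i j h z
    induction z using TensorProduct.induction_on with
    | zero => simp
    | add x y hx hy => rw [map_add, map_add, map_add, hx, hy]
    | tmul r b =>
      rw [Algebra.TensorProduct.map_tmul, AlgHom.id_apply,
        show g i j h r ⊗ₜ[A] b = (g i j h r ⊗ₜ 1) * ((1 : G j) ⊗ₜ b) by simp,
        show r ⊗ₜ[A] b = (r ⊗ₜ 1) * ((1 : G i) ⊗ₜ b) by simp, map_mul, map_mul, hψ₁, hψ₁, hψ₂, hψ₂]
      congr 2
      exact RingHom.congr_fun (hcompat i j h) r
  let tt := fun i => t.comap (algebraMap (G i) A')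
  let S : AddSubmonoid B' :=
    { carrier := {x | ∃ i, ∃ z ∈ (tt i).map (algebraMap (G i) (G i ⊗[A] B)), ψ i z = x}
      zero_mem' := ⟨Classical.arbitrary ι, 0, zero_mem _, map_zero _⟩
      add_mem' := by
        rintro _ _ ⟨i, z, hz, rfl⟩ ⟨j, w, hw, rfl⟩
        obtain ⟨k, hik, hjk⟩ := hdir.directed i j
        have hmove : ∀ i (h : i ≤ k), ∀ z ∈ (tt i).map (algebraMap (G i) (G i ⊗[A] B)),
            Algebra.TensorProduct.map (g i k h) (AlgHom.id A B) z ∈ (tt k).map (algebraMap (G k) (G k ⊗[A] B)) := by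
          intro i h z hz
          refine (Ideal.map_le_iff_le_comap.2 fun r hr => ?_) hz |> Ideal.mem_comap.1
          rw [Ideal.mem_comap, Ideal.mem_comap]
          show g i k h r ⊗ₜ[A] (AlgHom.id A B 1) ∈ _
          refine Ideal.mem_map_of_mem _ ?_
          show algebraMap (G k) A' (g i k h r) ∈ t
          rwa [show algebraMap (G k) A' (g i k h r) = algebraMap (G i) A' r from RingHom.congr_fun (hcompat i k h) r]
        exact ⟨k, _, add_mem (hmove i hik z hz) (hmove j hjk w hw), by rw [map_add, htrans, htrans]⟩ }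
  have hS : ∀ τ ∈ t.map (algebraMap A' B'), τ ∈ S := by
    have key : ∀ (a : A') (ha : a ∈ t) (x : B'), algebraMap A' B' a * x ∈ S := by
      intro a ha x
      induction x using (Algebra.IsPushout.out (R := A) (S := A') (R' := B) (S' := B')).inductionOn generalizing a with
      | zero => rw [mul_zero]; exact S.zero_mem
      | tmul b =>
        obtain ⟨i, r, rfl⟩ := hsurj a
        refine ⟨i, (r ⊗ₜ 1) * ((1 : G i) ⊗ₜ b), Ideal.mul_mem_right _ _ (Ideal.mem_map_of_mem _ ha), ?_⟩
        rw [map_mul, hψ₁, hψ₂]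
        rfl
      | smul c x hx =>
        rw [Algebra.smul_def, ← mul_assoc, ← map_mul]
        exact hx _ (Ideal.mul_mem_right c t ha)
      | add x y hx hy => rw [mul_add]; exact S.add_mem (hx a ha) (hy a ha)
    intro τ hτ
    suffices ∀ x : B', x * τ ∈ S by simpa using this 1
    induction hτ using Submodule.span_induction with
    | mem y hy =>
      obtain ⟨a, ha, rfl⟩ := hy
      exact fun x => mul_comm x _ ▸ key a ha x
    | zero => exact fun x => (mul_zero x).symm ▸ S.zero_mem
    | add a b _ _ ha hb => exact fun x => (mul_add x a b).symm ▸ S.add_mem (ha x) (hb x)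
    | smul c a _ ha => exact fun x => by rw [smul_eq_mul, ← mul_assoc]; exact ha _
  obtain ⟨s, hs, τ, hτ, hmem⟩ : ∃ s ∉ t, ∃ τ ∈ t.map (algebraMap A' B'), algebraMap A' B' s + τ ∈ P := by
    by_contra hcon
    push Not at hcon
    obtain ⟨P', hP', hle, hl⟩ := Lib.FlatCA.Impurity.exists_prime_over t P hcon
    exact himp.2.2.2.2.2.2 P' hle hl
  obtain ⟨i, z, hz, hzτ⟩ := hS τ hτ
  obtain ⟨j, s', hs'⟩ := hsurj s
  obtain ⟨k, hik, hjk⟩ := hdir.directed i j
  refine ⟨k, Lib.FlatCA.ImpurityMove.down (G k) himp (ψ k).toRingHom (hψ₁ k) (hψ₂ k) (fun Q₁ hQ₁ hle₁ hl₁ => ?_) _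
    ⟨AlgEquiv.refl, Ideal.map_id _⟩⟩
  have hsk : algebraMap (G k) A' (g j k hjk s') = s := hs' ▸ RingHom.congr_fun (hcompat j k hjk) s'
  let zk := Algebra.TensorProduct.map (g i k hik) (AlgHom.id A B) z
  have hzk : zk ∈ Q₁ := by
    refine (Ideal.map_le_iff_le_comap.2 fun r hr => ?_) hz |> Ideal.mem_comap.1
    rw [Ideal.mem_comap, Ideal.mem_comap]
    show g i k hik r ⊗ₜ[A] (AlgHom.id A B 1) ∈ Q₁
    refine (Ideal.mem_of_liesOver Q₁ (t.comap (algebraMap (G k) A')) _).1 ?_
    show algebraMap (G k) A' (g i k hik r) ∈ t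
    rwa [show algebraMap (G k) A' (g i k hik r) = algebraMap (G i) A' r from RingHom.congr_fun (hcompat i k hik) r]
  have hsum : algebraMap (G k) (G k ⊗[A] B) (g j k hjk s') + zk ∈ Q₁ := hle₁ (by
    rw [Ideal.mem_comap]
    show ψ k (algebraMap (G k) (G k ⊗[A] B) (g j k hjk s') + zk) ∈ P
    rw [map_add, htrans, hzτ, show algebraMap (G k) (G k ⊗[A] B) (g j k hjk s') = g j k hjk s' ⊗ₜ[A] 1 from rfl,
      hψ₁, hsk]
    exact hmem)
  refine hs ?_
  rw [← hsk]
  exact (Ideal.mem_of_liesOver Q₁ (t.comap (algebraMap (G k) A')) _).2 ((add_mem_cancel_right hzk).1 hsum)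

end Groth.Agent.S1296
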