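import Groth.Statements.S12971
import Groth.Agent.H14.Sep.Main2

set_option autoImplicit false
set_option backward.isDefEq.respectTransparency false
set_option backward.isDefEq.respectTransparency.types false
universe u
open CategoryTheory AlgebraicGeometry
open AlgSt

namespace Groth.Agent.S12971

open Groth.Agent.H14.Sep
open Groth.Agent.Lib.AlgStack

/-- A monomorphism of algebraic stacks (representable by algebraic spaces and a monomorphism) is
separated and DM. -/
theorem result
    (S : Scheme.{u}) (𝒳 : AlgSt.Cat S) (𝒴 : AlgSt.Cat S)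
    (h𝒳 : AlgSt.IsAlgStack Scheme.fppfPrecoverage 𝒳)
    (h𝒴 : AlgSt.IsAlgStack Scheme.fppfPrecoverage 𝒴)
    (f : 𝒳 ⥤ᵇ 𝒴) :
    AlgSt.IsMono f → AlgSt.IsSeparatedMor f ∧ AlgSt.IsDMMor f := by
  intro h
  have hc : AlgSt.RepByAlgSpWith (AlgSp.RepWith @IsClosedImmersion) (FibCat.diag f) :=
    Rep.diag_of_rep (SpProps2.stableBC_repWith _) h fun _ _ γ _ _ (hγ : Mono γ) =>
      SpDiag.repWith_diagonal_of_mono _ γ
  exact ⟨Rep.repByAlgSpWith_mono hc fun _ _ _ _ _ h => Main2.isProperMor_of_closedImm h,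
    Main.diag_unramified (Rep.repByAlgSp1_of_repByAlgSpWith h)⟩

end Groth.Agent.S12971
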