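import Groth.Statements.S12990

import Groth.Agent.H14.Chart.LocQ4

set_option autoImplicit false
set_option backward.isDefEq.respectTransparency false
set_option backward.isDefEq.respectTransparency.types false
universe u
open CategoryTheory AlgebraicGeometry
open AlgSt

namespace Groth.Agent.S12990

open Groth.Agent.H14.Sep
open Groth.Agent.Lib.AlgStack
open Groth.Agent.H14.Chart

/-- Suppose P, a property of morphisms between algebraic spaces, is local on source and target for the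
smooth topology, and let f : 𝒳 → 𝒴 be a morphism of algebraic stacks. Then some 2-commutative square
with smooth scheme charts x : U → 𝒳 (surjective), y : V → 𝒴 and h : U → V having P exists if and
only if in every 2-commutative square with smooth scheme charts x : U → 𝒳, y : V → 𝒴 for which the
induced U → 𝒳 ×_𝒴 V is smooth, the morphism h : U → V has P. (The published statement uses charts
from algebraic spaces; this row uses charts from schemes.) -/
theorem result
    (S : Scheme.{u}) (P : MorphismProperty (AlgSp.Sp S)) (hP : AlgSp.IsSmoothLocalST P)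
    (𝒳 : AlgSt.Cat S) (𝒴 : AlgSt.Cat S)
    (h𝒳 : AlgSt.IsAlgStack Scheme.fppfPrecoverage 𝒳)
    (h𝒴 : AlgSt.IsAlgStack Scheme.fppfPrecoverage 𝒴)
    (f : 𝒳 ⥤ᵇ 𝒴) :
    AlgSt.LocQ P f ↔
      ∀ (U V : Over S) (x : FibCat.overCat U ⥤ᵇ 𝒳) (y : FibCat.overCat V ⥤ᵇ 𝒴) (h : U ⟶ V)
        (α : BasedFunctor.comp x f ≅ BasedFunctor.comp (AlgSt.overMap h) y),
        AlgSt.RepByAlgSpWith (AlgSp.LocP @Smooth) x → AlgSt.RepByAlgSpWith (AlgSp.LocP @Smooth) y →
        AlgSt.RepByAlgSpWith (AlgSp.LocP @Smooth) (FibCat.fpLift x (AlgSt.overMap h) α) → P ((AlgSp.yon S).map h) := by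
  refine ⟨fun hf U V x y h α _ hy hΦ => LocQ.prop_of_locQ hP h𝒳 h𝒴 hf (Or.inl hy) hΦ (Iso.refl _),
    fun H => ?_⟩
  obtain ⟨V, y, hy, hy'⟩ := h𝒴.atlas
  obtain ⟨U, a, k, ha, ha', ⟨ι⟩⟩ := LocQ.exists_square h𝒳 h𝒴 f y
  have hfy := FibProd.isFibGrpd_fp (F := f) (G := y) h𝒳.isStack.1 (Yoneda.isFibGrpd_overCat V) h𝒴.isStack.1
  let x := BasedFunctor.comp a (FibCat.fpFst f y)
  let α : BasedFunctor.comp x f ≅ BasedFunctor.comp (AlgSt.overMap k) y :=
    BasedBasic.isoWhiskerLeft a (FibCat.fpIso f y) ≪≫ BasedBasic.isoWhiskerRight ι y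
  let e : a ≅ FibCat.fpLift x (AlgSt.overMap k) α :=
    Lib.Fibred.Slice.fpIsoMk (Iso.refl x) ι fun u => by
      change f.map (𝟙 _) ≫ (a.obj u).obj.iso.hom ≫ y.map (BasedBasic.appIso ι u).hom =
        (a.obj u).obj.iso.hom ≫ y.map (BasedBasic.appIso ι u).hom
      simp
  exact LocQ.locQ_of_square h𝒳 h𝒴 hy hy' ha ha' ι (H U V x y k α
    (IsAlgFp.comp_locP LocQ.smoothST (Yoneda.isFibGrpd_overCat U) hfy ha
      (Rep.repByAlgSpWith_fpFst f hy)) hy (Rep.repByAlgSpWith_of_iso e ha))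

end Groth.Agent.S12990
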