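import Groth.Statements.S12992
import Groth.Agent.Lib.AlgStack.SpMapProp
import Groth.Agent.Lib.AlgSpace.Diag

set_option autoImplicit false
universe u
open CategoryTheory AlgebraicGeometry
open AlgSt

namespace Groth.Agent.S12992

/-- Let P be smooth local on the source-and-target and a : F → G a morphism of algebraic spaces. Then
the associated functor of categories over the base has P read on smooth scheme charts if and only if
a has P. -/
theorem result
    (S : Scheme.{u}) (P : MorphismProperty (AlgSp.Sp S)) (hP : AlgSp.IsSmoothLocalST P)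
    (F G : AlgSp.Space S) (a : F ⟶ G) :
    AlgSt.LocQ P (AlgSt.ofSpMap a.hom) ↔ P a.hom := by
  have hS := Lib.SourceDescent.Scheme.smooth.{u}
  constructor
  · rintro ⟨U, V, x, y, h, α, hx1, hx2, hy, hh⟩
    have hU := AlgSp.IsAlgSpace.yon_obj (S := S) U
    have hV := AlgSp.IsAlgSpace.yon_obj (S := S) V
    have sm := fun {W : Over S} {H : AlgSp.Space S} {z : FibCat.overCat W ⥤ᵇ AlgSt.ofSp H.obj}
      (hz : AlgSt.RepByAlgSpWith (AlgSp.LocP @Smooth) z) =>
        Groth.Agent.Lib.AlgStack.SpMapProp.prop_ofPoint (Groth.Agent.Lib.AlgStack.IsAlgFp.respectsIsoSp_locP hS) (Groth.Agent.Lib.AlgStack.IsAlgFp.detected_locP hS) H.property hz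
    have hs := Groth.Agent.Lib.AlgStack.SpMapProp.prop_ofPoint Groth.Agent.Lib.AlgStack.IsAlgFp.respectsIsoSp_surjective
      Groth.Agent.Lib.AlgStack.IsAlgFp.detected_surjective F.property hx2
    have w := Groth.Agent.Lib.AlgStack.SpMapProp.ofPoint_eq_of_iso α
    rw [Groth.Agent.Lib.AlgStack.SpMapProp.ofPoint_comp, Groth.Agent.Lib.AlgStack.SpMapProp.ofPoint_overMap] at w
    refine (hP.locality F.property G.property a.hom).2 fun p => ?_
    obtain ⟨v, hv⟩ := hs p
    exact ⟨_, _, _, _, _, v, hU, hV, sm hx1, sm hy, w, hv, hh⟩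
  · intro ha
    obtain ⟨U, pU, hUe, hUs⟩ := F.property.atlas
    obtain ⟨V, pV, hVe, hVs⟩ := G.property.atlas
    obtain ⟨W, p, q, sq⟩ := Lib.AlgSpace.exists_isPullback_yon G.property.diag (pU ≫ a.hom) pV
    have hUa := hP.precomp (AlgSp.IsAlgSpace.yon_obj U) F.property G.property pU a.hom
      (Groth.Agent.Lib.AlgStack.IsAlg.locP_smooth hUe) ha
    have hq := hP.baseChange (AlgSp.IsAlgSpace.yon_obj U) G.property (AlgSp.IsAlgSpace.yon_obj W)
      (AlgSp.IsAlgSpace.yon_obj V) (pU ≫ a.hom) pV _ _ sq (Groth.Agent.Lib.AlgStack.IsAlg.locP_smooth hVe) hUa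
    have : MorphismProperty.IsStableUnderComposition @Etale.{u} :=
      (inferInstance : MorphismProperty.IsMultiplicative @Etale.{u}).toIsStableUnderComposition
    have : MorphismProperty.IsStableUnderComposition @Surjective.{u} :=
      ⟨fun f g hf hg => by have := hf; have := hg; infer_instance⟩
    have he : AlgSp.RepWith @Etale ((AlgSp.yon S).map p ≫ pU) :=
      Lib.AlgSpace.repWith_comp (Lib.AlgSpace.repWith_baseChange sq.flip hVe) hUe
    have hs : AlgSp.RepWith @Surjective ((AlgSp.yon S).map p ≫ pU) :=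
      Lib.AlgSpace.repWith_comp (Lib.AlgSpace.repWith_baseChange sq.flip hVs) hUs
    refine ⟨W, V, _, _, q, ?_, Groth.Agent.Lib.AlgStack.IsAlg.repByAlgSpWith_atlas he hs (fun _ _ r hr _ => Groth.Agent.Lib.AlgStack.IsAlg.locP_smooth hr),
      Groth.Agent.Lib.AlgStack.IsAlg.repByAlgSpWith_atlas he hs (fun _ _ r _ hr => Lib.AlgSpace.surjective_map hr),
      Groth.Agent.Lib.AlgStack.IsAlg.repByAlgSpWith_atlas hVe hVs (fun _ _ r hr _ => Groth.Agent.Lib.AlgStack.IsAlg.locP_smooth hr), hq⟩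
    exact Groth.Agent.Lib.AlgStack.SpMapProp.isoOfPoint _ ≪≫ eqToIso (by
      rw [Groth.Agent.Lib.AlgStack.SpMapProp.ofPoint_comp, Groth.Agent.Lib.AlgStack.SpMapProp.ofPoint_atlas, Groth.Agent.Lib.AlgStack.SpMapProp.ofPoint_overMap, Groth.Agent.Lib.AlgStack.SpMapProp.ofPoint_atlas, Category.assoc, sq.w]) ≪≫
      (Groth.Agent.Lib.AlgStack.SpMapProp.isoOfPoint _).symm

end Groth.Agent.S12992
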