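import Groth.Statements.S12995

import Groth.Agent.H14.Chart.LocQ4

set_option autoImplicit false
set_option backward.isDefEq.respectTransparency false
set_option backward.isDefEq.respectTransparency.types false
universe u
open CategoryTheory AlgebraicGeometry
open AlgSt

namespace Groth.Agent.S12995

open Groth.Agent.H14.Sep
open Groth.Agent.Lib.AlgStack
open Groth.Agent.H14.Chart

/-- Let P be a property of morphisms of algebraic spaces that is fppf local on the target and stable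
under base change, f : 𝒳 → 𝒴 a morphism of algebraic stacks representable by algebraic spaces, and 𝒵
→ 𝒴 a surjective, flat, locally finitely presented morphism of algebraic stacks. Then f has P (every
base change to a scheme has P) if and only if the projection 𝒵 ×_𝒴 𝒳 → 𝒵 has P. -/
theorem result
    (S : Scheme.{u}) (P : MorphismProperty (AlgSp.Sp S))
    (hP₁ : ∀ ⦃X₁ Y₁ X₂ Y₂ : AlgSp.Sp S⦄, AlgSp.IsAlgSpace X₁ → AlgSp.IsAlgSpace Y₁ → AlgSp.IsAlgSpace X₂ →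
      AlgSp.IsAlgSpace Y₂ → ∀ (a : X₁ ⟶ Y₁) (b : Y₂ ⟶ Y₁) (a' : X₂ ⟶ Y₂) (b' : X₂ ⟶ X₁),
      IsPullback b' a' a b → P a → P a')
    (hP₂ : AlgSp.IsLocalOnBase AlgSp.IsFppfCover P)
    (𝒳 : AlgSt.Cat S) (𝒴 : AlgSt.Cat S)
    (h𝒳 : AlgSt.IsAlgStack Scheme.fppfPrecoverage 𝒳)
    (h𝒴 : AlgSt.IsAlgStack Scheme.fppfPrecoverage 𝒴)
    (f : 𝒳 ⥤ᵇ 𝒴) (hf : AlgSt.RepByAlgSp1 f)
    (𝒵 : AlgSt.Cat S) (h𝒵 : AlgSt.IsAlgStack Scheme.fppfPrecoverage 𝒵) (z : 𝒵 ⥤ᵇ 𝒴)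
    (hz₁ : AlgSt.LocQ (AlgSp.LocP @Flat) z) (hz₂ : AlgSt.LocQ (AlgSp.LocP @LocallyOfFinitePresentation) z)
    (hz₃ : AlgSt.IsSurjective z) :
    AlgSt.RepByAlgSpWith P f ↔ AlgSt.RepByAlgSpWith P (FibCat.fpFst z f) := by
  obtain ⟨W, w, -, -, -, hs, hQ⟩ := LocQ.exists_cover_chart h𝒵 h𝒴 z
  refine ⟨fun h => Rep.repByAlgSpWith_fpFst z h, fun h => ?_⟩
  refine Descend.repByAlgSpWith_of_cover (Space.respectsIsoSp_of_baseChange hP₁) hP₂ h𝒳.isStack.1
    h𝒴.isStack.1 (Yoneda.isFibGrpd_overCat W) hf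
    (hQ Lib.SourceDescent.Scheme.flat SmLocal.isSmoothLocalST_flat
      (fun _ _ g (_ : Smooth g) => inferInstanceAs (Flat g)) hz₁)
    (hQ Lib.SourceDescent.Scheme.locallyOfFinitePresentation SmLocal.isSmoothLocalST_lfp
      (fun _ _ g (_ : Smooth g) => inferInstanceAs (LocallyOfFinitePresentation g)) hz₂) (hs hz₃) ?_
  exact (Rep.repByAlgSpWith_iff_of_isEquivOver (f := FibCat.fpFst (BasedFunctor.comp w z) f)
    (f' := FibCat.fpFst w (FibCat.fpFst z f)) (Rep.isEquivOver_pasteBase w z f)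
    BasedBasic.isEquivOver_id (Iso.refl _)).2 (Rep.repByAlgSpWith_fpFst w h)

end Groth.Agent.S12995
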