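import Groth.Statements.S12996

import Groth.Agent.H14.Chart.LocQ4

set_option autoImplicit false
set_option backward.isDefEq.respectTransparency false
set_option backward.isDefEq.respectTransparency.types false
universe u
open CategoryTheory AlgebraicGeometry
open AlgSt

namespace Groth.Agent.S12996

open Groth.Agent.H14.Sep
open Groth.Agent.Lib.AlgStack
open Groth.Agent.H14.Chart

/-- An immersion of algebraic stacks is locally of finite type. -/
theorem result
    (S : Scheme.{u}) (𝒳 : AlgSt.Cat S) (𝒴 : AlgSt.Cat S)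
    (h𝒳 : AlgSt.IsAlgStack Scheme.fppfPrecoverage 𝒳)
    (h𝒴 : AlgSt.IsAlgStack Scheme.fppfPrecoverage 𝒴)
    (f : 𝒳 ⥤ᵇ 𝒴) :
    AlgSt.IsImm f → AlgSt.LocQ (AlgSp.LocP @LocallyOfFiniteType) f := by
  intro h
  refine LocQ.locQ_of_repByAlgSpWith SmLocal.isSmoothLocalST_lft.precomp h𝒳 h𝒴
    (Rep.repByAlgSpWith_mono h fun _ _ _ _ _ h => Lib.AlgSpMor.LocP.locP_of_repWith
      Lib.SourceDescent.Scheme.locallyOfFiniteType
      (Lib.AlgSpace.repWith_mono h fun _ _ g (_ : IsImmersion g) => inferInstanceAs (LocallyOfFiniteType g)))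

end Groth.Agent.S12996
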