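import Groth.Statements.S13000

import Groth.Agent.H14.Chart.LocQ4

set_option autoImplicit false
set_option backward.isDefEq.respectTransparency false
set_option backward.isDefEq.respectTransparency.types false
universe u
open CategoryTheory AlgebraicGeometry
open AlgSt

namespace Groth.Agent.S13000

open Groth.Agent.H14.Sep
open Groth.Agent.Lib.AlgStack
open Groth.Agent.H14.Chart

/-- Let f : 𝒳 → 𝒴 be a morphism of algebraic stacks and W → 𝒴 a surjective, flat, locally finitely
presented morphism whose source is an algebraic space. Whenever the projection to W from W ×_𝒴 𝒳 is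
locally of finite type, so is f. -/
theorem result
    (S : Scheme.{u}) (𝒳 : AlgSt.Cat S) (𝒴 : AlgSt.Cat S)
    (h𝒳 : AlgSt.IsAlgStack Scheme.fppfPrecoverage 𝒳)
    (h𝒴 : AlgSt.IsAlgStack Scheme.fppfPrecoverage 𝒴)
    (f : 𝒳 ⥤ᵇ 𝒴)
    (W : AlgSp.Space S) (w : AlgSt.ofSp W.obj ⥤ᵇ 𝒴)
    (hw₁ : AlgSt.RepByAlgSpWith (AlgSp.LocP @Flat) w)
    (hw₂ : AlgSt.RepByAlgSpWith (AlgSp.LocP @LocallyOfFinitePresentation) w)
    (hw₃ : AlgSt.RepByAlgSpWith AlgSp.IsSurjectiveMor w) :
    AlgSt.LocQ (AlgSp.LocP @LocallyOfFiniteType) (FibCat.fpFst w f) → AlgSt.LocQ (AlgSp.LocP @LocallyOfFiniteType) f := by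
  intro hf
  have hW := IsAlg.isAlgStack_ofSp W
  refine LocQ.locQ_of_cover SmLocal.isSmoothLocalST_lft h𝒳 h𝒴 hW
    (Points.isSurjective_of_rep h𝒴.isStack.1 hw₃) hf fun U V T R k s p q sq hs hQ hq => ?_
  have : Flat s.left := hQ Lib.SourceDescent.Scheme.flat SmLocal.isSmoothLocalST_flat
    (fun _ _ g (_ : Smooth g) => inferInstanceAs (Flat g))
    (LocQ.locQ_of_repByAlgSpWith SmLocal.isSmoothLocalST_flat.precomp hW h𝒴 hw₁)
  have : LocallyOfFinitePresentation s.left := hQ Lib.SourceDescent.Scheme.locallyOfFinitePresentation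
    SmLocal.isSmoothLocalST_lfp (fun _ _ g (_ : Smooth g) => inferInstanceAs (LocallyOfFinitePresentation g))
    (LocQ.locQ_of_repByAlgSpWith SmLocal.isSmoothLocalST_lfp.precomp hW h𝒴 hw₂)
  have := hs
  have := Descend.descendsAlong_fpqcCover @LocallyOfFiniteType
  have : LocallyOfFiniteType q.left := AlgSp.locP_yon_map hq
  exact Lib.AlgSpMor.LocP.locP_of_repWith Lib.SourceDescent.Scheme.locallyOfFiniteType
    ((AlgSp.repWith_yon_map_iff _ _).2 (MorphismProperty.of_isPullback_of_descendsAlong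
      (P := @LocallyOfFiniteType) (Q := Lib.FFDesc.fpqcCover)
      ((Lib.AlgSpace.isPullback_of_yon_map sq).map (Over.forget S)).flip
      (Lib.FFDesc.fpqcCover_of_lfp s.left) this))

end Groth.Agent.S13000
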