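import Groth.Statements.S13002

import Groth.Agent.H14.Chart.LocQ4

set_option autoImplicit false
set_option backward.isDefEq.respectTransparency false
set_option backward.isDefEq.respectTransparency.types false
universe u
open CategoryTheory AlgebraicGeometry
open AlgSt

namespace Groth.Agent.S13002

open Groth.Agent.H14.Sep
open Groth.Agent.Lib.AlgStack
open Groth.Agent.H14.Chart

/-- If f : 𝒳 → 𝒴 and g : 𝒴 → 𝒵 are morphisms of algebraic stacks whose composite is locally of finite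
type, then f itself is locally of finite type. -/
theorem result
    (S : Scheme.{u}) (𝒳 : AlgSt.Cat S) (𝒴 : AlgSt.Cat S) (𝒵 : AlgSt.Cat S)
    (h𝒳 : AlgSt.IsAlgStack Scheme.fppfPrecoverage 𝒳)
    (h𝒴 : AlgSt.IsAlgStack Scheme.fppfPrecoverage 𝒴)
    (h𝒵 : AlgSt.IsAlgStack Scheme.fppfPrecoverage 𝒵)
    (f : 𝒳 ⥤ᵇ 𝒴) (g : 𝒴 ⥤ᵇ 𝒵) :
    AlgSt.LocQ (AlgSp.LocP @LocallyOfFiniteType) (BasedFunctor.comp f g) → AlgSt.LocQ (AlgSp.LocP @LocallyOfFiniteType) f := by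
  intro h
  obtain ⟨U, V, W, y, z, a, b, c, kf, kg, hy, hz, ha, hb, hc, ⟨ιf⟩, ⟨ιg⟩, ⟨δ⟩⟩ :=
    LocQ.exists_comp_squares h𝒳 h𝒴 h𝒵 f g
  have : LocallyOfFiniteType (kf.left ≫ kg.left) :=
    AlgSp.locP_yon_map (LocQ.prop_of_locQ SmLocal.isSmoothLocalST_lft h𝒳 h𝒵 h (Or.inl hz.1) hc.1 δ)
  exact LocQ.locQ_of_square h𝒳 h𝒴 hy.1 hy.2 ha.1 ha.2 ιf
    (Lib.AlgSpMor.LocP.locP_of_repWith Lib.SourceDescent.Scheme.locallyOfFiniteType
      ((AlgSp.repWith_yon_map_iff _ _).2 (locallyOfFiniteType_of_comp kf.left kg.left)))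

end Groth.Agent.S13002
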