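import Groth.Statements.S13003

import Groth.Agent.H14.Chart.LocQ4

set_option autoImplicit false
set_option backward.isDefEq.respectTransparency false
set_option backward.isDefEq.respectTransparency.types false
universe u
open CategoryTheory AlgebraicGeometry
open AlgSt

namespace Groth.Agent.S13003

open Groth.Agent.H14.Sep
open Groth.Agent.Lib.AlgStack
open Groth.Agent.H14.Chart

/-- Let f : 𝒳 → 𝒴 be a morphism of algebraic stacks and 𝒵 → 𝒴 a morphism of algebraic stacks that is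
both flat and surjective. Whenever the projection 𝒵 ×_𝒴 𝒳 → 𝒵 is flat, f is flat too. -/
theorem result
    (S : Scheme.{u}) (𝒳 : AlgSt.Cat S) (𝒴 : AlgSt.Cat S)
    (h𝒳 : AlgSt.IsAlgStack Scheme.fppfPrecoverage 𝒳)
    (h𝒴 : AlgSt.IsAlgStack Scheme.fppfPrecoverage 𝒴)
    (f : 𝒳 ⥤ᵇ 𝒴)
    (𝒵 : AlgSt.Cat S) (h𝒵 : AlgSt.IsAlgStack Scheme.fppfPrecoverage 𝒵) (z : 𝒵 ⥤ᵇ 𝒴)
    (hz₁ : AlgSt.LocQ (AlgSp.LocP @Flat) z) (hz₂ : AlgSt.IsSurjective z) :
    AlgSt.LocQ (AlgSp.LocP @Flat) (FibCat.fpFst z f) → AlgSt.LocQ (AlgSp.LocP @Flat) f := by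
  intro hf
  refine LocQ.locQ_of_cover SmLocal.isSmoothLocalST_flat h𝒳 h𝒴 h𝒵 hz₂ hf
    fun U V T R k s p q sq hs hQ hq => ?_
  have : Flat s.left := hQ Lib.SourceDescent.Scheme.flat SmLocal.isSmoothLocalST_flat
    (fun _ _ g (_ : Smooth g) => inferInstanceAs (Flat g)) hz₁
  have := hs
  have : Flat q.left := AlgSp.locP_yon_map hq
  have sq' : IsPullback p.left q.left k.left s.left :=
    (Lib.AlgSpace.isPullback_of_yon_map sq).map (Over.forget S)
  have : Flat p.left := MorphismProperty.of_isPullback (P := @Flat) sq'.flip ‹Flat s.left›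
  have : Surjective p.left := MorphismProperty.of_isPullback (P := @Surjective) sq'.flip hs
  have : Flat (p.left ≫ k.left) := by rw [sq'.w]; infer_instance
  exact Lib.AlgSpMor.LocP.locP_of_repWith Lib.SourceDescent.Scheme.flat
    ((AlgSp.repWith_yon_map_iff _ _).2 (Lib.Flat55.FlatDescend.flat_of_comp p.left k.left))

end Groth.Agent.S13003
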