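import Groth.Statements.S13006
import Groth.Agent.H14.Chart.LocQ2
import Groth.Agent.H14.Chart.SmLocal
import Groth.Agent.Lib.AlgStack.RepOver
import Groth.Agent.H14.Sep.Lft

set_option autoImplicit false
universe u
open CategoryTheory AlgebraicGeometry
open AlgSt

set_option backward.isDefEq.respectTransparency false
set_option backward.isDefEq.respectTransparency.types false

namespace Groth.Agent.S13006

open FibCat in
/-- The slice functor of the identity. -/
noncomputable def overMapId {S : Scheme.{u}} (U : Over S) :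
    AlgSt.overMap (𝟙 U) ≅ BasedFunctor.id (overCat U) :=
  BasedNatIso.mkNatIso
    (NatIso.ofComponents
      (fun h : Over U => Over.isoMk (Iso.refl h.left)
        ((Category.id_comp _).trans (Category.comp_id h.hom).symm))
      (fun f => Over.OverMorphism.ext (by exact (Category.comp_id _).trans (Category.id_comp _).symm)))
    (fun h => IsHomLift.of_fac' _ _ _ rfl rfl (by simp; rfl))

/-- If a morphism f of algebraic stacks is locally of finite type then its diagonal is locally of finite
presentation. (The second assertion adds the quasi-compactness clauses on both sides.) -/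
theorem result
    (S : Scheme.{u}) (𝒳 : AlgSt.Cat S) (𝒴 : AlgSt.Cat S)
    (h𝒳 : AlgSt.IsAlgStack Scheme.fppfPrecoverage 𝒳)
    (h𝒴 : AlgSt.IsAlgStack Scheme.fppfPrecoverage 𝒴)
    (f : 𝒳 ⥤ᵇ 𝒴) :
    AlgSt.LocQ (AlgSp.LocP @LocallyOfFiniteType) f → AlgSt.LocQ (AlgSp.LocP @LocallyOfFinitePresentation) (FibCat.diag f) := by
  intro hf
  have hP := H14.Chart.Basic.isAlgStack_fp h𝒴 h𝒳 h𝒳 f f
  have hfst : AlgSt.LocQ (AlgSp.LocP @LocallyOfFiniteType) (FibCat.fpFst f f) :=
    H14.Chart.LocQ.locQ_fpFst H14.Chart.SmLocal.isSmoothLocalST_lft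
      (H14.Sep.SpProps.stableBC_locP H14.Sep.SpProps.lft) h𝒳 h𝒴 h𝒳 f hf
  have hid : AlgSt.LocQ (AlgSp.LocP @LocallyOfFinitePresentation)
      (BasedFunctor.comp (FibCat.diag f) (FibCat.fpFst f f)) := by
    obtain ⟨U, a, ha, has⟩ := h𝒳.atlas
    refine ⟨U, U, a, a, 𝟙 U, ?_, ha, has, ha, ?_⟩
    · exact Lib.AlgStack.BasedBasic.isoWhiskerRight (overMapId U).symm a
    · rw [CategoryTheory.Functor.map_id]
      exact H14.Chart.SmLocal.locP_id Lib.SourceDescent.Scheme.locallyOfFinitePresentation
        (AlgSp.IsAlgSpace.yon_obj U)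
  exact H14.Chart.LocQ.locQ_left H14.Chart.SmLocal.isSmoothLocalST_lfp H14.Chart.SmLocal.isSmoothLocalST_lft
    (fun U V W k l h1 h2 => by
      have hkl : LocallyOfFinitePresentation (k ≫ l).left := AlgSp.locP_yon_map h1
      have : LocallyOfFiniteType l.left := AlgSp.locP_yon_map h2
      exact Lib.AlgSpMor.LocP.locP_of_repWith Lib.SourceDescent.Scheme.locallyOfFinitePresentation
        ((AlgSp.repWith_yon_map_iff _ _).2
          (Lib.AlgSpMor.Cancel.locallyOfFinitePresentation_of_comp (g := l.left) (by simpa using hkl) ‹_›)))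
    h𝒳 hP h𝒳 hid hfst

end Groth.Agent.S13006
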