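import Groth.Statements.S13009

import Groth.Agent.H14.Chart.LocQ4

set_option autoImplicit false
set_option backward.isDefEq.respectTransparency false
set_option backward.isDefEq.respectTransparency.types false
universe u
open CategoryTheory AlgebraicGeometry
open AlgSt

namespace Groth.Agent.S13009

open Groth.Agent.H14.Sep
open Groth.Agent.Lib.AlgStack
open Groth.Agent.H14.Chart

/-- Let f : 𝒳 → 𝒴 be a morphism of algebraic stacks and 𝒵 → 𝒴 a morphism of algebraic stacks that is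
flat, surjective and locally of finite presentation. Whenever the projection 𝒵 ×_𝒴 𝒳 → 𝒵 is
quasi-compact, f is quasi-compact too. -/
theorem result
    (S : Scheme.{u}) (𝒳 : AlgSt.Cat S) (𝒴 : AlgSt.Cat S)
    (h𝒳 : AlgSt.IsAlgStack Scheme.fppfPrecoverage 𝒳)
    (h𝒴 : AlgSt.IsAlgStack Scheme.fppfPrecoverage 𝒴)
    (f : 𝒳 ⥤ᵇ 𝒴)
    (𝒵 : AlgSt.Cat S) (h𝒵 : AlgSt.IsAlgStack Scheme.fppfPrecoverage 𝒵) (z : 𝒵 ⥤ᵇ 𝒴)
    (hz₁ : AlgSt.LocQ (AlgSp.LocP @Flat) z) (hz₂ : AlgSt.LocQ (AlgSp.LocP @LocallyOfFinitePresentation) z)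
    (hz₃ : AlgSt.IsSurjective z) :
    AlgSt.IsQuasiCompactMor Scheme.fppfPrecoverage (FibCat.fpFst z f) → AlgSt.IsQuasiCompactMor Scheme.fppfPrecoverage f := by
  intro h
  obtain ⟨W, w, -, -, -, hs, hQ⟩ := LocQ.exists_cover_chart h𝒵 h𝒴 z
  have hzf := Basic.isAlgStack_fp h𝒴 h𝒵 h𝒳 z f
  have hW := Basic.isAlgStack_overCat W
  obtain ⟨i, hi, ⟨ε⟩⟩ := LocQ.exists_inverse_over (Rep.isEquivOver_pasteBase w z f)
    (π := FibCat.fpFst w (FibCat.fpFst z f)) (π' := FibCat.fpFst (BasedFunctor.comp w z) f) (Iso.refl _)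
  exact QC2.isQuasiCompactMor_of_cover h𝒳 h𝒴 hW (BasedFunctor.comp w z)
    (hQ Lib.SourceDescent.Scheme.flat SmLocal.isSmoothLocalST_flat
      (fun _ _ g (_ : Smooth g) => inferInstanceAs (Flat g)) hz₁)
    (hQ Lib.SourceDescent.Scheme.locallyOfFinitePresentation SmLocal.isSmoothLocalST_lfp
      (fun _ _ g (_ : Smooth g) => inferInstanceAs (LocallyOfFinitePresentation g)) hz₂) (hs hz₃)
    (QC.isQuasiCompactMor_of_source (Basic.isAlgStack_fp h𝒵 hW hzf w (FibCat.fpFst z f))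
      (Basic.isAlgStack_fp h𝒴 hW h𝒳 (BasedFunctor.comp w z) f) hW hi ε
      (QC.isQuasiCompactMor_fpFst hzf h𝒵 hW w h))

end Groth.Agent.S13009
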