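import Groth.Statements.S13017

import Groth.Agent.H14.Chart.LocQ4

set_option autoImplicit false
set_option backward.isDefEq.respectTransparency false
set_option backward.isDefEq.respectTransparency.types false
universe u
open CategoryTheory AlgebraicGeometry
open AlgSt

namespace Groth.Agent.S13017

open Groth.Agent.H14.Sep
open Groth.Agent.Lib.AlgStack
open Groth.Agent.H14.Chart

/-- If j : 𝒳 → 𝒴 is an immersion of algebraic stacks with 𝒴 locally Noetherian, then j is quasi-compact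
and 𝒳 is also locally Noetherian. -/
theorem result
    (S : Scheme.{u}) (𝒳 : AlgSt.Cat S) (𝒴 : AlgSt.Cat S)
    (h𝒳 : AlgSt.IsAlgStack Scheme.fppfPrecoverage 𝒳)
    (h𝒴 : AlgSt.IsAlgStack Scheme.fppfPrecoverage 𝒴)
    (j : 𝒳 ⥤ᵇ 𝒴) (hj : AlgSt.IsImm j) :
    AlgSt.SmoothLocally (fun T ↦ IsLocallyNoetherian T) 𝒴 → AlgSt.SmoothLocally (fun T ↦ IsLocallyNoetherian T) 𝒳 ∧ AlgSt.IsQuasiCompactMor Scheme.fppfPrecoverage j := by
  intro hY
  exact ⟨LocQ.smoothLocally_noetherian h𝒳 h𝒴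
      (LocQ.locQ_of_repByAlgSpWith SmLocal.isSmoothLocalST_lft.precomp h𝒳 h𝒴
        (Rep.repByAlgSpWith_mono hj fun _ _ _ _ _ h => Lib.AlgSpMor.LocP.locP_of_repWith
          Lib.SourceDescent.Scheme.locallyOfFiniteType
          (Lib.AlgSpace.repWith_mono h fun _ _ g (_ : IsImmersion g) =>
            inferInstanceAs (LocallyOfFiniteType g)))) hY, LocQ.isQuasiCompactMor_of_imm h𝒳 h𝒴 hj hY⟩

end Groth.Agent.S13017
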