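import Groth.Statements.S13018

import Groth.Agent.H14.Chart.LocQ4

set_option autoImplicit false
set_option backward.isDefEq.respectTransparency false
set_option backward.isDefEq.respectTransparency.types false
universe u
open CategoryTheory AlgebraicGeometry
open AlgSt

namespace Groth.Agent.S13018

open Groth.Agent.H14.Sep
open Groth.Agent.Lib.AlgStack
open Groth.Agent.H14.Chart

/-- If j : 𝒳 → 𝒴 is an immersion of algebraic stacks and 𝒴 is Noetherian (quasi-compact, quasi-separated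
and locally Noetherian) then so is 𝒳. (The published statement uses quasi-separatedness over the
integers; this row uses quasi-separatedness over the base scheme in hypothesis and conclusion.) -/
theorem result
    (S : Scheme.{u}) (𝒳 : AlgSt.Cat S) (𝒴 : AlgSt.Cat S)
    (h𝒳 : AlgSt.IsAlgStack Scheme.fppfPrecoverage 𝒳)
    (h𝒴 : AlgSt.IsAlgStack Scheme.fppfPrecoverage 𝒴)
    (j : 𝒳 ⥤ᵇ 𝒴) (hj : AlgSt.IsImm j) :
    AlgSt.IsQuasiCompact 𝒴 → AlgSt.IsQuasiSeparatedOver 𝒴 → AlgSt.SmoothLocally (fun T ↦ IsLocallyNoetherian T) 𝒴 →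
      AlgSt.IsQuasiCompact 𝒳 ∧ AlgSt.IsQuasiSeparatedOver 𝒳 ∧ AlgSt.SmoothLocally (fun T ↦ IsLocallyNoetherian T) 𝒳 := by
  intro hc hq hY
  have hq' := LocQ.isQuasiCompactMor_of_imm h𝒳 h𝒴 hj hY
  have hid := Basic.isAlgStack_fp h𝒴 h𝒴 h𝒳 (BasedFunctor.id 𝒴) j
  refine ⟨QC.isQuasiCompact_of_surjective hid h𝒳
      (Basic.surjective_map_of_isEquivOver (Main.isEquivOver_fpSnd_id j))
      (hq' 𝒴 h𝒴 hc (BasedFunctor.id 𝒴)), ?_, LocQ.smoothLocally_noetherian h𝒳 h𝒴
      (LocQ.locQ_of_repByAlgSpWith SmLocal.isSmoothLocalST_lft.precomp h𝒳 h𝒴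
        (Rep.repByAlgSpWith_mono hj fun _ _ _ _ _ h => Lib.AlgSpMor.LocP.locP_of_repWith
          Lib.SourceDescent.Scheme.locallyOfFiniteType
          (Lib.AlgSpace.repWith_mono h fun _ _ g (_ : IsImmersion g) =>
            inferInstanceAs (LocallyOfFiniteType g)))) hY⟩
  have hs : AlgSt.RepByAlgSpWith AlgSp.IsSeparatedMor j :=
    Rep.repByAlgSpWith_mono hj fun _ _ γ _ _ h =>
      have : Mono γ := Lib.AlgSpace.mono_of_repWith (P := @IsImmersion)
        (fun _ _ g hg => have := hg; (inferInstance : Mono g)) h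
      SpDiag.isSeparatedMor_of_mono γ
  have hd : AlgSt.RepByAlgSpWith (AlgSp.IsQuasiCompactMor ⊓ AlgSp.IsQuasiSeparatedMor) (FibCat.diag j) :=
    Rep.repByAlgSpWith_mono (Main2.diag_proper_of_sep hs) fun _ _ _ _ _ h =>
      ⟨h.2.1.2, Lib.AlgSpace.repWith_mono h.1 fun _ _ g hg => have := hg; (inferInstance : QuasiCompact g)⟩
  have := Main.good_qcqs.diagComp (g := FibCat.toSelf 𝒴) h𝒳.isStack.1 h𝒴.isStack.1 hd hq
  rw [QC2.eq_toSelf (BasedFunctor.comp j (FibCat.toSelf 𝒴))] at this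
  exact this

end Groth.Agent.S13018
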