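import Groth.Statements.S13035
import Groth.Agent.H14.Chart.LocQ4
import Groth.Agent.H14.Chart.Top
import Groth.Agent.H14.Chart.SmLocal
import Groth.Agent.Lib.AlgStack.ChartLift
import Mathlib.AlgebraicGeometry.ValuativeCriterion
import Mathlib.AlgebraicGeometry.Morphisms.UniversallyOpen

set_option autoImplicit false
universe u
open CategoryTheory AlgebraicGeometry
open AlgSt

set_option backward.isDefEq.respectTransparency false
set_option backward.isDefEq.respectTransparency.types false

namespace Groth.Agent.S13035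

/-- Let f : 𝒳 → 𝒴 be a flat morphism of algebraic stacks and Spec A → 𝒴 a morphism with A a valuation
ring whose closed point maps into the image of |𝒳| → |𝒴|. Then there are an extension of valuation
rings A → A' (an injective local homomorphism of valuation rings) and a morphism Spec A' → 𝒳 making
the square with Spec A' → Spec A → 𝒴 2-commute. -/
theorem result
    (S : Scheme.{u}) (𝒳 : AlgSt.Cat S) (𝒴 : AlgSt.Cat S)
    (h𝒳 : AlgSt.IsAlgStack Scheme.fppfPrecoverage 𝒳)
    (h𝒴 : AlgSt.IsAlgStack Scheme.fppfPrecoverage 𝒴)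
    (f : 𝒳 ⥤ᵇ 𝒴)
    (hf : AlgSt.LocQ (AlgSp.LocP @Flat) f)
    (A : Type u) [CommRing A] [IsDomain A] [ValuationRing A] (sA : Spec (CommRingCat.of A) ⟶ S)
    (a : FibCat.overCat (Over.mk sA) ⥤ᵇ 𝒴)
    (ha : AlgSt.Points.ofChart a (IsLocalRing.closedPoint A) ∈ Set.range (AlgSt.Points.map f)) :
    ∃ (A' : Type u) (_ : CommRing A') (_ : IsDomain A') (_ : ValuationRing A') (φ : A →+* A'),
      Function.Injective φ ∧ IsLocalHom φ ∧
      ∃ x : FibCat.overCat (Over.mk (Spec.map (CommRingCat.ofHom φ) ≫ sA)) ⥤ᵇ 𝒳,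
        Nonempty (BasedFunctor.comp x f ≅
          BasedFunctor.comp (AlgSt.overMap (Over.homMk (Spec.map (CommRingCat.ofHom φ)) rfl :
            Over.mk (Spec.map (CommRingCat.ofHom φ) ≫ sA) ⟶ Over.mk sA)) a) := by
  let V : Over S := Over.mk sA
  have hV := H14.Chart.Basic.isAlgStack_overCat V
  have hP := H14.Chart.Basic.isAlgStack_fp h𝒴 hV h𝒳 a f
  obtain ⟨U, c, hc, hcs⟩ := hP.atlas
  let m : U ⟶ V := Lib.AlgStack.ChartLift.mapOf (BasedFunctor.comp c (FibCat.fpFst a f))
  let em := Lib.AlgStack.ChartLift.isoMapOf (BasedFunctor.comp c (FibCat.fpFst a f))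
  have eF := Lib.SourceDescent.Scheme.flat.{u}
  have : Flat m.left := AlgSp.locP_yon_map
    (Lib.AlgStack.ChartLift.prop_overMap (Lib.AlgStack.IsAlgFp.respectsIsoSp_locP eF)
      (Lib.AlgStack.IsAlgFp.detected_locP eF)
      (Lib.AlgStack.Rep.repByAlgSpWith_of_iso em
        (H14.Chart.LocQ.rep_chart_comp_locP eF H14.Chart.SmLocal.isSmoothLocalST_flat
          (fun _ _ g (_ : Smooth g) => inferInstanceAs (Flat g)) hP hV
          (H14.Chart.LocQ.locQ_fpFst H14.Chart.SmLocal.isSmoothLocalST_flat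
            (H14.Sep.SpProps.stableBC_locP eF) h𝒳 h𝒴 hV a hf) hc)))
  obtain ⟨p, hp⟩ := ha
  obtain ⟨r, hr, -⟩ := H14.Chart.Basic.exists_points_fp h𝒳.isStack.1 h𝒴.isStack.1
    (Lib.AlgStack.Yoneda.isFibGrpd_overCat V) (g := a)
    (p := AlgSt.Points.ofChart (BasedFunctor.id _) (IsLocalRing.closedPoint A : ↥V.left)) hp.symm
  obtain ⟨u, rfl⟩ := H14.Chart.Points.surjective_ofChart hP.isStack.1 hcs r
  have hu : m.left u = IsLocalRing.closedPoint A := by
    refine H14.Chart.LocQ.injective_ofChart_id ?_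
    rw [← hr, H14.Chart.Points.map_ofChart, H14.Chart.Points.ofChart_iso em,
      ← H14.Chart.Points.ofChart_overMap]
    rfl
  obtain ⟨u', hspec, hu'⟩ := Flat.generalizingMap m.left (a := u) (b := (⊥ : PrimeSpectrum A)) (by
    rw [hu]
    exact (PrimeSpectrum.le_iff_specializes (⊥ : PrimeSpectrum A) (IsLocalRing.closedPoint A)).1 bot_le)
  let θ : U.left.presheaf.stalk u ⟶ U.left.residueField u' :=
    U.left.presheaf.stalkSpecializes hspec ≫ U.left.residue u'
  obtain ⟨B, hB, hB'⟩ := IsLocalRing.exists_factor_valuationRing θ.hom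
  let θB : U.left.presheaf.stalk u ⟶ CommRingCat.of B := CommRingCat.ofHom (θ.hom.codRestrict _ hB)
  let ψ : Spec (CommRingCat.of B) ⟶ U.left := Spec.map θB ≫ U.left.fromSpecStalk u
  obtain ⟨φ', hφ'⟩ := Spec.map_surjective (ψ ≫ m.left : Spec (CommRingCat.of B) ⟶ Spec (CommRingCat.of A))
  let φ : A →+* B := φ'.hom
  have hψ0 : ψ (IsLocalRing.closedPoint B) = u := by
    change U.left.fromSpecStalk u (Spec.map θB (IsLocalRing.closedPoint B)) = u
    have : Spec.map θB (IsLocalRing.closedPoint B) =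
        IsLocalRing.closedPoint (U.left.presheaf.stalk u) :=
      IsLocalRing.comap_closedPoint (S := B) (θ.hom.codRestrict B.toSubring hB)
    rw [this, U.left.fromSpecStalk_closedPoint]
  have hcl : PrimeSpectrum.comap φ (IsLocalRing.closedPoint B) = IsLocalRing.closedPoint A := by
    change Spec.map φ' (IsLocalRing.closedPoint B) = _
    rw [hφ', Scheme.Hom.comp_apply]
    exact (congrArg m.left hψ0).trans hu
  have hloc : IsLocalHom φ := ((IsLocalRing.local_hom_TFAE φ).out 0 4 rfl rfl).2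
    (congrArg PrimeSpectrum.asIdeal hcl)
  have hgen : Spec.map (CommRingCat.ofHom (algebraMap B (U.left.residueField u'))) ≫ ψ =
      U.left.fromSpecResidueField u' := by
    rw [Scheme.fromSpecResidueField, ← Scheme.SpecMap_stalkSpecializes_fromSpecStalk hspec]
    simp_rw [ψ, ← Spec.map_comp_assoc]
    rfl
  have hinj : Function.Injective φ := by
    rw [RingHom.injective_iff_ker_eq_bot, eq_bot_iff]
    intro x hx
    let q : PrimeSpectrum (U.left.residueField u') := IsLocalRing.closedPoint _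
    have h1 : PrimeSpectrum.comap ((algebraMap B (U.left.residueField u')).comp φ) q = ⊥ := by
      change Spec.map (φ' ≫ CommRingCat.ofHom (algebraMap B (U.left.residueField u'))) q = _
      rw [Spec.map_comp, hφ', ← Category.assoc, hgen, Scheme.Hom.comp_apply]
      exact (congrArg m.left (Scheme.fromSpecResidueField_apply _ _)).trans hu'
    have h2 : x ∈ (PrimeSpectrum.comap ((algebraMap B (U.left.residueField u')).comp φ) q).asIdeal := by
      simp [RingHom.mem_ker.1 hx]
    rw [h1] at h2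
    exact h2
  refine ⟨B, inferInstance, inferInstance, inferInstance, φ, hinj, hloc, ?_⟩
  let W : Over S := Over.mk (Spec.map (CommRingCat.ofHom φ) ≫ sA)
  let j : W ⟶ V := Over.homMk (Spec.map (CommRingCat.ofHom φ)) rfl
  let g : W ⟶ U := Over.homMk ψ (by
    change ψ ≫ U.hom = Spec.map φ' ≫ sA
    rw [hφ', ← Over.w m, Category.assoc]
    rfl)
  have hgj : g ≫ m = j := Over.OverMorphism.ext hφ'.symm
  refine ⟨BasedFunctor.comp (BasedFunctor.comp (AlgSt.overMap g) c) (FibCat.fpSnd a f), ⟨?_⟩⟩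
  exact (Lib.AlgStack.BasedBasic.isoWhiskerLeft (BasedFunctor.comp (AlgSt.overMap g) c)
      (FibCat.fpIso a f)).symm ≪≫
    Lib.AlgStack.BasedBasic.isoWhiskerRight
      (Lib.AlgStack.BasedBasic.isoWhiskerLeft (AlgSt.overMap g) em ≪≫
        Lib.AlgStack.ChartLift.overMapComp g m ≪≫ eqToIso (congrArg AlgSt.overMap hgj)) a

end Groth.Agent.S13035
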