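import Groth.Statements.S13036
import Groth.Agent.H14.Chart.Top
import Groth.Agent.Lib.AlgStack.ChartLift
import Mathlib.AlgebraicGeometry.ValuativeCriterion

set_option autoImplicit false
set_option backward.isDefEq.respectTransparency false
set_option backward.isDefEq.respectTransparency.types false
universe u
open CategoryTheory AlgebraicGeometry
open AlgSt

namespace Groth.Agent.S13036

open CategoryTheory AlgebraicGeometry in
/-- Points of a scheme are told apart by the identity chart. -/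
theorem ofChart_id_inj {S : Scheme.{u}} {V : Over S} {a b : ↥V.left}
    (h : AlgSt.Points.ofChart (BasedFunctor.id (FibCat.overCat V)) a =
      AlgSt.Points.ofChart (BasedFunctor.id (FibCat.overCat V)) b) : a = b := by
  obtain ⟨W, p, q, w, rfl, rfl, ⟨e⟩⟩ :=
    H14.Chart.Points.exists_of_ofChart_eq (Lib.AlgStack.Yoneda.isFibGrpd_overCat V) h
  have : p = q := Lib.AlgStack.ChartLift.eq_of_iso
    (e : AlgSt.overMap p ≅ AlgSt.overMap q)
  rw [this]

/-- Let f : 𝒳 → 𝒴 be a quasi-compact morphism of algebraic stacks and y a point of |𝒴| in the closure of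
the image of |f|. Then there are a valuation ring A with fraction field K and a 2-commutative square
Spec K → 𝒳, Spec A → 𝒴 (over Spec K → Spec A and f) such that the closed point of Spec A maps to y. -/
theorem result
    (S : Scheme.{u}) (𝒳 : AlgSt.Cat S) (𝒴 : AlgSt.Cat S)
    (h𝒳 : AlgSt.IsAlgStack Scheme.fppfPrecoverage 𝒳)
    (h𝒴 : AlgSt.IsAlgStack Scheme.fppfPrecoverage 𝒴)
    (f : 𝒳 ⥤ᵇ 𝒴)
    (hf : AlgSt.IsQuasiCompactMor Scheme.fppfPrecoverage f)
    (y : AlgSt.Points 𝒴) (hy : y ∈ closure (Set.range (AlgSt.Points.map f))) :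
    ∃ (A : Type u) (_ : CommRing A) (_ : IsDomain A) (_ : ValuationRing A) (sA : Spec (CommRingCat.of A) ⟶ S)
      (a : FibCat.overCat (Over.mk sA) ⥤ᵇ 𝒴)
      (x : FibCat.overCat (Over.mk (Spec.map (CommRingCat.ofHom (algebraMap A (FractionRing A))) ≫ sA)) ⥤ᵇ 𝒳),
      Nonempty (BasedFunctor.comp x f ≅
        BasedFunctor.comp (AlgSt.overMap (Over.homMk (Spec.map (CommRingCat.ofHom (algebraMap A (FractionRing A)))) rfl :
          Over.mk (Spec.map (CommRingCat.ofHom (algebraMap A (FractionRing A))) ≫ sA) ⟶ Over.mk sA)) a) ∧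
      AlgSt.Points.ofChart a (IsLocalRing.closedPoint A) = y := by
  obtain ⟨V, b, hV, hb, ⟨t₀, ht₀⟩, -⟩ :=
    H14.Chart.Top.exists_affine_chart h𝒴 y isOpen_univ trivial
  have hP := H14.Chart.Basic.isAlgStack_fp h𝒴 (H14.Chart.Basic.isAlgStack_overCat V) h𝒳 b f
  obtain ⟨U, u, hU, hu, hus⟩ :=
    hf _ (H14.Chart.Basic.isAlgStack_overCat V) (H14.Chart.QC.isQuasiCompact_overCat V) b
  let m : U ⟶ V := Lib.AlgStack.ChartLift.mapOf (BasedFunctor.comp u (FibCat.fpFst b f))
  let em := Lib.AlgStack.ChartLift.isoMapOf (BasedFunctor.comp u (FibCat.fpFst b f))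
  have hcl : t₀ ∈ closure (Set.range m.left) := by
    rw [mem_closure_iff]
    intro N hN htN
    obtain ⟨-, ⟨t, htN', rfl⟩, ⟨p, hp⟩⟩ := mem_closure_iff.1 hy _
      (H14.Chart.Points.isOpenMap_ofChart h𝒴.isStack.1 hb N hN) ⟨t₀, htN, ht₀⟩
    obtain ⟨r, hr, -⟩ := H14.Chart.Basic.exists_points_fp h𝒳.isStack.1 h𝒴.isStack.1
      (Lib.AlgStack.Yoneda.isFibGrpd_overCat V) (g := b)
      (p := AlgSt.Points.ofChart (BasedFunctor.id _) t) hp.symm
    obtain ⟨c, rfl⟩ := H14.Chart.Points.surjective_ofChart hP.isStack.1 hus r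
    refine ⟨t, htN', c, ofChart_id_inj ?_⟩
    rw [← hr, H14.Chart.Points.map_ofChart, H14.Chart.Points.ofChart_iso em,
      ← H14.Chart.Points.ofChart_overMap]
    rfl
  obtain ⟨c, hc⟩ : ∃ c, m.left c ⤳ t₀ := by
    obtain ⟨φ, hφ⟩ := Spec.map_surjective (U.left.isoSpec.inv ≫ m.left ≫ V.left.isoSpec.hom)
    have h1 : V.left.isoSpec.hom t₀ ∈
        closure (Set.range (PrimeSpectrum.comap φ.hom)) := by
      refine map_mem_closure V.left.isoSpec.hom.continuous hcl ?_
      rintro _ ⟨c, rfl⟩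
      refine ⟨U.left.isoSpec.hom c, ?_⟩
      change Spec.map φ (U.left.isoSpec.hom c) = _
      rw [hφ, ← Scheme.Hom.comp_apply, Iso.hom_inv_id_assoc]
      rfl
    rw [PrimeSpectrum.closure_range_comap, PrimeSpectrum.mem_zeroLocus] at h1
    obtain ⟨q, hq, hq'⟩ := Ideal.exists_minimalPrimes_le (J := (V.left.isoSpec.hom t₀).asIdeal) h1
    obtain ⟨q', hq₁, -, hq₂⟩ := Ideal.exists_comap_eq_of_mem_minimalPrimes φ.hom (I := ⊥) q hq
    refine ⟨U.left.isoSpec.inv ⟨q', hq₁⟩, ?_⟩
    have h2 : Spec.map φ ⟨q', hq₁⟩ ⤳ V.left.isoSpec.hom t₀ :=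
      (PrimeSpectrum.le_iff_specializes _ _).1 (show (q'.comap φ.hom) ≤ _ by rw [hq₂]; exact hq')
    have h3 := h2.map V.left.isoSpec.inv.continuous
    rw [hφ, ← Scheme.Hom.comp_apply, ← Scheme.Hom.comp_apply, Category.assoc, Category.assoc,
      Iso.hom_inv_id, Category.comp_id, Scheme.Hom.comp_apply] at h3
    exact h3
  let θ : V.left.presheaf.stalk t₀ ⟶ U.left.residueField c :=
    V.left.presheaf.stalkSpecializes hc ≫ m.left.stalkMap c ≫ U.left.residue c
  obtain ⟨A, hA, hA'⟩ := IsLocalRing.exists_factor_valuationRing θ.hom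
  let θA : V.left.presheaf.stalk t₀ ⟶ CommRingCat.of A := CommRingCat.ofHom (θ.hom.codRestrict _ hA)
  let φA : Spec (CommRingCat.of A) ⟶ V.left := Spec.map θA ≫ V.left.fromSpecStalk t₀
  let ι := FractionRing.algEquiv A (U.left.residueField c)
  let top : Spec (CommRingCat.of (FractionRing A)) ⟶ U.left :=
    Spec.map (CommRingCat.ofHom ι.symm.toRingEquiv.toRingHom) ≫ U.left.fromSpecResidueField c
  have w : U.left.fromSpecResidueField c ≫ m.left =
      Spec.map (CommRingCat.ofHom (algebraMap A (U.left.residueField c))) ≫ φA := by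
    rw [Scheme.fromSpecResidueField, Category.assoc, ← Scheme.SpecMap_stalkMap_fromSpecStalk,
      ← Scheme.SpecMap_stalkSpecializes_fromSpecStalk hc]
    simp_rw [φA, ← Spec.map_comp_assoc]
    rfl
  let sA : Spec (CommRingCat.of A) ⟶ S := φA ≫ V.hom
  let PK : Over S := Over.mk (Spec.map (CommRingCat.ofHom (algebraMap A (FractionRing A))) ≫ sA)
  let PA : Over S := Over.mk sA
  let jK : PK ⟶ PA := Over.homMk (Spec.map (CommRingCat.ofHom (algebraMap A (FractionRing A)))) rfl
  let jV : PA ⟶ V := Over.homMk φA rfl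
  have htop : top ≫ m.left = Spec.map (CommRingCat.ofHom (algebraMap A (FractionRing A))) ≫ φA := by
    rw [Category.assoc, w, ← Category.assoc, ← Spec.map_comp, ← CommRingCat.ofHom_comp]
    congr 3
    ext x
    exact ι.symm.commutes x
  let topU : PK ⟶ U := Over.homMk top (by
    change top ≫ U.hom = _ ≫ φA ≫ V.hom
    rw [← Over.w m, ← Category.assoc, htop, Category.assoc])
  have hjV : topU ≫ m = jK ≫ jV := Over.OverMorphism.ext htop
  refine ⟨A, inferInstance, inferInstance, inferInstance, sA, BasedFunctor.comp (AlgSt.overMap jV) b,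
    BasedFunctor.comp (BasedFunctor.comp (AlgSt.overMap topU) u) (FibCat.fpSnd b f), ⟨?_⟩, ?_⟩
  · exact (Lib.AlgStack.BasedBasic.isoWhiskerLeft (BasedFunctor.comp (AlgSt.overMap topU) u)
      (FibCat.fpIso b f)).symm ≪≫
      Lib.AlgStack.BasedBasic.isoWhiskerRight
        (Lib.AlgStack.BasedBasic.isoWhiskerLeft (AlgSt.overMap topU) em ≪≫
          Lib.AlgStack.ChartLift.overMapComp topU m ≪≫ eqToIso (congrArg AlgSt.overMap hjV) ≪≫
          (Lib.AlgStack.ChartLift.overMapComp jK jV).symm) b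
  · rw [H14.Chart.Points.ofChart_overMap, ← ht₀]
    congr 1
    change V.left.fromSpecStalk t₀ (Spec.map θA (IsLocalRing.closedPoint A)) = t₀
    have : Spec.map θA (IsLocalRing.closedPoint A) =
        IsLocalRing.closedPoint (V.left.presheaf.stalk t₀) :=
      IsLocalRing.comap_closedPoint (S := A) (θ.hom.codRestrict A.toSubring hA)
    rw [this, V.left.fromSpecStalk_closedPoint]

end Groth.Agent.S13036
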