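import Groth.Statements.S13041
import Mathlib

set_option autoImplicit false
universe u
open MaxMod

namespace Groth.Agent.S13041

/-- Let R be a domain with fraction field K, let A → B be a homomorphism of commutative R-algebras that
are flat over R, with B module-finite over A, such that the induced map K ⊗_R A → K ⊗_R B is
bijective. If the A-linear map Hom_A(B, A) → A evaluating at 1 is surjective, then A → B is
bijective. (The published statement concerns a finite morphism of flat schemes over a discrete
valuation ring, with locally free relative dualizing sheaves, that is an isomorphism over a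
schematically dense open and whose trace map on dualizing sheaves is surjective; this row is the
statement about rings to which the printed proof reduces it and which that proof establishes, and
the argument uses only that R is a domain.) -/
theorem result
    (R K A B : Type u) [CommRing R] [IsDomain R] [Field K] [Algebra R K] [IsFractionRing R K]
    [CommRing A] [CommRing B] [Algebra R A] [Algebra R B] [Algebra A B] [IsScalarTower R A B]
    [Module.Flat R A] [Module.Flat R B] [Module.Finite A B]
    (hK : Function.Bijective
      (Algebra.TensorProduct.map (AlgHom.id R K) (IsScalarTower.toAlgHom R A B)))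
    (htr : Function.Surjective (fun u : B →ₗ[A] A => u 1)) :
    Function.Bijective (algebraMap A B) := by
  haveI : IsLocalizedModule (nonZeroDivisors R) (TensorProduct.mk R K A 1) :=
    inferInstance
  have inj : ∀ (M : Type u) [AddCommGroup M] [Module R M] [Module.Flat R M], Function.Injective (fun m : M => (1 : K) ⊗ₜ[R] m) := by
    intro M _ _ _
    have h := Module.Flat.rTensor_preserves_injective_linearMap (M := M) (Algebra.linearMap R K) (IsFractionRing.injective R K)
    intro a b hab
    have := @h ((1 : R) ⊗ₜ[R] a) ((1 : R) ⊗ₜ[R] b) (by simpa using hab)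
    simpa using congrArg (TensorProduct.lid R M) this
  refine ⟨fun a b hab => inj A (hK.1 ?_), fun b => ?_⟩
  · simp [hab]
  obtain ⟨u, hu⟩ := htr 1
  obtain ⟨z, hz⟩ := hK.2 ((1 : K) ⊗ₜ[R] b)
  obtain ⟨⟨a, r⟩, har⟩ := IsLocalizedModule.surj (nonZeroDivisors R) (TensorProduct.mk R K A 1) z
  have h1 : algebraMap A B a = (r : R) • b := by
    refine inj B ?_
    show (1 : K) ⊗ₜ[R] algebraMap A B a = (1 : K) ⊗ₜ[R] ((r : R) • b)
    have := congrArg (Algebra.TensorProduct.map (AlgHom.id R K) (IsScalarTower.toAlgHom R A B)) har
    simp only [Submonoid.smul_def, map_smul, hz, TensorProduct.mk_apply, Algebra.TensorProduct.map_tmul] at this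
    rw [TensorProduct.tmul_smul, this]; simp
  have h2 : a = (r : R) • u b := by
    have := congrArg u h1
    rw [Algebra.algebraMap_eq_smul_one, map_smul, LinearMap.map_smul_of_tower] at this
    simpa [show u 1 = 1 from hu] using this
  refine ⟨u b, inj B ?_⟩
  have h3 : (1 : K) ⊗ₜ[R] ((r : R) • algebraMap A B (u b)) = (1 : K) ⊗ₜ[R] ((r : R) • b) := by
    rw [← h1, h2, Algebra.algebraMap_eq_smul_one, Algebra.algebraMap_eq_smul_one, smul_assoc]
  rw [TensorProduct.tmul_smul, TensorProduct.tmul_smul, ← IsScalarTower.algebraMap_smul K (r : R), ← IsScalarTower.algebraMap_smul K (r : R)] at h3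
  have hr : algebraMap R K r ≠ 0 := (map_ne_zero_iff _ (IsFractionRing.injective R K)).2 (nonZeroDivisors.ne_zero r.2)
  exact (smul_right_inj hr).1 h3

end Groth.Agent.S13041
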