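import Groth.Statements.S13042
import Mathlib

set_option autoImplicit false
universe u
open MaxMod

namespace Groth.Agent.S13042

open MvPolynomial

open MvPolynomial in
/-- Let p be a prime, R a local ring of characteristic p, λ an element of the maximal ideal of R and f ∈
R. Then there is an isomorphism of R-algebras R[W₁, W₂]/(W₁^p − f, W₂^p − f) ≅ R[x, W]/(x^p, W^p −
f) with W₁ ↦ x + W + λ·x·W and W₂ ↦ W; that is, Spec R[W]/(W^p − f) with the action w ↦ x + w + λxw
is a torsor under the group scheme Spec R[x]/(x^p) with law x₁ ∘ x₂ = x₁ + x₂ + λx₁x₂. (The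
published statement is over a complete discrete valuation ring of characteristic p with λ a nonzero
nonunit, and also asserts that for f in the fraction field with negative valuation v(f) > −p·v(λ)
the torsor W^p = f extends to a torsor over R, using the coordinate 1/W; that second case fails: for
p = 2, λ = π a uniformizer and f = 1/π, every model is Spec R[π^a t] with t² = π, and none of these
is a torsor since the coaction sends t to t − π(1 + t)x. Only the case f ∈ R is stated, and the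
argument there uses only that R is local of characteristic p.) -/
theorem result
    (p : ℕ) [Fact p.Prime] (R : Type u) [CommRing R] [IsLocalRing R] [CharP R p]
    (lam f : R) (hlam : lam ∈ IsLocalRing.maximalIdeal R) :
    ∃ e : (MvPolynomial (Fin 2) R ⧸ Ideal.span {(X 0 ^ p - C f : MvPolynomial (Fin 2) R), X 1 ^ p - C f}) ≃ₐ[R]
        (MvPolynomial (Fin 2) R ⧸ Ideal.span {(X 0 ^ p : MvPolynomial (Fin 2) R), X 1 ^ p - C f}),
      e (Ideal.Quotient.mk _ (X 0)) = Ideal.Quotient.mk _ (X 0 + X 1 + C lam * X 0 * X 1) ∧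
      e (Ideal.Quotient.mk _ (X 1)) = Ideal.Quotient.mk _ (X 1) := by
  classical
  haveI : CharP (MvPolynomial (Fin 2) R) p := inferInstance
  haveI : ExpChar (MvPolynomial (Fin 2) R) p := ExpChar.prime Fact.out
  set P := MvPolynomial (Fin 2) R
  set I1 : Ideal P := Ideal.span {(X 0 ^ p - C f : P), X 1 ^ p - C f}
  set I2 : Ideal P := Ideal.span {(X 0 ^ p : P), X 1 ^ p - C f}
  set q1 := Ideal.Quotient.mkₐ R I1
  set q2 := Ideal.Quotient.mkₐ R I2
  have hp0 : p ≠ 0 := (Fact.out : p.Prime).ne_zero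
  have m1a : q1 (X 0) ^ p = q1 (C f) := by
    rw [← map_pow]; exact Ideal.Quotient.eq.mpr (Ideal.subset_span (Or.inl rfl))
  have m1b : q1 (X 1) ^ p = q1 (C f) := by
    rw [← map_pow]; exact Ideal.Quotient.eq.mpr (Ideal.subset_span (Or.inr rfl))
  have m2a : q2 (X 0) ^ p = 0 := by
    rw [← map_pow]; exact Ideal.Quotient.eq_zero_iff_mem.mpr (Ideal.subset_span (Or.inl rfl))
  have m2b : q2 (X 1) ^ p = q2 (C f) := by
    rw [← map_pow]; exact Ideal.Quotient.eq.mpr (Ideal.subset_span (Or.inr rfl))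
  have hu : IsUnit (q1 (1 + C lam * X 1)) := by
    refine (isUnit_pow_iff hp0).mp ?_
    rw [← map_pow, add_pow_char, one_pow, mul_pow, ← map_pow C, map_add, map_one, map_mul, map_pow q1, m1b, ← map_mul, ← map_mul C,
      ← map_one q1, ← map_add, ← map_one (C : R →+* P), ← map_add C]
    refine IsUnit.map q1 (IsUnit.map C ?_)
    by_contra hn
    have h2 : lam ^ p * f ∈ IsLocalRing.maximalIdeal R :=
      Ideal.mul_mem_right _ _ (Ideal.pow_mem_of_mem _ hlam p (Nat.pos_of_ne_zero hp0))
    refine (IsLocalRing.maximalIdeal.isMaximal R).ne_top ((Ideal.eq_top_iff_one _).mpr ?_)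
    have h3 := sub_mem ((IsLocalRing.mem_maximalIdeal _).mpr hn) h2
    rwa [add_sub_cancel_right] at h3
  let fw : Fin 2 → P ⧸ I2 := ![q2 (X 0 + X 1 + C lam * X 0 * X 1), q2 (X 1)]
  let bw : Fin 2 → P ⧸ I1 := ![(q1 (X 0) - q1 (X 1)) * ↑hu.unit⁻¹, q1 (X 1)]
  have hF : I1 ≤ RingHom.ker (MvPolynomial.aeval fw).toRingHom := by
    rw [Ideal.span_le]
    rintro x (rfl | rfl)
    · show MvPolynomial.aeval fw (X 0 ^ p - C f) = 0
      rw [map_sub, map_pow, aeval_X, aeval_C]
      show q2 (X 0 + X 1 + C lam * X 0 * X 1) ^ p - _ = 0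
      rw [← map_pow, add_pow_char, add_pow_char, mul_pow, mul_pow, map_add, map_add, map_mul, map_mul, map_pow, map_pow, m2a,
        m2b, mul_zero, zero_mul, add_zero, zero_add]
      exact sub_self _
    · show MvPolynomial.aeval fw (X 1 ^ p - C f) = 0
      rw [map_sub, map_pow, aeval_X, aeval_C]
      show q2 (X 1) ^ p - _ = 0
      rw [m2b]
      exact sub_self _
  have hB : I2 ≤ RingHom.ker (MvPolynomial.aeval bw).toRingHom := by
    rw [Ideal.span_le]
    rintro x (rfl | rfl)
    · show MvPolynomial.aeval bw (X 0 ^ p) = 0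
      rw [map_pow, aeval_X]
      show ((q1 (X 0) - q1 (X 1)) * ↑hu.unit⁻¹) ^ p = 0
      rw [← map_sub, mul_pow, ← map_pow, sub_pow_char, map_sub, map_pow, map_pow, m1a, m1b, sub_self, zero_mul]
    · show MvPolynomial.aeval bw (X 1 ^ p - C f) = 0
      rw [map_sub, map_pow, aeval_X, aeval_C]
      show q1 (X 1) ^ p - _ = 0
      rw [m1b]
      exact sub_self _
  let F := Ideal.Quotient.liftₐ I1 (MvPolynomial.aeval fw) fun a ha => hF ha
  let G := Ideal.Quotient.liftₐ I2 (MvPolynomial.aeval bw) fun a ha => hB ha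
  have hFX : ∀ i, F (q1 (X i)) = fw i := fun i => (Ideal.Quotient.liftₐ_apply I1 _ _ _).trans (aeval_X fw i)
  have hGX : ∀ i, G (q2 (X i)) = bw i := fun i => (Ideal.Quotient.liftₐ_apply I2 _ _ _).trans (aeval_X bw i)
  have hC2 : ∀ c, F (q1 (C c)) = q2 (C c) := fun c => F.commutes c
  have hC1 : ∀ c, G (q2 (C c)) = q1 (C c) := fun c => G.commutes c
  have hGF : G.comp F = AlgHom.id R _ := by
    refine Ideal.Quotient.algHom_ext R (MvPolynomial.algHom_ext fun i => ?_)
    show G (F (q1 (X i))) = q1 (X i)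
    rw [hFX]
    fin_cases i
    · show G (q2 (X 0 + X 1 + C lam * X 0 * X 1)) = q1 (X 0)
      rw [map_add, map_add, map_mul, map_mul, map_add, map_add, map_mul, map_mul, hGX, hGX, hC1]
      show (q1 (X 0) - q1 (X 1)) * ↑hu.unit⁻¹ + q1 (X 1) + q1 (C lam) * ((q1 (X 0) - q1 (X 1)) * ↑hu.unit⁻¹) * q1 (X 1) = _
      have h1 : q1 (1 + C lam * X 1) * ↑hu.unit⁻¹ = 1 := hu.mul_val_inv
      generalize (↑hu.unit⁻¹ : P ⧸ I1) = v at h1 ⊢
      rw [map_add, map_one, map_mul] at h1
      linear_combination (q1 (X 0) - q1 (X 1)) * h1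
    · exact hGX 1
  have hFG : F.comp G = AlgHom.id R _ := by
    refine Ideal.Quotient.algHom_ext R (MvPolynomial.algHom_ext fun i => ?_)
    show F (G (q2 (X i))) = q2 (X i)
    rw [hGX]
    fin_cases i
    · show F ((q1 (X 0) - q1 (X 1)) * ↑hu.unit⁻¹) = q2 (X 0)
      have h1 : q1 (1 + C lam * X 1) * ↑hu.unit⁻¹ = 1 := hu.mul_val_inv
      generalize (↑hu.unit⁻¹ : P ⧸ I1) = v at h1 ⊢
      have h2 := congrArg F h1
      rw [map_mul, map_one, map_add, map_add, map_one, map_one, map_mul, map_mul, hFX, hC2] at h2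
      change (1 + q2 (C lam) * q2 (X 1)) * F v = 1 at h2
      rw [map_mul, map_sub, hFX, hFX]
      show (q2 (X 0 + X 1 + C lam * X 0 * X 1) - q2 (X 1)) * F v = _
      rw [map_add, map_add, map_mul, map_mul]
      linear_combination q2 (X 0) * h2
    · exact hFX 1
  exact ⟨AlgEquiv.ofAlgHom F G hFG hGF, hFX 0, hFX 1⟩

end Groth.Agent.S13042
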