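import Groth.Statements.S13044
import Groth.Agent.Lib.SchDense.Basic

set_option autoImplicit false
set_option linter.style.haveILetI false
universe u
open MaxMod

namespace Groth.Agent.S13044

open CategoryTheory Limits AlgebraicGeometry in
/-- Let R be a discrete valuation ring with fraction field K, let Y be a flat separated R-scheme and let
Γ → Y ×_R Y be a closed subscheme, with projections p₁, p₂ : Γ → Y, such that Γ is flat over R
(equivalently, Γ is the schematic closure of its generic fibre) and p₁, p₂ are flat. If for every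
scheme T over Spec K the relation on the T-valued points of Y defined by the T-valued points of Γ is
an equivalence relation, then for every scheme T over Spec R that relation is an equivalence
relation: Γ is a flat equivalence relation on Y. -/
theorem result
    (R K : Type u) [CommRing R] [IsDomain R] [IsDiscreteValuationRing R]
    [Field K] [Algebra R K] [IsFractionRing R K]
    (Y Γ : Scheme.{u}) (f : Y ⟶ Spec (CommRingCat.of R)) [IsSeparated f] [Flat f]
    (p₁ p₂ : Γ ⟶ Y) (h : p₁ ≫ f = p₂ ≫ f)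
    (hΓ : IsClosedImmersion (pullback.lift p₁ p₂ h))
    [Flat (p₁ ≫ f)] [Flat p₁] [Flat p₂]
    (hK : ∀ (T : Scheme.{u}) (t : T ⟶ Spec (CommRingCat.of R)),
      (∃ s : T ⟶ Spec (CommRingCat.of K), t = s ≫ Spec.map (CommRingCat.ofHom (algebraMap R K))) →
      _root_.Equivalence fun a b : {a : T ⟶ Y // a ≫ f = t} =>
        ∃ c : T ⟶ Γ, c ≫ p₁ = a.1 ∧ c ≫ p₂ = b.1) :
    ∀ (T : Scheme.{u}) (t : T ⟶ Spec (CommRingCat.of R)),
      _root_.Equivalence fun a b : {a : T ⟶ Y // a ≫ f = t} =>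
        ∃ c : T ⟶ Γ, c ≫ p₁ = a.1 ∧ c ≫ p₂ = b.1 := by
  let η : Spec (CommRingCat.of K) ⟶ Spec (CommRingCat.of R) := Spec.map (CommRingCat.ofHom (algebraMap R K))
  haveI : IsSchemeTheoreticallyDominant η :=
    Lib.SchDense.Basic.std_specMap_of_injective _ (IsFractionRing.injective R K)
  -- factorisation through a closed subscheme of a flat scheme can be tested on the generic fibre
  have fac : ∀ {T : Scheme.{u}} (t : T ⟶ Spec (CommRingCat.of R)) [Flat t] (m : T ⟶ pullback f f)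
      (e : pullback t η ⟶ Γ), e ≫ pullback.lift p₁ p₂ h = pullback.fst t η ≫ m →
      ∃ c : T ⟶ Γ, c ≫ p₁ = m ≫ pullback.fst f f ∧ c ≫ p₂ = m ≫ pullback.snd f f := by
    intro T t _ m e he
    haveI := hΓ
    let j := pullback.fst m (pullback.lift p₁ p₂ h)
    let l : pullback t η ⟶ pullback m (pullback.lift p₁ p₂ h) := pullback.lift (pullback.fst t η) e he.symm
    have hk : j.ker = ⊥ := le_bot_iff.mp ((l.le_ker_comp j).trans
      (by rw [show l ≫ j = pullback.fst t η from pullback.lift_fst _ _ _, Scheme.Hom.ker_eq_bot]))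
    haveI : IsIso j := IsClosedImmersion.isIso_iff_ker_eq_bot.mpr hk
    refine ⟨inv j ≫ pullback.snd m (pullback.lift p₁ p₂ h), ?_, ?_⟩
    · have := (pullback.condition (f := m) (g := pullback.lift p₁ p₂ h) =≫ pullback.fst f f)
      simp only [Category.assoc, pullback.lift_fst] at this
      simp [← this, j]
    · have := (pullback.condition (f := m) (g := pullback.lift p₁ p₂ h) =≫ pullback.snd f f)
      simp only [Category.assoc, pullback.lift_snd] at this
      simp [← this, j]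
  have gen : ∀ {T : Scheme.{u}} (t : T ⟶ Spec (CommRingCat.of R)), ∃ s, pullback.fst t η ≫ t = s ≫ η :=
    fun t => ⟨pullback.snd t η, pullback.condition⟩
  have hm : ∀ {T : Scheme.{u}} (t : T ⟶ Spec (CommRingCat.of R)) [Flat t] (a b : T ⟶ Y)
      (ha : a ≫ f = t) (hb : b ≫ f = t),
      (∃ c : pullback t η ⟶ Γ, c ≫ p₁ = pullback.fst t η ≫ a ∧ c ≫ p₂ = pullback.fst t η ≫ b) →
      ∃ c : T ⟶ Γ, c ≫ p₁ = a ∧ c ≫ p₂ = b := by
    intro T t _ a b ha hb ⟨c, hc₁, hc₂⟩
    simpa [pullback.lift_fst, pullback.lift_snd] using fac t (pullback.lift a b (ha.trans hb.symm)) c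
      (by apply pullback.hom_ext <;> simp [pullback.lift_fst, pullback.lift_snd, hc₁, hc₂])
  -- reflexivity
  obtain ⟨r, r₁, r₂⟩ := hm f (𝟙 Y) (𝟙 Y) (by simp) (by simp)
    ((hK _ _ (gen f)).refl ⟨pullback.fst f η ≫ 𝟙 Y, by simp⟩)
  -- symmetry
  obtain ⟨σ, σ₁, σ₂⟩ := hm (p₁ ≫ f) p₂ p₁ h.symm rfl
    ((hK _ _ (gen (p₁ ≫ f))).symm (x := ⟨pullback.fst (p₁ ≫ f) η ≫ p₁, by simp⟩)
      (y := ⟨pullback.fst (p₁ ≫ f) η ≫ p₂, by simp [h]⟩) ⟨pullback.fst (p₁ ≫ f) η, rfl, rfl⟩)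
  -- transitivity
  haveI : Flat (pullback.fst p₂ p₁ ≫ p₁ ≫ f) := inferInstance
  obtain ⟨τ, τ₁, τ₂⟩ := hm (pullback.fst p₂ p₁ ≫ p₁ ≫ f) (pullback.fst p₂ p₁ ≫ p₁) (pullback.snd p₂ p₁ ≫ p₂)
    (by simp) (by simp only [Category.assoc]; rw [← h, ← pullback.condition_assoc, h])
    ((hK _ _ (gen (pullback.fst p₂ p₁ ≫ p₁ ≫ f))).trans
      (x := ⟨pullback.fst _ η ≫ pullback.fst p₂ p₁ ≫ p₁, by simp⟩)
      (y := ⟨pullback.fst _ η ≫ pullback.fst p₂ p₁ ≫ p₂, by simp [h]⟩)
      (z := ⟨pullback.fst _ η ≫ pullback.snd p₂ p₁ ≫ p₂, by simp only [Category.assoc]; rw [← h, ← pullback.condition_assoc, h]⟩)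
      ⟨pullback.fst _ η ≫ pullback.fst p₂ p₁, by simp, by simp⟩
      ⟨pullback.fst _ η ≫ pullback.snd p₂ p₁, by simp [pullback.condition], by simp⟩)
  intro T t
  refine ⟨fun a => ⟨a.1 ≫ r, by simp [r₁], by simp [r₂]⟩, fun {a b} ⟨c, c₁, c₂⟩ => ⟨c ≫ σ, by simp [σ₁, c₂], by simp [σ₂, c₁]⟩,
    fun {a b d} ⟨c, c₁, c₂⟩ ⟨e, e₁, e₂⟩ => ⟨pullback.lift c e (c₂.trans e₁.symm) ≫ τ, ?_, ?_⟩⟩
  · rw [Category.assoc, τ₁, pullback.lift_fst_assoc, c₁]
  · rw [Category.assoc, τ₂, pullback.lift_snd_assoc, e₂]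

end Groth.Agent.S13044
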