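import Groth.Statements.S13048

import Mathlib.RingTheory.Jacobson.Ring
import Mathlib.RingTheory.Filtration
import Mathlib.FieldTheory.IsAlgClosed.Basic
import Mathlib.Algebra.CharP.Lemmas
import Mathlib.Algebra.CharP.Algebra
import Mathlib.RingTheory.Ideal.Colon

set_option autoImplicit false
universe u
open FrobAlg

namespace Groth.Agent.S13048

/-- Let k be an algebraically closed field of characteristic p > 0 and let A be a reduced finitely
generated commutative k-algebra with connected spectrum (A ≠ 0 and 0, 1 are its only idempotents).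
If x ∈ A is a p^n-th power in A for every n ≥ 0, then x lies in the image of k; that is, ⋂_n A^{p^n}
= k. (The published statement is: for an artinian local ring R of characteristic p and a flat
R-algebra A of finite type, the maps A^ét → O(π₀(A)) → A^{p^∞/R} from the largest étale subalgebra
to the preperfection are isomorphisms. This row is the case R = k algebraically closed and A reduced
with connected spectrum, where A^ét = k and the preperfection is ⋂_n A^{p^n}; the printed proof
reduces to this case and its last step proves it.) -/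
theorem result
    (p : ℕ) [Fact p.Prime] (k : Type u) [Field k] [IsAlgClosed k] [CharP k p]
    (A : Type u) [CommRing A] [Algebra k A] [Algebra.FiniteType k A] [IsReduced A] [Nontrivial A]
    (hconn : ∀ e : A, IsIdempotentElem e → e = 0 ∨ e = 1)
    (x : A) (hx : ∀ n : ℕ, ∃ a : A, a ^ p ^ n = x) :
    x ∈ (algebraMap k A).range := by
  have : IsNoetherianRing A := Algebra.FiniteType.isNoetherianRing k A
  have : CharP A p := charP_of_injective_algebraMap (algebraMap k A).injective p
  have key : ∀ m : Ideal A, m.IsMaximal → ∃ c : k, x - algebraMap k A c ∈ m ∧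
      ∃ s ∉ m, s * (x - algebraMap k A c) = 0 := by
    intro m hm
    let := Ideal.Quotient.field m
    have : Module.Finite k (A ⧸ m) := finite_of_finite_type_of_isJacobsonRing k (A ⧸ m)
    obtain ⟨c, hc⟩ := (IsAlgClosed.algebraMap_bijective_of_isIntegral (k := k) (K := A ⧸ m)).2 (Ideal.Quotient.mk m x)
    have hxm : x - algebraMap k A c ∈ m :=
      (Ideal.Quotient.eq (I := m)).1 (by rw [← Ideal.Quotient.algebraMap_eq, ← IsScalarTower.algebraMap_apply]; exact hc.symm)
    have hpow : ∀ n : ℕ, x - algebraMap k A c ∈ m ^ n := by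
      intro n
      obtain ⟨a, ha⟩ := hx n
      obtain ⟨c', hc'⟩ := IsAlgClosed.exists_pow_nat_eq c (pow_pos (Fact.out : p.Prime).pos n)
      have h1 : x - algebraMap k A c = (a - algebraMap k A c') ^ p ^ n := by
        rw [sub_pow_char_pow, ha, ← map_pow, hc']
      have h2 : a - algebraMap k A c' ∈ m := hm.isPrime.mem_of_pow_mem _ (h1 ▸ hxm)
      rw [h1]
      exact Ideal.pow_le_pow_right (Nat.lt_pow_self (Fact.out : p.Prime).one_lt).le (Ideal.pow_mem_pow h2 _)
    have h3 : x - algebraMap k A c ∈ (⨅ n : ℕ, m ^ n • (⊤ : Submodule A A)) := by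
      simp only [Submodule.mem_iInf, smul_eq_mul, Ideal.mul_top]
      exact hpow
    obtain ⟨r, hr⟩ := (Ideal.mem_iInf_smul_pow_eq_bot_iff m _).1 h3
    refine ⟨c, hxm, 1 - r, fun h => hm.ne_top ((Ideal.eq_top_iff_one _).2 ?_), ?_⟩
    · have := Ideal.add_mem _ h r.2
      rwa [sub_add_cancel] at this
    · rw [sub_mul, one_mul, ← smul_eq_mul, hr, sub_self]
  obtain ⟨m₀, hm₀⟩ := Ideal.exists_maximal A
  obtain ⟨c₀, h₀, -⟩ := key m₀ hm₀
  set z := x - algebraMap k A c₀ with hz
  have htop : (1 : A) ∈ Ideal.span {z} ⊔ Submodule.annihilator (Submodule.span A {z}) := by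
    rw [← Ideal.eq_top_iff_one]
    by_contra hne
    obtain ⟨m, hm, hle⟩ := Ideal.exists_le_maximal _ hne
    obtain ⟨c, hc, s, hs, hs0⟩ := key m hm
    have hzm : z ∈ m := hle (Submodule.mem_sup_left (Ideal.mem_span_singleton_self z))
    have hcc : c = c₀ := by
      by_contra hcc
      have h4 : algebraMap k A (c - c₀) ∈ m := by
        have := Ideal.sub_mem _ hzm hc
        rwa [hz, sub_sub_sub_cancel_left, ← map_sub] at this
      exact hm.ne_top (Ideal.eq_top_of_isUnit_mem _ h4 ((IsUnit.mk0 _ (sub_ne_zero.2 hcc)).map _))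
    subst hcc
    exact hs (hle (Submodule.mem_sup_right ((Submodule.mem_annihilator_span_singleton z s).2 hs0)))
  obtain ⟨u, hu, w, hw, huw⟩ := Submodule.mem_sup.1 htop
  obtain ⟨t, rfl⟩ := Ideal.mem_span_singleton'.1 hu
  have hwz : w * z = 0 := (Submodule.mem_annihilator_span_singleton z w).1 hw
  have he : IsIdempotentElem (t * z) := by
    show t * z * (t * z) = t * z
    linear_combination (t * z) * huw - t * hwz
  rcases hconn _ he with h | h
  · refine ⟨c₀, ?_⟩
    rw [h, zero_add] at huw
    rw [huw, one_mul, hz, sub_eq_zero] at hwz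
    exact hwz.symm
  · exact absurd ((Ideal.eq_top_iff_one _).2 (h ▸ m₀.mul_mem_left t h₀)) hm₀.ne_top

end Groth.Agent.S13048
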