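import Groth.Statements.S13049
-- import your own Groth.Agent.* helpers here

set_option autoImplicit false
universe u
open FrobAlg

namespace Groth.Agent.S13049

/-- Let p be a prime and A a commutative ring of characteristic p whose nilradical N satisfies x^(p^e) =
0 for all x ∈ N and some fixed e (for instance A Noetherian). Then the map between the inverse-limit
perfections along the absolute Frobenius, lim (⋯ → A → A) → lim (⋯ → A/N → A/N), induced by the
projection A → A/N, is bijective. (The published argument takes A of finite type over a field, where
the nilradical is finitely generated; this row assumes only that the nilradical is killed by one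
fixed iterate of Frobenius, which is all that argument uses.) -/
theorem result
    (p : ℕ) [Fact p.Prime] (A : Type u) [CommRing A] [CharP A p]
    [CharP (A ⧸ nilradical A) p] (e : ℕ) (he : ∀ x ∈ nilradical A, x ^ p ^ e = 0) :
    Function.Bijective (Perfection.map p (Ideal.Quotient.mk (nilradical A))) := by
  have key : ∀ (R : Type u) [CommRing R] [CharP R p] (f : Perfection R p) (n k : ℕ),
      Perfection.coeff R p (n + k) f ^ p ^ k = Perfection.coeff R p n f := by
    intro R _ _ f n k
    induction k with
    | zero => simp
    | succ k ih => rw [pow_succ', pow_mul, ← add_assoc, Perfection.coeff_pow_p' f (n + k), ih]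
  constructor
  · intro x y h
    refine Perfection.ext fun n => ?_
    have h1 : Perfection.coeff A p (n + e) x - Perfection.coeff A p (n + e) y ∈ nilradical A := by
      rw [← Ideal.Quotient.eq, ← Perfection.coeff_map, ← Perfection.coeff_map, h]
    have h2 := he _ h1
    rw [sub_pow_expChar_pow, key, key] at h2
    exact sub_eq_zero.1 h2
  · intro a
    choose r hr using fun n => Ideal.Quotient.mk_surjective (Perfection.coeff (A ⧸ nilradical A) p (n + e) a)
    refine ⟨⟨fun n => r n ^ p ^ e, fun n => ?_⟩, Perfection.ext fun n => ?_⟩
    · have h1 : r (n + 1) ^ p - r n ∈ nilradical A := by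
        rw [← Ideal.Quotient.eq, map_pow, hr, hr, add_right_comm, Perfection.coeff_pow_p']
      have h2 := he _ h1
      rw [sub_pow_expChar_pow, sub_eq_zero] at h2
      show (r (n + 1) ^ p ^ e) ^ p = r n ^ p ^ e
      rw [← h2, ← pow_mul, ← pow_mul, mul_comm]
    · rw [Perfection.coeff_map, Perfection.coeff_mk, map_pow, hr, key]

end Groth.Agent.S13049
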