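import Groth.Statements.S13051
import Groth.Agent.Lib.Zeta.ZetaFun

set_option autoImplicit false
universe u
open CategoryTheory AlgebraicGeometry
open Zeta

namespace Groth.Agent.S13051

/-- For a scheme X of finite type over a finite field k, Z(X, t) = ∏ over the closed points x of (1 −
t^{deg x})^{−1}, that is ∏_{r ≥ 1} (1 − t^r)^{−a_r} with a_r the number of closed points of residue
degree r; equivalently, for every n the product Z(X, t) · ∏_{r = 1}^{n} (1 − t^r)^{a_r} is ≡ 1
modulo t^{n+1}. In particular Z(X, t) has integer coefficients. (Stated for any scheme of finite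
type over k; reducedness plays no role.) -/
theorem result {k : Type u} [Field k] [Finite k] {X : Scheme.{u}}
    (f : X ⟶ Spec (CommRingCat.of k)) [LocallyOfFiniteType f] [QuasiCompact f] :
    (∀ n : ℕ, PowerSeries.trunc (n + 1)
        (Zeta.zetaFun f * ∏ r ∈ Finset.Icc 1 n, (1 - PowerSeries.X ^ r) ^ Zeta.degCount f r) = 1) ∧
      ∀ n : ℕ, ∃ z : ℤ, PowerSeries.coeff n (Zeta.zetaFun f) = (z : ℚ) := by
  refine ⟨fun n => ?_, fun n => Groth.Agent.Lib.Zeta.ZetaFun.exists_int_coeff f n⟩
  have hmap : PowerSeries.map (Int.castRingHom ℚ) (Groth.Agent.Lib.Zeta.ZetaFun.eulerDenom f n) =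
      ∏ r ∈ Finset.Icc 1 n, (1 - PowerSeries.X ^ r) ^ Zeta.degCount f r := by
    rw [Groth.Agent.Lib.Zeta.ZetaFun.eulerDenom, map_prod]
    exact Finset.prod_congr rfl fun r _ => by simp
  ext m
  rw [PowerSeries.coeff_trunc, Polynomial.coeff_one, ← hmap]
  rcases lt_or_ge m (n + 1) with h | h
  · rw [if_pos h, Groth.Agent.Lib.Zeta.ZetaFun.coeff_zetaFun_mul_eulerDenom f (by omega)]
  · rw [if_neg (by omega), if_neg (by omega)]

end Groth.Agent.S13051
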