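import Groth.Statements.S13052
import Groth.Agent.Lib.Zeta.ZetaFun

set_option autoImplicit false
universe u
open CategoryTheory AlgebraicGeometry
open Zeta

namespace Groth.Agent.S13052

/-- If X is a scheme of finite type over a finite field k, Y ↪ X a closed subscheme and U = X ∖ Y its
open complement, then Z(X, t) = Z(Y, t) · Z(U, t). Here Y is any scheme with a closed immersion into
X whose image is the complement of U (its scheme structure plays no role), and Y, U are k-schemes
through X. -/
theorem result {k : Type u} [Field k] [Finite k]
    {X Y : Scheme.{u}} (f : X ⟶ Spec (CommRingCat.of k)) [LocallyOfFiniteType f] [QuasiCompact f]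
    (U : X.Opens) (i : Y ⟶ X) [IsClosedImmersion i] (hY : Set.range i.base = (U : Set X)ᶜ) :
    Zeta.zetaFun f = Zeta.zetaFun (i ≫ f) * Zeta.zetaFun (U.ι ≫ f) := by
  classical
  let Ys : Bool → Scheme.{u} := fun b => cond b Y (U : Scheme.{u})
  let g : ∀ b, Ys b ⟶ X := fun b => Bool.rec (motive := fun b => Ys b ⟶ X) U.ι i b
  have hg : ∀ b, IsImmersion (g b) := fun b => by cases b <;> dsimp [g, Ys] <;> infer_instance
  rw [@Groth.Agent.Lib.Zeta.ZetaFun.zetaFun_partition k _ X f _ _ _ Bool _ Ys g hg]
  · rw [Fintype.prod_bool]
  · intro x _
    by_cases hx : x ∈ U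
    · refine ⟨false, by simpa [g, Ys] using hx, fun b hb => ?_⟩
      cases b with
      | false => rfl
      | true =>
        have : x ∈ Set.range i.base := hb
        rw [hY] at this
        exact absurd hx this
    · refine ⟨true, ?_, fun b hb => ?_⟩
      · show x ∈ Set.range i.base
        rw [hY]
        exact hx
      · cases b with
        | true => rfl
        | false => exact absurd (by simpa [g, Ys] using hb) hx

end Groth.Agent.S13052
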