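import Groth.Statements.S13055
import Groth.Agent.Lib.Zeta.ZetaFun
import Mathlib.Tactic.FieldSimp
import Mathlib.Tactic.LinearCombination

set_option autoImplicit false
universe u
open CategoryTheory AlgebraicGeometry
open Zeta

namespace Groth.Agent.S13055

/-- Let X be a scheme of finite type over a finite field k with q elements and P = a_d y^d + ⋯ + a_0 ∈
ℤ[y] with N_m = P(q^m) for every m ≥ 1 (X is of polynomial count). Then Z(X, t) = ∏_{i = 0}^{d} (1 −
q^i t)^{−a_i}; stated cleared of denominators, with the factors of positive exponent moved to the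
left. -/
theorem result {k : Type u} [Field k] [Finite k] {X : Scheme.{u}}
    (f : X ⟶ Spec (CommRingCat.of k)) [LocallyOfFiniteType f] [QuasiCompact f] (P : Polynomial ℤ)
    (hP : ∀ m : ℕ, 1 ≤ m → (Zeta.nPts f m : ℤ) = P.eval ((Nat.card k : ℤ) ^ m)) :
    Zeta.zetaFun f * ∏ i ∈ Finset.range (P.natDegree + 1),
        (1 - PowerSeries.C ((Nat.card k : ℚ) ^ i) * PowerSeries.X) ^ (P.coeff i).toNat =
      ∏ i ∈ Finset.range (P.natDegree + 1),
        (1 - PowerSeries.C ((Nat.card k : ℚ) ^ i) * PowerSeries.X) ^ (-P.coeff i).toNat := by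
  classical
  set q : ℚ := (Nat.card k : ℚ) with hq
  let D : ℕ → PowerSeries ℚ := fun i => 1 - PowerSeries.C (q ^ i) * PowerSeries.X
  let G : ℕ → PowerSeries ℚ := fun i => Groth.Agent.Lib.Zeta.ExpSeries.geomLog (q ^ i) 1
  let s := Finset.range (P.natDegree + 1)
  have hG : ∀ i, Groth.Agent.Lib.Zeta.ExpSeries.expS (G i) * D i = 1 := fun i => by
    have := Groth.Agent.Lib.Zeta.ExpSeries.expS_geomLog_mul (q ^ i) (r := 1) one_ne_zero
    simpa [G, D] using this
  have hG0 : ∀ i, PowerSeries.constantCoeff (G i) = 0 := fun i =>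
    Groth.Agent.Lib.Zeta.ExpSeries.constantCoeff_geomLog _ _
  have hlog : Zeta.logZeta f + ∑ i ∈ s, (-P.coeff i).toNat • G i =
      ∑ i ∈ s, (P.coeff i).toNat • G i := by
    ext m
    simp only [map_add, map_sum, map_nsmul]
    simp only [Zeta.logZeta, PowerSeries.coeff_mk, G,
      Groth.Agent.Lib.Zeta.ExpSeries.geomLog, one_dvd, if_true, Nat.div_one, nsmul_eq_mul,
      Nat.cast_one, Algebra.algebraMap_self_apply]
    rcases Nat.eq_zero_or_pos m with rfl | hm
    · simp [Zeta.nPts]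
    rw [← eq_sub_iff_add_eq, ← Finset.sum_sub_distrib]
    have h1 : (Zeta.nPts f m : ℚ) = ∑ i ∈ s, (P.coeff i : ℚ) * (q ^ m) ^ i := by
      have h := congrArg (fun z : ℤ => (z : ℚ)) (hP m hm)
      simp only [Int.cast_natCast] at h
      rw [h, Polynomial.eval_eq_sum_range]
      push_cast
      rfl
    rw [h1, Finset.sum_div]
    refine Finset.sum_congr rfl fun i _ => ?_
    have h2 : ((P.coeff i).toNat : ℚ) - ((-P.coeff i).toNat : ℚ) = (P.coeff i : ℚ) := by
      have := Int.toNat_sub_toNat_neg (P.coeff i)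
      exact_mod_cast this
    rw [← sub_mul, h2, ← pow_mul, ← pow_mul, mul_comm m i]
    field_simp
  have hexp := congrArg Groth.Agent.Lib.Zeta.ExpSeries.expS hlog
  rw [Groth.Agent.Lib.Zeta.ExpSeries.expS_add
      (Groth.Agent.Lib.Zeta.ZetaFun.constantCoeff_logZeta f)
      (by simp [map_sum, hG0]),
    Groth.Agent.Lib.Zeta.ExpSeries.expS_sum _ _ (fun i _ => by simp [hG0]),
    Groth.Agent.Lib.Zeta.ExpSeries.expS_sum _ _ (fun i _ => by simp [hG0])] at hexp
  simp only [Groth.Agent.Lib.Zeta.ExpSeries.expS_nsmul (hG0 _)] at hexp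
  rw [← Groth.Agent.Lib.Zeta.ZetaFun.zetaFun_eq] at hexp
  have h := congrArg (fun z => z * (∏ i ∈ s, D i ^ (P.coeff i).toNat) *
    (∏ i ∈ s, D i ^ (-P.coeff i).toNat)) hexp
  calc Zeta.zetaFun f * ∏ i ∈ s, D i ^ (P.coeff i).toNat
      = Zeta.zetaFun f * (∏ i ∈ s, D i ^ (P.coeff i).toNat) *
          ∏ i ∈ s, (Groth.Agent.Lib.Zeta.ExpSeries.expS (G i) * D i) ^ (-P.coeff i).toNat := by
        simp [hG]
    _ = (∏ i ∈ s, (Groth.Agent.Lib.Zeta.ExpSeries.expS (G i) * D i) ^ (P.coeff i).toNat) *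
          ∏ i ∈ s, D i ^ (-P.coeff i).toNat := by
        simp only [mul_pow, Finset.prod_mul_distrib]
        linear_combination h
    _ = _ := by simp only [hG, one_pow, Finset.prod_const_one, one_mul]; rfl

end Groth.Agent.S13055
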