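import Groth.Statements.S13053
import Groth.Agent.S13055
import Groth.Agent.Lib.Zeta45.ProjPoints

set_option autoImplicit false
universe u
open CategoryTheory AlgebraicGeometry
open Zeta

namespace Groth.Agent.S13053

/-- For a finite field k with q elements, Z(P^n_k, t) = 1 / ((1 − t)(1 − qt) ⋯ (1 − q^n t)); stated as
Z(P^n_k, t) · ∏_{i = 0}^{n} (1 − q^i t) = 1 in ℚ⟦t⟧. -/
theorem result (k : Type u) [Field k] [Finite k] (n : ℕ) :
    Zeta.zetaFun (CohB1.ProjSpace.toSpec n k) *
        ∏ i ∈ Finset.range (n + 1), (1 - PowerSeries.C ((Nat.card k : ℚ) ^ i) * PowerSeries.X) = 1 := by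
  let P : Polynomial ℤ := ∑ i ∈ Finset.range (n + 1), Polynomial.X ^ i
  have hc : ∀ i, P.coeff i = if i < n + 1 then 1 else 0 := fun i => by
    simp [P, Polynomial.finsetSum_coeff, Polynomial.coeff_X_pow]
  have hdeg : P.natDegree = n := by
    refine Polynomial.natDegree_eq_of_le_of_coeff_ne_zero ?_ (by simp [hc])
    refine Polynomial.natDegree_sum_le_of_forall_le _ _ fun i hi => ?_
    rw [Polynomial.natDegree_X_pow]
    have := Finset.mem_range.1 hi
    omega
  have h := Groth.Agent.S13055.result (CohB1.ProjSpace.toSpec n k) P fun m hm => by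
    rw [Groth.Agent.Lib.Zeta.Ext.nPts_eq_of_points (CohB1.ProjSpace.toSpec n k) (m := m)
      (c := ∑ i ∈ Finset.range (n + 1), (Nat.card k ^ m) ^ i) ?_ (by omega)]
    · simp [P, Polynomial.eval_finsetSum]
    intro K _ _ _ hK
    rw [Groth.Agent.Lib.Zeta45.ProjPoints.pointCount_projSpace n k K,
      Module.natCard_eq_pow_finrank (K := k) (V := K), hK]
  rw [hdeg] at h
  have h1 : ∀ i ∈ Finset.range (n + 1), P.coeff i = 1 := fun i hi => by
    rw [hc, if_pos (Finset.mem_range.1 hi)]
  refine Eq.trans ?_ (h.trans ?_)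
  · exact congrArg _ (Finset.prod_congr rfl fun i hi => by rw [h1 i hi]; simp)
  · exact Finset.prod_eq_one fun i hi => by rw [h1 i hi]; simp

end Groth.Agent.S13053
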