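import Groth.Statements.S13054
import Groth.Agent.Lib.Zeta.Ext
import Groth.Agent.Lib.Zeta.Rescale
import Groth.Agent.Lib.Zeta.ZetaFun
import Mathlib.RingTheory.RootsOfUnity.PrimitiveRoots
import Mathlib.RingTheory.PowerSeries.Substitution
import Mathlib.Analysis.Complex.Basic
import Mathlib.Algebra.Field.GeomSum

set_option autoImplicit false
universe u
open CategoryTheory AlgebraicGeometry Limits
open Zeta

namespace Groth.Agent.S13054

/-- The rational points of the base change. -/
theorem nPts_baseChange {k : Type u} [Field k] [Finite k]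
    {X : Scheme.{u}} (f : X ⟶ Spec (CommRingCat.of k)) [LocallyOfFiniteType f] [QuasiCompact f]
    (k' : Type u) [Field k'] [Algebra k k'] [Finite k'] (m : ℕ) (hm : m ≠ 0) :
    Zeta.nPts (pullback.snd f (Spec.map (CommRingCat.ofHom (algebraMap k k')))) m =
      Zeta.nPts f (Module.finrank k k' * m) := by
  refine Groth.Agent.Lib.Zeta.Ext.nPts_eq_of_points _ (fun K _ _ _ hK => ?_) hm
  letI : Algebra k K := ((algebraMap k' K).comp (algebraMap k k')).toAlgebra
  haveI : IsScalarTower k k' K := IsScalarTower.of_algebraMap_eq fun _ => rfl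
  rw [← hK, Module.finrank_mul_finrank k k' K, ← Groth.Agent.Lib.Zeta.Points.pointCount_eq_nPts f K,
    SgaExt.pointCount, SgaExt.pointCount]
  have hcomp : Spec.map (CommRingCat.ofHom (algebraMap k K)) =
      Spec.map (CommRingCat.ofHom (algebraMap k' K)) ≫ Spec.map (CommRingCat.ofHom (algebraMap k k')) := by
    rw [← Spec.map_comp, ← CommRingCat.ofHom_comp]
  exact Nat.card_congr
    { toFun := fun g => ⟨g.1 ≫ pullback.fst _ _, by
        rw [Category.assoc, pullback.condition, ← Category.assoc, g.2, ← hcomp]⟩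
      invFun := fun h => ⟨pullback.lift h.1 (Spec.map (CommRingCat.ofHom (algebraMap k' K)))
        (by rw [h.2, hcomp]), pullback.lift_snd _ _ _⟩
      left_inv := fun g => Subtype.ext <| pullback.hom_ext (pullback.lift_fst _ _ _) ((pullback.lift_snd _ _ _).trans g.2.symm)
      right_inv := fun h => Subtype.ext <| pullback.lift_fst _ _ _ }

/-- Let X be a scheme of finite type over a finite field k, k'/k a finite extension of degree r and X' =
X ×_{Spec k} Spec k', a k'-scheme. Then Z(X', t^r) = ∏_{i = 1}^{r} Z(X, ξ^i t) for ξ a primitive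
r-th root of unity; stated in ℂ⟦t⟧ with the product over the exponents 0, …, r − 1. (Reducedness of
X plays no role.) -/
theorem result {k : Type u} [Field k] [Finite k]
    {X : Scheme.{u}} (f : X ⟶ Spec (CommRingCat.of k)) [LocallyOfFiniteType f] [QuasiCompact f]
    (k' : Type u) [Field k'] [Algebra k k'] [Finite k'] (ξ : ℂ)
    (hξ : IsPrimitiveRoot ξ (Module.finrank k k')) :
    PowerSeries.subst ((PowerSeries.X : PowerSeries ℂ) ^ Module.finrank k k')
        (PowerSeries.map (algebraMap ℚ ℂ) (Zeta.zetaFun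
          (pullback.snd f (Spec.map (CommRingCat.ofHom (algebraMap k k')))))) =
      ∏ i ∈ Finset.range (Module.finrank k k'),
        PowerSeries.rescale (ξ ^ i) (PowerSeries.map (algebraMap ℚ ℂ) (Zeta.zetaFun f)) := by
  classical
  set r := Module.finrank k k' with hr
  have hr0 : r ≠ 0 := Module.finrank_pos.ne'
  set f' := pullback.snd f (Spec.map (CommRingCat.ofHom (algebraMap k k'))) with hf'
  set g := PowerSeries.map (algebraMap ℚ ℂ) (Zeta.logZeta f) with hg
  set g' := PowerSeries.map (algebraMap ℚ ℂ) (Zeta.logZeta f') with hg'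
  have h0 : PowerSeries.constantCoeff g = 0 := by
    rw [hg, ← PowerSeries.coeff_zero_eq_constantCoeff_apply, PowerSeries.coeff_map,
      PowerSeries.coeff_zero_eq_constantCoeff_apply,
      Groth.Agent.Lib.Zeta.ZetaFun.constantCoeff_logZeta, map_zero]
  have h0' : PowerSeries.constantCoeff g' = 0 := by
    rw [hg', ← PowerSeries.coeff_zero_eq_constantCoeff_apply, PowerSeries.coeff_map,
      PowerSeries.coeff_zero_eq_constantCoeff_apply,
      Groth.Agent.Lib.Zeta.ZetaFun.constantCoeff_logZeta, map_zero]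
  rw [Groth.Agent.Lib.Zeta.ZetaFun.zetaFun_eq, Groth.Agent.Lib.Zeta.ZetaFun.zetaFun_eq,
    Groth.Agent.Lib.Zeta.ExpSeries.map_expS _ (Groth.Agent.Lib.Zeta.ZetaFun.constantCoeff_logZeta f'),
    Groth.Agent.Lib.Zeta.ExpSeries.map_expS _ (Groth.Agent.Lib.Zeta.ZetaFun.constantCoeff_logZeta f),
    ← hg, ← hg']
  simp only [← Groth.Agent.Lib.Zeta.ExpSeries.coe_rescale_expS _ h0]
  rw [← Groth.Agent.Lib.Zeta.ExpSeries.expS_sum _ _ (fun i _ => by
    rw [← PowerSeries.coeff_zero_eq_constantCoeff_apply, PowerSeries.coeff_rescale, pow_zero, one_mul,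
      PowerSeries.coeff_zero_eq_constantCoeff_apply, h0])]
  unfold Groth.Agent.Lib.Zeta.ExpSeries.expS
  rw [PowerSeries.subst_comp_subst_apply (PowerSeries.HasSubst.of_constantCoeff_zero' h0')
    (PowerSeries.HasSubst.X_pow hr0)]
  congr 1
  ext j
  rw [PowerSeries.coeff_subst_X_pow hr0, map_sum]
  simp only [PowerSeries.coeff_rescale, ← Finset.sum_mul]
  by_cases hj : r ∣ j
  · obtain ⟨m, rfl⟩ := hj
    rw [if_pos (dvd_mul_right _ _), Nat.mul_div_cancel_left _ (Nat.pos_of_ne_zero hr0)]
    have hsum : ∑ i ∈ Finset.range r, (ξ ^ i) ^ (r * m) = (r : ℂ) := by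
      simp [← pow_mul, mul_comm _ (r * m), mul_assoc, pow_mul ξ r, hξ.pow_eq_one]
    rw [hsum, hg, hg', PowerSeries.coeff_map, PowerSeries.coeff_map, Zeta.logZeta, Zeta.logZeta,
      PowerSeries.coeff_mk, PowerSeries.coeff_mk]
    rcases eq_or_ne m 0 with rfl | hm
    · simp [Zeta.nPts]
    rw [hf', nPts_baseChange f k' m hm, ← hr]
    simp only [map_div₀, map_natCast, Nat.cast_mul, Algebra.algebraMap_self,
      RingHom.id_apply]
    have hm' : (m : ℂ) ≠ 0 := Nat.cast_ne_zero.2 hm
    have hr' : (r : ℂ) ≠ 0 := Nat.cast_ne_zero.2 hr0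
    field_simp
    simp only [map_mul, map_natCast]
    ring
  · rw [if_neg hj]
    have hne : ξ ^ j ≠ 1 := fun h => hj ((hξ.pow_eq_one_iff_dvd j).1 h)
    have hsum : ∑ i ∈ Finset.range r, (ξ ^ i) ^ j = 0 := by
      simp only [← pow_mul, mul_comm _ j]
      simp only [pow_mul]
      rw [geom_sum_eq hne, ← pow_mul, mul_comm, pow_mul, hξ.pow_eq_one, one_pow, sub_self, zero_div]
    rw [hsum, zero_mul]

end Groth.Agent.S13054
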