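import Groth.Statements.S13057
import Mathlib.LinearAlgebra.Dual.Lemmas
import Mathlib.LinearAlgebra.StdBasis
import Mathlib.RingTheory.PowerSeries.Trunc

set_option autoImplicit false
universe u
open Zeta

namespace Groth.Agent.S13057

/-- A power series f = ∑_{m ≥ 0} a_m t^m over a field L lies in L(t), i.e. f · Q = P for some
polynomials P, Q with Q ≠ 0, if and only if there are natural numbers M, N such that the vectors
(a_i, a_{i+1}, …, a_{i+N}) ∈ L^{N+1}, i ≥ M, span a proper subspace. -/
theorem result {L : Type u} [Field L]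
    (f : PowerSeries L) :
    (∃ P Q : Polynomial L, Q ≠ 0 ∧ f * (Q : PowerSeries L) = (P : PowerSeries L)) ↔
      ∃ M N : ℕ, Submodule.span L
          {v : Fin (N + 1) → L | ∃ i : ℕ, M ≤ i ∧ v = fun j : Fin (N + 1) => PowerSeries.coeff (i + (j : ℕ)) f} ≠ ⊤ := by
  classical
  constructor
  · rintro ⟨P, Q, hQ, h⟩
    refine ⟨P.natDegree + 1, Q.natDegree, ?_⟩
    set N := Q.natDegree
    let φ : (Fin (N + 1) → L) →ₗ[L] L := ∑ j : Fin (N + 1), Q.coeff (N - (j : ℕ)) • LinearMap.proj j
    intro htop
    have hker : Submodule.span L {v : Fin (N + 1) → L | ∃ i : ℕ, P.natDegree + 1 ≤ i ∧ v = fun j : Fin (N + 1) => PowerSeries.coeff (i + (j : ℕ)) f} ≤ LinearMap.ker φ := by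
      rw [Submodule.span_le]
      rintro v ⟨i, hi, rfl⟩
      have h0 := congrArg (PowerSeries.coeff (i + N)) h
      rw [mul_comm, PowerSeries.coeff_mul, Finset.Nat.sum_antidiagonal_eq_sum_range_succ_mk, Polynomial.coeff_coe,
        Polynomial.coeff_eq_zero_of_natDegree_lt (show P.natDegree < i + N by omega)] at h0
      rw [SetLike.mem_coe, LinearMap.mem_ker]
      simp only [φ, LinearMap.coe_sum, Finset.sum_apply, LinearMap.smul_apply, LinearMap.proj_apply, smul_eq_mul]
      rw [Fin.sum_univ_eq_sum_range (fun j => Q.coeff (N - j) * PowerSeries.coeff (i + j) f), ← Finset.sum_range_reflect]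
      rw [← Finset.sum_subset (Finset.range_mono (show N + 1 ≤ i + N + 1 by omega))] at h0
      · refine Eq.trans (Finset.sum_congr rfl fun b hb => ?_) h0
        have := Finset.mem_range.1 hb
        rw [Polynomial.coeff_coe, show N - (N + 1 - 1 - b) = b by omega, show i + (N + 1 - 1 - b) = i + N - b by omega]
      · intro b _ hb
        rw [Polynomial.coeff_coe, Polynomial.coeff_eq_zero_of_natDegree_lt (by simp at hb; omega), zero_mul]
    rw [htop, top_le_iff] at hker
    have := LinearMap.congr_fun (LinearMap.ker_eq_top.1 hker) (Pi.single 0 1)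
    simp [φ, Pi.single_apply] at this
    exact hQ (Polynomial.leadingCoeff_eq_zero.1 this)
  · rintro ⟨M, N, hne⟩
    obtain ⟨φ, hφ0, hφ⟩ := Submodule.exists_le_ker_of_lt_top _ (lt_top_iff_ne_top.2 hne)
    let c : Fin (N + 1) → L := fun j => φ (Pi.single j 1)
    let Q : Polynomial L := ∑ j : Fin (N + 1), Polynomial.C (c j) * Polynomial.X ^ (N - (j : ℕ))
    refine ⟨PowerSeries.trunc (M + N) (f * (Q : PowerSeries L)), Q, ?_, ?_⟩
    · intro h0
      apply hφ0
      apply (Pi.basisFun L (Fin (N + 1))).ext
      intro j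
      have := congrArg (fun p => Polynomial.coeff p (N - (j : ℕ))) h0
      simp only [Q, Polynomial.finsetSum_coeff, Polynomial.coeff_C_mul_X_pow, Polynomial.coeff_zero] at this
      rw [Finset.sum_eq_single j (fun b _ hb => if_neg (by intro h; apply hb; ext; omega)) (by simp)] at this
      simpa [c, Pi.basisFun_apply] using this
    · ext n
      rw [Polynomial.coeff_coe, PowerSeries.coeff_trunc]
      split_ifs with hn
      · rfl
      · push Not at hn
        have key := hφ (Submodule.subset_span ⟨n - N, by omega, rfl⟩)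
        rw [LinearMap.mem_ker, LinearMap.pi_apply_eq_sum_univ φ] at key
        rw [← key, mul_comm, ← Polynomial.coeToPowerSeries.ringHom_apply, map_sum, Finset.sum_mul, map_sum]
        refine Finset.sum_congr rfl fun j _ => ?_
        rw [Polynomial.coeToPowerSeries.ringHom_apply, Polynomial.coe_mul, Polynomial.coe_C, Polynomial.coe_pow, Polynomial.coe_X,
          mul_assoc, PowerSeries.coeff_C_mul, PowerSeries.coeff_X_pow_mul', if_pos (by omega), smul_eq_mul, mul_comm]
        rw [show n - (N - (j : ℕ)) = n - N + (j : ℕ) by omega]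
        simp only [c]
        congr 2
        ext a
        simp [Pi.single_apply, eq_comm]

end Groth.Agent.S13057
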