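import Groth.Statements.S13058
import Mathlib.LinearAlgebra.Dual.Lemmas

set_option autoImplicit false
universe u v
open Zeta

namespace Groth.Agent.S13058

/-- If L'/L is a field extension, a power series f ∈ L⟦t⟧ belongs to L(t) exactly when it belongs to
L'(t); here membership in L(t) means f · Q = P for polynomials P, Q over the field in question with
Q ≠ 0. -/
theorem result {L : Type u} {L' : Type v} [Field L] [Field L']
    [Algebra L L'] (f : PowerSeries L) :
    (∃ P Q : Polynomial L', Q ≠ 0 ∧
        PowerSeries.map (algebraMap L L') f * (Q : PowerSeries L') = (P : PowerSeries L')) ↔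
      ∃ P Q : Polynomial L, Q ≠ 0 ∧ f * (Q : PowerSeries L) = (P : PowerSeries L) := by
  classical
  constructor
  · rintro ⟨P, Q, hQ, h⟩
    obtain ⟨i, hi⟩ : ∃ i, Q.coeff i ≠ 0 := by
      by_contra h0; push Not at h0; exact hQ (Polynomial.ext (by simpa using h0))
    obtain ⟨φ, hφ⟩ := Module.Projective.exists_dual_ne_zero L hi
    let tr : Polynomial L' → Polynomial L := fun p => ∑ n ∈ p.support, Polynomial.monomial n (φ (p.coeff n))
    have htr : ∀ p n, (tr p).coeff n = φ (p.coeff n) := by
      intro p n
      simp only [tr, Polynomial.finsetSum_coeff, Polynomial.coeff_monomial, Finset.sum_ite_eq', Polynomial.mem_support_iff]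
      split_ifs with h1
      · rfl
      · push Not at h1; rw [h1, map_zero]
    refine ⟨tr P, tr Q, fun h0 => hφ ?_, ?_⟩
    · rw [← htr, h0, Polynomial.coeff_zero]
    · ext n
      rw [Polynomial.coeff_coe, htr, ← Polynomial.coeff_coe, ← h, PowerSeries.coeff_mul, PowerSeries.coeff_mul, map_sum]
      refine Finset.sum_congr rfl fun ab _ => ?_
      rw [PowerSeries.coeff_map, Polynomial.coeff_coe, Polynomial.coeff_coe, htr, ← Algebra.smul_def, map_smul, smul_eq_mul]
  · rintro ⟨P, Q, hQ, h⟩
    refine ⟨P.map (algebraMap L L'), Q.map (algebraMap L L'), (Polynomial.map_ne_zero_iff (algebraMap L L').injective).2 hQ, ?_⟩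
    rw [Polynomial.polynomial_map_coe, Polynomial.polynomial_map_coe, ← map_mul, h]

end Groth.Agent.S13058
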