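import Groth.Statements.S13059
import Mathlib.LinearAlgebra.Matrix.Charpoly.Coeff
import Mathlib.LinearAlgebra.Charpoly.ToMatrix
import Mathlib.LinearAlgebra.Matrix.SesquilinearForm
import Mathlib.LinearAlgebra.Dual.Lemmas
import Mathlib.LinearAlgebra.Determinant
import Mathlib.Tactic.Ring

set_option autoImplicit false
universe u
open Zeta

namespace Groth.Agent.S13059

/-- Let B : V × W → K be a perfect pairing of finite-dimensional vector spaces over a field K, c ∈ K
nonzero, and f, g endomorphisms of V, W with B(f v, g w) = c · B(v, w) for all v, w. Then det(Id − t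
g) = (−1)^r c^r t^r det(f)^{−1} det(Id − c^{−1} t^{−1} f) with r the common dimension; stated
cleared of denominators as det(f) · det(Id − t g) = (−1)^r c^r · det(t Id − c^{−1} f) in K[t],
det(Id − t g) being the reverse of the characteristic polynomial of g. -/
theorem result (K : Type u) [Field K] (V W : Type u)
    [AddCommGroup V] [Module K V] [FiniteDimensional K V] [AddCommGroup W] [Module K W]
    [FiniteDimensional K W] (B : V →ₗ[K] W →ₗ[K] K) [B.IsPerfPair] (f : V →ₗ[K] V) (g : W →ₗ[K] W)
    (c : K) (hc : c ≠ 0) (hfg : ∀ (v : V) (w : W), B (f v) (g w) = c * B v w) :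
    LinearMap.det f • (LinearMap.charpoly g).reverse =
      ((-1) ^ Module.finrank K W * c ^ Module.finrank K W) • (c⁻¹ • f).charpoly := by
  classical
  let v := Module.finBasis K V
  let w : Module.Basis (Fin (Module.finrank K V)) K W := v.dualBasis.map B.flip.toPerfPair.symm
  have hB : LinearMap.toMatrix₂ v w B = 1 := by
    ext i j
    simp [w, LinearMap.toMatrix₂_apply, Matrix.one_apply, Finsupp.single_apply, eq_comm]
  have hn : Module.finrank K W = Module.finrank K V := by
    rw [Module.finrank_eq_card_basis w, Fintype.card_fin]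
  set F := LinearMap.toMatrix v v f with hF
  set G := LinearMap.toMatrix w w g with hG
  have hFG : Matrix.transpose F * G = c • (1 : Matrix (Fin (Module.finrank K V)) (Fin (Module.finrank K V)) K) := by
    have h1 := LinearMap.toMatrix₂_compl₁₂ v w v w B f g
    rw [hB, Matrix.mul_one] at h1
    rw [← h1, show B.compl₁₂ f g = c • B by ext x y; simp [hfg], map_smul, hB]
  rw [← LinearMap.det_toMatrix v f, ← LinearMap.charpoly_toMatrix g w, ← LinearMap.charpoly_toMatrix (c⁻¹ • f) v, map_smul,
    ← hF, ← hG, Matrix.reverse_charpoly, hn, ← Matrix.det_transpose F, ← Matrix.charpoly_transpose (c⁻¹ • F),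
    Matrix.transpose_smul, Polynomial.smul_eq_C_mul, Polynomial.smul_eq_C_mul]
  set Ft := Matrix.transpose F
  have hrhs : Polynomial.C ((-1) ^ Module.finrank K V * c ^ Module.finrank K V) * (c⁻¹ • Ft).charpoly =
      Matrix.det ((Polynomial.C (-c)) • Matrix.charmatrix (c⁻¹ • Ft)) := by
    rw [Matrix.det_smul, Fintype.card_fin, ← map_pow, neg_pow]
    simp [Matrix.charpoly]
    left
    exact (neg_pow _ _).symm
  rw [hrhs, show Polynomial.C Ft.det = Matrix.det (Ft.map Polynomial.C) from (RingHom.map_det Polynomial.C Ft), Matrix.charpolyRev, ← Matrix.det_mul]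
  congr 1
  rw [Matrix.mul_sub, Matrix.mul_one, Matrix.mul_smul, ← Matrix.map_mul, hFG]
  ext i j
  by_cases hij : i = j
  · subst hij
    simp only [Matrix.smul_apply, Matrix.sub_apply, Matrix.map_apply, Matrix.charmatrix_apply, Matrix.diagonal_apply, Matrix.one_apply, if_true, smul_eq_mul, mul_one, map_neg, map_mul, neg_mul]
    rw [mul_sub, ← mul_assoc, ← map_mul, mul_inv_cancel₀ hc, map_one, one_mul]
    ring
  · simp [Matrix.charmatrix_apply, hij, ← mul_assoc, ← map_mul, mul_inv_cancel₀ hc]

end Groth.Agent.S13059
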