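import Groth.Statements.S13060


set_option autoImplicit false
universe u v w x
open TensorProduct
open Zeta

namespace Groth.Agent.S13060

open scoped TensorProduct

/-- Let k be a field, V and W vector spaces over k and G a group acting on V by k-linear automorphisms;
for the induced action on V ⊗_k W (trivial on W) one has (V ⊗_k W)^G = V^G ⊗_k W, i.e. the
invariants of V ⊗ W are the image of V^G ⊗ W → V ⊗ W. -/
theorem result {k : Type u} [Field k] {G : Type v} [Group G]
    {V : Type w} {W : Type x} [AddCommGroup V] [Module k V] [AddCommGroup W] [Module k W]
    (ρ : Representation k G V) :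
    (ρ.tprod (Representation.trivial k G W)).invariants =
      LinearMap.range (TensorProduct.map ρ.invariants.subtype (LinearMap.id : W →ₗ[k] W)) := by
  refine le_antisymm (fun x hx => ?_) ?_
  · let b := Module.Basis.ofVectorSpace k W
    obtain ⟨c, rfl⟩ := TensorProduct.eq_repr_basis_right b x
    have hc : ∀ i, c i ∈ ρ.invariants := by
      intro i
      rw [Representation.mem_invariants]
      intro g
      have h := hx g
      simp only [Representation.tprod_apply, map_finsuppSum, TensorProduct.map_tmul,
        Representation.trivial_apply] at h
      classical
      have := congrArg (fun t => TensorProduct.equivFinsuppOfBasisRight b t i) h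
      simp [map_finsuppSum, Finsupp.finsetSum_apply, Finsupp.sum, Finsupp.single_apply,
        Finset.sum_ite_eq'] at this
      by_cases h0 : c i = 0
      · simp [h0]
      · simpa [h0] using this
    rw [Finsupp.sum]
    refine Submodule.sum_mem _ fun i _ => ?_
    exact ⟨⟨c i, hc i⟩ ⊗ₜ b i, by simp⟩
  · rintro _ ⟨y, rfl⟩
    intro g
    induction y using TensorProduct.induction_on with
    | zero => simp
    | tmul v w => simp [Representation.tprod_apply, (Representation.mem_invariants ρ v.1).1 v.2 g]
    | add a c ha hc => rw [map_add, map_add, ha, hc]

end Groth.Agent.S13060
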