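import Groth.Statements.S13061
import Mathlib.GroupTheory.Sylow

set_option autoImplicit false
universe u v w
open Zeta

namespace Groth.Agent.S13061

/-- Let A be a commutative algebra over a field k, G a finite group acting on A by k-algebra
automorphisms and I ⊆ A an ideal preserved by G. If p^n is the largest power of p = char(k) dividing
|G| (with p^n = 1 when char(k) = 0), then for every G-invariant b ∈ A/I the power b^{p^n} lies in
the image of A^G → (A/I)^G. (The published statement takes A finitely generated over k, which the
proof does not use.) -/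
theorem result {k : Type u} [Field k]
    {A : Type v} [CommRing A] [Algebra k A] {G : Type w} [Group G] [Finite G]
    [MulSemiringAction G A] [SMulCommClass G k A] (I : Ideal A)
    (hI : ∀ (g : G) (a : A), a ∈ I → g • a ∈ I) (u : A) (hu : ∀ g : G, g • u - u ∈ I) :
    ∃ a : A, (∀ g : G, g • a = a) ∧
      Ideal.Quotient.mk I a =
        Ideal.Quotient.mk I u ^ (ringChar k ^ (Nat.card G).factorization (ringChar k)) := by
  classical
  haveI : Fintype G := Fintype.ofFinite G
  rcases CharP.exists k with ⟨p, hp⟩
  rw [ringChar.eq k p]
  set e := p ^ (Nat.card G).factorization p with he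
  -- a subgroup of order `e` whose index is invertible in `k`
  obtain ⟨P, hP, hunit⟩ : ∃ P : Subgroup G, Nat.card P = e ∧ (P.index : k) ≠ 0 := by
    rcases CharP.char_is_prime_or_zero k p with hp' | rfl
    · haveI := Fact.mk hp'
      let P : Sylow p G := default
      exact ⟨P, P.card_eq_multiplicity, fun h => P.not_dvd_index ((CharP.cast_eq_zero_iff k p _).mp h)⟩
    · haveI := CharP.charP_to_charZero k
      exact ⟨⊥, by simp [he], by simp⟩
  let b : A := ∏ g : P, (g : G) • u
  have hb : Ideal.Quotient.mk I b = Ideal.Quotient.mk I u ^ e := by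
    rw [map_prod, Finset.prod_congr rfl (g := fun _ : P => Ideal.Quotient.mk I u)
      fun g _ => Ideal.Quotient.eq.mpr (hu (g : G)), Finset.prod_const,
      Finset.card_univ, ← Nat.card_eq_fintype_card, hP]
  have hfix : ∀ g : G, g ∈ P → g • b = b := fun g hg => by
    rw [Finset.smul_prod']
    exact Fintype.prod_equiv (Equiv.mulLeft (⟨g, hg⟩ : P)) _ _ fun x => (mul_smul g (x : G) u).symm
  let φ : G ⧸ P → A := Quotient.lift (fun g : G => g • b) fun g g' h => by
    have h' : g⁻¹ * g' ∈ P := QuotientGroup.leftRel_apply.mp h
    show g • b = g' • b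
    conv_rhs => rw [show g' = g * (g⁻¹ * g') by group, mul_smul, hfix _ h']
  refine ⟨(P.index : k)⁻¹ • ∑ c, φ c, fun g => ?_, ?_⟩
  · rw [smul_comm, Finset.smul_sum]
    congr 1
    refine Fintype.sum_equiv (MulAction.toPerm g) _ _ fun c => ?_
    induction c using QuotientGroup.induction_on with
    | H x => exact (mul_smul g x b).symm
  · have hφ : ∀ c, Ideal.Quotient.mk I (φ c) = Ideal.Quotient.mk I u ^ e := fun c => by
      induction c using QuotientGroup.induction_on with
      | H x =>
        rw [← hb]
        show Ideal.Quotient.mk I (x • b) = _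
        rw [Finset.smul_prod', map_prod, map_prod]
        refine Finset.prod_congr rfl fun g _ => ?_
        rw [← mul_smul, Ideal.Quotient.eq.mpr (hu _), Ideal.Quotient.eq.mpr (hu _)]
    rw [Algebra.smul_def, map_mul, map_sum, Finset.sum_congr rfl fun c _ => hφ c, Finset.sum_const,
      Finset.card_univ, ← Nat.card_eq_fintype_card, ← Subgroup.index, nsmul_eq_mul, ← mul_assoc,
      ← map_natCast (Ideal.Quotient.mk I), ← map_natCast (algebraMap k A), ← map_mul,
      ← map_mul, inv_mul_cancel₀ hunit, map_one, map_one, one_mul]

end Groth.Agent.S13061
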