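import Groth.Statements.S13062
import Groth.Agent.Lib.Zeta.FiniteBase

set_option autoImplicit false
universe u
open CategoryTheory AlgebraicGeometry
open Zeta

namespace Groth.Agent.S13062

/-- If X is a variety of dimension r over a finite field k with q elements, there is a constant c_X > 0
with #X(F_{q^e}) ≤ c_X q^{re} for every e ≥ 1. Stated for any scheme of finite type over k of
dimension at most r, with a natural-number constant. -/
theorem result {k : Type u} [Field k] [Finite k] {X : Scheme.{u}}
    (f : X ⟶ Spec (CommRingCat.of k)) [LocallyOfFiniteType f] [QuasiCompact f] (r : ℕ)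
    (hr : topologicalKrullDim X ≤ r) :
    ∃ c : ℕ, ∀ (k' : Type u) [Field k'] [Algebra k k'] [Finite k'],
      SgaExt.pointCount f k' ≤ c * Nat.card k ^ (r * Module.finrank k k') := by
  haveI := Groth.Agent.Lib.Zeta.FiniteBase.locallyOfFiniteType_toInt k
  haveI := Groth.Agent.Lib.Zeta.FiniteBase.quasiCompact_toInt k
  obtain ⟨C, p₀, hC⟩ := Groth.Agent.Lib.Zeta.ArithScheme.exists_bound_scheme
    (f ≫ Groth.Agent.Lib.Zeta.FiniteBase.toInt k) r hr
  refine ⟨C, fun k' _ _ _ => ?_⟩
  obtain ⟨hfin, h1, -⟩ := hC k' inferInstance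
  refine (Finite.card_subtype_le _).trans (h1.trans_eq ?_)
  rw [Module.natCard_eq_pow_finrank (K := k) (V := k'), ← pow_mul, mul_comm r]

end Groth.Agent.S13062
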