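import Groth.Statements.S13063
import Groth.Agent.Lib.LangWeil.Components
import Mathlib.FieldTheory.Finite.Extension
import Mathlib.Analysis.SpecialFunctions.Pow.Real

set_option autoImplicit false
set_option linter.style.haveILetI false
universe u
open CategoryTheory AlgebraicGeometry Limits
open Zeta

namespace Groth.Agent.S13063

open Groth.Agent.Lib.LangWeil.Components

theorem card_split {P ι α : Type*} [Finite P] [Fintype ι] (x : P → α) (V : ι → Set α)
    (hdisj : ∀ i j, i ≠ j → Disjoint (V i) (V j)) :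
    Nat.card P = (∑ i, Nat.card {p // x p ∈ V i}) + Nat.card {p // x p ∈ (⋃ i, V i)ᶜ} := by
  classical
  haveI := Fintype.ofFinite P
  simp only [Nat.card_eq_fintype_card, Fintype.card_subtype]
  rw [← Finset.card_univ, ← Finset.card_biUnion (s := (Finset.univ : Finset ι))
    (t := fun i => Finset.univ.filter fun p => x p ∈ V i) fun i _ j _ hne => Finset.disjoint_filter.2
    fun p _ h h' => Set.disjoint_left.1 (hdisj i j hne) h h']
  rw [← Finset.card_union_of_disjoint]
  · refine congrArg Finset.card (Finset.ext fun p => ?_)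
    simp only [Finset.mem_univ, Finset.mem_union, Finset.mem_biUnion, Finset.mem_filter, true_and,
      true_iff, Set.mem_compl_iff, Set.mem_iUnion]
    exact em _
  · refine Finset.disjoint_left.2 fun p hp hp' => ?_
    obtain ⟨i, -, hi⟩ := Finset.mem_biUnion.1 hp
    exact (Finset.mem_filter.1 hp').2 (Set.mem_iUnion.2 ⟨i, (Finset.mem_filter.1 hi).2⟩)

/-- An extension of degree `e` in the universe of `k`. -/
theorem exists_extension (k : Type u) [Field k] [Finite k] (e : ℕ) (he : 0 < e) :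
    ∃ (F : Type u) (_ : Field F) (_ : Algebra k F) (_ : Finite F), Module.finrank k F = e := by
  obtain ⟨q, hq⟩ := CharP.exists k
  haveI : Fact q.Prime := ⟨(CharP.char_is_prime_or_zero k q).resolve_right (fun h0 => by
    subst h0
    haveI := CharP.charP_to_charZero k
    exact not_finite k)⟩
  haveI : NeZero e := ⟨he.ne'⟩
  letI : Algebra (ZMod q) k := ZMod.algebra k q
  let χ : FiniteField.Extension k q e →ₐ[k] AlgebraicClosure k := IsAlgClosed.lift
  exact ⟨χ.fieldRange, inferInstance, inferInstance,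
    Finite.of_equiv _ (AlgEquiv.ofInjectiveField χ).toEquiv,
    (AlgEquiv.ofInjectiveField χ).toLinearEquiv.finrank_eq.symm.trans
      (FiniteField.finrank_extension k q e)⟩

/-- Let X be a scheme of finite type over a finite field k with q elements, of dimension r. For each
irreducible component Z of X of dimension r let m_Z be the number of irreducible components of its
preimage in X ×_k k̄, k̄ an algebraic closure of k, and put a_e = ∑_{Z : m_Z ∣ e} m_Z. Then there
are constants α, α' > 0 such that for every e ≥ 1: if a_e > 0 then |N_e − a_e q^{er}| ≤ α q^{e(r −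
1/2)}, and if a_e = 0 then N_e ≤ α' q^{e(r − 1)}, where N_e = ∑_{d ∣ e} d · #{closed points of
residue degree d} is the number of points of X in the degree-e extension of k. (Stated for schemes
of finite type; reducedness plays no role.) -/
theorem result {k : Type u} [Field k] [Finite k] {X : Scheme.{u}}
    (f : X ⟶ Spec (CommRingCat.of k)) [LocallyOfFiniteType f] [QuasiCompact f] (r : ℕ)
    (hr : topologicalKrullDim X = r) :
    ∃ α α' : ℝ, 0 < α ∧ 0 < α' ∧ ∀ e : ℕ, 1 ≤ e →
      (0 < (∑ᶠ (Z : Set X) (_ : Z ∈ irreducibleComponents X ∧ topologicalKrullDim Z = r ∧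
            Nat.card (irreducibleComponents ((pullback.fst f (Spec.map (CommRingCat.ofHom
              (algebraMap k (AlgebraicClosure k))))).base ⁻¹' Z)) ∣ e),
          Nat.card (irreducibleComponents ((pullback.fst f (Spec.map (CommRingCat.ofHom
              (algebraMap k (AlgebraicClosure k))))).base ⁻¹' Z))) →
        |(Zeta.nPts f e : ℝ) -
            (∑ᶠ (Z : Set X) (_ : Z ∈ irreducibleComponents X ∧ topologicalKrullDim Z = r ∧
              Nat.card (irreducibleComponents ((pullback.fst f (Spec.map (CommRingCat.ofHom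
                (algebraMap k (AlgebraicClosure k))))).base ⁻¹' Z)) ∣ e),
            Nat.card (irreducibleComponents ((pullback.fst f (Spec.map (CommRingCat.ofHom
                (algebraMap k (AlgebraicClosure k))))).base ⁻¹' Z)) : ℕ) *
              (Nat.card k : ℝ) ^ (e * r)| ≤
          α * (Nat.card k : ℝ) ^ ((e : ℝ) * ((r : ℝ) - 1 / 2))) ∧
      ((∑ᶠ (Z : Set X) (_ : Z ∈ irreducibleComponents X ∧ topologicalKrullDim Z = r ∧
            Nat.card (irreducibleComponents ((pullback.fst f (Spec.map (CommRingCat.ofHom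
              (algebraMap k (AlgebraicClosure k))))).base ⁻¹' Z)) ∣ e),
          Nat.card (irreducibleComponents ((pullback.fst f (Spec.map (CommRingCat.ofHom
              (algebraMap k (AlgebraicClosure k))))).base ⁻¹' Z))) = 0 →
        (Zeta.nPts f e : ℝ) ≤ α' * (Nat.card k : ℝ) ^ ((e : ℝ) * ((r : ℝ) - 1))) := by
  classical
  haveI : IsLocallyNoetherian X := LocallyOfFiniteType.isLocallyNoetherian f
  haveI : CompactSpace X := QuasiCompact.compactSpace_of_compactSpace f
  haveI : IsNoetherian X := ⟨⟩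
  have hfinirr : (irreducibleComponents X).Finite :=
    TopologicalSpace.NoetherianSpace.finite_irreducibleComponents
  -- the components of maximal dimension
  let T : Set (Set X) := {Z | Z ∈ irreducibleComponents X ∧ topologicalKrullDim Z = r}
  have hT : T.Finite := hfinirr.subset fun Z hZ => hZ.1
  let O : Set X → Set X := fun Z => (⋃₀ (irreducibleComponents X \ {Z}))ᶜ
  have hV : ∀ Z : hT.toFinset, ∃ V : X.Opens, IsAffineOpen V ∧ (V : Set X) ⊆ O Z ∧
      ∀ x, IsGenericPoint x (Z : Set X) → x ∈ V := by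
    rintro ⟨Z, hZ⟩
    obtain ⟨hZ, -⟩ := hT.mem_toFinset.1 hZ
    obtain ⟨η, hη⟩ := QuasiSober.sober hZ.1 (isClosed_of_mem_irreducibleComponents _ hZ)
    have hO : IsOpen (O Z) := by
      refine IsClosed.isOpen_compl (X := X) (self := ?_)
      rw [Set.sUnion_eq_biUnion]
      exact hfinirr.sdiff.isClosed_biUnion fun W hW => isClosed_of_mem_irreducibleComponents W hW.1
    have hηO : η ∈ O Z := by
      rintro ⟨W, ⟨hW, hWZ⟩, hηW⟩
      have hsub : Z ⊆ W := hη.def ▸ closure_minimal (Set.singleton_subset_iff.2 hηW)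
        (isClosed_of_mem_irreducibleComponents W hW)
      exact hWZ ((hZ.2 hW.1 hsub).antisymm hsub)
    obtain ⟨_, ⟨V, hV, rfl⟩, hηV, hVO⟩ :=
      X.isBasis_affineOpens.exists_subset_of_mem_open hηO hO
    exact ⟨V, hV, hVO, fun x hx => hx.eq hη ▸ hηV⟩
  choose V hVaff hVO hVgen using hV
  have hVZ : ∀ Z : hT.toFinset, (V Z : Set X) ⊆ Z := by
    intro Z x hx
    obtain ⟨W, hW, hxW⟩ : x ∈ ⋃₀ irreducibleComponents X := by
      rw [sUnion_irreducibleComponents]; trivial
    by_contra hxZ
    exact hVO Z hx ⟨W, ⟨hW, fun h => hxZ (by rwa [← Set.mem_singleton_iff.1 h])⟩, hxW⟩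
  have hdisj : ∀ Z Z' : hT.toFinset, Z ≠ Z' → Disjoint (V Z : Set X) (V Z') := fun Z Z' hne =>
    Set.disjoint_left.2 fun x hx hx' => hVO Z' hx'
      ⟨Z, ⟨(hT.mem_toFinset.1 Z.2).1, fun h => hne (Subtype.ext h)⟩, hVZ Z hx⟩
  have hest : ∀ Z : hT.toFinset, _ := fun Z =>
    estimate f (Z : Set X) (isClosed_of_mem_irreducibleComponents _ (hT.mem_toFinset.1 Z.2).1)
      (hT.mem_toFinset.1 Z.2).1.1 r (hT.mem_toFinset.1 Z.2).2 (hVaff Z) (hVZ Z) (by
        obtain ⟨η, hη⟩ := QuasiSober.sober (hT.mem_toFinset.1 Z.2).1.1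
          (isClosed_of_mem_irreducibleComponents _ (hT.mem_toFinset.1 Z.2).1)
        exact ⟨η, hVgen Z η hη⟩)
  choose hpos α hα using hest
  let W : Set X := (⋃ Z : hT.toFinset, (V Z : Set X))ᶜ
  obtain ⟨C, hC⟩ := bound f r hr.le W (isOpen_iUnion fun Z => (V Z).2).isClosed_compl
    (fun Z hZ hd x hx hxW => hxW (Set.mem_iUnion.2
      ⟨⟨Z, hT.mem_toFinset.2 ⟨hZ, hd⟩⟩, hVgen _ x hx⟩))
  set α₀ : ℝ := |C| + ∑ Z, |α Z|
  refine ⟨α₀ + 1, α₀ + 1, by positivity, by positivity, fun e he => ?_⟩
  obtain ⟨F, _, _, _, hF⟩ := exists_extension k e he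
  let S : Finset hT.toFinset := Finset.univ.filter fun Z => geomCount f Z.1 ∣ e
  have hM : (∑ᶠ (Z : Set X) (_ : Z ∈ irreducibleComponents X ∧ topologicalKrullDim Z = r ∧
      Nat.card (irreducibleComponents ((pullback.fst f (Spec.map (CommRingCat.ofHom
        (algebraMap k (AlgebraicClosure k))))).base ⁻¹' Z)) ∣ e),
      Nat.card (irreducibleComponents ((pullback.fst f (Spec.map (CommRingCat.ofHom
        (algebraMap k (AlgebraicClosure k))))).base ⁻¹' Z))) = ∑ Z ∈ S, geomCount f Z.1 := by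
    show (∑ᶠ (Z : Set X) (_ : Z ∈ irreducibleComponents X ∧ topologicalKrullDim Z = r ∧
      geomCount f Z ∣ e), geomCount f Z) = _
    rw [finsum_cond_eq_sum_of_cond_iff (fun Z : Set X => geomCount f Z)
      (t := hT.toFinset.filter fun Z => geomCount f Z ∣ e) (fun _ => by
        simp only [Finset.mem_filter, Set.Finite.mem_toFinset]
        exact (and_assoc).symm)]
    rw [Finset.sum_filter, Finset.sum_filter, Finset.univ_eq_attach,
      Finset.sum_attach hT.toFinset (fun Z => if geomCount f Z ∣ e then geomCount f Z else 0)]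
  -- counting
  have hsplit : (Zeta.nPts f e : ℕ) = (∑ Z, countIn f F (V Z : Set X)) + countIn f F W := by
    rw [← hF, ← Groth.Agent.Lib.Zeta.Points.pointCount_eq_nPts f F, SgaExt.pointCount]
    haveI := Groth.Agent.Lib.Zeta.Points.finite_points f F
    exact card_split (fun g : {g : Spec (CommRingCat.of F) ⟶ X //
      g ≫ f = Spec.map (CommRingCat.ofHom (algebraMap k F))} => g.1 (IsLocalRing.closedPoint F))
      (fun Z => (V Z : Set X)) hdisj
  have hQ : (Nat.card F : ℝ) = (Nat.card k : ℝ) ^ e := by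
    rw [Module.natCard_eq_pow_finrank (K := k), hF]
    push_cast
    rfl
  set Q : ℝ := (Nat.card F : ℝ) with hQdef
  have hQ1 : 1 < Q := by rw [hQdef]; exact_mod_cast Finite.one_lt_card
  have hs : Real.sqrt Q ≤ Q := Real.sqrt_le_self_iff.2 (Or.inr hQ1.le)
  have hQr : 0 ≤ Q ^ r := by positivity
  have hW' : (countIn f F W : ℝ) * Q ≤ |C| * Q ^ r :=
    (hC F).trans (mul_le_mul_of_nonneg_right (le_abs_self C) hQr)
  have hZ' : ∀ Z : hT.toFinset,
      (geomCount f Z.1 ∣ e → |(countIn f F (V Z : Set X) : ℝ) - geomCount f Z.1 * Q ^ r| * Real.sqrt Q ≤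
        |α Z| * Q ^ r) ∧
      (¬ geomCount f Z.1 ∣ e → (countIn f F (V Z : Set X) : ℝ) * Q ≤ |α Z| * Q ^ r) := by
    intro Z
    have h := hα Z F
    rw [hF] at h
    exact ⟨fun hd => (h.1 hd).trans (mul_le_mul_of_nonneg_right (le_abs_self _) hQr),
      fun hd => (h.2 hd).trans (mul_le_mul_of_nonneg_right (le_abs_self _) hQr)⟩
  have hk0 : (0 : ℝ) < Nat.card k := by exact_mod_cast Nat.card_pos
  refine ⟨fun _ => ?_, fun h0 => ?_⟩
  · rw [hM, pow_mul, ← hQ]
    have hrhs : (Nat.card k : ℝ) ^ ((e : ℝ) * ((r : ℝ) - 1 / 2)) = Q ^ r / Real.sqrt Q := by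
      rw [mul_sub, Real.rpow_sub hk0, Real.sqrt_eq_rpow, hQ, ← pow_mul, ← Real.rpow_natCast _ (e * r),
        ← Real.rpow_natCast _ e, ← Real.rpow_mul hk0.le, Nat.cast_mul]
    rw [hrhs, ← mul_div_assoc, le_div_iff₀ (by positivity)]
    have hdec : (Zeta.nPts f e : ℝ) - ((∑ Z ∈ S, geomCount f Z.1 : ℕ) : ℝ) * Q ^ r =
        (∑ Z, ((countIn f F (V Z : Set X) : ℝ) -
          (if geomCount f Z.1 ∣ e then (geomCount f Z.1 : ℝ) * Q ^ r else 0))) + countIn f F W := by
      rw [hsplit, Finset.sum_sub_distrib, ← Finset.sum_filter, Nat.cast_add, Nat.cast_sum, Nat.cast_sum,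
        Finset.sum_mul]
      ring
    rw [hdec]
    refine (mul_le_mul_of_nonneg_right ((abs_add_le _ _).trans
      (add_le_add (Finset.abs_sum_le_sum_abs _ _) le_rfl)) (Real.sqrt_nonneg _)).trans ?_
    rw [add_mul, Finset.sum_mul, Nat.abs_cast]
    have h1 : ∀ Z : hT.toFinset, |(countIn f F (V Z : Set X) : ℝ) -
        (if geomCount f Z.1 ∣ e then (geomCount f Z.1 : ℝ) * Q ^ r else 0)| * Real.sqrt Q ≤ |α Z| * Q ^ r := by
      intro Z
      split_ifs with hd
      · exact (hZ' Z).1 hd
      · rw [sub_zero, Nat.abs_cast]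
        exact (mul_le_mul_of_nonneg_left hs (Nat.cast_nonneg _)).trans ((hZ' Z).2 hd)
    have h2 := Finset.sum_le_sum (s := (Finset.univ : Finset hT.toFinset)) fun Z _ => h1 Z
    have h3 := (mul_le_mul_of_nonneg_left hs (Nat.cast_nonneg (α := ℝ) (countIn f F W))).trans hW'
    rw [← Finset.sum_mul (a := Q ^ r)] at h2
    rw [show α₀ = |C| + ∑ Z, |α Z| from rfl]
    rw [add_mul, add_mul]
    linarith
  · rw [hM] at h0
    have hS : ∀ Z : hT.toFinset, ¬ geomCount f Z.1 ∣ e := fun Z hd =>
      (hpos Z).ne' ((Finset.sum_eq_zero_iff.1 h0) Z (Finset.mem_filter.2 ⟨Finset.mem_univ _, hd⟩))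
    have hrhs : (Nat.card k : ℝ) ^ ((e : ℝ) * ((r : ℝ) - 1)) = Q ^ r / Q := by
      rw [mul_sub, mul_one, Real.rpow_sub hk0, hQ, ← pow_mul, ← Real.rpow_natCast _ (e * r),
        Real.rpow_natCast _ e, Nat.cast_mul]
    rw [hrhs, ← mul_div_assoc, le_div_iff₀ (by positivity), hsplit, Nat.cast_add, Nat.cast_sum,
      add_mul, Finset.sum_mul]
    have h2 := Finset.sum_le_sum (s := (Finset.univ : Finset hT.toFinset))
      fun Z _ => (hZ' Z).2 (hS Z)
    rw [← Finset.sum_mul (a := Q ^ r)] at h2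
    rw [show α₀ = |C| + ∑ Z, |α Z| from rfl]
    rw [add_mul, add_mul]
    linarith

end Groth.Agent.S13063
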