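import Groth.Statements.S13065
import Mathlib

set_option autoImplicit false
universe u
open Zeta

namespace Groth.Agent.S13065

/-- Let k be a finite field with q elements and characteristic p, n ≥ 2, and f ∈ k[x_0, …, x_n]
homogeneous of degree n + 1, defining the hypersurface Z ⊂ P^n_k. Then #Z(F_q) ≢ 1 (mod p) if and
only if the coefficient of (x_0 ⋯ x_n)^{q−1} in f^{q−1} is nonzero. Stated through the affine count:
#Z(F_q) ≡ 1 (mod p) exactly when p divides the number of zeros of f in k^{n+1} (as (q − 1) #Z(F_q) +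
1 is that number). -/
theorem result {k : Type u} [Field k] [Finite k] (p : ℕ)
    [CharP k p] (n : ℕ) (hn : 2 ≤ n) (f : MvPolynomial (Fin (n + 1)) k)
    (hf : f.IsHomogeneous (n + 1)) :
    p ∣ Nat.card {a : Fin (n + 1) → k // MvPolynomial.eval a f = 0} ↔
      MvPolynomial.coeff (Finsupp.equivFunOnFinite.symm fun _ : Fin (n + 1) => Nat.card k - 1)
        (f ^ (Nat.card k - 1)) = 0 := by
  classical
  haveI := Fintype.ofFinite k
  set q := Nat.card k with hq
  have hq' : q = Fintype.card k := Nat.card_eq_fintype_card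
  have hq1 : 1 < q := hq' ▸ Fintype.one_lt_card
  set g := f ^ (q - 1) with hg
  set d0 := (Finsupp.equivFunOnFinite.symm fun _ : Fin (n + 1) => q - 1) with hd0
  have ind : ∀ x : k, x ^ (q - 1) = if x = 0 then 0 else 1 := by
    intro x
    split_ifs with h
    · subst h; exact zero_pow (by omega)
    · rw [hq']; exact FiniteField.pow_card_sub_one_eq_one x h
  have hcount : ((Nat.card {a : Fin (n + 1) → k // MvPolynomial.eval a f = 0} : ℕ) : k) = - ∑ a : Fin (n + 1) → k, MvPolynomial.eval a g := by
    rw [Nat.card_eq_fintype_card, Fintype.card_subtype, Finset.card_filter, Nat.cast_sum, eq_neg_iff_add_eq_zero, ← Finset.sum_add_distrib]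
    have : ∀ a : Fin (n + 1) → k, ((if MvPolynomial.eval a f = 0 then 1 else 0 : ℕ) : k) + MvPolynomial.eval a g = 1 := by
      intro a; rw [hg, map_pow, ind]; split_ifs <;> simp
    rw [Finset.sum_congr rfl fun a _ => this a, Finset.sum_const, Finset.card_univ, Fintype.card_fun, nsmul_eq_mul, mul_one, Nat.cast_pow, Fintype.card_fin]
    rw [Nat.cast_card_eq_zero, zero_pow (by omega)]
  have hmono : ∀ d : Fin (n + 1) →₀ ℕ, ∑ a : Fin (n + 1) → k, ∏ i, a i ^ d i = ∏ i, ∑ x : k, x ^ d i := fun d =>
    (Fintype.prod_sum fun i x => x ^ d i).symm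
  have hsum : ∑ a : Fin (n + 1) → k, MvPolynomial.eval a g = g.coeff d0 * (-1) ^ (n + 1) := by
    simp only [MvPolynomial.eval_eq']
    rw [Finset.sum_comm]
    simp only [← Finset.mul_sum, hmono]
    have hval : ∏ i, ∑ x : k, x ^ d0 i = (-1) ^ (n + 1) := by
      have : ∑ x : k, x ^ (q - 1) = -1 := by
        simp only [ind, Finset.sum_ite, Finset.sum_const_zero, zero_add, Finset.sum_const, nsmul_eq_mul, mul_one]
        rw [eq_neg_iff_add_eq_zero, Finset.filter_ne' Finset.univ (0 : k), Finset.card_erase_of_mem (Finset.mem_univ _), Finset.card_univ,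
          ← Nat.cast_add_one, Nat.sub_add_cancel Fintype.card_pos, Nat.cast_card_eq_zero]
      simp [hd0, this]
    rw [Finset.sum_eq_single d0, hval]
    · intro d hd hne
      have hdeg : ∑ i, d i = (n + 1) * (q - 1) := by
        have := (hf.pow (q - 1)) (MvPolynomial.mem_support_iff.1 hd)
        simpa [Finsupp.weight_apply, Finsupp.sum_fintype] using this
      have : ∃ i, d i < q - 1 := by
        by_contra! hc
        apply hne
        ext i
        by_contra hi
        have hlt : q - 1 < d i := lt_of_le_of_ne (hc i) (fun e => hi (by simp [hd0, e]))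
        have := Finset.sum_lt_sum (f := fun _ => q - 1) (g := fun i => d i) (fun j (_ : j ∈ Finset.univ) => hc j) ⟨i, Finset.mem_univ _, hlt⟩
        simp [hdeg] at this
      obtain ⟨i, hi⟩ := this
      rw [Finset.prod_eq_zero (Finset.mem_univ i) (FiniteField.sum_pow_lt_card_sub_one k _ (by omega)), mul_zero]
    · intro h
      rw [MvPolynomial.notMem_support_iff.1 h, zero_mul]
  rw [← CharP.cast_eq_zero_iff k p, hcount, hsum, neg_eq_zero, mul_eq_zero, or_iff_left (pow_ne_zero _ (neg_ne_zero.2 one_ne_zero))]

end Groth.Agent.S13065
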