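import Groth.Statements.S13066
import Mathlib.RingTheory.MvPolynomial.Expand
import Mathlib.FieldTheory.Finite.Basic
import Mathlib.Algebra.MvPolynomial.Expand
import Mathlib.Tactic.Ring

set_option autoImplicit false
universe u
open Zeta

namespace Groth.Agent.S13066

/-- Let k be a finite field with q elements and characteristic p, n ≥ 2, and f ∈ k[x_0, …, x_n]
homogeneous of degree n + 1. Then the coefficient of (x_0 ⋯ x_n)^{q−1} in f^{q−1} is nonzero if and
only if the coefficient of (x_0 ⋯ x_n)^{p−1} in f^{p−1} is nonzero. -/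
theorem result {k : Type u} [Field k] [Finite k]
    (p : ℕ) [CharP k p] (n : ℕ) (hn : 2 ≤ n) (f : MvPolynomial (Fin (n + 1)) k)
    (hf : f.IsHomogeneous (n + 1)) :
    MvPolynomial.coeff (Finsupp.equivFunOnFinite.symm fun _ : Fin (n + 1) => Nat.card k - 1)
        (f ^ (Nat.card k - 1)) ≠ 0 ↔
      MvPolynomial.coeff (Finsupp.equivFunOnFinite.symm fun _ : Fin (n + 1) => p - 1)
        (f ^ (p - 1)) ≠ 0 := by
  classical
  haveI : Fintype k := Fintype.ofFinite k
  obtain ⟨s, hp, hq⟩ := FiniteField.card k p
  haveI := Fact.mk hp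
  haveI : ExpChar k p := ExpChar.prime hp
  let u : ℕ → (Fin (n + 1) →₀ ℕ) := fun t => Finsupp.equivFunOnFinite.symm fun _ => p ^ t - 1
  set c := MvPolynomial.coeff (u 1) (f ^ (p - 1))
  have key : ∀ t, MvPolynomial.coeff (u t) (f ^ (p ^ t - 1)) ≠ 0 ↔ (t = 0 ∨ c ≠ 0) := by
    intro t
    induction t with
    | zero =>
      have : u 0 = 0 := by ext l; simp [u]
      simp [this]
    | succ t ih =>
      have hpos : 0 < p ^ t := Nat.pow_pos hp.pos
      have he : p ^ (t + 1) - 1 = (p - 1) + p * (p ^ t - 1) := by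
        obtain ⟨v, hv⟩ := Nat.exists_eq_add_of_le hpos
        obtain ⟨w, rfl⟩ := Nat.exists_eq_add_of_le hp.pos
        rw [pow_succ, hv]
        simp only [Nat.add_sub_cancel_left]
        rw [show (Nat.succ 0 + v) * (Nat.succ 0 + w) = 1 + (w + (Nat.succ 0 + w) * v) by ring, Nat.add_sub_cancel_left]
      have hexp : f ^ (p ^ (t + 1) - 1) = f ^ (p - 1) * MvPolynomial.map (frobenius k p) (MvPolynomial.expand p (f ^ (p ^ t - 1))) := by
        rw [MvPolynomial.map_frobenius_expand, ← pow_mul, ← pow_add, he, mul_comm (p ^ t - 1) p]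
      rw [hexp, MvPolynomial.coeff_mul]
      have hval : ∀ ab ∈ Finset.antidiagonal (u (t + 1)), ab ≠ (u 1, p • u t) →
          MvPolynomial.coeff ab.1 (f ^ (p - 1)) * MvPolynomial.coeff ab.2 (MvPolynomial.map (frobenius k p) (MvPolynomial.expand p (f ^ (p ^ t - 1)))) = 0 := by
        rintro ⟨e, r⟩ hab hne
        rw [Finset.mem_antidiagonal] at hab
        by_contra h0
        obtain ⟨h1, h2⟩ := mul_ne_zero_iff.1 h0
        have hdiv : ∀ l, p ∣ r l := fun l => by
          by_contra hnd
          rw [MvPolynomial.coeff_map, MvPolynomial.coeff_expand_of_not_dvd _ hnd, map_zero] at h2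
          exact h2 rfl
        have hdeg := (hf.pow (p - 1)) h1
        have hdeg : ∑ l, e l = (n + 1) * (p - 1) := by
          rw [← Finsupp.degree_eq_sum, Finsupp.degree_eq_weight_one]; exact hdeg
        have hel : ∀ l, p - 1 ≤ e l := fun l => by
          have := DFunLike.congr_fun hab l
          simp [u] at this
          obtain ⟨q, hq⟩ := hdiv l
          have h3 : p ∣ e l + 1 := (Nat.dvd_add_right ⟨q, hq⟩).1 ⟨p ^ t, by rw [← pow_succ']; have := Nat.pow_pos (n := t + 1) hp.pos; omega⟩
          have := Nat.le_of_dvd (Nat.succ_pos _) h3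
          omega
        have hsum : ∑ l : Fin (n + 1), (p - 1) = ∑ l : Fin (n + 1), e l := by
          rw [hdeg, Finset.sum_const, Finset.card_univ, Fintype.card_fin, smul_eq_mul]
        have heq := (Finset.sum_eq_sum_iff_of_le (fun l _ => hel l)).1 hsum
        have he1 : e = u 1 := by ext l; simp [u, heq l (Finset.mem_univ l)]
        refine hne (Prod.ext he1 (Finsupp.ext fun l => ?_))
        have := DFunLike.congr_fun hab l
        simp [he1, u] at this
        simp [u]
        omega
      rw [Finset.sum_eq_single (u 1, p • u t) hval (fun h => absurd (Finset.mem_antidiagonal.2 (Finsupp.ext fun l => by simp [u]; omega)) h),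
        MvPolynomial.coeff_map, MvPolynomial.coeff_expand_smul p hp.ne_zero, mul_ne_zero_iff, frobenius_def]
      simp only [Nat.succ_ne_zero, false_or, Nat.add_eq_zero, one_ne_zero, and_false]
      constructor
      · exact fun h => h.1
      · exact fun h => ⟨h, pow_ne_zero _ (ih.2 (Or.inr h))⟩
  have hs := key s
  simp only [show (s : ℕ) ≠ 0 from s.ne_zero, false_or] at hs
  rw [Nat.card_eq_fintype_card, hq]
  have hu1 : (Finsupp.equivFunOnFinite.symm fun _ : Fin (n + 1) => p - 1) = u 1 := by ext l; simp [u]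
  rw [hu1]
  exact hs

end Groth.Agent.S13066
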