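import Groth.Statements.S13068
import Groth.Agent.Lib.CurveZeta.Basic

set_option autoImplicit false
universe u
open CategoryTheory AlgebraicGeometry
open Zeta

namespace Groth.Agent.S13068

/-- Let X be a smooth, geometrically connected, projective curve of genus g over F_q (here: smooth
proper geometrically irreducible, of dimension one). Then Z(X, t) = f(t) / ((1 − t)(1 − qt)) with f
∈ ℤ[t] of degree ≤ 2g, f(0) = 1 and f(1) = h, where h is the number of isomorphism classes of line
bundles of degree zero on X (the number of k-points of the Jacobian). -/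
theorem result (k : Type u) [Field k] [Finite k]
    (X : Scheme.{u}) [X.Over (Spec (CommRingCat.of k))]
    (hX : Curve.IsSmoothProperCurve k X (X ↘ Spec (CommRingCat.of k)))
    [GeometricallyIrreducible (X ↘ Spec (CommRingCat.of k))] :
    ∃ P : Polynomial ℤ, P.natDegree ≤ 2 * Curv2.genus k X ∧ P.coeff 0 = 1 ∧
      P.eval 1 = Nat.card {c : PicF.Cl X // ∃ L : X.Modules, PicF.cl L = c ∧ PicF.IsInvertible L ∧
          Curv2.deg k X L 1 = 0} ∧
      Zeta.zetaFun (X ↘ Spec (CommRingCat.of k)) *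
          ((1 - PowerSeries.X) * (1 - PowerSeries.C (Nat.card k : ℚ) * PowerSeries.X)) =
        ((P.map (Int.castRingHom ℚ) : Polynomial ℚ) : PowerSeries ℚ) :=  by
  obtain ⟨hp, hs, hi, hdim⟩ := hX
  haveI := hp
  haveI := hs
  haveI := hi
  letI : Algebra k X.functionField := Curv2.stalkAlgebra k X (genericPoint X)
  obtain ⟨h, h0⟩ := Groth.Agent.Lib.CurveZeta.hyps (k := k) (X := X) hdim
  have hK := Groth.Agent.Lib.CurveFF.isFunctionField h h0
  have hgen := Groth.Agent.Lib.CurveFF.genus_eq h h0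
  obtain ⟨e0⟩ := Groth.Agent.Lib.CurveZeta.nonempty_pic_equiv h hK 0
  refine ⟨Groth.Agent.Lib.FunFld.Zeta.Basic.Lpoly k X.functionField, ?_, ?_, ?_, ?_⟩
  · rw [Groth.Agent.Lib.FunFld.Zeta.Basic.natDegree_Lpoly hK, hgen]
  · rw [Groth.Agent.Lib.FunFld.Zeta.Basic.coeff_Lpoly hK]
    exact Groth.Agent.Lib.FunFld.Zeta.Basic.c_zero hK
  · rw [Groth.Agent.Lib.FunFld.Zeta.Basic.Lpoly_eval_one hK, Nat.card_congr e0,
      Groth.Agent.Lib.FunFld.Zeta.Basic.card_degQ]
  · rw [Groth.Agent.Lib.CurveZeta.zetaFun_eq h hK, Polynomial.polynomial_map_coe,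
      Groth.Agent.Lib.FunFld.Zeta.Basic.coe_Lpoly hK, FunFld.numerZ]
    simp only [map_mul, map_sub, map_one, PowerSeries.map_X, map_natCast, eq_intCast,
      Int.cast_natCast]
    ring

end Groth.Agent.S13068
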