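import Groth.Statements.S13069
import Groth.Agent.Lib.CurveZeta.Basic

set_option autoImplicit false
universe u
open CategoryTheory AlgebraicGeometry
open Zeta

namespace Groth.Agent.S13069

/-- If X is a smooth, geometrically connected, projective curve over F_q (here: smooth proper
geometrically irreducible of dimension one over a finite field k), then all the sets Pic^m(X) of
isomorphism classes of line bundles of degree m, m ∈ ℤ, have the same finite nonzero number of
elements. -/
theorem result (k : Type u) [Field k] [Finite k]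
    (X : Scheme.{u}) [X.Over (Spec (CommRingCat.of k))]
    (hX : Curve.IsSmoothProperCurve k X (X ↘ Spec (CommRingCat.of k)))
    [GeometricallyIrreducible (X ↘ Spec (CommRingCat.of k))] (m : ℤ) :
    Finite {c : PicF.Cl X // ∃ L : X.Modules, PicF.cl L = c ∧ PicF.IsInvertible L ∧
        Curv2.deg k X L 1 = m} ∧
      Nonempty {c : PicF.Cl X // ∃ L : X.Modules, PicF.cl L = c ∧ PicF.IsInvertible L ∧
        Curv2.deg k X L 1 = m} ∧
      Nat.card {c : PicF.Cl X // ∃ L : X.Modules, PicF.cl L = c ∧ PicF.IsInvertible L ∧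
          Curv2.deg k X L 1 = m} =
        Nat.card {c : PicF.Cl X // ∃ L : X.Modules, PicF.cl L = c ∧ PicF.IsInvertible L ∧
          Curv2.deg k X L 1 = 0} :=  by
  obtain ⟨hp, hs, hi, hdim⟩ := hX
  haveI := hp
  haveI := hs
  haveI := hi
  letI : Algebra k X.functionField := Curv2.stalkAlgebra k X (genericPoint X)
  obtain ⟨h, h0⟩ := Groth.Agent.Lib.CurveZeta.hyps (k := k) (X := X) hdim
  have hK := Groth.Agent.Lib.CurveFF.isFunctionField h h0
  obtain ⟨e⟩ := Groth.Agent.Lib.CurveZeta.nonempty_pic_equiv h hK m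
  obtain ⟨e0⟩ := Groth.Agent.Lib.CurveZeta.nonempty_pic_equiv h hK 0
  haveI : Finite {c // (Groth.Agent.Lib.FunFld.Zeta.Basic.degQ hK) c = m} := Groth.Agent.Lib.FunFld.Zeta.Basic.finite_class hK m
  obtain ⟨D, hD⟩ := Groth.Agent.Lib.FunFld.Zeta.Basic.exists_deg hK m
  refine ⟨Finite.of_equiv _ e.symm,
    ⟨e.symm ⟨QuotientAddGroup.mk D, (Groth.Agent.Lib.FunFld.Zeta.Basic.degQ_mk hK D).trans hD⟩⟩, ?_⟩
  rw [Nat.card_congr e, Nat.card_congr e0, Groth.Agent.Lib.FunFld.Zeta.Basic.card_degQ,
    Groth.Agent.Lib.FunFld.Zeta.Basic.card_degQ]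

end Groth.Agent.S13069
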