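import Groth.Statements.S13070
import Groth.Agent.Lib.Zeta.ArithScheme
import Mathlib.Analysis.SpecialFunctions.Pow.Real
import Mathlib.Algebra.CharP.CharAndCard

set_option autoImplicit false
universe u
open CategoryTheory AlgebraicGeometry
open Zeta

namespace Groth.Agent.S13070

/-- For an arithmetic scheme X (of finite type over ℤ) of dimension r there are c_X > 0 and p₀ such that
#X(F_{p^m}) ≤ c_X p^{m(r−1)} for all primes p ≥ p₀ and m ≥ 1, and #X(F_{p^m}) ≤ c_X p^{mr} for p <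
p₀ and m ≥ 1. Here #X(F) is the number of morphisms Spec F → X, and the dimension is only assumed ≤
r. -/
theorem result {X : Scheme.{u}}
    (f : X ⟶ Spec (CommRingCat.of (ULift.{u} ℤ))) [LocallyOfFiniteType f] [QuasiCompact f] (r : ℕ)
    (hr : topologicalKrullDim X ≤ r) :
    ∃ (c : ℝ) (p₀ : ℕ), 0 < c ∧ ∀ (p m : ℕ), p.Prime → 1 ≤ m →
      ∀ (F : Type u) [Field F], Nat.card F = p ^ m →
        (p₀ ≤ p → (Nat.card (Spec (CommRingCat.of F) ⟶ X) : ℝ) ≤
            c * (p : ℝ) ^ ((m : ℝ) * ((r : ℝ) - 1))) ∧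
        (p < p₀ → (Nat.card (Spec (CommRingCat.of F) ⟶ X) : ℝ) ≤ c * (p : ℝ) ^ ((m : ℝ) * r)) := by
  obtain ⟨C, p₀, hC⟩ := Groth.Agent.Lib.Zeta.ArithScheme.exists_bound_scheme f r hr
  refine ⟨(C : ℝ) + 1, p₀, by positivity, fun p m hp hm F _ hF => ?_⟩
  haveI : Finite F := Nat.finite_of_card_ne_zero (by rw [hF]; exact pow_ne_zero _ hp.ne_zero)
  obtain ⟨-, h1, h2⟩ := hC F inferInstance
  have hq : (0 : ℝ) < (p : ℝ) ^ m := pow_pos (by exact_mod_cast hp.pos) m
  rw [hF] at h1 h2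
  constructor
  · intro hle
    have hchar : ringChar F = p := by
      have h0 : ((p ^ m : ℕ) : F) = 0 := by
        rw [← hF]
        haveI : Fintype F := Fintype.ofFinite F
        rw [Nat.card_eq_fintype_card]
        exact Nat.cast_card_eq_zero F
      rw [Nat.cast_pow] at h0
      have h3 := (ringChar.spec F p).1 (eq_zero_of_pow_eq_zero h0)
      exact ((Nat.prime_dvd_prime_iff_eq (CharP.char_is_prime F (ringChar F)) hp).1 h3)
    have h := h2 (hchar ▸ hle)
    have e : (p : ℝ) ^ ((m : ℝ) * ((r : ℝ) - 1)) = ((p : ℝ) ^ m) ^ r / (p : ℝ) ^ m := by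
      rw [mul_sub, mul_one, Real.rpow_sub (by exact_mod_cast hp.pos), ← Nat.cast_mul,
        Real.rpow_natCast, Real.rpow_natCast, pow_mul]
    rw [e, ← mul_div_assoc, le_div_iff₀ hq]
    have h' : ((p : ℝ) ^ m) * (Nat.card (Spec (CommRingCat.of F) ⟶ X) : ℝ) ≤ C * ((p : ℝ) ^ m) ^ r := by
      exact_mod_cast h
    nlinarith [pow_pos hq r]
  · intro _
    have e : (p : ℝ) ^ ((m : ℝ) * r) = ((p : ℝ) ^ m) ^ r := by
      rw [← Nat.cast_mul, Real.rpow_natCast, pow_mul]
    rw [e]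
    have h' : (Nat.card (Spec (CommRingCat.of F) ⟶ X) : ℝ) ≤ C * ((p : ℝ) ^ m) ^ r := by
      exact_mod_cast h1
    nlinarith [pow_pos hq r]

end Groth.Agent.S13070
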