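import Groth.Statements.S13079
import Groth.Agent.Lib.SchQuot.FlatBaseChange
import Groth.Agent.Lib.FibreDeg.Basic
-- import your own Groth.Agent.* helpers here

set_option autoImplicit false
set_option linter.style.haveILetI false
set_option backward.isDefEq.respectTransparency false
universe u
open CategoryTheory AlgebraicGeometry Limits
open Zeta

namespace Groth.Agent.S13079

open CategoryTheory CategoryTheory.Limits AlgebraicGeometry

theorem hom_mul' {X : Scheme.{u}} (a b : Aut X) : (a * b).hom = b.hom ≫ a.hom := rfl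

theorem mul_hom {X : Scheme.{u}} {G : Type u} [Group G] (ρ : G →* Aut X) (a b : G) :
    (ρ (a * b)).hom = (ρ b).hom ≫ (ρ a).hom := by rw [map_mul]; exact hom_mul' _ _

/-- The action through the second factor of a fibre product. -/
noncomputable def actSnd {S A Y : Scheme.{u}} (a : A ⟶ S) (b : Y ⟶ S) {H : Type u} [Group H]
    (σ : H →* Aut Y) (hσ : ∀ h, (σ h).hom ≫ b = b) : H →* Aut (pullback a b) :=
  MonoidHom.mk' (fun h =>
    { hom := pullback.lift (pullback.fst a b) (pullback.snd a b ≫ (σ h).hom)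
        (by rw [Category.assoc, hσ, pullback.condition])
      inv := pullback.lift (pullback.fst a b) (pullback.snd a b ≫ (σ h⁻¹).hom)
        (by rw [Category.assoc, hσ, pullback.condition])
      hom_inv_id := by
        apply pullback.hom_ext
        · simp
        · rw [Category.assoc, pullback.lift_snd, pullback.lift_snd_assoc]
          exact (Category.assoc _ _ _).trans ((congrArg (pullback.snd a b ≫ ·)
            ((mul_hom σ _ _).symm.trans (by rw [inv_mul_cancel, map_one]; rfl))).trans
              ((Category.comp_id _).trans (Category.id_comp _).symm))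
      inv_hom_id := by
        apply pullback.hom_ext
        · simp
        · rw [Category.assoc, pullback.lift_snd, pullback.lift_snd_assoc]
          exact (Category.assoc _ _ _).trans ((congrArg (pullback.snd a b ≫ ·)
            ((mul_hom σ _ _).symm.trans (by rw [mul_inv_cancel, map_one]; rfl))).trans
              ((Category.comp_id _).trans (Category.id_comp _).symm)) }) (fun h h' => by
    apply Iso.ext
    change pullback.lift _ _ _ = pullback.lift _ _ _ ≫ pullback.lift _ _ _
    apply pullback.hom_ext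
    · simp
    · refine (pullback.lift_snd _ _ _).trans ?_
      refine Eq.trans ?_ (Category.assoc _ _ _).symm
      refine Eq.trans ?_ (congrArg (_ ≫ ·) (pullback.lift_snd _ _ _)).symm
      refine Eq.trans ?_ (Category.assoc _ _ _)
      refine Eq.trans ?_ (congrArg (· ≫ _) (pullback.lift_snd _ _ _)).symm
      exact (congrArg (pullback.snd a b ≫ ·) (mul_hom σ h h')).trans (Category.assoc _ _ _).symm)

theorem actSnd_fst {S A Y : Scheme.{u}} (a : A ⟶ S) (b : Y ⟶ S) {H : Type u} [Group H]
    (σ : H →* Aut Y) (hσ : ∀ h, (σ h).hom ≫ b = b) (h : H) :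
    (actSnd a b σ hσ h).hom ≫ pullback.fst a b = pullback.fst a b :=
  pullback.lift_fst _ _ _

theorem actSnd_snd {S A Y : Scheme.{u}} (a : A ⟶ S) (b : Y ⟶ S) {H : Type u} [Group H]
    (σ : H →* Aut Y) (hσ : ∀ h, (σ h).hom ≫ b = b) (h : H) :
    (actSnd a b σ hσ h).hom ≫ pullback.snd a b = pullback.snd a b ≫ (σ h).hom :=
  pullback.lift_snd _ _ _

theorem app_appLE_comm {P M : Scheme.{u}} (a : P ⟶ M) (φ : P ⟶ P) (ψ : M ⟶ M) (w : φ ≫ a = a ≫ ψ)
    (V : M.Opens) (e₁ : a ⁻¹ᵁ V ≤ φ ⁻¹ᵁ (a ⁻¹ᵁ V)) (e₂ : V ≤ ψ ⁻¹ᵁ V) (t : Γ(M, V)) :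
    φ.appLE (a ⁻¹ᵁ V) (a ⁻¹ᵁ V) e₁ (a.app V t) = a.app V (ψ.appLE V V e₂ t) := by
  rw [Scheme.Hom.app_eq_appLE, ← CommRingCat.comp_apply, Scheme.Hom.appLE_comp_appLE,
    ← CommRingCat.comp_apply, Scheme.Hom.appLE_comp_appLE]
  simp only [w]

/-- Successive quotients by two commuting actions. -/
theorem isQuot_comp {P M N : Scheme.{u}} {G H : Type u} [Group G] [Group H] (θ : G × H →* Aut P)
    (θM : H →* Aut M) (a : P ⟶ M) (b : M ⟶ N)
    (ha : SGA1.IsQuot (θ.comp (MonoidHom.inl G H)) a) (hb : SGA1.IsQuot θM b)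
    (hc : ∀ h : H, (θ (1, h)).hom ≫ a = a ≫ (θM h).hom) : SGA1.IsQuot θ (a ≫ b) := by
  haveI := ha.affine
  haveI := hb.affine
  have hinv : ∀ x : G × H, (θ x).hom ≫ a ≫ b = a ≫ b := by
    intro x
    rw [show x = ((x.1, 1) : G × H) * (1, x.2) by simp, mul_hom]
    have h1 : (θ (x.1, 1)).hom ≫ a = a := ha.inv x.1
    rw [Category.assoc, reassoc_of% h1, reassoc_of% (hc x.2), hb.inv]
  refine ⟨inferInstance, hinv, fun U s t hst => ?_, fun U s => ⟨?_, fun hs => ?_⟩⟩
  · rw [Scheme.Hom.comp_app] at hst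
    exact hb.injective U (ha.injective _ hst)
  · rintro ⟨t, rfl⟩ x
    rw [Scheme.Hom.app_eq_appLE, ← CommRingCat.comp_apply, Scheme.Hom.appLE_comp_appLE]
    simp only [hinv x]
  · obtain ⟨t, ht⟩ := (ha.range_iff (b ⁻¹ᵁ U) s).2 fun g => hs (g, 1)
    obtain ⟨t', ht'⟩ := (hb.range_iff U t).2 fun h => by
      refine ha.injective _ ?_
      refine (app_appLE_comm a _ _ (hc h) (b ⁻¹ᵁ U)
        (SGA1.preimage_le_of_inv θ (a ≫ b) hinv (1, h) U) _ t).symm.trans ?_
      exact ((congrArg _ ht).trans (hs (1, h))).trans ht.symm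
    refine ⟨t', ?_⟩
    rw [Scheme.Hom.comp_app]
    exact (congrArg (a.app (b ⁻¹ᵁ U)) ht').trans ht


/-- Suppose the finite groups G and H act by algebraic k-automorphisms on schemes X and Y of finite type
over k, both admitting quotients X → X/G and Y → Y/H (equivalently, covered by invariant affine
opens). Then X × Y has the same property for the product action of G × H and (X × Y)/(G × H) ≅ X/G ×
Y/H: the morphism X ×_k Y → X/G ×_k Y/H with components the two quotient maps is a quotient for the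
product action. The product action θ and that morphism π are pinned by their composites with the
projections. -/
theorem result {k : Type u} [Field k] {G H : Type u} [Group G] [Finite G] [Group H]
    [Finite H] {X Y XG YH : Scheme.{u}} (fX : X ⟶ Spec (CommRingCat.of k))
    (fY : Y ⟶ Spec (CommRingCat.of k)) [LocallyOfFiniteType fX] [QuasiCompact fX]
    [LocallyOfFiniteType fY] [QuasiCompact fY] (gX : XG ⟶ Spec (CommRingCat.of k))
    (gY : YH ⟶ Spec (CommRingCat.of k)) (ρ : G →* Aut X) (σ : H →* Aut Y)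
    (hρ : ∀ g, (ρ g).hom ≫ fX = fX) (hσ : ∀ h, (σ h).hom ≫ fY = fY)
    (p : X ⟶ XG) (hp : p ≫ gX = fX) (q : Y ⟶ YH) (hq : q ≫ gY = fY)
    (hP : SGA1.IsQuot ρ p) (hQ : SGA1.IsQuot σ q)
    (θ : G × H →* Aut (pullback fX fY))
    (hθ1 : ∀ gh : G × H, (θ gh).hom ≫ pullback.fst fX fY = pullback.fst fX fY ≫ (ρ gh.1).hom)
    (hθ2 : ∀ gh : G × H, (θ gh).hom ≫ pullback.snd fX fY = pullback.snd fX fY ≫ (σ gh.2).hom)
    (π : pullback fX fY ⟶ pullback gX gY) (hπ1 : π ≫ pullback.fst gX gY = pullback.fst fX fY ≫ p)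
    (hπ2 : π ≫ pullback.snd gX gY = pullback.snd fX fY ≫ q) :
    SGA1.IsQuot θ π := by
  haveI : Flat fY := Groth.Agent.Lib.FibreDeg.Basic.flat_of_field fY
  haveI : Flat gX := Groth.Agent.Lib.FibreDeg.Basic.flat_of_field gX
  let a : pullback fX fY ⟶ pullback gX fY :=
    pullback.lift (pullback.fst fX fY ≫ p) (pullback.snd fX fY)
      (by rw [Category.assoc, hp, pullback.condition])
  have ha1 : a ≫ pullback.fst gX fY = pullback.fst fX fY ≫ p := pullback.lift_fst _ _ _
  have ha2 : a ≫ pullback.snd gX fY = pullback.snd fX fY := pullback.lift_snd _ _ _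
  let b : pullback gX fY ⟶ pullback gX gY :=
    pullback.lift (pullback.fst gX fY) (pullback.snd gX fY ≫ q)
      (by rw [Category.assoc, hq, pullback.condition])
  have hb1 : b ≫ pullback.fst gX gY = pullback.fst gX fY := pullback.lift_fst _ _ _
  have hb2 : b ≫ pullback.snd gX gY = pullback.snd gX fY ≫ q := pullback.lift_snd _ _ _
  have sqa : IsPullback (pullback.fst fX fY) a p (pullback.fst gX fY) := by
    refine IsPullback.of_bot ?_ ha1.symm (IsPullback.of_hasPullback gX fY)
    rw [hp, ha2]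
    exact IsPullback.of_hasPullback fX fY
  have sqb : IsPullback (pullback.snd gX fY) b q (pullback.snd gX gY) := by
    refine IsPullback.of_bot ?_ hb2.symm (IsPullback.of_hasPullback gX gY).flip
    rw [hq, hb1]
    exact (IsPullback.of_hasPullback gX fY).flip
  haveI : Flat (pullback.fst gX fY) := MorphismProperty.pullback_fst _ _ ‹Flat fY›
  haveI : Flat (pullback.snd gX gY) := MorphismProperty.pullback_snd _ _ ‹Flat gX›
  have hab : π = a ≫ b := by
    apply pullback.hom_ext
    · rw [Category.assoc, hπ1, hb1, ha1]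
    · rw [Category.assoc, hπ2, hb2, reassoc_of% ha2]
  rw [hab]
  refine isQuot_comp θ (actSnd gX fY σ hσ) a b
    (Groth.Agent.Lib.SchQuot.FlatBaseChange.isQuot_baseChange hP sqa _ (fun g => hθ1 (g, 1))
      fun g => ?_)
    (Groth.Agent.Lib.SchQuot.FlatBaseChange.isQuot_baseChange hQ sqb _
      (fun h => actSnd_snd gX fY σ hσ h) fun h => ?_)
    fun h => ?_
  · apply pullback.hom_ext
    · rw [Category.assoc, ha1]
      refine (Category.assoc _ _ _).symm.trans ((congrArg (· ≫ p) (hθ1 (g, 1))).trans ?_)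
      exact (Category.assoc _ _ _).trans (congrArg (_ ≫ ·) (hP.inv g))
    · rw [Category.assoc, ha2]
      refine (hθ2 (g, 1)).trans ?_
      show _ ≫ (σ 1).hom = _
      rw [map_one]
      exact Category.comp_id _
  · apply pullback.hom_ext
    · rw [Category.assoc, hb1, actSnd_fst]
    · rw [Category.assoc, hb2, reassoc_of% (actSnd_snd gX fY σ hσ h), hQ.inv]
  · apply pullback.hom_ext
    · rw [Category.assoc, Category.assoc, ha1, actSnd_fst, ha1, reassoc_of% (hθ1 (1, h))]
      show _ ≫ (ρ 1).hom ≫ p = _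
      rw [map_one]
      exact congrArg (pullback.fst fX fY ≫ ·) (Category.id_comp p)
    · rw [Category.assoc, Category.assoc, ha2, actSnd_snd, reassoc_of% ha2]
      exact hθ2 (1, h)

end Groth.Agent.S13079
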