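import Groth.Statements.S13080
import Mathlib.AlgebraicGeometry.Morphisms.ClosedImmersion
import Mathlib.AlgebraicGeometry.Morphisms.Affine

set_option autoImplicit false
universe u
open CategoryTheory AlgebraicGeometry Limits
open Zeta

namespace Groth.Agent.S13080

open Scheme in
/-- Pullback of sections along equal morphisms. -/
theorem appLE_congr_hom {A B : Scheme.{u}} {f g : A ⟶ B} (e : f = g) (U : B.Opens) (V : A.Opens)
    (h : V ≤ f ⁻¹ᵁ U) (x : Γ(B, U)) : f.appLE U V h x = g.appLE U V (e ▸ h) x := by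
  subst e; rfl

theorem appLE_appLE {A B C : Scheme.{u}} (f : A ⟶ B) (g : B ⟶ C) (U : C.Opens) (V : B.Opens) (W : A.Opens)
    (hV : V ≤ g ⁻¹ᵁ U) (hW : W ≤ f ⁻¹ᵁ V) (x : Γ(C, U)) :
    f.appLE V W hW (g.appLE U V hV x) =
      (f ≫ g).appLE U W (hW.trans (fun _ ha => hV ha)) x := by
  rw [← Scheme.Hom.appLE_comp_appLE f g U V W hV hW]
  rfl

theorem appLE_res {A B : Scheme.{u}} (f : A ⟶ B) {U U' : B.Opens} (i : U' ≤ U) (V : A.Opens)
    (h : V ≤ f ⁻¹ᵁ U') (x : Γ(B, U)) :
    f.appLE U' V h (B.presheaf.map (homOfLE i).op x) = f.appLE U V (h.trans (fun _ ha => i ha)) x := by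
  rw [← CommRingCat.comp_apply, Scheme.Hom.map_appLE]

theorem app_appLE {A B C : Scheme.{u}} {f : A ⟶ B} {g : B ⟶ C} {fg : A ⟶ C} (e : f ≫ g = fg) (U : C.Opens)
    (W : A.Opens) (hW : W ≤ f ⁻¹ᵁ (g ⁻¹ᵁ U)) (hW' : W ≤ fg ⁻¹ᵁ U) (x : Γ(C, U)) :
    f.appLE (g ⁻¹ᵁ U) W hW (g.app U x) = fg.appLE U W hW' x := by
  subst e
  rw [Scheme.Hom.app_eq_appLE, appLE_appLE]

/-- Sections on part of the image of an open immersion are determined by their pullback. -/
theorem appLE_injective {A B : Scheme.{u}} (j : A ⟶ B) [IsOpenImmersion j] (W : B.Opens) (W' : A.Opens)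
    (hW : W ≤ j.opensRange) (hW' : W' = j ⁻¹ᵁ W) :
    Function.Injective (j.appLE W W' hW'.le) := by
  subst hW'
  have := j.isIso_app W hW
  intro a b h
  rw [Scheme.Hom.appLE, ] at h
  simp only [homOfLE_refl, op_id, CategoryTheory.Functor.map_id, Category.comp_id] at h
  exact (ConcreteCategory.bijective_of_isIso (j.app W)).1 h

/-- Let G be a finite group acting by algebraic automorphisms over k on a scheme X of finite type over k
admitting a quotient p : X → X/G, H ⊆ G a subgroup and Y ⊆ X an open subset preserved by H such that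
X is the disjoint union of the translates Y g over the cosets of G mod H. Then the natural morphism
Y/H → X/G is an isomorphism: Y → X/G is a quotient of Y by H. The action of H on Y is pinned by
compatibility with the inclusion Y → X; the coset condition is stated as: the translates of Y cover
X, and g(Y) is disjoint from Y for g ∉ H. -/
theorem result {k : Type u} [Field k] {G : Type u} [Group G]
    [Finite G] {X XG : Scheme.{u}} (fX : X ⟶ Spec (CommRingCat.of k)) [LocallyOfFiniteType fX]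
    [QuasiCompact fX] (ρ : G →* Aut X) (hρ : ∀ g, (ρ g).hom ≫ fX = fX) (p : X ⟶ XG)
    (hP : SGA1.IsQuot ρ p) (H : Subgroup G) (Y : X.Opens)
    (hcov : ∀ x : X, ∃ g : G, x ∈ (ρ g).hom.base '' (Y : Set X))
    (hdisj : ∀ g : G, g ∉ H → Disjoint ((ρ g).hom.base '' (Y : Set X)) (Y : Set X))
    (ρY : H →* Aut (Y : Scheme.{u})) (hρY : ∀ h : H, (ρY h).hom ≫ Y.ι = Y.ι ≫ (ρ (h : G)).hom) :
    SGA1.IsQuot ρY (Y.ι ≫ p) := by
  let j : G → ((Y : Scheme.{u}) ⟶ X) := fun g => Y.ι ≫ (ρ g).hom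
  have hjo : ∀ g, IsOpenImmersion (j g) := fun g => by
    have : IsIso (ρ g).hom := Iso.isIso_hom (ρ g)
    exact inferInstanceAs (IsOpenImmersion (Y.ι ≫ (ρ g).hom))
  have hjr : ∀ g, Set.range (j g) = (ρ g).hom.base '' (Y : Set X) := fun g => by
    rw [show ⇑(j g) = (ρ g).hom.base ∘ Y.ι.base from rfl, Set.range_comp, Scheme.Opens.range_ι]
  have hmul : ∀ a g, j g ≫ (ρ a).hom = j (a * g) := fun a g => by
    simp only [j, map_mul, Category.assoc]; rfl
  have hjp : ∀ g, j g ≫ p = Y.ι ≫ p := fun g => by simp [j, hP.inv g]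
  have hH : ∀ h : H, ∀ g, (ρY h).hom ≫ j g = j (g * h) := fun h g => by
    simp only [j, map_mul, ← Category.assoc, hρY h]; rfl
  -- two translates meet only when they agree up to `H`
  have hmeet : ∀ g g', ∀ x, x ∈ Set.range (j g) → x ∈ Set.range (j g') → g⁻¹ * g' ∈ H := fun g g' x hx hx' => by
    by_contra hn
    rw [hjr] at hx hx'
    obtain ⟨y, hy, rfl⟩ := hx
    obtain ⟨y', hy', e⟩ := hx'
    refine Set.disjoint_left.1 (hdisj _ hn) ⟨y', hy', rfl⟩ ?_
    have h1 : (ρ (g⁻¹ * g')).hom.base y' = (ρ g⁻¹).hom.base ((ρ g').hom.base y') := by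
      rw [map_mul, ← Scheme.Hom.comp_apply]; rfl
    rw [h1, e, ← Scheme.Hom.comp_apply,
      show (ρ g).hom ≫ (ρ g⁻¹).hom = 𝟙 X by rw [map_inv]; exact (ρ g).hom_inv_id]
    simpa using hy
  -- `Y` is clopen
  have : IsClosedImmersion Y.ι := by
    refine .of_isPreimmersion _ ?_
    rw [Scheme.Opens.range_ι, ← isOpen_compl_iff]
    have : (Y : Set X)ᶜ = ⋃ g : {g : G // g ∉ H}, Set.range (j g) := by
      refine Set.ext fun x => ⟨fun hx => ?_, fun hx => ?_⟩
      · obtain ⟨g, hg⟩ := hcov x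
        refine Set.mem_iUnion.2 ⟨⟨g, fun hgH => hx ?_⟩, by rw [hjr]; exact hg⟩
        obtain ⟨y, hy, rfl⟩ := hg
        have := congrArg (fun f => f.base (⟨y, hy⟩ : Y)) (hρY ⟨g, hgH⟩)
        have h2 : Y.ι ((ρY ⟨g, hgH⟩).hom ⟨y, hy⟩) = (ρ g).hom y := this
        rw [← h2]
        exact ((ρY ⟨g, hgH⟩).hom ⟨y, hy⟩).2
      · obtain ⟨g, hg⟩ := Set.mem_iUnion.1 hx
        rw [hjr] at hg
        exact Set.disjoint_left.1 (hdisj g g.2) hg
    rw [this]
    exact isOpen_iUnion fun g => (j g).isOpenEmbedding.isOpen_range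
  have := hP.affine
  refine ⟨inferInstance, fun h => by rw [← Category.assoc, hρY h, Category.assoc, hP.inv], ?_, ?_⟩
  · intro U a b hab
    apply hP.injective U
    refine X.sheaf.eq_of_locally_eq' (fun g => (j g).opensRange ⊓ p ⁻¹ᵁ U) _ (fun g => homOfLE inf_le_right)
      (fun x hx => ?_) _ _ fun g => ?_
    · obtain ⟨g, hg⟩ := hcov x
      exact TopologicalSpace.Opens.mem_iSup.2 ⟨g, show x ∈ Set.range (j g) by rw [hjr]; exact hg, hx⟩
    · refine appLE_injective (j g) _ ((Y.ι ≫ p) ⁻¹ᵁ U) inf_le_left ?_ ?_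
      · rw [Scheme.Hom.preimage_inf, ← Scheme.Hom.comp_preimage, hjp]
        simp
      · change (j g).appLE _ _ _ (X.presheaf.map _ (p.app U a)) = (j g).appLE _ _ _ (X.presheaf.map _ (p.app U b))
        rw [appLE_res, appLE_res, app_appLE (hjp g) U _ _ le_rfl, app_appLE (hjp g) U _ _ le_rfl,
          ← Scheme.Hom.app_eq_appLE]
        exact hab
  · intro U s
    have hinvY : ∀ h : H, (ρY h).hom ≫ Y.ι ≫ p = Y.ι ≫ p := fun h => by
      rw [← Category.assoc, hρY h, Category.assoc, hP.inv]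
    constructor
    · rintro ⟨a, rfl⟩ h
      rw [Scheme.Hom.app_eq_appLE, ← CommRingCat.comp_apply, Scheme.Hom.appLE_comp_appLE,
        appLE_congr_hom (hinvY h)]
    intro hs
    have hpre : ∀ g, (j g) ⁻¹ᵁ ((j g).opensRange ⊓ p ⁻¹ᵁ U) = (Y.ι ≫ p) ⁻¹ᵁ U := fun g => by
      rw [Scheme.Hom.preimage_inf, ← Scheme.Hom.comp_preimage, hjp]
      simp
    let W : G → X.Opens := fun g => (j g).opensRange ⊓ p ⁻¹ᵁ U
    have hbij : ∀ g, ∃ t : Γ(X, W g), (j g).appLE (W g) ((Y.ι ≫ p) ⁻¹ᵁ U) (hpre g).ge t = s := fun g => by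
      have := (j g).isIso_app (W g) inf_le_left
      have : IsIso (X := Γ(X, W g)) ((j g).appLE (W g) ((Y.ι ≫ p) ⁻¹ᵁ U) (hpre g).ge) := by
        rw [Scheme.Hom.appLE]
        have : IsIso ((Y : Scheme.{u}).presheaf.map (homOfLE (hpre g).ge).op) := by
          have : IsIso (homOfLE (hpre g).ge) := ⟨homOfLE (hpre g).le, Subsingleton.elim _ _, Subsingleton.elim _ _⟩
          infer_instance
        infer_instance
      exact (ConcreteCategory.bijective_of_isIso ((j g).appLE (W g) ((Y.ι ≫ p) ⁻¹ᵁ U) (hpre g).ge)).2 s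
    choose t ht using hbij
    have hcover : p ⁻¹ᵁ U ≤ iSup W := fun x hx => by
      obtain ⟨g, hg⟩ := hcov x
      exact TopologicalSpace.Opens.mem_iSup.2 ⟨g, show x ∈ Set.range (j g) by rw [hjr]; exact hg, hx⟩
    -- the value on the translate by `g` pulled back along any compatible translate
    have hagree : ∀ g g' (e : g⁻¹ * g' ∈ H) (V : (Y : Scheme.{u}).Opens) (hV : V ≤ (Y.ι ≫ p) ⁻¹ᵁ U)
        (hV' : V ≤ (j g') ⁻¹ᵁ W g), (j g').appLE (W g) V hV' (t g) =
        (Y : Scheme.{u}).presheaf.map (homOfLE hV).op s := by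
      intro g g' e V hV hV'
      have e1 : (ρY ⟨_, e⟩).hom ≫ j g = j g' := by rw [hH]; congr 1; exact mul_inv_cancel_left g g'
      have hle : (Y.ι ≫ p) ⁻¹ᵁ U ≤ (ρY ⟨_, e⟩).hom ⁻¹ᵁ ((Y.ι ≫ p) ⁻¹ᵁ U) := by
        rw [← Scheme.Hom.comp_preimage, hinvY]
      have h2 : (ρY ⟨_, e⟩).hom.appLE _ _ hle ((j g).appLE (W g) ((Y.ι ≫ p) ⁻¹ᵁ U) (hpre g).ge (t g)) = s := by
        rw [ht g]; exact hs ⟨_, e⟩
      rw [appLE_appLE, appLE_congr_hom e1] at h2
      rw [← h2, ← CommRingCat.comp_apply, Scheme.Hom.appLE_map]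
    obtain ⟨T, hT, -⟩ := X.sheaf.existsUnique_gluing' W (p ⁻¹ᵁ U) (fun g => homOfLE inf_le_right) hcover t (by
      intro g g'
      refine X.sheaf.eq_of_locally_eq' (fun _ : PUnit.{u+1} => W g ⊓ W g') _ (fun _ => 𝟙 _) (le_iSup_of_le PUnit.unit le_rfl) _ _ fun _ => ?_
      change X.presheaf.map _ (X.presheaf.map _ (t g)) = X.presheaf.map _ (X.presheaf.map _ (t g'))
      rw [← CommRingCat.comp_apply, ← CommRingCat.comp_apply, ← Functor.map_comp, ← Functor.map_comp]
      by_cases e : g⁻¹ * g' ∈ H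
      · refine appLE_injective (j g') _ _ (inf_le_right.trans inf_le_left) rfl ?_
        rw [← CommRingCat.comp_apply, ← CommRingCat.comp_apply, Scheme.Hom.map_appLE, Scheme.Hom.map_appLE,
          hagree g g' e, hagree g' g' (by simp)]
        · exact fun x hx => (hpre g').le hx.2
      · have hempty : W g ⊓ W g' = ⊥ := by
          rw [eq_bot_iff]
          intro x hx
          exact (e (hmeet g g' x hx.1.1 hx.2.1)).elim
        have : Subsingleton Γ(X, W g ⊓ W g') := by rw [hempty]; infer_instance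
        exact Subsingleton.elim _ _)
    obtain ⟨a, ha⟩ := (hP.range_iff U T).2 fun c => by
      refine X.sheaf.eq_of_locally_eq' W _ (fun g => homOfLE inf_le_right) hcover _ _ fun g => ?_
      refine appLE_injective (j g) _ _ inf_le_left (hpre g).symm ?_
      change (j g).appLE _ _ _ (X.presheaf.map _ _) = (j g).appLE _ _ _ (X.presheaf.map _ _)
      rw [appLE_res]
      refine (appLE_appLE (j g) (ρ c).hom _ _ _ _ _ T).trans ?_
      refine (appLE_congr_hom (hmul c g) _ _ _ T).trans ?_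
      have h1 : X.presheaf.map (homOfLE inf_le_right).op T = t (c * g) := hT (c * g)
      have h2 : X.presheaf.map (homOfLE inf_le_right).op T = t g := hT g
      have a1 := ht (c * g)
      have a2 := ht g
      rw [← h1] at a1
      rw [← h2] at a2
      exact (((appLE_res (j (c * g)) inf_le_right _ _ T).symm.trans a1).trans a2.symm)
    refine ⟨a, ?_⟩
    have h1 : X.presheaf.map (homOfLE inf_le_right).op T = t 1 := hT 1
    have a1 := ht 1
    rw [← h1] at a1
    replace a1 := (appLE_res (j 1) inf_le_right _ _ T).symm.trans a1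
    rw [← ha] at a1
    replace a1 := (app_appLE (hjp 1) U _ _ le_rfl a).symm.trans a1
    rw [Scheme.Hom.app_eq_appLE]
    exact a1

end Groth.Agent.S13080
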