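import Groth.Statements.S13081
import Groth.Agent.Lib.SchQuot.Props

set_option autoImplicit false
universe u
open CategoryTheory AlgebraicGeometry Limits
open Zeta

namespace Groth.Agent.S13081

/-- Let G be a finite group acting by algebraic automorphisms over k on a scheme X of finite type over k
admitting a quotient X → X/G, and H a normal subgroup of G. Then X/H carries an induced action of
G/H and its quotient by this action is X/G: the induced morphism r : X/H → X/G is a quotient of X/H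
by G/H. The induced action ρ̄ is pinned by p_H ≫ ρ̄(q) = ρ(g) ≫ p_H and r by p_H ≫ r = p. -/
theorem result {k : Type u} [Field k] {G : Type u} [Group G]
    [Finite G] {X XG XH : Scheme.{u}} (fX : X ⟶ Spec (CommRingCat.of k)) [LocallyOfFiniteType fX]
    [QuasiCompact fX] (ρ : G →* Aut X) (hρ : ∀ g, (ρ g).hom ≫ fX = fX) (p : X ⟶ XG)
    (hP : SGA1.IsQuot ρ p) (H : Subgroup G) [H.Normal] (pH : X ⟶ XH)
    (hPH : SGA1.IsQuot (ρ.comp H.subtype) pH) (ρbar : G ⧸ H →* Aut XH)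
    (hρbar : ∀ g : G, pH ≫ (ρbar (QuotientGroup.mk g)).hom = (ρ g).hom ≫ pH)
    (r : XH ⟶ XG) (hr : pH ≫ r = p) :
    SGA1.IsQuot ρbar r := by
  have hinv : ∀ q : G ⧸ H, (ρbar q).hom ≫ r = r := by
    intro q
    obtain ⟨g, rfl⟩ := QuotientGroup.mk_surjective q
    refine (Lib.SchQuot.IsQuot.existsUnique_desc hPH (pH ≫ r) (fun h => ?_)).unique ?_ rfl
    · rw [← Category.assoc, hPH.inv]
    · rw [← Category.assoc, hρbar, Category.assoc, hr, hP.inv]
  subst hr
  refine ⟨Lib.SchQuot.Props.isAffineHom_of_comp hPH r hP.affine, hinv, fun U a b hab => ?_,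
    fun U s => ⟨?_, fun hs => ?_⟩⟩
  · refine hP.injective U ?_
    rw [Scheme.Hom.comp_app]
    exact congrArg (pH.app (r ⁻¹ᵁ U)) hab
  · rintro ⟨t, rfl⟩ g
    rw [Scheme.Hom.app_eq_appLE, ← CommRingCat.comp_apply, Scheme.Hom.appLE_comp_appLE]
    simp only [hinv g]
  · refine Exists.elim ((hP.range_iff U (pH.app (r ⁻¹ᵁ U) s)).mpr fun g => ?_) fun t ht => ?_
    · have h1 := hs (QuotientGroup.mk g)
      rw [Scheme.Hom.app_eq_appLE]
      have e1 : (ρ g).hom ≫ pH = pH ≫ (ρbar (QuotientGroup.mk g)).hom := (hρbar g).symm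
      show ((ρ g).hom.appLE (pH ⁻¹ᵁ (r ⁻¹ᵁ U)) (pH ⁻¹ᵁ (r ⁻¹ᵁ U)) _) (pH.appLE _ _ le_rfl s) = _
      erw [← CommRingCat.comp_apply, Scheme.Hom.appLE_comp_appLE]
      simp only [e1]
      rw [← Scheme.Hom.appLE_comp_appLE _ _ (r ⁻¹ᵁ U) (r ⁻¹ᵁ U) _
        (SGA1.preimage_le_of_inv ρbar r hinv _ U) le_rfl, CommRingCat.comp_apply]
      exact congrArg _ h1
    · refine ⟨t, hPH.injective _ ?_⟩
      rw [← ht, Scheme.Hom.comp_app]; rfl

end Groth.Agent.S13081
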