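import Groth.Statements.S13082
import Groth.Agent.Lib.Zeta.QuotPoints

set_option autoImplicit false
universe u
open CategoryTheory AlgebraicGeometry Limits
open Zeta

namespace Groth.Agent.S13082

/-- Let X be a scheme of finite type over k with an action of a finite group G by algebraic
automorphisms over k admitting a quotient π : X → X/G, and W a locally closed subscheme of X on
which G induces an action. Then the canonical morphism W/G → π(W) is radicial and surjective: the
induced morphism φ : W/G → X/G is universally injective with set-theoretic image π(W). The action on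
W is pinned along the immersion j : W → X, φ by p_W ≫ φ = j ≫ π for a quotient p_W : W → W/G. -/
theorem result {k : Type u} [Field k] {G : Type u}
    [Group G] [Finite G] {X XG W WG : Scheme.{u}} (fX : X ⟶ Spec (CommRingCat.of k))
    [LocallyOfFiniteType fX] [QuasiCompact fX] (ρ : G →* Aut X) (hρ : ∀ g, (ρ g).hom ≫ fX = fX)
    (p : X ⟶ XG) (hP : SGA1.IsQuot ρ p) (j : W ⟶ X) [IsImmersion j] (ρW : G →* Aut W)
    (hρW : ∀ g, (ρW g).hom ≫ j = j ≫ (ρ g).hom) (pW : W ⟶ WG) (hPW : SGA1.IsQuot ρW pW)
    (φ : WG ⟶ XG) (hφ : pW ≫ φ = j ≫ p) :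
    UniversallyInjective φ ∧ Set.range φ.base = p.base '' Set.range j.base := by
  refine ⟨((tfae_universallyInjective φ).out 0 1).mpr ?_, ?_⟩
  · intro K _ g₁ g₂ hg
    obtain ⟨w₁, h₁⟩ := Lib.Zeta.QuotPoints.exists_lift hPW g₁
    obtain ⟨w₂, h₂⟩ := Lib.Zeta.QuotPoints.exists_lift hPW g₂
    set ι := Spec.map (CommRingCat.ofHom (algebraMap K (AlgebraicClosure K)))
    have hw : (w₁ ≫ j) ≫ p = (w₂ ≫ j) ≫ p := by
      rw [Category.assoc, Category.assoc, ← hφ, reassoc_of% h₁, reassoc_of% h₂]
      exact congrArg (ι ≫ ·) hg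
    obtain ⟨g, hgw⟩ := Lib.Zeta.QuotPoints.exists_smul_of_comp_eq hP (w₁ ≫ j) (w₂ ≫ j) hw
    rw [Category.assoc, ← hρW, ← Category.assoc, cancel_mono] at hgw
    have hι : ι ≫ g₁ = ι ≫ g₂ := by rw [← h₁, ← h₂, ← hgw, Category.assoc, hPW.inv]
    refine Lib.PointDim.Residue.hom_ext_field _ (algebraMap K (AlgebraicClosure K)).injective g₁ g₂
      ?_ hι
    have := congr($hι (IsLocalRing.closedPoint (AlgebraicClosure K)))
    simp only [Scheme.Hom.comp_apply] at this
    rwa [Subsingleton.elim (IsLocalRing.closedPoint K)]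
  · rw [← Set.range_comp, ← (Lib.SchQuot.IsQuot.surjective hPW).range_comp]
    exact congrArg (fun f : W ⟶ XG => Set.range f.base) hφ

end Groth.Agent.S13082
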