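import Groth.Statements.S13083
import Groth.Agent.Lib.Zeta.ZeroCycle

set_option autoImplicit false
universe u
open CategoryTheory AlgebraicGeometry Limits
open Zeta

namespace Groth.Agent.S13083
set_option backward.isDefEq.respectTransparency false
open Groth.Agent.Lib.Zeta

/-- Let X be a variety over a perfect field k, k̄ an algebraic closure and π : X_{k̄} → X the
projection. Sending a closed point x to the sum of the points of π⁻¹(x) induces a bijection between
effective 0-cycles of degree n on X and effective 0-cycles of degree n on X_{k̄} fixed by G(k̄/k).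
Stated for schemes of finite type over k, with 0-cycles as finitely supported ℕ-valued functions on
closed points, the degree on X weighted by the residue degrees [κ(x) : k], the map being c ↦ c ∘ π,
and the Galois automorphisms τ_σ = id × Spec σ pinned by their projections. -/
theorem result {k : Type u} [Field k]
    [PerfectField k] {X : Scheme.{u}} (f : X ⟶ Spec (CommRingCat.of k)) [LocallyOfFiniteType f]
    [QuasiCompact f]
    (τ : (AlgebraicClosure k ≃ₐ[k] AlgebraicClosure k) →
      (pullback f (Spec.map (CommRingCat.ofHom (algebraMap k (AlgebraicClosure k)))) ⟶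
        pullback f (Spec.map (CommRingCat.ofHom (algebraMap k (AlgebraicClosure k))))))
    (hτ1 : ∀ σ, τ σ ≫ pullback.fst f _ = pullback.fst f _)
    (hτ2 : ∀ σ, τ σ ≫ pullback.snd f (Spec.map (CommRingCat.ofHom (algebraMap k (AlgebraicClosure k)))) =
        pullback.snd f _ ≫ Spec.map (CommRingCat.ofHom (σ : AlgebraicClosure k →+* AlgebraicClosure k)))
    (n : ℕ) :
    Set.BijOn
      (fun c : X → ℕ => c ∘ (pullback.fst f (Spec.map (CommRingCat.ofHom
        (algebraMap k (AlgebraicClosure k))))).base)
      {c : X → ℕ | (Function.support c).Finite ∧ (∀ x, c x ≠ 0 → IsClosed ({x} : Set X)) ∧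
        ∑ᶠ x, c x * EGA4loc.residueDegree f x = n}
      {d : ↑(pullback f (Spec.map (CommRingCat.ofHom (algebraMap k (AlgebraicClosure k))))) → ℕ |
        (Function.support d).Finite ∧ (∀ y, d y ≠ 0 → IsClosed ({y} : Set _)) ∧
        ∑ᶠ y, d y = n ∧ ∀ σ y, d ((τ σ).base y) = d y} := by
  classical
  set π := pullback.fst f (Spec.map (CommRingCat.ofHom (algebraMap k (AlgebraicClosure k)))) with hπ
  have hsurj : Function.Surjective π.base := ZeroCycle.surjective_extπ (AlgebraicClosure k)
  have hclosed : IsClosedMap π.base := ZeroCycle.isClosedMap_extπ (AlgebraicClosure k)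
  have hpt : ∀ y, IsClosed ({π.base y} : Set X) ↔ IsClosed ({y} : Set _) := fun y =>
    ⟨fun h => ZeroCycle.isClosed_of_isClosed_image (AlgebraicClosure k) h,
      fun h => by rw [← Set.image_singleton]; exact hclosed _ h⟩
  have hfib : ∀ x : X, IsClosed ({x} : Set X) →
      (π.base ⁻¹' {x}).Finite ∧ (π.base ⁻¹' {x}).ncard = EGA4loc.residueDegree f x :=
    fun x hx => ZeroCycle.finite_fibre_ncard f (AlgebraicClosure k) hx
  -- degrees
  have hdeg : ∀ c : X → ℕ, (Function.support c).Finite → (∀ x, c x ≠ 0 → IsClosed ({x} : Set X)) →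
      (Function.support (c ∘ π.base)).Finite ∧
        ∑ᶠ y, (c ∘ π.base) y = ∑ᶠ x, c x * EGA4loc.residueDegree f x := by
    intro c hc hcl
    have hsupp : Function.support (c ∘ π.base) =
        ⋃ x ∈ Function.support c, π.base ⁻¹' {x} := by
      ext y; simp
    refine ⟨by rw [hsupp]; exact hc.biUnion fun x hx => (hfib x (hcl x hx)).1, ?_⟩
    rw [← finsum_mem_support, hsupp,
      finsum_mem_biUnion (fun a _ b _ hab => (Set.disjoint_singleton.mpr hab).preimage _) hc
        fun x hx => (hfib x (hcl x hx)).1,
      finsum_mem_def]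
    refine finsum_congr fun x => ?_
    rw [Set.indicator_apply]
    split_ifs with hx
    · obtain ⟨hf, hn⟩ := hfib x (hcl x hx)
      rw [finsum_mem_eq_finite_toFinset_sum _ hf,
        Finset.sum_congr rfl (g := fun _ => c x) fun y hy => by
          simp only [Set.Finite.mem_toFinset, Set.mem_preimage, Set.mem_singleton_iff] at hy
          simp [hy], Finset.sum_const, smul_eq_mul, mul_comm, ← Set.ncard_eq_toFinset_card _ hf, hn]
    · simp [Function.notMem_support.mp hx]
  refine ⟨?_, ?_, ?_⟩
  · rintro c ⟨hc, hcl, hn⟩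
    obtain ⟨h1, h2⟩ := hdeg c hc hcl
    refine ⟨h1, fun y hy => (hpt y).mp (hcl _ hy), h2.trans hn, fun σ y => ?_⟩
    show c (π.base ((τ σ).base y)) = c (π.base y)
    rw [← Scheme.Hom.comp_apply, hτ1]
  · intro a _ b _ hab
    funext x
    obtain ⟨y, rfl⟩ := hsurj x
    exact congrFun hab y
  · rintro d ⟨hd, hdcl, hn, hinv⟩
    let c : X → ℕ := fun x => d (hsurj x).choose
    have hcd : c ∘ π.base = d := by
      funext y
      show d (hsurj (π.base y)).choose = d y
      generalize hz : (hsurj (π.base y)).choose = z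
      have hzy : π.base z = π.base y := hz ▸ (hsurj (π.base y)).choose_spec
      obtain ⟨σ, hσ⟩ := GaloisFibre.exists_aut τ hτ1 hτ2 (x := z) (y := y) hzy
      rw [← hσ]
      exact (hinv σ z).symm
    have hcl : ∀ x, c x ≠ 0 → IsClosed ({x} : Set X) := fun x hx => by
      rw [← (hsurj x).choose_spec]
      exact (hpt _).mpr (hdcl _ hx)
    have hc : (Function.support c).Finite :=
      (hd.image π.base).subset fun x hx => ⟨(hsurj x).choose, hx, (hsurj x).choose_spec⟩
    refine ⟨c, ⟨hc, hcl, ?_⟩, hcd⟩
    rw [← (hdeg c hc hcl).2, hcd, hn]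

end Groth.Agent.S13083
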