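import Groth.Statements.S13087
import Groth.Agent.Lib.Lie3.Basic
open MvPolynomial

set_option autoImplicit false
universe u
open Lie3Mod

namespace Groth.Agent.S13087

/-- Let A be a nontrivial commutative ring and D = A[a,b,c,d,e,f,g,h,i] the polynomial ring in nine
variables. Then the linear forms a − i, b + f, d + h form a regular sequence on D, and so do the
three Jacobi polynomials Q1 = ah + di − fg − bg, Q2 = ie + bd − fh − ae, Q3 = hc + dc − af − bi
(each term is a non-zero-divisor on the quotient of D by the preceding terms, and the quotient by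
all three is non-zero). (The published statement is made with a regular base ring in force; the
printed argument does not use that hypothesis, and the statement is given here over every nontrivial
commutative base ring.) -/
theorem result (A : Type u) [CommRing A] [Nontrivial A] :
    RingTheory.Sequence.IsRegular (Lie3Mod.D A) [Lie3Mod.L1 A, Lie3Mod.L2 A, Lie3Mod.L3 A] ∧
      RingTheory.Sequence.IsRegular (Lie3Mod.D A) [Lie3Mod.Q1 A, Lie3Mod.Q2 A, Lie3Mod.Q3 A] := by
  open Groth.Agent.Lib.Lie3.Basic in
  open Groth.Agent.Lib.Lie3.Core in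
  classical
  let φ := Groth.Agent.Lib.Lie3.Basic.φ (A := A)
  have key : ∀ x y z : Lie3Mod.D A, RingTheory.Sequence.IsWeaklyRegular (Lie3Mod.D A) [φ x, φ y, φ z] →
      aeval (fun _ => (0 : A)) x = 0 → aeval (fun _ => (0 : A)) y = 0 → aeval (fun _ => (0 : A)) z = 0 →
      RingTheory.Sequence.IsRegular (Lie3Mod.D A) [x, y, z] := by
    intro x y z h hx hy hz
    refine ⟨?_, ?_⟩
    · refine (AddEquiv.isWeaklyRegular_congr (e := φ.toRingEquiv.toAddEquiv) ?_).mpr h
      simp
    · intro e
      have : Ideal.ofList [x, y, z] ≤ RingHom.ker (aeval (fun _ => (0 : A)) : Lie3Mod.D A →ₐ[A] A) := by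
        rw [Ideal.span_le]; intro w hw; simp at hw; rcases hw with rfl | rfl | rfl <;> assumption
      have h1 : (1 : Lie3Mod.D A) ∈ Ideal.ofList [x, y, z] := by
        have : (1 : Lie3Mod.D A) ∈ (⊤ : Submodule (Lie3Mod.D A) (Lie3Mod.D A)) := trivial
        rw [e] at this; simpa using this
      simpa using this h1
  constructor
  · apply key
    · simp only [φ, φ_L1, φ_L2, φ_L3]; exact regular_X
    all_goals simp [Lie3Mod.L1, Lie3Mod.L2, Lie3Mod.L3]
  · apply key
    · simp only [φ, φ_Q1, φ_Q2, φ_Q3]; exact regular_P
    all_goals simp [Lie3Mod.Q1, Lie3Mod.Q2, Lie3Mod.Q3]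

end Groth.Agent.S13087
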