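import Groth.Statements.S13094
import Groth.Agent.Lib.Lie3.Basic
import Mathlib.RingTheory.Flat.TorsionFree

set_option autoImplicit false
open Lie3Mod

namespace Groth.Agent.S13094

open MvPolynomial in
theorem notMem_int {J : Ideal (Lie3Mod.D ℤ)} (h : J ≤ RingHom.ker (aeval (fun _ => (0 : ℤ)) :
    Lie3Mod.D ℤ →ₐ[ℤ] ℤ)) {n : ℤ} (hn : n ≠ 0) : (n : Lie3Mod.D ℤ) ∉ J := by
  intro hm
  have := h hm
  simp [hn] at this

open MvPolynomial in
theorem le_ker : Lie3Mod.idJ ℤ ≤ RingHom.ker (aeval (fun _ => (0 : ℤ)) : Lie3Mod.D ℤ →ₐ[ℤ] ℤ) := by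
  rw [Lie3Mod.idJ, Ideal.span_le]
  simp only [Set.insert_subset_iff, Set.singleton_subset_iff, SetLike.mem_coe]
  simp [Lie3Mod.Q1, Lie3Mod.Q2, Lie3Mod.Q3, Lie3Mod.detM]

/-- The second component of the moduli scheme of based three-dimensional Lie algebras is flat over the
integers: the ring Z[a,b,c,d,e,f,g,h,i]/J, where J = (Q1, Q2, Q3, det M) with Q1 = ah + di − fg −
bg, Q2 = ie + bd − fh − ae, Q3 = hc + dc − af − bi and det M = −ch² + gbf + ei² − gec + hbi − ihf,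
is a flat Z-module. -/
theorem result :
    Module.Flat ℤ (Lie3Mod.D ℤ ⧸ Lie3Mod.idJ ℤ) := by
  have : Module.IsTorsionFree ℤ (Lie3Mod.D ℤ ⧸ Lie3Mod.idJ ℤ) := by
    constructor
    intro n hn a c hac
    have hn0 : n ≠ 0 := hn.ne_zero
    obtain ⟨a, rfl⟩ := Ideal.Quotient.mk_surjective a
    obtain ⟨c, rfl⟩ := Ideal.Quotient.mk_surjective c
    simp only [zsmul_eq_mul, ← map_intCast (Ideal.Quotient.mk (Lie3Mod.idJ ℤ)), ← map_mul,
      Ideal.Quotient.eq, ← mul_sub] at hac ⊢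
    exact ((Groth.Agent.Lib.Lie3.Basic.idJ_isPrime (A := ℤ)).mem_or_mem hac).resolve_left (notMem_int le_ker hn0)
  exact IsDedekindDomain.flat_iff_torsion_eq_bot.mpr (Submodule.isTorsionFree_iff_torsion_eq_bot.mp this)

end Groth.Agent.S13094
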