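import Groth.Statements.S13095
import Groth.Agent.Lib.Lie3.Basic
import Mathlib.RingTheory.Flat.TorsionFree

set_option autoImplicit false
open Lie3Mod

namespace Groth.Agent.S13095

open MvPolynomial in
theorem notMem_int {J : Ideal (Lie3Mod.D ℤ)} (h : J ≤ RingHom.ker (aeval (fun _ => (0 : ℤ)) :
    Lie3Mod.D ℤ →ₐ[ℤ] ℤ)) {n : ℤ} (hn : n ≠ 0) : (n : Lie3Mod.D ℤ) ∉ J := by
  intro hm
  have := h hm
  simp [hn] at this

open MvPolynomial in
theorem le_kerJ : Lie3Mod.idJ ℤ ≤ RingHom.ker (aeval (fun _ => (0 : ℤ)) : Lie3Mod.D ℤ →ₐ[ℤ] ℤ) := by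
  rw [Lie3Mod.idJ, Ideal.span_le]
  simp only [Set.insert_subset_iff, Set.singleton_subset_iff, SetLike.mem_coe]
  simp [Lie3Mod.Q1, Lie3Mod.Q2, Lie3Mod.Q3, Lie3Mod.detM]

open MvPolynomial in
theorem le_kerL : Lie3Mod.idL ℤ ≤ RingHom.ker (aeval (fun _ => (0 : ℤ)) : Lie3Mod.D ℤ →ₐ[ℤ] ℤ) := by
  rw [Lie3Mod.idL, Ideal.span_le]
  simp only [Set.insert_subset_iff, Set.singleton_subset_iff, SetLike.mem_coe]
  simp [Lie3Mod.L1, Lie3Mod.L2, Lie3Mod.L3]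

/-- The moduli scheme of based three-dimensional Lie algebras is flat over the integers and reduced:
with I = (Q1, Q2, Q3) the Jacobi ideal of Z[a,b,c,d,e,f,g,h,i] (Q1 = ah + di − fg − bg, Q2 = ie + bd
− fh − ae, Q3 = hc + dc − af − bi), the ring Z[a,b,c,d,e,f,g,h,i]/I is a flat Z-module and I is a
radical ideal. -/
theorem result :
    Module.Flat ℤ (Lie3Mod.D ℤ ⧸ Lie3Mod.idI ℤ) ∧ (Lie3Mod.idI ℤ).IsRadical := by
  have hJ := Groth.Agent.Lib.Lie3.Basic.idJ_isPrime (A := ℤ)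
  have hL := Groth.Agent.Lib.Lie3.Basic.idL_isPrime (A := ℤ)
  have hI := Groth.Agent.Lib.Lie3.Basic.idI_eq_inf (A := ℤ)
  constructor
  · have : Module.IsTorsionFree ℤ (Lie3Mod.D ℤ ⧸ Lie3Mod.idI ℤ) := by
      constructor
      intro n hn a c hac
      have hn0 : n ≠ 0 := hn.ne_zero
      obtain ⟨a, rfl⟩ := Ideal.Quotient.mk_surjective a
      obtain ⟨c, rfl⟩ := Ideal.Quotient.mk_surjective c
      simp only [zsmul_eq_mul, ← map_intCast (Ideal.Quotient.mk (Lie3Mod.idI ℤ)), ← map_mul,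
        Ideal.Quotient.eq, ← mul_sub, hI, Ideal.mem_inf] at hac ⊢
      exact ⟨(hJ.mem_or_mem hac.1).resolve_left (notMem_int le_kerJ hn0),
        (hL.mem_or_mem hac.2).resolve_left (notMem_int le_kerL hn0)⟩
    exact IsDedekindDomain.flat_iff_torsion_eq_bot.mpr (Submodule.isTorsionFree_iff_torsion_eq_bot.mp this)
  · rw [hI]
    intro x hx
    obtain ⟨m, hm⟩ := hx
    exact ⟨hJ.mem_of_pow_mem m hm.1, hL.mem_of_pow_mem m hm.2⟩

end Groth.Agent.S13095
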