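import Groth.Statements.S13096
import Mathlib.RingTheory.FiniteType
import Mathlib.RingTheory.Noetherian.Basic

set_option autoImplicit false
universe u v
open CAlg

namespace Groth.Agent.S13096

/-- Let R be a commutative ring and R' a commutative R-algebra of finite presentation. Then every
surjective R-algebra endomorphism α : R' → R' is bijective (an automorphism). -/
theorem result (R : Type u) [CommRing R]
    (R' : Type v) [CommRing R'] [Algebra R R'] [Algebra.FinitePresentation R R']
    (α : R' →ₐ[R] R') (hα : Function.Surjective α) : Function.Bijective α := by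
  classical
  obtain ⟨g, hg⟩ := (Algebra.FiniteType.out : (⊤ : Subalgebra R R').FG)
  have hmem : ∀ z : R', ∃ C : Finset R, z ∈ Algebra.adjoin ℤ ((g ∪ C.image (algebraMap R R') : Finset R') : Set R') := by
    intro z
    have hz : z ∈ Algebra.adjoin R (g : Set R') := hg ▸ Algebra.mem_top
    have mono : ∀ {C C' : Finset R}, C ⊆ C' → Algebra.adjoin ℤ ((g ∪ C.image (algebraMap R R') : Finset R') : Set R') ≤
        Algebra.adjoin ℤ ((g ∪ C'.image (algebraMap R R') : Finset R') : Set R') := fun h =>
      Algebra.adjoin_mono (Finset.coe_subset.mpr (Finset.union_subset_union subset_rfl (Finset.image_subset_image h)))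
    induction hz using Algebra.adjoin_induction with
    | mem x hx => exact ⟨∅, Algebra.subset_adjoin (Finset.mem_coe.mpr (Finset.mem_union_left _ hx))⟩
    | algebraMap r => exact ⟨{r}, Algebra.subset_adjoin (Finset.mem_coe.mpr (Finset.mem_union_right _ (by simp)))⟩
    | add a b _ _ ha hb =>
      obtain ⟨C, hC⟩ := ha
      obtain ⟨C', hC'⟩ := hb
      exact ⟨C ∪ C', add_mem (mono Finset.subset_union_left hC) (mono Finset.subset_union_right hC')⟩
    | mul a b _ _ ha hb =>
      obtain ⟨C, hC⟩ := ha
      obtain ⟨C', hC'⟩ := hb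
      exact ⟨C ∪ C', mul_mem (mono Finset.subset_union_left hC) (mono Finset.subset_union_right hC')⟩
  choose C hC using hmem
  choose pre hpre using hα
  refine ⟨(injective_iff_map_eq_zero α).mpr fun x hx => ?_, fun y => ⟨pre y, hpre y⟩⟩
  let C₀ : Finset R := C x ∪ (g.biUnion fun y => C (α y) ∪ C (pre y))
  let T : Subalgebra ℤ R' := Algebra.adjoin ℤ ((g ∪ C₀.image (algebraMap R R') : Finset R') : Set R')
  have hle : ∀ z, C z ⊆ C₀ → z ∈ T := fun z h =>
    Algebra.adjoin_mono (Finset.coe_subset.mpr (Finset.union_subset_union subset_rfl (Finset.image_subset_image h))) (hC z)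
  have hαT : ∀ z ∈ T, α z ∈ T := by
    intro z hz
    induction hz using Algebra.adjoin_induction with
    | mem y hy =>
      rcases Finset.mem_union.mp (Finset.mem_coe.mp hy) with hy | hy
      · exact hle _ ((Finset.subset_union_left.trans (Finset.subset_biUnion_of_mem (fun y => C (α y) ∪ C (pre y)) hy)).trans Finset.subset_union_right)
      · obtain ⟨r, hr, rfl⟩ := Finset.mem_image.mp hy
        rw [AlgHom.commutes]
        exact Algebra.subset_adjoin (Finset.mem_coe.mpr (Finset.mem_union_right _ (Finset.mem_image_of_mem _ hr)))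
    | algebraMap n => rw [eq_intCast, map_intCast]; exact intCast_mem T n
    | add a b _ _ ha hb => rw [map_add]; exact add_mem ha hb
    | mul a b _ _ ha hb => rw [map_mul]; exact mul_mem ha hb
  let β : T →+* T :=
    { toFun := fun z => ⟨α z, hαT z z.2⟩
      map_one' := Subtype.ext (map_one α)
      map_mul' := fun a b => Subtype.ext (map_mul α _ _)
      map_zero' := Subtype.ext (map_zero α)
      map_add' := fun a b => Subtype.ext (map_add α _ _) }
  have hsurj : ∀ z ∈ T, ∃ w ∈ T, α w = z := by
    intro z hz
    induction hz using Algebra.adjoin_induction with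
    | mem y hy =>
      rcases Finset.mem_union.mp (Finset.mem_coe.mp hy) with hy | hy
      · exact ⟨pre y, hle _ ((Finset.subset_union_right.trans (Finset.subset_biUnion_of_mem (fun y => C (α y) ∪ C (pre y)) hy)).trans Finset.subset_union_right), hpre y⟩
      · obtain ⟨r, hr, rfl⟩ := Finset.mem_image.mp hy
        exact ⟨_, Algebra.subset_adjoin (Finset.mem_coe.mpr (Finset.mem_union_right _ (Finset.mem_image_of_mem _ hr))), α.commutes r⟩
    | algebraMap n => exact ⟨n, intCast_mem T n, by rw [eq_intCast, map_intCast]⟩
    | add a b _ _ ha hb =>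
      obtain ⟨a', ha', rfl⟩ := ha
      obtain ⟨b', hb', rfl⟩ := hb
      exact ⟨a' + b', add_mem ha' hb', map_add α _ _⟩
    | mul a b _ _ ha hb =>
      obtain ⟨a', ha', rfl⟩ := ha
      obtain ⟨b', hb', rfl⟩ := hb
      exact ⟨a' * b', mul_mem ha' hb', map_mul α _ _⟩
  have hβ : Function.Surjective β := fun z => by
    obtain ⟨w, hw, hw'⟩ := hsurj z z.2
    exact ⟨⟨w, hw⟩, Subtype.ext hw'⟩
  haveI : Algebra.FiniteType ℤ T := (Subalgebra.fg_iff_finiteType T).mp (Subalgebra.fg_adjoin_finset _)
  haveI : IsNoetherianRing T := Algebra.FiniteType.isNoetherianRing ℤ T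
  have hinj : Function.Injective β := by
    have hmono : Monotone fun n : ℕ => RingHom.ker (β ^ n) := monotone_nat_of_le_succ fun n z hz => by
      rw [RingHom.mem_ker] at hz ⊢
      rw [pow_succ', RingHom.coe_mul, Function.comp_apply, hz, map_zero]
    obtain ⟨N, hN⟩ := monotone_stabilizes_iff_noetherian.mpr (inferInstance : IsNoetherian T T) ⟨_, hmono⟩
    refine (injective_iff_map_eq_zero β).mpr fun z hz => ?_
    have hsN : Function.Surjective (β ^ N) := by
      rw [RingHom.coe_pow]; exact hβ.iterate N
    obtain ⟨w, rfl⟩ := hsN z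
    have hw : w ∈ RingHom.ker (β ^ (N + 1)) := by
      rw [RingHom.mem_ker, pow_succ', RingHom.coe_mul, Function.comp_apply]; exact hz
    rw [show RingHom.ker (β ^ (N + 1)) = RingHom.ker (β ^ N) from (hN (N + 1) (Nat.le_succ N)).symm] at hw
    exact hw
  have := hinj (a₁ := ⟨x, hle x Finset.subset_union_left⟩) (a₂ := 0) (by rw [map_zero]; exact Subtype.ext hx)
  exact congrArg Subtype.val this

end Groth.Agent.S13096
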