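import Groth.Statements.S13097
import Mathlib.AlgebraicGeometry.ZariskisMainTheorem


set_option autoImplicit false
universe u
open FlatMor

namespace Groth.Agent.S13097

open CategoryTheory AlgebraicGeometry TopologicalSpace

/-- A schematically dense open is dense. -/
theorem dense_of_isSchematicallyDense {X : Scheme.{u}} {U : X.Opens}
    (h : CInt.IsSchematicallyDense U) : Dense (U : Set X) := by
  rw [dense_iff_inter_open]
  rintro V hV ⟨x, hx⟩
  by_contra hne
  rw [Set.not_nonempty_iff_eq_empty] at hne
  set V' : X.Opens := ⟨V, hV⟩
  have hbot : V' ⊓ U = ⊥ := Opens.ext hne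
  have hsub : Subsingleton Γ(X, V' ⊓ U) := by
    rw [hbot]; infer_instance
  have h01 : (1 : Γ(X, V')) = 0 := h V' (Subsingleton.elim _ _)
  have h2 := congrArg (X.presheaf.germ V' x hx).hom h01
  rw [map_one, map_zero] at h2
  exact one_ne_zero h2

/-- A separated morphism with a surjective section is a universal homeomorphism. -/
theorem isUnivHomeo_of_surjective_section {X S : Scheme.{u}} (f : X ⟶ S) [IsSeparated f]
    (e : S ⟶ X) (he : e ≫ f = 𝟙 S) [Surjective e] : FlatMor.IsUnivHomeo f := by
  intro X' S' g₁ g₂ f' sq
  let e' : S' ⟶ X' := sq.lift (𝟙 S') (g₂ ≫ e) (by simp [he])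
  have he'1 : e' ≫ g₁ = g₂ ≫ e := sq.lift_snd _ _ _
  have he'2 : e' ≫ f' = 𝟙 S' := sq.lift_fst _ _ _
  have hsep : IsSeparated f' := MorphismProperty.of_isPullback sq.flip inferInstance
  have htop : IsPullback g₂ e' e g₁ := by
    refine IsPullback.of_bot ?_ he'1.symm sq.flip
    rw [he'2, he]
    exact IsPullback.of_vert_isIso ⟨by simp⟩
  have : Surjective e' := MorphismProperty.of_isPullback htop (by assumption)
  have : IsClosedImmersion (e' ≫ f') := by rw [he'2]; infer_instance
  have hci : IsClosedImmersion e' := IsClosedImmersion.of_comp e' f'
  have hbij : Function.Bijective e'.base :=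
    ⟨e'.isClosedEmbedding.injective, Surjective.surj⟩
  have hhomeo : IsHomeomorph e'.base :=
    isHomeomorph_iff_isEmbedding_surjective.mpr ⟨e'.isClosedEmbedding.isEmbedding, hbij.2⟩
  change IsHomeomorph f'.base
  have hinv : ∀ x, f'.base x = hhomeo.homeomorph.symm x := by
    intro x
    apply hhomeo.injective
    obtain ⟨s, rfl⟩ := hbij.2 x
    have h3 : f'.base (e'.base s) = s := by
      rw [← Scheme.Hom.comp_apply, he'2]; rfl
    rw [h3]
    exact (hhomeo.homeomorph.apply_symm_apply (e'.base s)).symm
  have : ⇑f'.base = hhomeo.homeomorph.symm := funext hinv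
  rw [this]
  exact hhomeo.homeomorph.symm.isHomeomorph

end Groth.Agent.S13097

namespace Groth.Agent.S13097

open CategoryTheory AlgebraicGeometry in
/-- Let f : X → S be a quasi-compact, separated morphism of schemes with a section e : S → X (e followed
by f is the identity of S), and U ⊆ S an open subscheme such that f⁻¹(U) is schematically dense in X
(for every open V of X, restriction of functions from V to V ∩ f⁻¹(U) is injective) and such that
the restriction f⁻¹(U) → U of f is a homeomorphism of underlying spaces. Then f is universally a
homeomorphism (every base change of f is a homeomorphism), and f is finite as soon as it is locally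
of finite type. (The published statement also lists surjectivity of f, which a section forces, and
offers as an alternative to the section the hypothesis that f be flat, still with f⁻¹(U) → U only a
homeomorphism; that flat alternative fails: the spectrum of a separable quadratic field extension
over the spectrum of the ground field, with U the whole base, is flat, surjective, quasi-compact,
separated and a homeomorphism over U, yet not universally injective. Only the case of a section,
whose published proof is complete, is stated here.) -/
theorem result {X S : Scheme.{u}} (f : X ⟶ S)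
    [QuasiCompact f] [IsSeparated f] (U : S.Opens)
    (hdense : CInt.IsSchematicallyDense (f ⁻¹ᵁ U)) (hU : IsHomeomorph (f ∣_ U).base)
    (e : S ⟶ X) (he : e ≫ f = 𝟙 S) :
    FlatMor.IsUnivHomeo f ∧ (LocallyOfFiniteType f → IsFinite f) := by
  have hrange : (f ⁻¹ᵁ U : Set X) ⊆ Set.range e.base := by
    intro x hx
    refine ⟨f.base x, ?_⟩
    have h1 : f.base (e.base (f.base x)) = f.base x := by
      rw [← Scheme.Hom.comp_apply, he]; rfl
    have hx' : e.base (f.base x) ∈ f ⁻¹ᵁ U := by
      change f.base (e.base (f.base x)) ∈ U
      rw [h1]; exact hx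
    have h2 := hU.injective (a₁ := ⟨e.base (f.base x), hx'⟩) (a₂ := ⟨x, hx⟩)
      (Subtype.ext ((morphismRestrict_base_coe f U ⟨e.base (f.base x), hx'⟩).trans (h1.trans (morphismRestrict_base_coe f U ⟨x, hx⟩).symm)))
    exact congrArg Subtype.val h2
  have : IsClosedImmersion (e ≫ f) := by rw [he]; infer_instance
  have hci : IsClosedImmersion e := IsClosedImmersion.of_comp e f
  have : Surjective e := by
    constructor
    intro x
    have := (Groth.Agent.S13097.dense_of_isSchematicallyDense hdense).closure_eq
    have hsub := closure_minimal hrange e.isClosedEmbedding.isClosed_range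
    rw [this] at hsub
    exact hsub (Set.mem_univ x)
  have huh := isUnivHomeo_of_surjective_section f e he
  refine ⟨huh, fun hlft => ?_⟩
  rw [IsFinite.iff_isProper_and_locallyQuasiFinite]
  have huc : UniversallyClosed f := by
    constructor
    intro X' S' g₁ g₂ f' sq
    exact (huh g₁ g₂ f' sq).isClosedMap
  refine ⟨{}, ?_⟩
  rw [locallyQuasiFinite_iff_finite_preimage_singleton]
  intro y
  have hinj : Function.Injective f.base :=
    (huh (𝟙 X) (𝟙 S) f (IsPullback.of_vert_isIso ⟨by simp⟩)).injective
  exact ((Set.finite_singleton y).preimage hinj.injOn)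


end Groth.Agent.S13097
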