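import Groth.Statements.S13098
import Mathlib.Tactic.LinearCombination
import Mathlib.Tactic.Module
import Mathlib.Algebra.BigOperators.Fin

set_option autoImplicit false
universe u v
open Lie3Mod

namespace Groth.Agent.S13098

set_option maxHeartbeats 1000000

/-- Let R be a commutative ring, M an R-module with a basis x = bs 0, y = bs 1, z = bs 2 indexed by Fin
3, and B an R-bilinear alternating map on M (B m m = 0) with B x y = a x + b y + c z, B x z = d x +
e y + f z and B y z = g x + h y + i z. Then B satisfies the Jacobi identity for all triples if and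
only if the three Jacobi polynomials vanish: ah + di − fg − bg = 0, ie + bd − fh − ae = 0 and hc +
dc − af − bi = 0. (This is the statement that Lie brackets on a based free module of rank 3 are the
points of the closed subscheme of affine 9-space defined by these three equations.) -/
theorem result (R : Type u) [CommRing R] (M : Type v) [AddCommGroup M] [Module R M]
    (bs : Module.Basis (Fin 3) R M) (B : M →ₗ[R] M →ₗ[R] M) (halt : ∀ m : M, B m m = 0)
    (a b c d e f g h i : R)
    (hxy : B (bs 0) (bs 1) = a • bs 0 + b • bs 1 + c • bs 2)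
    (hxz : B (bs 0) (bs 2) = d • bs 0 + e • bs 1 + f • bs 2)
    (hyz : B (bs 1) (bs 2) = g • bs 0 + h • bs 1 + i • bs 2) :
    (∀ u v w : M, B u (B v w) + B v (B w u) + B w (B u v) = 0) ↔
      (a * h + d * i - f * g - b * g = 0 ∧ i * e + b * d - f * h - a * e = 0 ∧
        h * c + d * c - a * f - b * i = 0) := by
  constructor
  · intro H
    have hanti : ∀ m n : M, B n m = -B m n := fun m n => by
      have := halt (m + n); simp [halt] at this; exact eq_neg_of_add_eq_zero_right this
    have e := congrArg bs.repr (H (bs 0) (bs 1) (bs 2))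
    have hyx : B (bs 1) (bs 0) = -B (bs 0) (bs 1) := hanti _ _
    have hzx : B (bs 2) (bs 0) = -B (bs 0) (bs 2) := hanti _ _
    have hzy : B (bs 2) (bs 1) = -B (bs 1) (bs 2) := hanti _ _
    simp [hxy, hxz, hyz, hyx, hzx, hzy, halt] at e
    have e0 := DFunLike.congr_fun e 0
    have e1 := DFunLike.congr_fun e 1
    have e2 := DFunLike.congr_fun e 2
    simp at e0 e1 e2
    refine ⟨?_, ?_, ?_⟩
    · linear_combination e0
    · linear_combination e1
    · linear_combination e2
  · rintro ⟨h1, h2, h3⟩ u v w
    have hanti : ∀ m n : M, B n m = -B m n := fun m n => by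
      have := halt (m + n); simp [halt] at this; exact eq_neg_of_add_eq_zero_right this
    have dec : ∀ m : M, ∃ r s t : R, m = r • bs 0 + s • bs 1 + t • bs 2 := fun m =>
      ⟨_, _, _, (bs.sum_repr m).symm.trans (Fin.sum_univ_three _)⟩
    obtain ⟨u0, u1, u2, rfl⟩ := dec u
    obtain ⟨v0, v1, v2, rfl⟩ := dec v
    obtain ⟨w0, w1, w2, rfl⟩ := dec w
    have hyx : B (bs 1) (bs 0) = -B (bs 0) (bs 1) := hanti _ _
    have hzx : B (bs 2) (bs 0) = -B (bs 0) (bs 2) := hanti _ _
    have hzy : B (bs 2) (bs 1) = -B (bs 1) (bs 2) := hanti _ _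
    simp only [map_add, map_smul, map_neg, LinearMap.add_apply, LinearMap.smul_apply, hxy, hxz, hyz,
      hyx, hzx, hzy, halt, smul_add, smul_neg, smul_zero, smul_smul]
    refine bs.ext_elem fun t => ?_
    fin_cases t <;> simp
    · linear_combination (u0 * (v1 * w2 - v2 * w1) - u1 * (v0 * w2 - v2 * w0) + u2 * (v0 * w1 - v1 * w0)) * h1
    · linear_combination (u0 * (v1 * w2 - v2 * w1) - u1 * (v0 * w2 - v2 * w0) + u2 * (v0 * w1 - v1 * w0)) * h2
    · linear_combination (u0 * (v1 * w2 - v2 * w1) - u1 * (v0 * w2 - v2 * w0) + u2 * (v0 * w1 - v1 * w0)) * h3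

end Groth.Agent.S13098
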