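import Groth.Statements.S13099
import Mathlib.Data.Nat.Choose.Lucas
import Mathlib.RingTheory.MvPolynomial.Basic
import Mathlib.Algebra.CharP.Lemmas
import Mathlib.RingTheory.AdjoinRoot
-- import your own Groth.Agent.* helpers here

set_option autoImplicit false
universe u
open GrpSch

namespace Groth.Agent.S13099

open Polynomial in
/-- Let p be a prime and A a commutative ring of characteristic p, and consider the infinitesimal group
scheme Spec A[X]/(X^{p²}) with the additive group law. In coordinates: (1) a polynomial q ∈ A[X] of
degree less than p² satisfies q(Y + Z) − q(Y) − q(Z) ∈ (Y^{p²}, Z^{p²}) in A[Y, Z] (that is, X ↦ q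
respects the comultiplication) if and only if q = a₁ X + a_p X^p for some a₁, a_p ∈ A; (2) an
A-algebra endomorphism of A[X]/(X^{p²}) that sends the class of X to the class of a₁ X + a_p X^p is
bijective if and only if a₁ is a unit of A. (The printed statement is that the automorphism group
scheme of this group scheme is the semidirect product of the additive group by the multiplicative
group, v acting on u by v^{p−1}u; this row records the two computations it consists of, in
coordinates.) -/
theorem result (p : ℕ) [Fact p.Prime] (A : Type u) [CommRing A] [CharP A p] :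
    (∀ q : A[X], q.natDegree < p ^ 2 →
      (Polynomial.aeval (MvPolynomial.X 0 + MvPolynomial.X 1 : MvPolynomial (Fin 2) A) q -
            Polynomial.aeval (MvPolynomial.X 0 : MvPolynomial (Fin 2) A) q -
            Polynomial.aeval (MvPolynomial.X 1 : MvPolynomial (Fin 2) A) q ∈
          Ideal.span ({MvPolynomial.X 0 ^ p ^ 2, MvPolynomial.X 1 ^ p ^ 2} : Set (MvPolynomial (Fin 2) A)) ↔
        ∃ a₁ ap : A, q = Polynomial.C a₁ * X + Polynomial.C ap * X ^ p)) ∧
    (∀ (a₁ ap : A) (φ : (A[X] ⧸ Ideal.span ({X ^ p ^ 2} : Set A[X])) →ₐ[A] (A[X] ⧸ Ideal.span ({X ^ p ^ 2} : Set A[X]))),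
      φ (Ideal.Quotient.mk (Ideal.span ({X ^ p ^ 2} : Set A[X])) X) =
          Ideal.Quotient.mk (Ideal.span ({X ^ p ^ 2} : Set A[X])) (Polynomial.C a₁ * X + Polynomial.C ap * X ^ p) →
        (Function.Bijective φ ↔ IsUnit a₁)) := by
  classical
  have hp : p.Prime := Fact.out
  have hp2 : 2 ≤ p := hp.two_le
  have hpp : p < p ^ 2 := by nlinarith
  constructor
  · intro q hq
    constructor
    · intro hmem
      have hcoef : ∀ i j, i < p ^ 2 → j < p ^ 2 →
          MvPolynomial.coeff (Finsupp.single (0 : Fin 2) i + Finsupp.single 1 j)
            (Polynomial.aeval (MvPolynomial.X 0 + MvPolynomial.X 1 : MvPolynomial (Fin 2) A) q -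
              Polynomial.aeval (MvPolynomial.X 0 : MvPolynomial (Fin 2) A) q -
              Polynomial.aeval (MvPolynomial.X 1 : MvPolynomial (Fin 2) A) q) = 0 := by
        intro i j hi hj
        obtain ⟨u, v, huv⟩ := Ideal.mem_span_pair.1 hmem
        rw [← huv, MvPolynomial.X_pow_eq_monomial, MvPolynomial.X_pow_eq_monomial,
          MvPolynomial.coeff_add, MvPolynomial.coeff_mul_monomial', MvPolynomial.coeff_mul_monomial']
        rw [if_neg, if_neg, add_zero]
        · intro h
          have := h (1 : Fin 2)
          simp at this
          omega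
        · intro h
          have := h (0 : Fin 2)
          simp at this
          omega
      have hX : ∀ (n i j : ℕ), MvPolynomial.coeff (Finsupp.single (0 : Fin 2) i + Finsupp.single 1 j)
          ((MvPolynomial.X 0 + MvPolynomial.X 1 : MvPolynomial (Fin 2) A) ^ n) =
            if i + j = n then (n.choose i : A) else 0 := by
        intro n i j
        rw [add_pow, MvPolynomial.coeff_sum]
        have hterm : ∀ m ∈ Finset.range (n + 1),
            MvPolynomial.coeff (Finsupp.single (0 : Fin 2) i + Finsupp.single 1 j)
              ((MvPolynomial.X 0 : MvPolynomial (Fin 2) A) ^ m * MvPolynomial.X 1 ^ (n - m) * (n.choose m : MvPolynomial (Fin 2) A)) =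
            if m = i then (if i + j = n then (n.choose i : A) else 0) else 0 := by
          intro m hm
          rw [MvPolynomial.X_pow_eq_monomial, MvPolynomial.X_pow_eq_monomial, MvPolynomial.monomial_mul,
            ← MvPolynomial.C_eq_coe_nat, mul_comm _ (MvPolynomial.C _), MvPolynomial.coeff_C_mul,
            MvPolynomial.coeff_monomial]
          have key : (Finsupp.single (0 : Fin 2) m + Finsupp.single 1 (n - m) =
              Finsupp.single 0 i + Finsupp.single 1 j) ↔ (m = i ∧ n - m = j) := by
            constructor
            · intro h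
              exact ⟨by simpa using DFunLike.congr_fun h 0, by simpa using DFunLike.congr_fun h 1⟩
            · rintro ⟨rfl, rfl⟩; rfl
          simp only [key, mul_ite, mul_one, mul_zero]
          have hm' := Finset.mem_range.1 hm
          by_cases h1 : m = i
          · subst h1
            by_cases h2 : m + j = n
            · rw [if_pos ⟨rfl, by omega⟩, if_pos rfl, if_pos h2]
            · rw [if_neg (fun h => h2 (by omega)), if_pos rfl, if_neg h2]
          · rw [if_neg (fun h => h1 h.1), if_neg h1]
        rw [Finset.sum_congr rfl hterm, Finset.sum_ite_eq']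
        by_cases h : i + j = n
        · rw [if_pos (Finset.mem_range.2 (by omega))]
        · simp [h]
      have hX0 : ∀ (n i j : ℕ), MvPolynomial.coeff (Finsupp.single (0 : Fin 2) i + Finsupp.single 1 j)
          ((MvPolynomial.X 0 : MvPolynomial (Fin 2) A) ^ n) = if i = n ∧ j = 0 then 1 else 0 := by
        intro n i j
        rw [MvPolynomial.X_pow_eq_monomial, MvPolynomial.coeff_monomial]
        congr 1
        apply propext
        constructor
        · intro h
          exact ⟨by simpa using (DFunLike.congr_fun h 0).symm, by simpa using (DFunLike.congr_fun h 1).symm⟩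
        · rintro ⟨rfl, rfl⟩; simp
      have hX1 : ∀ (n i j : ℕ), MvPolynomial.coeff (Finsupp.single (0 : Fin 2) i + Finsupp.single 1 j)
          ((MvPolynomial.X 1 : MvPolynomial (Fin 2) A) ^ n) = if i = 0 ∧ j = n then 1 else 0 := by
        intro n i j
        rw [MvPolynomial.X_pow_eq_monomial, MvPolynomial.coeff_monomial]
        congr 1
        apply propext
        constructor
        · intro h
          exact ⟨by simpa using (DFunLike.congr_fun h 0).symm, by simpa using (DFunLike.congr_fun h 1).symm⟩
        · rintro ⟨rfl, rfl⟩; simp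
      have hcalc : ∀ i j, i < p ^ 2 → j < p ^ 2 → i + j < p ^ 2 →
          ((i + j).choose i : A) * q.coeff (i + j)
            - (if j = 0 then q.coeff i else 0) - (if i = 0 then q.coeff j else 0) = 0 := by
        intro i j hi hj hij
        have := hcoef i j hi hj
        rw [q.as_sum_range' (p ^ 2) hq] at this
        simp only [map_sum, Polynomial.aeval_monomial, ← Algebra.smul_def, MvPolynomial.coeff_sub,
          MvPolynomial.coeff_sum, MvPolynomial.coeff_smul, hX, hX0, hX1, smul_eq_mul, mul_ite,
          mul_one, mul_zero] at this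
        rw [Finset.sum_ite_eq, if_pos (Finset.mem_range.2 hij)] at this
        by_cases h0 : j = 0 <;> by_cases h1 : i = 0 <;>
          simp_all [Finset.sum_ite_eq, mul_comm]
      refine ⟨q.coeff 1, q.coeff p, ?_⟩
      ext n
      simp only [Polynomial.coeff_add, Polynomial.coeff_C_mul, Polynomial.coeff_X_pow, Polynomial.coeff_X,
        mul_ite, mul_one, mul_zero]
      by_cases hn1 : n = 1
      · subst hn1; simp [show (1 : ℕ) ≠ p by omega]
      by_cases hnp : n = p
      · subst hnp; simp [show (1 : ℕ) ≠ n by omega]
      rw [if_neg (Ne.symm hn1), if_neg hnp, add_zero]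
      by_cases hn : n < p ^ 2
      swap
      · exact Polynomial.coeff_eq_zero_of_natDegree_lt (by omega)
      by_cases hn0 : n = 0
      · subst hn0
        have := hcalc 0 0 (by omega) (by omega) (by omega)
        simpa using this
      suffices h : ∃ i, 0 < i ∧ i < n ∧ ¬ p ∣ n.choose i by
        obtain ⟨i, hi0, hin, hdiv⟩ := h
        have := hcalc i (n - i) (by omega) (by omega) (by omega)
        rw [show i + (n - i) = n by omega, if_neg (by omega), if_neg (by omega), sub_zero, sub_zero] at this
        have hu : IsUnit ((n.choose i : ℕ) : A) := by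
          have hz : IsUnit ((n.choose i : ℕ) : ZMod p) :=
            (ZMod.isUnit_iff_coprime _ _).2 (hp.coprime_iff_not_dvd.2 hdiv).symm
          simpa using hz.map (ZMod.castHom dvd_rfl A)
        exact hu.mul_right_eq_zero.1 this
      by_cases hdvd : p ∣ n
      · obtain ⟨b, rfl⟩ := hdvd
        have hb : b < p := by rw [sq] at hn; exact Nat.lt_of_mul_lt_mul_left hn
        have hb2 : 1 < b := by
          rcases b with _ | _ | b
          · simp at hn0
          · simp at hnp
          · omega
        refine ⟨p, hp.pos, by nlinarith, fun h => ?_⟩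
        have hl := @Choose.choose_modEq_choose_mod_mul_choose_div_nat (p * b) p p _
        rw [Nat.mul_mod_right, Nat.mod_self, Nat.choose_self, Nat.mul_div_cancel_left _ hp.pos,
          Nat.div_self hp.pos, Nat.choose_one_right, one_mul] at hl
        have hb0 : p ∣ b := (hl.dvd_iff dvd_rfl).1 h
        have := Nat.le_of_dvd (by omega) hb0
        omega
      · exact ⟨1, one_pos, by omega, by rwa [Nat.choose_one_right]⟩
    · rintro ⟨a₁, ap, rfl⟩
      have : CharP (MvPolynomial (Fin 2) A) p := inferInstance
      simp [add_pow_char, mul_add]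
      ring_nf
      exact zero_mem _
  · set I : Ideal A[X] := Ideal.span ({X ^ p ^ 2} : Set A[X])
    intro a₁ ap φ hφ
    set x : A[X] ⧸ I := Ideal.Quotient.mk I X
    have hsub : φ.comp (Ideal.Quotient.mkₐ A I) = (Ideal.Quotient.mkₐ A I).comp
        (Polynomial.aeval (Polynomial.C a₁ * X + Polynomial.C ap * X ^ p)) :=
      Polynomial.algHom_ext (by simpa using hφ)
    constructor
    · intro hb
      obtain ⟨r, hr⟩ := hb.2 x
      obtain ⟨r, rfl⟩ := Ideal.Quotient.mk_surjective r
      have h1 : Ideal.Quotient.mk I (Polynomial.aeval (Polynomial.C a₁ * X + Polynomial.C ap * X ^ p) r)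
          = Ideal.Quotient.mk I X := (AlgHom.congr_fun hsub r).symm.trans hr
      rw [Ideal.Quotient.eq, Ideal.mem_span_singleton, Polynomial.X_pow_dvd_iff] at h1
      have h2 := h1 1 (by omega)
      have hc : ∀ r : A[X], (Polynomial.aeval (Polynomial.C a₁ * X + Polynomial.C ap * X ^ p) r).coeff 1
          = r.coeff 1 * a₁ := by
        intro r
        have hpe : X ^ p = (X ^ (p - 2) * X * X : A[X]) := by
          rw [mul_assoc, ← sq, ← pow_add, Nat.sub_add_cancel hp2]
        induction r using Polynomial.induction_on' with
        | add f g hf hg => rw [map_add, Polynomial.coeff_add, hf, hg, Polynomial.coeff_add, add_mul]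
        | monomial n c =>
          rw [Polynomial.aeval_monomial, Polynomial.algebraMap_eq, Polynomial.coeff_C_mul,
            Polynomial.coeff_monomial]
          rcases n with _ | _ | n
          · simp [Polynomial.coeff_one]
          · simp [Polynomial.coeff_X_pow, show 1 ≠ p by omega]
          · rw [if_neg (by omega), zero_mul]
            have : (Polynomial.C a₁ * X + Polynomial.C ap * X ^ p : A[X]) =
                X * (Polynomial.C a₁ + Polynomial.C ap * (X ^ (p - 2) * X)) := by
              rw [hpe]; ring
            rw [this, mul_pow]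
            rw [Polynomial.coeff_X_pow_mul', if_neg (by omega), mul_zero]
      rw [Polynomial.coeff_sub, hc, Polynomial.coeff_X_one, sub_eq_zero] at h2
      exact IsUnit.of_mul_eq_one_right _ h2
    · intro ha
      have hmon : (X ^ p ^ 2 : A[X]).Monic := monic_X_pow _
      have : Module.Finite A (A[X] ⧸ I) := hmon.finite_quotient
      refine OrzechProperty.bijective_of_surjective_endomorphism φ.toLinearMap ?_
      have hzero : x ^ p ^ 2 = 0 := by
        rw [← map_pow]; exact Ideal.Quotient.eq_zero_iff_mem.2 (Ideal.mem_span_singleton_self _)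
      have hφx : φ x = algebraMap A _ a₁ * x + algebraMap A _ ap * x ^ p := by
        rw [hφ, map_add, map_mul, map_mul, map_pow]; rfl
      have : CharP A p := inferInstance
      have hφxp : φ (x ^ p) = algebraMap A _ (a₁ ^ p) * x ^ p := by
        rw [map_pow, hφx]
        have hcp : (p : A[X] ⧸ I) = 0 := by
          rw [← map_natCast (algebraMap A (A[X] ⧸ I)), CharP.cast_eq_zero, map_zero]
        obtain ⟨c, hc⟩ := exists_add_pow_prime_eq hp (algebraMap A _ a₁ * x) (algebraMap A _ ap * x ^ p : A[X] ⧸ I)
        rw [hc, hcp, mul_pow, mul_pow, ← pow_mul, ← sq, hzero, map_pow]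
        ring
      obtain ⟨b, hb⟩ := ha.exists_right_inv
      have hxp : ∃ z, φ z = x ^ p := by
        refine ⟨algebraMap A _ (b ^ p) * x ^ p, ?_⟩
        rw [map_mul, AlgHom.commutes, hφxp, ← mul_assoc, ← map_mul, ← mul_pow, mul_comm b, hb,
          one_pow, map_one, one_mul]
      obtain ⟨z, hz⟩ := hxp
      have hxr : ∃ w, φ w = x := by
        refine ⟨algebraMap A _ b * (x - algebraMap A _ ap * z), ?_⟩
        rw [map_mul, map_sub, map_mul, AlgHom.commutes, AlgHom.commutes, hφx, hz, add_sub_cancel_right,
          ← mul_assoc, ← map_mul, mul_comm b, hb, map_one, one_mul]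
      obtain ⟨w, hw⟩ := hxr
      intro y
      obtain ⟨y, rfl⟩ := Ideal.Quotient.mk_surjective y
      refine ⟨Polynomial.aeval w y, ?_⟩
      show φ (Polynomial.aeval w y) = _
      rw [← Polynomial.aeval_algHom_apply, hw]
      exact AlgHom.congr_fun (Polynomial.algHom_ext (f := Polynomial.aeval x) (g := Ideal.Quotient.mkₐ A I) (by simp [x])) y

end Groth.Agent.S13099
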