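import Groth.Statements.S13100
-- import your own Groth.Agent.* helpers here

set_option autoImplicit false
universe u
open GrpSch

namespace Groth.Agent.S13100

theorem exists_sqrt {k : Type u} [Field k] (u : PowerSeries k) (c : k)
    (hc : PowerSeries.coeff 0 u = c * c) (h2c : (2 : k) * c ≠ 0) :
    ∃ w : PowerSeries k, u = w * w := by
  let g : ℕ → k := Nat.strongRec fun n ih => if n = 0 then c else
    (PowerSeries.coeff n u - ∑ i ∈ (Finset.range (n - 1)).attach,
      ih (i.1 + 1) (by have := Finset.mem_range.1 i.2; omega) *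
      ih (n - (i.1 + 1)) (by have := Finset.mem_range.1 i.2; omega)) / (2 * c)
  have hg0 : g 0 = c := by simp only [g]; rw [Nat.strongRec_eq]; simp
  have hg : ∀ n, g (n + 1) = (PowerSeries.coeff (n + 1) u -
      ∑ i ∈ Finset.range n, g (i + 1) * g (n - i)) / (2 * c) := by
    intro n
    conv_lhs => simp only [g]; rw [Nat.strongRec_eq]
    simp only [Nat.succ_ne_zero, if_false, Nat.add_sub_cancel, Nat.add_sub_add_right]
    congr 2

    exact Finset.sum_attach (Finset.range n) (fun i => g (i + 1) * g (n - i))
  refine ⟨PowerSeries.mk g, ?_⟩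
  ext n
  rw [PowerSeries.coeff_mul]
  simp only [PowerSeries.coeff_mk]
  rw [Finset.Nat.sum_antidiagonal_eq_sum_range_succ (fun i j => g i * g j)]
  cases n with
  | zero => simp [hg0, hc]
  | succ n =>
    rw [Finset.sum_range_succ, Finset.sum_range_succ']
    simp only [Nat.sub_zero, Nat.sub_self, Nat.add_sub_add_right, hg0]
    rw [hg n]
    have h2 : (2 : k) ≠ 0 := left_ne_zero_of_mul h2c
    have hc0 : c ≠ 0 := right_ne_zero_of_mul h2c
    field_simp
    ring

/-- Let k be an algebraically closed field of characteristic different from 2 and K = k((t)) the field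
of Laurent series over k. Then a non-zero Laurent series f is a square in K if and only if its order
in t is even; consequently the group Kˣ/Kˣ² of non-zero elements modulo squares has exactly two
elements, represented by 1 and t. -/
theorem result (k : Type u) [Field k] [IsAlgClosed k] (h2 : (2 : k) ≠ 0)
    (f : LaurentSeries k) (hf : f ≠ 0) : IsSquare f ↔ Even f.order := by
  constructor
  · rintro ⟨g, rfl⟩
    have hg : g ≠ 0 := fun h => hf (by rw [h, mul_zero])
    exact ⟨g.order, HahnSeries.order_mul hg hg⟩
  · rintro ⟨m, hm⟩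
    set u := f.powerSeriesPart with hu
    have h0 : PowerSeries.coeff 0 u ≠ 0 := by
      rw [hu, LaurentSeries.powerSeriesPart_coeff]
      simp [HahnSeries.coeff_order_eq_zero, hf]
    obtain ⟨c, hc⟩ := IsAlgClosed.exists_eq_mul_self (PowerSeries.coeff 0 u)
    have hc0 : c ≠ 0 := fun h => h0 (by rw [hc, h, mul_zero])
    obtain ⟨w, hw⟩ := exists_sqrt u c (by rw [hc]) (mul_ne_zero h2 hc0)
    refine ⟨HahnSeries.single m 1 * (w : LaurentSeries k), ?_⟩
    rw [mul_mul_mul_comm, HahnSeries.single_mul_single, mul_one, ← hm, ← map_mul, ← hw]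
    exact (LaurentSeries.single_order_mul_powerSeriesPart f).symm

end Groth.Agent.S13100
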