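import Groth.Statements.S13101
import Groth.Agent.H63.Lie3
-- import your own Groth.Agent.* helpers here

set_option autoImplicit false
universe u v
open GrpSch

namespace Groth.Agent.S13101
open Groth.Agent.H63.Lie3

/-- Let A be a commutative ring in which 2 is a unit, and L a Lie algebra over A, free as a module with
basis x = bs 0, y = bs 1, z = bs 2 and brackets [x,y] = y, [x,z] = y + z, [y,z] = 0. Then for every
Lie algebra automorphism φ of L over A there are b, c, h ∈ A and a unit i of A with φ(x) = x + b y +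
c z, φ(y) = i y and φ(z) = h y + i z. Only the form of an automorphism is stated, not that every map
of this form is one. (The published statement identifies the automorphism group scheme with a
semidirect product of two additive groups by the product of the multiplicative and additive group,
for algebras over a field of Laurent series of characteristic not 2, and deduces the vanishing of
its first cohomology; this row records the determination of the automorphisms, over any base ring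
with 2 invertible; the cohomological consequence is not restated.) -/
theorem result (A : Type u) [CommRing A] (h2 : IsUnit (2 : A))
    (L : Type v) [LieRing L] [LieAlgebra A L] (bs : Module.Basis (Fin 3) A L)
    (hxy : ⁅bs 0, bs 1⁆ = bs 1) (hxz : ⁅bs 0, bs 2⁆ = bs 1 + bs 2) (hyz : ⁅bs 1, bs 2⁆ = 0)
    (φ : L ≃ₗ⁅A⁆ L) :
    ∃ b c h i : A, IsUnit i ∧ φ (bs 0) = bs 0 + b • bs 1 + c • bs 2 ∧ φ (bs 1) = i • bs 1 ∧
      φ (bs 2) = h • bs 1 + i • bs 2 := by
  have h' : ⁅bs 0, bs 1⁆ = (1 : A) • bs 1 + (0 : A) • bs 2 := by rw [hxy]; simp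
  have h'' : ⁅bs 0, bs 2⁆ = (1 : A) • bs 1 + (1 : A) • bs 2 := by rw [hxz]; simp
  set a := bs.repr (φ (bs 0)) 0 with ha
  set b := bs.repr (φ (bs 0)) 1 with hb
  set c := bs.repr (φ (bs 0)) 2 with hc
  set d := bs.repr (φ (bs 1)) 0 with hd
  set e := bs.repr (φ (bs 1)) 1 with he
  set f := bs.repr (φ (bs 1)) 2 with hf
  set g := bs.repr (φ (bs 2)) 0 with hg
  set h := bs.repr (φ (bs 2)) 1 with hh
  set i := bs.repr (φ (bs 2)) 2 with hi
  have m1 : ⁅φ (bs 0), φ (bs 1)⁆ = φ (bs 1) := by rw [← LieEquiv.map_lie, hxy]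
  have m2 : ⁅φ (bs 0), φ (bs 2)⁆ = φ (bs 1) + φ (bs 2) := by rw [← LieEquiv.map_lie, hxz, map_add]
  have d0 : d = 0 := by rw [hd, ← m1]; exact bracket_repr_zero bs h' h'' hyz _ _
  have E1 : bs.repr ⁅φ (bs 0), φ (bs 1)⁆ 1 = e := by rw [m1]
  have F1 : bs.repr ⁅φ (bs 0), φ (bs 1)⁆ 2 = f := by rw [m1]
  have G2 : bs.repr ⁅φ (bs 0), φ (bs 2)⁆ 0 = d + g := by rw [m2]; simp [hd, hg]
  have E2 : bs.repr ⁅φ (bs 0), φ (bs 2)⁆ 1 = e + h := by rw [m2]; simp [he, hh]
  have F2 : bs.repr ⁅φ (bs 0), φ (bs 2)⁆ 2 = f + i := by rw [m2]; simp [hf, hi]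
  rw [bracket_repr_zero bs h' h'' hyz, d0, zero_add] at G2
  rw [bracket_repr_one bs h' h'' hyz, ← ha, ← hb, ← hc, ← hd, ← he, ← hf, d0] at E1
  rw [bracket_repr_two bs h' h'' hyz, ← ha, ← hb, ← hc, ← hd, ← he, ← hf, d0] at F1
  rw [bracket_repr_one bs h' h'' hyz, ← ha, ← hb, ← hc, ← hg, ← hh, ← hi, ← G2] at E2
  rw [bracket_repr_two bs h' h'' hyz, ← ha, ← hb, ← hc, ← hg, ← hh, ← hi, ← G2] at F2
  have hdet := isUnit_det bs bs φ.toLinearEquiv
  simp only [LieEquiv.coe_toLinearEquiv, ← ha, ← hb, ← hc, ← hd, ← he, ← hf, ← hg, ← hh, ← hi, d0,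
    ← G2, mul_zero, zero_mul, sub_zero, add_zero] at hdet
  replace hdet : IsUnit (a * (e * i - f * h)) := by convert hdet using 1; ring
  obtain ⟨hau, hD⟩ := IsUnit.mul_iff.1 hdet
  have hsq : (a ^ 2 - 1) * (e * i - f * h) = 0 := by
    linear_combination (a * i) * E1 + e * F2 - (a * (h + i)) * F1 - f * E2
  have hsq' : a ^ 2 - 1 = 0 := hD.mul_left_eq_zero.1 hsq
  have hf0 : (a - 1) * f = 0 := by linear_combination F1
  have hi0 : (a - 1) * i = f := by linear_combination F2
  have h2i : 2 * ((a - 1) * i) = 0 := by linear_combination i * hsq' - (a - 1) * hi0 - hf0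
  have hfz : f = 0 := by rw [← hi0]; exact h2.mul_right_eq_zero.1 h2i
  rw [hfz, zero_mul, sub_zero] at hD
  obtain ⟨heu, hiu⟩ := IsUnit.mul_iff.1 hD
  have ha1 : a - 1 = 0 := hiu.mul_left_eq_zero.1 (hi0.trans hfz)
  have hie : i = e := by linear_combination E2 - (h + i) * ha1
  refine ⟨b, c, h, i, hiu, ?_, ?_, ?_⟩
  · have := expand bs (φ (bs 0)); rwa [← ha, ← hb, ← hc, sub_eq_zero.1 ha1, one_smul] at this
  · have := expand bs (φ (bs 1))
    rwa [← hd, ← he, ← hf, d0, hfz, zero_smul, zero_smul, zero_add, add_zero, ← hie] at this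
  · have := expand bs (φ (bs 2)); rwa [← hg, ← hh, ← hi, ← G2, zero_smul, zero_add] at this

end Groth.Agent.S13101
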