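import Groth.Statements.S13102
import Groth.Agent.H63.Lie3
-- import your own Groth.Agent.* helpers here

set_option autoImplicit false
universe u v w
open GrpSch

namespace Groth.Agent.S13102
open Groth.Agent.H63.Lie3

/-- Let K be a field, α ∈ K, A a commutative K-algebra and L a Lie algebra over A which is free as an
A-module with basis x = bs 0, y = bs 1, z = bs 2 and brackets [x,y] = y, [x,z] = α z, [y,z] = 0. If
α² ≠ 1 then every Lie algebra automorphism φ of L over A satisfies φ(x) = x + b y + c z, φ(y) = e y,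
φ(z) = i z for some b, c ∈ A and units e, i of A. If α = 1 then every such φ satisfies φ(x) = x + b
y + c z, φ(y) = e y + f z, φ(z) = h y + i z with e i − f h a unit of A. (The printed statement
identifies the automorphism group schemes with the corresponding semidirect products, treats also α
= −1 in characteristic not 2, and computes first cohomology over a field of Laurent series; those
clauses are not restated here.) -/
theorem result (K : Type u) [Field K] (α : K) (A : Type v) [CommRing A] [Algebra K A]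
    (L : Type w) [LieRing L] [LieAlgebra A L] (bs : Module.Basis (Fin 3) A L)
    (hxy : ⁅bs 0, bs 1⁆ = bs 1) (hxz : ⁅bs 0, bs 2⁆ = algebraMap K A α • bs 2) (hyz : ⁅bs 1, bs 2⁆ = 0)
    (φ : L ≃ₗ⁅A⁆ L) :
    (α ^ 2 ≠ 1 → ∃ b c e i : A, IsUnit e ∧ IsUnit i ∧ φ (bs 0) = bs 0 + b • bs 1 + c • bs 2 ∧
        φ (bs 1) = e • bs 1 ∧ φ (bs 2) = i • bs 2) ∧
    (α = 1 → ∃ b c e f h i : A, IsUnit (e * i - f * h) ∧ φ (bs 0) = bs 0 + b • bs 1 + c • bs 2 ∧
        φ (bs 1) = e • bs 1 + f • bs 2 ∧ φ (bs 2) = h • bs 1 + i • bs 2) := by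
  set t := algebraMap K A α with ht
  have h' : ⁅bs 0, bs 1⁆ = (1 : A) • bs 1 + (0 : A) • bs 2 := by rw [hxy]; simp
  have h'' : ⁅bs 0, bs 2⁆ = (0 : A) • bs 1 + t • bs 2 := by rw [hxz]; simp
  set a := bs.repr (φ (bs 0)) 0 with ha
  set b := bs.repr (φ (bs 0)) 1 with hb
  set c := bs.repr (φ (bs 0)) 2 with hc
  set d := bs.repr (φ (bs 1)) 0 with hd
  set e := bs.repr (φ (bs 1)) 1 with he
  set f := bs.repr (φ (bs 1)) 2 with hf
  set g := bs.repr (φ (bs 2)) 0 with hg
  set h := bs.repr (φ (bs 2)) 1 with hh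
  set i := bs.repr (φ (bs 2)) 2 with hi
  have m1 : ⁅φ (bs 0), φ (bs 1)⁆ = φ (bs 1) := by rw [← LieEquiv.map_lie, hxy]
  have m2 : ⁅φ (bs 0), φ (bs 2)⁆ = t • φ (bs 2) := by rw [← LieEquiv.map_lie, hxz, map_smul]
  have m3 : ⁅φ (bs 1), φ (bs 2)⁆ = 0 := by rw [← LieEquiv.map_lie, hyz, map_zero]
  have d0 : d = 0 := by rw [hd, ← m1]; exact bracket_repr_zero bs h' h'' hyz _ _
  have E1 : bs.repr ⁅φ (bs 0), φ (bs 1)⁆ 1 = e := by rw [m1]
  have F1 : bs.repr ⁅φ (bs 0), φ (bs 1)⁆ 2 = f := by rw [m1]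
  have G2 : bs.repr ⁅φ (bs 0), φ (bs 2)⁆ 0 = t * g := by rw [m2]; simp [hg]
  have E2 : bs.repr ⁅φ (bs 0), φ (bs 2)⁆ 1 = t * h := by rw [m2]; simp [hh]
  have F2 : bs.repr ⁅φ (bs 0), φ (bs 2)⁆ 2 = t * i := by rw [m2]; simp [hi]
  have E3 : bs.repr ⁅φ (bs 1), φ (bs 2)⁆ 1 = 0 := by rw [m3]; simp
  rw [bracket_repr_zero bs h' h'' hyz] at G2
  rw [bracket_repr_one bs h' h'' hyz, ← ha, ← hb, ← hc, ← hd, ← he, ← hf, d0] at E1
  rw [bracket_repr_two bs h' h'' hyz, ← ha, ← hb, ← hc, ← hd, ← he, ← hf, d0] at F1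
  rw [bracket_repr_one bs h' h'' hyz, ← ha, ← hb, ← hc, ← hg, ← hh, ← hi] at E2
  rw [bracket_repr_two bs h' h'' hyz, ← ha, ← hb, ← hc, ← hg, ← hh, ← hi] at F2
  rw [bracket_repr_one bs h' h'' hyz, ← hd, ← he, ← hf, ← hg, ← hh, ← hi, d0] at E3
  have hdet := isUnit_det bs bs φ.toLinearEquiv
  simp only [LieEquiv.coe_toLinearEquiv, ← ha, ← hb, ← hc, ← hd, ← he, ← hf, ← hg, ← hh, ← hi, d0,
    mul_zero, zero_mul, sub_zero, add_zero] at hdet
  have hge : g * e = 0 := by linear_combination -E3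
  have hgf : g * f = 0 := by linear_combination -(g : A) * F1 - (f * a) * G2
  have hg0 : g = 0 := by
    refine hdet.mul_left_eq_zero.1 ?_
    linear_combination (a * i + -(c * g)) * hge + (b * g - a * h) * hgf
  rw [hg0] at hdet E2 F2
  replace hdet : IsUnit (a * (e * i - f * h)) := by convert hdet using 1; ring
  obtain ⟨hau, hD⟩ := IsUnit.mul_iff.1 hdet
  have e1 : (a - 1) * e = 0 := by linear_combination E1
  have f1 : f = a * t * f := by linear_combination -F1
  have h1' : a * h = t * h := by linear_combination E2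
  have i1 : t * ((a - 1) * i) = 0 := by linear_combination F2
  have exx : φ (bs 0) = a • bs 0 + b • bs 1 + c • bs 2 := expand bs (φ (bs 0))
  have exy : φ (bs 1) = e • bs 1 + f • bs 2 := by
    have := expand bs (φ (bs 1)); rwa [← hd, ← he, ← hf, d0, zero_smul, zero_add] at this
  have exz : φ (bs 2) = h • bs 1 + i • bs 2 := by
    have := expand bs (φ (bs 2)); rwa [← hg, ← hh, ← hi, hg0, zero_smul, zero_add] at this
  constructor
  · intro hα
    have hu : IsUnit (1 - t ^ 2) := by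
      have : IsUnit (1 - α ^ 2) := isUnit_iff_ne_zero.2 (sub_ne_zero.2 (Ne.symm hα))
      simpa [ht] using this.map (algebraMap K A)
    have hfh : f * h = 0 := hu.mul_right_eq_zero.1 (by linear_combination h * f1 + (t * f) * h1')
    rw [hfh, sub_zero] at hD
    obtain ⟨heu, hiu⟩ := IsUnit.mul_iff.1 hD
    have ha1 : a = 1 := sub_eq_zero.1 (heu.mul_left_eq_zero.1 e1)
    have hu1 : IsUnit (1 - t) := by
      have : IsUnit ((1 - t) * (1 + t)) := by convert hu using 1; ring
      exact (IsUnit.mul_iff.1 this).1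
    have hfz : f = 0 := hu1.mul_right_eq_zero.1 (by rw [ha1] at f1; linear_combination f1)
    have hhz : h = 0 := hu1.mul_right_eq_zero.1 (by rw [ha1] at h1'; linear_combination h1')
    refine ⟨b, c, e, i, heu, hiu, ?_, ?_, ?_⟩
    · rw [exx, ha1, one_smul]
    · rw [exy, hfz, zero_smul, add_zero]
    · rw [exz, hhz, zero_smul, zero_add]
  · intro hα
    have ht1 : t = 1 := by rw [ht, hα, map_one]
    rw [ht1] at f1 h1' i1
    have ha1 : a = 1 := sub_eq_zero.1 (hD.mul_left_eq_zero.1 (by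
      linear_combination i * e1 + h * f1))
    exact ⟨b, c, e, f, h, i, hD, by rw [exx, ha1, one_smul], exy, exz⟩

end Groth.Agent.S13102
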