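import Groth.Statements.S13104
import Groth.Agent.H63.SchemeEpi
-- import your own Groth.Agent.* helpers here

set_option autoImplicit false
universe u
open GrpSch

namespace Groth.Agent.S13104
open Groth.Agent.H63.SchemeEpi

open CategoryTheory AlgebraicGeometry in
/-- Let B be a commutative ring, B[ε] the ring of dual numbers (ε² = 0) and B[α, β]/(α², β²) the double
dual numbers, realised as dual numbers over the dual numbers with α the inner and β the outer
generator, and let ψ : B[ε] → B[α, β]/(α², β²) be the B-algebra homomorphism with ψ(ε) = αβ. Then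
for every scheme G the map u ↦ Spec(ψ) ≫ u from morphisms Spec B[ε] → G to morphisms Spec
B[α,β]/(α²,β²) → G is injective. (The printed statement is its consequence for a group scheme G: the
map Lie(G)(B) → G(B[α,β]/(α²,β²)), x ↦ exp(αβ x), is injective; the injectivity on all B[ε]-points
stated here is what the printed argument establishes.) -/
theorem result (B : Type u) [CommRing B]
    (ψ : DualNumber B →+* DualNumber (DualNumber B))
    (hψB : ∀ b : B, ψ (algebraMap B (DualNumber B) b) = algebraMap B (DualNumber (DualNumber B)) b)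
    (hψ : ψ DualNumber.eps = algebraMap (DualNumber B) (DualNumber (DualNumber B)) DualNumber.eps * DualNumber.eps)
    (G : Scheme.{u}) :
    Function.Injective (fun u : Spec (CommRingCat.of (DualNumber B)) ⟶ G =>
      Spec.map (CommRingCat.ofHom (R := DualNumber B) (S := DualNumber (DualNumber B)) ψ) ≫ u) := by
  have hval : ∀ a b : B, ψ (TrivSqZeroExt.inl a + TrivSqZeroExt.inr b) =
      TrivSqZeroExt.inl (TrivSqZeroExt.inl a) +
        TrivSqZeroExt.inr (TrivSqZeroExt.inr b) := by
    intro a b
    have hA : ∀ b : B, algebraMap B (DualNumber B) b = TrivSqZeroExt.inl b := fun _ => rfl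
    have hA2 : ∀ b : B, algebraMap B (DualNumber (DualNumber B)) b =
        TrivSqZeroExt.inl (TrivSqZeroExt.inl b) := fun _ => rfl
    have hA3 : ∀ z : DualNumber B, algebraMap (DualNumber B) (DualNumber (DualNumber B)) z =
        TrivSqZeroExt.inl z := fun _ => rfl
    have hb : (TrivSqZeroExt.inr b : DualNumber B) = algebraMap B (DualNumber B) b * DualNumber.eps := by
      rw [hA, DualNumber.eps, TrivSqZeroExt.inl_mul_inr, smul_eq_mul, mul_one]
    conv_lhs => rw [map_add, hb, map_mul, hψB, hψ, ← hA a, hψB, hA2, hA2, hA3]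
    simp only [DualNumber.eps, TrivSqZeroExt.inl_mul_inr, smul_eq_mul, mul_one]
  have hval' : ∀ x : DualNumber B, ψ x =
      TrivSqZeroExt.inl (TrivSqZeroExt.inl x.fst) + TrivSqZeroExt.inr (TrivSqZeroExt.inr x.snd) := by
    intro x
    conv_lhs => rw [← TrivSqZeroExt.inl_fst_add_inr_snd_eq x]
    exact hval _ _
  have hinj : Function.Injective ψ := by
    intro x y h
    rw [hval', hval'] at h
    refine TrivSqZeroExt.ext ?_ ?_
    · simpa using congrArg (fun z : DualNumber (DualNumber B) => z.fst.fst) h
    · simpa using congrArg (fun z : DualNumber (DualNumber B) => z.snd.snd) h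
  let φ : CommRingCat.of (DualNumber B) ⟶ CommRingCat.of (DualNumber (DualNumber B)) :=
    CommRingCat.ofHom (R := DualNumber B) (S := DualNumber (DualNumber B)) ψ
  have hsurj : Surjective (Spec.map φ) := by
    refine ⟨fun q => ?_⟩
    let π : DualNumber (DualNumber B) →+* DualNumber B :=
      (TrivSqZeroExt.fstHom (DualNumber B) (DualNumber B) (DualNumber B)).toRingHom
    let π' : DualNumber B →+* B := (TrivSqZeroExt.fstHom B B B).toRingHom
    refine ⟨PrimeSpectrum.comap ((algebraMap B (DualNumber B)).comp π' |>.comp π) q, ?_⟩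
    apply PrimeSpectrum.ext
    ext x
    show algebraMap B (DualNumber B) (π' (π (ψ x))) ∈ q.asIdeal ↔ x ∈ q.asIdeal
    have hx : algebraMap B (DualNumber B) (π' (π (ψ x))) = x - TrivSqZeroExt.inr x.snd := by
      rw [hval']
      show algebraMap B (DualNumber B) (TrivSqZeroExt.fst (TrivSqZeroExt.fst _)) = _
      rw [show algebraMap B (DualNumber B) (TrivSqZeroExt.fst (TrivSqZeroExt.fst (TrivSqZeroExt.inl (TrivSqZeroExt.inl x.fst) + TrivSqZeroExt.inr (TrivSqZeroExt.inr x.snd) : DualNumber (DualNumber B)))) = TrivSqZeroExt.inl x.fst from by simp; rfl]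
      ext <;> simp
    rw [hx, sub_eq_add_neg]
    refine Ideal.add_mem_iff_left _ (neg_mem ?_)
    refine q.isPrime.mem_of_pow_mem 2 ?_
    rw [sq, TrivSqZeroExt.inr_mul_inr]
    exact zero_mem _
  have : Epi (Spec.map φ) := epi_of_surjective_of_app_injective _
    (app_injective_SpecMap φ hinj)
  exact fun u v h => (cancel_epi (Spec.map φ)).1 h

end Groth.Agent.S13104
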