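import Groth.Statements.S13105
import Groth.Agent.Lib.Lie3.Basic
import Mathlib.RingTheory.RegularLocalRing.Defs
import Mathlib.RingTheory.Ideal.KrullsHeightTheorem
open MvPolynomial

set_option autoImplicit false
universe u
open Lie3Mod

namespace Groth.Agent.S13105

open Lie3Mod Groth.Agent.Lib.Lie3.Basic

variable {k : Type u} [Field k]

/-- the rational point -/
def pt (t : k) : Fin 9 → k := ![0, 1, 0, 0, 0, t, 0, 0, 0]

theorem aeval_self_sub_mem (c : Fin 9 → k) (p : Lie3Mod.D k) :
    p - C (aeval c p) ∈ Ideal.span (Set.range fun j => (X j : Lie3Mod.D k) - C (c j)) := by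
  induction p using MvPolynomial.induction_on with
  | C a => simp
  | add p q hp hq => convert Ideal.add_mem _ hp hq using 1; simp; ring
  | mul_X p j hp =>
    convert Ideal.add_mem _ (Ideal.mul_mem_right (X j) _ hp)
      (Ideal.mul_mem_left _ (C (aeval c p)) (Ideal.subset_span ⟨j, rfl⟩)) using 1
    simp; ring

theorem height_point (c : Fin 9 → k) :
    (9 : ℕ∞) ≤ (RingHom.ker (aeval c : Lie3Mod.D k →ₐ[k] k)).height := by
  let g : ℕ → Lie3Mod.D k →ₐ[k] Lie3Mod.D k := fun n =>
    aeval fun j : Fin 9 => if j.val < n then C (c j) else X j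
  have hp : ∀ n, (RingHom.ker (g n)).IsPrime := fun n => RingHom.ker_isPrime _
  have hg : ∀ n, (g (n + 1)).comp (g n) = g (n + 1) := by
    intro n
    apply MvPolynomial.algHom_ext
    intro j
    by_cases h : j.val < n
    · have h' : j.val < n + 1 := by omega
      simp [g, h]
      intro h''; omega
    · simp [g, h]
  have key : ∀ n : ℕ, n ≤ 9 → (n : ℕ∞) ≤ (RingHom.ker (g n)).height := by
    intro n
    induction n with
    | zero => simp
    | succ n ih =>
      intro hn
      have := hp n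
      have := hp (n + 1)
      have hlt : RingHom.ker (g n) < RingHom.ker (g (n + 1)) := by
        refine lt_of_le_of_ne (fun x hx => ?_) fun e => ?_
        · rw [RingHom.mem_ker] at hx ⊢
          rw [← hg n]; simp [hx]
        · have h1 : (X ⟨n, by omega⟩ : Lie3Mod.D k) - C (c ⟨n, by omega⟩) ∈ RingHom.ker (g (n+1)) := by
            simp [g]
          rw [← e, RingHom.mem_ker] at h1
          simp [g, sub_eq_zero] at h1
          have h0 := congrArg (aeval fun _ => c ⟨n, by omega⟩ + 1) h1
          simp at h0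
      refine le_trans ?_ (Ideal.height_add_one_le_of_lt_of_isPrime hlt)
      push_cast
      exact add_le_add_left (ih (by omega)) 1
  refine le_trans (key 9 le_rfl) (Ideal.height_mono ?_)
  intro x hx
  have e : (g 9) x = C (aeval c x) := by
    have h : g 9 = (Algebra.ofId k (Lie3Mod.D k)).comp (aeval c) := by
      apply MvPolynomial.algHom_ext
      intro j
      simp [g, MvPolynomial.algebraMap_eq]
    rw [h]; rfl
  rw [RingHom.mem_ker] at hx ⊢
  rw [e] at hx
  simpa using hx

open MvPolynomial in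
set_option maxHeartbeats 2000000 in
/-- Let k be a field, t ∈ k, D = k[a,b,c,d,e,f,g,h,i] and J = (Q1, Q2, Q3, det M) with Q1 = ah + di − fg
− bg, Q2 = ie + bd − fh − ae, Q3 = hc + dc − af − bi, det M = −ch² + gbf + ei² − gec + hbi − ihf.
The maximal ideal (a, b − 1, c, d, e, f − t, g, h, i) of D contains J (it is the point given by the
Lie algebra with [x,y] = y, [x,z] = t z, [y,z] = 0), and the localization of D/J at the
corresponding prime is a regular local ring of Krull dimension 6: the scheme Spec(D/J) has a smooth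
k-rational point. -/
theorem result (k : Type u) [Field k] (t : k)
    (P : Ideal (Lie3Mod.D k ⧸ Lie3Mod.idJ k)) [P.IsPrime]
    (hP : P = Ideal.map (Ideal.Quotient.mk (Lie3Mod.idJ k))
      (Ideal.span ({X 0, X 1 - 1, X 2, X 3, X 4, X 5 - C t, X 6, X 7, X 8} : Set (Lie3Mod.D k)))) :
    IsRegularLocalRing (Localization.AtPrime P) ∧ ringKrullDim (Localization.AtPrime P) = 6 := by
  classical
  let J := Lie3Mod.idJ k
  let ev : Lie3Mod.D k →ₐ[k] k := aeval (pt t)
  let m : Ideal (Lie3Mod.D k) := RingHom.ker ev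
  have hm : m = Ideal.span (Set.range fun j => (X j : Lie3Mod.D k) - C (pt t j)) := by
    refine le_antisymm (fun p hp => ?_) (Ideal.span_le.mpr ?_)
    · have h := aeval_self_sub_mem (pt t) p
      have hp' : aeval (pt t) p = 0 := hp
      simpa [hp'] using h
    · rintro _ ⟨j, rfl⟩; simp [m, ev]
  have hgen : Ideal.span ({X 0, X 1 - 1, X 2, X 3, X 4, X 5 - C t, X 6, X 7, X 8} :
      Set (Lie3Mod.D k)) = m := by
    rw [hm]
    refine le_antisymm (Ideal.span_le.mpr ?_) (Ideal.span_le.mpr ?_)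
    · simp only [Set.insert_subset_iff, Set.singleton_subset_iff, SetLike.mem_coe]
      refine ⟨?_, ?_, ?_, ?_, ?_, ?_, ?_, ?_, ?_⟩
      exacts [Ideal.subset_span ⟨0, by simp [pt]⟩, Ideal.subset_span ⟨1, by simp [pt]⟩,
        Ideal.subset_span ⟨2, by simp [pt]⟩, Ideal.subset_span ⟨3, by simp [pt]⟩,
        Ideal.subset_span ⟨4, by simp [pt]⟩, Ideal.subset_span ⟨5, by simp [pt]⟩,
        Ideal.subset_span ⟨6, by simp [pt]⟩, Ideal.subset_span ⟨7, by simp [pt]⟩,
        Ideal.subset_span ⟨8, by simp [pt]⟩]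
    · rintro _ ⟨j, rfl⟩
      apply Ideal.subset_span
      fin_cases j <;> simp [pt]
  rw [hgen] at hP
  have hJm : J ≤ m := by
    simp only [J, Lie3Mod.idJ]
    rw [Ideal.span_le]
    simp only [Set.insert_subset_iff, Set.singleton_subset_iff, SetLike.mem_coe]
    simp [m, ev, pt, Lie3Mod.Q1, Lie3Mod.Q2, Lie3Mod.Q3, Lie3Mod.detM]
  have hmprime : m.IsPrime := RingHom.ker_isPrime _
  have hcomap : P.comap (Ideal.Quotient.mk J) = m := by
    rw [hP, Ideal.comap_map_of_surjective _ Ideal.Quotient.mk_surjective,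
      ← RingHom.ker_eq_comap_bot, Ideal.mk_ker, sup_eq_left]
    exact hJm
  let D' := Localization.AtPrime m
  let Rl := Localization.AtPrime P
  let g : D' →+* Rl := Localization.localRingHom m P (Ideal.Quotient.mk J) hcomap.symm
  let r : Lie3Mod.D k →+* D' := algebraMap _ _
  let s : Lie3Mod.D k →+* Rl := (algebraMap _ _).comp (Ideal.Quotient.mk J)
  have hgr : ∀ x, g (r x) = s x := fun x => Localization.localRingHom_to_map _ _ _ _ x
  have hsJ : ∀ x ∈ J, s x = 0 := fun x hx => by
    simp [s, Ideal.Quotient.eq_zero_iff_mem.mpr hx]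
  have hmem : ∀ x, x ∈ m ↔ Ideal.Quotient.mk J x ∈ P := fun x => by rw [← hcomap]; rfl
  have hsurj : Function.Surjective g := by
    intro y
    obtain ⟨x, u, rfl⟩ := IsLocalization.exists_mk'_eq P.primeCompl y
    obtain ⟨x, rfl⟩ := Ideal.Quotient.mk_surjective x
    obtain ⟨u, hu⟩ := u
    obtain ⟨u, rfl⟩ := Ideal.Quotient.mk_surjective u
    exact ⟨IsLocalization.mk' D' x (⟨u, fun h => hu ((hmem u).mp h)⟩ : m.primeCompl),
      Localization.localRingHom_mk' _ _ _ _ _ _⟩
  have hker : RingHom.ker g = J.map r := by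
    refine le_antisymm (fun y hy => ?_) (Ideal.map_le_iff_le_comap.mpr fun x hx => ?_)
    · obtain ⟨x, u, rfl⟩ := IsLocalization.exists_mk'_eq m.primeCompl y
      have hsx : s x = 0 := by
        rw [← hgr, show r x = IsLocalization.mk' D' x u * r u from (IsLocalization.mk'_spec _ _ _).symm,
          map_mul, (RingHom.mem_ker.mp hy), zero_mul]
      obtain ⟨⟨v, hv⟩, hv0⟩ :=
        (IsLocalization.map_eq_zero_iff P.primeCompl Rl (Ideal.Quotient.mk J x)).mp hsx
      obtain ⟨v, rfl⟩ := Ideal.Quotient.mk_surjective v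
      rw [← map_mul, Ideal.Quotient.eq_zero_iff_mem] at hv0
      exact (IsLocalization.mk'_mem_map_algebraMap_iff m.primeCompl D' J x u).mpr
        ⟨v, fun h => hv ((hmem v).mp h), hv0⟩
    · change g (r x) = 0
      rw [hgr]; exact hsJ x hx
  have hunit : ∀ x, ev x ≠ 0 → IsUnit (r x) := fun x hx =>
    IsLocalization.map_units D' (⟨x, hx⟩ : m.primeCompl)
  have hsunit : ∀ x, ev x ≠ 0 → IsUnit (s x) := fun x hx => hgr x ▸ (hunit x hx).map g
  -- the six remaining coordinates
  let S : Finset Rl := {s (X 0), s (X 1 - 1), s (X 2), s (X 4), s (X 5 - C t), s (X 7)}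
  have hmk : ∀ x y, ev x ≠ 0 → x * y ∈ J ⊔ Ideal.span ({X 0, X 2, X 4, X 7} : Set (Lie3Mod.D k)) →
      s y ∈ Ideal.span (S : Set Rl) := by
    intro x y hx hxy
    obtain ⟨w, hw⟩ := hsunit x hx
    have h1 : s (x * y) ∈ (J ⊔ Ideal.span ({X 0, X 2, X 4, X 7} : Set (Lie3Mod.D k))).map s :=
      Ideal.mem_map_of_mem _ hxy
    have h2 : (J ⊔ Ideal.span ({X 0, X 2, X 4, X 7} : Set (Lie3Mod.D k))).map s
        ≤ Ideal.span (S : Set Rl) := by
      rw [Ideal.map_sup, sup_le_iff, Ideal.map_span, Ideal.span_le]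
      refine ⟨Ideal.map_le_iff_le_comap.mpr fun z hz => by simp [hsJ z hz], ?_⟩
      rintro _ ⟨z, hz, rfl⟩
      apply Ideal.subset_span
      simp at hz
      rcases hz with rfl | rfl | rfl | rfl <;> simp [S]
    have := h2 h1
    rw [map_mul, ← hw] at this
    simpa using Ideal.mul_mem_left _ (↑w⁻¹ : Rl) this
  have hq : ∀ a b c d : Lie3Mod.D k, a * Lie3Mod.Q1 k + b * Lie3Mod.Q2 k + c * Lie3Mod.Q3 k
      + d * Lie3Mod.detM k ∈ J := fun a b c d =>
    Ideal.add_mem _ (Ideal.add_mem _ (Ideal.add_mem _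
      (Ideal.mul_mem_left _ _ (Ideal.subset_span (by simp)))
      (Ideal.mul_mem_left _ _ (Ideal.subset_span (by simp))))
      (Ideal.mul_mem_left _ _ (Ideal.subset_span (by simp))))
      (Ideal.mul_mem_left _ _ (Ideal.subset_span (by simp)))
  have hX : ∀ a b c d : Lie3Mod.D k, a * X 0 + b * X 2 + c * X 4 + d * X 7
      ∈ Ideal.span ({X 0, X 2, X 4, X 7} : Set (Lie3Mod.D k)) := fun a b c d =>
    Ideal.add_mem _ (Ideal.add_mem _ (Ideal.add_mem _
      (Ideal.mul_mem_left _ _ (Ideal.subset_span (by simp)))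
      (Ideal.mul_mem_left _ _ (Ideal.subset_span (by simp))))
      (Ideal.mul_mem_left _ _ (Ideal.subset_span (by simp))))
      (Ideal.mul_mem_left _ _ (Ideal.subset_span (by simp)))
  have h3 : s (X 3) ∈ Ideal.span (S : Set Rl) := by
    apply hmk (X 1) _ (by simp [ev, pt])
    convert Submodule.add_mem_sup (hq 0 1 0 0) (hX (X 4) 0 (-X 8) (X 5)) using 1
    simp [Lie3Mod.Q2]; ring
  have h8 : s (X 8) ∈ Ideal.span (S : Set Rl) := by
    apply hmk (X 1) _ (by simp [ev, pt])
    convert Submodule.add_mem_sup (hq 0 0 (-1) 0) (hX (-X 5) (X 7 + X 3) 0 0) using 1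
    simp [Lie3Mod.Q3]; ring
  obtain ⟨T, hT, hTcard, h6⟩ : ∃ T : Finset (Lie3Mod.D k), J.map r = Ideal.span (r '' T) ∧
      T.card ≤ 3 ∧ s (X 6) ∈ Ideal.span (S : Set Rl) := by
    have hTle : ∀ T : Finset (Lie3Mod.D k), (T : Set (Lie3Mod.D k)) ⊆ (J : Set (Lie3Mod.D k)) → Ideal.span (r '' T) ≤ J.map r :=
      fun T hT => Ideal.span_le.mpr (by rintro _ ⟨z, hz, rfl⟩; exact Ideal.mem_map_of_mem _ (hT hz))
    by_cases ht : t + 1 = 0
    · have ht' : t = -1 := eq_neg_of_add_eq_zero_left ht
      let δ : Lie3Mod.D k := X 1 * X 5 - X 4 * X 2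
      have hδ : ev δ ≠ 0 := by simp [δ, ev, pt, ht']
      refine ⟨{Lie3Mod.Q2 k, Lie3Mod.Q3 k, Lie3Mod.detM k}, ?_, Finset.card_le_three, ?_⟩
      · refine le_antisymm ?_ (hTle _ (by
          intro z hz; simp at hz; rcases hz with rfl | rfl | rfl <;> exact Ideal.subset_span (by simp)))
        rw [show J.map r = Ideal.span (r '' {Lie3Mod.Q1 k, Lie3Mod.Q2 k, Lie3Mod.Q3 k,
          Lie3Mod.detM k}) from Ideal.map_span r _, Ideal.span_le]
        rintro _ ⟨z, hz, rfl⟩
        simp at hz
        rcases hz with rfl | rfl | rfl | rfl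
        · obtain ⟨w, hw⟩ := hunit δ hδ
          have e : r δ * r (Lie3Mod.Q1 k) = r (X 7 * X 2 + X 8 * X 5) * r (Lie3Mod.Q2 k)
              - r (X 7 * X 1 + X 8 * X 4) * r (Lie3Mod.Q3 k) - r (X 1 + X 5) * r (Lie3Mod.detM k) := by
            simp only [← map_mul, ← map_sub]
            congr 1
            simp [δ, Lie3Mod.Q1, Lie3Mod.Q2, Lie3Mod.Q3, Lie3Mod.detM]; ring
          have : r δ * r (Lie3Mod.Q1 k) ∈ Ideal.span (r '' (({Lie3Mod.Q2 k, Lie3Mod.Q3 k,
              Lie3Mod.detM k} : Finset _) : Set _)) := by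
            rw [e]
            refine Ideal.sub_mem _ (Ideal.sub_mem _ ?_ ?_) ?_ <;>
              exact Ideal.mul_mem_left _ _ (Ideal.subset_span ⟨_, by simp, rfl⟩)
          rw [← hw] at this
          simpa using Ideal.mul_mem_left _ (↑w⁻¹ : D') this
        all_goals exact Ideal.subset_span ⟨_, by simp, rfl⟩
      · apply hmk δ _ hδ
        convert Submodule.add_mem_sup (hq 0 0 0 1)
          (hX 0 0 (-(X 8 ^ 2)) (X 2 * X 7 - X 1 * X 8 + X 8 * X 5)) using 1
        simp [δ, Lie3Mod.detM]; ring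
    · have hu : ev (X 1 + X 5) ≠ 0 := by simpa [ev, pt, add_comm] using ht
      refine ⟨{Lie3Mod.Q1 k, Lie3Mod.Q2 k, Lie3Mod.Q3 k}, ?_, Finset.card_le_three, ?_⟩
      · refine le_antisymm ?_ (hTle _ (by
          intro z hz; simp at hz; rcases hz with rfl | rfl | rfl <;> exact Ideal.subset_span (by simp)))
        rw [show J.map r = Ideal.span (r '' {Lie3Mod.Q1 k, Lie3Mod.Q2 k, Lie3Mod.Q3 k,
          Lie3Mod.detM k}) from Ideal.map_span r _, Ideal.span_le]
        rintro _ ⟨z, hz, rfl⟩
        simp at hz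
        rcases hz with rfl | rfl | rfl | rfl
        iterate 3 exact Ideal.subset_span ⟨_, by simp, rfl⟩
        obtain ⟨w, hw⟩ := hunit _ hu
        have hL : r (Lie3Mod.detM k * Lie3Mod.L2 k) ∈ Ideal.span (r '' (({Lie3Mod.Q1 k,
            Lie3Mod.Q2 k, Lie3Mod.Q3 k} : Finset _) : Set _)) := by
          have h := Ideal.mem_map_of_mem r
            (detM_mul_mem (x := Lie3Mod.L2 k) (Ideal.subset_span (by simp)))
          rw [Lie3Mod.idI, Ideal.map_span] at h
          simpa using h
        rw [map_mul, show r (Lie3Mod.L2 k) = ↑w by rw [hw]; rfl] at hL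
        simpa using Ideal.mul_mem_right (↑w⁻¹ : D') _ hL
      · obtain ⟨w, hw⟩ := hsunit _ hu
        have e : s (X 1 + X 5) * s (X 6) = s (X 0) * s (X 7) + s (X 3) * s (X 8) := by
          simp only [← map_mul, ← map_add]
          rw [← sub_eq_zero]
          refine (map_sub s _ _).symm.trans ?_
          refine hsJ _ ?_
          convert hq (-1) 0 0 0 using 1
          simp [Lie3Mod.Q1]; ring
        have h' : s (X 1 + X 5) * s (X 6) ∈ Ideal.span (S : Set Rl) := by
          rw [e]
          exact Ideal.add_mem _ (Ideal.mul_mem_right _ _ (Ideal.subset_span (by simp [S])))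
            (Ideal.mul_mem_right _ _ h3)
        rw [← hw] at h'
        simpa using Ideal.mul_mem_left _ (↑w⁻¹ : Rl) h'
  have hmP : IsLocalRing.maximalIdeal Rl = m.map s :=
    Localization.AtPrime.map_eq_maximalIdeal.symm.trans
      ((congrArg (Ideal.map (algebraMap _ Rl)) hP).trans (Ideal.map_map _ _))
  have hmax : IsLocalRing.maximalIdeal Rl ≤ Ideal.span (S : Set Rl) := by
    rw [hmP, hm, Ideal.map_span,
      Ideal.span_le]
    rintro _ ⟨_, ⟨j, rfl⟩, rfl⟩
    change s (X j - C (pt t j)) ∈ _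
    fin_cases j
    all_goals simp only [Fin.reduceFinMk]
    · exact Ideal.subset_span (by simp [S, pt])
    · exact Ideal.subset_span (by simp [S, pt])
    · exact Ideal.subset_span (by simp [S, pt])
    · simpa [pt] using h3
    · exact Ideal.subset_span (by simp [S, pt])
    · exact Ideal.subset_span (by simp [S, pt])
    · simpa [pt] using h6
    · exact Ideal.subset_span (by simp [S, pt])
    · simpa [pt] using h8
  have hSmax : (S : Set Rl) ⊆ IsLocalRing.maximalIdeal Rl := by
    rw [hmP]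
    intro z hz
    simp only [S, Finset.coe_insert, Finset.coe_singleton, Set.mem_insert_iff,
      Set.mem_singleton_iff] at hz
    rcases hz with rfl | rfl | rfl | rfl | rfl | rfl <;>
      (refine Ideal.mem_map_of_mem _ ?_; simp [m, ev, pt])
  have hspan : IsLocalRing.maximalIdeal Rl = Ideal.span (S : Set Rl) :=
    le_antisymm hmax (Ideal.span_le.mpr hSmax)
  have hfr : (IsLocalRing.maximalIdeal Rl).spanFinrank ≤ 6 := by
    rw [hspan]
    refine (Submodule.spanFinrank_span_le_ncard_of_finite S.finite_toSet).trans ?_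
    rw [Set.ncard_coe_finset]
    exact Finset.card_le_six
  have hd9 : (9 : WithBot ℕ∞) ≤ ringKrullDim D' := by
    rw [IsLocalization.AtPrime.ringKrullDim_eq_height m D']
    exact WithBot.coe_le_coe.mpr (height_point _)
  have hd6 : (6 : WithBot ℕ∞) ≤ ringKrullDim Rl := by
    rw [← ringKrullDim_eq_of_ringEquiv (R := D' ⧸ RingHom.ker g) (RingHom.quotientKerEquivOfSurjective hsurj), hker, hT]
    have hTj : r '' T ⊆ Ring.jacobson D' := by
      rintro _ ⟨z, hz, rfl⟩
      rw [IsLocalRing.ringJacobson_eq_maximalIdeal, ← Localization.AtPrime.map_eq_maximalIdeal]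
      have : r z ∈ J.map r := hT ▸ Ideal.subset_span ⟨z, hz, rfl⟩
      exact Ideal.map_mono hJm this
    have h := le_trans hd9 (ringKrullDim_le_ringKrullDim_quotient_add_encard _ hTj)
    have hc : (r '' (T : Set _)).encard ≤ 3 := by
      refine (Set.encard_image_le _ _).trans ?_
      rw [Set.encard_coe_eq_coe_finsetCard]
      exact_mod_cast hTcard
    have hle := le_trans h (add_le_add_right (WithBot.coe_le_coe.mpr hc) _)
    revert hle
    generalize ringKrullDim (D' ⧸ Ideal.span (r '' (T : Set _))) = w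
    intro hle
    induction w with
    | bot => simp at hle
    | coe w =>
      have : (9 : ℕ∞) ≤ w + 3 := WithBot.coe_le_coe.mp hle
      refine WithBot.coe_le_coe.mpr ?_
      induction w with
      | top => simp
      | coe w => norm_cast at this ⊢; omega
  have hle6 : ringKrullDim Rl ≤ 6 :=
    (ringKrullDim_le_spanFinrank_maximalIdeal Rl).trans (by exact_mod_cast hfr)
  refine ⟨IsRegularLocalRing.of_spanFinrank_maximalIdeal_le _ (le_trans ?_ hd6), le_antisymm hle6 hd6⟩
  exact_mod_cast hfr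

end Groth.Agent.S13105
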