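import Groth.Statements.S13106
import Mathlib.CategoryTheory.Limits.Shapes.Diagonal
import Mathlib.AlgebraicGeometry.Morphisms.Separated
import Mathlib.AlgebraicGeometry.Morphisms.ClosedImmersion
-- import your own Groth.Agent.* helpers here

set_option autoImplicit false
universe u
open GrpSch

namespace Groth.Agent.S13106
open CategoryTheory.Limits

open CategoryTheory AlgebraicGeometry in
/-- Let f : X → Y be a morphism of schemes and U ⊆ Y a schematically dense open subscheme (for every
open V of Y, restriction of functions from V to V ∩ U is injective) such that the restriction f⁻¹(U)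
→ U of f is an isomorphism. Then two morphisms from Y to a scheme separated over a base T that agree
after composing with f and have the same composite to T are equal: if Z → T is separated and v₁, v₂
: Y → Z satisfy v₁ ≫ (Z → T) = v₂ ≫ (Z → T) and f ≫ v₁ = f ≫ v₂, then v₁ = v₂. (The published
statement is the case of a morphism between two prolongations over A[[t]] of a finite group scheme
over A((t)), where U is the generic fibre, schematically dense by flatness; uniqueness of
prolongation maps follows.) -/
theorem result {X Y Z T : Scheme.{u}} (f : X ⟶ Y)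
    (U : Y.Opens) (hU : CInt.IsSchematicallyDense U) [IsIso (f ∣_ U)]
    (z : Z ⟶ T) [IsSeparated z] (v₁ v₂ : Y ⟶ Z) (hz : v₁ ≫ z = v₂ ≫ z) (h : f ≫ v₁ = f ≫ v₂) :
    v₁ = v₂ := by
  let d : Z ⟶ pullback z z := pullback.diagonal z
  let w := pullback.lift v₁ v₂ hz
  let i := pullback.snd d w
  have : IsClosedImmersion i := inferInstance
  have hfac : ∀ {W : Scheme.{u}} (g : W ⟶ Y), g ≫ v₁ = g ≫ v₂ → ∃ l, l ≫ i = g := by
    intro W g hg
    exact ⟨pullback.lift (g ≫ v₁) g (by
      apply pullback.hom_ext
      · simp only [Category.assoc, show d ≫ pullback.fst z z = 𝟙 Z from pullback.diagonal_fst z,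
          show w ≫ pullback.fst z z = v₁ from pullback.lift_fst _ _ _, Category.comp_id]
      · simp only [Category.assoc, show d ≫ pullback.snd z z = 𝟙 Z from pullback.diagonal_snd z,
          show w ≫ pullback.snd z z = v₂ from pullback.lift_snd _ _ _, Category.comp_id, hg]), pullback.lift_snd _ _ _⟩
  have hU' : U.ι ≫ v₁ = U.ι ≫ v₂ := by
    rw [← cancel_epi (f ∣_ U), morphismRestrict_ι_assoc, morphismRestrict_ι_assoc, h]
  obtain ⟨l, hl⟩ := hfac U.ι hU'
  have hle : i.ker ≤ U.ι.ker := hl ▸ l.le_ker_comp i
  have hbot : i.ker = ⊥ := by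
    apply le_bot_iff.1
    intro V x hx
    have hx' : x ∈ RingHom.ker (U.ι.app V.1).hom := U.ι.ideal_ker_le V (hle V hx)
    have hinj : Function.Injective (U.ι.app V.1) := by
      have := hU V.1
      rw [Scheme.Opens.ι_app]
      intro p q hpq
      have hle' : U.ι ''ᵁ (U.ι ⁻¹ᵁ V.1) ≤ (V.1 ⊓ U : Y.Opens) := by
        rw [Scheme.Hom.image_preimage_eq_opensRange_inf, Scheme.Opens.opensRange_ι, inf_comm]
      have hge : (V.1 ⊓ U : Y.Opens) ≤ U.ι ''ᵁ (U.ι ⁻¹ᵁ V.1) := by
        rw [Scheme.Hom.image_preimage_eq_opensRange_inf, Scheme.Opens.opensRange_ι, inf_comm]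
      apply this
      have := congrArg (Y.presheaf.map (homOfLE hge).op) hpq
      erw [← ConcreteCategory.comp_apply, ← ConcreteCategory.comp_apply, ← Functor.map_comp] at this
      exact this
    exact (Submodule.mem_bot _).2 (hinj (by rw [map_zero]; exact hx'))
  have : IsIso i := (IsClosedImmersion.isIso_iff_ker_eq_bot).2 hbot
  have key : i ≫ v₁ = i ≫ v₂ := by
    have hc : pullback.fst d w ≫ d = i ≫ w := pullback.condition
    have h1 := congrArg (· ≫ pullback.fst z z) hc
    have h2 := congrArg (· ≫ pullback.snd z z) hc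
    simp only [Category.assoc, show d ≫ pullback.fst z z = 𝟙 Z from pullback.diagonal_fst z,
      show w ≫ pullback.fst z z = v₁ from pullback.lift_fst _ _ _, Category.comp_id] at h1
    simp only [Category.assoc, show d ≫ pullback.snd z z = 𝟙 Z from pullback.diagonal_snd z,
      show w ≫ pullback.snd z z = v₂ from pullback.lift_snd _ _ _, Category.comp_id] at h2
    rw [← h1, ← h2]
  exact (cancel_epi i).1 key

end Groth.Agent.S13106
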