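import Groth.Statements.S13107
import Groth.Agent.H63.Lie3
-- import your own Groth.Agent.* helpers here

set_option autoImplicit false
universe u v w
open GrpSch

namespace Groth.Agent.S13107
open Groth.Agent.H63.Lie3

/-- Let k be a field, K = k((t)) the field of Laurent series over k, F a Lie algebra over K with a basis
x' = bF 0, y' = bF 1, z' = bF 2 and brackets [x',y'] = z', [x',z'] = t y', [y',z'] = 0, and L a Lie
algebra over K with a basis x = bL 0, y = bL 1, z = bL 2 and brackets [x,y] = y, [x,z] = −z, [y,z] =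
0. Then there is no K-linear isomorphism of Lie algebras between L and F: F is a non-trivial form of
L over K. (The published result is the classification of three-dimensional Lie algebras over k((t))
for k algebraically closed of characteristic not 2, with F its only non-split entry; this row states
the non-isomorphism of F and L over k((t)) for every field k.) -/
theorem result (k : Type u) [Field k]
    (F : Type v) [LieRing F] [LieAlgebra (LaurentSeries k) F] (bF : Module.Basis (Fin 3) (LaurentSeries k) F)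
    (hF01 : ⁅bF 0, bF 1⁆ = bF 2) (hF02 : ⁅bF 0, bF 2⁆ = (HahnSeries.single 1 (1 : k) : LaurentSeries k) • bF 1)
    (hF12 : ⁅bF 1, bF 2⁆ = 0)
    (L : Type w) [LieRing L] [LieAlgebra (LaurentSeries k) L] (bL : Module.Basis (Fin 3) (LaurentSeries k) L)
    (hL01 : ⁅bL 0, bL 1⁆ = bL 1) (hL02 : ⁅bL 0, bL 2⁆ = -bL 2) (hL12 : ⁅bL 1, bL 2⁆ = 0) :
    IsEmpty (L ≃ₗ⁅LaurentSeries k⁆ F) := by
  refine ⟨fun φ => ?_⟩
  set t : LaurentSeries k := HahnSeries.single 1 (1 : k) with ht
  have k1 : ⁅bF 0, bF 1⁆ = (0 : LaurentSeries k) • bF 1 + (1 : LaurentSeries k) • bF 2 := by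
    rw [hF01]; simp
  have k2 : ⁅bF 0, bF 2⁆ = t • bF 1 + (0 : LaurentSeries k) • bF 2 := by rw [hF02]; simp
  have m1 : ⁅φ (bL 0), φ (bL 1)⁆ = φ (bL 1) := by rw [← LieEquiv.map_lie, hL01]
  have d0 : bF.repr (φ (bL 1)) 0 = 0 := by rw [← m1]; exact bracket_repr_zero bF k1 k2 hF12 _ _
  have E1 := bracket_repr_one bF k1 k2 hF12 (φ (bL 0)) (φ (bL 1))
  have F1 := bracket_repr_two bF k1 k2 hF12 (φ (bL 0)) (φ (bL 1))
  rw [m1, d0] at E1 F1
  set a := bF.repr (φ (bL 0)) 0
  set e := bF.repr (φ (bL 1)) 1 with he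
  set f := bF.repr (φ (bL 1)) 2 with hf
  have hef : f ≠ 0 := by
    intro hf0
    have he0 : e = 0 := by rw [E1, hf0]; ring
    have hz : φ (bL 1) = 0 := by
      rw [expand bF (φ (bL 1)), d0, ← he, ← hf, he0, hf0]; simp
    exact bL.ne_zero 1 (φ.toLinearEquiv.map_eq_zero_iff.1 hz)
  have hsq : (a ^ 2 * t - 1) * f = 0 := by linear_combination -F1 - a * E1
  have h1 : a ^ 2 * t = 1 := sub_eq_zero.1 ((mul_eq_zero.1 hsq).resolve_right hef)
  have ha : a ≠ 0 := fun h0 => by simp [h0] at h1
  have ht0 : t ≠ 0 := HahnSeries.single_ne_zero one_ne_zero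
  have h2 := congrArg HahnSeries.order h1
  rw [sq, HahnSeries.order_mul (mul_ne_zero ha ha) ht0, HahnSeries.order_mul ha ha, ht,
    HahnSeries.order_single one_ne_zero, HahnSeries.order_one] at h2
  omega

end Groth.Agent.S13107
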