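import Groth.Statements.S13108
import Groth.Agent.H63.Lie3
import Mathlib.LinearAlgebra.Basis.Basic
import Mathlib.Tactic.Module
-- import your own Groth.Agent.* helpers here

set_option autoImplicit false
universe u v w
open GrpSch

namespace Groth.Agent.S13108
open Groth.Agent.H63.Lie3

/-- Let k be a field and t, t' ∈ k both non-zero; let L be a Lie algebra over k with a basis x = b 0, y
= b 1, z = b 2 and brackets [x,y] = y, [x,z] = t z, [y,z] = 0, and L' a Lie algebra over k with a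
basis x' = b' 0, y' = b' 1, z' = b' 2 and brackets [x',y'] = y', [x',z'] = t' z', [y',z'] = 0. Then
L and L' are isomorphic Lie algebras over k if and only if t' = t or t' = t⁻¹. -/
theorem result (k : Type u) [Field k] (t t' : k) (ht : t ≠ 0) (ht' : t' ≠ 0)
    (L : Type v) [LieRing L] [LieAlgebra k L] (b : Module.Basis (Fin 3) k L)
    (h01 : ⁅b 0, b 1⁆ = b 1) (h02 : ⁅b 0, b 2⁆ = t • b 2) (h12 : ⁅b 1, b 2⁆ = 0)
    (L' : Type w) [LieRing L'] [LieAlgebra k L'] (b' : Module.Basis (Fin 3) k L')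
    (h01' : ⁅b' 0, b' 1⁆ = b' 1) (h02' : ⁅b' 0, b' 2⁆ = t' • b' 2) (h12' : ⁅b' 1, b' 2⁆ = 0) :
    Nonempty (L ≃ₗ⁅k⁆ L') ↔ (t' = t ∨ t' = t⁻¹) := by
  have k1 : ⁅b 0, b 1⁆ = (1 : k) • b 1 + (0 : k) • b 2 := by rw [h01]; simp
  have k2 : ⁅b 0, b 2⁆ = (0 : k) • b 1 + t • b 2 := by rw [h02]; simp
  have k1' : ⁅b' 0, b' 1⁆ = (1 : k) • b' 1 + (0 : k) • b' 2 := by rw [h01']; simp
  have k2' : ⁅b' 0, b' 2⁆ = (0 : k) • b' 1 + t' • b' 2 := by rw [h02']; simp
  constructor
  · rintro ⟨φ⟩
    have m1 : ⁅φ (b 0), φ (b 1)⁆ = φ (b 1) := by rw [← LieEquiv.map_lie, h01]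
    have m2 : ⁅φ (b 0), φ (b 2)⁆ = t • φ (b 2) := by rw [← LieEquiv.map_lie, h02, map_smul]
    have d0 : b'.repr (φ (b 1)) 0 = 0 := by rw [← m1]; exact bracket_repr_zero b' k1' k2' h12' _ _
    have g0 : b'.repr (φ (b 2)) 0 = 0 := by
      have := bracket_repr_zero b' k1' k2' h12' (φ (b 0)) (φ (b 2))
      rw [m2, map_smul, Finsupp.smul_apply, smul_eq_mul] at this
      exact (mul_eq_zero.1 this).resolve_left ht
    have E1 := bracket_repr_one b' k1' k2' h12' (φ (b 0)) (φ (b 1))
    have F1 := bracket_repr_two b' k1' k2' h12' (φ (b 0)) (φ (b 1))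
    have E2 := bracket_repr_one b' k1' k2' h12' (φ (b 0)) (φ (b 2))
    have F2 := bracket_repr_two b' k1' k2' h12' (φ (b 0)) (φ (b 2))
    rw [m1, d0] at E1 F1
    rw [m2, map_smul, Finsupp.smul_apply, smul_eq_mul, g0] at E2 F2
    have hdet := (isUnit_det b b' φ.toLinearEquiv).ne_zero
    simp only [LieEquiv.coe_toLinearEquiv, d0, g0, mul_zero, zero_mul, sub_zero, add_zero] at hdet
    set a := b'.repr (φ (b 0)) 0
    set e := b'.repr (φ (b 1)) 1
    set f := b'.repr (φ (b 1)) 2
    set h := b'.repr (φ (b 2)) 1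
    set i := b'.repr (φ (b 2)) 2
    have e1 : (a - 1) * e = 0 := by linear_combination -E1
    have f1 : (a * t' - 1) * f = 0 := by linear_combination -F1
    have h2 : (a - t) * h = 0 := by linear_combination -E2
    have i2 : (a * t' - t) * i = 0 := by linear_combination -F2
    rcases eq_or_ne (e * i) 0 with hei | hei
    · have hfh : f * h ≠ 0 := fun h0 => hdet (by linear_combination a * hei - a * h0)
      obtain ⟨hf0, hh0⟩ := ne_zero_and_ne_zero_of_mul hfh
      have r1 := (mul_eq_zero.1 f1).resolve_right hf0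
      have r2 := (mul_eq_zero.1 h2).resolve_right hh0
      refine Or.inr (eq_inv_of_mul_eq_one_left ?_)
      linear_combination r1 - t' * r2
    · obtain ⟨he0, hi0⟩ := ne_zero_and_ne_zero_of_mul hei
      have r1 := (mul_eq_zero.1 e1).resolve_right he0
      have r2 := (mul_eq_zero.1 i2).resolve_right hi0
      exact Or.inl (by linear_combination r2 - t' * r1)
  · rintro (h | h)
    · refine ⟨{ toLinearMap := (b.equiv b' (Equiv.refl _)).toLinearMap, invFun := (b.equiv b' (Equiv.refl _)).symm, left_inv := (b.equiv b' (Equiv.refl _)).left_inv, right_inv := (b.equiv b' (Equiv.refl _)).right_inv, map_lie' := ?_ }⟩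
      intro x y
      show b.equiv b' (Equiv.refl _) ⁅x, y⁆ = ⁅b.equiv b' (Equiv.refl _) x, b.equiv b' (Equiv.refl _) y⁆
      conv_rhs => rw [expand b x, expand b y]
      rw [bracket_eq b k1 k2 h12 x y]
      simp only [map_add, map_smul, Module.Basis.equiv_apply, Equiv.refl_apply]
      rw [bracket_eq b' k1' k2' h12']
      simp [h]
    · have htt : t * t' = 1 := by rw [h, mul_inv_cancel₀ ht]
      let v : Fin 3 → L' := ![t • b' 0, b' 2, b' 1]
      let ψ : L →ₗ[k] L' := b.constr k v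
      let v' : Fin 3 → L := ![t' • b 0, b 2, b 1]
      let ψ' : L' →ₗ[k] L := b'.constr k v'
      have e1 : ψ' ∘ₗ ψ = LinearMap.id := b.ext fun j => by
        fin_cases j <;> simp [ψ, ψ', v, v', smul_smul, htt, mul_comm t' t]
      have e2 : ψ ∘ₗ ψ' = LinearMap.id := b'.ext fun j => by
        fin_cases j <;> simp [ψ, ψ', v, v', smul_smul, htt, mul_comm t' t]
      refine ⟨{ toLinearMap := ψ, invFun := ψ', left_inv := fun x => LinearMap.congr_fun e1 x, right_inv := fun x => LinearMap.congr_fun e2 x, map_lie' := ?_ }⟩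
      intro x y
      show ψ ⁅x, y⁆ = ⁅ψ x, ψ y⁆
      conv_rhs => rw [expand b x, expand b y]
      rw [bracket_eq b k1 k2 h12 x y]
      simp only [map_add, map_smul, ψ, Module.Basis.constr_basis, v, Matrix.cons_val_zero, Matrix.cons_val_one, Matrix.cons_val]
      rw [bracket_eq b' k1' k2' h12']
      simp
      match_scalars <;> grind

end Groth.Agent.S13108
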