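import Groth.Statements.S13110
import Groth.Agent.Lib.RefHull.NormalAlg
import Groth.Agent.Lib.WeakNormal.ProperDescent
import Groth.Agent.Lib.Subtrusive.Noetherian
import Mathlib.RingTheory.DedekindDomain.Dvr
import Mathlib.RingTheory.KrullDimension.Field

set_option autoImplicit false
universe u
open HTop

namespace Groth.Agent.S13110

open AlgebraicGeometry W4c1hilbchowinc in
/-- Let A be a reduced Noetherian ring, integrally closed inside its total ring of fractions
(equivalently, a finite product of integrally closed Noetherian domains). Then a pointwise function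
on Spec A — one element of the residue field κ(y) for every point y — which varies algebraically
along discrete valuation rings (for every discrete valuation ring R and every morphism Spec R → Spec
A there is an element of R whose values at the two points of Spec R are the images of the chosen
values) is the family of values of exactly one global section. Reducedness is part of the meaning of
integrally closed here; test rings range over the universe of A. -/
theorem result
    (A : Type u) [CommRing A] [IsReduced A] [IsNoetherianRing A] [IsIntegrallyClosed A]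
    (f : PtFun (Spec (CommRingCat.of A))) (hf : f.VariesAlongDVR) :
    ∃! a : Γ(Spec (CommRingCat.of A), ⊤), PtFun.ofSection (Spec (CommRingCat.of A)) a = f := by
  classical
  let X := Spec (CommRingCat.of A)
  let E : ∀ x : X, A →+* X.residueField x := fun x =>
    (X.Γevaluation x).hom.comp (Scheme.ΓSpecIso (CommRingCat.of A)).inv.hom
  have hE : ∀ (x : X) (a : A), E x a = 0 ↔ a ∈ (x : PrimeSpectrum A).asIdeal := by
    intro x a
    show X.Γevaluation x ((Scheme.ΓSpecIso (CommRingCat.of A)).inv a) = 0 ↔ _
    rw [X.evaluation_eq_zero_iff_notMem_basicOpen (U := ⊤) x trivial, basicOpen_eq_of_affine]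
    exact not_not
  have hnat : ∀ {R : Type u} [CommRing R] (h : A →+* R) (y : Spec (CommRingCat.of R)) (a : A),
      (Spec.map (CommRingCat.ofHom h)).residueFieldMap y (E ((Spec.map (CommRingCat.ofHom h)) y) a) =
        (Spec (CommRingCat.of R)).Γevaluation y
          ((Scheme.ΓSpecIso (CommRingCat.of R)).inv (h a)) := by
    intro R _ h y a
    refine (Scheme.Γevaluation_naturality_apply (Spec.map (CommRingCat.ofHom h)) y _).trans ?_
    exact congrArg (fun z => (Spec (CommRingCat.of R)).Γevaluation y z)
      (congr($(Scheme.ΓSpecIso_inv_naturality (CommRingCat.ofHom h)) a)).symm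
  -- idempotents separating the minimal primes
  have hidem : ∀ Q ∈ minimalPrimes A, ∃ e : A, 1 - e ∈ Q ∧ ∀ Q' ∈ minimalPrimes A, Q' ≠ Q → e ∈ Q' := by
    intro Q hQ
    let others := (minimalPrimes.finite_of_isNoetherianRing A).toFinset.erase Q
    have hnle : ∀ Q' : others, ∃ a, a ∈ (Q' : Ideal A) ∧ a ∉ Q := by
      rintro ⟨Q', h⟩
      simp only [others, Finset.mem_erase, Set.Finite.mem_toFinset] at h
      exact SetLike.not_le_iff_exists.1 fun hle => h.1 ((hQ.2 ⟨h.2.1.1, bot_le⟩ hle).antisymm hle).symm
    choose c hc1 hc2 using hnle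
    have := hQ.1.1
    let a := ∏ Q', c Q'
    have haQ : a ∉ Q := fun h => by
      obtain ⟨Q', -, hQ'⟩ := (hQ.1.1.prod_mem_iff).1 h
      exact hc2 Q' hQ'
    have hao : ∀ Q' ∈ minimalPrimes A, Q' ≠ Q → a ∈ Q' := fun Q' hQ' hne => by
      let i : others := ⟨Q', by simp [others, hne, hQ']⟩
      exact Ideal.mem_of_dvd Q' (Finset.dvd_prod_of_mem c (Finset.mem_univ i)) (hc1 i)
    have hnb : ¬ (Q : Set A) ⊆ ⋃ Q' ∈ others, ((Q' : Ideal A) : Set A) := by
      intro hsub
      obtain ⟨Q', hQ', hle⟩ := (Ideal.subset_union_prime (f := id) ⊥ ⊥ fun i hi _ _ => by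
        simp only [others, Finset.mem_erase, Set.Finite.mem_toFinset] at hi
        exact hi.2.1.1).1 hsub
      simp only [others, Finset.mem_erase, Set.Finite.mem_toFinset] at hQ'
      exact hQ'.1 ((hQ'.2.2 ⟨hQ.1.1, bot_le⟩ hle).antisymm hle)
    obtain ⟨b, hbQ, hbo⟩ := Set.not_subset.1 hnb
    simp only [Set.mem_iUnion, exists_prop, not_exists, not_and] at hbo
    have hab : a * b = 0 := by
      refine IsNilpotent.eq_zero (nilpotent_iff_mem_prime.2 fun P hP => ?_)
      obtain ⟨Q', hQ', hle⟩ := Ideal.exists_minimalPrimes_le (I := ⊥) (J := P) bot_le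
      rcases eq_or_ne Q' Q with rfl | hne
      · exact hle (Ideal.mul_mem_left _ _ hbQ)
      · exact hle (Ideal.mul_mem_right _ _ (hao Q' hQ' hne))
    have hreg : a + b ∈ nonZeroDivisors A := by
      rw [mem_nonZeroDivisors_iff_right]
      intro z hz
      refine IsNilpotent.eq_zero (nilpotent_iff_mem_prime.2 fun P hP => ?_)
      obtain ⟨Q', hQ', hle⟩ := Ideal.exists_minimalPrimes_le (I := ⊥) (J := P) bot_le
      have hz' : z * (a + b) ∈ Q' := hz ▸ Q'.zero_mem
      refine hle ((hQ'.1.1.mem_or_mem hz').resolve_right fun hs => ?_)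
      rcases eq_or_ne Q' Q with rfl | hne
      · exact haQ ((Submodule.add_mem_iff_left _ hbQ).1 hs)
      · exact hbo Q' (by simp [others, hne, hQ']) ((Submodule.add_mem_iff_right _ (hao Q' hQ' hne)).1 hs)
    let F := FractionRing A
    let z : F := IsLocalization.mk' F a ⟨a + b, hreg⟩
    have hz : z * algebraMap A F (a + b) = algebraMap A F a := IsLocalization.mk'_spec F a ⟨a + b, hreg⟩
    have hzz : z * z = z := by
      refine (IsLocalization.map_units F ⟨a + b, hreg⟩).mul_left_inj.1 ?_
      refine (IsLocalization.map_units F ⟨a + b, hreg⟩).mul_left_inj.1 ?_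
      show z * z * algebraMap A F (a + b) * algebraMap A F (a + b) =
        z * algebraMap A F (a + b) * algebraMap A F (a + b)
      rw [hz, show z * z * algebraMap A F (a + b) * algebraMap A F (a + b) =
        (z * algebraMap A F (a + b)) * (z * algebraMap A F (a + b)) by ring, hz, ← map_mul,
        ← map_mul, mul_add, hab, add_zero]
    have hint : IsIntegral A z :=
      ⟨Polynomial.X * (Polynomial.X - 1), Polynomial.monic_X.mul (Polynomial.monic_X_sub_C 1), by
        simp [mul_sub, hzz]⟩
    obtain ⟨e, he⟩ := IsIntegrallyClosed.isIntegral_iff.1 hint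
    have he' : e * (a + b) = a := IsFractionRing.injective A F (by rw [map_mul, he, hz])
    refine ⟨e, ?_, fun Q' hQ' hne => ?_⟩
    · have h2 : (1 - e) * a ∈ Q := by
        rw [show (1 - e) * a = e * b by linear_combination -he']
        exact Q.mul_mem_left _ hbQ
      exact (hQ.1.1.mem_or_mem h2).resolve_right haQ
    · have h2 : e * (a + b) ∈ Q' := he'.symm ▸ hao Q' hQ' hne
      exact (hQ'.1.1.mem_or_mem h2).resolve_right fun hs =>
        hbo Q' (by simp [others, hne, hQ']) ((Submodule.add_mem_iff_right _ (hao Q' hQ' hne)).1 hs)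
  choose e he1 he2 using hidem
  -- the value on each component
  have hcomp : ∀ Q (hQ : Q ∈ minimalPrimes A),
      ∃ a : A, E (⟨Q, hQ.1.1⟩ : PrimeSpectrum A) a = f (⟨Q, hQ.1.1⟩ : PrimeSpectrum A) := by
    intro Q hQ
    have := hQ.1.1
    let q : X := (⟨Q, hQ.1.1⟩ : PrimeSpectrum A)
    let D := A ⧸ Q
    let K := X.residueField q
    let j : D →+* K := Ideal.Quotient.lift Q (E q) fun a ha => (hE q a).2 ha
    let _ : Algebra D K := j.toAlgebra
    have hj : ∀ a, algebraMap D K (Ideal.Quotient.mk Q a) = E q a := fun a => rfl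
    have : FaithfulSMul D K := (faithfulSMul_iff_algebraMap_injective _ _).2 (by
      refine (injective_iff_map_eq_zero _).2 fun d hd => ?_
      obtain ⟨a, rfl⟩ := Ideal.Quotient.mk_surjective d
      exact Ideal.Quotient.eq_zero_iff_mem.2 ((hE q a).1 hd))
    have hfr : IsFractionRing D K := IsFractionRing.of_field D K fun w => by
      obtain ⟨a, b, hb, hab⟩ := Groth.Agent.Lib.WeakNormal.ProperDescent.exists_frac (Z := X) q w
      refine ⟨Ideal.Quotient.mk Q ((Scheme.ΓSpecIso (CommRingCat.of A)).hom a),
        Ideal.Quotient.mk Q ((Scheme.ΓSpecIso (CommRingCat.of A)).hom b), ?_⟩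
      have hh : ∀ c, E q ((Scheme.ΓSpecIso (CommRingCat.of A)).hom c) = X.Γevaluation q c := fun c =>
        congrArg (fun z => X.Γevaluation q z)
          (congr($((Scheme.ΓSpecIso (CommRingCat.of A)).hom_inv_id) c))
      rw [hj, hj, hh, hh, eq_div_iff hb, hab]
    have : IsIntegrallyClosed D := by
      refine (isIntegrallyClosed_iff K).2 fun {y} hy => ?_
      obtain ⟨α, β, hβ, hy'⟩ := IsFractionRing.div_surjective (A := D) y
      obtain ⟨a, rfl⟩ := Ideal.Quotient.mk_surjective α
      obtain ⟨b, rfl⟩ := Ideal.Quotient.mk_surjective β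
      have hbQ : b ∉ Q := fun h => nonZeroDivisors.ne_zero hβ (Ideal.Quotient.eq_zero_iff_mem.2 h)
      obtain ⟨p, hp, hpy⟩ := hy
      obtain ⟨P, hPp, -, hP⟩ := Polynomial.lifts_and_natDegree_eq_and_monic
        (f := Ideal.Quotient.mk Q) (p := p)
        (Polynomial.mem_lifts_of_surjective Ideal.Quotient.mk_surjective p) hp
      let ε := e Q hQ
      have hεε : ε * (1 - ε) = 0 := by
        refine IsNilpotent.eq_zero (nilpotent_iff_mem_prime.2 fun P hP => ?_)
        obtain ⟨Q', hQ', hle⟩ := Ideal.exists_minimalPrimes_le (I := ⊥) (J := P) bot_le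
        rcases eq_or_ne Q' Q with rfl | hne
        · exact hle (Ideal.mul_mem_left _ _ (he1 _ hQ))
        · exact hle (Ideal.mul_mem_right _ _ (he2 Q hQ Q' hQ' hne))
      let B := b * ε + (1 - ε)
      have hreg : B ∈ nonZeroDivisors A := by
        rw [mem_nonZeroDivisors_iff_right]
        intro z hz
        refine IsNilpotent.eq_zero (nilpotent_iff_mem_prime.2 fun P hP => ?_)
        obtain ⟨Q', hQ', hle⟩ := Ideal.exists_minimalPrimes_le (I := ⊥) (J := P) bot_le
        have hz' : z * B ∈ Q' := hz ▸ Q'.zero_mem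
        refine hle ((hQ'.1.1.mem_or_mem hz').resolve_right fun hs => ?_)
        rcases eq_or_ne Q' Q with rfl | hne
        · have h1 := (Submodule.add_mem_iff_left _ (he1 _ hQ)).1 hs
          refine (hQ'.1.1.mem_or_mem h1).elim hbQ fun h2 => ?_
          exact hQ'.1.1.ne_top ((Ideal.eq_top_iff_one _).2
            (by simpa [ε] using Q'.add_mem h2 (he1 _ hQ)))
        · have h1 := (Submodule.add_mem_iff_right _ (Q'.mul_mem_left b (he2 Q hQ Q' hQ' hne))).1 hs
          exact hQ'.1.1.ne_top ((Ideal.eq_top_iff_one _).2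
            (by simpa [ε] using Q'.add_mem (he2 Q hQ Q' hQ' hne) h1))
      let F := FractionRing A
      let z : F := IsLocalization.mk' F (a * ε) ⟨B, hreg⟩
      have hz : z * algebraMap A F B = algebraMap A F (a * ε) := IsLocalization.mk'_spec F _ ⟨B, hreg⟩
      have hsc : (P.scaleRoots b).eval a ∈ Q := by
        refine (hE q _).1 ?_
        have hPy : P.eval₂ (E q) y = 0 := by
          rw [← hPp, Polynomial.eval₂_map] at hpy
          exact hpy
        have hay : E q a = E q b * y := by
          rw [← hy', hj, hj, mul_div_cancel₀]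
          exact fun h => hbQ ((hE q b).1 h)
        rw [← Polynomial.eval₂_hom, hay]
        exact Polynomial.scaleRoots_eval₂_eq_zero (E q) hPy
      have h0 : ε * (P.scaleRoots B).eval (a * ε) = 0 := by
        have hεQ : ε * (P.scaleRoots b).eval a = 0 := by
          refine IsNilpotent.eq_zero (nilpotent_iff_mem_prime.2 fun P hP => ?_)
          obtain ⟨Q', hQ', hle⟩ := Ideal.exists_minimalPrimes_le (I := ⊥) (J := P) bot_le
          rcases eq_or_ne Q' Q with rfl | hne
          · exact hle (Ideal.mul_mem_left _ _ hsc)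
          · exact hle (Ideal.mul_mem_right _ _ (he2 Q hQ Q' hQ' hne))
        let q₁ := Ideal.Quotient.mk (Ideal.span {1 - ε})
        have hq : q₁ ε = 1 :=
          (sub_eq_zero.1 (by rw [← map_one q₁, ← map_sub, Ideal.Quotient.eq_zero_iff_mem]
                             exact Ideal.mem_span_singleton_self _)).symm
        have heq : q₁ ((P.scaleRoots B).eval (a * ε)) = q₁ ((P.scaleRoots b).eval a) := by
          rw [← Polynomial.eval₂_hom, ← Polynomial.eval₂_hom, map_mul, hq, mul_one,
            ← Polynomial.eval_map, ← Polynomial.eval_map,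
            Polynomial.map_scaleRoots, Polynomial.map_scaleRoots,
            show q₁ B = q₁ b by simp [B, hq]]
          all_goals simp [hP.leadingCoeff, q₁, Ideal.Quotient.eq_zero_iff_mem]
          all_goals
            exact fun h => hQ.1.1.ne_top (Ideal.eq_top_iff_one _ |>.2
              (Ideal.span_le.2 (Set.singleton_subset_iff.2 (he1 _ hQ))
                (Ideal.Quotient.eq_zero_iff_mem.1 ((map_one (Ideal.Quotient.mk (Ideal.span {1 - e Q hQ}))).trans h))))
        obtain ⟨k, hk⟩ := Ideal.mem_span_singleton'.1 ((Ideal.Quotient.eq).1 heq)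
        linear_combination hεQ - ε * hk + k * hεε
      have hint : IsIntegral A z := by
        refine ⟨Polynomial.X * P, Polynomial.monic_X.mul hP, ?_⟩
        rw [Polynomial.eval₂_mul, Polynomial.eval₂_X]
        refine ((IsLocalization.map_units F ⟨B, hreg⟩).mul_right_inj).1 ?_
        refine (((IsLocalization.map_units F ⟨B, hreg⟩).pow P.natDegree).mul_right_inj).1 ?_
        show algebraMap A F B ^ P.natDegree * (algebraMap A F B * (z * _)) = _
        rw [mul_zero, mul_zero, ← mul_assoc (algebraMap A F B) z, mul_comm (algebraMap A F B) z, hz,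
          mul_left_comm, ← Polynomial.scaleRoots_eval₂_mul, mul_comm (algebraMap A F B) z, hz,
          Polynomial.eval₂_hom, ← map_mul, mul_assoc, h0, mul_zero, map_zero]
      obtain ⟨w, hw⟩ := IsIntegrallyClosed.isIntegral_iff.1 hint
      refine ⟨Ideal.Quotient.mk Q w, ?_⟩
      have hwB : w * B = a * ε := IsFractionRing.injective A F (by rw [map_mul, hw, hz])
      have hq1 : E q ε = 1 := by
        have := (hE q _).2 (he1 Q hQ)
        rw [map_sub, map_one, sub_eq_zero] at this
        exact this.symm
      have hwb := congrArg (E q) hwB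
      simp only [B, map_mul, map_add, map_sub, map_one, hq1, sub_self, add_zero, mul_one] at hwb
      rw [← hy', hj, hj, hj, eq_div_iff fun h => hbQ ((hE q b).1 h), hwb]
    obtain ⟨d, hd⟩ := Groth.Agent.Lib.RefHull.NormalAlg.mem_range_of_forall_height_one (R := D)
        (K := K) (f q) (by
      intro p hp hp1
      let R := Localization.AtPrime p
      have hne : p ≠ ⊥ := Ideal.ne_bot_of_height_eq_one hp1
      have : IsDiscreteValuationRing R := by
        have : IsIntegrallyClosed R :=
          isIntegrallyClosed_of_isLocalization R p.primeCompl p.primeCompl_le_nonZeroDivisors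
        have hdim : ringKrullDim R = 1 := by
          rw [IsLocalization.AtPrime.ringKrullDim_eq_height p, hp1]
          rfl
        have hnf : ¬ IsField R := fun hf' => by
          rw [ringKrullDim_eq_zero_of_isField hf'] at hdim
          exact zero_ne_one hdim
        have hiff : (IsIntegrallyClosed R ∧ ∃! P : Ideal R, P ≠ ⊥ ∧ P.IsPrime) ↔
            IsDiscreteValuationRing R := (IsDiscreteValuationRing.TFAE R hnf).out 3 0
        refine hiff.1 ⟨inferInstance, ?_⟩
        have : Ring.KrullDimLE 1 R := Ring.krullDimLE_iff.2 hdim.le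
        refine ⟨IsLocalRing.maximalIdeal R, ⟨fun h => hnf (IsLocalRing.isField_iff_maximalIdeal_eq.2 h),
          (IsLocalRing.maximalIdeal.isMaximal R).isPrime⟩, fun P ⟨hP0, hP⟩ => ?_⟩
        exact IsLocalRing.eq_maximalIdeal (Ring.krullDimLE_one_iff_of_noZeroDivisors.1 inferInstance P hP0 hP)
      let h : A →+* R := (algebraMap D R).comp (Ideal.Quotient.mk Q)
      obtain ⟨s, hs⟩ := hf R (Spec.map (CommRingCat.ofHom h))
      let η : Spec (CommRingCat.of R) := (⟨⊥, Ideal.isPrime_bot⟩ : PrimeSpectrum R)
      have hη : (Spec.map (CommRingCat.ofHom h)) η = q := PrimeSpectrum.ext (by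
        show Ideal.comap h ⊥ = Q
        rw [← RingHom.ker_eq_comap_bot, RingHom.ker_comp_of_injective _
          (IsLocalization.injective R p.primeCompl_le_nonZeroDivisors), Ideal.mk_ker])
      obtain ⟨⟨u, v⟩, huv⟩ := IsLocalization.surj p.primeCompl
        ((Scheme.ΓSpecIso (CommRingCat.of R)).hom s)
      obtain ⟨u', rfl⟩ := Ideal.Quotient.mk_surjective u
      obtain ⟨v', hv'⟩ := Ideal.Quotient.mk_surjective (v : D)
      refine ⟨Ideal.Quotient.mk Q u', v, v.2, ?_⟩
      rw [← hv', hj, hj]
      have key : ∀ q' : X, (Spec.map (CommRingCat.ofHom h)) η = q' → E q' v' * f q' = E q' u' := by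
        rintro _ rfl
        refine ((Spec.map (CommRingCat.ofHom h)).residueFieldMap η).hom.injective ?_
        have hs' : (Spec.map (CommRingCat.ofHom h)).residueFieldMap η
            (f ((Spec.map (CommRingCat.ofHom h)) η)) =
              (Spec (CommRingCat.of R)).Γevaluation η s := (congrFun hs η).symm
        rw [map_mul, hnat, hnat, hs', ← map_mul, mul_comm]
        congr 1
        refine (Scheme.ΓSpecIso (CommRingCat.of R)).commRingCatIsoToRingEquiv.injective ?_
        rw [map_mul]
        show (Scheme.ΓSpecIso (CommRingCat.of R)).hom s *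
          (Scheme.ΓSpecIso (CommRingCat.of R)).commRingCatIsoToRingEquiv
            ((Scheme.ΓSpecIso (CommRingCat.of R)).commRingCatIsoToRingEquiv.symm (h v')) =
          (Scheme.ΓSpecIso (CommRingCat.of R)).commRingCatIsoToRingEquiv
            ((Scheme.ΓSpecIso (CommRingCat.of R)).commRingCatIsoToRingEquiv.symm (h u'))
        rw [RingEquiv.apply_symm_apply, RingEquiv.apply_symm_apply]
        rw [← hv'] at huv
        exact huv
      exact key q hη)
    obtain ⟨a, rfl⟩ := Ideal.Quotient.mk_surjective d
    exact ⟨a, hd⟩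
  choose av hav using hcomp
  let a : A := ∑ Q : (minimalPrimes.finite_of_isNoetherianRing A).toFinset,
    e Q.1 ((Set.Finite.mem_toFinset _).1 Q.2) * av Q.1 ((Set.Finite.mem_toFinset _).1 Q.2)
  have haQ : ∀ Q (hQ : Q ∈ minimalPrimes A),
      E (⟨Q, hQ.1.1⟩ : PrimeSpectrum A) a = f (⟨Q, hQ.1.1⟩ : PrimeSpectrum A) := by
    intro Q hQ
    simp only [a, map_sum]
    rw [Finset.sum_eq_single (⟨Q, (Set.Finite.mem_toFinset _).2 hQ⟩ :
      ↥(minimalPrimes.finite_of_isNoetherianRing A).toFinset)]
    · have h1 := (hE (⟨Q, hQ.1.1⟩ : PrimeSpectrum A) _).2 (he1 Q hQ)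
      rw [map_sub, map_one, sub_eq_zero] at h1
      rw [map_mul, ← h1, one_mul, hav]
    · intro Q' _ hne
      rw [map_mul, (hE _ _).2 (he2 _ _ Q hQ fun h => hne (Subtype.ext h.symm)), zero_mul]
    · simp
  have hgen : ∀ (R : Type u) [CommRing R] [IsDomain R] (t t' : Γ(Spec (CommRingCat.of R), ⊤)),
      (Spec (CommRingCat.of R)).Γevaluation (Groth.Agent.Lib.Subtrusive.Valuation.genPt R) t =
        (Spec (CommRingCat.of R)).Γevaluation (Groth.Agent.Lib.Subtrusive.Valuation.genPt R) t' →
      t = t' := by
    intro R _ _ t t' h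
    have h' : (Spec (CommRingCat.of R)).Γevaluation (Groth.Agent.Lib.Subtrusive.Valuation.genPt R)
        (t - t') = 0 := by rw [map_sub, h, sub_self]
    rw [(Spec (CommRingCat.of R)).evaluation_eq_zero_iff_notMem_basicOpen (U := ⊤) _ trivial] at h'
    obtain ⟨r, hr⟩ : ∃ r : R, (Scheme.ΓSpecIso (CommRingCat.of R)).inv r = t - t' :=
      ⟨(Scheme.ΓSpecIso (CommRingCat.of R)).hom (t - t'),
        congr($((Scheme.ΓSpecIso (CommRingCat.of R)).hom_inv_id) (t - t'))⟩
    rw [← hr, basicOpen_eq_of_affine] at h'
    have hr0 : r = 0 := Ideal.mem_bot.1 (not_not.1 h')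
    rw [hr0, map_zero] at hr
    exact sub_eq_zero.1 hr.symm
  have hval : ∀ x : X, E x a = f x := by
    intro x
    obtain ⟨Q, hQ, hle⟩ := Ideal.exists_minimalPrimes_le (I := ⊥)
      (J := (x : PrimeSpectrum A).asIdeal) bot_le
    let q : X := (⟨Q, hQ.1.1⟩ : PrimeSpectrum A)
    by_cases hqx : q = x
    · subst hqx; exact haQ Q hQ
    obtain ⟨R, _, _, _, g, hg1, hg2⟩ := Groth.Agent.Lib.Subtrusive.Noetherian.exists_dvr_of_specializes
      (Y := X) (show q ⤳ x from (PrimeSpectrum.le_iff_specializes _ _).1 hle) hqx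
    obtain ⟨h, rfl⟩ : ∃ h : A →+* R, Spec.map (CommRingCat.ofHom h) = g :=
      ⟨(Spec.preimage g).hom, Spec.map_preimage g⟩
    obtain ⟨s, hs⟩ := hf R (Spec.map (CommRingCat.ofHom h))
    have hsa : s = (Scheme.ΓSpecIso (CommRingCat.of R)).inv (h a) := by
      have key : ∀ q' : X, q = q' → E q' a = f q' := by rintro _ rfl; exact haQ Q hQ
      have h1 := key _ hg1.symm
      have h2 := congrArg ((Spec.map (CommRingCat.ofHom h)).residueFieldMap _) h1
      rw [hnat] at h2
      have h3 := h2.trans (congrFun hs _).symm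
      exact (hgen R s _ h3.symm)
    have h5 : ∀ x' : X, (Spec.map (CommRingCat.ofHom h))
        (Groth.Agent.Lib.Subtrusive.Valuation.clPt R) = x' → E x' a = f x' := by
      rintro _ rfl
      refine ((Spec.map (CommRingCat.ofHom h)).residueFieldMap _).hom.injective ?_
      rw [hnat, ← hsa]
      exact congrFun hs _
    exact h5 x hg2
  refine ⟨(Scheme.ΓSpecIso (CommRingCat.of A)).inv a, funext hval, fun b hb => ?_⟩
  obtain ⟨r, rfl⟩ := (Scheme.ΓSpecIso (CommRingCat.of A)).symm.commRingCatIsoToRingEquiv.surjective b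
  show (Scheme.ΓSpecIso (CommRingCat.of A)).inv r = _
  congr 1
  refine sub_eq_zero.1 (IsNilpotent.eq_zero (nilpotent_iff_mem_prime.2 fun P hP => ?_))
  refine (hE (⟨P, hP⟩ : PrimeSpectrum A) _).1 ?_
  rw [map_sub, sub_eq_zero, hval]
  exact congrFun hb _

end Groth.Agent.S13110
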