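import Groth.Statements.S13109
import Groth.Agent.S13110
import Groth.Agent.Lib.Seminormal.Basic
import Groth.Agent.Lib.Regular.Completion
import Groth.Agent.H24.EssEtale.Fractions

set_option autoImplicit false
universe u
open HTop

namespace Groth.Agent.S13109

open CategoryTheory AlgebraicGeometry W4c1hilbchowinc in
/-- Let A be a Noetherian seminormal ring whose integral closure in its total ring of fractions is a
finite A-module. Then a pointwise function on Spec A — one element of the residue field κ(y) for
every point y — which varies algebraically along complete discrete valuation rings (for every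
complete discrete valuation ring R and every morphism Spec R → Spec A there is an element of R whose
values at the two points of Spec R are the images of the chosen values) is the family of values of
exactly one global section. Seminormal is meant in the sense that x^3 = y^2 forces x = a^2 and y =
a^3 for a unique a, which for reduced Noetherian rings is equivalent to the criterion on elements of
the total ring of fractions; test rings range over the universe of A. -/
theorem result
    (A : Type u) [CommRing A] [IsNoetherianRing A] (hA : HTop.IsSeminormalRing A)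
    (hfin : Module.Finite A (integralClosure A (FractionRing A)))
    (f : PtFun (Spec (CommRingCat.of A))) (hf : f.VariesAlongCompleteDVR) :
    ∃! a : Γ(Spec (CommRingCat.of A), ⊤), PtFun.ofSection (Spec (CommRingCat.of A)) a = f := by
  classical
  let X := Spec (CommRingCat.of A)
  have : _root_.IsReduced A := Groth.Agent.Lib.Seminormal.Basic.isReduced_of_isSeminormalRing hA
  have hgen : ∀ (R : Type u) [CommRing R] [IsDomain R] (t t' : Γ(Spec (CommRingCat.of R), ⊤)),
      (Spec (CommRingCat.of R)).Γevaluation (⟨⊥, Ideal.isPrime_bot⟩ : PrimeSpectrum R) t =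
        (Spec (CommRingCat.of R)).Γevaluation (⟨⊥, Ideal.isPrime_bot⟩ : PrimeSpectrum R) t' →
      t = t' := by
    intro R _ _ t t' h
    have h' : (Spec (CommRingCat.of R)).Γevaluation (⟨⊥, Ideal.isPrime_bot⟩ : PrimeSpectrum R)
        (t - t') = 0 := by rw [map_sub, h, sub_self]
    rw [(Spec (CommRingCat.of R)).evaluation_eq_zero_iff_notMem_basicOpen (U := ⊤) _ trivial] at h'
    obtain ⟨r, hr⟩ : ∃ r : R, (Scheme.ΓSpecIso (CommRingCat.of R)).inv r = t - t' :=
      ⟨(Scheme.ΓSpecIso (CommRingCat.of R)).hom (t - t'),
        congr($((Scheme.ΓSpecIso (CommRingCat.of R)).hom_inv_id) (t - t'))⟩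
    rw [← hr, basicOpen_eq_of_affine] at h'
    have hr0 : r = 0 := Ideal.mem_bot.1 (not_not.1 h')
    rw [hr0, map_zero] at hr
    exact sub_eq_zero.1 hr.symm
  have hdvr : f.VariesAlongDVR := by
    intro R _ _ _ g
    let m := IsLocalRing.maximalIdeal R
    let R' := AdicCompletion m R
    have hm : m ≠ ⊤ := (IsLocalRing.maximalIdeal.isMaximal R).ne_top
    have := Groth.Agent.Lib.Regular.Completion.isLocalRing m hm
    have := Groth.Agent.Lib.Regular.Completion.isLocalHom m hm
    have := (Groth.Agent.Lib.Regular.Completion.isRegularLocalRing_iff m hm).1 inferInstance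
    obtain ⟨_, _⟩ := (Groth.Agent.Lib.Regular.Descent.isDiscreteValuationRing_iff (R := R')).2
      ⟨this, (Groth.Agent.Lib.Regular.Completion.ringKrullDim_eq m hm).trans
        (IsPrincipalIdealRing.ringKrullDim_eq_one R (IsDiscreteValuationRing.not_isField R))⟩
    have : IsAdicComplete (IsLocalRing.maximalIdeal R') R' := by
      rw [← Groth.Agent.Lib.Regular.Completion.map_maximalIdeal m hm]
      exact AdicCompletion.isAdicComplete_self m (Ideal.fg_of_isNoetherianRing m)
    have : Module.FaithfullyFlat R R' := Module.FaithfullyFlat.of_flat_of_isLocalHom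
    let κ := Spec.map (CommRingCat.ofHom (algebraMap R R'))
    obtain ⟨s, hs⟩ := hf R' (κ ≫ g)
    have hκ : ∀ (y : Spec (CommRingCat.of R')) (r : Γ(Spec (CommRingCat.of R), ⊤)),
        κ.residueFieldMap y ((Spec (CommRingCat.of R)).Γevaluation (κ y) r) =
          (Spec (CommRingCat.of R')).Γevaluation y (κ.appTop r) := fun y r =>
      Scheme.Γevaluation_naturality_apply κ y r
    have hsy : ∀ y, κ.residueFieldMap y (f.pullback g (κ y)) =
        (Spec (CommRingCat.of R')).Γevaluation y s := fun y => by
      refine Eq.trans ?_ (congrFun hs y).symm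
      show _ = (κ ≫ g).residueFieldMap y (f ((κ ≫ g) y))
      rw [Scheme.residueFieldMap_comp]
      rfl
    let η' : Spec (CommRingCat.of R') := (⟨⊥, Ideal.isPrime_bot⟩ : PrimeSpectrum R')
    obtain ⟨u, v, hv, huv⟩ := Groth.Agent.Lib.WeakNormal.ProperDescent.exists_frac (κ η')
      (f.pullback g (κ η'))
    have h1 : s * κ.appTop v = κ.appTop u := hgen R' _ _ (by
      rw [map_mul, ← hsy, ← hκ, ← hκ, ← map_mul, huv])
    let eR := (Scheme.ΓSpecIso (CommRingCat.of R)).commRingCatIsoToRingEquiv
    let eR' := (Scheme.ΓSpecIso (CommRingCat.of R')).commRingCatIsoToRingEquiv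
    have hnat : ∀ r, eR' (κ.appTop r) = algebraMap R R' (eR r) := fun r =>
      congr($(Scheme.ΓSpecIso_naturality (CommRingCat.ofHom (algebraMap R R'))) r)
    have hdvd : eR v ∣ eR u := by
      rw [← Ideal.mem_span_singleton,
        ← Ideal.comap_map_eq_self_of_faithfullyFlat (B := R') (Ideal.span {eR v}), Ideal.mem_comap,
        Ideal.map_span, Set.image_singleton, Ideal.mem_span_singleton, ← hnat, ← hnat, ← h1, map_mul]
      exact dvd_mul_left _ _
    obtain ⟨w, hw⟩ := hdvd
    have hw' : u = v * eR.symm w := eR.injective (by rw [map_mul, RingEquiv.apply_symm_apply, hw])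
    have hv' : κ.appTop v ≠ 0 := fun h0 => hv (by
      refine (κ.residueFieldMap η').hom.injective ?_
      rw [hκ, h0, map_zero, map_zero])
    have hsw : s = κ.appTop (eR.symm w) := by
      refine hgen R' _ _ ?_
      have hv'' : (Spec (CommRingCat.of R')).Γevaluation η' (κ.appTop v) ≠ 0 := by
        rw [← hκ]
        exact fun h0 => hv ((κ.residueFieldMap η').hom.injective (h0.trans (map_zero _).symm))
      refine mul_left_cancel₀ hv'' ?_
      rw [← map_mul, ← map_mul, mul_comm, h1, hw', map_mul]
    refine ⟨eR.symm w, funext fun y => ?_⟩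
    obtain ⟨y', rfl⟩ : ∃ y', κ y' = y :=
      PrimeSpectrum.comap_surjective_of_faithfullyFlat (A := R) (B := R') y
    refine (κ.residueFieldMap y').hom.injective ?_
    refine Eq.trans ?_ (hsy y').symm
    rw [hsw, ← hκ]
    rfl
  -- the normalization
  let F := FractionRing A
  let B := integralClosure A F
  have : _root_.IsReduced F := Groth.Agent.Lib.Seminormal.Basic.isReduced_of_isLocalization (A := A) (B := F) (nonZeroDivisors A)
  have : _root_.IsReduced B := isReduced_of_injective B.val Subtype.val_injective
  have : Module.Finite A B := hfin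
  have : IsNoetherianRing B := IsNoetherianRing.of_finite A B
  have : IsArtinianRing F := Groth.Agent.H24.EssEtale.Fractions.isArtinianRing_fractionRing A
    (minimalPrimes.finite_of_isNoetherianRing A)
  have : IsFractionRing B F :=
    { map_units := fun y => by
        refine IsArtinianRing.isUnit_of_mem_nonZeroDivisors ?_
        rw [mem_nonZeroDivisors_iff_right]
        intro z hz
        obtain ⟨⟨a, t⟩, hat⟩ := IsLocalization.surj (nonZeroDivisors A) z
        have hay : algebraMap A B a * (y : B) = 0 := Subtype.ext (by
          show algebraMap A F a * algebraMap B F (y : B) = 0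
          rw [← hat, mul_right_comm, hz, zero_mul])
        have ha0 : algebraMap A F a = 0 :=
          congrArg Subtype.val ((mem_nonZeroDivisors_iff_right.1 y.2) _ hay)
        rw [ha0] at hat
        exact (IsLocalization.map_units F t).mul_left_eq_zero.1 hat
      surj := fun z => by
        obtain ⟨⟨a, t⟩, hat⟩ := IsLocalization.surj (nonZeroDivisors A) z
        refine ⟨⟨algebraMap A B a, ⟨algebraMap A B t, mem_nonZeroDivisors_iff_right.2 fun b hb =>
          Subtype.ext ((IsLocalization.map_units F t).mul_left_eq_zero.1
            (congrArg Subtype.val hb))⟩⟩, hat⟩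
      exists_of_eq := fun h => ⟨1, by simp [Subtype.ext_iff.2 h]⟩ }
  have : IsIntegrallyClosed B := (isIntegrallyClosed_iff F).2 fun {x} hx => by
    have : Algebra.IsIntegral A B := Algebra.IsIntegral.of_finite A B
    exact ⟨⟨x, isIntegral_trans x hx⟩, rfl⟩
  let ν := Spec.map (CommRingCat.ofHom (algebraMap A B))
  have hνinj : Function.Injective (algebraMap A B) := fun a b h =>
    IsFractionRing.injective A F (congrArg Subtype.val h)
  have : IsIntegralHom ν := IsIntegralHom.SpecMap_iff.mpr
    (algebraMap_isIntegral_iff.mpr (Algebra.IsIntegral.of_finite A B))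
  have : Surjective ν := ⟨fun p => by
    have : FaithfulSMul A B := (faithfulSMul_iff_algebraMap_injective _ _).2 hνinj
    have : Algebra.IsIntegral A B := Algebra.IsIntegral.of_finite A B
    obtain ⟨q, hq1, hq2⟩ := Ideal.nonempty_primesOver (S := B) (p : PrimeSpectrum A).asIdeal |>.some
    exact ⟨(⟨q, hq1⟩ : PrimeSpectrum B), PrimeSpectrum.ext hq2.over.symm⟩⟩
  have hvar : (f.pullback ν).VariesAlongDVR := by
    intro R _ _ _ g
    obtain ⟨s, hs⟩ := hdvr R (g ≫ ν)
    refine ⟨s, hs.trans (funext fun y => ?_)⟩
    show (g ≫ ν).residueFieldMap y (f ((g ≫ ν) y)) = _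
    rw [Scheme.residueFieldMap_comp]
    rfl
  obtain ⟨b, hb, -⟩ := Groth.Agent.S13110.result B (f.pullback ν) hvar
  let : Algebra A Γ(X, ⊤) := (Scheme.ΓSpecIso (CommRingCat.of A)).inv.hom.toAlgebra
  have : IsLocalization (⊥ : Submonoid A) Γ(X, ⊤) :=
    { map_units := fun y => by rw [Submonoid.mem_bot.1 y.2, map_one]; exact isUnit_one
      surj := fun z => ⟨⟨(Scheme.ΓSpecIso (CommRingCat.of A)).hom z, 1⟩, by
        show z * algebraMap A _ 1 = _
        rw [map_one, mul_one]
        exact (congr($((Scheme.ΓSpecIso (CommRingCat.of A)).hom_inv_id) z)).symm⟩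
      exists_of_eq := fun {a b} h => ⟨1, by
        rw [OneMemClass.coe_one, one_mul, one_mul]
        exact (Scheme.ΓSpecIso (CommRingCat.of A)).symm.commRingCatIsoToRingEquiv.injective h⟩ }
  have hsn : HTop.IsSeminormal X := fun x =>
    ⟨⟨⊤, isAffineOpen_top X⟩, trivial,
      Groth.Agent.Lib.Seminormal.Basic.isSeminormalRing_of_isLocalization
        (A := A) (B := Γ(X, ⊤)) ⊥ hA⟩
  obtain ⟨t, ht⟩ := Groth.Agent.Lib.WeakNormal.ProperDescent.exists_appTop_eq_of_mem_descending
    hsn ν b (Groth.Agent.Lib.WeakNormal.ProperDescent.mem_descending_iff.2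
      ⟨f, fun y => (congrFun hb y).symm⟩)
  have key : ∀ t' : Γ(X, ⊤), PtFun.ofSection X t' = f ↔ ν.appTop t' = b := by
    intro t'
    refine ⟨fun h => Groth.Agent.S13110.result B (f.pullback ν) hvar |>.unique (funext fun y => ?_) hb,
      fun h => funext fun x => ?_⟩
    · refine (Scheme.Γevaluation_naturality_apply ν y t').symm.trans ?_
      exact congrArg (ν.residueFieldMap y) (congrFun h (ν y))
    · obtain ⟨y, rfl⟩ := ν.surjective x
      refine (ν.residueFieldMap y).hom.injective ?_
      refine (Scheme.Γevaluation_naturality_apply ν y t').trans ?_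
      rw [h]
      exact congrFun hb y
  refine ⟨t, (key t).2 ht, fun t' ht' => ?_⟩
  exact Groth.Agent.Lib.WeakNormal.ProperDescent.app_injective ν ⊤ (((key t').1 ht').trans ht.symm)

end Groth.Agent.S13109
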