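import Groth.Statements.S13111
import Groth.Agent.Lib.Seminormal.Basic
import Mathlib.RingTheory.DedekindDomain.Dvr

set_option autoImplicit false
universe u
open HTop

namespace Groth.Agent.S13111

open AlgebraicGeometry W4c1hilbchowinc in
/-- Let A be a reduced Noetherian ring whose integral closure in its total ring of fractions is a finite
A-module. Suppose that any pointwise function on Spec A that is algebraic along every discrete
valuation ring (for every discrete valuation ring R and every morphism Spec R → Spec A there is an
element of R whose values at the two points of Spec R are the images of the chosen values) is the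
family of values of exactly one global section. Then A is seminormal: whenever x^3 = y^2 there is
exactly one a with x = a^2 and y = a^3. Test rings range over the universe of A. -/
theorem result
    (A : Type u) [CommRing A] [IsReduced A] [IsNoetherianRing A]
    (hfin : Module.Finite A (integralClosure A (FractionRing A)))
    (h : ∀ f : PtFun (Spec (CommRingCat.of A)), f.VariesAlongDVR →
      ∃! a : Γ(Spec (CommRingCat.of A), ⊤), PtFun.ofSection (Spec (CommRingCat.of A)) a = f) :
    HTop.IsSeminormalRing A := by

  classical
  open Groth.Agent.Lib.Seminormal.Basic in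
  refine isSeminormalRing_of_exists fun x y hxy => ?_
  let X := Spec (CommRingCat.of A)
  let e := (Scheme.ΓSpecIso (CommRingCat.of A)).commRingCatIsoToRingEquiv
  let x' : Γ(X, ⊤) := e.symm x
  let y' : Γ(X, ⊤) := e.symm y
  have hxy' : x' ^ 3 = y' ^ 2 := by rw [← map_pow, ← map_pow, hxy]
  let f : PtFun X := fun p => X.Γevaluation p y' / X.Γevaluation p x'
  have key : ∀ {K : Type u} [Field K] (a b : K), a ^ 3 = b ^ 2 → (b / a) ^ 2 = a ∧ (b / a) ^ 3 = b := by
    intro K _ a b h
    rcases eq_or_ne a 0 with rfl | ha
    · have : b = 0 := eq_zero_of_pow_eq_zero (n := 2) (by rw [← h]; simp)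
      simp [this]
    · refine ⟨?_, ?_⟩
      · rw [div_pow, ← h, div_eq_iff (pow_ne_zero _ ha)]
        ring
      · rw [div_pow, h, div_eq_iff (pow_ne_zero _ (fun h0 => ha (eq_zero_of_pow_eq_zero (n := 3) (h.trans (by rw [h0]; simp)))))]
        ring
  have hf : f.VariesAlongDVR := by
    intro R _ _ _ g
    let eR := (Scheme.ΓSpecIso (CommRingCat.of R)).commRingCatIsoToRingEquiv
    have hR : HTop.IsSeminormalRing R := Groth.Agent.Lib.Seminormal.Basic.isSeminormalRing_of_isIntegrallyClosed
    obtain ⟨r, ⟨hr1, hr2⟩, -⟩ := hR (eR (g.appTop x')) (eR (g.appTop y'))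
      (by simpa only [map_pow] using congrArg (fun z => eR (g.appTop z)) hxy')
    refine ⟨eR.symm r, funext fun p => ?_⟩
    show _ = g.residueFieldMap p (X.Γevaluation (g p) y' / X.Γevaluation (g p) x')
    rw [map_div₀, Scheme.Γevaluation_naturality_apply g p y', Scheme.Γevaluation_naturality_apply g p x']
    have h1 : g.appTop x' = (eR.symm r) ^ 2 := eR.injective (by rw [map_pow, RingEquiv.apply_symm_apply, hr1])
    have h2 : g.appTop y' = (eR.symm r) ^ 3 := eR.injective (by rw [map_pow, RingEquiv.apply_symm_apply, hr2])
    rw [h1, h2, map_pow, map_pow, PtFun.ofSection]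
    generalize (Spec (CommRingCat.of R)).Γevaluation p (eR.symm r) = t
    rcases eq_or_ne t 0 with ht | ht
    · subst ht; simp
    · rw [eq_div_iff (pow_ne_zero _ ht)]
      ring
  obtain ⟨a, ha, -⟩ := h f hf
  refine ⟨e a, ?_, ?_⟩
  all_goals
    have hev : ∀ z : Γ(X, ⊤), (∀ p : X, X.Γevaluation p z = 0) → z = 0 := by
      intro z hz
      have hn : IsNilpotent (e z) := by
        rw [nilpotent_iff_mem_prime]
        intro J hJ
        have := hz (⟨J, hJ⟩ : PrimeSpectrum A)
        rw [X.evaluation_eq_zero_iff_notMem_basicOpen (U := ⊤) _ trivial] at this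
        have hz' : z = (Scheme.ΓSpecIso (CommRingCat.of A)).inv (e z) := (e.symm_apply_apply z).symm
        rw [hz', basicOpen_eq_of_affine] at this
        exact not_not.1 this
      exact e.injective (hn.eq_zero.trans (map_zero e).symm)
  · refine (e.apply_symm_apply x).symm.trans ?_
    rw [← map_pow]
    refine congrArg e (sub_eq_zero.1 (hev _ fun p => ?_))
    rw [map_sub, map_pow, show X.Γevaluation p a = f p from congrFun ha p]
    exact sub_eq_zero.2 (key _ _ (by simpa only [map_pow] using congrArg (X.Γevaluation p) hxy')).1.symm
  · refine (e.apply_symm_apply y).symm.trans ?_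
    rw [← map_pow]
    refine congrArg e (sub_eq_zero.1 (hev _ fun p => ?_))
    rw [map_sub, map_pow, show X.Γevaluation p a = f p from congrFun ha p]
    exact sub_eq_zero.2 (key _ _ (by simpa only [map_pow] using congrArg (X.Γevaluation p) hxy')).2.symm

end Groth.Agent.S13111
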