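import Groth.Statements.S13113
import Groth.Agent.Lib.WeakNormal.ProperDescent
import Groth.Agent.Lib.Seminormal.Basic
import Mathlib.Topology.Sheaves.SheafCondition.UniqueGluing

set_option autoImplicit false
universe u
open HTop

namespace Groth.Agent.S13113

open CategoryTheory CategoryTheory.Limits AlgebraicGeometry in
/-- Let k be a field, X a seminormal scheme of finite type over k and π : Y → X a proper surjective
morphism with Y reduced. Then a global section s of the structure sheaf of Y whose pullbacks along
the two projections Y ×_X Y → Y coincide is the pullback along π of exactly one global section of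
the structure sheaf of X. (The published statement also treats non-reduced Y, where the structure
sheaf of X is only a canonical direct summand of the equaliser; this row is the reduced case, where
the two agree.) -/
theorem result
    {k : Type u} [Field k] {X Y : Scheme.{u}} (sX : X ⟶ Spec (CommRingCat.of k))
    [LocallyOfFiniteType sX] [QuasiCompact sX] (hX : HTop.IsSeminormal X)
    (π : Y ⟶ X) [IsProper π] [Surjective π] [IsReduced Y]
    (s : Γ(Y, ⊤)) (hs : (pullback.fst π π).appTop s = (pullback.snd π π).appTop s) :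
    ∃! t : Γ(X, ⊤), π.appTop t = s := by
  have : AlgebraicGeometry.IsReduced X := Groth.Agent.Lib.Seminormal.Basic.isReduced_of_isSeminormal hX
  have hinj := Groth.Agent.Lib.WeakNormal.ProperDescent.app_injective π
  let res : ∀ W : Y.Opens, Γ(Y, W) := fun W => Y.presheaf.map (homOfLE (le_top : W ≤ ⊤)).op s
  have hres : ∀ (W W' : Y.Opens) (i : W' ⟶ W), Y.presheaf.map i.op (res W) = res W' :=
    fun W W' i => by
      simp only [res]
      rw [← ConcreteCategory.comp_apply, ← Functor.map_comp, ← op_comp]
      rfl
  let V : X.affineOpens → X.Opens := fun U => U.1.ι ''ᵁ ⊤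
  have hloc : ∀ U : X.affineOpens, ∃ t : Γ(X, V U), π.app (V U) t = res (π ⁻¹ᵁ V U) := by
    intro U
    have : IsAffine (U.1 : Scheme.{u}) := U.2
    have : UniversallyClosed (π ∣_ U.1) := IsZariskiLocalAtTarget.restrict (P := @UniversallyClosed) inferInstance _
    have : Surjective (π ∣_ U.1) := IsZariskiLocalAtTarget.restrict (P := @Surjective) inferInstance _
    let e : pullback (π ∣_ U.1) (π ∣_ U.1) ⟶ pullback π π :=
      pullback.map _ _ _ _ (π ⁻¹ᵁ U.1).ι (π ⁻¹ᵁ U.1).ι U.1.ι (morphismRestrict_ι π U.1)
        (morphismRestrict_ι π U.1)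
    obtain ⟨t, ht⟩ := Groth.Agent.Lib.WeakNormal.ProperDescent.exists_appTop_eq
      (Groth.Agent.Lib.WeakNormal.SnScheme.isSeminormal_of_isOpenImmersion U.1.ι hX) (π ∣_ U.1)
      ((π ⁻¹ᵁ U.1).ι.appTop s) (by
        have h := congrArg e.appTop hs
        simp only [← ConcreteCategory.comp_apply, ← Scheme.Hom.comp_appTop, e, pullback.map,
          pullback.lift_fst, pullback.lift_snd] at h
        simpa only [Scheme.Hom.comp_appTop, ConcreteCategory.comp_apply] using h)
    refine ⟨t, ?_⟩
    rw [morphismRestrict_appTop, Scheme.Opens.ι_appTop] at ht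
    refine (ConcreteCategory.bijective_of_isIso
      (Y.presheaf.map (eqToHom (image_morphismRestrict_preimage π U.1 ⊤)).op)).1 ?_
    rw [hres]
    exact ht
  choose t ht using hloc
  have hnat : ∀ (W W' : X.Opens) (i : W' ⟶ W) (a : Γ(X, W)),
      π.app W' (X.presheaf.map i.op a) =
        Y.presheaf.map ((TopologicalSpace.Opens.map π.base).map i).op (π.app W a) :=
    fun W W' i a => congr($(π.naturality i.op) a)
  have hcompat : TopCat.Presheaf.IsCompatible X.sheaf.1 V t := fun U U' => by
    refine hinj (V U ⊓ V U') ?_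
    exact ((hnat _ _ (TopologicalSpace.Opens.infLELeft (V U) (V U')) (t U)).trans
      ((congrArg _ (ht U)).trans (hres _ _ _))).trans
      ((hnat _ _ (TopologicalSpace.Opens.infLERight (V U) (V U')) (t U')).trans
        ((congrArg _ (ht U')).trans (hres _ _ _))).symm
  obtain ⟨t₀, ht₀, -⟩ := X.sheaf.existsUnique_gluing' V ⊤ (fun U => homOfLE le_top)
    (fun x _ => by
      obtain ⟨U, hU, hxU, -⟩ := exists_isAffineOpen_mem_and_subset (x := x) (U := ⊤) trivial
      exact TopologicalSpace.Opens.mem_iSup.mpr ⟨⟨U, hU⟩, by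
        simp only [V, Scheme.Opens.ι_image_top]; exact hxU⟩) t hcompat
  have hsol : π.appTop t₀ = s := by
    refine Y.sheaf.eq_of_locally_eq' (fun U => π ⁻¹ᵁ V U) ⊤ (fun U => homOfLE le_top)
      (fun y _ => by
        obtain ⟨U, hU, hxU, -⟩ := exists_isAffineOpen_mem_and_subset (x := π y) (U := ⊤) trivial
        exact TopologicalSpace.Opens.mem_iSup.mpr ⟨⟨U, hU⟩, by
          show π y ∈ V _
          simp only [V, Scheme.Opens.ι_image_top]; exact hxU⟩) _ _ fun U => ?_
    have h := congrArg (π.app (V U)) (ht₀ U)
    exact ((hnat _ _ (homOfLE le_top) t₀).symm.trans h).trans (ht U)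
  exact ⟨t₀, hsol, fun t' ht' => hinj ⊤ (ht'.trans hsol.symm)⟩

end Groth.Agent.S13113
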