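import Groth.Statements.S13115
import Mathlib

set_option autoImplicit false
universe u
open scoped TensorProduct
open HilbChow

open scoped BigOperators

namespace Groth.Agent.S13115

/-- Let k be an infinite field, V a k-vector space and m a natural number. Then every symmetric tensor
in the m-fold tensor power of V — one fixed by every permutation of the factors — is a k-linear
combination of pure powers v ⊗ ⋯ ⊗ v with v in V. (The published statement concerns the ring of
functions of an affine scheme over an infinite field, where it gives the uniqueness of the algebra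
map defining the Hilbert-to-Chow morphism for zero-cycles; this row states it for any vector space.) -/
theorem result
    (k V : Type u) [Field k] [Infinite k] [AddCommGroup V] [Module k V] (m : ℕ)
    (x : ⨂[k] _ : Fin m, V)
    (hx : ∀ σ : Equiv.Perm (Fin m), PiTensorProduct.reindex k (fun _ : Fin m => V) σ x = x) :
    x ∈ Submodule.span k (Set.range fun v : V => PiTensorProduct.tprod k (fun _ : Fin m => v)) := by
  classical
  let b := Module.Free.chooseBasis k V
  let B := Basis.piTensorProduct (fun _ : Fin m => b)
  let W := Submodule.span k (Set.range fun v : V => PiTensorProduct.tprod k (fun _ : Fin m => v))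
  by_contra hW
  obtain ⟨φ, hφx, hφW⟩ := Submodule.exists_dual_map_eq_bot_of_notMem hW inferInstance
  have hpow : ∀ v : V, φ (PiTensorProduct.tprod k (fun _ : Fin m => v)) = 0 := fun v => by
    rw [← Submodule.mem_bot k, ← hφW]
    exact Submodule.mem_map_of_mem (Submodule.subset_span ⟨v, rfl⟩)
  let T : Finset (Module.Free.ChooseBasisIndex k V) :=
    (B.repr x).support.biUnion fun f => Finset.univ.image f
  let e : (Fin m → T) → (Fin m → Module.Free.ChooseBasisIndex k V) := fun g i => (g i : _)
  have he : Function.Injective e := fun g g' h => funext fun i => Subtype.ext (congrFun h i)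
  -- expand `x`
  have hx' : x = ∑ g : Fin m → T, B.repr x (e g) • B (e g) := by
    have h1 : ∀ f ∈ (B.repr x).support, ∀ i, f i ∈ T := fun f hf i =>
      Finset.mem_biUnion.2 ⟨f, hf, Finset.mem_image_of_mem _ (Finset.mem_univ i)⟩
    conv_lhs => rw [← B.linearCombination_repr x, Finsupp.linearCombination_apply, Finsupp.sum]
    rw [← Finset.sum_image (f := fun f => B.repr x f • B f) (g := e) (fun a _ c _ h => he h)]
    refine Finset.sum_subset (fun f hf => ?_) (fun f _ hf => ?_)
    · exact Finset.mem_image.2 ⟨fun i => ⟨f i, h1 f hf i⟩, Finset.mem_univ _, rfl⟩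
    · rw [Finsupp.notMem_support_iff.1 hf, zero_smul]
  let mon : (Fin m → T) → (T →₀ ℕ) := fun g => ∑ i, Finsupp.single (g i) 1
  let P : MvPolynomial T k := ∑ g, MvPolynomial.monomial (mon g) (φ (B (e g)))
  have hP : P = 0 := by
    refine MvPolynomial.funext fun t => ?_
    have h2 := hpow (∑ c : T, t c • b c)
    rw [MultilinearMap.map_sum, map_sum] at h2
    simp only [P, map_sum, map_zero, MvPolynomial.eval_monomial]
    refine (Finset.sum_congr rfl fun g _ => ?_).trans h2
    rw [MultilinearMap.map_smul_univ, map_smul, smul_eq_mul, mul_comm]
    congr 1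
    · simp only [mon]
      rw [← Finsupp.prod_finsetSum_index (fun _ => pow_zero _) (fun _ _ _ => pow_add _ _ _)]
      simp [Finsupp.prod_single_index]
    · simp [B, e]
  -- coefficients are constant along orbits
  have hsym : ∀ g g' : Fin m → T, mon g = mon g' → B.repr x (e g) = B.repr x (e g') := by
    intro g g' h
    have hc : ∀ c, Fintype.card {i // g i = c} = Fintype.card {i // g' i = c} := fun c => by
      have := DFunLike.congr_fun h c
      simp only [mon, Finsupp.finset_sum_apply, Finsupp.single_apply, Finset.sum_boole, Nat.cast_id] at this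
      rw [Fintype.card_subtype, Fintype.card_subtype]
      exact this
    let σ : Equiv.Perm (Fin m) := Equiv.ofFiberEquiv (f := g) (g := g') fun c => Fintype.equivOfCardEq (hc c)
    have hσ : ∀ i, g' (σ i) = g i := fun i => Equiv.ofFiberEquiv_map _ i
    have hlin : ∀ f : Fin m → Module.Free.ChooseBasisIndex k V,
        B.repr (PiTensorProduct.reindex k (fun _ : Fin m => V) σ x) f = B.repr x (f ∘ σ) := by
      intro f
      have : (Finsupp.lapply f).comp (B.repr.toLinearMap.comp
          (PiTensorProduct.reindex k (fun _ : Fin m => V) σ).toLinearMap) =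
          (Finsupp.lapply (f ∘ σ)).comp B.repr.toLinearMap := by
        refine PiTensorProduct.ext (MultilinearMap.ext fun v => ?_)
        simp only [LinearMap.compMultilinearMap_apply, LinearMap.comp_apply, LinearEquiv.coe_coe,
          PiTensorProduct.reindex_tprod, Finsupp.lapply_apply, B,
          Basis.piTensorProduct_repr_tprod_apply, Function.comp_apply]
        rw [← Equiv.prod_comp σ]
        simp
      exact LinearMap.congr_fun this x
    have h3 := hlin (e g')
    rw [hx σ] at h3
    rw [h3]
    congr 1
    funext i
    simp [e, hσ]
  apply hφx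
  rw [hx', map_sum]
  simp only [map_smul, smul_eq_mul]
  rw [← Finset.sum_fiberwise_of_maps_to (t := Finset.univ.image mon) (g := mon) (fun g _ => Finset.mem_image_of_mem mon (Finset.mem_univ g))]
  refine Finset.sum_eq_zero fun μ _ => ?_
  rcases (Finset.univ.filter fun g => mon g = μ).eq_empty_or_nonempty with hemp | ⟨g₀, hg₀⟩
  · rw [hemp]; simp
  rw [Finset.mem_filter] at hg₀
  rw [Finset.sum_congr rfl fun g hg => by
    rw [hsym g g₀ ((Finset.mem_filter.1 hg).2.trans hg₀.2.symm)], ← Finset.mul_sum]
  have h4 := congrArg (MvPolynomial.coeff μ) hP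
  simp only [P, MvPolynomial.coeff_sum, MvPolynomial.coeff_monomial, MvPolynomial.coeff_zero] at h4
  rw [← Finset.sum_filter] at h4
  rw [h4, mul_zero]

end Groth.Agent.S13115
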