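import Groth.Statements.S13116
import Groth.Agent.H24.PicHens.Affine
import Groth.Agent.Lib.Henselian.Finite
import Groth.Prelude.Def_PicLoc

set_option autoImplicit false
set_option linter.style.haveILetI false
universe u
open HilbChow

namespace Groth.Agent.S13116

open CategoryTheory CategoryTheory.Limits AlgebraicGeometry in
/-- Let k be a field, X an integral scheme smooth over k that is a closed subscheme of a projective
space over k, R a discrete valuation ring containing k, Z a subscheme of X ×_k Spec R which is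
finite over Spec R, and L an invertible module on X. Then the pullback of L to Z along Z → X ×_k
Spec R → X is isomorphic to the structure sheaf of Z (an isomorphism exists; none is singled out). -/
theorem result
    {k : Type u} [Field k] {X : Scheme.{u}} (sX : X ⟶ Spec (CommRingCat.of k))
    [IsIntegral X] [Smooth sX] (hproj : RelProj.IsHProjective sX)
    (R : Type u) [CommRing R] [IsDomain R] [IsDiscreteValuationRing R] [Algebra k R]
    {Z : Scheme.{u}}
    (i : Z ⟶ pullback sX (Spec.map (CommRingCat.ofHom (algebraMap k R)))) [IsImmersion i]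
    [IsFinite (i ≫ pullback.snd sX (Spec.map (CommRingCat.ofHom (algebraMap k R))))]
    (L : X.Modules) (hL : PicF.IsInvertible L) :
    Nonempty ((Scheme.Modules.pullback
        (i ≫ pullback.fst sX (Spec.map (CommRingCat.ofHom (algebraMap k R))))).obj L ≅
      Coh.structureModule Z) := by
  haveI : IsFinite (i ≫ pullback.snd sX (Spec.map (CommRingCat.ofHom (algebraMap k R)))) := inferInstance
  haveI : IsAffine Z := isAffine_of_isAffineHom (i ≫ pullback.snd sX (Spec.map (CommRingCat.ofHom (algebraMap k R))))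
  let g := i ≫ pullback.snd sX (Spec.map (CommRingCat.ofHom (algebraMap k R)))
  have hfin : ((Scheme.ΓSpecIso (CommRingCat.of R)).inv ≫ g.appTop).hom.Finite := by
    rw [CommRingCat.hom_comp]
    exact RingHom.Finite.comp (g.finite_app ⊤ (isAffineOpen_top _))
      (RingHom.Finite.of_surjective _
        (Scheme.ΓSpecIso (CommRingCat.of R)).commRingCatIsoToRingEquiv.symm.surjective)
  letI : Algebra R Γ(Z, ⊤) := ((Scheme.ΓSpecIso (CommRingCat.of R)).inv ≫ g.appTop).hom.toAlgebra
  haveI : Module.Finite R Γ(Z, ⊤) := hfin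
  haveI := Groth.Agent.Lib.Henselian.Finite.finite_maximalSpectrum R (B := Γ(Z, ⊤))
  let h := Z.isoSpec.inv ≫ i ≫ pullback.fst sX (Spec.map (CommRingCat.ofHom (algebraMap k R)))
  have hinv : PicF.IsInvertible ((Scheme.Modules.pullback h).obj L) :=
    PicLoc.isInvertible_pullback h hL
  obtain ⟨M, hM, ⟨e⟩⟩ := Groth.Agent.H24.PicHens.exists_invertible (A := Γ(Z, ⊤)) _ hinv
  obtain ⟨e'⟩ : Nonempty (M ≃ₗ[Γ(Z, ⊤)] Γ(Z, ⊤)) :=
    CommRing.Pic.mk_eq_one_iff.mp (Subsingleton.elim _ _)
  let t : (Scheme.Modules.pullback h).obj L ≅ Coh.structureModule (Spec Γ(Z, ⊤)) :=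
    e.symm ≪≫ (tilde.functor (CommRingCat.of Γ(Z, ⊤))).mapIso e'.toModuleIso ≪≫ tildeSelf
  exact ⟨(Scheme.Modules.pullbackCongr (show Z.isoSpec.hom ≫ h =
      i ≫ pullback.fst sX (Spec.map (CommRingCat.ofHom (algebraMap k R))) by simp [h])).symm.app L ≪≫
    ((Scheme.Modules.pullbackComp Z.isoSpec.hom h).app L).symm ≪≫
    (Scheme.Modules.pullback Z.isoSpec.hom).mapIso t ≪≫
    PicLoc.pullbackStructureIso Z.isoSpec.hom⟩

end Groth.Agent.S13116
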