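import Groth.Statements.S13118
import Groth.Agent.H21.NormModule

set_option autoImplicit false
universe u
open scoped TensorProduct
open HilbChow

namespace Groth.Agent.S13118

/-- Let A → B be a ring homomorphism making B a finite locally free A-module of constant rank n, and let
M₁, M₂ be locally free B-modules of rank 1. Then, as A-modules, ∧ⁿ_A B ⊗_A ∧ⁿ_A(M₁ ⊗_B M₂) ≅ ∧ⁿ_A M₁
⊗_A ∧ⁿ_A M₂. (The published statement gives a specific, canonical isomorphism and covers any finite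
family M₁, …, M_r, with the (r−1)-st tensor power of ∧ⁿ_A B; this row asserts only that an
isomorphism exists, for two modules, the case from which the general one follows by induction.)
Locally free of rank r is expressed as finitely generated projective with all localisations at
primes of rank r. -/
theorem result
    (A B : Type u) [CommRing A] [CommRing B] [Algebra A B] [Module.Finite A B] [Module.Projective A B]
    (n : ℕ) (hn : ∀ q : PrimeSpectrum A, Module.finrank (Localization.AtPrime q.asIdeal) (LocalizedModule q.asIdeal.primeCompl B) = n)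
    (M₁ M₂ : Type u) [AddCommGroup M₁] [Module B M₁] [Module A M₁] [IsScalarTower A B M₁]
    [AddCommGroup M₂] [Module B M₂] [Module A M₂] [IsScalarTower A B M₂]
    [Module.Finite B M₁] [Module.Projective B M₁] [Module.Finite B M₂] [Module.Projective B M₂]
    (h₁ : ∀ q : PrimeSpectrum B, Module.finrank (Localization.AtPrime q.asIdeal) (LocalizedModule q.asIdeal.primeCompl M₁) = 1)
    (h₂ : ∀ q : PrimeSpectrum B, Module.finrank (Localization.AtPrime q.asIdeal) (LocalizedModule q.asIdeal.primeCompl M₂) = 1) :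
    Nonempty ((⋀[A]^n B) ⊗[A] (⋀[A]^n (M₁ ⊗[B] M₂)) ≃ₗ[A] (⋀[A]^n M₁) ⊗[A] (⋀[A]^n M₂)) := by
  refine H21.NormModule.nonempty_equiv fun q => ?_
  obtain ⟨f₁, hf₁, ⟨F₁⟩⟩ := H21.ApproxBasis.exists_frame (A := A) (B := B) (M := M₁) 1 h₁ q
  obtain ⟨f₂, hf₂, ⟨F₂⟩⟩ := H21.ApproxBasis.exists_frame (A := A) (B := B) (M := M₂) 1 h₂ q
  obtain ⟨f₀, hf₀, ⟨F₀⟩⟩ := H21.ApproxBasis.exists_frame (A := A) (B := A) (M := B) n hn q
  refine ⟨f₁ * f₂ * f₀, q.asIdeal.primeCompl.mul_mem (q.asIdeal.primeCompl.mul_mem hf₁ hf₂) hf₀,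
    ⟨F₁.h (Pi.single 0 1), (algebraMap A B (f₂ * f₀)) • (LinearMap.proj 0 ∘ₗ F₁.ψ), fun x => ?_⟩,
    ⟨F₂.h (Pi.single 0 1), (algebraMap A B (f₁ * f₀)) • (LinearMap.proj 0 ∘ₗ F₂.ψ), fun x => ?_⟩, ?_⟩
  · have h : F₁.ψ x 0 • (Pi.single 0 1 : Fin 1 → B) = F₁.ψ x := by
      funext i; fin_cases i; simp
    rw [LinearMap.smul_apply, smul_eq_mul, LinearMap.comp_apply, LinearMap.proj_apply, mul_smul,
      ← map_smul F₁.h, h, F₁.h_ψ, smul_smul, ← map_mul, algebraMap_smul]
    ring_nf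
  · have h : F₂.ψ x 0 • (Pi.single 0 1 : Fin 1 → B) = F₂.ψ x := by
      funext i; fin_cases i; simp
    rw [LinearMap.smul_apply, smul_eq_mul, LinearMap.comp_apply, LinearMap.proj_apply, mul_smul,
      ← map_smul F₂.h, h, F₂.h_ψ, smul_smul, ← map_mul, algebraMap_smul]
    ring_nf
  · obtain ⟨ω, hω⟩ := H21.NormModule.exists_approx_generator f₀ F₀.h F₀.ψ
      (fun x => (F₀.h_ψ x).trans (algebraMap_smul A f₀ x))
    refine ⟨ω, fun x => ?_⟩
    obtain ⟨r, hr⟩ := hω x
    exact ⟨(f₁ * f₂) ^ n * r, by rw [mul_pow, mul_smul, hr, smul_smul]⟩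

end Groth.Agent.S13118
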