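import Groth.Statements.S13119
import Groth.Agent.H21.DetNorm

set_option autoImplicit false
universe u
open scoped TensorProduct
open HilbChow

namespace Groth.Agent.S13119

/-- Let A → B be a ring homomorphism making B a finite locally free A-module of constant rank n, and
take a B-module M that is locally free of rank k, with k at least 1. Then, as A-modules, ∧^{nk}_A M
≅ (∧ⁿ_A B)^{⊗(k−1)} ⊗_A ∧ⁿ_A(∧^k_B M). (The published statement gives a specific, canonical
isomorphism, allows k = 0 with the exponent k − 1 read in the Picard group, and has a companion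
formula for duals; this row asserts only that an isomorphism exists, for k ≥ 1, since with a
natural-number exponent k = 0 would change the meaning, and omits the dual formula.) Locally free of
rank r is expressed as finitely generated projective with all localisations at primes of rank r. -/
theorem result
    (A B : Type u) [CommRing A] [CommRing B] [Algebra A B] [Module.Finite A B] [Module.Projective A B]
    (n : ℕ) (hn : ∀ q : PrimeSpectrum A, Module.finrank (Localization.AtPrime q.asIdeal) (LocalizedModule q.asIdeal.primeCompl B) = n)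
    (M : Type u) [AddCommGroup M] [Module B M] [Module A M] [IsScalarTower A B M]
    [Module.Finite B M] [Module.Projective B M] (k : ℕ) (hk : 1 ≤ k)
    (hM : ∀ q : PrimeSpectrum B, Module.finrank (Localization.AtPrime q.asIdeal) (LocalizedModule q.asIdeal.primeCompl M) = k) :
    Nonempty ((⋀[A]^(n * k) M) ≃ₗ[A]
      (TensorPower A (k - 1) (⋀[A]^n B)) ⊗[A] (⋀[A]^n (⋀[B]^k M))) := by
  obtain ⟨k, rfl⟩ : ∃ k', k = k' + 1 := ⟨k - 1, by omega⟩
  letI : AddCommGroup ((TensorPower A k (⋀[A]^n B)) ⊗[A] (⋀[A]^n (⋀[B]^(k + 1) M))) :=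
    Module.addCommMonoidToAddCommGroup A
  refine H21.DetNorm.equiv_of_local_generator (P := ⋀[A]^(n * (k + 1)) M)
    (Q := (TensorPower A k (⋀[A]^n B)) ⊗[A] (⋀[A]^n (⋀[B]^(k + 1) M))) (H21.DetNorm.graph A B n k M) fun q => ?_
  obtain ⟨f₁, hf₁, ⟨F₁⟩⟩ := H21.ApproxBasis.exists_frame (A := A) (B := B) (M := M) (k + 1) hM q
  obtain ⟨f₀, hf₀, ⟨F₀⟩⟩ := H21.ApproxBasis.exists_frame (A := A) (B := A) (M := B) n hn q
  refine ⟨f₁ * f₀, q.asIdeal.primeCompl.mul_mem hf₁ hf₀, H21.DetNorm.local_generator _
    ⟨f₁ • F₀.ψ, fun i => F₀.h (Pi.single i 1), algebraMap A B f₀ • F₁.ψ,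
      fun j => F₁.h (Pi.single j 1), fun x => ?_, fun i => ?_, fun x => ?_, fun j => ?_⟩⟩
  · rw [mul_smul, ← algebraMap_smul A f₀ x, ← F₀.h_ψ x]
    conv_lhs => rw [LinearMap.pi_apply_eq_sum_univ F₀.h (F₀.ψ x), Finset.smul_sum]
    refine Finset.sum_congr rfl fun i _ => ?_
    rw [LinearMap.smul_apply, Pi.smul_apply, smul_smul, smul_eq_mul]
    congr 2
    funext l
    simp [Pi.single_apply, eq_comm]
  · rw [LinearMap.smul_apply, F₀.ψ_h, Algebra.algebraMap_self, RingHom.id_apply, smul_smul]
  · rw [mul_comm, mul_smul, ← algebraMap_smul B f₁ x, ← F₁.h_ψ x, ← algebraMap_smul B f₀]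
    conv_lhs => rw [LinearMap.pi_apply_eq_sum_univ F₁.h (F₁.ψ x), Finset.smul_sum]
    refine Finset.sum_congr rfl fun i _ => ?_
    rw [LinearMap.smul_apply, Pi.smul_apply, smul_smul, smul_eq_mul]
    congr 2
    funext l
    simp [Pi.single_apply, eq_comm]
  · rw [LinearMap.smul_apply, F₁.ψ_h, smul_smul, ← map_mul, mul_comm]

end Groth.Agent.S13119
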