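import Groth.Statements.S13120
import Groth.Agent.H23.Char2Deriv

set_option autoImplicit false
universe u
open KumFam Groth.Agent.H23.Char2Deriv

namespace Groth.Agent.S13120

open MvPolynomial in
theorem result (R : Type u) [CommRing R] [CharP R 2]
    (l0 l2 l4 s0 s2 s4 τ : R) (hτ : IsUnit τ) (a : MvPolynomial (Fin 2) R)
    (ha : a ∈ Algebra.adjoin R
      ({X 0 ^ 2, X 0 ^ 3, X 1 ^ 2, X 1 ^ 3} : Set (MvPolynomial (Fin 2) R))) :
    MvPolynomial.mkDerivation R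
        (![X 1 ^ 2 * (C l0 * X 0 ^ 4 + C τ * X 0 ^ 3 + C l2 * X 0 ^ 2 + C l4),
          X 0 ^ 2 * (C s0 * X 1 ^ 4 + C τ * X 1 ^ 3 + C s2 * X 1 ^ 2 + C s4)] :
          Fin 2 → MvPolynomial (Fin 2) R) a = 0 ↔
      a ∈ Algebra.adjoin R
        ({X 0 ^ 2, X 1 ^ 2,
          (C s0 * X 1 ^ 4 + C s2 * X 1 ^ 2 + C s4) * X 0 ^ 3 +
            (C l0 * X 0 ^ 4 + C l2 * X 0 ^ 2 + C l4) * X 1 ^ 3 +
            C τ * X 0 ^ 3 * X 1 ^ 3} : Set (MvPolynomial (Fin 2) R)) := by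
  obtain ⟨t, rfl⟩ := hτ
  have h2 : (2 : MvPolynomial (Fin 2) R) = 0 := CharTwo.two_eq_zero
  set D := MvPolynomial.mkDerivation R
        (![X 1 ^ 2 * (C l0 * X 0 ^ 4 + C (t : R) * X 0 ^ 3 + C l2 * X 0 ^ 2 + C l4),
          X 0 ^ 2 * (C s0 * X 1 ^ 4 + C (t : R) * X 1 ^ 3 + C s2 * X 1 ^ 2 + C s4)] :
          Fin 2 → MvPolynomial (Fin 2) R) with hD
  have d0 : D (X 0) = X 1 ^ 2 * (C l0 * X 0 ^ 4 + C (t : R) * X 0 ^ 3 + C l2 * X 0 ^ 2 + C l4) := by
    rw [hD, mkDerivation_X, Matrix.cons_val_zero]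
  have d1 : D (X 1) = X 0 ^ 2 * (C s0 * X 1 ^ 4 + C (t : R) * X 1 ^ 3 + C s2 * X 1 ^ 2 + C s4) := by
    rw [hD, mkDerivation_X, Matrix.cons_val_one, Matrix.cons_val_zero]
  have hDe : ∀ q, D (expand 2 q) = 0 := derivation_expand D
  have d03 : D (X 0 ^ 3) = X 0 ^ 2 * X 1 ^ 2 *
      (C l0 * X 0 ^ 4 + C (t : R) * X 0 ^ 3 + C l2 * X 0 ^ 2 + C l4) := by
    rw [show (X 0 : MvPolynomial (Fin 2) R) ^ 3 = expand 2 (X 0) * X 0 by rw [expand_two_X]; ring,
      Derivation.leibniz, hDe, d0, expand_two_X, smul_zero, add_zero, smul_eq_mul]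
    ring
  have d13 : D (X 1 ^ 3) = X 0 ^ 2 * X 1 ^ 2 *
      (C s0 * X 1 ^ 4 + C (t : R) * X 1 ^ 3 + C s2 * X 1 ^ 2 + C s4) := by
    rw [show (X 1 : MvPolynomial (Fin 2) R) ^ 3 = expand 2 (X 1) * X 1 by rw [expand_two_X]; ring,
      Derivation.leibniz, hDe, d1, expand_two_X, smul_zero, add_zero, smul_eq_mul]
    ring
  have mem : ∃ q0 q1 q2 q3 : MvPolynomial (Fin 2) R, a = expand 2 q0 + expand 2 q1 * X 0 ^ 3
      + expand 2 q2 * X 1 ^ 3 + expand 2 q3 * (X 0 ^ 3 * X 1 ^ 3) := by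
    induction ha using Algebra.adjoin_induction with
    | mem x hx =>
      rcases hx with rfl | rfl | rfl | rfl
      · exact ⟨X 0, 0, 0, 0, by simp⟩
      · exact ⟨0, 1, 0, 0, by simp⟩
      · exact ⟨X 1, 0, 0, 0, by simp⟩
      · exact ⟨0, 0, 1, 0, by simp⟩
    | algebraMap r => exact ⟨C r, 0, 0, 0, by simp [algebraMap_eq]⟩
    | add x y _ _ hx hy =>
      obtain ⟨a0, a1, a2, a3, rfl⟩ := hx
      obtain ⟨b0, b1, b2, b3, rfl⟩ := hy
      exact ⟨a0 + b0, a1 + b1, a2 + b2, a3 + b3, by simp only [map_add]; ring⟩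
    | mul x y _ _ hx hy =>
      obtain ⟨a0, a1, a2, a3, rfl⟩ := hx
      obtain ⟨b0, b1, b2, b3, rfl⟩ := hy
      exact ⟨a0 * b0 + X 0 ^ 3 * (a1 * b1) + X 1 ^ 3 * (a2 * b2) + X 0 ^ 3 * X 1 ^ 3 * (a3 * b3),
        a0 * b1 + a1 * b0 + X 1 ^ 3 * (a2 * b3 + a3 * b2),
        a0 * b2 + a2 * b0 + X 0 ^ 3 * (a1 * b3 + a3 * b1),
        a0 * b3 + a3 * b0 + a1 * b2 + a2 * b1, by
          simp only [map_add, map_mul, map_pow, expand_two_X]; ring⟩
  constructor
  · intro hp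
    obtain ⟨q0, q1, q2, q3, rfl⟩ := mem
    set G : MvPolynomial (Fin 2) R := C s0 * X 1 ^ 2 + C s2 * X 1 + C s4 with hG
    set F : MvPolynomial (Fin 2) R := C l0 * X 0 ^ 2 + C l2 * X 0 + C l4 with hF
    have : expand 2 (X 0 * X 1 * (q1 * F + q2 * G))
        + expand 2 (X 0 ^ 2 * X 1 * (q1 * C (t : R) + q3 * G)) * X 0
        + expand 2 (X 0 * X 1 ^ 2 * (q2 * C (t : R) + q3 * F)) * X 1
        + expand 2 (0 : MvPolynomial (Fin 2) R) * (X 0 * X 1) = 0 := by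
      simp only [map_add, Derivation.leibniz, smul_eq_mul, hDe, d03, d13] at hp
      simp only [hF, hG, map_add, map_mul, map_pow, map_zero, expand_C, expand_two_X]
      linear_combination hp - expand 2 q3 * C (t : R) * X 0 ^ 5 * X 1 ^ 5 * h2
    obtain ⟨-, e1, e2, -⟩ := decomp_unique _ _ _ _ this
    have cancel : ∀ (i j : ℕ) (q : MvPolynomial (Fin 2) R), X 0 ^ i * X 1 ^ j * q = 0 → q = 0 := by
      intro i j q hq
      rw [X_pow_eq_monomial, X_pow_eq_monomial, monomial_mul, one_mul] at hq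
      ext m
      have := congrArg (coeff ((Finsupp.single (0 : Fin 2) i + Finsupp.single 1 j) + m)) hq
      rw [coeff_monomial_mul, one_mul, coeff_zero] at this
      simpa using this
    have e1' := cancel 2 1 _ (by simpa using e1)
    have e2' := cancel 1 2 _ (by simpa using e2)
    have ht : (C (t : R) : MvPolynomial (Fin 2) R) * C (↑t⁻¹ : R) = 1 := by
      rw [← map_mul, Units.mul_inv, map_one]
    have k1 : q1 = q3 * C (↑t⁻¹ : R) * G := by
      linear_combination C (↑t⁻¹ : R) * e1' - q1 * ht - q3 * C (↑t⁻¹ : R) * G * h2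
    have k2 : q2 = q3 * C (↑t⁻¹ : R) * F := by
      linear_combination C (↑t⁻¹ : R) * e2' - q2 * ht - q3 * C (↑t⁻¹ : R) * F * h2
    have hall : ∀ q : MvPolynomial (Fin 2) R, expand 2 q ∈ Algebra.adjoin R
        ({X 0 ^ 2, X 1 ^ 2,
          (C s0 * X 1 ^ 4 + C s2 * X 1 ^ 2 + C s4) * X 0 ^ 3 +
            (C l0 * X 0 ^ 4 + C l2 * X 0 ^ 2 + C l4) * X 1 ^ 3 +
            C (t : R) * X 0 ^ 3 * X 1 ^ 3} : Set (MvPolynomial (Fin 2) R)) := by
      intro q
      induction q using MvPolynomial.induction_on with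
      | C r => rw [expand_C, ← algebraMap_eq]; exact Subalgebra.algebraMap_mem _ r
      | add p q hp hq => rw [map_add]; exact add_mem hp hq
      | mul_X p i hp =>
        rw [map_mul, expand_two_X]
        refine mul_mem hp (Algebra.subset_adjoin ?_)
        fin_cases i <;> simp
    have : expand 2 q0 + expand 2 q1 * X 0 ^ 3 + expand 2 q2 * X 1 ^ 3
        + expand 2 q3 * (X 0 ^ 3 * X 1 ^ 3) = expand 2 q0 + expand 2 (q3 * C (↑t⁻¹ : R)) *
          ((C s0 * X 1 ^ 4 + C s2 * X 1 ^ 2 + C s4) * X 0 ^ 3 +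
            (C l0 * X 0 ^ 4 + C l2 * X 0 ^ 2 + C l4) * X 1 ^ 3 +
            C (t : R) * X 0 ^ 3 * X 1 ^ 3) := by
      rw [k1, k2]
      simp only [hF, hG, map_add, map_mul, map_pow, expand_C, expand_two_X]
      linear_combination -(expand 2 q3 * X 0 ^ 3 * X 1 ^ 3) * ht
    rw [this]
    exact add_mem (hall _) (mul_mem (hall _) (Algebra.subset_adjoin (by simp)))
  · intro h
    clear ha mem
    induction h using Algebra.adjoin_induction with
    | mem x hx =>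
      rcases hx with rfl | rfl | rfl
      · rw [← expand_two_X 0]; exact hDe _
      · rw [← expand_two_X 1]; exact hDe _
      · have hC : ∀ r : R, D (C r) = 0 := fun r => by rw [← algebraMap_eq, Derivation.map_algebraMap]
        rw [← expand_two_X (R := R) 0] at *
        rw [show (C s0 * X 1 ^ 4 + C s2 * X 1 ^ 2 + C s4 : MvPolynomial (Fin 2) R) =
            expand 2 (C s0 * X 1 ^ 2 + C s2 * X 1 + C s4) by
          simp only [map_add, map_mul, map_pow, expand_C, expand_two_X]; ring,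
          show (C l0 * X 0 ^ 4 + C l2 * expand 2 (X 0) + C l4 : MvPolynomial (Fin 2) R) =
            expand 2 (C l0 * X 0 ^ 2 + C l2 * X 0 + C l4) by
          simp only [map_add, map_mul, map_pow, expand_C, expand_two_X]; ring]
        simp only [Derivation.map_add, Derivation.leibniz, smul_eq_mul, d03, d13, hDe, hC]
        simp only [map_add, map_mul, map_pow, expand_C, expand_two_X]
        linear_combination ((C s0 * X 1 ^ 4 + C s2 * X 1 ^ 2 + C s4) * C (t : R) * X 0 ^ 5 * X 1 ^ 2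
          + (C l0 * X 0 ^ 4 + C l2 * X 0 ^ 2 + C l4) * C (t : R) * X 0 ^ 2 * X 1 ^ 5
          + (C s0 * X 1 ^ 4 + C s2 * X 1 ^ 2 + C s4) * (C l0 * X 0 ^ 4 + C l2 * X 0 ^ 2 + C l4) * X 0 ^ 2 * X 1 ^ 2
          + C (t : R) ^ 2 * X 0 ^ 5 * X 1 ^ 5) * h2
    | algebraMap r => exact Derivation.map_algebraMap D r
    | add x y _ _ hx hy => rw [map_add, hx, hy, add_zero]
    | mul x y _ _ hx hy => rw [Derivation.leibniz, hx, hy, smul_zero, smul_zero, add_zero]

end Groth.Agent.S13120
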