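import Groth.Statements.S13121
import Groth.Agent.H23.Char2Deriv

set_option autoImplicit false
universe u
open KumFam Groth.Agent.H23.Char2Deriv

namespace Groth.Agent.S13121

open MvPolynomial in
theorem result (R : Type u) [CommRing R] [CharP R 2]
    (l0 l2 l4 s0 s2 s4 τ : R) (hτ : IsUnit τ) :
    RingHom.ker (MvPolynomial.aeval (R := R) (S₁ := MvPolynomial (Fin 2) R)
        ![X 0 ^ 2, X 1 ^ 2,
          (C s0 * X 1 ^ 4 + C s2 * X 1 ^ 2 + C s4) * X 0 ^ 3 +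
            (C l0 * X 0 ^ 4 + C l2 * X 0 ^ 2 + C l4) * X 1 ^ 3 +
            C τ * X 0 ^ 3 * X 1 ^ 3]) =
      Ideal.span {(X 2 ^ 2 + C (s0 ^ 2) * X 0 ^ 3 * X 1 ^ 4 + C (s2 ^ 2) * X 0 ^ 3 * X 1 ^ 2 +
        C (s4 ^ 2) * X 0 ^ 3 + C (l0 ^ 2) * X 0 ^ 4 * X 1 ^ 3 + C (l2 ^ 2) * X 0 ^ 2 * X 1 ^ 3 +
        C (l4 ^ 2) * X 1 ^ 3 + C (τ ^ 2) * X 0 ^ 3 * X 1 ^ 3 : MvPolynomial (Fin 3) R)} := by
  obtain ⟨t, rfl⟩ := hτ
  have h2 : (2 : MvPolynomial (Fin 2) R) = 0 := CharTwo.two_eq_zero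
  set G : MvPolynomial (Fin 2) R := C s0 * X 1 ^ 2 + C s2 * X 1 + C s4 with hG
  set F : MvPolynomial (Fin 2) R := C l0 * X 0 ^ 2 + C l2 * X 0 + C l4 with hF
  set h : MvPolynomial (Fin 2) R := (C s0 * X 1 ^ 4 + C s2 * X 1 ^ 2 + C s4) * X 0 ^ 3 +
            (C l0 * X 0 ^ 4 + C l2 * X 0 ^ 2 + C l4) * X 1 ^ 3 +
            C (t : R) * X 0 ^ 3 * X 1 ^ 3 with hh
  set K : MvPolynomial (Fin 2) R :=
    C (s0 ^ 2) * X 0 ^ 3 * X 1 ^ 4 + C (s2 ^ 2) * X 0 ^ 3 * X 1 ^ 2 +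
        C (s4 ^ 2) * X 0 ^ 3 + C (l0 ^ 2) * X 0 ^ 4 * X 1 ^ 3 + C (l2 ^ 2) * X 0 ^ 2 * X 1 ^ 3 +
        C (l4 ^ 2) * X 1 ^ 3 + C ((t : R) ^ 2) * X 0 ^ 3 * X 1 ^ 3 with hKdef
  have hK : h ^ 2 + expand 2 K = 0 := by
    simp only [hh, hKdef, map_add, map_mul, map_pow, expand_C, expand_two_X]
    linear_combination ((C s0 * X 1 ^ 4 + C s2 * X 1 ^ 2 + C s4) * X 0 ^ 3 *
        ((C l0 * X 0 ^ 4 + C l2 * X 0 ^ 2 + C l4) * X 1 ^ 3)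
      + (C s0 * X 1 ^ 4 + C s2 * X 1 ^ 2 + C s4) * X 0 ^ 3 * (C (t : R) * X 0 ^ 3 * X 1 ^ 3)
      + (C l0 * X 0 ^ 4 + C l2 * X 0 ^ 2 + C l4) * X 1 ^ 3 * (C (t : R) * X 0 ^ 3 * X 1 ^ 3)
      + C (t : R) ^ 2 * X 0 ^ 6 * X 1 ^ 6
      + (C s0 ^ 2 * X 1 ^ 8 + C s2 ^ 2 * X 1 ^ 4 + C s4 ^ 2 + C s0 * C s2 * X 1 ^ 6
          + C s0 * C s4 * X 1 ^ 4 + C s2 * C s4 * X 1 ^ 2) * X 0 ^ 6
      + (C l0 ^ 2 * X 0 ^ 8 + C l2 ^ 2 * X 0 ^ 4 + C l4 ^ 2 + C l0 * C l2 * X 0 ^ 6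
          + C l0 * C l4 * X 0 ^ 4 + C l2 * C l4 * X 0 ^ 2) * X 1 ^ 6) * h2
  have hind : ∀ A B : MvPolynomial (Fin 2) R, expand 2 A + expand 2 B * h = 0 → A = 0 ∧ B = 0 := by
    intro A B hAB
    obtain ⟨hA, -, -, hB⟩ := decomp_unique A (B * G * X 0) (B * F * X 1)
      (B * C (t : R) * X 0 * X 1) (by
      rw [← hAB, hh]
      simp only [hF, hG, map_add, map_mul, map_pow, expand_C, expand_two_X]; ring)
    refine ⟨hA, ?_⟩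
    have : B * (C (t : R) * (monomial (Finsupp.single (0 : Fin 2) 1 + Finsupp.single 1 1) (1 : R))) = 0 := by
      rw [show (monomial (Finsupp.single (0 : Fin 2) 1 + Finsupp.single 1 1) (1 : R)) = X 0 * X 1 by
        rw [X, X, monomial_mul, one_mul]]
      linear_combination hB
    ext m
    have := congrArg (coeff (m + (Finsupp.single (0 : Fin 2) 1 + Finsupp.single 1 1))) this
    rw [C_mul_monomial, mul_one, coeff_mul_monomial, coeff_zero] at this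
    simpa using (t.mul_left_eq_zero).1 this
  rw [ker_aeval h K hK hind]
  congr 2
  simp only [hKdef, map_add, map_mul, map_pow, rename_C, rename_X, Fin.castSucc_zero, Fin.castSucc_one]
  ring

end Groth.Agent.S13121
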