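import Groth.Statements.S13122
import Groth.Agent.H23.Char2Deriv

set_option autoImplicit false
universe u
open KumFam Groth.Agent.H23.Char2Deriv

namespace Groth.Agent.S13122

open MvPolynomial in
theorem result (R : Type u) [CommRing R]
    [CharP R 2] (l0 l2 l4 s0 s2 s4 τ : R) (hτ : IsUnit τ) :
    (∀ p : MvPolynomial (Fin 2) R,
      MvPolynomial.mkDerivation R
          (![C l4 * X 0 ^ 4 + C l2 * X 0 ^ 2 + C τ * X 0 + C l0,
            C s4 * X 1 ^ 4 + C s2 * X 1 ^ 2 + C τ * X 1 + C s0] :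
            Fin 2 → MvPolynomial (Fin 2) R) p = 0 ↔
        p ∈ (MvPolynomial.aeval (R := R) (S₁ := MvPolynomial (Fin 2) R)
          ![X 0 ^ 2, X 1 ^ 2,
            (C s4 * X 1 ^ 4 + C s2 * X 1 ^ 2 + C s0) * X 0 +
              (C l4 * X 0 ^ 4 + C l2 * X 0 ^ 2 + C l0) * X 1 + C τ * X 0 * X 1]).range) ∧
    RingHom.ker (MvPolynomial.aeval (R := R) (S₁ := MvPolynomial (Fin 2) R)
        ![X 0 ^ 2, X 1 ^ 2,
          (C s4 * X 1 ^ 4 + C s2 * X 1 ^ 2 + C s0) * X 0 +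
            (C l4 * X 0 ^ 4 + C l2 * X 0 ^ 2 + C l0) * X 1 + C τ * X 0 * X 1]) =
      Ideal.span {(X 2 ^ 2 + C (τ ^ 2) * X 0 * X 1 +
        (C (s4 ^ 2) * X 1 ^ 4 + C (s2 ^ 2) * X 1 ^ 2 + C (s0 ^ 2)) * X 0 +
        (C (l4 ^ 2) * X 0 ^ 4 + C (l2 ^ 2) * X 0 ^ 2 + C (l0 ^ 2)) * X 1 : MvPolynomial (Fin 3) R)} := by
  obtain ⟨t, rfl⟩ := hτ
  have h2 : (2 : MvPolynomial (Fin 2) R) = 0 := CharTwo.two_eq_zero
  have ht : (C (t : R) : MvPolynomial (Fin 2) R) * C (↑t⁻¹ : R) = 1 := by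
    rw [← map_mul, Units.mul_inv, map_one]
  set F : MvPolynomial (Fin 2) R := C l4 * X 0 ^ 2 + C l2 * X 0 + C l0 with hF
  set G : MvPolynomial (Fin 2) R := C s4 * X 1 ^ 2 + C s2 * X 1 + C s0 with hG
  obtain ⟨T, hT⟩ : ∃ T : MvPolynomial (Fin 2) R, T = C (t : R) := ⟨_, rfl⟩
  have eF : expand 2 F = C l4 * X 0 ^ 4 + C l2 * X 0 ^ 2 + C l0 := by
    simp only [hF, map_add, map_mul, map_pow, expand_C, expand_two_X]; ring
  have eG : expand 2 G = C s4 * X 1 ^ 4 + C s2 * X 1 ^ 2 + C s0 := by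
    simp only [hG, map_add, map_mul, map_pow, expand_C, expand_two_X]; ring
  have eT : expand 2 T = C (t : R) := by rw [hT, expand_C]
  set K : MvPolynomial (Fin 2) R := C ((t : R) ^ 2) * X 0 * X 1 +
        (C (s4 ^ 2) * X 1 ^ 4 + C (s2 ^ 2) * X 1 ^ 2 + C (s0 ^ 2)) * X 0 +
        (C (l4 ^ 2) * X 0 ^ 4 + C (l2 ^ 2) * X 0 ^ 2 + C (l0 ^ 2)) * X 1 with hKdef
  rw [← eF, ← eG, ← eT]
  have htT : T * C (↑t⁻¹ : R) = 1 := hT ▸ ht
  set h := expand 2 G * X 0 + expand 2 F * X 1 + expand 2 T * X 0 * X 1 with hh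
  have hK : h ^ 2 + expand 2 K = 0 := by
    rw [hh, eF, eG, eT]
    simp only [hKdef, map_add, map_mul, map_pow, expand_C, expand_two_X]
    linear_combination ((C s4 * X 1 ^ 4 + C s2 * X 1 ^ 2 + C s0) * X 0 * ((C l4 * X 0 ^ 4 + C l2 * X 0 ^ 2 + C l0) * X 1)
      + (C s4 * X 1 ^ 4 + C s2 * X 1 ^ 2 + C s0) * X 0 * (C (t : R) * X 0 * X 1)
      + (C l4 * X 0 ^ 4 + C l2 * X 0 ^ 2 + C l0) * X 1 * (C (t : R) * X 0 * X 1)
      + C (t : R) ^ 2 * X 0 ^ 2 * X 1 ^ 2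
      + (C s4 ^ 2 * X 1 ^ 8 + C s2 ^ 2 * X 1 ^ 4 + C s0 ^ 2 + C s4 * C s2 * X 1 ^ 6 + C s4 * C s0 * X 1 ^ 4
          + C s2 * C s0 * X 1 ^ 2) * X 0 ^ 2
      + (C l4 ^ 2 * X 0 ^ 8 + C l2 ^ 2 * X 0 ^ 4 + C l0 ^ 2 + C l4 * C l2 * X 0 ^ 6 + C l4 * C l0 * X 0 ^ 4
          + C l2 * C l0 * X 0 ^ 2) * X 1 ^ 2) * h2
  have hind : ∀ A B : MvPolynomial (Fin 2) R, expand 2 A + expand 2 B * h = 0 → A = 0 ∧ B = 0 := by
    intro A B hAB
    obtain ⟨hA, -, -, hB⟩ := decomp_unique A (B * G) (B * F) (B * T) (by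
      rw [← hAB, hh, map_mul, map_mul, map_mul]; ring)
    exact ⟨hA, by linear_combination C (↑t⁻¹ : R) * hB - B * htT⟩
  refine ⟨fun p => ?_, ?_⟩
  · set D := MvPolynomial.mkDerivation R
          (![C l4 * X 0 ^ 4 + C l2 * X 0 ^ 2 + expand 2 T * X 0 + C l0,
            C s4 * X 1 ^ 4 + C s2 * X 1 ^ 2 + expand 2 T * X 1 + C s0] :
            Fin 2 → MvPolynomial (Fin 2) R) with hD
    have d0 : D (X 0) = expand 2 F + expand 2 T * X 0 := by
      rw [hD, mkDerivation_X, eF, Matrix.cons_val_zero]; ring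
    have d1 : D (X 1) = expand 2 G + expand 2 T * X 1 := by
      rw [hD, mkDerivation_X, eG, Matrix.cons_val_one, Matrix.cons_val_zero]; ring
    have hDe : ∀ q, D (expand 2 q) = 0 := derivation_expand D
    rw [range_aeval h K hK]
    constructor
    · intro hp
      obtain ⟨q0, q1, q2, q3, rfl⟩ := decomp_exists p
      have : expand 2 (q1 * F + q2 * G) + expand 2 (q1 * T + q3 * G) * X 0
          + expand 2 (q2 * T + q3 * F) * X 1 + expand 2 (0 : MvPolynomial (Fin 2) R) * (X 0 * X 1) = 0 := by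
        simp only [map_add, Derivation.leibniz, smul_eq_mul, hDe, d0, d1] at hp
        simp only [map_add, map_mul, map_zero]
        linear_combination hp - expand 2 q3 * expand 2 T * X 0 * X 1 * h2
      obtain ⟨-, e1, e2, -⟩ := decomp_unique _ _ _ _ this
      refine ⟨q0, q3 * C (↑t⁻¹ : R), ?_⟩
      have k1 : q1 = q3 * C (↑t⁻¹ : R) * G := by
        linear_combination C (↑t⁻¹ : R) * e1 - q1 * htT - q3 * C (↑t⁻¹ : R) * G * h2
      have k2 : q2 = q3 * C (↑t⁻¹ : R) * F := by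
        linear_combination C (↑t⁻¹ : R) * e2 - q2 * htT - q3 * C (↑t⁻¹ : R) * F * h2
      rw [k1, k2, hh]
      simp only [map_mul, expand_C, eT]
      linear_combination -(expand 2 q3 * X 0 * X 1) * ht
    · rintro ⟨A, B, rfl⟩
      simp only [hh, map_add, Derivation.leibniz, smul_eq_mul, hDe, d0, d1]
      linear_combination expand 2 B * (expand 2 T * expand 2 G * X 0 + expand 2 T * expand 2 F * X 1
        + expand 2 G * expand 2 F + expand 2 T ^ 2 * X 0 * X 1) * h2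
  · rw [ker_aeval h K hK hind]
    congr 2
    rw [hKdef]
    simp only [map_add, map_mul, map_pow, rename_C, rename_X, Fin.castSucc_zero, Fin.castSucc_one]
    ring

end Groth.Agent.S13122
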