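import Groth.Statements.S13124
import Groth.Agent.Lib.InvNormal.Basic

set_option autoImplicit false
universe u v w
open KumFam

namespace Groth.Agent.S13124

/-- Let k be a commutative ring, A a commutative k-bialgebra that is flat over k, and R a commutative
k-algebra which is an integrally closed domain, with a coaction R → R ⊗ A that is an algebra
homomorphism. Then the ring of invariants (the elements f with coaction f ⊗ 1) is an integrally
closed domain. (The published statement is for a finite group scheme acting on a normal scheme whose
quotient is, locally, the spectrum of the ring of invariants; this row is the affine integral case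
and allows any commutative bialgebra flat over k, flatness being automatic over a field.) -/
theorem result (k : Type u) [CommRing k]
    (A : Type v) [CommRing A] [Bialgebra k A] [Module.Flat k A]
    (R : Type w) [CommRing R] [Algebra k R] [IsDomain R] [IsIntegrallyClosed R]
    [HopfRep.Comod k A R] [GLin.IsCoactAlg k A R] :
    IsIntegrallyClosed (GLin.invariants k A R) := by
  let K := FractionRing ↥(GLin.invariants k A R)
  have hinj : Function.Injective ((GLin.invariants k A R).val.toRingHom) := Subtype.val_injective
  let Φ : K →+* FractionRing R := IsFractionRing.map hinj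
  rw [isIntegrallyClosed_iff K]
  intro x hx
  obtain ⟨a, b, hb, rfl⟩ := IsFractionRing.div_surjective ↥(GLin.invariants k A R) x
  have hcomm : ∀ t : ↥(GLin.invariants k A R), Φ (algebraMap _ _ t) = algebraMap R (FractionRing R) t.1 := fun t =>
    IsLocalization.map_eq _ t
  obtain ⟨s, hs⟩ := IsIntegrallyClosed.isIntegral_iff.mp
    (hx.map_of_comp_eq (GLin.invariants k A R).val.toRingHom Φ
      (RingHom.ext fun t => (hcomm t).symm))
  have hb0 : b.1 ≠ 0 := fun h => nonZeroDivisors.ne_zero hb (Subtype.ext h)
  rw [map_div₀, hcomm, hcomm, eq_div_iff ((map_ne_zero_iff _ (IsFractionRing.injective _ _)).mpr hb0),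
    ← map_mul] at hs
  have h3 : s * b.1 = a.1 := IsFractionRing.injective _ _ hs
  have hsA : s ∈ GLin.invariants k A R := by
    rw [GLin.mem_invariants_iff]
    have h4 := congrArg (HopfRep.Comod.coact (k := k) (A := A)) h3
    rw [GLin.IsCoactAlg.coact_mul, show HopfRep.Comod.coact (k := k) (A := A) b.1 = b.1 ⊗ₜ[k] (1 : A) from b.2,
      show HopfRep.Comod.coact (k := k) (A := A) a.1 = a.1 ⊗ₜ[k] (1 : A) from a.2] at h4
    refine (mul_cancel_right_mem_nonZeroDivisors
      (Groth.Agent.Lib.InvNormal.Basic.tmul_one_mem_nonZeroDivisors A
        (mem_nonZeroDivisors_of_ne_zero hb0))).mp ?_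
    rw [h4, Algebra.TensorProduct.tmul_mul_tmul, mul_one, h3]
  refine ⟨⟨s, hsA⟩, ?_⟩
  rw [eq_div_iff (IsFractionRing.to_map_ne_zero_of_mem_nonZeroDivisors hb), ← map_mul]
  exact congrArg _ (Subtype.ext h3)

end Groth.Agent.S13124
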