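import Groth.Statements.S13125
import Mathlib.RingTheory.GradedAlgebra.Homogeneous.Ideal
import Mathlib.RingTheory.Ideal.Quotient.Operations

set_option autoImplicit false
universe u v
open KumFam

namespace Groth.Agent.S13125

/-- Let A be a commutative ring graded by an additive monoid ι (an abelian group in the published
statement) through additive subgroups 𝒜 i, and I an ideal of A. Then I is a homogeneous ideal if and
only if A/I carries a structure of ι-graded ring ℬ for which the quotient map sends 𝒜 i into ℬ i for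
all i. -/
theorem result (ι : Type u) [DecidableEq ι] [AddMonoid ι]
    (A : Type v) [CommRing A] (𝒜 : ι → AddSubgroup A) [GradedRing 𝒜] (I : Ideal A) :
    I.IsHomogeneous 𝒜 ↔
      ∃ ℬ : ι → AddSubgroup (A ⧸ I), Nonempty (GradedRing ℬ) ∧
        ∀ i : ι, (𝒜 i).map (Ideal.Quotient.mk I : A →+ A ⧸ I) ≤ ℬ i := by
  classical
  let q : A →+* A ⧸ I := Ideal.Quotient.mk I
  constructor
  · intro hI
    let ℬ : ι → AddSubgroup (A ⧸ I) := fun i => (𝒜 i).map (q : A →+ A ⧸ I)
    haveI : SetLike.GradedMonoid ℬ :=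
      { one_mem := ⟨1, SetLike.one_mem_graded 𝒜, map_one q⟩
        mul_mem := by
          rintro i j _ _ ⟨a, ha, rfl⟩ ⟨b, hb, rfl⟩
          exact ⟨a * b, SetLike.mul_mem_graded ha hb, map_mul q a b⟩ }
    have hcompat : ∀ d : DirectSum ι (fun i => 𝒜 i),
        DirectSum.coeAddMonoidHom ℬ (DirectSum.map (fun i => (q : A →+ A ⧸ I).addSubgroupMap (𝒜 i)) d) =
          q (DirectSum.coeAddMonoidHom 𝒜 d) := by
      intro d
      induction d using DirectSum.induction_on with
      | zero => simp
      | of i a => rw [DirectSum.map_of, DirectSum.coeAddMonoidHom_of, DirectSum.coeAddMonoidHom_of]; rfl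
      | add x y hx hy => simp only [map_add, hx, hy]
    have hbij : Function.Bijective (DirectSum.coeAddMonoidHom ℬ) := by
      refine ⟨(injective_iff_map_eq_zero _).2 fun x hx => ?_, fun y => ?_⟩
      · obtain ⟨d, rfl⟩ := (DirectSum.map_surjective _).2
          (fun i => AddMonoidHom.addSubgroupMap_surjective (q : A →+ A ⧸ I) (𝒜 i)) x
        rw [hcompat] at hx
        set a := DirectSum.coeAddMonoidHom 𝒜 d with ha
        have hd : DirectSum.decompose 𝒜 a = d := DirectSum.Decomposition.right_inv (ℳ := 𝒜) d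
        ext i
        rw [DirectSum.map_apply]
        show q ((d i : 𝒜 i) : A) = 0
        rw [← hd, Ideal.Quotient.eq_zero_iff_mem]
        exact hI i (Ideal.Quotient.eq_zero_iff_mem.1 hx)
      · obtain ⟨a, rfl⟩ := Ideal.Quotient.mk_surjective y
        exact ⟨_, (hcompat (DirectSum.decompose 𝒜 a)).trans (congrArg q ((DirectSum.decompose 𝒜).left_inv a))⟩
    letI := DirectSum.IsInternal.chooseDecomposition ℬ hbij
    exact ⟨ℬ, ⟨{ }⟩, fun i => le_rfl⟩
  · rintro ⟨ℬ, ⟨hB⟩, hle⟩ i a ha
    have hq : ∀ j b, b ∈ 𝒜 j → q b ∈ ℬ j := fun j b hb => hle j ⟨b, hb, rfl⟩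
    let ψ : DirectSum ι (fun i => 𝒜 i) →+ DirectSum ι (fun i => ℬ i) :=
      DirectSum.map fun j =>
        ((q : A →+ A ⧸ I).comp (𝒜 j).subtype).codRestrict (ℬ j) fun x => hq j _ x.2
    have hψ : ∀ d, DirectSum.coeAddMonoidHom ℬ (ψ d) = q (DirectSum.coeAddMonoidHom 𝒜 d) := by
      intro d
      induction d using DirectSum.induction_on with
      | zero => simp
      | of j b => rw [DirectSum.map_of, DirectSum.coeAddMonoidHom_of, DirectSum.coeAddMonoidHom_of]; rfl
      | add x y hx hy => simp only [map_add, hx, hy]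
    have h0 : DirectSum.coeAddMonoidHom ℬ (ψ (DirectSum.decompose 𝒜 a)) = 0 := by
      rw [hψ]
      exact (congrArg q ((DirectSum.decompose 𝒜).left_inv a)).trans (Ideal.Quotient.eq_zero_iff_mem.2 ha)
    have h1 : ψ (DirectSum.decompose 𝒜 a) = 0 :=
      (DirectSum.Decomposition.isInternal ℬ).1 (h0.trans (map_zero _).symm)
    refine Ideal.Quotient.eq_zero_iff_mem.1 ?_
    have := congrArg (fun z => ((z i : ℬ i) : A ⧸ I)) h1
    simp only [ψ, DirectSum.map_apply] at this
    exact this

end Groth.Agent.S13125
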