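import Groth.Statements.S13126
import Mathlib.RingTheory.Coprime.Lemmas
import Mathlib.Algebra.Polynomial.RingDivision
import Mathlib.Algebra.Polynomial.AlgebraMap
import Mathlib.Algebra.Polynomial.Monic
import Mathlib.Algebra.Algebra.Pi
import Mathlib.Algebra.Polynomial.BigOperators

set_option autoImplicit false
universe u
open KumFam

namespace Groth.Agent.S13126

open Polynomial in
/-- Let R be a commutative ring, n a natural number which is a unit in R, and ζ ∈ R with ζ^n = 1 and 1 −
ζ^i a unit for 0 < i < n (a primitive n-th root of unity in the fibrewise sense: the powers ζ^0, …,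
ζ^(n−1) are roots of X^n − 1 with pairwise unit differences; over an integral domain in which n is a
unit this is the same as ζ having multiplicative order n). Then the R-algebra homomorphism R[X] →
(Fin n → R) sending a polynomial to its values at ζ^0, …, ζ^(n−1) is surjective and its kernel is
the ideal generated by X^n − 1; hence R[X]/(X^n − 1) ≅ R^n as R-algebras, i.e. the scheme of n-th
roots of unity over Spec R is the disjoint union of n copies of Spec R. (The published statement
asks that R contain a primitive n-th root of unity without defining the term; its Chinese-remainder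
argument uses that the ideals (X − ζ^i), i < n, are pairwise comaximal, which is the unit-difference
condition taken as the hypothesis here, whereas under the reading 'ζ has multiplicative order n'
alone the surjectivity fails over a product of two fields. The published statement also asserts that
the isomorphism respects the group-scheme structures of the n-th roots of unity and of the constant
group ℤ/n; this row does not state that.) -/
theorem result (R : Type u) [CommRing R]
    (n : ℕ) (hn : IsUnit (n : R)) (ζ : R) (hζ : ζ ^ n = 1)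
    (hprim : ∀ i : ℕ, 0 < i → i < n → IsUnit (1 - ζ ^ i)) :
    Function.Surjective (AlgHom.pi (fun i : Fin n => Polynomial.aeval (R := R) (ζ ^ (i : ℕ)))) ∧
      RingHom.ker (AlgHom.pi (fun i : Fin n => Polynomial.aeval (R := R) (ζ ^ (i : ℕ)))) =
        Ideal.span {(X ^ n - 1 : R[X])} := by
  classical
  cases subsingleton_or_nontrivial R
  · exact ⟨fun v => ⟨0, Subsingleton.elim _ _⟩, Subsingleton.elim _ _⟩
  have hn0 : n ≠ 0 := by rintro rfl; simp at hn
  have hζu : IsUnit ζ := IsUnit.of_pow_eq_one hζ hn0
  have hdiff : ∀ i j : Fin n, i ≠ j → IsUnit (ζ ^ (i : ℕ) - ζ ^ (j : ℕ)) := by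
    have h1 : ∀ i j : Fin n, i < j → IsUnit (ζ ^ (i : ℕ) - ζ ^ (j : ℕ)) := by
      intro i j hij
      have h := (hζu.pow (i : ℕ)).mul (hprim ((j : ℕ) - i) (by omega) (by omega))
      rwa [mul_sub, mul_one, ← pow_add, Nat.add_sub_cancel' (le_of_lt hij)] at h
    intro i j hij
    rcases lt_or_gt_of_ne hij with h | h
    · exact h1 i j h
    · simpa using (h1 j i h).neg
  have hdvd : ∀ f : R[X], (∀ i : Fin n, f.eval (ζ ^ (i : ℕ)) = 0) → (∏ i : Fin n, (X - C (ζ ^ (i : ℕ)))) ∣ f := by
    intro f hf
    refine Fintype.prod_dvd_of_coprime (fun i j hij => isCoprime_X_sub_C_of_isUnit_sub (hdiff i j hij)) fun i => ?_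
    exact dvd_iff_isRoot.2 (hf i)
  have hroot : ∀ i : Fin n, (X ^ n - 1 : R[X]).eval (ζ ^ (i : ℕ)) = 0 := by
    intro i
    rw [eval_sub, eval_pow, eval_X, eval_one, ← pow_mul, mul_comm, pow_mul, hζ, one_pow, sub_self]
  have hX : (X ^ n - 1 : R[X]) = ∏ i : Fin n, (X - C (ζ ^ (i : ℕ))) := by
    refine eq_of_monic_of_dvd_of_natDegree_le (monic_prod_of_monic _ _ fun i _ => monic_X_sub_C _)
      (monic_X_pow_sub_C 1 hn0) (hdvd _ hroot) (le_of_eq ?_)
    rw [natDegree_prod_of_monic _ _ fun i _ => monic_X_sub_C _]
    simp only [natDegree_X_sub_C]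
    rw [← C_1, natDegree_X_pow_sub_C]
    simp
  refine ⟨fun v => ?_, ?_⟩
  · choose w hw using fun i : Fin n => isUnit_iff_exists_inv.1
      ((IsUnit.prod_iff (s := Finset.univ.erase i) (f := fun j : Fin n => ζ ^ (i : ℕ) - ζ ^ (j : ℕ))).2
        fun j hj => hdiff i j (Finset.ne_of_mem_erase hj).symm)
    refine ⟨∑ i, C (v i * w i) * ∏ j ∈ Finset.univ.erase i, (X - C (ζ ^ (j : ℕ))), funext fun k => ?_⟩
    simp only [Pi.algHom_apply, coe_aeval_eq_eval, eval_finsetSum, eval_mul, eval_C, eval_prod, eval_sub, eval_X]
    rw [Finset.sum_eq_single k]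
    · rw [mul_assoc, mul_comm (w k), hw k, mul_one]
    · intro i _ hik
      rw [Finset.prod_eq_zero (Finset.mem_erase.2 ⟨hik.symm, Finset.mem_univ k⟩) (sub_self _), mul_zero]
    · simp
  · ext f
    rw [RingHom.mem_ker, Ideal.mem_span_singleton, hX]
    refine ⟨fun h => hdvd f fun i => ?_, ?_⟩
    · have := congrFun h i
      simpa using this
    · rintro ⟨g, rfl⟩
      funext i
      simp only [Pi.algHom_apply, coe_aeval_eq_eval, eval_mul, eval_prod]
      rw [Finset.prod_eq_zero (Finset.mem_univ i) (by simp), zero_mul]
      rfl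

end Groth.Agent.S13126
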