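import Groth.Statements.S13127
import Groth.Agent.H23.PSAut
import Mathlib.Tactic.LinearCombination

set_option autoImplicit false
universe u
open KumFam Groth.Agent.H23.PSAut

namespace Groth.Agent.S13127

open MvPowerSeries in
theorem result (R : Type u) [CommRing R] [CharP R 2]
    (l0 l2 l4 s0 s2 s4 τ lam sig κ₁ κ₂ : R) (hl4 : IsUnit l4) (hs4 : IsUnit s4) (hlam : IsUnit lam)
    (hsig : IsUnit sig) (h₁ : s4 ^ 2 * κ₁ ^ 3 = sig ^ 2) (h₂ : l4 ^ 2 * κ₂ ^ 3 = lam ^ 2) :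
    ∃ φ : MvPowerSeries (Fin 3) R ≃ₐ[R] MvPowerSeries (Fin 3) R,
      φ ((X 2 ^ 2 + C (s0 ^ 2) * X 0 ^ 3 * X 1 ^ 4 + C (s2 ^ 2) * X 0 ^ 3 * X 1 ^ 2 +
          C (s4 ^ 2) * X 0 ^ 3 + C (l0 ^ 2) * X 0 ^ 4 * X 1 ^ 3 + C (l2 ^ 2) * X 0 ^ 2 * X 1 ^ 3 +
          C (l4 ^ 2) * X 1 ^ 3 + C (τ ^ 2) * X 0 ^ 3 * X 1 ^ 3 : MvPowerSeries (Fin 3) R)) =
        (X 2 ^ 2 + C (sig ^ 2) * X 0 ^ 3 + C (lam ^ 2) * X 1 ^ 3 : MvPowerSeries (Fin 3) R) := by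
  have h3 : IsUnit ((3 : ℕ) : R) := by
    have : ((3 : ℕ) : R) = 1 := by
      have h2 : (2 : R) = 0 := CharTwo.two_eq_zero
      push_cast; linear_combination h2
    rw [this]; exact isUnit_one
  have hk1 : IsUnit κ₁ := (isUnit_pow_iff (by norm_num)).1
    (isUnit_of_mul_isUnit_right (h₁ ▸ hsig.pow 2 : IsUnit (s4 ^ 2 * κ₁ ^ 3)))
  have hk2 : IsUnit κ₂ := (isUnit_pow_iff (by norm_num)).1
    (isUnit_of_mul_isUnit_right (h₂ ▸ hlam.pow 2 : IsUnit (l4 ^ 2 * κ₂ ^ 3)))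
  obtain ⟨k1, rfl⟩ := hk1
  obtain ⟨k2, rfl⟩ := hk2
  obtain ⟨u4, hu4⟩ := hs4.pow 2
  obtain ⟨v4, hv4⟩ := hl4.pow 2
  let U : MvPowerSeries (Fin 3) R :=
    C (s2 ^ 2) * X 1 ^ 2 + C (s0 ^ 2) * X 1 ^ 4 + C (τ ^ 2) * X 1 ^ 3
  let V : MvPowerSeries (Fin 3) R := C (l2 ^ 2) * X 0 ^ 2 + C (l0 ^ 2) * X 0 ^ 4
  obtain ⟨g, hg, hg0⟩ := exists_root 3 (by norm_num) h3 (1 + C (↑u4⁻¹ : R) * U) (by simp [U])
  obtain ⟨h, hh, hh0⟩ := exists_root 3 (by norm_num) h3 (1 + C (↑v4⁻¹ : R) * V) (by simp [V])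
  let w : Fin 3 → MvPowerSeries (Fin 3) R := ![C (↑k1⁻¹ : R) * g, C (↑k2⁻¹ : R) * h, 1]
  have hw : ∀ i, IsUnit (constantCoeff (w i)) := by
    intro i; fin_cases i <;> simp [w, hg0, hh0]
  refine ⟨(mulXEquiv w hw).symm, ?_⟩
  rw [AlgEquiv.symm_apply_eq]
  simp only [map_add, map_mul, map_pow, mulXEquiv_X]
  simp only [← map_pow C, mulXEquiv_C]
  simp only [w, Matrix.cons_val_zero, Matrix.cons_val_one, Matrix.cons_val]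
  have e1 : C (sig ^ 2) * C (↑k1⁻¹ : R) ^ 3 = (C (s4 ^ 2) : MvPowerSeries (Fin 3) R) := by
    rw [← h₁, ← map_pow C, ← map_mul C, mul_assoc, ← mul_pow, Units.mul_inv, one_pow, mul_one]
  have e2 : C (lam ^ 2) * C (↑k2⁻¹ : R) ^ 3 = (C (l4 ^ 2) : MvPowerSeries (Fin 3) R) := by
    rw [← h₂, ← map_pow C, ← map_mul C, mul_assoc, ← mul_pow, Units.mul_inv, one_pow, mul_one]
  have e3 : C (s4 ^ 2) * C (↑u4⁻¹ : R) = (1 : MvPowerSeries (Fin 3) R) := by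
    rw [← hu4, ← map_mul, Units.mul_inv, map_one]
  have e4 : C (l4 ^ 2) * C (↑v4⁻¹ : R) = (1 : MvPowerSeries (Fin 3) R) := by
    rw [← hv4, ← map_mul, Units.mul_inv, map_one]
  linear_combination -(X 0 ^ 3 * g ^ 3) * e1 - (X 1 ^ 3 * h ^ 3) * e2
    - (X 0 ^ 3 * C (s4 ^ 2)) * hg - (X 1 ^ 3 * C (l4 ^ 2)) * hh
    - (X 0 ^ 3 * U) * e3 - (X 1 ^ 3 * V) * e4

end Groth.Agent.S13127
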