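import Groth.Statements.S13128
import Groth.Agent.H23.PSAut
import Mathlib.Tactic.LinearCombination

set_option autoImplicit false
universe u
open KumFam Groth.Agent.H23.PSAut

namespace Groth.Agent.S13128

open MvPowerSeries in
theorem result (R : Type u) [CommRing R] [CharP R 2]
    (l0 l2 l4 s0 s2 s4 τ α β : R) (hτ : IsUnit τ)
    (hα : l4 ^ 2 * α ^ 4 + l2 ^ 2 * α ^ 2 + τ ^ 2 * α + l0 ^ 2 = 0)
    (hβ : s4 ^ 2 * β ^ 4 + s2 ^ 2 * β ^ 2 + τ ^ 2 * β + s0 ^ 2 = 0) :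
    ∃ φ : MvPowerSeries (Fin 3) R ≃ₐ[R] MvPowerSeries (Fin 3) R,
      φ ((X 2 ^ 2 + C (τ ^ 2) * X 0 * X 1 + (C (s4 ^ 2) * X 1 ^ 4 + C (s2 ^ 2) * X 1 ^ 2) * X 0 +
          (C (l4 ^ 2) * X 0 ^ 4 + C (l2 ^ 2) * X 0 ^ 2) * X 1 + C (l4 ^ 2 * β) * X 0 ^ 4 +
          C (l2 ^ 2 * β) * X 0 ^ 2 + C (s4 ^ 2 * α) * X 1 ^ 4 + C (s2 ^ 2 * α) * X 1 ^ 2 :
          MvPowerSeries (Fin 3) R)) =
        (X 2 ^ 2 + X 0 * X 1 : MvPowerSeries (Fin 3) R) := by
  obtain ⟨t, rfl⟩ := hτ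
  have h2 : (2 : R) = 0 := CharTwo.two_eq_zero
  let μ : R := (l4 * α ^ 2 + l2 * α + l0) * (↑t⁻¹ : R)
  let ν : R := (s4 * β ^ 2 + s2 * β + s0) * (↑t⁻¹ : R)
  have ht : (t : R) * ↑t⁻¹ = 1 := Units.mul_inv t
  have hμ : μ ^ 2 = α := by
    simp only [μ]
    linear_combination (↑t⁻¹ : R) ^ 2 * hα - α * ((t : R) * ↑t⁻¹ + 1) * ht
      + (↑t⁻¹ : R) ^ 2 * (l4 * l2 * α ^ 3 + l4 * l0 * α ^ 2 + l2 * l0 * α) * h2 - α * h2
  have hν : ν ^ 2 = β := by
    simp only [ν]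
    linear_combination (↑t⁻¹ : R) ^ 2 * hβ - β * ((t : R) * ↑t⁻¹ + 1) * ht
      + (↑t⁻¹ : R) ^ 2 * (s4 * s2 * β ^ 3 + s4 * s0 * β ^ 2 + s2 * s0 * β) * h2 - β * h2
  let γ : MvPowerSeries (Fin 3) R :=
    C ν * (C l4 * X 0 ^ 2 + C l2 * X 0) + C μ * (C s4 * X 1 ^ 2 + C s2 * X 1)
  let a : Fin 3 → MvPowerSeries (Fin 3) R := ![X 0, X 1, X 2 + γ]
  have ha : HasSubst a := hasSubst_of_constantCoeff_zero fun i => by
    fin_cases i <;> simp [a, γ]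
  let T : MvPowerSeries (Fin 3) R →ₐ[R] MvPowerSeries (Fin 3) R := substAlgHom ha
  have hT : ∀ i, T (X i) = a i := fun i => substAlgHom_X ha i
  have hC : ∀ r : R, T (C r) = C r := fun r => T.commutes r
  have hγ : T γ = γ := by
    simp only [γ, map_add, map_mul, map_pow, hC, hT, a, Matrix.cons_val_zero, Matrix.cons_val_one]
  have hinv : T.comp T = AlgHom.id R _ := by
    refine AlgHom.ext fun f => ?_
    simp only [AlgHom.comp_apply, AlgHom.id_apply, T, coe_substAlgHom]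
    rw [subst_comp_subst_apply ha ha]
    have : (fun s => subst a (a s)) = (X : Fin 3 → MvPowerSeries (Fin 3) R) := by
      funext s
      rw [← coe_substAlgHom ha]
      change T (a s) = X s
      have h22 : (2 : MvPowerSeries (Fin 3) R) = 0 := by
        rw [← map_ofNat (C : R →+* MvPowerSeries (Fin 3) R) 2, h2, map_zero]
      fin_cases s
      · simpa [a] using hT 0
      · simpa [a] using hT 1
      · simp only [a, Fin.reduceFinMk, Matrix.cons_val, map_add, hγ, hT]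
        linear_combination γ * h22
    rw [this, subst_self, id]
  let Te := AlgEquiv.ofAlgHom T T hinv hinv
  let w : MvPowerSeries (Fin 3) R := C ((t : R) ^ 2) + C (s4 ^ 2) * X 1 ^ 3 + C (s2 ^ 2) * X 1
    + C (l4 ^ 2) * X 0 ^ 3 + C (l2 ^ 2) * X 0
  have hw : ∀ i, IsUnit (constantCoeff ((![w, 1, 1] : Fin 3 → MvPowerSeries (Fin 3) R) i)) := by
    intro i; fin_cases i <;> simp [w]
  let E := mulXEquiv ![w, 1, 1] hw
  refine ⟨(E.trans Te).symm, ?_⟩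
  rw [AlgEquiv.symm_apply_eq, AlgEquiv.trans_apply]
  have h1 : E (X 2 ^ 2 + X 0 * X 1) = X 2 ^ 2 + X 0 * w * X 1 := by
    simp only [E, map_add, map_mul, map_pow, mulXEquiv_X, Matrix.cons_val_zero, Matrix.cons_val_one,
      Matrix.cons_val, mul_one]
  rw [h1]
  show _ = T _
  simp only [w, γ, map_add, map_mul, map_pow, hC, hT, a, Matrix.cons_val_zero, Matrix.cons_val_one,
    Matrix.cons_val]
  have h22 : (2 : MvPowerSeries (Fin 3) R) = 0 := by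
    rw [← map_ofNat (C : R →+* MvPowerSeries (Fin 3) R) 2, h2, map_zero]
  have eμ : (C μ : MvPowerSeries (Fin 3) R) ^ 2 = C α := by rw [← map_pow, hμ]
  have eν : (C ν : MvPowerSeries (Fin 3) R) ^ 2 = C β := by rw [← map_pow, hν]
  simp only [← map_pow C] at *
  linear_combination (norm := (simp only [map_mul, map_pow, map_add]; ring))
    -((C s4 * X 1 ^ 2 + C s2 * X 1) ^ 2) * eμ - ((C l4 * X 0 ^ 2 + C l2 * X 0) ^ 2) * eν
    - (C ν * (C l4 * X 0 ^ 2 + C l2 * X 0) * C μ * (C s4 * X 1 ^ 2 + C s2 * X 1)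
      + X 2 * (C ν * (C l4 * X 0 ^ 2 + C l2 * X 0) + C μ * (C s4 * X 1 ^ 2 + C s2 * X 1))
      + C β * (C l4 * C l2 * X 0 ^ 3) + C α * (C s4 * C s2 * X 1 ^ 3)) * h22

end Groth.Agent.S13128
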