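import Groth.Statements.S13129
import Groth.Agent.Lib.Amp36.Modif.LerayEuler
import Groth.Agent.Lib.Amp36.Modif.Divisorial
import Groth.Agent.Lib.Amp36.ModifVanish
import Groth.Agent.S15137
import Groth.Agent.Lib.RG.GeomComp
import Groth.Agent.Lib.Curves.NormStalk

set_option autoImplicit false
universe u
open CategoryTheory CategoryTheory.Limits AlgebraicGeometry
open KumFam

namespace Groth.Agent.S13129

open Groth.Agent Groth.Agent.Lib Groth.Agent.Lib.Amp36.Modif TopologicalSpace

/-- Let k be an algebraically closed field, Y a proper normal surface over k (irreducible of dimension 2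
with integrally closed local domains), X a proper smooth surface over k, and π : X → Y a k-morphism
which restricts to an isomorphism over Y minus a closed point y and whose fibre over y is
one-dimensional (a resolution of the singularity (Y, y)). Then R¹π_* O_X = 0 (first higher direct
image of the underlying abelian sheaf) if and only if χ(X, O_X) = χ(Y, O_Y). -/
theorem result (k : Type u) [Field k] [IsAlgClosed k]
    (X Y : Scheme.{u}) [X.Over (Spec (CommRingCat.of k))] [Y.Over (Spec (CommRingCat.of k))]
    [IsProper (X ↘ Spec (CommRingCat.of k))] [IsProper (Y ↘ Spec (CommRingCat.of k))]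
    [IrreducibleSpace X] [IrreducibleSpace Y] (hdX : topologicalKrullDim X = 2)
    (hdY : topologicalKrullDim Y = 2) [Smooth (X ↘ Spec (CommRingCat.of k))]
    (hYn : Pi1.IsNormalScheme Y) (π : X ⟶ Y) [π.IsOver (Spec (CommRingCat.of k))]
    (y : Y) (hy : IsClosed ({y} : Set Y))
    (hiso : IsIso (π ∣_ (⟨({y} : Set Y)ᶜ, hy.isOpen_compl⟩ : Y.Opens)))
    (hfib : topologicalKrullDim ((fun x : X => π.base x) ⁻¹' ({y} : Set Y)) = 1) :
    IsZero ((Coh.RpushAb π 1).obj (Coh.toAb (Coh.structureModule X))) ↔
      Curv2.euler k X (Coh.structureModule X) = Curv2.euler k Y (Coh.structureModule Y) := by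
  haveI : IsIntegral X := RG.GeomComp.isIntegral_of_smooth_connected (X ↘ Spec (CommRingCat.of k))
  haveI : AlgebraicGeometry.IsReduced Y := Lib.Curves.NormStalk.isReduced_of_normal hYn
  haveI : IsIntegral Y := isIntegral_of_irreducibleSpace_of_isReduced Y
  haveI := Lib.Curves.GlobalSections.isNoetherian_of_proper k Y
  have hπ : π ≫ (Y ↘ Spec (CommRingCat.of k)) = X ↘ Spec (CommRingCat.of k) := comp_over π _
  haveI : IsProper (π ≫ (Y ↘ Spec (CommRingCat.of k))) := hπ.symm ▸ inferInstance
  haveI : IsProper π := IsProper.of_comp π (Y ↘ Spec (CommRingCat.of k))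
  set U : Y.Opens := ⟨({y} : Set Y)ᶜ, hy.isOpen_compl⟩
  haveI := hiso
  have hg : genericPoint Y ∈ U := by
    intro h
    have h1 : (Set.univ : Set Y) ⊆ {y} := by
      rw [← hy.closure_eq, ← (Set.mem_singleton_iff.1 h), (genericPoint_spec Y).def]
    haveI : Subsingleton Y := ⟨fun a b => (h1 (Set.mem_univ a)).trans (h1 (Set.mem_univ b)).symm⟩
    haveI : Subsingleton (IrreducibleCloseds Y) := ⟨fun s t => IrreducibleCloseds.ext
      ((Set.eq_univ_of_forall fun z => by obtain ⟨w, hw⟩ := s.isIrreducible.nonempty
                                          rwa [Subsingleton.elim z w]).trans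
        (Set.eq_univ_of_forall fun z => by obtain ⟨w, hw⟩ := t.isIrreducible.nonempty
                                           rwa [Subsingleton.elim z w]).symm)⟩
    have h0 : topologicalKrullDim Y ≤ 0 := Order.krullDim_nonpos_of_subsingleton
    rw [hdY] at h0
    exact absurd h0 (by decide)
  obtain ⟨z, hz⟩ := Birat.exists_apply_eq π U hg
  obtain ⟨hgen, hst⟩ := S15137.gen_props π U ⟨_, hg⟩
  have happ := Groth.Agent.H34.Stein.isIso_app_of_birational π hYn hgen hst
  have hO : IsIso (ClSub.unitToPush π) := by
    rw [Scheme.Modules.Hom.isIso_iff_isIso_app]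
    intro W
    rw [ConcreteCategory.isIso_iff_bijective]
    haveI := happ W
    exact ConcreteCategory.bijective_of_isIso (π.app W)
  refine LerayEuler.isZero_iff_euler_eq k π hπ hdX.le hdY.le ?_ hO {y} (Set.finite_singleton y)
    (fun x hx => Set.mem_singleton_iff.1 hx ▸ hy) U (fun x hx => hx)
  exact Amp36.ModifVanish.fiber_dim_le_one π hdY.le ⟨U, ⟨z, show π z ∈ U from hz.symm ▸ hg⟩, hiso⟩

end Groth.Agent.S13129
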