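import Groth.Statements.S13131
import Mathlib.AlgebraicGeometry.Limits
import Mathlib.Topology.LocallyConstant.Basic

set_option autoImplicit false
universe u
open CategoryTheory CategoryTheory.Limits AlgebraicGeometry
open KumFam

namespace Groth.Agent.S13131

/-- Let S be a scheme, M a set and p : T → S a scheme over S. The S-morphisms T → ∐_{m ∈ M} S (the
constant S-scheme on M, with its structure map the codiagonal) are in bijection with the locally
constant maps T → M, a morphism f corresponding to the function sending t to the index of the copy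
of S containing f(t). (In the published statement M is a group and ∐_M S the constant group scheme;
the group structures play no role in this description of T-points.) -/
theorem result (S : Scheme.{u}) (M : Type u)
    (T : Scheme.{u}) (p : T ⟶ S) :
    ∃ e : {f : T ⟶ ∐ (fun _ : M => S) // f ≫ Sigma.desc (fun _ : M => 𝟙 S) = p} ≃
        LocallyConstant T M,
      ∀ (f : {f : T ⟶ ∐ (fun _ : M => S) // f ≫ Sigma.desc (fun _ : M => 𝟙 S) = p}) (t : T),
        e f t = ((sigmaMk (fun _ : M => S)).symm (f.1.base t)).1 := by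
  classical
  let π : ↥(∐ fun _ : M => S : Scheme.{u}) → M := fun x => ((sigmaMk fun _ : M => S).symm x).1
  have hπι : ∀ (m : M) (x : S), π ((Sigma.ι (fun _ : M => S) m).base x) = m := by
    intro m x
    show ((sigmaMk fun _ : M => S).symm _).1 = m
    rw [← sigmaMk_mk, Homeomorph.symm_apply_apply]
  have hπ : IsLocallyConstant π := (show IsLocallyConstant fun y : (Σ _ : M, S) => y.1 from
    IsLocallyConstant.iff_exists_open _ |>.2 fun y => ⟨Set.range (Sigma.mk y.1), isOpen_range_sigmaMk,
      ⟨y.2, rfl⟩, by rintro _ ⟨z, rfl⟩; rfl⟩).comp_continuous (sigmaMk fun _ : M => S).symm.continuous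
  let Φ : {f : T ⟶ ∐ (fun _ : M => S) // f ≫ Sigma.desc (fun _ : M => 𝟙 S) = p} → LocallyConstant T M :=
    fun f => ⟨fun t => π (f.1.base t), hπ.comp_continuous f.1.base.hom.continuous⟩
  have hU : ∀ (c : LocallyConstant T M) (m : M), IsOpen (c ⁻¹' {m}) := fun c m => c.isLocallyConstant.isOpen_fiber m
  have inj : Function.Injective Φ := by
    intro f g hfg
    have key : ∀ (h : {f : T ⟶ ∐ (fun _ : M => S) // f ≫ Sigma.desc (fun _ : M => 𝟙 S) = p}) (m : M)
        (U : T.Opens), (∀ t ∈ U, Φ h t = m) → U.ι ≫ h.1 = U.ι ≫ p ≫ Sigma.ι (fun _ : M => S) m := by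
      intro h m U hUm
      have hr : Set.range (U.ι ≫ h.1).base ⊆ Set.range (Sigma.ι (fun _ : M => S) m).base := by
        rintro _ ⟨t, rfl⟩
        obtain ⟨⟨m', x⟩, hx⟩ := (sigmaMk fun _ : M => S).surjective ((U.ι ≫ h.1).base t)
        rw [sigmaMk_mk] at hx
        have ht : π ((U.ι ≫ h.1).base t) = m := hUm _ t.2
        rw [← hx, hπι] at ht
        subst ht
        exact ⟨x, hx⟩
      have hl := IsOpenImmersion.lift_fac _ _ hr
      have hlp : IsOpenImmersion.lift _ _ hr = U.ι ≫ p := by
        have := congrArg (· ≫ Sigma.desc (fun _ : M => 𝟙 S)) hl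
        simp only [Category.assoc, Sigma.ι_desc, Category.comp_id, h.2] at this
        exact this
      rw [← hl, hlp, Category.assoc]
    refine Subtype.ext (Scheme.Cover.hom_ext (Scheme.openCoverOfIsOpenCover T
      (fun m => (⟨Φ f ⁻¹' {m}, hU _ m⟩ : T.Opens)) ?_) _ _ fun m => ?_)
    · exact TopologicalSpace.IsOpenCover.mk (top_le_iff.1 fun t _ =>
        TopologicalSpace.Opens.mem_iSup.2 ⟨Φ f t, rfl⟩)
    · exact (key f m _ fun t ht => ht).trans (key g m _ fun t ht => hfg ▸ ht).symm
  have surj : Function.Surjective Φ := by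
    intro c
    let U : M → T.Opens := fun m => ⟨c ⁻¹' {m}, hU c m⟩
    let a : (∐ fun m => (U m).toScheme) ⟶ T := Sigma.desc fun m => (U m).ι
    have : IsOpenImmersion a := isOpenImmersion_sigmaDesc _ _ (fun i j hij => by
      show Disjoint (Set.range (U i).ι.base) (Set.range (U j).ι.base)
      rw [Scheme.Opens.range_ι, Scheme.Opens.range_ι]
      exact Set.disjoint_left.2 fun x (h1 : c x = i) (h2 : c x = j) => hij (h1.symm.trans h2))
    have hιa : ∀ m t, a.base ((Sigma.ι (fun m => (U m).toScheme) m).base t) = (U m).ι.base t := by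
      intro m t; rw [← Scheme.Hom.comp_apply, Sigma.ι_desc]
    have hs : Function.Surjective a.base := fun t =>
      ⟨(Sigma.ι (fun m => (U m).toScheme) (c t)).base ⟨t, rfl⟩, hιa _ _⟩
    have : IsIso a := isIso_of_isOpenImmersion_of_opensRange_eq_top a
      (TopologicalSpace.Opens.ext (Set.range_eq_univ.2 hs))
    let b : (∐ fun m => (U m).toScheme) ⟶ ∐ fun _ : M => S := CategoryTheory.Limits.Sigma.map fun m => (U m).ι ≫ p
    have hb : b ≫ Sigma.desc (fun _ : M => 𝟙 S) = a ≫ p := by
      apply Sigma.hom_ext; intro m; simp [a, b]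
    refine ⟨⟨inv a ≫ b, by rw [Category.assoc, hb, IsIso.inv_hom_id_assoc]⟩, ?_⟩
    ext t
    obtain ⟨y, rfl⟩ := hs t
    obtain ⟨⟨m, x⟩, rfl⟩ := (sigmaMk fun m => (U m).toScheme).surjective y
    show π ((inv a ≫ b).base (a.base _)) = c _
    rw [← Scheme.Hom.comp_apply, IsIso.hom_inv_id_assoc, sigmaMk_mk, hιa, ← Scheme.Hom.comp_apply,
      Sigma.ι_map, Scheme.Hom.comp_apply, hπι]
    exact x.2.symm
  exact ⟨Equiv.ofBijective Φ ⟨inj, surj⟩, fun f t => rfl⟩

end Groth.Agent.S13131
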