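import Groth.Statements.S13132
import Mathlib
import Groth.Agent.H15.ArtFlat

set_option autoImplicit false
universe u v
open CAlg

namespace Groth.Agent.S13132

/-- Let A' be an Artinian local ring, I a proper ideal of A' and S' a flat A'-algebra. An element f' of
S' is a non-zero-divisor exactly when its image in S'/IS' is one; and when f' is a non-zero-divisor,
the quotient S'/(f') is flat over A'. (The published statement is for local Artinian algebras with a
fixed residue field over a ring of Witt vectors and a surjection between two of them; the argument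
uses only that A' is Artinian local and I is a proper ideal, which is the form taken here.) -/
theorem result
    {A' : Type u} [CommRing A'] [IsArtinianRing A'] [IsLocalRing A'] (I : Ideal A') (hI : I ≠ ⊤)
    {S' : Type v} [CommRing S'] [Algebra A' S'] [Module.Flat A' S'] (f' : S') :
    (f' ∈ nonZeroDivisors S' ↔
      Ideal.Quotient.mk (I.map (algebraMap A' S')) f' ∈ nonZeroDivisors (S' ⧸ I.map (algebraMap A' S'))) ∧
    (f' ∈ nonZeroDivisors S' → Module.Flat A' (S' ⧸ Ideal.span {f'})) := by
  open Groth.Agent.H15.ArtFlat in
  have hreg : f' ∈ nonZeroDivisors S' ↔ ∀ x : S', f' • x ∈ (⊥ : Ideal A') • (⊤ : Submodule A' S') → x ∈ (⊥ : Ideal A') • (⊤ : Submodule A' S') := by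
    rw [mem_nonZeroDivisors_iff_right]
    simp only [Submodule.bot_smul, Submodule.mem_bot, smul_eq_mul, mul_comm f']
  open Groth.Agent.H15.ArtFlat in
  refine ⟨?_, fun hf => ?_⟩
  · rw [hreg, regMod_iff f' ⊥ bot_ne_top, ← regMod_iff f' I hI, mem_nonZeroDivisors_iff_right]
    simp only [Ideal.smul_top_eq_map, Submodule.restrictScalars_mem, smul_eq_mul]
    constructor
    · intro h x hx
      obtain ⟨x, rfl⟩ := Ideal.Quotient.mk_surjective x
      rw [← map_mul, Ideal.Quotient.eq_zero_iff_mem, mul_comm] at hx
      exact Ideal.Quotient.eq_zero_iff_mem.2 (h x hx)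
    · intro h x hx
      refine Ideal.Quotient.eq_zero_iff_mem.1 (h _ ?_)
      rw [← map_mul, Ideal.Quotient.eq_zero_iff_mem, mul_comm]; exact hx
  · have hsm : IsSMulRegular S' f' := by
      rw [isSMulRegular_iff_right_eq_zero_of_smul]
      intro x hx
      exact (mem_nonZeroDivisors_iff_right.1 hf) x (by rw [smul_eq_mul] at hx; rwa [mul_comm])
    haveI := flat_quotSMulTop (R := A') hsm
    refine Module.Flat.of_linearEquiv (R := A') ((Submodule.quotEquivOfEq _ _ ?_).restrictScalars A' : (S' ⧸ Ideal.span {f'}) ≃ₗ[A'] QuotSMulTop f' S')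
    rw [← Submodule.ideal_span_singleton_smul, smul_eq_mul, ← Ideal.one_eq_top, mul_one]

end Groth.Agent.S13132
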