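import Groth.Statements.S13133
import Mathlib
import Groth.Agent.H15.ArtReg

set_option autoImplicit false
universe u v
open CAlg

namespace Groth.Agent.S13133

/-- Let A' be an Artinian local ring, I a proper ideal of A', S' a flat A'-algebra and f'_1, …, f'_n
elements of S' with n ≥ 1. A family f'_1, …, f'_n in S' is a regular sequence exactly when its
reduction modulo I·S' is a regular sequence of S'/IS'. (Regular sequences are defined in the
published text over Noetherian rings; this row does not assume S' Noetherian, which the argument
does not use. The published statement is for a surjection of local Artinian algebras with a fixed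
residue field over a ring of Witt vectors; only the Artinian local base and the proper ideal are
used, which is the form taken here.) -/
theorem result
    {A' : Type u} [CommRing A'] [IsArtinianRing A'] [IsLocalRing A'] (I : Ideal A') (hI : I ≠ ⊤)
    {S' : Type v} [CommRing S'] [Algebra A' S'] [Module.Flat A' S'] {n : ℕ} (hn : 1 ≤ n)
    (f' : Fin n → S') :
    RingTheory.Sequence.IsRegular S' (List.ofFn f') ↔
      RingTheory.Sequence.IsRegular (S' ⧸ I.map (algebraMap A' S'))
        (List.ofFn fun i => Ideal.Quotient.mk (I.map (algebraMap A' S')) (f' i)) := by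
  classical
  open Groth.Agent.H15.ArtReg in
  have hw := (isWeaklyRegular_iff I hI (List.ofFn f') S').trans
    (transfer I (Ideal.Quotient.mk (I.map (algebraMap A' S'))) Ideal.Quotient.mk_surjective Ideal.mk_ker (List.ofFn f'))
  rw [List.map_ofFn] at hw
  open Groth.Agent.H15.ArtReg in
  have htop : (⊤ : Submodule S' S') = Ideal.ofList (List.ofFn f') • ⊤ ↔
      (⊤ : Submodule (S' ⧸ I.map (algebraMap A' S')) (S' ⧸ I.map (algebraMap A' S'))) =
        Ideal.ofList (List.ofFn fun i => Ideal.Quotient.mk (I.map (algebraMap A' S')) (f' i)) • ⊤ := by
    simp only [smul_eq_mul, ← Ideal.one_eq_top, mul_one]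
    rw [show (List.ofFn fun i => Ideal.Quotient.mk (I.map (algebraMap A' S')) (f' i)) = (List.ofFn f').map (Ideal.Quotient.mk (I.map (algebraMap A' S'))) from (List.map_ofFn).symm,
      ← Ideal.map_ofList, Ideal.one_eq_top, Ideal.one_eq_top]
    constructor
    · intro h; rw [← h, Ideal.map_top]
    · intro h
      have h2 := congrArg (Ideal.comap (Ideal.Quotient.mk (I.map (algebraMap A' S')))) h
      rw [Ideal.comap_top, Ideal.comap_map_of_surjective' _ Ideal.Quotient.mk_surjective, Ideal.mk_ker] at h2
      exact (eq_top_of_sup_map_eq_top I hI _ h2.symm).symm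
  constructor
  · intro h; exact ⟨hw.1 h.toIsWeaklyRegular, fun e => h.top_ne_smul (htop.2 e)⟩
  · intro h; exact ⟨hw.2 h.toIsWeaklyRegular, fun e => h.top_ne_smul (htop.1 e)⟩

end Groth.Agent.S13133
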