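import Groth.Statements.S13134
import Mathlib
import Groth.Agent.H15.ArtFlat

set_option autoImplicit false
universe u v
open CAlg

namespace Groth.Agent.S13134

/-- Let A' be an Artinian local ring, I a proper ideal, A = A'/I and f_1, …, f_m ∈ A[x_1, …, x_n]. Every
flat A'-algebra B' equipped with a surjection π onto A[x]/(f_1, …, f_m) with kernel I·B', compatible
with A' → A, is a quotient of A'[x_1, …, x_n] by the ideal generated by some lifts f'_1, …, f'_m of
the f_i, compatibly with π and with reduction of polynomials modulo I. (The published statement is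
for a surjection of local Artinian algebras with a fixed residue field over a ring of Witt vectors;
only the Artinian local base and the proper ideal are used, which is the form taken here.) -/
theorem result
    {A' : Type u} [CommRing A'] [IsArtinianRing A'] [IsLocalRing A'] (I : Ideal A') (hI : I ≠ ⊤)
    {n m : ℕ} (f : Fin m → MvPolynomial (Fin n) (A' ⧸ I))
    {B' : Type v} [CommRing B'] [Algebra A' B'] [Module.Flat A' B']
    (π : B' →+* MvPolynomial (Fin n) (A' ⧸ I) ⧸ Ideal.span (Set.range f))
    (hπ : Function.Surjective π) (hker : RingHom.ker π = I.map (algebraMap A' B'))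
    (hcomp : π.comp (algebraMap A' B') =
      ((Ideal.Quotient.mk (Ideal.span (Set.range f))).comp MvPolynomial.C).comp (Ideal.Quotient.mk I)) :
    ∃ (f' : Fin m → MvPolynomial (Fin n) A') (ψ : MvPolynomial (Fin n) A' →ₐ[A'] B'),
      (∀ i, MvPolynomial.map (Ideal.Quotient.mk I) (f' i) = f i) ∧
      Function.Surjective ψ ∧ RingHom.ker ψ.toRingHom = Ideal.span (Set.range f') ∧
      ∀ q, π (ψ q) = Ideal.Quotient.mk (Ideal.span (Set.range f)) (MvPolynomial.map (Ideal.Quotient.mk I) q) := by
  classical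
  have hnil : IsNilpotent I := by
    obtain ⟨k, hk⟩ := Groth.Agent.H15.ArtFlat.nilp (R := A')
    exact ⟨k, le_bot_iff.1 ((Ideal.pow_right_mono (IsLocalRing.le_maximalIdeal hI) k).trans hk.le)⟩
  choose b hb using fun i => hπ (Ideal.Quotient.mk (Ideal.span (Set.range f)) (MvPolynomial.X i))
  let ψ : MvPolynomial (Fin n) A' →ₐ[A'] B' := MvPolynomial.aeval b
  have hq : ∀ q, π (ψ q) = Ideal.Quotient.mk (Ideal.span (Set.range f)) (MvPolynomial.map (Ideal.Quotient.mk I) q) := by
    intro q
    induction q using MvPolynomial.induction_on with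
    | C r => simpa [ψ] using RingHom.congr_fun hcomp r
    | add u v hu hv => simp only [map_add, hu, hv]
    | mul_X u i hu => simp [hu, ψ, hb]
  have hIB : ∀ z : B', π z = 0 ↔ z ∈ I • (⊤ : Submodule A' B') := fun z => by
    rw [← RingHom.mem_ker, hker, Ideal.smul_top_eq_map]; rfl
  have hsurj : Function.Surjective ψ := by
    rw [← AlgHom.coe_toLinearMap, ← LinearMap.range_eq_top]
    refine Groth.Agent.H15.ArtFlat.eq_top_of_sup_smul_eq_top hnil _ (eq_top_iff.2 fun z _ => ?_)
    obtain ⟨w, hw⟩ := Ideal.Quotient.mk_surjective (π z)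
    obtain ⟨q, rfl⟩ := MvPolynomial.map_surjective _ Ideal.Quotient.mk_surjective w
    exact Submodule.mem_sup.2 ⟨ψ q, ⟨q, rfl⟩, z - ψ q, (hIB _).1 (by rw [map_sub, hq, hw, sub_self]), add_sub_cancel _ _⟩
  have hIP : ∀ q : MvPolynomial (Fin n) A', MvPolynomial.map (Ideal.Quotient.mk I) q = 0 ↔ q ∈ I • (⊤ : Submodule A' (MvPolynomial (Fin n) A')) := fun q => by
    rw [← RingHom.mem_ker, MvPolynomial.ker_map, Ideal.mk_ker, Ideal.smul_top_eq_map]; rfl
  have hlift : ∀ i, ∃ F, MvPolynomial.map (Ideal.Quotient.mk I) F = f i ∧ ψ F = 0 := by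
    intro i
    obtain ⟨F, hF⟩ := MvPolynomial.map_surjective _ Ideal.Quotient.mk_surjective (f i)
    have h1 : ψ F ∈ I • (⊤ : Submodule A' B') := by
      rw [← hIB, hq, hF, Ideal.Quotient.eq_zero_iff_mem]; exact Ideal.subset_span ⟨i, rfl⟩
    rw [← LinearMap.range_eq_top.2 (show Function.Surjective ψ.toLinearMap from hsurj), LinearMap.range_eq_map, ← Submodule.map_smul''] at h1
    obtain ⟨e, he, hee⟩ := h1
    refine ⟨F - e, by rw [map_sub, hF, (hIP e).2 he, sub_zero], ?_⟩
    rw [map_sub]; exact sub_eq_zero.2 hee.symm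
  choose f' hf' hψf using hlift
  refine ⟨f', ψ, hf', hsurj, le_antisymm ?_ (Ideal.span_le.2 (by rintro _ ⟨i, rfl⟩; exact hψf i)), hq⟩
  haveI := Groth.Agent.H15.ArtFlat.free_of_flat (R := A') B'
  obtain ⟨l, hl⟩ := Module.projective_lifting_property ψ.toLinearMap LinearMap.id hsurj
  set N := LinearMap.ker ψ.toLinearMap
  let p : MvPolynomial (Fin n) A' →ₗ[A'] N := LinearMap.codRestrict _ (LinearMap.id - l ∘ₗ ψ.toLinearMap) (fun y => by
    have := LinearMap.congr_fun hl (ψ.toLinearMap y)
    simp only [LinearMap.comp_apply, LinearMap.id_apply] at this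
    rw [LinearMap.mem_ker, LinearMap.sub_apply, map_sub, LinearMap.id_apply, LinearMap.comp_apply, this, sub_self])
  set J' := (Ideal.span (Set.range f')).restrictScalars A'
  have htop : J'.comap N.subtype = ⊤ := by
    refine Groth.Agent.H15.ArtFlat.eq_top_of_sup_smul_eq_top hnil _ (eq_top_iff.2 fun x _ => ?_)
    have hx0 : ψ (x : MvPolynomial (Fin n) A') = 0 := x.2
    have h1 : MvPolynomial.map (Ideal.Quotient.mk I) (x : MvPolynomial (Fin n) A') ∈ (Ideal.span (Set.range f')).map (MvPolynomial.map (Ideal.Quotient.mk I)) := by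
      rw [Ideal.map_span, ← Set.range_comp, show (MvPolynomial.map (Ideal.Quotient.mk I)) ∘ f' = f from funext hf', ← Ideal.Quotient.eq_zero_iff_mem]
      rw [← hq, hx0, map_zero]
    obtain ⟨y, hy, hyx⟩ := (Ideal.mem_map_iff_of_surjective _ (MvPolynomial.map_surjective _ Ideal.Quotient.mk_surjective)).1 h1
    have hyN : y ∈ N := by
      show ψ y = 0
      refine (Ideal.span_le.2 ?_ : Ideal.span (Set.range f') ≤ RingHom.ker ψ) hy
      rintro _ ⟨i, rfl⟩; exact hψf i
    have h2 : (x : MvPolynomial (Fin n) A') - y ∈ I • (⊤ : Submodule A' (MvPolynomial (Fin n) A')) :=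
      (hIP _).1 (by rw [map_sub, hyx, sub_self])
    have h3 : p ((x : MvPolynomial (Fin n) A') - y) ∈ I • (⊤ : Submodule A' N) := by
      have := Submodule.mem_map_of_mem (f := p) h2
      rw [Submodule.map_smul''] at this
      exact Submodule.smul_mono le_rfl le_top this
    have h4 : p ((x : MvPolynomial (Fin n) A') - y) = x - ⟨y, hyN⟩ := by
      apply Subtype.ext
      have hxy : ψ.toLinearMap ((x : MvPolynomial (Fin n) A') - y) = 0 := by
        rw [map_sub, LinearMap.mem_ker.1 x.2, LinearMap.mem_ker.1 hyN, sub_zero]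
      simp only [p, LinearMap.codRestrict_apply, LinearMap.sub_apply, LinearMap.comp_apply, hxy, map_zero, LinearMap.id_apply, sub_zero]
      rfl
    rw [h4] at h3
    refine Submodule.mem_sup.2 ⟨⟨y, hyN⟩, hy, x - ⟨y, hyN⟩, h3, ?_⟩
    exact add_sub_cancel _ _
  intro z hz
  have : (⟨z, hz⟩ : N) ∈ J'.comap N.subtype := htop ▸ Submodule.mem_top
  exact this

end Groth.Agent.S13134
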