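import Groth.Statements.S13135
import Mathlib
import Groth.Agent.H15.ArtReg

set_option autoImplicit false
universe u
open CAlg

namespace Groth.Agent.S13135

/-- Let A' be an Artinian local ring, I a proper ideal, A = A'/I and f_1, …, f_m a regular sequence in
A[x_1, …, x_n]. For every choice of lifts f'_1, …, f'_m in A'[x_1, …, x_n] the quotient A'[x]/(f'_1,
…, f'_m) is flat over A' (so it is a flat lifting of A[x]/(f_1, …, f_m)). (The published statement
is for a surjection of local Artinian algebras with a fixed residue field over a ring of Witt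
vectors; only the Artinian local base and the proper ideal are used, which is the form taken here.) -/
theorem result
    {A' : Type u} [CommRing A'] [IsArtinianRing A'] [IsLocalRing A'] (I : Ideal A') (hI : I ≠ ⊤)
    {n m : ℕ} (f : Fin m → MvPolynomial (Fin n) (A' ⧸ I))
    (hreg : RingTheory.Sequence.IsRegular (MvPolynomial (Fin n) (A' ⧸ I)) (List.ofFn f))
    (f' : Fin m → MvPolynomial (Fin n) A') (hf' : ∀ i, MvPolynomial.map (Ideal.Quotient.mk I) (f' i) = f i) :
    Module.Flat A' (MvPolynomial (Fin n) A' ⧸ Ideal.span (Set.range f')) := by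
  classical
  open Groth.Agent.H15.ArtReg in
  have hker : RingHom.ker (MvPolynomial.map (σ := Fin n) (Ideal.Quotient.mk I)) = I.map (algebraMap A' (MvPolynomial (Fin n) A')) := by
    rw [MvPolynomial.ker_map, Ideal.mk_ker]; rfl
  open Groth.Agent.H15.ArtReg in
  have hw := (isWeaklyRegular_iff I hI (List.ofFn f') (MvPolynomial (Fin n) A')).trans
    (transfer I (MvPolynomial.map (Ideal.Quotient.mk I)) (MvPolynomial.map_surjective _ Ideal.Quotient.mk_surjective) hker (List.ofFn f'))
  rw [List.map_ofFn, show ((MvPolynomial.map (Ideal.Quotient.mk I)) ∘ f') = f from funext hf'] at hw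
  open Groth.Agent.H15.ArtReg in
  haveI := flat_quot_ofList (R := A') (List.ofFn f') (MvPolynomial (Fin n) A') (hw.2 hreg.toIsWeaklyRegular)
  refine Module.Flat.of_linearEquiv (R := A') ((Submodule.quotEquivOfEq _ _ ?_).restrictScalars A' :
    (MvPolynomial (Fin n) A' ⧸ Ideal.span (Set.range f')) ≃ₗ[A'] MvPolynomial (Fin n) A' ⧸ (Ideal.ofList (List.ofFn f') • ⊤ : Submodule (MvPolynomial (Fin n) A') (MvPolynomial (Fin n) A')))
  rw [smul_eq_mul, ← Ideal.one_eq_top, mul_one]
  unfold Ideal.ofList
  congr 1
  ext z
  simp [List.mem_ofFn]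

end Groth.Agent.S13135
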