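import Groth.Statements.S13137
import Groth.Agent.Lib.W2Lift.Basic
-- import your own Groth.Agent.* helpers here

set_option autoImplicit false
universe u v
open FrobAlg

namespace Groth.Agent.S13137

/-- For a perfect field k of characteristic p, a flat W₂(k)-algebra B and an ideal J of B, the quotient
B/J is flat over W₂(k) if and only if (p) ∩ J = pJ in B. (With B a flat lifting of A = B/pB this
says: B/J is a flat lifting of A modulo the image of J exactly when (p) ∩ J = pJ.) -/
theorem result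
    (p : ℕ) [Fact p.Prime] (k : Type u) [Field k] [CharP k p] [PerfectRing k p]
    (B : Type v) [CommRing B] [Algebra (FrobAlg.W2 p k) B] [Module.Flat (FrobAlg.W2 p k) B]
    (J : Ideal B) :
    Module.Flat (FrobAlg.W2 p k) (B ⧸ J) ↔
      Ideal.span {(p : B)} ⊓ J = Ideal.span {(p : B)} * J :=
  by
  classical
  rw [Groth.Agent.Lib.W2Lift.Basic.flat_iff]
  have hB := (Groth.Agent.Lib.W2Lift.Basic.flat_iff (p := p) (k := k) B).1 inferInstance
  simp only [Algebra.smul_def, map_natCast] at hB ⊢
  constructor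
  · intro h
    refine le_antisymm ?_ Ideal.mul_le_inf
    rintro x ⟨hx1, hx2⟩
    obtain ⟨b, rfl⟩ := Ideal.mem_span_singleton'.1 hx1
    obtain ⟨q, hq⟩ := h (Ideal.Quotient.mk J b) (by
      rw [← map_natCast (Ideal.Quotient.mk J), ← map_mul, Ideal.Quotient.eq_zero_iff_mem, mul_comm]
      exact hx2)
    obtain ⟨c, rfl⟩ := Ideal.Quotient.mk_surjective q
    rw [← map_natCast (Ideal.Quotient.mk J), ← map_mul, Ideal.Quotient.eq] at hq
    have hpp : (p : B) * p = 0 := by
      rw [← map_natCast (algebraMap (FrobAlg.W2 p k) B) p, ← map_mul,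
        Groth.Agent.Lib.W2Lift.Basic.p_mul_p (CharP.cast_eq_zero k p), map_zero]
    have : b * p = (p : B) * (b - p * c) := by
      rw [mul_sub, ← mul_assoc, hpp, zero_mul, sub_zero, mul_comm]
    rw [this]
    exact Ideal.mul_mem_mul (Ideal.mem_span_singleton_self _) hq
  · intro h q hq
    obtain ⟨b, rfl⟩ := Ideal.Quotient.mk_surjective q
    rw [← map_natCast (Ideal.Quotient.mk J), ← map_mul, Ideal.Quotient.eq_zero_iff_mem] at hq
    have hmem : (p : B) * b ∈ Ideal.span {(p : B)} * J := h ▸ ⟨Ideal.mem_span_singleton.2 ⟨b, rfl⟩, hq⟩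
    obtain ⟨j, hj, hjb⟩ := Ideal.mem_span_singleton_mul.1 hmem
    obtain ⟨c, hc⟩ := hB (b - j) (by rw [mul_sub, hjb, sub_self])
    refine ⟨Ideal.Quotient.mk J c, ?_⟩
    rw [← map_natCast (Ideal.Quotient.mk J), ← map_mul, Ideal.Quotient.eq, ← hc, sub_sub_cancel]
    exact hj

end Groth.Agent.S13137
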