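import Groth.Statements.S13138
import Groth.Agent.Lib.H58FrobResidue
-- import your own Groth.Agent.* helpers here

set_option autoImplicit false
universe u
open scoped BigOperators
open FrobAlg

namespace Groth.Agent.S13138

/-- Let k be a perfect field of characteristic p, R' = W₂(k)[x_1, …, x_n], f'_1, …, f'_m ∈ R' with
reductions f_1, …, f_m ∈ R = k[x_1, …, x_n], J' = (f'_1, …, f'_m), J = (f_1, …, f_m), and assume B'
= R'/J' is flat over W₂(k), so that it is a flat lifting of B = R/J. The Frobenius of B lifts to B'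
— there is a ring endomorphism of B' semilinear for the Witt-vector Frobenius σ₂ of W₂(k) and
reducing to the p-th power map of B — if and only if there are h_1, …, h_n ∈ R' with F'(f'_i) −
f'_i^p − p·Σ_j (∂f'_i/∂x_j)^p h_j ∈ pJ' for every i, where F' is the standard Frobenius lift of R'
(σ₂ on coefficients, x_j ↦ x_j^p). Since multiplication by p identifies R with pR', this is the
congruence P(f'_i) ≡ Σ_j (∂f_i/∂x_j)^p h_j modulo J for the Frobenius residues P(f'_i) = (F'(f'_i) −
f'_i^p)/p. -/
theorem result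
    (p : ℕ) [Fact p.Prime] (k : Type u) [Field k] [CharP k p] [PerfectRing k p]
    {n m : ℕ} (f' : Fin m → MvPolynomial (Fin n) (FrobAlg.W2 p k))
    (hflat : ((Ideal.Quotient.mk (Ideal.span (Set.range f'))).comp
      (MvPolynomial.C : FrobAlg.W2 p k →+* MvPolynomial (Fin n) (FrobAlg.W2 p k))).Flat) :
    (∃ Φ : (MvPolynomial (Fin n) (FrobAlg.W2 p k) ⧸ Ideal.span (Set.range f')) →+*
        (MvPolynomial (Fin n) (FrobAlg.W2 p k) ⧸ Ideal.span (Set.range f')),
      Φ.comp ((Ideal.Quotient.mk (Ideal.span (Set.range f'))).comp MvPolynomial.C) =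
        ((Ideal.Quotient.mk (Ideal.span (Set.range f'))).comp MvPolynomial.C).comp (FrobAlg.sigma p k) ∧
      ∀ b, Ideal.quotientMap ((Ideal.span (Set.range f')).map (MvPolynomial.map (FrobAlg.res p k)))
          (MvPolynomial.map (FrobAlg.res p k)) Ideal.le_comap_map (Φ b) =
        (Ideal.quotientMap ((Ideal.span (Set.range f')).map (MvPolynomial.map (FrobAlg.res p k)))
          (MvPolynomial.map (FrobAlg.res p k)) Ideal.le_comap_map b) ^ p) ↔
    ∃ h : Fin n → MvPolynomial (Fin n) (FrobAlg.W2 p k), ∀ i,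
      FrobAlg.polyFrob p k (Fin n) (f' i) - f' i ^ p
        - (p : MvPolynomial (Fin n) (FrobAlg.W2 p k)) * ∑ j, MvPolynomial.pderiv j (f' i) ^ p * h j
        ∈ Ideal.span {(p : MvPolynomial (Fin n) (FrobAlg.W2 p k))} * Ideal.span (Set.range f') := by
  classical
  set π : (MvPolynomial (Fin n) (FrobAlg.W2 p k) ⧸ Ideal.span (Set.range f')) →+* _ :=
    Ideal.quotientMap ((Ideal.span (Set.range f')).map (MvPolynomial.map (FrobAlg.res p k)))
      (MvPolynomial.map (FrobAlg.res p k)) Ideal.le_comap_map with hπ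
  have hsurjred : Function.Surjective (MvPolynomial.map (σ := Fin n) (FrobAlg.res p k)) :=
    MvPolynomial.map_surjective _ fun x => ⟨Lib.W2Lift.Basic.teich x, by simp⟩
  have hker : ∀ g, π (Ideal.Quotient.mk _ g) = 0 → g ∈ Ideal.span (Set.range f') ⊔
      Ideal.span {(p : MvPolynomial (Fin n) (FrobAlg.W2 p k))} := by
    intro g hg
    rw [hπ, Ideal.quotientMap_mk, Ideal.Quotient.eq_zero_iff_mem,
      Ideal.mem_map_iff_of_surjective _ hsurjred] at hg
    obtain ⟨j, hj, hjg⟩ := hg
    obtain ⟨c, hc⟩ := Lib.H58FrobResidue.exists_eq_p_mul (g := g - j) (by rw [map_sub, hjg, sub_self])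
    rw [← sub_add_cancel g j, hc, add_comm]
    exact Submodule.add_mem_sup hj (Ideal.mul_mem_right _ _ (Ideal.mem_span_singleton_self _))
  have hC : π.comp ((Ideal.Quotient.mk _).comp MvPolynomial.C) =
      (algebraMap k (MvPolynomial (Fin n) k ⧸
        (Ideal.span (Set.range f')).map (MvPolynomial.map (FrobAlg.res p k)))).comp (FrobAlg.res p k) := by
    ext x
    rw [RingHom.comp_apply, RingHom.comp_apply, hπ, Ideal.quotientMap_mk, MvPolynomial.map_C]
    rfl
  have hπp : π (p : MvPolynomial (Fin n) (FrobAlg.W2 p k) ⧸ Ideal.span (Set.range f')) = 0 := by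
    rw [← map_natCast (Ideal.Quotient.mk (Ideal.span (Set.range f'))) p, hπ, Ideal.quotientMap_mk,
      Lib.H58FrobResidue.redP_p, map_zero]
  have hlift : FrobAlg.IsLift p k _ _ ((Ideal.Quotient.mk (Ideal.span (Set.range f'))).comp MvPolynomial.C) π := by
    refine ⟨hflat, Ideal.quotientMap_surjective hsurjred, ?_, hC⟩
    rw [Lib.W2Lift.Basic.ker_res]
    conv_rhs => rw [Ideal.map_span, Set.image_singleton, map_natCast]
    apply le_antisymm
    · intro b hb
      obtain ⟨g, rfl⟩ := Ideal.Quotient.mk_surjective b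
      obtain ⟨j, hj, c, hc, rfl⟩ := Submodule.mem_sup.1 (hker g hb)
      rw [map_add, Ideal.Quotient.eq_zero_iff_mem.2 hj, zero_add]
      obtain ⟨d, rfl⟩ := Ideal.mem_span_singleton'.1 hc
      rw [map_mul, map_natCast]
      exact Ideal.mul_mem_left _ _ (Ideal.mem_span_singleton_self _)
    · rw [Ideal.span_singleton_le_iff_mem, RingHom.mem_ker, hπp]
  have hext := Lib.W2Lift.Basic.isExt_of_isLift k hlift
  constructor
  · rintro ⟨Φ, hΦι, hred⟩
    exact Lib.H58FrobResidue.residues_of_frobLift hext hΦι hred (Ideal.Quotient.mk _)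
      Ideal.Quotient.mk_surjective rfl f'
      (fun i => Ideal.Quotient.eq_zero_iff_mem.2 (Ideal.subset_span (Set.mem_range_self i))) hker
  · rintro ⟨h, hh⟩
    exact Lib.H58FrobResidue.frobLift_of_residues f' hext h hh hC

end Groth.Agent.S13138
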