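import Groth.Statements.S13139
import Groth.Agent.Lib.H58FrobResidue
-- import your own Groth.Agent.* helpers here

set_option autoImplicit false
universe u
open scoped BigOperators
open FrobAlg

namespace Groth.Agent.S13139

/-- Let k be a perfect field of characteristic p and f_1, …, f_m a regular sequence in R = k[x_1, …,
x_n]. The complete intersection A = R/(f_1, …, f_m) lifts to W₂(k) compatibly with Frobenius if and
only if for some lifts f'_1, …, f'_m ∈ R' = W₂(k)[x_1, …, x_n] of the f_i and some h_1, …, h_n ∈ R'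
one has F'(f'_i) − f'_i^p − p·Σ_j (∂f'_i/∂x_j)^p h_j ∈ p·(f'_1, …, f'_m) for every i, F' being the
standard Frobenius lift of R'. In terms of Frobenius residues P(f') = (F'(f') − f'^p)/p ∈ R, which
change by g^p when f' changes by pg, this is the congruence P_{f_i} + g_i^p ≡ Σ_j (∂f_i/∂x_j)^p h_j
modulo (f_1, …, f_m) for some g_i, h_j. -/
theorem result
    (p : ℕ) [Fact p.Prime] (k : Type u) [Field k] [CharP k p] [PerfectRing k p]
    {n m : ℕ} (f : Fin m → MvPolynomial (Fin n) k)
    (hreg : RingTheory.Sequence.IsRegular (MvPolynomial (Fin n) k) (List.ofFn f)) :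
    FrobAlg.IsFLiftable p k (MvPolynomial (Fin n) k ⧸ Ideal.span (Set.range f)) ↔
    ∃ (f' : Fin m → MvPolynomial (Fin n) (FrobAlg.W2 p k)) (h : Fin n → MvPolynomial (Fin n) (FrobAlg.W2 p k)),
      (∀ i, MvPolynomial.map (FrobAlg.res p k) (f' i) = f i) ∧
      ∀ i, FrobAlg.polyFrob p k (Fin n) (f' i) - f' i ^ p
        - (p : MvPolynomial (Fin n) (FrobAlg.W2 p k)) * ∑ j, MvPolynomial.pderiv j (f' i) ^ p * h j
        ∈ Ideal.span {(p : MvPolynomial (Fin n) (FrobAlg.W2 p k))} * Ideal.span (Set.range f') := by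
  classical
  have hsurjred : Function.Surjective (MvPolynomial.map (σ := Fin n) (FrobAlg.res p k)) :=
    MvPolynomial.map_surjective _ fun x => ⟨Lib.W2Lift.Basic.teich x, by simp⟩
  have hmap : ∀ f' : Fin m → MvPolynomial (Fin n) (FrobAlg.W2 p k),
      (∀ i, MvPolynomial.map (FrobAlg.res p k) (f' i) = f i) →
      (Ideal.span (Set.range f')).map (MvPolynomial.map (FrobAlg.res p k)) = Ideal.span (Set.range f) := by
    intro f' hf'
    rw [Ideal.map_span, ← Set.range_comp]
    congr 2
    exact funext hf'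
  have hker' : ∀ f' : Fin m → MvPolynomial (Fin n) (FrobAlg.W2 p k),
      (∀ i, MvPolynomial.map (FrobAlg.res p k) (f' i) = f i) → ∀ g,
      MvPolynomial.map (FrobAlg.res p k) g ∈ Ideal.span (Set.range f) →
      g ∈ Ideal.span (Set.range f') ⊔ Ideal.span {(p : MvPolynomial (Fin n) (FrobAlg.W2 p k))} := by
    intro f' hf' g hg
    rw [← hmap f' hf', Ideal.mem_map_iff_of_surjective _ hsurjred] at hg
    obtain ⟨j, hj, hjg⟩ := hg
    obtain ⟨c, hc⟩ := Lib.H58FrobResidue.exists_eq_p_mul (g := g - j) (by rw [map_sub, hjg, sub_self])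
    rw [← sub_add_cancel g j, hc, add_comm]
    exact Submodule.add_mem_sup hj (Ideal.mul_mem_right _ _ (Ideal.mem_span_singleton_self _))
  constructor
  · rintro ⟨B, _, ι, π, Φ, hΦ⟩
    have hext := Lib.W2Lift.Basic.isExt_of_isLift k hΦ.toIsLift
    choose T hT using fun j => hext.surj (Ideal.Quotient.mk (Ideal.span (Set.range f)) (MvPolynomial.X j))
    set φ := MvPolynomial.eval₂Hom ι T with hφdef
    have hπφ : π.comp φ =
        (Ideal.Quotient.mk (Ideal.span (Set.range f))).comp (MvPolynomial.map (FrobAlg.res p k)) := by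
      refine MvPolynomial.ringHom_ext (fun a => ?_) (fun j => ?_)
      · rw [RingHom.comp_apply, hφdef, MvPolynomial.eval₂Hom_C, ← RingHom.comp_apply, hΦ.comm,
          RingHom.comp_apply, RingHom.comp_apply, MvPolynomial.map_C]
        rfl
      · rw [RingHom.comp_apply, hφdef, MvPolynomial.eval₂Hom_X', hT, RingHom.comp_apply, MvPolynomial.map_X]
    have hπφ' : ∀ g, π (φ g) =
        Ideal.Quotient.mk (Ideal.span (Set.range f)) (MvPolynomial.map (FrobAlg.res p k) g) :=
      fun g => by rw [← RingHom.comp_apply, hπφ, RingHom.comp_apply]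
    have hlift : ∀ a, ∃ g, π (φ g) = a := by
      intro a
      obtain ⟨r, rfl⟩ := Ideal.Quotient.mk_surjective a
      obtain ⟨g, rfl⟩ := hsurjred r
      exact ⟨g, hπφ' g⟩
    have hφsurj : Function.Surjective φ := by
      intro b
      obtain ⟨g, hg⟩ := hlift (π b)
      obtain ⟨c, hc⟩ := hext.exists_eq_mul (b := b - φ g) (by rw [map_sub, hg, sub_self])
      obtain ⟨g', hg'⟩ := hlift (π c)
      exact ⟨g + (p : MvPolynomial (Fin n) (FrobAlg.W2 p k)) * g', by
        rw [map_add, map_mul, map_natCast, hext.p_mul_congr hg', ← hc, add_sub_cancel]⟩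
    choose f'' hf'' using fun i => hsurjred (f i)
    choose c hc using fun i => hext.exists_eq_mul (b := φ (f'' i))
      (by rw [hπφ', hf'', Ideal.Quotient.eq_zero_iff_mem]; exact Ideal.subset_span (Set.mem_range_self i))
    choose g hg using fun i => hφsurj (c i)
    let f' := fun i => f'' i - (p : MvPolynomial (Fin n) (FrobAlg.W2 p k)) * g i
    have hf' : ∀ i, MvPolynomial.map (FrobAlg.res p k) (f' i) = f i := fun i => by
      simp only [f', map_sub, map_mul, Lib.H58FrobResidue.redP_p, zero_mul, sub_zero, hf'']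
    obtain ⟨h, hh⟩ := Lib.H58FrobResidue.residues_of_frobLift hext hΦ.semi hΦ.red φ hφsurj
      (by ext a; simp [hφdef]) f' (fun i => by simp only [f', map_sub, map_mul, map_natCast, hg, hc, sub_self])
      (fun g hg => hker' f' hf' g (Ideal.Quotient.eq_zero_iff_mem.1 (by rw [← hπφ']; exact hg)))
    exact ⟨f', h, hf', hh⟩
  · rintro ⟨f', h, hf', hh⟩
    let π : (MvPolynomial (Fin n) (FrobAlg.W2 p k) ⧸ Ideal.span (Set.range f')) →+*
        MvPolynomial (Fin n) k ⧸ Ideal.span (Set.range f) :=
      Ideal.Quotient.lift _ ((Ideal.Quotient.mk _).comp (MvPolynomial.map (FrobAlg.res p k))) fun x hx => by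
        rw [RingHom.comp_apply, Ideal.Quotient.eq_zero_iff_mem, ← hmap f' hf']
        exact Ideal.mem_map_of_mem _ hx
    have hmk : ∀ g, π (Ideal.Quotient.mk _ g) =
        Ideal.Quotient.mk _ (MvPolynomial.map (FrobAlg.res p k) g) := fun g => rfl
    have hπp : π (p : MvPolynomial (Fin n) (FrobAlg.W2 p k) ⧸ Ideal.span (Set.range f')) = 0 := by
      rw [← map_natCast (Ideal.Quotient.mk (Ideal.span (Set.range f'))) p, hmk,
        Lib.H58FrobResidue.redP_p, map_zero]
    have hext : Lib.W2Lift.Basic.IsExt p π := by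
      refine ⟨fun a => ?_, le_antisymm (fun b hb => ?_) ?_, fun b => ?_⟩
      · obtain ⟨r, rfl⟩ := Ideal.Quotient.mk_surjective a
        obtain ⟨g, rfl⟩ := hsurjred r
        exact ⟨_, hmk g⟩
      · obtain ⟨g, rfl⟩ := Ideal.Quotient.mk_surjective b
        rw [RingHom.mem_ker, hmk, Ideal.Quotient.eq_zero_iff_mem] at hb
        obtain ⟨j, hj, c, hc, rfl⟩ := Submodule.mem_sup.1 (hker' f' hf' g hb)
        rw [map_add, Ideal.Quotient.eq_zero_iff_mem.2 hj, zero_add]
        obtain ⟨d, rfl⟩ := Ideal.mem_span_singleton'.1 hc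
        rw [map_mul, map_natCast]
        exact Ideal.mul_mem_left _ _ (Ideal.mem_span_singleton_self _)
      · rw [Ideal.span_singleton_le_iff_mem, RingHom.mem_ker, hπp]
      · obtain ⟨g, rfl⟩ := Ideal.Quotient.mk_surjective b
        rw [hmk, Ideal.Quotient.eq_zero_iff_mem, ← map_natCast (Ideal.Quotient.mk (Ideal.span (Set.range f'))) p,
          ← map_mul, Ideal.Quotient.eq_zero_iff_mem]
        constructor
        · intro hg
          obtain ⟨a, ha⟩ := Ideal.mem_span_range_iff_exists_fun.1 hg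
          have h2 := Lib.H58FrobResidue.sum_mem_of_redP_sum_eq_zero f' (fun i x hx => by
            simp only [hf'] at hx ⊢
            exact Lib.H58FrobResidue.isWeaklyRegular_ofFn_mem hreg.toIsWeaklyRegular i x hx) a (by
            rw [← Finset.sum_congr rfl fun i _ => map_mul _ (a i) (f' i), ← map_sum, ha, map_mul,
              Lib.H58FrobResidue.redP_p, zero_mul])
          rw [ha] at h2
          obtain ⟨j, hj, hjg⟩ := Ideal.mem_span_singleton_mul.1 h2
          have h3 := Lib.H58FrobResidue.mem_span_p_of_p_mul_eq_zero (g := g - j) (by rw [mul_sub, hjg, sub_self])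
          rw [map_sub, sub_eq_zero] at h3
          rw [h3, ← hmap f' hf']
          exact Ideal.mem_map_of_mem _ hj
        · intro hg
          obtain ⟨j, hj, c, hc, rfl⟩ := Submodule.mem_sup.1 (hker' f' hf' g hg)
          obtain ⟨d, rfl⟩ := Ideal.mem_span_singleton'.1 hc
          rw [mul_add, mul_comm d, ← mul_assoc _ _ d, Lib.H58FrobResidue.p_p, zero_mul, add_zero]
          exact Ideal.mul_mem_left _ _ hj
    have hC : π.comp ((Ideal.Quotient.mk _).comp MvPolynomial.C) =
        (algebraMap k (MvPolynomial (Fin n) k ⧸ Ideal.span (Set.range f))).comp (FrobAlg.res p k) := by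
      ext x
      rw [RingHom.comp_apply, RingHom.comp_apply, hmk, MvPolynomial.map_C]
      rfl
    obtain ⟨Φ, hsemi, hred⟩ := Lib.H58FrobResidue.frobLift_of_residues f' hext h hh hC
    exact ⟨_, inferInstance, _, π, Φ, ⟨(Lib.W2Lift.Basic.isLift_iff k _ π).2 ⟨hext, hC⟩, hsemi, hred⟩⟩

end Groth.Agent.S13139
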