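import Groth.Statements.S13140
import Mathlib.RepresentationTheory.Maschke
import Mathlib.Algebra.Module.Projective

set_option autoImplicit false
universe u v w
open GrpAlg

namespace Groth.Agent.S13140

/-- Let G be a finite group, R a commutative ring in which |G| is a unit, and M a module over the group
algebra R[G] whose underlying R-module is projective. Then M is a projective R[G]-module. -/
theorem result
    (R : Type u) [CommRing R] (G : Type v) [Group G] [Finite G] (hG : IsUnit ((Nat.card G : ℕ) : R))
    (M : Type w) [AddCommGroup M] [Module R M] [Module (MonoidAlgebra R G) M]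
    [IsScalarTower R (MonoidAlgebra R G) M] [Module.Projective R M] :
    Module.Projective (MonoidAlgebra R G) M := by
  classical
  cases nonempty_fintype G
  obtain ⟨u, hu⟩ := hG.exists_left_inv
  let q : (M →₀ MonoidAlgebra R G) →ₗ[MonoidAlgebra R G] M := Finsupp.linearCombination (MonoidAlgebra R G) id
  obtain ⟨s0, hs0⟩ := Module.projective_lifting_property (q.restrictScalars R) LinearMap.id
    fun m => ⟨Finsupp.single m 1, by simp [q]⟩
  refine Module.projective_def'.mpr ⟨u • LinearMap.sumOfConjugatesEquivariant G s0, LinearMap.ext fun m => ?_⟩
  show q ((u • LinearMap.sumOfConjugatesEquivariant G s0) m) = m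
  rw [LinearMap.smul_apply, LinearMap.map_smul_of_tower, LinearMap.sumOfConjugatesEquivariant_apply, map_sum]
  have h1 : ∀ g : G, q (s0.conjugate g m) = m := fun g => by
    rw [LinearMap.conjugate_apply, map_smul, show ∀ v, q (s0 v) = v from fun v => DFunLike.congr_fun hs0 v,
      smul_smul, MonoidAlgebra.single_mul_single, inv_mul_cancel, mul_one, ← MonoidAlgebra.one_def, one_smul]
  rw [Finset.sum_congr rfl fun g _ => h1 g, Finset.sum_const, Finset.card_univ, ← Nat.card_eq_fintype_card,
    ← Nat.cast_smul_eq_nsmul R, smul_smul, hu, one_smul]

end Groth.Agent.S13140
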