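import Groth.Statements.S13141
import Mathlib.RepresentationTheory.Invariants

set_option autoImplicit false
universe u v w w'
open scoped TensorProduct
open GrpAlg

namespace Groth.Agent.S13141

/-- Let G be a finite group, R a commutative ring with |G| invertible in R, M a projective R-module with
an R-linear G-action and S an R-algebra. The natural map M^G ⊗_R S → M ⊗_R S is injective and its
image is the submodule of G-invariants of M ⊗_R S (G acting on the first factor); that is, M^G ⊗_R S
→ (M ⊗_R S)^G is bijective. -/
theorem result
    (R : Type u) [CommRing R] (G : Type v) [Group G] [Finite G] (hG : IsUnit ((Nat.card G : ℕ) : R))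
    (M : Type w) [AddCommGroup M] [Module R M] [Module.Projective R M] (ρ : Representation R G M)
    (S : Type w') [CommRing S] [Algebra R S] :
    Function.Injective (TensorProduct.map ρ.invariants.subtype (LinearMap.id : S →ₗ[R] S)) ∧
    LinearMap.range (TensorProduct.map ρ.invariants.subtype (LinearMap.id : S →ₗ[R] S)) =
      ⨅ g : G, LinearMap.eqLocus (LinearMap.rTensor S (ρ g)) LinearMap.id := by
  classical
  cases nonempty_fintype G
  haveI : Invertible (Fintype.card G : R) := (Nat.card_eq_fintype_card (α := G) ▸ hG).invertible
  let π : M →ₗ[R] ρ.invariants := ρ.averageMap.codRestrict _ ρ.averageMap_invariant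
  have hπ : π ∘ₗ ρ.invariants.subtype = LinearMap.id :=
    LinearMap.ext fun v => Subtype.ext (ρ.averageMap_id v.1 v.2)
  have hl : ∀ x, LinearMap.rTensor S π (TensorProduct.map ρ.invariants.subtype LinearMap.id x) = x := fun x => by
    rw [← LinearMap.rTensor, ← LinearMap.comp_apply, ← LinearMap.rTensor_comp, hπ, LinearMap.rTensor_id]; rfl
  refine ⟨Function.LeftInverse.injective hl, le_antisymm ?_ ?_⟩
  · rintro _ ⟨x, rfl⟩
    simp only [Submodule.mem_iInf, LinearMap.mem_eqLocus, LinearMap.id_apply]
    intro g
    rw [← LinearMap.rTensor, ← LinearMap.comp_apply, ← LinearMap.rTensor_comp]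
    congr 2
    exact LinearMap.ext fun v => v.2 g
  · intro x hx
    simp only [Submodule.mem_iInf, LinearMap.mem_eqLocus, LinearMap.id_apply] at hx
    refine ⟨LinearMap.rTensor S π x, ?_⟩
    rw [← LinearMap.rTensor, ← LinearMap.comp_apply, ← LinearMap.rTensor_comp,
      show ρ.invariants.subtype ∘ₗ π = ρ.averageMap from rfl]
    have h1 : ρ.averageMap = ⅟(Fintype.card G : R) • ∑ g : G, ρ g := by
      ext v; simp [Representation.averageMap, GroupAlgebra.average, map_sum, Finset.smul_sum]
    rw [h1, LinearMap.rTensor_smul, ← LinearMap.coe_rTensorHom, map_sum, LinearMap.smul_apply, LinearMap.sum_apply,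
      Finset.sum_congr rfl fun g _ => show LinearMap.rTensorHom S (ρ g) x = x from hx g, Finset.sum_const,
      Finset.card_univ, ← Nat.cast_smul_eq_nsmul R, smul_smul, invOf_mul_self, one_smul]

end Groth.Agent.S13141
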