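import Groth.Statements.S13142
import Mathlib.RepresentationTheory.Invariants
import Mathlib.RingTheory.Flat.Basic

set_option autoImplicit false
universe u v
open GrpAlg

namespace Groth.Agent.S13142

/-- Let G be a finite group and R a commutative ring with |G| invertible in R, acting on R[x_1, …, x_n]
by R-algebra automorphisms. The invariant subring R[x_1, …, x_n]^G is a flat R-module (so the
quotient of affine n-space over R by G is flat over R). -/
theorem result
    (R : Type u) [CommRing R] (G : Type v) [Group G] [Finite G] (hG : IsUnit ((Nat.card G : ℕ) : R))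
    (n : ℕ) (ρ : G →* (MvPolynomial (Fin n) R ≃ₐ[R] MvPolynomial (Fin n) R)) :
    Module.Flat R ↥(⨅ g : G, LinearMap.eqLocus (ρ g).toLinearMap (LinearMap.id : MvPolynomial (Fin n) R →ₗ[R] MvPolynomial (Fin n) R)) := by
  classical
  cases nonempty_fintype G
  haveI : Invertible (Fintype.card G : R) := (Nat.card_eq_fintype_card (α := G) ▸ hG).invertible
  let φ : Representation R G (MvPolynomial (Fin n) R) :=
    { toFun := fun g => (ρ g).toLinearMap
      map_one' := by rw [map_one]; rfl
      map_mul' := fun a b => by rw [map_mul]; rfl }
  have h : (⨅ g : G, LinearMap.eqLocus (ρ g).toLinearMap (LinearMap.id : MvPolynomial (Fin n) R →ₗ[R] MvPolynomial (Fin n) R)) = φ.invariants := by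
    ext v
    simp [φ, Submodule.mem_iInf, Representation.mem_invariants]
  rw [h]
  haveI : Module.Projective R φ.invariants :=
    Module.Projective.of_split φ.invariants.subtype (φ.averageMap.codRestrict _ φ.averageMap_invariant)
      (LinearMap.ext fun v => Subtype.ext (φ.averageMap_id v.1 v.2))
  infer_instance

end Groth.Agent.S13142
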