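import Groth.Statements.S13147
import Groth.Agent.Lib.W2Lift.Basic
-- import your own Groth.Agent.* helpers here

set_option autoImplicit false
universe u
open FrobAlg

namespace Groth.Agent.S13147

/-- Let k be a perfect field of characteristic p and (A, φ) a k-algebra with a Frobenius splitting (φ
additive, φ(a^p b) = a φ(b), φ(1) = 1). The quotient of W₂(A) by the ideal generated by the Witt
vectors (0, a) with φ(a) = 0 — the ring of twisted Witt vectors of (A, φ) — is a flat lifting of A
over W₂(k): flat over W₂(k), with reduction map onto A induced by (a₀, a₁) ↦ a₀ whose kernel is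
generated by the maximal ideal of W₂(k). (The published statement also asserts that a morphism of
algebras with Frobenius splittings compatible with the splittings induces a ring map between these
quotients; that part is not stated here.) -/
theorem result
    (p : ℕ) [Fact p.Prime] (k : Type u) [Field k] [CharP k p] [PerfectRing k p]
    (A : Type u) [CommRing A] [Algebra k A] (φ : A →+ A)
    (hφ : ∀ a b : A, φ (a ^ p * b) = a * φ b) (hφ1 : φ 1 = 1) :
    FrobAlg.IsLift p k A (FrobAlg.W2 p A ⧸ FrobAlg.splitIdeal p A φ)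
      ((Ideal.Quotient.mk (FrobAlg.splitIdeal p A φ)).comp (WittGrp.truncMap p 2 (algebraMap k A)))
      (FrobAlg.splitRes p A φ) :=
  by
  classical
  have hA : (p : A) = 0 := by rw [← map_natCast (algebraMap k A), CharP.cast_eq_zero, map_zero]
  have hmem : ∀ x, x ∈ FrobAlg.splitIdeal p A φ ↔ x.coeff 0 = 0 ∧ φ (x.coeff 1) = 0 := by
    intro x
    constructor
    · intro hx
      induction hx using Submodule.span_induction with
      | mem y hy => exact ⟨by simpa using hy.1, hy.2⟩
      | zero => simp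
      | add y z _ _ hy hz =>
        rw [Groth.Agent.Lib.W2Lift.Basic.eq_vv hy.1, Groth.Agent.Lib.W2Lift.Basic.eq_vv hz.1,
          ← Groth.Agent.Lib.W2Lift.Basic.vv_add]
        simp [hy.2, hz.2]
      | smul a y _ hy =>
        rw [Groth.Agent.Lib.W2Lift.Basic.eq_vv hy.1, smul_eq_mul,
          Groth.Agent.Lib.W2Lift.Basic.mul_vv hA]
        simp [hφ, hy.2]
    · exact fun hx => Ideal.subset_span ⟨by simpa using hx.1, hx.2⟩
  have hsurj : Function.Surjective (FrobAlg.splitRes p A φ) := fun a =>
    ⟨Ideal.Quotient.mk _ (Groth.Agent.Lib.W2Lift.Basic.teich a), by simp [FrobAlg.splitRes]⟩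
  refine (Groth.Agent.Lib.W2Lift.Basic.isLift_iff k _ _).2 ⟨⟨hsurj, le_antisymm ?_ ?_, ?_⟩, ?_⟩
  · intro z hz
    obtain ⟨x, rfl⟩ := Ideal.Quotient.mk_surjective z
    have hx : x.coeff 0 = 0 := by simpa [FrobAlg.splitRes] using hz
    refine Ideal.mem_span_singleton'.2
      ⟨Ideal.Quotient.mk _ (Groth.Agent.Lib.W2Lift.Basic.teich (φ (x.coeff 1))), ?_⟩
    rw [← map_natCast (Ideal.Quotient.mk (FrobAlg.splitIdeal p A φ)) p, ← map_mul, eq_comm,
      Ideal.Quotient.eq, mul_comm, Groth.Agent.Lib.W2Lift.Basic.p_mul hA,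
      Groth.Agent.Lib.W2Lift.Basic.teich_coeff_zero, hmem]
    have : x - Groth.Agent.Lib.W2Lift.Basic.vv (φ (x.coeff 1) ^ p) =
        Groth.Agent.Lib.W2Lift.Basic.vv (x.coeff 1 - φ (x.coeff 1) ^ p) := by
      rw [sub_eq_iff_eq_add, ← Groth.Agent.Lib.W2Lift.Basic.vv_add, sub_add_cancel]
      exact Groth.Agent.Lib.W2Lift.Basic.eq_vv hx
    rw [this]
    have h1 := hφ (φ (x.coeff 1)) 1
    rw [mul_one, hφ1, mul_one] at h1
    simp [h1]
  · rw [Ideal.span_singleton_le_iff_mem, RingHom.mem_ker, map_natCast, hA]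
  · intro z
    obtain ⟨x, rfl⟩ := Ideal.Quotient.mk_surjective z
    rw [← map_natCast (Ideal.Quotient.mk (FrobAlg.splitIdeal p A φ)) p, ← map_mul,
      Ideal.Quotient.eq_zero_iff_mem, Groth.Agent.Lib.W2Lift.Basic.p_mul hA, hmem]
    have h1 := hφ (x.coeff 0) 1
    rw [mul_one, hφ1, mul_one] at h1
    simp [FrobAlg.splitRes, h1]
  · ext x; simp [FrobAlg.splitRes]

end Groth.Agent.S13147
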