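import Groth.Statements.S13149
import Mathlib.LinearAlgebra.Matrix.NonsingularInverse
import Mathlib.RingTheory.LocalRing.Basic
import Mathlib.LinearAlgebra.Matrix.Determinant.Basic
import Mathlib.Tactic.LinearCombination
import Mathlib.RingTheory.LocalRing.MaximalIdeal.Basic
import Mathlib.RingTheory.Ideal.Operations
import Mathlib.Data.ZMod.Basic
import Mathlib.RingTheory.Ideal.BigOperators

set_option autoImplicit false
universe u
open CAlg

namespace Groth.Agent.S13149

/-- Let A be a local ring and ρ a map from the points of the projective plane over F_p to the points of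
the projective plane over A (vectors with a unit coordinate, up to units) taking collinear triples
to collinear triples (three points are collinear when a vector with a unit coordinate is orthogonal
to all three). If ρ sends the standard frame (1:0:0), (0:1:0), (0:0:1), (1:1:1) to four points in
general position, then p = 0 in A. (The published statement asks only that ρ preserve collinearity;
a constant map does so over any ring, and the published argument begins by moving the images of the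
standard frame to the standard frame, which needs them in general position — that condition is made
a hypothesis here.) -/
theorem result
    (p : ℕ) [Fact p.Prime] (A : Type u) [CommRing A] [IsLocalRing A]
    (ρ : (Fin 3 → ZMod p) → (Fin 3 → A))
    (hpt : ∀ v : Fin 3 → ZMod p, v ≠ 0 → ∃ i, IsUnit (ρ v i))
    (hcol : ∀ u v w : Fin 3 → ZMod p, u ≠ 0 → v ≠ 0 → w ≠ 0 →
      Matrix.det (Matrix.of ![u, v, w]) = 0 →
      ∃ n : Fin 3 → A, (∃ i, IsUnit (n i)) ∧
        dotProduct (ρ u) n = 0 ∧ dotProduct (ρ v) n = 0 ∧ dotProduct (ρ w) n = 0)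
    (hgen : IsUnit (Matrix.det (Matrix.of ![ρ (Pi.single 0 1), ρ (Pi.single 1 1), ρ (Pi.single 2 1)])) ∧
      IsUnit (Matrix.det (Matrix.of ![ρ (Pi.single 0 1), ρ (Pi.single 1 1), ρ (fun _ => 1)])) ∧
      IsUnit (Matrix.det (Matrix.of ![ρ (Pi.single 0 1), ρ (Pi.single 2 1), ρ (fun _ => 1)])) ∧
      IsUnit (Matrix.det (Matrix.of ![ρ (Pi.single 1 1), ρ (Pi.single 2 1), ρ (fun _ => 1)]))) :
    (p : A) = 0 := by
  let M : Matrix (Fin 3) (Fin 3) A :=
    (Matrix.of ![ρ (Pi.single 0 1), ρ (Pi.single 1 1), ρ (Pi.single 2 1)]).transpose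
  have hM : IsUnit M.det := by rw [Matrix.det_transpose]; exact hgen.1
  let c : Fin 3 → A := M⁻¹.mulVec (ρ fun _ => 1)
  have hc : M.mulVec c = ρ fun _ => 1 := by
    rw [Matrix.mulVec_mulVec, Matrix.mul_nonsing_inv _ hM, Matrix.one_mulVec]
  have hcj : ∀ j, ρ (fun _ => 1) j =
      c 0 * ρ (Pi.single 0 1) j + c 1 * ρ (Pi.single 1 1) j + c 2 * ρ (Pi.single 2 1) j := by
    intro j
    rw [← hc]
    simp [M, Matrix.mulVec, dotProduct, Fin.sum_univ_three]
    ring
  have h2 : IsUnit (c 2) := by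
    have h := hgen.2.1
    rw [Matrix.det_fin_three] at h
    simp [hcj] at h
    refine isUnit_of_mul_isUnit_left (y := (Matrix.of ![ρ (Pi.single 0 1), ρ (Pi.single 1 1), ρ (Pi.single 2 1)]).det) ?_
    convert h using 1
    rw [Matrix.det_fin_three]
    simp
    ring
  have h1 : IsUnit (c 1) := by
    have h := hgen.2.2.1.neg
    rw [Matrix.det_fin_three] at h
    simp [hcj] at h
    refine isUnit_of_mul_isUnit_left (y := (Matrix.of ![ρ (Pi.single 0 1), ρ (Pi.single 1 1), ρ (Pi.single 2 1)]).det) ?_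
    convert h using 1
    rw [Matrix.det_fin_three]
    simp
    ring
  have h0 : IsUnit (c 0) := by
    have h := hgen.2.2.2
    rw [Matrix.det_fin_three] at h
    simp [hcj] at h
    refine isUnit_of_mul_isUnit_left (y := (Matrix.of ![ρ (Pi.single 0 1), ρ (Pi.single 1 1), ρ (Pi.single 2 1)]).det) ?_
    convert h using 1
    rw [Matrix.det_fin_three]
    simp
    ring
  let S : Matrix (Fin 3) (Fin 3) A := M * Matrix.diagonal c
  have hS : IsUnit S.det := by
    rw [Matrix.det_mul, Matrix.det_diagonal, Fin.prod_univ_three]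
    exact hM.mul ((h0.mul h1).mul h2)
  have uni : ∀ (T : Matrix (Fin 3) (Fin 3) A), IsUnit T.det → ∀ x : Fin 3 → A, (∃ i, IsUnit (x i)) →
      ∃ i, IsUnit (T.mulVec x i) := by
    intro T hT x ⟨i, hi⟩
    by_contra hno
    push Not at hno
    have : (T⁻¹.mulVec (T.mulVec x)) i ∈ IsLocalRing.maximalIdeal A := by
      rw [Matrix.mulVec, dotProduct]
      exact Ideal.sum_mem _ fun j _ => Ideal.mul_mem_left _ _ (hno j)
    rw [Matrix.mulVec_mulVec, Matrix.nonsing_inv_mul _ hT, Matrix.one_mulVec] at this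
    exact this hi
  let σ : (Fin 3 → ZMod p) → (Fin 3 → A) := fun v => S⁻¹.mulVec (ρ v)
  have hSi : IsUnit S⁻¹.det := by rw [Matrix.det_nonsing_inv]; exact hS.ringInverse
  have hp' : ∀ v, v ≠ 0 → ∃ i, IsUnit (σ v i) := fun v hv => uni _ hSi _ (hpt v hv)
  have hl : ∀ u v w : Fin 3 → ZMod p, u ≠ 0 → v ≠ 0 → w ≠ 0 → Matrix.det (Matrix.of ![u, v, w]) = 0 →
      ∃ n : Fin 3 → A, (∃ i, IsUnit (n i)) ∧
        σ u 0 * n 0 + σ u 1 * n 1 + σ u 2 * n 2 = 0 ∧ σ v 0 * n 0 + σ v 1 * n 1 + σ v 2 * n 2 = 0 ∧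
        σ w 0 * n 0 + σ w 1 * n 1 + σ w 2 * n 2 = 0 := by
    intro u v w hu hv hw hd
    obtain ⟨n, hn, e1, e2, e3⟩ := hcol u v w hu hv hw hd
    have e : ∀ x, ρ x ⬝ᵥ n = 0 → σ x 0 * S.transpose.mulVec n 0 + σ x 1 * S.transpose.mulVec n 1 +
        σ x 2 * S.transpose.mulVec n 2 = 0 := by
      intro x hx
      rw [← Fin.sum_univ_three (fun i => σ x i * S.transpose.mulVec n i)]
      show σ x ⬝ᵥ S.transpose.mulVec n = 0
      rw [dotProduct_comm, Matrix.mulVec_transpose, ← Matrix.dotProduct_mulVec, Matrix.mulVec_mulVec,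
        Matrix.mul_nonsing_inv _ hS, Matrix.one_mulVec, dotProduct_comm, hx]
    exact ⟨S.transpose.mulVec n, uni _ (by rw [Matrix.det_transpose]; exact hS) n hn, e u e1, e v e2, e w e3⟩
  have hE : σ (fun _ => 1) = fun _ => 1 := by
    show S⁻¹.mulVec _ = _
    have : S.mulVec (fun _ => 1) = ρ fun _ => 1 := by
      rw [← Matrix.mulVec_mulVec, ← hc]; congr 1; ext i; simp [Matrix.mulVec_diagonal]
    rw [← this, Matrix.mulVec_mulVec, Matrix.nonsing_inv_mul _ hS, Matrix.one_mulVec]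
  have he : ∀ i, ∃ u : A, IsUnit u ∧ σ (Pi.single i 1) = Pi.single i u := by
    intro i
    have hu : IsUnit (c i) := by fin_cases i <;> assumption
    refine ⟨hu.unit⁻¹.1, Units.isUnit _, ?_⟩
    show S⁻¹.mulVec _ = _
    have : S.mulVec (Pi.single i hu.unit⁻¹.1) = ρ (Pi.single i 1) := by
      rw [← Matrix.mulVec_mulVec]
      ext j
      fin_cases i <;> fin_cases j <;> simp [M, Matrix.mulVec, dotProduct, Fin.sum_univ_three, Matrix.diagonal]
    rw [← this, Matrix.mulVec_mulVec, Matrix.nonsing_inv_mul _ hS, Matrix.one_mulVec]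
  have nu : ∀ {x : A}, x = 0 → IsUnit x → False := fun h hx => not_isUnit_zero (h ▸ hx)
  have zer : ∀ {n u : A}, IsUnit u → u * n = 0 → n = 0 := fun hu h => (IsUnit.mul_right_eq_zero hu).1 h
  obtain ⟨uU, hU, eU⟩ := he 0
  obtain ⟨uV, hV, eV⟩ := he 1
  obtain ⟨uO, hO, eO⟩ := he 2
  have nz : ∀ a b : ZMod p, (![a, b, 1] : Fin 3 → ZMod p) ≠ 0 := fun a b h => one_ne_zero (congrFun h 2)
  have ne : ∀ i : Fin 3, (Pi.single i 1 : Fin 3 → ZMod p) ≠ 0 := fun i => by simp
  have nE : (fun _ => 1 : Fin 3 → ZMod p) ≠ 0 := fun h => one_ne_zero (congrFun h 0)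
  have nD : (![1, 1, 0] : Fin 3 → ZMod p) ≠ 0 := fun h => one_ne_zero (congrFun h 0)
  -- (0 : 1 : 1)
  have hP : ∃ z, IsUnit z ∧ σ ![0, 1, 1] 0 = 0 ∧ σ ![0, 1, 1] 1 = z ∧ σ ![0, 1, 1] 2 = z := by
    obtain ⟨n, ⟨i, hi⟩, a1, a2, a3⟩ := hl (Pi.single 2 1) (Pi.single 1 1) ![0, 1, 1] (ne _) (ne _) (nz _ _)
      (by simp [Matrix.det_fin_three])
    obtain ⟨m, ⟨j, hj⟩, b1, b2, b3⟩ := hl (Pi.single 0 1) (fun _ => 1) ![0, 1, 1] (ne _) nE (nz _ _)
      (by simp [Matrix.det_fin_three])
    simp [eO, eV, eU, hE] at a1 a2 b1 b2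
    have a1' := zer hO a1
    have a2' := zer hV a2
    have b1' := zer hU b1
    have hn0 : IsUnit (n 0) := by
      fin_cases i
      · exact hi
      · exact (nu a2' hi).elim
      · exact (nu a1' hi).elim
    have hx : σ ![0, 1, 1] 0 = 0 := (IsUnit.mul_left_eq_zero hn0).1 (by simpa [a1', a2'] using a3)
    have hm1 : IsUnit (m 1) := by
      rw [b1', zero_add] at b2
      fin_cases j
      · exact (nu b1' hj).elim
      · exact hj
      · rw [eq_neg_of_add_eq_zero_left b2]; exact hj.neg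
    have hm2 : m 2 = -m 1 := by linear_combination b2 - b1'
    have hyz : σ ![0, 1, 1] 1 = σ ![0, 1, 1] 2 := by
      refine sub_eq_zero.1 ((IsUnit.mul_left_eq_zero hm1).1 ?_)
      rw [b1', hm2] at b3
      linear_combination b3
    obtain ⟨k, hk⟩ := hp' _ (nz 0 1)
    refine ⟨_, ?_, hx, hyz, rfl⟩
    fin_cases k
    · exact (nu hx hk).elim
    · exact hyz ▸ hk
    · exact hk
  -- (1 : 1 : 0)
  have hD : ∃ z, IsUnit z ∧ σ ![1, 1, 0] 0 = z ∧ σ ![1, 1, 0] 1 = z ∧ σ ![1, 1, 0] 2 = 0 := by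
    obtain ⟨n, ⟨i, hi⟩, a1, a2, a3⟩ := hl (Pi.single 0 1) (Pi.single 1 1) ![1, 1, 0] (ne _) (ne _) nD
      (by simp [Matrix.det_fin_three])
    obtain ⟨m, ⟨j, hj⟩, b1, b2, b3⟩ := hl (Pi.single 2 1) (fun _ => 1) ![1, 1, 0] (ne _) nE nD
      (by simp [Matrix.det_fin_three])
    simp [eO, eV, eU, hE] at a1 a2 b1 b2
    have a1' := zer hU a1
    have a2' := zer hV a2
    have b1' := zer hO b1
    have hn2 : IsUnit (n 2) := by
      fin_cases i
      · exact (nu a1' hi).elim
      · exact (nu a2' hi).elim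
      · exact hi
    have hx : σ ![1, 1, 0] 2 = 0 := (IsUnit.mul_left_eq_zero hn2).1 (by simpa [a1', a2'] using a3)
    have hm1 : IsUnit (m 1) := by
      rw [b1', add_zero] at b2
      fin_cases j
      · rw [eq_neg_of_add_eq_zero_right b2]; exact hj.neg
      · exact hj
      · exact (nu b1' hj).elim
    have hm0 : m 0 = -m 1 := by linear_combination b2 - b1'
    have hxy : σ ![1, 1, 0] 1 = σ ![1, 1, 0] 0 := by
      refine sub_eq_zero.1 ((IsUnit.mul_left_eq_zero hm1).1 ?_)
      rw [b1', hm0] at b3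
      linear_combination b3
    obtain ⟨k, hk⟩ := hp' _ nD
    refine ⟨_, ?_, rfl, hxy, hx⟩
    fin_cases k
    · exact hk
    · exact hxy ▸ hk
    · exact (nu hx hk).elim
  obtain ⟨zP, uP, P0, P1, P2⟩ := hP
  obtain ⟨zD, uD, D0, D1, D2⟩ := hD
  have ind : ∀ k : ℕ, ∃ z, IsUnit z ∧ σ ![(k : ZMod p), 0, 1] 0 = k * z ∧ σ ![(k : ZMod p), 0, 1] 1 = 0 ∧
      σ ![(k : ZMod p), 0, 1] 2 = z := by
    intro k
    induction k with
    | zero =>
      have : (![((0 : ℕ) : ZMod p), 0, 1] : Fin 3 → ZMod p) = Pi.single 2 1 := by ext i; fin_cases i <;> simp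
      refine ⟨uO, hO, ?_⟩
      rw [this, eO]; simp
    | succ k ih =>
      obtain ⟨z, hz, Q0, Q1, Q2⟩ := ih
      obtain ⟨n, ⟨i, hi⟩, a1, a2, a3⟩ := hl ![(k : ZMod p), 0, 1] ![1, 1, 0] ![((k + 1 : ℕ) : ZMod p), 1, 1]
        (nz _ _) nD (nz _ _) (by simp [Matrix.det_fin_three])
      obtain ⟨m, ⟨j, hj⟩, b1, b2, b3⟩ := hl (Pi.single 0 1) ![0, 1, 1] ![((k + 1 : ℕ) : ZMod p), 1, 1]
        (ne _) (nz _ _) (nz _ _) (by simp [Matrix.det_fin_three])
      simp [eU] at b1
      have b1' := zer hU b1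
      have hm2 : m 2 = -m 1 := by
        rw [P0, P1, P2] at b2
        exact eq_neg_of_add_eq_zero_right (zer uP (by linear_combination b2))
      have hm1 : IsUnit (m 1) := by
        fin_cases j
        · exact (nu b1' hj).elim
        · exact hj
        · simpa [hm2] using hj
      have hn1 : n 1 = -n 0 := by
        rw [D0, D1, D2] at a2
        exact eq_neg_of_add_eq_zero_right (zer uD (by linear_combination a2))
      have hn2 : n 2 = -(k * n 0) := by
        rw [Q0, Q1, Q2] at a1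
        exact eq_neg_of_add_eq_zero_right (zer hz (by linear_combination a1))
      have hn0 : IsUnit (n 0) := by
        fin_cases i
        · exact hi
        · simpa [hn1] using hi
        · simp only [Fin.reduceFinMk, hn2, IsUnit.neg_iff] at hi
          exact isUnit_of_mul_isUnit_right hi
      have hy : σ ![((k + 1 : ℕ) : ZMod p), 1, 1] 1 = σ ![((k + 1 : ℕ) : ZMod p), 1, 1] 2 := by
        refine sub_eq_zero.1 ((IsUnit.mul_left_eq_zero hm1).1 ?_)
        rw [b1', hm2] at b3
        linear_combination b3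
      have hx : σ ![((k + 1 : ℕ) : ZMod p), 1, 1] 0 = ((k + 1 : ℕ) : A) * σ ![((k + 1 : ℕ) : ZMod p), 1, 1] 2 := by
        refine sub_eq_zero.1 ((IsUnit.mul_left_eq_zero hn0).1 ?_)
        rw [hn1, hn2, hy] at a3
        rw [Nat.cast_add (R := A), Nat.cast_one (R := A)]
        linear_combination a3
      obtain ⟨q, hq⟩ := hp' _ (nz ((k + 1 : ℕ) : ZMod p) 1)
      have hz' : IsUnit (σ ![((k + 1 : ℕ) : ZMod p), 1, 1] 2) := by
        fin_cases q
        · simp only [Fin.reduceFinMk, hx] at hq; exact isUnit_of_mul_isUnit_right hq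
        · simp only [Fin.reduceFinMk, hy] at hq; exact hq
        · exact hq
      obtain ⟨n', ⟨i', hi'⟩, c1, c2, c3⟩ := hl (Pi.single 0 1) (Pi.single 2 1) ![((k + 1 : ℕ) : ZMod p), 0, 1]
        (ne _) (ne _) (nz _ _) (by simp [Matrix.det_fin_three])
      obtain ⟨m', ⟨j', hj'⟩, d1, d2, d3⟩ := hl (Pi.single 1 1) ![((k + 1 : ℕ) : ZMod p), 1, 1]
        ![((k + 1 : ℕ) : ZMod p), 0, 1] (ne _) (nz _ _) (nz _ _) (by simp [Matrix.det_fin_three])
      simp [eU, eO] at c1 c2
      simp [eV] at d1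
      have c1' := zer hU c1
      have c2' := zer hO c2
      have hn1' : IsUnit (n' 1) := by
        fin_cases i'
        · exact (nu c1' hi').elim
        · exact hi'
        · exact (nu c2' hi').elim
      have R1 : σ ![((k + 1 : ℕ) : ZMod p), 0, 1] 1 = 0 :=
        (IsUnit.mul_left_eq_zero hn1').1 (by simpa [c1', c2'] using c3)
      have d1' := zer hV d1
      have hm2' : m' 2 = -(((k + 1 : ℕ) : A) * m' 0) := by
        rw [hx, hy, d1'] at d2
        exact eq_neg_of_add_eq_zero_right (zer hz' (by linear_combination d2))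
      have hm0' : IsUnit (m' 0) := by
        fin_cases j'
        · exact hj'
        · exact (nu d1' hj').elim
        · simp only [Fin.reduceFinMk, hm2', IsUnit.neg_iff] at hj'
          exact isUnit_of_mul_isUnit_right hj'
      have R0 : σ ![((k + 1 : ℕ) : ZMod p), 0, 1] 0 =
          ((k + 1 : ℕ) : A) * σ ![((k + 1 : ℕ) : ZMod p), 0, 1] 2 := by
        refine sub_eq_zero.1 ((IsUnit.mul_left_eq_zero hm0').1 ?_)
        rw [hm2', d1', R1] at d3
        linear_combination d3
      obtain ⟨r, hr⟩ := hp' _ (nz ((k + 1 : ℕ) : ZMod p) 0)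
      refine ⟨_, ?_, R0, R1, rfl⟩
      fin_cases r
      · simp only [Fin.reduceFinMk, R0] at hr; exact isUnit_of_mul_isUnit_right hr
      · simp only [Fin.reduceFinMk, R1] at hr; exact absurd hr not_isUnit_zero
      · exact hr
  obtain ⟨z, hz, e0, -, -⟩ := ind p
  have : (![((p : ℕ) : ZMod p), 0, 1] : Fin 3 → ZMod p) = Pi.single 2 1 := by ext i; fin_cases i <;> simp
  rw [this, eO] at e0
  simp at e0
  exact (IsUnit.mul_left_eq_zero hz).1 e0.symm

end Groth.Agent.S13149
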