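import Groth.Statements.S13151
import Mathlib.RingTheory.IntegralClosure.IntegrallyClosed
import Mathlib.RingTheory.Localization.FractionRing

set_option autoImplicit false
universe u
open CAlg

namespace Groth.Agent.S13151

/-- Let A → B be an injective ring homomorphism of integral domains which is integral, with A integrally
closed, and let π be an element of A. Then the contraction to A of the ideal πB is πA, i.e. an
element of A which is a multiple of π in B is already a multiple of π in A; in particular if B/πB is
an integral domain then A/πA is an integral domain. (The published statement is for an integral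
dominant morphism of integral schemes flat over a discrete valuation ring, with normal target and π
a uniformizer; flatness and the valuation ring play no role, so π is an arbitrary element here.) -/
theorem result {A B : Type u} [CommRing A] [CommRing B]
    [IsDomain A] [IsDomain B] [IsIntegrallyClosed A] [Algebra A B] [Algebra.IsIntegral A B]
    (hinj : Function.Injective (algebraMap A B)) (π : A) :
    (Ideal.span {algebraMap A B π}).comap (algebraMap A B) = Ideal.span {π} ∧
      (IsDomain (B ⧸ Ideal.span {algebraMap A B π}) → IsDomain (A ⧸ Ideal.span {π})) := by
  have h1 : (Ideal.span {algebraMap A B π}).comap (algebraMap A B) = Ideal.span {π} := by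
    refine le_antisymm (fun a ha => ?_) ?_
    · obtain ⟨b, hb⟩ := Ideal.mem_span_singleton'.mp ha
      rcases eq_or_ne π 0 with rfl | hπ
      · rw [map_zero, mul_zero] at hb
        rw [hinj (hb.symm.trans (map_zero _).symm)]
        exact Ideal.zero_mem _
      let K := FractionRing A
      let L := FractionRing B
      have hinjL : Function.Injective ((algebraMap B L).comp (algebraMap A B)) :=
        (IsFractionRing.injective B L).comp hinj
      let f : K →+* L := IsFractionRing.lift hinjL
      let _ : Algebra K L := f.toAlgebra
      have hf : ∀ x, f (algebraMap A K x) = algebraMap B L (algebraMap A B x) :=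
        fun x => IsFractionRing.lift_algebraMap hinjL x
      have : IsScalarTower A K L := IsScalarTower.of_algebraMap_eq fun x => by
        rw [IsScalarTower.algebraMap_apply A B L]; exact (hf x).symm
      have hπK : algebraMap A K π ≠ 0 := (map_ne_zero_iff _ (IsFractionRing.injective A K)).mpr hπ
      have hq : IsIntegral A (algebraMap A K a / algebraMap A K π) := by
        rw [← isIntegral_algHom_iff (IsScalarTower.toAlgHom A K L) f.injective]
        have : f (algebraMap A K a / algebraMap A K π) = algebraMap B L b := by
          have hπL : algebraMap B L (algebraMap A B π) ≠ 0 :=
            (map_ne_zero_iff _ (IsFractionRing.injective B L)).mpr ((map_ne_zero_iff _ hinj).mpr hπ)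
          rw [map_div₀, hf, hf, ← hb, map_mul, mul_div_assoc, div_self hπL, mul_one]
        show IsIntegral A (f _)
        rw [this]
        exact (Algebra.IsIntegral.isIntegral b).map (IsScalarTower.toAlgHom A B L)
      obtain ⟨c, hc⟩ := IsIntegrallyClosed.isIntegral_iff.mp hq
      rw [eq_div_iff hπK, ← map_mul] at hc
      exact Ideal.mem_span_singleton'.mpr ⟨c, IsFractionRing.injective A K hc⟩
    · rw [Ideal.span_singleton_le_iff_mem, Ideal.mem_comap]
      exact Ideal.mem_span_singleton_self _
  refine ⟨h1, fun h => ?_⟩
  have hp : (Ideal.span {algebraMap A B π}).IsPrime := (Ideal.Quotient.isDomain_iff_prime _).mp h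
  rw [Ideal.Quotient.isDomain_iff_prime, ← h1]
  exact hp.comap _

end Groth.Agent.S13151
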