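import Groth.Statements.S13153
import Groth.Agent.H21.DZero
import Mathlib.RingTheory.Flat.FaithfullyFlat.Algebra

set_option autoImplicit false
universe u
open CAlg

namespace Groth.Agent.S13153

/-- Let R be a discrete valuation ring whose fraction field K has characteristic zero, A an integral
domain which is a faithfully flat R-algebra, with fraction field L, such that K is algebraically
closed in L (every element of L algebraic over K is in the image of K). If f ∈ A has vanishing
differential, df = 0 in Ω_{A/R}, then f is the image of an element of R. (The published statement is
the sheaf form: for a faithfully flat morphism X → Spec R with geometrically integral generic fibre,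
the kernel of d : O_X → Ω¹_{X/R} is the inverse image of O_{Spec R}; for integral X, geometric
integrality of the generic fibre in characteristic zero amounts to K being algebraically closed in
the function field, which is the form used here, and this row is the case of global sections over an
affine X = Spec A.) -/
theorem result (R : Type u) [CommRing R] [IsDomain R]
    [IsDiscreteValuationRing R] [CharZero R] (K : Type u) [Field K] [Algebra R K] [IsFractionRing R K]
    (A : Type u) [CommRing A] [IsDomain A] [Algebra R A] [Module.FaithfullyFlat R A]
    (L : Type u) [Field L] [Algebra A L] [IsFractionRing A L] [Algebra R L] [Algebra K L]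
    [IsScalarTower R A L] [IsScalarTower R K L]
    (hac : ∀ x : L, IsAlgebraic K x → x ∈ (algebraMap K L).range)
    (f : A) (hf : KaehlerDifferential.D R A f = 0) : f ∈ (algebraMap R A).range := by
  haveI : CharZero K := charZero_of_injective_algebraMap (IsFractionRing.injective R K)
  have hL : KaehlerDifferential.D K L (algebraMap A L f) = 0 := by
    have h1 := KaehlerDifferential.map_D R K A L f
    rw [hf, map_zero] at h1
    exact h1.symm
  obtain ⟨c, hc⟩ := hac _ (Groth.Agent.H21.DZero.isAlgebraic_of_D_eq_zero hL)
  obtain ⟨⟨a, b⟩, hab⟩ := IsLocalization.surj (nonZeroDivisors R) c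
  have hinjA : Function.Injective (algebraMap A L) := IsFractionRing.injective A L
  have hkey : f * algebraMap R A b = algebraMap R A a := by
    apply hinjA
    rw [map_mul, ← hc, ← IsScalarTower.algebraMap_apply, ← IsScalarTower.algebraMap_apply,
      IsScalarTower.algebraMap_apply R K L, IsScalarTower.algebraMap_apply R K L, ← map_mul, hab]
  have hmem : a ∈ Ideal.span {(b : R)} := by
    rw [← Ideal.comap_map_eq_self_of_faithfullyFlat (B := A) (Ideal.span {(b : R)}),
      Ideal.mem_comap, Ideal.map_span, Set.image_singleton, Ideal.mem_span_singleton', ← hkey]
    exact ⟨f, rfl⟩
  obtain ⟨d, hd⟩ := Ideal.mem_span_singleton'.1 hmem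
  refine ⟨d, ?_⟩
  have hb : algebraMap R A b ≠ 0 := by
    rw [map_ne_zero_iff _ (FaithfulSMul.algebraMap_injective R A)]
    exact nonZeroDivisors.ne_zero b.2
  apply mul_right_cancel₀ hb
  rw [hkey, ← map_mul, hd]

end Groth.Agent.S13153
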