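import Groth.Statements.S13154
import Mathlib.RingTheory.Flat.FaithfullyFlat.Algebra
import Mathlib.LinearAlgebra.TensorProduct.Prod
import Mathlib.RingTheory.Flat.TorsionFree
import Mathlib.RingTheory.TensorProduct.Maps

set_option autoImplicit false
universe u
open scoped TensorProduct
open CAlg

namespace Groth.Agent.S13154

/-- Let R be a discrete valuation ring with fraction field K, A a faithfully flat R-algebra (an affine
faithfully flat base change S' → S = Spec R) and B₁, B₂ flat R-algebras (two affine S-schemes X₁ =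
Spec B₁, X₂ = Spec B₂, flat over S). Suppose given a K-algebra homomorphism φ_K : K ⊗ B₂ → K ⊗ B₁ (a
morphism of the generic fibres X₁,K → X₂,K) and an A-algebra homomorphism φ_A : A ⊗ B₂ → A ⊗ B₁ (a
morphism X₁ ×_S S' → X₂ ×_S S' over S') which coincide after base change to K ⊗ A, in the sense that
for every b ∈ B₂ the images of φ_K(1 ⊗ b) and φ_A(1 ⊗ b) in (K ⊗ A) ⊗ B₁ agree. Then there is
exactly one R-algebra homomorphism φ : B₂ → B₁ (a morphism X₁ → X₂) whose base changes to K and to A
are φ_K and φ_A. (The published statement assumes only X₂ flat over S; flatness of X₁ is also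
needed: with B₂ = R[t], B₁ = R[e]/(e², πe) for a uniformizer π and A = R[x], the maps t ↦ 0 over K
and t ↦ e x over A agree over K ⊗ A = K[x] but come from no map over R.) -/
theorem result (R : Type u) [CommRing R] [IsDomain R]
    [IsDiscreteValuationRing R] (K : Type u) [Field K] [Algebra R K] [IsFractionRing R K]
    (A : Type u) [CommRing A] [Algebra R A] [Module.FaithfullyFlat R A]
    (B₁ B₂ : Type u) [CommRing B₁] [CommRing B₂] [Algebra R B₁] [Algebra R B₂]
    [Module.Flat R B₁] [Module.Flat R B₂]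
    (φK : K ⊗[R] B₂ →ₐ[K] K ⊗[R] B₁) (φA : A ⊗[R] B₂ →ₐ[A] A ⊗[R] B₁)
    (hcomp : ∀ b : B₂,
      Algebra.TensorProduct.map (Algebra.TensorProduct.includeLeft : K →ₐ[R] K ⊗[R] A) (AlgHom.id R B₁)
          (φK (1 ⊗ₜ b)) =
        Algebra.TensorProduct.map (Algebra.TensorProduct.includeRight : A →ₐ[R] K ⊗[R] A) (AlgHom.id R B₁)
          (φA (1 ⊗ₜ b))) :
    ∃! φ : B₂ →ₐ[R] B₁, (∀ b : B₂, φK (1 ⊗ₜ b) = 1 ⊗ₜ φ b) ∧ (∀ b : B₂, φA (1 ⊗ₜ b) = 1 ⊗ₜ φ b) := by
  let f : R →ₗ[R] K × A := (Algebra.linearMap R K).prod (Algebra.linearMap R A)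
  let g : K × A →ₗ[R] K ⊗[R] A :=
    (Algebra.TensorProduct.includeLeft : K →ₐ[R] K ⊗[R] A).toLinearMap ∘ₗ LinearMap.fst R K A -
      (Algebra.TensorProduct.includeRight : A →ₐ[R] K ⊗[R] A).toLinearMap ∘ₗ LinearMap.snd R K A
  have hinjA : Function.Injective (fun a : A => (1 : K) ⊗ₜ[R] a) :=
    Algebra.TensorProduct.includeRight_injective (IsFractionRing.injective R K)
  have hex : Function.Exact f g := by
    rintro ⟨x, y⟩
    constructor
    · intro h0
      have h : x ⊗ₜ[R] (1 : A) = (1 : K) ⊗ₜ[R] y := by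
        simpa [g, sub_eq_zero] using h0
      obtain ⟨⟨r, s⟩, hrs⟩ := IsLocalization.surj (nonZeroDivisors R) x
      have hr : algebraMap R A r = algebraMap R A s * y := by
        apply hinjA
        show (1 : K) ⊗ₜ[R] algebraMap R A r = (1 : K) ⊗ₜ[R] (algebraMap R A s * y)
        rw [← Algebra.smul_def, TensorProduct.tmul_smul, ← h, TensorProduct.smul_tmul',
          Algebra.smul_def, mul_comm, hrs, Algebra.algebraMap_eq_smul_one,
          Algebra.algebraMap_eq_smul_one, TensorProduct.smul_tmul]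
      have hmem : r ∈ Ideal.span {(s : R)} := by
        rw [← Ideal.comap_map_eq_self_of_faithfullyFlat (B := A) (Ideal.span {(s : R)}),
          Ideal.mem_comap, Ideal.map_span, Set.image_singleton, Ideal.mem_span_singleton']
        exact ⟨y, (hr.trans (mul_comm _ _)).symm⟩
      obtain ⟨c, rfl⟩ := Ideal.mem_span_singleton'.1 hmem
      refine ⟨c, Prod.ext ?_ ?_⟩
      · have hs : algebraMap R K s ≠ 0 :=
          IsFractionRing.to_map_ne_zero_of_mem_nonZeroDivisors s.2
        show algebraMap R K c = x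
        exact (mul_right_cancel₀ hs (hrs.trans (map_mul _ _ _))).symm
      · have hs : IsSMulRegular A (s : R) :=
          Module.Flat.isSMulRegular_of_isRegular (isRegular_of_ne_zero (nonZeroDivisors.ne_zero s.2))
        show algebraMap R A c = y
        apply hs
        show (s : R) • algebraMap R A c = (s : R) • y
        rw [Algebra.smul_def, Algebra.smul_def, ← hr, map_mul, mul_comm]
    · rintro ⟨r, hr⟩
      rw [← hr]
      simp [f, g, Algebra.algebraMap_eq_smul_one, TensorProduct.smul_tmul]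
  have hexT : Function.Exact (f.rTensor B₁) (g.rTensor B₁) := Module.Flat.rTensor_exact B₁ hex
  let jA : B₁ →ₐ[R] A ⊗[R] B₁ := Algebra.TensorProduct.includeRight
  have hjA : Function.Injective jA :=
    Module.FaithfullyFlat.tensorProduct_mk_injective (A := R) (B := A) B₁
  have key : ∀ b : B₂, ∃ c : B₁, φK (1 ⊗ₜ b) = 1 ⊗ₜ c ∧ φA (1 ⊗ₜ b) = 1 ⊗ₜ c := by
    intro b
    let z := (TensorProduct.prodLeft R R K A B₁).symm (φK (1 ⊗ₜ b), φA (1 ⊗ₜ b))
    have hz : g.rTensor B₁ z = 0 := by
      have hg : ∀ z, g.rTensor B₁ z =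
          Algebra.TensorProduct.map (Algebra.TensorProduct.includeLeft : K →ₐ[R] K ⊗[R] A)
            (AlgHom.id R B₁) (TensorProduct.prodLeft R R K A B₁ z).1 -
          Algebra.TensorProduct.map (Algebra.TensorProduct.includeRight : A →ₐ[R] K ⊗[R] A)
            (AlgHom.id R B₁) (TensorProduct.prodLeft R R K A B₁ z).2 := by
        intro z
        induction z using TensorProduct.induction_on with
        | zero => simp
        | tmul p c =>
          obtain ⟨x, y⟩ := p
          simp [g, TensorProduct.sub_tmul, TensorProduct.prodLeft_tmul, Algebra.TensorProduct.map_tmul]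
        | add u v hu hv => simp only [map_add, Prod.fst_add, Prod.snd_add, hu, hv]; abel
      rw [hg]
      simp only [z, LinearEquiv.apply_symm_apply]
      rw [hcomp b, sub_self]
    obtain ⟨w, hw⟩ := (hexT z).1 hz
    obtain ⟨c, rfl⟩ := (TensorProduct.lid R B₁).symm.surjective w
    refine ⟨c, ?_, ?_⟩
    · have := congrArg (fun t => (TensorProduct.prodLeft R R K A B₁ t).1) hw
      simpa [z, f] using this.symm
    · have := congrArg (fun t => (TensorProduct.prodLeft R R K A B₁ t).2) hw
      simpa [z, f] using this.symm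
  let ψ : B₂ →ₐ[R] A ⊗[R] B₁ :=
    (φA.restrictScalars R).comp Algebra.TensorProduct.includeRight
  have hψ : ∀ b, ψ b ∈ jA.range := fun b => by
    obtain ⟨c, -, hc⟩ := key b
    exact ⟨c, hc.symm⟩
  let φ : B₂ →ₐ[R] B₁ :=
    (AlgEquiv.ofInjective jA hjA).symm.toAlgHom.comp (ψ.codRestrict jA.range hψ)
  have hφ : ∀ b, jA (φ b) = ψ b := fun b =>
    congrArg Subtype.val ((AlgEquiv.ofInjective jA hjA).apply_symm_apply (ψ.codRestrict _ hψ b))
  refine ⟨φ, ⟨fun b => ?_, fun b => (hφ b).symm⟩, fun χ hχ => AlgHom.ext fun b => hjA ?_⟩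
  · obtain ⟨c, hK, hA⟩ := key b
    rw [hK, show c = φ b from hjA (hA.symm.trans (hφ b).symm)]
  · exact (hχ.2 b).symm.trans (hφ b).symm

end Groth.Agent.S13154
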