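import Groth.Statements.S13155
import Mathlib

set_option autoImplicit false
set_option backward.isDefEq.respectTransparency false
universe u
open CAlg

namespace Groth.Agent.S13155

theorem dvd_exp {A B : Type*} [CommRing A] [CommRing B] [IsDomain B] (j : A →+* B) (π : A) (hπ : (Ideal.span {j π}).IsPrime)
    (hπ0 : j π ≠ 0) (m : ℕ) (hm : 0 < m) (u : Aˣ) :
    ∀ (e : ℕ) (z : B), z ^ m = j π ^ e * j u → m ∣ e := by
  intro e
  induction e using Nat.strong_induction_on with
  | _ e ih =>
  intro z hz
  rcases Nat.eq_zero_or_pos e with rfl | he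
  · exact dvd_zero m
  have hzmem : z ∈ Ideal.span {j π} := by
    refine hπ.mem_of_pow_mem m ?_
    rw [hz, Ideal.mem_span_singleton]
    exact dvd_mul_of_dvd_left (dvd_pow_self _ he.ne') _
  obtain ⟨z₁, rfl⟩ := Ideal.mem_span_singleton.mp hzmem
  rw [mul_pow] at hz
  rcases lt_or_ge e m with h | h
  · exfalso
    obtain ⟨c, rfl⟩ : ∃ c, m = e + (c + 1) := ⟨m - e - 1, by omega⟩
    rw [pow_add, mul_assoc] at hz
    have h1 := mul_left_cancel₀ (pow_ne_zero _ hπ0) hz
    have hunit : IsUnit (j π) := by
      refine isUnit_of_dvd_unit ?_ (u.isUnit.map j)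
      rw [← h1, pow_succ', mul_assoc]
      exact dvd_mul_right _ _
    exact hπ.ne_top (Ideal.span_singleton_eq_top.mpr hunit)
  · obtain ⟨c, rfl⟩ : ∃ c, e = m + c := ⟨e - m, by omega⟩
    rw [pow_add, mul_assoc] at hz
    exact (Nat.dvd_add_right dvd_rfl).mpr (ih c (by omega) z₁ (mul_left_cancel₀ (pow_ne_zero _ hπ0) hz))

/-- Let R be a discrete valuation ring of characteristic zero with uniformizer π, and A a Noetherian
integrally closed domain which is an R-algebra with injective structure map and in which πA is a
prime ideal (X = Spec A is normal, flat over R, with integral special fibre). Let m ≥ 1 and let f ∈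
A be invertible in A[1/π] (so Z^m = f defines a μ_m-torsor over the generic fibre), such that S =
A[1/π][Z]/(Z^m − f) is an integral domain and, writing B for the integral closure of A in S (the
normalization of X in that cover), πB is a prime ideal of B (the normalization has integral special
fibre). Then f is, up to a unit of A, an m-th power of a power of π: f = π^{mq}·u with q ≥ 0 and u ∈
A^×, so that the cover extends to the μ_m-torsor Z^m = u over all of X. (The published statement is
the existence and uniqueness of the extending μ_m-torsor over a normal faithfully flat R-scheme with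
integral fibres, R containing a primitive m-th root of unity; this row is the affine computation
that carries the proof.) -/
theorem result (R : Type u) [CommRing R]
    [IsDomain R] [IsDiscreteValuationRing R] [CharZero R] (ϖ : R) (hϖ : Irreducible ϖ)
    (A : Type u) [CommRing A] [IsDomain A] [IsNoetherianRing A] [IsIntegrallyClosed A] [Algebra R A]
    (hinj : Function.Injective (algebraMap R A)) (hprime : (Ideal.span {algebraMap R A ϖ}).IsPrime)
    (m : ℕ) (hm : 0 < m) (f : A) (hf : IsUnit (algebraMap A (Localization.Away (algebraMap R A ϖ)) f))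
    [IsDomain (AdjoinRoot (Polynomial.X ^ m - Polynomial.C (algebraMap A (Localization.Away (algebraMap R A ϖ)) f)))]
    (hsp : (Ideal.span {algebraMap A (integralClosure A
        (AdjoinRoot (Polynomial.X ^ m - Polynomial.C (algebraMap A (Localization.Away (algebraMap R A ϖ)) f))))
          (algebraMap R A ϖ)}).IsPrime) :
    ∃ (q : ℕ) (u : Aˣ), f = algebraMap R A ϖ ^ (m * q) * (u : A) := by
  classical
  set π := algebraMap R A ϖ with hπdef
  have hπ0 : π ≠ 0 := by rw [hπdef, map_ne_zero_iff _ hinj]; exact hϖ.ne_zero
  have hP : Prime π := (Ideal.span_singleton_prime hπ0).mp hprime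
  obtain ⟨N, g, hfg⟩ : ∃ (N : ℕ) (g : A), π ^ N = f * g := by
    obtain ⟨u, hu⟩ := hf
    obtain ⟨⟨a, ⟨_, n, rfl⟩⟩, ha⟩ := IsLocalization.surj (Submonoid.powers π)
      ((↑u⁻¹ : Localization.Away π))
    simp only at ha
    refine ⟨n, a, IsLocalization.injective (Localization.Away π)
      (powers_le_nonZeroDivisors_of_noZeroDivisors hπ0) ?_⟩
    rw [map_mul, ← ha, ← hu, ← mul_assoc, Units.mul_inv, one_mul]
  obtain ⟨e, -, u, hu⟩ := (dvd_prime_pow hP N).mp ⟨g, hfg⟩
  set S := AdjoinRoot (Polynomial.X ^ m - Polynomial.C (algebraMap A (Localization.Away π) f))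
  have hinjS : Function.Injective (algebraMap A S) := by
    rw [IsScalarTower.algebraMap_eq A (Localization.Away π) S]
    haveI : IsDomain (Localization.Away π) :=
      IsLocalization.isDomain_of_le_nonZeroDivisors (Localization.Away π) (powers_le_nonZeroDivisors_of_noZeroDivisors hπ0)
    refine (AdjoinRoot.of.injective_of_degree_ne_zero ?_).comp
      (IsLocalization.injective (Localization.Away π) (powers_le_nonZeroDivisors_of_noZeroDivisors hπ0))
    haveI : Nontrivial (Localization.Away π) :=
      (IsLocalization.injective (Localization.Away π) (powers_le_nonZeroDivisors_of_noZeroDivisors hπ0)).nontrivial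
    rw [Polynomial.degree_X_pow_sub_C hm]
    exact_mod_cast hm.ne'
  have hroot : (AdjoinRoot.root _ : S) ^ m = algebraMap A S f := by
    have := AdjoinRoot.eval₂_root (Polynomial.X ^ m - Polynomial.C (algebraMap A (Localization.Away π) f))
    rw [Polynomial.eval₂_sub, Polynomial.eval₂_pow, Polynomial.eval₂_X, Polynomial.eval₂_C, sub_eq_zero] at this
    rw [this, IsScalarTower.algebraMap_apply A (Localization.Away π) S]
    rfl
  let z : integralClosure A S := ⟨AdjoinRoot.root _, IsIntegral.of_pow hm (hroot ▸ isIntegral_algebraMap)⟩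
  have hinjB : Function.Injective (algebraMap A (integralClosure A S)) := fun a b h =>
    hinjS (congrArg Subtype.val h)
  obtain ⟨q, rfl⟩ := dvd_exp (algebraMap A (integralClosure A S)) π hsp
    (by rw [map_ne_zero_iff _ hinjB]; exact hπ0) m hm u⁻¹ e z (by
      apply Subtype.ext
      rw [← map_pow, ← map_mul]
      show (AdjoinRoot.root _ : S) ^ m = algebraMap A S (π ^ e * ↑u⁻¹)
      rw [hroot, ← hu, mul_assoc, Units.mul_inv, mul_one])
  exact ⟨q, u⁻¹, by rw [← hu, mul_assoc, Units.mul_inv, mul_one]⟩

end Groth.Agent.S13155
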