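import Groth.Statements.S13156
import Mathlib

set_option autoImplicit false
universe u
open scoped Polynomial
open CAlg

namespace Groth.Agent.S13156

/-- Let p be a prime number, A a commutative ring in which (p−1)! is invertible, μ an element of A, and
F ∈ A[X] a polynomial of degree at most p − 1 with coefficients a_0, a_1, …. Then the identity
F(S)·F(T) − a_0² = F(S + T + μST) − a_0 holds in the polynomial ring A[S, T] if and only if a_1·F(S)
= F′(S)·(1 + μS) holds in A[S], F′ the formal derivative. (The published statement is over the
quotient of a discrete valuation ring of residue characteristic p by a nonzero element of its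
maximal ideal; only the invertibility of 1, …, p − 1 is used, so an arbitrary such ring A is allowed
here.) -/
theorem result (A : Type u) [CommRing A] (p : ℕ) [Fact p.Prime]
    (hu : IsUnit ((Nat.factorial (p - 1) : ℕ) : A)) (μ : A) (F : A[X]) (hF : F.natDegree < p) :
    (Polynomial.aeval (MvPolynomial.X 0 : MvPolynomial (Fin 2) A) F *
          Polynomial.aeval (MvPolynomial.X 1 : MvPolynomial (Fin 2) A) F - MvPolynomial.C (F.coeff 0 ^ 2) =
        Polynomial.aeval (MvPolynomial.X 0 + MvPolynomial.X 1 +
            MvPolynomial.C μ * MvPolynomial.X 0 * MvPolynomial.X 1 : MvPolynomial (Fin 2) A) F -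
          MvPolynomial.C (F.coeff 0)) ↔
      F * Polynomial.C (F.coeff 1) = Polynomial.derivative F * (1 + Polynomial.C μ * Polynomial.X) := by
  let e : MvPolynomial (Fin 2) A →ₐ[A] A[X][X] := MvPolynomial.aeval ![Polynomial.C Polynomial.X, Polynomial.X]
  let g : A[X][X] →+* MvPolynomial (Fin 2) A :=
    Polynomial.eval₂RingHom (Polynomial.aeval (MvPolynomial.X 0 : MvPolynomial (Fin 2) A)).toRingHom (MvPolynomial.X 1)
  have hge : g.comp e.toRingHom = RingHom.id _ := by
    refine MvPolynomial.ringHom_ext (fun a => ?_) (fun i => ?_)
    · simp [g, e]
    · fin_cases i <;> simp [g, e, Polynomial.aeval_X]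
  have hinj : Function.Injective e := fun x y h => by
    have := congrArg g h
    calc x = g.comp e.toRingHom x := by rw [hge]; rfl
      _ = g.comp e.toRingHom y := this
      _ = y := by rw [hge]; rfl
  set a0 := F.coeff 0
  set a1 := F.coeff 1
  set L : A[X] := 1 + Polynomial.C μ * Polynomial.X
  set cμ : A[X][X] := Polynomial.C (Polynomial.C μ)
  set u : A[X][X] := Polynomial.C Polynomial.X + Polynomial.C L * Polynomial.X with hu'
  have e0 : e (Polynomial.aeval (MvPolynomial.X 0 : MvPolynomial (Fin 2) A) F) = Polynomial.C F := by
    rw [← Polynomial.aeval_algHom_apply]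
    simp only [e, MvPolynomial.aeval_X, Matrix.cons_val_zero]
    rw [show (Polynomial.C (Polynomial.X : A[X]) : A[X][X]) = Algebra.algHom A A[X] A[X][X] Polynomial.X from rfl,
      Polynomial.aeval_algHom_apply, Polynomial.aeval_X_left_apply]
    rfl
  have haev : ∀ v : A[X][X], Polynomial.aeval v F = (F.map Polynomial.C).comp v := fun v => by
    rw [Polynomial.comp, Polynomial.eval₂_map, Polynomial.aeval_def]
    rfl
  have e1 : e (Polynomial.aeval (MvPolynomial.X 1 : MvPolynomial (Fin 2) A) F) = F.map Polynomial.C := by
    rw [← Polynomial.aeval_algHom_apply, haev]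
    simp [e]
  have e2 : e (Polynomial.aeval (MvPolynomial.X 0 + MvPolynomial.X 1 +
      MvPolynomial.C μ * MvPolynomial.X 0 * MvPolynomial.X 1 : MvPolynomial (Fin 2) A) F) = (F.map Polynomial.C).comp u := by
    rw [← Polynomial.aeval_algHom_apply, haev]
    congr 1
    simp [e, u, L]
    ring
  rw [← hinj.eq_iff, map_sub, map_sub, map_mul, e0, e1, e2]
  simp only [e, MvPolynomial.aeval_C]
  rw [show ∀ c : A, algebraMap A A[X][X] c = Polynomial.C (Polynomial.C c) from fun c => rfl,
    show ∀ c : A, algebraMap A A[X][X] c = Polynomial.C (Polynomial.C c) from fun c => rfl]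
  constructor
  · intro h
    have := congrArg (fun P : A[X][X] => (Polynomial.derivative P).eval 0) h
    have hl : (Polynomial.derivative (Polynomial.C F * F.map Polynomial.C - Polynomial.C (Polynomial.C (a0 ^ 2)))).eval 0 =
        F * Polynomial.C a1 := by
      rw [Polynomial.derivative_sub, Polynomial.derivative_C, sub_zero, Polynomial.derivative_C_mul,
        Polynomial.derivative_map, Polynomial.eval_mul, Polynomial.eval_C, Polynomial.eval_map,
        Polynomial.eval₂_at_zero, Polynomial.coeff_derivative]
      simp [a1]
    have hr : (Polynomial.derivative ((F.map Polynomial.C).comp u - Polynomial.C (Polynomial.C a0))).eval 0 =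
        Polynomial.derivative F * L := by
      rw [Polynomial.derivative_sub, Polynomial.derivative_C, sub_zero, Polynomial.derivative_comp,
        Polynomial.derivative_map, Polynomial.eval_mul, Polynomial.eval_comp, Polynomial.eval_map]
      have hu0 : u.eval 0 = Polynomial.X := by simp only [u, Polynomial.eval_add, Polynomial.eval_mul, Polynomial.eval_C, Polynomial.eval_X, mul_zero, add_zero]
      have hu1 : (Polynomial.derivative u).eval 0 = L := by simp only [u, Polynomial.derivative_add, Polynomial.derivative_C, Polynomial.derivative_C_mul, Polynomial.derivative_X, mul_one, zero_add, Polynomial.eval_C]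
      rw [hu0, hu1, Polynomial.eval₂_C_X, mul_comm]
    exact hl.symm.trans (this.trans hr)
  · intro h
    have hc : ∀ r : ℕ, a1 * F.coeff r = ((r : A) + 1) * F.coeff (r + 1) + (r : A) * μ * F.coeff r := by
      intro r
      have := congrArg (fun P : A[X] => P.coeff r) h
      simp only [L, mul_add, mul_one, Polynomial.coeff_add, Polynomial.coeff_mul_C, ← mul_assoc] at this
      rw [mul_comm, this]
      cases r with
      | zero => simp [Polynomial.coeff_derivative, mul_comm]
      | succ r => rw [Polynomial.coeff_mul_X, Polynomial.coeff_mul_C, Polynomial.coeff_derivative, Polynomial.coeff_derivative]; push_cast; ring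
    have hunit : ∀ r : ℕ, r + 1 < p → IsUnit ((r : A) + 1) := fun r hr => by
      obtain ⟨c, hc⟩ := Nat.dvd_factorial r.succ_pos (show r + 1 ≤ p - 1 by omega)
      rw [hc, Nat.cast_mul] at hu
      simpa using isUnit_of_mul_isUnit_left hu
    have hz : ∀ r, (a0 - 1) * F.coeff (r + 1) = 0 := by
      intro r
      induction r with
      | zero =>
        have h00 := hc 0
        push_cast at h00
        linear_combination h00
      | succ r ih =>
        rcases lt_or_ge (r + 1 + 1) p with hr | hr
        · refine (hunit (r + 1) hr).mul_right_eq_zero.mp ?_
          have := hc (r + 1)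
          push_cast at this ⊢
          linear_combination -(a0 - 1) * this + (a1 - ((r : A) + 1) * μ) * ih
        · rw [Polynomial.coeff_eq_zero_of_natDegree_lt (by omega : F.natDegree < r + 1 + 1), mul_zero]
    set G := Polynomial.C F * F.map Polynomial.C - Polynomial.C (Polynomial.C (a0 ^ 2)) with hG
    set H := (F.map Polynomial.C).comp u - Polynomial.C (Polynomial.C a0) with hH
    set W := G - H with hW
    rw [← sub_eq_zero]
    have hW0 : W.coeff 0 = 0 := by
      rw [Polynomial.coeff_zero_eq_eval_zero]
      simp [W, G, H, u, Polynomial.eval_comp, Polynomial.eval_map, ← Polynomial.coeff_zero_eq_eval_zero,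
        Polynomial.eval₂_C_X, Polynomial.eval₂_at_zero]
      have : Polynomial.C (a0 - 1) * (F - Polynomial.C a0) = 0 := by
        ext r
        rw [Polynomial.coeff_C_mul, Polynomial.coeff_zero, Polynomial.coeff_sub]
        cases r with
        | zero => simp [a0]
        | succ r => simpa using hz r
      simp only [map_sub, map_one] at this
      linear_combination this
    have hmul : u * cμ + 1 = Polynomial.C L * (1 + cμ * Polynomial.X) := by
      simp [u, cμ, L]; ring
    have hLmap : L.map Polynomial.C = 1 + cμ * Polynomial.X := by simp [L, cμ]
    have hF' : (Polynomial.derivative (F.map Polynomial.C)) * (1 + cμ * Polynomial.X) =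
        Polynomial.C (Polynomial.C a1) * F.map Polynomial.C := by
      rw [← hLmap, Polynomial.derivative_map, ← Polynomial.map_mul, ← h, Polynomial.map_mul, Polynomial.map_C, mul_comm]
    have ha : Polynomial.C (Polynomial.C a1) * (Polynomial.C (Polynomial.C a0) - 1 : A[X][X]) = 0 := by
      have h1 := congrArg (fun c : A => (Polynomial.C (Polynomial.C c) : A[X][X])) (hz 0)
      simp only [map_mul, map_sub, map_one, map_zero] at h1
      rw [mul_comm]; exact h1
    have hode : Polynomial.derivative W * (1 + cμ * Polynomial.X) = Polynomial.C (Polynomial.C a1) * W := by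
      have h1 := congrArg (fun P : A[X][X] => P.comp u) hF'
      simp only [Polynomial.mul_comp, Polynomial.add_comp, Polynomial.one_comp, Polynomial.X_comp,
        Polynomial.C_comp, cμ] at h1
      have hd : Polynomial.derivative W = Polynomial.C F * Polynomial.derivative (F.map Polynomial.C) -
          Polynomial.C L * (Polynomial.derivative (F.map Polynomial.C)).comp u := by
        simp [W, G, H, u, Polynomial.derivative_comp, Polynomial.derivative_pow]
      rw [hd]
      simp only [W, G, H, map_pow]
      linear_combination (Polynomial.C F) * hF' - h1 +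
        (Polynomial.derivative (F.map Polynomial.C)).comp u * hmul +
        Polynomial.C (Polynomial.C a0) * ha
    have hWd : W.natDegree < p := by
      have hp1 : 0 < p := by omega
      have hu1 : u.natDegree ≤ 1 := by simp only [u]; compute_degree
      have h1 : (F.map Polynomial.C).natDegree ≤ F.natDegree := Polynomial.natDegree_map_le
      refine lt_of_le_of_lt (Polynomial.natDegree_sub_le _ _) (max_lt ?_ ?_) <;>
        refine lt_of_le_of_lt (Polynomial.natDegree_sub_le _ _) (max_lt ?_ ((Polynomial.natDegree_C _).trans_lt hp1))
      · exact lt_of_le_of_lt (Polynomial.natDegree_C_mul_le _ _) (lt_of_le_of_lt h1 hF)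
      · refine lt_of_le_of_lt (Polynomial.natDegree_comp_le.trans ?_) hF
        exact (Nat.mul_le_mul h1 hu1).trans (mul_one _).le
    show W = 0
    ext k : 1
    rw [Polynomial.coeff_zero]
    induction k with
    | zero => exact hW0
    | succ k ih =>
      rcases lt_or_ge (k + 1) p with hk | hk
      · have := congrArg (fun P : A[X][X] => P.coeff k) hode
        simp only [mul_add, mul_one, Polynomial.coeff_add, Polynomial.coeff_C_mul, ih, mul_zero] at this
        rw [← mul_assoc] at this
        cases k with
        | zero => simpa [Polynomial.coeff_derivative] using this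
        | succ m =>
          rw [Polynomial.coeff_mul_X, Polynomial.coeff_mul_C, Polynomial.coeff_derivative,
            Polynomial.coeff_derivative, ih, zero_mul, zero_mul, add_zero] at this
          refine ((hunit (m + 1) hk).map (Polynomial.C : A →+* A[X])).mul_left_eq_zero.mp ?_
          simpa using this
      · exact Polynomial.coeff_eq_zero_of_natDegree_lt (by omega)

end Groth.Agent.S13156
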