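import Groth.Statements.S13157
import Mathlib

set_option autoImplicit false
universe u
open scoped Polynomial
open CAlg

namespace Groth.Agent.S13157

/-- (i) ⇔ (ii): let p be a prime number, A a commutative ring in which (p−1)! is invertible, μ ∈ A, and
F ∈ A[X] a polynomial of degree at most p − 1 with constant term a_0 = 1 and coefficients a_1, a_2,
…. Then the relations a_{r−1}·a_1 = (r − 1)μ·a_{r−1} + r·a_r for 1 ≤ r ≤ p (with a_p = 0), written
here as the single identity a_1·F = F′·(1 + μX), hold if and only if r!·a_r = ∏_{k=0}^{r−1} (a_1 −
kμ) for every 1 ≤ r ≤ p − 1 and ∏_{k=0}^{p−1} (a_1 − kμ) = 0. (The published statement lists the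
relations only for 1 ≤ r ≤ p − 1, while its proof uses and derives the relation for r = p as well,
which is needed for the vanishing of the last product; it is included here. The published setting is
the quotient of a discrete valuation ring of residue characteristic p by a nonzero non-unit; only
the invertibility of 1, …, p − 1 is used.) -/
theorem result (A : Type u) [CommRing A] (p : ℕ) [Fact p.Prime]
    (hu : IsUnit ((Nat.factorial (p - 1) : ℕ) : A)) (μ : A) (F : A[X]) (hF : F.natDegree < p)
    (h0 : F.coeff 0 = 1) :
    F * Polynomial.C (F.coeff 1) = Polynomial.derivative F * (1 + Polynomial.C μ * Polynomial.X) ↔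
      ((∀ r : ℕ, 1 ≤ r → r < p →
          (r.factorial : A) * F.coeff r = ∏ k ∈ Finset.range r, (F.coeff 1 - (k : A) * μ)) ∧
        ∏ k ∈ Finset.range p, (F.coeff 1 - (k : A) * μ) = 0) := by
  set P : ℕ → A := fun r => ∏ k ∈ Finset.range r, (F.coeff 1 - (k : A) * μ) with hP
  have hrec : F * Polynomial.C (F.coeff 1) = Polynomial.derivative F * (1 + Polynomial.C μ * Polynomial.X) ↔
      ∀ r : ℕ, ((r : A) + 1) * F.coeff (r + 1) = (F.coeff 1 - (r : A) * μ) * F.coeff r := by
    have hc : ∀ r : ℕ, (Polynomial.derivative F * (1 + Polynomial.C μ * Polynomial.X)).coeff r =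
        ((r : A) + 1) * F.coeff (r + 1) + (r : A) * μ * F.coeff r := by
      intro r
      rw [mul_add, mul_one, Polynomial.coeff_add, Polynomial.coeff_derivative, ← mul_assoc]
      cases r with
      | zero => simp
      | succ r => rw [Polynomial.coeff_mul_X, Polynomial.coeff_mul_C, Polynomial.coeff_derivative]; push_cast; ring
    constructor
    · intro h r
      have := congrArg (fun G : A[X] => G.coeff r) h
      simp only [Polynomial.coeff_mul_C, hc] at this
      linear_combination -this
    · intro h
      ext r
      rw [Polynomial.coeff_mul_C, hc]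
      linear_combination -(h r)
  rw [hrec]
  have hunit : ∀ m, m < p → IsUnit ((m.factorial : ℕ) : A) := fun m hm => by
    obtain ⟨c, hc⟩ := Nat.factorial_dvd_factorial (show m ≤ p - 1 by omega)
    rw [hc, Nat.cast_mul] at hu
    exact isUnit_of_mul_isUnit_left hu
  have hPs : ∀ r, P (r + 1) = P r * (F.coeff 1 - (r : A) * μ) := fun r => Finset.prod_range_succ _ _
  have hp1 : 1 ≤ p := (Fact.out : p.Prime).pos
  constructor
  · intro h
    have key : ∀ r, (r.factorial : A) * F.coeff r = P r := by
      intro r
      induction r with
      | zero => simp [hP, h0]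
      | succ r ih =>
        rw [hPs, ← ih, Nat.factorial_succ]
        push_cast
        linear_combination (r.factorial : A) * h r
    refine ⟨fun r _ _ => key r, ?_⟩
    show P p = 0
    rw [← key p, Polynomial.coeff_eq_zero_of_natDegree_lt hF, mul_zero]
  · rintro ⟨h1, h2⟩ r
    have key : ∀ r < p, (r.factorial : A) * F.coeff r = P r := fun r hr => by
      rcases Nat.eq_zero_or_pos r with rfl | h
      · simp [hP, h0]
      · exact h1 r h hr
    rcases lt_trichotomy (r + 1) p with hr | hr | hr
    · refine (hunit r (by omega)).mul_left_cancel ?_
      have := key (r + 1) hr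
      rw [hPs, ← key r (by omega), Nat.factorial_succ] at this
      push_cast at this
      linear_combination this
    · refine (hunit r (by omega)).mul_left_cancel ?_
      have hz : F.coeff (r + 1) = 0 := Polynomial.coeff_eq_zero_of_natDegree_lt (by omega)
      have h2' : P p = 0 := h2
      rw [← hr, hPs, ← key r (by omega)] at h2'
      rw [hz]
      linear_combination -h2'
    · rw [Polynomial.coeff_eq_zero_of_natDegree_lt (by omega : F.natDegree < r),
        Polynomial.coeff_eq_zero_of_natDegree_lt (by omega : F.natDegree < r + 1), mul_zero, mul_zero]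

end Groth.Agent.S13157
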