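import Groth.Statements.S13158
import Mathlib

set_option autoImplicit false
universe u
open CAlg

namespace Groth.Agent.S13158

lemma one_plus_pow_coeff {A : Type*} [CommRing A] (l : A) (q : ℕ) :
    ((1 + Polynomial.C l * Polynomial.X : Polynomial A) ^ q).coeff q = l ^ q := by
  rw [add_pow, Polynomial.finsetSum_coeff, Finset.sum_eq_single 0]
  · rw [pow_zero, one_mul, Nat.sub_zero, Nat.choose_zero_right, Nat.cast_one, mul_one, mul_pow,
      ← Polynomial.C_pow, Polynomial.coeff_C_mul, Polynomial.coeff_X_pow, if_pos rfl, mul_one]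
  · intro k hk hk0
    rw [one_pow, one_mul, mul_pow, ← Polynomial.C_pow, ← Polynomial.C_eq_natCast, Polynomial.coeff_mul_C,
      Polynomial.coeff_C_mul, Polynomial.coeff_X_pow, if_neg, mul_zero, zero_mul]
    rw [Finset.mem_range] at hk
    omega
  · simp

lemma lift_pow {B : Type*} [CommRing B] (p n : ℕ) [Fact p.Prime] (hn : 1 ≤ n) (l : B)
    (hlp : l ^ (p ^ (n - 1) * (p - 1)) ∣ (p : B)) (a : B) (h : l ∣ a - 1) :
    l ^ p ^ n ∣ a ^ p ^ n - 1 := by
  have hp : p.Prime := Fact.out
  suffices ∀ j, j ≤ n → l ^ p ^ j ∣ a ^ p ^ j - 1 from this n le_rfl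
  intro j
  induction j with
  | zero => intro; simpa using h
  | succ j ih =>
    intro hj
    obtain ⟨y, hy⟩ := ih (by omega)
    have he : a ^ p ^ j = 1 + l ^ p ^ j * y := by linear_combination hy
    obtain ⟨k, hk⟩ := exists_add_pow_prime_eq hp (l ^ p ^ j * y) (1 : B)
    have hexp : (1 + l ^ p ^ j * y) ^ p - 1 = (l ^ p ^ j * y) ^ p + (p : B) * (l ^ p ^ j * y) * k := by
      rw [add_comm, hk, one_pow]; ring
    rw [pow_succ p j, pow_mul a, he, hexp]
    refine dvd_add ?_ (dvd_mul_of_dvd_left ?_ _)
    · rw [mul_pow, ← pow_mul]; exact dvd_mul_right _ _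
    · rw [← mul_assoc]
      refine dvd_mul_of_dvd_left ?_ _
      have hle : p ^ j ≤ p ^ (n - 1) := Nat.pow_le_pow_right hp.pos (by omega)
      calc l ^ (p ^ j * p) = l ^ (p ^ j * (p - 1)) * l ^ p ^ j := by
            rw [← pow_add, ← Nat.mul_succ, Nat.succ_eq_add_one, Nat.sub_add_cancel hp.pos]
        _ ∣ (p : B) * l ^ p ^ j := mul_dvd_mul_right
            ((pow_dvd_pow _ (Nat.mul_le_mul_right _ hle)).trans hlp) _


/-- Let R be a discrete valuation ring of characteristic zero whose maximal ideal contains the prime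
number p, let n ≥ 1, and let λ be a nonzero element of R such that λ^(p^(n−1)(p−1)) divides p (the
condition v(p) ≥ p^(n−1)(p−1)·v(λ) under which the polynomial ((1 + λT)^(p^n) − 1)/λ^(p^n) has
coefficients in R). Let A be an integrally closed integral domain which is a faithfully flat
R-algebra. Then for every unit x of A, λ^(p^n) divides x^(p^n) − 1 in A if and only if λ divides x −
1 in A. -/
theorem result (R : Type u) [CommRing R]
    [IsDomain R] [IsDiscreteValuationRing R] [CharZero R] (p n : ℕ) [Fact p.Prime] (hn : 1 ≤ n)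
    (hp : (p : R) ∈ IsLocalRing.maximalIdeal R) (lam : R) (hlam : lam ≠ 0)
    (hstar : lam ^ (p ^ (n - 1) * (p - 1)) ∣ (p : R))
    (A : Type u) [CommRing A] [IsDomain A] [IsIntegrallyClosed A] [Algebra R A] [Module.FaithfullyFlat R A]
    (x : Aˣ) :
    (algebraMap R A lam ^ p ^ n ∣ (x : A) ^ p ^ n - 1) ↔ (algebraMap R A lam ∣ (x : A) - 1) := by
  set l := algebraMap R A lam with hl
  have hl0 : l ≠ 0 := by
    haveI : FaithfulSMul R A := inferInstance
    exact fun h => hlam (FaithfulSMul.algebraMap_injective R A (h.trans (map_zero _).symm))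
  have hlp : l ^ (p ^ (n - 1) * (p - 1)) ∣ (p : A) := by
    simpa [hl] using map_dvd (algebraMap R A) hstar
  constructor
  · rintro ⟨c, hc⟩
    obtain ⟨Q, hQ⟩ : (Polynomial.C l) ^ p ^ n ∣ (1 + Polynomial.C l * Polynomial.X : Polynomial A) ^ p ^ n - 1 :=
      lift_pow p n hn _ (by simpa using map_dvd (Polynomial.C : A →+* Polynomial A) hlp) _
        ⟨Polynomial.X, by ring⟩
    have hq : 1 ≤ p ^ n := Nat.one_le_pow _ _ (Fact.out : p.Prime).pos
    have hlead : Q.coeff (p ^ n) = 1 := by
      have h := congrArg (fun P : Polynomial A => P.coeff (p ^ n)) hQ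
      simp only [← Polynomial.C_pow, Polynomial.coeff_C_mul, Polynomial.coeff_sub, Polynomial.coeff_one] at h
      rw [if_neg (by omega), sub_zero, one_plus_pow_coeff] at h
      exact (mul_left_cancel₀ (pow_ne_zero _ hl0) (by rw [mul_one]; exact h.symm))
    have hdeg : Q.natDegree ≤ p ^ n := by
      rw [Polynomial.natDegree_le_iff_coeff_eq_zero]
      intro m hm
      have h := congrArg (fun P : Polynomial A => P.coeff m) hQ
      simp only [← Polynomial.C_pow, Polynomial.coeff_C_mul, Polynomial.coeff_sub, Polynomial.coeff_one] at h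
      rw [if_neg (by omega), sub_zero, Polynomial.coeff_eq_zero_of_natDegree_lt
        (lt_of_le_of_lt ?_ hm), eq_comm, mul_eq_zero] at h
      · exact h.resolve_left (pow_ne_zero _ hl0)
      · refine Polynomial.natDegree_pow_le.trans (le_of_le_of_eq (Nat.mul_le_mul_left _ ?_) (mul_one _))
        compute_degree
    have hQmonic : Q.Monic := Polynomial.monic_of_natDegree_le_of_coeff_eq_one _ hdeg hlead
    let K := FractionRing A
    have hlK : algebraMap A K l ≠ 0 := fun h => hl0 (IsFractionRing.injective A K (h.trans (map_zero _).symm))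
    let y : K := (algebraMap A K ((x : A) - 1)) / algebraMap A K l
    have hy : algebraMap A K l * y = algebraMap A K ((x : A) - 1) := mul_div_cancel₀ _ hlK
    have hQ1 : (Q - Polynomial.C c).Monic := by
      refine hQmonic.sub_of_left (lt_of_le_of_lt Polynomial.degree_C_le ?_)
      rw [Polynomial.degree_eq_natDegree hQmonic.ne_zero]
      exact_mod_cast lt_of_lt_of_le (show 0 < p ^ n by omega)
        (Polynomial.le_natDegree_of_ne_zero (by rw [hlead]; exact one_ne_zero))
    have hint : IsIntegral A y := by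
      refine ⟨Q - Polynomial.C c, hQ1, ?_⟩
      have h := congrArg (Polynomial.aeval y) hQ
      simp only [map_sub, map_pow, map_add, map_one, map_mul, Polynomial.aeval_C, Polynomial.aeval_X, hy] at h
      rw [add_sub_cancel, ← map_pow, ← map_one (algebraMap A K), ← map_sub, hc, map_mul, map_pow] at h
      rw [Polynomial.eval₂_sub, Polynomial.eval₂_C, sub_eq_zero, ← Polynomial.aeval_def]
      exact (mul_left_cancel₀ (pow_ne_zero _ hlK) h).symm
    obtain ⟨z, hz⟩ := IsIntegrallyClosed.isIntegral_iff.mp hint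
    exact ⟨z, IsFractionRing.injective A K (by rw [map_mul, hz, hy])⟩
  · exact fun h => lift_pow p n hn l hlp _ h

end Groth.Agent.S13158
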