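import Groth.Statements.S13160
import Mathlib

set_option autoImplicit false
universe u
open CAlg

namespace Groth.Agent.S13160

open MvPolynomial in
lemma generic (p : ℕ) [hp : Fact p.Prime] (n : ℕ) :
    (WittVector.mk p (fun i => MvPolynomial.X (true, i)) + WittVector.mk p (fun i => MvPolynomial.X (false, i)) :
        WittVector p (MvPolynomial (Bool × ℕ) ℤ)).coeff n -
      (MvPolynomial.X (true, n) + MvPolynomial.X (false, n)) ∈ idealOfVars (Bool × ℕ) ℤ ^ p := by
  set I := idealOfVars (Bool × ℕ) ℤ
  set x : WittVector p (MvPolynomial (Bool × ℕ) ℤ) := WittVector.mk p (fun i => MvPolynomial.X (true, i)) with hx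
  set y : WittVector p (MvPolynomial (Bool × ℕ) ℤ) := WittVector.mk p (fun i => MvPolynomial.X (false, i)) with hy
  have hX : ∀ z : Bool × ℕ, (MvPolynomial.X z : MvPolynomial (Bool × ℕ) ℤ) ∈ I := fun z => Ideal.subset_span ⟨z, rfl⟩
  induction n using Nat.strong_induction_on with
  | _ n ih =>
    have hmem : ∀ i < n, (x + y).coeff i ∈ I := fun i hi => by
      have := I.add_mem (Ideal.pow_le_self hp.out.ne_zero (ih i hi)) (I.add_mem (hX (true, i)) (hX (false, i)))
      rwa [sub_add_cancel] at this
    have hg := (WittVector.ghostComponent n).map_add x y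
    have hghost : ∀ z : WittVector p (MvPolynomial (Bool × ℕ) ℤ), WittVector.ghostComponent n z =
        ∑ i ∈ Finset.range (n + 1), (p : MvPolynomial (Bool × ℕ) ℤ) ^ i * z.coeff i ^ p ^ (n - i) := fun z => by
      simp [WittVector.ghostComponent_apply, wittPolynomial, map_sum, MvPolynomial.aeval_monomial]
    simp only [hghost, Finset.sum_range_succ, Nat.sub_self, pow_zero, pow_one] at hg
    have hpowmem : ∀ (w : MvPolynomial (Bool × ℕ) ℤ) (i : ℕ), i < n → w ∈ I →
        (p : MvPolynomial (Bool × ℕ) ℤ) ^ i * w ^ p ^ (n - i) ∈ I ^ p := fun w i hi hw =>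
      Ideal.mul_mem_left _ _ (Ideal.pow_le_pow_right (Nat.le_self_pow (by omega) p) (Ideal.pow_mem_pow hw _))
    have key : (p : MvPolynomial (Bool × ℕ) ℤ) ^ n * ((x + y).coeff n - (x.coeff n + y.coeff n)) ∈ I ^ p := by
      have : (p : MvPolynomial (Bool × ℕ) ℤ) ^ n * ((x + y).coeff n - (x.coeff n + y.coeff n)) =
        (∑ i ∈ Finset.range n, (p : MvPolynomial (Bool × ℕ) ℤ) ^ i * x.coeff i ^ p ^ (n - i)) +
        (∑ i ∈ Finset.range n, (p : MvPolynomial (Bool × ℕ) ℤ) ^ i * y.coeff i ^ p ^ (n - i)) -
        (∑ i ∈ Finset.range n, (p : MvPolynomial (Bool × ℕ) ℤ) ^ i * (x + y).coeff i ^ p ^ (n - i)) := by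
        linear_combination hg
      rw [this]
      refine sub_mem (add_mem (sum_mem fun i hi => ?_) (sum_mem fun i hi => ?_)) (sum_mem fun i hi => ?_) <;>
        refine hpowmem _ i (Finset.mem_range.mp hi) ?_
      · exact hX (true, i)
      · exact hX (false, i)
      · exact hmem i (Finset.mem_range.mp hi)
    rw [mem_pow_idealOfVars_iff'] at key ⊢
    intro m hm
    have := key m hm
    rw [← map_natCast (C : ℤ →+* MvPolynomial (Bool × ℕ) ℤ), ← map_pow, coeff_C_mul, mul_eq_zero] at this
    exact this.resolve_left (pow_ne_zero _ (Int.natCast_ne_zero.mpr hp.out.ne_zero))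


/-- Let R be a discrete valuation ring, p a prime number and λ an element of R dividing p (so that R/λR
is an 𝔽_p-algebra), and let a and b be p-typical Witt vectors with coefficients in R/λR which are
killed by the Frobenius endomorphism. Then the Witt sum a + b has components a_n + b_n for every n.
(The published statement allows an arbitrary λ ∈ R and is stated for Witt vectors with finitely many
nonzero components; this row assumes that λ divides p, so that p = 0 in R/λR, and allows all Witt
vectors.) -/
theorem result (R : Type u) [CommRing R] [IsDomain R]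
    [IsDiscreteValuationRing R] (p : ℕ) [Fact p.Prime] (lam : R) (hlam : lam ∣ (p : R))
    (a b : WittVector p (R ⧸ Ideal.span {lam})) (ha : WittVector.frobenius a = 0)
    (hb : WittVector.frobenius b = 0) (n : ℕ) : (a + b).coeff n = a.coeff n + b.coeff n := by
  have hp : p.Prime := Fact.out
  haveI : CharP (R ⧸ Ideal.span {lam}) p ∨ Subsingleton (R ⧸ Ideal.span {lam}) := by
    rcases subsingleton_or_nontrivial (R ⧸ Ideal.span {lam}) with h | h
    · exact Or.inr h
    · left
      have hp0 : (p : R ⧸ Ideal.span {lam}) = 0 := by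
        rw [← map_natCast (Ideal.Quotient.mk (Ideal.span {lam})), Ideal.Quotient.eq_zero_iff_mem]
        exact Ideal.mem_span_singleton.mpr hlam
      exact (CharP.charP_iff_prime_eq_zero hp).mpr hp0
  rcases this with hchar | hsub
  swap; · exact Subsingleton.elim _ _
  have hpow : ∀ (c : WittVector p (R ⧸ Ideal.span {lam})), WittVector.frobenius c = 0 → ∀ i, c.coeff i ^ p = 0 := by
    intro c hc i
    rw [← WittVector.coeff_frobenius_charP, hc, WittVector.zero_coeff]
  let S : Ideal R :=
    { carrier := {x | lam ∣ x ^ p}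
      zero_mem' := by simp [zero_pow hp.ne_zero]
      add_mem' := fun {x y} hx hy => by
        simp only [Set.mem_setOf_eq] at hx hy ⊢
        rcases ValuationRing.dvd_total x y with ⟨c, rfl⟩ | ⟨c, rfl⟩
        · rw [show x + x * c = x * (1 + c) by ring, mul_pow]; exact hx.mul_right _
        · rw [show y * c + y = y * (c + 1) by ring, mul_pow]; exact hy.mul_right _
      smul_mem' := fun c x hx => by
        simp only [Set.mem_setOf_eq, smul_eq_mul, mul_pow] at hx ⊢
        exact hx.mul_left _ }
  obtain ⟨c, hc⟩ := (IsPrincipalIdealRing.principal S).principal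
  have hcS : lam ∣ c ^ p := (hc ▸ Submodule.mem_span_singleton_self c : c ∈ S)
  let π := Ideal.Quotient.mk (Ideal.span {lam})
  have hN : ∀ x : R ⧸ Ideal.span {lam}, x ^ p = 0 → x ∈ Ideal.span {π c} := by
    intro x hx
    obtain ⟨x, rfl⟩ := Ideal.Quotient.mk_surjective x
    rw [← map_pow, Ideal.Quotient.eq_zero_iff_mem, Ideal.mem_span_singleton] at hx
    have : x ∈ S := hx
    rw [hc] at this
    obtain ⟨d, rfl⟩ := Submodule.mem_span_singleton.mp this
    exact Ideal.mem_span_singleton.mpr (by rw [smul_eq_mul, map_mul]; exact dvd_mul_left _ _)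
  let X : Bool → WittVector p (MvPolynomial (Bool × ℕ) ℤ) := fun s => WittVector.mk p fun i => MvPolynomial.X (s, i)
  let φ : MvPolynomial (Bool × ℕ) ℤ →+* R ⧸ Ideal.span {lam} :=
    MvPolynomial.eval₂Hom (Int.castRingHom _) fun z => if z.1 then a.coeff z.2 else b.coeff z.2
  have hφa : WittVector.map φ (X true) = a := by ext i; simp [WittVector.map_coeff, X, φ]
  have hφb : WittVector.map φ (X false) = b := by ext i; simp [WittVector.map_coeff, X, φ]
  have hI : MvPolynomial.idealOfVars (Bool × ℕ) ℤ ≤ (Ideal.span {π c}).comap φ := by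
    rw [MvPolynomial.idealOfVars, Ideal.span_le]
    rintro _ ⟨⟨s, i⟩, rfl⟩
    cases s
    · simpa [φ] using hN _ (hpow b hb i)
    · simpa [φ] using hN _ (hpow a ha i)
  have h := generic p n
  have h2 : φ ((X true + X false).coeff n - ((X true).coeff n + (X false).coeff n)) ∈ Ideal.span {π c} ^ p := by
    have := Ideal.mem_map_of_mem φ h
    rw [Ideal.map_pow] at this
    exact Ideal.pow_right_mono (Ideal.map_le_iff_le_comap.mpr hI) p this
  rw [Ideal.span_singleton_pow, ← map_pow, show π (c ^ p) = 0 from Ideal.Quotient.eq_zero_iff_mem.mpr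
    (Ideal.mem_span_singleton.mpr hcS), Ideal.mem_span_singleton, zero_dvd_iff, map_sub, map_add, sub_eq_zero,
    ← WittVector.map_coeff, ← WittVector.map_coeff, ← WittVector.map_coeff, map_add, hφa, hφb] at h2
  exact h2

end Groth.Agent.S13160
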