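import Groth.Statements.S13161
import Mathlib.RingTheory.Localization.FractionRing

set_option autoImplicit false
universe u
open scoped TensorProduct
open CAlg

namespace Groth.Agent.S13161

/-- Let R be a discrete valuation ring with fraction field K, A an R-algebra which is semireflexive as
an R-module (the map to its double dual is injective: every nonzero a ∈ A has an R-linear form f : A
→ R with f(a) ≠ 0), and B an A-algebra which is finitely generated as an A-module and flat over R.
Suppose B ⊗ K is semireflexive as a module over A ⊗ K, which for such B amounts to: every nonzero b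
∈ B has an A-linear map g : B → A ⊗_R K with g(b) ≠ 0. Then B is semireflexive as an R-module: every
nonzero b ∈ B has an R-linear form h : B → R with h(b) ≠ 0. (The published statement phrases the
hypothesis on B_K as an A_K-module; for B flat over R and finite over A this is the elementwise
condition used here.) -/
theorem result (R : Type u) [CommRing R] [IsDomain R]
    [IsDiscreteValuationRing R] (K : Type u) [Field K] [Algebra R K] [IsFractionRing R K]
    (A B : Type u) [CommRing A] [CommRing B] [Algebra R A] [Algebra R B] [Algebra A B] [IsScalarTower R A B]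
    [Module.Finite A B] [Module.Flat R B]
    (hA : ∀ a : A, a ≠ 0 → ∃ f : A →ₗ[R] R, f a ≠ 0)
    (hBK : ∀ b : B, b ≠ 0 → ∃ g : B →ₗ[A] A ⊗[R] K, g b ≠ 0) :
    ∀ b : B, b ≠ 0 → ∃ h : B →ₗ[R] R, h b ≠ 0 := by
  classical
  intro b hb
  obtain ⟨g, hg⟩ := hBK b hb
  have hden : ∀ z : A ⊗[R] K, ∃ d : R, d ≠ 0 ∧ ∃ a : A, d • z = a ⊗ₜ[R] (1 : K) := by
    intro z
    induction z with
    | zero => exact ⟨1, one_ne_zero, 0, by rw [smul_zero, TensorProduct.zero_tmul]⟩
    | tmul a k =>
      obtain ⟨⟨r, d⟩, hk⟩ := IsLocalization.surj (nonZeroDivisors R) k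
      refine ⟨d, nonZeroDivisors.coe_ne_zero d, r • a, ?_⟩
      rw [TensorProduct.smul_tmul, ← TensorProduct.tmul_smul, Algebra.smul_def, mul_comm, hk,
        Algebra.smul_def, mul_one]
    | add x y hx hy =>
      obtain ⟨d, hd, a, ha⟩ := hx
      obtain ⟨e, he, c, hc⟩ := hy
      refine ⟨d * e, mul_ne_zero hd he, e • a + d • c, ?_⟩
      rw [smul_add, TensorProduct.add_tmul, ← TensorProduct.smul_tmul', ← TensorProduct.smul_tmul', ← ha, ← hc,
        smul_smul, smul_smul, mul_comm e d]
  obtain ⟨s, hs⟩ := Module.Finite.fg_top (R := A) (M := B)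
  choose d hd a ha using hden
  let D := ∏ y ∈ s, d (g y)
  have hD : D ≠ 0 := Finset.prod_ne_zero_iff.mpr fun y _ => hd _
  let ι : A →ₗ[A] A ⊗[R] K := (TensorProduct.AlgebraTensorModule.mk R A A K).flip (1 : K)
  have hι : Function.Injective ι := by
    rw [injective_iff_map_eq_zero]
    intro x hx
    by_contra hx0
    obtain ⟨f, hf⟩ := hA x hx0
    have h : (TensorProduct.lid R K) (f.rTensor K (x ⊗ₜ[R] (1 : K))) = 0 := by
      rw [show x ⊗ₜ[R] (1 : K) = 0 from hx, map_zero, map_zero]
    rw [LinearMap.rTensor_tmul, TensorProduct.lid_tmul, Algebra.smul_def, mul_one] at h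
    exact hf (IsFractionRing.injective R K (h.trans (map_zero _).symm))
  have hrange : ∀ y : B, D • g y ∈ LinearMap.range ι := by
    intro y
    have hy : y ∈ Submodule.span A (s : Set B) := hs ▸ Submodule.mem_top
    induction hy using Submodule.span_induction with
    | mem y hy =>
      refine ⟨(∏ x ∈ s.erase y, d (g x)) • a (g y), ?_⟩
      show ((∏ x ∈ s.erase y, d (g x)) • a (g y)) ⊗ₜ[R] (1 : K) = D • g y
      rw [← TensorProduct.smul_tmul', ← ha, smul_smul, Finset.prod_erase_mul s (fun x => d (g x)) hy]
    | zero => rw [map_zero, smul_zero]; exact zero_mem _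
    | add x y _ _ hx hy => rw [map_add, smul_add]; exact add_mem hx hy
    | smul c x _ hx => rw [map_smul, smul_comm]; exact Submodule.smul_mem _ c hx
  let h₀ : B →ₗ[A] A := (LinearEquiv.ofInjective ι hι).symm.toLinearMap.comp
    (LinearMap.codRestrict (LinearMap.range ι) (D • g) hrange)
  have hh₀ : ι (h₀ b) = D • g b :=
    congrArg Subtype.val ((LinearEquiv.ofInjective ι hι).apply_symm_apply ⟨D • g b, hrange b⟩)
  have hne : h₀ b ≠ 0 := by
    intro h0
    rw [h0, map_zero] at hh₀
    obtain ⟨u, hu⟩ : IsUnit (algebraMap R K D) := isUnit_iff_ne_zero.mpr fun h => hD (IsFractionRing.injective R K (h.trans (map_zero _).symm))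
    have key : ∀ z : A ⊗[R] K, (LinearMap.lTensor A (LinearMap.mulLeft R (↑u⁻¹ : K))) (D • z) = z := by
      intro z
      induction z with
      | zero => simp
      | tmul x k =>
        rw [← TensorProduct.tmul_smul, LinearMap.lTensor_tmul, LinearMap.mulLeft_apply, Algebra.smul_def, ← hu,
          Units.inv_mul_cancel_left]
      | add x y hx hy => rw [smul_add, map_add, hx, hy]
    exact hg (by rw [← key (g b), ← hh₀, map_zero])
  obtain ⟨f, hf⟩ := hA _ hne
  exact ⟨f.comp (h₀.restrictScalars R), hf⟩

end Groth.Agent.S13161
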