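import Groth.Statements.S13162
import Mathlib.GroupTheory.Sylow
import Mathlib.Algebra.Ring.Action.Basic
import Mathlib.RingTheory.Ideal.Quotient.Defs
-- import your own Groth.Agent.* helpers here

set_option autoImplicit false
universe u v
open ZeroCyc

namespace Groth.Agent.S13162

/-- Let a finite group G act on a commutative ring A by ring automorphisms and let p be a prime such
that every integer prime to p is a unit in A. If I is an ideal of A and f ∈ A has G-invariant class
modulo I, then f^(p^k) is congruent modulo I to a G-invariant element of A, where p^k is the exact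
power of p dividing the order of G. (The published statement assumes I stable under G, so that G
acts on A/I and the claim reads: the p^k-th power of an invariant of A/I lies in the image of the
invariants of A; the form here asks only that the class of f be invariant.) -/
theorem result {A : Type u} [CommRing A] {G : Type v} [Group G] [Fintype G]
    [MulSemiringAction G A] (p : ℕ) [Fact p.Prime]
    (hA : ∀ m : ℕ, ¬ p ∣ m → IsUnit (m : A))
    (I : Ideal A) (f : A) (hf : ∀ g : G, g • f - f ∈ I) :
    ∃ a : A, (∀ g : G, g • a = a) ∧ a - f ^ (p ^ (Fintype.card G).factorization p) ∈ I := by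
  classical
  obtain ⟨P⟩ : Nonempty (Sylow p G) := inferInstance
  have hcard : Nat.card (P : Subgroup G) = p ^ (Fintype.card G).factorization p := by
    rw [← Nat.card_eq_fintype_card, Sylow.card_eq_multiplicity]
  let F : G → A := fun g => ∏ σ : (P : Subgroup G), (g * σ.1) • f
  have hF : ∀ g, ∀ τ : (P : Subgroup G), F (g * τ.1) = F g := fun g τ => by
    show ∏ σ : (P : Subgroup G), (g * τ.1 * σ.1) • f = _
    exact Fintype.prod_equiv (Equiv.mulLeft τ) _ _ (fun σ => by simp [mul_assoc])
  let Q : G ⧸ (P : Subgroup G) → A := fun c => F c.out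
  have hQ : ∀ g : G, Q (QuotientGroup.mk g) = F g := fun g => by
    obtain ⟨τ, hτ⟩ := QuotientGroup.mk_out_eq_mul (P : Subgroup G) g
    show F _ = F g
    rw [hτ]
    exact hF g τ
  have hm : ¬ p ∣ Fintype.card (G ⧸ (P : Subgroup G)) := by
    rw [← Nat.card_eq_fintype_card]
    exact Sylow.not_dvd_index P
  obtain ⟨u, hu⟩ := hA _ hm
  have hS : ∀ g : G, g • ∑ c, Q c = ∑ c, Q c := fun g => by
    rw [Finset.smul_sum]
    refine Fintype.sum_equiv (MulAction.toPerm g) _ _ fun c => ?_
    induction c using QuotientGroup.induction_on with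
    | H x =>
      show g • Q (QuotientGroup.mk x) = Q (g • QuotientGroup.mk x)
      rw [MulAction.Quotient.smul_mk, hQ, hQ]
      simp only [F, Finset.smul_prod', smul_smul, smul_eq_mul, mul_assoc]
  have hu' : ∀ g : G, g • ((u⁻¹ : Aˣ) : A) = ((u⁻¹ : Aˣ) : A) := fun g => by
    have h1 : g • (u : A) = u := by rw [hu]; exact map_natCast (MulSemiringAction.toRingHom G A g) _
    have h2 : g • ((u⁻¹ : Aˣ) : A) * (u : A) = 1 := by
      conv_lhs => arg 2; rw [← h1]
      rw [← smul_mul', Units.inv_mul, smul_one]
    calc g • ((u⁻¹ : Aˣ) : A) = g • ((u⁻¹ : Aˣ) : A) * (u : A) * ((u⁻¹ : Aˣ) : A) := by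
          rw [mul_assoc, Units.mul_inv, mul_one]
      _ = _ := by rw [h2, one_mul]
  refine ⟨((u⁻¹ : Aˣ) : A) * ∑ c, Q c, fun g => by rw [smul_mul', hu', hS], ?_⟩
  rw [← Ideal.Quotient.eq, map_mul, map_sum]
  have hmk : ∀ c, Ideal.Quotient.mk I (Q c) = Ideal.Quotient.mk I (f ^ p ^ (Fintype.card G).factorization p) := by
    intro c
    simp only [Q, F, map_prod]
    rw [Finset.prod_congr rfl (fun σ _ => Ideal.Quotient.eq.mpr (hf _)), Finset.prod_const, Finset.card_univ,
      ← Nat.card_eq_fintype_card, hcard, map_pow]
  rw [Finset.sum_congr rfl (fun c _ => hmk c), Finset.sum_const, Finset.card_univ, nsmul_eq_mul, ← mul_assoc,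
    ← map_natCast (Ideal.Quotient.mk I), ← hu, ← map_mul, Units.inv_mul, map_one, one_mul]

end Groth.Agent.S13162
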