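import Groth.Statements.S13163
import Mathlib.SetTheory.Cardinal.Finite
-- import your own Groth.Agent.* helpers here

set_option autoImplicit false
universe u
open ZeroCyc

namespace Groth.Agent.S13163

open Polynomial in
/-- Let P_d(T) = ∏_{0 ≤ i < j ≤ d} (T^i − T^j) − 1 ∈ ℤ[T]. Every residue field of ℤ[T]/(P_d), i.e. every
field receiving a ring homomorphism from it, has at least d + 1 elements. -/
theorem result (d : ℕ) (k : Type u) [Field k]
    (φ : (ℤ[X] ⧸ Ideal.span {(∏ j ∈ Finset.range (d + 1), ∏ i ∈ Finset.range j,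
        ((X : ℤ[X]) ^ i - X ^ j)) - 1}) →+* k) :
    ((d + 1 : ℕ) : Cardinal) ≤ Cardinal.mk k := by
  let t : k := φ (Ideal.Quotient.mk _ Polynomial.X)
  have h0 : φ (Ideal.Quotient.mk _ ((∏ j ∈ Finset.range (d + 1), ∏ i ∈ Finset.range j,
      ((Polynomial.X : Polynomial ℤ) ^ i - Polynomial.X ^ j)) - 1)) = 0 := by
    rw [Ideal.Quotient.eq_zero_iff_mem.mpr (Ideal.mem_span_singleton_self _), map_zero]
  simp only [map_sub, map_one, map_prod, map_pow, sub_eq_zero] at h0
  have hne : ∀ i j : ℕ, i < j → j < d + 1 → t ^ i ≠ t ^ j := by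
    intro i j hij hj h
    have hz : (∏ a ∈ Finset.range (d + 1), ∏ b ∈ Finset.range a, (t ^ b - t ^ a)) = 0 :=
      Finset.prod_eq_zero (Finset.mem_range.mpr hj)
        (Finset.prod_eq_zero (Finset.mem_range.mpr hij) (sub_eq_zero.mpr h))
    exact one_ne_zero (h0.symm.trans hz)
  have hinj : Function.Injective (fun i : Fin (d + 1) => t ^ (i : ℕ)) := fun i j h => by
    rcases lt_trichotomy (i : ℕ) j with hl | hl | hl
    · exact absurd h (hne _ _ hl j.isLt)
    · exact Fin.ext hl
    · exact absurd h.symm (hne _ _ hl i.isLt)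
  simpa using Cardinal.lift_mk_le_lift_mk_of_injective hinj

end Groth.Agent.S13163
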