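import Groth.Statements.S13166
import Groth.Agent.Lib.ZeroCyc99.Avoid
import Mathlib.RingTheory.Adjoin.Basic
import Mathlib.Data.Finset.Powerset
import Mathlib.Data.Fintype.Powerset
-- import your own Groth.Agent.* helpers here

set_option autoImplicit false
universe u
open ZeroCyc

namespace Groth.Agent.S13166

/-- Let k be a field, B a k-algebra generated as an algebra by a k-subspace V, k'/k a field extension
and x_1, …, x_d pairwise distinct k'-points of B ⊗_k k' (equivalently, distinct k-algebra
homomorphisms B → k'). If k has at least d(d − 1)/2 elements, then there is b ∈ V whose values at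
x_1, …, x_d are pairwise distinct. -/
theorem result {k : Type u} [Field k] {B : Type u} [CommRing B] [Algebra k B] (V : Submodule k B)
    (hV : Algebra.adjoin k (V : Set B) = ⊤) {k' : Type u} [Field k'] [Algebra k k']
    {d : ℕ} (x : Fin d → (B →ₐ[k] k')) (hx : Function.Injective x)
    (hk : ((d.choose 2 : ℕ) : Cardinal) ≤ Cardinal.mk k) :
    ∃ b ∈ V, Function.Injective fun i => x i b := by
  classical
  let s : Finset (Fin d × Fin d) := Finset.univ.filter (fun q => q.1 < q.2)
  have hs : s.card = d.choose 2 := by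
    rw [show d.choose 2 = ((Finset.univ : Finset (Fin d)).powersetCard 2).card by
      rw [Finset.card_powersetCard, Finset.card_univ, Fintype.card_fin]]
    refine Finset.card_bij (fun q _ => {q.1, q.2}) (fun q hq => ?_) (fun a ha b hb hab => ?_) (fun T hT => ?_)
    · rw [Finset.mem_powersetCard]
      exact ⟨Finset.subset_univ _, Finset.card_pair (ne_of_lt (Finset.mem_filter.mp hq).2)⟩
    · have h1 := (Finset.mem_filter.mp ha).2
      have h2 := (Finset.mem_filter.mp hb).2
      have h3 : a.1 = b.1 ∨ a.1 = b.2 := by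
        have : a.1 ∈ ({b.1, b.2} : Finset (Fin d)) := hab ▸ Finset.mem_insert_self _ _
        simpa using this
      have h4 : a.2 = b.1 ∨ a.2 = b.2 := by
        have : a.2 ∈ ({b.1, b.2} : Finset (Fin d)) := hab ▸ Finset.mem_insert_of_mem (Finset.mem_singleton_self _)
        simpa using this
      refine Prod.ext ?_ ?_ <;> omega
    · obtain ⟨a, b, hab, rfl⟩ := Finset.card_eq_two.mp (Finset.mem_powersetCard.mp hT).2
      rcases lt_or_gt_of_ne hab with h | h
      · exact ⟨(a, b), Finset.mem_filter.mpr ⟨Finset.mem_univ _, h⟩, rfl⟩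
      · exact ⟨(b, a), Finset.mem_filter.mpr ⟨Finset.mem_univ _, h⟩, Finset.pair_comm b a⟩
  let L : Fin d × Fin d → (V →ₗ[k] k') := fun q => ((x q.1).toLinearMap - (x q.2).toLinearMap) ∘ₗ V.subtype
  have hL : ∀ q ∈ s, L q ≠ 0 := fun q hq h0 => by
    refine ne_of_lt (Finset.mem_filter.mp hq).2 (hx (AlgHom.ext_of_adjoin_eq_top hV fun b hb => ?_))
    exact sub_eq_zero.mp (LinearMap.congr_fun h0 ⟨b, hb⟩)
  obtain ⟨v, hv⟩ := Groth.Agent.Lib.ZeroCyc99.Avoid.exists_forall_ne_zero L s hL (by rw [hs]; exact hk)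
  refine ⟨v, v.2, fun i j hij => ?_⟩
  by_contra hne
  rcases lt_or_gt_of_ne hne with h | h
  · exact hv (i, j) (Finset.mem_filter.mpr ⟨Finset.mem_univ _, h⟩) (sub_eq_zero.mpr hij)
  · exact hv (j, i) (Finset.mem_filter.mpr ⟨Finset.mem_univ _, h⟩) (sub_eq_zero.mpr hij.symm)

end Groth.Agent.S13166
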