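import Groth.Statements.S13167
import Groth.Agent.Lib.ZeroCyc99.Avoid
import Mathlib.AlgebraicGeometry.ProjectiveSpectrum.Basic
import Mathlib.RingTheory.LocalRing.ResidueField.Ideal
import Mathlib.RingTheory.TensorProduct.Maps
-- import your own Groth.Agent.* helpers here

set_option autoImplicit false
universe u
open AlgebraicGeometry
open ZeroCyc
open scoped TensorProduct

namespace Groth.Agent.S13167

/-- Let B be a graded R-algebra generated by its degree-one part B_1, with B_1 a finitely generated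
R-module, and let x_1, …, x_d be points of X = Proj B lying over one and the same prime p of R. If
the residue field of p has at least d elements, then some f ∈ B_1 ⊆ Γ(X, O_X(1)) has all the x_i in
D_+(f). (Without the hypothesis on the residue field such an f exists in some B_n with n ≥ 1; that
first assertion is a known property of ample sheaves and is not restated here.) -/
theorem result {R A : Type u} [CommRing R] [CommRing A] [Algebra R A] (𝒜 : ℕ → Submodule R A) [GradedAlgebra 𝒜]
    (hgen : Algebra.adjoin R (𝒜 1 : Set A) = ⊤) (hfg : (𝒜 1).FG)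
    (p : Ideal R) [p.IsPrime] {d : ℕ} (x : Fin d → Proj 𝒜)
    (hx : ∀ i, ((x i).asHomogeneousIdeal.toIdeal).comap (algebraMap R A) = p)
    (hcard : (d : Cardinal) ≤ Cardinal.mk p.ResidueField) :
    ∃ g ∈ 𝒜 1, ∀ i, x i ∈ Proj.basicOpen 𝒜 g := by
  classical
  let L : Fin d → Type u := fun i => FractionRing (A ⧸ (x i).asHomogeneousIdeal.toIdeal)
  have hxp : ∀ i, (x i).asHomogeneousIdeal.toIdeal.IsPrime := fun i => (x i).isPrime
  let ψ : ∀ i, A →+* L i := fun i =>
    (algebraMap (A ⧸ (x i).asHomogeneousIdeal.toIdeal) (L i)).comp (Ideal.Quotient.mk _)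
  have hψ : ∀ i a, ψ i a = 0 ↔ a ∈ (x i).asHomogeneousIdeal.toIdeal := by
    intro i a
    simp [ψ, IsFractionRing.to_map_eq_zero_iff, Ideal.Quotient.eq_zero_iff_mem]
  let e : ∀ i, p.ResidueField →+* L i := fun i =>
    IsFractionRing.lift (A := R ⧸ p) (g := Ideal.Quotient.lift p ((ψ i).comp (algebraMap R A))
      (fun a ha => (hψ i _).mpr (by
        have : a ∈ ((x i).asHomogeneousIdeal.toIdeal).comap (algebraMap R A) := (hx i).symm ▸ ha
        exact this)))
      (RingHom.lift_injective_of_ker_le_ideal p _ (fun a ha => by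
        have : a ∈ ((x i).asHomogeneousIdeal.toIdeal).comap (algebraMap R A) := (hψ i _).mp ha
        rwa [hx i] at this))
  letI : ∀ i, Algebra p.ResidueField (L i) := fun i => (e i).toAlgebra
  haveI : ∀ i, IsScalarTower R p.ResidueField (L i) := fun i => IsScalarTower.of_algebraMap_eq fun r => by
    show algebraMap R (L i) r = e i (algebraMap R p.ResidueField r)
    rw [IsScalarTower.algebraMap_apply R (R ⧸ p) p.ResidueField r, IsFractionRing.lift_algebraMap,
      IsScalarTower.algebraMap_apply R (A ⧸ (x i).asHomogeneousIdeal.toIdeal) (L i) r]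
    rfl
  have hψR : ∀ i r, ψ i (algebraMap R A r) = algebraMap R (L i) r := fun i r => by
    rw [IsScalarTower.algebraMap_apply R (A ⧸ (x i).asHomogeneousIdeal.toIdeal) (L i) r]
    rfl
  let ψ' : ∀ i, A →ₐ[R] L i := fun i => { ψ i with commutes' := hψR i }
  let M : ∀ i, p.ResidueField ⊗[R] (𝒜 1) →ₗ[p.ResidueField] L i := fun i =>
    LinearMap.liftBaseChange p.ResidueField ((ψ' i).toLinearMap ∘ₗ (𝒜 1).subtype)
  have hM : ∀ i ∈ (Finset.univ : Finset (Fin d)), M i ≠ 0 := fun i _ h0 => by
    have hne := (x i).not_irrelevant_le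
    refine hne fun a ha => ?_
    have hall : ∀ g ∈ 𝒜 1, g ∈ (x i).asHomogeneousIdeal.toIdeal := fun g hg => (hψ i g).mp (by
      have := LinearMap.congr_fun h0 ((1 : p.ResidueField) ⊗ₜ[R] (⟨g, hg⟩ : 𝒜 1))
      simpa [M, ψ'] using this)
    have hpos : ∀ b ∈ Algebra.adjoin R (𝒜 1 : Set A), b - GradedRing.proj 𝒜 0 b ∈ (x i).asHomogeneousIdeal.toIdeal := by
      intro b hb
      induction hb using Algebra.adjoin_induction with
      | mem g hg =>
        rw [GradedRing.proj_apply, DirectSum.decompose_of_mem_ne 𝒜 hg one_ne_zero, sub_zero]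
        exact hall g hg
      | algebraMap r =>
        rw [GradedRing.proj_apply, DirectSum.decompose_of_mem_same 𝒜 (SetLike.algebraMap_mem_graded 𝒜 r), sub_self]
        exact zero_mem _
      | add a b _ _ ha hb => rw [map_add, add_sub_add_comm]; exact add_mem ha hb
      | mul a b _ _ ha hb =>
        have h : GradedRing.proj 𝒜 0 (a * b) = GradedRing.proj 𝒜 0 a * GradedRing.proj 𝒜 0 b :=
          (GradedRing.projZeroRingHom 𝒜).map_mul a b
        rw [h, show a * b - GradedRing.proj 𝒜 0 a * GradedRing.proj 𝒜 0 b =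
          (a - GradedRing.proj 𝒜 0 a) * b + GradedRing.proj 𝒜 0 a * (b - GradedRing.proj 𝒜 0 b) by ring]
        exact add_mem (Ideal.mul_mem_right _ _ ha) (Ideal.mul_mem_left _ _ hb)
    have := hpos a (hgen ▸ trivial)
    rwa [(HomogeneousIdeal.mem_irrelevant_iff 𝒜 a).mp ha, sub_zero] at this
  obtain ⟨v, hv⟩ := Groth.Agent.Lib.ZeroCyc99.Avoid.exists_forall_ne_zero M Finset.univ hM
    (by rw [Finset.card_univ, Fintype.card_fin]; exact hcard)
  obtain ⟨r, hr, g, hg⟩ : ∃ r, r ∉ p ∧ ∃ g : 𝒜 1, algebraMap R p.ResidueField r • v = 1 ⊗ₜ[R] g := by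
    clear hv
    induction v using TensorProduct.induction_on with
    | zero => exact ⟨1, p.one_notMem, 0, by simp⟩
    | tmul c g =>
      obtain ⟨⟨a, b, hb⟩, hc⟩ := IsLocalization.surj (M := nonZeroDivisors (R ⧸ p)) c
      obtain ⟨a, rfl⟩ := Ideal.Quotient.mk_surjective a
      obtain ⟨b, rfl⟩ := Ideal.Quotient.mk_surjective b
      refine ⟨b, fun hbp => nonZeroDivisors.ne_zero hb (Ideal.Quotient.eq_zero_iff_mem.mpr hbp), a • g, ?_⟩
      rw [TensorProduct.smul_tmul', smul_eq_mul, mul_comm, TensorProduct.tmul_smul, TensorProduct.smul_tmul',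
        Algebra.smul_def, mul_one, IsScalarTower.algebraMap_apply R (R ⧸ p) p.ResidueField b,
        IsScalarTower.algebraMap_apply R (R ⧸ p) p.ResidueField a]
      exact congrArg (· ⊗ₜ[R] g) hc
    | add a b ha hb =>
      obtain ⟨r, hr, g, hg⟩ := ha
      obtain ⟨r', hr', g', hg'⟩ := hb
      refine ⟨r * r', fun h => (Ideal.IsPrime.mem_or_mem inferInstance h).elim hr hr', r' • g + r • g', ?_⟩
      rw [TensorProduct.tmul_add, TensorProduct.tmul_smul, TensorProduct.tmul_smul, ← hg, ← hg', map_mul, smul_add,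
        algebraMap_smul, algebraMap_smul, mul_smul, mul_smul, algebraMap_smul, algebraMap_smul, algebraMap_smul,
        algebraMap_smul, smul_comm r r' a]
  refine ⟨g.1, g.2, fun i => (Proj.mem_basicOpen 𝒜 _ _).mpr fun hgi => hv i (Finset.mem_univ i) ?_⟩
  have h1 : M i (algebraMap R p.ResidueField r • v) = 0 := by
    rw [hg]
    simp only [M, LinearMap.liftBaseChange_tmul, one_smul]
    exact (hψ i _).mpr hgi
  rw [map_smul, smul_eq_zero] at h1
  exact h1.resolve_left fun h => hr (Ideal.algebraMap_residueField_eq_zero.mp h)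

end Groth.Agent.S13167
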