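import Groth.Statements.S13168
import Groth.Agent.Lib.ZeroCyc99.Monomial
import Mathlib.AlgebraicGeometry.ProjectiveSpectrum.Basic
-- import your own Groth.Agent.* helpers here

set_option autoImplicit false
universe u
open AlgebraicGeometry
open ZeroCyc

namespace Groth.Agent.S13168

/-- Let B be a graded R-algebra generated by homogeneous elements f_1, …, f_s of positive degrees d_1,
…, d_s, let l be the least common multiple of the d_i and X = Proj B. For n = a l with a ≥ 1, X is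
the union of the opens D_+(g), g ∈ B_n. -/
theorem result {R A : Type u} [CommRing R] [CommRing A] [Algebra R A] (𝒜 : ℕ → Submodule R A) [GradedAlgebra 𝒜]
    {s : ℕ} (f : Fin s → A) (deg : Fin s → ℕ) (hdeg : ∀ i, 0 < deg i) (hf : ∀ i, f i ∈ 𝒜 (deg i))
    (hgen : Algebra.adjoin R (Set.range f) = ⊤) (a : ℕ) (ha : 0 < a) :
    (⨆ g : 𝒜 (a * Finset.univ.lcm deg), Proj.basicOpen 𝒜 (g : A)) = ⊤ := by
  classical
  refine eq_top_iff.mpr fun x _ => ?_
  obtain ⟨i, hi⟩ : ∃ i, f i ∉ x.asHomogeneousIdeal.toIdeal := by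
    by_contra hcon
    simp only [not_exists, not_not] at hcon
    refine x.not_irrelevant_le fun b hb => ?_
    have hpos : ∀ N, 0 < N → ∀ c ∈ 𝒜 N, c ∈ x.asHomogeneousIdeal.toIdeal := by
      intro N hN c hc
      refine Submodule.span_induction (p := fun c _ => c ∈ x.asHomogeneousIdeal.toIdeal) ?_ (zero_mem _)
        (fun _ _ _ _ => add_mem) (fun r c _ h => by rw [Algebra.smul_def]; exact Ideal.mul_mem_left _ _ h)
        (Groth.Agent.Lib.ZeroCyc99.Monomial.le_span 𝒜 f deg hf hgen N hc)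
      rintro _ ⟨e, he, rfl⟩
      obtain ⟨j, -, hj⟩ := Finset.exists_ne_zero_of_sum_ne_zero (he ▸ hN.ne' : ∑ i, e i * deg i ≠ 0)
      rw [← Finset.mul_prod_erase _ _ (Finset.mem_univ j)]
      exact Ideal.mul_mem_right _ _ (Ideal.pow_mem_of_mem _ (hcon j) _
        (Nat.pos_of_ne_zero fun (h : e j = 0) => hj (show e j * deg j = 0 by rw [h, zero_mul])))
    rw [← DirectSum.sum_support_decompose 𝒜 b]
    refine Submodule.sum_mem _ fun N hN => hpos N (Nat.pos_of_ne_zero fun h0 => ?_) _ (SetLike.coe_mem _)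
    subst h0
    exact (DFinsupp.mem_support_iff.mp hN) (Subtype.ext ((HomogeneousIdeal.mem_irrelevant_iff 𝒜 b).mp hb))
  have hl : 0 < Finset.univ.lcm deg := Nat.pos_of_ne_zero fun h0 => by
    rw [Finset.lcm_eq_zero_iff] at h0
    obtain ⟨j, -, hj⟩ := h0
    exact (hdeg j).ne' hj
  have hm : f i ^ (a * (Finset.univ.lcm deg / deg i)) ∈ 𝒜 (a * Finset.univ.lcm deg) := by
    have := SetLike.pow_mem_graded (a * (Finset.univ.lcm deg / deg i)) (hf i)
    rwa [smul_eq_mul, mul_assoc, Nat.div_mul_cancel (Finset.dvd_lcm (Finset.mem_univ i))] at this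
  exact TopologicalSpace.Opens.mem_iSup.mpr ⟨⟨_, hm⟩,
    (Proj.mem_basicOpen 𝒜 _ _).mpr fun h => hi (x.isPrime.mem_of_pow_mem _ h)⟩

end Groth.Agent.S13168
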