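import Groth.Statements.S13170
import Groth.Agent.Lib.ZeroCyc99.Twist
import Groth.Agent.Lib.ProjTilde.Tensor
-- import your own Groth.Agent.* helpers here

set_option autoImplicit false
universe u
open AlgebraicGeometry CategoryTheory
open ZeroCyc

namespace Groth.Agent.S13170

open Groth.Agent.Lib.ProjTilde.Basic Groth.Agent.Lib.ProjTilde.Tensor


/-- Let B be a graded R-algebra generated by homogeneous elements f_1, …, f_s of positive degrees d_1,
…, d_s, let l be the least common multiple of the d_i and X = Proj B. For all integers a and n,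
O_X(al) ⊗ O_X(n) ≅ O_X(al + n). (The published statement asserts that the canonical multiplication
map is an isomorphism; this row asserts only that an isomorphism exists.) -/
theorem result {R A : Type u} [CommRing R] [CommRing A] [Algebra R A] (𝒜 : ℕ → Submodule R A) [GradedAlgebra 𝒜]
    {s : ℕ} (f : Fin s → A) (deg : Fin s → ℕ) (hdeg : ∀ i, 0 < deg i) (hf : ∀ i, f i ∈ 𝒜 (deg i))
    (hgen : Algebra.adjoin R (Set.range f) = ⊤) (a n : ℤ) :
    Nonempty (CohB1.tensorMod (Twist.twist 𝒜 (a * (Finset.univ.lcm deg : ℕ))) (Twist.twist 𝒜 n) ≅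
      Twist.twist 𝒜 (a * (Finset.univ.lcm deg : ℕ) + n)) := by
  refine ⟨Groth.Agent.Lib.TensorMod.Basic.comm _ _ ≪≫
    Groth.Agent.Lib.TensorMod.Basic.tensorIso (twistIsoTilde n) (twistIsoTilde _) ≪≫
    tensorTildeIso n (a * (Finset.univ.lcm deg : ℕ)) (fun x => ?_) ≪≫ (twistIsoTilde _).symm ≪≫
    eqToIso (by rw [add_comm n])⟩
  obtain ⟨b, hb⟩ := Groth.Agent.Lib.ZeroCyc99.Twist.covers_lcm f deg hdeg hf hgen 1 x
  refine ⟨_, _, (b : A) ^ a.toNat, (b : A) ^ (-a).toNat, SetLike.pow_mem_graded _ b.2,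
    SetLike.pow_mem_graded _ b.2, ?_, fun h => (x.isPrime.mem_or_mem h).elim (fun h => hb (x.isPrime.mem_of_pow_mem _ h))
      fun h => hb (x.isPrime.mem_of_pow_mem _ h)⟩
  have h0 : a = (a.toNat : ℤ) - ((-a).toNat : ℤ) := by omega
  simp only [smul_eq_mul, one_mul, Nat.cast_mul]
  linear_combination (-((Finset.univ.lcm deg : ℕ) : ℤ)) * h0

end Groth.Agent.S13170
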