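import Groth.Statements.S13174
import Groth.Agent.Lib.PolLaw.Extend
-- import your own Groth.Agent.* helpers here

set_option autoImplicit false
universe u v w
open scoped TensorProduct
open ZeroCyc

namespace Groth.Agent.S13174

/-- Let M and N be A-modules. Polynomial laws M → N correspond one-to-one, by restriction, to families
of maps T_n : M[t_1, …, t_n] → N[t_1, …, t_n], n ≥ 0, compatible with all A-algebra homomorphisms
A[t_1, …, t_n] → A[t_1, …, t_m]: in the definition of a polynomial law the category of A-algebras
may be replaced by the polynomial rings in finitely many variables. (Here a polynomial law is given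
on all commutative A-algebra semirings of the universe of A.) -/
theorem result {A : Type u} [CommRing A] {M : Type v} [AddCommGroup M] [Module A M] {N : Type w} [AddCommGroup N] [Module A N] :
    Function.Bijective (fun F : M →ₚₗ[A] N =>
      (⟨fun n => F.toFun' (MvPolynomial (Fin n) A), fun n m φ => F.isCompat' φ⟩ :
        {T : ∀ n : ℕ, MvPolynomial (Fin n) A ⊗[A] M → MvPolynomial (Fin n) A ⊗[A] N //
          ∀ (n m : ℕ) (φ : MvPolynomial (Fin n) A →ₐ[A] MvPolynomial (Fin m) A),
            φ.toLinearMap.rTensor N ∘ T n = T m ∘ φ.toLinearMap.rTensor M})) := by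
  refine ⟨fun F G h => Groth.Agent.Lib.PolLaw.Extend.ext_poly' fun n z => ?_, fun T => ?_⟩
  · exact congrFun (congrFun (congrArg Subtype.val h) n) z
  · refine ⟨Groth.Agent.Lib.PolLaw.Extend.ofPoly T.1 (fun n m φ z => congrFun (T.2 n m φ) z), ?_⟩
    exact Subtype.ext (funext fun n => funext fun z => Groth.Agent.Lib.PolLaw.Extend.ofPoly_apply T.1 (fun n m φ z => congrFun (T.2 n m φ) z) n z)

end Groth.Agent.S13174
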