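import Groth.Statements.S13176
import Groth.Agent.Lib.ZeroCyc99.QuotPoints
import Groth.Agent.Lib.SchQuot.Props
-- import your own Groth.Agent.* helpers here

set_option autoImplicit false
universe u
open CategoryTheory CategoryTheory.Limits AlgebraicGeometry
open ZeroCyc

namespace Groth.Agent.S13176

open Groth.Agent.Lib.SchQuot Groth.Agent.Lib.ZeroCyc99

/-- Let a finite group G act on a scheme X over S through ρ, let q : X → Y be a quotient of X by G over
S (affine, G-invariant, O_Y = the G-invariant sections of O_X), let S' → S be any morphism and X' =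
X ×_S S' with the induced action ρ', and let r : X' → Y' be a quotient of X' by G. Then the morphism
Y' → Y ×_S S' through which the canonical map X' → Y ×_S S' factors via r is a universal
homeomorphism. (The published statement assumes every G-orbit lies in an affine open, which is what
makes the quotients exist; here the two quotients are hypotheses.) -/
theorem result {X Y S S' Y' : Scheme.{u}} {G : Type u} [Group G] [Finite G]
    (ρ : G →* Aut X) (f : X ⟶ S) (hρ : ∀ σ : G, (ρ σ).hom ≫ f = f)
    (q : X ⟶ Y) (h : Y ⟶ S) (hq : q ≫ h = f) (hquot : SGA1.IsQuot ρ q)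
    (g : S' ⟶ S)
    (ρ' : G →* Aut (pullback f g))
    (hρ' : ∀ σ : G, (ρ' σ).hom ≫ pullback.fst f g = pullback.fst f g ≫ (ρ σ).hom ∧
      (ρ' σ).hom ≫ pullback.snd f g = pullback.snd f g)
    (r : pullback f g ⟶ Y') (hr : SGA1.IsQuot ρ' r)
    (m : Y' ⟶ pullback h g)
    (hm : r ≫ m = pullback.map f g h g q (𝟙 S') (𝟙 S)
      ((Category.comp_id f).trans hq.symm) ((Category.comp_id g).trans (Category.id_comp g).symm)) :
    FlatMor.IsUnivHomeo m := by
  set u := pullback.map f g h g q (𝟙 S') (𝟙 S)
    ((Category.comp_id f).trans hq.symm) ((Category.comp_id g).trans (Category.id_comp g).symm) with hu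
  have := IsQuot.isIntegralHom hquot
  have : Surjective q := ⟨IsQuot.surjective hquot⟩
  have hpb : IsPullback (pullback.fst f g) u q (pullback.fst h g) := by
    refine IsPullback.of_bot ?_ (pullback.lift_fst _ _ _).symm (IsPullback.of_hasPullback h g)
    simpa [u, pullback.lift_snd, hq] using (IsPullback.of_hasPullback f g)
  have : IsIntegralHom u := MorphismProperty.of_isPullback hpb ‹IsIntegralHom q›
  have : Surjective u := MorphismProperty.of_isPullback hpb ‹Surjective q›
  have : Surjective r := ⟨IsQuot.surjective hr⟩
  have : UniversallyClosed (r ≫ m) := by rw [hm]; infer_instance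
  have : UniversallyClosed m := UniversallyClosed.of_comp_surjective r m
  have : Surjective (r ≫ m) := by rw [hm]; infer_instance
  have : Surjective m := Surjective.of_comp r m
  have : UniversallyInjective m := QuotPoints.universallyInjective_of_geometric m fun K _ _ η η' hη => by
    obtain ⟨ξ, rfl⟩ := QuotPoints.exists_lift hr K η
    obtain ⟨ξ', rfl⟩ := QuotPoints.exists_lift hr K η'
    simp only [Category.assoc, hm] at hη
    have h1 := congrArg (fun e => e ≫ pullback.fst h g) hη
    have h2 := congrArg (fun e => e ≫ pullback.snd h g) hη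
    simp only [u, Category.assoc, pullback.lift_fst, pullback.lift_snd, Category.comp_id] at h1 h2
    obtain ⟨σ, hσ⟩ := QuotPoints.exists_hom_comp_eq hquot K (ξ ≫ pullback.fst f g) (ξ' ≫ pullback.fst f g)
      (by simpa only [Category.assoc] using h1)
    have : ξ ≫ (ρ' σ).hom = ξ' := pullback.hom_ext
      (by rw [Category.assoc, (hρ' σ).1, ← Category.assoc, hσ]) (by rw [Category.assoc, (hρ' σ).2, h2])
    rw [← this, Category.assoc, hr.inv]
  exact Groth.Agent.Lib.UnivHomeo.Basic.of_universallyClosed m

end Groth.Agent.S13176
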