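import Groth.Statements.S13177
import Groth.Agent.Lib.ZeroCyc99.QuotPoints
import Groth.Agent.Lib.SchQuot.Props
import Mathlib.AlgebraicGeometry.Morphisms.Proper
import Mathlib.AlgebraicGeometry.Morphisms.SchemeTheoreticallyDominant
-- import your own Groth.Agent.* helpers here

set_option autoImplicit false
universe u
open CategoryTheory CategoryTheory.Limits AlgebraicGeometry
open ZeroCyc

namespace Groth.Agent.S13177

theorem ker_toImage {X Y : Scheme.{u}} (f : X ⟶ Y) [QuasiCompact f] : f.toImage.ker = ⊥ := by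
  refine Scheme.IdealSheafData.ext_of_iSup_eq_top (fun U : Y.affineOpens => ⟨f.imageι ⁻¹ᵁ U.1, U.2.preimage _⟩)
    ?_ fun U => ?_
  · rw [← Scheme.Hom.preimage_iSup, iSup_affineOpens_eq_top, Scheme.Hom.preimage_top]
  · rw [Scheme.Hom.ker_apply]
    exact (RingHom.injective_iff_ker_eq_bot _).1 (f.toImage_app_injective U)

open Groth.Agent.Lib.SchQuot Groth.Agent.Lib.ZeroCyc99

/-- Let a finite group G act on a scheme X with quotient q : X → Y (affine, G-invariant, O_Y = the
invariant sections), let i : Z → X be a G-stable closed subscheme with the induced action and r : Z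
→ W a quotient of Z by G, and let q(Z) be the scheme-theoretic image of Z in Y. Then the morphism W
→ q(Z) through which Z → q(Z) factors via r is a schematically dominant universal homeomorphism.
(The published statement assumes the quotient of X exists; here both quotients are hypotheses.) -/
theorem result {X Y Z W : Scheme.{u}} {G : Type u} [Group G] [Finite G]
    (ρ : G →* Aut X) (q : X ⟶ Y) (hquot : SGA1.IsQuot ρ q)
    (i : Z ⟶ X) [IsClosedImmersion i] (ρZ : G →* Aut Z) (hρZ : ∀ σ : G, (ρZ σ).hom ≫ i = i ≫ (ρ σ).hom)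
    (r : Z ⟶ W) (hr : SGA1.IsQuot ρZ r)
    (m : W ⟶ (i ≫ q).ker.subscheme) (hm : r ≫ m ≫ (i ≫ q).ker.subschemeι = i ≫ q) :
    FlatMor.IsUnivHomeo m ∧ IsSchemeTheoreticallyDominant m := by
  have := IsQuot.isIntegralHom hquot
  have : Surjective r := ⟨IsQuot.surjective hr⟩
  set ι := (i ≫ q).ker.subschemeι with hι
  have hm' : (r ≫ m) ≫ ι = i ≫ q := by rw [Category.assoc, hm]
  have hmι : r ≫ m = (i ≫ q).toImage := by
    rw [← cancel_mono ι, hm']
    exact ((i ≫ q).toImage_imageι).symm
  have : UniversallyClosed ((r ≫ m) ≫ ι) := by rw [hm']; infer_instance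
  have : UniversallyClosed (r ≫ m) := UniversallyClosed.of_comp_of_isSeparated (r ≫ m) ι
  have : UniversallyClosed m := UniversallyClosed.of_comp_surjective r m
  have : UniversallyInjective m := QuotPoints.universallyInjective_of_geometric m fun K _ _ η η' hη => by
    obtain ⟨ξ, rfl⟩ := QuotPoints.exists_lift hr K η
    obtain ⟨ξ', rfl⟩ := QuotPoints.exists_lift hr K η'
    have h1 := congrArg (fun e => e ≫ ι) hη
    simp only [Category.assoc, ι, hm] at h1
    obtain ⟨σ, hσ⟩ := QuotPoints.exists_hom_comp_eq hquot K (ξ ≫ i) (ξ' ≫ i) (by simpa only [Category.assoc] using h1)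
    have : ξ ≫ (ρZ σ).hom = ξ' := by rw [← cancel_mono i, Category.assoc, hρZ, ← Category.assoc, hσ]
    rw [← this, Category.assoc, hr.inv]
  have hsd : IsSchemeTheoreticallyDominant m := by
    refine ⟨le_bot_iff.1 ?_⟩
    have h0 : (r ≫ m).ker = ⊥ := by rw [hmι]; exact ker_toImage (i ≫ q)
    rw [← h0]
    exact Scheme.Hom.le_ker_comp r m
  have : Surjective m := by
    refine ⟨fun y => ?_⟩
    have hd : DenseRange m := (inferInstance : IsDominant m).denseRange
    have hc := m.isClosedMap.isClosed_range
    exact (hc.closure_eq ▸ hd.closure_range ▸ Set.mem_univ y : y ∈ Set.range m)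
  exact ⟨Groth.Agent.Lib.UnivHomeo.Basic.of_universallyClosed m, hsd⟩

end Groth.Agent.S13177
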