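import Groth.Statements.S13184
-- import your own Groth.Agent.* helpers here

set_option autoImplicit false
universe u
open ZeroCyc

namespace Groth.Agent.S13184

/-- Let k ⊆ K be a finite extension of fields of characteristic p > 0, viewed inside an algebraically
closed field Ω, and for e ≥ 0 let k^{p^{-e}} ⊆ Ω be the field of elements whose p^e-th power lies in
k. Then the compositum k^{p^{-e}}K is separable over k^{p^{-e}} if and only if x^{p^e} is separable
over k for every x ∈ K; hence the exponent of K/k (the least n ≥ 1 with K^n separable over k, a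
power of p) is the least p^e for which k^{p^{-e}} ⊆ k^{p^{-e}}K is separable. -/
theorem result {k : Type u} [Field k] (p : ℕ) [Fact p.Prime] [CharP k p]
    {K : Type u} [Field K] [Algebra k K] [FiniteDimensional k K]
    {Ω : Type u} [Field Ω] [Algebra k Ω] [Algebra K Ω] [IsScalarTower k K Ω] [IsAlgClosed Ω] (e : ℕ) :
    (∀ x : Ω, x ∈ IntermediateField.adjoin k {y : Ω | y ^ (p ^ e) ∈ Set.range (algebraMap k Ω)} ⊔
        IntermediateField.adjoin k (Set.range (algebraMap K Ω)) →
      IsSeparable (IntermediateField.adjoin k {y : Ω | y ^ (p ^ e) ∈ Set.range (algebraMap k Ω)}) x) ↔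
    ∀ x : K, x ^ (p ^ e) ∈ separableClosure k K := by
  have hp : CharP Ω p := charP_of_injective_algebraMap (algebraMap k Ω).injective p
  set k' := IntermediateField.adjoin k {y : Ω | y ^ (p ^ e) ∈ Set.range (algebraMap k Ω)} with hk
  have hp' : CharP k' p := charP_of_injective_algebraMap (algebraMap k k').injective p
  have hmem : ∀ y ∈ k', y ^ (p ^ e) ∈ (⊥ : IntermediateField k Ω) := fun y hy => by
    induction hy using IntermediateField.adjoin_induction with
    | mem y hy => exact IntermediateField.mem_bot.2 hy
    | algebraMap c => exact pow_mem (IntermediateField.algebraMap_mem _ c) _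
    | add x y _ _ hx hy => rw [add_pow_char_pow]; exact add_mem hx hy
    | inv x _ hx => rw [inv_pow]; exact inv_mem hx
    | mul x y _ _ hx hy => rw [mul_pow]; exact mul_mem hx hy
  constructor
  · intro H x
    have hx : IsSeparable k' (algebraMap K Ω x) :=
      H _ ((le_sup_right : IntermediateField.adjoin k (Set.range (algebraMap K Ω)) ≤ k' ⊔ _) (IntermediateField.subset_adjoin k _ ⟨x, rfl⟩))
    rw [mem_separableClosure_iff]
    let h := (minpoly k' (algebraMap K Ω x)).map ((iterateFrobenius Ω p e).comp (algebraMap k' Ω))
    obtain ⟨g, hg⟩ : h ∈ Polynomial.lifts (algebraMap k Ω) := by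
      rw [Polynomial.lifts_iff_coeff_lifts]
      intro n
      simp only [h, Polynomial.coeff_map, RingHom.comp_apply, iterateFrobenius_def]
      exact IntermediateField.mem_bot.1 (hmem _ (SetLike.coe_mem _))
    rw [Polynomial.coe_mapRingHom] at hg
    have hs : g.Separable := by
      rw [← Polynomial.separable_map (algebraMap k Ω), hg]
      exact (Polynomial.separable_map _).2 hx
    refine hs.of_dvd (minpoly.dvd k _ ((algebraMap K Ω).injective ?_))
    rw [map_zero, ← Polynomial.aeval_algebraMap_apply, Polynomial.aeval_def,
      ← Polynomial.eval_map, hg, Polynomial.eval_map, map_pow, ← iterateFrobenius_def,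
      ← Polynomial.hom_eval₂, ← Polynomial.aeval_def, minpoly.aeval, map_zero]
  · intro H x hx
    refine mem_separableClosure_iff.1 ((sup_le (α := IntermediateField k Ω)
      (c := (separableClosure k' Ω).restrictScalars k) ?_ ?_) hx)
    · exact fun y hy => (separableClosure k' Ω).algebraMap_mem ⟨y, hy⟩
    · refine IntermediateField.adjoin_le_iff.2 ?_
      rintro _ ⟨z, rfl⟩
      refine mem_separableClosure_iff.2 ?_
      have hz : IsSeparable k (z ^ (p ^ e)) := mem_separableClosure_iff.1 (H z)
      let g := minpoly k (z ^ (p ^ e))
      obtain ⟨f, hf⟩ : g.map (algebraMap k k') ∈ Polynomial.lifts (iterateFrobenius k' p e) := by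
        rw [Polynomial.lifts_iff_coeff_lifts]
        intro n
        obtain ⟨r, hr⟩ := IsAlgClosed.exists_pow_nat_eq (algebraMap k Ω (g.coeff n))
          (pow_pos (Fact.out : p.Prime).pos e)
        refine ⟨⟨r, IntermediateField.subset_adjoin k _ ⟨_, hr.symm⟩⟩, Subtype.ext ?_⟩
        rw [Polynomial.coeff_map]
        simpa [iterateFrobenius_def] using hr
      rw [Polynomial.coe_mapRingHom] at hf
      have hs : f.Separable := by
        rw [← Polynomial.separable_map (iterateFrobenius k' p e), hf]
        exact (Polynomial.separable_map _).2 hz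
      refine hs.of_dvd (minpoly.dvd k' _ ((iterateFrobenius Ω p e).injective ?_))
      have hc : (iterateFrobenius Ω p e).comp (algebraMap k' Ω) =
          (algebraMap k' Ω).comp (iterateFrobenius k' p e) := RingHom.ext fun a => by
        simp [iterateFrobenius_def]
      rw [map_zero, Polynomial.aeval_def, Polynomial.hom_eval₂, hc, ← Polynomial.eval₂_map, hf,
        Polynomial.eval₂_map, ← IsScalarTower.algebraMap_eq, iterateFrobenius_def, ← map_pow,
        ← Polynomial.aeval_def, Polynomial.aeval_algebraMap_apply, minpoly.aeval, map_zero]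

end Groth.Agent.S13184
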