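import Groth.Statements.S13186
import Groth.Agent.Lib.GalDescent.GL

set_option autoImplicit false
universe u
open GalCoh

namespace Groth.Agent.S13186

/-- Let L/K be a finite Galois extension of fields, n a natural number, and B a map from the Galois
group of L over K to the invertible n × n matrices over L such that B(σ) · σ(B(τ)) = B(στ) for all
σ, τ (σ acting on matrices entrywise, στ applying τ first) and det B(σ) = 1 for every σ. Then there
is an invertible matrix A over L of determinant 1 with B(σ) = A⁻¹ · σ(A) for every σ; that is, every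
1-cocycle of the Galois group with values in SL_n(L) is the coboundary of an element of SL_n(L), so
H¹ of the Galois group with values in SL_n(L) is a point. (The published statement says that every
torsor under the special linear group over K is trivial; this row is the finite-Galois-level cocycle
form that its proof establishes.) -/
theorem result (K L : Type u) [Field K] [Field L]
    [Algebra K L] [FiniteDimensional K L] [IsGalois K L] (n : ℕ)
    (B : (L ≃ₐ[K] L) → GL (Fin n) L)
    (hB : ∀ σ τ : L ≃ₐ[K] L,
      (B σ : Matrix (Fin n) (Fin n) L) * (B τ : Matrix (Fin n) (Fin n) L).map σ =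
        (B (σ * τ) : Matrix (Fin n) (Fin n) L))
    (hdet : ∀ σ : L ≃ₐ[K] L, Matrix.det (B σ : Matrix (Fin n) (Fin n) L) = 1) :
    ∃ A : GL (Fin n) L, Matrix.det (A : Matrix (Fin n) (Fin n) L) = 1 ∧ ∀ σ : L ≃ₐ[K] L,
      (B σ : Matrix (Fin n) (Fin n) L) =
        ((A⁻¹ : GL (Fin n) L) : Matrix (Fin n) (Fin n) L) * (A : Matrix (Fin n) (Fin n) L).map σ := by
  obtain ⟨A, hA⟩ := Groth.Agent.Lib.GalDescent.GL.exists_coboundary B hB
  rcases n with _ | m
  · exact ⟨A, Matrix.det_isEmpty, hA⟩
  let d := Matrix.det (A : Matrix (Fin (m + 1)) (Fin (m + 1)) L)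
  have hd0 : d ≠ 0 := (Matrix.isUnit_iff_isUnit_det _).mp A.isUnit |>.ne_zero
  have hdf : ∀ σ : L ≃ₐ[K] L, σ d = d := by
    intro σ
    have h := hdet σ
    have hmap : Matrix.det ((A : Matrix (Fin (m + 1)) (Fin (m + 1)) L).map σ) = σ d :=
      (σ.toRingEquiv.toRingHom.map_det _).symm
    rw [hA σ, Matrix.det_mul, Matrix.GeneralLinearGroup.val_det_apply .. |>.symm, map_inv, hmap,
      Units.val_inv_eq_inv_val, Matrix.GeneralLinearGroup.val_det_apply] at h
    exact (inv_mul_eq_one₀ hd0).mp h |>.symm
  let v : Fin (m + 1) → L := fun i => if i = 0 then d⁻¹ else 1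
  have hv : IsUnit (Matrix.diagonal v) := by
    rw [Matrix.isUnit_iff_isUnit_det, Matrix.det_diagonal, IsUnit.prod_univ_iff]
    intro i
    simp only [v]
    split <;> simp [hd0]
  refine ⟨hv.unit * A, ?_, fun σ => ?_⟩
  · rw [Units.val_mul, Matrix.det_mul, IsUnit.unit_spec, Matrix.det_diagonal]
    simp [v, Finset.prod_ite_eq', hd0, d]
  · rw [hA σ, mul_inv_rev, Units.val_mul, Units.val_mul, IsUnit.unit_spec]
    have h1 : ((Matrix.diagonal v * (A : Matrix _ _ L)).map σ) =
        Matrix.diagonal v * (A : Matrix _ _ L).map σ := by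
      rw [Matrix.map_mul, Matrix.diagonal_map (map_zero σ)]
      congr 2
      funext i
      simp only [v, Function.comp_apply]
      split <;> simp [hdf]
    rw [h1, mul_assoc, ← mul_assoc _ (Matrix.diagonal v), IsUnit.val_inv_mul, one_mul]

end Groth.Agent.S13186
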