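import Groth.Statements.S13188
import Groth.Agent.Lib.Brauer.RedNorm
import Mathlib.RingTheory.MvPolynomial.Homogeneous

set_option autoImplicit false
universe u v w
open Brauer

namespace Groth.Agent.S13188

/-- Let K be a field with property C_2 for systems of forms and D a finite-dimensional central division
algebra over K with dim_K D = d². Let N : D → K be multiplicative, a reduced norm of D over K, and
given in the coordinates of a K-basis b of D by a homogeneous polynomial F of degree d, i.e. N(Σ x_i
b_i) = F(x) for every coordinate vector x (the reduced norm of a central simple algebra of dimension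
d² is such a polynomial map of degree d; these data record it). Then N : D → K is surjective. -/
theorem result (K : Type u) [Field K] (hK : Curves.IsCi K 2)
    (D : Type v) [DivisionRing D] [Algebra K D] [Algebra.IsCentral K D] [FiniteDimensional K D]
    (d : ℕ) (hd : Module.finrank K D = d ^ 2)
    (N : D →* K) (hN : CSAGal.IsRedNorm K D N)
    {ι : Type w} [Fintype ι] (b : Module.Basis ι K D)
    (F : MvPolynomial ι K) (hF : F.IsHomogeneous d)
    (hNF : ∀ x : ι → K, N (∑ i, x i • b i) = MvPolynomial.eval x F) :
    Function.Surjective N := by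
  classical
  have hd0 : 0 < d := Groth.Agent.Lib.Brauer.RedNorm.deg_pos hd
  have hne : ∀ x : D, x ≠ 0 → N x ≠ 0 := fun x hx => by
    rw [Groth.Agent.Lib.Brauer.RedNorm.eq_redNorm hd hN]
    exact (Groth.Agent.Lib.Brauer.RedNorm.isUnit_iff hd x).mp (isUnit_iff_ne_zero.mpr hx)
  have hz : N 0 = 0 := by
    by_contra h
    rw [Groth.Agent.Lib.Brauer.RedNorm.eq_redNorm hd hN] at h
    exact not_isUnit_zero ((Groth.Agent.Lib.Brauer.RedNorm.isUnit_iff hd 0).mpr h)
  intro c
  rcases eq_or_ne c 0 with rfl | hc
  · exact ⟨0, hz⟩
  have hcard : Fintype.card ι = d ^ 2 := by rw [← hd, Module.finrank_eq_card_basis b]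
  let e : ι ≃ Fin (d ^ 2) := Fintype.equivFinOfCardEq hcard
  let f : Fin 1 → MvPolynomial (Fin (d ^ 2 + 1)) K := fun _ =>
    MvPolynomial.rename (fun i => (e i).castSucc) F
      - MvPolynomial.C c * MvPolynomial.X (Fin.last _) ^ d
  obtain ⟨a, ha, hfa⟩ := hK 1 (d ^ 2 + 1) f (fun _ => d) (fun _ => by
      apply MvPolynomial.IsHomogeneous.sub (hF.rename_isHomogeneous)
      have h := (MvPolynomial.isHomogeneous_C (Fin (d ^ 2 + 1)) c).mul
        ((MvPolynomial.isHomogeneous_X K (Fin.last (d ^ 2))).pow d)
      simpa using h)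
    (fun _ => hd0) (by simp)
  have h := hfa 0
  simp only [f, map_sub, map_mul, map_pow, MvPolynomial.eval_C, MvPolynomial.eval_X,
    MvPolynomial.eval_rename, sub_eq_zero] at h
  have h' : N (∑ i, a (e i).castSucc • b i) = c * a (Fin.last _) ^ d := (hNF _).trans h
  have ht : a (Fin.last _) ≠ 0 := by
    intro h0
    rw [h0, zero_pow hd0.ne', mul_zero] at h'
    have hx : (∑ i, a (e i).castSucc • b i) = 0 := by
      by_contra hx; exact hne _ hx h'
    have hz' := Fintype.linearIndependent_iff.mp b.linearIndependent _ hx
    apply ha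
    funext j
    induction j using Fin.lastCases with
    | last => exact h0
    | cast j => simpa using hz' (e.symm j)
  refine ⟨algebraMap K D (a (Fin.last _))⁻¹ * ∑ i, a (e i).castSucc • b i, ?_⟩
  rw [map_mul, h', Groth.Agent.Lib.Brauer.RedNorm.eq_redNorm hd hN,
    Groth.Agent.Lib.Brauer.RedNorm.redNorm_algebraMap hd, inv_pow]
  field_simp

end Groth.Agent.S13188
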