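import Groth.Statements.S13191
import Groth.Agent.H61.Delta

set_option autoImplicit false
universe u v w x
open GalCoh

namespace Groth.Agent.S13191

/-- Let a group G act by automorphisms on a group A, and let E and E' each be a G-equivariant right
A-torsor (a set with a simply transitive right action of A, written m ↦ m·a, and a left action of G
with g(m·a) = (gm)·(ga)). Let m ∈ E and m' ∈ E' be points with attached maps a, a' : G → A (g·m =
m·a(g) and g·m' = m'·a'(g) for all g). Then there is a bijection E ≃ E' commuting with the actions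
of G and of A if and only if a and a' are cohomologous. (The published statement is for a Galois
group acting on discrete modules; this row takes an arbitrary group acting on a group.) -/
theorem result {G : Type u} {A : Type v} {E : Type w} {E' : Type x}
    [Group G] [Group A] [MulDistribMulAction G A]
    [MulAction G E] [MulAction Aᵐᵒᵖ E]
    (hfree : ∀ m₁ m₂ : E, ∃! a : A, m₂ = MulOpposite.op a • m₁)
    (hcompat : ∀ (g : G) (a : A) (m : E), g • (MulOpposite.op a • m) = MulOpposite.op (g • a) • g • m)
    [MulAction G E'] [MulAction Aᵐᵒᵖ E']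
    (hfree' : ∀ m₁ m₂ : E', ∃! a : A, m₂ = MulOpposite.op a • m₁)
    (hcompat' : ∀ (g : G) (a : A) (m : E'), g • (MulOpposite.op a • m) = MulOpposite.op (g • a) • g • m)
    (m : E) (a : G → A) (ha : ∀ g : G, g • m = MulOpposite.op (a g) • m)
    (m' : E') (a' : G → A) (ha' : ∀ g : G, g • m' = MulOpposite.op (a' g) • m') :
    (∃ f : E ≃ E', (∀ (g : G) (e : E), f (g • e) = g • f e) ∧
        ∀ (b : A) (e : E), f (MulOpposite.op b • e) = MulOpposite.op b • f e) ↔
      GpH1.Cohomologous a a' := by
  have key : ∀ (y : E) (p q : A),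
      MulOpposite.op p • MulOpposite.op q • y = MulOpposite.op (q * p) • y :=
    fun y p q => by rw [smul_smul, ← MulOpposite.op_mul]
  have key' : ∀ (y : E') (p q : A),
      MulOpposite.op p • MulOpposite.op q • y = MulOpposite.op (q * p) • y :=
    fun y p q => by rw [smul_smul, ← MulOpposite.op_mul]
  have inj : ∀ (p q : A), MulOpposite.op p • m' = MulOpposite.op q • m' → p = q :=
    fun p q e => (hfree' m' _).unique rfl e
  constructor
  · rintro ⟨f, hfG, hfA⟩
    obtain ⟨c, hc, -⟩ := hfree' m' (f m)
    refine ⟨c, fun σ => ?_⟩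
    have e1 := hfG σ m
    rw [ha, hfA, hc, hcompat', ha', key', key'] at e1
    rw [mul_assoc, ← inj _ _ e1]
    group
  · rintro ⟨c, hc⟩
    let P : A ≃ E := Equiv.ofBijective (fun x => MulOpposite.op x • m)
      ⟨fun p q e => (hfree m _).unique rfl e, fun e => by
        obtain ⟨x, hx, -⟩ := hfree m e; exact ⟨x, hx.symm⟩⟩
    let Q : A ≃ E' := Equiv.ofBijective (fun x => MulOpposite.op (c * x) • m')
      ⟨fun p q e => mul_left_cancel (inj _ _ e), fun e => by
        obtain ⟨x, hx, -⟩ := hfree' m' e
        exact ⟨c⁻¹ * x, by simp [hx]⟩⟩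
    have hf : ∀ x, (P.symm.trans Q) (MulOpposite.op x • m) = MulOpposite.op (c * x) • m' := by
      intro x
      show Q (P.symm (P x)) = _
      rw [P.symm_apply_apply]; rfl
    refine ⟨P.symm.trans Q, fun g e => ?_, fun b e => ?_⟩ <;>
      obtain ⟨x, rfl, -⟩ := hfree m e
    · rw [hcompat, ha, key, hf, hf, hcompat', ha', key', hc g, smul_mul']
      congr 2
      group
    · rw [key, hf, hf, key', mul_assoc]

end Groth.Agent.S13191
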