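import Groth.Statements.S13192
import Groth.Agent.H61.Delta

set_option autoImplicit false
universe u v
open GalCoh

namespace Groth.Agent.S13192

/-- Let a group G act by automorphisms on a group A and let a : G → A be a 1-cocycle. Then there exist a
G-equivariant right A-torsor E (a set with a simply transitive right action of A, written m ↦ m·a,
and a left action of G with g(m·a) = (gm)·(ga)) and a point m of E whose attached map is a, i.e. g·m
= m·a(g) for every g in G. (E is taken in the universe of A. The published statement is for a Galois
group acting on discrete modules; this row takes an arbitrary group acting on a group.) -/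
theorem result {G : Type u} {A : Type v}
    [Group G] [Group A] [MulDistribMulAction G A] (a : G → A) (ha : GpH1.IsOneCocycle a) :
    ∃ (E : Type v) (_ : MulAction G E) (_ : MulAction Aᵐᵒᵖ E) (m : E),
      (∀ m₁ m₂ : E, ∃! b : A, m₂ = MulOpposite.op b • m₁) ∧
      (∀ (g : G) (b : A) (e : E), g • (MulOpposite.op b • e) = MulOpposite.op (g • b) • g • e) ∧
      ∀ g : G, g • m = MulOpposite.op (a g) • m := by
  refine ⟨A, { smul := fun g e => a g * g • e,
               one_smul := ?_, mul_smul := ?_ }, inferInstance, 1,
    fun m₁ m₂ => ⟨m₁⁻¹ * m₂, (mul_inv_cancel_left m₁ m₂).symm, fun y hy => ?_⟩,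
    fun g b e => ?_, fun g => ?_⟩
  · intro g g' e
    show a (g * g') * (g * g') • e = a g * g • (a g' * g' • e)
    rw [ha, smul_mul', mul_smul, mul_assoc]
  · intro e
    show a 1 * (1 : G) • e = e
    have h1 := ha 1 1
    rw [one_mul, one_smul] at h1
    rw [one_smul, mul_left_cancel (h1.symm.trans (mul_one _).symm), one_mul]
  · change m₂ = m₁ * y at hy
    rw [hy, inv_mul_cancel_left]
  · show a g * g • (e * b) = a g * g • e * g • b
    rw [smul_mul', mul_assoc]
  · show a g * g • (1 : A) = 1 * a g
    rw [smul_one, mul_one, one_mul]

end Groth.Agent.S13192
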