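import Groth.Statements.S13199
import Groth.Agent.Lib.Unram.SmoothBranches

set_option autoImplicit false
universe u
open Hensel

namespace Groth.Agent.S13199

open Groth.Agent.Lib Groth.Agent.Lib.Unram

/-- Let R be a Noetherian integral domain which is a strictly henselian local ring (henselian with
separably closed residue field), R' a smooth R-algebra and p a prime ideal of R' lying over the
maximal ideal of R (that is, containing its image). Then the local ring R'_p is an integral domain
and is geometrically unibranch: the integral closure of R'_p in its fraction field is a local ring
whose residue field is purely inseparable over that of R'_p. (The published statement concludes that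
every strict henselization of R'_p is an integral domain; for a local ring this is equivalent to
being an integral domain which is geometrically unibranch, the conclusion stated here.) -/
theorem result
    (R R' : Type u) [CommRing R] [IsDomain R] [IsNoetherianRing R] [HenselianLocalRing R]
    [IsSepClosed (IsLocalRing.ResidueField R)]
    [CommRing R'] [Algebra R R'] [Algebra.Smooth R R']
    (p : Ideal R') [p.IsPrime] (hp : (IsLocalRing.maximalIdeal R).map (algebraMap R R') ≤ p) :
    IsDomain (Localization.AtPrime p) ∧ CAlg2.IsGeomUnibranch (Localization.AtPrime p) := by
  have hle : p.comap (algebraMap R R') = IsLocalRing.maximalIdeal R :=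
    ((IsLocalRing.maximalIdeal.isMaximal R).eq_of_le (Ideal.IsPrime.comap _).ne_top (Ideal.map_le_iff_le_comap.mp hp)).symm
  let m := IsLocalRing.maximalIdeal R
  have hR : CAlg2.IsGeomUnibranch (Localization.AtPrime m) :=
    UnibranchBirationalAlg.isGeomUnibranch_of_ringEquiv
      (IsLocalization.atUnits R m.primeCompl fun x hx => IsLocalRing.notMem_maximalIdeal.mp hx).toRingEquiv
      (SmoothBranches.isGeomUnibranch_henselian R)
  exact ⟨SmoothBranches.isDomain_smooth R R' p m hle hR, SmoothBranches.isGeomUnibranch_smooth R R' p m hle hR⟩

end Groth.Agent.S13199
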