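import Groth.Statements.S13200
import Groth.Agent.Lib.NormalTensor.Formal
import Groth.Agent.Lib.Henselian.GRingHens
import Groth.Agent.H2.Rigid.FieldBC

set_option autoImplicit false
universe u
open Hensel

namespace Groth.Agent.S13200

open scoped TensorProduct

/-- Let R be an excellent local ring which is strictly henselian (henselian with separably closed
residue field), and let R^ denote its completion at the maximal ideal. An element Δ of R is a prime
element of R exactly when its image in R^ is a prime element of R^. -/
theorem result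
    (R : Type u) [CommRing R] [HenselianLocalRing R] [IsSepClosed (IsLocalRing.ResidueField R)]
    (hR : EGA4.IsExcellent R) (Δ : R) :
    Prime Δ ↔ Prime (algebraMap R (AdicCompletion (IsLocalRing.maximalIdeal R) R) Δ) := by
  have := hR.1
  let C := AdicCompletion (IsLocalRing.maximalIdeal R) R
  let I : Ideal R := Ideal.span {Δ}
  have : Module.FaithfullyFlat R (EGA4.Cpl R) := Module.FaithfullyFlat.of_flat_of_isLocalHom
  have hinj : Function.Injective (algebraMap R C) :=
    FaithfulSMul.algebraMap_injective R (EGA4.Cpl R)
  have hmap : I.map (algebraMap R C) = Ideal.span {algebraMap R C Δ} := by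
    rw [Ideal.map_span, Set.image_singleton]
  constructor
  · intro hΔ
    have hI : I.IsPrime := (Ideal.span_singleton_prime hΔ.ne_zero).mpr hΔ
    have h : EGA4.HasGeomNormalFormalFibres R := by
      intro p _ k' _ _ hfin
      have := (Groth.Agent.Lib.Henselian.GRingHens.isRegularHom_cpl_of_isGRing R hR.2.2.1).2 p
      have := this.2 k' hfin
      exact Groth.Agent.H2.Rigid.FieldBC.isNormalRing_of_isRegularRing _
    let K := FractionRing (R ⧸ I)
    let N := integralClosure (R ⧸ I) K
    have : IsIntegrallyClosed N :=
      integralClosure.isIntegrallyClosedOfFiniteExtension K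
    have : Algebra.IsIntegral R N := Algebra.IsIntegral.trans (R ⧸ I)
    have := Groth.Agent.Lib.NormalTensor.Formal.isDomain_cpl_tensor h N
    let f : R ⧸ I →ₐ[R] N := IsScalarTower.toAlgHom R (R ⧸ I) N
    let F := Algebra.TensorProduct.map (AlgHom.id R (EGA4.Cpl R)) f
    have hF : Function.Injective F :=
      Module.Flat.lTensor_preserves_injective_linearMap (M := EGA4.Cpl R) f.toLinearMap
        ((IsFractionRing.injective (R ⧸ I) K).of_comp (f := Subtype.val))
    have : IsDomain (EGA4.Cpl R ⊗[R] (R ⧸ I)) := hF.isDomain (f := F)
    have : IsDomain (EGA4.Cpl R ⧸ I.map (algebraMap R (EGA4.Cpl R))) :=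
      (Algebra.TensorProduct.quotIdealMapEquivTensorQuot (EGA4.Cpl R) I).toMulEquiv.isDomain _
    have hp : (I.map (algebraMap R C)).IsPrime := (Ideal.Quotient.isDomain_iff_prime _).mp this
    rw [hmap] at hp
    exact (Ideal.span_singleton_prime ((map_ne_zero_iff _ hinj).mpr hΔ.ne_zero)).mp hp
  · intro hΔ
    have h0 : Δ ≠ 0 := fun h => hΔ.ne_zero (by rw [h, map_zero])
    have hp : (I.map (algebraMap R C)).IsPrime := hmap ▸ (Ideal.span_singleton_prime hΔ.ne_zero).mpr hΔ
    have hI : (I.map (algebraMap R C)).comap (algebraMap R C) = I :=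
      Ideal.comap_map_eq_self_of_faithfullyFlat (B := EGA4.Cpl R) I
    have hp' := hp.comap (algebraMap R C)
    rw [hI] at hp'
    exact (Ideal.span_singleton_prime h0).mp hp'

end Groth.Agent.S13200
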