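import Groth.Statements.S13203
import Groth.Agent.Lib.SchDense.Factor

set_option autoImplicit false
universe u
open CategoryTheory AlgebraicGeometry
open Neron

namespace Groth.Agent.S13203

open CategoryTheory.Limits

/-- Let S be a scheme, U ⊆ S a schematically dense open subscheme and N → S a smooth S-scheme with the
Néron mapping property with respect to U: for every smooth S-scheme Y, sending an S-morphism Y → N
to its restriction Y ×_S U → N ×_S U is a bijection onto the U-morphisms. Then for every smooth
morphism g : S' → S the base change N ×_S S' → S' (again smooth) has the Néron mapping property with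
respect to g⁻¹(U): for every smooth S'-scheme Y', restriction to g⁻¹(U) is a bijection from
S'-morphisms Y' → N ×_S S' onto g⁻¹(U)-morphisms. (The published statement is for models which are
algebraic spaces, tested against smooth algebraic spaces, and also says that separatedness is
preserved; this row states the case of a smooth scheme model tested against smooth schemes.) -/
theorem result
    {S S' : Scheme.{u}} (g : S' ⟶ S) [Smooth g]
    (U : S.Opens) (hU : CInt.IsSchematicallyDense U) (N : Over S) [Smooth N.hom]
    (hN : ∀ Y : Over S, Smooth Y.hom →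
      Function.Bijective (fun f : Y ⟶ N => (Over.pullback U.ι).map f))
    (Y' : Over S') [Smooth Y'.hom] :
    Function.Bijective (fun f : Y' ⟶ (Over.pullback g).obj N => (Over.pullback (g ⁻¹ᵁ U).ι).map f) := by
  refine ⟨?_, ?_⟩
  · intro f₁ f₂ h
    rw [Groth.Agent.Lib.SchDense.Factor.pullback_map_eq_iff] at h
    let Y : Over S := (Over.map g).obj Y'
    have hY : Smooth Y.hom := inferInstanceAs (Smooth (Y'.hom ≫ g))
    let m : (Y' ⟶ (Over.pullback g).obj N) → (Y ⟶ N) := fun φ =>
      Over.homMk (φ.left ≫ pullback.fst N.hom g) (by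
        show (φ.left ≫ pullback.fst N.hom g) ≫ N.hom = Y'.hom ≫ g
        rw [Category.assoc, pullback.condition, ← Category.assoc]
        exact congrArg (· ≫ g) (Over.w φ))
    have hm : m f₁ = m f₂ := (hN Y hY).1 ((Groth.Agent.Lib.SchDense.Factor.pullback_map_eq_iff U _ _).mpr
      ((Category.assoc _ _ _).symm.trans ((congrArg (fun k => k ≫ pullback.fst N.hom g) h).trans (Category.assoc _ _ _))))
    ext1
    apply pullback.hom_ext
    · exact congrArg CommaMorphism.left hm
    · exact (Over.w f₁).trans (Over.w f₂).symm
  · refine fun φ => ?_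
    let Y : Over S := (Over.map g).obj Y'
    have hY : Smooth Y.hom := inferInstanceAs (Smooth (Y'.hom ≫ g))
    have hb := ((Groth.Agent.Lib.SchDense.Factor.bijective_pullback_map_iff U Y N).mp (hN Y hY)).2
    have hc : ∀ k : (Y'.hom ⁻¹ᵁ (g ⁻¹ᵁ U) : Scheme.{u}) ⟶ ((Over.pullback g).obj N).left,
        k ≫ ((Over.pullback g).obj N).hom = (Y'.hom ⁻¹ᵁ (g ⁻¹ᵁ U)).ι ≫ Y'.hom →
        ∃ f : Y' ⟶ (Over.pullback g).obj N, (Y'.hom ⁻¹ᵁ (g ⁻¹ᵁ U)).ι ≫ f.left = k := by
      intro k hk
      obtain ⟨f, hf⟩ := hb (k ≫ pullback.fst N.hom g)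
        ((Category.assoc _ _ _).trans ((congrArg (fun z => k ≫ z) pullback.condition).trans
          ((Category.assoc _ _ _).symm.trans ((congrArg (· ≫ g) hk).trans (Category.assoc _ _ _)))))
      refine ⟨Over.homMk (pullback.lift f.left Y'.hom (Over.w f)) (pullback.lift_snd _ _ _), ?_⟩
      apply pullback.hom_ext
      · exact ((Category.assoc _ _ _).trans (congrArg _ (pullback.lift_fst _ _ _))).trans hf
      · exact ((Category.assoc _ _ _).trans (congrArg _ (pullback.lift_snd _ _ _))).trans hk.symm
    let e := pullbackRestrictIsoRestrict Y'.hom (g ⁻¹ᵁ U)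
    have hw : φ.left ≫ pullback.snd _ (g ⁻¹ᵁ U).ι = pullback.snd Y'.hom (g ⁻¹ᵁ U).ι := Over.w φ
    obtain ⟨f, hf⟩ := hc (e.inv ≫ φ.left ≫ pullback.fst _ _) (by
      rw [Category.assoc, Category.assoc, pullback.condition, ← Category.assoc φ.left, hw,
        ← pullback.condition, ← pullbackRestrictIsoRestrict_hom_ι, Category.assoc,
        Iso.inv_hom_id_assoc])
    refine ⟨f, ?_⟩
    ext1
    apply pullback.hom_ext
    · refine (pullback.lift_fst _ _ _).trans ?_
      have := congrArg (fun m => e.hom ≫ m) hf
      simp only [Iso.hom_inv_id_assoc, e, pullbackRestrictIsoRestrict_hom_ι_assoc] at this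
      exact this
    · exact (pullback.lift_snd _ _ _).trans hw.symm

end Groth.Agent.S13203
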