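import Groth.Statements.S13204
import Groth.Agent.H46.Dvr

set_option autoImplicit false
universe u
open Neron

namespace Groth.Agent.S13204

open Polynomial in
theorem eval_one_mem {R K : Type u} [CommRing R] [IsDomain R] [UniqueFactorizationMonoid R] [Field K]
    [Algebra R K] [IsFractionRing R K] (m : Ideal R) (a b : R) (hb : b ≠ 0) (ham : a ∈ m) (hbm : b ∈ m)
    (hcop : IsRelPrime a b) : ∀ (d : ℕ) (p : R[X]), p.natDegree ≤ d →
      aeval (algebraMap R K a / algebraMap R K b) p = 0 → p.eval 1 ∈ m := by
  have hinj := IsFractionRing.injective R K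
  have hbK : algebraMap R K b ≠ 0 := (map_ne_zero_iff _ hinj).2 hb
  intro d
  induction d with
  | zero =>
    intro p hd hp
    obtain ⟨c, rfl⟩ := natDegree_eq_zero.1 (Nat.le_zero.1 hd)
    rw [aeval_C] at hp
    rw [(map_eq_zero_iff _ hinj).1 hp]; simp
  | succ d ih =>
    intro p hd hp
    set t := algebraMap R K a / algebraMap R K b with ht
    have hta : algebraMap R K b * t = algebraMap R K a := mul_div_cancel₀ _ hbK
    have key : (∑ i ∈ Finset.range (d + 2), p.coeff i * a ^ i * b ^ (d + 1 - i)) = 0 := by
      apply hinj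
      rw [map_zero, map_sum, ← mul_zero (algebraMap R K b ^ (d + 1)), ← hp,
        aeval_eq_sum_range' (show p.natDegree < d + 2 by omega), Finset.mul_sum]
      refine Finset.sum_congr rfl fun i hi => ?_
      have hi' : i ≤ d + 1 := by simpa [Nat.lt_succ_iff] using Finset.mem_range.1 hi
      rw [map_mul, map_mul, map_pow, map_pow, Algebra.smul_def, ← hta, mul_pow]
      conv_rhs => rw [← Nat.sub_add_cancel hi', pow_add]
      ring
    have hdvd : b ∣ p.coeff (d + 1) * a ^ (d + 1) := by
      rw [Finset.sum_range_succ, Nat.sub_self, pow_zero, mul_one] at key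
      rw [eq_neg_of_add_eq_zero_right key, dvd_neg]
      refine Finset.dvd_sum fun i hi => ?_
      have : d + 1 - i ≠ 0 := by have := Finset.mem_range.1 hi; omega
      exact dvd_mul_of_dvd_right (dvd_pow_self b this) _
    obtain ⟨q, hq⟩ : b ∣ p.coeff (d + 1) := (hcop.symm.pow_right).dvd_of_dvd_mul_right hdvd
    let s : R[X] := C q * (C b * X - C a) * X ^ d
    have hs : aeval t s = 0 := by simp [s, hta]
    have hdeg : (p - s).natDegree ≤ d := by
      rw [natDegree_le_iff_coeff_eq_zero]
      intro N hN
      obtain hN | hN := eq_or_lt_of_le (Nat.succ_le_of_lt hN)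
      · subst hN
        rw [coeff_sub, hq, coeff_mul_X_pow', if_pos (by omega), show d + 1 - d = 1 by omega]
        simp [coeff_X, coeff_C]
        ring
      · rw [coeff_sub, coeff_eq_zero_of_natDegree_lt (show p.natDegree < N by omega), coeff_mul_X_pow',
          if_pos (by omega)]
        simp [coeff_X, coeff_C, show (1:ℕ) ≠ N - d by omega, show N - d ≠ 0 by omega]
    have h1 := ih (p - s) hdeg (by rw [map_sub, hp, hs, sub_zero])
    have h2 : s.eval 1 ∈ m := by
      simp only [s, eval_mul, eval_sub, eval_C, eval_X, eval_pow, one_pow, mul_one]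
      exact m.mul_mem_left _ (sub_mem hbm ham)
    simpa [eval_sub] using m.add_mem h1 h2

/-- Let R be a strictly henselian Noetherian local unique factorization domain and Δ₁, Δ₂ two non-units
of R with no common prime factor. Then there are a discrete valuation ring A and an injective local
homomorphism f : R → A — so that Spec A → Spec R sends the closed point to the closed point and the
generic point to the generic point, which lies in every dense open subset — such that f(Δ₁) is a
non-zero non-unit and f(Δ₁) = u · f(Δ₂) for some unit u of A congruent to 1 modulo the maximal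
ideal. (The published statement asks for the images of Δ₁ and Δ₂ in A to be equal, with the generic
point of Spec A sent into a given dense open subset of Spec R; that cannot hold in general — for R =
ℂ[[a,b]], Δ₁ = a, Δ₂ = b and the dense open D(a − b), any local map to a discrete valuation ring
identifying a and b sends the generic point into V(a − b) — so this row asks instead for f(Δ₁) = u ·
f(Δ₂) with u a unit congruent to 1 modulo the maximal ideal.) -/
theorem result
    (R : Type u) [CommRing R] [IsDomain R] [IsNoetherianRing R] [UniqueFactorizationMonoid R]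
    [HenselianLocalRing R] [IsSepClosed (IsLocalRing.ResidueField R)]
    (Δ₁ Δ₂ : R) (h₁ : ¬ IsUnit Δ₁) (h₂ : ¬ IsUnit Δ₂) (hcop : IsRelPrime Δ₁ Δ₂) :
    ∃ (A : Type u) (_ : CommRing A) (_ : IsDomain A) (_ : IsDiscreteValuationRing A) (f : R →+* A),
      IsLocalHom f ∧ Function.Injective f ∧ ¬ IsUnit (f Δ₁) ∧
        ∃ u : Aˣ, (u : A) - 1 ∈ IsLocalRing.maximalIdeal A ∧ f Δ₁ = (u : A) * f Δ₂ := by
  classical
  have hb : Δ₂ ≠ 0 := fun h => h₁ (isRelPrime_zero_right.1 (h ▸ hcop))
  let K := FractionRing R
  let m := IsLocalRing.maximalIdeal R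
  let t : K := algebraMap R K Δ₁ / algebraMap R K Δ₂
  let φ : Polynomial R →+* K := (Polynomial.aeval t).toRingHom
  let Bl := Polynomial R ⧸ RingHom.ker φ
  have : (RingHom.ker φ).IsPrime := RingHom.ker_isPrime φ
  let ψ : Bl →+* IsLocalRing.ResidueField R :=
    Ideal.Quotient.lift _ ((IsLocalRing.residue R).comp (Polynomial.evalRingHom 1)) fun p hp =>
      (IsLocalRing.residue_eq_zero_iff _).2
        (eval_one_mem m Δ₁ Δ₂ hb h₁ h₂ hcop p.natDegree p le_rfl hp)
  have : (RingHom.ker ψ).IsPrime := RingHom.ker_isPrime ψ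
  let B := Localization.AtPrime (RingHom.ker ψ)
  have hP0 : (RingHom.ker ψ).primeCompl ≤ nonZeroDivisors Bl :=
    Ideal.primeCompl_le_nonZeroDivisors _
  have : IsDomain B := IsLocalization.isDomain_localization hP0
  have : IsNoetherianRing B := IsLocalization.isNoetherianRing (RingHom.ker ψ).primeCompl B inferInstance
  let g : R →+* B := (algebraMap Bl B).comp ((Ideal.Quotient.mk _).comp Polynomial.C)
  have hgi : Function.Injective g := by
    refine (IsLocalization.injective B hP0).comp ?_
    show Function.Injective ((Ideal.Quotient.mk (RingHom.ker φ)).comp Polynomial.C)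
    rw [injective_iff_map_eq_zero]
    intro r hr
    have := RingHom.mem_ker.1 (Ideal.Quotient.eq_zero_iff_mem.1 hr)
    exact (map_eq_zero_iff _ (IsFractionRing.injective R K)).1 (by simpa [φ] using this)
  have hgm : ∀ r ∈ m, g r ∈ IsLocalRing.maximalIdeal B := fun r hr => by
    refine (IsLocalization.AtPrime.to_map_mem_maximal_iff B (RingHom.ker ψ) _).2 ?_
    rw [RingHom.mem_ker]
    show IsLocalRing.residue R (Polynomial.eval 1 (Polynomial.C r)) = 0
    rw [Polynomial.eval_C, IsLocalRing.residue_eq_zero_iff]
    exact hr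
  have hnf : ¬ IsField B := by
    rw [IsLocalRing.isField_iff_maximalIdeal_eq]
    intro h
    exact hb (hgi ((Submodule.mem_bot B).1 (h ▸ hgm _ h₂) |>.trans (map_zero g).symm))
  let T : B := algebraMap Bl B (Ideal.Quotient.mk _ Polynomial.X)
  have hT : T - 1 ∈ IsLocalRing.maximalIdeal B := by
    rw [← map_one (algebraMap Bl B), ← map_sub]
    refine (IsLocalization.AtPrime.to_map_mem_maximal_iff B (RingHom.ker ψ) _).2 ?_
    rw [RingHom.mem_ker]
    show IsLocalRing.residue R (Polynomial.eval 1 (Polynomial.X - 1)) = 0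
    simp
  have hgT : g Δ₁ = T * g Δ₂ := by
    show algebraMap Bl B _ = algebraMap Bl B _ * algebraMap Bl B _
    rw [← map_mul]
    congr 1
    show Ideal.Quotient.mk _ _ = Ideal.Quotient.mk _ _ * Ideal.Quotient.mk _ _
    rw [← map_mul, Ideal.Quotient.eq, RingHom.mem_ker]
    simp only [φ, AlgHom.toRingHom_eq_coe, RingHom.coe_coe, map_sub, map_mul, Polynomial.aeval_C, Polynomial.aeval_X, t]
    rw [div_mul_cancel₀ _ ((map_ne_zero_iff _ (IsFractionRing.injective R K)).2 hb), sub_self]
  obtain ⟨V, hV, hmem, hlt⟩ := Groth.Agent.H46.Dvr.exists_dvr_dominating (B := B) (L := FractionRing B) hnf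
  let i : B →+* V := (algebraMap B (FractionRing B)).codRestrict V.toSubring hmem
  have hi : ∀ b ∈ IsLocalRing.maximalIdeal B, i b ∈ IsLocalRing.maximalIdeal V := fun b hb' =>
    (ValuationSubring.valuation_lt_one_iff V (i b)).2 (hlt b hb')
  have hu : IsUnit (i T) := by
    by_contra h
    have h' : i T ∈ IsLocalRing.maximalIdeal V := h
    have := Ideal.sub_mem _ h' (hi _ hT)
    rw [← map_sub, sub_sub_cancel, map_one] at this
    exact (IsLocalRing.maximalIdeal.isMaximal V).ne_top ((Ideal.eq_top_iff_one _).2 this)
  refine ⟨V, inferInstance, inferInstance, hV, i.comp g, ⟨fun r hr => ?_⟩, ?_, ?_, hu.unit, ?_, ?_⟩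
  · by_contra h
    exact hi _ (hgm r h) hr
  · have hi' : Function.Injective i := fun x y h => IsFractionRing.injective B (FractionRing B) (congrArg Subtype.val h)
    exact hi'.comp hgi
  · exact hi _ (hgm _ h₁)
  · rw [IsUnit.unit_spec, ← map_one i, ← map_sub]
    exact hi _ hT
  · rw [IsUnit.unit_spec]
    exact (congrArg i hgT).trans (map_mul i _ _)

end Groth.Agent.S13204
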