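import Groth.Statements.S13206
import Mathlib.AlgebraicGeometry.Morphisms.Separated
import Mathlib.Data.Fintype.Basic

set_option autoImplicit false
universe u
open CategoryTheory AlgebraicGeometry
open AlgGrp

namespace Groth.Agent.S13206

/-- Let X → S be a separated morphism of schemes and let a finite group G act on X through
S-automorphisms. Then the functor of G-fixed points is represented by a closed subscheme of X: there
are a scheme Z and a closed immersion i : Z → X with i ∘ g = i for all g ∈ G such that every
morphism x : T → X with g ∘ x = x for all g ∈ G factors uniquely through i. (The published statement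
is for an algebraic space X over S, also treats the locally separated case and notes compatibility
with base change; this row is the separated case for schemes.) -/
theorem result
    {X S : Scheme.{u}} (p : X ⟶ S) [IsSeparated p]
    (G : Type u) [Group G] [Finite G] (ρ : G →* Aut X) (hρ : ∀ g : G, (ρ g).hom ≫ p = p) :
    ∃ (Z : Scheme.{u}) (i : Z ⟶ X), IsClosedImmersion i ∧ (∀ g : G, i ≫ (ρ g).hom = i) ∧
      ∀ (T : Scheme.{u}) (x : T ⟶ X), (∀ g : G, x ≫ (ρ g).hom = x) → ∃! z : T ⟶ Z, z ≫ i = x := by
  classical
  have key : ∀ s : Finset G, ∃ (Z : Scheme.{u}) (i : Z ⟶ X), IsClosedImmersion i ∧ (∀ g ∈ s, i ≫ (ρ g).hom = i) ∧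
      ∀ (T : Scheme.{u}) (x : T ⟶ X), (∀ g ∈ s, x ≫ (ρ g).hom = x) → ∃ z : T ⟶ Z, z ≫ i = x := by
    intro s
    induction s using Finset.induction_on with
    | empty => exact ⟨X, 𝟙 X, inferInstance, by simp, fun T x _ => ⟨x, Category.comp_id x⟩⟩
    | @insert a t hat ih =>
      obtain ⟨Z, i, hi, hfix, huniv⟩ := ih
      have hw : (i ≫ (ρ a).hom) ≫ p = i ≫ p := by rw [Category.assoc, hρ]
      let m : Z ⟶ Limits.pullback p p := Limits.pullback.lift (i ≫ (ρ a).hom) i hw
      let q : Limits.pullback (Limits.pullback.diagonal p) m ⟶ Z := Limits.pullback.snd _ _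
      have hq : IsClosedImmersion q := inferInstanceAs (IsClosedImmersion (Limits.pullback.snd (Limits.pullback.diagonal p) m))
      refine ⟨_, q ≫ i, inferInstance, ?_, fun T x hx => ?_⟩
      · intro g hg
        rcases Finset.mem_insert.mp hg with rfl | hg
        · have h := (Limits.pullback.condition (f := Limits.pullback.diagonal p) (g := m))
          have h1 := congrArg (· ≫ Limits.pullback.fst p p) h
          have h2 := congrArg (· ≫ Limits.pullback.snd p p) h
          simp only [Category.assoc, Limits.pullback.diagonal_fst, Limits.pullback.diagonal_snd, Category.comp_id, m,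
            Limits.pullback.lift_fst, Limits.pullback.lift_snd] at h1 h2
          rw [Category.assoc]
          exact h1.symm.trans h2
        · rw [Category.assoc, hfix g hg]
      · obtain ⟨z, hz⟩ := huniv T x fun g hg => hx g (Finset.mem_insert_of_mem hg)
        refine ⟨Limits.pullback.lift x z ?_, (Limits.pullback.lift_snd_assoc _ _ _ _).trans hz⟩
        apply Limits.pullback.hom_ext <;> simp only [Category.assoc, Limits.pullback.diagonal_fst, Limits.pullback.diagonal_snd,
          Category.comp_id, m, Limits.pullback.lift_fst, Limits.pullback.lift_snd]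
        · rw [reassoc_of% hz, hx a (Finset.mem_insert_self a t)]
        · exact hz.symm
  have := Fintype.ofFinite G
  obtain ⟨Z, i, hi, hfix, huniv⟩ := key Finset.univ
  refine ⟨Z, i, hi, fun g => hfix g (Finset.mem_univ g), fun T x hx => ?_⟩
  obtain ⟨z, hz⟩ := huniv T x fun g _ => hx g
  exact ⟨z, hz, fun y hy => (cancel_mono i).1 (hy.trans hz.symm)⟩

end Groth.Agent.S13206
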