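import Groth.Statements.S13207
import Groth.Agent.H69.NeronLoc
-- import your own Groth.Agent.* helpers here

set_option autoImplicit false
set_option linter.style.haveILetI false
set_option backward.isDefEq.respectTransparency false
open CategoryTheory CategoryTheory.Limits AlgebraicGeometry
universe u
open CategoryTheory CategoryTheory.Limits AlgebraicGeometry
open Neron

namespace Groth.Agent.S13207

open Groth.Agent.H69.NeronLoc

/-- Extension is local on `Y`: it is enough to extend on affine opens. -/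
theorem ext_of_affine' {S N : Scheme.{u}} {Y : Scheme.{u}} (b : Y ⟶ S) (U : S.Opens) (n : N ⟶ S)
    {I : Type u} (P : I → Y.Opens) (hP : ∀ y, ∃ j, y ∈ P j)
    (h : ∀ W : Y.Opens, IsAffineOpen W → (∃ j, W ≤ P j) → Ext (W.ι ≫ b) U n) : Ext b U n := by
  have hinj : ∀ (Z : Scheme.{u}) (i : Z ⟶ Y) [IsOpenImmersion i] (g₁ g₂ : Z ⟶ N),
      g₁ ≫ n = i ≫ b → g₂ ≫ n = i ≫ b →
      ((i ≫ b) ⁻¹ᵁ U).ι ≫ g₁ = ((i ≫ b) ⁻¹ᵁ U).ι ≫ g₂ → g₁ = g₂ := by
    intro Z i _ g₁ g₂ h₁ h₂ e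
    refine Scheme.hom_ext_of_forall _ _ fun z => ?_
    obtain ⟨j, hj⟩ := hP (i z)
    obtain ⟨W, hW, hzW, hWU⟩ := exists_isAffineOpen_mem_and_subset (x := z) (U := i ⁻¹ᵁ P j) hj
    refine ⟨W, hzW, ?_⟩
    have hW' := hW.image_of_isOpenImmersion i
    let k : (W : Scheme.{u}) ≅ ((i ''ᵁ W : Y.Opens) : Scheme.{u}) := i.isoImage W
    have hk : k.inv ≫ W.ι ≫ i = (i ''ᵁ W).ι := i.isoImage_inv_ι W
    rw [← cancel_epi k.inv]
    refine (h _ hW' ⟨j, ?_⟩).1 _ _ ?_ ?_ ?_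
    · rintro _ ⟨w, hw, rfl⟩
      exact hWU hw
    · rw [Category.assoc, Category.assoc, h₁, ← hk, Category.assoc, Category.assoc]
    · rw [Category.assoc, Category.assoc, h₂, ← hk, Category.assoc, Category.assoc]
    · let m : ((((i ''ᵁ W).ι ≫ b) ⁻¹ᵁ U : _) : Scheme.{u}) ⟶ ((i ≫ b) ⁻¹ᵁ U : _) :=
        IsOpenImmersion.lift ((i ≫ b) ⁻¹ᵁ U).ι
          ((((i ''ᵁ W).ι ≫ b) ⁻¹ᵁ U).ι ≫ k.inv ≫ W.ι) (by
            rw [Scheme.Opens.range_ι]
            rintro _ ⟨a, rfl⟩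
            show b ((k.inv ≫ W.ι ≫ i) a.1) ∈ U
            rw [hk]
            exact a.2)
      have hm : m ≫ ((i ≫ b) ⁻¹ᵁ U).ι = (((i ''ᵁ W).ι ≫ b) ⁻¹ᵁ U).ι ≫ k.inv ≫ W.ι :=
        IsOpenImmersion.lift_fac _ _ _
      rw [← reassoc_of% hm, ← reassoc_of% hm, e]
  refine ⟨fun g₁ g₂ h₁ h₂ e => hinj Y (𝟙 Y) g₁ g₂ (by simpa using h₁) (by simpa using h₂) ?_,
    fun g hg => ?_⟩
  · exact (congrArg (fun c : Y ⟶ S => (c ⁻¹ᵁ U).ι ≫ g₁ = (c ⁻¹ᵁ U).ι ≫ g₂) (Category.id_comp b)).mpr e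
  let J := {W : Y.Opens // IsAffineOpen W ∧ ∃ j, W ≤ P j}
  have hJ : ∀ y : Y, ∃ W : J, y ∈ W.1 := fun y => by
    obtain ⟨j, hj⟩ := hP y
    obtain ⟨W, hW, hy, hWU⟩ := exists_isAffineOpen_mem_and_subset (x := y) (U := P j) hj
    exact ⟨⟨W, hW, j, hWU⟩, hy⟩
  let 𝒰 := Y.openCoverOfIsOpenCover (fun W : J => (W : Y.Opens))
    (TopologicalSpace.IsOpenCover.mk (eq_top_iff.2 fun y _ => TopologicalSpace.Opens.mem_iSup.2 (hJ y)))
  let r : ∀ W : J, ((((W : Y.Opens).ι ≫ b) ⁻¹ᵁ U : _) : Scheme.{u}) ⟶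
      ((b ⁻¹ᵁ U : Y.Opens) : Scheme.{u}) := fun W => (W : Y.Opens).ι ∣_ (b ⁻¹ᵁ U)
  have hr : ∀ W, r W ≫ (b ⁻¹ᵁ U).ι = (((W : Y.Opens).ι ≫ b) ⁻¹ᵁ U).ι ≫ (W : Y.Opens).ι :=
    fun W => morphismRestrict_ι _ _
  choose G hG hGg using fun W : J => (h W W.2.1 W.2.2).2 (r W ≫ g) (by
    rw [Category.assoc, hg, reassoc_of% (hr W)])
  have hcompat : ∀ x y, pullback.fst (𝒰.f x) (𝒰.f y) ≫ G x = pullback.snd (𝒰.f x) (𝒰.f y) ≫ G y := by
    rintro (x : J) (y : J)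
    haveI : IsOpenImmersion (pullback.fst (𝒰.f x) (𝒰.f y) ≫ 𝒰.f x) := inferInstance
    refine hinj _ (pullback.fst (𝒰.f x) (𝒰.f y) ≫ 𝒰.f x) _ _ ?_ ?_ ?_
    · rw [Category.assoc, hG, Category.assoc]; rfl
    · rw [Category.assoc, hG, pullback.condition, Category.assoc]; rfl
    · let Q := ((pullback.fst (𝒰.f x) (𝒰.f y) ≫ 𝒰.f x) ≫ b) ⁻¹ᵁ U
      let qx : (Q : Scheme.{u}) ⟶ _ := IsOpenImmersion.lift ((((x : Y.Opens).ι ≫ b) ⁻¹ᵁ U)).ι
        (Q.ι ≫ pullback.fst (𝒰.f x) (𝒰.f y)) (by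
          rw [Scheme.Opens.range_ι]; rintro _ ⟨a, rfl⟩; exact a.2)
      let qy : (Q : Scheme.{u}) ⟶ _ := IsOpenImmersion.lift ((((y : Y.Opens).ι ≫ b) ⁻¹ᵁ U)).ι
        (Q.ι ≫ pullback.snd (𝒰.f x) (𝒰.f y)) (by
          rw [Scheme.Opens.range_ι]; rintro _ ⟨a, rfl⟩
          show b (((pullback.snd (𝒰.f x) (𝒰.f y)) ≫ 𝒰.f y) a.1) ∈ U
          rw [← pullback.condition]; exact a.2)
      have hx : qx ≫ _ = Q.ι ≫ pullback.fst (𝒰.f x) (𝒰.f y) := IsOpenImmersion.lift_fac _ _ _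
      have hy : qy ≫ _ = Q.ι ≫ pullback.snd (𝒰.f x) (𝒰.f y) := IsOpenImmersion.lift_fac _ _ _
      rw [← reassoc_of% hx, ← reassoc_of% hy, hGg, hGg]
      have hq : qx ≫ r x = qy ≫ r y := by
        rw [← cancel_mono (b ⁻¹ᵁ U).ι, Category.assoc, Category.assoc, hr, hr, reassoc_of% hx,
          reassoc_of% hy]
        exact congrArg _ pullback.condition
      rw [reassoc_of% hq]
  refine ⟨𝒰.glueMorphisms G hcompat, ?_, ?_⟩
  · refine Scheme.Cover.hom_ext 𝒰 _ _ fun x => ?_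
    rw [← Category.assoc, Scheme.Cover.ι_glueMorphisms, hG]; rfl
  · refine Scheme.hom_ext_of_forall _ _ fun z => ?_
    obtain ⟨⟨W, hW⟩, hzW⟩ := hJ z.1
    refine ⟨(b ⁻¹ᵁ U).ι ⁻¹ᵁ W, hzW, ?_⟩
    let l : ((((b ⁻¹ᵁ U).ι ⁻¹ᵁ W : _)) : Scheme.{u}) ⟶ ((((W.ι ≫ b) ⁻¹ᵁ U : _)) : Scheme.{u}) :=
      IsOpenImmersion.lift ((W.ι ≫ b) ⁻¹ᵁ U).ι ((b ⁻¹ᵁ U).ι ∣_ W) (by
        rw [Scheme.Opens.range_ι]; rintro _ ⟨a, rfl⟩
        show b ((((b ⁻¹ᵁ U).ι ∣_ W) ≫ W.ι) a) ∈ U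
        rw [morphismRestrict_ι]
        exact a.1.2)
    have hl : l ≫ _ = (b ⁻¹ᵁ U).ι ∣_ W := IsOpenImmersion.lift_fac _ _ _
    rw [← morphismRestrict_ι_assoc, ← reassoc_of% hl]
    have h1 : W.ι ≫ 𝒰.glueMorphisms G hcompat = G ⟨W, hW⟩ :=
      Scheme.Cover.ι_glueMorphisms 𝒰 G hcompat ⟨W, hW⟩
    rw [h1]
    erw [hGg ⟨W, hW⟩]
    have h2 : l ≫ r ⟨W, hW⟩ = ((b ⁻¹ᵁ U).ι ⁻¹ᵁ W).ι := by
      rw [← cancel_mono (b ⁻¹ᵁ U).ι, Category.assoc, hr, reassoc_of% hl, morphismRestrict_ι]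
    rw [reassoc_of% h2]

theorem ext_iff_of_isPullback {S N L N' Y : Scheme.{u}} {σ : L ⟶ S} {n : N ⟶ S} {n' : N' ⟶ L}
    {p : N' ⟶ N} (hp : IsPullback p n' n σ) (b : Y ⟶ L) (U : S.Opens) :
    Ext (b ≫ σ) U n ↔ Ext b (σ ⁻¹ᵁ U) n' := by
  constructor
  · intro h
    refine ⟨fun g₁ g₂ h₁ h₂ e => hp.hom_ext (h.1 (g₁ ≫ p) (g₂ ≫ p) ?_ ?_ ?_) (h₁.trans h₂.symm),
      fun g hg => ?_⟩
    · rw [Category.assoc, hp.w, reassoc_of% h₁]
    · rw [Category.assoc, hp.w, reassoc_of% h₂]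
    · exact (Category.assoc _ _ _).symm.trans ((congrArg (· ≫ p) e).trans (Category.assoc _ _ _))
    · obtain ⟨G, hG, hGg⟩ := h.2 (g ≫ p) (by rw [Category.assoc, hp.w, reassoc_of% hg]; rfl)
      exact ⟨hp.lift G b hG, hp.lift_snd _ _ _, hp.hom_ext
        (by rw [Category.assoc, hp.lift_fst]; exact hGg)
        (by rw [Category.assoc, hp.lift_snd, hg])⟩
  · intro h
    refine ⟨fun g₁ g₂ h₁ h₂ e => ?_, fun g hg => ?_⟩
    · have := h.1 (hp.lift g₁ b h₁) (hp.lift g₂ b h₂) (hp.lift_snd _ _ _) (hp.lift_snd _ _ _)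
        (hp.hom_ext (by rw [Category.assoc, Category.assoc, hp.lift_fst, hp.lift_fst]; exact e)
          (by simp only [Category.assoc, hp.lift_snd]))
      simpa only [hp.lift_fst] using congrArg (· ≫ p) this
    · let O := b ⁻¹ᵁ (σ ⁻¹ᵁ U)
      let g' : (O : Scheme.{u}) ⟶ N' := hp.lift g (O.ι ≫ b) (hg.trans (Category.assoc _ _ _).symm)
      obtain ⟨G, hG, hGg⟩ := h.2 g' (hp.lift_snd _ _ _)
      refine ⟨G ≫ p, by rw [Category.assoc, hp.w, reassoc_of% hG], ?_⟩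
      exact (Category.assoc _ _ _).symm.trans ((congrArg (· ≫ p) hGg).trans (hp.lift_fst _ _ _))

theorem isPullback_sigmaMap {I : Type u} (B N : I → Scheme.{u}) (f : ∀ i, N i ⟶ B i) (i : I) :
    IsPullback (Sigma.ι N i) (f i) (Limits.Sigma.map f) (Sigma.ι B i) := by
  refine (IsOpenImmersion.isPullback (f i) (Sigma.ι N i) (Sigma.ι B i) (Limits.Sigma.map f)
    (Sigma.ι_map f i) ?_).flip
  ext z
  constructor
  · rintro ⟨y, hy⟩
    obtain ⟨j, x, rfl⟩ := (sigmaOpenCover N).exists_eq z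
    have h2 : Limits.Sigma.map f (Sigma.ι N j x) = Sigma.ι B j (f j x) := by
      rw [← Scheme.Hom.comp_apply, ← Scheme.Hom.comp_apply, Sigma.ι_map]
    have h3 : Sigma.ι B i y = Sigma.ι B j (f j x) := hy.trans h2
    obtain rfl : i = j := congrArg Sigma.fst ((sigmaι_eq_iff B i j y (f j x)).1 h3)
    exact ⟨x, rfl⟩
  · rintro ⟨x, rfl⟩
    refine ⟨f i x, ?_⟩
    rw [← Scheme.Hom.comp_apply, ← Scheme.Hom.comp_apply, Sigma.ι_map]

/-- Let (S_i)_{i ∈ I} be a family of schemes, (N_i → S_i)_{i ∈ I} morphisms of schemes, S = ∐ S_i and N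
= ∐ N_i with the induced morphism N → S, and U ⊆ S a schematically dense open subscheme with
preimages U_i ⊆ S_i. Then N → S is smooth with the Néron mapping property with respect to U — for
every smooth S-scheme Y, restriction to U is a bijection from S-morphisms Y → N onto U-morphisms Y
×_S U → N ×_S U — if and only if every N_i → S_i is smooth with the Néron mapping property with
respect to U_i. (The published statement is for algebraic spaces N_i tested against smooth algebraic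
spaces, and has the same form for separated models; this row is the not-necessarily-separated case
for schemes tested against smooth schemes.) -/
theorem result
    {I : Type u} (B N : I → Scheme.{u}) (f : ∀ i, N i ⟶ B i)
    (U : (∐ B).Opens) (hU : CInt.IsSchematicallyDense U) :
    (Smooth (Limits.Sigma.map f) ∧ ∀ Y : Over (∐ B), Smooth Y.hom →
        Function.Bijective (fun g : Y ⟶ Over.mk (Limits.Sigma.map f) => (Over.pullback U.ι).map g)) ↔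
    ∀ i, Smooth (f i) ∧ ∀ Y : Over (B i), Smooth Y.hom →
        Function.Bijective (fun g : Y ⟶ Over.mk (f i) => (Over.pullback ((Limits.Sigma.ι B i) ⁻¹ᵁ U).ι).map g) := by
  have hp := isPullback_sigmaMap B N f
  constructor
  · rintro ⟨hs, h⟩ i
    refine ⟨MorphismProperty.of_isPullback (hp i) hs, fun Y hY => (bijective_iff _ Y _).2 ?_⟩
    haveI := hY
    exact (ext_iff_of_isPullback (hp i) Y.hom U).1
      ((bijective_iff U (Over.mk (Y.hom ≫ Sigma.ι B i)) _).1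
        (h (Over.mk (Y.hom ≫ Sigma.ι B i)) (inferInstanceAs (Smooth (Y.hom ≫ Sigma.ι B i)))))
  · intro h
    refine ⟨IsZariskiLocalAtTarget.of_openCover (P := @Smooth) (sigmaOpenCover B) fun i => ?_,
      fun Y hY => (bijective_iff U Y _).2 ?_⟩
    · haveI := (h i).1
      show Smooth (pullback.snd (Limits.Sigma.map f) (Sigma.ι B i))
      rw [← (hp i).isoPullback_inv_snd]
      infer_instance
    haveI := hY
    refine ext_of_affine' Y.hom U _ (fun i => Y.hom ⁻¹ᵁ (Sigma.ι B i).opensRange) (fun y => ?_)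
      fun W _ hW => ?_
    · obtain ⟨j, x, hx⟩ := (sigmaOpenCover B).exists_eq (Y.hom y)
      exact ⟨j, x, hx⟩
    obtain ⟨i, hi⟩ := hW
    let b' : (W : Scheme.{u}) ⟶ B i := IsOpenImmersion.lift (Sigma.ι B i) (W.ι ≫ Y.hom) (by
      rintro _ ⟨w, rfl⟩
      exact hi w.2)
    have hb : b' ≫ Sigma.ι B i = W.ι ≫ Y.hom := IsOpenImmersion.lift_fac _ _ _
    rw [← hb]
    haveI : Smooth b' := by
      haveI : Smooth (b' ≫ Sigma.ι B i) := hb ▸ inferInstance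
      exact MorphismProperty.of_postcomp (W := @Smooth) (W' := @IsOpenImmersion) b' (Sigma.ι B i)
        inferInstance ‹_›
    exact (ext_iff_of_isPullback (hp i) b' U).2
      ((bijective_iff _ (Over.mk b') _).1 ((h i).2 (Over.mk b') ‹Smooth b'›))

end Groth.Agent.S13207
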