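import Groth.Statements.S19894
import Groth.Agent.H24.PowerSeries
import Groth.Agent.H21.PopescuApprox
import Groth.Agent.H21.ApproxNbhdIso
import Groth.Agent.Lib.Smoothing.ArtinApprox
import Mathlib.RingTheory.Henselian
import Mathlib.RingTheory.UniqueFactorizationDomain.Basic

set_option autoImplicit false
universe u
open IsLocalRing
open Hensel

namespace Groth.Agent.S19894

open MvPowerSeries in
/-- Let R be a strictly henselian (henselian with separably closed residue field) excellent Noetherian
local domain which is a unique factorization domain and whose completion R^ at the maximal ideal is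
also a unique factorization domain; let Δ ≠ 0 and t₁, t₂ be elements of the maximal ideal of R with
t₁ t₂ = Δ, and let C be a local R-algebra, essentially of finite type over R with local structure
map, given with a ring isomorphism ψ from the completion C^ of C onto R^[[u,v]]/(uv − Δ) compatible
with the structure maps from R. Then there are an R-algebra homomorphism g : C → R and a ring
homomorphism ĝ : C^ → R^ inducing g (ĝ restricted to C is g followed by R → R^) such that ĝ(ψ⁻¹(u))
generates the ideal t₁R^ and ĝ(ψ⁻¹(v)) generates t₂R^. (This is the local-ring form of the statement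
that, for a base scheme S with étale local ring R at a geometric point s̄, an S-scheme X of finite
presentation and a closed point x of the geometric fibre whose completed étale local ring is
presented as R^[[u,v]]/(uv − Δ), some étale neighbourhood of s̄ carries a section of X through x
sending u, v to generators of (t₁), (t₂); the retraction g of the local ring C of X ×_S Spec R at x
is such a section by finite presentation. The source assumes S excellent and smooth-factorial and
takes R^ to be factorial; here the properties of R that the argument uses are assumed directly, so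
that the statement covers in particular every strictly henselian excellent regular local ring. The
published statement allows Δ = 0; this one assumes Δ ≠ 0.) -/
theorem result
    (R : Type u) [CommRing R] [IsNoetherianRing R] [IsDomain R] [UniqueFactorizationMonoid R] [HenselianLocalRing R]
    [IsSepClosed (ResidueField R)] (hR : EGA4.IsExcellent R)
    [IsDomain (AdicCompletion (maximalIdeal R) R)] [UniqueFactorizationMonoid (AdicCompletion (maximalIdeal R) R)]
    (Δ t₁ t₂ : R) (hΔ : Δ ≠ 0) (ht₁ : t₁ ∈ maximalIdeal R) (ht₂ : t₂ ∈ maximalIdeal R) (ht : t₁ * t₂ = Δ)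
    (C : Type u) [CommRing C] [IsLocalRing C] [Algebra R C] [IsLocalHom (algebraMap R C)]
    [Algebra.EssFiniteType R C]
    (ψ : AdicCompletion (maximalIdeal C) C ≃+*
      (MvPowerSeries (Fin 2) (AdicCompletion (maximalIdeal R) R) ⧸
        Ideal.span {(X 0 * X 1 - MvPowerSeries.C (algebraMap R (AdicCompletion (maximalIdeal R) R) Δ) :
          MvPowerSeries (Fin 2) (AdicCompletion (maximalIdeal R) R))}))
    (hψ : ψ.toRingHom.comp ((algebraMap C (AdicCompletion (maximalIdeal C) C)).comp (algebraMap R C)) =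
      (Ideal.Quotient.mk _).comp ((MvPowerSeries.C : AdicCompletion (maximalIdeal R) R →+*
        MvPowerSeries (Fin 2) (AdicCompletion (maximalIdeal R) R)).comp
          (algebraMap R (AdicCompletion (maximalIdeal R) R)))) :
    ∃ (g : C →ₐ[R] R) (ĝ : AdicCompletion (maximalIdeal C) C →+* AdicCompletion (maximalIdeal R) R),
      ĝ.comp (algebraMap C (AdicCompletion (maximalIdeal C) C)) =
        (algebraMap R (AdicCompletion (maximalIdeal R) R)).comp g.toRingHom ∧
      Ideal.span {ĝ (ψ.symm (Ideal.Quotient.mk _ (X 0)))} =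
        Ideal.span {algebraMap R (AdicCompletion (maximalIdeal R) R) t₁} ∧
      Ideal.span {ĝ (ψ.symm (Ideal.Quotient.mk _ (X 1)))} =
        Ideal.span {algebraMap R (AdicCompletion (maximalIdeal R) R) t₂} := by
  classical
  let Rh := AdicCompletion (maximalIdeal R) R
  let ι : R →+* Rh := algebraMap R Rh
  -- finitely many divisors up to units
  have hι : Function.Injective ι := by
    refine (injective_iff_map_eq_zero ι).mpr fun a ha => ?_
    have h1 : a ∈ ⨅ n : ℕ, maximalIdeal R ^ n := Submodule.mem_iInf _ |>.mpr fun n => by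
      have h2 := congrArg (AdicCompletion.evalₐ (maximalIdeal R) n) ha
      rw [AlgHom.commutes, map_zero] at h2
      exact Ideal.Quotient.eq_zero_iff_mem.mp h2
    rwa [Ideal.iInf_pow_eq_bot_of_isLocalRing _ (maximalIdeal.isMaximal R).ne_top, Ideal.mem_bot] at h1
  have hΔh : ι Δ ≠ 0 := fun h => hΔ (hι (h.trans (map_zero ι).symm))
  have hdiv : ∀ z : Rh, z ≠ 0 → {J : Ideal Rh | ∃ a, a ∣ z ∧ J = Ideal.span {a}}.Finite := by
    intro z
    induction z using UniqueFactorizationMonoid.induction_on_prime with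
    | h₁ => exact fun h => absurd rfl h
    | h₂ x hx =>
      exact fun _ => (Set.finite_singleton ⊤).subset fun J ⟨a, ha, hJ⟩ =>
        hJ.trans (Ideal.span_singleton_eq_top.mpr (isUnit_of_dvd_unit ha hx))
    | h₃ a p ha hp ih =>
      intro hpa
      refine ((ih ha).union ((ih ha).image fun J => Ideal.span {p} * J)).subset ?_
      rintro J ⟨d, hd, rfl⟩
      by_cases hpd : p ∣ d
      · obtain ⟨d', rfl⟩ := hpd
        refine Or.inr ⟨Ideal.span {d'}, ⟨d', (mul_dvd_mul_iff_left hp.ne_zero).mp hd, rfl⟩, ?_⟩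
        exact Ideal.span_singleton_mul_span_singleton p d'
      · obtain ⟨k, hk⟩ := hd
        obtain ⟨k', rfl⟩ : p ∣ k := (hp.dvd_mul.mp ⟨a, hk.symm⟩).resolve_left hpd
        refine Or.inl ⟨d, ⟨k', mul_left_cancel₀ hp.ne_zero ?_⟩, rfl⟩
        rw [hk]; ring
  have hclosed : ∀ (J : Ideal Rh) (t : Rh), t ∉ J → ∃ N, ∀ M, N ≤ M → ∀ j ∈ J, t - j ∉ maximalIdeal Rh ^ M := by
    intro J t htJ
    by_contra hcon
    push Not at hcon
    have hJ : J ≠ ⊤ := fun h => htJ (h ▸ Submodule.mem_top)
    haveI : Nontrivial (Rh ⧸ J) := Ideal.Quotient.nontrivial_iff.mpr hJ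
    haveI : IsLocalRing (Rh ⧸ J) := .of_surjective' _ Ideal.Quotient.mk_surjective
    refine htJ (Ideal.Quotient.eq_zero_iff_mem.mp ?_)
    have h1 : Ideal.Quotient.mk J t ∈ ⨅ n : ℕ, maximalIdeal (Rh ⧸ J) ^ n := Submodule.mem_iInf _ |>.mpr fun n => by
      obtain ⟨M, hM, j, hj, hjt⟩ := hcon n
      have h2 := Ideal.mem_map_of_mem (Ideal.Quotient.mk J) hjt
      rw [Ideal.map_pow, IsLocalRing.map_maximalIdeal_of_surjective _ Ideal.Quotient.mk_surjective,
        map_sub, Ideal.Quotient.eq_zero_iff_mem.mpr hj, sub_zero] at h2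
      exact Ideal.pow_le_pow_right hM h2
    rwa [Ideal.iInf_pow_eq_bot_of_isLocalRing _ (maximalIdeal.isMaximal _).ne_top, Ideal.mem_bot] at h1
  -- the order of approximation
  obtain ⟨N, hN1, hN⟩ : ∃ N, 1 ≤ N ∧ ∀ a, a ∣ ι Δ → ∀ t, (t = ι t₁ ∨ t = ι t₂) → t - a ∈ maximalIdeal Rh ^ N → a ∣ t := by
    have hfin := hdiv _ hΔh
    choose! Nf hNf using hclosed
    refine ⟨(hfin.toFinset.sup fun J => max (Nf J (ι t₁)) (Nf J (ι t₂))) + 1, by omega, fun a ha t ht hta => ?_⟩
    by_contra hat
    have hJ : Ideal.span {a} ∈ hfin.toFinset := hfin.mem_toFinset.mpr ⟨a, ha, rfl⟩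
    have h1 := Finset.le_sup (f := fun J => max (Nf J (ι t₁)) (Nf J (ι t₂))) hJ
    refine hNf (Ideal.span {a}) t (fun h => hat (Ideal.mem_span_singleton.mp h)) _ ?_ a
      (Ideal.mem_span_singleton_self a) hta
    rcases ht with rfl | rfl <;> omega
  -- the formal section
  obtain ⟨f, hf⟩ := Groth.Agent.H24.PowerSeries.exists_hom (A := Rh) (maximalIdeal Rh) ![ι t₁, ι t₂]
    (fun i => by
      fin_cases i
      · exact map_nonunit ι t₁ ht₁
      · exact map_nonunit ι t₂ ht₂)
  let rel : MvPowerSeries (Fin 2) Rh := MvPowerSeries.X 0 * MvPowerSeries.X 1 - MvPowerSeries.C (ι Δ)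
  have hfC : ∀ a : Rh, f (MvPowerSeries.C a) = a := fun a => by
    have := f.commutes a
    simpa [MvPowerSeries.algebraMap_apply] using this
  have hrel : ∀ z ∈ Ideal.span {rel}, f z = 0 := by
    intro z hz
    obtain ⟨w, rfl⟩ := Ideal.mem_span_singleton.mp hz
    rw [map_mul]
    simp only [rel, map_sub, map_mul, hf, hfC]
    simp [← map_mul, ht]
  let fb : (MvPowerSeries (Fin 2) Rh ⧸ Ideal.span {rel}) →+* Rh := Ideal.Quotient.lift _ f.toRingHom hrel
  haveI : IsNoetherianRing C := Algebra.EssFiniteType.isNoetherianRing R C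
  let σh : AdicCompletion (maximalIdeal C) C →+* Rh := fb.comp ψ.toRingHom
  have hσsurj : Function.Surjective σh := fun a =>
    ⟨ψ.symm (Ideal.Quotient.mk _ (MvPowerSeries.C a)), by
      show fb (ψ (ψ.symm _)) = a
      rw [ψ.apply_symm_apply]
      exact hfC a⟩
  let σ : C →+* Rh := σh.comp (algebraMap C _)
  have hσR : ∀ r, σ (algebraMap R C r) = ι r := fun r => by
    have h := congrArg fb (RingHom.congr_fun hψ r)
    exact h.trans (hfC _)
  have hσh : ∀ (n : ℕ), ∀ z ∈ maximalIdeal (AdicCompletion (maximalIdeal C) C) ^ n, σh z ∈ maximalIdeal Rh ^ n := by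
    intro n z hz
    have h1 := Ideal.mem_map_of_mem σh hz
    rwa [Ideal.map_pow, IsLocalRing.map_maximalIdeal_of_surjective σh hσsurj] at h1
  -- approximation
  let P := Algebra.EssFiniteType.subalgebra R C
  haveI : Algebra.FinitePresentation R P := Algebra.FinitePresentation.of_finiteType.mp inferInstance
  let φ : P →ₐ[R] Rh :=
    { σ.comp P.val.toRingHom with
      commutes' := fun r => hσR r }
  obtain ⟨τ, hτ⟩ := Groth.Agent.H21.PopescuApprox.exists_algHom (maximalIdeal R)
    (Groth.Agent.Lib.Smoothing.ArtinApprox.isRegularHom_completion hR.2.2.1) P φ N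
  have hcong : ∀ s : P, ι (τ s) - σ s ∈ maximalIdeal Rh ^ N := fun s => by
    rw [AdicCompletion.maximalIdeal_eq_map, ← Ideal.map_pow]
    refine Groth.Agent.H21.PopescuApprox.ker_evalₐ_le _ N _ ?_
    rw [map_sub, AlgHom.commutes, sub_eq_zero]
    exact hτ s
  have hτu : ∀ s : Algebra.EssFiniteType.submonoid R C, IsUnit (τ s.1) := by
    intro s
    by_contra h
    have h1 : ι (τ s.1) ∈ maximalIdeal Rh := map_nonunit ι _ h
    have h2 : IsUnit (σ s.1.1) := (s.2 : IsUnit (algebraMap P C s.1)).map σ
    refine (maximalIdeal.isMaximal Rh).ne_top ((maximalIdeal Rh).eq_top_of_isUnit_mem ?_ h2)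
    simpa using sub_mem h1 (Ideal.pow_le_self (by omega) (hcong s.1))
  let g₀ : C →+* R := IsLocalization.lift (M := Algebra.EssFiniteType.submonoid R C) (g := τ.toRingHom) hτu
  let g : C →ₐ[R] R :=
    { g₀ with
      commutes' := fun r => by
        show g₀ (algebraMap R C r) = r
        rw [IsScalarTower.algebraMap_apply R P C, IsLocalization.lift_eq]
        exact τ.commutes r }
  have hgσ : ∀ c : C, ι (g c) - σ c ∈ maximalIdeal Rh ^ N := fun c => Ideal.Quotient.eq.mp
    (RingHom.congr_fun (f := (Ideal.Quotient.mk (maximalIdeal Rh ^ N)).comp (ι.comp g.toRingHom))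
      (g := (Ideal.Quotient.mk (maximalIdeal Rh ^ N)).comp σ)
      (IsLocalization.ringHom_ext (Algebra.EssFiniteType.submonoid R C) (RingHom.ext fun s => by
        show Ideal.Quotient.mk _ (ι (g₀ (algebraMap P C s))) = Ideal.Quotient.mk _ (σ (algebraMap P C s))
        rw [IsLocalization.lift_eq, Ideal.Quotient.eq]
        exact hcong s)) c)
  haveI hgl : IsLocalHom g.toRingHom := Function.Surjective.isLocalHom _ fun r => ⟨algebraMap R C r, g.commutes r⟩
  have hle : ∀ n, maximalIdeal C ^ n ≤ (maximalIdeal R ^ n).comap g.toRingHom := fun n => by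
    refine Ideal.map_le_iff_le_comap.mp ?_
    rw [Ideal.map_pow]
    exact Ideal.pow_right_mono (map_maximalIdeal_le g.toRingHom) n
  let G : ∀ n, AdicCompletion (maximalIdeal C) C →+* R ⧸ maximalIdeal R ^ n := fun n =>
    (Ideal.quotientMap _ g.toRingHom (hle n)).comp (AdicCompletion.evalₐ (maximalIdeal C) n).toRingHom
  have hG : ∀ {m n : ℕ} (h : m ≤ n), (Ideal.Quotient.factorPow (maximalIdeal R) h).comp (G n) = G m := by
    intro m n h
    refine RingHom.ext fun z => ?_
    obtain ⟨a, ha⟩ := Ideal.Quotient.mk_surjective (AdicCompletion.evalₐ (maximalIdeal C) n z)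
    show Ideal.Quotient.factorPow (maximalIdeal R) h (Ideal.quotientMap _ g.toRingHom (hle n) (AdicCompletion.evalₐ (maximalIdeal C) n z)) =
      Ideal.quotientMap _ g.toRingHom (hle m) (AdicCompletion.evalₐ (maximalIdeal C) m z)
    rw [← Groth.Agent.H21.ApproxNbhdEtale.factorPow_evalₐ _ h z, ← ha]
    rfl
  let gh := AdicCompletion.liftRingHom (maximalIdeal R) G hG
  have hgh : gh.comp (algebraMap C _) = ι.comp g.toRingHom := by
    refine RingHom.ext fun c => AdicCompletion.ext_evalₐ fun n => ?_
    show AdicCompletion.evalₐ _ n (gh (algebraMap C _ c)) = AdicCompletion.evalₐ _ n (ι (g c))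
    rw [AdicCompletion.evalₐ_liftRingHom, AlgHom.commutes]
    show Ideal.quotientMap _ g.toRingHom (hle n) (AdicCompletion.evalₐ (maximalIdeal C) n (algebraMap C _ c)) = _
    rw [AlgHom.commutes]
    rfl
  have hghσ : ∀ z, gh z - σh z ∈ maximalIdeal Rh ^ N := by
    intro z
    obtain ⟨c, hc⟩ := Ideal.Quotient.mk_surjective (AdicCompletion.evalₐ (maximalIdeal C) N z)
    have hz : z - algebraMap C _ c ∈ maximalIdeal (AdicCompletion (maximalIdeal C) C) ^ N := by
      rw [← Groth.Agent.H21.ApproxNbhdIso.ker_evalₐ_iff, map_sub, AlgHom.commutes, ← hc, sub_eq_zero]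
      rfl
    have h1 : gh (z - algebraMap C _ c) ∈ maximalIdeal Rh ^ N := by
      rw [← Groth.Agent.H21.ApproxNbhdIso.ker_evalₐ_iff, AdicCompletion.evalₐ_liftRingHom]
      show Ideal.quotientMap _ g.toRingHom (hle N) (AdicCompletion.evalₐ (maximalIdeal C) N _) = 0
      rw [(Groth.Agent.H21.ApproxNbhdIso.ker_evalₐ_iff N _).mpr hz, map_zero]
    have h2 : gh (algebraMap C _ c) - σh (algebraMap C _ c) ∈ maximalIdeal Rh ^ N := by
      rw [show gh (algebraMap C _ c) = ι (g c) from RingHom.congr_fun hgh c]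
      exact hgσ c
    have h3 : gh z - σh z = gh (z - algebraMap C _ c) + (gh (algebraMap C _ c) - σh (algebraMap C _ c)) - σh (z - algebraMap C _ c) := by
      rw [map_sub, map_sub]; ring
    rw [h3]
    exact sub_mem (add_mem h1 h2) (hσh N _ hz)
  refine ⟨g, gh, hgh, ?_⟩
  let u := ψ.symm (Ideal.Quotient.mk _ (MvPowerSeries.X 0))
  let v := ψ.symm (Ideal.Quotient.mk _ (MvPowerSeries.X 1))
  have hu : σh u = ι t₁ := (congrArg fb (ψ.apply_symm_apply _)).trans (hf 0)
  have hv : σh v = ι t₂ := (congrArg fb (ψ.apply_symm_apply _)).trans (hf 1)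
  have huv : gh u * gh v = ι Δ := by
    have h0 : u * v = algebraMap C _ (algebraMap R C Δ) := by
      apply ψ.injective
      rw [map_mul, ψ.apply_symm_apply, ψ.apply_symm_apply,
        show ψ (algebraMap C _ (algebraMap R C Δ)) = _ from RingHom.congr_fun hψ Δ]
      exact Ideal.Quotient.eq.mpr (Ideal.mem_span_singleton_self _)
    rw [← map_mul, h0, show gh (algebraMap C _ (algebraMap R C Δ)) = ι (g (algebraMap R C Δ)) from RingHom.congr_fun hgh _, AlgHom.commutes]
    rfl
  have ha : gh u ∣ ι t₁ := hN _ ⟨_, huv.symm⟩ _ (Or.inl rfl) (by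
    rw [← hu, ← neg_sub]; exact neg_mem (hghσ u))
  have hb : gh v ∣ ι t₂ := hN _ ⟨gh u, by rw [mul_comm, huv]⟩ _ (Or.inr rfl) (by
    rw [← hv, ← neg_sub]; exact neg_mem (hghσ v))
  obtain ⟨x, hx⟩ := ha
  obtain ⟨y, hy⟩ := hb
  have hxy : x * y = 1 := by
    refine mul_left_cancel₀ hΔh ?_
    rw [mul_one]
    conv_lhs => rw [← huv]
    rw [mul_mul_mul_comm, ← hx, ← hy, ← map_mul, ht]
  constructor
  · exact Ideal.span_singleton_eq_span_singleton.mpr
      ⟨(IsUnit.of_mul_eq_one _ hxy).unit, hx.symm⟩
  · exact Ideal.span_singleton_eq_span_singleton.mpr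
      ⟨(IsUnit.of_mul_eq_one _ ((mul_comm y x).trans hxy)).unit, hy.symm⟩

end Groth.Agent.S19894
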