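import Groth.Statements.S13209
import Groth.Agent.Lib.AlgSpace.Local
import Groth.Agent.Lib.AlgSpace.Props

set_option autoImplicit false
universe u
open CategoryTheory CategoryTheory.Limits AlgebraicGeometry
open Neron

namespace Groth.Agent.S13209

/-- Let S be a scheme, U ⊆ S a schematically dense open subscheme and N → S a smooth S-scheme with the
Néron mapping property for schemes with respect to U: for every smooth S-scheme Y, composition with
the projection Y ×_S U → Y is a bijection from S-morphisms Y → N onto S-morphisms Y ×_S U → N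
(equivalently, onto U-morphisms Y ×_S U → N ×_S U). Then N also has the Néron mapping property with
respect to smooth algebraic spaces: for every algebraic space F over S (an fppf sheaf of sets on
S-schemes with representable diagonal and an étale surjective chart from a scheme) whose structure
map to h_S is smooth, composition with the first projection F × h_U → F is a bijection from
morphisms of sheaves F → h_N onto morphisms F × h_U → h_N. -/
theorem result
    {S : Scheme.{u}} (U : S.Opens) (hU : CInt.IsSchematicallyDense U) (N : Over S) [Smooth N.hom]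
    (hN : ∀ Y : Over S, Smooth Y.hom →
      Function.Bijective (fun g : Y ⟶ N => (Over.mapPullbackAdj U.ι).counit.app Y ≫ g))
    (F : AlgSp.Sp S) (hF : AlgSp.IsAlgSpace F)
    (sF : F ⟶ (AlgSp.yon S).obj (Over.mk (𝟙 S))) (hsm : AlgSp.LocP @Smooth sF) :
    Function.Bijective (fun φ : F ⟶ (AlgSp.yon S).obj N =>
      (Limits.prod.fst : F ⨯ (AlgSp.yon S).obj (Over.mk U.ι) ⟶ F) ≫ φ) := by
  obtain ⟨V, p, hpe, hps⟩ := hF.atlas
  have hls : Sheaf.IsLocallySurjective p := Lib.AlgSpace.isLocallySurjective_of_etale hpe hps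
  have : Epi p := inferInstance
  obtain ⟨e, he⟩ := (AlgSp.yon S).map_surjective (p ≫ sF)
  have hVsm : Smooth V.hom := by
    have h : Smooth e.left := hsm p (𝟙 _) e hpe (AlgSp.repWith_id _ _) (by rw [Category.comp_id, he])
    rwa [show e.left = V.hom from (Category.comp_id _).symm.trans (Over.w e)] at h
  have sqR := hpe.rep.isPullback' p
  let R := hpe.rep.pullback p
  let fs : R ⟶ V := hpe.rep.fst' p
  let ss : R ⟶ V := hpe.rep.snd p
  have hRsm : Smooth R.hom := by
    have hs : Etale ss.left := Lib.AlgSpace.repWith_property hpe sqR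
    rw [← Over.w ss]
    infer_instance
  let G := Over.map U.ι
  let P := Over.pullback U.ι
  let c := (Over.mapPullbackAdj U.ι).counit
  let toU : ∀ Y : Over S, G.obj (P.obj Y) ⟶ Over.mk U.ι := fun Y =>
    Over.homMk (pullback.snd Y.hom U.ι) rfl
  let q : (AlgSp.yon S).obj (G.obj (P.obj V)) ⟶ F ⨯ (AlgSp.yon S).obj (Over.mk U.ι) :=
    prod.lift ((AlgSp.yon S).map (c.app V) ≫ p) ((AlgSp.yon S).map (toU V))
  refine ⟨fun φ₁ φ₂ h => ?_, fun ψ => ?_⟩
  · obtain ⟨g₁, hg₁⟩ := (AlgSp.yon S).map_surjective (p ≫ φ₁)
    obtain ⟨g₂, hg₂⟩ := (AlgSp.yon S).map_surjective (p ≫ φ₂)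
    rw [← cancel_epi p, ← hg₁, ← hg₂]
    congr 1
    refine (hN V hVsm).1 ((AlgSp.yon S).map_injective ?_)
    have h' := congrArg (q ≫ ·) h
    simp only [q, prod.lift_fst_assoc, Category.assoc, ← hg₁, ← hg₂, ← Functor.map_comp] at h'
    exact h'
  · obtain ⟨h, hh⟩ := (AlgSp.yon S).map_surjective (q ≫ ψ)
    obtain ⟨g, hg⟩ := (hN V hVsm).2 h
    change c.app V ≫ g = h at hg
    have hnat : ∀ k : R ⟶ V, c.app R ≫ k = G.map (P.map k) ≫ c.app V := fun k => (c.naturality k).symm
    have hu : ∀ k : R ⟶ V, G.map (P.map k) ≫ toU V = toU R := fun k => by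
      ext
      exact pullback.lift_snd _ _ _
    have hq : (AlgSp.yon S).map (G.map (P.map fs)) ≫ q = (AlgSp.yon S).map (G.map (P.map ss)) ≫ q := by
      apply Limits.prod.hom_ext
      · simp only [q, Category.assoc, prod.lift_fst, ← Functor.map_comp_assoc, ← hnat]
        simp only [Functor.map_comp, Category.assoc]
        exact congrArg (_ ≫ ·) sqR.w
      · simp only [q, Category.assoc, prod.lift_snd, ← Functor.map_comp, hu]
    have hgR : fs ≫ g = ss ≫ g := by
      refine (hN R hRsm).1 ((AlgSp.yon S).map_injective ?_)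
      show (AlgSp.yon S).map (c.app R ≫ fs ≫ g) = (AlgSp.yon S).map (c.app R ≫ ss ≫ g)
      simp only [← Category.assoc, hnat]
      simp only [Category.assoc, hg]
      rw [Functor.map_comp, Functor.map_comp, hh, ← Category.assoc, hq, Category.assoc]
    obtain ⟨φ, hφ⟩ := Lib.AlgSpace.exists_desc p sqR ((AlgSp.yon S).map g)
      (by rw [← Functor.map_comp, ← Functor.map_comp]; exact congrArg _ hgR)
    refine ⟨φ, Lib.AlgSpace.hom_ext fun T a => ?_⟩
    let b : (AlgSp.yon S).obj T ⟶ F := a ≫ prod.fst
    obtain ⟨cU, hcU⟩ := (AlgSp.yon S).map_surjective (a ≫ prod.snd)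
    have sqb := hpe.rep.isPullback b
    let T' := hpe.rep.pullback b
    let π : T' ⟶ T := hpe.rep.snd b
    obtain ⟨v, hv⟩ := (AlgSp.yon S).map_surjective (hpe.rep.fst b)
    have : Etale π.left := Lib.AlgSpace.repWith_property hpe sqb
    have : Surjective π.left := Lib.AlgSpace.repWith_property hps sqb
    have := Lib.AlgSpace.epi_yon_map π (Lib.AlgSpace.fppfCover_mk π.left)
    let l : T' ⟶ G.obj (P.obj V) := Over.homMk
      (pullback.lift v.left (π ≫ cU).left ((Over.w v).trans (Over.w (π ≫ cU)).symm))
      (by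
        show _ ≫ pullback.snd V.hom U.ι ≫ U.ι = _
        rw [pullback.lift_snd_assoc]
        exact Over.w (π ≫ cU))
    have hl₁ : l ≫ c.app V = v := by
      ext
      simp [l, c, G, P]
      exact pullback.lift_fst _ _ _
    have hl₂ : l ≫ toU V = π ≫ cU := by
      ext
      exact pullback.lift_snd _ _ _
    have key : (AlgSp.yon S).map l ≫ q = (AlgSp.yon S).map π ≫ a := by
      apply Limits.prod.hom_ext
      · simp only [q, Category.assoc, prod.lift_fst, ← Functor.map_comp_assoc, hl₁, hv]
        exact sqb.w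
      · simp only [q, Category.assoc, prod.lift_snd, ← Functor.map_comp, hl₂]
        rw [Functor.map_comp, hcU]
    rw [← cancel_epi ((AlgSp.yon S).map π), ← reassoc_of% key, ← reassoc_of% key, ← hh, ← hg]
    simp only [q, prod.lift_fst_assoc, Functor.map_comp, Category.assoc, hφ]

end Groth.Agent.S13209
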