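import Groth.Statements.S13210
import Groth.Agent.Lib.AlgSpace.Diag
-- import your own Groth.Agent.* helpers here

set_option autoImplicit false
universe u
open CategoryTheory CategoryTheory.Limits AlgebraicGeometry
open AlgGrp

namespace Groth.Agent.S13210
open Groth.Agent.Lib AlgSp

set_option linter.style.haveILetI false

/-- The fixed subsheaf of a list of automorphisms. -/
theorem exists_fixed {S : Scheme.{u}} {F : AlgSp.Sp S} (hsep : AlgSp.IsSeparatedSp F) {G : Type u}
    (σ : G → (F ⟶ F)) (l : List G) :
    ∃ (W : AlgSp.Sp S) (j : W ⟶ F), AlgSp.RepWith @IsClosedImmersion j ∧ (∀ g ∈ l, j ≫ σ g = j) ∧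
      ∀ (T : AlgSp.Sp S) (x : T ⟶ F), (∀ g ∈ l, x ≫ σ g = x) → ∃! z : T ⟶ W, z ≫ j = x := by
  induction l with
  | nil => exact ⟨F, 𝟙 F, AlgSpace.repWith_of_isIso _ _, by simp,
      fun T x _ => ⟨x, Category.comp_id _, fun z hz => by simpa using hz⟩⟩
  | cons a l ih =>
    obtain ⟨W, j, hj, hfix, huniv⟩ := ih
    let q := pullback.snd (Limits.diag F) (prod.lift j (j ≫ σ a))
    let p := pullback.fst (Limits.diag F) (prod.lift j (j ≫ σ a))
    have hw : p ≫ Limits.diag F = q ≫ prod.lift j (j ≫ σ a) := pullback.condition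
    have h1 : p = q ≫ j := by
      simpa [prod.lift_fst, prod.lift_fst_assoc] using congrArg (· ≫ prod.fst) hw
    have h2 : p = q ≫ j ≫ σ a := by
      simpa [prod.lift_snd, prod.lift_snd_assoc] using congrArg (· ≫ prod.snd) hw
    refine ⟨_, q ≫ j, AlgSpace.repWith_comp
      (AlgSpace.repWith_baseChange (IsPullback.of_hasPullback _ _) hsep) hj, fun g hg => ?_,
      fun T x hx => ?_⟩
    · rcases List.mem_cons.1 hg with rfl | hg
      · rw [Category.assoc, ← h2, h1]
      · rw [Category.assoc, hfix g hg]
    · obtain ⟨z, hz, hzu⟩ := huniv T x fun g hg => hx g (List.mem_cons_of_mem _ hg)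
      refine ⟨pullback.lift x z (prod.hom_ext ?_ ?_), ?_, fun z' hz' => ?_⟩
      · simp [prod.lift_fst, hz]
      · simp [prod.lift_snd, reassoc_of% hz, hx a (List.mem_cons_self ..)]
      · simp only [q]
        rw [pullback.lift_snd_assoc, hz]
      · have hq : z' ≫ q = z := hzu _ (by simpa using hz')
        apply pullback.hom_ext
        · rw [pullback.lift_fst]
          show z' ≫ p = x
          rw [h1, ← Category.assoc, hq, hz]
        · rw [pullback.lift_snd]
          exact hq


/-- Let S be a scheme, F an algebraic space over S which is separated over S, and G a finite group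
acting on F by S-automorphisms. If i : Z → F exhibits the fppf sheaf Z as the sub-sheaf of G-fixed
points of F (i is G-invariant and every G-invariant morphism W → F factors uniquely through i), then
Z is an algebraic space and i is a closed immersion (representable by closed immersions). (The
published statement also treats a locally separated F, whose fixed points form a subspace, and
compatibility with base change; this row states only the separated case.) -/
theorem result
    {S : Scheme.{u}} (F : AlgSp.Sp S) (hF : AlgSp.IsAlgSpace F) (hsep : AlgSp.IsSeparatedSp F)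
    (G : Type u) [Group G] [Finite G] (ρ : G →* Aut F)
    (Z : AlgSp.Sp S) (i : Z ⟶ F) (hi : ∀ g : G, i ≫ (ρ g).hom = i)
    (huniv : ∀ (W : AlgSp.Sp S) (x : W ⟶ F), (∀ g : G, x ≫ (ρ g).hom = x) → ∃! z : W ⟶ Z, z ≫ i = x) :
    AlgSp.IsAlgSpace Z ∧ AlgSp.RepWith @IsClosedImmersion i := by
  cases nonempty_fintype G
  obtain ⟨W, j, hj, hfix, hWu⟩ := exists_fixed hsep (fun g => (ρ g).hom) (Finset.univ : Finset G).toList
  have hall : ∀ g, g ∈ (Finset.univ : Finset G).toList := fun g => by simp
  obtain ⟨a, ha, -⟩ := huniv W j fun g => hfix g (hall g)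
  obtain ⟨b, hb, -⟩ := hWu Z i fun g _ => hi g
  obtain ⟨e, -, heu⟩ := huniv Z i hi
  obtain ⟨e', -, he'u⟩ := hWu W j fun g hg => hfix g hg
  have h₁ : b ≫ a = 𝟙 Z :=
    (heu _ (by show (b ≫ a) ≫ i = i; rw [Category.assoc, ha, hb])).trans (heu _ (Category.id_comp _)).symm
  have h₂ : a ≫ b = 𝟙 W :=
    (he'u _ (by show (a ≫ b) ≫ j = j; rw [Category.assoc, hb, ha])).trans (he'u _ (Category.id_comp _)).symm
  haveI : IsIso b := ⟨a, h₁, h₂⟩
  have hclosed : AlgSp.RepWith @IsClosedImmersion i := by
    rw [← hb]
    exact (AlgSpace.repWith_iso_comp_iff _ b j).2 hj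
  exact ⟨AlgSpace.isAlgSpace_of_representable hclosed.1 hF, hclosed⟩

end Groth.Agent.S13210
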