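import Groth.Statements.S1323
import Groth.Agent.Lib.AlgSpThick.DeformScheme
import Groth.Agent.H54.ThickAffine
import Groth.Agent.H54.ThickLocal

set_option autoImplicit false
universe u
open FlatMor

namespace Groth.Agent.S1323

open AlgebraicGeometry CategoryTheory Limits in
/-- Let S ⟶ S' be a finite order thickening, let X' ⟶ Y' be a morphism of schemes over S' with X' flat
over S', and let X ⟶ Y be its base change to S. Then X ⟶ Y is finite locally free of rank d if and
only if X' ⟶ Y' is. -/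
theorem result (d : ℕ) {X X' Y Y' S S' : Scheme.{u}} (iX : X ⟶ X') (iY : Y ⟶ Y') (iS : S ⟶ S')
    (f : X ⟶ Y) (f' : X' ⟶ Y') (g : Y ⟶ S) (g' : Y' ⟶ S')
    (hS : MoreMor.IsFiniteOrderThickening iS) (hcX : IsPullback iX (f ≫ g) (f' ≫ g') iS) (hcY : IsPullback iY g g' iS)
    (w : iX ≫ f' = f ≫ iY) [Flat (f' ≫ g')] :
    Mor2.IsFinLocFreeOfDeg d f ↔ Mor2.IsFinLocFreeOfDeg d f' := by
  have := hS.1.1
  have hc := Groth.Agent.H54.Deform.isPullback hcX hcY w
  refine ⟨fun ⟨⟨h1, h2, h3⟩, hd⟩ => ?_, fun ⟨⟨h1, h2, h3⟩, hd⟩ =>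
    ⟨⟨MorphismProperty.of_isPullback hc h1, MorphismProperty.of_isPullback hc h2,
      MorphismProperty.of_isPullback hc h3⟩, fun y => ?_⟩⟩
  · have hs : Surjective iS := hS.1.2
    have hcY' : IsClosedImmersion iY := MorphismProperty.of_isPullback hcY.flip ‹IsClosedImmersion iS›
    have hsY : Surjective iY := MorphismProperty.of_isPullback hcY.flip hs
    have : IsClosedImmersion iX := MorphismProperty.of_isPullback hc.flip hcY'
    have : Surjective iX := MorphismProperty.of_isPullback hc.flip hsY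
    have hfl : Flat f' := Groth.Agent.H54.Deform.flat hcX hcY w hS.2
    have hlfp : LocallyOfFinitePresentation f' :=
      Groth.Agent.Lib.AlgSpThick.DeformScheme.locallyOfFinitePresentation hcX hcY w hS.2 h3
    have hfin : IsFinite f' := (IsFinite.iff_isIntegralHom_and_locallyOfFiniteType _).2
      ⟨(Groth.Agent.H54.ThickAffine.isIntegralHom_iff hc.w).1 inferInstance, inferInstance⟩
    refine ⟨⟨hfin, hfl, hlfp⟩, fun y' => ?_⟩
    obtain ⟨y, rfl⟩ := iY.surjective y'
    rw [← Scheme.Hom.finrank_of_isPullback _ _ _ _ hc y]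
    exact hd y
  · have := h1
    have := h2
    rw [Scheme.Hom.finrank_of_isPullback _ _ _ _ hc y]
    exact hd _

end Groth.Agent.S1323
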