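import Groth.Statements.S13340
import Groth.Agent.H30.FSch.ComplExact
import Groth.Agent.Lib.Cyc.FP.Stalk

set_option autoImplicit false
open CategoryTheory CategoryTheory.Limits
universe u
open FCompl

namespace Groth.Agent.S13340

open AlgebraicGeometry in
/-- Let X be a locally Noetherian scheme, 𝓘 a quasi-coherent ideal sheaf and X̂ the completion of X
along 𝓘 (the system of the closed subschemes of the powers of 𝓘, as a ringed space with structure
sheaf lim O_{X_k}). Completion F ↦ F̂ = lim_k (u_k)_* i_k^* F of coherent O_X-modules is exact: for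
a short exact sequence 0 → F' → F → F'' → 0 of coherent modules the induced sequence of completed
O_X̂-modules has zero composite and is short exact. -/
theorem result (X : Scheme.{u}) [IsLocallyNoetherian X] (𝓘 : X.IdealSheafData)
    (h : (FSch.completionAlong X 𝓘).IsFormal) (S : ShortComplex X.Modules) (hS : S.ShortExact)
    (h1 : Coh.IsCoh S.X₁) (h2 : Coh.IsCoh S.X₂) (h3 : Coh.IsCoh S.X₃) :
    FSch.ModSys.realModMap h (FSch.complModMap 𝓘 S.f) ≫ FSch.ModSys.realModMap h (FSch.complModMap 𝓘 S.g) = 0 ∧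
      ∀ w : FSch.ModSys.realModMap h (FSch.complModMap 𝓘 S.f) ≫ FSch.ModSys.realModMap h (FSch.complModMap 𝓘 S.g) = 0,
        (ShortComplex.mk _ _ w).ShortExact := by
  have hN := Groth.Agent.S3854.result X 𝓘
  haveI : ∀ k, AlgebraicGeometry.IsClosedImmersion (FSch.completionToX X 𝓘 k) := fun k => inferInstance
  have hc : ∀ G : X.Modules, Coh.IsCoh G →
      (Groth.Agent.H30.ComplSec.pullSys (FSch.completionToX X 𝓘) (FSch.completionToX_comm X 𝓘) G).IsCoh :=
    fun G hG n => Groth.Agent.Lib.Cyc.FP.Stalk.isCoh_pullback _ hG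
  have hker : ∀ k (U : X.affineOpens), (FSch.completionToX X 𝓘 k).ker.ideal U =
      (FSch.completionToX X 𝓘 0).ker.ideal U ^ (k + 1) := fun k U => by
    rw [Groth.Agent.H30.ComplSec.ker_completionToX, Groth.Agent.H30.ComplSec.ker_completionToX, pow_one]
  exact Groth.Agent.H30.ComplExact.shortExact_of_eq hN (FSch.completionToX X 𝓘) (FSch.completionToX_comm X 𝓘) hker S
    hS h1 h2 h3 (A := FSch.complMod 𝓘 S.X₁) (B := FSch.complMod 𝓘 S.X₂) (C := FSch.complMod 𝓘 S.X₃)
    (Groth.Agent.H30.ComplSec.complMod_eq X 𝓘 _) (Groth.Agent.H30.ComplSec.complMod_eq X 𝓘 _)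
    (Groth.Agent.H30.ComplSec.complMod_eq X 𝓘 _) (FSch.complModMap 𝓘 S.f) (FSch.complModMap 𝓘 S.g)
    (Groth.Agent.H30.ComplExact.hom_heq (Groth.Agent.H30.ComplSec.complMod_eq X 𝓘 _)
      (Groth.Agent.H30.ComplSec.complMod_eq X 𝓘 _) _ _ fun _ => HEq.rfl)
    (Groth.Agent.H30.ComplExact.hom_heq (Groth.Agent.H30.ComplSec.complMod_eq X 𝓘 _)
      (Groth.Agent.H30.ComplSec.complMod_eq X 𝓘 _) _ _ fun _ => HEq.rfl)
    (hc _ h1) (hc _ h2) (hc _ h3)

end Groth.Agent.S13340
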