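import Groth.Statements.S13341
import Groth.Agent.H30.Spf
import Mathlib.AlgebraicGeometry.Morphisms.Separated

set_option autoImplicit false
open CategoryTheory
universe u
open FCompl

namespace Groth.Agent.S13341

open AlgebraicGeometry in
/-- Formal schemes are presented as locally Noetherian adic systems of thickenings and the fibre product
is taken levelwise (it presents the fibre product of formal schemes since one factor is adic over
the base). Let 𝔖 be a locally Noetherian formal system, 𝔛 and 𝔜 locally Noetherian formal systems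
over 𝔖 such that 𝔛 or 𝔜 is of finite type over 𝔖, and 𝔜 separated over 𝔖 at level 0. Then for every
𝔖-morphism f : 𝔛 → 𝔜 the graph morphism 𝔛 → 𝔛 ×_𝔖 𝔜 is a closed immersion: adic, with level 0 a
closed immersion. -/
theorem result {𝔛 𝔜 𝔖 : FSch.Sys.{u}} (h𝔖 : 𝔖.IsLocNoethFormal) (h𝔛 : 𝔛.IsLocNoethFormal)
    (h𝔜 : 𝔜.IsLocNoethFormal) (p : 𝔛 ⟶ 𝔖) (q : 𝔜 ⟶ 𝔖) (hpq : FSch.IsFiniteTypeHom p ∨ FSch.IsFiniteTypeHom q)
    (hq : IsSeparated ((q : FSch.Hom 𝔜 𝔖).app 0)) (f : 𝔛 ⟶ 𝔜) (w : f ≫ q = p) :
    FSch.IsClosedImmHom (FSch.graph f p q w) := by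
  open CategoryTheory.Limits in
  refine ⟨?_, ?_⟩
  · rcases hpq with hp | hq'
    · have hfA : FSch.IsAdicHom f := by
        intro n
        have := (h𝔜.1 n).1
        have := (Groth.Agent.H30.SysLemmas.isFormal_of_isAdicHom hp.1 h𝔖.1 n).1
        have hcomp : ∀ m, (f : FSch.Hom _ _).app m ≫ (q : FSch.Hom _ _).app m = (p : FSch.Hom _ _).app m :=
          fun m => congrArg (fun k => (k : FSch.Hom _ _).app m) w
        refine IsPullback.of_isLimit' ⟨((f : FSch.Hom _ _).comm n).symm⟩
          (PullbackCone.IsLimit.mk _ (fun s => (hp.1 n).lift s.fst (s.snd ≫ (q : FSch.Hom _ _).app n) ?_)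
            ?_ ?_ ?_)
        · rw [← hcomp, reassoc_of% s.condition, Category.assoc]
          exact congrArg _ ((q : FSch.Hom _ _).comm n).symm
        · exact fun s => (hp.1 n).lift_fst _ _ _
        · intro s
          rw [← cancel_mono (𝔜.ι n), Category.assoc, (f : FSch.Hom _ _).comm n,
            (hp.1 n).lift_fst_assoc]
          exact s.condition
        · intro s m h1 _
          rw [← cancel_mono (𝔛.ι n), h1, (hp.1 n).lift_fst]
      intro n
      have h1 : IsPullback (pullback.fst ((p : FSch.Hom _ _).app n) ((q : FSch.Hom _ _).app n) ≫ 𝔛.ι n)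
          (pullback.snd ((p : FSch.Hom _ _).app n) ((q : FSch.Hom _ _).app n)) ((p : FSch.Hom _ _).app (n + 1))
          ((q : FSch.Hom _ _).app n ≫ 𝔖.ι n) :=
        (IsPullback.of_hasPullback _ _).paste_horiz (hp.1 n)
      rw [(q : FSch.Hom _ _).comm n] at h1
      have hs : IsPullback ((FSch.pullbackSys p q).ι n) (pullback.snd _ _) (pullback.snd _ _) (𝔜.ι n) := by
        refine IsPullback.of_right ?_ (pullback.lift_snd _ _ _) (IsPullback.of_hasPullback _ _)
        rw [show (FSch.pullbackSys p q).ι n ≫ pullback.fst _ _ = _ from pullback.lift_fst _ _ _]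
        exact h1
      refine IsPullback.of_bot ?_ ((FSch.graph f p q w : FSch.Hom _ _).comm n).symm hs
      have e : ∀ m, (FSch.graph f p q w : FSch.Hom _ _).app m ≫ pullback.snd _ _ = (f : FSch.Hom _ _).app m :=
        fun m => pullback.lift_snd _ _ _
      rw [e, e]
      exact hfA n
    · intro n
      have h1 : IsPullback (pullback.snd ((p : FSch.Hom _ _).app n) ((q : FSch.Hom _ _).app n) ≫ 𝔜.ι n)
          (pullback.fst ((p : FSch.Hom _ _).app n) ((q : FSch.Hom _ _).app n)) ((q : FSch.Hom _ _).app (n + 1))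
          ((p : FSch.Hom _ _).app n ≫ 𝔖.ι n) :=
        (IsPullback.of_hasPullback _ _).flip.paste_horiz (hq'.1 n)
      rw [(p : FSch.Hom _ _).comm n] at h1
      have hs : IsPullback ((FSch.pullbackSys p q).ι n) (pullback.fst _ _) (pullback.fst _ _) (𝔛.ι n) := by
        refine IsPullback.of_right ?_ (pullback.lift_fst _ _ _) (IsPullback.of_hasPullback _ _).flip
        rw [show (FSch.pullbackSys p q).ι n ≫ pullback.snd _ _ = _ from pullback.lift_snd _ _ _]
        exact h1
      refine IsPullback.of_bot ?_ ((FSch.graph f p q w : FSch.Hom _ _).comm n).symm hs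
      have e : ∀ m, (FSch.graph f p q w : FSch.Hom _ _).app m ≫ pullback.fst _ _ = 𝟙 (𝔛.X m) :=
        fun m => pullback.lift_fst _ _ _
      rw [e, e]
      exact IsPullback.of_vert_isIso ⟨by simp⟩
  · have h0 : (FSch.graph f p q w : FSch.Hom _ _).app 0 ≫ pullback.fst ((p : FSch.Hom _ _).app 0)
        ((q : FSch.Hom _ _).app 0) = 𝟙 (𝔛.X 0) := pullback.lift_fst _ _ _
    have hsep : IsSeparated (pullback.fst ((p : FSch.Hom _ _).app 0) ((q : FSch.Hom _ _).app 0)) := by
      infer_instance
    have hcomp : IsClosedImmersion ((FSch.graph f p q w : FSch.Hom _ _).app 0 ≫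
        pullback.fst ((p : FSch.Hom _ _).app 0) ((q : FSch.Hom _ _).app 0)) := by rw [h0]; infer_instance
    exact @IsClosedImmersion.of_comp _ _ _ _ (pullback.fst ((p : FSch.Hom _ _).app 0) ((q : FSch.Hom _ _).app 0)) hcomp hsep

end Groth.Agent.S13341
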