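import Groth.Statements.S13351
import Groth.Agent.Lib.FormalCompl.CohAffine
import Groth.Agent.Lib.FormalCompl.BoschShift

set_option autoImplicit false
universe u
open FCompl

namespace Groth.Agent.S13351

open AlgebraicGeometry in
open CategoryTheory in
/-- Let R be a base ring of class (N) or (V) for the ideal I and A an R-algebra topologically of finite
presentation. Present Spf A as the completion of Spec A along IA, with structure sheaf the limit of
the structure sheaves of the closed subschemes V((IA)^(n+1)). Then every O_Spf A-module of finite
presentation (for such formal schemes this is the same as coherent) is isomorphic to M^Δ, the limit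
of the direct images of the modules associated to M/(IA)^(n+1)M, for some finitely presented (that
is, coherent) A-module M. -/
theorem result
    (R : Type u) [CommRing R] (I : Ideal R) (hR : AdicRing.IsBase R I)
    (A : Type u) [CommRing A] [Algebra R A] (hA : AdicRing.TopFinitePresentation R I A)
    (h : (FSch.completionAlong (Spec (CommRingCat.of A)) (FSch.idealSpec A (I.map (algebraMap R A)))).IsFormal)
    (F : FSch.ModF (FSch.completionAlong (Spec (CommRingCat.of A)) (FSch.idealSpec A (I.map (algebraMap R A)))) h)
    (hF : FSch.IsCohF (FSch.completionAlong (Spec (CommRingCat.of A)) (FSch.idealSpec A (I.map (algebraMap R A)))) h F) :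
    ∃ M : ModuleCat.{u} A, Module.FinitePresentation A M ∧
      Nonempty (F ≅ (FSch.complMod (FSch.idealSpec A (I.map (algebraMap R A))) (tilde M)).realMod h) := by
  have hA' : AdicRing.TopFiniteType R I A := ⟨_, _, hA.choose_spec.choose_spec.1⟩
  haveI : IsAdicComplete (I.map (algebraMap R A)) A :=
    Groth.Agent.Lib.FormalCompl.BoschShift.isAdicComplete hR hA' A
  refine Groth.Agent.Lib.FormalCompl.CohAffine.exists_iso_of_eq h
    ((Groth.Agent.Lib.Adic.Bosch.Basic.fg_base hR).map (algebraMap R A))
    (fun M _ l φ => ?_)
    (fun M => FSch.complMod (FSch.idealSpec A (I.map (algebraMap R A))) (tilde (R := CommRingCat.of A) M))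
    (fun M => Groth.Agent.H30.ComplSec.complMod_eq (Spec (CommRingCat.of A)) _ _) F hF
  obtain ⟨c, hc⟩ := Groth.Agent.Lib.FormalCompl.BoschShift.exists_shift hR hA'
    (LinearMap.ker φ).subtype (Submodule.injective_subtype _)
  refine ⟨c, fun s x hx hxs => ?_⟩
  by_cases hsc : c ≤ s
  · have := Submodule.mem_map_of_mem (f := (LinearMap.ker φ).subtype) (hc s hsc ⟨x, hx⟩ hxs)
    rw [Submodule.map_smul'', Submodule.map_top, Submodule.range_subtype] at this
    exact this
  · rw [Nat.sub_eq_zero_of_le (le_of_not_ge hsc), pow_zero, Ideal.one_eq_top, Submodule.top_smul]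
    exact hx

end Groth.Agent.S13351
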