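import Groth.Statements.S13356
import Groth.Agent.H2.Chars

set_option autoImplicit false
universe u
open GaDual

namespace Groth.Agent.S13356

/-- Over a commutative algebra A over the rationals, the polynomials f with f(0) = 1 and f(X+Y) =
f(X)f(Y) (the characters of the additive group into the multiplicative group over A) are exactly the
polynomials exp(aX) with a in A nilpotent. -/
theorem result (A : Type u) [CommRing A] [Algebra ℚ A] (f : Polynomial A) :
    (f.eval 0 = 1 ∧
      Polynomial.aeval (MvPolynomial.X 0 + MvPolynomial.X 1 : MvPolynomial (Fin 2) A) f =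
        Polynomial.aeval (MvPolynomial.X 0 : MvPolynomial (Fin 2) A) f *
          Polynomial.aeval (MvPolynomial.X 1 : MvPolynomial (Fin 2) A) f) ↔
      ∃ a : A, IsNilpotent a ∧ (f : PowerSeries A) = PowerSeries.rescale a (PowerSeries.exp A) := by
  rw [Groth.Agent.H2.Chars.poly_iff, ← Polynomial.coeff_zero_eq_eval_zero,
    Groth.Agent.H2.Chars.rat_iff f.coeff]
  simp only [PowerSeries.ext_iff, PowerSeries.coeff_rescale, PowerSeries.coeff_exp,
    Polynomial.coeff_coe]
  refine ⟨fun ⟨a, ha⟩ => ⟨a, ⟨f.natDegree + 1, ?_⟩, ha⟩, fun ⟨a, _, ha⟩ => ⟨a, ha⟩⟩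
  have h := (ha (f.natDegree + 1)).symm
  rw [Polynomial.coeff_eq_zero_of_natDegree_lt (Nat.lt_succ_self _)] at h
  have hu : IsUnit (algebraMap ℚ A (1 / ((f.natDegree + 1).factorial : ℚ))) :=
    (isUnit_iff_ne_zero.2 (one_div_ne_zero (by exact_mod_cast Nat.factorial_ne_zero _))).map _
  exact hu.mul_left_eq_zero.1 h

end Groth.Agent.S13356
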