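import Groth.Statements.S13361
import Groth.Agent.Lib.ProCompl.Characters
import Mathlib.GroupTheory.SpecificGroups.Cyclic
import Mathlib.GroupTheory.Perm.Cycle.Type
import Mathlib.Data.Nat.Factorization.Basic

set_option autoImplicit false
universe u
open ProCompl

namespace Groth.Agent.S13361

/-- A finite abelian group with a nonzero element contained in every nonzero subgroup is isomorphic to a
cyclic group of prime-power order Z/p^n. -/
theorem result {A : Type u} [AddCommGroup A] [Finite A]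
    (a : A) (ha : a ≠ 0) (h : ∀ B : AddSubgroup A, B ≠ ⊥ → a ∈ B) :
    ∃ p n : ℕ, p.Prime ∧ Nonempty (A ≃+ ZMod (p ^ n)) := by
  open Groth.Agent.Lib.ProCompl.Characters in
  have := Fintype.ofFinite A
  obtain ⟨χ, hχ⟩ := exists_apply_ne_zero ha
  have hinj : Function.Injective χ :=
    (AddMonoidHom.ker_eq_bot_iff χ).mp (by_contra fun hne ↦ hχ (h _ hne))
  have hn : 0 < Nat.card A := Nat.card_pos
  let g : QZ := (((1 : ℚ) / (Nat.card A : ℚ) : ℚ) : QZ)
  have hrange : ∀ x : A, χ x ∈ AddSubgroup.zmultiples g := fun x ↦ by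
    have h0 : Nat.card A • χ x = 0 := by rw [← map_nsmul, card_nsmul_eq_zero', map_zero]
    obtain ⟨q, hq⟩ := QuotientAddGroup.mk_surjective (χ x)
    rw [← hq] at h0 ⊢
    obtain ⟨k, hk⟩ := (QuotientAddGroup.eq_zero_iff _).mp h0
    refine AddSubgroup.mem_zmultiples_iff.mpr ⟨k, ?_⟩
    rw [← QuotientAddGroup.mk_zsmul]
    congr 1
    simp only [zsmul_eq_mul, mul_one, nsmul_eq_mul] at hk ⊢
    have : (Nat.card A : ℚ) ≠ 0 := by exact_mod_cast hn.ne'
    field_simp
    linarith
  have : IsAddCyclic A := isAddCyclic_of_injective (χ.codRestrict (AddSubgroup.zmultiples g) hrange)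
    fun x y hxy ↦ hinj (congrArg Subtype.val hxy)
  have hne1 : Nat.card A ≠ 1 := fun h1 ↦ by
    have := (Nat.card_eq_one_iff_unique.mp h1).1
    exact ha (Subsingleton.elim a 0)
  obtain ⟨p, hp, hpd⟩ := Nat.exists_prime_and_dvd hne1
  have huniq : ∀ {q : ℕ}, q.Prime → q ∣ Nat.card A → q = p := fun {q} hq hqd ↦ by
    have := Fact.mk hp
    have := Fact.mk hq
    obtain ⟨x, hx⟩ := exists_prime_addOrderOf_dvd_card' p hpd
    obtain ⟨y, hy⟩ := exists_prime_addOrderOf_dvd_card' q hqd
    have key : ∀ (z : A) (r : ℕ), r.Prime → addOrderOf z = r → addOrderOf a = r := fun z r hr hz ↦ by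
      have hz0 : AddSubgroup.zmultiples z ≠ ⊥ := fun hb ↦ by
        rw [AddSubgroup.zmultiples_eq_bot] at hb
        rw [hb, addOrderOf_zero] at hz
        exact hr.one_lt.ne hz
      obtain ⟨k, hk⟩ := AddSubgroup.mem_zmultiples_iff.mp (h _ hz0)
      have hr0 : r • a = 0 := by
        rw [← hk, ← natCast_zsmul, ← mul_zsmul', mul_comm, mul_zsmul', natCast_zsmul,
          ← hz, addOrderOf_nsmul_eq_zero, zsmul_zero]
      have hfr := Fact.mk hr
      exact addOrderOf_eq_prime hr0 ha
    exact (key y q hq hy).symm.trans (key x p hp hx)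
  exact ⟨p, _, hp, ⟨((ZMod.ringEquivCongr
    (Nat.eq_prime_pow_of_unique_prime_dvd hn.ne' huniq).symm).toAddEquiv.trans
      (zmodAddCyclicAddEquiv this)).symm⟩⟩

end Groth.Agent.S13361
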