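import Groth.Statements.S13362
import Groth.Agent.Lib.ProCompl.Characters

set_option autoImplicit false
universe u
open ProCompl

namespace Groth.Agent.S13362

/-- An abelian group of finite exponent having a nonzero element contained in every nonzero subgroup is
finite. -/
theorem result {A : Type u} [AddCommGroup A]
    (hA : AddMonoid.exponent A ≠ 0) (a : A) (ha : a ≠ 0) (h : ∀ B : AddSubgroup A, B ≠ ⊥ → a ∈ B) :
    Finite A := by
  open Groth.Agent.Lib.ProCompl.Characters in
  obtain ⟨χ, hχ⟩ := exists_apply_ne_zero ha
  have hinj : Function.Injective χ :=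
    (AddMonoidHom.ker_eq_bot_iff χ).mp (by_contra fun hne ↦ hχ (h _ hne))
  have := (finite_torsion (Nat.pos_of_ne_zero hA)).to_subtype
  exact Finite.of_injective (fun x : A ↦ (⟨χ x, by
    show AddMonoid.exponent A • χ x = 0
    rw [← map_nsmul, AddMonoid.exponent_nsmul_eq_zero, map_zero]⟩ :
      {u : QZ | AddMonoid.exponent A • u = 0})) fun x y hxy ↦ hinj (congrArg Subtype.val hxy)

end Groth.Agent.S13362
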