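import Groth.Statements.S13365
import Groth.Agent.Lib.ProCompl.Characters

set_option autoImplicit false
universe u
open ProCompl

namespace Groth.Agent.S13365

/-- The quotient of a profinite (compact, Hausdorff, totally disconnected) abelian topological group by
a compact subgroup is profinite. -/
theorem result {A : Type u} [AddCommGroup A] [TopologicalSpace A]
    [IsTopologicalAddGroup A] [CompactSpace A] [T2Space A] [TotallyDisconnectedSpace A]
    (B : AddSubgroup A) (hB : IsCompact (B : Set A)) :
    CompactSpace (A ⧸ B) ∧ T2Space (A ⧸ B) ∧ TotallyDisconnectedSpace (A ⧸ B) := by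
  open Groth.Agent.Lib.ProCompl.Characters Set in
  have hBc : IsClosed (B : Set A) := hB.isClosed
  refine ⟨inferInstance, inferInstance, ?_⟩
  have : TotallySeparatedSpace (A ⧸ B) := by
    refine totallySeparatedSpace_iff_exists_isClopen.mpr fun x y hxy ↦ ?_
    obtain ⟨a, rfl⟩ := QuotientAddGroup.mk_surjective x
    obtain ⟨b, rfl⟩ := QuotientAddGroup.mk_surjective y
    obtain ⟨H, hH, -, hHsub⟩ := exists_compactOpen_subgroup (A := A)
      (U := (fun h ↦ (a - b) + h) ⁻¹' (B : Set A)ᶜ)
      (hBc.isOpen_compl.preimage (continuous_const.add continuous_id)) (by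
        simp only [mem_preimage, add_zero, mem_compl_iff, SetLike.mem_coe]
        exact fun hmem ↦ hxy ((QuotientAddGroup.eq_iff_sub_mem).mpr hmem))
    let M : AddSubgroup (A ⧸ B) := H.map (QuotientAddGroup.mk' B)
    have hM : IsOpen (M : Set (A ⧸ B)) := QuotientAddGroup.isOpenMap_coe _ hH
    refine ⟨(fun z : A ⧸ B ↦ z - (a : A ⧸ B)) ⁻¹' (M : Set (A ⧸ B)),
      IsClopen.preimage ⟨OpenAddSubgroup.isClosed ⟨M, hM⟩, hM⟩ (continuous_id.sub continuous_const),
      by simp [M.zero_mem], ?_⟩
    rintro ⟨h, hh, heq⟩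
    have : (a - b) + h ∈ B := by
      rw [← QuotientAddGroup.eq_zero_iff]
      rw [QuotientAddGroup.mk_add, QuotientAddGroup.mk_sub]
      rw [show (h : A ⧸ B) = (b : A ⧸ B) - (a : A ⧸ B) from heq]
      abel
    exact hHsub hh this
  infer_instance

end Groth.Agent.S13365
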