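import Groth.Statements.S13367
import Mathlib
import Groth.Agent.H83.FrobFix.Henselian

set_option autoImplicit false
universe u v
open FrobMod
open scoped TensorProduct

namespace Groth.Agent.S13367

/-- Over a strictly Henselian discrete valuation ring R of prime characteristic p with residue field κ,
for a finitely generated module M with n = dim_κ(κ ⊗ M) and a Frobenius-semilinear additive
bijection T of M (T(rm) = r^p T(m)), the map T − 1 is surjective and its kernel has cardinality p^n. -/
theorem result (p : ℕ) [Fact p.Prime] {R : Type u} [CommRing R] [IsDomain R]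
    [IsDiscreteValuationRing R] [HenselianLocalRing R] [IsSepClosed (IsLocalRing.ResidueField R)] [CharP R p]
    {M : Type v} [AddCommGroup M] [Module R M] [Module.Finite R M]
    (T : M →+ M) (hT : ∀ (r : R) (m : M), T (r • m) = r ^ p • T m) (hbij : Function.Bijective T) :
    Function.Surjective (fun m => T m - m) ∧
      Nat.card {m : M // T m = m} =
        p ^ Module.finrank (IsLocalRing.ResidueField R) (TensorProduct R (IsLocalRing.ResidueField R) M) := by
  classical
  let κ := IsLocalRing.ResidueField R
  let bk := Module.finBasis κ (κ ⊗[R] M)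
  let n := Module.finrank κ (κ ⊗[R] M)
  have hmk : Function.Surjective (TensorProduct.mk R κ M 1) := TensorProduct.mk_surjective R M κ IsLocalRing.residue_surjective
  choose m hm using fun i => hmk (bk i)
  let π : (Fin n → R) →ₗ[R] M := Fintype.linearCombination R m
  have hπ : ∀ x, π x = ∑ i, x i • m i := fun x => Fintype.linearCombination_apply R m x
  have hπsurj : Function.Surjective π := by
    rw [← LinearMap.range_eq_top, Fintype.range_linearCombination]
    refine IsLocalRing.span_eq_top_of_tmul_eq_basis m bk fun i => hm i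
  have hker : ∀ x, π x = 0 → ∀ i, x i ∈ IsLocalRing.maximalIdeal R := by
    intro x hx i
    rw [← IsLocalRing.residue_eq_zero_iff]
    have h := congrArg (TensorProduct.mk R κ M 1) hx
    rw [hπ, map_sum, map_zero] at h
    simp only [map_smul, hm] at h
    have h2 : ∑ j, algebraMap R κ (x j) • bk j = 0 := by
      rw [← h]; exact Finset.sum_congr rfl fun j _ => algebraMap_smul κ (x j) (bk j)
    exact Fintype.linearIndependent_iff.mp bk.linearIndependent _ h2 i
  choose f hf using fun j => hπsurj (T (m j))
  let T' : (Fin n → R) →+ (Fin n → R) :=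
    { toFun := fun x => ∑ j, x j ^ p • f j
      map_zero' := by simp [zero_pow (Fact.out : p.Prime).ne_zero]
      map_add' := fun x y => by simp [add_pow_char, add_smul, Finset.sum_add_distrib] }
  have hT' : ∀ (r : R) x, T' (r • x) = r ^ p • T' x := fun r x => by
    simp [T', Finset.smul_sum, smul_smul, mul_pow]
  have hcomm : ∀ x, π (T' x) = T (π x) := fun x => by
    show π (∑ j, x j ^ p • f j) = _
    rw [map_sum, hπ x, map_sum]
    exact Finset.sum_congr rfl fun j _ => by rw [map_smul, hf, hT]
  let 𝔪 := IsLocalRing.maximalIdeal R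
  have hmem : ∀ x, π x = 0 → x ∈ 𝔪 • (⊤ : Submodule R (Fin n → R)) := by
    intro x hx
    rw [show x = ∑ i, x i • (Pi.single i 1 : Fin n → R) by ext j; simp [Pi.single_apply]]
    exact Submodule.sum_mem _ fun i _ => Submodule.smul_mem_smul (hker x hx i) trivial
  have hspan : Submodule.span R (Set.range T') = ⊤ := by
    set W := Submodule.span R (Set.range T')
    refine top_le_iff.mp (Submodule.le_of_le_smul_of_le_jacobson_bot (I := 𝔪) (IsNoetherian.noetherian _)
      (IsLocalRing.maximalIdeal_le_jacobson _) ?_)
    intro x _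
    obtain ⟨z, hz⟩ := hbij.2 (π x)
    obtain ⟨y, rfl⟩ := hπsurj z
    rw [← hcomm] at hz
    refine Submodule.mem_sup.mpr ⟨T' y, Submodule.subset_span ⟨y, rfl⟩, x - T' y, hmem _ ?_, by abel⟩
    rw [map_sub, hz, sub_self]
  obtain ⟨e, he⟩ := H83.FrobFix.exists_fixed_basis (p := p) (Pi.basisFun R (Fin n)) T' hT' hspan
  obtain ⟨hsurjF, hcardF⟩ := H83.FrobFix.sub_id_surjective_and_card T' hT' e he
  refine ⟨fun c => ?_, ?_⟩
  · obtain ⟨x, rfl⟩ := hπsurj c
    obtain ⟨y, rfl⟩ := hsurjF x
    exact ⟨π y, by simp only; rw [map_sub, hcomm]⟩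
  have hpow : ∀ (N : ℕ) y, y ∈ 𝔪 ^ (N + 1) • (⊤ : Submodule R (Fin n → R)) →
      T' y ∈ 𝔪 ^ (N + 2) • (⊤ : Submodule R (Fin n → R)) := by
    intro N y hy
    induction hy using Submodule.smul_induction_on' with
    | smul r hr z _ =>
      rw [hT']
      refine Submodule.smul_mem_smul ?_ trivial
      have h1 : r ^ p ∈ (𝔪 ^ (N + 1)) ^ p := Ideal.pow_mem_pow hr p
      rw [← pow_mul] at h1
      refine Ideal.pow_le_pow_right ?_ h1
      have := (Fact.out : p.Prime).two_le
      nlinarith
    | add a _ b _ ha hb => rw [map_add]; exact add_mem ha hb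
  -- a vector whose displacement lies in the kernel and which is small lies in the kernel
  have hsmall : ∀ y, y ∈ 𝔪 • (⊤ : Submodule R (Fin n → R)) → π (T' y - y) = 0 → π y = 0 := by
    intro y hy hk
    have hall : ∀ N : ℕ, π y ∈ 𝔪 ^ N • (⊤ : Submodule R M) := by
      have key : ∀ N : ℕ, ∃ z ∈ 𝔪 ^ (N + 1) • (⊤ : Submodule R (Fin n → R)), π z = π y := by
        intro N
        induction N with
        | zero => exact ⟨y, by rwa [zero_add, pow_one], rfl⟩
        | succ N ih =>
          obtain ⟨z, hz, hzy⟩ := ih
          refine ⟨T' z, hpow N z hz, ?_⟩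
          rw [hcomm, hzy, ← hcomm]
          rwa [map_sub, sub_eq_zero] at hk
      intro N
      obtain ⟨z, hz, hzy⟩ := key N
      rw [← hzy]
      have h1 := Submodule.mem_map_of_mem (f := π) hz
      rw [Submodule.map_smul''] at h1
      exact Submodule.smul_mono (Ideal.pow_le_pow_right (by omega)) le_top h1
    have h := (Submodule.mem_iInf _).mpr hall
    rwa [Ideal.iInf_pow_smul_eq_bot_of_isLocalRing 𝔪 (IsLocalRing.maximalIdeal.isMaximal R).ne_top,
      Submodule.mem_bot] at h
  let g : {x : Fin n → R // T' x = x} → {x : M // T x = x} := fun x => ⟨π x.1, by rw [← hcomm, x.2]⟩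
  have hg : Function.Bijective g := by
    constructor
    · intro a b hab
      have hd : π (a.1 - b.1) = 0 := by rw [map_sub, show π a.1 = π b.1 from congrArg Subtype.val hab, sub_self]
      have hfix : T' (a.1 - b.1) = a.1 - b.1 := by rw [map_sub, a.2, b.2]
      have hN : ∀ N : ℕ, a.1 - b.1 ∈ 𝔪 ^ (N + 1) • (⊤ : Submodule R (Fin n → R)) := by
        intro N
        induction N with
        | zero => rw [zero_add, pow_one]; exact hmem _ hd
        | succ N ih => rw [← hfix]; exact hpow N _ ih
      have h := (Submodule.mem_iInf (fun N : ℕ => 𝔪 ^ N • (⊤ : Submodule R (Fin n → R)))).mpr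
        fun N => Submodule.smul_mono (Ideal.pow_le_pow_right (Nat.le_succ N)) le_rfl (hN N)
      rw [Ideal.iInf_pow_smul_eq_bot_of_isLocalRing 𝔪 (IsLocalRing.maximalIdeal.isMaximal R).ne_top,
        Submodule.mem_bot, sub_eq_zero] at h
      exact Subtype.ext h
    · rintro ⟨x, hx⟩
      obtain ⟨x', rfl⟩ := hπsurj x
      have hk : π (T' x' - x') = 0 := by rw [map_sub, hcomm, hx, sub_self]
      have hkm := hker _ hk
      -- solve in coordinates of the fixed basis
      have hkm' : ∀ i, e.equivFun (T' x' - x') i ∈ 𝔪 := fun i => by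
        have h1 := Submodule.mem_map_of_mem (f := (LinearMap.proj i : (Fin n → R) →ₗ[R] R) ∘ₗ e.equivFun.toLinearMap)
          (hmem _ hk)
        rw [Submodule.map_smul''] at h1
        exact (Submodule.smul_le.mpr fun r hr z _ => Ideal.mul_mem_right z 𝔪 hr) h1
      choose y hy hy' using fun i => H83.FrobFix.exists_mem_pow_sub_self (p := p) (hkm' i)
      have hY : T' (∑ i, y i • e i) - ∑ i, y i • e i = T' x' - x' := by
        rw [H83.FrobFix.map_sum_fixed T' hT' e he, ← Finset.sum_sub_distrib]
        conv_rhs => rw [← e.sum_equivFun (T' x' - x')]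
        exact Finset.sum_congr rfl fun i _ => by rw [← sub_smul, hy']
      have h0 : π (∑ i, y i • e i) = 0 := hsmall _
        (Submodule.sum_mem _ fun i _ => Submodule.smul_mem_smul (hy i) trivial) (by rw [hY]; exact hk)
      exact ⟨⟨x' - ∑ i, y i • e i, by rw [map_sub]; linear_combination (norm := module) (1 : R) • (-hY)⟩,
        Subtype.ext (by show π (x' - _) = π x'; rw [map_sub, h0, sub_zero])⟩
  rw [← Nat.card_congr (Equiv.ofBijective g hg), hcardF, Fintype.card_fin]

end Groth.Agent.S13367
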