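import Groth.Statements.S13371
import Groth.Agent.Lib.RedPts.Ga
import Groth.Agent.Lib.RedPts.Gm
import Groth.Agent.S13370

set_option autoImplicit false
universe u
open GaDual

namespace Groth.Agent.S13371

open CategoryTheory AlgebraicGeometry MonObj MonoidalCategory CartesianMonoidalCategory in
/-- If S is a reduced scheme, every homomorphism of S-group schemes from the additive group to the
multiplicative group over S is the trivial homomorphism. -/
theorem result (S : Scheme.{u}) [IsReduced S] (φ : Red.Ga S ⟶ Red.Gm S)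
    [IsMonHom φ] : φ = 1 := by
  let n := PUnit.{u + 1}
  let A : Over S := Over.mk (𝔸(n; S) ↘ S)
  let g : A ⟶ Red.Ga S := Groth.Agent.Lib.RedPts.Ga.gaPt (X := A) (AffineSpace.coord S (PUnit.unit : n))
  let e : Red.Ga S ⟶ A := Over.homMk
    (AffineSpace.homOfVector (Red.Ga S).hom (fun _ => Red.gaFn (𝟙 (Red.Ga S))))
    (AffineSpace.homOfVector_over _ _)
  have heg : e ≫ g = 𝟙 _ := by
    apply Groth.Agent.Lib.RedPts.Ga.gaFn_injective
    rw [Groth.Agent.Lib.RedPts.Ga.gaFn_comp, Groth.Agent.Lib.RedPts.Ga.gaFn_gaPt]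
    exact AffineSpace.homOfVector_appTop_coord _ _ _
  let z : 𝟙_ (Over S) ⟶ Red.Ga S := η[Red.Ga S]
  have hw : IsUnit (Red.gmFn (g ≫ φ)) := Groth.Agent.Lib.RedPts.Gm.isUnit_gmFn _
  obtain ⟨v, _, hv⟩ := Groth.Agent.S13370.result n S _ hw
  have hφ : Red.gmFn φ = (Red.Ga S).hom.appTop v := by
    rw [← Category.id_comp φ, ← heg, Category.assoc, Groth.Agent.Lib.RedPts.Gm.gmFn_comp, ← hv,
      ← Over.w e]
    rfl
  have h1 : z ≫ φ = 1 := by
    rw [show z ≫ φ = η[Red.Gm S] from IsMonHom.one_hom φ]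
    exact Groth.Agent.Lib.RedPts.Gm.η_eq_one _
  apply Groth.Agent.Lib.RedPts.Gm.gmFn_injective
  rw [Groth.Agent.Lib.RedPts.Gm.gmFn_one, hφ]
  have h2 := congrArg Red.gmFn h1
  rw [Groth.Agent.Lib.RedPts.Gm.gmFn_one, Groth.Agent.Lib.RedPts.Gm.gmFn_comp, hφ] at h2
  have h3 : z.left ≫ (Red.Ga S).hom = 𝟙 S := Over.w z
  have h4 : z.left.appTop ((Red.Ga S).hom.appTop v) = v := by
    have := congr($(congrArg Scheme.Hom.appTop h3) v)
    simp only [Scheme.Hom.comp_appTop, CommRingCat.comp_apply, Scheme.Hom.id_appTop] at this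
    exact this.trans rfl
  rw [h4] at h2
  exact (congrArg _ h2).trans (map_one _)

end Groth.Agent.S13371
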