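import Groth.Statements.S13378
import Groth.Agent.Lib.ProCompl.Profinite
import Groth.Agent.Lib.ProCompl.Characters

set_option autoImplicit false
universe u
open ProCompl

namespace Groth.Agent.S13378

/-- For an abelian group A (written multiplicatively, discrete) and a subgroup A' such that the quotient
A/A' has no nontrivial divisible element and its torsion elements are killed by one positive
integer, the map induced on profinite completions by the inclusion of A' in A is injective. (The
published statement is for topological abelian groups in which every nA is open, with completions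
formed from open subgroups of finite index; this row is the case of the discrete topology.) -/
theorem result (A : Type u) [CommGroup A] (A' : Subgroup A)
    (hdiv : ∀ x : A ⧸ A', (∀ n : ℕ, 0 < n → ∃ y : A ⧸ A', y ^ n = x) → x = 1)
    (htors : ∃ N : ℕ, 0 < N ∧ ∀ x : A ⧸ A', IsOfFinOrder x → x ^ N = 1) :
    Function.Injective (ProfiniteGrp.profiniteCompletion.map (GrpCat.ofHom A'.subtype)).hom := by
  open Groth.Agent.Lib.ProCompl.Profinite Groth.Agent.Lib.ProCompl.Characters in
  refine (injective_iff_map_eq_one (ProfiniteGrp.profiniteCompletion.map (GrpCat.ofHom A'.subtype)).hom).mpr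
    fun x hx ↦ Subtype.ext (funext fun W ↦ ?_)
  have : Finite (A' ⧸ W.toSubgroup) := Subgroup.finite_quotient_of_finiteIndex
  obtain ⟨N, hN, hN'⟩ := htors
  let W' : Subgroup A := W.toSubgroup.map A'.subtype
  let m := Nat.card (A' ⧸ W.toSubgroup)
  have havoid : ∀ q : A' ⧸ W.toSubgroup, ∃ V : Subgroup A, V.FiniteIndex ∧
      (q ≠ 1 → ∀ a : A', QuotientGroup.mk a = q → (a : A) ∉ V) := fun q ↦ by
    by_cases hq : q = 1
    · exact ⟨⊤, inferInstance, fun h ↦ absurd hq h⟩
    obtain ⟨a₀, rfl⟩ := QuotientGroup.mk_surjective q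
    have hnd : ∀ b : Additive (A ⧸ W'),
        (N * m) • b ≠ Additive.ofMul ((a₀ : A) : A ⧸ W') := by
      intro b hb
      obtain ⟨y, hy⟩ := QuotientGroup.mk_surjective (Additive.toMul b)
      replace hb : ((y : A ⧸ W')) ^ (N * m) = ((a₀ : A) : A ⧸ W') := by
        rw [hy]
        exact congrArg Additive.toMul hb
      rw [← QuotientGroup.mk_pow, QuotientGroup.eq] at hb
      obtain ⟨w, hw, hweq⟩ := hb
      have hyA : ((y : A ⧸ A')) ^ N = 1 := hN' _ (isOfFinOrder_iff_pow_eq_one.mpr
        ⟨N * m, Nat.mul_pos hN Nat.card_pos, by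
          rw [← QuotientGroup.mk_pow, QuotientGroup.eq_one_iff]
          have : y ^ (N * m) = (a₀ : A) * (A'.subtype w)⁻¹ := by rw [hweq]; group
          rw [this]
          exact A'.mul_mem a₀.2 (A'.inv_mem w.2)⟩)
      rw [← QuotientGroup.mk_pow, QuotientGroup.eq_one_iff] at hyA
      have heq : a₀ = (⟨y ^ N, hyA⟩ : A') ^ m * w := Subtype.ext (by
        rw [Subgroup.coe_mul, SubmonoidClass.coe_pow, ← pow_mul,
          show (w : A) = (y ^ (N * m))⁻¹ * a₀ from hweq, mul_inv_cancel_left])
      refine hq ((QuotientGroup.eq_one_iff a₀).mpr ?_)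
      rw [heq]
      exact W.toSubgroup.mul_mem (Subgroup.pow_index_mem _ _) hw
    obtain ⟨B, hB, haB, -⟩ := exists_finiteIndex_not_mem (Nat.mul_pos hN Nat.card_pos) hnd
    have hB' : (AddSubgroup.toSubgroup' B).FiniteIndex := ⟨hB.index_ne_zero⟩
    refine ⟨(AddSubgroup.toSubgroup' B).comap (QuotientGroup.mk' W'), ⟨by
      rw [Subgroup.index_comap_of_surjective _ (QuotientGroup.mk'_surjective _)]
      exact hB'.index_ne_zero⟩,
      fun _ a ha hmem ↦ haB ?_⟩
    have : ((a : A) : A ⧸ W') = ((a₀ : A) : A ⧸ W') := QuotientGroup.eq.mpr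
      ⟨a⁻¹ * a₀, QuotientGroup.eq.mp ha, by simp⟩
    exact this ▸ hmem
  choose V hVfi hV using havoid
  let M : Subgroup A := ⨅ q, V q
  have hM : M.FiniteIndex := Subgroup.finiteIndex_iInf hVfi
  let M' : FiniteIndexNormalSubgroup (GrpCat.of A) := FiniteIndexNormalSubgroup.ofSubgroup M
  have hle : M'.comap (GrpCat.ofHom A'.subtype).hom ≤ W := fun a ha ↦ by
    by_contra haW
    exact hV (QuotientGroup.mk a) (fun h ↦ haW ((QuotientGroup.eq_one_iff a).mp h)) a rfl
      (Subgroup.mem_iInf.mp (ha : (a : A) ∈ M) _)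
  have h1 := map_apply (GrpCat.ofHom A'.subtype) x M'
  rw [hx] at h1
  obtain ⟨a, ha⟩ := QuotientGroup.mk_surjective (x.1 (M'.comap (GrpCat.ofHom A'.subtype).hom))
  rw [← ha] at h1
  rw [← x.2 hle.hom, ← ha]
  exact (QuotientGroup.eq_one_iff a).mpr (hle (show (a : A) ∈ M from (QuotientGroup.eq_one_iff (a : A)).mp h1.symm))

end Groth.Agent.S13378
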