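import Groth.Statements.S13379
import Groth.Agent.Lib.ProCompl.Profinite

set_option autoImplicit false
universe u
open ProCompl

namespace Groth.Agent.S13379

/-- Profinite completion is right exact: for an abelian group A (written multiplicatively, discrete) and
a subgroup A', the map on profinite completions induced by A → A/A' is surjective and its kernel is
the image of the completion of A'. (The published statement is right-exactness for topological
abelian groups with completions formed from open subgroups of finite index; this row is the case of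
the discrete topology.) -/
theorem result (A : Type u) [CommGroup A] (A' : Subgroup A) :
    Function.Surjective (ProfiniteGrp.profiniteCompletion.map (GrpCat.ofHom (QuotientGroup.mk' A'))).hom ∧
      (ProfiniteGrp.profiniteCompletion.map (GrpCat.ofHom (QuotientGroup.mk' A'))).hom.toMonoidHom.ker =
        (ProfiniteGrp.profiniteCompletion.map (GrpCat.ofHom A'.subtype)).hom.toMonoidHom.range := by
  open Groth.Agent.Lib.ProCompl.Profinite in
  refine ⟨fun y ↦ mem_range_map (GrpCat.ofHom (QuotientGroup.mk' A')) y fun N ↦ ?_, ?_⟩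
  · obtain ⟨q, hq⟩ := QuotientGroup.mk_surjective (y.1 N)
    obtain ⟨a, rfl⟩ := QuotientGroup.mk_surjective q
    exact ⟨a, hq⟩
  · refine le_antisymm (fun x hx ↦ ?_) ?_
    · refine mem_range_map (GrpCat.ofHom A'.subtype) x fun N ↦ ?_
      obtain ⟨a, ha⟩ := QuotientGroup.mk_surjective (x.1 N)
      have hfi : (N.toSubgroup.map (QuotientGroup.mk' A')).FiniteIndex := ⟨fun h0 ↦
        (inferInstance : N.toSubgroup.FiniteIndex).index_ne_zero (Nat.eq_zero_of_zero_dvd
          (h0 ▸ Subgroup.index_map_dvd _ (QuotientGroup.mk'_surjective A')))⟩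
      let N' : FiniteIndexNormalSubgroup (GrpCat.of (A ⧸ A')) :=
        FiniteIndexNormalSubgroup.ofSubgroup (N.toSubgroup.map (QuotientGroup.mk' A'))
      have hle : N ≤ N'.comap (GrpCat.ofHom (QuotientGroup.mk' A')).hom :=
        Subgroup.le_comap_map _ N.toSubgroup
      have h1 := map_apply (GrpCat.ofHom (QuotientGroup.mk' A')) x N'
      have hx1 : (ProfiniteGrp.profiniteCompletion.map
          (GrpCat.ofHom (QuotientGroup.mk' A'))).hom x = 1 := hx
      rw [hx1, ← x.2 hle.hom, ← ha] at h1
      obtain ⟨n, hn, hna⟩ : QuotientGroup.mk' A' a ∈ N.toSubgroup.map (QuotientGroup.mk' A') :=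
        (QuotientGroup.eq_one_iff _).mp h1.symm
      refine ⟨⟨a * n⁻¹, ?_⟩, ?_⟩
      · rw [← QuotientGroup.eq_one_iff]
        show QuotientGroup.mk' A' (a * n⁻¹) = 1
        rw [map_mul, map_inv, hna, mul_inv_cancel]
      · rw [← ha]
        refine (QuotientGroup.eq).mpr ?_
        show (a * n⁻¹)⁻¹ * a ∈ N.toSubgroup
        rwa [mul_inv_rev, inv_inv, mul_assoc, inv_mul_cancel, mul_one]
    · rintro _ ⟨z, rfl⟩
      refine MonoidHom.mem_ker.mpr (Subtype.ext (funext fun N ↦ ?_))
      show ((ProfiniteGrp.profiniteCompletion.map (GrpCat.ofHom (QuotientGroup.mk' A'))).hom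
        ((ProfiniteGrp.profiniteCompletion.map (GrpCat.ofHom A'.subtype)).hom z)).1 N = _
      refine (map_apply _ _ _).trans ?_
      erw [map_apply]
      obtain ⟨a, ha⟩ := QuotientGroup.mk_surjective
        (z.1 ((N.comap (GrpCat.ofHom (QuotientGroup.mk' A')).hom).comap (GrpCat.ofHom A'.subtype).hom))
      rw [← ha]
      show QuotientGroup.mk (QuotientGroup.mk' A' (A'.subtype a)) = _
      rw [show QuotientGroup.mk' A' (A'.subtype a) = 1 from (QuotientGroup.eq_one_iff _).mpr a.2]
      rfl

end Groth.Agent.S13379
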