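import Groth.Statements.S1338
import Groth.Agent.H46.GeomSpread.Constructible
-- import your own Groth.Agent.* helpers here

set_option autoImplicit false
universe u
open FlatMor

namespace Groth.Agent.S1338

open AlgebraicGeometry CategoryTheory Limits in
/-- For a morphism of finite presentation, each level set of the function counting the irreducible
components of the geometric fibres is locally constructible in the target. -/
theorem result {X Y : Scheme.{u}} (f : X ⟶ Y) [LocallyOfFinitePresentation f] [QuasiCompact f] [QuasiSeparated f] (n : ℕ∞) :
    Topology.IsLocallyConstructible {y : ↑Y | MoreMor.nGeomIrredComp f y = n} := by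
  exact H46.GeomSpread.isLocallyConstructible_of_baseChange
    (fun {X Y} f y => MoreMor.nGeomIrredComp f y = n)
    (fun f f' g' g hc y' => by rw [(H46.GeomSpread.counts_baseChange f f' g' g hc y').1])
    (fun f _ _ η => by
      obtain ⟨V, h1, h2, h3, h4⟩ := H46.GeomSpread.exists_locallyClosed_counts f η
      exact ⟨V, h1, h2, h3, fun y hy => by rw [(h4 y hy).1]⟩) f

end Groth.Agent.S1338
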