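import Groth.Statements.S13380
import Groth.Agent.H2.CocycleThm
import Mathlib.Algebra.MvPolynomial.Nilpotent

set_option autoImplicit false
universe u
open GaDual

namespace Groth.Agent.S13380

/-- Over a commutative ring R of prime characteristic p whose Frobenius is surjective, every commutative
extension of the additive group by the multiplicative group that has a scheme-theoretic section
splits. In the coordinates given by such a section the extension is the product G_m × G_a with law
(t,x)(t',x') = (tt'h(x,x'), x+x') for an invertible polynomial h with h(X,0) = 1, h symmetric and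
h(Y,Z)h(X,Y+Z) = h(X+Y,Z)h(X,Y), and a group-theoretic section is an invertible polynomial f with
f(X+Y) = f(X)f(Y)h(X,Y); the row states the existence of such f for every such h. -/
theorem result (p : ℕ) [Fact p.Prime] (R : Type u)
    [CommRing R] [CharP R p] (hF : Function.Surjective (frobenius R p))
    (h : MvPolynomial (Fin 2) R) (hu : IsUnit h)
    (h0 : MvPolynomial.aeval ![(MvPolynomial.X 0 : MvPolynomial (Fin 2) R), 0] h = 1)
    (hsymm : MvPolynomial.aeval ![(MvPolynomial.X 1 : MvPolynomial (Fin 2) R), MvPolynomial.X 0] h = h)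
    (hcoc : MvPolynomial.aeval ![(MvPolynomial.X 1 : MvPolynomial (Fin 3) R), MvPolynomial.X 2] h *
        MvPolynomial.aeval ![MvPolynomial.X 0, MvPolynomial.X 1 + MvPolynomial.X 2] h =
      MvPolynomial.aeval ![MvPolynomial.X 0 + MvPolynomial.X 1, MvPolynomial.X 2] h *
        MvPolynomial.aeval ![MvPolynomial.X 0, MvPolynomial.X 1] h) :
    ∃ f : Polynomial R, IsUnit f ∧
      Polynomial.aeval (MvPolynomial.X 0 + MvPolynomial.X 1 : MvPolynomial (Fin 2) R) f =
        Polynomial.aeval (MvPolynomial.X 0 : MvPolynomial (Fin 2) R) f *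
          Polynomial.aeval (MvPolynomial.X 1 : MvPolynomial (Fin 2) R) f * h := by
  classical
  have hc0 : MvPolynomial.coeff 0 h = 1 := by
    have := congrArg (MvPolynomial.eval₂Hom (RingHom.id R) (fun _ => (0 : R))) h0
    rw [MvPolynomial.aeval_def, map_one] at this
    have e : (MvPolynomial.eval₂Hom (RingHom.id R) (fun _ : Fin 2 => (0 : R))).comp
        (MvPolynomial.eval₂Hom (algebraMap R (MvPolynomial (Fin 2) R))
          ![(MvPolynomial.X 0 : MvPolynomial (Fin 2) R), 0]) =
        MvPolynomial.constantCoeff := by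
      apply MvPolynomial.ringHom_ext
      · intro r; simp
      · intro i; fin_cases i <;> simp
    have e' := RingHom.congr_fun e h
    simp only [RingHom.comp_apply, MvPolynomial.coe_eval₂Hom] at e' this
    rw [MvPolynomial.constantCoeff_eq] at e'
    exact e'.symm.trans this
  let T := {e : Fin 2 →₀ ℕ // e ∈ h.support ∧ e ≠ 0}
  haveI : Fintype T :=
    Fintype.subtype (h.support.filter (· ≠ 0)) (fun e => Finset.mem_filter)
  have hnil : ∀ t : T, IsNilpotent (MvPolynomial.coeff t.1 h) := fun t =>
    (MvPolynomial.isUnit_iff.1 hu).2 _ t.2.2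
  obtain ⟨𝒲, h𝒲⟩ := Groth.Agent.H2.CocycleThm.exists_wt p hF
    (fun t : T => MvPolynomial.coeff t.1 h) hnil (h.totalDegree + 1) (Nat.succ_pos _)
  have hgood : h ∈ Groth.Agent.H2.CocycleThm.good2 p 𝒲 := by
    intro e
    by_cases he : e = 0
    · subst he; rw [map_zero]; exact 𝒲.top _
    by_cases hs : e ∈ h.support
    · have hle : e.degree ≤ h.totalDegree + 1 := by
        have := MvPolynomial.le_totalDegree hs
        have h2 : e.degree = e.sum fun _ n => n := rfl
        omega
      exact 𝒲.anti hle (h𝒲 ⟨e, hs, he⟩)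
    · rw [MvPolynomial.notMem_support_iff.1 hs]; exact zero_mem _
  obtain ⟨f, g, hfg, hf⟩ := Groth.Agent.H2.CocycleThm.split p 𝒲 h hgood hc0 ⟨hsymm, hcoc⟩
  exact ⟨f, IsUnit.of_mul_eq_one _ hfg, hf⟩

end Groth.Agent.S13380
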