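import Groth.Statements.S13384
import Groth.Agent.Lib.SemiAbIsog.Basic
import Groth.Agent.Lib.MTExt.Torsion
import Groth.Agent.Lib.ImgMT.MaxTorus
import Groth.Agent.Lib.GrpQ.Kernel
import Groth.Agent.Lib.GrpQ.MonoClosed
import Mathlib.AlgebraicGeometry.Morphisms.LocalFlatDescent

set_option autoImplicit false
set_option linter.style.haveILetI false
universe u
open AlgGrpK

namespace Groth.Agent.S13384

open CategoryTheory.Limits CategoryTheory.MonObj CategoryTheory.GrpObj
open scoped CategoryTheory.CartesianMonoidalCategory CategoryTheory.MonoidalCategory CategoryTheory.MonObj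

open CategoryTheory AlgebraicGeometry MonoidalCategory CartesianMonoidalCategory in
/-- If an affine commutative group scheme G of finite type over a field k contains a subtorus T with
finite quotient G/T (given as a flat surjective homomorphism with kernel T onto a finite k-group),
then G receives an isogeny — a flat surjective homomorphism with finite kernel — from the product of
a finite k-group scheme and a k-torus. (The published statement also gives two further equivalent
conditions, on the reduced identity component over an algebraic closure and on Weil restrictions of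
split tori; this row states only this implication.) -/
theorem result (k : Type u) [Field k]
    (G : Over (Spec (CommRingCat.of k))) [GrpObj G] [IsCommMonObj G]
    [LocallyOfFiniteType G.hom] [QuasiCompact G.hom] [IsAffine G.left]
    (T Q : Over (Spec (CommRingCat.of k))) [GrpObj T] [GrpObj Q] (j : T ⟶ G) (q : G ⟶ Q)
    [IsMonHom j] [IsMonHom q] [Mono j] (hT : Red.IsTorus T) (hker : AlgGrp.IsKernel j q)
    [Flat q.left] [Surjective q.left] [IsFinite Q.hom] :
    ∃ (A T' : Over (Spec (CommRingCat.of k))) (_ : GrpObj A) (_ : GrpObj T') (f : A ⊗ T' ⟶ G) (_ : IsMonHom f),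
      IsFinite A.hom ∧ Red.IsTorus T' ∧ SGA7.IsIsogenyOver f ∧ Flat f.left := by
  classical
  haveI : Mono j := ‹Mono j›
  haveI hTaff : IsAffineHom T.hom := Groth.Agent.Lib.Tori.Basic.isAffineHom_of_isTorus hT
  haveI := Groth.Agent.Lib.Tori.Basic.smooth_of_isTorus hT
  haveI : IsSeparated G.hom := inferInstance
  haveI : QuasiCompact q.left := Groth.Agent.Lib.GrpQ.quasiCompact_left q
  obtain ⟨n, hn, hQn⟩ := Groth.Agent.Lib.SemiAbIsog.Basic.exists_killed Q
  let pG : G ⟶ G := (𝟙 G) ^ n
  haveI : IsMonHom pG := by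
    constructor
    · show η[G] ≫ (𝟙 G) ^ n = η[G]
      rw [MonObj.comp_pow, Category.comp_id, MonObj.one_eq_one, one_pow]
    · rw [MonObj.comp_pow, Category.comp_id]
      have h0 : (pG ⊗ₘ pG) ≫ μ[G] = (fst G G ≫ pG) * (snd G G ≫ pG) := by
        rw [Hom.mul_def, lift_fst_comp_snd_comp]
      rw [h0, MonObj.comp_pow, MonObj.comp_pow, Category.comp_id, Category.comp_id, ← mul_pow]
      congr 1
      rw [Hom.mul_def, lift_fst_snd, Category.id_comp]
  obtain ⟨A, gA, iA, hiA, hciA, hkA, -⟩ := Groth.Agent.Lib.GrpQ.exists_kernel pG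
  haveI := hiA; haveI := hciA
  haveI : Mono iA := Groth.Agent.Lib.GrpQ.kernel_mono hkA
  haveI : LocallyOfFiniteType T.hom := inferInstance
  -- finiteness of the torsion subgroup
  haveI hAfin : IsFinite A.hom := by
    have hH : IsFinite (𝟙 T ^ n : T ⟶ T).left :=
      Groth.Agent.Lib.MTExt.isFinite_pow (Groth.Agent.Lib.SemiAbIsog.Basic.isMultTypeFT_of_isTorus hT) hn
    have hK : IsFinite (𝟙 Q ^ n : Q ⟶ Q).left := by
      haveI : IsFinite ((𝟙 Q ^ n : Q ⟶ Q).left ≫ Q.hom) := by rw [Over.w]; infer_instance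
      exact IsFinite.of_comp _ Q.hom
    haveI h := Groth.Agent.Lib.MTExt.isFinite_kerMap hker (fun X a b => mul_comm a b) n hH hK
    rw [Groth.Agent.Lib.MTExt.kerMap_eq_fst] at h
    have sq : IsPullback A.hom iA.left η[G].left pG.left := by
      have h1 : IsPullback (toUnit A).left iA.left η[G].left pG.left := (hkA.map (Over.forget _)).flip
      have h2 : (toUnit A).left = A.hom := (Category.comp_id _).symm.trans (Over.w (toUnit A))
      rwa [h2] at h1
    haveI : IsFinite (pullback.fst η[G].left pG.left) := h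
    rw [← sq.isoPullback_hom_fst]
    exact inferInstanceAs (IsFinite (sq.isoPullback.hom ≫ pullback.fst η[G].left pG.left))
  let f : A ⊗ T ⟶ G := (iA ⊗ₘ j) ≫ μ[G]
  have hf : ∀ {X : Over (Spec (CommRingCat.of k))} (a : X ⟶ A) (t : X ⟶ T), lift a t ≫ f = (a ≫ iA) * (t ≫ j) :=
    fun a t => by rw [Hom.mul_def, lift_map_assoc]
  haveI : IsMonHom f := inferInstance
  have hf' : ∀ {X : Over (Spec (CommRingCat.of k))} (x : X ⟶ A ⊗ T), x ≫ f = (x ≫ fst A T ≫ iA) * (x ≫ snd A T ≫ j) := fun x => by
    conv_lhs => rw [← lift_comp_fst_snd x]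
    rw [hf, Category.assoc, Category.assoc]
  -- a cover of `G` along which `f` has a section
  obtain ⟨t₀, ht₀⟩ := (Groth.Agent.Lib.GrpQ.mem_kernel hker pG).2 (by
    show ((𝟙 G) ^ n) ≫ q = 1
    rw [MonObj.pow_comp, Category.id_comp]
    conv_lhs => rw [← Category.comp_id q, ← MonObj.comp_pow, hQn, MonObj.comp_one])
  obtain ⟨hpf, hps, hpq⟩ := Groth.Agent.Lib.ImgMT.isCov_powN_torus hT hn
  let pT : T ⟶ T := Groth.Agent.Lib.ImgMT.powN T n
  haveI := hpf; haveI := hps; haveI := hpq
  let Y : Over (Spec (CommRingCat.of k)) := pullback t₀ pT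
  let c : Y ⟶ G := pullback.fst t₀ pT
  let t' : Y ⟶ T := pullback.snd t₀ pT
  have hsq : IsPullback t'.left c.left pT.left t₀.left := ((IsPullback.of_hasPullback t₀ pT).map (Over.forget _)).flip
  haveI : Flat c.left := MorphismProperty.of_isPullback (P := @Flat) hsq hpf
  haveI : Surjective c.left := MorphismProperty.of_isPullback (P := @Surjective) hsq hps
  haveI : QuasiCompact c.left := MorphismProperty.of_isPullback (P := @QuasiCompact) hsq hpq
  have hct : t' ^ n = c ≫ t₀ := by
    rw [← Groth.Agent.Lib.ImgMT.comp_powN]; exact pullback.condition.symm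
  obtain ⟨a, ha⟩ := (Groth.Agent.Lib.GrpQ.mem_kernel hkA (c / (t' ≫ j))).2 (by
    show (c / (t' ≫ j)) ≫ (𝟙 G) ^ n = 1
    rw [MonObj.comp_pow, Category.comp_id, div_pow, ← MonObj.pow_comp, hct, Category.assoc, ht₀]
    show c ^ n / (c ≫ (𝟙 G) ^ n) = 1
    rw [MonObj.comp_pow, Category.comp_id, div_self'])
  let σ : Y ⟶ A ⊗ T := lift a t'
  have hσ : σ ≫ f = c := by rw [hf, ha, div_mul_cancel]
  haveI : Surjective f.left := by
    haveI : Surjective (σ.left ≫ f.left) := by rw [← Over.comp_left, hσ]; infer_instance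
    exact Surjective.of_comp σ.left f.left
  -- the kernel
  obtain ⟨N, gN, iN, hiN, hciN, hkN, -⟩ := Groth.Agent.Lib.GrpQ.exists_kernel f
  haveI := hiN; haveI := hciN
  haveI : Mono iN := Groth.Agent.Lib.GrpQ.kernel_mono hkN
  haveI : IsAffineHom (pullback.fst A.hom T.hom) := MorphismProperty.pullback_fst (P := @IsAffineHom) _ _ hTaff
  haveI : IsAffineHom (A ⊗ T).hom := inferInstanceAs (IsAffineHom (pullback.fst A.hom T.hom ≫ A.hom))
  haveI : LocallyOfFiniteType (A ⊗ T).hom := inferInstanceAs (LocallyOfFiniteType (pullback.fst A.hom T.hom ≫ A.hom))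
  haveI hNfin : IsFinite N.hom := by
    haveI : Mono (iN ≫ fst A T) := ⟨fun {X} u v huv => by
      refine (cancel_mono iN).1 ?_
      have hu : (u ≫ iN) ≫ f = 1 := by rw [Category.assoc, Groth.Agent.Lib.GrpQ.kernel_comp hkN, MonObj.comp_one]
      have hv : (v ≫ iN) ≫ f = 1 := by rw [Category.assoc, Groth.Agent.Lib.GrpQ.kernel_comp hkN, MonObj.comp_one]
      have h1 : (u ≫ iN) ≫ fst A T = (v ≫ iN) ≫ fst A T := by simpa only [Category.assoc] using huv
      apply CartesianMonoidalCategory.hom_ext _ _ h1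
      refine (cancel_mono j).1 ?_
      rw [hf', ← Category.assoc _ (fst A T), ← Category.assoc _ (snd A T)] at hu hv
      rw [h1, ← hv] at hu
      exact mul_left_cancel hu⟩
    haveI : LocallyOfFiniteType N.hom := by rw [← Over.w iN]; infer_instance
    haveI : IsAffineHom N.hom := by rw [← Over.w iN]; infer_instance
    haveI : QuasiCompact (iN ≫ fst A T).left := by
      haveI : QuasiCompact ((iN ≫ fst A T).left ≫ A.hom) := by rw [Over.w]; infer_instance
      exact QuasiCompact.of_comp _ A.hom
    haveI := Groth.Agent.Lib.GrpQ.MonoClosed.isClosedImmersion_of_mono (iN ≫ fst A T)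
    rw [← Over.w (iN ≫ fst A T)]
    infer_instance
  haveI : Flat N.hom := Groth.Agent.Lib.GrpSch.flat_of_isField (Field.toIsField k) _
  -- flatness of `f`
  have hpb : IsPullback ((fst N Y ≫ iN) * (snd N Y ≫ σ)) (snd N Y) f c := by
    have w : ((fst N Y ≫ iN) * (snd N Y ≫ σ)) ≫ f = snd N Y ≫ c := by
      rw [MonObj.mul_comp, Category.assoc, Groth.Agent.Lib.GrpQ.kernel_comp hkN, MonObj.comp_one, _root_.one_mul,
        Category.assoc, hσ]
    have hl : ∀ z : PullbackCone f c, ∃ m : z.pt ⟶ N, m ≫ iN = z.fst / (z.snd ≫ σ) := fun z =>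
      (Groth.Agent.Lib.GrpQ.mem_kernel hkN _).2 (by
        rw [GrpObj.div_comp, Category.assoc, hσ, z.condition, div_self'])
    choose m hm using hl
    refine ⟨⟨w⟩, ⟨PullbackCone.IsLimit.mk w (fun z => lift (m z) z.snd) (fun z => ?_) (fun z => lift_snd _ _)
      (fun z x h1 h2 => ?_)⟩⟩
    · rw [MonObj.comp_mul, lift_fst_assoc, lift_snd_assoc, hm, div_mul_cancel]
    · apply CartesianMonoidalCategory.hom_ext
      · rw [lift_fst, ← cancel_mono iN, hm, ← h1, ← h2, MonObj.comp_mul, Category.assoc, Category.assoc, mul_div_cancel_right]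
      · rw [lift_snd, h2]
  haveI : Flat f.left := by
    refine MorphismProperty.of_isPullback_of_descendsAlong (P := @Flat) (Q := @Surjective ⊓ @Flat ⊓ @QuasiCompact)
      (hpb.map (Over.forget _)).flip ⟨⟨‹_›, ‹_›⟩, ‹_›⟩ ?_
    exact Groth.Agent.Lib.GrpSch.snd_left_of (P := @Flat) Y ‹Flat N.hom›
  refine ⟨A, T, gA, inferInstance, f, inferInstance, hAfin, hT, ⟨inferInstance, fun N' i' hk' => ?_⟩, inferInstance⟩
  let e := IsPullback.isoIsPullback _ _ hk' hkN
  haveI : IsIso e.hom.left := ((Over.forget _).mapIso e).isIso_hom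
  rw [← Over.w e.hom]
  infer_instance

end Groth.Agent.S13384
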