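import Groth.Statements.S13387
import Groth.Agent.Lib.ZeroCyc99.Span
-- import your own Groth.Agent.* helpers here

set_option autoImplicit false
universe u
open ZeroCyc

namespace Groth.Agent.S13387

open Groth.Agent.Lib.ZeroCyc99.Span

/-- Let A be a commutative ring, M an A-module and d ≥ 0. Suppose that at each prime p of A either k(p)
has d or more elements, or the localisation M_p is a cyclic A_p-module. Then the degree-d piece
Γ^d_A(M) of the divided power algebra Γ_A(M) is spanned over A by the d-th divided powers γ_d(m), m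
∈ M. -/
theorem result {A M : Type u} [CommRing A] [AddCommGroup M]
    [Module A M] (d : ℕ)
    (h : ∀ p : PrimeSpectrum A, (d : Cardinal) ≤ Cardinal.mk p.asIdeal.ResidueField ∨
      ∃ x : LocalizedModule p.asIdeal.primeCompl M, Submodule.span (Localization.AtPrime p.asIdeal) {x} = ⊤) :
    Submodule.span A (Set.range (DividedPowerAlgebra.dp A d : M → DividedPowerAlgebra A M)) =
      PolLaw.gammaPiece A M d := by
  refine le_antisymm (S_le_gammaPiece d) fun q hq => ?_
  let I : Ideal A := (S A M d).comap (LinearMap.toSpanSingleton A _ q)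
  by_contra hcon
  obtain ⟨p, hp, hIp⟩ := Ideal.exists_le_maximal I (fun hI => hcon (by
    have : (1 : A) ∈ I := hI ▸ Submodule.mem_top
    simp only [I, Submodule.mem_comap, LinearMap.toSpanSingleton_apply, one_smul] at this
    exact this))
  suffices ∃ D ∈ p.primeCompl, D • q ∈ S A M d by
    obtain ⟨D, hD, hD'⟩ := this
    exact hD (hIp hD')
  rcases h ⟨p, hp.isPrime⟩ with hk | ⟨x, hx⟩
  · refine exists_smul_mem p.primeCompl (fun e he => ?_) hq
    obtain ⟨f⟩ : Nonempty (ULift.{u} (Fin d) ↪ p.ResidueField) := by
      rw [← Cardinal.le_def]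
      simpa using hk
    let g : Fin e → p.ResidueField := fun i => f ⟨⟨(i : ℕ) + 1, by omega⟩⟩ - f ⟨⟨0, by omega⟩⟩
    choose v hv using fun i => Ideal.algebraMap_residueField_surjective p (g i)
    refine ⟨v, fun hmem => ?_⟩
    replace hmem : algebraMap A p.ResidueField (disc v) = 0 := Ideal.algebraMap_residueField_eq_zero.2 hmem
    simp only [disc, map_mul, map_prod, map_sub, hv, mul_eq_zero, Finset.prod_eq_zero_iff, g,
      sub_eq_zero, Finset.mem_univ, true_and, Finset.mem_Ioi, sub_left_inj, f.injective.eq_iff,
      ULift.up_inj, Fin.mk.injEq] at hmem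
    rcases hmem with ⟨i, hi⟩ | ⟨i, j, hij, hi⟩
    · omega
    · have : (i : ℕ) < (j : ℕ) := hij
      omega
  · induction x using LocalizedModule.induction_on with
    | _ m₀ s =>
      refine exists_smul_mem_of_cyclic p.primeCompl m₀ (fun m => ?_) hq
      obtain ⟨c, hc⟩ := Submodule.mem_span_singleton.1
        (show LocalizedModule.mk m (1 : p.primeCompl) ∈ _ from hx ▸ Submodule.mem_top)
      obtain ⟨⟨r, t⟩, rfl⟩ := IsLocalization.mk'_surjective p.primeCompl c
      simp only at hc
      rw [← Localization.mk_eq_mk', LocalizedModule.mk_smul_mk, LocalizedModule.mk_eq] at hc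
      obtain ⟨u, hu⟩ := hc
      refine ⟨(u : A) * ((t * s : p.primeCompl) : A), p.primeCompl.mul_mem u.2 (t * s).2, (u : A) * r, ?_⟩
      simp only [Submonoid.smul_def, one_smul, OneMemClass.coe_one, smul_smul] at hu ⊢
      exact hu.symm

end Groth.Agent.S13387
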