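import Groth.Statements.S13388
import Groth.Agent.Lib.ZeroCyc99.Span
import Mathlib.RingTheory.LocalRing.Module
import Mathlib.RingTheory.Localization.Finiteness
import Mathlib.LinearAlgebra.Dual.Lemmas
import Mathlib.FieldTheory.Finite.Basic
-- import your own Groth.Agent.* helpers here

set_option autoImplicit false
universe u
open ZeroCyc

namespace Groth.Agent.S13388

open Groth.Agent.Lib.ZeroCyc99.Span

open IsLocalRing in
theorem exists_forms {R N : Type u} [CommRing R] [IsLocalRing R] [AddCommGroup N] [Module R N] [Module.Finite R N]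
    (hN : ∀ x : N, Submodule.span R {x} ≠ ⊤) :
    ∃ (x y : N) (l₁ l₂ : N →ₗ[R] ResidueField R), l₁ x ≠ 0 ∧ l₁ y = 0 ∧ l₂ x = 0 ∧ l₂ y ≠ 0 := by
  let k := ResidueField R
  let mk1 : N →ₗ[R] TensorProduct R k N := TensorProduct.mk R k N 1
  have hsurj : Function.Surjective (algebraMap R k) := residue_surjective
  have hmk : Function.Surjective mk1 := fun v => by
    induction v using TensorProduct.induction_on with
    | zero => exact ⟨0, map_zero _⟩
    | tmul c n =>
      obtain ⟨r, rfl⟩ := hsurj c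
      exact ⟨r • n, by simp only [mk1, TensorProduct.mk_apply, TensorProduct.tmul_smul, TensorProduct.smul_tmul',
        Algebra.smul_def, mul_one]⟩
    | add a b ha hb =>
      obtain ⟨a, rfl⟩ := ha
      obtain ⟨b, rfl⟩ := hb
      exact ⟨a + b, map_add _ _ _⟩
  have hspan : ∀ v : TensorProduct R k N, ∃ w, w ∉ Submodule.span k {v} := fun v => by
    by_contra hcon
    push_neg at hcon
    obtain ⟨n, rfl⟩ := hmk v
    refine hN n ((map_tensorProduct_mk_eq_top (N := Submodule.span R {n})).1 ?_)
    rw [Submodule.map_span, Set.image_singleton, ← Submodule.restrictScalars_span R k hsurj,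
      Submodule.restrictScalars_eq_top_iff, eq_top_iff]
    exact fun w _ => hcon w
  obtain ⟨v₁, hv₁⟩ := hspan 0
  obtain ⟨v₂, hv₂⟩ := hspan v₁
  have hv₁' : v₁ ∉ Submodule.span k {v₂} := fun h => by
    obtain ⟨c, hc⟩ := Submodule.mem_span_singleton.1 h
    rcases eq_or_ne c 0 with rfl | hc0
    · exact hv₁ (by rw [← hc, zero_smul]; exact zero_mem _)
    · exact hv₂ (Submodule.mem_span_singleton.2 ⟨c⁻¹, by rw [← hc, smul_smul, inv_mul_cancel₀ hc0, one_smul]⟩)
  obtain ⟨x, rfl⟩ := hmk v₁
  obtain ⟨y, rfl⟩ := hmk v₂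
  obtain ⟨f₁, hf₁, hf₁'⟩ := Submodule.exists_dual_map_eq_bot_of_notMem hv₁' inferInstance
  obtain ⟨f₂, hf₂, hf₂'⟩ := Submodule.exists_dual_map_eq_bot_of_notMem hv₂ inferInstance
  refine ⟨x, y, f₁.restrictScalars R ∘ₗ mk1, f₂.restrictScalars R ∘ₗ mk1, hf₁, ?_, ?_, hf₂⟩
  · exact (Submodule.eq_bot_iff _).1 hf₁' _ (Submodule.mem_map_of_mem (Submodule.mem_span_singleton_self _))
  · exact (Submodule.eq_bot_iff _).1 hf₂' _ (Submodule.mem_map_of_mem (Submodule.mem_span_singleton_self _))

/-- Let A be a commutative ring, M a finitely generated A-module and d ≥ 0. If the degree-d piece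
Γ^d_A(M) of Γ_A(M) is spanned over A by the divided powers γ_d(m), m ∈ M, then at each prime p of A
either k(p) has d or more elements, or the localisation M_p is a cyclic A_p-module. -/
theorem result {A M : Type u} [CommRing A] [AddCommGroup M]
    [Module A M] [Module.Finite A M] (d : ℕ)
    (h : Submodule.span A (Set.range (DividedPowerAlgebra.dp A d : M → DividedPowerAlgebra A M)) =
      PolLaw.gammaPiece A M d)
    (p : PrimeSpectrum A) :
    (d : Cardinal) ≤ Cardinal.mk p.asIdeal.ResidueField ∨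
      ∃ x : LocalizedModule p.asIdeal.primeCompl M, Submodule.span (Localization.AtPrime p.asIdeal) {x} = ⊤ := by
  classical
  by_contra hcon
  push_neg at hcon
  obtain ⟨hk, hnc⟩ := hcon
  have : Module.Finite (Localization.AtPrime p.asIdeal) (LocalizedModule p.asIdeal.primeCompl M) :=
    Module.Finite.of_isLocalizedModule p.asIdeal.primeCompl (LocalizedModule.mkLinearMap p.asIdeal.primeCompl M)
  obtain ⟨x, y, l₁, l₂, h11, h12, h21, h22⟩ := exists_forms hnc
  induction x using LocalizedModule.induction_on with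
  | _ m₁ s₁ =>
  induction y using LocalizedModule.induction_on with
  | _ m₂ s₂ =>
  let φ₁ : M →ₗ[A] p.asIdeal.ResidueField :=
    l₁.restrictScalars A ∘ₗ LocalizedModule.mkLinearMap p.asIdeal.primeCompl M
  let φ₂ : M →ₗ[A] p.asIdeal.ResidueField :=
    l₂.restrictScalars A ∘ₗ LocalizedModule.mkLinearMap p.asIdeal.primeCompl M
  have hφ : ∀ (l : LocalizedModule p.asIdeal.primeCompl M →ₗ[Localization.AtPrime p.asIdeal]
      p.asIdeal.ResidueField) (m : M) (s : p.asIdeal.primeCompl),
      l.restrictScalars A (LocalizedModule.mkLinearMap p.asIdeal.primeCompl M m) =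
        algebraMap A p.asIdeal.ResidueField (s : A) * l (LocalizedModule.mk m s) := by
    intro l m s
    rw [← Algebra.smul_def, LinearMap.restrictScalars_apply, ← LinearMap.map_smul_of_tower,
      LocalizedModule.smul'_mk, ← Submonoid.smul_def, LocalizedModule.mk_cancel,
      LocalizedModule.mkLinearMap_apply]
  have hne : ∀ s : p.asIdeal.primeCompl, algebraMap A p.asIdeal.ResidueField (s : A) ≠ 0 :=
    fun s h => s.2 (Ideal.algebraMap_residueField_eq_zero.1 h)
  have a11 : φ₁ m₁ ≠ 0 := by
    rw [LinearMap.comp_apply, hφ l₁ m₁ s₁]; exact mul_ne_zero (hne _) h11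
  have a12 : φ₁ m₂ = 0 := by rw [LinearMap.comp_apply, hφ l₁ m₂ s₂, h12, mul_zero]
  have a21 : φ₂ m₁ = 0 := by rw [LinearMap.comp_apply, hφ l₂ m₁ s₁, h21, mul_zero]
  have a22 : φ₂ m₂ ≠ 0 := by
    rw [LinearMap.comp_apply, hφ l₂ m₂ s₂]; exact mul_ne_zero (hne _) h22
  clear_value φ₁ φ₂
  have : Finite p.asIdeal.ResidueField :=
    Cardinal.lt_aleph0_iff_finite.1 (hk.trans (Cardinal.natCast_lt_aleph0))
  let fin := Fintype.ofFinite p.asIdeal.ResidueField
  set q := Fintype.card p.asIdeal.ResidueField with hq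
  have hqd : q < d := by
    rw [Cardinal.mk_fintype, ← hq] at hk
    exact_mod_cast hk
  have hq1 : 1 < q := Fintype.one_lt_card
  let L : Finset (Fin d) → Fin d → M →ₗ[A] p.asIdeal.ResidueField := fun J i => if i ∈ J then φ₂ else φ₁
  have hprod : ∀ (J : Finset (Fin d)) (m : M), ∏ i, L J i m = φ₁ m ^ (d - J.card) * φ₂ m ^ J.card := by
    intro J m
    rw [← Finset.prod_mul_prod_compl J, mul_comm]
    congr 1
    · rw [Finset.prod_eq_pow_card (b := φ₁ m) fun i hi => by simp [L, Finset.mem_compl.1 hi],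
        Finset.card_compl, Fintype.card_fin]
    · rw [Finset.prod_eq_pow_card (b := φ₂ m) fun i hi => by simp [L, hi]]
  obtain ⟨J₁, -, hJ₁⟩ := Finset.exists_subset_card_eq (s := (Finset.univ : Finset (Fin d))) (n := 1) (by simp; omega)
  obtain ⟨J₂, -, hJ₂⟩ := Finset.exists_subset_card_eq (s := (Finset.univ : Finset (Fin d))) (n := q) (by simp; omega)
  have hker : S A M d ≤ LinearMap.ker (func (L J₁) - func (L J₂)) := by
    refine Submodule.span_le.2 ?_
    rintro _ ⟨m, rfl⟩
    rw [SetLike.mem_coe, LinearMap.mem_ker, LinearMap.sub_apply, func_dp, func_dp, hprod, hprod, hJ₁, hJ₂, pow_one,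
      FiniteField.pow_card, sub_eq_zero]
    congr 1
    rw [show d - 1 = (d - q - 1) + q by omega, pow_add, FiniteField.pow_card, ← pow_succ,
      show d - q - 1 + 1 = d - q by omega]
  have hmem : DividedPowerAlgebra.dp A (d - 1) m₁ * DividedPowerAlgebra.dp A 1 m₂ ∈ PolLaw.gammaPiece A M d :=
    Submodule.subset_span ⟨2, ![d - 1, 1], ![m₁, m₂], by simp [Fin.sum_univ_two]; omega,
      by simp [Fin.prod_univ_two]⟩
  rw [← h] at hmem
  have h0 := hker hmem
  have hval : ∀ J : Finset (Fin d), func (L J) (DividedPowerAlgebra.dp A (d - 1) m₁ * DividedPowerAlgebra.dp A 1 m₂) =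
      if J.card = 1 then φ₁ m₁ ^ (d - 1) * φ₂ m₂ else 0 := by
    intro J
    rw [func_mul _ (by omega)]
    have hz : ∀ t : Finset (Fin d), t ≠ Jᶜ → (∏ i ∈ t, L J i m₁) * ∏ i ∈ tᶜ, L J i m₂ = 0 := fun t ht => by
      obtain ⟨i, hi⟩ : ∃ i, ¬ (i ∈ t ↔ i ∈ Jᶜ) := not_forall.1 fun hh => ht (Finset.ext hh)
      by_cases hit : i ∈ t
      · have : i ∈ J := by simpa [hit] using hi
        rw [Finset.prod_eq_zero hit (by simp [L, this, a21]), zero_mul]
      · have : i ∉ J := by simpa [hit] using hi
        rw [Finset.prod_eq_zero (Finset.mem_compl.2 hit) (by simp [L, this, a12]), mul_zero]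
    split_ifs with hJ
    · rw [Finset.sum_eq_single_of_mem Jᶜ (Finset.mem_powersetCard.2
        ⟨Finset.subset_univ _, by rw [Finset.card_compl, Fintype.card_fin, hJ]⟩) fun t _ ht => hz t ht, compl_compl]
      rw [Finset.prod_eq_pow_card (b := φ₁ m₁) fun i hi => by simp [L, Finset.mem_compl.1 hi],
        Finset.prod_eq_pow_card (b := φ₂ m₂) fun i hi => by simp [L, hi],
        Finset.card_compl, Fintype.card_fin, hJ, pow_one]
    · refine Finset.sum_eq_zero fun t ht => hz t fun he => hJ ?_
      have := (Finset.mem_powersetCard.1 ht).2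
      rw [he, Finset.card_compl, Fintype.card_fin] at this
      have hle : J.card ≤ d := by simpa using Finset.card_le_univ J
      omega
  rw [LinearMap.mem_ker, LinearMap.sub_apply, hval, hval, if_pos hJ₁, if_neg (by omega), sub_zero] at h0
  exact mul_ne_zero (pow_ne_zero _ a11) a22 h0

end Groth.Agent.S13388
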