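import Groth.Statements.S13389
import Groth.Agent.Lib.ZeroCyc99.Span
-- import your own Groth.Agent.* helpers here

set_option autoImplicit false
universe u
open ZeroCyc

namespace Groth.Agent.S13389




open Groth.Agent.Lib.ZeroCyc99.Span

open Polynomial in
/-- Let P_d(T) = ∏_{0 ≤ i < j ≤ d} (T^i − T^j) − 1 ∈ ℤ[T]. If A is an algebra over ℤ[T]/(P_d), i.e.
receives a ring homomorphism from it, then for every A-module M the degree-d piece Γ^d_A(M) of the
divided power algebra Γ_A(M) is spanned over A by the d-th divided powers γ_d(m), m ∈ M. (The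
published statement adds that consequently every ring has a finite faithfully flat extension,
independent of M, over which this holds; that clause is not restated.) -/
theorem result {A M : Type u} [CommRing A] [AddCommGroup M]
    [Module A M] (d : ℕ)
    (φ : (ℤ[X] ⧸ Ideal.span {(∏ j ∈ Finset.range (d + 1), ∏ i ∈ Finset.range j,
        ((X : ℤ[X]) ^ i - X ^ j)) - 1}) →+* A) :
    Submodule.span A (Set.range (DividedPowerAlgebra.dp A d : M → DividedPowerAlgebra A M)) =
      PolLaw.gammaPiece A M d := by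
  refine le_antisymm (S_le_gammaPiece d) fun q hq => ?_
  obtain ⟨t, ht⟩ : ∃ t : A, ∏ j ∈ Finset.range (d + 1), ∏ i ∈ Finset.range j, (t ^ i - t ^ j) = 1 := by
    obtain ⟨ψ, hψ⟩ : ∃ ψ : Polynomial ℤ →+* A, ψ ((∏ j ∈ Finset.range (d + 1), ∏ i ∈ Finset.range j,
        ((Polynomial.X : Polynomial ℤ) ^ i - Polynomial.X ^ j)) - 1) = 0 :=
      ⟨φ.comp (Ideal.Quotient.mk _), by
        rw [RingHom.comp_apply, Ideal.Quotient.eq_zero_iff_mem.2 (Ideal.mem_span_singleton_self _), map_zero]⟩
    refine ⟨ψ Polynomial.X, sub_eq_zero.1 ?_⟩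
    simpa using hψ
  have hdiff : ∀ i j, i < j → j ≤ d → IsUnit (t ^ i - t ^ j) := fun i j hij hj => by
    refine isUnit_of_dvd_one (ht ▸ ?_)
    exact (Finset.dvd_prod_of_mem (fun i => t ^ i - t ^ j) (Finset.mem_range.2 hij)).trans
      (Finset.dvd_prod_of_mem (fun j => ∏ i ∈ Finset.range j, (t ^ i - t ^ j)) (Finset.mem_range.2 (by omega)))
  have hpow : ∀ i, i < d → IsUnit (t ^ i) := fun i hi => by
    refine isUnit_of_dvd_unit ⟨1 - t, ?_⟩ (hdiff i (i + 1) (by omega) (by omega))
    ring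
  have hv : ∀ e < d, ∃ v : Fin e → A, disc v ∈ IsUnit.submonoid A := fun e he => by
    refine ⟨fun i => t ^ (i : ℕ), ?_⟩
    rw [IsUnit.mem_submonoid_iff, disc, IsUnit.mul_iff, IsUnit.prod_univ_iff, IsUnit.prod_univ_iff]
    refine ⟨fun i => hpow _ (by omega), fun i => IsUnit.prod_iff.2 fun j hj => ?_⟩
    have hij : (i : ℕ) < (j : ℕ) := Fin.lt_def.1 (Finset.mem_Ioi.1 hj)
    rw [← neg_sub]
    exact (hdiff _ _ hij (by omega)).neg
  obtain ⟨D, hD, hmem⟩ := exists_smul_mem (IsUnit.submonoid A) hv hq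
  exact (Submodule.smul_mem_iff_of_isUnit _ hD).1 hmem

end Groth.Agent.S13389
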