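import Groth.Statements.S13393
import Groth.Agent.Lib.SymLoc53.Cases
import Groth.Agent.Lib.SchQuot.Transport
import Groth.Agent.Lib.QuotTame53.Scheme
-- import your own Groth.Agent.* helpers here

set_option autoImplicit false
universe u
open CategoryTheory CategoryTheory.Limits AlgebraicGeometry
open ZeroCyc

namespace Groth.Agent.S13393

/-- Scheme case. Let f : X → S be separated and let (Y, q, g) be a d-th symmetric product of X over S: q
: (X/S)^d → Y is a quotient of the d-fold fibre product by the symmetric group permuting the factors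
and g : Y → S its structure map. Let S' → S be a morphism, let the symmetric group act on (X/S)^d
×_S S' through the first factor (this is the d-fold fibre product of X' = X ×_S S' over S' with its
permutation action), let r : (X/S)^d ×_S S' → Y' be a quotient by that action, i.e. a symmetric
product Sym^d(X'/S'), and let m : Y' → Y ×_S S' be the morphism with r ≫ m = q × id. Then m induces
an isomorphism on residue fields at every point of Y' (trivial residue field extensions); if every
positive integer is invertible in Γ(S', O_{S'}) then m is an isomorphism; and if X' → S' is flat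
then m is a closed immersion. (The published statement is for X a separated algebraic space over S,
where the symmetric products always exist as algebraic spaces; this row is the case of schemes in
which both quotients exist as schemes, taken as hypotheses, and leaves the universal-homeomorphism
clause to the general finite-group statement.) -/
theorem result {X S S' Y Y' : Scheme.{u}} (f : X ⟶ S) [IsSeparated f] (d : ℕ)
    (q : SymProd.fibPow f d ⟶ Y) (g : Y ⟶ S) (hq : SymProd.IsSymProd f d q g)
    (gS : S' ⟶ S)
    (ρ' : ULift.{u} (Equiv.Perm (Fin d)) →* Aut (pullback (WidePullback.base fun _ : Fin d => f) gS))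
    (hρ' : ∀ σ, (ρ' σ).hom ≫ pullback.fst (WidePullback.base fun _ : Fin d => f) gS =
        pullback.fst (WidePullback.base fun _ : Fin d => f) gS ≫ SymProd.permHom f d σ.down ∧
      (ρ' σ).hom ≫ pullback.snd (WidePullback.base fun _ : Fin d => f) gS =
        pullback.snd (WidePullback.base fun _ : Fin d => f) gS)
    (r : pullback (WidePullback.base fun _ : Fin d => f) gS ⟶ Y') (hr : SGA1.IsQuot ρ' r)
    (m : Y' ⟶ pullback g gS)
    (hm : r ≫ m = pullback.map (WidePullback.base fun _ : Fin d => f) gS g gS q (𝟙 S') (𝟙 S)
      ((Category.comp_id _).trans hq.over.symm) ((Category.comp_id gS).trans (Category.id_comp gS).symm)) :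
    (∀ y : Y', IsIso (m.residueFieldMap y)) ∧
    ((∀ n : ℕ, 0 < n → IsUnit ((n : ℕ) : Γ(S', ⊤))) → IsIso m) ∧
    (Flat (pullback.snd f gS) → IsClosedImmersion m) := by
  open Groth.Agent.Lib in
  open Groth.Agent.Lib.SymLoc53.Geom in
  open TopologicalSpace in
  obtain ⟨hq', hover⟩ := id hq
  let F : pullback (WidePullback.base fun _ : Fin d => f) gS ⟶ pullback g gS :=
    pullback.map (WidePullback.base fun _ : Fin d => f) gS g gS q (𝟙 S') (𝟙 S)
      ((Category.comp_id _).trans hq.over.symm) ((Category.comp_id gS).trans (Category.id_comp gS).symm)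
  have hF1 : F ≫ pullback.fst g gS = pullback.fst _ _ ≫ q := pullback.lift_fst _ _ _
  have hF2 : F ≫ pullback.snd g gS = pullback.snd _ _ := (pullback.lift_snd _ _ _).trans (Category.comp_id _)
  have hw : pullback.fst f gS ≫ f = pullback.snd f gS ≫ gS := pullback.condition
  let θ : SymProd.fibPow (pullback.snd f gS) d ≅ pullback (WidePullback.base fun _ : Fin d => f) gS :=
    { hom := pullback.lift (powMap d hw) (WidePullback.base fun _ : Fin d => pullback.snd f gS)
        (powMap_base hw)
      inv := WidePullback.lift (pullback.snd _ _)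
        (fun i => pullback.lift (pullback.fst _ _ ≫ WidePullback.π (fun _ : Fin d => f) i) (pullback.snd _ _)
          (by rw [Category.assoc, WidePullback.π_arrow, pullback.condition]))
        (fun i => pullback.lift_snd _ _ _)
      hom_inv_id := by
        apply WidePullback.hom_ext
        · intro i
          rw [Category.assoc, WidePullback.lift_π, Category.id_comp]
          apply pullback.hom_ext
          · rw [Category.assoc, pullback.lift_fst, pullback.lift_fst_assoc, powMap_π]
          · rw [Category.assoc, pullback.lift_snd, pullback.lift_snd, WidePullback.π_arrow]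
        · rw [Category.assoc, WidePullback.lift_base, pullback.lift_snd, Category.id_comp]
      inv_hom_id := by
        apply pullback.hom_ext
        · rw [Category.assoc, pullback.lift_fst, Category.id_comp]
          apply WidePullback.hom_ext
          · intro i
            rw [Category.assoc, powMap_π, WidePullback.lift_π_assoc, pullback.lift_fst]
          · rw [Category.assoc, powMap_base, WidePullback.lift_base_assoc, pullback.condition]
        · rw [Category.assoc, pullback.lift_snd, WidePullback.lift_base, Category.id_comp] }
  have hθ : ∀ σ, (SymProd.permActU (pullback.snd f gS) d σ).hom ≫ θ.hom = θ.hom ≫ (ρ' σ).hom := fun σ => by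
    apply pullback.hom_ext
    · rw [Category.assoc, Category.assoc, pullback.lift_fst, (hρ' σ).1, pullback.lift_fst_assoc]
      exact permHom_powMap hw σ.down
    · rw [Category.assoc, Category.assoc, pullback.lift_snd, (hρ' σ).2, pullback.lift_snd]
      exact SymProd.permHom_base _ _ _
  let r' := θ.hom ≫ r
  have hr' : SGA1.IsQuot (SymProd.permActU (pullback.snd f gS) d) r' := by
    have h := SchQuot.Transport.isQuot_of_iso hr θ (Iso.refl Y') (SymProd.permActU (pullback.snd f gS) d) hθ
    simpa [r'] using h
  have hrm : r' ≫ m = θ.hom ≫ F := by rw [Category.assoc, hm]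
  have hc₁ : r' ≫ m ≫ pullback.fst g gS = powMap d hw ≫ q := by
    rw [← Category.assoc, hrm, Category.assoc, hF1, pullback.lift_fst_assoc]
  have hc₂ : r' ≫ m ≫ pullback.snd g gS = WidePullback.base (fun _ : Fin d => pullback.snd f gS) := by
    rw [← Category.assoc, hrm, Category.assoc, hF2, pullback.lift_snd]
  have hpb : IsPullback (pullback.fst (WidePullback.base fun _ : Fin d => f) gS) F q (pullback.fst g gS) := by
    refine IsPullback.of_bot ?_ hF1.symm (IsPullback.of_hasPullback g gS)
    rw [hF2, hover]
    exact IsPullback.of_hasPullback _ _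
  haveI : IsIntegralHom q := SchQuot.IsQuot.isIntegralHom hq'
  haveI : IsIntegralHom F := MorphismProperty.of_isPullback hpb inferInstance
  haveI : IsIso θ.hom := θ.isIso_hom
  haveI : IsIntegralHom (r' ≫ m) := by rw [hrm]; infer_instance
  have hcover : ∀ t : (pullback g gS : Scheme.{u}), ∃ (V : S.Opens) (U : Y.Opens) (V' : S'.Opens),
      Nice f (pullback.snd f gS) (pullback.fst f gS) gS g (pullback.fst g gS) (pullback.snd g gS) V U V' ∧
        t ∈ pullback.fst g gS ⁻¹ᵁ U ⊓ pullback.snd g gS ⁻¹ᵁ V' := by
    intro t
    obtain ⟨_, ⟨V, hV, rfl⟩, hsV, -⟩ := S.isBasis_affineOpens.exists_subset_of_mem_open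
      (Set.mem_univ (g (pullback.fst g gS t))) isOpen_univ
    obtain ⟨_, ⟨U, hU, rfl⟩, htU, hUV⟩ := Y.isBasis_affineOpens.exists_subset_of_mem_open
      (show pullback.fst g gS t ∈ g ⁻¹ᵁ V from hsV) (g ⁻¹ᵁ V).isOpen
    obtain ⟨_, ⟨V', hV', rfl⟩, htV', hV'V⟩ := S'.isBasis_affineOpens.exists_subset_of_mem_open
      (show pullback.snd g gS t ∈ gS ⁻¹ᵁ V by
        show gS (pullback.snd g gS t) ∈ V
        rw [← Scheme.Hom.comp_apply, ← pullback.condition, Scheme.Hom.comp_apply]; exact hsV)
      (gS ⁻¹ᵁ V).isOpen
    exact ⟨V, U, V', ⟨hV, hU, hUV, hV', hV'V, isAffineOpen_pullback g gS hV hU hV' hUV hV'V,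
      good_pullback f gS hV hV' hV'V⟩, htU, htV'⟩
  refine ⟨fun y => isIso_residueFieldMap hw hq hr' m _ _ hc₁ hc₂ hcover y, fun hn => ?_, fun hflat => ?_⟩
  · have hG := hn _ (Nat.card_pos (α := ULift.{u} (Equiv.Perm (Fin d))))
    have hinvF : ∀ σ, (ρ' σ).hom ≫ F = F := fun σ => by
      apply pullback.hom_ext
      · rw [Category.assoc, hF1, ← Category.assoc, (hρ' σ).1, Category.assoc]
        exact congrArg _ (hq'.inv σ)
      · rw [Category.assoc, hF2, (hρ' σ).2]
    have hF : SGA1.IsQuot ρ' F := SymLoc53.TameBC.isQuot_baseChange hq'
      (fun U => QuotTame53.isUnit_card (pullback.snd g gS) hG U) hpb ρ' (fun σ => (hρ' σ).1) hinvF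
    obtain ⟨n, hn', -⟩ := SchQuot.IsQuot.existsUnique_desc hF r hr.inv
    refine ⟨n, ?_, ?_⟩
    · exact (SchQuot.IsQuot.existsUnique_desc hr r hr.inv).unique
        (by rw [← Category.assoc, hm]; exact hn') (Category.comp_id r)
    · exact (SchQuot.IsQuot.existsUnique_desc hF F hinvF).unique
        (by rw [← Category.assoc, hn']; exact hm) (Category.comp_id F)
  · exact isClosedImmersion hw hq hr' m _ _ hc₁ hc₂ hcover

end Groth.Agent.S13393
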