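import Groth.Statements.S13394
import Groth.Agent.Lib.SymLoc53.Cases
import Groth.Agent.Lib.SchQuot.Transport
import Groth.Agent.Lib.QuotTame53.Scheme
-- import your own Groth.Agent.* helpers here

set_option autoImplicit false
universe u
open CategoryTheory CategoryTheory.Limits AlgebraicGeometry
open ZeroCyc

namespace Groth.Agent.S13394

/-- Scheme case. Let f : X → S be separated, let (Y, q, g) be a d-th symmetric product of X over S (q :
(X/S)^d → Y a quotient of the d-fold fibre product by the symmetric group, g : Y → S), let i : Z → X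
be a closed immersion and (W, r, g_W) a d-th symmetric product of Z over S, let q((Z/S)^d) ⊆ Y be
the scheme-theoretic image of the composite (Z/S)^d → (X/S)^d → Y, and let m : W → q((Z/S)^d) be the
morphism through which that composite factors via r. Then m induces an isomorphism on residue fields
at every point of W (trivial residue field extensions); if every positive integer is invertible in
Γ(S, O_S) then m is an isomorphism; and if Z → S is flat then m is a closed immersion. (The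
published statement is for X a separated algebraic space over S; this row is the case of schemes in
which both symmetric products exist as schemes, taken as hypotheses, and leaves the
universal-homeomorphism clause to the general finite-group statement.) -/
theorem result {X Z S Y W : Scheme.{u}} (f : X ⟶ S) [IsSeparated f] (d : ℕ)
    (q : SymProd.fibPow f d ⟶ Y) (g : Y ⟶ S) (hq : SymProd.IsSymProd f d q g)
    (i : Z ⟶ X) [IsClosedImmersion i]
    (r : SymProd.fibPow (i ≫ f) d ⟶ W) (gW : W ⟶ S) (hr : SymProd.IsSymProd (i ≫ f) d r gW)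
    (m : W ⟶ (SymProd.fibPowMap (i ≫ f) d f i rfl ≫ q).ker.subscheme)
    (hm : r ≫ m ≫ (SymProd.fibPowMap (i ≫ f) d f i rfl ≫ q).ker.subschemeι =
      SymProd.fibPowMap (i ≫ f) d f i rfl ≫ q) :
    (∀ w : W, IsIso (m.residueFieldMap w)) ∧
    ((∀ n : ℕ, 0 < n → IsUnit ((n : ℕ) : Γ(S, ⊤))) → IsIso m) ∧
    (Flat (i ≫ f) → IsClosedImmersion m) := by
  open Groth.Agent.Lib in
  open Groth.Agent.Lib.SymLoc53.Geom in
  open TopologicalSpace in
  obtain ⟨hq', hover⟩ := id hq
  let F := SymProd.fibPowMap (i ≫ f) d f i rfl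
  let K := (F ≫ q).ker
  have hw : i ≫ f = (i ≫ f) ≫ 𝟙 S := closed_w f i
  have hc₁ : r ≫ m ≫ K.subschemeι = powMap d hw ≫ q := by
    rw [powMap_closed]
    exact hm
  have hc₂ : r ≫ m ≫ K.subschemeι ≫ g = WidePullback.base (fun _ : Fin d => i ≫ f) := by
    have h := congrArg (· ≫ g) hm
    simp only [Category.assoc] at h
    rw [h, hover, SymProd.fibPowMap_base]
  haveI : IsClosedImmersion F := isClosedImmersion_fibPowMap f i d
  haveI : IsClosedImmersion (powMap d hw) := by rw [powMap_closed]; infer_instance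
  haveI : IsIntegralHom q := SchQuot.IsQuot.isIntegralHom hq'
  haveI : IsIntegralHom (r ≫ m) := by
    haveI : IsIntegralHom ((r ≫ m) ≫ K.subschemeι) := by
      rw [Category.assoc]
      rw [show r ≫ m ≫ K.subschemeι = F ≫ q from hm]
      infer_instance
    exact IsIntegralHom.of_comp (r ≫ m) K.subschemeι
  have hcover : ∀ t : K.subscheme, ∃ (V : S.Opens) (U : Y.Opens) (V' : S.Opens),
      Nice f (i ≫ f) i (𝟙 S) g K.subschemeι (K.subschemeι ≫ g) V U V' ∧
        t ∈ K.subschemeι ⁻¹ᵁ U ⊓ (K.subschemeι ≫ g) ⁻¹ᵁ V' ∧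
        WidePullback.base (fun _ : Fin d => i ≫ f) ⁻¹ᵁ V' ≥ powMap d hw ⁻¹ᵁ (q ⁻¹ᵁ U) := by
    intro t
    obtain ⟨_, ⟨V, hV, rfl⟩, hsV, -⟩ := S.isBasis_affineOpens.exists_subset_of_mem_open
      (Set.mem_univ (g (K.subschemeι t))) isOpen_univ
    obtain ⟨_, ⟨U, hU, rfl⟩, htU, hUV⟩ := Y.isBasis_affineOpens.exists_subset_of_mem_open
      (show K.subschemeι t ∈ g ⁻¹ᵁ V from hsV) (g ⁻¹ᵁ V).isOpen
    have hle : K.subschemeι ⁻¹ᵁ U ≤ (K.subschemeι ≫ g) ⁻¹ᵁ V := fun z hz => by
      show (K.subschemeι ≫ g) z ∈ V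
      rw [Scheme.Hom.comp_apply]; exact hUV hz
    refine ⟨V, U, V, ⟨hV, hU, hUV, hV, le_rfl, ?_, good_closed f i⟩,
      ⟨htU, hle htU⟩, fun z hz => ?_⟩
    · rw [inf_eq_left.mpr hle]
      exact hU.preimage K.subschemeι
    · have h1 : g (q (powMap d hw z)) ∈ V := hUV hz
      rw [← Scheme.Hom.comp_apply q g, hover, ← Scheme.Hom.comp_apply, powMap_base, Category.comp_id] at h1
      exact h1
  have hcover' : ∀ t : K.subscheme, ∃ (V : S.Opens) (U : Y.Opens) (V' : S.Opens),
      Nice f (i ≫ f) i (𝟙 S) g K.subschemeι (K.subschemeι ≫ g) V U V' ∧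
        t ∈ K.subschemeι ⁻¹ᵁ U ⊓ (K.subschemeι ≫ g) ⁻¹ᵁ V' := fun t =>
    let ⟨V, U, V', h1, h2, _⟩ := hcover t
    ⟨V, U, V', h1, h2⟩
  refine ⟨fun w => isIso_residueFieldMap hw hq hr.isQuot m _ _ hc₁ hc₂ hcover' w, fun hn => ?_,
    fun hflat => isClosedImmersion hw hq hr.isQuot m _ _ hc₁ hc₂ hcover'⟩
  have hG := hn _ (Nat.card_pos (α := ULift.{u} (Equiv.Perm (Fin d))))
  haveI : IsClosedImmersion m := isClosedImmersion_tame hw hq hr.isQuot m _ _ hc₁ hc₂ hG hcover
  haveI : IsClosedImmersion (m ≫ K.subschemeι) := inferInstance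
  refine IsClosedImmersion.isIso_of_ker_eq (m ≫ K.subschemeι) K.subschemeι m rfl ?_
  rw [Scheme.IdealSheafData.ker_subschemeι]
  refine Scheme.IdealSheafData.ext (funext fun U => ?_)
  have hcomp : F ≫ q = r ≫ (m ≫ K.subschemeι) := hm.symm
  show (m ≫ K.subschemeι).ker.ideal U = (F ≫ q).ker.ideal U
  rw [Scheme.Hom.ker_apply, Scheme.Hom.ker_apply]
  ext s
  rw [RingHom.mem_ker, RingHom.mem_ker]
  have h : ∀ (φ ψ : SymProd.fibPow (i ≫ f) d ⟶ Y), φ = ψ → ∀ s, (φ.app U.1 s = 0 ↔ ψ.app U.1 s = 0) := by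
    rintro φ _ rfl s
    exact Iff.rfl
  refine Iff.trans ?_ (h _ _ hcomp s).symm
  show _ ↔ r.app _ ((m ≫ K.subschemeι).app U.1 s) = 0
  exact ⟨fun h0 => by rw [h0, map_zero],
    fun h0 => hr.isQuot.injective _ (h0.trans (map_zero _).symm)⟩

end Groth.Agent.S13394
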