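import Groth.Statements.S13397
import Groth.Agent.Lib.PolLaw.NormLaw
-- import your own Groth.Agent.* helpers here

set_option autoImplicit false
universe u
open scoped TensorProduct
open ZeroCyc

namespace Groth.Agent.S13397

open Groth.Agent.Lib.PolLaw


/-- Let A be a commutative ring, B an A-algebra, d ≥ 0, and let (C, γ) be the degree-d divided power
algebra Γ^d_A(B) with its universal multiplicative law γ : B → C of degree d (every multiplicative
law of degree d out of B factors uniquely through γ). Let φ : Γ^d_A(B) → TS^d_A(B) be the canonical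
homomorphism to the symmetric tensors, taken here as data characterised by: after any base change S,
φ ∘ γ sends Σ_j s_j ⊗ b_j to Σ_{c : [d] → [n]} (∏_i s_{c(i)}) ⊗ (b_{c(1)} ⊗ ⋯ ⊗ b_{c(d)}), i.e. φ
corresponds to the law x ↦ x ⊗ ⋯ ⊗ x. Then there is a multiplicative law F : TS^d_A(B) → Γ^d_A(B),
homogeneous of degree d!, such that φ ∘ F and F ∘ φ are both the d!-th power law x ↦ x^{d!}. (The
published statement calls F canonical; this row asserts the existence of such an F.) -/
theorem result {A B C : Type u} [CommRing A] [CommRing B] [Algebra A B] [CommRing C] [Algebra A C] (d : ℕ)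
    (γ : PolLaw.MulLaw A B C d) (hγ : PolLaw.IsGammaD γ) (φ : C →ₐ[A] SymTen.TS A B d)
    (hφ : ∀ (S : Type u) [CommSemiring S] [Algebra A S] (n : ℕ) (s : Fin n → S) (b : Fin n → B),
      ((SymTen.TS A B d).val.comp φ).toLinearMap.lTensor S (γ.law.toFun' S (∑ j, s j ⊗ₜ[A] b j)) =
        ∑ c : Fin d → Fin n, (∏ i, s (c i)) ⊗ₜ[A] PiTensorProduct.tprod A (fun i => b (c i))) :
    ∃ F : PolLaw.MulLaw A (SymTen.TS A B d) C d.factorial,
      PolLaw.MulLaw.postcomp φ F = PolLaw.MulLaw.pow A (SymTen.TS A B d) d.factorial ∧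
      PolLaw.MulLaw.precomp F φ = PolLaw.MulLaw.pow A C d.factorial := by
  have hj := Polar.postcomp_eq_tpow φ hφ
  obtain ⟨F, h₁, h₂⟩ := NormLaw.exists_norm γ hj hγ
  refine ⟨F.precomp (SymTen.TS A B d).val, ?_, ?_⟩
  · refine PolLaw.MulLaw.ext ?_
    show PolLaw.postcomp φ.toLinearMap (PolLaw.precomp F.law (SymTen.TS A B d).val.toLinearMap) = _
    refine NormLaw.postcomp_injective (g := (SymTen.TS A B d).val.toLinearMap) Subtype.val_injective ?_
    rw [← Gamma.postcomp_comp, ← AlgHom.comp_toLinearMap, NormLaw.postcomp_precomp, h₁, NormLaw.postcomp_pow]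
    refine PolynomialLaw.ext (funext fun S => funext fun _ => funext fun _ => funext fun x => ?_)
    show (SymTen.symmLaw A B d).law.toFun' S ((SymTen.TS A B d).val.toLinearMap.lTensor S x) =
      (SymTen.TS A B d).val.toLinearMap.lTensor S x ^ d.factorial
    rw [NormLaw.symmLaw_apply,
      Finset.prod_congr rfl (g := fun _ => (SymTen.TS A B d).val.toLinearMap.lTensor S x),
      Finset.prod_const, Finset.card_univ, Fintype.card_perm, Fintype.card_fin]
    intro σ _
    rw [← LinearMap.lTensor_comp_apply]
    exact congrArg (fun f : _ →ₗ[A] _ => f.lTensor S x)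
      (LinearMap.ext fun z => (SymTen.perm_apply A B d σ z.1).trans (z.2 σ))
  · refine PolLaw.MulLaw.ext ?_
    show PolLaw.precomp (PolLaw.precomp F.law (SymTen.TS A B d).val.toLinearMap) φ.toLinearMap = _
    rw [← NormLaw.precomp_comp, ← AlgHom.comp_toLinearMap, h₂]

end Groth.Agent.S13397
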