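import Groth.Statements.S13398
import Groth.Agent.Lib.PolLaw.NormLaw
-- import your own Groth.Agent.* helpers here

set_option autoImplicit false
universe u
open scoped TensorProduct
open ZeroCyc

namespace Groth.Agent.S13398

open Groth.Agent.Lib.PolLaw


/-- Let A be a commutative ring, B an A-algebra, d ≥ 0, and let (C, γ) be the degree-d divided power
algebra Γ^d_A(B) with its universal multiplicative law γ : B → C of degree d (every multiplicative
law of degree d out of B factors uniquely through γ). Let φ : Γ^d_A(B) → TS^d_A(B) be the canonical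
homomorphism to the symmetric tensors, taken here as data characterised by: after any base change S,
φ ∘ γ sends Σ_j s_j ⊗ b_j to Σ_{c : [d] → [n]} (∏_i s_{c(i)}) ⊗ (b_{c(1)} ⊗ ⋯ ⊗ b_{c(d)}), i.e. φ
corresponds to the law x ↦ x ⊗ ⋯ ⊗ x. Then x^{d!} = 0 for every x in the kernel of φ, and y^{d!}
lies in the image of φ for every symmetric tensor y ∈ TS^d_A(B). -/
theorem result {A B C : Type u} [CommRing A] [CommRing B] [Algebra A B] [CommRing C] [Algebra A C] (d : ℕ)
    (γ : PolLaw.MulLaw A B C d) (hγ : PolLaw.IsGammaD γ) (φ : C →ₐ[A] SymTen.TS A B d)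
    (hφ : ∀ (S : Type u) [CommSemiring S] [Algebra A S] (n : ℕ) (s : Fin n → S) (b : Fin n → B),
      ((SymTen.TS A B d).val.comp φ).toLinearMap.lTensor S (γ.law.toFun' S (∑ j, s j ⊗ₜ[A] b j)) =
        ∑ c : Fin d → Fin n, (∏ i, s (c i)) ⊗ₜ[A] PiTensorProduct.tprod A (fun i => b (c i))) :
    (∀ x : C, φ x = 0 → x ^ d.factorial = 0) ∧
      (∀ y : SymTen.TS A B d, y ^ d.factorial ∈ φ.range) := by
  have hj := Polar.postcomp_eq_tpow φ hφ
  obtain ⟨F, h₁, h₂⟩ := NormLaw.exists_norm γ hj hγ
  constructor
  · intro x hx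
    have h := congrArg (fun L => PolynomialLaw.ground L x) h₂
    simp only [NormLaw.ground_precomp, NormLaw.ground_pow] at h
    rw [show ((SymTen.TS A B d).val.comp φ).toLinearMap x = 0 by simp [hx],
      NormLaw.ground_zero d.factorial_pos] at h
    exact h.symm
  · intro y
    refine ⟨F.law.ground y.1, Subtype.ext ?_⟩
    have h := congrArg (fun L => PolynomialLaw.ground L y.1) h₁
    simp only [NormLaw.ground_postcomp, NormLaw.ground_symmLaw] at h
    rw [SubmonoidClass.coe_pow]
    refine h.trans ?_
    rw [Finset.prod_congr rfl (g := fun _ => y.1) fun σ _ => (SymTen.perm_apply A B d σ y.1).trans (y.2 σ),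
      Finset.prod_const, Finset.card_univ, Fintype.card_perm, Fintype.card_fin]

end Groth.Agent.S13398
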