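import Groth.Statements.S13399
import Groth.Agent.Lib.PolLaw.Generate
import Groth.Agent.Lib.PolLaw.Gamma
-- import your own Groth.Agent.* helpers here

set_option autoImplicit false
universe u
open scoped TensorProduct
open ZeroCyc

namespace Groth.Agent.S13399

open Groth.Agent.Lib.PolLaw Groth.Agent.Lib.PolLaw.Coeff

/-- Let A be a commutative ring, B an A-algebra and e ≥ 0; let (C_{e+1}, γ_{e+1}) and (C_e, γ_e) be the
divided power algebras Γ^{e+1}_A(B) and Γ^e_A(B) of B with their universal multiplicative laws of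
degrees e + 1 and e (every multiplicative law of that degree out of B factors uniquely through
them), and let ω : Γ^{e+1}_A(B) ⊗_A B → Γ^e_A(B) ⊗_A B be Iversen's canonical algebra homomorphism,
taken here as data characterised by ω(γ_{e+1}(x) ⊗ y) = γ_e(x) ⊗ x·y for all x, y ∈ S ⊗_A B and
every base change A → S. Then ω is surjective. -/
theorem result {A B Cd Ce : Type u} [CommRing A] [CommRing B] [Algebra A B]
    [CommRing Cd] [Algebra A Cd] [CommRing Ce] [Algebra A Ce] (e : ℕ)
    (γd : PolLaw.MulLaw A B Cd (e + 1)) (hγd : PolLaw.IsGammaD γd)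
    (γe : PolLaw.MulLaw A B Ce e) (hγe : PolLaw.IsGammaD γe)
    (ω : Cd ⊗[A] B →ₐ[A] Ce ⊗[A] B)
    (hω : ∀ (S : Type u) [CommSemiring S] [Algebra A S] (x y : S ⊗[A] B),
      ω.toLinearMap.lTensor S
        ((Algebra.TensorProduct.includeLeft : Cd →ₐ[A] Cd ⊗[A] B).toLinearMap.lTensor S (γd.law.toFun' S x) *
          (Algebra.TensorProduct.includeRight : B →ₐ[A] Cd ⊗[A] B).toLinearMap.lTensor S y) =
      (Algebra.TensorProduct.includeLeft : Ce →ₐ[A] Ce ⊗[A] B).toLinearMap.lTensor S (γe.law.toFun' S x) *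
        (Algebra.TensorProduct.includeRight : B →ₐ[A] Ce ⊗[A] B).toLinearMap.lTensor S (x * y)) :
    Function.Surjective ω := by
  classical
  let C₀ : Subalgebra A Ce := ω.range.comap (Algebra.TensorProduct.includeLeft : Ce →ₐ[A] Ce ⊗[A] B)
  have hB : ∀ b : B, (1 : Ce) ⊗ₜ[A] b ∈ ω.range := fun b => by
    refine ⟨(1 : Cd) ⊗ₜ[A] b, ?_⟩
    have h := congrArg (TensorProduct.lid A (Ce ⊗[A] B)) (hω A 1 ((1 : A) ⊗ₜ[A] b))
    rw [(γd.mult A).1, (γe.mult A).1] at h
    simpa [Algebra.TensorProduct.one_def] using h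
  have hkey : ∀ (a : B) (k : ℕ) (μ : Fin 2 →₀ ℕ), μ ∈ degSet (Fin 2) e → μ 1 = k →
      coef γe.law ![1, a] μ ∈ C₀ := by
    intro a k
    induction k using Nat.strong_induction_on with
    | _ k ih =>
      intro μ₀ hμ₀ hk
      let P := Polynomial A
      have h := hω P (∑ i, ![(1 : P), Polynomial.X] i ⊗ₜ[A] ![1, a] i) 1
      rw [expand_homog γd.homog, expand_homog γe.homog, mul_one, Fin.sum_univ_two] at h
      simp only [map_sum, LinearMap.lTensor_tmul, Algebra.TensorProduct.one_def, Finset.sum_mul,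
        Algebra.TensorProduct.tmul_mul_tmul, AlgHom.toLinearMap_apply, Algebra.TensorProduct.includeLeft_apply,
        Algebra.TensorProduct.includeRight_apply, Fin.prod_univ_two, Matrix.cons_val_zero, Matrix.cons_val_one,
        one_pow, one_mul, mul_one, mul_add, map_add, Finset.sum_add_distrib] at h
      let φ : P ⊗[A] (Ce ⊗[A] B) →ₗ[A] Ce ⊗[A] B :=
        (TensorProduct.lid A (Ce ⊗[A] B)).toLinearMap ∘ₗ (Polynomial.lcoeff A k).rTensor (Ce ⊗[A] B)
      have h2 := congrArg φ h
      simp only [φ, map_sum, map_add, LinearMap.comp_apply, LinearEquiv.coe_coe, LinearMap.rTensor_tmul,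
        Polynomial.lcoeff_apply, TensorProduct.lid_tmul] at h2
      have hsum2 : ∀ μ ∈ degSet (Fin 2) e, (Polynomial.X ^ μ 1 * Polynomial.X : P).coeff k •
          (coef γe.law ![1, a] μ ⊗ₜ[A] a) ∈ ω.range := by
        intro μ hμ
        rw [← pow_succ, Polynomial.coeff_X_pow]
        split_ifs with hh
        · rw [one_smul, show coef γe.law ![1, a] μ ⊗ₜ[A] a = (coef γe.law ![1, a] μ ⊗ₜ[A] (1 : B)) * ((1 : Ce) ⊗ₜ[A] a) by simp]
          exact mul_mem (ih (μ 1) (by omega) μ hμ rfl) (hB a)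
        · rw [zero_smul]; exact zero_mem _
      have hfirst : ∑ μ ∈ degSet (Fin 2) e, (Polynomial.X ^ μ 1 : P).coeff k • (coef γe.law ![1, a] μ ⊗ₜ[A] (1 : B)) ∈ ω.range := by
        rw [eq_sub_of_add_eq h2.symm]
        exact sub_mem (Subalgebra.sum_mem _ fun ν _ => Subalgebra.smul_mem _ ((AlgHom.mem_range _).2 ⟨_, rfl⟩) _) (Subalgebra.sum_mem _ hsum2)
      rw [Finset.sum_eq_single μ₀] at hfirst
      · simpa [C₀, hk, Polynomial.coeff_X_pow] using hfirst
      · intro μ hμ hne
        rw [Polynomial.coeff_X_pow, if_neg, zero_smul]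
        intro hh
        refine hne (Finsupp.ext fun i => ?_)
        have e1 := mem_degSet.1 hμ
        have e2 := mem_degSet.1 hμ₀
        simp only [Fin.sum_univ_two] at e1 e2
        fin_cases i <;> simp <;> omega
      · exact fun hh => absurd hμ₀ hh
  have hC₀ : ∀ c : Ce, c ∈ C₀ := fun c => Gamma.mem_of_coef_mem hγe C₀ (fun n b ν =>
    Generate.coef_mem γe C₀ (fun a μ => by
      by_cases hμ : μ ∈ degSet (Fin 2) e
      · exact hkey a _ μ hμ rfl
      · rw [coef_eq_zero_of_sum_ne γe.homog _ _ (fun hh => hμ (mem_degSet.2 hh))]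
        exact zero_mem _) b ν) c
  intro z
  show z ∈ ω.range
  induction z using TensorProduct.induction_on with
  | zero => exact zero_mem _
  | tmul c b =>
    rw [show c ⊗ₜ[A] b = (c ⊗ₜ[A] (1 : B)) * ((1 : Ce) ⊗ₜ[A] b) by simp]
    exact mul_mem (hC₀ c) (hB b)
  | add x y hx hy => exact add_mem hx hy

end Groth.Agent.S13399
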