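import Groth.Statements.S13401

import Groth.Agent.Lib.HopfTraceForm
import Groth.Agent.Lib.GrpSch.UnramifiedFibre
import Mathlib.AlgebraicGeometry.Group.Affine
import Mathlib.AlgebraicGeometry.Morphisms.FlatRank
import Mathlib.AlgebraicGeometry.Morphisms.Etale

set_option autoImplicit false
universe u
open CategoryTheory CategoryTheory.Limits MonoidalCategory CartesianMonoidalCategory MonObj GrpObj AlgebraicGeometry
open GrpSch

namespace Groth.Agent.S13401

open scoped CategoryTheory.Obj in
theorem etale_over_field {R : CommRingCat.{u}}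
    (hlib : ∀ (A : Type u) [CommRing A] [HopfAlgebra R A] [Module.Finite R A] [Module.Free R A],
      (Module.finrank R A : R) ≠ 0 → Algebra.Etale R A)
    (hfree : ∀ (A : Type u) [CommRing A] [Algebra R A], Module.Free R A) (t : Spec R) [Nontrivial R]
    (H : Over (Spec R)) [GrpObj H]
    [IsFinite H.hom] [Flat H.hom] (hn : (Scheme.Hom.finrank H.hom t : R) ≠ 0) : Etale H.hom := by
  have : IsAffine H.left := isAffine_of_isAffineHom H.hom
  let _ : H.left.Over (Spec R) := ⟨H.hom⟩
  let _ : GrpObj (H.left.asOver (Spec R)) := ‹GrpObj H›
  let φ : R ⟶ Γ(H.left, ⊤) := CommRingCat.ofHom (algebraMap R Γ(H.left, ⊤))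
  have hH : H.left.isoSpec.hom ≫ Spec.map φ = H.hom :=
    comp_over H.left.isoSpec.hom (Spec R)
  have hφ : Spec.map φ = H.left.isoSpec.inv ≫ H.hom := by rw [← hH, Iso.inv_hom_id_assoc]
  have hfin' : IsFinite (Spec.map φ) := by rw [hφ]; infer_instance
  have : Flat (Spec.map φ) := by rw [hφ]; infer_instance
  have hfin : RingHom.Finite (algebraMap R Γ(H.left, ⊤)) := (IsFinite.SpecMap_iff φ).1 hfin'
  have : Module.Finite R Γ(H.left, ⊤) := RingHom.finite_algebraMap.1 hfin
  have : Module.Free R Γ(H.left, ⊤) := hfree _
  have hrank : (Module.finrank R Γ(H.left, ⊤) : R) ≠ 0 := by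
    rw [← hH, Scheme.Hom.finrank_comp_left_of_isIso] at hn
    have h2 := Scheme.Hom.finrank_SpecMap_algebraMap R Γ(H.left, ⊤) t
    rw [Module.rankAtStalk_eq_finrank_of_free] at h2
    intro h
    exact hn ((congrArg Nat.cast h2).trans h)
  have : Algebra.Etale R Γ(H.left, ⊤) :=
    @hlib Γ(H.left, ⊤) _ _ (RingHom.finite_algebraMap.1 hfin) (hfree _) hrank
  have he : Etale (Spec.map φ) :=
    (HasRingHomProperty.Spec_iff (P := @Etale)).2 (RingHom.etale_algebraMap.2 this)
  rw [← hH]
  infer_instance

/-- Let S be a scheme and G an S-group scheme whose structure morphism is finite, flat and locally of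
finite presentation (a finite locally free group scheme), and suppose that at every point s of S the
rank of G → S at s is non-zero in the residue field κ(s), i.e. the order of G is invertible on the
base. Then G → S is étale. -/
theorem result {S : Scheme.{u}} (G : Over S) [GrpObj G]
    [IsFinite G.hom] [Flat G.hom] [LocallyOfFinitePresentation G.hom]
    (h : ∀ s : S, (Scheme.Hom.finrank G.hom s : S.residueField s) ≠ 0) : Etale G.hom := by
  open scoped CategoryTheory.Obj in
  have : FormallyUnramified G.hom := by
    refine Lib.GrpSch.formallyUnramified_of_field_points G.hom fun K _ y => ?_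
    have hn : ∀ t, (Scheme.Hom.finrank (pullback.snd G.hom y) t : K) ≠ 0 := by
      intro t h0
      rw [Scheme.Hom.finrank_pullback_snd] at h0
      apply h (y t)
      apply (y.residueFieldMap t).hom.injective
      rw [map_natCast, map_zero]
      have := congrArg (fun a => ((Spec (CommRingCat.of K)).Γevaluation t).hom
        ((Scheme.ΓSpecIso (CommRingCat.of K)).inv.hom a)) h0
      simpa only [map_natCast, map_zero] using this
    have : Etale ((Over.pullback y).obj G).hom :=
      have : IsFinite ((Over.pullback y).obj G).hom :=
        inferInstanceAs (IsFinite (pullback.snd G.hom y))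
      have : Flat ((Over.pullback y).obj G).hom := inferInstanceAs (Flat (pullback.snd G.hom y))
      etale_over_field (R := CommRingCat.of K)
        (fun A _ _ _ _ => Lib.HopfTraceForm.etale_of_finrank_ne_zero K A)
        (fun A _ _ => Module.Free.of_divisionRing K A) ⟨⊥, Ideal.isPrime_bot (α := K)⟩
        ((Over.pullback y).obj G) (hn _)
    have : Etale (pullback.snd G.hom y) := this
    infer_instance
  exact Etale.of_formallyUnramified_of_flat G.hom


end Groth.Agent.S13401
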