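import Groth.Statements.S13403
import Groth.Agent.Lib.DPRigid.Newton
import Groth.Agent.Lib.DPRigid.Present
import Groth.Agent.Lib.DPRigid.Chevalley

set_option autoImplicit false
universe u v w
open Font

namespace Groth.Agent.S13403

theorem subsingleton_of_hom {S : Type w} [CommRing S] {A : Type v} [Ring A] [Subsingleton A] (B : Ideal S)
    (ψ : A →+* S ⧸ B) (hB : ∀ 𝔫 : Ideal S, 𝔫.IsMaximal → B ≤ 𝔫) : Subsingleton S := by
  by_contra hS
  rw [not_subsingleton_iff_nontrivial] at hS
  obtain ⟨𝔫, h𝔫⟩ := Ideal.exists_maximal S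
  have e1 := congrArg ψ (Subsingleton.elim (1 : A) 0)
  rw [map_one, map_zero] at e1
  have h1 : (1 : S) ∈ B := Ideal.Quotient.eq_zero_iff_mem.1 ((map_one (Ideal.Quotient.mk B)).trans e1)
  exact h𝔫.ne_top (Ideal.eq_top_of_isUnit_mem _ (hB 𝔫 h𝔫 h1) isUnit_one)

/-- Let O be a complete discrete valuation ring with fraction field of characteristic zero and residue
characteristic p, and let A be an O-algebra isomorphic to a quotient O[[x_1, ..., x_m]]/(f_1, ...,
f_m) of a power series ring in m variables by m power series, with A finite and flat over O. Suppose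
a is a non-zero element of O such that the module of Kähler differentials of A over O is a free
module over A/aA (so a kills it). Let S be a finite flat O-algebra and I an ideal of S equipped with
a divided power structure which is topologically nilpotent: the divided-power ideals of I (generated
by the products of divided powers of elements of I of total degree at least n) have zero
intersection over all n. Then (1) two O-algebra maps A → S which agree modulo I are equal, and (2)
an O-algebra map A → S/I lifts to an O-algebra map A → S if and only if it lifts to an O-algebra map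
A → S/aI. (The published statement asserts only (2); (1) is the uniqueness its proof establishes.) -/
theorem result (O : Type u) [CommRing O] [IsDomain O] [IsDiscreteValuationRing O]
    [IsAdicComplete (IsLocalRing.maximalIdeal O) O] [CharZero O] (p : ℕ) [Fact p.Prime]
    (hp : (p : O) ∈ IsLocalRing.maximalIdeal O)
    (m : ℕ) (f : Fin m → MvPowerSeries (Fin m) O) (A : Type v) [CommRing A] [Algebra O A]
    (e : (MvPowerSeries (Fin m) O ⧸ Ideal.span (Set.range f)) ≃ₐ[O] A)
    [Module.Finite O A] [Module.Flat O A] (a : O) (ha : a ≠ 0) (r : ℕ)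
    (hΩ : Nonempty (KaehlerDifferential O A ≃ₗ[A] (Fin r → A ⧸ Ideal.span {algebraMap O A a})))
    (S : Type w) [CommRing S] [Algebra O S] [Module.Finite O S] [Module.Flat O S]
    (I : Ideal S) (hI : DividedPowers I) (htn : W4c1noabschz1.IsDPTopNilpotent hI) :
    Function.Injective (fun χ : A →ₐ[O] S => (Ideal.Quotient.mkₐ O I).comp χ) ∧
      Set.range (fun χ : A →ₐ[O] S => (Ideal.Quotient.mkₐ O I).comp χ) =
        Set.range (fun ψ : A →ₐ[O] (S ⧸ Ideal.span {algebraMap O S a} * I) =>
          (Ideal.Quotient.factorₐ O (Ideal.mul_le_right (I := Ideal.span {algebraMap O S a}) (J := I))).comp ψ) := by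
  classical
  have hinjO : ∀ s : S, algebraMap O S a * s = 0 → s = 0 := fun s hs =>
    Module.Flat.isSMulRegular_of_nonZeroDivisors (M := S) (mem_nonZeroDivisors_of_ne_zero ha)
      (by simpa [Algebra.smul_def] using hs)
  haveI : IsNoetherianRing S := IsNoetherianRing.of_finite O S
  let 𝔇 : Ideal S := (IsLocalRing.maximalIdeal O).map (algebraMap O S)
  haveI : IsAdicComplete 𝔇 S := by
    rw [IsAdicComplete.map_algebraMap_iff]
    exact Groth.Agent.Lib.Adic.Complete.isAdicComplete_of_finite
  have hover : ∀ 𝔫 : Ideal S, 𝔫.IsMaximal → IsLocalRing.maximalIdeal O ≤ 𝔫.comap (algebraMap O S) :=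
    fun 𝔫 h𝔫 => by
      haveI := h𝔫
      have := Ideal.isMaximal_comap_of_isIntegral_of_isMaximal (R := O) 𝔫
      rw [IsLocalRing.eq_maximalIdeal this]
  have hIn : ∀ 𝔫 : Ideal S, 𝔫.IsMaximal → I ≤ 𝔫 := fun 𝔫 h𝔫 x hx => by
    have hp' : (p : S) ∈ 𝔫 := by
      have := hover 𝔫 h𝔫 hp
      rwa [Ideal.mem_comap, map_natCast] at this
    refine h𝔫.isPrime.mem_of_pow_mem p ?_
    rw [← hI.factorial_mul_dpow_eq_pow hx]
    obtain ⟨c, hc⟩ := Nat.dvd_factorial (Fact.out (p := p.Prime)).pos le_rfl
    rw [hc, Nat.cast_mul, mul_assoc]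
    exact Ideal.mul_mem_right _ _ hp'
  have hsmall := Groth.Agent.Lib.DPRigid.dpSmall_of_isTopNilpotent hI htn 𝔇 fun Q hQ hle => by
    haveI := hQ
    have h3 : Q.comap (algebraMap O S) = IsLocalRing.maximalIdeal O :=
      le_antisymm (IsLocalRing.le_maximalIdeal (Ideal.IsPrime.ne_top inferInstance))
        (Ideal.map_le_iff_le_comap.1 hle)
    exact Ideal.isMaximal_of_isIntegral_of_isMaximal_comap Q (h3 ▸ IsLocalRing.maximalIdeal.isMaximal O)
  rcases subsingleton_or_nontrivial A with hA | hA
  · refine ⟨fun χ χ' _ => AlgHom.ext fun y => ?_, Set.ext fun θ => ⟨?_, ?_⟩⟩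
    · rw [Subsingleton.elim y 0, map_zero, map_zero]
    · rintro ⟨χ, rfl⟩
      exact ⟨(Ideal.Quotient.mkₐ O _).comp χ, AlgHom.ext fun y => rfl⟩
    · rintro ⟨ψ, -⟩
      haveI : Subsingleton S :=
        subsingleton_of_hom _ ψ.toRingHom fun 𝔫 h𝔫 => le_trans Ideal.mul_le_right (hIn 𝔫 h𝔫)
      exact ⟨{ toFun := fun _ => 0, map_one' := Subsingleton.elim _ _, map_mul' := fun _ _ => Subsingleton.elim _ _,
               map_zero' := rfl, map_add' := fun _ _ => Subsingleton.elim _ _,
               commutes' := fun _ => Subsingleton.elim _ _ },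
        AlgHom.ext fun _ =>
          (Function.Surjective.subsingleton Ideal.Quotient.mk_surjective).elim _ _⟩
  obtain ⟨eΩ⟩ := hΩ
  obtain ⟨φ, hφe⟩ : ∃ φ : MvPowerSeries (Fin m) O →ₐ[O] A, ∀ h, φ h = e (Ideal.Quotient.mk _ h) :=
    ⟨AlgHom.comp (AlgEquiv.toAlgHom e) (Ideal.Quotient.mkₐ O _), fun h => rfl⟩
  have hφ : Function.Surjective φ := fun y => by
    obtain ⟨q, hq⟩ := e.surjective y
    obtain ⟨h, rfl⟩ := Ideal.Quotient.mk_surjective q
    exact ⟨h, (hφe h).trans hq⟩
  haveI : IsLocalRing A := IsLocalRing.of_surjective' φ.toRingHom hφ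
  have hker : RingHom.ker φ = Ideal.span (Set.range f) := by
    ext h
    rw [RingHom.mem_ker, hφe, map_eq_zero_iff e e.injective, Ideal.Quotient.eq_zero_iff_mem]
  obtain ⟨s, π, G, hπ, hP, hG, hdG, hcon⟩ :=
    Groth.Agent.Lib.DPRigid.exists_present f φ hφ hker a ha r eΩ
  have hpt : ∀ (χ : A →ₐ[O] S) (q : MvPolynomial s O),
      MvPolynomial.aeval (fun j => χ (π (MvPolynomial.X j))) q = χ (π q) := fun χ q => by
    have : MvPolynomial.aeval (fun j => χ (π (MvPolynomial.X j))) = χ.comp π :=
      MvPolynomial.algHom_ext fun j => by simp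
    exact DFunLike.congr_fun this q
  refine ⟨fun χ χ' h => ?_, Set.Subset.antisymm ?_ ?_⟩
  · have hz := Groth.Agent.Lib.DPRigid.root_unique hI a (RingHom.ker π) hP G hG hdG htn hinjO
      (z := fun j => χ (π (MvPolynomial.X j))) (z' := fun j => χ' (π (MvPolynomial.X j)))
      (fun g hg => by rw [hpt, show π g = 0 from hg, map_zero])
      (fun g hg => by rw [hpt, show π g = 0 from hg, map_zero])
      (fun j => Ideal.Quotient.eq.1 (DFunLike.congr_fun h (π (MvPolynomial.X j))).symm)
    refine AlgHom.ext fun y => ?_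
    obtain ⟨q, rfl⟩ := hπ y
    rw [← hpt χ q, ← hpt χ' q, hz]
  · rintro _ ⟨χ, rfl⟩
    exact ⟨(Ideal.Quotient.mkₐ O _).comp χ, AlgHom.ext fun y => rfl⟩
  · rintro _ ⟨ψ, rfl⟩
    choose y₀ hy₀ using fun j : s => Ideal.Quotient.mk_surjective (ψ (π (MvPolynomial.X j)))
    have hev : ∀ q, Ideal.Quotient.mk _ (MvPolynomial.aeval y₀ q) = ψ (π q) := fun q => by
      have : (Ideal.Quotient.mkₐ O _).comp (MvPolynomial.aeval y₀) = ψ.comp π :=
        MvPolynomial.algHom_ext fun j => by simpa using hy₀ j
      exact DFunLike.congr_fun this q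
    have hbase : ∀ g ∈ RingHom.ker π, MvPolynomial.aeval y₀ g ∈ Groth.Agent.Lib.DPRigid.K hI a 1 :=
      fun g hg => by
        refine Ideal.mul_mono_right (Groth.Agent.Lib.DPRigid.le_dpPow_one hI) ?_
        rw [← Ideal.Quotient.eq_zero_iff_mem, hev, show π g = 0 from hg, map_zero]
    have hM : ∀ y : s → S, (∀ j, y j - y₀ j ∈ I) →
        ((IsLocalRing.maximalIdeal A).comap π).map
          (MvPolynomial.aeval y : MvPolynomial s O →ₐ[O] S) ≤ Ideal.jacobson ⊥ := by
      intro y hy
      refine le_sInf fun 𝔫 ⟨_, h𝔫⟩ => Ideal.map_le_iff_le_comap.2 fun q hq => ?_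
      rw [Ideal.mem_comap] at hq ⊢
      haveI := h𝔫
      let μ : (S ⧸ Ideal.span {algebraMap O S a} * I) →ₐ[O] S ⧸ 𝔫 :=
        Ideal.Quotient.factorₐ O (le_trans Ideal.mul_le_right (hIn 𝔫 h𝔫))
      let κ : A →ₐ[O] S ⧸ 𝔫 := μ.comp ψ
      have hcomap : (RingHom.ker κ).comap (algebraMap O A) = IsLocalRing.maximalIdeal O := by
        have h1 : IsLocalRing.maximalIdeal O ≤ (RingHom.ker κ).comap (algebraMap O A) := fun c hc => by
          rw [Ideal.mem_comap, RingHom.mem_ker, κ.commutes, ← Ideal.Quotient.mk_algebraMap,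
            Ideal.Quotient.eq_zero_iff_mem]
          exact hover 𝔫 h𝔫 hc
        haveI := RingHom.ker_isPrime κ
        exact le_antisymm (IsLocalRing.le_maximalIdeal (Ideal.IsPrime.ne_top inferInstance)) h1
      haveI := RingHom.ker_isPrime κ
      have hmax : (RingHom.ker κ).IsMaximal :=
        Ideal.isMaximal_of_isIntegral_of_isMaximal_comap _ (hcomap ▸ IsLocalRing.maximalIdeal.isMaximal O)
      rw [← IsLocalRing.eq_maximalIdeal hmax, RingHom.mem_ker] at hq
      have h2 : MvPolynomial.aeval y₀ q ∈ 𝔫 := by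
        rw [← Ideal.Quotient.eq_zero_iff_mem]
        rw [show κ (π q) = μ (Ideal.Quotient.mk _ (MvPolynomial.aeval y₀ q)) from congrArg μ (hev q).symm] at hq
        exact hq
      have h3 := hIn 𝔫 h𝔫 (Groth.Agent.Lib.DPRigid.aeval_sub_mem hy q)
      simpa using add_mem h3 h2
    obtain ⟨z, hz, hz0⟩ := Groth.Agent.Lib.DPRigid.exists_root hI a (RingHom.ker π) hP G hG hdG
      ((IsLocalRing.maximalIdeal A).comap π) hcon 𝔇 hsmall y₀ hbase hM
    choose sec hsec using hπ
    have hwd : ∀ q, MvPolynomial.aeval z q = MvPolynomial.aeval z (sec (π q)) := fun q => by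
      rw [← sub_eq_zero, ← map_sub]
      exact hz0 _ (by rw [RingHom.mem_ker, map_sub, hsec, sub_self])
    let χ : A →ₐ[O] S :=
      { toFun := fun x => MvPolynomial.aeval z (sec x)
        map_one' := by rw [← map_one π, ← hwd, map_one]
        map_mul' := fun x x' => by
          have := hwd (sec x * sec x')
          rw [map_mul π, hsec, hsec, map_mul] at this
          exact this.symm
        map_zero' := by rw [← map_zero π, ← hwd, map_zero]
        map_add' := fun x x' => by
          have := hwd (sec x + sec x')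
          rw [map_add π, hsec, hsec, map_add] at this
          exact this.symm
        commutes' := fun c => by rw [← π.commutes, ← hwd, AlgHom.commutes] }
    refine ⟨χ, AlgHom.ext fun x => ?_⟩
    change Ideal.Quotient.mk I (MvPolynomial.aeval z (sec x)) = Ideal.Quotient.factor (Ideal.mul_le_right (I := Ideal.span {algebraMap O S a}) (J := I)) (ψ x)
    rw [← hsec x, ← hev, Ideal.Quotient.factor_mk, hsec, Ideal.Quotient.eq]
    exact Groth.Agent.Lib.DPRigid.aeval_sub_mem hz _

end Groth.Agent.S13403
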