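import Groth.Statements.S13410
import Groth.Agent.Lib.GraphSums.Bipartite

set_option autoImplicit false
universe u v
open CombGraph

namespace Groth.Agent.S13410

/-- Let `A` be an abelian group and `G` a finite connected simple graph on `V`, bipartite for a
two-colouring `c`. Consider the additive group of labellings `x : Sym2 V → A` vanishing off the edge
set and with `∑_{e ∋ v} x e = 0` at every vertex `v`. If `e₀` is an edge whose deletion leaves `G`
connected, then evaluation at `e₀` restricted to this group is surjective and split: there is an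
additive map `φ : A → (Sym2 V → A)` with values in this group and with `φ a e₀ = a` for all `a`.
(The published statement concerns finite bipartite graphs in general; this row treats simple
graphs.) -/
theorem result {V : Type u} [Fintype V]
    [DecidableEq V] (G : SimpleGraph V) [DecidableRel G.Adj] (hconn : G.Connected) (c : V → Bool)
    (hbip : ∀ v w : V, G.Adj v w → c v ≠ c w) (A : Type v) [AddCommGroup A] (e₀ : Sym2 V)
    (he₀ : e₀ ∈ G.edgeSet) (hdel : (G.deleteEdges {e₀}).Connected) :
    ∃ φ : A →+ (Sym2 V → A),
      (∀ a : A, (∀ e : Sym2 V, e ∉ G.edgeSet → φ a e = 0) ∧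
        ∀ v : V, ∑ e ∈ G.incidenceFinset v, φ a e = 0) ∧
      ∀ a : A, φ a e₀ = a := by
  obtain ⟨z, hz1, hz2, hz3⟩ : ∃ z : Sym2 V → ℤ, (∀ e, e ∉ (G.deleteEdges {e₀}).edgeSet → e ≠ e₀ → z e = 0) ∧
      z e₀ = 1 ∧ Groth.Agent.Lib.GraphSums.Bipartite.bd G z = 0 := by
    induction e₀ using Sym2.ind with
    | _ u w =>
      exact Groth.Agent.Lib.GraphSums.Bipartite.exists_cycle c hbip (SimpleGraph.deleteEdges_le _) he₀ (by simp)
        (hdel.preconnected u w)
  refine ⟨Groth.Agent.Lib.GraphSums.Bipartite.scale z, fun a => ⟨fun e he => ?_, fun v => ?_⟩, fun a => ?_⟩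
  · rw [Groth.Agent.Lib.GraphSums.Bipartite.scale_apply,
      hz1 e (fun h => he (SimpleGraph.edgeSet_mono (SimpleGraph.deleteEdges_le _) h)) (fun h => he (h ▸ he₀)), zero_smul]
  · have := Groth.Agent.Lib.GraphSums.Bipartite.bd_scale (G := G) z a v
    rw [hz3] at this
    rw [Groth.Agent.Lib.GraphSums.Bipartite.bd_apply, Pi.zero_apply, zero_smul] at this
    exact this
  · rw [Groth.Agent.Lib.GraphSums.Bipartite.scale_apply, hz2, one_smul]

end Groth.Agent.S13410
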