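import Groth.Statements.S1964
import Groth.Agent.Lib.Henselian.LocalRing
import Groth.Agent.Lib.Henselian.Finite
import Mathlib.FieldTheory.PurelyInseparable.Basic
import Mathlib.RingTheory.Henselian

set_option autoImplicit false
universe u
open EtAlg

namespace Groth.Agent.S1964

/-- A domain B integral over a henselian local ring A is itself henselian local, and the structure map A
-> B is local; if the residue field of A is separably closed, so is that of B, and the residue field
extension is purely inseparable. -/
theorem result (A B : Type u) [CommRing A] [HenselianLocalRing A] [CommRing B]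
    [IsDomain B] [Algebra A B] [Algebra.IsIntegral A B] :
    ∃ _ : HenselianLocalRing B, IsLocalHom (algebraMap A B) ∧
      (IsSepClosed (IsLocalRing.ResidueField A) →
        IsSepClosed (IsLocalRing.ResidueField B) ∧
        ∀ _ : IsLocalHom (algebraMap A B),
          letI := (IsLocalRing.ResidueField.map (algebraMap A B)).toAlgebra
          IsPurelyInseparable (IsLocalRing.ResidueField A) (IsLocalRing.ResidueField B)) := by
  classical
  have hnt : Nontrivial B := inferInstance
  have hlocB : IsLocalRing B := by
    refine IsLocalRing.of_nonunits_add ?_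
    intro x y hx hy hxy
    let C := Algebra.adjoin A ({x, y} : Set B)
    have hfin : Module.Finite A C := by
      have : (Subalgebra.toSubmodule C).FG := fg_adjoin_of_finite (Set.toFinite _)
        (fun z _ => Algebra.IsIntegral.isIntegral z)
      exact Module.Finite.iff_fg.2 this
    have hCloc : IsLocalRing C := by
      obtain ⟨n, _, D, _, hD, ⟨e⟩⟩ := Groth.Agent.Lib.Henselian.Finite.exists_ringEquiv_pi_isLocalRing A C
      have hne : Nonempty n := by
        by_contra h
        rw [not_nonempty_iff] at h
        exact not_subsingleton C e.toEquiv.subsingleton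
      have hsub : Subsingleton n := ⟨fun i j => by
        by_contra hij
        have h0 : e.symm (Pi.single i 1) * e.symm (Pi.single j 1) = 0 := by
          rw [← map_mul, show (Pi.single i 1 : ∀ k, D k) * Pi.single j 1 = 0 from funext fun k => by
            by_cases hk : k = i
            · subst hk; simp [Ne.symm hij, hij]
            · simp [hk], map_zero]
        have := hD i
        have := hD j
        rcases mul_eq_zero.1 h0 with h | h
        · exact one_ne_zero (α := D i) (by simpa using congrFun (e.symm.map_eq_zero_iff.1 h) i)
        · exact one_ne_zero (α := D j) (by simpa using congrFun (e.symm.map_eq_zero_iff.1 h) j)⟩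
      obtain ⟨i⟩ := hne
      let : Unique n := ⟨⟨i⟩, fun j => Subsingleton.elim j i⟩
      have := hD default
      exact (e.trans (RingEquiv.piUnique D)).symm.isLocalRing
    have hint : (algebraMap C B).IsIntegral := fun z =>
      (Algebra.IsIntegral.isIntegral (R := A) z).tower_top
    have := hint.isLocalHom Subtype.val_injective
    have hx' : ¬ IsUnit (⟨x, Algebra.subset_adjoin (by simp)⟩ : C) := fun h => hx (h.map (algebraMap C B))
    have hy' : ¬ IsUnit (⟨y, Algebra.subset_adjoin (by simp)⟩ : C) := fun h => hy (h.map (algebraMap C B))
    exact IsLocalRing.nonunits_add hx' hy' (IsUnit.of_map (algebraMap C B) _ hxy)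
  have hB : HenselianLocalRing B :=
    Groth.Agent.Lib.Henselian.LocalRing.henselianLocalRing_of_isIntegral A B
  have hloc : IsLocalHom (algebraMap A B) := by
    refine ((IsLocalRing.local_hom_TFAE (algebraMap A B)).out 0 4).2 ?_
    have : ((IsLocalRing.maximalIdeal B).comap (algebraMap A B)).IsMaximal :=
      Ideal.isMaximal_comap_of_isIntegral_of_isMaximal _
    exact IsLocalRing.eq_maximalIdeal this
  refine ⟨hB, hloc, fun hsep => ?_⟩
  have halg : Algebra.IsAlgebraic (IsLocalRing.ResidueField A) (IsLocalRing.ResidueField B) := by
    refine ⟨fun z => IsIntegral.isAlgebraic ?_⟩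
    obtain ⟨b, rfl⟩ := IsLocalRing.residue_surjective z
    obtain ⟨P, hP, hPb⟩ := Algebra.IsIntegral.isIntegral (R := A) b
    refine ⟨P.map (IsLocalRing.residue A), hP.map _, ?_⟩
    rw [Polynomial.eval₂_map]
    have h := Polynomial.hom_eval₂ P (algebraMap A B) (IsLocalRing.residue B) b
    rw [hPb, map_zero] at h
    exact h.symm
  refine ⟨Algebra.IsAlgebraic.isSepClosed (F := IsLocalRing.ResidueField A), fun _ => ?_⟩
  have hPI := @Algebra.IsAlgebraic.isPurelyInseparable_of_isSepClosed (IsLocalRing.ResidueField A) (IsLocalRing.ResidueField B) _ _ _ IsLocalRing.ResidueField.instAlgebra halg _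
  convert hPI using 1
  case e'_3 => rfl
  case e'_5 =>
    apply Algebra.algebra_ext
    intro r
    obtain ⟨a, rfl⟩ := IsLocalRing.residue_surjective r
    rfl

end Groth.Agent.S1964
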