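import Groth.Statements.S13417
-- import your own Groth.Agent.* helpers here
import Groth.Agent.S1964
import Groth.Agent.S2690
import Groth.Agent.Lib.NormalTensor.Main
import Groth.Agent.Lib.Flat55.SmoothBCNormalization
import Groth.Agent.Lib.Dim.Integral
import Groth.Agent.Lib.PBasis.FieldSmooth

set_option autoImplicit false
universe u
open scoped TensorProduct
open HLoc2

namespace Groth.Agent.S13417

/-- Let `k` be a field with separable closure `kˢ` and `R₀` a commutative local `k`-algebra which is
excellent, henselian, integrally closed, of Krull dimension two, with residue field `k`, and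
geometrically integral (`R₀ ⊗_k kˢ` is a domain). Then `R₀ ⊗_k kˢ` is a henselian local ring which
is integrally closed, of Krull dimension two, and whose residue field is `kˢ` (the composite `kˢ →
R₀ ⊗_k kˢ →` residue field is surjective). (The published statement also asserts that `R₀ ⊗_k kˢ` is
excellent; that assertion is not restated here.) -/
theorem result
    (k : Type u) [Field k] (R₀ : Type u) [CommRing R₀] [IsDomain R₀] [HenselianLocalRing R₀] [Algebra k R₀]
    [IsIntegrallyClosed R₀] (hexc : EGA4.IsExcellent R₀) (hdim : ringKrullDim R₀ = 2)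
    (hres : Function.Surjective (fun a : k => IsLocalRing.residue R₀ (algebraMap k R₀ a)))
    [IsDomain (R₀ ⊗[k] SeparableClosure k)] :
    ∃ _ : HenselianLocalRing (R₀ ⊗[k] SeparableClosure k),
      IsIntegrallyClosed (R₀ ⊗[k] SeparableClosure k) ∧
      ringKrullDim (R₀ ⊗[k] SeparableClosure k) = 2 ∧
      Function.Surjective (fun a : SeparableClosure k =>
        IsLocalRing.residue (R₀ ⊗[k] SeparableClosure k)
          ((Algebra.TensorProduct.includeRight : SeparableClosure k →ₐ[k] R₀ ⊗[k] SeparableClosure k) a)) := by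
  let : CommRing (R₀ ⊗[k] SeparableClosure k) := Algebra.TensorProduct.instCommRing
  haveI : Algebra.IsIntegral k (SeparableClosure k) := Algebra.IsAlgebraic.isIntegral
  haveI : Algebra.IsIntegral R₀ (R₀ ⊗[k] SeparableClosure k) := inferInstance
  have hinj : Function.Injective (algebraMap R₀ (R₀ ⊗[k] SeparableClosure k)) := by
    show Function.Injective (Algebra.TensorProduct.includeLeft : R₀ →ₐ[R₀] R₀ ⊗[k] SeparableClosure k)
    exact Algebra.TensorProduct.includeLeft_injective (S := R₀) (FaithfulSMul.algebraMap_injective k (SeparableClosure k))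
  haveI : FaithfulSMul R₀ (R₀ ⊗[k] SeparableClosure k) := (faithfulSMul_iff_algebraMap_injective R₀ (R₀ ⊗[k] SeparableClosure k)).2 hinj
  obtain ⟨hH, hloc, -⟩ := Groth.Agent.S1964.result R₀ (R₀ ⊗[k] SeparableClosure k)
  refine ⟨hH, ?_, (Groth.Agent.Lib.Dim.Integral.ringKrullDim_eq_of_isIntegral (R := R₀) (A := (R₀ ⊗[k] SeparableClosure k))).trans hdim, ?_⟩
  · haveI : Algebra.FormallyEtale k (SeparableClosure k) := Algebra.FormallyEtale.of_isSeparable k (SeparableClosure k)
    haveI : Algebra.IsGeometricallyReduced k (SeparableClosure k) :=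
      Groth.Agent.Lib.PBasis.FieldSmooth.formallySmooth_iff_isGeometricallyReduced.mp inferInstance
    have hn : EGA4.IsNormalRing ((SeparableClosure k) ⊗[k] R₀) :=
      Groth.Agent.S2690.result k R₀ (SeparableClosure k) Groth.Agent.Lib.NormalTensor.Main.isNormalRing_of_domain
    exact Groth.Agent.Lib.Flat55.SmoothBCNormalization.isIntegrallyClosed_of_isNormalRing
      (Groth.Agent.Lib.NormalTensor.Basic.isNormalRing_congr (Algebra.TensorProduct.comm k (SeparableClosure k) R₀).toRingEquiv hn)
  · intro z
    obtain ⟨x, rfl⟩ := IsLocalRing.residue_surjective z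
    suffices h : ∀ x : (R₀ ⊗[k] SeparableClosure k), ∃ a : (SeparableClosure k),
        x - (Algebra.TensorProduct.includeRight : (SeparableClosure k) →ₐ[k] (R₀ ⊗[k] SeparableClosure k)) a ∈ IsLocalRing.maximalIdeal (R₀ ⊗[k] SeparableClosure k) by
      obtain ⟨a, ha⟩ := h x
      exact ⟨a, ((Ideal.Quotient.eq).2 ha).symm⟩
    intro x
    induction x using TensorProduct.induction_on with
    | zero => exact ⟨0, by simp⟩
    | tmul r c =>
      obtain ⟨a, ha⟩ := hres (IsLocalRing.residue R₀ r)
      refine ⟨a • c, ?_⟩
      have h1 : algebraMap k R₀ a - r ∈ IsLocalRing.maximalIdeal R₀ := Ideal.Quotient.eq.1 ha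
      have h2 : algebraMap R₀ (R₀ ⊗[k] SeparableClosure k) (algebraMap k R₀ a - r) ∈ IsLocalRing.maximalIdeal (R₀ ⊗[k] SeparableClosure k) :=
        map_nonunit (algebraMap R₀ (R₀ ⊗[k] SeparableClosure k)) _ h1
      have h3 : (r ⊗ₜ[k] c : (R₀ ⊗[k] SeparableClosure k)) - (Algebra.TensorProduct.includeRight : (SeparableClosure k) →ₐ[k] (R₀ ⊗[k] SeparableClosure k)) (a • c) =
          -(algebraMap R₀ (R₀ ⊗[k] SeparableClosure k) (algebraMap k R₀ a - r) * ((1 : R₀) ⊗ₜ[k] c)) := by
        rw [map_sub, sub_mul, neg_sub, Algebra.TensorProduct.algebraMap_apply, Algebra.algebraMap_self_apply,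
          Algebra.TensorProduct.algebraMap_apply, Algebra.algebraMap_self_apply,
          Algebra.TensorProduct.tmul_mul_tmul, Algebra.TensorProduct.tmul_mul_tmul, mul_one, mul_one, one_mul,
          Algebra.TensorProduct.includeRight_apply, TensorProduct.tmul_smul, TensorProduct.smul_tmul',
          Algebra.smul_def, mul_one]
      rw [h3]
      exact neg_mem (Ideal.mul_mem_right _ _ h2)
    | add x y hx hy =>
      obtain ⟨a, ha⟩ := hx
      obtain ⟨b, hb⟩ := hy
      refine ⟨a + b, ?_⟩
      rw [map_add, add_sub_add_comm]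
      exact add_mem ha hb

end Groth.Agent.S13417
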