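import Groth.Statements.S13422
import Groth.Agent.H26.NeronWeak


set_option autoImplicit false
universe u
open CategoryTheory AlgebraicGeometry
open NeronHD

namespace Groth.Agent.S13422

/-- Let S be a locally Noetherian scheme over a field of characteristic 0, S₀ ⊆ S a scheme-theoretically
dense open, and N a smooth S-scheme with the weak Néron mapping property for S₀ ⊆ S: for every étale
S-scheme U, restriction to S₀ is a bijection from S-morphisms U → N onto S₀-morphisms U|S₀ → N|S₀.
Then N has the uniqueness half of the Néron mapping property: for every smooth S-scheme Z,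
restriction of S-morphisms Z → N to S₀ is injective. (Case of schemes of a statement about algebraic
spaces.) -/
theorem result {k : Type u} [Field k] [CharZero k] {S : Scheme.{u}} (σ : S ⟶ Spec (CommRingCat.of k)) [IsLocallyNoetherian S] (S₀ : S.Opens) (hS₀ : CInt.IsSchematicallyDense S₀)
    (N : Over S) [Smooth N.hom]
    (hN : ∀ U : Over S, Etale U.hom → Function.Bijective (fun g : U ⟶ N => (Over.pullback S₀.ι).map g))
    (Z : Over S) [Smooth Z.hom] :
    Function.Injective (fun g : Z ⟶ N => (Over.pullback S₀.ι).map g) := by
  have hchar : ∀ (U : S.Opens) (_ : IsAffineOpen U) (p : PrimeSpectrum Γ(S, U)),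
      PerfectField p.asIdeal.ResidueField := fun U _ p => by
    let r : k →+* p.asIdeal.ResidueField := (algebraMap Γ(S, U) p.asIdeal.ResidueField).comp
      ((Scheme.ΓSpecIso (CommRingCat.of k)).inv ≫ σ.appLE ⊤ U le_top).hom
    have : CharZero p.asIdeal.ResidueField := charZero_of_injective_ringHom r.injective
    exact PerfectField.ofCharZero
  intro f g h
  refine Groth.Agent.H26.Neron.eq_of_weak hS₀ hchar (fun U hU a b hab => (hN U hU).1 ?_) f g ?_
  · exact (Groth.Agent.Lib.SchDense.Factor.pullback_map_eq_iff S₀ a b).mpr hab
  · exact (Groth.Agent.Lib.SchDense.Factor.pullback_map_eq_iff S₀ f g).mp h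

end Groth.Agent.S13422
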