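import Groth.Statements.S13423
import Groth.Agent.Lib.Unram.UnibranchEtale
import Groth.Agent.Lib.GrpSch.UnramifiedFibre
import Groth.Agent.Lib.SchTopo.Closure
import Groth.Agent.Lib.FinCond.Components
import Groth.Agent.S4997

set_option autoImplicit false
universe u
open CategoryTheory AlgebraicGeometry
open NeronHD

namespace Groth.Agent.S13423

/-- Let S be a reduced, locally Noetherian scheme over a field of characteristic 0 whose local rings are
all geometrically unibranch, and let f : X → S be quasi-finite (locally of finite type,
quasi-compact, with finite discrete fibres), separated and dominant, with X connected and nonempty,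
such that every fibre X_s over the residue field k(s) is smooth. Then f is étale. (Case of schemes
of a statement about algebraic spaces.) -/
theorem result {k : Type u} [Field k] [CharZero k] {S : Scheme.{u}} (σ : S ⟶ Spec (CommRingCat.of k)) [IsLocallyNoetherian S] [IsReduced S]
    (hS : ∀ s : S, CAlg2.IsGeomUnibranch (S.presheaf.stalk s))
    {X : Scheme.{u}} (f : X ⟶ S) [LocallyOfFiniteType f] [QuasiCompact f] [LocallyQuasiFinite f] [IsSeparated f] [IsDominant f]
    [ConnectedSpace X]
    (hfib : ∀ s : S, Smooth (Limits.pullback.snd f (S.fromSpecResidueField s))) :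
    Etale f := by
  have hfib' : ∀ s : S, FormallyUnramified (f.fiberToSpecResidueField s) := fun s => by
    haveI : Etale (Limits.pullback.snd f (S.fromSpecResidueField s)) :=
      (Groth.Agent.S4997.result _).mpr ⟨hfib s, inferInstance⟩
    show FormallyUnramified (Limits.pullback.snd f (S.fromSpecResidueField s))
    infer_instance
  haveI : FormallyUnramified f := Groth.Agent.Lib.GrpSch.formallyUnramified_of_fibres f hfib'
  haveI : IsIntegral S := (Groth.Agent.Lib.FinCond.isIntegral_iff S).mpr ⟨by
      have hd : Dense (Set.range f) := f.denseRange
      have := (isPreconnected_range f.continuous).closure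
      rw [hd.closure_eq] at this
      haveI : PreconnectedSpace S := ⟨this⟩
      exact { toNonempty := ⟨f (Classical.arbitrary X)⟩ }, fun s => by
      haveI := ((hS s).1).1
      have hnil : nilradical (S.presheaf.stalk s) = ⊥ := nilradical_eq_zero _
      exact (RingEquiv.ofBijective (Ideal.Quotient.mk (nilradical (S.presheaf.stalk s)))
        ⟨(RingHom.injective_iff_ker_eq_bot _).mpr (by rw [Ideal.mk_ker, hnil]),
          Ideal.Quotient.mk_surjective⟩).toMulEquiv.isDomain⟩
  obtain ⟨x, hx⟩ := Groth.Agent.Lib.SchTopo.Closure.exists_specializes_of_mem_closure_range f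
    (show genericPoint S ∈ closure (Set.range f) from f.denseRange.closure_eq ▸ Set.mem_univ _)
  exact (Groth.Agent.Lib.Unram.UnibranchEtale.etale_and_isIntegral f hS
    ⟨x, (hx.antisymm (genericPoint_specializes _)).eq⟩).1

end Groth.Agent.S13423
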