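import Groth.Statements.S13424
import Groth.Agent.H26.NormalSection
import Groth.Agent.Lib.FinCond.Components
import Mathlib.AlgebraicGeometry.Morphisms.SchemeTheoreticallyDominant


set_option autoImplicit false
universe u
open CategoryTheory AlgebraicGeometry
open GrpSch

namespace Groth.Agent.S13424

/-- Let S be a normal, locally Noetherian scheme over a field of characteristic 0. Let p : G → S and q :
H → S be smooth morphisms with sections e_G and e_H, and f : G → H an étale morphism over S with f ∘
e_G = e_H (the case in view: an étale homomorphism of smooth group schemes and their unit sections).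
Call such a pointed S-scheme aligned when the scheme-theoretic image of its section is étale over S.
If H is aligned then G is aligned. (The published statement has an arbitrary locally Noetherian
base; over the reducible curve xy = 0 the étale group scheme obtained from two copies of the base
glued along the complement of one branch maps to the trivial group by an étale homomorphism and is
not aligned, so the base is taken normal here, where the closure of the section is a union of
connected components of the preimage of the image of e_H. Schemes only.) -/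
theorem result {k : Type u} [Field k] [CharZero k] {S : Scheme.{u}} (σ : S ⟶ Spec (CommRingCat.of k)) [IsLocallyNoetherian S] (hS : Pi1.IsNormalScheme S)
    {G H : Scheme.{u}} (p : G ⟶ S) (q : H ⟶ S) [Smooth p] [Smooth q]
    (eG : S ⟶ G) (eH : S ⟶ H) (heG : eG ≫ p = 𝟙 S) (heH : eH ≫ q = 𝟙 S)
    (f : G ⟶ H) [Etale f] (hf : f ≫ q = p) (hfe : eG ≫ f = eH)
    (hH : Etale (eH.ker.subschemeι ≫ q)) :
    Etale (eG.ker.subschemeι ≫ p) := by
  classical
  let ι' : eH.ker.subscheme ⟶ H := eH.ker.subschemeι
  haveI : Etale (ι' ≫ q) := hH
  let P := Limits.pullback f ι'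
  let a : P ⟶ G := Limits.pullback.fst f ι'
  let r : P ⟶ S := Limits.pullback.snd f ι' ≫ ι' ≫ q
  haveI : Etale r := inferInstanceAs (Etale (_ ≫ (ι' ≫ q)))
  have har : a ≫ p = r := by
    rw [← hf, Limits.pullback.condition_assoc]
  have hP : Pi1.IsNormalScheme P := Groth.Agent.H26.NormalSection.isNormalScheme_of_smooth r hS
  haveI : IsLocallyNoetherian P := LocallyOfFiniteType.isLocallyNoetherian r
  haveI : ∀ x : P, _root_.IsReduced (P.presheaf.stalk x) := fun x => by
    haveI := (hP x).1; infer_instance
  haveI : IsReduced P := isReduced_of_isReduced_stalk P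
  let s : S ⟶ P := Limits.pullback.lift eG eH.toImage (by
    rw [hfe]; exact eH.toImage_imageι.symm)
  have hsa : s ≫ a = eG := Limits.pullback.lift_fst _ _ _
  have hsr : s ≫ r = 𝟙 S := by rw [← har, ← Category.assoc, hsa, heG]
  haveI : Etale (s ≫ r) := by rw [hsr]; infer_instance
  haveI : Etale s := Etale.of_comp s r
  have hso : IsOpen (Set.range s) := s.isOpenMap.isOpen_range
  -- the closure of the section is open
  have hCo : IsOpen (closure (Set.range s)) := by
    refine isOpen_iff_mem_nhds.2 fun x hx => ?_
    haveI := (hP x).1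
    obtain ⟨W, hxW, hW⟩ := Groth.Agent.Lib.FinCond.exists_irreducible_nhd (X := P) x (by
      rw [nilradical_eq_zero]; exact Ideal.isPrime_bot)
    obtain ⟨y, hyW, hys⟩ := mem_closure_iff.1 hx W W.2 hxW
    refine Filter.mem_of_superset (W.2.mem_nhds hxW)
      ((subset_closure_inter_of_isPreirreducible_of_isOpen hW.2 hso ⟨y, hyW, hys⟩).trans ?_)
    exact closure_mono Set.inter_subset_right
  let Co : P.Opens := ⟨closure (Set.range s), hCo⟩
  haveI : IsClosedImmersion Co.ι := IsClosedImmersion.of_isPreimmersion _ (by
    rw [Scheme.Opens.range_ι]; exact isClosed_closure)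
  haveI : IsReduced (Co : Scheme.{u}) := isReduced_of_isOpenImmersion Co.ι
  let s' : S ⟶ Co := IsOpenImmersion.lift Co.ι s (by
    rw [Scheme.Opens.range_ι]; exact subset_closure)
  have hs' : s' ≫ Co.ι = s := IsOpenImmersion.lift_fac _ _ _
  haveI : IsDominant s' := ⟨fun x => by
    have hr : Set.range s' = Co.ι ⁻¹' Set.range s := by
      ext z
      constructor
      · rintro ⟨y, rfl⟩
        exact ⟨y, by rw [← Scheme.Hom.comp_apply, hs']⟩
      · rintro ⟨y, hy⟩
        exact ⟨y, Co.ι.isOpenEmbedding.injective (by rw [← Scheme.Hom.comp_apply, hs', hy])⟩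
    rw [hr, ← Co.ι.isOpenEmbedding.isOpenMap.preimage_closure_eq_closure_preimage
      Co.ι.continuous]
    have : Co.ι x ∈ Set.range Co.ι := ⟨x, rfl⟩
    rwa [Scheme.Opens.range_ι] at this⟩
  haveI := IsSchemeTheoreticallyDominant.of_isDominant s'
  let c : (Co : Scheme.{u}) ⟶ G := Co.ι ≫ a
  haveI : IsClosedImmersion c := inferInstanceAs (IsClosedImmersion (Co.ι ≫ a))
  have hker : eG.ker = c.ker := by
    rw [show eG = s' ≫ c by rw [reassoc_of% hs', hsa], Scheme.Hom.ker_comp, s'.ker_eq_bot,
      Scheme.IdealSheafData.map_bot]
  rw [hker]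
  haveI : Etale (c ≫ p) := by
    rw [show c ≫ p = Co.ι ≫ r by rw [← har, Category.assoc]]
    infer_instance
  have e : c.ker.subschemeι ≫ p = inv c.toImage ≫ c ≫ p := by
    rw [IsIso.eq_inv_comp, ← Category.assoc]
    exact congrArg (· ≫ p) c.toImage_imageι
  rw [e]
  infer_instance

end Groth.Agent.S13424
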