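import Groth.Statements.S13425
import Groth.Agent.S2415
import Mathlib

set_option autoImplicit false
universe u
open CategoryTheory AlgebraicGeometry
open NeronHD

namespace Groth.Agent.S13425

open CategoryTheory.Limits in
/-- Let k be a characteristic-zero algebraically closed field and X, Y integral schemes, separated and
of finite type over k, with Y normal, and let f : X → Y be a dominant k-morphism which is injective
on k-rational points. Then f is an open immersion. (Case of schemes of a statement about algebraic
spaces.) -/
theorem result {k : Type u} [Field k] [IsAlgClosed k] [CharZero k]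
    {X Y : Scheme.{u}} (sX : X ⟶ Spec (CommRingCat.of k)) (sY : Y ⟶ Spec (CommRingCat.of k))
    [IsIntegral X] [IsIntegral Y] [IsSeparated sX] [IsSeparated sY]
    [LocallyOfFiniteType sX] [QuasiCompact sX] [LocallyOfFiniteType sY] [QuasiCompact sY]
    (hY : Pi1.IsNormalScheme Y)
    (f : X ⟶ Y) (hf : f ≫ sY = sX) [IsDominant f]
    (hinj : ∀ a b : Spec (CommRingCat.of k) ⟶ X, a ≫ sX = 𝟙 _ → b ≫ sX = 𝟙 _ → a ≫ f = b ≫ f → a = b) :
    IsOpenImmersion f := by
  haveI : IsLocallyNoetherian Y := LocallyOfFiniteType.isLocallyNoetherian sY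
  haveI : LocallyOfFiniteType (f ≫ sY) := hf ▸ inferInstance
  haveI : QuasiCompact (f ≫ sY) := hf ▸ inferInstance
  haveI : IsSeparated (f ≫ sY) := hf ▸ inferInstance
  haveI : LocallyOfFiniteType f := locallyOfFiniteType_of_comp f sY
  haveI : QuasiCompact f := QuasiCompact.of_comp f sY
  haveI : IsSeparated f := IsSeparated.of_comp f sY
  let π : pullback f f ⟶ Spec (CommRingCat.of k) := pullback.fst f f ≫ sX
  haveI : LocallyOfFiniteType π := inferInstance
  haveI : JacobsonSpace ↥(pullback f f) := LocallyOfFiniteType.jacobsonSpace π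
  -- injectivity on rational points makes the diagonal surjective
  haveI hΔ : Surjective (pullback.diagonal f) := by
    constructor
    rw [← Set.range_eq_univ]
    refine Set.eq_univ_of_univ_subset ?_
    rw [← closure_closedPoints]
    refine closure_minimal (fun z hz => ?_) (pullback.diagonal f).isClosedEmbedding.isClosed_range
    let c := pointOfClosedPoint π z hz
    have hc : c ≫ π = 𝟙 _ := pointOfClosedPoint_comp π z hz
    have hπ : pullback.snd f f ≫ sX = π := by
      show pullback.snd f f ≫ sX = pullback.fst f f ≫ sX
      rw [← hf, pullback.condition_assoc]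
    have hab : c ≫ pullback.fst f f = c ≫ pullback.snd f f :=
      hinj _ _ ((Category.assoc _ _ _).trans hc) (by rw [Category.assoc, hπ, hc])
        (by rw [Category.assoc, pullback.condition, Category.assoc])
    have hcΔ : c = (c ≫ pullback.fst f f) ≫ pullback.diagonal f := by
      refine pullback.hom_ext ?_ ?_
      · rw [Category.assoc, pullback.diagonal_fst, Category.comp_id]
      · rw [Category.assoc, pullback.diagonal_snd, Category.comp_id, hab]
    refine ⟨(c ≫ pullback.fst f f) (IsLocalRing.closedPoint k), ?_⟩
    rw [← Scheme.Hom.comp_apply, ← hcΔ]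
    exact pointOfClosedPoint_apply π z hz _
  obtain ⟨hfinj, hpi⟩ := ((tfae_universallyInjective f).out 3 2).mp hΔ
  have hgen : f.base (genericPoint X) = genericPoint Y := by
    have h1 := (genericPoint_spec X).image f.continuous
    rw [Set.image_univ, f.denseRange.closure_range] at h1
    exact h1.eq (genericPoint_spec Y)
  refine (Groth.Agent.S2415.result hY f hgen ?_
    (fun y => Set.Subsingleton.finite fun a ha b hb => hfinj (ha.trans hb.symm))).1
  set ξ := genericPoint X
  have hres : Function.Surjective (f.residueFieldMap ξ).hom := by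
    have hp := hpi ξ
    algebraize [(f.residueFieldMap ξ).hom]
    haveI : CharZero (Y.residueField (f ξ)) :=
      charZero_of_injective_ringHom (f := (Spec.preimage (Y.fromSpecResidueField (f ξ) ≫ sY)).hom)
        (RingHom.injective _)
    haveI : Algebra.IsAlgebraic (Y.residueField (f ξ)) (X.residueField ξ) :=
      Algebra.IsIntegral.isAlgebraic
    exact IsPurelyInseparable.surjective_algebraMap_of_isSeparable (Y.residueField (f ξ)) (X.residueField ξ)
  have hbotX : IsLocalRing.maximalIdeal (X.presheaf.stalk ξ) = ⊥ :=
    IsLocalRing.isField_iff_maximalIdeal_eq.mp (Field.toIsField X.functionField)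
  have hinjX : Function.Injective (X.residue ξ).hom := by
    rw [RingHom.injective_iff_ker_eq_bot]
    exact (IsLocalRing.ker_residue (R := X.presheaf.stalk ξ)).trans hbotX
  have hcomm : ∀ a, (X.residue ξ).hom ((f.stalkMap ξ).hom a) = (f.residueFieldMap ξ).hom ((Y.residue (f ξ)).hom a) :=
    fun a => congr($(Scheme.residue_residueFieldMap f ξ) a).symm
  have hfieldY : IsField (Y.presheaf.stalk (f ξ)) :=
    (Y.presheaf.stalkCongr (.of_eq hgen)).commRingCatIsoToRingEquiv.toMulEquiv.isField (Field.toIsField Y.functionField)
  rw [ConcreteCategory.isIso_iff_bijective]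
  letI : Field (Y.presheaf.stalk (f ξ)) := hfieldY.toField
  refine ⟨RingHom.injective (f.stalkMap ξ).hom, fun a => ?_⟩
  obtain ⟨r, hr⟩ := hres ((X.residue ξ).hom a)
  obtain ⟨b, hb⟩ := IsLocalRing.residue_surjective r
  exact ⟨b, hinjX (by rw [hcomm, ← hr, ← hb]; rfl)⟩

end Groth.Agent.S13425
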