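import Groth.Statements.S13426
import Groth.Agent.Lib.GrpSch.Basic


set_option autoImplicit false
universe u
open CategoryTheory MonoidalCategory CartesianMonoidalCategory MonObj GrpObj AlgebraicGeometry
open GrpSch

namespace Groth.Agent.S13426

/-- Let S be a locally Noetherian scheme over a field of characteristic 0, S₀ ⊆ S a scheme-theoretically
dense open, and G a smooth S-scheme with the weak Néron mapping property for S₀ ⊆ S: for every étale
S-scheme U, restriction to S₀ is a bijection from S-morphisms U → G onto S₀-morphisms. Let H be a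
smooth group scheme over S together with a monomorphism H → G of S-schemes (the case in view: G a
group scheme and H a subgroup scheme), and assume that H is aligned, i.e. the scheme-theoretic image
of its unit section is étale over S, and that H ×_S S₀ → S₀ is separated. Then H → S is separated.
(Case of schemes of a statement about group algebraic spaces; only the injectivity of H → G on
morphisms is used of the subgroup condition.) -/
theorem result {k : Type u} [Field k] [CharZero k] {S : Scheme.{u}} (σ : S ⟶ Spec (CommRingCat.of k)) [IsLocallyNoetherian S] (S₀ : S.Opens) (hS₀ : CInt.IsSchematicallyDense S₀)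
    (G : Over S) [Smooth G.hom]
    (hG : ∀ U : Over S, Etale U.hom → Function.Bijective (fun g : U ⟶ G => (Over.pullback S₀.ι).map g))
    (H : Over S) [GrpObj H] [Smooth H.hom] (j : H ⟶ G) [Mono j.left]
    (hal : Etale (η[H].left.ker.subschemeι ≫ H.hom))
    (h0 : IsSeparated (Limits.pullback.snd H.hom S₀.ι)) :
    IsSeparated H.hom := by
  classical
  let e : S ⟶ H.left := η[H].left
  have he : e ≫ H.hom = 𝟙 S := Groth.Agent.Lib.GrpSch.η_left_comp_hom H
  haveI : IsImmersion e := Groth.Agent.Lib.GrpSch.isImmersion_η H
  haveI : IsLocallyNoetherian H.left := LocallyOfFiniteType.isLocallyNoetherian H.hom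
  haveI : QuasiCompact e := by
    rw [quasiCompact_iff_forall_isAffineOpen]
    intro V hV
    haveI : IsNoetherianRing Γ(H.left, V) := IsLocallyNoetherian.component_noetherian ⟨V, hV⟩
    haveI : TopologicalSpace.NoetherianSpace ↥(V : Set ↥H.left) := noetherianSpace_of_isAffineOpen V hV
    rw [e.isEmbedding.isCompact_iff]
    have := (TopologicalSpace.NoetherianSpace.isCompact
      (Subtype.val ⁻¹' Set.range e : Set ↥(V : Set ↥H.left))).image continuous_subtype_val
    rwa [Subtype.image_preimage_coe, ← Set.image_preimage_eq_inter_range] at this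
  let ι' : e.ker.subscheme ⟶ H.left := e.ker.subschemeι
  let q : e.ker.subscheme ⟶ S := ι' ≫ H.hom
  haveI : Etale q := hal
  let s : S ⟶ e.ker.subscheme := e.toImage
  have hs : s ≫ ι' = e := e.toImage_imageι
  have hsq : s ≫ q = 𝟙 S := by rw [← Category.assoc, hs, he]
  haveI : IsOpenImmersion s := inferInstanceAs (IsOpenImmersion e.toImage)
  -- over `S₀` the unit section is closed
  have hcl : ∀ w : ↥e.ker.subscheme, q w ∈ S₀ → w ∈ Set.range s := by
    haveI := h0
    let e₀ : (S₀ : Scheme.{u}) ⟶ Limits.pullback H.hom S₀.ι :=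
      Limits.pullback.lift (S₀.ι ≫ e) (𝟙 _) (by rw [Category.assoc, he, Category.comp_id, Category.id_comp])
    haveI : IsClosedImmersion e₀ := by
      haveI : IsClosedImmersion (e₀ ≫ Limits.pullback.snd H.hom S₀.ι) := by
        rw [Limits.pullback.lift_snd]; infer_instance
      exact IsClosedImmersion.of_comp e₀ (Limits.pullback.snd H.hom S₀.ι)
    intro w hw
    let f := Limits.pullback.fst H.hom S₀.ι
    have hf : Set.range f = H.hom ⁻¹' (S₀ : Set S) := by
      rw [Scheme.Pullback.range_fst, Scheme.Opens.range_ι]
    obtain ⟨z, hz⟩ : ι' w ∈ Set.range f := by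
      rw [hf]
      exact hw
    have hwcl : ι' w ∈ closure (Set.range e) := by
      have h : ι' w ∈ Set.range ι' := ⟨w, rfl⟩
      rw [Scheme.IdealSheafData.range_subschemeι, Scheme.Hom.support_ker] at h
      exact h
    have hzcl : z ∈ closure (Set.range e₀) := by
      refine closure_mono ?_ (f.isOpenEmbedding.isOpenMap.preimage_closure_subset_closure_preimage
        (show z ∈ f ⁻¹' closure (Set.range e) by rw [Set.mem_preimage, hz]; exact hwcl))
      rintro z' ⟨y, hy⟩
      have hyS : y ∈ S₀ := by
        have h1 : f z' ∈ Set.range f := ⟨z', rfl⟩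
        rw [hf] at h1
        have h2 : H.hom (e y) = y := by
          rw [← Scheme.Hom.comp_apply, he]; rfl
        exact h2 ▸ hy.symm ▸ h1
      obtain ⟨y₀, rfl⟩ : y ∈ Set.range S₀.ι := by rwa [Scheme.Opens.range_ι]
      refine ⟨y₀, f.isOpenEmbedding.injective ?_⟩
      rw [← hy, ← Scheme.Hom.comp_apply, Limits.pullback.lift_fst, Scheme.Hom.comp_apply]
    rw [e₀.isClosedEmbedding.isClosed_range.closure_eq] at hzcl
    obtain ⟨y₀, rfl⟩ := hzcl
    refine ⟨S₀.ι y₀, ι'.isClosedEmbedding.injective ?_⟩
    rw [← Scheme.Hom.comp_apply s ι', hs, ← hz, ← Scheme.Hom.comp_apply e₀,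
      Limits.pullback.lift_fst, Scheme.Hom.comp_apply]
  let U : Over S := Over.mk q
  let ιU : U ⟶ H := Over.homMk ι' rfl
  let eU : U ⟶ H := Over.homMk (q ≫ e) (by rw [Category.assoc, he, Category.comp_id]; rfl)
  have key : ιU ≫ j = eU ≫ j := by
    apply (hG U (inferInstanceAs (Etale q))).injective
    let p := Limits.pullback.fst q S₀.ι
    have hp : p ≫ ι' = p ≫ q ≫ e := by
      obtain ⟨l, hl⟩ : ∃ l, l ≫ s = p := by
        refine ⟨IsOpenImmersion.lift s p ?_, IsOpenImmersion.lift_fac _ _ _⟩
        rintro _ ⟨x, rfl⟩
        refine hcl _ ?_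
        have h1 : p x ∈ Set.range p := ⟨x, rfl⟩
        rw [Scheme.Pullback.range_fst, Scheme.Opens.range_ι] at h1
        exact h1
      rw [← hl, Category.assoc, hs, Category.assoc, reassoc_of% hsq]
    apply Over.OverMorphism.ext
    apply Limits.pullback.hom_ext
    · simp only [Over.pullback_map_left, Limits.pullback.lift_fst, Over.comp_left, Over.homMk_left,
        ιU, eU]
      exact (Category.assoc _ _ _).symm.trans ((congrArg (· ≫ j.left) hp).trans (Category.assoc _ _ _))
    · simp only [Over.pullback_map_left, Limits.pullback.lift_snd]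
  have hιe : ι' = q ≫ e := by
    have := congrArg CommaMorphism.left key
    exact (cancel_mono j.left).1 this
  have hrange : IsClosed (Set.range e) := by
    have : Set.range e = Set.range ι' := by
      refine Set.Subset.antisymm ?_ ?_
      · rintro _ ⟨y, rfl⟩
        exact ⟨s y, by rw [← Scheme.Hom.comp_apply, hs]⟩
      · rw [hιe, Scheme.Hom.comp_base, TopCat.coe_comp]
        exact Set.range_comp_subset_range _ _
    rw [this]
    exact ι'.isClosedEmbedding.isClosed_range
  haveI : IsClosedImmersion η[H].left := IsClosedImmersion.of_isPreimmersion e hrange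
  exact Groth.Agent.Lib.GrpSch.isSeparated_of_isClosedImmersion_η H

end Groth.Agent.S13426
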