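import Groth.Statements.S13428
import Groth.Agent.H26.EtaleExtend


set_option autoImplicit false
set_option maxHeartbeats 1000000
set_option linter.all false
universe u
open CategoryTheory AlgebraicGeometry CategoryTheory.Limits
open NeronHD

namespace Groth.Agent.S13428

/-- Let S be a normal Noetherian scheme over a field of characteristic 0 and S₀ ⊆ S a
scheme-theoretically dense open. Let N be a smooth, separated and quasi-compact S-scheme with the
Néron mapping property for S₀ ⊆ S (restriction to S₀ of S-morphisms from smooth S-schemes is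
bijective) such that N|S₀ → S₀ is étale, so that N is a quasi-projective Néron model of the
quasi-projective étale S₀-scheme N|S₀. If M is a separated, quasi-compact, étale S-scheme and φ : M
→ N is an S-morphism restricting to an isomorphism over S₀ (so M is another quasi-projective étale
extension of N|S₀, and φ is its canonical map to the Néron model), then φ is an open immersion.
(Case of schemes of the published statement.) -/
theorem result {k : Type u} [Field k] [CharZero k] {S : Scheme.{u}} (σ : S ⟶ Spec (CommRingCat.of k)) [IsNoetherian S] (hS : Pi1.IsNormalScheme S) (S₀ : S.Opens) (hS₀ : CInt.IsSchematicallyDense S₀)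
    (N : Over S) [Smooth N.hom] [IsSeparated N.hom] [QuasiCompact N.hom]
    (hN : ∀ Z : Over S, Smooth Z.hom → Function.Bijective (fun g : Z ⟶ N => (Over.pullback S₀.ι).map g))
    [Etale ((Over.pullback S₀.ι).obj N).hom]
    (M : Over S) [Etale M.hom] [IsSeparated M.hom] [QuasiCompact M.hom]
    (φ : M ⟶ N) [IsIso ((Over.pullback S₀.ι).map φ)] :
    IsOpenImmersion φ.left := by
  have hd := Groth.Agent.H26.EtaleExtend.dense_of_isSchematicallyDense hS₀
  let E := (Over.pullback S₀.ι).map φ
  have sq : IsPullback (pullback.fst M.hom S₀.ι) E.left φ.left (pullback.fst N.hom S₀.ι) := by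
    have h1 : E.left ≫ pullback.fst N.hom S₀.ι = pullback.fst M.hom S₀.ι ≫ φ.left :=
      pullback.lift_fst _ _ _
    have h2 : E.left ≫ pullback.snd N.hom S₀.ι = pullback.snd M.hom S₀.ι :=
      pullback.lift_snd _ _ _
    refine IsPullback.of_bot ?_ h1.symm (IsPullback.of_hasPullback N.hom S₀.ι)
    rw [h2, Over.w]
    exact IsPullback.of_hasPullback M.hom S₀.ι
  haveI : IsIso E.left := ((Over.forget _).mapIso (asIso E)).isIso_hom
  haveI : Mono (φ.left ∣_ (N.hom ⁻¹ᵁ S₀)) := by
    let e := pullbackRestrictIsoRestrict N.hom S₀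
    let sq2 : IsPullback (pullback.fst M.hom S₀.ι) (E.left ≫ e.hom) φ.left (N.hom ⁻¹ᵁ S₀).ι :=
      sq.of_iso (Iso.refl _) (Iso.refl _) e (Iso.refl _) (by simp) (by simp) (by simp) (by simp [e])
    let j := sq2.isoIsPullback _ _ (isPullback_morphismRestrict φ.left (N.hom ⁻¹ᵁ S₀)).flip
    have hj : φ.left ∣_ (N.hom ⁻¹ᵁ S₀) = j.inv ≫ E.left ≫ e.hom := by
      rw [← IsPullback.isoIsPullback_inv_snd _ _ sq2 (isPullback_morphismRestrict φ.left (N.hom ⁻¹ᵁ S₀)).flip]
    rw [hj]
    infer_instance
  haveI hsnd : Etale (pullback.snd N.hom S₀.ι) :=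
    inferInstanceAs (Etale ((Over.pullback S₀.ι).obj N).hom)
  haveI : Etale (N.hom ∣_ S₀) := by
    let j := (IsPullback.of_hasPullback N.hom S₀.ι).isoIsPullback _ _ (isPullback_morphismRestrict N.hom S₀).flip
    have hj : N.hom ∣_ S₀ = j.inv ≫ pullback.snd N.hom S₀.ι :=
      (IsPullback.isoIsPullback_inv_snd _ _ (IsPullback.of_hasPullback N.hom S₀.ι) (isPullback_morphismRestrict N.hom S₀).flip).symm
    rw [hj]
    infer_instance
  haveI := Groth.Agent.H26.EtaleExtend.etale_of_smooth N.hom S₀ hd
  haveI : Etale (φ.left ≫ N.hom) := by rw [Over.w]; infer_instance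
  haveI : IsSeparated (φ.left ≫ N.hom) := by rw [Over.w]; infer_instance
  haveI : IsSeparated φ.left := IsSeparated.of_comp φ.left N.hom
  exact Groth.Agent.H26.EtaleExtend.isOpenImmersion_of_etale S₀ φ.left N.hom hd

end Groth.Agent.S13428
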