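import Groth.Statements.S13432
import Groth.Agent.H26.NormalSection
import Groth.Agent.Lib.SchDense.Factor


set_option autoImplicit false
set_option maxHeartbeats 1000000
set_option linter.all false
universe u
open CategoryTheory AlgebraicGeometry CategoryTheory.Limits
open NeronHD

namespace Groth.Agent.S13432

/-- Let S be a normal Noetherian scheme over a field of characteristic 0 and S₀ ⊆ S a
scheme-theoretically dense open. Let π : T → S be finite with T normal, and let N ⊆ T be the open
subscheme where π is smooth (equivalently étale, π being finite). Then N → S has the Néron mapping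
property for S₀ ⊆ S: for every smooth S-scheme Z, restriction to S₀ is a bijection from S-morphisms
Z → N onto S₀-morphisms Z|S₀ → N|S₀. (In the published statement T is the normal finite S-scheme
compactifying a given quasi-projective étale S-scheme and N is the maximal quasi-projective étale
scheme containing it; that origin of T plays no role in this part of the proof, so any finite T → S
with T normal is allowed here. Case of schemes, with smooth test schemes, of a statement about
algebraic spaces.) -/
theorem result {k : Type u} [Field k] [CharZero k] {S : Scheme.{u}} (σ : S ⟶ Spec (CommRingCat.of k)) [IsNoetherian S] (hS : Pi1.IsNormalScheme S) (S₀ : S.Opens) (hS₀ : CInt.IsSchematicallyDense S₀)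
    {T : Scheme.{u}} (π : T ⟶ S) [IsFinite π] [LocallyOfFinitePresentation π] (hT : Pi1.IsNormalScheme T) :
    ∀ Z : Over S, Smooth Z.hom → Function.Bijective (fun g : Z ⟶ Over.mk (π.smoothLocus.ι ≫ π) => (Over.pullback S₀.ι).map g) := by
  intro Z hZ
  haveI := hZ
  rw [Groth.Agent.Lib.SchDense.Factor.bijective_pullback_map_iff]
  refine ⟨fun f₁ f₂ h => ?_, fun k hk => ?_⟩
  · haveI : IsSeparated (Over.mk (π.smoothLocus.ι ≫ π)).hom :=
      inferInstanceAs (IsSeparated (π.smoothLocus.ι ≫ π))
    ext1
    exact Groth.Agent.Lib.SchDense.Basic.ext_of_isSchematicallyDense (Over.mk (π.smoothLocus.ι ≫ π)).hom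
      (by rw [Over.w, Over.w]) (Groth.Agent.S3843.result Z.hom S₀ hS₀) h
  · obtain ⟨f, hf, hf'⟩ := Groth.Agent.H26.NormalSection.exists_extension π hS S₀ hS₀ Z.hom
      (k ≫ π.smoothLocus.ι) (by rw [Category.assoc]; exact hk)
    have hr : Set.range f ⊆ Set.range π.smoothLocus.ι := by
      rw [Scheme.Opens.range_ι]
      rintro _ ⟨z, rfl⟩
      exact Groth.Agent.H26.NormalSection.range_subset_smoothLocus π hT hS Z.hom f hf z
    refine ⟨Over.homMk (IsOpenImmersion.lift π.smoothLocus.ι f hr) (by
      show IsOpenImmersion.lift π.smoothLocus.ι f hr ≫ π.smoothLocus.ι ≫ π = Z.hom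
      rw [IsOpenImmersion.lift_fac_assoc, hf]), ?_⟩
    rw [← cancel_mono π.smoothLocus.ι]
    show ((Z.hom ⁻¹ᵁ S₀).ι ≫ IsOpenImmersion.lift π.smoothLocus.ι f hr) ≫ π.smoothLocus.ι = _
    rw [Category.assoc, IsOpenImmersion.lift_fac, hf']

end Groth.Agent.S13432
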