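import Groth.Statements.S13429
import Groth.Agent.S13432
import Groth.Agent.S4997
import Groth.Agent.H26.EtaleNormalization
import Groth.Agent.H26.EtaleExtend
import Groth.Agent.Lib.SchDense.Factor


set_option autoImplicit false
set_option maxHeartbeats 1000000
set_option linter.all false
universe u
open CategoryTheory AlgebraicGeometry
open NeronHD

namespace Groth.Agent.S13429

/-- Let S be a normal Noetherian scheme over a field of characteristic 0, S₀ ⊆ S a scheme-theoretically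
dense open, and N₀ → S₀ separated, quasi-compact and étale (a quasi-projective étale S₀-scheme).
Then N₀ has a quasi-projective Néron model: there exist a separated, quasi-compact, étale S-scheme N
and an isomorphism of S₀-schemes N|S₀ ≅ N₀ such that N has the Néron mapping property for S₀ ⊆ S,
i.e. for every smooth S-scheme Z restriction to S₀ is a bijection from S-morphisms Z → N onto
S₀-morphisms Z|S₀ → N|S₀ (this determines N up to unique isomorphism). (Case of schemes, with smooth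
test schemes, of the published statement.) -/
theorem result {k : Type u} [Field k] [CharZero k] {S : Scheme.{u}} (σ : S ⟶ Spec (CommRingCat.of k)) [IsNoetherian S] (hS : Pi1.IsNormalScheme S) (S₀ : S.Opens) (hS₀ : CInt.IsSchematicallyDense S₀)
    (N₀ : Over (S₀ : Scheme.{u})) [Etale N₀.hom] [IsSeparated N₀.hom] [QuasiCompact N₀.hom] :
    ∃ (N : Over S) (e : (Over.pullback S₀.ι).obj N ≅ N₀), Etale N.hom ∧ IsSeparated N.hom ∧ QuasiCompact N.hom ∧
      ∀ Z : Over S, Smooth Z.hom → Function.Bijective (fun g : Z ⟶ N => (Over.pullback S₀.ι).map g) := by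
  obtain ⟨T, π, j, hπ, hT, hj, hjπ⟩ :=
    Groth.Agent.H26.EtaleNormalization.exists_normal_finite (N₀.hom ≫ S₀.ι) hS
  haveI := hπ
  haveI := hj
  haveI : IsLocallyNoetherian T := LocallyOfFiniteType.isLocallyNoetherian π
  haveI : LocallyOfFinitePresentation π := inferInstance
  -- the bad closed set
  let A : Set T := closure ((π ⁻¹ᵁ S₀ : T.Opens) \ Set.range j)
  let M : T.Opens := π.smoothLocus ⊓ ⟨Aᶜ, isClosed_closure.isOpen_compl⟩
  have hjS₀ : ∀ x, π (j x) ∈ S₀ := fun x => by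
    rw [← Scheme.Hom.comp_apply, hjπ, Scheme.Hom.comp_apply]
    exact (N₀.hom x).2
  have hjA : ∀ x, j x ∉ A := fun x hx => by
    obtain ⟨y, hy, -, hy'⟩ := mem_closure_iff.mp hx (Set.range j) j.isOpenEmbedding.isOpen_range ⟨x, rfl⟩
    exact hy' hy
  have hjsm : ∀ x, j x ∈ π.smoothLocus := fun x => by
    haveI : Smooth (j ≫ π) := by rw [hjπ]; infer_instance
    show x ∈ j ⁻¹ᵁ π.smoothLocus
    rw [Scheme.Hom.preimage_smoothLocus_eq, Scheme.Hom.smoothLocus_eq_top]
    trivial
  have hM : M.ι ''ᵁ ((M.ι ≫ π) ⁻¹ᵁ S₀) = j.opensRange := by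
    ext z
    constructor
    · rintro ⟨m, hm, rfl⟩
      by_contra hz
      exact m.2.2 (subset_closure ⟨hm, hz⟩)
    · rintro ⟨x, rfl⟩
      exact ⟨⟨j x, hjsm x, hjA x⟩, hjS₀ x, rfl⟩
  have hMj : Set.range j ⊆ Set.range M.ι := by
    rw [Scheme.Opens.range_ι]
    rintro _ ⟨x, rfl⟩
    exact ⟨hjsm x, hjA x⟩
  let j' := IsOpenImmersion.lift M.ι j hMj
  have hj' : j' ≫ M.ι = j := IsOpenImmersion.lift_fac _ _ _
  haveI : IsOpenImmersion j' := by
    haveI : IsOpenImmersion (j' ≫ M.ι) := by rw [hj']; infer_instance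
    exact IsOpenImmersion.of_comp j' M.ι
  have hsq : IsPullback j' N₀.hom (M.ι ≫ π) S₀.ι := by
    refine (IsOpenImmersion.isPullback N₀.hom j' S₀.ι (M.ι ≫ π) (by rw [← Category.assoc, hj', hjπ]) ?_).flip
    rw [Scheme.Opens.opensRange_ι]
    have hinj := M.ι.isOpenEmbedding.injective
    ext m
    constructor
    · intro hm
      have : M.ι m ∈ j.opensRange := hM ▸ ⟨m, hm, rfl⟩
      obtain ⟨x, hx⟩ := this
      exact ⟨x, hinj (by rw [← Scheme.Hom.comp_apply, hj', hx])⟩
    · rintro ⟨x, rfl⟩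
      show π (M.ι (j' x)) ∈ S₀
      rw [← Scheme.Hom.comp_apply j' M.ι, hj']
      exact hjS₀ x
  let N : Over S := Over.mk (M.ι ≫ π)
  let e : (Over.pullback S₀.ι).obj N ≅ N₀ := Over.isoMk hsq.isoPullback.symm hsq.isoPullback_inv_snd
  haveI hsmM : Smooth (M.ι ≫ π) := by
    rw [← Scheme.Hom.smoothLocus_eq_top_iff]
    rw [← Scheme.Hom.preimage_smoothLocus_eq]
    exact top_le_iff.mp fun m _ => m.2.1
  haveI : IsNoetherian T := { toCompactSpace := QuasiCompact.compactSpace_of_compactSpace π }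
  haveI : QuasiCompact M.ι := inferInstance
  haveI : Etale (M.ι ≫ π) := by
    haveI : Etale ((M.ι ≫ π) ∣_ S₀) := by
      let i := hsq.isoIsPullback _ _ (isPullback_morphismRestrict (M.ι ≫ π) S₀).flip
      have hi : (M.ι ≫ π) ∣_ S₀ = i.inv ≫ N₀.hom :=
        (IsPullback.isoIsPullback_inv_snd _ _ hsq (isPullback_morphismRestrict (M.ι ≫ π) S₀).flip).symm
      rw [hi]
      infer_instance
    exact Groth.Agent.H26.EtaleExtend.etale_of_smooth _ S₀ (Groth.Agent.H26.EtaleExtend.dense_of_isSchematicallyDense hS₀)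
  refine ⟨N, e, inferInstanceAs (Etale (M.ι ≫ π)), inferInstanceAs (IsSeparated (M.ι ≫ π)),
    inferInstanceAs (QuasiCompact (M.ι ≫ π)), fun Z hZ => ?_⟩
  haveI := hZ
  have hbij := Groth.Agent.S13432.result σ hS S₀ hS₀ π hT Z hZ
  rw [Groth.Agent.Lib.SchDense.Factor.bijective_pullback_map_iff] at hbij ⊢
  let i : (M : Scheme.{u}) ⟶ (π.smoothLocus : Scheme.{u}) := IsOpenImmersion.lift π.smoothLocus.ι M.ι (by
    rw [Scheme.Opens.range_ι, Scheme.Opens.range_ι]; exact fun z hz => hz.1)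
  have hi : i ≫ π.smoothLocus.ι = M.ι := IsOpenImmersion.lift_fac _ _ _
  let ι' : N ⟶ Over.mk (π.smoothLocus.ι ≫ π) := Over.homMk i (by
    show i ≫ π.smoothLocus.ι ≫ π = M.ι ≫ π
    rw [← Category.assoc, hi])
  haveI : Mono ι'.left := by
    haveI : Mono (i ≫ π.smoothLocus.ι) := by rw [hi]; infer_instance
    exact mono_of_mono i π.smoothLocus.ι
  refine ⟨fun f₁ f₂ h => ?_, fun k hk => ?_⟩
  · haveI : Mono ι' := Over.mono_of_mono_left ι'
    rw [← cancel_mono ι']
    refine hbij.1 _ _ ?_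
    rw [Over.comp_left, Over.comp_left, reassoc_of% h]
  · obtain ⟨f, hf⟩ := hbij.2 (k ≫ i) (by
      show (k ≫ i) ≫ π.smoothLocus.ι ≫ π = _
      rw [Category.assoc, ← Category.assoc i, hi]
      exact hk)
    let F : Z.left ⟶ T := f.left ≫ π.smoothLocus.ι
    haveI hFop : UniversallyOpen f.left := by
      haveI : Smooth (π.smoothLocus.ι ≫ π) := by
        rw [← Scheme.Hom.smoothLocus_eq_top_iff]
        rw [← Scheme.Hom.preimage_smoothLocus_eq]
        exact top_le_iff.mp fun m _ => m.2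
      haveI : LocallyQuasiFinite (π.smoothLocus.ι ≫ π) := inferInstance
      haveI : Etale (π.smoothLocus.ι ≫ π) := (Groth.Agent.S4997.result (π.smoothLocus.ι ≫ π)).mpr ⟨inferInstance, inferInstance⟩
      let Γg : Z.left ⟶ Limits.pullback (π.smoothLocus.ι ≫ π) Z.hom :=
        Limits.pullback.lift (f := π.smoothLocus.ι ≫ π) (g := Z.hom) f.left (𝟙 Z.left)
          ((Over.w f).trans (Category.id_comp _).symm)
      haveI : Etale (Γg ≫ Limits.pullback.snd (π.smoothLocus.ι ≫ π) Z.hom) := by rw [Limits.pullback.lift_snd]; infer_instance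
      haveI : Etale Γg := Etale.of_comp Γg (Limits.pullback.snd (π.smoothLocus.ι ≫ π) Z.hom)
      haveI : Smooth (Limits.pullback.fst (π.smoothLocus.ι ≫ π) Z.hom) := inferInstance
      haveI : Smooth (Γg ≫ Limits.pullback.fst (π.smoothLocus.ι ≫ π) Z.hom) := inferInstance
      rw [← Limits.pullback.lift_fst (f := π.smoothLocus.ι ≫ π) (g := Z.hom) f.left (𝟙 Z.left)
        ((Over.w f).trans (Category.id_comp _).symm)]
      infer_instance
    have hFA : Set.range F ⊆ Set.range M.ι := by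
      rw [Scheme.Opens.range_ι]
      rintro _ ⟨z, rfl⟩
      refine ⟨(f.left z).2, fun hA => ?_⟩
      have hFo : IsOpenMap F := by
        rw [Scheme.Hom.comp_base, TopCat.coe_comp]
        exact π.smoothLocus.ι.isOpenEmbedding.isOpenMap.comp f.left.isOpenMap
      obtain ⟨_, ⟨z', rfl⟩, hw, hw'⟩ := mem_closure_iff.mp hA (Set.range F) hFo.isOpen_range ⟨z, rfl⟩
      refine hw' ?_
      have hz' : Z.hom z' ∈ S₀ := by
        have : Z.hom z' = π (F z') := by
          rw [← Scheme.Hom.comp_apply, show F ≫ π = Z.hom from (Category.assoc _ _ _).trans (Over.w f)]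
        rw [this]
        exact hw
      have e1 : F z' = M.ι (k ⟨z', hz'⟩) := by
        have h3 : (Z.hom ⁻¹ᵁ S₀).ι ≫ F = k ≫ M.ι := by
          show (Z.hom ⁻¹ᵁ S₀).ι ≫ f.left ≫ π.smoothLocus.ι = _
          rw [reassoc_of% hf, hi]
        exact congrArg (fun m : ((Z.hom ⁻¹ᵁ S₀ : Z.left.Opens) : Scheme.{u}) ⟶ T => m ⟨z', hz'⟩) h3
      have e2 : M.ι (k ⟨z', hz'⟩) ∈ j.opensRange := by
        rw [← hM]
        refine ⟨_, ?_, rfl⟩
        exact (congrArg (fun m : ((Z.hom ⁻¹ᵁ S₀ : Z.left.Opens) : Scheme.{u}) ⟶ S => m ⟨z', hz'⟩ ∈ S₀) hk).mpr hz'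
      rw [e1]
      exact e2
    refine ⟨Over.homMk (IsOpenImmersion.lift M.ι F hFA) ?_, ?_⟩
    · show IsOpenImmersion.lift M.ι F hFA ≫ M.ι ≫ π = Z.hom
      rw [IsOpenImmersion.lift_fac_assoc]
      exact (Category.assoc _ _ _).trans (Over.w f)
    · rw [← cancel_mono M.ι]
      show ((Z.hom ⁻¹ᵁ S₀).ι ≫ IsOpenImmersion.lift M.ι F hFA) ≫ M.ι = _
      rw [Category.assoc, IsOpenImmersion.lift_fac, reassoc_of% hf, hi]

end Groth.Agent.S13429
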