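import Groth.Statements.S13438
import Groth.Agent.Lib.HilbPar45.Slices

set_option autoImplicit false
universe u
open W4c1hilbpn

namespace Groth.Agent.S13438

open W4c1hilbpn in
/-- Let k be an infinite field, S = k[x,y,z], and T(I) = Hom_S(I, S/I) graded by triples of integers (a
graded piece is indexed by its multidegree; its sign pattern records which of the three entries are
negative); let I be a monomial ideal of finite colength whose minimal monomial generators include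
x^a1 y^a2, x^b1 z^b3 and y^c2 z^c3 with all six exponents positive, and assume a1 ≥ b1 and a2 ≥ c2,
or b1 ≥ a1 and b3 ≥ c3, or c2 ≥ a2 and c3 ≥ b3. Then T(I) has a nonzero graded piece whose sign
pattern is negative at exactly two of the three variables. (The published statement draws the
conclusion that the corresponding point of the Hilbert scheme of points of affine 3-space is
singular; this row records the nonvanishing of a tangent piece of forbidden sign pattern, from which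
singularity follows by the smoothness criterion for monomial points.) -/
theorem result (k : Type u) [Field k] [Infinite k]
    (I : Ideal (MvPolynomial (Fin 3) k)) (hI : IsMonomial I) [Module.Finite k (MvPolynomial (Fin 3) k ⧸ I)]
    (a1 a2 b1 b3 c2 c3 : ℕ) (ha1 : 0 < a1) (ha2 : 0 < a2) (hb1 : 0 < b1) (hb3 : 0 < b3)
    (hc2 : 0 < c2) (hc3 : 0 < c3)
    (hA : e3 a1 a2 0 ∈ exps I ∧ e3 (a1 - 1) a2 0 ∉ exps I ∧ e3 a1 (a2 - 1) 0 ∉ exps I)
    (hB : e3 b1 0 b3 ∈ exps I ∧ e3 (b1 - 1) 0 b3 ∉ exps I ∧ e3 b1 0 (b3 - 1) ∉ exps I)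
    (hC : e3 0 c2 c3 ∈ exps I ∧ e3 0 (c2 - 1) c3 ∉ exps I ∧ e3 0 c2 (c3 - 1) ∉ exps I)
    (hcase : (b1 ≤ a1 ∧ c2 ≤ a2) ∨ (a1 ≤ b1 ∧ c3 ≤ b3) ∨ (a2 ≤ c2 ∧ b3 ≤ c3)) :
    sigPiece I ({0, 1} : Set (Fin 3)) ≠ ⊥ ∨ sigPiece I ({0, 2} : Set (Fin 3)) ≠ ⊥ ∨
      sigPiece I ({1, 2} : Set (Fin 3)) ≠ ⊥ := by
  let e3' : Fin 3 ≃ Fin 3 :=
    ⟨![1, 2, 0], ![2, 0, 1], fun i => by fin_cases i <;> rfl, fun i => by fin_cases i <;> rfl⟩
  have eq1 : ∀ p q c : ℕ, e3 p q c = Groth.Agent.HilbPar45.Column.E (Equiv.refl _) p q c := fun p q c => rfl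
  have eq2 : ∀ p q c : ℕ, e3 p q c = Groth.Agent.HilbPar45.Column.E (Equiv.swap 1 2) p c q := fun p q c =>
    Finsupp.ext fun i => by fin_cases i <;> simp [e3, Groth.Agent.HilbPar45.Column.E, Equiv.swap_apply_def]
  have eq3 : ∀ p q c : ℕ, e3 p q c = Groth.Agent.HilbPar45.Column.E e3' q c p := fun p q c =>
    Finsupp.ext fun i => by fin_cases i <;> simp [e3, e3', Groth.Agent.HilbPar45.Column.E]
  rcases hcase with ⟨h1, h2⟩ | ⟨h1, h2⟩ | ⟨h1, h2⟩
  · simp only [eq1] at hA hB hC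
    left
    exact Groth.Agent.HilbPar45.Socle.sigPiece_corner hI (Equiv.refl _) a1 a2 b1 b3 c2 c3 ha1 ha2 hb1 hc2
      hA ⟨hB.1, hB.2.1⟩ ⟨hC.1, hC.2.1⟩ h1 h2
  · simp only [eq2] at hA hB hC
    right; left
    have := Groth.Agent.HilbPar45.Socle.sigPiece_corner hI (Equiv.swap 1 2) b1 b3 a1 a2 c3 c2 hb1 hb3 ha1 hc3
      hB ⟨hA.1, hA.2.1⟩ ⟨hC.1, hC.2.2⟩ h1 h2
    rwa [Equiv.swap_apply_left, Equiv.swap_apply_of_ne_of_ne (by decide) (by decide)] at this
  · simp only [eq3] at hA hB hC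
    right; right
    exact Groth.Agent.HilbPar45.Socle.sigPiece_corner hI e3' c2 c3 a2 a1 b3 b1 hc2 hc3 ha2 hb3
      hC ⟨hA.1, hA.2.2⟩ ⟨hB.1, hB.2.2⟩ h1 h2

end Groth.Agent.S13438
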