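import Groth.Statements.S1344
import Groth.Agent.Lib.RelDimFormula.Basic
import Groth.Agent.H54.CMAffine
import Groth.Agent.Lib.FibreDim.Chart

set_option autoImplicit false
universe u
open FlatMor

namespace Groth.Agent.S1344

open AlgebraicGeometry CategoryTheory Limits in
/-- Let f be locally of finite type between locally Noetherian schemes and Cohen–Macaulay at every
point. Then for every point x of the source with image y, the local dimension of the source at x
equals the local dimension of the target at y plus the local dimension at x of the fibre over y. -/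
theorem result {X Y : Scheme.{u}} (f : X ⟶ Y) [IsLocallyNoetherian X] [IsLocallyNoetherian Y] [LocallyOfFiniteType f]
    (hf : ∀ x : X, MoreMor.IsCMAt f x) (x : X) :
    FlatMor.localDim ↑X x = FlatMor.localDim ↑Y (f x) + FlatMor.fibreDimAt f x := by
  have : Flat f := (Flat.iff_flat_stalkMap f).2 fun z => (hf z).1
  have : LocallyOfFinitePresentation f := inferInstance
  obtain ⟨d, hd⟩ := Groth.Agent.Lib.FibreDim.Chart.exists_fibreDimAt_eq f x
  have hl := Groth.Agent.H54.CMAffine.isLocallyConstant_fibreDimAt f hf
  rw [hd]
  exact Groth.Agent.Lib.RelDimFormula.Basic.localDim_eq_add f d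
    ⟨{u | FlatMor.fibreDimAt f u = (d : WithBot ℕ∞)}, hl.isOpen_fiber _⟩ (fun u hu => hu) hd

end Groth.Agent.S1344
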