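import Groth.Statements.S13445
import Groth.Agent.Lib.HilbPar45.Tgt

set_option autoImplicit false
universe u
open W4c1hilbpn

namespace Groth.Agent.S13445

open W4c1hilbpn in
/-- Let k be an infinite field, S = k[x,y,z] with irrelevant ideal m, and d, r natural numbers with d ≤
C(r+2, 3). For every ideal I of S of colength d, three times the dimension of Hom_S(I, S/I) is at
most four times the dimension of Hom_S(m^r, S/m^r). -/
theorem result (k : Type u) [Field k] [Infinite k] (d r : ℕ)
    (hdr : d ≤ Nat.choose (r + 2) 3) (I : Ideal (MvPolynomial (Fin 3) k)) [Module.Finite k (MvPolynomial (Fin 3) k ⧸ I)]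
    (hd : Module.finrank k (MvPolynomial (Fin 3) k ⧸ I) = d) :
    3 * Module.finrank k (Tgt I) ≤ 4 * Module.finrank k (Tgt ((Ideal.span (Set.range (MvPolynomial.X : Fin 3 → MvPolynomial (Fin 3) k))) ^ r)) := by
  obtain ⟨f, hfI, hf0, hfdeg⟩ := Groth.Agent.HilbPar45.Tgt.exists_low_degree I r (hd ▸ hdr)
  obtain ⟨v, hv0, hv⟩ := Groth.Agent.HilbPar45.Tgt.exists_vec hf0
  have hle := Groth.Agent.HilbPar45.Tgt.tgt_le I v hv0 f hfI f.totalDegree le_rfl hv
  have hle' : Module.finrank k (Tgt I) ≤ (2 * r + 1) * Nat.choose (r + 2) 3 :=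
    hle.trans (Nat.mul_le_mul (by omega) (hd ▸ hdr))
  have h6 : 6 * Nat.choose (r + 2) 3 = (r + 2) * (r + 1) * r := by
    have := Nat.descFactorial_eq_factorial_mul_choose (r + 2) 3
    simp [Nat.descFactorial, Nat.factorial] at this
    linarith
  have h2 : 2 * Nat.choose (r + 2) 2 = (r + 2) * (r + 1) := by
    have := Nat.descFactorial_eq_factorial_mul_choose (r + 2) 2
    simp [Nat.descFactorial, Nat.factorial] at this
    linarith
  have h1 : 2 * Nat.choose (r + 1) 2 = (r + 1) * r := by
    have := Nat.descFactorial_eq_factorial_mul_choose (r + 1) 2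
    simp [Nat.descFactorial, Nat.factorial] at this
    linarith
  refine le_of_le_of_eq ?_ (congrArg (4 * ·) (Groth.Agent.H15.HilbTgt.Pow.finrank_three (k := k) r 0).2.2.symm)
  nlinarith [congrArg₂ (· * ·) h2 h1, Nat.zero_le (Nat.choose (r + 2) 3)]

end Groth.Agent.S13445
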