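import Groth.Statements.S13446
import Groth.Agent.Lib.HilbPar45.Tgt

set_option autoImplicit false
universe u
open W4c1hilbpn

namespace Groth.Agent.S13446

open W4c1hilbpn in
/-- Let k be an infinite field, S = k[x,y,z] with irrelevant ideal m, and d, r, p natural numbers with d
≤ C(r+2, 3) and 4p ≤ 3r + 1. For every monomial ideal I of S of colength d containing x^p, the
dimension of Hom_S(I, S/I) is at most that of Hom_S(m^r, S/m^r). -/
theorem result (k : Type u) [Field k] [Infinite k] (d r p : ℕ)
    (hdr : d ≤ Nat.choose (r + 2) 3) (hp : 4 * p ≤ 3 * r + 1) (I : Ideal (MvPolynomial (Fin 3) k)) (hI : IsMonomial I)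
    [Module.Finite k (MvPolynomial (Fin 3) k ⧸ I)] (hd : Module.finrank k (MvPolynomial (Fin 3) k ⧸ I) = d)
    (hx : (MvPolynomial.X 0 : MvPolynomial (Fin 3) k) ^ p ∈ I) :
    Module.finrank k (Tgt I) ≤ Module.finrank k (Tgt ((Ideal.span (Set.range (MvPolynomial.X : Fin 3 → MvPolynomial (Fin 3) k))) ^ r)) := by
  have hle := Groth.Agent.HilbPar45.Tgt.tgt_le I (fun i => if i = 0 then 1 else 0) (by simp)
    ((MvPolynomial.X 0 : MvPolynomial (Fin 3) k) ^ p) hx p (by simp) (by
      rw [MvPolynomial.homogeneousComponent_of_mem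
        (show (MvPolynomial.X 0 : MvPolynomial (Fin 3) k) ^ p ∈ MvPolynomial.homogeneousSubmodule (Fin 3) k p by
          simpa using (MvPolynomial.isHomogeneous_X k (0 : Fin 3)).pow p), if_pos rfl]
      simp)
  have hle' : Module.finrank k (Tgt I) ≤ (2 * p + 1) * Nat.choose (r + 2) 3 :=
    hle.trans (Nat.mul_le_mul le_rfl (hd ▸ hdr))
  have h6 : 6 * Nat.choose (r + 2) 3 = (r + 2) * (r + 1) * r := by
    have := Nat.descFactorial_eq_factorial_mul_choose (r + 2) 3
    simp [Nat.descFactorial, Nat.factorial] at this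
    linarith
  have h2 : 2 * Nat.choose (r + 2) 2 = (r + 2) * (r + 1) := by
    have := Nat.descFactorial_eq_factorial_mul_choose (r + 2) 2
    simp [Nat.descFactorial, Nat.factorial] at this
    linarith
  have h1 : 2 * Nat.choose (r + 1) 2 = (r + 1) * r := by
    have := Nat.descFactorial_eq_factorial_mul_choose (r + 1) 2
    simp [Nat.descFactorial, Nat.factorial] at this
    linarith
  refine le_of_le_of_eq ?_ (Groth.Agent.H15.HilbTgt.Pow.finrank_three (k := k) r 0).2.2.symm
  nlinarith [congrArg₂ (· * ·) h2 h1, Nat.zero_le (Nat.choose (r + 2) 3)]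

end Groth.Agent.S13446
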