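import Groth.Statements.S13451
import Groth.Agent.Lib.HilbHom62.TwoPlanes

set_option autoImplicit false
universe u
open W4c1hilbpn

namespace Groth.Agent.S13451

open W4c1hilbpn in
/-- Let k be an algebraically closed field of characteristic different from 2, S = k[x_0, ..., x_n] with
its standard grading, 2 ≤ c ≤ d with n ≥ c + d, and I = (x_0, ..., x_{c-1})·(x_{n-d+1}, ..., x_n),
the ideal of the union of two coordinate linear spaces of codimensions c and d meeting transversely
and not spanning the ambient space. Then the degree-0 homomorphisms Hom_S(I, S/I)_0 form a space of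
dimension c(n-c+1) + d(n-d+1). (The published statement gives this number as the dimension of the
tangent space to the Hilbert scheme at the pair of planes, for every n; the row records the count of
degree-0 homomorphisms in the non-spanning range n ≥ c + d, where that tangent space is Hom_S(I,
S/I)_0.) -/
theorem result (k : Type u) [Field k] [IsAlgClosed k] (hchar : ringChar k ≠ 2)
    (n c d : ℕ) (hc : 2 ≤ c) (hcd : c ≤ d) (hn : c + d ≤ n) :
    Module.finrank k ↥(⨆ α : {α : Fin (n + 1) → ℤ // ∑ i, α i = 0},
      tPiece (Ideal.span {f : MvPolynomial (Fin (n + 1)) k | ∃ i j : Fin (n + 1), i.val + 1 ≤ c ∧ n + 1 ≤ j.val + d ∧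
        f = MvPolynomial.X i * MvPolynomial.X j}) α.1) = c * (n - c + 1) + d * (n - d + 1) := by
  let A : Fin (n + 1) → Prop := fun x => x.val + 1 ≤ c
  let B : Fin (n + 1) → Prop := fun x => n + 1 ≤ x.val + d
  let _ : DecidablePred A := fun x => Nat.decLe _ _
  let _ : DecidablePred B := fun x => Nat.decLe _ _
  have hI : Ideal.span {f : MvPolynomial (Fin (n + 1)) k | ∃ i j : Fin (n + 1), i.val + 1 ≤ c ∧ n + 1 ≤ j.val + d ∧
        f = MvPolynomial.X i * MvPolynomial.X j} = Lib.HilbHom62.idl k (Lib.HilbHom62.TwoPlanes.g A B) := by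
    rw [Lib.HilbHom62.idl, ← Set.range_comp]
    congr 1
    ext f
    have hXX : ∀ i j : Fin (n + 1), (MvPolynomial.X i * MvPolynomial.X j : MvPolynomial (Fin (n + 1)) k) =
        MvPolynomial.monomial (Finsupp.single i 1 + Finsupp.single j 1) 1 := fun i j => by
      simp [MvPolynomial.X, MvPolynomial.monomial_mul]
    constructor
    · rintro ⟨i, j, hi, hj, rfl⟩
      exact ⟨(⟨i, hi⟩, ⟨j, hj⟩), (hXX i j).symm⟩
    · rintro ⟨⟨⟨i, hi⟩, ⟨j, hj⟩⟩, rfl⟩
      exact ⟨i, j, hi, hj, (hXX i j).symm⟩
  rw [hI]
  have hAB : ∀ x, A x → ¬ B x := fun x h1 h2 => by simp only [A, B] at h1 h2; omega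
  refine (Lib.HilbHom62.TwoPlanes.finrank k hAB ⟨⟨0, by omega⟩, by simp only [A]; omega⟩
    ⟨⟨1, by omega⟩, by simp only [A]; omega⟩ (by simp) ⟨⟨n, by omega⟩, by simp only [B]; omega⟩
    ⟨⟨n - 1, by omega⟩, by simp only [B]; omega⟩ (by simp; omega)).trans ?_
  have hA : Fintype.card {a // A a} = c := by
    rw [← Fintype.card_fin c]
    exact Fintype.card_congr ⟨fun x => ⟨x.1.val, by have := x.2; simp only [A] at this; omega⟩,
      fun y => ⟨⟨y.val, by omega⟩, by simp only [A]; omega⟩, fun x => rfl, fun y => rfl⟩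
  have hB : Fintype.card {b // B b} = d := by
    rw [← Fintype.card_fin d]
    exact Fintype.card_congr ⟨fun x => ⟨x.1.val + d - (n + 1), by have := x.2; simp only [B] at this; omega⟩,
      fun y => ⟨⟨y.val + (n + 1) - d, by omega⟩, by simp only [B]; omega⟩,
      fun x => Subtype.ext (Fin.ext (by have := x.2; simp only [B] at this; simp only; omega)),
      fun y => Fin.ext (by simp only; omega)⟩
  rw [Fintype.card_sum, Fintype.card_prod, Fintype.card_prod, Fintype.card_subtype_compl,
    Fintype.card_subtype_compl, hA, hB, Fintype.card_fin, show n + 1 - c = n - c + 1 by omega,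
    show n + 1 - d = n - d + 1 by omega]

end Groth.Agent.S13451
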