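import Groth.Statements.S13455
import Mathlib.RingTheory.MvPolynomial.Ideal

set_option autoImplicit false
universe u
open W4c1hilbpn

namespace Groth.Agent.S13455

/-- Let k be an algebraically closed field of characteristic different from 2, k0 ≥ 1 and n ≥ 2k0 - 1
natural numbers, S = k[x_0, ..., x_n], and e1 ≤ e2 ≤ k0 - 1. The ideal generated by all products x_p
x_q with e1 ≤ p, q ≤ e2 together with the products x_p x_{n-k0+1+q} for e1 ≤ p < q ≤ e2 is the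
intersection, over j from e1 to e2, of the ideals generated by the variables x_i with e1 ≤ i ≤ e2
and i ≠ j, the square x_j^2, and the variables x_{n-k0+1+q} for j < q ≤ e2 (a primary decomposition
of this monomial ideal). -/
theorem result (k : Type u) [Field k] [IsAlgClosed k] (hchar : ringChar k ≠ 2)
    (n k0 e1 e2 : ℕ) (hk : 1 ≤ k0) (hn : 2 * k0 ≤ n + 1) (he : e1 ≤ e2) (he2 : e2 + 1 ≤ k0) :
    Ideal.span ({f : MvPolynomial (Fin (n + 1)) k | ∃ p q : Fin (n + 1), e1 ≤ p.val ∧ p.val ≤ e2 ∧ e1 ≤ q.val ∧ q.val ≤ e2 ∧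
        f = MvPolynomial.X p * MvPolynomial.X q} ∪
      {f : MvPolynomial (Fin (n + 1)) k | ∃ p q m : Fin (n + 1), e1 ≤ p.val ∧ p.val < q.val ∧ q.val ≤ e2 ∧
        m.val + k0 = n + 1 + q.val ∧ f = MvPolynomial.X p * MvPolynomial.X m}) =
    ⨅ j : Fin (n + 1), ⨅ (_ : e1 ≤ j.val ∧ j.val ≤ e2),
      Ideal.span ({f : MvPolynomial (Fin (n + 1)) k | ∃ i : Fin (n + 1), e1 ≤ i.val ∧ i.val ≤ e2 ∧ i ≠ j ∧ f = MvPolynomial.X i} ∪
        {MvPolynomial.X j ^ 2} ∪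
        {f : MvPolynomial (Fin (n + 1)) k | ∃ q m : Fin (n + 1), j.val < q.val ∧ q.val ≤ e2 ∧ m.val + k0 = n + 1 + q.val ∧
          f = MvPolynomial.X m}) := by
  classical
  let P (γ : Fin (n + 1) →₀ ℕ) : Prop :=
    (∃ p q : Fin (n + 1), e1 ≤ p.val ∧ p.val ≤ e2 ∧ e1 ≤ q.val ∧ q.val ≤ e2 ∧ Finsupp.single p 1 + Finsupp.single q 1 ≤ γ) ∨
    ∃ p q m : Fin (n + 1), e1 ≤ p.val ∧ p.val < q.val ∧ q.val ≤ e2 ∧ m.val + k0 = n + 1 + q.val ∧
      Finsupp.single p 1 + Finsupp.single m 1 ≤ γ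
  let Q (j : Fin (n + 1)) (γ : Fin (n + 1) →₀ ℕ) : Prop :=
    (∃ i : Fin (n + 1), e1 ≤ i.val ∧ i.val ≤ e2 ∧ i ≠ j ∧ Finsupp.single i 1 ≤ γ) ∨
    Finsupp.single j 2 ≤ γ ∨
    ∃ q m : Fin (n + 1), j.val < q.val ∧ q.val ≤ e2 ∧ m.val + k0 = n + 1 + q.val ∧ Finsupp.single m 1 ≤ γ
  have key : ∀ γ, P γ ↔ ∀ j : Fin (n + 1), (e1 ≤ j.val ∧ j.val ≤ e2) → Q j γ := by
    intro γ
    constructor
    · rintro (⟨p, q, hp1, hp2, hq1, hq2, h⟩ | ⟨p, q, m, hp1, hpq, hq2, hm, h⟩) j ⟨hj1, hj2⟩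
      · rcases ne_or_eq p j with hpj | rfl
        · exact Or.inl ⟨p, hp1, hp2, hpj, le_trans le_self_add h⟩
        rcases ne_or_eq q p with hqp | rfl
        · exact Or.inl ⟨q, hq1, hq2, hqp, le_trans le_add_self h⟩
        exact Or.inr (Or.inl (by rwa [← Finsupp.single_add] at h))
      · rcases ne_or_eq p j with hpj | rfl
        · exact Or.inl ⟨p, hp1, le_trans hpq.le hq2, hpj, le_trans le_self_add h⟩
        · exact Or.inr (Or.inr ⟨q, m, hpq, hq2, hm, le_trans le_add_self h⟩)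
    · intro h
      have h2 := h ⟨e2, by omega⟩ ⟨he, le_rfl⟩
      rcases h2 with ⟨i, hi1, hi2, -, hi⟩ | hsq | ⟨q, m, hq, hq2, -, -⟩
      · rcases h i ⟨hi1, hi2⟩ with ⟨l, hl1, hl2, hli, hl⟩ | hsq | ⟨q, m, hq, hq2, hm, hmγ⟩
        · refine Or.inl ⟨i, l, hi1, hi2, hl1, hl2, fun x => ?_⟩
          rw [Finsupp.single_le_iff] at hi hl
          rw [Finsupp.add_apply, Finsupp.single_apply, Finsupp.single_apply]
          split_ifs with ha hb hb
          · exact absurd (hb.trans ha.symm) hli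
          · subst ha; simpa using hi
          · subst hb; simpa using hl
          · exact Nat.zero_le _
        · exact Or.inl ⟨i, i, hi1, hi2, hi1, hi2, by rwa [← Finsupp.single_add]⟩
        · refine Or.inr ⟨i, q, m, hi1, hq, hq2, hm, fun x => ?_⟩
          rw [Finsupp.single_le_iff] at hi hmγ
          rw [Finsupp.add_apply, Finsupp.single_apply, Finsupp.single_apply]
          split_ifs with ha hb hb
          · have hv := congrArg Fin.val (hb.trans ha.symm)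
            omega
          · subst ha; simpa using hi
          · subst hb; simpa using hmγ
          · exact Nat.zero_le _
      · exact Or.inl ⟨⟨e2, by omega⟩, ⟨e2, by omega⟩, he, le_rfl, he, le_rfl, by rwa [← Finsupp.single_add]⟩
      · simp only at hq; omega
  have hXX : ∀ p q : Fin (n + 1), (MvPolynomial.X p * MvPolynomial.X q : MvPolynomial (Fin (n + 1)) k) =
      MvPolynomial.monomial (Finsupp.single p 1 + Finsupp.single q 1) 1 := fun p q => by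
    simp [MvPolynomial.X, MvPolynomial.monomial_mul]
  have e1' : ({f : MvPolynomial (Fin (n + 1)) k | ∃ p q : Fin (n + 1), e1 ≤ p.val ∧ p.val ≤ e2 ∧ e1 ≤ q.val ∧ q.val ≤ e2 ∧
        f = MvPolynomial.X p * MvPolynomial.X q} ∪
      {f : MvPolynomial (Fin (n + 1)) k | ∃ p q m : Fin (n + 1), e1 ≤ p.val ∧ p.val < q.val ∧ q.val ≤ e2 ∧
        m.val + k0 = n + 1 + q.val ∧ f = MvPolynomial.X p * MvPolynomial.X m}) =
      (fun s => MvPolynomial.monomial s (1 : k)) '' ({s | ∃ p q : Fin (n + 1), e1 ≤ p.val ∧ p.val ≤ e2 ∧ e1 ≤ q.val ∧ q.val ≤ e2 ∧ Finsupp.single p 1 + Finsupp.single q 1 = s} ∪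
        {s | ∃ p q m : Fin (n + 1), e1 ≤ p.val ∧ p.val < q.val ∧ q.val ≤ e2 ∧ m.val + k0 = n + 1 + q.val ∧ Finsupp.single p 1 + Finsupp.single m 1 = s}) := by
    ext f
    simp only [Set.mem_union, Set.mem_ofPred_eq, Set.mem_image, hXX]
    constructor
    · rintro (⟨p, q, a, b, c, d, rfl⟩ | ⟨p, q, m, a, b, c, d, rfl⟩)
      · exact ⟨_, Or.inl ⟨p, q, a, b, c, d, rfl⟩, rfl⟩
      · exact ⟨_, Or.inr ⟨p, q, m, a, b, c, d, rfl⟩, rfl⟩
    · rintro ⟨s, ⟨p, q, a, b, c, d, rfl⟩ | ⟨p, q, m, a, b, c, d, rfl⟩, rfl⟩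
      · exact Or.inl ⟨p, q, a, b, c, d, rfl⟩
      · exact Or.inr ⟨p, q, m, a, b, c, d, rfl⟩
  have e2' : ∀ j : Fin (n + 1), ({f : MvPolynomial (Fin (n + 1)) k | ∃ i : Fin (n + 1), e1 ≤ i.val ∧ i.val ≤ e2 ∧ i ≠ j ∧ f = MvPolynomial.X i} ∪
        {MvPolynomial.X j ^ 2} ∪
        {f : MvPolynomial (Fin (n + 1)) k | ∃ q m : Fin (n + 1), j.val < q.val ∧ q.val ≤ e2 ∧ m.val + k0 = n + 1 + q.val ∧
          f = MvPolynomial.X m}) =
      (fun s => MvPolynomial.monomial s (1 : k)) '' ({s | ∃ i : Fin (n + 1), e1 ≤ i.val ∧ i.val ≤ e2 ∧ i ≠ j ∧ Finsupp.single i 1 = s} ∪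
        {Finsupp.single j 2} ∪ {s | ∃ q m : Fin (n + 1), j.val < q.val ∧ q.val ≤ e2 ∧ m.val + k0 = n + 1 + q.val ∧ Finsupp.single m 1 = s}) := by
    intro j
    rw [MvPolynomial.X_pow_eq_monomial, Set.image_union, Set.image_union, Set.image_singleton]
    congr 1
    · congr 1
      ext f
      constructor
      · rintro ⟨i, a, b, c, rfl⟩
        exact ⟨_, ⟨i, a, b, c, rfl⟩, rfl⟩
      · rintro ⟨s, ⟨i, a, b, c, rfl⟩, rfl⟩
        exact ⟨i, a, b, c, rfl⟩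
    · ext f
      constructor
      · rintro ⟨q, m, a, b, c, rfl⟩
        exact ⟨_, ⟨q, m, a, b, c, rfl⟩, rfl⟩
      · rintro ⟨s, ⟨q, m, a, b, c, rfl⟩, rfl⟩
        exact ⟨q, m, a, b, c, rfl⟩
  ext x
  rw [e1']
  simp only [Submodule.mem_iInf, e2', MvPolynomial.mem_ideal_span_monomial_image]
  constructor
  · intro hx j hj γ hγ
    obtain ⟨s, hs, hle⟩ := hx γ hγ
    have hP : P γ := by
      rcases hs with ⟨p, q, a, b, c, d, rfl⟩ | ⟨p, q, m, a, b, c, d, rfl⟩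
      · exact Or.inl ⟨p, q, a, b, c, d, hle⟩
      · exact Or.inr ⟨p, q, m, a, b, c, d, hle⟩
    rcases (key γ).mp hP j hj with ⟨i, a, b, c, h⟩ | h | ⟨q, m, a, b, c, h⟩
    · exact ⟨_, Or.inl (Or.inl ⟨i, a, b, c, rfl⟩), h⟩
    · exact ⟨_, Or.inl (Or.inr rfl), h⟩
    · exact ⟨_, Or.inr ⟨q, m, a, b, c, rfl⟩, h⟩
  · intro hx γ hγ
    have hP : P γ := (key γ).mpr fun j hj => by
      obtain ⟨s, ((⟨i, a, b, c, rfl⟩ | hsj) | ⟨q, m, a, b, c, rfl⟩), hle⟩ := hx j hj γ hγ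
      · exact Or.inl ⟨i, a, b, c, hle⟩
      · rw [Set.mem_singleton_iff] at hsj; subst hsj
        exact Or.inr (Or.inl hle)
      · exact Or.inr (Or.inr ⟨q, m, a, b, c, hle⟩)
    rcases hP with ⟨p, q, a, b, c, d, h⟩ | ⟨p, q, m, a, b, c, d, h⟩
    · exact ⟨_, Or.inl ⟨p, q, a, b, c, d, rfl⟩, h⟩
    · exact ⟨_, Or.inr ⟨p, q, m, a, b, c, d, rfl⟩, h⟩

end Groth.Agent.S13455
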