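import Groth.Statements.S13459
import Groth.Agent.Lib.SurfInt.PushIso
import Groth.Agent.Lib.SurfInt.NegDef
import Groth.Agent.Lib.Snapper.Finite
import Groth.Agent.Lib.TensorMod.TensorInv

set_option autoImplicit false
universe u
open CategoryTheory CategoryTheory.Limits AlgebraicGeometry
open Surf

namespace Groth.Agent.S13459

/-- Let k be a field and S an integral surface (dimension two) which is smooth over k and projective (a
closed immersion into some P^n_k over k). Let i : C → S be the closed immersion of an integral curve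
(dimension one) all of whose local rings are regular, with ideal sheaf I ⊆ O_S, and let L be an
invertible O_S-module with an inverse L' (L ⊗ L' ≅ O_S). Then the intersection number of O_S(C) with
L, namely the alternating sum χ(O_S) − χ(I) − χ(L') + χ(I ⊗ L') formed with the inverses I = O_S(−C)
and L' (packaged as FGA.intNum), equals the degree of the restriction of L to C, the degree of a
module M on C being χ(M) − χ(O_C). -/
theorem result (k : Type u) [Field k] (S : Scheme.{u}) [S.Over (Spec (CommRingCat.of k))]
    [IsIntegral S] (hdim : topologicalKrullDim S = 2) [Smooth (S ↘ (Spec (CommRingCat.of k)))]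
    (hproj : ∃ (n : ℕ) (ι : S ⟶ CohB1.ProjSpace n k), IsClosedImmersion ι ∧ ι ≫ CohB1.ProjSpace.toSpec n k = (S ↘ (Spec (CommRingCat.of k))))
    (C : Scheme.{u}) (i : C ⟶ S) [IsClosedImmersion i] [IsIntegral C] (hC : topologicalKrullDim C = 1)
    (hCreg : ∀ c : C, IsRegularLocalRing (C.presheaf.stalk c))
    (L L' : S.Modules) (hL : PicF.IsInvertible L) (hLL' : Nonempty (CohB1.tensorMod L L' ≅ Coh.structureModule S)) :
    letI : C.Over (Spec (CommRingCat.of k)) := ⟨i ≫ (S ↘ (Spec (CommRingCat.of k)))⟩
    FGA.intNum k S 2 ![ClSub.idealMod i.ker, L'] (Coh.structureModule S) =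
      Curv2.deg k C ((Scheme.Modules.pullback i).obj L) 1 := by
  letI : C.Over (Spec (CommRingCat.of k)) := ⟨i ≫ (S ↘ (Spec (CommRingCat.of k)))⟩
  obtain ⟨n, ι, hc, hι⟩ := hproj
  haveI := hc
  haveI : IsProper (S ↘ Spec (CommRingCat.of k)) := by rw [← hι]; infer_instance
  haveI := Lib.Curves.GlobalSections.isNoetherian_of_proper k S
  have hfin := Lib.Snapper.Finite.cohFinite k S
  obtain ⟨e⟩ := hLL'
  have hL' : PicF.IsInvertible L' :=
    Lib.TensorMod.TensorInv.isInvertible_of_tensor_iso (Lib.TensorMod.Basic.comm L' L ≪≫ e)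
  haveI : IsIso i.toImage := inferInstance
  haveI : IsIntegral i.image :=
    haveI : Nonempty i.image := ⟨i.toImage (Classical.arbitrary C)⟩
    isIntegral_of_isOpenImmersion (CategoryTheory.inv i.toImage)
  haveI : IsIntegral i.ker.subscheme := ‹IsIntegral i.image›
  have hsupp : topologicalKrullDim (i.ker.support : Set S) = 1 := by
    rw [← Lib.SurfInt.Surface.dim_subscheme, ← hC]
    exact (IsHomeomorph.topologicalKrullDim_eq _
      (Scheme.homeoOfIso (asIso i.toImage)).isHomeomorph).symm
  have hI := Lib.SurfInt.Effective.isInvertible_idealMod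
    (Lib.SurfInt.Curve.isEffCartier (S ↘ Spec (CommRingCat.of k)) hdim
      (Lib.SurfInt.NegDef.regular_of_smooth (k := k)) i.ker hsupp)
  letI : i.image.Over (Spec (CommRingCat.of k)) := Lib.SurfInt.Surface.overSub (k := k) i.ker
  rw [Lib.Snapper.IntNum.intNum_pair_comm,
    Lib.Snapper.IntNum.intNum_pair_inverse hfin hdim.le hL hL' e hI
      (Lib.Snapper.Twist.isCoh_structureModule S),
    Lib.Snapper.IntNum.intNum_pair_comm,
    Lib.SurfInt.Surface.intNum_ideal_eq_neg_deg hfin (d := 2) hdim.le hI hL, neg_neg,
    ← Lib.SurfInt.PushIso.deg_pullback i.toImage (k := k)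
      (show i.toImage ≫ i.imageι ≫ (S ↘ Spec (CommRingCat.of k)) = _ by rw [i.toImage_imageι_assoc]; rfl)
      (PicLoc.isInvertible_pullback i.imageι hL)]
  have he := Lib.Curves.Euler.euler_eq_of_iso (k := k) ((Scheme.Modules.pullbackComp i.toImage i.imageι).app L ≪≫
    (Scheme.Modules.pullbackCongr i.toImage_imageι).app L)
  simp only [Curv2.deg]
  exact congrArg (fun e : ℤ => e - ((1 : ℕ) : ℤ) * Curv2.euler k C (Coh.structureModule C)) he

end Groth.Agent.S13459
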