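import Groth.Statements.S13461
import Groth.Agent.S1612
import Groth.Agent.Lib.CurveFF.Consts
import Groth.Agent.Lib.CurveBundle.SmoothField
import Groth.Agent.Lib.Curves.Clifford
import Groth.Agent.Lib.Curves.GlobalSections
import Groth.Agent.Lib.ProjCoh.Homog
import Groth.Agent.Lib.TensorMod.Pullback

set_option autoImplicit false
universe u
open CategoryTheory CategoryTheory.Limits AlgebraicGeometry TopologicalSpace
open Curves

namespace Groth.Agent.S13461

open Groth.Agent.Lib Groth.Agent.Lib.Curves Opposite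

theorem ten_le_finrank (k : Type u) [Field k] :
    10 ≤ Module.finrank k (Coh.HH (CohB1.ProjSpace 3 k) (Twist.twistProjSpace 3 k 2) 0) := by
  obtain ⟨e₁⟩ := ProjCoh.Homog.nonempty_HH_zero_equiv 3 2 k
  obtain ⟨e₂⟩ := ProjCoh.Homog.nonempty_homog_equiv 3 2 k
  let P : Fin 10 → Fin 4 → ℕ := ![![2,0,0,0], ![0,2,0,0], ![0,0,2,0], ![0,0,0,2], ![1,1,0,0], ![1,0,1,0],
    ![1,0,0,1], ![0,1,1,0], ![0,1,0,1], ![0,0,1,1]]
  have hP : ∀ t, ∑ j, P t j = 2 := by decide
  let f : Fin 10 → ProjCoh.Homog.Expn 3 2 := fun t =>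
    ⟨Finsupp.equivFunOnFinite.symm (P t), by
      rw [Finsupp.degree_eq_sum]
      exact hP t⟩
  have hinj : ∀ a b, P a = P b → a = b := by decide
  have hf : Function.Injective f := fun a b h =>
    hinj a b (Finsupp.equivFunOnFinite.symm.injective (congrArg Subtype.val h))
  haveI := Fintype.ofFinite (ProjCoh.Homog.Expn 3 2)
  have hh := Euler.hdim_eq_of_iso (k := k) (ProjCoh.Coherent.twIso (n := 3) (R := k) ((2 : ℕ) : ℤ)) 0
  have h10 : 10 ≤ Euler.hdim k (CohB1.ProjSpace 3 k) (ProjCoh.Coherent.tw 3 k ((2 : ℕ) : ℤ)) 0 := by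
    rw [hh, Euler.hdim, e₁.finrank_eq, ← e₂.finrank_eq, Module.finrank_fintype_fun_eq_card]
    exact (Fintype.card_fin 10).symm.le.trans (Fintype.card_le_of_injective f hf)
  exact h10

/-- Pullback of global sections as a linear map. -/
theorem exists_ker_pullSect (k : Type u) [Field k] {P X : Scheme.{u}} [P.Over (Spec (CommRingCat.of k))]
    [X.Over (Spec (CommRingCat.of k))] (i : X ⟶ P)
    (hi : i ≫ (P ↘ Spec (CommRingCat.of k)) = X ↘ Spec (CommRingCat.of k)) (M : P.Modules)
    (hfin : FiniteDimensional k (Coh.HH X ((Scheme.Modules.pullback i).obj M) 0))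
    (hlt : Module.finrank k (Coh.HH X ((Scheme.Modules.pullback i).obj M) 0) < Module.finrank k (Coh.HH P M 0)) :
    ∃ Q : Γ(M, ⊤), Q ≠ 0 ∧ OmegaSh.pullSect i M ⊤ Q = 0 := by
  by_contra hc
  push Not at hc
  let N := (Scheme.Modules.pullback i).obj M
  letI m₁ : Module k (M.val.obj (op ⊤)) := GlobalSections.secModule k M
  letI m₂ : Module k (N.val.obj (op ⊤)) := GlobalSections.secModule k N
  let g : (M.val.obj (op ⊤) : Type u) →ₗ[k] (N.val.obj (op ⊤) : Type u) :=
    { toFun := fun t => OmegaSh.pullSect i M ⊤ t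
      map_add' := fun a b => map_add (OmegaSh.pullSect i M ⊤).hom a b
      map_smul' := fun c t => by
        refine (Scheme.Modules.Hom.app_smul ((Scheme.Modules.pullbackPushforwardAdjunction i).unit.app M)
          (Coh.toGlobal (P ↘ Spec (CommRingCat.of k)) c) (show Γ(M, ⊤) from t)).trans ?_
        refine congrArg (fun (r : Coh.Γtop X) => r •
          (show (N.val.obj (op ⊤) : Type u) from OmegaSh.pullSect i M ⊤ t)) ?_
        show i.app ⊤ (Coh.toGlobal (P ↘ Spec (CommRingCat.of k)) c) = Coh.toGlobal (X ↘ Spec (CommRingCat.of k)) c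
        rw [← hi]
        rfl }
  have hg : Function.Injective g := (injective_iff_map_eq_zero g).2 fun t ht => by
    by_contra h
    exact hc t h ht
  haveI : FiniteDimensional k (N.val.obj (op ⊤)) :=
    (GlobalSections.h0Linear k N).finiteDimensional
  have h1 := LinearMap.finrank_le_finrank_of_injective hg
  have h2 : Module.finrank k (Coh.HH P M 0) = Module.finrank k (M.val.obj (op ⊤)) :=
    (GlobalSections.h0Linear k M).finrank_eq
  have h3 : Module.finrank k (Coh.HH X N 0) = Module.finrank k (N.val.obj (op ⊤)) :=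
    (GlobalSections.h0Linear k N).finrank_eq
  change Module.finrank k (Coh.HH X N 0) < _ at hlt
  omega

/-- Let k be a field and X a smooth proper geometrically connected curve over k (proper, smooth and
geometrically connected over k, of dimension one) of genus dim_k H^1(X, O_X) = 4, and let i : X →
P^3_k be a closed immersion over k whose pullback of O(1) is isomorphic to the sheaf of
differentials Ω_{X/k} (X is canonically embedded, hence not hyperelliptic). Then X lies on a quadric
surface: there is a nonzero global section Q of O_{P^3_k}(2) whose pullback along i is the zero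
section of i^*O(2). (The published statement goes on to assert that X is the complete intersection
of such a quadric with a cubic surface; this row states only the existence of the quadric.) -/
theorem result (k : Type u) [Field k] (X : Scheme.{u}) [X.Over (Spec (CommRingCat.of k))]
    [IsProper (X ↘ (Spec (CommRingCat.of k)))] [Smooth (X ↘ (Spec (CommRingCat.of k)))] [GeometricallyConnected (X ↘ (Spec (CommRingCat.of k)))]
    (hdim : topologicalKrullDim X = 1) (hg : Curv2.genus k X = 4)
    (i : X ⟶ CohB1.ProjSpace 3 k) [IsClosedImmersion i] (hi : i ≫ CohB1.ProjSpace.toSpec 3 k = X ↘ (Spec (CommRingCat.of k)))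
    (hcan : Nonempty ((Scheme.Modules.pullback i).obj (Twist.twistProjSpace 3 k 1) ≅ Omega.sheaf (X ↘ (Spec (CommRingCat.of k))))) :
    ∃ Q : Γ(Twist.twistProjSpace 3 k 2, ⊤), Q ≠ 0 ∧
      OmegaSh.pullSect i (Twist.twistProjSpace 3 k 2) ⊤ Q = 0 := by
  have : Nonempty (Spec (CommRingCat.of k)) := inferInstanceAs (Nonempty (PrimeSpectrum k))
  have : Subsingleton (Spec (CommRingCat.of k)) := inferInstanceAs (Subsingleton (PrimeSpectrum k))
  have : ConnectedSpace X := GeometricallyConnected.connectedSpace_of_subsingleton (X ↘ Spec (CommRingCat.of k))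
  haveI : IsIntegral X := CurveBundle.SmoothField.isIntegral k hdim.le
  have h0 := CurveFF.finrank_h0_eq_one k X
  obtain ⟨e⟩ := hcan
  have hΩ := (Groth.Agent.S1612.result k X ⟨inferInstance, inferInstance, inferInstance, hdim⟩ h0).2
  rw [← Euler.deg_eq_of_iso e 1, hg] at hΩ
  have hinv₁ : PicF.IsInvertible ((Scheme.Modules.pullback i).obj (Twist.twistProjSpace 3 k 1)) :=
    PicLoc.isInvertible_pullback i (ProjCoh.Coherent.isInvertible_tw 1)
  have hinv₂ : PicF.IsInvertible ((Scheme.Modules.pullback i).obj (Twist.twistProjSpace 3 k 2)) :=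
    PicLoc.isInvertible_pullback i (ProjCoh.Coherent.isInvertible_tw 2)
  let e₂ : (Scheme.Modules.pullback i).obj (Twist.twistProjSpace 3 k 2) ≅
      CohB1.tensorMod ((Scheme.Modules.pullback i).obj (Twist.twistProjSpace 3 k 1))
        ((Scheme.Modules.pullback i).obj (Twist.twistProjSpace 3 k 1)) :=
    (Scheme.Modules.pullback i).mapIso (ProjCoh.Coherent.twTensor (n := 3) (R := k) 1 1).symm ≪≫
      TensorMod.Pullback.pullbackTensorIso i _ _
  have hd : Curv2.deg k X ((Scheme.Modules.pullback i).obj (Twist.twistProjSpace 3 k 2)) 1 = 12 := by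
    rw [Euler.deg_eq_of_iso e₂ 1, Degree.deg_tensor hdim.le hinv₁ hinv₁, hΩ]
    norm_num
  have h9 := Clifford.hdim_zero_eq_of_deg k hdim.le h0 hinv₂ (by rw [hd, hg]; norm_num)
  rw [hd, hg] at h9
  refine exists_ker_pullSect k i hi _ (Degree.isGood (k := k) hdim.le hinv₂).fin₀
    (lt_of_lt_of_le ?_ (ten_le_finrank k))
  simp only [Euler.hdim] at h9
  omega

end Groth.Agent.S13461
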