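import Groth.Statements.S13469
import Groth.Agent.Lib.CharExt76.Sch
import Groth.Agent.Lib.PtsFull86.Basic
import Groth.Agent.Lib.CharExt76.FG
import Mathlib.GroupTheory.FiniteAbelian.Basic

set_option autoImplicit false
universe u
open GmDual

namespace Groth.Agent.S13469

open CategoryTheory AlgebraicGeometry MonObj in
/-- Let k be a field and i : H → G a homomorphism of affine commutative k-group schemes of finite type
which is a closed immersion. Then the restriction map Ĝ(k) → Ĥ(k) on characters defined over k
(morphisms of abelian sheaves on the big fppf site of Spec k from the sheaf of points to the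
multiplicative group, restricted along i) has finite cokernel: its image is a subgroup of finite
index. -/
theorem result (k : Type u) [Field k]
    (H G : Over (Spec (CommRingCat.of k))) [GrpObj H] [IsCommMonObj H] [GrpObj G] [IsCommMonObj G]
    [IsAffine H.left] [LocallyOfFiniteType H.hom] [IsAffine G.left] [LocallyOfFiniteType G.hom]
    (i : H ⟶ G) [IsMonHom i] [IsClosedImmersion i.left] :
    (Preadditive.leftComp (CGrpSh2.Gm Scheme.fppfPrecoverage (Spec (CommRingCat.of k)))
      (CGrpSh.ptsMap Scheme.fppfPrecoverage i)).range.FiniteIndex := by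
  open Groth.Agent.Lib in
  let K := Scheme.fppfPrecoverage.{u}
  let M := CGrpSh.pts K H ⟶ CGrpSh2.Gm K (Spec (CommRingCat.of k))
  let Ev : M →+ Additive (H ⟶ Red.Gm (Spec (CommRingCat.of k))) :=
    { toFun := fun α => Additive.ofMul (PtsFull86.ofPts (G := H) (H := Red.Gm (Spec (CommRingCat.of k))) K α)
      map_zero' := rfl
      map_add' := fun α β => rfl }
  have hEv : Function.Injective Ev := fun α β h => by
    rw [PtsFull86.eq_ptsMap K α, PtsFull86.eq_ptsMap K β]
    have h' : PtsFull86.ofPts K α = PtsFull86.ofPts K β := Additive.ofMul.injective h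
    refine Sheaf.hom_ext (NatTrans.ext (funext fun T => AddCommGrpCat.ext fun x => ULift.ext _ _ ?_))
    exact congrArg Additive.ofMul (congrArg (fun φ => x.down.toMul ≫ φ) h')
  -- finite generation
  haveI hfg : AddGroup.FG M := by
    obtain ⟨B, _, _, e, he⟩ := H1.Hopf.exists_iso H
    haveI := he
    haveI : Algebra.FiniteType k B := H1.Hopf.finiteType_of_locallyOfFiniteType (by
      rw [← Over.w e.inv]
      haveI : IsIso e.inv.left := inferInstanceAs (IsIso ((Over.forget _).map e.inv))
      exact (MorphismProperty.cancel_left_of_respectsIso (P := @LocallyOfFiniteType) _ _).2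
        ‹LocallyOfFiniteType H.hom›)
    haveI := CharExt76.fg_groupLike k B
    have hgl : ∀ α : M, ∃ b : GroupLike k B,
        Red.gmFn (e.inv ≫ PtsFull86.ofPts K α) = CharExt76.fn k B b.1 := fun α => by
      haveI := PtsFull86.isMonHom_ofPts K α
      obtain ⟨b, hb, hvb⟩ := CharExt76.exists_groupLike_of_char (e.inv ≫ PtsFull86.ofPts K α)
      exact ⟨⟨b, hb⟩, by
        have h := hvb (𝟙 _)
        rwa [Category.id_comp, CharExt76.algHomOf_id] at h⟩
    choose f hf using hgl
    let F : M →+ Additive (GroupLike k B) := AddMonoidHom.mk' (fun α => Additive.ofMul (f α)) fun α β => by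
      refine congrArg Additive.ofMul (GroupLike.ext (R := k) ((CharExt76.fn_bijective (k := k) B).1 ?_) :
        f (α + β) = f α * f β)
      change _ = CharExt76.fn k B ((f α).1 * (f β).1)
      rw [map_mul, ← hf, ← hf, ← hf, ← Groth.Agent.Lib.RedPts.Gm.gmFn_mul, ← MonObj.comp_mul]
      rfl
    have hF : Function.Injective F := fun α β h => hEv (congrArg Additive.ofMul (by
      rw [← cancel_epi e.inv]
      refine Groth.Agent.Lib.RedPts.Gm.gmFn_injective ?_
      rw [hf, hf, show f α = f β from Additive.ofMul.injective h]))
    haveI : Module.Finite ℤ (Additive (GroupLike k B)) := Module.Finite.iff_addGroup_fg.2 inferInstance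
    haveI : IsNoetherian ℤ (Additive (GroupLike k B)) := isNoetherian_of_isNoetherianRing_of_finite ℤ _
    exact Module.Finite.iff_addGroup_fg.1 (Module.Finite.of_injective F.toIntLinearMap hF)
  -- torsion cokernel
  let R := (Preadditive.leftComp (CGrpSh2.Gm K (Spec (CommRingCat.of k))) (CGrpSh.ptsMap K i)).range
  have htor : IsAddTorsion (M ⧸ R) := by
    intro z
    induction z using QuotientAddGroup.induction_on with
    | H α =>
      haveI := PtsFull86.isMonHom_ofPts K α
      obtain ⟨χ, n, hχ, hn, -, hiχ⟩ := CharExt76.exists_extend i (PtsFull86.ofPts K α)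
      haveI := hχ
      refine isOfFinAddOrder_iff_nsmul_eq_zero.2 ⟨n, hn, ?_⟩
      rw [← QuotientAddGroup.mk_nsmul, QuotientAddGroup.eq_zero_iff]
      refine ⟨CGrpSh.ptsMap K χ, hEv ?_⟩
      rw [map_nsmul]
      refine Eq.trans ?_ (congrArg Additive.ofMul hiχ)
      exact congrArg Additive.ofMul (congrArg (· ≫ χ) (Category.id_comp i))
  haveI : AddGroup.FG (M ⧸ R) := AddGroup.fg_of_surjective (f := QuotientAddGroup.mk' R) (QuotientAddGroup.mk'_surjective R)
  haveI : Finite (M ⧸ R) := AddCommGroup.finite_of_fg_isAddTorsion _ htor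
  exact AddSubgroup.finiteIndex_of_finite_quotient

end Groth.Agent.S13469
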