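import Groth.Statements.S13474
import Groth.Agent.Lib.GaGmExt.Tower
import Groth.Agent.Lib.GaGmExt.Dual

set_option autoImplicit false
universe u
open GaDual

namespace Groth.Agent.S13474

open CategoryTheory AlgebraicGeometry MonObj CategoryTheory.Limits in
/-- Let k be a field and U a split commutative unipotent k-group, given with a finite filtration by
commutative k-group schemes U₀, …, Uₙ = U with U₀ the trivial sheaf and each Uⱼ → Uⱼ₊₁ → G_a short
exact as abelian sheaves on the big fppf site of Spec k. Then the first fppf cohomology group H^1(k,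
Û) of the dual sheaf of U (internal Hom into the multiplicative group) vanishes. -/
theorem result (k : Type u) [Field k]
    (n : ℕ) (U : Fin (n + 1) → Over (Spec (CommRingCat.of k))) [∀ j, GrpObj (U j)] [∀ j, IsCommMonObj (U j)]
    (incl : ∀ j : Fin n, U j.castSucc ⟶ U j.succ) (proj : ∀ j : Fin n, U j.succ ⟶ Red.Ga (Spec (CommRingCat.of k)))
    [∀ j, IsMonHom (incl j)] [∀ j, IsMonHom (proj j)] (w : ∀ j, incl j ≫ proj j = 1)
    (hex : ∀ j, (CGrpSh.seq Scheme.fppfPrecoverage (incl j) (proj j) (w j)).ShortExact)
    (h0 : IsZero (CGrpSh.pts Scheme.fppfPrecoverage (U 0))) :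
    Subsingleton (BigSite.H Scheme.fppfPrecoverage (Spec (CommRingCat.of k))
      (CGrpSh2.dualSh Scheme.fppfPrecoverage (CGrpSh.pts Scheme.fppfPrecoverage (U (Fin.last n)))) 1) := by
  open Groth.Agent.Lib.GaGmExt in
  have key : ∀ j : Fin (n + 1), AffLift.AffLift (CGrpSh.pts Scheme.fppfPrecoverage (U j)) ∧
      Tower.IsAff (U j) := by
    intro j
    induction j using Fin.induction with
    | zero => exact ⟨AffLift.affLift_of_isZero h0, Tower.isAff_of_isZero h0⟩
    | succ j ih =>
      exact ⟨AffLift.affLift_ext (hex j) ih.1 AffLift.affLift_Ga,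
        Tower.isAff_of_shortExact (incl j) (proj j) (w j) (hex j) ih.1 ih.2⟩
  open Groth.Agent.Lib.GaGmExt in
  exact Dual.subsingleton_H1 (U (Fin.last n))
    (fun hS e => Sect.surjective_of_pic hS e (U (Fin.last n))
      fun L hL => Tower.pic_of_isAff (key (Fin.last n)).2 L hL)
    (fun w => Tower.const_of_isAff ((key (Fin.last n)).2.tensor (key (Fin.last n)).2) w)

end Groth.Agent.S13474
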