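import Groth.Statements.S13485
import Groth.Agent.Lib.DerComp.RHomAway
-- import your own Groth.Agent.* helpers here

set_option autoImplicit false
universe u
open CategoryTheory CategoryTheory.Limits Opposite
attribute [local instance] HasDerivedCategory.standard
open DerComp

namespace Groth.Agent.S13485

/-- On a ringed site (C, O), for a global section f of O and K in D(O) admitting its countable
self-product, RHom_O(O_f, K) = 0 if and only if T(K, f) = 0, i.e. every derived limit of the tower
on K with transition maps multiplication by f vanishes. (Condition (2) of the published statement,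
vanishing of RHom_O(L, K) for all L over O_f, is not stated.) -/
theorem result {C : Type u} [SmallCategory C] {J : GrothendieckTopology C} (O : Sheaf J CommRingCat.{u}) (s : DerComp.GSec O) [ModSite.HasLTensorCx ((CochainComplex.singleFunctor (ModSite.Mod O) 0).obj (DerComp.locAway s (ModSite.unit O)))] [DerComp.HasRHom ((CochainComplex.singleFunctor (ModSite.Mod O) 0).obj (DerComp.locAway s (ModSite.unit O)))] (K : DerivedCategory (ModSite.Mod O)) [HasProduct fun _ : ℕ => K] : IsZero ((DerComp.RHom ((CochainComplex.singleFunctor (ModSite.Mod O) 0).obj (DerComp.locAway s (ModSite.unit O)))).obj K) ↔ ∀ L : DerivedCategory (ModSite.Mod O), DerComp.IsT s K L → IsZero L := by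
  have hT := Groth.Agent.Lib.DerComp.RHomAway.isT_rhom s K
  refine ⟨fun h0 L hL => ?_, fun h => h _ hT⟩
  obtain ⟨a, c, htri⟩ := hT
  obtain ⟨a', c', htri'⟩ := hL
  have : IsIso (Pi.lift fun n : ℕ => Pi.π (fun _ : ℕ => K) n -
      Pi.π (fun _ : ℕ => K) (n + 1) ≫ (s • 𝟙 K)) :=
    (Pretriangulated.Triangle.isZero₁_iff_isIso₂ _ htri).1 h0
  exact (Pretriangulated.Triangle.isZero₁_iff_isIso₂ _ htri').2 this

end Groth.Agent.S13485
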