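import Groth.Statements.S13487
import Groth.Agent.Lib.DerComp.Local
-- import your own Groth.Agent.* helpers here

set_option autoImplicit false
universe u
open CategoryTheory CategoryTheory.Limits Opposite
attribute [local instance] HasDerivedCategory.standard
open DerComp

namespace Groth.Agent.S13487

open Groth.Agent.Lib.DerComp

/-- On a ringed site (C, O), for K in D(O) the rule sending an object U to the set of sections f of O
over U with T(K|_U, f) = 0 is a sheaf of ideals of O. Here the vanishing of T(K|_U, f) is expressed
as the vanishing of all morphisms from the extension by zero of O_{V, f|_V} to K[n], for every arrow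
V -> U and every integer n. -/
theorem result {C : Type u} [SmallCategory C] {J : GrothendieckTopology C} (O : Sheaf J CommRingCat.{u}) (K : DerivedCategory (ModSite.Mod O)) : ∃ I : DerComp.IdealSh O, ∀ (U : C) (f : O.obj.obj (op U)), f ∈ I.ideal U ↔ ∀ (V : C) (g : V ⟶ U) (n : ℤ), Subsingleton (SiteCmp.inD O ((ModSite.extZero O V).obj (DerComp.awayOver O V ((O.obj.map g.op).hom f))) ⟶ K⟦n⟧) := by
  refine ⟨
    { ideal := fun U =>
        { carrier := {f | ∀ (V : C) (g : V ⟶ U), Crit.Good O K V ((O.obj.map g.op).hom f)}
          add_mem' := fun {a b} ha hb V g => by
            rw [map_add]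
            exact Crit.good_add V (ha V g) (hb V g)
          zero_mem' := fun V g => by
            rw [map_zero]
            exact Crit.good_zero V
          smul_mem' := fun a f hf V g => by
            rw [smul_eq_mul, map_mul]
            exact Crit.good_mul V _ (hf V g) }
      map_mem := fun {U V} g f hf W g' => by
        rw [← CommRingCat.comp_apply, ← Functor.map_comp, ← op_comp]
        exact hf W (g' ≫ g)
      glue := fun {U f} S hS h V g => Local.good_of_cover hS (fun W k hk => by
        simpa using h k hk W (𝟙 W)) g }, fun U f => ?_⟩
  exact forall₂_congr fun V g => (Crit.van_iff_good O K V _).symm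

end Groth.Agent.S13487
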