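import Groth.Statements.S13489
import Groth.Agent.Lib.DerComp.Push
-- import your own Groth.Agent.* helpers here

set_option autoImplicit false
universe u
open CategoryTheory CategoryTheory.Limits Opposite
attribute [local instance] HasDerivedCategory.standard
open DerComp

namespace Groth.Agent.S13489

/-- Let phi : O -> O' be a homomorphism of sheaves of rings on a site, I a sheaf of ideals of O and I' =
I O' the sheaf of ideals of O' generated by its image. Then K' in D(O') is derived complete with
respect to I O' if and only if its image under the restriction functor D(O') -> D(O) is derived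
complete with respect to I. The restriction functor is the one induced on derived categories by
restriction of scalars, whose exactness is taken as instance hypotheses. -/
theorem result {C : Type u} [SmallCategory C] {J : GrothendieckTopology C} {O O' : Sheaf J CommRingCat.{u}} (φ : O ⟶ O') (I : DerComp.IdealSh O) (I' : DerComp.IdealSh O') (hI' : DerComp.IsIdealExt φ I I') [PreservesFiniteLimits (SheafOfModules.restrictScalars.{u} ((sheafCompose J (forget₂ CommRingCat.{u} RingCat.{u})).map φ))] [PreservesFiniteColimits (SheafOfModules.restrictScalars.{u} ((sheafCompose J (forget₂ CommRingCat.{u} RingCat.{u})).map φ))] (K' : DerivedCategory (ModSite.Mod O')) : DerComp.IsDerComp O' I' K' ↔ DerComp.IsDerComp O I ((SheafOfModules.restrictScalars.{u} ((sheafCompose J (forget₂ CommRingCat.{u} RingCat.{u})).map φ)).mapDerivedCategory.obj K') := by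
  let f : ModSite.RMor O' O :=
    { fn := 𝟭 C
      exact := (ModSite.RMor.id O).exact
      sharp := φ }
  let RS := SheafOfModules.restrictScalars.{u} ((sheafCompose J (forget₂ CommRingCat.{u} RingCat.{u})).map φ)
  let e : f.push ≅ RS := NatIso.ofComponents (fun M => Iso.refl _) (fun g => by cat_disch)
  haveI : (DerivedCategory.Qh (C := ModSite.Mod O')).IsLeftAdjoint := inferInstance
  haveI : SiteCmp.HasRpushD f :=
    Groth.Agent.Lib.DerivedOX.RightDerived.hasRightDerivedFunctor (SiteCmp.pushKh f)
  haveI hε : ∀ d, IsIso ((Groth.Agent.Lib.DerivedOX.RightDerived.resAdj (ModSite.Mod O')).counit.app d) :=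
    fun d => Groth.Agent.Lib.DerCat.HProd.isIso_counit d
  let eG : (SiteCmp.RpushD f).obj K' ≅ RS.mapDerivedCategory.obj K' :=
    ((Groth.Agent.Lib.DerivedOX.RightDerived.totalRightDerivedIso (SiteCmp.pushKh f)).app K').symm ≪≫
      DerivedCategory.Qh.mapIso ((HomotopyCategory.quotient _ (ComplexShape.up ℤ)).mapIso
        ((NatIso.mapHomologicalComplex e (ComplexShape.up ℤ)).app _)) ≪≫
      (RS.mapDerivedCategoryFactorsh.app _).symm ≪≫
      RS.mapDerivedCategory.mapIso
        (asIso ((Groth.Agent.Lib.DerivedOX.RightDerived.resAdj (ModSite.Mod O')).counit.app K'))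
  constructor
  · intro h U a ha
    exact (Groth.Agent.Lib.DerComp.Crit.van_iff_good O _ U a).2
      (Groth.Agent.Lib.DerComp.Push.good_of_iso eG
        ((Groth.Agent.Lib.DerComp.Push.good_push f U K' a).2
          ((Groth.Agent.Lib.DerComp.Crit.van_iff_good O' K' _ _).1 (h U _ (hI'.1 U a ha)))))
  · intro h
    let Iv : DerComp.IdealSh O' :=
      { ideal := fun U =>
          { carrier := {a | ∀ (V : C) (g : V ⟶ U), Groth.Agent.Lib.DerComp.Crit.Good O' K' V ((O'.obj.map g.op).hom a)}
            add_mem' := fun {a b} ha hb V g => by
              rw [map_add]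
              exact Groth.Agent.Lib.DerComp.Crit.good_add V (ha V g) (hb V g)
            zero_mem' := fun V g => by
              rw [map_zero]
              exact Groth.Agent.Lib.DerComp.Crit.good_zero V
            smul_mem' := fun a b hb V g => by
              rw [smul_eq_mul, map_mul]
              exact Groth.Agent.Lib.DerComp.Crit.good_mul V _ (hb V g) }
        map_mem := fun {U V} g b hb W g' => by
          rw [← CommRingCat.comp_apply, ← Functor.map_comp, ← op_comp]
          exact hb W (g' ≫ g)
        glue := fun {U b} S hS hb V g => Groth.Agent.Lib.DerComp.Local.good_of_cover hS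
          (fun W k hk => by simpa using hb k hk W (𝟙 W)) g }
    have hle : I' ≤ Iv := hI'.2 Iv fun U a ha V g => by
      have hnat : (O'.obj.map g.op).hom ((φ.hom.app (op U)).hom a) =
          (φ.hom.app (op V)).hom ((O.obj.map g.op).hom a) :=
        (congrArg (fun q => q.hom a) (φ.hom.naturality g.op)).symm
      rw [hnat]
      exact (Groth.Agent.Lib.DerComp.Push.good_push f V K' _).1
        (Groth.Agent.Lib.DerComp.Push.good_of_iso eG.symm
          ((Groth.Agent.Lib.DerComp.Crit.van_iff_good O _ V _).1 (h V _ (I.map_mem g ha))))
    intro U a ha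
    exact (Groth.Agent.Lib.DerComp.Crit.van_iff_good O' K' U a).2 (by simpa using hle U ha U (𝟙 U))

end Groth.Agent.S13489
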