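import Groth.Statements.S13490
import Groth.Agent.Lib.DerComp.KosPush

set_option autoImplicit false
universe u
open CategoryTheory CategoryTheory.Limits Opposite
attribute [local instance] HasDerivedCategory.standard
open DerComp
open Pretriangulated

namespace Groth.Agent.S13490

open Groth.Agent.Lib Groth.Agent.Lib.DerComp in
/-- The cone of a completion has no maps to complete objects. -/
theorem orth_cone {C : Type u} [SmallCategory C] {J : GrothendieckTopology C} {O : Sheaf J CommRingCat.{u}}
    (I : _root_.DerComp.IdealSh O) [_root_.DerComp.HasDerCompletion O I] (M : DerivedCategory (ModSite.Mod O))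
    {Cn : DerivedCategory (ModSite.Mod O)}
    {m₂ : ((_root_.DerComp.derCompletion O I).obj M).obj ⟶ Cn} {m₃ : Cn ⟶ M⟦(1 : ℤ)⟧}
    (hT : Triangle.mk (_root_.DerComp.toDerCompletion I M) m₂ m₃ ∈ distinguishedTriangles)
    (E : DerivedCategory (ModSite.Mod O)) (hE : _root_.DerComp.IsDerComp O I E) :
    Subsingleton (Cn ⟶ E) := by
  let u₀ := _root_.DerComp.toDerCompletion I M
  let adjC := _root_.DerComp.derCompletionAdj O I
  have := (TriVan.subsingleton_iff_bijective hT E).2 (fun n => by
    let E' : _root_.DerComp.DComp O I := ⟨E⟦n⟧, NilpTest.isDerComp_shift hE n⟩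
    have e : (fun y : ((_root_.DerComp.derCompletion O I).obj M).obj ⟶ E⟦n⟧ => u₀ ≫ y) =
        fun y => adjC.homEquiv M E' (ObjectProperty.homMk y) := funext fun y => by
      rw [Adjunction.homEquiv_unit]
      rfl
    change Function.Bijective (fun y : ((_root_.DerComp.derCompletion O I).obj M).obj ⟶ E⟦n⟧ => u₀ ≫ y)
    rw [e]
    exact (adjC.homEquiv M E').bijective.comp ⟨fun a b h => congrArg (fun z => z.hom) h, fun y => ⟨y.hom, rfl⟩⟩) 0
  exact ⟨fun a b => (cancel_mono ((shiftFunctorZero (DerivedCategory (ModSite.Mod O)) ℤ).inv.app E)).1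
    (this.elim _ _)⟩

open Groth.Agent.Lib Groth.Agent.Lib.DerComp in
/-- Vanishing of test maps passes to third objects. -/
theorem test_obj₃ {C : Type u} [SmallCategory C] {J : GrothendieckTopology C} {O : Sheaf J CommRingCat.{u}}
    (U : C) {T : Triangle (DerivedCategory (ModSite.Mod O))} (hT : T ∈ distinguishedTriangles)
    (Y : DerivedCategory (ModSite.Mod (O.over U)))
    (h₁ : ∀ n : ℤ, Subsingleton (Y ⟶ (Local.R U).obj (T.obj₁⟦n⟧)))
    (h₂ : ∀ n : ℤ, Subsingleton (Y ⟶ (Local.R U).obj (T.obj₂⟦n⟧))) (n : ℤ) :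
    Subsingleton (Y ⟶ (Local.R U).obj (T.obj₃⟦n⟧)) := by
  let T' := (Local.R U).mapTriangle.obj ((Triangle.shiftFunctor _ n).obj T)
  have hT' : T' ∈ distinguishedTriangles :=
    (Local.R U).map_distinguished _ (Triangle.shift_distinguished _ hT n)
  refine subsingleton_of_forall_eq 0 fun x => ?_
  let i : T'.obj₁⟦(1 : ℤ)⟧ ≅ (Local.R U).obj (T.obj₁⟦n + 1⟧) :=
    ((Local.R U).commShiftIso (1 : ℤ)).symm.app (T.obj₁⟦n⟧) ≪≫
      (Local.R U).mapIso ((shiftFunctorAdd _ n 1).symm.app T.obj₁)
  obtain ⟨c, hc⟩ : ∃ c : Y ⟶ T'.obj₂, x = c ≫ T'.mor₂ :=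
    T'.coyoneda_exact₃ hT' x ((cancel_mono i.hom).1 ((h₁ (n + 1)).elim _ _))
  exact hc.trans ((congrArg (· ≫ _) ((h₂ n).elim c 0)).trans zero_comp)

/-- Let f be a morphism of ringed sites from (C, O_C) to (D, O_D), let I be a finite type sheaf of
ideals of O_D and let I' be the sheaf of ideals of O_C generated by the image of I under the ring
map of f. Then Rf_* commutes with derived completion: for K in D(O_C) the canonical map from the
I-completion of Rf_*K to Rf_* of the I'-completion of K, obtained from the universal property of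
derived completion and the fact (taken as a hypothesis) that the target is derived complete, is an
isomorphism. (The published statement is for a morphism of ringed topoi; this row takes a morphism
of ringed sites.) -/
theorem result {C D : Type u} [SmallCategory C] [SmallCategory D] {J : GrothendieckTopology C} {K : GrothendieckTopology D} {O_C : Sheaf J CommRingCat.{u}} {O_D : Sheaf K CommRingCat.{u}} (f : ModSite.RMor O_C O_D) [SiteCmp.HasRpushD f] (I : DerComp.IdealSh O_D) (hI : I.IsFiniteType) (I' : DerComp.IdealSh O_C) (hI' : DerComp.RIsIdealExt f I I') [DerComp.HasDerCompletion O_D I] [DerComp.HasDerCompletion O_C I'] (M : DerivedCategory (ModSite.Mod O_C)) (h : DerComp.IsDerComp O_D I ((SiteCmp.RpushD f).obj ((DerComp.derCompletion O_C I').obj M).obj)) : IsIso (((DerComp.derCompletionAdj O_D I).homEquiv ((SiteCmp.RpushD f).obj M) ⟨(SiteCmp.RpushD f).obj ((DerComp.derCompletion O_C I').obj M).obj, h⟩).symm ((SiteCmp.RpushD f).map (DerComp.toDerCompletion I' M))) := by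
  haveI : (DerivedCategory.Qh (C := ModSite.Mod O_C)).IsLeftAdjoint := inferInstance
  obtain ⟨_, _⟩ := Groth.Agent.Lib.DerComp.Push.exists_isTriangulated f.push
    (Groth.Agent.Lib.DerivedOX.RightDerived.totalRightDerivedIso (SiteCmp.pushKh f))
  let c := DerComp.toDerCompletion I' M
  let G := SiteCmp.RpushD f
  let adjC := DerComp.derCompletionAdj O_D I
  let L : DerComp.DComp O_D I := ⟨G.obj ((DerComp.derCompletion O_C I').obj M).obj, h⟩
  let v := (adjC.homEquiv (G.obj M) L).symm (G.map c)
  have hv : DerComp.toDerCompletion I (G.obj M) ≫ v.hom = G.map c := by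
    have := (adjC.homEquiv (G.obj M) L).apply_symm_apply (G.map c)
    rw [Adjunction.homEquiv_unit] at this
    exact this
  suffices IsIso v.hom by
    haveI : IsIso ((ObjectProperty.ι (DerComp.IsDerComp O_D I)).map v) := this
    exact isIso_of_reflects_iso v (ObjectProperty.ι (DerComp.IsDerComp O_D I))
  obtain ⟨Z₁₂, a₁, b₁, h₁₂⟩ := distinguished_cocone_triangle (DerComp.toDerCompletion I (G.obj M))
  obtain ⟨Z₂₃, a₂, b₂, h₂₃⟩ := distinguished_cocone_triangle v.hom
  obtain ⟨Cn, a₃, b₃, hTc⟩ := distinguished_cocone_triangle c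
  have h₁₃ := G.map_distinguished _ hTc
  let o := Triangulated.someOctahedron hv h₁₂ h₂₃ h₁₃
  refine (Triangle.isZero₃_iff_isIso₁ _ h₂₃).1 ?_
  refine Groth.Agent.Lib.DerComp.KosTest.isZero_of_test
    (Groth.Agent.Lib.DerComp.NilpTest.isDerComp_obj₃ h₂₃ ((DerComp.derCompletion O_D I).obj _).property h)
    hI fun U r a hgen => ?_
  have hSL := Groth.Agent.Lib.DerComp.SpanLocal.sl_of_isGenBy hgen
  refine test_obj₃ U o.mem _ (fun n => ?_) (fun n => ?_)
  · exact Groth.Agent.Lib.DerComp.SiteOrth.subsingleton_test hSL (orth_cone I _ h₁₂) n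
  · have hd := Groth.Agent.Lib.DerComp.KosPush.subsingleton_test_push f a (Cn⟦n⟧)
      (Groth.Agent.Lib.DerComp.SiteOrth.subsingleton_test
        (Groth.Agent.Lib.DerComp.SpanLocal.sl_ext f hI' hSL) (orth_cone I' _ hTc) n)
    let e := (Groth.Agent.Lib.DerComp.Local.R U).mapIso ((G.commShiftIso n).app Cn)
    exact ⟨fun p q => (cancel_mono e.inv).1 (hd.elim _ _)⟩

end Groth.Agent.S13490
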