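import Groth.Statements.S13495
import Groth.Agent.Lib.DerComp.AffineAdic
import Groth.Agent.Lib.DerComp.AffineOpen
import Groth.Agent.Lib.RefHull.LocFree
import Groth.Agent.Lib.CohDelta.CohQuot.Serre
import Groth.Agent.S13490

set_option autoImplicit false
universe u
open CategoryTheory CategoryTheory.Limits Opposite TopologicalSpace AlgebraicGeometry
attribute [local instance] HasDerivedCategory.standard
open DerComp
open Pretriangulated

namespace Groth.Agent.S13495

open Groth.Agent.Lib Groth.Agent.Lib.DerComp in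
/-- Let X be a locally Noetherian scheme, I a quasi-coherent sheaf of ideals of O_X and F a coherent
O_X-module; then H^p(U, F^) = 0 for all p ≠ 0 and all affine opens U of X, with F^ denoting the
derived I-completion of F. Quasi-coherence of I is stated as: on every affine open U and every basic
open D(g) inside it, I(D(g)) is the ideal generated by the restriction of I(U). H^p(U, K) for K in
D(O_X) is the group of morphisms from the extension by zero of O_U, placed in degree 0, to K[p]. -/
theorem result (X : Scheme.{u}) [IsLocallyNoetherian X] (𝓘 : DerComp.IdealSh X.sheaf) (hqc : ∀ (U : X.affineOpens) (g : Γ(X, ↑U)), 𝓘.ideal (X.basicOpen g) = Ideal.map (X.presheaf.map (homOfLE (X.basicOpen_le g)).op).hom (𝓘.ideal ↑U)) [DerComp.HasDerCompletion X.sheaf 𝓘] (F : X.Modules) (hF : Coh.IsCoh F) (U : X.Opens) (hU : IsAffineOpen U) (p : ℤ) (hp : p ≠ 0) : Subsingleton (SiteCmp.inD X.sheaf (ModSite.freeOn X.sheaf U) ⟶ ((DerComp.derCompletion X.sheaf 𝓘).obj (SiteCmp.inD X.sheaf F)).obj⟦p⟧) :=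 by
  haveI : IsAffine (U : Scheme.{u}) := hU
  haveI : IsNoetherian (U : Scheme.{u}) := {}
  let K₀ : DCoh.D X := SiteCmp.inD X.sheaf F
  let K := (AffineOpen.Rd U).obj K₀
  obtain ⟨Cn, m₂, m₃, hT⟩ := distinguished_cocone_triangle (DerComp.toDerCompletion 𝓘 K₀)
  have horth := S13490.orth_cone 𝓘 K₀ hT
  have hz : ∀ i : ℤ, i ≠ 0 → IsZero (DCoh.HD K i) := fun i hi => by
    refine IsZero.of_iso ((Scheme.Modules.restrictFunctor U.ι).map_isZero ?_)
      (Perfect.Coherent.homologyIso U.ι K₀ i)
    haveI : ((DerivedCategory.singleFunctor X.Modules 0).obj F).IsGE 0 := inferInstance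
    haveI : ((DerivedCategory.singleFunctor X.Modules 0).obj F).IsLE 0 := inferInstance
    rcases lt_or_gt_of_ne hi with h | h
    · exact DerivedCategory.isZero_of_isGE ((DerivedCategory.singleFunctor X.Modules 0).obj F) 0 i h
    · exact DerivedCategory.isZero_of_isLE ((DerivedCategory.singleFunctor X.Modules 0).obj F) 0 i h
  have hc0 : Coh.IsCoh (DCoh.HD K 0) := CohBasics.Closure.isCoh_of_iso
    ((Scheme.Modules.restrictFunctor U.ι).mapIso
      ((DerivedCategory.singleFunctorCompHomologyFunctorIso X.Modules 0).app F).symm ≪≫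
      (Perfect.Coherent.homologyIso U.ι K₀ 0).symm) (RefHull.LocFree.isCoh_restrict hF U)
  have hcoh : ∀ i : ℤ, Coh.IsCoh (DCoh.HD K i) := fun i => by
    rcases eq_or_ne i 0 with rfl | hi
    · exact hc0
    · exact CohDelta.CohQuot.Serre.isCoh_of_isZero (hz i hi) hc0
  have hQ : DCoh.IsQCohD K := fun i => (hcoh i).1
  have hle : DerivedCategory.IsLE K 0 :=
    (DerivedCategory.isLE_iff K 0).2 fun i hi => hz i (by omega)
  have hK : ∀ m : ℤ, DCoh.IsPseudoCoherentD m K := fun m =>
    (Perfect.PCCoh.isPseudoCoherentD_iff_coh K hQ m).2 ⟨fun i _ => hcoh i, 0, hle⟩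
  have hU' := AffineAdic.core (U : Scheme.{u}) (AffineOpen.idealTop U 𝓘) (AffineOpen.idealU U 𝓘)
    (AffineOpen.isGenBy U 𝓘 hU fun g => hqc ⟨U, hU⟩ g) hK _
    ((AffineOpen.Rd U).map_distinguished _ hT)
    (AffineOpen.isDerComp_Rd U 𝓘 ((DerComp.derCompletion X.sheaf 𝓘).obj K₀).property)
    (AffineOpen.orth_Rd U 𝓘 horth) p
  haveI := AffineFinite.subsingleton_hom (U : Scheme.{u}) K hQ p (hz p hp)
  obtain ⟨hA, hn⟩ := hU'
  refine @Equiv.subsingleton _ _ (AffineOpen.topEquiv U _ p) (subsingleton_of_forall_eq 0 fun y => ?_)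
  refine hA.haus' y fun n => SModEq.zero.2 ?_
  obtain ⟨x, hx⟩ := (hn n).1 y
  rw [Subsingleton.elim x 0, map_zero, zero_sub] at hx
  exact neg_mem_iff.1 hx

end Groth.Agent.S13495
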