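import Groth.Statements.S13498
import Groth.Agent.S13489
import Groth.Agent.S13490
import Groth.Agent.Lib.DerComp.ResUnit
import Groth.Agent.Lib.DerComp.Exists

set_option autoImplicit false
set_option linter.style.haveILetI false
universe u
open CategoryTheory CategoryTheory.Limits Opposite
attribute [local instance] HasDerivedCategory.standard
open DerComp
open Pretriangulated

namespace Groth.Agent.S13498

section Helpers

open Groth.Agent.Lib Groth.Agent.Lib.DerComp
open Groth.Agent.Lib.DerComp.ExtScalar Groth.Agent.Lib.DerComp.KosTest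

variable {C : Type u} [SmallCategory C] {J : GrothendieckTopology C} {O O' : Sheaf J CommRingCat.{u}}

/-- An object with no homology is zero. -/
theorem isZero_of_homology (K : DerivedCategory (ModSite.Mod O))
    (h : ∀ n, IsZero ((DerivedCategory.homologyFunctor _ n).obj K)) : IsZero K := by
  obtain ⟨Z, hZ⟩ := HasZeroObject.zero (C := DerivedCategory (ModSite.Mod O))
  haveI : IsIso (0 : K ⟶ Z) := (DerivedCategory.isIso_iff _ _).2 fun n =>
    ⟨0, (h n).eq_of_src _ _, (Functor.map_isZero _ hZ).eq_of_src _ _⟩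
  exact hZ.of_iso (asIso (0 : K ⟶ Z))

variable (φ : O ⟶ O') [PreservesFiniteLimits (RS φ)] [PreservesFiniteColimits (RS φ)]

/-- Restriction reflects zero objects. -/
theorem isZero_of_isZero_map (Z : DerivedCategory (ModSite.Mod O'))
    (h : IsZero ((RS φ).mapDerivedCategory.obj Z)) : IsZero Z := by
  refine isZero_of_homology Z fun n => ?_
  let P := DerivedCategory.Q.objPreimage Z
  let e := DerivedCategory.Q.objObjPreimageIso Z
  haveI : (RS φ).PreservesHomology := inferInstance
  have h1 : IsZero (DerivedCategory.Q.obj (((RS φ).mapHomologicalComplex (ComplexShape.up ℤ)).obj P)) :=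
    h.of_iso (((RS φ).mapDerivedCategoryFactors.app P).symm ≪≫ (RS φ).mapDerivedCategory.mapIso e)
  have h2 : IsZero ((RS φ).obj (P.homology n)) :=
    ((DerivedCategory.homologyFunctor _ n).map_isZero h1).of_iso
      (((P.sc n).mapHomologyIso (RS φ)).symm ≪≫
        ((DerivedCategory.homologyFunctorFactors (ModSite.Mod O) n).app
          (((RS φ).mapHomologicalComplex (ComplexShape.up ℤ)).obj P)).symm)
  haveI : (RS φ).Faithful := ⟨fun h => SheafOfModules.hom_ext
    ((PresheafOfModules.restrictScalars _).map_injective (congrArg SheafOfModules.Hom.val h))⟩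
  have h3 : IsZero (P.homology n) :=
    (IsZero.iff_id_eq_zero _).2 ((RS φ).map_injective (h2.eq_of_src _ _))
  exact h3.of_iso ((DerivedCategory.homologyFunctor _ n).mapIso e.symm ≪≫
    (DerivedCategory.homologyFunctorFactors _ n).app P)

/-- The derived direct image along `φ` is restriction. -/
theorem nonempty_rpush (K' : DerivedCategory (ModSite.Mod O')) [SiteCmp.HasRpushD (idMor φ)] :
    Nonempty ((SiteCmp.RpushD (idMor φ)).obj K' ≅ (RS φ).mapDerivedCategory.obj K') := by
  haveI : (DerivedCategory.Qh (C := ModSite.Mod O')).IsLeftAdjoint := inferInstance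
  haveI hε : ∀ d, IsIso ((DerivedOX.RightDerived.resAdj (ModSite.Mod O')).counit.app d) :=
    fun d => DerCat.HProd.isIso_counit d
  exact ⟨((DerivedOX.RightDerived.totalRightDerivedIso (SiteCmp.pushKh (idMor φ))).app K').symm ≪≫
      DerivedCategory.Qh.mapIso ((HomotopyCategory.quotient _ (ComplexShape.up ℤ)).mapIso
        ((NatIso.mapHomologicalComplex (pushIso φ) (ComplexShape.up ℤ)).app _)) ≪≫
      ((RS φ).mapDerivedCategoryFactorsh.app _).symm ≪≫
      (RS φ).mapDerivedCategory.mapIso
        (asIso ((DerivedOX.RightDerived.resAdj (ModSite.Mod O')).counit.app K'))⟩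

/-- An object with no maps to complete objects restricts to one invisible to the tests. -/
theorem test_orth {I : DerComp.IdealSh O} {I' : DerComp.IdealSh O'} (hI' : DerComp.IsIdealExt φ I I')
    (Cn : DerivedCategory (ModSite.Mod O'))
    (hC : ∀ E', DerComp.IsDerComp O' I' E' → Subsingleton (Cn ⟶ E'))
    {U : C} {r : ℕ} (a : Fin r → O.obj.obj (op U)) (hgen : (I.over U).IsGenBy (S a)) (n : ℤ) :
    Subsingleton (KU a ⟶ (Local.R U).obj (((RS φ).mapDerivedCategory.obj Cn)⟦n⟧)) := by
  haveI : (DerivedCategory.Qh (C := ModSite.Mod O')).IsLeftAdjoint := inferInstance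
  haveI : SiteCmp.HasRpushD (idMor φ) :=
    DerivedOX.RightDerived.hasRightDerivedFunctor (SiteCmp.pushKh (idMor φ))
  obtain ⟨e⟩ := nonempty_rpush φ (Cn⟦n⟧)
  have hd := KosPush.subsingleton_test_push (idMor φ) a (Cn⟦n⟧)
    (SiteOrth.subsingleton_test
      (SpanLocal.sl_ext (idMor φ) (I := I) (I' := I') hI' (SpanLocal.sl_of_isGenBy hgen)) hC n)
  let e' := (Local.R U).mapIso (e ≪≫ ((RS φ).mapDerivedCategory.commShiftIso n).app Cn)
  exact ⟨fun p q => (cancel_mono e'.inv).1 (hd.elim _ _)⟩

/-- Vanishing of test maps passes to middle objects. -/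
theorem test_obj₂ (U : C) {T : Triangle (DerivedCategory (ModSite.Mod O))}
    (hT : T ∈ distinguishedTriangles) (Y : DerivedCategory (ModSite.Mod (O.over U)))
    (h₁ : ∀ n : ℤ, Subsingleton (Y ⟶ (Local.R U).obj (T.obj₁⟦n⟧)))
    (h₃ : ∀ n : ℤ, Subsingleton (Y ⟶ (Local.R U).obj (T.obj₃⟦n⟧))) (n : ℤ) :
    Subsingleton (Y ⟶ (Local.R U).obj (T.obj₂⟦n⟧)) := by
  refine Groth.Agent.S13490.test_obj₃ U (inv_rot_of_distTriang _ hT) Y (fun m => ?_) h₁ n
  let e := (Local.R U).mapIso ((shiftFunctorAdd' (DerivedCategory (ModSite.Mod O)) (-1 : ℤ) m (m - 1)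
    (by omega)).app T.obj₃)
  exact ⟨fun p q => (cancel_mono e.inv).1 ((h₃ (m - 1)).elim _ _)⟩

end Helpers

open Groth.Agent.Lib Groth.Agent.Lib.DerComp Groth.Agent.Lib.DerComp.ExtScalar in
/-- Let phi : O -> O' be a flat homomorphism of sheaves of rings on a site, I a sheaf of ideals of O of
finite type with O/I = O'/I O' (the induced map of quotient sheaves is an isomorphism: injectivity
and local surjectivity are spelled out on sections). Then the restriction functor D(O') -> D(O)
induces an equivalence from D_comp(O', I O') to D_comp(O, I): it is fully faithful on I O'-derived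
complete objects and every I-derived complete object is, up to isomorphism, the restriction of an I
O'-derived complete object. Flatness is exactness of tensoring with O' on O-modules; exactness of
restriction of scalars is an instance hypothesis. -/
theorem result {C : Type u} [SmallCategory C] {J : GrothendieckTopology C} {O O' : Sheaf J CommRingCat.{u}} (φ : O ⟶ O') (I : DerComp.IdealSh O) (hI : I.IsFiniteType) (I' : DerComp.IdealSh O') (hI' : DerComp.IsIdealExt φ I I') (hflat : ModSite.IsFlat ((SheafOfModules.restrictScalars.{u} ((sheafCompose J (forget₂ CommRingCat.{u} RingCat.{u})).map φ)).obj (ModSite.unit O'))) (hinj : ∀ (U : C) (f : O.obj.obj (op U)), (φ.hom.app (op U)).hom f ∈ I'.ideal U → f ∈ I.ideal U) (hsurj : ∀ (U : C) (f' : O'.obj.obj (op U)), ∃ S ∈ J U, ∀ ⦃V : C⦄ (g : V ⟶ U), S g → ∃ a : O.obj.obj (op V), (O'.obj.map g.op).hom f' - (φ.hom.app (op V)).hom a ∈ I'.ideal V) [PreservesFiniteLimits (SheafOfModules.restrictScalars.{u} ((sheafCompose J (forget₂ CommRingCat.{u} RingCat.{u})).map φ))]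 [PreservesFiniteColimits (SheafOfModules.restrictScalars.{u} ((sheafCompose J (forget₂ CommRingCat.{u} RingCat.{u})).map φ))] : (∀ K' L' : DerivedCategory (ModSite.Mod O'), DerComp.IsDerComp O' I' K' → DerComp.IsDerComp O' I' L' → Function.Bijective (fun ψ : K' ⟶ L' => (SheafOfModules.restrictScalars.{u} ((sheafCompose J (forget₂ CommRingCat.{u} RingCat.{u})).map φ)).mapDerivedCategory.map ψ)) ∧ (∀ E : DerivedCategory (ModSite.Mod O), DerComp.IsDerComp O I E → ∃ K' : DerivedCategory (ModSite.Mod O'), DerComp.IsDerComp O' I' K' ∧ Nonempty ((SheafOfModules.restrictScalars.{u} ((sheafCompose J (forget₂ CommRingCat.{u} RingCat.{u})).map φ)).mapDerivedCategory.obj K' ≅ E)) := by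
  haveI := preservesFiniteLimits_pull φ hflat
  let G := (RS φ).mapDerivedCategory
  let F := (idMor φ).pull.mapDerivedCategory
  let adj : F ⊣ G := Local.adjD (adjRS φ)
  haveI := Exists.hasDerCompletion I'
  let adjC := DerComp.derCompletionAdj O' I'
  -- the cone of the unit is invisible to the tests
  have hη : ∀ (E : DerivedCategory (ModSite.Mod O)) {N : DerivedCategory (ModSite.Mod O)}
      {m₂ : G.obj (F.obj E) ⟶ N} {m₃ : N ⟶ E⟦(1 : ℤ)⟧}
      (_ : Triangle.mk (adj.unit.app E) m₂ m₃ ∈ distinguishedTriangles) (U : C) (r : ℕ)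
      (a : Fin r → O.obj.obj (op U)), (I.over U).IsGenBy (KosTest.S a) →
      ∀ n : ℤ, Subsingleton (KosTest.KU a ⟶ (Local.R U).obj (N⟦n⟧)) := by
    intro E N m₂ m₃ hT U r a hgen n
    haveI := TorsUnit.isIso_bar_oneU φ a hgen hI' hinj hsurj
    exact ResUnit.subsingleton_of_testIso hT (ResUnit.testIso_unit φ a hflat E) _ (KosTest.nilp_KU a) n
  -- objects whose restriction is invisible to the tests have no maps to complete objects
  have hFix : ∀ Z : DerivedCategory (ModSite.Mod O'),
      (∀ (U : C) (r : ℕ) (a : Fin r → O.obj.obj (op U)), (I.over U).IsGenBy (KosTest.S a) →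
        ∀ n : ℤ, Subsingleton (KosTest.KU a ⟶ (Local.R U).obj ((G.obj Z)⟦n⟧))) →
      ∀ E', DerComp.IsDerComp O' I' E' → Subsingleton (Z ⟶ E') := by
    intro Z hZ E' hE'
    obtain ⟨Cn, c₂, c₃, hT⟩ := distinguished_cocone_triangle (DerComp.toDerCompletion I' Z)
    have hz : IsZero ((DerComp.derCompletion O' I').obj Z).obj := by
      refine isZero_of_isZero_map φ _ (KosTest.isZero_of_test
        ((Groth.Agent.S13489.result φ I I' hI' _).1 ((DerComp.derCompletion O' I').obj Z).property)
        hI fun U r a hgen => ?_)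
      exact test_obj₂ U (G.map_distinguished _ hT) _ (hZ U r a hgen)
        (test_orth φ hI' Cn (Groth.Agent.S13490.orth_cone I' Z hT) a hgen)
    let E'' : DerComp.DComp O' I' := ⟨E', hE'⟩
    refine ⟨fun p q => (adjC.homEquiv Z E'').symm.injective ?_⟩
    exact ObjectProperty.hom_ext _ (hz.eq_of_src _ _)
  refine ⟨fun K' L' hK' hL' => ?_, fun E hE => ?_⟩
  · obtain ⟨C', b₂, b₃, hT⟩ := distinguished_cocone_triangle (adj.counit.app K')
    have h₂₃ := G.map_distinguished _ hT
    obtain ⟨N, n₂, n₃, h₁₂⟩ := distinguished_cocone_triangle (adj.unit.app (G.obj K'))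
    let o := Triangulated.someOctahedron (adj.right_triangle_components K') h₁₂ h₂₃
      (contractible_distinguished (G.obj K'))
    have hC' : ∀ E', DerComp.IsDerComp O' I' E' → Subsingleton (C' ⟶ E') :=
      hFix C' fun U r a hgen => Groth.Agent.S13490.test_obj₃ U o.mem _ (hη _ h₁₂ U r a hgen)
        fun m => ⟨fun p q =>
          ((Local.R (O := O) U).map_isZero (Functor.map_isZero (shiftFunctor (DerivedCategory (ModSite.Mod O)) m)
            (isZero_zero (DerivedCategory (ModSite.Mod O))))).eq_of_tgt p q⟩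
    have hb := (TriVan.subsingleton_iff_bijective hT L').1
      (fun m => hC' _ (NilpTest.isDerComp_shift hL' m)) 0
    let z := ((shiftFunctorZero (DerivedCategory (ModSite.Mod O')) ℤ).app L')
    have hb' : Function.Bijective (fun χ : K' ⟶ L' => adj.counit.app K' ≫ χ) := by
      have e : (fun χ : K' ⟶ L' => adj.counit.app K' ≫ χ) = z.homToEquiv ∘
          (fun χ : K' ⟶ L'⟦(0 : ℤ)⟧ => adj.counit.app K' ≫ χ) ∘ z.symm.homToEquiv := by
        funext χ
        simp [Iso.homToEquiv]
      rw [e]
      exact z.homToEquiv.bijective.comp (hb.comp z.symm.homToEquiv.bijective)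
    have e : (fun ψ : K' ⟶ L' => G.map ψ) =
        (adj.homEquiv (G.obj K') L') ∘ (fun χ : K' ⟶ L' => adj.counit.app K' ≫ χ) := by
      funext ψ
      simp [Adjunction.homEquiv_unit]
    exact e ▸ (adj.homEquiv (G.obj K') L').bijective.comp hb'
  · let K' := ((DerComp.derCompletion O' I').obj (F.obj E))
    refine ⟨K'.obj, K'.property, ?_⟩
    let c := DerComp.toDerCompletion I' (F.obj E)
    obtain ⟨Cn, c₂, c₃, hTc⟩ := distinguished_cocone_triangle c
    obtain ⟨N, n₂, n₃, h₁₂⟩ := distinguished_cocone_triangle (adj.unit.app E)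
    obtain ⟨M, m₂, m₃, h₁₃⟩ := distinguished_cocone_triangle (adj.unit.app E ≫ G.map c)
    let o := Triangulated.someOctahedron rfl h₁₂ (G.map_distinguished _ hTc) h₁₃
    have hM : IsZero M := KosTest.isZero_of_test
      (NilpTest.isDerComp_obj₃ h₁₃ hE ((Groth.Agent.S13489.result φ I I' hI' _).1 K'.property))
      hI fun U r a hgen => test_obj₂ U o.mem _ (hη _ h₁₂ U r a hgen)
        (test_orth φ hI' Cn (Groth.Agent.S13490.orth_cone I' _ hTc) a hgen)
    haveI := (Triangle.isZero₃_iff_isIso₁ _ h₁₃).1 hM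
    exact ⟨(@asIso _ _ _ _ (adj.unit.app E ≫ G.map c) this).symm⟩

end Groth.Agent.S13498
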