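import Groth.Statements.S13499
import Groth.Agent.H61.FieldCoh.Efface

set_option autoImplicit false
universe u
open CategoryTheory CategoryTheory.Limits AlgebraicGeometry Opposite
open GalCoh

namespace Groth.Agent.S13499

open CategoryTheory.Limits Opposite

/-- `0 → ℤ → ℚ → ℚ/ℤ → 0`, one universe up. -/
noncomputable def seq0 : ShortComplex AddCommGrpCat.{u + 1} :=
  ShortComplex.mk
    (AddCommGrpCat.ofHom (AddMonoidHom.mk' (fun z : ULift.{u + 1} ℤ => (ULift.up (z.down : ℚ) : ULift.{u + 1} ℚ))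
      (fun a b => ULift.ext _ _ (Int.cast_add a.down b.down))))
    (AddCommGrpCat.ofHom (AddMonoidHom.mk' (fun x : ULift.{u + 1} ℚ =>
        (ULift.up (x.down : ℚ ⧸ AddSubgroup.zmultiples (1 : ℚ)) : ULift.{u + 1} (ℚ ⧸ AddSubgroup.zmultiples (1 : ℚ))))
      (fun a b => rfl)))
    (AddCommGrpCat.hom_ext (DFunLike.ext _ _ fun z => ULift.ext _ _
      ((QuotientAddGroup.eq_zero_iff _).2 (AddSubgroup.mem_zmultiples_iff.2 ⟨z.down, zsmul_one _⟩))))

theorem seq0_shortExact : seq0.{u}.ShortExact where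
  exact := by
    rw [ShortComplex.ab_exact_iff]
    intro x hx
    obtain ⟨m, hm⟩ := AddSubgroup.mem_zmultiples_iff.1 ((QuotientAddGroup.eq_zero_iff _).1 (congrArg ULift.down hx))
    refine ⟨ULift.up m, ULift.ext _ _ ?_⟩
    exact (zsmul_one m).symm.trans hm
  mono_f := (AddCommGrpCat.mono_iff_injective _).2 fun a b h =>
    ULift.ext _ _ (Int.cast_injective (α := ℚ) (congrArg ULift.down h))
  epi_g := (AddCommGrpCat.epi_iff_surjective _).2 fun y => by
    obtain ⟨a, ha⟩ := QuotientAddGroup.mk_surjective y.down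
    exact ⟨ULift.up a, ULift.ext _ _ ha⟩

variable {X : Scheme.{u}}

instance : PreservesFiniteLimits (constantSheaf X.smallEtaleTopology AddCommGrpCat.{u + 1}) := by
  have : PreservesFiniteLimits (Functor.const (X.Etaleᵒᵖ) : AddCommGrpCat.{u + 1} ⥤ _) := inferInstance
  exact comp_preservesFiniteLimits _ _

instance : PreservesFiniteColimits (constantSheaf X.smallEtaleTopology AddCommGrpCat.{u + 1}) :=
  haveI : PreservesColimitsOfSize.{0, 0} (constantSheaf X.smallEtaleTopology AddCommGrpCat.{u + 1}) :=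
    (EtCore.constAdj X).leftAdjoint_preservesColimits
  PreservesColimitsOfSize.preservesFiniteColimits _

instance : (constantSheaf X.smallEtaleTopology AddCommGrpCat.{u + 1}).Additive :=
  Functor.additive_of_preserves_binary_products _

theorem isIso_nsmul_rat (n : ℕ) (hn : 0 < n) : IsIso (n • 𝟙 (EtCoh.const X ℚ)) := by
  have h : IsIso (n • 𝟙 (AddCommGrpCat.of (ULift.{u + 1} ℚ))) := by
    have hn' : (n : ℚ) ≠ 0 := Nat.cast_ne_zero.2 hn.ne'
    have hmul : (n • 𝟙 (AddCommGrpCat.of (ULift.{u + 1} ℚ))).hom =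
        AddMonoidHom.mk' (fun x : ULift.{u + 1} ℚ => (ULift.up ((n : ℚ) * x.down) : ULift.{u + 1} ℚ))
          (fun a b => ULift.ext _ _ (mul_add _ a.down b.down)) :=
      DFunLike.ext _ _ fun x => ULift.ext _ _ (by
        simp [nsmul_eq_mul])
    refine ⟨⟨AddCommGrpCat.ofHom (AddMonoidHom.mk'
      (fun x : ULift.{u + 1} ℚ => (ULift.up ((n : ℚ)⁻¹ * x.down) : ULift.{u + 1} ℚ))
      (fun a b => ULift.ext _ _ (mul_add _ a.down b.down))), ?_, ?_⟩⟩
    · refine AddCommGrpCat.hom_ext ?_
      rw [AddCommGrpCat.hom_comp, hmul]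
      exact DFunLike.ext _ _ fun x => ULift.ext _ _ (inv_mul_cancel_left₀ hn' x.down)
    · refine AddCommGrpCat.hom_ext ?_
      rw [AddCommGrpCat.hom_comp, hmul]
      exact DFunLike.ext _ _ fun x => ULift.ext _ _ (mul_inv_cancel_left₀ hn' x.down)
  have h2 : IsIso ((constantSheaf X.smallEtaleTopology AddCommGrpCat.{u + 1}).map
    (n • 𝟙 (AddCommGrpCat.of (ULift.{u + 1} ℚ)))) := inferInstance
  rw [Functor.map_nsmul, CategoryTheory.Functor.map_id] at h2
  exact h2


/-- For a field k and i ≥ 2 there is an isomorphism between H^i(Spec k, Z) and H^{i-1}(Spec k, Q/Z),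
étale cohomology of Spec k with coefficients in the constant sheaves Z and Q/Z (existence of an
additive isomorphism only; the published statement is for an arbitrary profinite group with trivial
action and identifies the two groups through the boundary map of 0 → Z → Q → Q/Z → 0). -/
theorem result (k : Type u) [Field k] (i : ℕ) (hi : 2 ≤ i) :
    Nonempty (EtCoh.H (Spec (CommRingCat.of k)) (EtCoh.const (Spec (CommRingCat.of k)) ℤ) i ≃+
      EtCoh.H (Spec (CommRingCat.of k))
        (EtCoh.const (Spec (CommRingCat.of k)) (ℚ ⧸ AddSubgroup.zmultiples (1 : ℚ))) (i - 1)) := by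
  set S := (seq0.{u}.map (constantSheaf (Spec (CommRingCat.of k)).smallEtaleTopology AddCommGrpCat.{u + 1})) with hSdef
  have hS : S.ShortExact := seq0_shortExact.map_of_exact _
  have hQ : ∀ j : ℕ, 0 < j → Subsingleton (EtCoh.H (Spec (CommRingCat.of k)) S.X₂ j) := fun j hj =>
    Groth.Agent.H61.FieldCoh.subsingleton_of_isIso_nsmul isIso_nsmul_rat hj
  obtain ⟨j, rfl⟩ : ∃ j, i = j + 1 := ⟨i - 1, by omega⟩
  have hj : 0 < j := by omega
  let δ : EtCoh.H (Spec (CommRingCat.of k)) S.X₃ j →+ EtCoh.H (Spec (CommRingCat.of k)) S.X₁ (j + 1) :=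
    hS.extClass.postcomp _ rfl
  have hb : Function.Bijective δ := by
    refine ⟨(injective_iff_map_eq_zero _).2 fun x hx => ?_, fun y => ?_⟩
    · obtain ⟨z, hz⟩ := Abelian.Ext.covariant_sequence_exact₃ _ hS x rfl hx
      haveI := hQ j hj
      rw [← hz, Subsingleton.elim (α := EtCoh.H (Spec (CommRingCat.of k)) S.X₂ j) z 0, Abelian.Ext.zero_comp]
    · haveI := hQ (j + 1) j.succ_pos
      exact Abelian.Ext.covariant_sequence_exact₁ _ hS y
        (Subsingleton.elim (α := EtCoh.H (Spec (CommRingCat.of k)) S.X₂ (j + 1)) _ _) rfl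
  exact ⟨(AddEquiv.ofBijective δ hb).symm⟩

end Groth.Agent.S13499
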