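import Groth.Statements.S13501
import Groth.Agent.H88.EtMod.TorsionColimit

set_option autoImplicit false
universe u
open CategoryTheory CategoryTheory.Limits AlgebraicGeometry Opposite
open EtPBC

namespace Groth.Agent.S13501

/-- Let X be a quasi-compact and quasi-separated scheme and F a torsion abelian sheaf on X_et. If Hom(F,
-) commutes with filtered colimits (of shape any small filtered category in the universe of the
sheaf category's morphisms), then F is constructible. This is the converse of the compactness of
constructible sheaves. -/
theorem result (X : Scheme.{u}) [CompactSpace X]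
    [QuasiSeparatedSpace X] (F : EtCoh.Ab X) (hF : EtCoh.IsTorsion F)
    (hc : ∀ (J : Type (u + 1)) [SmallCategory J] [IsFiltered J],
      PreservesColimitsOfShape J (coyoneda.obj (op F))) :
    EtPBC.IsConstructible F := by
  obtain ⟨J, _, _, D, c, hcol, hD, ⟨e⟩⟩ := Groth.Agent.H88.EtMod.TorsionColimit.exists_colimit F hF
  haveI := hc J
  obtain ⟨j, s, hs⟩ := Types.jointly_surjective_of_isColimit
    (isColimitOfPreserves (coyoneda.obj (op F)) hcol) e.inv
  change s ≫ c.ι.app j = e.inv at hs
  let r : D.obj j ⟶ F := c.ι.app j ≫ e.hom
  have hsr : s ≫ r = 𝟙 F := by simp [r, reassoc_of% hs]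
  refine Groth.Agent.H88.EtMod.PBCOps.isConstructible_of_iso ?_
    (Groth.Agent.H88.EtMod.PBCOps.isConstructible_kernel_cokernel (𝟙 (D.obj j) - r ≫ s) (hD j) (hD j)).2
  exact
    { hom := cokernel.desc _ r (by simp [Preadditive.sub_comp, hsr])
      inv := s ≫ cokernel.π _
      hom_inv_id := by
        apply coequalizer.hom_ext
        rw [cokernel.π_desc_assoc, Category.comp_id]
        have := cokernel.condition (𝟙 (D.obj j) - r ≫ s)
        rw [Preadditive.sub_comp, sub_eq_zero, Category.id_comp, Category.assoc] at this
        exact this.symm
      inv_hom_id := by rw [Category.assoc, cokernel.π_desc, hsr] }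

end Groth.Agent.S13501
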