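import Groth.Statements.S13502
import Groth.Agent.Lib.ProjSym.Finite

set_option autoImplicit false
universe u
open CategoryTheory CategoryTheory.Limits AlgebraicGeometry Opposite
open Constr

namespace Groth.Agent.S13502

/-- For a scheme S and n ≥ 0 there exists a finite surjective S-morphism from the n-fold fibre product
P^1_S ×_S ⋯ ×_S P^1_S to P^n_S (existence of such a morphism only; the published statement names the
morphism sending ((x_1 : y_1), …, (x_n : y_n)) to the coefficients (F_0 : ⋯ : F_n) of the product of
the x_i t + y_i). (The published statement is over an affine base Spec A; this row allows any base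
scheme S: the morphism is defined over the integers and base-changed, and finiteness and
surjectivity are stable under base change.) -/
theorem result (S : Scheme.{u}) (n : ℕ) :
    ∃ φ : widePullback S (fun _ : Fin n => CohB1.ProjSpaceOver 1 S) (fun _ => CohB1.ProjSpaceOver.toBase 1 S) ⟶
        CohB1.ProjSpaceOver n S,
      IsFinite φ ∧ Surjective φ ∧
        φ ≫ CohB1.ProjSpaceOver.toBase n S = WidePullback.base (fun _ => CohB1.ProjSpaceOver.toBase 1 S) := by
  let p : widePullback S (fun _ : Fin n => CohB1.ProjSpaceOver 1 S) (fun _ => CohB1.ProjSpaceOver.toBase 1 S) ⟶ S :=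
    WidePullback.base _
  obtain ⟨q, hq⟩ := Groth.Agent.Lib.ProjSym.Map.exists_lift.{u} n
    (T := widePullback S (fun _ : Fin n => CohB1.ProjSpaceOver 1 S) (fun _ => CohB1.ProjSpaceOver.toBase 1 S))
    fun i => WidePullback.π _ i ≫ pullback.fst _ _
  let M := Groth.Agent.Lib.ProjSym.Map.M.{u} n
  let Q := pullback (Groth.Agent.Lib.ProjSym.Map.toS.{u} n) (specULiftZIsTerminal.from S)
  -- the product over `S` is the base change of the product over `ℤ`
  let f : widePullback S (fun _ : Fin n => CohB1.ProjSpaceOver 1 S) (fun _ => CohB1.ProjSpaceOver.toBase 1 S) ⟶ Q :=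
    pullback.lift q p (specULiftZIsTerminal.hom_ext _ _)
  let g : Q ⟶ widePullback S (fun _ : Fin n => CohB1.ProjSpaceOver 1 S) (fun _ => CohB1.ProjSpaceOver.toBase 1 S) :=
    WidePullback.lift (pullback.snd _ _)
      (fun i => pullback.lift (pullback.fst _ _ ≫ Groth.Agent.Lib.ProjSym.Map.pr n i) (pullback.snd _ _)
        (specULiftZIsTerminal.hom_ext _ _))
      (fun i => pullback.lift_snd _ _ _)
  have hgf : g ≫ f = 𝟙 Q := by
    refine pullback.hom_ext ?_ ?_
    · refine Groth.Agent.Lib.ProjSym.Map.hom_ext n fun i => ?_
      rw [Category.assoc, Category.assoc, pullback.lift_fst_assoc, hq, WidePullback.lift_π_assoc, Category.id_comp]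
      exact pullback.lift_fst _ _ _
    · rw [Category.assoc, pullback.lift_snd, Category.id_comp]
      exact WidePullback.lift_base _ _ _ _
  have hfg : f ≫ g = 𝟙 _ := by
    refine WidePullback.hom_ext _ _ _ (fun i => ?_) ?_
    · rw [Category.assoc, WidePullback.lift_π, Category.id_comp]
      refine pullback.hom_ext ?_ ?_
      · refine (Category.assoc _ _ _).trans ((congrArg (f ≫ ·) (pullback.lift_fst _ _ _)).trans ?_)
        exact (pullback.lift_fst_assoc _ _ _ _).trans (hq i)
      · refine (Category.assoc _ _ _).trans ((congrArg (f ≫ ·) (pullback.lift_snd _ _ _)).trans ?_)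
        exact (pullback.lift_snd _ _ _).trans (WidePullback.π_arrow _ i).symm
    · rw [Category.assoc, WidePullback.lift_base, Category.id_comp]
      exact pullback.lift_snd _ _ _
  haveI : IsIso f := ⟨g, hfg, hgf⟩
  let m : Q ⟶ CohB1.ProjSpaceOver n S := pullback.lift (pullback.fst _ _ ≫ M) (pullback.snd _ _) (specULiftZIsTerminal.hom_ext _ _)
  have hm : IsPullback (pullback.fst _ _) m M (pullback.fst (CohB1.ProjSpace.toSpec n (ULift.{u} ℤ))
      (specULiftZIsTerminal.from S)) := by
    refine (IsPullback.of_bot ?_ (pullback.lift_fst _ _ _).symm (IsPullback.of_hasPullback _ _))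
    rw [show M ≫ CohB1.ProjSpace.toSpec n (ULift.{u} ℤ) = Groth.Agent.Lib.ProjSym.Map.toS n from
      specULiftZIsTerminal.hom_ext _ _]
    erw [pullback.lift_snd]
    exact IsPullback.of_hasPullback _ _
  have hmf : IsFinite m := MorphismProperty.of_isPullback (P := @IsFinite.{u}) hm
    (Groth.Agent.Lib.ProjSym.Finite.isFinite_M n)
  have hms : Surjective m := MorphismProperty.of_isPullback (P := @Surjective.{u}) hm
    (Groth.Agent.Lib.ProjSym.Finite.surjective_M n)
  refine ⟨f ≫ m, inferInstance, inferInstance, ?_⟩
  rw [Category.assoc]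
  change f ≫ pullback.lift _ _ _ ≫ pullback.snd _ _ = _
  rw [pullback.lift_snd]
  exact pullback.lift_snd _ _ _

end Groth.Agent.S13502
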