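import Groth.Statements.S13517
import Groth.Agent.Lib.FibDesc.LocalSections
-- import your own Groth.Agent.* helpers here

set_option autoImplicit false
universe u
open CategoryTheory CategoryTheory.Limits Opposite TopologicalSpace
open FibDesc Groth.Agent.Lib.FibDesc

namespace Groth.Agent.S13517

/-- In the category of topological spaces with all abelian sheaves as coefficients (where every
continuous map is flat), a continuous map `f : X ⟶ S` admitting a continuous section is universally
of cohomological descent: for every base change `S' ⟶ S`, the augmented Cech simplicial space of the
base-changed map is an augmentation of cohomological 1-descent (its inverse image functor on bounded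
below derived categories of abelian sheaves is fully faithful). (The published statement concludes
2-descent, i.e. adds effective descent; this row states the 1-descent part.) -/
theorem result {X S : TopCat.{u}} (f : X ⟶ S) (s : S ⟶ X)
    (h : s ≫ f = 𝟙 S) : FibDesc.IsUnivCohDescentMap f := by
  refine LocalSections.isUnivCohDescentMap f fun x =>
    ⟨⊤, TopCat.ofHom ⟨Subtype.val, continuous_subtype_val⟩ ≫ s, trivial, ?_⟩
  rw [Category.assoc, h, Category.comp_id]

end Groth.Agent.S13517
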