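import Groth.Statements.S13523
import Groth.Agent.Lib.FibDesc.LocalSections
-- import your own Groth.Agent.* helpers here

set_option autoImplicit false
universe u
open CategoryTheory CategoryTheory.Limits Opposite TopologicalSpace
open FibDesc Groth.Agent.Lib.FibDesc

namespace Groth.Agent.S13523

/-- A surjective local homeomorphism `f : X ⟶ S` of topological spaces is universally of cohomological
1-descent for abelian sheaves. -/
theorem result {X S : TopCat.{u}} (f : X ⟶ S)
    (hf : IsLocalHomeomorph f) (hsurj : Function.Surjective f) : FibDesc.IsUnivCohDescentMap f := by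
  refine LocalSections.isUnivCohDescentMap f fun x => ?_
  obtain ⟨z, rfl⟩ := hsurj x
  obtain ⟨e, hz, he⟩ := hf z
  refine ⟨⟨e.target, e.open_target⟩,
    TopCat.ofHom ⟨fun y => e.symm y.1, e.continuousOn_symm.restrict⟩, ?_, ?_⟩
  · change f z ∈ e.target
    rw [he]
    exact e.map_source hz
  · ext y
    change f (e.symm y.1) = y.1
    rw [he]
    exact e.right_inv y.2

end Groth.Agent.S13523
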