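import Groth.Statements.S13532
import Groth.Agent.Lib.AlgSpDecent.CodimOne
import Groth.Agent.Lib.AlgSpDecent.GenDense

set_option autoImplicit false
universe u
open CategoryTheory CategoryTheory.Limits AlgebraicGeometry
open ResProp

namespace Groth.Agent.S13532

open Groth.Agent.Lib

/-- A morphism of finite type between locally Noetherian schemes which is birational (an isomorphism
over a dense open of the target whose preimage is dense in the source) has finite fibres over all
points of the target of codimension at most 1, i.e. whose local ring has Krull dimension at most 1. -/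
theorem result {X Y : Scheme.{u}}
    [IsLocallyNoetherian X] [IsLocallyNoetherian Y] (f : Y ⟶ X) [LocallyOfFiniteType f] [QuasiCompact f]
    (U : X.Opens) (hU : Dense (U : Set X)) (hU' : Dense ((f ⁻¹ᵁ U : Y.Opens) : Set Y)) (hiso : IsIso (f ∣_ U))
    (x : X) (hx : ringKrullDim (X.presheaf.stalk x) ≤ 1) :
    (f.base ⁻¹' {x}).Finite := by
  have hqf : ∀ z : Y, f.base z = x → f.QuasiFiniteAt z := by
    rintro z rfl
    refine AlgSpDecent.CodimOne.quasiFiniteAt f hx (fun η _ hη => ?_) AlgSpDecent.GenericFiniteSet.exists_isGen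
    have hηU := AlgSpDecent.GenDense.gen_mem_of_dense (f ⁻¹ᵁ U).2 hU' hη
    have : IsOpenImmersion ((f ⁻¹ᵁ U).ι ≫ f) := by
      rw [← morphismRestrict_ι]
      infer_instance
    exact (Scheme.Hom.quasiFiniteAt_comp_iff_of_isOpenImmersion (f := (f ⁻¹ᵁ U).ι) (x := ⟨η, hηU⟩)).1
      (Scheme.Hom.quasiFiniteAt _ _)
  have : DiscreteTopology ↥(f ⁻¹' {x}) := discreteTopology_iff_isOpen_singleton.2 fun z => by
    obtain ⟨z, rfl⟩ := z
    rw [← (f.fiberHomeo _).symm.isOpen_image, Set.image_singleton]
    exact (hqf z rfl).isClopen_singleton_asFiber.isOpen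
  have : CompactSpace ↥(f ⁻¹' {x}) := isCompact_iff_compactSpace.1 (f.isCompact_preimage_singleton x)
  have : Finite ↥(f ⁻¹' {x}) := finite_of_compact_of_discrete
  exact Set.toFinite _

end Groth.Agent.S13532
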