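import Groth.Statements.S13533
import Groth.Statements.S13533
import Groth.Agent.H20.BasicElement

set_option autoImplicit false
universe u
open ResProp

namespace Groth.Agent.S13533

open Groth.Agent.H20.BasicElement

theorem quot_line {L : Type u} [CommRing L] [IsLocalRing L] {n : ℕ} (w : Fin (n + 1) → L)
    (j : Fin (n + 1)) (hw : IsUnit (w j)) :
    Nonempty (((Fin (n + 1) → L) ⧸ Submodule.span L {w}) ≃ₗ[L] (Fin n → L)) := by
  obtain ⟨u, hu⟩ := hw
  let g : (Fin (n + 1) → L) →ₗ[L] (Fin n → L) :=
    LinearMap.pi fun i => LinearMap.proj (j.succAbove i) -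
      ((↑u⁻¹ : L) * w (j.succAbove i)) • (LinearMap.proj j : (Fin (n + 1) → L) →ₗ[L] L)
  have hg : ∀ v i, g v i = v (j.succAbove i) - (↑u⁻¹ * w (j.succAbove i)) * v j := fun v i => rfl
  refine ⟨(Submodule.quotEquivOfEq _ _ ?_).trans (g.quotKerEquivOfSurjective ?_)⟩
  · refine le_antisymm ?_ fun v hv => ?_
    · rw [Submodule.span_singleton_le_iff_mem, LinearMap.mem_ker]
      funext i
      rw [hg, ← hu, Pi.zero_apply, mul_comm _ (u : L), ← mul_assoc, u.mul_inv, one_mul, sub_self]
    · rw [LinearMap.mem_ker] at hv
      refine Submodule.mem_span_singleton.2 ⟨v j * ↑u⁻¹, funext fun i => ?_⟩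
      rcases eq_or_ne i j with rfl | hij
      · rw [Pi.smul_apply, smul_eq_mul, ← hu, mul_assoc, u.inv_mul, mul_one]
      · obtain ⟨i', rfl⟩ := Fin.exists_succAbove_eq hij
        have := congrFun hv i'
        rw [hg, Pi.zero_apply, sub_eq_zero] at this
        rw [Pi.smul_apply, smul_eq_mul, this]
        ring
  · intro v
    refine ⟨Fin.insertNth (α := fun _ => L) j 0 v, funext fun i => ?_⟩
    rw [hg, Fin.insertNth_apply_succAbove, Fin.insertNth_apply_same, mul_zero, sub_zero]

variable {A : Type u} [CommRing A] [IsNoetherianRing A]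

theorem rk_ge {M : Type u} [AddCommGroup M] [Module A M] [Module.Finite A M] {r s : ℕ}
    (g : Fin s → M) (hg : Submodule.span A (Set.range g) = ⊤) (p : PrimeSpectrum A)
    (e : LocalizedModule p.asIdeal.primeCompl M ≃ₗ[Localization.AtPrime p.asIdeal]
      (Fin r → Localization.AtPrime p.asIdeal)) : r ≤ rk p g := by
  set S := p.asIdeal.primeCompl
  set L := Localization.AtPrime p.asIdeal
  set K := p.asIdeal.ResidueField
  haveI : Module.FinitePresentation A M := Module.finitePresentation_of_finite A M
  have hex : ∀ i : Fin r, ∃ (φ : Module.Dual A M) (s : S), ∀ x,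
      algebraMap A L (φ x) = (s : A) • (e (LocalizedModule.mkLinearMap S M x) i) := fun i => by
    obtain ⟨φ, s, h⟩ := Module.FinitePresentation.exists_lift_of_isLocalizedModule S
      (Algebra.linearMap A L)
      ((LinearMap.proj i).comp ((e.toLinearMap.restrictScalars A).comp (LocalizedModule.mkLinearMap S M)))
    exact ⟨φ, s, fun x => LinearMap.congr_fun h x⟩
  choose φ sc hφ using hex
  let ψ : M →ₗ[A] (Fin r → K) :=
    (LinearMap.funLeft A K φ).comp (vec p)
  have htop : Submodule.span K (Set.range ψ) = ⊤ := by
    rw [eq_top_iff, ← (Pi.basisFun K (Fin r)).span_eq, Submodule.span_le]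
    rintro _ ⟨i, rfl⟩
    obtain ⟨⟨x, t⟩, hxt⟩ := IsLocalizedModule.surj S (LocalizedModule.mkLinearMap S M)
      (e.symm (Pi.single i 1))
    have hψ : ψ x = algebraMap A K ((sc i : A) * t) • Pi.basisFun K (Fin r) i := by
      funext l
      have h1 : algebraMap A L (φ l x) = algebraMap A L ((sc l : A) * t) * Pi.single (M := fun _ => L) i 1 l := by
        rw [hφ, ← hxt]
        simp only [Submonoid.smul_def]
        rw [← algebraMap_smul L (t : A) (e.symm _), map_smul, e.apply_symm_apply, Pi.smul_apply,
          smul_eq_mul, Algebra.smul_def, ← mul_assoc, ← map_mul]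
      have h2 := congrArg (algebraMap L K) h1
      rw [map_mul, ← IsScalarTower.algebraMap_apply, ← IsScalarTower.algebraMap_apply] at h2
      show algebraMap A K (φ l x) = _
      rw [h2, Pi.smul_apply, smul_eq_mul, Pi.basisFun_apply]
      rcases eq_or_ne l i with rfl | hne
      · simp
      · simp [Pi.single_eq_of_ne hne]
    have hunit : algebraMap A K ((sc i : A) * t) ≠ 0 := by
      rw [Ne, Ideal.algebraMap_residueField_eq_zero]
      exact fun h => (p.2.mem_or_mem h).elim (sc i).2 t.2
    have := Submodule.smul_mem (Submodule.span K (Set.range ψ)) (algebraMap A K ((sc i : A) * t))⁻¹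
      (Submodule.subset_span ⟨x, rfl⟩)
    rwa [hψ, inv_smul_smul₀ hunit] at this
  set V := Submodule.span K (Set.range fun i => vec p (g i))
  have hV : ∀ x, vec p x ∈ V := fun x => by
    have hx : x ∈ Submodule.span A (Set.range g) := hg ▸ Submodule.mem_top
    induction hx using Submodule.span_induction with
    | mem y hy => obtain ⟨i, rfl⟩ := hy; exact Submodule.subset_span ⟨i, rfl⟩
    | zero => rw [map_zero]; exact zero_mem _
    | add a b _ _ ha hb => rw [map_add]; exact add_mem ha hb
    | smul c a _ ha => rw [map_smul, ← algebraMap_smul K]; exact Submodule.smul_mem _ _ ha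
  have hmap : V.map (LinearMap.funLeft K K φ) = ⊤ := by
    rw [eq_top_iff, ← htop, Submodule.span_le]
    rintro _ ⟨x, rfl⟩
    exact ⟨_, hV x, rfl⟩
  have h1 := Submodule.finrank_map_le (LinearMap.funLeft K K φ) V
  rwa [hmap, finrank_top, Module.finrank_fin_fun] at h1

theorem free_sub (k : ℕ) : ∀ (d : ℕ) (M : Type u) [AddCommGroup M] [Module A M] [Module.Finite A M],
    (∀ p ∈ associatedPrimes A A, p.height ≤ k) →
    (∀ p : PrimeSpectrum A, p.asIdeal.height ≤ k →
      Nonempty (LocalizedModule p.asIdeal.primeCompl M ≃ₗ[Localization.AtPrime p.asIdeal]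
        (Fin (k + d) → Localization.AtPrime p.asIdeal))) →
    ∃ N : Submodule A M, Nonempty (N ≃ₗ[A] (Fin d → A)) ∧
      ∀ p : PrimeSpectrum A, p.asIdeal.height ≤ k →
        Nonempty (LocalizedModule p.asIdeal.primeCompl (M ⧸ N) ≃ₗ[Localization.AtPrime p.asIdeal]
          (Fin k → Localization.AtPrime p.asIdeal))
  | 0, M, _, _, _, _, hM => by
    refine ⟨⊥, ⟨LinearEquiv.ofSubsingleton _ _⟩, fun p hp => ?_⟩
    obtain ⟨e⟩ := hM p hp
    exact ⟨(IsLocalizedModule.mapEquiv p.asIdeal.primeCompl (LocalizedModule.mkLinearMap _ _)
      (LocalizedModule.mkLinearMap _ _) (Localization.AtPrime p.asIdeal)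
      (Submodule.quotEquivOfEqBot (⊥ : Submodule A M) rfl)).trans e⟩
  | d + 1, M, _, _, _, hAss, hM => by
    obtain ⟨s, g, hg⟩ := Module.Finite.exists_fin (R := A) (M := M)
    let g' : Fin (s + 1) → M := Fin.cons 0 g
    have hg' : Submodule.span A (Set.range g') = ⊤ := top_le_iff.1
      (hg ▸ Submodule.span_mono (by rw [Fin.range_cons]; exact Set.subset_insert _ _))
    obtain ⟨x, hx⟩ := exists_good_one g' (k := k) fun p h hh hhk => by
      obtain ⟨e⟩ := hM p (by rw [hh]; exact_mod_cast hhk)
      have := rk_ge g' hg' p e
      omega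
    have hann : ∀ a : A, a • x = 0 → a = 0 := fun a ha => by
      by_contra hne
      obtain ⟨P, hP, hle⟩ := exists_le_isAssociatedPrime_of_isNoetherianRing A a hne
      obtain ⟨φ, hφ⟩ := hx ⟨P, hP.1⟩ (hAss P hP)
      refine hφ (hle ?_)
      rw [Submodule.mem_colon_singleton, Submodule.mem_bot, smul_eq_mul, mul_comm, ← smul_eq_mul,
        ← map_smul, ha, map_zero]
    set X := Submodule.span A {x}
    have hM' : ∀ p : PrimeSpectrum A, p.asIdeal.height ≤ k →
        Nonempty (LocalizedModule p.asIdeal.primeCompl (M ⧸ X) ≃ₗ[Localization.AtPrime p.asIdeal]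
          (Fin (k + d) → Localization.AtPrime p.asIdeal)) := fun p hp => by
      obtain ⟨e⟩ := hM p hp
      obtain ⟨φ, hφ⟩ := hx p hp
      set S := p.asIdeal.primeCompl
      set L := Localization.AtPrime p.asIdeal
      set f := LocalizedModule.mkLinearMap S M
      let φL : LocalizedModule S M →ₗ[L] L :=
        LinearMap.extendScalarsOfIsLocalization S L (IsLocalizedModule.map S f (Algebra.linearMap A L) φ)
      obtain ⟨j, hj⟩ : ∃ j, IsUnit (e (f x) j) := by
        by_contra! h0
        have h1 : φL (e.symm (e (f x))) ∈ IsLocalRing.maximalIdeal L := by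
          rw [pi_eq_sum_univ' (e (f x))]
          simp only [map_sum, map_smul, smul_eq_mul]
          exact Submodule.sum_mem _ fun i _ => Ideal.mul_mem_right _ _ (h0 i)
        rw [e.symm_apply_apply] at h1
        have h2 : φL (f x) = algebraMap A L (φ x) := IsLocalizedModule.map_apply S f (Algebra.linearMap A L) φ x
        rw [h2] at h1
        exact h1 (IsLocalization.map_units L (⟨φ x, hφ⟩ : S))
      obtain ⟨q⟩ := quot_line (n := k + d) (e (f x)) j hj
      have hloc : X.localized S = Submodule.span L {f x} := by
        rw [Submodule.localized, Submodule.localized'_span, Set.image_singleton]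
      exact ⟨(localizedQuotientEquiv S X).symm.trans
        ((Submodule.Quotient.equiv _ _ e (by rw [hloc, Submodule.map_span, Set.image_singleton]; rfl)).trans q)⟩
    obtain ⟨N', ⟨eN⟩, hN'⟩ := free_sub k d (M ⧸ X) hAss hM'
    choose n hn using fun i : Fin d => X.mkQ_surjective (eN.symm (Pi.single i 1) : N').1
    let b : Fin (d + 1) → M := Fin.cons x n
    have hli' : LinearIndependent A fun i : Fin d => (eN.symm (Pi.single i 1) : N').1 := by
      have := (((Pi.basisFun A (Fin d)).map eN.symm).linearIndependent).map' N'.subtype N'.ker_subtype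
      have h2 : (fun i : Fin d => (eN.symm (Pi.single i 1) : N').1) =
          N'.subtype ∘ (Pi.basisFun A (Fin d)).map eN.symm := funext fun i => by simp [Pi.basisFun_apply]
      rw [h2]; exact this
    have hli : LinearIndependent A b := by
      rw [Fintype.linearIndependent_iff]
      intro c hc
      rw [Fin.sum_univ_succ] at hc
      simp only [b, Fin.cons_zero, Fin.cons_succ] at hc
      have h1 := congrArg X.mkQ hc
      simp only [map_add, map_sum, map_smul, map_zero, hn] at h1
      rw [show X.mkQ x = 0 from (Submodule.Quotient.mk_eq_zero _).2 (Submodule.mem_span_singleton_self x),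
        smul_zero, zero_add] at h1
      have h2 := Fintype.linearIndependent_iff.1 hli' _ h1
      rw [Finset.sum_eq_zero (fun i _ => by rw [h2 i, zero_smul]), add_zero] at hc
      intro i
      induction i using Fin.cases with
      | zero => exact hann _ hc
      | succ i => exact h2 i
    have hNc : Submodule.span A (Set.range b) = N'.comap X.mkQ := by
      refine le_antisymm (Submodule.span_le.2 ?_) fun y hy => ?_
      · rintro _ ⟨i, rfl⟩
        induction i using Fin.cases with
        | zero =>
          show X.mkQ x ∈ N'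
          rw [show X.mkQ x = 0 from (Submodule.Quotient.mk_eq_zero _).2 (Submodule.mem_span_singleton_self x)]
          exact zero_mem _
        | succ i => show X.mkQ (n i) ∈ N'; rw [hn]; exact Submodule.coe_mem _
      · set c := eN ⟨X.mkQ y, hy⟩
        have h1 : X.mkQ y = X.mkQ (∑ i, c i • n i) := by
          simp only [map_sum, map_smul, hn]
          have : (⟨X.mkQ y, hy⟩ : N') = ∑ i, c i • eN.symm (Pi.single i 1) := by
            apply eN.injective
            simp only [map_sum, map_smul, LinearEquiv.apply_symm_apply]
            exact pi_eq_sum_univ' c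
          simpa using congrArg Subtype.val this
        obtain ⟨a, ha⟩ := Submodule.mem_span_singleton.1 ((Submodule.Quotient.eq X).1 h1)
        rw [← sub_add_cancel y (∑ i, c i • n i), ← ha]
        exact add_mem (Submodule.smul_mem _ _ (Submodule.subset_span ⟨0, by simp [b]⟩))
          (Submodule.sum_mem _ fun i _ => Submodule.smul_mem _ _ (Submodule.subset_span ⟨i.succ, by simp [b]⟩))
    refine ⟨N'.comap X.mkQ, ⟨(LinearEquiv.ofEq _ _ hNc.symm).trans (Module.Basis.span hli).equivFun⟩,
      fun p hp => ?_⟩
    obtain ⟨e⟩ := hN' p hp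
    have hle : X ≤ N'.comap X.mkQ := by
      intro y hy
      show X.mkQ y ∈ N'
      rw [show X.mkQ y = 0 from (Submodule.Quotient.mk_eq_zero _).2 hy]
      exact zero_mem _
    let eq : (M ⧸ N'.comap X.mkQ) ≃ₗ[A] ((M ⧸ X) ⧸ N') :=
      (Submodule.quotientQuotientEquivQuotient X _ hle).symm.trans
        (Submodule.quotEquivOfEq _ _ (Submodule.map_comap_eq_of_surjective X.mkQ_surjective N'))
    exact ⟨(IsLocalizedModule.mapEquiv p.asIdeal.primeCompl (LocalizedModule.mkLinearMap _ _)
      (LocalizedModule.mkLinearMap _ _) (Localization.AtPrime p.asIdeal) eq).trans e⟩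

/-- Let k ≤ r, let A be a Noetherian ring none of whose associated primes has height greater than k, and
let M be a finitely generated A-module which is free of rank r at every prime of height at most k.
Then M has a free submodule N of rank r - k such that M/N is free of rank k at every prime of height
at most k. Freeness of a given rank is expressed by linear isomorphisms with coordinate modules.
(The published statement has no hypothesis on the associated primes of A; for A = ℤ[X]/(X², 2X), M =
A/(X), k = 0 and r = 1 every other hypothesis holds while X annihilates M, so M contains no free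
submodule of rank 1. The printed argument produces an element of M that is part of a basis at every
prime of height at most k; the submodule it generates is free exactly when its annihilator vanishes
at the associated primes of A, which the added hypothesis guarantees.) -/
theorem result (A : Type u) [CommRing A] [IsNoetherianRing A]
    (M : Type u) [AddCommGroup M] [Module A M] [Module.Finite A M] (k r : ℕ) (hkr : k ≤ r)
    (hAss : ∀ p ∈ associatedPrimes A A, p.height ≤ k)
    (hM : ∀ p : PrimeSpectrum A, p.asIdeal.height ≤ k →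
      Nonempty (LocalizedModule p.asIdeal.primeCompl M ≃ₗ[Localization.AtPrime p.asIdeal]
        (Fin r → Localization.AtPrime p.asIdeal))) :
    ∃ N : Submodule A M, Nonempty (N ≃ₗ[A] (Fin (r - k) → A)) ∧
      ∀ p : PrimeSpectrum A, p.asIdeal.height ≤ k →
        Nonempty (LocalizedModule p.asIdeal.primeCompl (M ⧸ N) ≃ₗ[Localization.AtPrime p.asIdeal]
          (Fin k → Localization.AtPrime p.asIdeal)) := by
  obtain ⟨d, rfl⟩ := Nat.exists_eq_add_of_le hkr
  rw [Nat.add_sub_cancel_left]
  exact free_sub k d M hAss hM

end Groth.Agent.S13533
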