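import Groth.Statements.S13535
import Groth.Agent.Lib.ProjAffine51.Basic
import Groth.Agent.Lib.ZarCoh.Morph
import Groth.Agent.Lib.CohDelta.IdealMul.FinPush
import Groth.Agent.Lib.Curves.LES

set_option autoImplicit false
universe u
open CategoryTheory CategoryTheory.Limits AlgebraicGeometry
open ResProp

namespace Groth.Agent.S13535

/-- Let X and Y be proper over a Noetherian ring A and let f : Y ⟶ X be a finite A-morphism. If a
sequence (E_n) of coherent modules on X is cohomologically d-ample (d a positive integer), meaning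
that for every coherent F the groups H^i(X, F ⊗ E_n) vanish for all i ≥ d + 1 and all large n, then
so is the sequence of pullbacks (f^*E_n) on Y. -/
theorem result (A : Type u) [CommRing A] [IsNoetherianRing A]
    {X Y : Scheme.{u}} (pX : X ⟶ Spec (CommRingCat.of A)) (pY : Y ⟶ Spec (CommRingCat.of A))
    [IsProper pX] [IsProper pY] (f : Y ⟶ X) (hf : f ≫ pX = pY) [IsFinite f]
    (d : ℕ) (hd : 0 < d) (E : ℕ → X.Modules) (hE : ∀ n, Coh.IsCoh (E n))
    (hamp : ∀ F : X.Modules, Coh.IsCoh F → ∃ n₀ : ℕ, ∀ n : ℕ, n₀ ≤ n → ∀ i : ℕ, d + 1 ≤ i →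
        Subsingleton (Coh.HH X (CohB1.tensorMod F (E n)) i)) :
    ∀ F : Y.Modules, Coh.IsCoh F → ∃ n₀ : ℕ, ∀ n : ℕ, n₀ ≤ n → ∀ i : ℕ, d + 1 ≤ i →
        Subsingleton (Coh.HH Y (CohB1.tensorMod F ((Scheme.Modules.pullback f).obj (E n))) i) := by
  intro F hF
  haveI : IsLocallyNoetherian X := LocallyOfFiniteType.isLocallyNoetherian pX
  haveI : IsLocallyNoetherian Y := LocallyOfFiniteType.isLocallyNoetherian pY
  obtain ⟨n₀, hn₀⟩ := hamp _ (Lib.CohDelta.IdealMul.FinPush.isCoh_push f hF)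
  refine ⟨n₀, fun n hn i hi => ?_⟩
  haveI := hF.1
  haveI := (hE n).1
  haveI := Lib.QCoh.Pullback.isQCoh_pullback f (E n)
  let G := CohB1.tensorMod F ((Scheme.Modules.pullback f).obj (E n))
  haveI : G.IsQuasicoherent := Lib.TensorMod.TensorQCoh.isQCoh_tensorMod _ _
  let e : (Coh.push f).obj G ≅ CohB1.tensorMod ((Coh.push f).obj F) (E n) :=
    (Coh.push f).mapIso (Lib.TensorMod.Basic.comm _ _) ≪≫ (Lib.ProjAffine51.projIso f (E n) F).symm ≪≫
      Lib.TensorMod.Basic.comm _ _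
  letI : X.Over (Spec (CommRingCat.of A)) := ⟨pX⟩
  haveI := hn₀ n hn i hi
  haveI : Subsingleton (Coh.HH X ((Coh.push f).obj G) i) :=
    (Lib.Curves.LES.isoK A e i).toEquiv.subsingleton
  exact (Lib.ZarCoh.Morph.affineEquiv f G i).symm.toEquiv.subsingleton

end Groth.Agent.S13535
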