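import Groth.Statements.S13536
import Groth.Agent.Lib.Devissage.Localization
import Groth.Agent.Lib.CohDelta.Filtration
import Groth.Agent.Lib.Curves.LES
import Groth.Agent.Lib.ZarCoh.Morph

set_option autoImplicit false
set_option linter.style.haveILetI false
universe u
open CategoryTheory CategoryTheory.Limits AlgebraicGeometry
open ResProp

namespace Groth.Agent.S13536

open Groth.Agent.Lib Groth.Agent.Lib.Curves.LES

/-- Cohomology of an isomorphic module. -/
noncomputable def isoH {X : Scheme.{u}} {M N : X.Modules} (e : M ≅ N) (i : ℕ) :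
    Coh.HH X M i ≃+ Coh.HH X N i where
  toFun := Sheaf.H.map (toAbMap e.hom) i
  invFun := Sheaf.H.map (toAbMap e.inv) i
  left_inv x := by
    rw [← Sheaf.H.map_comp_apply, ← Functor.map_comp, Iso.hom_inv_id, CategoryTheory.Functor.map_id,
      Sheaf.H.map_id_apply]
  right_inv x := by
    rw [← Sheaf.H.map_comp_apply, ← Functor.map_comp, Iso.inv_hom_id, CategoryTheory.Functor.map_id,
      Sheaf.H.map_id_apply]
  map_add' := map_add _

theorem subsingleton_mid {X : Scheme.{u}} {S : ShortComplex X.Modules} (hS : S.ShortExact) (i : ℕ)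
    [Subsingleton (Coh.HH X S.X₁ i)] [Subsingleton (Coh.HH X S.X₃ i)] :
    Subsingleton (Coh.HH X S.X₂ i) := by
  refine subsingleton_of_forall_eq 0 fun x => ?_
  obtain ⟨y, rfl⟩ := (postcomp_exact₂ (cst X) (shortExact_abSES hS) i x).mp
    (Subsingleton.elim (α := Coh.HH X S.X₃ i) _ _)
  exact (congrArg _ (Subsingleton.elim (α := Coh.HH X S.X₁ i) y 0)).trans (map_zero _)

/-- Coherent modules supported on `Z` have no cohomology above `k`. -/
theorem subsingleton_of_support {X Z : Scheme.{u}} [IsNoetherian X] (ι : Z ⟶ X) [IsClosedImmersion ι]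
    (k : ℕ) (hcd : ∀ G : Z.Modules, Coh.IsQCoh G → ∀ i : ℕ, k + 1 ≤ i → Subsingleton (Coh.HH Z G i))
    (D : X.Modules) (hD : Coh.IsCoh D) (hsupp : CohB1.support D ⊆ Set.range ι) (i : ℕ)
    (hi : k + 1 ≤ i) : Subsingleton (Coh.HH X D i) := by
  refine CohDelta.Filtration.devissage (fun M => Subsingleton (Coh.HH X M i))
    ⟨Set.range ι, ι.isClosedEmbedding.isClosed_range⟩ ?_ ?_ ?_ ?_ D ⟨hD, hsupp⟩
  · intro M hM
    haveI : Subsingleton (Coh.HH X M i) := by
      refine subsingleton_of_forall_eq 0 fun x => ?_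
      refine (Abelian.Ext.comp_mk₀_id x).symm.trans ?_
      rw [((F X).map_isZero hM).eq_of_src (𝟙 ((F X).obj M)) 0, Abelian.Ext.mk₀_zero, Abelian.Ext.comp_zero]
    exact this
  · rintro M N ⟨e⟩ h
    exact (isoH e i).symm.toEquiv.subsingleton
  · intro S hS _ _ _ h₁ h₃
    exact subsingleton_mid hS i
  · intro W w hw hW hsub I j _ hI _
    haveI := hw
    haveI := hW
    haveI : IsIso (pullback.fst w ι) := by
      haveI : Surjective (pullback.fst w ι) := ⟨fun x => by
        obtain ⟨z, hz⟩ := hsub ⟨x, rfl⟩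
        obtain ⟨t, ht, -⟩ := Scheme.Pullback.exists_preimage_pullback (f := w) (g := ι) x z hz.symm
        exact ⟨t, ht⟩⟩
      exact isIso_of_isClosedImmersion_of_surjective _
    let g : W ⟶ Z := inv (pullback.fst w ι) ≫ pullback.snd w ι
    have hg : g ≫ ι = w := by
      rw [Category.assoc, ← pullback.condition, IsIso.inv_hom_id_assoc]
    haveI : IsAffineHom g := by
      haveI : IsClosedImmersion (g ≫ ι) := hg.symm ▸ hw
      haveI := IsClosedImmersion.of_comp g ι
      infer_instance
    haveI : I.IsQuasicoherent := hI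
    let G := (Coh.push g).obj I
    haveI : G.IsQuasicoherent := QCoh.Pushforward.isQCoh_pushforward g (M := I)
    haveI := hcd G inferInstance i hi
    haveI : Subsingleton (Coh.HH X ((Coh.push ι).obj G) i) :=
      (ZarCoh.Morph.affineEquiv ι G i).toEquiv.subsingleton
    let e : (Coh.push ι).obj G ≅ (Coh.push w).obj I := (Scheme.Modules.pushforwardComp g ι).app I ≪≫
      (Scheme.Modules.pushforwardCongr hg).app I
    exact (isoH e i).symm.toEquiv.subsingleton

/-- Cohomology maps along a morphism which is invertible off `Z` are bijective in high degrees. -/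
theorem bijective_map {X Z : Scheme.{u}} [IsNoetherian X] (ι : Z ⟶ X) [IsClosedImmersion ι]
    (k : ℕ) (hcd : ∀ G : Z.Modules, Coh.IsQCoh G → ∀ i : ℕ, k + 1 ≤ i → Subsingleton (Coh.HH Z G i))
    {U : Scheme.{u}} (j : U ⟶ X) [IsOpenImmersion j] (hU : Set.range j = (Set.range ι)ᶜ)
    {H G : X.Modules} (hH : Coh.IsCoh H) (hG : Coh.IsCoh G) (p : H ⟶ G)
    [IsIso ((Scheme.Modules.restrictFunctor j).map p)] (i : ℕ) (hi : k + 2 ≤ i) :
    Function.Bijective (Sheaf.H.map (toAbMap p) i) := by
  haveI := Devissage.Localization.preservesFiniteColimits_restrict j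
  haveI := hH.1
  haveI := hG.1
  have hv : ∀ D : X.Modules, Coh.IsCoh D → IsZero ((Scheme.Modules.restrictFunctor j).obj D) →
      ∀ m, k + 1 ≤ m → Subsingleton (Coh.HH X D m) := by
    intro D hD hD0 m hm
    refine subsingleton_of_support ι k hcd D hD (fun x hx => ?_) m hm
    by_contra h
    obtain ⟨w, rfl⟩ : x ∈ Set.range j := by rw [hU]; exact h
    have hw : w ∈ CohB1.support (D.restrict j) := by
      rw [Modules.Support.support_restrict j D]
      exact hx
    rw [Modules.Support.support_eq_empty_iff.mpr hD0] at hw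
    exact hw
  have hK0 : IsZero ((Scheme.Modules.restrictFunctor j).obj (kernel p)) :=
    IsZero.of_iso (IsZero.of_iso (isZero_zero _) (kernel.ofMono _)) (PreservesKernel.iso _ p)
  have hC0 : IsZero ((Scheme.Modules.restrictFunctor j).obj (cokernel p)) :=
    IsZero.of_iso (IsZero.of_iso (isZero_zero _) (cokernel.ofEpi _)) (PreservesCokernel.iso _ p)
  let eC : cokernel (Abelian.image.ι p) ≅ cokernel p :=
    ((cokernelIsoOfEq (Abelian.image.fac p)).symm ≪≫ cokernelEpiComp _ _).symm
  have hKc := CohBasics.Closure.isCoh_kernel p hH hG.1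
  have hCc := CohBasics.Closure.isCoh_of_iso eC.symm (CohBasics.Closure.isCoh_cokernel p hH.1 hG)
  have hC0' := hC0.of_iso ((Scheme.Modules.restrictFunctor j).mapIso eC)
  have h1 := Devissage.Localization.shortExact_image p
  have h2 := Devissage.Basic.exists_ses_mono (Abelian.image.ι p)
  have b1 : Function.Bijective (Sheaf.H.map (toAbMap (Abelian.factorThruImage p)) i) := by
    refine ⟨(injective_iff_map_eq_zero _).mpr fun x hx => ?_, fun x => ?_⟩
    · obtain ⟨y, rfl⟩ := (postcomp_exact₂ (cst X) (shortExact_abSES h1) i x).mp hx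
      haveI := hv _ hKc hK0 i (by omega)
      exact (congrArg _ (Subsingleton.elim (α := Coh.HH X (kernel p) i) y 0)).trans (map_zero _)
    · haveI := hv _ hKc hK0 (i + 1) (by omega)
      exact (postcomp_exact₃ (cst X) (shortExact_abSES h1) i (i + 1) rfl x).mp
        (Subsingleton.elim (α := Coh.HH X (kernel p) (i + 1)) _ _)
  have b2 : Function.Bijective (Sheaf.H.map (toAbMap (Abelian.image.ι p)) i) := by
    refine ⟨(injective_iff_map_eq_zero _).mpr fun x hx => ?_, fun x => ?_⟩
    · obtain ⟨y, rfl⟩ :=
        (postcomp_exact₁ (cst X) (shortExact_abSES h2) (i - 1) i (by omega) x).mp hx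
      haveI := hv _ hCc hC0' (i - 1) (by omega)
      exact (congrArg _ (Subsingleton.elim (α := Coh.HH X (cokernel (Abelian.image.ι p)) (i - 1))
        y 0)).trans (map_zero _)
    · haveI := hv _ hCc hC0' i (by omega)
      exact (postcomp_exact₂ (cst X) (shortExact_abSES h2) i x).mp
        (Subsingleton.elim (α := Coh.HH X (cokernel (Abelian.image.ι p)) i) _ _)
  have e : ∀ x, Sheaf.H.map (toAbMap p) i x = Sheaf.H.map (toAbMap (Abelian.image.ι p)) i
      (Sheaf.H.map (toAbMap (Abelian.factorThruImage p)) i x) := fun x => by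
    rw [← Sheaf.H.map_comp_apply, ← Functor.map_comp, Abelian.image.fac]
  have e' : ⇑(Sheaf.H.map (toAbMap p) i) = _ := funext e
  rw [e']
  exact b2.comp b1

/-- On a Noetherian scheme X let Z be a closed subscheme of cohomological dimension at most k (every
quasi-coherent module on Z has zero cohomology in degrees ≥ k + 1) and let F, F' be coherent modules
which are isomorphic on the open complement of Z. Then H^i(X, F) and H^i(X, F') are isomorphic for
all i ≥ k + 2 (existence of an additive isomorphism only; the identification depends on choices). -/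
theorem result (X : Scheme.{u}) [IsNoetherian X]
    {Z : Scheme.{u}} (ι : Z ⟶ X) [IsClosedImmersion ι] (k : ℕ)
    (hcd : ∀ G : Z.Modules, Coh.IsQCoh G → ∀ i : ℕ, k + 1 ≤ i → Subsingleton (Coh.HH Z G i))
    (U : X.Opens) (hU : (U : Set X) = (Set.range ι.base)ᶜ)
    (F F' : X.Modules) (hF : Coh.IsCoh F) (hF' : Coh.IsCoh F')
    (hiso : Nonempty (F.restrict U.ι ≅ F'.restrict U.ι)) (i : ℕ) (hi : k + 2 ≤ i) :
    Nonempty (Coh.HH X F i ≃+ Coh.HH X F' i) := by
  haveI : IsLocallyNoetherian Z := LocallyOfFiniteType.isLocallyNoetherian ι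
  let j := U.ι
  obtain ⟨φ⟩ := hiso
  let R := Scheme.Modules.restrictFunctor j
  let η := (Scheme.Modules.restrictAdjunction j).unit
  let a := η.app F ≫ (Scheme.Modules.pushforward j).map φ.hom
  let b : F' ⟶ (Scheme.Modules.pushforward j).obj (R.obj F') := η.app F'
  haveI : IsIso (R.map b) := Devissage.Localization.isIso_map_unit j F'
  haveI : IsIso (R.map a) := by
    haveI := Devissage.Localization.isIso_map_unit j F
    rw [Functor.map_comp]
    infer_instance
  have hq : Coh.IsQCoh ((Scheme.Modules.pushforward j).obj (R.obj F')) :=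
    Devissage.Localization.isQCoh_push j (Devissage.Localization.isCoh_restrict j hF').1
  have hH : Coh.IsCoh (pullback a b) := CohBasics.Closure.isCoh_pullback a b hF hF' hq
  haveI : PreservesLimit (cospan a b) R := inferInstance
  have hsq := (IsPullback.of_hasPullback a b).map R
  haveI : IsIso (R.map (pullback.fst a b)) := hsq.isIso_fst_of_isIso
  haveI : IsIso (R.map (pullback.snd a b)) := hsq.isIso_snd_of_isIso
  have hr : Set.range j = (Set.range ι)ᶜ := (Scheme.Opens.range_ι U).trans hU
  let e₁ := AddEquiv.ofBijective _ (bijective_map ι k hcd j hr hH hF (pullback.fst a b) i hi)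
  let e₂ := AddEquiv.ofBijective _ (bijective_map ι k hcd j hr hH hF' (pullback.snd a b) i hi)
  exact ⟨e₁.symm.trans e₂⟩

end Groth.Agent.S13536
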