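import Groth.Statements.S13540
import Groth.Agent.H84.CohAmple.Van
import Groth.Agent.H84.CohAmple.Acyc
import Groth.Agent.H84.CohAmple.Cmp
import Groth.Agent.S13532
import Groth.Agent.Lib.AlgSpDecent.Restrict

set_option autoImplicit false
set_option linter.style.haveILetI false
universe u
open CategoryTheory CategoryTheory.Limits AlgebraicGeometry
open ResProp

namespace Groth.Agent.S13540

open Groth.Agent.Lib Groth.Agent.H84.CohAmple TopologicalSpace

/-- A point whose local ring has dimension at most zero is a generic point. -/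
theorem eq_of_specializes {X : Scheme.{u}} {x : X} (h : ringKrullDim (X.presheaf.stalk x) ≤ 0)
    (w : X) (hw : w ⤳ x) : w = x := by
  haveI : Ring.KrullDimLE 0 (X.presheaf.stalk x) := Ring.krullDimLE_iff.2 (by simpa using h)
  have h1 : w ∈ Set.range (X.fromSpecStalk x) := by
    rw [Scheme.range_fromSpecStalk]; exact hw
  obtain ⟨q, rfl⟩ := h1
  conv_rhs => rw [← Scheme.fromSpecStalk_closedPoint (x := x)]
  exact congrArg _ (PrimeSpectrum.ext
    (IsLocalRing.eq_maximalIdeal q.2.isMaximal'))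

/-- The union of the opens inside `V` over which `f` is finite. -/
noncomputable def finOpen {X Y : Scheme.{u}} (f : Y ⟶ X) (V : X.Opens) : X.Opens :=
  ⨆ W : {W : X.Opens // W ≤ V ∧ IsFinite (f ∣_ W)}, W.1

theorem finOpen_le {X Y : Scheme.{u}} (f : Y ⟶ X) (V : X.Opens) : finOpen f V ≤ V :=
  iSup_le fun W => W.2.1

theorem isFinite_finOpen {X Y : Scheme.{u}} (f : Y ⟶ X) (V : X.Opens) :
    IsFinite (f ∣_ finOpen f V) := by
  exact AlgSpDecent.Restrict.isFinite_restrict_of_cover f
    (fun W : {W : X.Opens // W ≤ V ∧ IsFinite (f ∣_ W)} => W.1) (fun W => W.2.2) le_rfl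

theorem isFinite_of_le {X Y : Scheme.{u}} (f : Y ⟶ X) {W W' : X.Opens} (h : W' ≤ W)
    (hW : IsFinite (f ∣_ W)) : IsFinite (f ∣_ W') :=
  MorphismProperty.of_isPullback (P := @IsFinite) (Exchange.RelVanish.isPullback_restrict_of_le f h) hW

theorem isIso_of_le {X Y : Scheme.{u}} (f : Y ⟶ X) {W W' : X.Opens} (h : W' ≤ W)
    (hW : IsIso (f ∣_ W)) : IsIso (f ∣_ W') :=
  MorphismProperty.of_isPullback (P := MorphismProperty.isomorphisms Scheme.{u})
    (Exchange.RelVanish.isPullback_restrict_of_le f h) hW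

/-- Transport of an isomorphism of restrictions to a smaller open. -/
noncomputable def restrictLE {X : Scheme.{u}} {M M' : X.Modules} {W W' : X.Opens} (h : W' ≤ W)
    (e : M.restrict W.ι ≅ M'.restrict W.ι) : M.restrict W'.ι ≅ M'.restrict W'.ι :=
  (Scheme.Modules.restrictFunctorCongr (X.homOfLE_ι h)).symm.app M ≪≫
    (Scheme.Modules.restrictFunctorComp (X.homOfLE h) W.ι).app M ≪≫
    (Scheme.Modules.restrictFunctor (X.homOfLE h)).mapIso e ≪≫
    ((Scheme.Modules.restrictFunctorComp (X.homOfLE h) W.ι).app M').symm ≪≫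
    (Scheme.Modules.restrictFunctorCongr (X.homOfLE_ι h)).app M'

set_option maxHeartbeats 600000 in
/-- Let f : Y ⟶ X be a proper birational morphism (an isomorphism over a dense open with dense preimage)
of d-dimensional schemes proper over a Noetherian ring A, with Y carrying an ample invertible module
L. If a coherent module F on X pulls back to a module isomorphic to L over the preimage of an open V
of X containing all points of codimension at most 1, then F is cohomologically (d-1)-ample: for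
every coherent G on X the groups H^i(X, G ⊗ F^n) (tensor powers) vanish for all i ≥ d and all large
n. Here d ≥ 1: for d = 0 the vanishing would include degree 0 and fails when X = Y is the spectrum
of a field and F = L is the structure sheaf; (d-1)-ampleness presupposes d ≥ 1. -/
theorem result (A : Type u) [CommRing A] [IsNoetherianRing A]
    {X Y : Scheme.{u}} (pX : X ⟶ Spec (CommRingCat.of A)) (pY : Y ⟶ Spec (CommRingCat.of A))
    [IsProper pX] [IsProper pY] (f : Y ⟶ X) (hf : f ≫ pX = pY) [IsProper f]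
    (U : X.Opens) (hU : Dense (U : Set X)) (hU' : Dense ((f ⁻¹ᵁ U : Y.Opens) : Set Y)) (hiso : IsIso (f ∣_ U))
    (d : ℕ) (hd : 1 ≤ d) (hX : topologicalKrullDim X = d) (hY : topologicalKrullDim Y = d)
    (L : Y.Modules) (hL : CohB1.IsAmple L)
    (V : X.Opens) (hV : ∀ y : X, ringKrullDim (X.presheaf.stalk y) ≤ 1 → y ∈ V)
    (F : X.Modules) (hF : Coh.IsCoh F)
    (hFL : Nonempty (((Scheme.Modules.pullback f).obj F).restrict (f ⁻¹ᵁ V).ι ≅ L.restrict (f ⁻¹ᵁ V).ι)) :
    ∀ G : X.Modules, Coh.IsCoh G → ∃ n₀ : ℕ, ∀ n : ℕ, n₀ ≤ n → ∀ i : ℕ, d ≤ i →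
      Subsingleton (Coh.HH X (CohB1.tensorMod G (CohB1.tensorPow F n)) i) := by
  letI : X.Over (Spec (CommRingCat.of A)) := ⟨pX⟩
  haveI : IsProper (X ↘ Spec (CommRingCat.of A)) := ‹IsProper pX›
  haveI : IsNoetherian X := Groth.Agent.H78.Existence.AmpleVanish.isNoetherian_of_proper A
  letI : Y.Over (Spec (CommRingCat.of A)) := ⟨pY⟩
  haveI : IsProper (Y ↘ Spec (CommRingCat.of A)) := ‹IsProper pY›
  haveI : IsNoetherian Y := Groth.Agent.H78.Existence.AmpleVanish.isNoetherian_of_proper A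
  let V₁ := finOpen f V
  let U₁ : X.Opens := U ⊓ V₁
  haveI : IsFinite (f ∣_ V₁) := isFinite_finOpen f V
  have hV₁ : ∀ x : X, ringKrullDim (X.presheaf.stalk x) ≤ 1 → x ∈ V₁ := fun x hx => by
    obtain ⟨W, hxW, hW⟩ := exists_isFinite_morphismRestrict_of_finite_preimage_singleton f x
      (Groth.Agent.S13532.result f U hU hU' hiso x hx)
    exact Opens.mem_iSup.2 ⟨⟨W ⊓ V, inf_le_right, isFinite_of_le f inf_le_left hW⟩, hxW, hV x hx⟩
  have hV2 : ∀ x ∉ V₁, ((2 : ℕ) : WithBot ℕ∞) ≤ ringKrullDim (X.presheaf.stalk x) := fun x hx => by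
    have h := ENat.WithBot.add_one_le_iff.2
      (show ((1 : ℕ) : WithBot ℕ∞) < ringKrullDim (X.presheaf.stalk x) from
        not_le.1 fun h => hx (hV₁ x (by simpa using h)))
    simpa [one_add_one_eq_two] using h
  have hU1 : ∀ x ∉ U₁, ((1 : ℕ) : WithBot ℕ∞) ≤ ringKrullDim (X.presheaf.stalk x) := fun x hx => by
    have h := ENat.WithBot.add_one_le_iff.2
      (show ((0 : ℕ) : WithBot ℕ∞) < ringKrullDim (X.presheaf.stalk x) from not_le.1 fun h0 => by
        have h0' : ringKrullDim (X.presheaf.stalk x) ≤ 0 := by simpa using h0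
        exact hx ⟨AlgSpDecent.GenDense.gen_mem_of_dense U.2 hU (eq_of_specializes h0'),
          hV₁ x (h0'.trans (by simp))⟩)
    simpa using h
  let h := f ∣_ V₁
  let U₀ : (V₁ : Scheme.{u}).Opens := V₁.ι ⁻¹ᵁ U
  haveI : IsIso (h ∣_ U₀) := by
    have h1 : IsIso (f ∣_ (V₁.ι ''ᵁ U₀)) := isIso_of_le f (Scheme.Hom.image_preimage_le _ _) hiso
    exact (MorphismProperty.arrow_mk_iso_iff (MorphismProperty.isomorphisms Scheme.{u})
      (morphismRestrictRestrict f V₁ U₀)).2 h1
  haveI : IsNoetherian (V₁ : Scheme.{u}) := Devissage.Localization.isNoetherian_open V₁.ι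
  haveI : IsNoetherian (f ⁻¹ᵁ V₁ : Scheme.{u}) := Devissage.Localization.isNoetherian_open (f ⁻¹ᵁ V₁).ι
  intro G hG
  obtain ⟨NV, ψ, hNV, hψ⟩ := Push.exists_push_to h U₀ (Devissage.Localization.isCoh_restrict V₁.ι hG)
  obtain ⟨N, hN, ⟨eN⟩⟩ := Devissage.Localization.exists_extension (f ⁻¹ᵁ V₁).ι hNV
  obtain ⟨n₀, hn₀⟩ := Acyc.exists_subsingleton_push A pX pY f hf hL hN
  refine ⟨n₀, fun n hn i hi => ?_⟩
  obtain ⟨e⟩ := hFL
  let P := CohB1.tensorMod N (CohB1.tensorPow L n)
  have hLn := Ample.GG.isCoh_of_isInvertible (TensorMod.Invertible.isInvertible_tensorPow hL.1 n)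
  have hP : Coh.IsCoh P := RefHull.Tensor.isCoh_tensorMod hN hLn
  have hA : Coh.IsCoh ((Coh.push f).obj P) := Cyc.PP.Push.isCoh_push f hP
  have hFn : ∀ m, Coh.IsCoh (CohB1.tensorPow F m) := fun m => by
    induction m with
    | zero => exact Snapper.Twist.isCoh_structureModule X
    | succ m ih => exact RefHull.Tensor.isCoh_tensorMod ih hF
  have hM : Coh.IsCoh (CohB1.tensorMod G (CohB1.tensorPow F n)) :=
    RefHull.Tensor.isCoh_tensorMod hG (hFn n)
  haveI : Subsingleton (Coh.HH X ((Coh.push f).obj P) i) := by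
    obtain ⟨q, rfl⟩ := Nat.exists_eq_add_of_le (le_trans hd hi)
    rw [Nat.add_comm]
    exact hn₀ n hn q
  -- the comparison over `V₁`
  let eL : L.restrict (f ⁻¹ᵁ V₁).ι ≅ (Scheme.Modules.pullback h).obj (F.restrict V₁.ι) :=
    (restrictLE (f.preimage_mono (finOpen_le f V)) e).symm ≪≫ Cmp.pullRestrict f V₁ F
  haveI : (CohB1.tensorPow (F.restrict V₁.ι) n).IsQuasicoherent :=
    (CohBasics.Closure.isCoh_of_iso (Ample.Pow.restrictPow V₁.ι F n)
      (Devissage.Localization.isCoh_restrict V₁.ι (hFn n))).1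
  haveI := hNV.1
  obtain ⟨φ, hφ⟩ := Cmp.exists_map f V₁ (U := U₀) G F ψ hψ eN eL n
  exact Van.subsingleton_top hd hX.le (U := U₁) (V := V₁) inf_le_right hU1 hV2 hA hM φ
    (fun z hz => hφ z hz.1) i hi

end Groth.Agent.S13540
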