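import Groth.Statements.S13541
import Groth.Agent.H81.ResEmbed.Spec
import Groth.Agent.Lib.QAffFactor.Basic
import Groth.Agent.Lib.Modules.AffineSections

set_option autoImplicit false
set_option linter.style.haveILetI false
universe u
open CategoryTheory CategoryTheory.Limits AlgebraicGeometry
open ResProp
open Opposite

namespace Groth.Agent.S13541

/-- In the case of schemes, a Noetherian scheme S has the resolution property exactly when each affine
finite-type morphism X ⟶ S factors over S through a closed immersion of X into a vector bundle V(E)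
= Spec Sym(E), E a finite locally free module on S (V(E) is given as the relative spectrum of a
quasi-coherent algebra A with a map E ⟶ A making A the symmetric algebra of E). (The published
statement is for Noetherian algebraic stacks; this row is the case of schemes.) -/
theorem result (S : Scheme.{u}) [IsNoetherian S] :
    PerfAux.HasResolutionProperty S ↔
      ∀ (X : Scheme.{u}) (f : X ⟶ S) [IsAffineHom f] [LocallyOfFiniteType f],
        ∃ (E : S.Modules) (A : RelSpec.QCAlg S) (j : E ⟶ A.toModule) (i : X ⟶ A.spec),
          Coh.IsQCoh E ∧ FlatMod.IsFinLocFree E ∧ RelSpec.IsSymAlg E A j ∧ IsClosedImmersion i ∧ i ≫ A.π = f := by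
  open Agent.Lib Agent.H81.ResEmbed in
  constructor
  · intro hres X f _ _
    obtain ⟨E₀, j, -, hqc, hft, hadj⟩ :=
      QCAlgSub.Sections.exists_generating (RelSpec.QCAlg.directImage f) (Spec.finiteType_directImage (f := f))
    haveI := hqc
    obtain ⟨V, π, hV, hπ⟩ := hres E₀ hqc hft
    haveI : V.IsQuasicoherent := Modules.AffineSections.isQCoh_of_isFinLocFree hV
    obtain ⟨i, hi, hi'⟩ := Spec.exists_closedImmersion (SymAlg.Exists.liftHom V (π ≫ j))
      (Spec.surjective_liftHom (π ≫ j) fun U hU =>
        Spec.adj_comp_eq_top π j (QCoh.Closure.sections_surjective_of_epi π hU) (hadj ⟨U, hU⟩))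
    exact ⟨V, SymAlg.Exists.alg V, SymAlg.Exists.jmap V, i, inferInstance, hV, SymAlg.Exists.isSymAlg V, hi, hi'⟩
  · intro h M hM hft
    haveI : M.IsQuasicoherent := hM
    haveI := Spec.isAffineHom_π (SymAlg.Exists.alg M)
    haveI := QAffFactor.locallyOfFiniteType_π (SymAlg.Exists.alg M)
      fun U hU => Spec.finiteType_sym hft ⟨U, hU⟩
    obtain ⟨E, A, j, i, hE, hflf, hA, hi, hi'⟩ := h _ (SymAlg.Exists.alg M).π
    haveI : E.IsQuasicoherent := hE
    obtain ⟨ψ, hψ⟩ := Spec.exists_surjective i hi'
    obtain ⟨π, hπ⟩ := Spec.exists_epi hA (ψ ≫ (QCAlgPush.gammaIso (SymAlg.Exists.alg M)).hom) fun U hU => by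
      haveI := RelSpecBasics.Gamma.isIso_gammaMap (SymAlg.Exists.alg M)
      exact (ConcreteCategory.bijective_of_isIso ((SymAlg.Exists.alg M).gammaMap.app (op U))).2.comp (hψ U hU)
    exact ⟨E, π, hflf, hπ⟩

end Groth.Agent.S13541
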