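import Groth.Statements.S13542
import Groth.Agent.Lib.ResDescend36.Main
import Groth.Agent.Lib.QCoh.Closure
-- import your own Groth.Agent.* helpers here

set_option autoImplicit false
universe u
open CategoryTheory CategoryTheory.Limits AlgebraicGeometry
open ResProp

namespace Groth.Agent.S13542

open Groth.Agent.Lib

/-- In the case of schemes over an affine base, let f : X ⟶ Y be finite, flat, of finite presentation
and surjective between quasi-compact quasi-separated schemes. If a family (E_i) of finitely
presented quasi-coherent modules on X is generating, i.e. every quasi-coherent module on X is a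
quotient of a direct sum of copies of the E_i, then the family of direct images (f_*E_i) is
generating on Y. (The published statement is for morphisms of algebraic stacks and families
generating relative to a further morphism; this row is the case of schemes with the absolute notion
of a generating family.) -/
theorem result {X Y : Scheme.{u}}
    [CompactSpace X] [QuasiSeparatedSpace X] [CompactSpace Y] [QuasiSeparatedSpace Y]
    (f : X ⟶ Y) [IsFinite f] [Flat f] [LocallyOfFinitePresentation f] [Surjective f]
    {ι : Type u} (E : ι → X.Modules) (hE : ∀ i, Coh.IsQCoh (E i) ∧ CohB1.IsFP (E i))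
    (hgen : ∀ M : X.Modules, Coh.IsQCoh M →
      ∃ (κ : Type u) (j : κ → ι) (π : (∐ fun k : κ => E (j k)) ⟶ M), Epi π) :
    ∀ N : Y.Modules, Coh.IsQCoh N →
      ∃ (κ : Type u) (j : κ → ι) (π : (∐ fun k : κ => (Scheme.Modules.pushforward f).obj (E (j k))) ⟶ N), Epi π := by
  intro N hN
  haveI : N.IsQuasicoherent := hN
  let A := Groth.Agent.H81.PushLocFree.push f
  let D := TensorMod.Dual.dual A
  have hAf : FlatMod.IsFinLocFree A := Groth.Agent.H81.PushLocFree.isFinLocFree_push f
  have hA : Modules.DualBasis.HasDBases A := Modules.DualBasis.hasDBases_of_isFinLocFree hAf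
  have hD : Modules.DualBasis.HasDBases D := hA.dual
  haveI := Modules.AffineSections.isQCoh_of_isFinLocFree
    (Groth.Agent.H95.LefFEt.Bidual.isFinLocFree_dual hAf)
  haveI := QCoh.Pullback.isQCoh_pullback f D
  haveI := QCoh.Pullback.isQCoh_pullback f N
  let M : X.Modules := CohB1.tensorMod ((Scheme.Modules.pullback f).obj D) ((Scheme.Modules.pullback f).obj N)
  haveI : M.IsQuasicoherent := TensorMod.TensorQCoh.isQCoh_tensorMod _ _
  obtain ⟨κ, j, π, hπ⟩ := hgen M ‹M.IsQuasicoherent›
  let F : κ → X.Modules := fun k => E (j k)
  have hF : ∀ k : Discrete κ, ((Discrete.functor F).obj k).IsQuasicoherent := fun k => (hE (j k.as)).1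
  haveI : (∐ F).IsQuasicoherent := QCoh.Closure.isQCoh_colimit (Discrete.functor F) hF
  haveI := QCoh.Sections.pushforward_preservesColimit f (Discrete.functor F) hF
  haveI : Epi ((Scheme.Modules.pushforward f).map π) := QCoh.Sections.epi_pushforward_map f π
  haveI := ResDescend36.Proj.isIso_projMap f N
  haveI := Modules.ProjFormula.isIso_theta f hD ((Scheme.Modules.pullback f).obj N)
  haveI := Modules.DualAdj.tensorL_isLeftAdjoint' hA
  haveI := ResDescend36.Main.epi_counit f hA N
  let h := inv (ResDescend36.Proj.projMap f N) ≫ (TensorMod.Basic.comm N A).hom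
  let g := TensorMod.Basic.tmap (𝟙 D) h
  haveI : Epi g := by
    have := (inferInstance : Epi ((Modules.DualAdj.tensorL D).map h))
    rw [Modules.DualAdj.tensorL_map] at this
    exact this
  exact ⟨κ, j, (PreservesCoproduct.iso (Scheme.Modules.pushforward f) F).inv ≫
    (Scheme.Modules.pushforward f).map π ≫
    inv (Modules.ProjFormula.theta f D ((Scheme.Modules.pullback f).obj N)) ≫ g ≫
    Modules.DualAdj.counit A N, inferInstance⟩

end Groth.Agent.S13542
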