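import Groth.Statements.S13543
import Groth.Agent.H81.ResEmbed.Spec
import Groth.Agent.Lib.QAffFactor.Basic
import Groth.Agent.Lib.Modules.AffineSections
import Groth.Agent.H81.ResEmbed.FiniteSub

set_option autoImplicit false
set_option linter.style.haveILetI false
universe u
open CategoryTheory CategoryTheory.Limits AlgebraicGeometry
open ResProp
open Opposite

namespace Groth.Agent.S13543

/-- In the case of schemes, on a quasi-compact quasi-separated scheme X let (E_i) be a family of
finitely presented quasi-coherent modules closed (up to isomorphism) under binary tensor products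
and binary direct sums. Then (E_i) is a generating family, i.e. every quasi-coherent module is a
quotient of a direct sum of copies of the E_i, if and only if every affine morphism Y ⟶ X factors
over X through a closed immersion of Y into the vector bundle V(E) = Spec Sym(E) of a direct sum E
of copies of members of the family, with finitely many summands whenever Y ⟶ X is of finite type
(V(E) is given as the relative spectrum of a quasi-coherent algebra that is the symmetric algebra of
E). (The published statement is for quasi-compact quasi-separated algebraic stacks and takes E to be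
the direct sum of a subfamily without repeated members; this row is the case of schemes and allows
repetitions, as the printed argument produces: for the generating family of free modules k, k^2,
k^3, … on a point and the affine morphism from the spectrum of a polynomial ring in uncountably many
variables, no direct sum of distinct members works.) -/
theorem result (X : Scheme.{u}) [CompactSpace X] [QuasiSeparatedSpace X]
    {ι : Type u} (E : ι → X.Modules) (hE : ∀ i, Coh.IsQCoh (E i) ∧ CohB1.IsFP (E i))
    (htens : ∀ i i' : ι, ∃ i'' : ι, Nonempty (E i'' ≅ CohB1.tensorMod (E i) (E i')))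
    (hsum : ∀ i i' : ι, ∃ i'' : ι, Nonempty (E i'' ≅ E i ⊞ E i')) :
    (∀ M : X.Modules, Coh.IsQCoh M → ∃ (κ : Type u) (j : κ → ι) (π : (∐ fun k : κ => E (j k)) ⟶ M), Epi π) ↔
    (∀ (Y : Scheme.{u}) (f : Y ⟶ X) [IsAffineHom f],
      ∃ (κ : Type u) (j : κ → ι) (B : RelSpec.QCAlg X) (φ : (∐ fun k : κ => E (j k)) ⟶ B.toModule) (c : Y ⟶ B.spec),
        RelSpec.IsSymAlg (∐ fun k : κ => E (j k)) B φ ∧ IsClosedImmersion c ∧ c ≫ B.π = f ∧
        (LocallyOfFiniteType f → Finite κ)) := by
  open Agent.Lib Agent.H81.ResEmbed in
  constructor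
  · intro hgen Y f _
    have hQ : ∀ (κ : Type u) (j : κ → ι), (∐ fun k : κ => E (j k)).IsQuasicoherent := fun κ j =>
      QCoh.Closure.isQCoh_of_isColimit (coproductIsCoproduct _) fun k => (hE _).1
    suffices h : ∃ (κ : Type u) (j : κ → ι) (φ : (∐ fun k : κ => E (j k)) ⟶ (RelSpec.QCAlg.directImage f).toModule),
        (∀ U : X.Opens, IsAffineOpen U → QCAlgSub.Basic.adj _ φ U = ⊤) ∧ (LocallyOfFiniteType f → Finite κ) by
      obtain ⟨κ, j, φ, hφ, hfin⟩ := h
      haveI := hQ κ j
      obtain ⟨c, hc, hc'⟩ := Spec.exists_closedImmersion (SymAlg.Exists.liftHom _ φ) (Spec.surjective_liftHom φ hφ)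
      exact ⟨κ, j, _, _, c, SymAlg.Exists.isSymAlg _, hc, hc', hfin⟩
    haveI : (RelSpec.QCAlg.directImage f).toModule.IsQuasicoherent :=
      QCAlgSub.Basic.isQuasicoherent_toModule _
    by_cases hf : LocallyOfFiniteType f
    · obtain ⟨E₀, g, -, hqc, hft, hadj⟩ :=
        QCAlgSub.Sections.exists_generating (RelSpec.QCAlg.directImage f) (Spec.finiteType_directImage (f := f))
      haveI := hqc
      obtain ⟨κ, j, π, hπ⟩ := hgen E₀ hqc
      obtain ⟨s, hs⟩ := FiniteSub.exists_finset_epi (fun k : κ => E (j k)) π hft
      haveI := hQ {e // e ∈ s} fun e => j e.1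
      exact ⟨{e // e ∈ s}, fun e => j e.1, FiniteSub.sub _ π s ≫ g, fun U hU => Spec.adj_comp_eq_top _ g
        (QCoh.Closure.sections_surjective_of_epi _ hU) (hadj ⟨U, hU⟩), fun _ => inferInstance⟩
    · obtain ⟨κ, j, π, hπ⟩ := hgen (RelSpec.QCAlg.directImage f).toModule inferInstance
      haveI := hQ κ j
      refine ⟨κ, j, π ≫ 𝟙 _, fun U hU => Spec.adj_comp_eq_top π _
        (QCoh.Closure.sections_surjective_of_epi π hU) (Spec.adj_id_eq_top _ U), fun h => absurd h hf⟩
  · intro h M hM
    haveI : M.IsQuasicoherent := hM
    haveI := Spec.isAffineHom_π (SymAlg.Exists.alg M)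
    obtain ⟨κ, j, B, φ, c, hB, hc, hc', -⟩ := h _ (SymAlg.Exists.alg M).π
    haveI : (∐ fun k : κ => E (j k)).IsQuasicoherent :=
      QCoh.Closure.isQCoh_of_isColimit (coproductIsCoproduct _) fun k => (hE _).1
    obtain ⟨ψ, hψ⟩ := Spec.exists_surjective c hc'
    obtain ⟨π, hπ⟩ := Spec.exists_epi hB (ψ ≫ (QCAlgPush.gammaIso (SymAlg.Exists.alg M)).hom) fun U hU => by
      haveI := RelSpecBasics.Gamma.isIso_gammaMap (SymAlg.Exists.alg M)
      exact (ConcreteCategory.bijective_of_isIso ((SymAlg.Exists.alg M).gammaMap.app (op U))).2.comp (hψ U hU)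
    exact ⟨κ, j, π, hπ⟩

end Groth.Agent.S13543
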