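import Groth.Statements.S13544
import Groth.Agent.H69.NilGlue

set_option linter.style.haveILetI false
set_option backward.isDefEq.respectTransparency false
set_option backward.isDefEq.respectTransparency.types false
set_option maxHeartbeats 1000000

set_option autoImplicit false
universe u
open CategoryTheory CategoryTheory.Limits AlgebraicGeometry
open ResProp

namespace Groth.Agent.S13544

open TopologicalSpace in
/-- Affine opens, one for each irreducible component of a closed set, meeting no other component. -/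
theorem exists_separating {X : Scheme.{u}} [IsNoetherian X] (Y : Set X) (hY : IsClosed Y) :
    ∃ (n : ℕ) (U : Fin n → X.Opens), (∀ i, IsAffineOpen (U i)) ∧
      (∀ i k, i ≠ k → ∀ x, x ∈ U i → x ∈ U k → x ∉ Y) ∧
      Y ⊆ closure ((⋃ i, (U i : Set X)) ∩ Y) := by
  classical
  haveI : NoetherianSpace Y := inferInstance
  have hfin : (irreducibleComponents Y).Finite := NoetherianSpace.finite_irreducibleComponents
  obtain ⟨n, e, he⟩ := hfin.fin_embedding
  let C : Fin n → Set X := fun i => Subtype.val '' e i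
  have hmem : ∀ i, e i ∈ irreducibleComponents Y := fun i => he ▸ ⟨i, rfl⟩
  have hcl : ∀ i, IsClosed (C i) := fun i =>
    hY.isClosedMap_subtype_val _ (isClosed_of_mem_irreducibleComponents _ (hmem i))
  have hirr : ∀ i, IsIrreducible (C i) := fun i =>
    (hmem i).1.image _ continuous_subtype_val.continuousOn
  have hcov : ∀ x ∈ Y, ∃ i, x ∈ C i := fun x hx => by
    obtain ⟨s, hs, hxs⟩ := Set.mem_sUnion.1
      ((sUnion_irreducibleComponents (X := Y)).ge (Set.mem_univ (⟨x, hx⟩ : Y)))
    obtain ⟨i, rfl⟩ : s ∈ Set.range e := he.ge hs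
    exact ⟨i, ⟨x, hx⟩, hxs, rfl⟩
  have hsep : ∀ i, ∃ x ∈ C i, ∀ k, k ≠ i → x ∉ C k := fun i => by
    by_contra h
    push Not at h
    have : e i ⊆ ⋃₀ (irreducibleComponents Y \ {e i}) := fun y hy => by
      obtain ⟨k, hk, z, hz, hzy⟩ := h y ⟨y, hy, rfl⟩
      exact ⟨e k, ⟨hmem k, fun hki => hk (e.injective hki)⟩, Subtype.ext hzy ▸ hz⟩
    exact Set.notMem_sdiff_of_mem (Set.mem_singleton (e i))
      (mem_of_subset_sUnion_irreducibleComponents _ (hmem i) _ hfin.sdiff Set.sdiff_subset this)
  choose η hη hη' using hsep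
  have hU : ∀ i, ∃ U : X.Opens, IsAffineOpen U ∧ η i ∈ U ∧ ∀ k, k ≠ i → ∀ x ∈ U, x ∉ C k := fun i => by
    let O : X.Opens := ⟨⋂ k : {k // k ≠ i}, (C k.1)ᶜ,
      isOpen_iInter_of_finite fun k => (hcl k.1).isOpen_compl⟩
    obtain ⟨U, hU, hx, hle⟩ := exists_isAffineOpen_mem_and_subset (U := O) (x := η i)
      (Set.mem_iInter.2 fun k => hη' i k.1 k.2)
    exact ⟨U, hU, hx, fun k hk x hxU => Set.mem_iInter.1 (hle hxU) ⟨k, hk⟩⟩
  choose U hUa hUη hU using hU
  refine ⟨n, U, hUa, fun i k hik x hi hk hx => ?_, fun x hx => ?_⟩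
  · obtain ⟨l, hl⟩ := hcov x hx
    have hli : l = i := by_contra fun h => hU i l h x hi hl
    have hlk : l = k := by_contra fun h => hU k l h x hk hl
    exact hik (hli.symm.trans hlk)
  · obtain ⟨i, hi⟩ := hcov x hx
    refine closure_mono (Set.subset_inter (fun y hy => Set.mem_iUnion.2 ⟨i, hy.2⟩) ?_)
      (subset_closure_inter_of_isPreirreducible_of_isOpen (hirr i).2 (U i).2 ⟨η i, hη i, hUη i⟩ hi)
    rintro y ⟨⟨y', -, rfl⟩, -⟩
    exact y'.2

/-- Let f : X' ⟶ X be a surjective closed immersion of Noetherian schemes which is an isomorphism over a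
dense open, W the largest such open and Y its closed complement (the support of the kernel ideal).
Then W is contained in an open V such that V ∩ Y is dense in Y and underlies an affine closed
subscheme of V, and every finite locally free module on the preimage of V is the pullback of a
finite locally free module on V. (The published statement also asserts that global sections of the
module on the preimage extend to sections of the lift; that clause is not restated.) -/
theorem result {X X' : Scheme.{u}} [IsNoetherian X] [IsNoetherian X']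
    (f : X' ⟶ X) [IsClosedImmersion f] [Surjective f]
    (W : X.Opens) (hW : IsIso (f ∣_ W)) (hmax : ∀ W' : X.Opens, IsIso (f ∣_ W') → W' ≤ W) (hd : Dense (W : Set X)) :
    ∃ V : X.Opens, W ≤ V ∧ (W : Set X)ᶜ ⊆ closure ((V : Set X) ∩ (W : Set X)ᶜ) ∧
      (∃ (T : Scheme.{u}) (g : T ⟶ (V : Scheme.{u})), IsClosedImmersion g ∧ IsAffine T ∧
        Set.range (g ≫ V.ι).base = (V : Set X) ∩ (W : Set X)ᶜ) ∧
      ∀ E' : (f ⁻¹ᵁ V : Scheme.{u}).Modules, FlatMod.IsFinLocFree E' →
        ∃ E : (V : Scheme.{u}).Modules, FlatMod.IsFinLocFree E ∧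
          Nonempty ((Scheme.Modules.pullback (f ∣_ V)).obj E ≅ E') := by
  classical
  haveI := hW
  obtain ⟨n, U, hUa, hUsep, hdense⟩ := exists_separating (W : Set X)ᶜ W.2.isClosed_compl
  have hWc : IsCompact (W : Set X) := TopologicalSpace.NoetherianSpace.isCompact _
  choose A hA hxA hAW using fun x : W =>
    exists_isAffineOpen_mem_and_subset (U := W) (x := (x : X)) x.2
  obtain ⟨t, ht⟩ := hWc.elim_finite_subcover (fun x : W => (A x : Set X)) (fun x => (A x).2)
    fun x hx => Set.mem_iUnion.2 ⟨⟨x, hx⟩, hxA ⟨x, hx⟩⟩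
  let V : X.Opens := W ⊔ ⨆ i, U i
  have hmemV : ∀ x, x ∈ V ↔ x ∈ W ∨ ∃ i, x ∈ U i := fun x => by
    simp [V, TopologicalSpace.Opens.mem_iSup]
  let G : Fin t.card ⊕ Fin n → X.Opens := Sum.elim (fun i => A ((t.equivFin).symm i)) U
  have hG : ∀ i, IsAffineOpen (G i) := by rintro (i | i); exacts [hA _, hUa i]
  have hGV : ∀ i, G i ≤ V := by
    rintro (i | i)
    · exact le_sup_of_le_left (hAW _)
    · exact le_sup_of_le_right (le_iSup U i)
  have hGov : ∀ i k, i ≠ k → ∀ x, x ∈ G i → x ∈ G k → x ∈ W := by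
    rintro (i | i) (k | k) hik x hi hk
    · exact hAW _ hi
    · exact hAW _ hi
    · exact hAW _ hk
    · exact not_not.1 (hUsep i k (fun h => hik (congrArg Sum.inr h)) x hi hk)
  refine ⟨V, le_sup_left, hdense.trans (closure_mono ?_), ?_, fun E' hE' => ?_⟩
  · rintro x ⟨hx, hxW⟩
    obtain ⟨i, hi⟩ := Set.mem_iUnion.1 hx
    exact ⟨(hmemV x).2 (Or.inr ⟨i, hi⟩), hxW⟩
  · let Yv : TopologicalSpace.Closeds (V : Scheme.{u}) :=
      ⟨V.ι.base ⁻¹' (W : Set X)ᶜ, W.2.isClosed_compl.preimage V.ι.continuous⟩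
    let I := Scheme.IdealSheafData.vanishingIdeal Yv
    have hrange : Set.range I.subschemeι.base = (Yv : Set (V : Scheme.{u})) := by
      rw [Scheme.IdealSheafData.range_subschemeι]
      simp [I]
    refine ⟨I.subscheme, I.subschemeι, inferInstance, ?_, ?_⟩
    · let O : Fin n → I.subscheme.Opens := fun i => I.subschemeι ⁻¹ᵁ (V.ι ⁻¹ᵁ U i)
      have hO : ∀ i, IsAffineOpen (O i) := fun i => ((hUa i).preimage_of_isOpenImmersion V.ι
        (by rw [V.opensRange_ι]; exact hGV (Sum.inr i))).preimage I.subschemeι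
      have hY : ∀ p, V.ι (I.subschemeι p) ∉ W := fun p =>
        (hrange.le ⟨p, rfl⟩ : I.subschemeι p ∈ (Yv : Set (V : Scheme.{u})))
      have htop : iSup O = ⊤ := eq_top_iff.2 fun p _ => by
        rcases (hmemV _).1 (I.subschemeι p).2 with h | ⟨i, h⟩
        · exact absurd h (hY p)
        · exact TopologicalSpace.Opens.mem_iSup.2 ⟨i, h⟩
      have hdis : Pairwise (Function.onFun Disjoint O) := fun i k hik => by
        rw [Function.onFun, disjoint_iff, eq_bot_iff]
        exact fun p hp => absurd (hGov (.inr i) (.inr k) (fun h => hik (Sum.inr_injective h)) _ hp.1 hp.2) (hY p)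
      have := IsAffineOpen.iSup_of_disjoint hO hdis
      rw [htop] at this
      haveI : IsAffine ((⊤ : I.subscheme.Opens) : Scheme.{u}) := this
      exact .of_isIso I.subscheme.topIso.inv
    · rw [Scheme.Hom.comp_base, TopCat.coe_comp, Set.range_comp, hrange]
      ext x
      constructor
      · rintro ⟨v, hv, rfl⟩; exact ⟨v.2, hv⟩
      · rintro ⟨hx, hxW⟩; exact ⟨⟨x, hx⟩, hxW, rfl⟩
  · haveI : IsClosedImmersion (f ∣_ V) := IsZariskiLocalAtTarget.restrict (P := @IsClosedImmersion) ‹IsClosedImmersion f› V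
    haveI : Surjective (f ∣_ V) := IsZariskiLocalAtTarget.restrict (P := @Surjective) ‹Surjective f› V
    refine Groth.Agent.H69.NilGlue.exists_lift (f ∣_ V) (fun i => V.ι ⁻¹ᵁ G i)
      (fun i => (hG i).preimage_of_isOpenImmersion V.ι (by rw [V.opensRange_ι]; exact hGV i))
      (fun x => ?_) (fun i k hik z hi hk => ?_) E' hE'
    · rcases (hmemV _).1 x.2 with h | ⟨i, h⟩
      · obtain ⟨y, hyt, hy⟩ := Set.mem_iUnion₂.1 (ht h)
        exact ⟨.inl (t.equivFin ⟨y, hyt⟩), by
          show V.ι x ∈ A ((t.equivFin).symm (t.equivFin ⟨y, hyt⟩))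
          rw [Equiv.symm_apply_apply]; exact hy⟩
      · exact ⟨.inr i, h⟩
    · have hz : f z.1 ∈ W := by
        have e : V.ι ((f ∣_ V) z) = f z.1 := by
          rw [← Scheme.Hom.comp_apply, morphismRestrict_ι]; rfl
        rw [← e]
        exact hGov i k hik _ hi hk
      have h1 : IsIso (f.stalkMap z.1) :=
        (MorphismProperty.arrow_mk_iso_iff (MorphismProperty.isomorphisms CommRingCat)
          (morphismRestrictStalkMap f W ⟨z.1, hz⟩)).1
          (show IsIso ((f ∣_ W).stalkMap ⟨z.1, hz⟩) from inferInstance)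
      have h2 : IsIso ((f ∣_ V).stalkMap z) :=
        (MorphismProperty.arrow_mk_iso_iff (MorphismProperty.isomorphisms CommRingCat)
          (morphismRestrictStalkMap f V z)).2 h1
      exact (ConcreteCategory.bijective_of_isIso ((f ∣_ V).stalkMap z)).1

end Groth.Agent.S13544
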