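import Groth.Statements.S13545
import Groth.Agent.S13544
import Groth.Agent.Lib.AmpleThick.Basic

set_option linter.style.haveILetI false
set_option backward.isDefEq.respectTransparency false
set_option backward.isDefEq.respectTransparency.types false
set_option maxHeartbeats 1000000

set_option autoImplicit false
universe u
open CategoryTheory CategoryTheory.Limits AlgebraicGeometry
attribute [local instance] HasDerivedCategory.standard
open ResProp

namespace Groth.Agent.S13545

open Groth.Agent.Lib Groth.Agent.Lib.Ample.GenLocus Groth.Agent.Lib.TensorMod.Pullback in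
/-- A finite locally free module with invertible pullback along a surjection is invertible. -/
theorem isInvertible_of_pb {X Z : Scheme.{u}} (g : Z ⟶ X) [Surjective g] {W : X.Modules}
    (hW : FlatMod.IsFinLocFree W) {L : Z.Modules} (hL : PicF.IsInvertible L)
    (e : (Scheme.Modules.pullback g).obj W ≅ L) : PicF.IsInvertible W := by
  refine TensorMod.LocFree.isInvertible_of_rank_one fun x => ?_
  obtain ⟨U, n, hx, ⟨i⟩⟩ := hW x
  obtain ⟨y, hy⟩ := g.surjective x
  obtain ⟨i₁⟩ := TensorMod.LocFree.pullback_iso_of_restrict_iso g i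
  obtain ⟨V, hyV, ⟨i₂⟩⟩ := TensorMod.LocFree.rank_of_iso e.symm (TensorMod.LocFree.of_isInvertible hL) y
  have hyU : y ∈ g ⁻¹ᵁ U := by show g y ∈ U; rw [hy]; exact hx
  obtain ⟨i₁'⟩ := TensorMod.LocFree.exists_restrict_iso_freeMod (inf_le_left : g ⁻¹ᵁ U ⊓ V ≤ _) i₁
  obtain ⟨i₂'⟩ := TensorMod.LocFree.exists_restrict_iso_freeMod (inf_le_right : g ⁻¹ᵁ U ⊓ V ≤ _) i₂
  obtain rfl := TensorMod.TensorInv.freeMod_rank_eq (X := ↑(g ⁻¹ᵁ U ⊓ V))
    ⟨y, hyU, hyV⟩ (i₁'.symm ≪≫ i₂')
  exact ⟨U, hx, ⟨i⟩⟩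

open Groth.Agent.Lib Groth.Agent.Lib.Ample.GenLocus in
/-- An ample family can be checked on a closed subscheme with the same points. -/
theorem isAmpleFamily_of_pullback {X Z : Scheme.{u}} (i : Z ⟶ X) [IsClosedImmersion i] [Surjective i]
    {ι : Type u} {L : ι → X.Modules} (hL : ∀ j, PicF.IsInvertible (L j)) {L' : ι → Z.Modules}
    (e : ∀ j, (Scheme.Modules.pullback i).obj (L j) ≅ L' j) (h : KSix.IsAmpleFamily L') :
    KSix.IsAmpleFamily L := by
  obtain ⟨hc, hqs, -, hA⟩ := h
  have hi : IsHomeomorph i.base :=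
    isHomeomorph_iff_isEmbedding_surjective.2 ⟨i.isEmbedding, i.surjective⟩
  haveI : CompactSpace X := hi.homeomorph.compactSpace
  haveI : QuasiSeparatedSpace X :=
    QuasiSeparatedSpace.of_isOpenEmbedding hi.homeomorph.symm.isOpenEmbedding
  refine ⟨inferInstance, inferInstance, hL, fun x => ?_⟩
  obtain ⟨z, rfl⟩ := i.surjective x
  obtain ⟨j, n, s, hzs, hs⟩ := hA z
  let d := n + 1
  let α := Ample.Pow.pullbackPow i (L j) d ≪≫ Ample.Pow.powIso (e j) d
  let s' : Coh.structureModule Z ⟶ (Scheme.Modules.pullback i).obj (CohB1.tensorPow (L j) d) := s ≫ α.inv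
  have hs' : CohB1.genLocus _ s' = CohB1.genLocus _ s := genLocus_comp_iso s α.symm
  let U : X.Opens := ⟨i.base '' (CohB1.genLocus _ s : Set Z), hi.isOpenMap _ (CohB1.genLocus _ s).2⟩
  have hpre : i ⁻¹ᵁ U = CohB1.genLocus _ s := TopologicalSpace.Opens.ext (hi.injective.preimage_image _)
  have hU : IsAffineOpen U := by
    haveI : IsAffine (i ⁻¹ᵁ U : Scheme.{u}) := hpre ▸ hs
    haveI : IsClosedImmersion (i ∣_ U) := IsZariskiLocalAtTarget.restrict ‹IsClosedImmersion i› U
    haveI : Surjective (i ∣_ U) := IsZariskiLocalAtTarget.restrict ‹Surjective i› U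
    exact Lim.Thickening.isAffine_of_surjective (i ∣_ U)
  obtain ⟨K, hK, t, ht⟩ := AmpleThick.Basic.exists_sec i
    (TensorMod.Invertible.isInvertible_tensorPow (hL j) d) s' U hU (hpre.trans hs'.symm)
  obtain ⟨m, hm, s₀, h₁, h₂⟩ := Ample.Pow.AffineAt.mk (x := i z) (Nat.mul_pos (Nat.succ_pos n) hK)
    (Ample.Pow.powMul (L j) d K) t (ht.ge ⟨z, hzs, rfl⟩) (ht ▸ hU)
  obtain ⟨m', rfl⟩ : ∃ m', m = m' + 1 := ⟨m - 1, by omega⟩
  exact ⟨j, m', s₀, h₁, h₂⟩

/-- Let f : X' ⟶ X be a surjective closed immersion of Noetherian schemes which is an isomorphism over a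
dense open, W the largest such open and Y its closed complement. Then W is contained in an open V
such that V ∩ Y is dense in Y and underlies an affine closed subscheme of V, and every ample family
of invertible modules on the preimage of V is, member by member up to isomorphism, the pullback
along f of an ample family of invertible modules on V. -/
theorem result {X X' : Scheme.{u}} [IsNoetherian X] [IsNoetherian X']
    (f : X' ⟶ X) [IsClosedImmersion f] [Surjective f]
    (W : X.Opens) (hW : IsIso (f ∣_ W)) (hmax : ∀ W' : X.Opens, IsIso (f ∣_ W') → W' ≤ W) (hd : Dense (W : Set X)) :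
    ∃ V : X.Opens, W ≤ V ∧ (W : Set X)ᶜ ⊆ closure ((V : Set X) ∩ (W : Set X)ᶜ) ∧
      (∃ (T : Scheme.{u}) (g : T ⟶ (V : Scheme.{u})), IsClosedImmersion g ∧ IsAffine T ∧
        Set.range (g ≫ V.ι).base = (V : Set X) ∩ (W : Set X)ᶜ) ∧
      ∀ (ι : Type u) (L' : ι → (f ⁻¹ᵁ V : Scheme.{u}).Modules), KSix.IsAmpleFamily L' →
        ∃ L : ι → (V : Scheme.{u}).Modules, KSix.IsAmpleFamily L ∧
          ∀ i : ι, Nonempty ((Scheme.Modules.pullback (f ∣_ V)).obj (L i) ≅ L' i) := by
  classical
  haveI := hW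
  obtain ⟨n, U, hUa, hUsep, hdense⟩ := Groth.Agent.S13544.exists_separating (W : Set X)ᶜ W.2.isClosed_compl
  have hWc : IsCompact (W : Set X) := TopologicalSpace.NoetherianSpace.isCompact _
  choose A hA hxA hAW using fun x : W =>
    exists_isAffineOpen_mem_and_subset (U := W) (x := (x : X)) x.2
  obtain ⟨t, ht⟩ := hWc.elim_finite_subcover (fun x : W => (A x : Set X)) (fun x => (A x).2)
    fun x hx => Set.mem_iUnion.2 ⟨⟨x, hx⟩, hxA ⟨x, hx⟩⟩
  let V : X.Opens := W ⊔ ⨆ i, U i
  have hmemV : ∀ x, x ∈ V ↔ x ∈ W ∨ ∃ i, x ∈ U i := fun x => by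
    simp [V, TopologicalSpace.Opens.mem_iSup]
  let G : Fin t.card ⊕ Fin n → X.Opens := Sum.elim (fun i => A ((t.equivFin).symm i)) U
  have hG : ∀ i, IsAffineOpen (G i) := by rintro (i | i); exacts [hA _, hUa i]
  have hGV : ∀ i, G i ≤ V := by
    rintro (i | i)
    · exact le_sup_of_le_left (hAW _)
    · exact le_sup_of_le_right (le_iSup U i)
  have hGov : ∀ i k, i ≠ k → ∀ x, x ∈ G i → x ∈ G k → x ∈ W := by
    rintro (i | i) (k | k) hik x hi hk
    · exact hAW _ hi
    · exact hAW _ hi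
    · exact hAW _ hk
    · exact not_not.1 (hUsep i k (fun h => hik (congrArg Sum.inr h)) x hi hk)
  refine ⟨V, le_sup_left, hdense.trans (closure_mono ?_), ?_, fun κ L' hL' => ?_⟩
  · rintro x ⟨hx, hxW⟩
    obtain ⟨i, hi⟩ := Set.mem_iUnion.1 hx
    exact ⟨(hmemV x).2 (Or.inr ⟨i, hi⟩), hxW⟩
  · let Yv : TopologicalSpace.Closeds (V : Scheme.{u}) :=
      ⟨V.ι.base ⁻¹' (W : Set X)ᶜ, W.2.isClosed_compl.preimage V.ι.continuous⟩
    let I := Scheme.IdealSheafData.vanishingIdeal Yv
    have hrange : Set.range I.subschemeι.base = (Yv : Set (V : Scheme.{u})) := by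
      rw [Scheme.IdealSheafData.range_subschemeι]
      simp [I]
    refine ⟨I.subscheme, I.subschemeι, inferInstance, ?_, ?_⟩
    · let O : Fin n → I.subscheme.Opens := fun i => I.subschemeι ⁻¹ᵁ (V.ι ⁻¹ᵁ U i)
      have hO : ∀ i, IsAffineOpen (O i) := fun i => ((hUa i).preimage_of_isOpenImmersion V.ι
        (by rw [V.opensRange_ι]; exact hGV (Sum.inr i))).preimage I.subschemeι
      have hY : ∀ p, V.ι (I.subschemeι p) ∉ W := fun p =>
        (hrange.le ⟨p, rfl⟩ : I.subschemeι p ∈ (Yv : Set (V : Scheme.{u})))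
      have htop : iSup O = ⊤ := eq_top_iff.2 fun p _ => by
        rcases (hmemV _).1 (I.subschemeι p).2 with h | ⟨i, h⟩
        · exact absurd h (hY p)
        · exact TopologicalSpace.Opens.mem_iSup.2 ⟨i, h⟩
      have hdis : Pairwise (Function.onFun Disjoint O) := fun i k hik => by
        rw [Function.onFun, disjoint_iff, eq_bot_iff]
        exact fun p hp => absurd (hGov (.inr i) (.inr k) (fun h => hik (Sum.inr_injective h)) _ hp.1 hp.2) (hY p)
      have := IsAffineOpen.iSup_of_disjoint hO hdis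
      rw [htop] at this
      haveI : IsAffine ((⊤ : I.subscheme.Opens) : Scheme.{u}) := this
      exact .of_isIso I.subscheme.topIso.inv
    · rw [Scheme.Hom.comp_base, TopCat.coe_comp, Set.range_comp, hrange]
      ext x
      constructor
      · rintro ⟨v, hv, rfl⟩; exact ⟨v.2, hv⟩
      · rintro ⟨hx, hxW⟩; exact ⟨⟨x, hx⟩, hxW, rfl⟩
  · haveI : IsClosedImmersion (f ∣_ V) := IsZariskiLocalAtTarget.restrict (P := @IsClosedImmersion) ‹IsClosedImmersion f› V
    haveI : Surjective (f ∣_ V) := IsZariskiLocalAtTarget.restrict (P := @Surjective) ‹Surjective f› V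
    have hlift : ∀ E' : (f ⁻¹ᵁ V : Scheme.{u}).Modules, FlatMod.IsFinLocFree E' →
        ∃ E : (V : Scheme.{u}).Modules, FlatMod.IsFinLocFree E ∧
          Nonempty ((Scheme.Modules.pullback (f ∣_ V)).obj E ≅ E') := fun E' hE' => by
      refine Groth.Agent.H69.NilGlue.exists_lift (f ∣_ V) (fun i => V.ι ⁻¹ᵁ G i)
        (fun i => (hG i).preimage_of_isOpenImmersion V.ι (by rw [V.opensRange_ι]; exact hGV i))
        (fun x => ?_) (fun i k hik z hi hk => ?_) E' hE'
      · rcases (hmemV _).1 x.2 with h | ⟨i, h⟩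
        · obtain ⟨y, hyt, hy⟩ := Set.mem_iUnion₂.1 (ht h)
          exact ⟨.inl (t.equivFin ⟨y, hyt⟩), by
            show V.ι x ∈ A ((t.equivFin).symm (t.equivFin ⟨y, hyt⟩))
            rw [Equiv.symm_apply_apply]; exact hy⟩
        · exact ⟨.inr i, h⟩
      · have hz : f z.1 ∈ W := by
          have e : V.ι ((f ∣_ V) z) = f z.1 := by
            rw [← Scheme.Hom.comp_apply, morphismRestrict_ι]; rfl
          rw [← e]
          exact hGov i k hik _ hi hk
        have h1 : IsIso (f.stalkMap z.1) :=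
          (MorphismProperty.arrow_mk_iso_iff (MorphismProperty.isomorphisms CommRingCat)
            (morphismRestrictStalkMap f W ⟨z.1, hz⟩)).1
            (show IsIso ((f ∣_ W).stalkMap ⟨z.1, hz⟩) from inferInstance)
        have h2 : IsIso ((f ∣_ V).stalkMap z) :=
          (MorphismProperty.arrow_mk_iso_iff (MorphismProperty.isomorphisms CommRingCat)
            (morphismRestrictStalkMap f V z)).2 h1
        exact (ConcreteCategory.bijective_of_isIso ((f ∣_ V).stalkMap z)).1
    choose L hLf hLe using fun j => hlift (L' j)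
      (Groth.Agent.Lib.TensorMod.LocFree.of_rank (Groth.Agent.Lib.TensorMod.LocFree.of_isInvertible (hL'.2.2.1 j)))
    exact ⟨L, isAmpleFamily_of_pullback (f ∣_ V)
      (fun j => isInvertible_of_pb (f ∣_ V) (hLf j) (hL'.2.2.1 j) (hLe j).some) (fun j => (hLe j).some) hL', hLe⟩

end Groth.Agent.S13545
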