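import Groth.Statements.S13546
import Groth.Agent.Lib.DerivedOX.FMDiag


set_option autoImplicit false
set_option linter.style.haveILetI false
universe u
open CategoryTheory AlgebraicGeometry
attribute [local instance] HasDerivedCategory.standard
open DEquiv

namespace Groth.Agent.S13546

/-- Let X → S and Y → S be smooth proper morphisms and let K, a complex of modules on X ×_S Y, be a
Fourier–Mukai kernel giving a relative equivalence over S from X to Y. The derived functors involved
are assumed to exist (instance binders), and the Fourier–Mukai functor Φ_K = Rpr_{2,*}(Lpr_1^*(−)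
⊗^L K) is assumed to send objects with quasi-coherent cohomology sheaves to such objects (hypothesis
h). Then Φ_K : D_QCoh(O_X) ⥤ D_QCoh(O_Y) is an equivalence of categories. -/
theorem result {S X Y : Scheme.{u}} (a : X ⟶ S) (b : Y ⟶ S)
    [Smooth a] [IsProper a] [Smooth b] [IsProper b]
    (K : CochainComplex (Limits.pullback a b).Modules ℤ)
    [DCoh.HasLpull (Limits.pullback.fst a b)] [DCoh.HasLTensorCx K] [DCoh.HasRpush (Limits.pullback.snd a b)]
    [DCoh.HasLpull (FMK.p12 a b a)] [DCoh.HasRpush (FMK.p13 a b a)]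
    [∀ L : CochainComplex (FMK.T a b a).Modules ℤ, DCoh.HasLTensorCx L]
    [DCoh.HasLpull (FMK.p12 b a b)] [DCoh.HasRpush (FMK.p13 b a b)]
    [∀ L : CochainComplex (FMK.T b a b).Modules ℤ, DCoh.HasLTensorCx L]
    (hK : FMK.IsRelEquivKernel a b K)
    (h : ∀ M : DCoh.D X, DCoh.IsQCohD M → DCoh.IsQCohD ((FMK.phi a b K).obj M)) :
    (FMK.phiOn a b K DCoh.IsQCohD DCoh.IsQCohD h).IsEquivalence := by
  obtain ⟨hKp, K', hK'p, ⟨h1⟩, ⟨h2⟩⟩ := hK
  haveI := Groth.Agent.Lib.DerivedOX.LeftExists.hasLpull (Limits.pullback.fst b a)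
  haveI := Groth.Agent.Lib.DerivedOX.Exists.hasRpush (Limits.pullback.snd b a)
  haveI := Groth.Agent.Lib.DerivedOX.LeftExists.hasLTensorCx K'
  have hKq := Groth.Agent.Lib.Perfect.QCohD.isQCohD_of_isPerfect hKp
  have hK'q := Groth.Agent.Lib.Perfect.QCohD.isQCohD_of_isPerfect hK'p
  have h' := Groth.Agent.Lib.DerivedOX.FMDiag.isQCohD_phi b a K' hK'q
  obtain ⟨e1⟩ := Groth.Agent.Lib.DerivedOX.FMDiag.nonempty_unit a b K K' hKq hK'q h1
  obtain ⟨e2⟩ := Groth.Agent.Lib.DerivedOX.FMDiag.nonempty_unit b a K' K hK'q hKq h2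
  let F := FMK.phiOn a b K DCoh.IsQCohD DCoh.IsQCohD h
  let G := FMK.phiOn b a K' DCoh.IsQCohD DCoh.IsQCohD h'
  let η : 𝟭 _ ≅ F ⋙ G := NatIso.ofComponents (fun A => ObjectProperty.isoMk _ (e1.symm.app A))
    fun f => by ext; exact e1.inv.naturality f
  let ε : G ⋙ F ≅ 𝟭 _ := NatIso.ofComponents (fun A => ObjectProperty.isoMk _ (e2.app A))
    fun f => by ext; exact e2.hom.naturality f
  exact (CategoryTheory.Equivalence.mk F G η ε).isEquivalence_functor

end Groth.Agent.S13546
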