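import Groth.Statements.S13548
import Groth.Agent.Lib.DerivedOX.DiagBC
import Groth.Agent.Lib.DerivedOX.Exists
import Groth.Agent.S13566
import Groth.Agent.S0921
-- import your own Groth.Agent.* helpers here

set_option autoImplicit false
universe u
open CategoryTheory AlgebraicGeometry
attribute [local instance] HasDerivedCategory.standard
open DEquiv

namespace Groth.Agent.S13548

set_option linter.style.haveILetI false

open Limits Groth.Agent.Lib.DerivedOX

/-- Let X → S and Y → S be smooth proper morphisms, K (a complex of modules on X ×_S Y) a Fourier–Mukai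
kernel giving a relative equivalence over S from X to Y, and S₁ → S a morphism of schemes; put X₁ =
X ×_S S₁ and Y₁ = Y ×_S S₁. The derived functors involved are assumed to exist (instance binders).
Then every complex K₁ of modules on X₁ ×_{S₁} Y₁ whose image in D(O_{X₁ ×_{S₁} Y₁}) is isomorphic to
the derived inverse image of K along the induced morphism X₁ ×_{S₁} Y₁ → X ×_S Y is a Fourier–Mukai
kernel giving a relative equivalence over S₁ from X₁ to Y₁. -/
theorem result {S S₁ X Y : Scheme.{u}} (a : X ⟶ S) (b : Y ⟶ S) (g : S₁ ⟶ S)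
    [Smooth a] [IsProper a] [Smooth b] [IsProper b]
    (K : CochainComplex (Limits.pullback a b).Modules ℤ)
    [DCoh.HasLpull (FMK.p12 a b a)] [DCoh.HasRpush (FMK.p13 a b a)]
    [∀ L : CochainComplex (FMK.T a b a).Modules ℤ, DCoh.HasLTensorCx L]
    [DCoh.HasLpull (FMK.p12 b a b)] [DCoh.HasRpush (FMK.p13 b a b)]
    [∀ L : CochainComplex (FMK.T b a b).Modules ℤ, DCoh.HasLTensorCx L]
    (hK : FMK.IsRelEquivKernel a b K)
    [DCoh.HasLpull (FMK.p12 (Limits.pullback.snd a g) (Limits.pullback.snd b g) (Limits.pullback.snd a g))]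
    [DCoh.HasRpush (FMK.p13 (Limits.pullback.snd a g) (Limits.pullback.snd b g) (Limits.pullback.snd a g))]
    [∀ L : CochainComplex (FMK.T (Limits.pullback.snd a g) (Limits.pullback.snd b g) (Limits.pullback.snd a g)).Modules ℤ, DCoh.HasLTensorCx L]
    [DCoh.HasLpull (FMK.p12 (Limits.pullback.snd b g) (Limits.pullback.snd a g) (Limits.pullback.snd b g))]
    [DCoh.HasRpush (FMK.p13 (Limits.pullback.snd b g) (Limits.pullback.snd a g) (Limits.pullback.snd b g))]
    [∀ L : CochainComplex (FMK.T (Limits.pullback.snd b g) (Limits.pullback.snd a g) (Limits.pullback.snd b g)).Modules ℤ, DCoh.HasLTensorCx L]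
    [DCoh.HasLpull (Limits.pullback.map (Limits.pullback.snd a g) (Limits.pullback.snd b g) a b
      (Limits.pullback.fst a g) (Limits.pullback.fst b g) g (Limits.pullback.condition).symm (Limits.pullback.condition).symm)]
    (K₁ : CochainComplex (Limits.pullback (Limits.pullback.snd a g) (Limits.pullback.snd b g)).Modules ℤ)
    (hK₁ : Nonempty (DCoh.toD _ K₁ ≅ (DCoh.Lpull (Limits.pullback.map (Limits.pullback.snd a g) (Limits.pullback.snd b g) a b
      (Limits.pullback.fst a g) (Limits.pullback.fst b g) g (Limits.pullback.condition).symm (Limits.pullback.condition).symm)).obj (DCoh.toD _ K))) :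
    FMK.IsRelEquivKernel (Limits.pullback.snd a g) (Limits.pullback.snd b g) K₁ := by
  let a' := pullback.snd a g
  let b' := pullback.snd b g
  obtain ⟨eK₁⟩ := hK₁
  obtain ⟨hKp, K', hK'p, ⟨ea⟩, ⟨eb⟩⟩ := hK
  let ρba : pullback b' a' ⟶ pullback b a := pullback.map b' a' b a (pullback.fst b g) (pullback.fst a g) g
    pullback.condition.symm pullback.condition.symm
  haveI := LeftExists.hasLpull ρba
  haveI := LeftExists.hasLpull (pullback.map a' a' a a (pullback.fst a g) (pullback.fst a g) g
    pullback.condition.symm pullback.condition.symm)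
  haveI := LeftExists.hasLpull (pullback.map b' b' b b (pullback.fst b g) (pullback.fst b g) g
    pullback.condition.symm pullback.condition.symm)
  let K₁' := DerivedCategory.Q.objPreimage ((DCoh.Lpull ρba).obj (DCoh.toD _ K'))
  let eK₁' : DCoh.toD _ K₁' ≅ (DCoh.Lpull ρba).obj (DCoh.toD _ K') := DerivedCategory.Q.objObjPreimageIso _
  obtain ⟨da⟩ := DiagBC.nonempty_iso a g
  obtain ⟨db⟩ := DiagBC.nonempty_iso b g
  obtain ⟨ca⟩ := Groth.Agent.S13566.result a b a g K K' hKp hK'p K₁ ⟨eK₁⟩ K₁' ⟨eK₁'⟩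
  obtain ⟨cb⟩ := Groth.Agent.S13566.result b a b g K' K hK'p hKp K₁' ⟨eK₁'⟩ K₁ ⟨eK₁⟩
  exact ⟨ObjectProperty.prop_of_iso _ eK₁.symm (Groth.Agent.S0921.result _ _ hKp), K₁',
    ObjectProperty.prop_of_iso _ eK₁'.symm (Groth.Agent.S0921.result _ _ hK'p),
    ⟨da.symm ≪≫ (DCoh.Lpull _).mapIso ea ≪≫ ca⟩,
    ⟨db.symm ≪≫ (DCoh.Lpull _).mapIso eb ≪≫ cb⟩⟩

end Groth.Agent.S13548
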