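import Groth.Statements.S7591
import Groth.Agent.Lib.GeomConn.GaloisComponents

set_option autoImplicit false
universe u
open CategoryTheory CategoryTheory.Limits AlgebraicGeometry
open Variety

namespace Groth.Agent.S7591

/-- For a scheme X over a field k, geometric connectedness of X over k holds exactly when, for each
finite separable extension field k' of k, the base change X_{k'} is a connected (so nonempty)
scheme. -/
theorem result (k : Type u) [Field k] (X : Scheme.{u}) [X.Over (Spec (CommRingCat.of k))] :
    GeometricallyConnected (X ↘ (Spec (CommRingCat.of k))) ↔
      ∀ (k' : Type u) [Field k'] [Algebra k k'] [FiniteDimensional k k'] [Algebra.IsSeparable k k'],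
        ConnectedSpace ↥(Curv2.bc k X k') := by
  refine ⟨fun h k' _ _ _ _ => ?_,
    Groth.Agent.Lib.GeomConn.Geometric.geometricallyConnected_of_finite_separable k X⟩
  exact (Groth.Agent.Lib.GeomConn.Geometric.geometricallyConnected_iff_forall k X).mp h k'

end Groth.Agent.S7591
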