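import Groth.Statements.S1355
import Groth.Agent.S7591
import Groth.Agent.H56.SepExt

set_option autoImplicit false
universe u
open FlatMor

namespace Groth.Agent.S1355

open AlgebraicGeometry CategoryTheory Limits in
theorem connectedSpace_of_iso {A B : Scheme.{u}} (e : A ≅ B) [ConnectedSpace A] : ConnectedSpace B :=
  Groth.Agent.Lib.GeomConn.Geometric.connectedSpace_of_surjective e.hom.continuous e.hom.surjective

open AlgebraicGeometry CategoryTheory Limits in
/-- A base change of the fibre along an iso of fields. -/
noncomputable def fibreIso {X S U : Scheme.{u}} (f : X ⟶ S) (s : S) (g : U ⟶ S) (u : U) {K : Scheme.{u}}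
    (a : K ⟶ Spec (S.residueField s)) (c : K ≅ Spec (U.residueField u))
    (hc : a ≫ S.fromSpecResidueField s = c.hom ≫ U.fromSpecResidueField u ≫ g) :
    pullback (f.fiberToSpecResidueField s) a ≅ (pullback.snd f g).fiber u :=
  pullbackLeftPullbackSndIso f (S.fromSpecResidueField s) a ≪≫ pullback.congrHom rfl hc ≪≫
    asIso (pullback.map f (c.hom ≫ U.fromSpecResidueField u ≫ g) f (U.fromSpecResidueField u ≫ g)
      (𝟙 X) c.hom (𝟙 S) (by simp) (by simp)) ≪≫ (pullbackLeftPullbackSndIso f g (U.fromSpecResidueField u)).symm

open AlgebraicGeometry CategoryTheory Limits in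
/-- Let f : X → S and s a point of S. The fibre of f over s is geometrically connected if and only if
for every étale morphism U → S and every point u over s, the fibre over u of the base change of f to
U is connected. -/
theorem result {X S : Scheme.{u}} (f : X ⟶ S) (s : S) :
    GeometricallyConnected (f.fiberToSpecResidueField s) ↔
      ∀ (U : Scheme.{u}) (g : U ⟶ S) (u : U), Etale g → g u = s → ConnectedSpace ↑((pullback.snd f g).fiber u) := by
  constructor
  · rintro h U g u - rfl
    haveI := h
    let a := Spec.map (g.residueFieldMap u)
    haveI : GeometricallyConnected (pullback.snd (f.fiberToSpecResidueField (g u)) a) := inferInstance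
    haveI : ConnectedSpace ↑(pullback (f.fiberToSpecResidueField (g u)) a) :=
      GeometricallyConnected.connectedSpace_of_subsingleton (pullback.snd (f.fiberToSpecResidueField (g u)) a)
    exact connectedSpace_of_iso (fibreIso f (g u) g u a (Iso.refl _)
      ((Scheme.Hom.SpecMap_residueFieldMap_fromSpecResidueField g u).trans (Category.id_comp _).symm))
  · intro h
    letI : (f.fiber s).Over (Spec (CommRingCat.of (S.residueField s))) := ⟨f.fiberToSpecResidueField s⟩
    refine (Groth.Agent.S7591.result (S.residueField s) (f.fiber s)).mpr fun K _ _ _ _ => ?_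
    obtain ⟨U, g, u, hu, hg, e, he, heq⟩ := Groth.Agent.H56.SepExt.exists_etale_nbhd_residueField S s K
    haveI : IsIso e := (ConcreteCategory.isIso_iff_bijective e).mpr he
    haveI := h U g u hg hu
    refine connectedSpace_of_iso (fibreIso f s g u (Spec.map (CommRingCat.ofHom (algebraMap (S.residueField s) K)))
      (asIso (Spec.map e)) ?_).symm
    subst hu
    have h1 : Spec.map (CommRingCat.ofHom (algebraMap (S.residueField (g u)) K)) =
        Spec.map e ≫ Spec.map (g.residueFieldMap u) :=
      (congrArg Spec.map heq.symm).trans (by simp [Spec.map_comp])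
    exact (congrArg (fun m => m ≫ S.fromSpecResidueField (g u)) h1).trans ((Category.assoc _ _ _).trans
      (congrArg (fun m => Spec.map e ≫ m) (Scheme.Hom.SpecMap_residueFieldMap_fromSpecResidueField g u)))

end Groth.Agent.S1355
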