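import Groth.Statements.S13550
import Groth.Agent.Lib.DMod.TorIndepData
import Groth.Agent.Lib.DMod.EvalQis
import Groth.Agent.Lib.DR.BcRHomCases
import Groth.Agent.Lib.DR.TorDim
import Groth.Agent.Lib.DR.Representative

set_option autoImplicit false
universe u
open CategoryTheory
attribute [local instance] HasDerivedCategory.standard
open Dual2

namespace Groth.Agent.S13550

/-- Let R → A and R → R' be ring maps and A' = A ⊗_R R', with A pseudo-coherent as an R-module, R' of
finite tor dimension as an R-module, and A, R' tor independent over R (Tor_p^R(A, R') = 0 for p ≥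
1). The derived base-change functors − ⊗^L_R R' and − ⊗^L_A A' (left adjoint to restriction) and the
trivial-duality functors R Hom(A, −) : D(R) ⥤ D(A), R Hom(A', −) : D(R') ⥤ D(A') (right adjoint to
restriction) are given as adjunction data. Then for every K in D^+(R) (K in D^{≥ n} for some integer
n), and every proof that the comparison map (K|_R) ⊗^L_R R' → (K ⊗^L_A A')|_{R'} at R Hom(A, K) is
an isomorphism, the base-change map of trivial duality R Hom(A, K) ⊗^L_A A' → R Hom(A', K ⊗^L_R R')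
is an isomorphism. -/
theorem result (R A R' A' : Type u) [CommRing R] [CommRing A] [CommRing R'] [CommRing A']
    [Algebra R A] [Algebra R R'] [Algebra A A'] [Algebra R' A'] [Algebra R A'] [IsScalarTower R A A'] [IsScalarTower R R' A']
    [Algebra.IsPushout R A R' A']
    (hpc : DRing.IsPseudoCoherentModule' R A)
    (hfd : DRing.HasFiniteTorDim R R')
    (htor : ∀ p : ℕ, 1 ≤ p → Subsingleton (DRing.Tor R p A R'))
    [DRing.HasLBaseChange (algebraMap R R')] [DRing.HasLBaseChange (algebraMap A A')]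
    (adjρ : DRing.LBaseChange (algebraMap R R') ⊣ DRing.restrictD (algebraMap R R'))
    (adjα : DRing.LBaseChange (algebraMap A A') ⊣ DRing.restrictD (algebraMap A A'))
    (h : (algebraMap A A').comp (algebraMap R A) = (algebraMap R' A').comp (algebraMap R R'))
    (Rφ : Dual.D R ⥤ Dual.D A) (adj : DRing.restrictD (algebraMap R A) ⊣ Rφ)
    (Rφ' : Dual.D R' ⥤ Dual.D A') (adj' : DRing.restrictD (algebraMap R' A') ⊣ Rφ')
    (K : Dual.D R) (n : ℤ) [K.IsGE n] (hc : IsIso (TrivBC.cmp adjρ adjα h (Rφ.obj K))) :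
    IsIso (TrivBC.bcMap adjρ adjα h adj adj' K hc) := by
  obtain ⟨E, hEK, e, q, he, hq', hq⟩ :=
    Groth.Agent.Lib.DMod.TorIndepData.exists_data_proj (R := R) (A := A) (R' := R') (A' := A') htor
  obtain ⟨d, hd⟩ := hfd
  obtain ⟨E', hE', hE'f, ⟨eE'⟩⟩ := (Groth.Agent.Lib.DR.TorDim.hasTorDimLE_iff R' d).1 hd
  obtain ⟨P, b, hPz, hPp, ⟨eP⟩⟩ : ∃ (P : DRing.Cx R) (b : ℤ), (∀ i, b < i → Limits.IsZero (P.X i)) ∧
      (∀ i, Module.Finite R (P.X i) ∧ Module.Projective R (P.X i)) ∧
      Nonempty (DerivedCategory.Q.obj P ≅ Dual.inD R A) := by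
    obtain ⟨b, P, hPz, hPf, hPe⟩ := (Groth.Agent.Lib.DR.Representative.isPseudoCoherent'_iff _).1 hpc
    exact ⟨P, b, hPz, fun i => ⟨(hPf i).1, (Groth.Agent.Lib.DR.PseudoCoherent.fproj_of_ff _ (hPf i)).2⟩, hPe⟩
  haveI : P.IsKProjective :=
    Groth.Agent.Lib.DR.FiniteComplex.isKProjective_of_bounds
      Groth.Agent.Lib.DR.PseudoCoherent.projective_of_fproj (b := b) hPz hPp
  obtain ⟨p, hp⟩ := Groth.Agent.Lib.DR.Basic.exists_Q_map_eq
    (eP ≪≫ Groth.Agent.Lib.DR.BcRHomCases.inDIso R A).hom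
  haveI : QuasiIso p := by
    rw [← DerivedCategory.isIso_Q_map_iff_quasiIso, hp]
    infer_instance
  have := Groth.Agent.Lib.DR.DTenBasic.isIso_Q_map e he
  obtain ⟨g, hg⟩ := Groth.Agent.Lib.DR.Basic.exists_Q_map_eq
    (asIso (DerivedCategory.Q.map e) ≪≫ (Groth.Agent.Lib.DR.BcRHomCases.inDIso R R').symm ≪≫ eE'.symm).hom
  haveI : QuasiIso g := by
    rw [← DerivedCategory.isIso_Q_map_iff_quasiIso, hg]
    infer_instance
  obtain ⟨J, η, hJ, hη⟩ := Groth.Agent.Lib.DerCat.KInjExists.hasKInjRes (DerivedCategory.Q.objPreimage K)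
  have := Groth.Agent.Lib.DR.DTenBasic.isIso_Q_map η hη
  let eJ : DerivedCategory.Q.obj J ≅ K :=
    (asIso (DerivedCategory.Q.map η)).symm ≪≫ DerivedCategory.Q.objObjPreimageIso K
  obtain ⟨X, hX, ⟨eX⟩⟩ := DerivedCategory.exists_iso_Q_obj_of_isGE K n
  obtain ⟨gX, hgX⟩ := Groth.Agent.Lib.DR.EvalHom.exists_Q_map_eq_injective (eX.symm ≪≫ eJ.symm).hom
  haveI : QuasiIso gX := by
    rw [← DerivedCategory.isIso_Q_map_iff_quasiIso, hgX]
    infer_instance
  have hEf := Groth.Agent.Lib.DR.KFlat.isKFlat_of_isKProjective E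
  have hE'K : DRing.IsKFlat R E' :=
    Groth.Agent.Lib.DR.KFlat.isKFlat_of_flat E' 0 (fun i hi => hE' i (Or.inr hi)) hE'f
  rw [Groth.Agent.Lib.DMod.TorIndepBC.isIso_bcMap_iff _ _ _ _ h e q adjρ adjα hEf hq adj adj' p K hc J eJ,
    ← Groth.Agent.Lib.DMod.EvalQis.quasiIso_iff_right P hEf gX,
    Groth.Agent.Lib.DMod.EvalQis.quasiIso_iff_left P g hEf hE'K]
  have : IsIso (Groth.Agent.Lib.DR.HomCxFinite.evalTenCx E' P X) :=
    Groth.Agent.Lib.DR.BcRHom.Finitary.isIso_evalTenCx_of_finitary E' P X hPp fun m =>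
      ⟨Finset.Icc (n - m + -(d : ℤ)) b, fun i hi => by
        rw [Finset.mem_Icc] at hi
        by_cases h : b < i
        · exact Or.inl (hPz i h)
        · refine Or.inr fun j => ?_
          by_cases hj : j < -(d : ℤ)
          · exact Or.inl (hE' j (Or.inl hj))
          · exact Or.inr ((CochainComplex.isStrictlyGE_iff _ _).1 hX _ (by lia))⟩
  infer_instance

end Groth.Agent.S13550
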