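import Groth.Statements.S13555
import Groth.Agent.Lib.DerivedOX.DualNat
import Groth.Agent.Lib.DerivedOX.FMDiag
import Groth.Agent.S3658
-- import your own Groth.Agent.* helpers here

set_option autoImplicit false
universe u
open CategoryTheory AlgebraicGeometry
attribute [local instance] HasDerivedCategory.standard
open DEquiv

namespace Groth.Agent.S13555

set_option linter.style.haveILetI false
set_option maxHeartbeats 1000000

open Limits Groth.Agent.Lib.DerivedOX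

/-- `Lσ^* ⋙ Rσ_* ≅ 𝟭` for an isomorphism `σ`. -/
theorem nonempty_pullPushIso {X Y : Scheme.{u}} (σ : X ≅ Y) [DCoh.HasLpull σ.hom] [DCoh.HasRpush σ.hom] :
    Nonempty (DCoh.Lpull σ.hom ⋙ DCoh.Rpush σ.hom ≅ 𝟭 (DCoh.D Y)) := by
  haveI := LeftExists.hasLpull σ.inv
  haveI := LeftExists.hasLpull (σ.inv ≫ σ.hom)
  haveI := LeftExists.hasLpull (σ.hom ≫ σ.inv)
  haveI := LeftExists.hasLpull (𝟙 X)
  haveI := LeftExists.hasLpull (𝟙 Y)
  obtain ⟨a⟩ := FMTools.nonempty_lpullCongr σ.inv_hom_id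
  obtain ⟨b⟩ := FMTools.nonempty_lpullCongr σ.hom_inv_id
  obtain ⟨c⟩ := FMDiag.nonempty_lpullId Y
  obtain ⟨d⟩ := FMDiag.nonempty_lpullId X
  let η : 𝟭 (DCoh.D Y) ≅ DCoh.Lpull σ.hom ⋙ DCoh.Lpull σ.inv :=
    (PullComp.lpullCompIso σ.inv σ.hom ≪≫ a ≪≫ c).symm
  let ε : DCoh.Lpull σ.inv ⋙ DCoh.Lpull σ.hom ≅ 𝟭 (DCoh.D X) :=
    PullComp.lpullCompIso σ.hom σ.inv ≪≫ b ≪≫ d
  let E := CategoryTheory.Equivalence.mk (DCoh.Lpull σ.hom) (DCoh.Lpull σ.inv) η ε
  exact ⟨Functor.isoWhiskerLeft _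
    ((PullPushAdj.derivedAdjunction σ.hom).rightAdjointUniq E.toAdjunction) ≪≫ η.symm⟩


/-- Let S, X and Y be quasi-compact quasi-separated schemes, X → S proper, flat and of finite
presentation, Y → S a morphism, and K a complex of modules on X ×_S Y defining a perfect object with
quasi-coherent cohomology sheaves. Let a denote the right adjoint of Rpr_{2,*} : D_QCoh(O_{X ×_S Y})
→ D_QCoh(O_Y) (assumed to exist, instance binder), a(O_Y) its value on the structure sheaf in degree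
0, and let K' be a complex of modules on Y ×_S X whose image in the derived category is isomorphic
to the derived pullback, along the symmetry Y ×_S X → X ×_S Y, of RHom(K, a(O_Y)). The derived
functors involved are assumed to exist and the two Fourier–Mukai functors are assumed to preserve
objects with quasi-coherent cohomology sheaves (hypotheses h, h'). Then Φ_{K'} : D_QCoh(O_Y) ⥤
D_QCoh(O_X) is right adjoint to Φ_K : D_QCoh(O_X) ⥤ D_QCoh(O_Y) (existence of an adjunction; the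
published statement names the comparison map Hom(M, Φ_{K'} N) → Hom(Φ_K M, N), which is not
constructed here). -/
theorem result {S X Y : Scheme.{u}} (a : X ⟶ S) (b : Y ⟶ S)
    [CompactSpace S] [QuasiSeparatedSpace S] [CompactSpace X] [QuasiSeparatedSpace X]
    [CompactSpace Y] [QuasiSeparatedSpace Y]
    [IsProper a] [Flat a] [LocallyOfFinitePresentation a]
    (K : CochainComplex (Limits.pullback a b).Modules ℤ) (hK : DCoh.IsPerfect (DCoh.toD _ K))
    (hKq : DCoh.IsQCohD (DCoh.toD _ K))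
    [DCoh.HasLpull (Limits.pullback.fst a b)] [DCoh.HasLTensorCx K] [DCoh.HasRpush (Limits.pullback.snd a b)]
    [DCoh.HasRSheafHom K]
    (hR : DCoh.RpushPreservesQCoh (Limits.pullback.snd a b)) [DCoh.HasShriek (Limits.pullback.snd a b) hR]
    (OY : DCoh.DQCoh Y) (hOY : OY.obj ≅ DCoh.inD Y (Coh.structureModule Y))
    [DCoh.HasLpull (Limits.pullbackSymmetry b a).hom]
    (K' : CochainComplex (Limits.pullback b a).Modules ℤ)
    (hK' : Nonempty (DCoh.toD _ K' ≅ (DCoh.Lpull (Limits.pullbackSymmetry b a).hom).obj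
      ((DCoh.RSheafHom K).obj (DCoh.dualizingCx (Limits.pullback.snd a b) hR OY))))
    [DCoh.HasLpull (Limits.pullback.fst b a)] [DCoh.HasLTensorCx K'] [DCoh.HasRpush (Limits.pullback.snd b a)]
    (h : ∀ M : DCoh.D X, DCoh.IsQCohD M → DCoh.IsQCohD ((FMK.phi a b K).obj M))
    (h' : ∀ N : DCoh.D Y, DCoh.IsQCohD N → DCoh.IsQCohD ((FMK.phi b a K').obj N)) :
    Nonempty (FMK.phiOn a b K DCoh.IsQCohD DCoh.IsQCohD h ⊣ FMK.phiOn b a K' DCoh.IsQCohD DCoh.IsQCohD h') := by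
  let p1 := pullback.fst a b
  let p2 := pullback.snd a b
  haveI : IsProper p2 := inferInstance
  haveI : Flat p2 := MorphismProperty.pullback_snd _ _ (inferInstance : Flat a)
  haveI : LocallyOfFinitePresentation p2 :=
    MorphismProperty.pullback_snd _ _ (inferInstance : LocallyOfFinitePresentation a)
  haveI : CompactSpace ↥(pullback a b) := QuasiCompact.compactSpace_of_compactSpace p2
  haveI : QuasiSeparatedSpace ↥(pullback a b) := quasiSeparatedSpace_of_quasiSeparated p2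
  haveI := Exists.hasRpush p1
  haveI := LeftExists.hasLpull p2
  haveI : QuasiCompact p1 := MorphismProperty.pullback_fst _ _ (inferInstance : QuasiCompact b)
  haveI : QuasiSeparated p1 := MorphismProperty.pullback_fst _ _ (inferInstance : QuasiSeparated b)
  obtain ⟨H, hHT, hH, hHp, ⟨eH⟩⟩ := DualNat.nonempty_natIso K hK
  have hHq := Groth.Agent.Lib.Perfect.QCohD.isQCohD_of_isPerfect hHp
  have hRq : ∀ N : DCoh.D (pullback a b), DCoh.IsQCohD N → DCoh.IsQCohD ((DCoh.RSheafHom K).obj N) :=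
    fun N hN => (DCoh.IsQCohD).prop_of_iso (eH.app N) (QCohLocal.isQCohD_LTensorCx H hHq hN)
  let ιX := ObjectProperty.ι (DCoh.IsQCohD (X := X))
  let ιY := ObjectProperty.ι (DCoh.IsQCohD (X := Y))
  let ιP := ObjectProperty.ι (DCoh.IsQCohD (X := pullback a b))
  let F₁ : DCoh.DQCoh X ⥤ DCoh.DQCoh (pullback a b) :=
    ObjectProperty.lift _ (ιX ⋙ DCoh.Lpull p1 ⋙ DCoh.LTensorCx K) fun A =>
      QCohLocal.isQCohD_LTensorCx K hKq (QCohLocal.isQCohD_Lpull p1 A.property)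
  let G₁ : DCoh.DQCoh (pullback a b) ⥤ DCoh.DQCoh X :=
    ObjectProperty.lift _ (ιP ⋙ DCoh.RSheafHom K ⋙ DCoh.Rpush p1) fun A =>
      RpushQCoh.isQCohD_Rpush p1 _ (hRq _ A.property)
  let adj₁ : F₁ ⊣ G₁ :=
    ((PullPushAdj.derivedAdjunction p1).comp (DCoh.RSheafHomAdj K)).restrictFullyFaithful
      (ObjectProperty.fullyFaithfulι _) (ObjectProperty.fullyFaithfulι _) (Iso.refl _) (Iso.refl _)
  let adj := adj₁.comp (DCoh.shriekAdj p2 hR)
  let eF : F₁ ⋙ DCoh.RpushQ p2 hR ≅ FMK.phiOn a b K DCoh.IsQCohD DCoh.IsQCohD h :=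
    ((ObjectProperty.fullyFaithfulι _).whiskeringRight _).preimageIso (Iso.refl _)
  -- the dualizing object
  let ω := DCoh.dualizingCx p2 hR OY
  let E := DerivedCategory.Q.objPreimage ω
  let eE : DerivedCategory.Q.obj E ≅ ω := DerivedCategory.Q.objObjPreimageIso _
  haveI := LeftExists.hasLTensorCx E
  obtain ⟨eA⟩ := Groth.Agent.S3658.result (pullback a b) Y p2 hR _ (DCoh.shriekAdj p2 hR) OY ⟨hOY⟩
    E ⟨eE⟩
  let G := (DCoh.tensorCx.obj E).obj H
  haveI := LeftExists.hasLTensorCx G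
  haveI := ProjectionNat.isIso_tensorCounit_of_isKFlat hH E
  let eG : DerivedCategory.Q.obj G ≅ (DCoh.RSheafHom K).obj ω :=
    (asIso ((ProjectionMap.tensorCounit H).app E)).symm ≪≫ eH.app _ ≪≫ (DCoh.RSheafHom K).mapIso eE
  -- the transpose
  obtain ⟨eK'⟩ := hK'
  let σ := pullbackSymmetry b a
  haveI := Exists.hasRpush σ.hom
  obtain ⟨pt⟩ := FMTools.nonempty_pullTensor σ.hom G K' (eK' ≪≫ (DCoh.Lpull σ.hom).mapIso eG.symm)
  haveI := LeftExists.hasLpull (σ.hom ≫ p2)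
  haveI := Exists.hasRpush (σ.hom ≫ p1)
  obtain ⟨l⟩ := FMTools.nonempty_lpullCongr (pullbackSymmetry_hom_comp_snd b a :
    σ.hom ≫ p2 = pullback.fst b a)
  obtain ⟨r⟩ := FMTools.nonempty_rpushCongr (pullbackSymmetry_hom_comp_fst b a :
    σ.hom ≫ p1 = pullback.snd b a)
  obtain ⟨u⟩ := nonempty_pullPushIso σ
  let eG' : (DCoh.shriek p2 hR ⋙ G₁) ⋙ ιX ≅
      FMK.phiOn b a K' DCoh.IsQCohD DCoh.IsQCohD h' ⋙ ιX :=
    Functor.isoWhiskerRight eA (DCoh.RSheafHom K ⋙ DCoh.Rpush p1) ≪≫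
    Functor.isoWhiskerLeft (ιY ⋙ DCoh.Lpull p2)
      (Functor.isoWhiskerLeft (DCoh.LTensorCx E) (Functor.isoWhiskerRight eH.symm (DCoh.Rpush p1)) ≪≫
        Functor.isoWhiskerRight (TensorAssoc.ltensorAssocIso E hH) (DCoh.Rpush p1) ≪≫
        Functor.isoWhiskerLeft (DCoh.LTensorCx G) (Functor.isoWhiskerRight u.symm (DCoh.Rpush p1)) ≪≫
        Functor.isoWhiskerRight pt (DCoh.Rpush σ.hom ⋙ DCoh.Rpush p1) ≪≫
        Functor.isoWhiskerLeft (DCoh.Lpull σ.hom ⋙ DCoh.LTensorCx K')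
          (PullComp.rpushCompIso σ.hom p1 ≪≫ r)) ≪≫
    Functor.isoWhiskerLeft ιY (Functor.isoWhiskerRight (PullComp.lpullCompIso σ.hom p2 ≪≫ l)
      (DCoh.LTensorCx K' ⋙ DCoh.Rpush (pullback.snd b a)))
  exact ⟨(adj.ofNatIsoLeft eF).ofNatIsoRight
    (((ObjectProperty.fullyFaithfulι _).whiskeringRight _).preimageIso eG')⟩

end Groth.Agent.S13555
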