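import Groth.Statements.S13587
import Groth.Agent.Lib.ModSS29.SectHom
-- import your own Groth.Agent.* helpers here

set_option autoImplicit false
universe u
open CategoryTheory CategoryTheory.Limits
open ExtSupp

namespace Groth.Agent.S13587
open Groth.Agent.Lib Groth.Agent.Lib.ModSS29 Groth.Agent.Lib.ModSS29.Rows

/-- On a ringed site, for an object `U` with closed complement `Z` and sheaves of modules `M`, `N`,
there is a bounded `E_2` spectral sequence of abelian groups with `E_2^{p,q}` isomorphic to
`H^p(ℰxt^q_{O,Z}(M, N))` (cohomology of the site) for `p, q ≥ 0` and zero otherwise, together with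
abutment data whose filtrations are finite on `Ext^n_Z(M, N)` (`n ≥ 0`; zero for `n < 0`). The `E_2`
identifications and the abutment isomorphisms are asserted to exist only and are not pinned to the
canonical maps, so edge maps are not part of this statement; the internal hom out of `M`, the right
adjoint of restriction to `U` and injective resolutions of sheaves of modules are assumed to exist.
(The published statement, on a ringed topos and likewise on a ringed space, is functorial in `M`,
`N` and in an object `X` of the topos; this row is the case of the final object.) -/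
theorem result {C : Type u} [SmallCategory C]
    {J : GrothendieckTopology C} {O : Sheaf J CommRingCat.{u}} [HasExt.{u} (ModSite.Mod O)]
    (U : C) [ModSite.HasPushOver O U] (M N : ModSite.Mod O) [ModSite.HasSheafHom M]
    [HasInjectiveResolutions (ModSite.Mod O)] :
    ∃ (E : E₂CohomologicalSpectralSequence AddCommGrpCat.{u})
      (a : SpSeq.Abutment E (fun n : ℤ =>
        if 0 ≤ n then AddCommGrpCat.of (ExtSupp.ExtZ U M N n.toNat) else AddCommGrpCat.of PUnit.{u + 1})),
      (∀ n, a.IsFinite n) ∧ SpSeq.IsBounded E ∧
      ∀ p q : ℤ, Nonempty ((E.page 2 le_rfl).X (p, q) ≅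
        (if 0 ≤ p ∧ 0 ≤ q then AddCommGrpCat.of (ModSite.HC O ((ModSite.extZSh U M q.toNat).obj N) p.toNat)
         else AddCommGrpCat.of PUnit.{u + 1})) := by
  haveI := ModTensor.ModSite.hasSheafHom ((OpenFree.Qt U O).obj M)
  refine SS.main ((OpenFree.Qt U O).obj M) N _ _ (AbSide.zNatIso O)
    (fun I _ p => AbSide.subsingleton_ext_sheafHom_Z O _ I p) _
    (fun n => iso_ite (Int.natCast_nonneg n) ?_) (fun n hn => isZero_ite (not_le.2 hn)) _
    (fun p q => iso_ite ⟨Int.natCast_nonneg p, Int.natCast_nonneg q⟩ ?_) (fun p q h => isZero_ite h)
  · exact ⟨SS.extIsoFst (flipUnit _ ≪≫ (OpenFree.qtIsoQuotOn U O).app M) N n⟩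
  · exact ⟨SectHom.extSndIso O _
      (SpecSeq.Composite.rightDerivedCongr (SectHom.homSectIso O U M).symm q N) p⟩

end Groth.Agent.S13587
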