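import Groth.Statements.S13588
import Groth.Agent.Lib.ModSS29.SectHom
-- import your own Groth.Agent.* helpers here

set_option autoImplicit false
universe u
open CategoryTheory CategoryTheory.Limits
open ExtSupp

namespace Groth.Agent.S13588
open Groth.Agent.Lib Groth.Agent.Lib.ModSS29 Groth.Agent.Lib.ModSS29.Rows

/-- On a ringed site, for an object `U` with closed complement `Z` and sheaves of modules `M`, `N`,
there is a bounded `E_2` spectral sequence of abelian groups with `E_2^{p,q}` isomorphic to
`Ext^p_O(M, ℋ^q_Z(N))` for `p, q ≥ 0` and zero otherwise, together with abutment data whose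
filtrations are finite on `Ext^n_Z(M, N)` (`n ≥ 0`; zero for `n < 0`). The `E_2` identifications and
the abutment isomorphisms are asserted to exist only and are not pinned to the canonical maps, so
edge maps are not part of this statement; the internal hom out of `M`, the right adjoint of
restriction to `U` and injective resolutions of sheaves of modules are assumed to exist. (The
published statement, on a ringed topos and likewise on a ringed space, is functorial in `M`, `N` and
in an object `X` of the topos; this row is the case of the final object.) -/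
theorem result {C : Type u} [SmallCategory C]
    {J : GrothendieckTopology C} {O : Sheaf J CommRingCat.{u}} [HasExt.{u} (ModSite.Mod O)]
    (U : C) [ModSite.HasPushOver O U] (M N : ModSite.Mod O) [ModSite.HasSheafHom M]
    [HasInjectiveResolutions (ModSite.Mod O)] :
    ∃ (E : E₂CohomologicalSpectralSequence AddCommGrpCat.{u})
      (a : SpSeq.Abutment E (fun n : ℤ =>
        if 0 ≤ n then AddCommGrpCat.of (ExtSupp.ExtZ U M N n.toNat) else AddCommGrpCat.of PUnit.{u + 1})),
      (∀ n, a.IsFinite n) ∧ SpSeq.IsBounded E ∧
      ∀ p q : ℤ, Nonempty ((E.page 2 le_rfl).X (p, q) ≅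
        (if 0 ≤ p ∧ 0 ≤ q then AddCommGrpCat.of (Abelian.Ext.{u} M ((ModSite.HZsh O U q.toNat).obj N) p.toNat)
         else AddCommGrpCat.of PUnit.{u + 1})) := by
  haveI := (OpenFree.adjQ U O).leftAdjoint_preservesColimits
  haveI := preservesBinaryBiproducts_of_preservesBinaryCoproducts (OpenFree.Qt U O)
  haveI := Functor.additive_of_preservesBinaryBiproducts (OpenFree.Qt U O)
  let e : ModSite.sectOn O U ⋙ SpecSeq.HomExt.homFunctor M ≅
      SpecSeq.HomExt.homFunctor ((ModSite.quotOn O U).obj M) :=
    SS.compHomIso (OpenFree.adjQ U O) M ≪≫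
      preadditiveCoyoneda.mapIso ((OpenFree.qtIsoQuotOn U O).app M).symm.op
  refine SpecSeq.Composite.exists_spectralSequence (ModSite.sectOn O U)
    (SpecSeq.HomExt.homFunctor M) (fun I _ p => ?_) N _
    (fun n => iso_ite (Int.natCast_nonneg n) ?_) (fun n hn => isZero_ite (not_le.2 hn)) _
    (fun p q => iso_ite ⟨Int.natCast_nonneg p, Int.natCast_nonneg q⟩ ?_) (fun p q h => isZero_ite h)
  · haveI := OpenFree.injective_sectOn U O I
    haveI : Subsingleton (Abelian.Ext.{u} M ((ModSite.sectOn O U).obj I) (p + 1)) :=
      subsingleton_of_forall_eq 0 fun x => Abelian.Ext.eq_zero_of_injective x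
    exact SS.isZero_rightDerived_hom _ _ _
  · exact ⟨SpecSeq.Composite.rightDerivedCongr e n N ≪≫ SpecSeq.HomExt.rightDerivedIso _ N n⟩
  · exact ⟨SpecSeq.HomExt.rightDerivedIso M _ p⟩

end Groth.Agent.S13588
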