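import Groth.Statements.S1359
import Groth.Agent.Lib.Flat55.Infinitesimal
import Groth.Agent.H75.BaseChange.Nhd

set_option autoImplicit false
universe u
open FlatMor

namespace Groth.Agent.S1359

open AlgebraicGeometry CategoryTheory Limits in
/-- Let S be locally Noetherian, f : X → S of finite type, and Z the closed subscheme of S cut out by an
ideal sheaf I, with infinitesimal neighbourhoods cut out by the powers of I. If the base change of f
to every infinitesimal neighbourhood is smooth, then every point of X lying over Z is in the smooth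
locus of f. -/
theorem result {X S : Scheme.{u}} (f : X ⟶ S) [IsLocallyNoetherian S] [LocallyOfFinitePresentation f] [QuasiCompact f]
    (I : S.IdealSheafData) (h : ∀ n : ℕ, Smooth (pullback.snd f (I ^ (n + 1)).subschemeι)) (x : X) (hx : f x ∈ I.support) :
    x ∈ f.smoothLocus := by
  have := LocallyOfFiniteType.isLocallyNoetherian f
  have hfl := Groth.Agent.Lib.Flat55.Infinitesimal.flat_stalkMap f I
    (fun n => have := h n; inferInstance) x hx
  obtain ⟨z, hz⟩ : f x ∈ Set.range (I ^ (0 + 1)).subschemeι := by
    rw [Scheme.IdealSheafData.range_subschemeι, Scheme.IdealSheafData.support_pow_succ]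
    exact hx
  obtain ⟨w, rfl, -⟩ := Scheme.Pullback.exists_preimage_pullback x z hz.symm
  obtain ⟨O, hO, hsm⟩ := Groth.Agent.H75.BaseChange.smooth_nhd_descend_of_flat_stalk f _ w hfl
    ⟨⊤, trivial, have := h 0; inferInstance⟩
  exact (Groth.Agent.Lib.JacCrit.SmoothNhd.exists_smooth_nhd_iff f _).1 ⟨O, hO, hsm⟩

end Groth.Agent.S1359
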