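import Groth.Statements.S13599
import Groth.Agent.Lib.Cyc.FieldExtGalois
import Groth.Agent.Lib.Cyc.FibLen

set_option autoImplicit false
universe u
open CategoryTheory AlgebraicGeometry
open CategoryTheory.Limits
open Cyc

namespace Groth.Agent.S13599

/-- Let k be a field, X a separated k-scheme of finite type, and k' a finite normal extension field of
k, with G the group of k-automorphisms of k'; put X' = X ×_k Spec k' with first projection p. The
group G acts on X' over X (σ acts through Spec σ on the second factor). If Z' is a cycle on X' (an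
integer-valued function on the points of X' with locally finite support) invariant under every σ ∈
G, then there is exactly one cycle Z on X with [k' : k]_insep · Z' = p^*Z, where [k' : k]_insep is
the inseparable degree and p^*Z is the flat pullback of cycles along p: its coefficient at x' is Z(p
x') times the length of the Artinian local ring O_{X',x'}/𝔪_{p x'}O_{X',x'} (p has discrete fibres,
so there is no dimension condition; the two auxiliary dimension functions are taken to be zero). -/
theorem result
    {k : Type u} [Field k] {k' : Type u} [Field k'] [Algebra k k'] [FiniteDimensional k k'] [Normal k k']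
    {X : Scheme.{u}} (f : X ⟶ Spec (CommRingCat.of k)) [LocallyOfFiniteType f] [QuasiCompact f]
    [IsSeparated f]
    (Z' : AlgebraicCycle (pullback f (Spec.map (CommRingCat.ofHom (algebraMap k k')))) ℤ)
    (hZ' : ∀ (σ : k' ≃ₐ[k] k')
      (t : pullback f (Spec.map (CommRingCat.ofHom (algebraMap k k'))) ⟶
        pullback f (Spec.map (CommRingCat.ofHom (algebraMap k k')))),
      t ≫ pullback.fst f _ = pullback.fst f _ →
      t ≫ pullback.snd f _ = pullback.snd f _ ≫ Spec.map (CommRingCat.ofHom σ.toAlgHom.toRingHom) →
      ∀ x', Z' (t.base x') = Z' x') :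
    ∃! Z : AlgebraicCycle X ℤ, ∀ x' : ↥(pullback f (Spec.map (CommRingCat.ofHom (algebraMap k k')))),
      (Field.finInsepDegree k k' : ℤ) * Z' x' =
        Cyc.pullFun (pullback.fst f (Spec.map (CommRingCat.ofHom (algebraMap k k'))))
          (fun _ => 0) (fun _ => 0) 0 ⇑Z x' := by
  open Lib.Cyc in
  classical
  let s := Spec.map (CommRingCat.ofHom (algebraMap k k'))
  let π := pullback.fst f s
  haveI : IsLocallyNoetherian X := LocallyOfFiniteType.isLocallyNoetherian f
  haveI : IsFinite π := FieldExt.isFinite (IsPullback.of_hasPullback f s)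
  haveI : CompactSpace X := QuasiCompact.compactSpace_of_compactSpace f
  haveI : CompactSpace ↥(pullback f s) := QuasiCompact.compactSpace_of_compactSpace π
  haveI : IsLocallyNoetherian (pullback f s : Scheme.{u}) := LocallyOfFiniteType.isLocallyNoetherian π
  have hlen : ∀ a, (FibLen.fibLen π a).toNat ≠ 0 := fun a =>
    (FibLen.toNat_fibLen_pos π a (FieldExt.isMaxFib (IsPullback.of_hasPullback f s) a)).ne'
  choose d hd using FieldExt.exists_fibLen_mul (k' := k') f
  have hconj : ∀ a b, π a = π b → Z' a = Z' b ∧ FibLen.fibLen π a = FibLen.fibLen π b := by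
    intro a b hab
    obtain ⟨σ, t, ht, ht1, ht2, rfl⟩ := FieldExt.exists_conj (k' := k') f hab
    refine ⟨(hZ' σ t ht1 ht2 a).symm, ?_⟩
    have e := FibLen.fibLen_comp t π a
    rw [FieldExt.fibLen_eq_one t, mul_one] at e
    exact ((congrArg (fun m => FibLen.fibLen m a) ht1).symm.trans e)
  choose pre hpre using FieldExt.exists_over f k'
  let Z : X → ℤ := fun x => Z' (pre x) * (d (pre x) : ℤ)
  have hZ : ∀ a, Z (π a) * ((FibLen.fibLen π a).toNat : ℤ) = (Field.finInsepDegree k k' : ℤ) * Z' a := by
    intro a
    obtain ⟨h1, h2⟩ := hconj a (pre (π a)) (hpre (π a)).symm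
    rw [h1, h2, mul_assoc, ← Nat.cast_mul, mul_comm (d (pre (π a))), hd, mul_comm]
  have hfin : (Function.support ⇑Z').Finite := by
    simpa using (Z'.locallyFiniteSupport).finite_inter_support_of_isCompact isCompact_univ
  refine ⟨⟨Z, fun _ _ => trivial, fun z _ => ⟨Set.univ, Filter.univ_mem, ?_⟩⟩, fun a => ?_, fun W hW => ?_⟩
  · rw [Set.univ_inter]
    exact (hfin.image π).subset fun x hx => ⟨pre x, left_ne_zero_of_mul hx, hpre x⟩
  · rw [FibLen.pullFun_apply, if_pos (add_zero _).symm]
    exact (hZ a).symm
  · refine Function.locallyFinsuppWithin.ext fun x => ?_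
    obtain ⟨a, rfl⟩ : ∃ a, π a = x := ⟨pre x, hpre x⟩
    have h := hW a
    rw [FibLen.pullFun_apply, if_pos (add_zero _).symm, ← hZ a] at h
    exact (mul_right_cancel₀ (by exact_mod_cast hlen a) h).symm

end Groth.Agent.S13599
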