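import Groth.Statements.S1360
import Groth.Agent.Lib.Flat55.Infinitesimal
import Groth.Agent.H75.BaseChange.Nhd

set_option autoImplicit false
universe u
open FlatMor

namespace Groth.Agent.S1360

open AlgebraicGeometry CategoryTheory Limits in
/-- Let S be locally Noetherian, f : X → S of finite type, and Z the closed subscheme of S cut out by an
ideal sheaf I. If the base change of f to every infinitesimal neighbourhood of Z is étale, then
every point of X over Z has an open neighbourhood on which f is étale. -/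
theorem result {X S : Scheme.{u}} (f : X ⟶ S) [IsLocallyNoetherian S] [LocallyOfFinitePresentation f] [QuasiCompact f]
    (I : S.IdealSheafData) (h : ∀ n : ℕ, Etale (pullback.snd f (I ^ (n + 1)).subschemeι)) (x : X) (hx : f x ∈ I.support) :
    ∃ U : X.Opens, x ∈ U ∧ Etale (U.ι ≫ f) := by
  have := LocallyOfFiniteType.isLocallyNoetherian f
  have hfl := Groth.Agent.Lib.Flat55.Infinitesimal.flat_stalkMap f I
    (fun n => have := h n; inferInstance) x hx
  obtain ⟨z, hz⟩ : f x ∈ Set.range (I ^ (0 + 1)).subschemeι := by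
    rw [Scheme.IdealSheafData.range_subschemeι, Scheme.IdealSheafData.support_pow_succ]
    exact hx
  obtain ⟨w, rfl, -⟩ := Scheme.Pullback.exists_preimage_pullback x z hz.symm
  have := h 0
  obtain ⟨O, hO, hsm⟩ := Groth.Agent.H75.BaseChange.smooth_nhd_descend_of_flat_stalk f _ w hfl
    ⟨⊤, trivial, inferInstance⟩
  obtain ⟨O', hO', hur⟩ := Groth.Agent.H75.BaseChange.unramified_nhd_descend f _ w
    ⟨⊤, trivial, inferInstance⟩
  refine ⟨O ⊓ O', ⟨hO, hO'⟩, ?_⟩
  have h1 : Smooth (X.homOfLE (inf_le_left : O ⊓ O' ≤ O) ≫ O.ι ≫ f) :=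
    MorphismProperty.comp_mem @Smooth _ _ inferInstance hsm
  have h2 : FormallyUnramified (X.homOfLE (inf_le_right : O ⊓ O' ≤ O') ≫ O'.ι ≫ f) :=
    MorphismProperty.comp_mem @FormallyUnramified _ _ inferInstance hur
  rw [Scheme.homOfLE_ι_assoc] at h1 h2
  exact Etale.of_formallyUnramified_of_flat _

end Groth.Agent.S1360
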