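import Groth.Statements.S13601
import Groth.Agent.H81.SymProd.Quot

set_option autoImplicit false
universe u
open CategoryTheory AlgebraicGeometry
open SymProd

namespace Groth.Agent.S13601

/-- Let f : X ⟶ S be a flat morphism of schemes such that every finite set of points of X lying over a
single point of S is contained in an affine open of X, let n ≥ 0, and let (Y, q, g) be an n-th
symmetric power of X over S: q : X ×_S ⋯ ×_S X ⟶ Y (n factors) is a quotient by the symmetric group
on n letters permuting the factors (affine, invariant, identifying sections of O_Y with invariant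
sections) and g : Y ⟶ S satisfies q ≫ g = the structure map of the fibre power. Then g is flat. -/
theorem result {X S Y : Scheme.{u}} (f : X ⟶ S) [Flat f]
    (hAF : SymProd.IsAF f) (n : ℕ) (q : SymProd.fibPow f n ⟶ Y) (g : Y ⟶ S)
    (hq : SymProd.IsSymProd f n q g) : Flat g := by
  open Groth.Agent.H81.SymProd in
  rcases Nat.eq_zero_or_pos n with rfl | hn
  · have := Quot.isIso_of_subsingleton hq.isQuot
    have : Flat (q ≫ g) := by
      rw [hq.over]
      have : IsIso (Limits.WidePullback.base (fun _ : Fin 0 => f)) :=
        ⟨Limits.WidePullback.lift (𝟙 S) (fun i => i.elim0) (fun i => i.elim0),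
          Limits.WidePullback.hom_ext _ _ _ (fun i => i.elim0) (by rw [Category.assoc, Limits.WidePullback.lift_base, Category.comp_id, Category.id_comp]), Limits.WidePullback.lift_base _ _ _ _⟩
      infer_instance
    rw [← IsIso.inv_hom_id_assoc q g]
    infer_instance
  refine (HasRingHomProperty.iff_exists_appLE (P := @Flat) ?_).2 fun y => ?_
  · exact (RingHom.Flat.stableUnderComposition.stableUnderCompositionWithLocalizationAway
      RingHom.Flat.holdsForLocalizationAway).1
  obtain ⟨_, ⟨V, hV, rfl⟩, hy, -⟩ :=
    S.isBasis_affineOpens.exists_subset_of_mem_open (Set.mem_univ (g y)) isOpen_univ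
  obtain ⟨U, hU, hUV, -, W', hyW, hW'a, hW'⟩ := Chart.exists_symProd_chart f n hAF hn q g hq y hV hy
  exact ⟨⟨V, hV⟩, ⟨W', hW'a⟩, hyW, Quot.le_base_of_chart f n hq hn hUV hW',
    Quot.flat_appLE f n hq hn hU hV hUV hW'⟩

end Groth.Agent.S13601
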