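import Groth.Statements.S13603
import Mathlib.RingTheory.Localization.Basic
import Mathlib.Algebra.Ring.Action.Basic
import Mathlib.Tactic.LinearCombination

set_option autoImplicit false
universe u v
open CAlg

namespace Groth.Agent.S13603

/-- Let a group G act on a commutative ring B by ring automorphisms so that every element of B has a
finite orbit, and let S ⊆ B be a multiplicative set of G-fixed elements (so each g ∈ G induces an
endomorphism of the localization S⁻¹B; the hypothesis that g maps S into S is implied by the
previous one and is only carried to name that endomorphism). Then an element of S⁻¹B is fixed by all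
of G if and only if it is a fraction b/s with b fixed by G and s ∈ S: the canonical map S⁻¹(B^G) →
(S⁻¹B)^G is onto. -/
theorem result {B : Type u} [CommRing B]
    {G : Type v} [Group G] [MulSemiringAction G B] (hfin : ∀ b : B, (MulAction.orbit G b).Finite)
    (S : Submonoid B) (hS : ∀ (g : G) (s : B), s ∈ S → g • s = s)
    (hS' : ∀ g : G, S ≤ S.comap (MulSemiringAction.toRingHom G B g)) (x : Localization S) :
    (∀ g : G, IsLocalization.map (Localization S) (MulSemiringAction.toRingHom G B g) (hS' g) x = x) ↔
      ∃ (b : B) (s : S), (∀ g : G, g • b = b) ∧ x = IsLocalization.mk' (Localization S) b s := by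
  classical
  constructor
  · intro h
    obtain ⟨b, s, rfl⟩ := IsLocalization.exists_mk'_eq S x
    have hb : ∀ b' ∈ (hfin b).toFinset, ∃ t : S, (t : B) * (b' - b) = 0 := by
      intro b' hb'
      obtain ⟨g, rfl⟩ := (hfin b).mem_toFinset.mp hb'
      have hg := h g
      rw [IsLocalization.map_mk'] at hg
      rw [IsLocalization.mk'_eq_iff_eq] at hg
      obtain ⟨c, hc⟩ := (IsLocalization.eq_iff_exists S (Localization S)).mp hg
      refine ⟨c * s, ?_⟩
      have hs : (MulSemiringAction.toRingHom G B g) (s : B) = s := hS g s s.2
      simp only [MulSemiringAction.toRingHom_apply] at hc hs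
      rw [Submonoid.coe_mul]
      linear_combination hc + (c : B) * b * hs
    choose! t ht using hb
    let T : S := ∏ b' ∈ (hfin b).toFinset, t b'
    refine ⟨(T : B) * b, T * s, fun g => ?_, ?_⟩
    · have hT : g • (T : B) = T := hS g _ T.2
      rw [smul_mul', hT]
      have hmem : g • b ∈ (hfin b).toFinset :=
        (hfin b).mem_toFinset.mpr (MulAction.mem_orbit b g)
      have h0 := ht _ hmem
      rw [← sub_eq_zero, ← mul_sub, show (T : B) = t (g • b) *
        ∏ b' ∈ (hfin b).toFinset.erase (g • b), (t b' : B) by
          rw [Submonoid.coe_finsetProd]; exact (Finset.mul_prod_erase _ (fun b' => (t b' : B)) hmem).symm,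
        mul_right_comm, h0, zero_mul]
    · exact (IsLocalization.mk'_cancel b s T).symm.trans (by rw [mul_comm b, mul_comm s])
  · rintro ⟨b, s, hb, rfl⟩ g
    rw [IsLocalization.map_mk']
    congr 1
    · exact hb g
    · exact Subtype.ext (hS g s s.2)

end Groth.Agent.S13603
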