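import Groth.Statements.S13604
import Groth.Agent.Lib.CartierDescent.Stalk
import Groth.Agent.Lib.ModelFibre.StalkIdeal
import Groth.Agent.Lib.JacCrit.OverField
import Mathlib

set_option autoImplicit false
universe u
open CategoryTheory AlgebraicGeometry
open CategoryTheory.Limits
open Cyc

namespace Groth.Agent.S13604
theorem exists_gen_of_faithfullyFlat {A B : Type u} [CommRing A] [CommRing B] [IsLocalRing B]
    [Algebra A B] [Module.FaithfullyFlat A B] (I : Ideal A) {g : B} (hg : g ∈ nonZeroDivisors B)
    (h : I.map (algebraMap A B) = Ideal.span {g}) : ∃ a, a ≠ 0 ∧ I = Ideal.span {a} := by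
  have h1 : g ∈ Ideal.span (algebraMap A B '' (I : Set A)) := by
    show g ∈ I.map (algebraMap A B)
    rw [h]; exact Ideal.mem_span_singleton_self g
  obtain ⟨c, hc⟩ := (Finsupp.mem_span_iff_linearCombination B _ g).mp h1
  have hdiv : ∀ y : (algebraMap A B '' (I : Set A)), ∃ t, (y : B) = t * g := fun y => by
    have hy : (y : B) ∈ I.map (algebraMap A B) := Ideal.subset_span y.2
    rw [h] at hy
    obtain ⟨t, ht⟩ := Ideal.mem_span_singleton'.mp hy
    exact ⟨t, ht.symm⟩
  choose t ht using hdiv
  have h2 : (c.sum fun y s => s * t y) = 1 := by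
    refine (mul_cancel_right_mem_nonZeroDivisors hg).mp ?_
    rw [one_mul, Finsupp.sum, Finset.sum_mul]
    conv_rhs => rw [← hc, Finsupp.linearCombination_apply, Finsupp.sum]
    exact Finset.sum_congr rfl fun y _ => by rw [smul_eq_mul, mul_assoc, ← ht]
  obtain ⟨y, -, hy⟩ : ∃ y ∈ c.support, IsUnit (c y * t y) := by
    by_contra hne
    push Not at hne
    have : (c.sum fun y s => s * t y) ∈ IsLocalRing.maximalIdeal B := Ideal.sum_mem _ fun y hy => hne y hy
    rw [h2] at this
    exact this isUnit_one
  obtain ⟨_, a, ha, rfl⟩ := y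
  have hu := isUnit_of_mul_isUnit_right hy
  refine ⟨a, fun h0 => ?_, ?_⟩
  · have h3 : algebraMap A B a = t ⟨_, a, ha, rfl⟩ * g := ht ⟨algebraMap A B a, a, ha, rfl⟩
    have h4 : algebraMap A B a = 0 := by rw [h0, map_zero]
    replace h3 := h4.symm.trans h3
    exact nonZeroDivisors.ne_zero hg (hu.mul_right_eq_zero.mp h3.symm)
  · rw [← Ideal.comap_map_eq_self_of_faithfullyFlat (B := B) I,
      ← Ideal.comap_map_eq_self_of_faithfullyFlat (B := B) (Ideal.span {a}), h, Ideal.map_span,
      Set.image_singleton, show algebraMap A B a = t ⟨_, a, ha, rfl⟩ * g from ht ⟨algebraMap A B a, a, ha, rfl⟩,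
      Ideal.span_singleton_mul_left_unit hu]


/-- Let k be a field, X a separated k-scheme of finite type, smooth of relative dimension r, and Z ⊆ X a
closed subscheme (a quasi-coherent ideal sheaf) of pure dimension r − 1, i.e. the local ring of X at
every maximal point of Z has dimension 1. If for some field extension K/k the base change Z_K ⊆ X_K
= X ×_k Spec K (the inverse image ideal sheaf along the first projection) is an effective Cartier
divisor, then the ideal of Z is locally generated by a single non-zero-divisor, i.e. Z too is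
effective Cartier. -/
theorem result {k : Type u} [Field k] {K : Type u} [Field K]
    [Algebra k K] {X : Scheme.{u}} (f : X ⟶ Spec (CommRingCat.of k)) (r : ℕ) [SmoothOfRelativeDimension r f]
    [QuasiCompact f] [IsSeparated f] (𝓘 : X.IdealSheafData)
    (hpure : ∀ z : ↥𝓘.subscheme, (∀ z' : ↥𝓘.subscheme, z' ⤳ z → z' = z) →
      ringKrullDim ↑(X.presheaf.stalk (𝓘.subschemeι.base z)) = 1)
    (hK : BlowUp.IsEffCartierIdeal
      (𝓘.comap (pullback.fst f (Spec.map (CommRingCat.ofHom (algebraMap k K)))))) :
    BlowUp.IsEffCartierIdeal 𝓘 := by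
  haveI : Smooth f := SmoothOfRelativeDimension.smooth r f
  haveI : IsLocallyNoetherian X := LocallyOfFiniteType.isLocallyNoetherian f
  have hdom : ∀ x : X, IsDomain (X.presheaf.stalk x) := fun x => by
    haveI := Lib.JacCrit.OverField.isRegularLocalRing_stalk (f := f) (x := x) (by rw [f.smoothLocus_eq_top]; trivial)
    exact Lib.Regular.Quotient.isDomain _
  let ι := Spec.map (CommRingCat.ofHom (algebraMap k K))
  haveI : Flat ι := Flat.SpecMap_iff.mpr (RingHom.flat_algebraMap_iff.mpr inferInstance)
  haveI : Surjective ι := ⟨fun z => ⟨IsLocalRing.closedPoint K,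
    @Subsingleton.elim _ (inferInstanceAs (Subsingleton (PrimeSpectrum k))) _ _⟩⟩
  haveI : Flat (pullback.fst f ι) := inferInstance
  haveI : Surjective (pullback.fst f ι) := inferInstance
  refine Lib.ModelFibre.StalkIdeal.isEffCartierIdeal hdom fun x => ?_
  obtain ⟨x', rfl⟩ := (pullback.fst f ι).surjective x
  obtain ⟨g, hg, hgen⟩ := Lib.CartierDescent.stalkIdeal_eq_span hK x'
  rw [Lib.CartierDescent.stalkIdeal_comap] at hgen
  letI := ((pullback.fst f ι).stalkMap x').hom.toAlgebra
  haveI : Module.Flat (X.presheaf.stalk (pullback.fst f ι x')) ((pullback f ι).presheaf.stalk x') :=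
    Flat.stalkMap _ x'
  haveI : IsLocalHom (algebraMap (X.presheaf.stalk (pullback.fst f ι x')) ((pullback f ι).presheaf.stalk x')) :=
    (inferInstance : IsLocalHom ((pullback.fst f ι).stalkMap x').hom)
  haveI : Module.FaithfullyFlat (X.presheaf.stalk (pullback.fst f ι x')) ((pullback f ι).presheaf.stalk x') :=
    Module.FaithfullyFlat.of_flat_of_isLocalHom
  exact exists_gen_of_faithfullyFlat _ hg hgen

end Groth.Agent.S13604
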