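import Groth.Statements.S13606
import Groth.Agent.Lib.SchQuot.IsQuot

set_option autoImplicit false
universe u
open CategoryTheory AlgebraicGeometry
open SGA1

namespace Groth.Agent.S13606

/-- Let a finite group G act on a scheme X and let p : X ⟶ Y be a quotient of X by G (affine,
G-invariant, sections of O_Y over every open = G-invariant sections of O_X over its preimage). Then
for every open U ⊆ Y, U is the quotient of p⁻¹U by G: the restriction p⁻¹U ⟶ U of p is again a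
quotient in the same sense, for the action ρU of G on the G-stable open p⁻¹U induced by ρ (pinned by
compatibility with the inclusion p⁻¹U ⟶ X). -/
theorem result {X Y : Scheme.{u}} {G : Type u} [Group G] [Finite G]
    (ρ : G →* Aut X) (p : X ⟶ Y) (hp : SGA1.IsQuot ρ p) (U : Y.Opens)
    (ρU : G →* Aut (p ⁻¹ᵁ U).toScheme)
    (hρU : ∀ g : G, (ρU g).hom ≫ (p ⁻¹ᵁ U).ι = (p ⁻¹ᵁ U).ι ≫ (ρ g).hom) :
    SGA1.IsQuot ρU (p ∣_ U) := by
  have := hp.affine
  have hbij : ∀ {Z : Scheme.{u}} (O : Z.Opens) (V : Z.Opens) (W : O.toScheme.Opens)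
      (e : W ≤ O.ι ⁻¹ᵁ V), O.ι ''ᵁ W = V → Function.Bijective (O.ι.appLE V W e).hom := by
    intro Z O V W e h
    have : IsIso (O.ι.appLE V W e) := by
      subst h
      have h1 : O.ι.appLE (O.ι ''ᵁ W) W e = Z.presheaf.map (𝟙 (Opposite.op (O.ι ''ᵁ W))) := by
        rw [Scheme.Opens.ι_appLE]
        rfl
      rw [h1]
      exact Functor.map_isIso Z.presheaf _
    exact ConcreteCategory.bijective_of_isIso _
  have hinv : ∀ g : G, (ρU g).hom ≫ (p ∣_ U) = p ∣_ U := fun g => by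
    rw [← cancel_mono U.ι, Category.assoc, morphismRestrict_ι, reassoc_of% (hρU g), hp.inv g]
  have him : ∀ W : U.toScheme.Opens, (p ⁻¹ᵁ U).ι ''ᵁ ((p ∣_ U) ⁻¹ᵁ W) = p ⁻¹ᵁ (U.ι ''ᵁ W) :=
    fun W => image_morphismRestrict_preimage p U W
  have hle : ∀ W : U.toScheme.Opens, (p ∣_ U) ⁻¹ᵁ W ≤ (p ⁻¹ᵁ U).ι ⁻¹ᵁ (p ⁻¹ᵁ (U.ι ''ᵁ W)) :=
    fun W x hx => by
      have hmem : (p ⁻¹ᵁ U).ι x ∈ (p ⁻¹ᵁ U).ι ''ᵁ ((p ∣_ U) ⁻¹ᵁ W) := ⟨x, hx, rfl⟩
      rw [him W] at hmem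
      exact hmem
  have hψ : ∀ W : U.toScheme.Opens,
      p.app (U.ι ''ᵁ W) ≫ (p ⁻¹ᵁ U).ι.appLE _ _ (hle W) =
        U.ι.appLE (U.ι ''ᵁ W) W (U.ι.preimage_image_eq W).ge ≫ (p ∣_ U).app W := fun W => by
    rw [Scheme.Hom.app_eq_appLE, Scheme.Hom.app_eq_appLE, Scheme.Hom.appLE_comp_appLE,
      Scheme.Hom.appLE_comp_appLE]
    simp only [morphismRestrict_ι]
  have hφ : ∀ (W : U.toScheme.Opens) (g : G),
      (p ⁻¹ᵁ U).ι.appLE _ _ (hle W) ≫ (ρU g).hom.appLE _ _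
          (SGA1.preimage_le_of_inv ρU (p ∣_ U) hinv g W) =
        (ρ g).hom.appLE _ _ (SGA1.preimage_le_of_inv ρ p hp.inv g (U.ι ''ᵁ W)) ≫
          (p ⁻¹ᵁ U).ι.appLE _ _ (hle W) := fun W g => by
    rw [Scheme.Hom.appLE_comp_appLE, Scheme.Hom.appLE_comp_appLE]
    simp only [hρU g]
  refine ⟨MorphismProperty.of_isPullback (isPullback_morphismRestrict p U).flip hp.affine, hinv, fun W => ?_, fun W s => ?_⟩
  · intro a b hab
    obtain ⟨a, rfl⟩ := (hbij U (U.ι ''ᵁ W) W (U.ι.preimage_image_eq W).ge rfl).2 a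
    obtain ⟨b, rfl⟩ := (hbij U (U.ι ''ᵁ W) W (U.ι.preimage_image_eq W).ge rfl).2 b
    rw [← CommRingCat.comp_apply, ← CommRingCat.comp_apply, ← hψ, CommRingCat.comp_apply,
      CommRingCat.comp_apply] at hab
    rw [hp.injective _ ((hbij _ _ _ _ (him W)).1 hab)]
  · obtain ⟨t, rfl⟩ := (hbij _ _ _ (hle W) (him W)).2 s
    constructor
    · rintro ⟨b, hb⟩ g
      rw [← hb, ← CommRingCat.comp_apply, Scheme.Hom.app_eq_appLE, Scheme.Hom.appLE_comp_appLE]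
      simp only [hinv g]
    · intro hs
      have ht : ∀ g : G, ((ρ g).hom.appLE _ _
          (SGA1.preimage_le_of_inv ρ p hp.inv g (U.ι ''ᵁ W))).hom t = t := fun g => by
        refine (hbij _ _ _ (hle W) (him W)).1 ?_
        rw [← CommRingCat.comp_apply, ← hφ]
        exact hs g
      obtain ⟨b, rfl⟩ := (hp.range_iff _ t).mpr ht
      refine ⟨(U.ι.appLE (U.ι ''ᵁ W) W (U.ι.preimage_image_eq W).ge).hom b, ?_⟩
      rw [← CommRingCat.comp_apply, ← hψ]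
      rfl

end Groth.Agent.S13606
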