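import Groth.Statements.S13609


set_option autoImplicit false
universe u v
open CAlg

namespace Groth.Agent.S13609

/-- A direct summand of a module that is complete and separated for the I-adic topology is again
complete and separated: for a commutative ring A, an ideal I and A-modules M₁, M₂, if M₁ × M₂ is
I-adically complete then so is M₁. -/
theorem result (A : Type u) [CommRing A] (I : Ideal A)
    (M₁ M₂ : Type v) [AddCommGroup M₁] [Module A M₁] [AddCommGroup M₂] [Module A M₂]
    [IsAdicComplete I (M₁ × M₂)] : IsAdicComplete I M₁ := by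
  have hP : IsAdicComplete I (M₁ × M₂) := inferInstance
  have e1 : ∀ (n : ℕ) (x : M₁), x ∈ (I ^ n • ⊤ : Submodule A M₁) →
      ((x, 0) : M₁ × M₂) ∈ (I ^ n • ⊤ : Submodule A (M₁ × M₂)) := by
    intro n x hx
    have h := Submodule.mem_map_of_mem (f := LinearMap.inl A M₁ M₂) hx
    rw [Submodule.map_smul''] at h
    exact Submodule.smul_mono le_rfl le_top h
  have e2 : ∀ (n : ℕ) (x : M₁ × M₂), x ∈ (I ^ n • ⊤ : Submodule A (M₁ × M₂)) →
      x.1 ∈ (I ^ n • ⊤ : Submodule A M₁) := by
    intro n x hx
    have h := Submodule.mem_map_of_mem (f := LinearMap.fst A M₁ M₂) hx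
    rw [Submodule.map_smul''] at h
    exact Submodule.smul_mono le_rfl le_top h
  haveI h1 : IsHausdorff I M₁ := by
    refine ⟨fun x hx => ?_⟩
    have := hP.toIsHausdorff.haus ((x, 0) : M₁ × M₂) fun n => by
      rw [SModEq.zero]; exact e1 n x (SModEq.zero.1 (hx n))
    exact congrArg Prod.fst this
  haveI h2 : IsPrecomplete I M₁ := by
    refine ⟨fun f hf => ?_⟩
    obtain ⟨L, hL⟩ := IsPrecomplete.prec hP.toIsPrecomplete
      (f := fun n => ((f n, 0) : M₁ × M₂)) (fun {m n} hmn => by
        rw [SModEq.sub_mem, Prod.mk_sub_mk, sub_zero]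
        exact e1 m _ (SModEq.sub_mem.1 (hf hmn)))
    refine ⟨L.1, fun n => ?_⟩
    rw [SModEq.sub_mem]
    exact e2 n _ (SModEq.sub_mem.1 (hL n))
  exact {}

end Groth.Agent.S13609
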