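import Groth.Statements.S13617
import Groth.Agent.Lib.ProEtDC.StalkSystems

set_option autoImplicit false
open CategoryTheory CategoryTheory.Limits AlgebraicGeometry Opposite
universe u
open EtModW
open Groth.Agent.Lib Groth.Agent.Lib.ProEtDC Groth.Agent.H88.EtMod

namespace Groth.Agent.S13617

/-- Let X be a connected Noetherian scheme, Λ a Noetherian ring, I an ideal of Λ and F = (F_n) an
inverse system of sheaves of Λ-modules on the small etale site of X with every F_n constructible and
locally constant of finite type and with I^(n+1) F_n = 0 for all n. Then F is AR I-adic (receives a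
morphism with kernel and cokernel null up to translation from an I-adic system of constructible
sheaves) if and only if there is at least one geometric point s of X whose stalk system (F_n,s)_n is
an AR I-adic system of Λ-modules (termwise killed by I^(n+1) and receiving a morphism with null
kernel and cokernel from an I-adic system of finitely generated Λ-modules). -/
theorem result
    (Λ : Type (u + 1)) [CommRing Λ] [IsNoetherianRing Λ] (I : Ideal Λ)
    {X : Scheme.{u}} [IsNoetherian X] [ConnectedSpace X]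
    (F : ARSys.PS (EtModW.Mod Λ X)) (hc : ∀ n : ℕ, EtModW.IsConstructible Λ (F.obj (op n)))
    (hl : ∀ n : ℕ, EtModW.IsFTLocConst Λ (F.obj (op n))) (hk : ARSys.TermKilled I F) :
    (ARSys.TermKilled I F ∧ ∃ (Y : ARSys.PS (EtModW.Mod Λ X)) (v : Y ⟶ F), ARSys.IsAdic I Y ∧ (∀ n : ℕ, EtModW.IsConstructible Λ (Y.obj (op n))) ∧ ARSys.IsARIso v) ↔
      ∃ (Ω : Type u) (_ : Field Ω) (_ : IsSepClosed Ω) (s : Spec (CommRingCat.of Ω) ⟶ X),
        (ARSys.TermKilled I (F ⋙ EtModW.stalk Λ s) ∧ ∃ (Y : ARSys.PS (ModuleCat.{u + 1} Λ)) (v : Y ⟶ F ⋙ EtModW.stalk Λ s), ARSys.IsAdic I Y ∧ (∀ n : ℕ, Module.Finite Λ (Y.obj (op n))) ∧ ARSys.IsARIso v) := by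
  haveI := LCOps.hasLimits_small (Λ := Λ)
  haveI := LCOps.hasColimits_small (Λ := Λ)
  constructor
  · intro h
    obtain ⟨x⟩ := ConnectedSpace.toNonempty (α := X)
    let ξ := EtSite.Basic.geomPoint X x
    haveI := ARPoints.additive_stalk (Λ := Λ) ξ
    haveI := ARTransport.linear_stalk (Λ := Λ) ξ
    exact ⟨_, inferInstance, inferInstance, ξ,
      ARTransport.arAdic_map (EtModW.stalk Λ ξ) (Scheme.pointSmallEtale ξ).skyscraperSheafAdjunction
        (P' := fun M : ModuleCat.{u + 1} Λ => Module.Finite Λ M)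
        (fun hZ => ARTransport.finite_stalk ξ hZ) h⟩
  · rintro ⟨Ω, _, _, s, hks, Y, v, hY, -, hv⟩
    haveI := fun x : X => ARPoints.additive_stalk (Λ := Λ) (EtSite.Basic.geomPoint X x)
    haveI := fun x : X => ARTransport.linear_stalk (Λ := Λ) (EtSite.Basic.geomPoint X x)
    obtain ⟨r, hr⟩ := AR.adicBy_of_isARAdic (⟨hks, Y, v, hY, hv⟩ : ARSys.IsARAdic I _)
    refine NoethConstr.exists_cover
      ⟨?_, fun n => NoethConstr.isNoetherianObject_of_isConstructible (hc n)⟩
    refine AR.isARAdic_of_detect (r := r) (fun x : X => EtModW.stalk Λ (EtSite.Basic.geomPoint X x))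
      (Or.inl (IsNoetherian.noetherian I))
      (fun φ hφ => ARPoints.eq_zero_of_enoughPts φ (EtSite.Stalk.enoughPts_pt hφ)) hk fun x => ?_
    obtain ⟨e⟩ := StalkSystems.nonempty_iso hl s (EtSite.Basic.geomPoint X x)
    exact hr.of_iso e

end Groth.Agent.S13617
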