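import Groth.Statements.S1362
import Groth.Statements.S1362
import Groth.Agent.Lib.Dim.Integral
import Mathlib

set_option autoImplicit false
universe u
open FlatMor

namespace Groth.Agent.S1362

open TensorProduct Topology

section Nagata

variable {κ : Type u} [Field κ] {F : Type u} [CommRing F] [Algebra κ F] {n : ℕ}

/-- The Nagata weights. -/
def wt (N : ℕ) (n : ℕ) : Fin (n + 1) → ℕ := fun i => N ^ i.1

theorem integral_step (f : MvPolynomial (Fin (n + 1)) κ) (hf : f ≠ 0) (N : ℕ) (h1 : 1 < N)
    (hN : ∀ v ∈ f.support, ∀ i, v i < N) (y : Fin (n + 1) → F)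
    (hy : (MvPolynomial.aeval (R := κ) y).toRingHom.IsIntegral) (hfy : MvPolynomial.aeval y f = 0) :
    (MvPolynomial.aeval (R := κ) fun i : Fin n => y i.succ - y 0 ^ wt N n i.succ).toRingHom.IsIntegral := by
  classical
  let A' := MvPolynomial (Fin n) κ
  set y' : Fin n → F := fun i => y i.succ - y 0 ^ wt N n i.succ
  letI := (MvPolynomial.aeval (R := κ) y').toRingHom.toAlgebra
  haveI : IsScalarTower κ A' F :=
    IsScalarTower.of_algebraMap_eq fun c => ((MvPolynomial.aeval (R := κ) y').commutes c).symm
  let g : Fin (n + 1) → Polynomial A' :=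
    Fin.cons Polynomial.X fun i => Polynomial.C (MvPolynomial.X i) + Polynomial.X ^ wt N n i.succ
  let σ : MvPolynomial (Fin (n + 1)) κ →ₐ[κ] Polynomial A' := MvPolynomial.aeval g
  have hσ : ((Polynomial.aeval (R := A') (y 0)).restrictScalars κ).comp σ = MvPolynomial.aeval y := by
    refine MvPolynomial.algHom_ext fun i => ?_
    induction i using Fin.cases with
    | zero => simp [σ, g]
    | succ i =>
      simp only [σ, g, AlgHom.comp_apply, MvPolynomial.aeval_X, Fin.cons_succ,
        AlgHom.restrictScalars_apply, map_add, map_pow, Polynomial.aeval_C, Polynomial.aeval_X]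
      show MvPolynomial.aeval y' (MvPolynomial.X i) + _ = _
      rw [MvPolynomial.aeval_X]
      simp [y']
  let e : (Fin (n + 1) →₀ ℕ) → ℕ := fun v => ∑ i, wt N n i * v i
  have hmon : ∀ i, (g i).Monic ∧ (g i).natDegree = wt N n i := fun i => by
    induction i using Fin.cases with
    | zero => simp [g, wt, Polynomial.monic_X]
    | succ i =>
      have hpos : wt N n i.succ ≠ 0 := pow_ne_zero _ (by omega)
      simp only [g, Fin.cons_succ]
      rw [add_comm]
      exact ⟨Polynomial.monic_X_pow_add_C _ hpos, Polynomial.natDegree_X_pow_add_C⟩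
  let Mv : (Fin (n + 1) →₀ ℕ) → Polynomial A' := fun v => ∏ i, g i ^ v i
  have hMv : ∀ v, (Mv v).Monic ∧ (Mv v).natDegree = e v := fun v => by
    refine ⟨Polynomial.monic_prod_of_monic _ _ fun i _ => (hmon i).1.pow _, ?_⟩
    rw [Polynomial.natDegree_prod_of_monic _ _ fun i _ => (hmon i).1.pow _]
    exact Finset.sum_congr rfl fun i _ => by rw [(hmon i).1.natDegree_pow, (hmon i).2, mul_comm]
  have hσf : σ f = ∑ v ∈ f.support, Polynomial.C (MvPolynomial.C (f.coeff v)) * Mv v := by
    conv_lhs => rw [f.as_sum]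
    rw [map_sum]
    refine Finset.sum_congr rfl fun v _ => ?_
    show MvPolynomial.aeval g _ = _
    rw [MvPolynomial.aeval_monomial, Finsupp.prod_fintype _ _ (fun i => pow_zero _)]
    rfl
  obtain ⟨v, hv, hmax⟩ := f.support.exists_max_image e (MvPolynomial.support_nonempty.2 hf)
  have hinj : ∀ w ∈ f.support, e w = e v → w = v := fun w hw h => by
    refine Finsupp.ext <| congrFun <| List.ofFn_inj.mp ?_
    apply Nat.ofDigits_inj_of_len_eq h1 (by simp)
    · intro l hl; obtain ⟨i, rfl⟩ := List.mem_ofFn.1 hl; exact hN w hw i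
    · intro l hl; obtain ⟨i, rfl⟩ := List.mem_ofFn.1 hl; exact hN v hv i
    simpa only [Nat.ofDigits_eq_sum_mapIdx, List.mapIdx_eq_ofFn, List.get_ofFn, List.length_ofFn,
      Fin.val_cast, mul_comm, List.sum_ofFn, e, wt] using! h
  set c := f.coeff v
  have hc : c ≠ 0 := MvPolynomial.mem_support_iff.1 hv
  let P := Polynomial.C (MvPolynomial.C c⁻¹) * σ f
  have hP : P.Monic := by
    have : P = Mv v + ∑ w ∈ f.support.erase v,
        Polynomial.C (MvPolynomial.C (c⁻¹ * f.coeff w)) * Mv w := by
      simp only [P, hσf, Finset.mul_sum, ← Finset.add_sum_erase _ _ hv, mul_add, ← mul_assoc, ← map_mul]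
      rw [inv_mul_cancel₀ hc, map_one, map_one, one_mul]
    rw [this]
    refine (hMv v).1.add_of_left ((Polynomial.degree_sum_le _ _).trans_lt ((Finset.sup_lt_iff ?_).2 ?_))
    · rw [bot_lt_iff_ne_bot, Ne, Polynomial.degree_eq_bot]; exact (hMv v).1.ne_zero
    intro w hw
    refine (Polynomial.degree_le_natDegree).trans_lt ?_
    rw [Polynomial.degree_eq_natDegree (hMv v).1.ne_zero, Nat.cast_lt, (hMv v).2]
    refine Polynomial.natDegree_C_mul_le _ _ |>.trans_lt ?_
    rw [(hMv w).2]
    obtain ⟨hne, hw⟩ := Finset.mem_erase.1 hw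
    exact lt_of_le_of_ne (hmax w hw) fun h => hne (hinj w hw h)
  have h0 : IsIntegral A' (y 0) := ⟨P, hP, by
    rw [← Polynomial.aeval_def]
    have := AlgHom.congr_fun hσ f
    simp only [AlgHom.comp_apply, AlgHom.restrictScalars_apply] at this
    simp only [P, map_mul, this, hfy, mul_zero]⟩
  set C' := integralClosure A' F
  have hgen : ∀ a, MvPolynomial.aeval (R := κ) y a ∈ C' := fun a => by
    induction a using MvPolynomial.induction_on with
    | C c =>
      rw [MvPolynomial.aeval_C, IsScalarTower.algebraMap_apply κ A' F]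
      exact C'.algebraMap_mem _
    | add a b ha hb => rw [map_add]; exact add_mem ha hb
    | mul_X a i ha =>
      rw [map_mul, MvPolynomial.aeval_X]
      refine mul_mem ha ?_
      induction i using Fin.cases with
      | zero => exact h0
      | succ i =>
        have : y i.succ = algebraMap A' F (MvPolynomial.X i) + y 0 ^ wt N n i.succ := by
          show _ = MvPolynomial.aeval y' (MvPolynomial.X i) + _
          simp [y']
        rw [this]
        exact add_mem (C'.algebraMap_mem _) (pow_mem (show y 0 ∈ C' from h0) _)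
  intro x
  obtain ⟨p, hp, hpx⟩ := hy x
  let φ : MvPolynomial (Fin (n + 1)) κ →+* C' :=
    RingHom.codRestrict (MvPolynomial.aeval (R := κ) y).toRingHom C' hgen
  have hx : IsIntegral C' x := by
    refine ⟨p.map φ, hp.map _, ?_⟩
    rw [Polynomial.eval₂_map]
    exact hpx
  exact isIntegral_trans x hx

end Nagata

section Main

variable {R S : Type u} [CommRing R] [CommRing S] [Algebra R S]

/-- The map to a fibre. -/
noncomputable def fy {n : ℕ} (y : Fin n → S) (p : PrimeSpectrum R) :
    MvPolynomial (Fin n) p.asIdeal.ResidueField →ₐ[p.asIdeal.ResidueField] p.asIdeal.Fiber S :=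
  MvPolynomial.aeval fun i => (Algebra.TensorProduct.includeRight (R := R) (A := p.asIdeal.ResidueField) (y i))

theorem fy_map {n : ℕ} (y : Fin n → S) (p : PrimeSpectrum R) (f : MvPolynomial (Fin n) R) :
    fy y p (f.map (algebraMap R p.asIdeal.ResidueField)) =
      Algebra.TensorProduct.includeRight (R := R) (A := p.asIdeal.ResidueField) (MvPolynomial.aeval y f) := by
  rw [fy, MvPolynomial.aeval_map_algebraMap, ← MvPolynomial.comp_aeval_apply]

/-- Fibrewise integrality. -/
def FibInt {n : ℕ} (y : Fin n → S) : Prop := ∀ p : PrimeSpectrum R, (fy y p).toRingHom.IsIntegral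

theorem step {n d : ℕ} (hd : ∀ p : PrimeSpectrum R, ringKrullDim (p.asIdeal.Fiber S) ≤ d)
    (hn : d ≤ n) (y : Fin (n + 1) → S) (hy : FibInt (R := R) y) :
    ∃ y' : Fin n → S, FibInt (R := R) y' := by
  classical
  have hf : ∀ p : PrimeSpectrum R, ∃ (f : MvPolynomial (Fin (n + 1)) R) (t : R) (s : Finset R),
      t ∉ p.asIdeal ∧ (∀ a ∈ s, a ∈ p.asIdeal) ∧ ∀ q : PrimeSpectrum R, t ∉ q.asIdeal →
        (∀ a ∈ s, a ∈ q.asIdeal) →
        f.map (algebraMap R q.asIdeal.ResidueField) ≠ 0 ∧
        fy y q (f.map (algebraMap R q.asIdeal.ResidueField)) = 0 := fun p => by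
    set K := p.asIdeal.ResidueField
    have hker : RingHom.ker (fy y p).toRingHom ≠ ⊥ := fun h => by
      have hinj : Function.Injective (fy y p) := (RingHom.injective_iff_ker_eq_bot _).2 h
      letI := (fy y p).toRingHom.toAlgebra
      haveI : FaithfulSMul (MvPolynomial (Fin (n + 1)) K) (p.asIdeal.Fiber S) :=
        (faithfulSMul_iff_algebraMap_injective _ _).2 hinj
      haveI : Algebra.IsIntegral (MvPolynomial (Fin (n + 1)) K) (p.asIdeal.Fiber S) := ⟨hy p⟩
      have h1 := hd p
      rw [Groth.Agent.Lib.Dim.Integral.ringKrullDim_eq_of_isIntegral (R := MvPolynomial (Fin (n + 1)) K),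
        MvPolynomial.ringKrullDim_of_isNoetherianRing] at h1
      simp only [ringKrullDim_eq_zero_of_field, zero_add, Nat.card_fin, Nat.cast_le] at h1
      omega
    obtain ⟨g, hg, hg0⟩ := Submodule.exists_mem_ne_zero_of_ne_bot hker
    obtain ⟨b, hb⟩ := IsLocalization.exist_integer_multiples_of_finset (nonZeroDivisors (R ⧸ p.asIdeal))
      (S := K) (g.support.image g.coeff)
    obtain ⟨r, hr⟩ := Ideal.Quotient.mk_surjective (b : R ⧸ p.asIdeal)
    have hlift : ∀ v ∈ g.support, ∃ a : R, algebraMap R K a = algebraMap R K r * g.coeff v := fun v hv => by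
      obtain ⟨a, ha⟩ := hb _ (Finset.mem_image_of_mem _ hv)
      obtain ⟨a, rfl⟩ := Ideal.Quotient.mk_surjective a
      refine ⟨a, ?_⟩
      rw [Algebra.smul_def] at ha
      rw [← hr] at ha
      exact ha
    choose! a ha using hlift
    set f : MvPolynomial (Fin (n + 1)) R := ∑ v ∈ g.support, MvPolynomial.monomial v (a v)
    have hfg : f.map (algebraMap R K) = algebraMap R K r • g := by
      conv_rhs => rw [g.as_sum, Finset.smul_sum]
      rw [map_sum]
      exact Finset.sum_congr rfl fun v hv => by
        rw [MvPolynomial.map_monomial, ha v hv, MvPolynomial.smul_monomial, smul_eq_mul]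
    have hr0 : algebraMap R K r ≠ 0 := fun h => by
      rw [Ideal.algebraMap_residueField_eq_zero, ← Ideal.Quotient.eq_zero_iff_mem, hr] at h
      exact nonZeroDivisors.coe_ne_zero b h
    have hne : f.map (algebraMap R K) ≠ 0 := by rw [hfg]; exact smul_ne_zero hr0 hg0
    obtain ⟨v, hv⟩ := MvPolynomial.ne_zero_iff.1 hne
    rw [MvPolynomial.coeff_map, Ne, Ideal.algebraMap_residueField_eq_zero] at hv
    have h0 : (1 : K) ⊗ₜ[R] MvPolynomial.aeval y f = 0 := by
      have h2 := fy_map y p f
      rw [hfg, map_smul, show fy y p g = 0 from hg, smul_zero] at h2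
      exact h2.symm
    set G := MvPolynomial.aeval y f
    -- `G` vanishes in the fibre
    obtain ⟨t, htp, htG⟩ : ∃ t ∉ p.asIdeal, t • G ∈ p.asIdeal.map (algebraMap R S) := by
      letI : Algebra S (p.asIdeal.Fiber S) := Algebra.TensorProduct.rightAlgebra
      have h1 : algebraMap S (p.asIdeal.Fiber S) G = 0 := h0
      have h2 := congrArg (Ideal.Fiber.algEquivAux₁ (S := S) p.asIdeal) h1
      rw [AlgEquiv.commutes, map_zero, IsScalarTower.algebraMap_apply S (Localization (Algebra.algebraMapSubmonoid S p.asIdeal.primeCompl)),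
        Ideal.Quotient.algebraMap_eq,
        Ideal.Quotient.eq_zero_iff_mem, IsLocalization.algebraMap_mem_map_algebraMap_iff
          (Algebra.algebraMapSubmonoid S p.asIdeal.primeCompl)] at h2
      obtain ⟨m, ⟨t, ht, rfl⟩, hm⟩ := h2
      exact ⟨t, ht, by rw [Algebra.smul_def]; exact hm⟩
    rw [Ideal.map, Ideal.span, Submodule.mem_span_iff_exists_finset_subset] at htG
    obtain ⟨h, T, hT, -, hsum⟩ := htG
    choose! pre hpre using fun x (hx : x ∈ T) => hT hx
    refine ⟨f, t * f.coeff v, T.image pre, fun hmem => (p.2.mem_or_mem hmem).elim htp hv,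
      fun x hx => ?_, fun q htq hs => ?_⟩
    · obtain ⟨x, hx', rfl⟩ := Finset.mem_image.1 hx
      exact (hpre x hx').1
    · refine ⟨fun h0 => ?_, ?_⟩
      · have := congrArg (MvPolynomial.coeff v) h0
        rw [MvPolynomial.coeff_map, MvPolynomial.coeff_zero, Ideal.algebraMap_residueField_eq_zero] at this
        exact htq (Ideal.mul_mem_left _ _ this)
      rw [fy_map]
      show ((1 : q.asIdeal.ResidueField) ⊗ₜ[R] G) = 0
      have ht : algebraMap R q.asIdeal.ResidueField t ≠ 0 := by
        rw [Ne, Ideal.algebraMap_residueField_eq_zero]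
        exact fun h => htq (Ideal.mul_mem_right _ _ h)
      have h5 : (1 : q.asIdeal.ResidueField) ⊗ₜ[R] (t • G) = 0 := by
        rw [← hsum, TensorProduct.tmul_sum]
        refine Finset.sum_eq_zero fun x hx => ?_
        rw [← (hpre x hx).2, smul_eq_mul, mul_comm, ← Algebra.smul_def, ← TensorProduct.smul_tmul,
          Algebra.smul_def, Ideal.algebraMap_residueField_eq_zero.2 (hs _ (Finset.mem_image_of_mem _ hx)),
          zero_mul, TensorProduct.zero_tmul]
      have h6 : ((algebraMap R q.asIdeal.ResidueField t)⁻¹ * algebraMap R q.asIdeal.ResidueField t) ⊗ₜ[R] G = 0 := by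
        rw [mul_comm, ← Algebra.smul_def, TensorProduct.smul_tmul]
        have := congrArg (fun z => (algebraMap R q.asIdeal.ResidueField t)⁻¹ • z) h5
        simpa [TensorProduct.smul_tmul'] using this
      rwa [inv_mul_cancel₀ ht] at h6
  choose f t s ht hs hW using hf
  let X := PrimeSpectrum R
  let W : X → Set X := fun p => {q | t p ∉ q.asIdeal} ∩ PrimeSpectrum.zeroLocus (s p : Set R)
  have hWopen : ∀ p, IsOpen[constructibleTopology X] (W p) := fun p => by
    refine @IsOpen.inter _ (constructibleTopology X) _ _ ?_ ?_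
    · exact (PrimeSpectrum.isCompact_basicOpen (t p)).isOpen_constructibleTopology_of_isOpen
        (PrimeSpectrum.basicOpen (t p)).isOpen
    · refine IsCompact.isOpen_constructibleTopology_of_isClosed ?_ (PrimeSpectrum.isClosed_zeroLocus _)
      have : (PrimeSpectrum.zeroLocus (s p : Set R))ᶜ = ⋃ a ∈ s p, (PrimeSpectrum.basicOpen a : Set X) := by
        ext q; simp [Set.not_subset]
      rw [this]
      exact (s p).isCompact_biUnion fun a _ => PrimeSpectrum.isCompact_basicOpen a
  obtain ⟨P, hP⟩ := isCompact_univ.elim_finite_subcover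
    (fun p => (WithTopology.ofTopology : WithConstructibleTopology X → X) ⁻¹' W p)
    (fun p => WithConstructibleTopology.isOpen_iff.2 (hWopen p))
    (fun q _ => Set.mem_iUnion.2 ⟨q.ofTopology, ht _, fun a ha => hs _ a ha⟩)
  let N := 2 + P.sup fun p => (f p).totalDegree
  refine ⟨fun i => y i.succ - y 0 ^ wt N n i.succ, fun q => ?_⟩
  obtain ⟨p, hp, hq⟩ := Set.mem_iUnion₂.1 (hP (Set.mem_univ (WithTopology.toTopology _ q)))
  obtain ⟨hne, hzero⟩ := hW p q hq.1 fun a ha => hq.2 ha
  have hN : ∀ v ∈ ((f p).map (algebraMap R q.asIdeal.ResidueField)).support, ∀ i, v i < N := fun v hv i => by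
    have h1 := (MvPolynomial.monomial_le_degreeOf i (MvPolynomial.support_map_subset _ _ hv)).trans
      (MvPolynomial.degreeOf_le_totalDegree _ i)
    have h2 : (f p).totalDegree ≤ P.sup fun p => (f p).totalDegree :=
      Finset.le_sup (f := fun p => (f p).totalDegree) hp
    omega
  have := integral_step _ hne N (by omega) hN _ (hy q) hzero
  simpa only [fy, map_sub, map_pow] using this

theorem descend {d : ℕ} (hd : ∀ p : PrimeSpectrum R, ringKrullDim (p.asIdeal.Fiber S) ≤ d) :
    ∀ (m : ℕ) (y : Fin (d + m) → S), FibInt (R := R) y → ∃ y' : Fin d → S, FibInt (R := R) y'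
  | 0, y, hy => ⟨y, hy⟩
  | m + 1, y, hy => by
    obtain ⟨y', hy'⟩ := step hd (Nat.le_add_right d m) y hy
    exact descend hd m y' hy'

theorem quasiFinite_of_fibInt [Algebra.FiniteType R S] {d : ℕ} (y : Fin d → S) (hy : FibInt (R := R) y) :
    (MvPolynomial.aeval (R := R) y).toRingHom.QuasiFinite := by
  let A := MvPolynomial (Fin d) R
  letI := (MvPolynomial.aeval (R := R) y).toRingHom.toAlgebra
  haveI : IsScalarTower R A S :=
    IsScalarTower.of_algebraMap_eq fun c => ((MvPolynomial.aeval (R := R) y).commutes c).symm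
  haveI : Algebra.FiniteType A S := Algebra.FiniteType.of_restrictScalars_finiteType R A S
  suffices Algebra.QuasiFinite A S from this
  refine ⟨fun Q _ => ?_⟩
  let L := Q.ResidueField
  let p : PrimeSpectrum R := ⟨Q.comap (algebraMap R A), inferInstance⟩
  let ι : p.asIdeal.ResidueField →ₐ[R] L :=
    Ideal.ResidueField.mapₐ p.asIdeal Q (Algebra.ofId R A) rfl
  let G : p.asIdeal.Fiber S →ₐ[R] L ⊗[A] S :=
    Algebra.TensorProduct.lift (((Algebra.TensorProduct.includeLeft (R := A) (S := A) (A := L) (B := S)).restrictScalars R).comp ι)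
      ((Algebra.TensorProduct.includeRight (R := A) (A := L) (B := S)).restrictScalars R) fun _ _ => Commute.all _ _
  let γ : MvPolynomial (Fin d) p.asIdeal.ResidueField →+* L :=
    MvPolynomial.eval₂Hom ι.toRingHom fun i => algebraMap A L (MvPolynomial.X i)
  have hsq : (algebraMap L (L ⊗[A] S)).comp γ = G.toRingHom.comp (fy y p).toRingHom := by
    refine MvPolynomial.ringHom_ext (fun c => ?_) (fun i => ?_)
    · simp [γ, G, fy, Algebra.TensorProduct.algebraMap_apply]
    · simp only [γ, G, fy, RingHom.comp_apply, MvPolynomial.eval₂Hom_X', AlgHom.toRingHom_eq_coe,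
        RingHom.coe_coe, MvPolynomial.aeval_X, Algebra.TensorProduct.includeRight_apply]
      rw [Algebra.TensorProduct.lift_tmul, map_one, one_mul, Algebra.TensorProduct.algebraMap_apply,
        Algebra.algebraMap_self, RingHom.id_apply]
      show algebraMap A L (MvPolynomial.X i) ⊗ₜ[A] (1 : S) = (1 : L) ⊗ₜ[A] y i
      rw [Algebra.algebraMap_eq_smul_one, TensorProduct.smul_tmul, ← Algebra.algebraMap_eq_smul_one]
      show _ ⊗ₜ[A] MvPolynomial.aeval y (MvPolynomial.X i) = _
      rw [MvPolynomial.aeval_X]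
  haveI : Algebra.IsIntegral L (L ⊗[A] S) := ⟨fun z => by
    induction z using TensorProduct.induction_on with
    | zero => exact isIntegral_zero
    | add a b ha hb => exact ha.add hb
    | tmul a s =>
      rw [show a ⊗ₜ[A] s = algebraMap L (L ⊗[A] S) a * G (1 ⊗ₜ s) by
        simp [G, Algebra.TensorProduct.algebraMap_apply]]
      refine isIntegral_algebraMap.mul ?_
      obtain ⟨q, hq, hqs⟩ := hy p (1 ⊗ₜ s)
      refine ⟨q.map γ, hq.map _, ?_⟩
      rw [Polynomial.eval₂_map, hsq]
      have := congrArg G.toRingHom hqs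
      rwa [map_zero, Polynomial.hom_eval₂] at this⟩
  exact Algebra.IsIntegral.finite

end Main

/-- For a finite type ring map R → S whose fibre rings have dimensions with maximum exactly d: there is
an R-algebra map from the polynomial ring R[t_1, ..., t_d] to S which is quasi-finite (here: every
fibre ring is finite over the residue field; S is of finite type over the polynomial ring
automatically). -/
theorem result {R S : Type u} [CommRing R] [CommRing S] [Algebra R S] [Algebra.FiniteType R S] (d : ℕ)
    (hd : ⨆ p : PrimeSpectrum R, ringKrullDim (p.asIdeal.Fiber S) = (d : WithBot ℕ∞)) :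
    ∃ φ : MvPolynomial (Fin d) R →ₐ[R] S, φ.toRingHom.QuasiFinite := by
  obtain ⟨s, g, hg⟩ := Algebra.FiniteType.iff_quotient_mvPolynomial''.1 ((inferInstance : Algebra.FiniteType R S))
  let y : Fin (d + s) → S := Fin.append 0 fun i => g (MvPolynomial.X i)
  have hy : FibInt (R := R) y := fun p => RingHom.isIntegral_of_surjective _ fun z => by
    induction z using TensorProduct.induction_on with
    | zero => exact ⟨0, map_zero _⟩
    | add a b ha hb =>
      obtain ⟨a', rfl⟩ := ha; obtain ⟨b', rfl⟩ := hb
      exact ⟨a' + b', map_add _ _ _⟩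
    | tmul c x =>
      obtain ⟨q, rfl⟩ := hg x
      refine ⟨MvPolynomial.C c * (MvPolynomial.rename (Fin.natAdd d) q).map (algebraMap R _), ?_⟩
      show fy y p _ = _
      rw [map_mul, fy_map, MvPolynomial.aeval_rename]
      have : y ∘ Fin.natAdd d = fun i => g (MvPolynomial.X i) := funext fun i => by simp [y]
      rw [this, show (MvPolynomial.aeval fun i => g (MvPolynomial.X i)) = g from (MvPolynomial.aeval_unique g).symm]
      simp [fy, Algebra.TensorProduct.algebraMap_apply]
  have hle : ∀ p : PrimeSpectrum R, ringKrullDim (p.asIdeal.Fiber S) ≤ d := fun p => hd ▸ le_iSup (fun p : PrimeSpectrum R => ringKrullDim (p.asIdeal.Fiber S)) p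
  obtain ⟨y', hy'⟩ := descend hle s y hy
  exact ⟨MvPolynomial.aeval y', quasiFinite_of_fibInt y' hy'⟩

end Groth.Agent.S1362
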