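import Groth.Statements.S13620
import Groth.Agent.Lib.ProEtDC.ARPoints
import Groth.Agent.Lib.ProEtDC.Tower
import Groth.Agent.Lib.AR.Injective

set_option autoImplicit false
open CategoryTheory CategoryTheory.Limits AlgebraicGeometry Opposite
universe u
open EtModW
open Groth.Agent.Lib Groth.Agent.Lib.ProEtDC Groth.Agent.H88.EtMod

namespace Groth.Agent.S13620

/-- For a Noetherian scheme X, a Noetherian coefficient ring Λ and an ideal I of Λ, let F = (F_n) be an
inverse system of sheaves of Λ-modules on the small etale site of X which is AR I-adic (I^(n+1) F_n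
= 0 for all n, and F receives a morphism with kernel and cokernel null up to translation from an
I-adic system of constructible sheaves). Then F is null up to translation if and only if for every
geometric point x of X the limit of the stalk system, lim_n F_n,x, is the zero module. (The
published lemma assumes Λ I-adically complete, which only its first assertion uses; this row states
the second assertion without it.) -/
theorem result
    (Λ : Type (u + 1)) [CommRing Λ] [IsNoetherianRing Λ] (I : Ideal Λ)
    {X : Scheme.{u}} [IsNoetherian X]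
    (F : ARSys.PS (EtModW.Mod Λ X))
    (hF : (ARSys.TermKilled I F ∧ ∃ (Y : ARSys.PS (EtModW.Mod Λ X)) (v : Y ⟶ F), ARSys.IsAdic I Y ∧ (∀ n : ℕ, EtModW.IsConstructible Λ (Y.obj (op n))) ∧ ARSys.IsARIso v)) :
    ARSys.IsARNull F ↔
      ∀ (Ω : Type u) [Field Ω] [IsSepClosed Ω] (x : Spec (CommRingCat.of Ω) ⟶ X),
        IsZero (limit (F ⋙ EtModW.stalk Λ x)) := by
  obtain ⟨-, Y, v, hY, -, hv⟩ := hF
  constructor
  · intro hnull Ω _ _ x
    haveI := ARPoints.additive_stalk (Λ := Λ) x
    obtain ⟨r, hr⟩ := ARTransport.isARNull_map (EtModW.stalk Λ x) hnull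
    rw [IsZero.iff_id_eq_zero]
    refine limit.hom_ext fun ⟨n⟩ => ?_
    rw [Category.id_comp, zero_comp,
      ← limit.w (F ⋙ EtModW.stalk Λ x) (homOfLE (Nat.le_add_right n r)).op]
    exact (congrArg _ (hr n)).trans comp_zero
  · intro h
    have hYz : ∀ n, IsZero (Y.obj (op n)) := fun n => by
      refine ARPoints.isZero_of_enoughPts _ (EtSite.Stalk.enoughPts_pt fun x => ?_)
      let ξ := EtSite.Basic.geomPoint X x
      haveI := LCOps.hasColimits_small (Λ := Λ)
      haveI := ARPoints.additive_stalk (Λ := Λ) ξ
      haveI := AR.isIso_limMap _ (ARTransport.isARIso_map (EtModW.stalk Λ ξ) hv)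
      let M := Y ⋙ EtModW.stalk Λ ξ
      have hM : IsZero (limit M) :=
        (h _ ξ).of_iso (asIso (limMap (Functor.whiskerRight v (EtModW.stalk Λ ξ))))
      have hs : ∀ a b (hab : a ≤ b), Function.Surjective (Tower.t M hab) := fun a b hab => by
        haveI := AR.epi_tr_of_isStrict (AR.isStrict_of_isAdic hY) hab
        haveI : Epi ((EtModW.stalk Λ ξ).map (ARSys.tr Y hab)) := inferInstance
        exact (ModuleCat.epi_iff_surjective _).1 this
      rw [IsZero.iff_id_eq_zero]
      refine ModuleCat.hom_ext (LinearMap.ext fun a => ?_)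
      obtain ⟨y, hy, rfl⟩ := Tower.exists_compat M hs n a
      let c : (Functor.const ℕᵒᵖ).obj (ModuleCat.of Λ (ULift.{u + 1} Λ)) ⟶ M :=
        AR.natMk (fun k => ModuleCat.ofHom
          ((LinearMap.toSpanSingleton Λ (M.obj (op k)) (y k)).comp ULift.moduleEquiv.toLinearMap))
          fun k l hkl => by
            refine ModuleCat.hom_ext (LinearMap.ext fun b => ?_)
            exact ((Tower.t M hkl).map_smul _ _).trans (congrArg _ (hy k l hkl))
      have hc : c.app (op n) = 0 :=
        (limit.lift_π (Cone.mk _ c) (op n)).symm.trans (by rw [hM.eq_of_tgt (limit.lift M _) 0, zero_comp])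
      have := ConcreteCategory.congr_hom hc (ULift.up (1 : Λ))
      exact ((one_smul Λ (y n)).symm.trans this)
    obtain ⟨r, ⟨i⟩⟩ := AR.exists_inv_of_isARIso hv
    refine ⟨r, fun n => ?_⟩
    change ARSys.tr F (Nat.le_add_right n r) = 0
    rw [← i.vu n, (hYz n).eq_of_tgt (i.v n) 0, zero_comp]

end Groth.Agent.S13620
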