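import Groth.Statements.S13623
import Mathlib

set_option autoImplicit false
universe u
open TensorProduct
open CAlg

namespace Groth.Agent.S13623

/-- Let A be a commutative ring and B a commutative A-algebra, graded by A-submodules B_m (m ≥ 0)
forming a graded-algebra structure, such that every B_m is a finitely generated A-module. If for
every algebraically closed field k and every A-algebra structure on k the k-algebra k ⊗_A B is
generated by the image of B_1 under b ↦ 1 ⊗ b, then its degree-one part B_1 generates the A-algebra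
B. (Algebraically closed fields are taken in the universe of A.) -/
theorem result
    (A : Type u) [CommRing A] (B : Type u) [CommRing B] [Algebra A B]
    (𝒜 : ℕ → Submodule A B) [GradedAlgebra 𝒜]
    (hfin : ∀ m : ℕ, Module.Finite A (𝒜 m))
    (hgen : ∀ (k : Type u) [Field k] [IsAlgClosed k] [Algebra A k],
      Algebra.adjoin k ((Algebra.TensorProduct.includeRight : B →ₐ[A] k ⊗[A] B) '' (𝒜 1 : Set B)) = ⊤) :
    Algebra.adjoin A (𝒜 1 : Set B) = ⊤ := by
  classical
  set C := Algebra.adjoin A (𝒜 1 : Set B) with hC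
  have hproj : ∀ x ∈ C, ∀ m, GradedAlgebra.proj 𝒜 m x ∈ C := by
    intro x hx
    induction hx using Algebra.adjoin_induction with
    | mem y hy =>
      intro m
      rw [GradedAlgebra.proj_apply]
      by_cases h : m = 1
      · subst h; rw [DirectSum.decompose_of_mem_same 𝒜 hy]; exact Algebra.subset_adjoin hy
      · rw [DirectSum.decompose_of_mem_ne 𝒜 hy (Ne.symm h)]; exact zero_mem C
    | algebraMap r =>
      intro m
      rw [GradedAlgebra.proj_apply]
      by_cases h : m = 0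
      · subst h; rw [DirectSum.decompose_of_mem_same 𝒜 (SetLike.algebraMap_mem_graded 𝒜 r)]; exact C.algebraMap_mem r
      · rw [DirectSum.decompose_of_mem_ne 𝒜 (SetLike.algebraMap_mem_graded 𝒜 r) (Ne.symm h)]; exact zero_mem C
    | add u v _ _ hu hv => intro m; rw [map_add]; exact add_mem (hu m) (hv m)
    | mul u v _ _ hu hv =>
      intro m
      rw [GradedAlgebra.proj_apply, DirectSum.decompose_mul, DirectSum.coe_mul_apply]
      refine Subalgebra.sum_mem _ fun ij _ => mul_mem ?_ ?_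
      · have := hu ij.1; rwa [GradedAlgebra.proj_apply] at this
      · have := hv ij.2; rwa [GradedAlgebra.proj_apply] at this
  suffices h : ∀ m, 𝒜 m ≤ Subalgebra.toSubmodule C by
    rw [eq_top_iff]
    intro x _
    rw [← DirectSum.sum_support_decompose 𝒜 x]
    exact Subalgebra.sum_mem _ fun m _ => h m (DirectSum.decompose 𝒜 x m).2
  intro m
  haveI := hfin m
  set N : Submodule A (𝒜 m) := (Subalgebra.toSubmodule C).comap (𝒜 m).subtype
  suffices hN : N = ⊤ by
    intro x hx
    have : (⟨x, hx⟩ : 𝒜 m) ∈ N := hN ▸ Submodule.mem_top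
    exact this
  by_contra hN
  haveI : Nontrivial ((𝒜 m) ⧸ N) := Submodule.Quotient.nontrivial_iff.2 hN
  obtain ⟨M, hM, hMQ⟩ : ∃ M : Ideal A, M.IsMaximal ∧ M • (⊤ : Submodule A ((𝒜 m) ⧸ N)) ≠ ⊤ := by
    by_contra! h
    obtain ⟨M, hM, hle⟩ := Ideal.exists_le_maximal (Module.annihilator A ((𝒜 m) ⧸ N)) (by rw [Ne, Module.annihilator_eq_top_iff]; exact not_subsingleton _)
    obtain ⟨r, hr, hr0⟩ := Submodule.exists_sub_one_mem_and_smul_eq_zero_of_fg_of_le_smul M ⊤ Module.Finite.fg_top (by rw [h M hM])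
    have h1 : r ∈ M := hle (Module.mem_annihilator.2 fun x => hr0 x trivial)
    exact hM.ne_top ((Ideal.eq_top_iff_one M).2 (by simpa using M.sub_mem h1 hr))
  haveI := hM
  letI := Ideal.Quotient.field M
  let k := AlgebraicClosure (A ⧸ M)
  let Q1 := ((𝒜 m) ⧸ N) ⧸ (M • ⊤ : Submodule A ((𝒜 m) ⧸ N))
  haveI : Nontrivial Q1 := Submodule.Quotient.nontrivial_iff.2 hMQ
  obtain ⟨v, hv⟩ := exists_ne (0 : Q1)
  obtain ⟨ψ, hψ⟩ : ∃ ψ : Module.Dual (A ⧸ M) Q1, ψ v ≠ 0 := by
    by_contra! h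
    exact hv ((Module.forall_dual_apply_eq_zero_iff (A ⧸ M) v).1 h)
  let π : B →ₗ[A] (𝒜 m) := LinearMap.codRestrict (𝒜 m) (GradedAlgebra.proj 𝒜 m) (fun x => by rw [GradedAlgebra.proj_apply]; exact (DirectSum.decompose 𝒜 x m).2)
  let q : B →ₗ[A] Q1 := (M • ⊤ : Submodule A ((𝒜 m) ⧸ N)).mkQ ∘ₗ N.mkQ ∘ₗ π
  let L : B →ₗ[A] k := ((IsScalarTower.toAlgHom A (A ⧸ M) k).toLinearMap) ∘ₗ (ψ.restrictScalars A) ∘ₗ q
  have hLC : ∀ c ∈ C, L c = 0 := by
    intro c hc
    have : N.mkQ (π c) = 0 := (Submodule.Quotient.mk_eq_zero N).2 (hproj c hc m)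
    simp [L, q, this]
  let Lk := LinearMap.liftBaseChange k L
  have htop := hgen k
  let im : Subalgebra k (k ⊗[A] B) := (Algebra.TensorProduct.map (AlgHom.id k k) C.val).range
  have hle : Algebra.adjoin k ((Algebra.TensorProduct.includeRight : B →ₐ[A] k ⊗[A] B) '' (𝒜 1 : Set B)) ≤ im := by
    rw [Algebra.adjoin_le_iff]
    rintro _ ⟨y, hy, rfl⟩
    exact ⟨1 ⊗ₜ ⟨y, Algebra.subset_adjoin hy⟩, by simp⟩
  have hLk : ∀ z, Lk z = 0 := by
    intro z
    obtain ⟨w, rfl⟩ := hle (htop ▸ Algebra.mem_top : z ∈ _)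
    induction w using TensorProduct.induction_on with
    | zero => simp
    | tmul a c => simp [Lk, hLC c c.2]
    | add u w hu hw => rw [map_add, map_add, hu, hw, add_zero]
  obtain ⟨v1, rfl⟩ := Submodule.mkQ_surjective _ v
  obtain ⟨v2, rfl⟩ := Submodule.mkQ_surjective _ v1
  have h0 := hLk (1 ⊗ₜ (v2 : B))
  have hπ : π (v2 : B) = v2 := Subtype.ext (by
    show GradedAlgebra.proj 𝒜 m (v2 : B) = _
    rw [GradedAlgebra.proj_apply, DirectSum.decompose_of_mem_same 𝒜 v2.2])
  simp only [Lk, LinearMap.liftBaseChange_tmul, one_smul, L, q, LinearMap.comp_apply, hπ] at h0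
  exact hψ ((map_eq_zero_iff _ (algebraMap (A ⧸ M) k).injective).1 h0)

end Groth.Agent.S13623
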