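import Groth.Statements.S13624
import Groth.Agent.Lib.GorenMor.Local

set_option autoImplicit false
universe u
open CategoryTheory CategoryTheory.Limits AlgebraicGeometry Opposite
open Goren

namespace Groth.Agent.S13624

/-- Let f : X → Y be a proper, flat morphism of schemes which is locally of finite presentation. Then
the set of points y of Y whose scheme-theoretic fibre X_y = X ×_Y Spec κ(y) is a Gorenstein scheme
(every local ring of X_y is a Gorenstein local ring) is open in Y. -/
theorem result (X Y : Scheme.{u}) (f : X ⟶ Y)
    [IsProper f] [Flat f] [LocallyOfFinitePresentation f] :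
    IsOpen {y : Y | ∀ x : ↥(f.fiber y), LocCoh.IsGorensteinLocalRing ((f.fiber y).presheaf.stalk x)} := by
  have key : {y : Y | ∀ x : ↥(f.fiber y), LocCoh.IsGorensteinLocalRing ((f.fiber y).presheaf.stalk x)} =
      (f '' {x : X | Dual3.IsGorensteinAt f x}ᶜ)ᶜ := by
    ext y
    refine ⟨fun h => ?_, fun h z => ?_⟩
    · rintro ⟨x, hx, rfl⟩
      exact hx ⟨Flat.stalkMap f x, h (f.asFiber x)⟩
    · have hy : f (f.fiberι y z) = y := by
        have hz := Set.mem_range_self (f := (f.fiberι y)) z
        rw [Scheme.Hom.range_fiberι] at hz
        exact hz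
      have hG : Dual3.IsGorensteinAt f (f.fiberι y z) := by
        by_contra hn
        exact h ⟨_, hn, hy⟩
      have aux : ∀ (x : X) (y : Y), f x = y → ∀ z : f.fiber y, f.fiberι y z = x →
          LocCoh.IsGorensteinLocalRing ((f.fiber (f x)).presheaf.stalk (f.asFiber x)) →
            LocCoh.IsGorensteinLocalRing ((f.fiber y).presheaf.stalk z) := by
        rintro x y rfl z hz hx
        obtain rfl : z = f.asFiber x :=
          (f.fiberι (f x)).isEmbedding.injective (hz.trans (f.fiberι_asFiber x).symm)
        exact hx
      exact aux _ y hy z rfl hG.2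
  rw [key]
  exact (f.isClosedMap _
    (Groth.Agent.Lib.GorenMor.Local.isOpen_gorensteinLocus f).isClosed_compl).isOpen_compl

end Groth.Agent.S13624
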