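import Groth.Statements.S2554
import Groth.Agent.H58PI.Open
-- import your own Groth.Agent.* helpers here

set_option autoImplicit false
open CategoryTheory AlgebraicGeometry
universe u
open EGA43

namespace Groth.Agent.S2554

/-- Let f : X ⟶ Y be proper, flat and locally of finite presentation. The set of points y of Y whose
fibre is geometrically pointwise integral (all local rings of all base field extensions of the fibre
are domains) is open in Y. -/
theorem result {X Y : Scheme.{u}} (f : X ⟶ Y) [IsProper f]
    [Flat f] [LocallyOfFinitePresentation f] :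
    IsOpen {y : Y | ∀ x : ↥(f.fiber y), FBase.IsGeomPtIntegralAt (f.fiberToSpecResidueField y) x} := by
  rw [show {y : Y | ∀ x : ↥(f.fiber y), FBase.IsGeomPtIntegralAt (f.fiberToSpecResidueField y) x} =
      {y : Y | ∀ x, f x = y → Groth.Agent.H58PI.PIAt f x} from
    Set.ext fun y => Groth.Agent.H58PI.forall_fiber_iff f y]
  have key : {y : Y | ∀ x, f x = y → Groth.Agent.H58PI.PIAt f x} =
      (⇑f '' {x | Groth.Agent.H58PI.PIAt f x}ᶜ)ᶜ := by
    ext y
    exact ⟨fun h ⟨x, hx, hxy⟩ => hx (h x hxy), fun h x hxy => by
      by_contra hx; exact h ⟨x, hx, hxy⟩⟩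
  rw [key]
  exact (f.isClosedMap _ (Groth.Agent.H58PI.isOpen_piAt f).isClosed_compl).isOpen_compl

end Groth.Agent.S2554
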