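import Groth.Statements.S2553
import Groth.Agent.S2554
import Groth.Agent.S5935
import Groth.Agent.H46.GeomSpread.Fibre
-- import your own Groth.Agent.* helpers here

set_option autoImplicit false
open CategoryTheory AlgebraicGeometry
universe u
open EGA43

namespace Groth.Agent.S2553

/-- Let f : X ⟶ Y be proper, flat and locally of finite presentation. The set of points y of Y whose
fibre is geometrically integral over the residue field of y is open in Y. -/
theorem result {X Y : Scheme.{u}} (f : X ⟶ Y) [IsProper f]
    [Flat f] [LocallyOfFinitePresentation f] :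
    IsOpen {y : Y | GeometricallyIntegral (f.fiberToSpecResidueField y)} := by
  have key : ∀ y : Y, GeometricallyIntegral (f.fiberToSpecResidueField y) ↔
      (∀ x : ↥(f.fiber y), FBase.IsGeomPtIntegralAt (f.fiberToSpecResidueField y) x) ∧
        (GeometricallyReduced (f.fiberToSpecResidueField y) ∧ MoreMor.nGeomConnComp f y = (1 : ℕ)) := by
    intro y
    refine Iff.trans ?_ (and_congr (((Groth.Agent.H58PI.forall_fiber_iff f y).trans
      (Groth.Agent.H58PI.forall_piAt_iff_counts f y)).symm) Iff.rfl)
    rw [Nat.cast_one]
    constructor
    · intro h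
      have h1 : MoreMor.nGeomIrredComp f y = 1 :=
        (Groth.Agent.H46.GeomSpread.geometricallyIrreducible_iff_count f y).1 inferInstance
      have : IrreducibleSpace ↥(MoreMor.geomFiber f y) :=
        Groth.Agent.H46.GeomSpread.irreducibleSpace_iff_nI.2 h1
      have h2 : MoreMor.nGeomConnComp f y = 1 :=
        Groth.Agent.H46.GeomSpread.connectedSpace_iff_nC.1 inferInstance
      exact ⟨⟨inferInstance, h1.trans h2.symm⟩, inferInstance, h2⟩
    · rintro ⟨⟨hred, heq⟩, -, h2⟩
      have := hred
      have := (Groth.Agent.H46.GeomSpread.geometricallyIrreducible_iff_count f y).2 (heq.trans h2)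
      exact GeometricallyIntegral.of_geometricallyReduced_of_geometricallyIrreducible _
  rw [show {y : Y | GeometricallyIntegral (f.fiberToSpecResidueField y)} =
      {y : Y | ∀ x : ↥(f.fiber y), FBase.IsGeomPtIntegralAt (f.fiberToSpecResidueField y) x} ∩
        {y : Y | GeometricallyReduced (f.fiberToSpecResidueField y) ∧
          MoreMor.nGeomConnComp f y = (1 : ℕ)} from Set.ext key]
  exact (Groth.Agent.S2554.result f).inter (Groth.Agent.S5935.result f 1 le_rfl)

end Groth.Agent.S2553
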