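import Groth.Statements.S5933
import Groth.Agent.H46.FibreProf.OpenGeom
-- import your own Groth.Agent.* helpers here

set_option autoImplicit false
open CategoryTheory AlgebraicGeometry
universe u
open EGA43

namespace Groth.Agent.S5933

open Groth.Agent.H46.FibreProf Groth.Agent.H46.FibreProf.Basic in
/-- Let f : X ⟶ Y be a proper, flat morphism of finite presentation. The set of points y of Y whose
fibre X_y is geometrically normal over κ(y) — for every point x of X_y, every finite field extension
K of κ(y) and every point x' over x of the base change of X_y to K, the local ring at x' is an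
integrally closed domain — is open in Y. -/
theorem result {X Y : Scheme.{u}} (f : X ⟶ Y) [IsProper f] [Flat f]
    [LocallyOfFinitePresentation f] :
    IsOpen {y : Y | ∀ x : ↥(f.fiber y), (∀ (K : Type u) [Field K] [Algebra (IsLocalRing.ResidueField (Y.presheaf.stalk y)) K],
        Module.Finite (IsLocalRing.ResidueField (Y.presheaf.stalk y)) K →
        ∀ x' : ↥(FBase.bc (f.fiberToSpecResidueField y) K),
          (FBase.bcπ (f.fiberToSpecResidueField y) K).base x' = x →
          IsDomain ((FBase.bc (f.fiberToSpecResidueField y) K).presheaf.stalk x') ∧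
            IsIntegrallyClosed ((FBase.bc (f.fiberToSpecResidueField y) K).presheaf.stalk x'))} := by
  haveI := Unit.isFP_structureModule X
  haveI := Groth.Agent.H26.FreeCrit.isQuasicoherent_of_isFP (Unit.isFP_structureModule X)
  convert Equidim.isOpen_forall_fiber f (OpenGeom.isOpen_normal f) using 1
  ext y
  show (∀ _, _) ↔ (∀ _, _)
  refine forall_congr' fun a => ?_
  have gen : ∀ (x : X) (s : Y) (b : f.fiber s), f.fiberι s b = x →
      ((∀ (K : Type u) [Field K] [Algebra (IsLocalRing.ResidueField (Y.presheaf.stalk s)) K],
        Module.Finite (IsLocalRing.ResidueField (Y.presheaf.stalk s)) K →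
        ∀ x' : ↥(FBase.bc (f.fiberToSpecResidueField s) K),
          (FBase.bcπ (f.fiberToSpecResidueField s) K).base x' = b →
          IsDomain ((FBase.bc (f.fiberToSpecResidueField s) K).presheaf.stalk x') ∧
            IsIntegrallyClosed ((FBase.bc (f.fiberToSpecResidueField s) K).presheaf.stalk x')) ↔
      x ∈ {x : X | (f.stalkMap x).hom.Flat ∧
        ∀ (K : Type u) [Field K] [Algebra (IsLocalRing.ResidueField (Y.presheaf.stalk (f.base x))) K],
        Module.Finite (IsLocalRing.ResidueField (Y.presheaf.stalk (f.base x))) K →
        ∀ x' : ↥(FBase.bc (f.fiberToSpecResidueField (f.base x)) K),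
          (FBase.bcπ (f.fiberToSpecResidueField (f.base x)) K).base x' = f.asFiber x →
          (IsDomain ((FBase.bc (f.fiberToSpecResidueField (f.base x)) K).presheaf.stalk x') ∧
            IsIntegrallyClosed ((FBase.bc (f.fiberToSpecResidueField (f.base x)) K).presheaf.stalk x'))}) := by
    intro x s b hb
    obtain rfl : s = f.base x := by rw [← hb, Groth.Agent.Lib.Cyc.FieldDim.apply_fiberι]
    obtain rfl : b = f.asFiber x := (f.fiberι _).isEmbedding.injective (by rw [hb, f.fiberι_asFiber])
    exact (and_iff_right (Flat.stalkMap f x)).symm
  exact gen _ y a rfl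

end Groth.Agent.S5933
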