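import Groth.Statements.S7599
import Groth.Agent.H2.Rigid.GeomNormal

set_option autoImplicit false
universe u
open CategoryTheory CategoryTheory.Limits AlgebraicGeometry
attribute [local instance] Curv2.stalkAlgebra
open scoped TensorProduct
open Variety

namespace Groth.Agent.S7599

/-- Let X be a scheme over a field k and x a point of X. These conditions are equivalent: (1) the scheme
X is geometrically normal at x (meaning: for any extension field k' and any point x' of X_{k'} over
x the local ring O_{X_{k'}, x'} is an integrally closed domain); (2) the same for the finite purely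
inseparable extensions k' of k only; (3) for every extension field k' of k the ring k' ⊗_k O_{X, x}
is normal (all its localisations at primes are integrally closed domains). Stated as (1) ↔ (2)
together with (2) ↔ (3). -/
theorem result (k : Type u) [Field k] (X : Scheme.{u}) [X.Over (Spec (CommRingCat.of k))] (x : ↥X) :
    ((∀ (k' : Type u) [Field k'] [Algebra k k'] (x' : ↥(Curv2.bc k X k')), Curv2.bcFst k X k' x' = x →
          IsDomain ↥((Curv2.bc k X k').presheaf.stalk x') ∧ IsIntegrallyClosed ↥((Curv2.bc k X k').presheaf.stalk x')) ↔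
      (∀ (k' : Type u) [Field k'] [Algebra k k'] [FiniteDimensional k k'] [IsPurelyInseparable k k'] (x' : ↥(Curv2.bc k X k')), Curv2.bcFst k X k' x' = x →
          IsDomain ↥((Curv2.bc k X k').presheaf.stalk x') ∧ IsIntegrallyClosed ↥((Curv2.bc k X k').presheaf.stalk x'))) ∧
    ((∀ (k' : Type u) [Field k'] [Algebra k k'] [FiniteDimensional k k'] [IsPurelyInseparable k k'] (x' : ↥(Curv2.bc k X k')), Curv2.bcFst k X k' x' = x →
          IsDomain ↥((Curv2.bc k X k').presheaf.stalk x') ∧ IsIntegrallyClosed ↥((Curv2.bc k X k').presheaf.stalk x')) ↔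
      ∀ (k' : Type u) [Field k'] [Algebra k k'], EGA4.IsNormalRing (k' ⊗[k] ↥(X.presheaf.stalk x))) := by
  refine ⟨⟨fun h k' _ _ _ _ x' hx' => h k' x' hx', fun h K _ _ y hy => ?_⟩, ⟨fun h K _ _ => ?_, fun h k' _ _ _ _ x' hx' => ?_⟩⟩
  · exact Groth.Agent.H2.Rigid.GeomNormal.normalAt_of_tensor k X x K
      (Groth.Agent.H2.Rigid.GeomNormal.tensor_of_pi k X x h K) y (specializes_of_eq hy)
  · exact (Groth.Agent.H2.Rigid.GeomNormal.isNormalRing_O_iff k X x K).1
      (Groth.Agent.H2.Rigid.GeomNormal.tensor_of_pi k X x h K)
  · exact Groth.Agent.H2.Rigid.GeomNormal.normalAt_of_tensor k X x k'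
      ((Groth.Agent.H2.Rigid.GeomNormal.isNormalRing_O_iff k X x k').2 (h k')) x' (specializes_of_eq hx')

end Groth.Agent.S7599
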