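import Groth.Statements.S7600
import Groth.Agent.H2.Rigid.GeomNormal

set_option autoImplicit false
universe u
open CategoryTheory CategoryTheory.Limits AlgebraicGeometry
open Variety

namespace Groth.Agent.S7600

/-- (2) ⇒ (1): let X be a scheme over a field k, k' an extension field of k and x' a point of X_{k'}
with image x in X. If X_{k'} is geometrically normal at x' over k' (for every extension field k'' of
k' and every point x'' of (X_{k'})_{k''} over x' the local ring at x'' is an integrally closed
domain), then X is geometrically normal at x over k. -/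
theorem result (k : Type u) [Field k] (X : Scheme.{u}) [X.Over (Spec (CommRingCat.of k))] (k' : Type u) [Field k'] [Algebra k k'] (x' : ↥(Curv2.bc k X k'))
    (h : letI : (Curv2.bc k X k').Over (Spec (CommRingCat.of k')) := ⟨Curv2.bcSnd k X k'⟩
      ∀ (k'' : Type u) [Field k''] [Algebra k' k''] (x'' : ↥(Curv2.bc k' (Curv2.bc k X k') k'')), Curv2.bcFst k' (Curv2.bc k X k') k'' x'' = x' →
          IsDomain ↥((Curv2.bc k' (Curv2.bc k X k') k'').presheaf.stalk x'') ∧ IsIntegrallyClosed ↥((Curv2.bc k' (Curv2.bc k X k') k'').presheaf.stalk x'')) :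
    ∀ (K : Type u) [Field K] [Algebra k K] (y : ↥(Curv2.bc k X K)), Curv2.bcFst k X K y = (Curv2.bcFst k X k' x') →
          IsDomain ↥((Curv2.bc k X K).presheaf.stalk y) ∧ IsIntegrallyClosed ↥((Curv2.bc k X K).presheaf.stalk y) := by
  intro K _ _ y hy
  let σ' := Spec.map (CommRingCat.ofHom (algebraMap k k'))
  let σ₁ := Spec.map (CommRingCat.ofHom (algebraMap k K))
  let str := X ↘ Spec (CommRingCat.of k)
  let X' := Curv2.bc k X k'
  let π' : X' ⟶ X := Curv2.bcFst k X k'
  let snd' : X' ⟶ Spec (CommRingCat.of k') := Curv2.bcSnd k X k'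
  let π₁ : Curv2.bc k X K ⟶ X := Curv2.bcFst k X K
  let snd₁ : Curv2.bc k X K ⟶ Spec (CommRingCat.of K) := Curv2.bcSnd k X K
  obtain ⟨w, hw₁, hw₂⟩ := Scheme.Pullback.exists_preimage_pullback x' y (f := π') (g := π₁) hy.symm
  let W := pullback π' π₁
  let L := W.residueField w
  let ρ : Spec (CommRingCat.of L) ⟶ W := W.fromSpecResidueField w
  let a : Spec (CommRingCat.of L) ⟶ Spec (CommRingCat.of k') := ρ ≫ pullback.fst π' π₁ ≫ snd'
  let b : Spec (CommRingCat.of L) ⟶ Spec (CommRingCat.of K) := ρ ≫ pullback.snd π' π₁ ≫ snd₁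
  let _ : Algebra k' L := (Spec.preimage a).hom.toAlgebra
  have ha : Spec.map (CommRingCat.ofHom (algebraMap k' L)) = a := Spec.map_preimage a
  have hab : a ≫ σ' = b ≫ σ₁ := by
    have e1 : π' ≫ str = snd' ≫ σ' := pullback.condition
    have e2 : π₁ ≫ str = snd₁ ≫ σ₁ := pullback.condition
    simp only [a, b, Category.assoc]
    rw [← e1, ← e2, ← Category.assoc (pullback.fst π' π₁), ← Category.assoc (pullback.snd π' π₁),
      pullback.condition]
  letI : X'.Over (Spec (CommRingCat.of k')) := ⟨snd'⟩
  let Z := pullback snd' (Spec.map (CommRingCat.ofHom (algebraMap k' L)))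
  let zmap : Spec (CommRingCat.of L) ⟶ Z :=
    pullback.lift (ρ ≫ pullback.fst π' π₁) (𝟙 _) (by rw [Category.id_comp, ha]; simp [a, Category.assoc])
  let p : Z ⟶ Curv2.bc k X K := pullback.lift (pullback.fst _ _ ≫ π') (pullback.snd _ _ ≫ b) (by
    have e1 : π' ≫ str = snd' ≫ σ' := pullback.condition
    rw [Category.assoc, Category.assoc, e1, ← hab, ← ha, ← Category.assoc, pullback.condition,
      Category.assoc])
  have sq : IsPullback p (pullback.snd _ _) snd₁ b := by
    refine IsPullback.of_right ?_ (pullback.lift_snd _ _ _) (IsPullback.of_hasPullback str σ₁)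
    rw [pullback.lift_fst, ← hab, ← ha]
    exact (IsPullback.of_hasPullback snd' _).paste_horiz (IsPullback.of_hasPullback str σ')
  have : Flat b := by
    obtain ⟨φ, hφ⟩ := Spec.map_surjective b
    rw [← hφ]
    let _ : Algebra K L := φ.hom.toAlgebra
    exact (HasRingHomProperty.Spec_iff (P := @Flat)).2
      (RingHom.flat_algebraMap_iff.2 (inferInstance : Module.Flat K L))
  have : Flat p := MorphismProperty.of_isPullback sq.flip inferInstance
  let c := IsLocalRing.closedPoint L
  have hz : pullback.fst snd' (Spec.map (CommRingCat.ofHom (algebraMap k' L))) (zmap c) = x' := by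
    refine (congrArg (fun m : Spec (CommRingCat.of L) ⟶ X' => m c) (pullback.lift_fst _ _ _ :
      zmap ≫ pullback.fst snd' _ = ρ ≫ pullback.fst π' π₁)).trans ?_
    exact (congrArg _ (W.fromSpecResidueField_apply w c)).trans hw₁
  have hp : p (zmap c) = y := by
    have e : zmap ≫ p = ρ ≫ pullback.snd π' π₁ := by
      have hp1 : p ≫ π₁ = pullback.fst _ _ ≫ π' := pullback.lift_fst _ _ _
      have hp2 : p ≫ snd₁ = pullback.snd _ _ ≫ b := pullback.lift_snd _ _ _
      apply pullback.hom_ext
      · show (zmap ≫ p) ≫ π₁ = (ρ ≫ pullback.snd π' π₁) ≫ π₁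
        rw [Category.assoc, hp1, Category.assoc, ← pullback.condition, ← Category.assoc,
          pullback.lift_fst, Category.assoc]
      · show (zmap ≫ p) ≫ snd₁ = (ρ ≫ pullback.snd π' π₁) ≫ snd₁
        rw [Category.assoc, hp2, ← Category.assoc, pullback.lift_snd, Category.id_comp, Category.assoc]
    refine (congrArg (fun m : Spec (CommRingCat.of L) ⟶ Curv2.bc k X K => m c) e).trans ?_
    exact (congrArg _ (W.fromSpecResidueField_apply w c)).trans hw₂
  rw [← hp]
  exact Groth.Agent.H2.Rigid.GeomNormal.normalAt_of_flat p (zmap c) (h L (zmap c) hz)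

end Groth.Agent.S7600
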