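import Groth.Statements.S13625
import Groth.Agent.H34.Stein.FlatModel
import Groth.Agent.H69.FibreLoci.Approx
import Groth.Agent.S2553
import Groth.Agent.S5933
import Groth.Agent.S13624
import Groth.Agent.S4627
import Groth.Agent.S3626
import Groth.Agent.H25.Node.SingCrit
import Groth.Agent.S7599
import Groth.Agent.S7600
import Groth.Agent.Lib.CurvField.GorField
import Groth.Agent.Lib.GeomConn.Geometric
import Groth.Agent.H52.FBase.GeomRedSch
-- import your own Groth.Agent.* helpers here

set_option autoImplicit false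
set_option backward.isDefEq.respectTransparency false
set_option backward.isDefEq.respectTransparency.types false
set_option linter.style.haveILetI false
set_option maxHeartbeats 800000
universe u
open CategoryTheory CategoryTheory.Limits AlgebraicGeometry Opposite
open Lim

namespace Groth.Agent.S13625

open Groth.Agent Groth.Agent.H2.Rigid.GeomNormal Topology

/-- The conditions on the geometric fibres. -/
def Good (W : Scheme.{u}) : Prop :=
  IsIntegral W ∧ Pi1.IsNormalScheme W ∧ topologicalKrullDim ↥W = 2 ∧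
    ∀ x : ↥W, LocCoh.IsGorensteinLocalRing (W.presheaf.stalk x)

/-- Geometric normality of a fibre, tested on finite extensions. -/
def NormFib {X Y : Scheme.{u}} (f : X ⟶ Y) (y : Y) : Prop :=
  ∀ x : ↥(f.fiber y), (∀ (K : Type u) [Field K] [Algebra (IsLocalRing.ResidueField (Y.presheaf.stalk y)) K],
        Module.Finite (IsLocalRing.ResidueField (Y.presheaf.stalk y)) K →
        ∀ x' : ↥(FBase.bc (f.fiberToSpecResidueField y) K),
          (FBase.bcπ (f.fiberToSpecResidueField y) K).base x' = x →
          IsDomain ((FBase.bc (f.fiberToSpecResidueField y) K).presheaf.stalk x') ∧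
            IsIntegrallyClosed ((FBase.bc (f.fiberToSpecResidueField y) K).presheaf.stalk x'))

/-- The locus of good fibres. -/
def goodSet {X Y : Scheme.{u}} (f : X ⟶ Y) : Set Y :=
  {y | GeometricallyIntegral (f.fiberToSpecResidueField y)} ∩
  {y | NormFib f y} ∩
  {y | ∀ x : ↥(f.fiber y), LocCoh.IsGorensteinLocalRing ((f.fiber y).presheaf.stalk x)} ∩
  {y | topologicalKrullDim ↥(f.fiber y) = 2}

theorem isIso_of_sepClosure (K : Type u) [Field K] [IsSepClosed K] :
    IsIso (Spec.map (CommRingCat.ofHom (algebraMap K (SeparableClosure K)))) := by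
  haveI : Algebra.IsSeparable K (SeparableClosure K) := inferInstance
  have hb : Function.Bijective (algebraMap K (SeparableClosure K)) :=
    ⟨(algebraMap K (SeparableClosure K)).injective, IsSepClosed.algebraMap_surjective K _⟩
  haveI : IsIso (CommRingCat.ofHom (algebraMap K (SeparableClosure K))) :=
    (ConcreteCategory.isIso_iff_bijective _).2 hb
  infer_instance

theorem geometricallyIntegral_algClosed {K : Type u} [Field K] [IsAlgClosed K] {W : Scheme.{u}}
    (b : W ⟶ Spec (CommRingCat.of K)) [IsIntegral W] : GeometricallyIntegral b := by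
  haveI := H52.FBase.GeomRedSch.geometricallyReduced_of_perfectField b
  haveI : GeometricallyIrreducible b := by
    letI : W.Over (Spec (CommRingCat.of K)) := ⟨b⟩
    refine (Groth.Agent.Lib.GeomConn.Geometric.geometricallyIrreducible_iff_sepClosure K W).2 ?_
    haveI := isIso_of_sepClosure K
    let e := Scheme.Hom.homeomorph (Curv2.bcFst K W (SeparableClosure K))
    rw [irreducibleSpace_def, Set.top_eq_univ, ← e.symm.surjective.range_eq, ← Set.image_univ]
    exact (IrreducibleSpace.isIrreducible_univ (X := W)).image _ e.symm.continuous.continuousOn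
  exact GeometricallyIntegral.of_geometricallyReduced_of_geometricallyIrreducible _

theorem geomNormal_algClosed {K : Type u} [Field K] [IsAlgClosed K] (W : Scheme.{u})
    [W.Over (Spec (CommRingCat.of K))] (hW : Pi1.IsNormalScheme W) (w : W)
    (K' : Type u) [Field K'] [Algebra K K'] (z : ↥(Curv2.bc K W K')) (hz : Curv2.bcFst K W K' z = w) :
    IsDomain ↥((Curv2.bc K W K').presheaf.stalk z) ∧ IsIntegrallyClosed ↥((Curv2.bc K W K').presheaf.stalk z) := by
  refine (Groth.Agent.S7599.result K W w).1.2 (fun k' _ _ _ _ z' _ => ?_) K' z hz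
  have hb : Function.Bijective (algebraMap K k') :=
    ⟨(algebraMap K k').injective, IsAlgClosed.algebraMap_bijective_of_isIntegral.2⟩
  haveI : IsIso (CommRingCat.ofHom (algebraMap K k')) := (ConcreteCategory.isIso_iff_bijective _).2 hb
  let j : Curv2.bc K W k' ⟶ W := Curv2.bcFst K W k'
  haveI : IsIso j := inferInstance
  have := normalAt_map (inv j) (j z') (hW (j z'))
  rwa [show inv j (j z') = z' by rw [← Scheme.Hom.comp_apply, IsIso.hom_inv_id]; rfl] at this

theorem fiberι_homeo {W : Scheme.{u}} {K : Type u} [Field K] (b : W ⟶ Spec (CommRingCat.of K))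
    (pt : Spec (CommRingCat.of K)) : topologicalKrullDim ↥(b.fiber pt) = topologicalKrullDim ↥W := by
  haveI := Groth.Agent.H25.Node.SingCrit.isIso_fiberι K W b pt
  exact IsHomeomorph.topologicalKrullDim_eq _ (Scheme.Hom.homeomorph (b.fiberι pt)).isHomeomorph

theorem good_iff {X Y : Scheme.{u}} (f : X ⟶ Y) [Flat f] [LocallyOfFinitePresentation f]
    {K : Type u} [Field K] [IsAlgClosed K] (τ : Spec (CommRingCat.of K) ⟶ Y) {W : Scheme.{u}}
    (a : W ⟶ X) (b : W ⟶ Spec (CommRingCat.of K)) (sq : IsPullback a b f τ)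
    (pt : Spec (CommRingCat.of K)) : τ pt ∈ goodSet f ↔ Good W := by
  obtain ⟨y, φ, hτ⟩ : ∃ (y : Y) (φ : Y.residueField y ⟶ CommRingCat.of K),
      Spec.map φ ≫ Y.fromSpecResidueField y = τ :=
    ⟨_, _, (Scheme.SpecToEquivOfField K Y).symm_apply_apply τ⟩
  have hy : τ pt = y := by
    rw [← hτ, Scheme.Hom.comp_apply, Scheme.fromSpecResidueField_apply]
  letI : Algebra (IsLocalRing.ResidueField (Y.presheaf.stalk y)) K := φ.hom.toAlgebra
  let p : f.fiber y ⟶ Spec (CommRingCat.of (IsLocalRing.ResidueField (Y.presheaf.stalk y))) := f.fiberToSpecResidueField y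
  let c : W ⟶ f.fiber y := pullback.lift a (b ≫ Spec.map φ) (by rw [Category.assoc, hτ, sq.w])
  have hc : IsPullback c b p (Spec.map (CommRingCat.ofHom (algebraMap (IsLocalRing.ResidueField (Y.presheaf.stalk y)) K))) := by
    refine IsPullback.of_right ?_ (pullback.lift_snd _ _ _) (IsPullback.of_hasPullback f (Y.fromSpecResidueField y))
    rw [pullback.lift_fst]
    exact hτ ▸ sq
  let e : W ≅ FBase.bc p K := hc.isoPullback
  have he1 : e.hom ≫ FBase.bcπ p K = c := hc.isoPullback_hom_fst
  have he2 : e.hom ≫ FBase.bcStr p K = b := hc.isoPullback_hom_snd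
  haveI : Surjective c := by
    have : Surjective (Spec.map (CommRingCat.ofHom (algebraMap (IsLocalRing.ResidueField (Y.presheaf.stalk y)) K))) :=
      ⟨fun z => ⟨pt, (inferInstance : Subsingleton (PrimeSpectrum (IsLocalRing.ResidueField (Y.presheaf.stalk y)))).elim _ _⟩⟩
    exact MorphismProperty.of_isPullback (P := @Surjective) hc.flip this
  have hI : GeometricallyIntegral p ↔ IsIntegral W := by
    rw [Groth.Agent.S4627.result (K := K) p]
    have h1 : GeometricallyIntegral (FBase.bcStr p K) ↔ GeometricallyIntegral b := by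
      rw [← he2]
      exact (MorphismProperty.cancel_left_of_respectsIso @GeometricallyIntegral _ _).symm
    rw [h1]
    exact ⟨fun _ => GeometricallyIntegral.isIntegral_of_subsingleton b, fun _ => geometricallyIntegral_algClosed b⟩
  letI oX : (f.fiber y).Over (Spec (CommRingCat.of (IsLocalRing.ResidueField (Y.presheaf.stalk y)))) := ⟨p⟩
  have hN : NormFib f y ↔
      Pi1.IsNormalScheme W := by
    constructor
    · intro h w
      have hz := (Groth.Agent.S7599.result (IsLocalRing.ResidueField (Y.presheaf.stalk y)) (f.fiber y)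
        (Curv2.bcFst (IsLocalRing.ResidueField (Y.presheaf.stalk y)) (f.fiber y) K (e.hom w))).1.2
        (fun k' iF iA hfin _ x' hx' => @h _ k' iF iA hfin x' hx') K (e.hom w) rfl
      have := normalAt_map e.inv (e.hom w) hz
      rwa [show e.inv (e.hom w) = w by rw [← Scheme.Hom.comp_apply, Iso.hom_inv_id]; rfl] at this
    · intro h x K' _ _ _ x' hx'
      obtain ⟨w, hw⟩ := c.surjective x
      have hnb : Pi1.IsNormalScheme (Curv2.bc (IsLocalRing.ResidueField (Y.presheaf.stalk y)) (f.fiber y) K) := fun z => by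
        have := normalAt_map e.hom (e.inv z) (h (e.inv z))
        rwa [show e.hom (e.inv z) = z by rw [← Scheme.Hom.comp_apply, Iso.inv_hom_id]; rfl] at this
      letI : (Curv2.bc (IsLocalRing.ResidueField (Y.presheaf.stalk y)) (f.fiber y) K).Over (Spec (CommRingCat.of K)) :=
        ⟨Curv2.bcSnd (IsLocalRing.ResidueField (Y.presheaf.stalk y)) (f.fiber y) K⟩
      refine Groth.Agent.S7600.result (IsLocalRing.ResidueField (Y.presheaf.stalk y)) (f.fiber y) K (e.hom w)
        (fun k'' _ _ z hz => geomNormal_algClosed _ hnb _ k'' z hz) K' x' (hx'.trans ?_)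
      rw [← hw, ← he1, Scheme.Hom.comp_apply]
      rfl
  have hG : (∀ x : ↥(f.fiber y), LocCoh.IsGorensteinLocalRing ((f.fiber y).presheaf.stalk x)) ↔
      ∀ w : ↥W, LocCoh.IsGorensteinLocalRing (W.presheaf.stalk w) := by
    have hp : IsPullback (pullback.fst f (Y.fromSpecResidueField y)) p f (Y.fromSpecResidueField y) :=
      IsPullback.of_hasPullback _ _
    haveI : Flat p := MorphismProperty.of_isPullback hp inferInstance
    haveI : LocallyOfFinitePresentation p := MorphismProperty.of_isPullback hp inferInstance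
    constructor
    · intro h w
      rw [← Groth.Agent.Lib.CurvField.isGorensteinAt_iff_stalk b w, Groth.Agent.S3626.result _ _ _ _ p _ b c hc w,
        Groth.Agent.Lib.CurvField.isGorensteinAt_iff_stalk]
      exact h _
    · intro h x
      obtain ⟨w, rfl⟩ := c.surjective x
      rw [← Groth.Agent.Lib.CurvField.isGorensteinAt_iff_stalk p, ← Groth.Agent.S3626.result _ _ _ _ p _ b c hc w,
        Groth.Agent.Lib.CurvField.isGorensteinAt_iff_stalk]
      exact h w
  have hD : topologicalKrullDim ↥(f.fiber y) = topologicalKrullDim ↥W := by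
    rw [← hy, ← Groth.Agent.H69.FibreLoci.Approx.dim_baseChange f b a τ sq pt, fiberι_homeo]
  rw [hy]
  show ((_ ∧ _) ∧ _) ∧ _ ↔ _
  exact ⟨fun ⟨⟨⟨h1, h2⟩, h3⟩, h4⟩ => ⟨hI.1 h1, hN.1 h2, hD.symm.trans h4, hG.1 h3⟩,
    fun ⟨h1, h2, h3, h4⟩ => ⟨⟨⟨hI.2 h1, hN.2 h2⟩, hG.2 h4⟩, hD.trans h3⟩⟩

theorem isConstructible_goodSet {X Y : Scheme.{u}} (f : X ⟶ Y) [IsProper f] [Flat f]
    [LocallyOfFinitePresentation f] [IsAffine Y] [IsLocallyNoetherian Y] : IsConstructible (goodSet f) := by
  haveI : IsNoetherian Y := {}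
  have ho : ∀ {U : Set Y}, IsOpen U → IsConstructible U := fun hU =>
    Groth.Agent.Lib.Spectral.Noetherian.isConstructible_of_isOpen hU
  refine (((ho (Groth.Agent.S2553.result f)).inter (ho (Groth.Agent.S5933.result f))).inter
    (ho (Groth.Agent.S13624.result _ _ f))).inter ?_
  exact (Groth.Agent.H69.FibreLoci.Dim.isLocallyConstructible_eq f 2).isConstructible

/-- Let R be a commutative ring and f : X → Spec R a proper, flat morphism of schemes, locally of finite
presentation, whose geometric fibres (fibres over Spec k → Spec R, k an algebraically closed field)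
are integral, normal schemes of Krull dimension 2 with Gorenstein local rings. Then f is the base
change, along Spec R → Spec R₀ for some ring map R₀ → R with R₀ Noetherian, of a proper, flat
morphism f₀ : X₀ → Spec R₀ locally of finite presentation whose geometric fibres are again integral,
normal, of Krull dimension 2 and with Gorenstein local rings. (Algebraically closed fields are taken
in the universe of R.) -/
theorem result
    (R : Type u) [CommRing R] (X : Scheme.{u}) (f : X ⟶ Spec (CommRingCat.of R))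
    [IsProper f] [Flat f] [LocallyOfFinitePresentation f]
    (hfib : (∀ (k : Type u) [Field k] [IsAlgClosed k] (σ : Spec (CommRingCat.of k) ⟶ Spec (CommRingCat.of R)),
      IsIntegral (pullback f σ) ∧ Pi1.IsNormalScheme (pullback f σ) ∧
        topologicalKrullDim ↥(pullback f σ) = 2 ∧
        ∀ x : ↥(pullback f σ), LocCoh.IsGorensteinLocalRing ((pullback f σ).presheaf.stalk x))) :
    ∃ (R₀ : CommRingCat.{u}) (φ : R₀ ⟶ CommRingCat.of R) (X₀ : Scheme.{u}) (f₀ : X₀ ⟶ Spec R₀) (g : X ⟶ X₀),
      IsNoetherianRing ↥R₀ ∧ IsPullback g f f₀ (Spec.map φ) ∧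
      IsProper f₀ ∧ Flat f₀ ∧ LocallyOfFinitePresentation f₀ ∧
      (∀ (k : Type u) [Field k] [IsAlgClosed k] (σ : Spec (CommRingCat.of k) ⟶ Spec R₀),
      IsIntegral (pullback f₀ σ) ∧ Pi1.IsNormalScheme (pullback f₀ σ) ∧
        topologicalKrullDim ↥(pullback f₀ σ) = 2 ∧
        ∀ x : ↥(pullback f₀ σ), LocCoh.IsGorensteinLocalRing ((pullback f₀ σ).presheaf.stalk x)) := by
  classical
  let B : CommRingCat.{u} := CommRingCat.of R
  let D := H2.Rigid.SubDiagram.diagram B
  let C := H2.Rigid.SubDiagram.cone B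
  have hC : IsLimit C := H2.Rigid.SubDiagram.isLimitCone B
  haveI : IsAffine C.pt := inferInstanceAs (IsAffine (Spec B))
  obtain ⟨k, X₀, f₀, q, h, hp, hfl, hfp⟩ := @Groth.Agent.H34.Stein.exists_flat_model_of_limit _ _ _ _
    D C hC _ _ X f ‹IsProper f› ‹Flat f› ‹LocallyOfFinitePresentation f›
  haveI := hp; haveI := hfl; haveI := hfp
  have hE : IsConstructible (goodSet f₀) := isConstructible_goodSet f₀
  have hmem : ∀ s : C.pt, C.π.app k s ∈ goodSet f₀ := by
    intro s
    let K : Type u := AlgebraicClosure ((Spec B).residueField s)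
    let σ₀ : Spec (CommRingCat.of K) ⟶ Spec B :=
      Spec.map (CommRingCat.ofHom (algebraMap ((Spec B).residueField s) K)) ≫ (Spec B).fromSpecResidueField s
    let pt : Spec (CommRingCat.of K) := IsLocalRing.closedPoint K
    have h0 : σ₀ pt = s := (Scheme.Hom.comp_apply _ _ _).trans (Scheme.fromSpecResidueField_apply _ _)
    have hg : Good (pullback f σ₀) := hfib K σ₀
    have := (good_iff f₀ (σ₀ ≫ C.π.app k) _ _ ((IsPullback.of_hasPullback f σ₀).paste_horiz h) pt).2 hg
    rwa [Scheme.Hom.comp_apply, h0] at this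
  obtain ⟨l, φ, hφ⟩ := Lib.LimTop.Points.exists_map_preimage_subset hC k Lib.LimTop.PC.IsPC.univ
    (Lib.LimTop.PC.IsPC.compl_of_isConstructible hE) fun s _ => hmem s
  let f₁ := pullback.snd f₀ (D.map φ)
  have hsq : IsPullback (pullback.lift q (f ≫ C.π.app l) (by rw [Category.assoc, C.w, h.w])) f f₁ (C.π.app l) := by
    refine IsPullback.of_right ?_ (pullback.lift_snd _ _ _) (IsPullback.of_hasPullback f₀ (D.map φ))
    rw [pullback.lift_fst, C.w]
    exact h
  let i : D.obj l ≅ Spec Γ(D.obj l, ⊤) := (D.obj l).isoSpec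
  haveI : IsNoetherian (D.obj l) := {}
  haveI hNr : IsNoetherianRing Γ(D.obj l, ⊤) := IsLocallyNoetherian.component_noetherian ⟨⊤, isAffineOpen_top _⟩
  refine ⟨Γ(D.obj l, ⊤), Spec.preimage (C.π.app l ≫ i.hom), _, f₁ ≫ i.hom,
    pullback.lift q (f ≫ C.π.app l) (by rw [Category.assoc, C.w, h.w]), hNr, ?_,
    inferInstance, inferInstance, inferInstance, fun K _ _ σ => ?_⟩
  · rw [Spec.map_preimage]
    exact hsq.of_iso (Iso.refl X) (Iso.refl _) (Iso.refl _) i ((Category.comp_id _).trans (Category.id_comp _).symm)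
      ((Category.comp_id _).trans (Category.id_comp _).symm) (Category.id_comp _).symm (Category.id_comp _).symm
  · have sq2 : IsPullback (pullback.fst (f₁ ≫ i.hom) σ ≫ pullback.fst f₀ (D.map φ))
        (pullback.snd (f₁ ≫ i.hom) σ) f₀ ((σ ≫ i.inv) ≫ D.map φ) := by
      refine IsPullback.paste_horiz ?_ (IsPullback.of_hasPullback f₀ (D.map φ))
      exact (IsPullback.of_hasPullback (f₁ ≫ i.hom) σ).of_iso (Iso.refl _) (Iso.refl _) (Iso.refl _) i.symm
        ((Category.comp_id _).trans (Category.id_comp _).symm) ((Category.comp_id _).trans (Category.id_comp _).symm)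
        (by simp [f₁]) (by simp)
    exact (good_iff f₀ _ _ _ sq2 (IsLocalRing.closedPoint K)).1 (by
      rw [Scheme.Hom.comp_apply]
      exact hφ (Set.mem_univ _))

end Groth.Agent.S13625
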