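import Groth.Statements.S13626
import Groth.Agent.Lib.LerayDeg51.Basic
import Groth.Agent.Lib.CohDelta.AbR
import Groth.Agent.Lib.Modules.ProjFormula
import Groth.Agent.Lib.TensorMod.Basic
import Groth.Agent.Lib.TensorMod.LocFree

set_option autoImplicit false
universe u
open CategoryTheory CategoryTheory.Limits AlgebraicGeometry
open Coh

namespace Groth.Agent.S13626

open Groth.Agent.Lib

/-- Isomorphic modules have isomorphic cohomology. -/
noncomputable def hhIso {X : Scheme.{u}} {M N : X.Modules} (e : M ≅ N) (p : ℕ) :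
    Coh.HH X M p ≃+ Coh.HH X N p :=
  ((Sheaf.functorH _ p).mapIso ((CohDelta.Basic.abF X).mapIso e)).addCommGroupIsoToAddEquiv

/-- Let f : X → Y be a morphism of schemes with R^i f_* O_X = 0 for every i ≥ 1 and f_* O_X ≅ O_Y. Then
for every invertible O_Y-module L and every p ≥ 0 the groups H^p(X, f^* L) and H^p(Y, L) are
isomorphic (existence of a group isomorphism; the higher direct images are the right derived
functors of f_* on O_X-modules, under the instance argument recording that O_X-modules have
injective resolutions). -/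
theorem result
    {X Y : Scheme.{u}} (f : X ⟶ Y) [HasInjectiveResolutions X.Modules]
    (hR : ∀ i : ℕ, IsZero ((Coh.Rpush f (i + 1)).obj (Coh.structureModule X)))
    (h0 : Nonempty ((Coh.push f).obj (Coh.structureModule X) ≅ Coh.structureModule Y))
    (L : Y.Modules) (hL : PicF.IsInvertible L) (p : ℕ) :
    Nonempty (Coh.HH X ((Scheme.Modules.pullback f).obj L) p ≃+ Coh.HH Y L p) := by
  have hdb := Modules.DualBasis.hasDBases_of_isFinLocFree (TensorMod.LocFree.of_rank (TensorMod.LocFree.of_isInvertible hL))
  let P := (Scheme.Modules.pullback f).obj L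
  haveI : (Scheme.Modules.pullback f).IsLeftAdjoint :=
    (Scheme.Modules.pullbackPushforwardAdjunction f).isLeftAdjoint
  let u : CohB1.tensorMod P (Coh.structureModule X) ≅ P := TensorMod.Basic.rightUnit P
  have hR' : ∀ q, IsZero ((Coh.RpushAb f (q + 1)).obj (Coh.toAb P)) := fun q => by
    let I := injectiveResolution P
    obtain ⟨a⟩ := CohDelta.AbR.nonempty_rpushAb_iso f I q
    obtain ⟨b⟩ := CohDelta.Syzygy.nonempty_rightDerived_iso I f q
    have hz : IsZero ((Coh.Rpush f (q + 1)).obj P) :=
      (((Modules.DualAdj.tensorL L).map_isZero (hR q)).of_iso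
        (Modules.ProjFormula.higherProjIso f hdb (Coh.structureModule X) (q + 1)).symm).of_iso
        ((Coh.Rpush f (q + 1)).mapIso u.symm)
    exact ((CohDelta.Basic.abF Y).map_isZero (hz.of_iso b.symm)).of_iso a
  obtain ⟨e₀⟩ := h0
  let e : (Coh.push f).obj P ≅ L :=
    (Coh.push f).mapIso u.symm ≪≫ (Modules.ProjFormula.projIso f hdb).symm.app (Coh.structureModule X) ≪≫
      (Modules.DualAdj.tensorL L).mapIso e₀ ≪≫ TensorMod.Basic.rightUnit L
  exact ⟨((hhIso e.symm p).trans (LerayDeg51.pushEquiv (f := f.base) (Coh.toAb P) hR' p)).symm⟩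

end Groth.Agent.S13626
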