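import Groth.Statements.S13627
import Groth.Agent.H52.FBase.Descend
import Mathlib.FieldTheory.IsAlgClosed.AlgebraicClosure

set_option autoImplicit false
universe u
open CategoryTheory CategoryTheory.Limits AlgebraicGeometry Opposite
open FBase

namespace Groth.Agent.S13627

theorem congrHom_hom_snd {X Y Z : Scheme.{u}} {f₁ f₂ : X ⟶ Z} {g₁ g₂ : Y ⟶ Z}
    (h₁ : f₁ = f₂) (h₂ : g₁ = g₂) :
    (pullback.congrHom h₁ h₂).hom ≫ pullback.snd f₂ g₂ = pullback.snd f₁ g₁ := by
  subst h₁ h₂
  simp

/-- Let P be a property of schemes over fields, invariant under isomorphisms of schemes over the base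
field and ascending along every field extension k → K (if Z over k has P then Z ×_k Spec K over K
has P). For a morphism of schemes f : X → T, these conditions are equivalent: (1) for every
algebraically closed field k and every morphism Spec k → T the fibre X ×_T Spec k has P over k; (2)
for every point t of T the fibre of f over Spec of an algebraic closure of the residue field κ(t)
has P. (Fields are taken in the universe of the schemes. The published statement also treats a
morphism from an algebraic space X to a scheme T; this row treats morphisms of schemes.) -/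
theorem result
    (P : ∀ (k : Type u) [Field k] (Z : Scheme.{u}), (Z ⟶ Spec (CommRingCat.of k)) → Prop)
    (hiso : ∀ (k : Type u) [Field k] (Z Z' : Scheme.{u}) (e : Z ≅ Z') (g : Z' ⟶ Spec (CommRingCat.of k)),
      P k Z' g → P k Z (e.hom ≫ g))
    (hext : ∀ (k K : Type u) [Field k] [Field K] (i : k →+* K) (Z : Scheme.{u}) (g : Z ⟶ Spec (CommRingCat.of k)),
      P k Z g → P K (pullback g (Spec.map (CommRingCat.ofHom i))) (pullback.snd g (Spec.map (CommRingCat.ofHom i))))
    {X T : Scheme.{u}} (f : X ⟶ T) :
    (∀ (k : Type u) [Field k] [IsAlgClosed k] (σ : Spec (CommRingCat.of k) ⟶ T),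
        P k (pullback f σ) (pullback.snd f σ)) ↔
      ∀ t : T, P (AlgebraicClosure ↥(T.residueField t))
        (pullback f (Spec.map (CommRingCat.ofHom (algebraMap ↥(T.residueField t) (AlgebraicClosure ↥(T.residueField t)))) ≫
          T.fromSpecResidueField t))
        (pullback.snd f (Spec.map (CommRingCat.ofHom (algebraMap ↥(T.residueField t) (AlgebraicClosure ↥(T.residueField t)))) ≫
          T.fromSpecResidueField t)) := by
  refine ⟨fun h t => h _ _, fun h k _ _ σ => ?_⟩
  let t := σ (IsLocalRing.closedPoint k)
  let κ := T.residueField t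
  obtain ⟨φ, hφ⟩ : ∃ φ : κ →+* k, Spec.map (CommRingCat.ofHom φ) ≫ T.fromSpecResidueField t = σ :=
    ⟨(T.descResidueField (Scheme.stalkClosedPointTo σ)).hom,
      Scheme.descResidueField_stalkClosedPointTo_fromSpecResidueField k T σ⟩
  let _ : Algebra κ k := φ.toAlgebra
  let i : AlgebraicClosure κ →ₐ[κ] k := IsAlgClosed.lift
  let st := Spec.map (CommRingCat.ofHom (algebraMap κ (AlgebraicClosure κ))) ≫ T.fromSpecResidueField t
  have hst : Spec.map (CommRingCat.ofHom i.toRingHom) ≫ st = σ := by
    rw [← Category.assoc, ← Spec.map_comp, ← CommRingCat.ofHom_comp]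
    erw [i.comp_algebraMap]
    exact hφ
  let e : pullback f σ ≅ pullback (pullback.snd f st) (Spec.map (CommRingCat.ofHom i.toRingHom)) :=
    pullback.congrHom rfl hst.symm ≪≫ (pullbackLeftPullbackSndIso f st _).symm
  have := hiso k _ _ e _ (hext _ _ i.toRingHom _ _ (h t))
  convert this using 1
  simp only [e, Iso.trans_hom, Iso.symm_hom, Category.assoc]
  rw [pullbackLeftPullbackSndIso_inv_snd_snd]
  exact (congrHom_hom_snd _ _).symm

end Groth.Agent.S13627
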