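import Groth.Statements.S13628
import Groth.Agent.H52.FBase.Descend
import Mathlib.FieldTheory.IsAlgClosed.AlgebraicClosure

set_option autoImplicit false
universe u
open CategoryTheory CategoryTheory.Limits AlgebraicGeometry Opposite
open FBase

namespace Groth.Agent.S13628

theorem congrHom_hom_snd {X Y Z : Scheme.{u}} {f₁ f₂ : X ⟶ Z} {g₁ g₂ : Y ⟶ Z}
    (h₁ : f₁ = f₂) (h₂ : g₁ = g₂) :
    (pullback.congrHom h₁ h₂).hom ≫ pullback.snd f₂ g₂ = pullback.snd f₁ g₁ := by
  subst h₁ h₂
  simp

/-- Let P be a property of schemes over fields, invariant under isomorphisms of schemes over the base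
field and invariant in both directions under every field extension k → K (Z over k has P if and only
if Z ×_k Spec K over K has P). Let f : X → T be a morphism of schemes, h : T' → T a surjective
morphism of schemes and f' : X' → T' a base change of f along h. If for every algebraically closed
field k and every Spec k → T' the fibre X' ×_{T'} Spec k has P, then for every algebraically closed
field k and every Spec k → T the fibre X ×_T Spec k has P. (Fields are taken in the universe of the
schemes. The published statement is that families of del Pezzo surfaces form a stack for the étale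
topology; this row is the step of its proof that descends the condition on geometric fibres along a
surjective base change, stated for any fibre property with the invariance above.) -/
theorem result
    (P : ∀ (k : Type u) [Field k] (Z : Scheme.{u}), (Z ⟶ Spec (CommRingCat.of k)) → Prop)
    (hiso : ∀ (k : Type u) [Field k] (Z Z' : Scheme.{u}) (e : Z ≅ Z') (g : Z' ⟶ Spec (CommRingCat.of k)),
      P k Z' g → P k Z (e.hom ≫ g))
    (hext : ∀ (k K : Type u) [Field k] [Field K] (i : k →+* K) (Z : Scheme.{u}) (g : Z ⟶ Spec (CommRingCat.of k)),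
      P k Z g ↔ P K (pullback g (Spec.map (CommRingCat.ofHom i))) (pullback.snd g (Spec.map (CommRingCat.ofHom i))))
    {X T X' T' : Scheme.{u}} (f : X ⟶ T) (h : T' ⟶ T) [Surjective h] (f' : X' ⟶ T') (h' : X' ⟶ X)
    (sq : IsPullback h' f' f h)
    (H : ∀ (k : Type u) [Field k] [IsAlgClosed k] (σ' : Spec (CommRingCat.of k) ⟶ T'),
        P k (pullback f' σ') (pullback.snd f' σ'))
    (k : Type u) [Field k] [IsAlgClosed k] (σ : Spec (CommRingCat.of k) ⟶ T) :
    P k (pullback f σ) (pullback.snd f σ) := by
  obtain ⟨Ω, _, _, τ, hτ⟩ := Groth.Agent.H52.FBase.Descend.exists_common_extension h k σ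
  let L := AlgebraicClosure Ω
  let i : k →+* L := (algebraMap Ω L).comp (algebraMap k Ω)
  let τ' : Spec (CommRingCat.of L) ⟶ T' := Spec.map (CommRingCat.ofHom (algebraMap Ω L)) ≫ τ
  have hσ : τ' ≫ h = Spec.map (CommRingCat.ofHom i) ≫ σ := by
    simp only [τ', i]
    rw [CommRingCat.ofHom_comp, Spec.map_comp, Category.assoc, Category.assoc, hτ]
  let e : pullback (pullback.snd f σ) (Spec.map (CommRingCat.ofHom i)) ≅ pullback f' τ' :=
    pullbackLeftPullbackSndIso f σ _ ≪≫ pullback.congrHom rfl hσ.symm ≪≫
      (pullbackLeftPullbackSndIso f h τ').symm ≪≫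
      asIso (pullback.map (pullback.snd f h) τ' f' τ' sq.isoPullback.inv (𝟙 _) (𝟙 _) (by simp) (by simp))
  have := hiso L _ _ e _ (H L τ')
  rw [hext k L i]
  convert this using 1
  simp only [e, Iso.trans_hom, Iso.symm_hom, Category.assoc, asIso_hom]
  rw [show pullback.map (pullback.snd f h) τ' f' τ' sq.isoPullback.inv (𝟙 _) (𝟙 _) _ _ ≫
      pullback.snd f' τ' = pullback.snd _ _ by rw [pullback.lift_snd, Category.comp_id],
    pullbackLeftPullbackSndIso_inv_snd_snd, congrHom_hom_snd]
  exact (pullbackLeftPullbackSndIso_hom_snd _ _ _).symm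

end Groth.Agent.S13628
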