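import Groth.Statements.S13629
import Groth.Agent.Lib.ExchangeFP29.Main
import Groth.Agent.Lib.IntTheory.BaseChange
import Groth.Agent.Lib.TensorMod.FPConv
import Groth.Agent.Lib.Cube.FamCx
import Groth.Agent.Lib.TensorMod.QCohInv
import Groth.Agent.Lib.PosLin.Volume

set_option autoImplicit false
universe u
open CategoryTheory CategoryTheory.Limits AlgebraicGeometry Opposite
open FGA

namespace Groth.Agent.S13629

/-- Let f : X → Y be a proper, flat morphism of schemes, locally of finite presentation, whose
scheme-theoretic fibres X_y all have Krull dimension at most 2, and let L be an invertible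
O_X-module with a tensor inverse M (M ⊗ L ≅ O_X). Then the self-intersection number (L_y · L_y) of
the restriction of L to the fibre X_y over κ(y), namely the alternating sum χ(O_{X_y}) − 2χ(M_y) +
χ(M_y ⊗ M_y) of Euler characteristics in degrees ≤ 2, is a locally constant function of y: every
point y₀ of Y has an open neighbourhood on which it equals its value at y₀. (The published statement
is the case where the fibres are integral normal Gorenstein surfaces and L is the relative dualizing
sheaf, so that the number is the self-intersection K² of the canonical class of the fibre; the fibre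
X_y is regarded as a scheme over Spec κ(y) through the second projection.) -/
theorem result
    {X Y : Scheme.{u}} (f : X ⟶ Y) [IsProper f] [Flat f] [LocallyOfFinitePresentation f]
    (hdim : ∀ y : Y, topologicalKrullDim ↥(f.fiber y) ≤ 2)
    (L M : X.Modules) (hL : PicF.IsInvertible L) (hM : ClSub.IsInverseOf M L) (y₀ : Y) :
    ∃ U : Y.Opens, y₀ ∈ U ∧ ∀ y : Y, y ∈ U →
      @FGA.intNum ↥(Y.residueField y) _ (f.fiber y) ⟨f.fiberToSpecResidueField y⟩ 2 2
            ![(Scheme.Modules.pullback (f.fiberι y)).obj M, (Scheme.Modules.pullback (f.fiberι y)).obj M]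
            (Coh.structureModule (f.fiber y)) =
        @FGA.intNum ↥(Y.residueField y₀) _ (f.fiber y₀) ⟨f.fiberToSpecResidueField y₀⟩ 2 2
            ![(Scheme.Modules.pullback (f.fiberι y₀)).obj M, (Scheme.Modules.pullback (f.fiberι y₀)).obj M]
            (Coh.structureModule (f.fiber y₀)) := by
  have hM' : PicF.IsInvertible M := by
    obtain ⟨e⟩ := hM
    exact Lib.TensorMod.Invertible.isInvertible_of_iso
      (Lib.PosLin.Volume.inverseIso hL e).symm
      (Lib.TensorMod.Invertible.isInvertible_dual hL)
  have hO := PicLoc.isInvertible_structureModule X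
  have hMM := Lib.TensorMod.Invertible.isInvertible_tensorMod hM' hM'
  have key : ∀ K : X.Modules, PicF.IsInvertible K → IsLocallyConstant fun y => PerfAux.eulerChar f K y :=
    fun K hK => by
      haveI := Lib.TensorMod.QCohInv.isQCoh_of_isInvertible hK
      exact Lib.ExchangeFP29.Main.isLocallyConstant_eulerChar f K
        (Lib.TensorMod.FPConv.isFP_of_isFinLocFree (Lib.TensorMod.LocFree.of_rank
          (Lib.TensorMod.LocFree.of_isInvertible hK)))
        (Lib.Cube.FamCx.isFlatOver_of_isInvertible f hK)
  let Φ : Y → ℤ := fun y => PerfAux.eulerChar f (Coh.structureModule X) y -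
    PerfAux.eulerChar f M y - (PerfAux.eulerChar f M y - PerfAux.eulerChar f (CohB1.tensorMod M M) y)
  have hΦ : IsLocallyConstant Φ :=
    ((key _ hO).sub (key _ hM')).sub ((key _ hM').sub (key _ hMM))
  have hval : ∀ y : Y, @FGA.intNum ↥(Y.residueField y) _ (f.fiber y) ⟨f.fiberToSpecResidueField y⟩ 2 2
      ![(Scheme.Modules.pullback (f.fiberι y)).obj M, (Scheme.Modules.pullback (f.fiberι y)).obj M]
      (Coh.structureModule (f.fiber y)) = Φ y := by
    intro y
    letI : (f.fiber y).Over (Spec (CommRingCat.of (Y.residueField y))) := ⟨f.fiberToSpecResidueField y⟩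
    haveI : IsProper (f.fiber y ↘ Spec (CommRingCat.of (Y.residueField y))) :=
      show IsProper (f.fiberToSpecResidueField y) from
        MorphismProperty.of_isPullback (IsPullback.of_hasPullback f (Y.fromSpecResidueField y)) ‹_›
    haveI := Lib.Curves.GlobalSections.isNoetherian_of_proper (Y.residueField y) (f.fiber y)
    have hd : topologicalKrullDim ↥(f.fiber y) ≤ ((2 : ℕ) : WithBot ℕ∞) := hdim y
    have he : ∀ K : X.Modules, ∀ K' : (f.fiber y).Modules,
        ((Scheme.Modules.pullback (f.fiberι y)).obj K ≅ K') →
        FGA.eulerCharLE (Y.residueField y) (f.fiber y) K' 2 = PerfAux.eulerChar f K y := fun K K' e => by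
      rw [← Lib.Snapper.Chi.eulerCharLE_of_iso e, ← Lib.Snapper.Chi.euler_eq_eulerCharLE hd]
      rfl
    rw [Lib.Snapper.IntNum.intNum_eq_sym]
    simp only [List.ofFn_succ, List.ofFn_zero, Matrix.cons_val_zero, Matrix.cons_val_succ,
      Lib.Snapper.Vanish.sym_cons]
    show FGA.eulerCharLE _ _ _ 2 - FGA.eulerCharLE _ _ _ 2 -
      (FGA.eulerCharLE _ _ _ 2 - FGA.eulerCharLE _ _ _ 2) = _
    let O' := PicLoc.pullbackStructureIso (f.fiberι y)
    let eM := (Lib.TensorMod.Basic.rightUnit ((Scheme.Modules.pullback (f.fiberι y)).obj M)).symm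
    rw [he _ _ O', he _ _ eM,
      he (CohB1.tensorMod M M) _ (Lib.TensorMod.Pullback.pullbackTensorIso _ _ _ ≪≫
        Lib.TensorMod.Basic.tensorIso (Iso.refl _) eM)]
  obtain ⟨U, hU, hy₀, hc⟩ := hΦ.exists_open y₀
  exact ⟨⟨U, hU⟩, hy₀, fun y hy => by rw [hval, hval]; exact hc y hy⟩

end Groth.Agent.S13629
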