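import Groth.Statements.S13630
import Groth.Agent.Lib.DescAlg.Descends
import Groth.Agent.Lib.CurvField.Descend
import Groth.Agent.H56.DimBaseChange
import Groth.Agent.Lib.DelPezzoDesc.Prelim
import Groth.Agent.Lib.KVec.ExtRank
import Groth.Agent.Lib.FundLocal.ExtPowExists
import Groth.Agent.Lib.TensorMod.Invertible
import Groth.Agent.Lib.KVec.ExtPowPull
import Groth.Agent.H52.FDesc.AmpleDescent
import Groth.Agent.Lib.Kaehler.BaseChange
import Groth.Agent.Lib.Ample.Pullback

set_option autoImplicit false
set_option linter.style.haveILetI false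
universe u
open CategoryTheory CategoryTheory.Limits AlgebraicGeometry Opposite
open FBase

namespace Groth.Agent.S13630
open Groth.Agent

/-- Say that a morphism of schemes p : S → T is a family of del Pezzo surfaces when p is proper and
smooth (hence of finite presentation) and for every algebraically closed field k and every morphism
Spec k → T the fibre S_k = S ×_T Spec k is an integral scheme of Krull dimension 2 whose
anti-canonical sheaf is ample — there are a second exterior power ω of the sheaf of differentials of
S_k → Spec k and a tensor inverse D of ω with D ample. This property descends along flat,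
surjective, quasi-compact morphisms: if T' → T is such a morphism and the base change S ×_T T' → T'
is a family of del Pezzo surfaces, then so is p. (Stated for a single quasi-compact faithfully flat
base change; together with Zariski-locality on T this is locality for the fpqc topology. Fields are
taken in the universe of the schemes. The published statement is that families of del Pezzo surfaces
form a stack for the étale topology; this row is the locality of the family condition that its proof
establishes.) -/
theorem result :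
    MorphismProperty.DescendsAlong
      (fun ⦃S T : Scheme.{u}⦄ (p : S ⟶ T) =>
        IsProper p ∧ Smooth p ∧
          ∀ (k : Type u) [Field k] [IsAlgClosed k] (σ : Spec (CommRingCat.of k) ⟶ T),
            IsIntegral (pullback p σ) ∧ topologicalKrullDim ↥(pullback p σ) = 2 ∧
              ∃ ω D : (pullback p σ).Modules, Canon.IsTopDiff (pullback.snd p σ) 2 ω ∧
                ClSub.IsInverseOf D ω ∧ CohB1.IsAmple D)
      (@Surjective ⊓ @Flat ⊓ @QuasiCompact : MorphismProperty Scheme.{u}) := by
  refine ⟨fun {A T' S T fst snd f p} sq hQ hA => ?_⟩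
  obtain ⟨hAp, hAs, hfib⟩ := hA
  obtain ⟨⟨hsurj, hflat⟩, hqc⟩ := hQ
  haveI hp : IsProper p := MorphismProperty.of_isPullback_of_descendsAlong (P := @IsProper)
    (Q := (@Surjective ⊓ @Flat ⊓ @QuasiCompact : MorphismProperty Scheme.{u})) sq ⟨⟨hsurj, hflat⟩, hqc⟩ hAp
  haveI hs : Smooth p := MorphismProperty.of_isPullback_of_descendsAlong (P := @Smooth)
    (Q := (@Surjective ⊓ @Flat ⊓ @QuasiCompact : MorphismProperty Scheme.{u})) sq ⟨⟨hsurj, hflat⟩, hqc⟩ hAs
  refine ⟨hp, hs, fun k _ _ σ => ?_⟩
  -- a common algebraically closed point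
  obtain ⟨t', ht'⟩ := f.surjective (σ (IsLocalRing.closedPoint k))
  obtain ⟨z, hz₁, hz₂⟩ := Scheme.Pullback.exists_preimage_pullback (f := σ) (g := f) (IsLocalRing.closedPoint k) t' ht'.symm
  let P := pullback σ f
  let K := AlgebraicClosure (P.residueField z)
  let c : Spec (CommRingCat.of K) ⟶ P :=
    Spec.map (CommRingCat.ofHom (algebraMap (P.residueField z) K)) ≫ P.fromSpecResidueField z
  let b : Spec (CommRingCat.of K) ⟶ Spec (CommRingCat.of k) := c ≫ pullback.fst σ f
  let τ : Spec (CommRingCat.of K) ⟶ T' := c ≫ pullback.snd σ f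
  have hbτ : τ ≫ f = b ≫ σ := by simp [b, τ, pullback.condition]
  haveI : Surjective b := ⟨fun _ => ⟨IsLocalRing.closedPoint K, Subsingleton.elim _ _⟩⟩
  haveI : Flat b := by
    obtain ⟨φ, hφ⟩ := Spec.map_surjective b
    rw [← hφ, HasRingHomProperty.Spec_iff (P := @Flat)]
    letI := φ.hom.toAlgebra
    exact RingHom.flat_algebraMap_iff.2 (inferInstance : Module.Flat k K)
  obtain ⟨hint, hdim, ωK, DK, hωK, hDK, hamp⟩ := hfib K τ
  -- the square over the two field points
  let sK := pullback.snd fst τ
  let sk := pullback.snd p σ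
  let π : pullback fst τ ⟶ pullback p σ :=
    pullback.lift (pullback.fst fst τ ≫ snd) (sK ≫ b)
      (by simp only [sK, Category.assoc, ← sq.w, ← hbτ, pullback.condition_assoc])
  have hπ : π ≫ sk = sK ≫ b := pullback.lift_snd _ _ _
  have H : IsPullback π sK sk b := by
    refine IsPullback.of_right ?_ hπ (IsPullback.of_hasPullback p σ)
    rw [show π ≫ pullback.fst p σ = pullback.fst fst τ ≫ snd from pullback.lift_fst _ _ _, ← hbτ]
    exact (IsPullback.of_hasPullback fst τ).paste_horiz sq.flip
  haveI : Surjective π := MorphismProperty.of_isPullback (P := @Surjective) H.flip inferInstance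
  haveI : Flat π := MorphismProperty.of_isPullback (P := @Flat) H.flip inferInstance
  haveI : IsProper sk := inferInstanceAs (IsProper (pullback.snd p σ))
  haveI : Smooth sk := MorphismProperty.pullback_snd (P := @Smooth) p σ hs
  haveI : IsProper sK := MorphismProperty.pullback_snd (P := @IsProper) fst τ hAp
  haveI := hint
  haveI : IsReduced (pullback p σ) := Lib.CurvField.isReduced_of_flat_surjective π
  haveI : IrreducibleSpace ↥(pullback p σ) :=
    { isPreirreducible_univ := by
        rw [← π.surjective.range_eq, ← Set.image_univ]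
        exact (PreirreducibleSpace.isPreirreducible_univ).image _ π.continuous.continuousOn
      toNonempty := Nonempty.map π inferInstance }
  haveI : IsIntegral (pullback p σ) := isIntegral_of_irreducibleSpace_of_isReduced _
  have hdimk : topologicalKrullDim ↥(pullback p σ) = 2 :=
    (H56.DimBaseChange.topologicalKrullDim_baseChange b sk sK π H).symm.trans hdim
  refine ⟨inferInstance, hdimk, ?_⟩
  have hΩ := Lib.DelPezzoDesc.rank_omega_of_dim sk 2 (by rw [hdimk]; norm_num)
  haveI := Lib.Modules.AffineSections.isQCoh_of_isFinLocFree (Lib.TensorMod.LocFree.of_rank hΩ)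
  obtain ⟨ω, hω⟩ := Lib.FundLocal.ExtPowExists.exists_isExtPow (Omega.sheaf sk) 2
  have hωi : PicF.IsInvertible ω :=
    Lib.TensorMod.LocFree.isInvertible_of_rank_one (show FlatMod.IsFinLocFreeOfRank 1 ω from Nat.choose_self 2 ▸ Lib.KVec.ExtRank.rank_extPow hΩ hω)
  obtain ⟨D, hDi, ⟨eD⟩⟩ := Lib.TensorMod.Invertible.exists_inverse hωi
  let eD' := Lib.TensorMod.Basic.comm D ω ≪≫ eD
  refine ⟨ω, D, hω, ⟨eD'⟩, ?_⟩
  -- compare with the given data over `K`
  obtain ⟨d, hd, -⟩ := Lib.Kaehler.Basic.existsUnique_diffCompat (h := π) (b := b) H.w.symm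
    (Lib.Kaehler.DOmega.isUniversal_dOmega sk) (OmegaSh.dOmega sK)
  haveI := Lib.Kaehler.BaseChange.isIso_of_isPullback H (Lib.Kaehler.DOmega.isUniversal_dOmega sk)
    (Lib.Kaehler.DOmega.isUniversal_dOmega sK) d hd
  obtain ⟨eω⟩ := Lib.KVec.ExtPowPull.nonempty_iso_pullback π (Lib.TensorMod.LocFree.of_rank hΩ) hω
    (Lib.DelPezzoDesc.isExtPow_congr (asIso d).symm hωK)
  obtain ⟨eK⟩ := hDK
  let i : CohB1.tensorMod ((Scheme.Modules.pullback π).obj D) ((Scheme.Modules.pullback π).obj ω) ≅
      CohB1.tensorMod DK ((Scheme.Modules.pullback π).obj ω) :=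
    (Lib.TensorMod.Pullback.pullbackTensorIso π D ω).symm ≪≫ (Scheme.Modules.pullback π).mapIso eD' ≪≫
      PicLoc.pullbackStructureIso π ≪≫ eK.symm ≪≫ Lib.TensorMod.Basic.tensorIso (Iso.refl DK) eω.symm
  let j := Lib.TensorMod.Invertible.cancelRight (PicLoc.isInvertible_pullback π hωi) i
  have h1 : CohB1.IsAmple ((Scheme.Modules.pullback π).obj D) := Lib.Ample.Pow.isAmple_of_iso j.symm hamp
  have h2 : CohB1.IsAmple ((Scheme.Modules.pullback (pullback.fst sk b)).obj D) := by
    refine Lib.Ample.Pow.isAmple_of_iso
      ((Scheme.Modules.pullbackComp H.isoPullback.inv π).app D ≪≫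
        (Scheme.Modules.pullbackCongr H.isoPullback_inv_fst).app D) ?_
    exact Lib.Ample.Pullback.isAmple_pullback _ (Lib.Ample.Pullback.isQuasiAffine_of_isAffineHom _) h1
  exact H52.FDesc.AmpleDescent.isAmple_descent sk b D hDi h2

end Groth.Agent.S13630
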