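import Groth.Statements.S13631
import Mathlib

set_option autoImplicit false
universe u v w
open CAlg

namespace Groth.Agent.S13631

/-- Let k be a field, R an integral domain which is a k-algebra of infinite dimension over k, M a finite
free R-module, σ a ring automorphism of R mapping the image of k onto itself, and φ : M → M a
σ-semilinear map. If the cokernel of φ is finite-dimensional over k, in the sense that some finitely
generated k-subspace N of M satisfies M = N + φ(M), then φ is injective. -/
theorem result
    {k : Type u} {R : Type v} {M : Type w} [Field k] [CommRing R] [IsDomain R] [Algebra k R]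
    (hR : ¬ Module.Finite k R)
    [AddCommGroup M] [Module R M] [Module k M] [IsScalarTower k R M]
    [Module.Finite R M] [Module.Free R M]
    (σ : R ≃+* R)
    (hσ : ∀ x : k, ∃ y : k, σ (algebraMap k R x) = algebraMap k R y)
    (hσ' : ∀ y : k, ∃ x : k, σ (algebraMap k R x) = algebraMap k R y)
    (φ : M →ₛₗ[(σ : R →+* R)] M)
    (hcoker : ∃ N : Submodule k M, N.FG ∧ ∀ m : M, ∃ n ∈ N, ∃ m' : M, m = n + φ m') :
    Function.Injective φ := by
  classical
  obtain ⟨N, hN, hNφ⟩ := hcoker
  let b := Module.Free.chooseBasis R M
  let e := b.equivFun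
  let u := Fintype.linearCombination R (fun i => e (φ (b i)))
  haveI : Module.Finite k N := Module.Finite.iff_fg.2 hN
  have hm : ∀ m', φ m' = ∑ i, σ (b.repr m' i) • φ (b i) := fun m' => by
    conv_lhs => rw [← b.sum_repr m', map_sum]
    simp only [LinearMap.map_smulₛₗ]
    rfl
  have hrange : ∀ m', e (φ m') ∈ LinearMap.range u := fun m' => by
    refine ⟨fun i => σ (b.repr m' i), ?_⟩
    rw [hm m', Fintype.linearCombination_apply, map_sum]
    simp only [map_smul]
  -- every element is torsion modulo the image
  have htor : ∀ j, ∃ r : R, r ≠ 0 ∧ ∃ w, u w = r • e (b j) := by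
    intro j
    let S : Submodule k M := ((LinearMap.range u).comap e.toLinearMap).restrictScalars k
    have hsurj : Function.Surjective (S.mkQ ∘ₗ N.subtype) := fun q => by
      obtain ⟨m, rfl⟩ := S.mkQ_surjective q
      obtain ⟨n, hn, m', rfl⟩ := hNφ m
      refine ⟨⟨n, hn⟩, ?_⟩
      show S.mkQ n = S.mkQ (n + φ m')
      rw [map_add, show S.mkQ (φ m') = 0 from (Submodule.Quotient.mk_eq_zero _).2 (hrange m'), add_zero]
    haveI : Module.Finite k (M ⧸ S) := Module.Finite.of_surjective _ hsurj
    let g : R →ₗ[k] M ⧸ S := S.mkQ ∘ₗ (LinearMap.toSpanSingleton R M (b j)).restrictScalars k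
    have : ¬ Function.Injective g := fun h => hR (Module.Finite.of_injective g h)
    rw [injective_iff_map_eq_zero] at this
    push Not at this
    obtain ⟨r, hr, hr0⟩ := this
    obtain ⟨w, hw⟩ : r • b j ∈ (LinearMap.range u).comap e.toLinearMap := (Submodule.Quotient.mk_eq_zero _).1 hr
    exact ⟨r, hr0, w, hw.trans (map_smul e r (b j))⟩
  choose r hr0 w hw using htor
  let A := LinearMap.toMatrix' u
  let W := Matrix.of (fun i j => w j i)
  have hAW : A * W = Matrix.diagonal r := by
    ext i j
    have h1 := congrFun (hw j) i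
    rw [← LinearMap.toMatrix'_mulVec] at h1
    rw [Matrix.mul_apply]
    refine Eq.trans ?_ (h1.trans ?_)
    · rfl
    · by_cases hij : i = j
      · subst hij; simp [e, Matrix.diagonal, Module.Basis.equivFun_apply]
      · simp [e, Matrix.diagonal, Module.Basis.equivFun_apply, hij, Ne.symm hij]
  have hdet : A.det ≠ 0 := fun h0 => by
    have h1 := congrArg Matrix.det hAW
    rw [Matrix.det_mul, h0, zero_mul, Matrix.det_diagonal] at h1
    exact Finset.prod_ne_zero_iff.2 (fun j _ => hr0 j) h1.symm
  rw [injective_iff_map_eq_zero]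
  intro m' hm'
  have h0 : u (fun i => σ (b.repr m' i)) = 0 := by
    rw [Fintype.linearCombination_apply]
    simp only [← map_smul]
    rw [← map_sum, ← hm m', hm', map_zero]
  rw [← LinearMap.toMatrix'_mulVec] at h0
  have h1 : (fun i => σ (b.repr m' i)) = 0 := Matrix.eq_zero_of_mulVec_eq_zero hdet h0
  apply b.repr.injective
  ext i
  simpa using congrFun h1 i

end Groth.Agent.S13631
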