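import Groth.Statements.S13632
import Mathlib.RingTheory.Finiteness.ModuleFinitePresentation
import Mathlib.RingTheory.LocalRing.Module
import Mathlib.RingTheory.Support
import Mathlib.RingTheory.LocalRing.ResidueField.Ideal
import Mathlib.RingTheory.FiniteStability
import Mathlib.RingTheory.TensorProduct.IsBaseChangeRightExact
import Mathlib.LinearAlgebra.Dimension.Constructions

set_option autoImplicit false
universe u
open TensorProduct
open CAlg

namespace Groth.Agent.S13632

set_option maxHeartbeats 1600000 in
open TensorProduct in
theorem injective_of_local {R A B : Type u} [CommRing R] [IsLocalRing R] [CommRing A] [CommRing B]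
    [Algebra R A] [Algebra R B] [Module.Free R A] [Module.Finite R A] [Algebra.FiniteType R B]
    (f : B →ₐ[R] A) (hf : Function.Surjective f) (q : Ideal B) [q.IsPrime]
    (hq : IsLocalRing.maximalIdeal R ≤ q.comap (algebraMap R B))
    (hinj : Function.Injective
      (LinearMap.lTensor (IsLocalRing.maximalIdeal R).ResidueField f.toLinearMap)) :
    ∀ x, f x = 0 → ∃ u, u ∉ q ∧ u * x = 0 := by
  let κ := (IsLocalRing.maximalIdeal R).ResidueField
  haveI : Module.FinitePresentation R A := Module.finitePresentation_of_projective R A
  haveI : Algebra.FinitePresentation R A := inferInstance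
  let K : Ideal B := RingHom.ker f.toRingHom
  have hfg : K.FG := by
    obtain ⟨n, g, hg⟩ := Algebra.FiniteType.iff_quotient_mvPolynomial''.mp ‹Algebra.FiniteType R B›
    have h1 := Algebra.FinitePresentation.ker_fg_of_mvPolynomial (f.comp g) (hf.comp hg)
    have h2 := h1.map g.toRingHom
    have hcomap : RingHom.ker (f.comp g).toRingHom = K.comap g.toRingHom := by
      ext a
      simp [K, RingHom.mem_ker]
    rw [hcomap, Ideal.map_comap_of_surjective g.toRingHom hg K] at h2
    exact h2
  haveI : Module.Finite B K := Module.Finite.iff_fg.mpr hfg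
  obtain ⟨s, hs⟩ := Module.projective_lifting_property f.toLinearMap LinearMap.id hf
  have hs' : ∀ a, f (s a) = a := fun a => DFunLike.congr_fun hs a
  let incl : K →ₗ[R] B := K.subtype.restrictScalars R
  let r : B →ₗ[R] K :=
    { toFun := fun b => ⟨b - s (f b), show f (b - s (f b)) = 0 by rw [map_sub, hs', sub_self]⟩
      map_add' := fun a b => Subtype.ext (by simp; abel)
      map_smul' := fun c a => Subtype.ext (by simp [smul_sub]) }
  have hr : r.comp incl = LinearMap.id := LinearMap.ext fun k => Subtype.ext (by
    have hk : f (k : B) = 0 := k.2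
    simp [r, incl, hk])
  have hzero : ∀ z : κ ⊗[R] K, z = 0 := by
    intro z
    have hi : Function.Injective (LinearMap.lTensor κ incl) :=
      Function.LeftInverse.injective (g := LinearMap.lTensor κ r) fun z => by
        rw [← LinearMap.comp_apply, ← LinearMap.lTensor_comp, hr, LinearMap.lTensor_id]; rfl
    refine hi ((hinj ?_).trans (map_zero _).symm)
    rw [← LinearMap.comp_apply, ← LinearMap.lTensor_comp, map_zero,
      show f.toLinearMap.comp incl = 0 from LinearMap.ext fun k => k.2, LinearMap.lTensor_zero]
    rfl
  haveI : Subsingleton (κ ⊗[R] K) := ⟨fun a b => (hzero a).trans (hzero b).symm⟩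
  have hsupp : (⟨q, inferInstance⟩ : PrimeSpectrum B) ∉ Module.support B K := by
    intro h
    rw [Module.mem_support_iff_nontrivial_residueField_tensorProduct] at h
    refine not_subsingleton_iff_nontrivial.mpr h ?_
    have hqm : IsLocalRing.maximalIdeal R = q.comap (algebraMap R B) :=
      (IsLocalRing.maximalIdeal.isMaximal R).eq_of_le (Ideal.IsPrime.comap _).ne_top hq
    letI : Algebra κ q.ResidueField :=
      (Ideal.ResidueField.map (IsLocalRing.maximalIdeal R) q (algebraMap R B) hqm).toAlgebra
    haveI : IsScalarTower R κ q.ResidueField := IsScalarTower.of_algebraMap_eq fun x => by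
      rw [RingHom.algebraMap_toAlgebra]
      erw [Ideal.ResidueField.map_algebraMap]
      rfl
    haveI : Subsingleton (q.ResidueField ⊗[R] K) :=
      (TensorProduct.AlgebraTensorModule.cancelBaseChange R κ κ q.ResidueField K).symm.toEquiv.subsingleton
    refine ⟨fun a b => ?_⟩
    have hsurj : ∀ z : q.ResidueField ⊗[B] K, z = 0 := fun z => by
      induction z using TensorProduct.induction_on with
      | zero => rfl
      | add x y hx hy => rw [hx, hy, add_zero]
      | tmul c k =>
        have h0 : c ⊗ₜ[R] k = 0 := Subsingleton.elim _ _
        have := congrArg (TensorProduct.lift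
          ((TensorProduct.mk B q.ResidueField K).restrictScalars₁₂ R R)) h0
        simpa using this
    exact (hsurj a).trans (hsurj b).symm
  rw [Module.notMem_support_iff'] at hsupp
  intro x hx
  obtain ⟨u, hu, hux⟩ := hsupp ⟨x, hx⟩
  exact ⟨u, hu, congrArg Subtype.val hux⟩

open TensorProduct in
theorem bijective_residue {R A B : Type u} [CommRing R] [CommRing A] [CommRing B] [Algebra R A]
    [Algebra R B] [Module.Finite R A] (f : B →ₐ[R] A) (hf : Function.Surjective f) (κ : Type u)
    [Field κ] [Algebra R κ]
    (hrank : Module.rank κ (κ ⊗[R] B) = Module.rank κ (κ ⊗[R] A)) :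
    Function.Injective (LinearMap.lTensor κ f.toLinearMap) := by
  let φ := f.toLinearMap.baseChange κ
  have hsurj : Function.Surjective φ := LinearMap.lTensor_surjective κ hf
  haveI : FiniteDimensional κ (κ ⊗[R] B) :=
    Module.rank_lt_aleph0_iff.mp (hrank ▸ Module.rank_lt_aleph0 κ (κ ⊗[R] A))
  exact (LinearMap.injective_iff_surjective_of_finrank_eq_finrank
    (congrArg Cardinal.toNat hrank)).mpr hsurj

/-- Let S = Spec R, X = Spec A finite and flat over S, Y = Spec B of finite type over S, and φ : X → Y
an S-morphism given by f : B → A. If for every point s of S the fibres X_s and Y_s have the same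
order (the κ(s)-dimension of their rings of global sections κ(s) ⊗ A and κ(s) ⊗ B; equivalently at
every geometric point) and φ is an isomorphism over every closed point of S (κ(m) ⊗ f bijective for
every maximal ideal m), then φ is an isomorphism, i.e. f is bijective. (The published statement
allows an arbitrary base scheme S and Y separated of finite type over S; this row is the case of an
affine base with X and Y affine, the case its proof treats directly. Over a base with no closed
points the general statement fails: the hypothesis at closed points is then empty.) -/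
theorem result
    {R A B : Type u} [CommRing R] [CommRing A] [CommRing B] [Algebra R A] [Algebra R B]
    [Module.Finite R A] [Module.Flat R A] [Algebra.FiniteType R B]
    (f : B →ₐ[R] A)
    (hrank : ∀ p : PrimeSpectrum R,
      Module.rank p.asIdeal.ResidueField (p.asIdeal.ResidueField ⊗[R] B) =
        Module.rank p.asIdeal.ResidueField (p.asIdeal.ResidueField ⊗[R] A))
    (hmax : ∀ (m : Ideal R) [m.IsMaximal],
      Function.Bijective (LinearMap.lTensor m.ResidueField f.toLinearMap)) :
    Function.Bijective f := by
  classical
  have hsurj : Function.Surjective f := by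
    rw [← AlgHom.coe_toLinearMap, ← LinearMap.range_eq_top]
    have hsub : Subsingleton (A ⧸ LinearMap.range f.toLinearMap) := by
      rw [← Module.support_eq_empty_iff (R := R), Set.eq_empty_iff_forall_notMem]
      intro p hp
      obtain ⟨m, hm, hpm⟩ := Ideal.exists_le_maximal p.asIdeal p.2.ne_top
      have hm' : (⟨m, hm.isPrime⟩ : PrimeSpectrum R) ∈
          Module.support R (A ⧸ LinearMap.range f.toLinearMap) := by
        rw [Module.mem_support_iff_of_finite] at hp ⊢
        exact hp.trans hpm
      rw [Module.mem_support_iff_nontrivial_residueField_tensorProduct] at hm'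
      refine not_subsingleton_iff_nontrivial.mpr hm' ⟨fun a b => ?_⟩
      suffices h : ∀ z : m.ResidueField ⊗[R] (A ⧸ LinearMap.range f.toLinearMap), z = 0 from
        (h a).trans (h b).symm
      intro z
      obtain ⟨w, rfl⟩ := LinearMap.lTensor_surjective m.ResidueField (Submodule.mkQ_surjective _) z
      obtain ⟨v, rfl⟩ := (hmax m).2 w
      rw [← LinearMap.comp_apply, ← LinearMap.lTensor_comp, LinearMap.range_mkQ_comp,
        LinearMap.lTensor_zero]
      rfl
    exact Submodule.Quotient.subsingleton_iff.mp hsub
  refine ⟨(injective_iff_map_eq_zero f).mpr fun x hx => ?_, hsurj⟩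
  by_contra hne
  obtain ⟨q, hq, hxq⟩ := Ideal.exists_le_maximal ((⊥ : Submodule B B).colon {x}) (fun h => hne (by
    have h1 := (Ideal.eq_top_iff_one _).mp h
    rw [Submodule.mem_colon_singleton, one_smul, Submodule.mem_bot] at h1
    exact h1))
  let s := q.comap (algebraMap R B)
  let L := Localization.AtPrime s
  let f' : (L ⊗[R] B) →ₐ[L] (L ⊗[R] A) := Algebra.TensorProduct.map (AlgHom.id L L) f
  haveI : Module.Free L (L ⊗[R] A) := Module.free_of_flat_of_isLocalRing
  haveI : Algebra.FiniteType L (L ⊗[R] B) := inferInstance
  let κ := (IsLocalRing.maximalIdeal L).ResidueField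
  have hf' : Function.Surjective f' := LinearMap.lTensor_surjective L hsurj
  haveI hsp : s.IsPrime := Ideal.IsPrime.comap _
  let g : L →ₐ[R] q.ResidueField :=
    ((IsScalarTower.toAlgHom R (Localization.AtPrime q) q.ResidueField).comp
      (⟨Localization.localRingHom s q (algebraMap R B) rfl, fun r => by
          change Localization.localRingHom s q (algebraMap R B) rfl (algebraMap R L r) = _
          rw [Localization.localRingHom_to_map]
          exact (IsScalarTower.algebraMap_apply R B _ r).symm⟩ : L →ₐ[R] Localization.AtPrime q))
  let q' : Ideal (L ⊗[R] B) := RingHom.ker ((Algebra.TensorProduct.productMap g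
    (IsScalarTower.toAlgHom R B q.ResidueField)).toRingHom)
  haveI : q'.IsPrime := RingHom.ker_isPrime _
  have hinj : Function.Injective (LinearMap.lTensor κ f'.toLinearMap) := by
    refine bijective_residue f' hf' κ ?_
    have hp := hrank ⟨s, hsp⟩
    letI : Algebra s.ResidueField κ :=
      (Ideal.ResidueField.map s (IsLocalRing.maximalIdeal L) (algebraMap R L)
        (IsLocalization.AtPrime.comap_maximalIdeal L s).symm).toAlgebra
    haveI : IsScalarTower R s.ResidueField κ := IsScalarTower.of_algebraMap_eq fun r => by
      rw [RingHom.algebraMap_toAlgebra]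
      erw [Ideal.ResidueField.map_algebraMap]
      rfl
    rw [(TensorProduct.AlgebraTensorModule.cancelBaseChange R L κ κ B).rank_eq,
      (TensorProduct.AlgebraTensorModule.cancelBaseChange R L κ κ A).rank_eq,
      ← (TensorProduct.AlgebraTensorModule.cancelBaseChange R s.ResidueField κ κ B).rank_eq,
      ← (TensorProduct.AlgebraTensorModule.cancelBaseChange R s.ResidueField κ κ A).rank_eq,
      Module.rank_baseChange (R := κ) (S := s.ResidueField),
      Module.rank_baseChange (R := κ) (S := s.ResidueField)]
    exact congrArg _ hp
  have hle : IsLocalRing.maximalIdeal L ≤ q'.comap (algebraMap L (L ⊗[R] B)) := by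
    intro z hz
    rw [Ideal.mem_comap, RingHom.mem_ker]
    change Algebra.TensorProduct.productMap g _ (z ⊗ₜ[R] (1 : B)) = 0
    rw [Algebra.TensorProduct.productMap_apply_tmul, map_one, mul_one]
    change algebraMap (Localization.AtPrime q) q.ResidueField
      (Localization.localRingHom s q (algebraMap R B) rfl z) = 0
    rw [IsLocalRing.ResidueField.algebraMap_eq, IsLocalRing.residue_eq_zero_iff]
    exact map_nonunit (Localization.localRingHom s q (algebraMap R B) rfl) z hz
  obtain ⟨u, hu, hux⟩ := injective_of_local f' hf' q' hle hinj ((1 : L) ⊗ₜ[R] x) (by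
    change (1 : L) ⊗ₜ[R] f x = 0
    rw [hx, TensorProduct.tmul_zero])
  obtain ⟨⟨b, t⟩, ht⟩ := IsLocalizedModule.surj s.primeCompl (TensorProduct.mk R L B 1) u
  rw [TensorProduct.mk_apply] at ht
  have h0 : (1 : L) ⊗ₜ[R] (b * x) = 0 := by
    rw [← one_mul (1 : L), ← Algebra.TensorProduct.tmul_mul_tmul, ← ht, smul_mul_assoc, hux,
      smul_zero]
  obtain ⟨t', ht'⟩ := (IsLocalizedModule.eq_zero_iff s.primeCompl (TensorProduct.mk R L B 1)).mp h0
  have hmem : algebraMap R B t' * b ∈ q := hxq (by
    rw [Submodule.mem_colon_singleton, Submodule.mem_bot, smul_eq_mul, mul_assoc]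
    exact (Algebra.smul_def _ _).symm.trans ht')
  rcases hq.isPrime.mem_or_mem hmem with h | h
  · exact t'.2 h
  · refine hu (RingHom.mem_ker.mpr ?_)
    have hb : Algebra.TensorProduct.productMap g (IsScalarTower.toAlgHom R B q.ResidueField)
        ((1 : L) ⊗ₜ[R] b) = 0 := by
      rw [Algebra.TensorProduct.productMap_apply_tmul, map_one, one_mul]
      exact Ideal.algebraMap_residueField_eq_zero.mpr h
    rw [← ht] at hb
    simp only [Submonoid.smul_def, map_smul, Algebra.smul_def] at hb
    refine (mul_eq_zero.mp hb).resolve_left fun h => t.2 ?_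
    rw [IsScalarTower.algebraMap_apply R B q.ResidueField, Ideal.algebraMap_residueField_eq_zero] at h
    exact h

end Groth.Agent.S13632
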