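import Groth.Statements.S13633
import Groth.Agent.Lib.GrpQ.MonoClosed
import Groth.Agent.Lib.GrpQ.Kernel
import Groth.Agent.Lib.GrpQ.InfAgree
import Groth.Agent.Lib.GrpSch.GeomPoints
import Groth.Agent.Lib.ActSep.FlatTransl
import Groth.Agent.Lib.Flat55.CurveNormalizationBC
import Groth.Agent.S0353
import Groth.Agent.H56.FlatMono

set_option autoImplicit false
universe u
open CategoryTheory CategoryTheory.Limits MonoidalCategory CartesianMonoidalCategory MonObj AlgebraicGeometry
open GrpSch

namespace Groth.Agent.S13633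

open Groth.Agent.Lib

/-- An affine algebraic group with a single geometric point is finite. -/
theorem isFinite_of_geomPoint_subsingleton {k : Type u} [Field k] (K : Type u) [Field K] [Algebra k K] [IsAlgClosed K]
    (N : Over (Spec (CommRingCat.of k))) [LocallyOfFiniteType N.hom] [IsAffine N.left]
    (h : ∀ x y : GrpSch.geomPoint k K ⟶ N, x = y) : IsFinite N.hom := by
  have : JacobsonSpace N.left := LocallyOfFiniteType.jacobsonSpace N.hom
  have hsub : Subsingleton N.left := by
    refine ⟨fun a b => ?_⟩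
    have key : ∀ c ∈ closedPoints N.left, ∀ d ∈ closedPoints N.left, c = d := fun c hc d hd => by
      obtain ⟨x, hx⟩ := GrpSch.exists_geomPoint_apply_eq (K := K) c hc
      obtain ⟨y, hy⟩ := GrpSch.exists_geomPoint_apply_eq (K := K) d hd
      rw [← hx (IsLocalRing.closedPoint K), ← hy (IsLocalRing.closedPoint K), h x y]
    obtain ⟨c, -, hc⟩ := nonempty_inter_closedPoints (X := N.left) ⟨a, Set.mem_univ a⟩ isClosed_univ.isLocallyClosed
    have : ∀ z : N.left, z = c := fun z => by
      by_contra hz
      obtain ⟨d, hd, hdc⟩ := nonempty_inter_closedPoints (Z := ({c} : Set N.left)ᶜ) ⟨z, hz⟩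
        ((mem_closedPoints_iff).1 hc).isOpen_compl.isLocallyClosed
      exact hd (key d hdc c hc)
    rw [this a, this b]
  have : LocallyQuasiFinite N.hom := LocallyQuasiFinite.of_injective (Function.injective_of_subsingleton _)
  exact IsFinite.of_locallyQuasiFinite N.hom

/-- The image of an element of a prime power contained in all powers of the maximal ideal vanishes. -/
theorem exists_mul_eq_zero {C : Type u} [CommRing C] [IsNoetherianRing C] (m : Ideal C) [m.IsPrime] {c : C}
    (h : ∀ n : ℕ, c ∈ m ^ n) : algebraMap C (Localization.AtPrime m) c = 0 := by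
  have hK := Ideal.iInf_pow_eq_bot_of_isLocalRing (R := Localization.AtPrime m)
    (IsLocalRing.maximalIdeal _) (IsLocalRing.maximalIdeal.isMaximal _).ne_top
  rw [← Ideal.mem_bot, ← hK, Ideal.mem_iInf]
  intro n
  rw [← Localization.AtPrime.map_eq_maximalIdeal, ← Ideal.map_pow]
  exact Ideal.mem_map_of_mem _ (h n)

/-- Let k be a field, K an algebraic closure of k, and ψ : G → H a homomorphism of commutative affine
group schemes of finite type over k. Assume that for every finite commutative group scheme I over k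
the map Hom(I, G) → Hom(I, H), f ↦ f ≫ ψ, on group-scheme homomorphisms is bijective, and that ψ
induces a bijection G(K) → H(K) on K-valued points. Then ψ is an isomorphism. (All group schemes are
commutative by the standing convention.) -/
theorem result
    {k : Type u} [Field k] (K : Type u) [Field K] [Algebra k K] [IsAlgClosure k K]
    (G H : Over (Spec (CommRingCat.of k)))
    [GrpObj G] [IsCommMonObj G] [GrpObj H] [IsCommMonObj H]
    [IsAffine G.left] [IsAffine H.left] [LocallyOfFiniteType G.hom] [LocallyOfFiniteType H.hom]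
    (ψ : G ⟶ H) [IsMonHom ψ]
    (hinj : ∀ (I : Over (Spec (CommRingCat.of k))) [GrpObj I] [IsCommMonObj I] [IsFinite I.hom]
      (f g : I ⟶ G) [IsMonHom f] [IsMonHom g], f ≫ ψ = g ≫ ψ → f = g)
    (hsurj : ∀ (I : Over (Spec (CommRingCat.of k))) [GrpObj I] [IsCommMonObj I] [IsFinite I.hom]
      (h : I ⟶ H) [IsMonHom h], ∃ f : I ⟶ G, IsMonHom f ∧ f ≫ ψ = h)
    (hpts : Function.Bijective fun x : Over.mk (Spec.map (CommRingCat.ofHom (algebraMap k K))) ⟶ G => x ≫ ψ) :
    IsIso ψ := by
  have : IsAlgClosed K := IsAlgClosure.isAlgClosed k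
  have := GrpSch.isSeparated_of_field H
  have := GrpSch.isSeparated_of_field G
  have : QuasiCompact G.hom := inferInstance
  obtain ⟨N, _, i, _, hi, hker, -⟩ := GrpQ.exists_kernel ψ
  have : Mono i := GrpQ.mono_of_left i
  have : LocallyOfFiniteType N.hom := by rw [← Over.w i]; infer_instance
  have : IsAffine N.left := isAffine_of_isAffineHom i.left
  have : IsCommMonObj N := ⟨by
    rw [← cancel_mono i, Category.assoc, IsMonHom.mul_hom, ← BraidedCategory.braiding_naturality_assoc,
      IsCommMonObj.mul_comm]⟩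
  have hiψ : i ≫ ψ = 1 := GrpQ.kernel_comp hker
  have hNfin : IsFinite N.hom := isFinite_of_geomPoint_subsingleton K N fun x y => by
    rw [← cancel_mono i]
    exact hpts.1 (by
      show (x ≫ i) ≫ ψ = (y ≫ i) ≫ ψ
      rw [Category.assoc, Category.assoc, hiψ, MonObj.comp_one, MonObj.comp_one])
  have hi1 : i = 1 := by
    have h1 : IsMonHom (1 : N ⟶ G) := by rw [Hom.one_def]; infer_instance
    exact hinj N i 1 (by rw [hiψ, MonObj.one_comp])
  have : Mono ψ := ⟨fun {T} a b hab => by
    obtain ⟨n, hn⟩ := (GrpQ.mem_kernel hker (a⁻¹ * b)).2 (by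
      rw [MonObj.mul_comp, GrpObj.inv_comp, hab, inv_mul_cancel])
    rw [hi1, MonObj.comp_one] at hn
    exact inv_mul_eq_one.1 hn.symm⟩
  have := GrpQ.quasiCompact_left ψ
  have := GrpQ.MonoClosed.isClosedImmersion_of_mono ψ
  have : QuasiCompact H.hom := inferInstance
  have : Surjective ψ.left := (GrpSch.surjective_iff_forall_geomPoint_lift K ψ).2 fun y => hpts.2 y
  suffices IsIso ψ.left by
    have : IsIso ((Over.forget _).map ψ) := this
    exact isIso_of_reflects_iso ψ (Over.forget _)
  rcases ExpChar.exists k with ⟨p, hp⟩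
  rcases hp with _ | hprime
  · have : Smooth H.hom := Groth.Agent.S0353.result k H
    have : IsReduced H.left := Flat55.CurveNormalizationBC.isReduced_of_smooth H.hom
    exact isIso_of_isClosedImmersion_of_surjective ψ.left
  have : ExpChar k p := .prime hprime
  let C := Γ(H.left, ⊤)
  obtain ⟨_, j, hj⟩ := GrpQ.InfAgree.exists_algebra (X := H) H.left.isoSpec.inv
  have : IsIso j.left := by rw [hj]; infer_instance
  have : IsIso j := by
    have : IsIso ((Over.forget _).map j) := ‹IsIso j.left›
    exact isIso_of_reflects_iso j (Over.forget _)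
  obtain ⟨eO, heO⟩ : ∃ eO : C →ₐ[k] k, GrpQ.InfSub.ptOf eO ≫ j = η[H] := by
    let y : 𝟙_ (Over (Spec (CommRingCat.of k))) ⟶ GrpQ.InfSub.sp k C := η[H] ≫ inv j
    refine ⟨⟨(Spec.preimage y.left).hom, fun r => ?_⟩, ?_⟩
    · have h2 : CommRingCat.ofHom (algebraMap k C) ≫ Spec.preimage y.left = 𝟙 _ := by
        apply Spec.map_injective
        rw [Spec.map_comp, Spec.map_preimage, Spec.map_id]
        exact Over.w y
      exact congr($h2 r)
    · rw [← IsIso.eq_comp_inv]
      exact Over.OverMorphism.ext (Spec.map_preimage y.left)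
  let φ : Γ(H.left, ⊤) ⟶ Γ(G.left, ⊤) := ψ.left.appTop
  have hψ : G.left.isoSpec.hom ≫ Spec.map φ ≫ H.left.isoSpec.inv = ψ.left := by
    rw [Scheme.isoSpec_hom_naturality_assoc, Iso.hom_inv_id, Category.comp_id]
  have hker_le : ∀ c, φ c = 0 → ∀ n : ℕ, c ∈ RingHom.ker eO ^ n := by
    intro c hc n
    obtain ⟨_, hmon⟩ := GrpQ.InfSub.exists_infSubgroup j eO heO p n
    let q := p ^ n
    let I := GrpQ.InfSub.sp k (GrpQ.InfSub.infRing eO q)
    let h : I ⟶ H := GrpQ.InfSub.infIncl j eO q
    have : Mono h := GrpQ.InfSub.mono_infIncl j eO q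
    have : IsMonHom h := hmon
    have : IsCommMonObj I := ⟨by
      rw [← cancel_mono h, Category.assoc, IsMonHom.mul_hom, ← BraidedCategory.braiding_naturality_assoc,
        IsCommMonObj.mul_comm]⟩
    have : IsClosedImmersion (GrpQ.InfSub.spMap (Ideal.Quotient.mkₐ k (GrpQ.InfSub.frobIdeal eO q))).left :=
      IsClosedImmersion.spec_of_surjective _ Ideal.Quotient.mk_surjective
    have : IsClosedImmersion h.left := by
      show IsClosedImmersion (GrpQ.InfSub.spMap (Ideal.Quotient.mkₐ k (GrpQ.InfSub.frobIdeal eO q)) ≫ j).left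
      rw [Over.comp_left]; infer_instance
    have : LocallyOfFiniteType I.hom := by rw [← Over.w h]; infer_instance
    have hq : q ≠ 0 := pow_ne_zero _ hprime.ne_zero
    have hsub : Subsingleton I.left := (GrpQ.InfSub.isQPt_inf eO p n hq).subsingleton hq
    have : LocallyQuasiFinite I.hom := LocallyQuasiFinite.of_injective (Function.injective_of_subsingleton _)
    have : IsFinite I.hom := IsFinite.of_locallyQuasiFinite I.hom
    obtain ⟨f, -, hf⟩ := hsurj I h
    let π : Γ(H.left, ⊤) ⟶ CommRingCat.of (GrpQ.InfSub.infRing eO q) :=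
      CommRingCat.ofHom (Ideal.Quotient.mk (GrpQ.InfSub.frobIdeal eO q))
    let g : Spec (CommRingCat.of (GrpQ.InfSub.infRing eO q)) ⟶ Spec Γ(G.left, ⊤) := f.left ≫ G.left.isoSpec.hom
    have h2 : Spec.map π ≫ H.left.isoSpec.inv = (g ≫ Spec.map φ) ≫ H.left.isoSpec.inv := by
      refine Eq.trans ?_ (((Category.assoc _ _ _).trans (Category.assoc _ _ _)).trans (congrArg (f.left ≫ ·) hψ)).symm
      refine Eq.trans ?_ (congrArg CommaMorphism.left hf).symm
      exact (congrArg (Spec.map π ≫ ·) hj.symm)
    rw [cancel_mono, ← Spec.map_preimage g, ← Spec.map_comp] at h2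
    have h3 := congr($(Spec.map_injective h2) c)
    rw [CommRingCat.comp_apply, hc, map_zero] at h3
    have h4 : GrpQ.InfSub.frobIdeal eO q ≤ RingHom.ker eO ^ n := by
      rw [GrpQ.InfSub.frobIdeal, Ideal.span_le]
      rintro _ ⟨b, hb, rfl⟩
      exact Ideal.pow_le_pow_right (Nat.lt_pow_self hprime.one_lt).le
        (Ideal.pow_mem_pow (RingHom.mem_ker.2 hb) q)
    exact h4 (Ideal.Quotient.eq_zero_iff_mem.1 h3)
  have : IsLocallyNoetherian H.left := LocallyOfFiniteType.isLocallyNoetherian H.hom
  have : IsNoetherianRing C := IsLocallyNoetherian.component_noetherian ⟨⊤, isAffineOpen_top _⟩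
  have hφs : Function.Surjective φ := (IsClosedImmersion.isAffine_surjective_of_isAffine ψ.left).2
  let m : PrimeSpectrum C := ⟨RingHom.ker eO, RingHom.ker_isPrime _⟩
  obtain ⟨P, hP⟩ : ∃ P : PrimeSpectrum Γ(G.left, ⊤), P.comap φ.hom = m := by
    have : Surjective (Spec.map φ) := by
      have e : Spec.map φ = G.left.isoSpec.inv ≫ ψ.left ≫ H.left.isoSpec.hom := by
        rw [← hψ, Category.assoc, Category.assoc, Iso.inv_hom_id_assoc, Iso.inv_hom_id, Category.comp_id]
      rw [e]; infer_instance
    exact this.surj m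
  have hflatP : ((Spec.map φ).stalkMap P).hom.Flat := by
    have := RingHom.toMorphismProperty_respectsIso_iff.1 RingHom.Flat.propertyIsLocal.respectsIso
    refine ((RingHom.toMorphismProperty RingHom.Flat).arrow_mk_iso_iff (Scheme.arrowStalkMapSpecIso φ P)).2 ?_
    show (Localization.localRingHom _ _ φ.hom rfl).Flat
    refine RingHom.Flat.of_bijective ⟨?_, ?_⟩
    · rw [injective_iff_map_eq_zero]
      intro x hx
      obtain ⟨⟨c, s⟩, rfl⟩ := IsLocalization.mk'_surjective (Ideal.comap φ.hom P.asIdeal).primeCompl x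
      rw [Localization.localRingHom_mk', IsLocalization.mk'_eq_zero_iff] at hx
      obtain ⟨⟨t, ht⟩, htc⟩ := hx
      obtain ⟨t', rfl⟩ := hφs t
      change φ.hom t' * φ.hom c = 0 at htc
      rw [← map_mul] at htc
      have h0 := exists_mul_eq_zero (Ideal.comap φ.hom P.asIdeal) (c := t' * c)
        (by rw [show Ideal.comap φ.hom P.asIdeal = m.asIdeal from congrArg PrimeSpectrum.asIdeal hP]; exact fun n => hker_le _ htc n)
      rw [map_mul, (IsLocalization.map_units (Localization.AtPrime (Ideal.comap φ.hom P.asIdeal)) (⟨t', show φ.hom t' ∉ P.asIdeal from ht⟩ : (Ideal.comap φ.hom P.asIdeal).primeCompl)).mul_right_eq_zero] at h0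
      show IsLocalization.mk' _ c s = 0
      rw [IsLocalization.mk'_eq_mul_mk'_one, h0, zero_mul]
    · intro y
      obtain ⟨⟨a, t⟩, rfl⟩ := IsLocalization.mk'_surjective P.asIdeal.primeCompl y
      obtain ⟨c, rfl⟩ := hφs a
      obtain ⟨t', ht'⟩ := hφs t
      have ht'' : t' ∈ (Ideal.comap φ.hom P.asIdeal).primeCompl := by
        show φ.hom t' ∉ P.asIdeal
        exact ht'.symm ▸ t.2
      refine ⟨IsLocalization.mk' _ c ⟨t', ht''⟩, ?_⟩
      rw [Localization.localRingHom_mk']
      exact congrArg _ (Subtype.ext ht')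
  have : Flat ψ.left := by
    refine ActSep.flat_of_flat_at_point ψ (fun T g => ActSep.exists_iso_hom ψ T g) (G.left.isoSpec.inv P) ?_
    have e : ψ.left = G.left.isoSpec.hom ≫ Spec.map φ ≫ H.left.isoSpec.inv := hψ.symm
    rw [e, Scheme.Hom.stalkMap_comp, Scheme.Hom.stalkMap_comp]
    refine RingHom.Flat.comp (RingHom.Flat.comp (RingHom.Flat.of_bijective ?_) ?_) (RingHom.Flat.of_bijective ?_)
    · exact ConcreteCategory.bijective_of_isIso (Scheme.Hom.stalkMap _ _)
    · rwa [show G.left.isoSpec.hom (G.left.isoSpec.inv P) = P by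
        rw [← Scheme.Hom.comp_apply, Iso.inv_hom_id]; rfl]
    · exact ConcreteCategory.bijective_of_isIso (Scheme.Hom.stalkMap _ _)
  have : LocallyOfFinitePresentation ψ.left := inferInstance
  exact H56.FlatMono.isIso_of_flat_mono ψ.left

end Groth.Agent.S13633
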