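import Groth.Statements.S13634
import Groth.Agent.H2.Mult.Sheaf
import Groth.Agent.H2.Mult.Tuple

set_option autoImplicit false
universe u
open CategoryTheory CategoryTheory.Limits MonoidalCategory CartesianMonoidalCategory MonObj AlgebraicGeometry
open MultSch

namespace Groth.Agent.S13634

/-- Let π : M → M'' be a homomorphism of commutative group schemes over a scheme S which is an
epimorphism of fppf sheaves, H a commutative group scheme over S and φ : (M'')^r → H a multilinear
morphism. If the composite of φ with π^r : M^r → (M'')^r is alternating, then φ is alternating. (The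
published statement is for module schemes over a ring R and an R-multilinear φ; the ring action
plays no role, so this row states it for commutative group schemes, which contains that case.) -/
theorem result
    {S : Scheme.{u}} {M M'' H : Over S}
    [GrpObj M] [IsCommMonObj M] [GrpObj M''] [IsCommMonObj M''] [GrpObj H] [IsCommMonObj H]
    (π : M ⟶ M'') [IsMonHom π] (hπ : Epi (CGrpSh.ptsMap Scheme.fppfPrecoverage π))
    {r : ℕ} (φ : MultSch.pow M'' r ⟶ H) (hφ : MultSch.IsMultilinear φ)
    (halt : ∀ (T : Over S) (x : Fin r → (T ⟶ M)) (i j : Fin r), i ≠ j → x i = x j →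
      MultSch.tuple (fun l => x l ≫ π) ≫ φ = 1) :
    MultSch.IsAlternating φ := by
  classical
  intro T x i j hij hxij
  obtain ⟨R, hR, hle⟩ := H2.Mult.exists_common (fun l => H2.Mult.liftSieve π (x l))
    fun l => H2.Mult.liftSieve_mem π hπ (x l)
  refine H2.Mult.hom_ext_sieve hR fun V g hg => ?_
  choose t ht using fun l => hle l g hg
  have e : (fun l => Function.update t j (t i) l ≫ π) = fun l => g ≫ x l := by
    funext l
    rcases eq_or_ne l j with rfl | h
    · rw [Function.update_self, ht i, hxij]
    · rw [Function.update_of_ne h, ht l]
  rw [← Category.assoc, H2.Mult.comp_tuple, ← e, halt V (Function.update t j (t i)) i j hij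
    (by simp [hij]), MonObj.comp_one]

end Groth.Agent.S13634
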