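import Groth.Statements.S13635
import Groth.Agent.H2.Mult.Sheaf
import Groth.Agent.H2.Mult.Tuple

set_option autoImplicit false
universe u w
open CategoryTheory CategoryTheory.Limits MonoidalCategory CartesianMonoidalCategory MonObj AlgebraicGeometry
open MultSch

namespace Groth.Agent.S13635

/-- Let M₁ → M₂ → M₃ → 0 be a sequence of R-module schemes over a scheme S, with R-linear homomorphisms
j : M₁ → M₂ and π : M₂ → M₃, exact as a sequence of fppf sheaves. For n ≥ 1 and an R-module scheme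
N, the sequence 0 → Alt(M₃^n, N) → Alt(M₂^n, N) → Alt(M₁ × M₂^(n-1), N) of R-multilinear alternating
morphisms is exact: an R-multilinear alternating φ : M₂^n → N which is trivial on all points with
first coordinate in the image of j is of the form φ' ∘ π^n for a unique morphism φ' : M₃^n → N
(unique among all morphisms), and this φ' is R-multilinear and alternating. -/
theorem result
    {S : Scheme.{u}} {R : Type w} [CommRing R] {M₁ M₂ M₃ N : Over S}
    [GrpObj M₁] [IsCommMonObj M₁] [GrpObj M₂] [IsCommMonObj M₂] [GrpObj M₃] [IsCommMonObj M₃]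
    [GrpObj N] [IsCommMonObj N]
    (ρ₁ : MultSch.RMod R M₁) (ρ₂ : MultSch.RMod R M₂) (ρ₃ : MultSch.RMod R M₃) (ρN : MultSch.RMod R N)
    (j : M₁ ⟶ M₂) (π : M₂ ⟶ M₃) [IsMonHom j] [IsMonHom π]
    (hj : ∀ a : R, j ≫ ρ₂.act a = ρ₁.act a ≫ j) (hπ : ∀ a : R, π ≫ ρ₃.act a = ρ₂.act a ≫ π)
    (w : j ≫ π = 1) (hex : (CGrpSh.seq Scheme.fppfPrecoverage j π w).Exact)
    (hepi : Epi (CGrpSh.ptsMap Scheme.fppfPrecoverage π))
    {n : ℕ} (hn : 1 ≤ n) (φ : MultSch.pow M₂ n ⟶ N)
    (hmult : MultSch.IsMultilinear φ) (hlin : MultSch.IsRLinear ρ₂ ρN φ) (halt : MultSch.IsAlternating φ)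
    (hvan : ∀ (T : Over S) (y : T ⟶ M₁) (x : Fin n → (T ⟶ M₂)), x ⟨0, hn⟩ = y ≫ j →
      MultSch.tuple x ≫ φ = 1) :
    ∃ φ' : MultSch.pow M₃ n ⟶ N,
      (∀ (T : Over S) (x : Fin n → (T ⟶ M₂)), MultSch.tuple x ≫ φ = MultSch.tuple (fun l => x l ≫ π) ≫ φ') ∧
      MultSch.IsMultilinear φ' ∧ MultSch.IsRLinear ρ₃ ρN φ' ∧ MultSch.IsAlternating φ' ∧
      ∀ φ'' : MultSch.pow M₃ n ⟶ N,
        (∀ (T : Over S) (x : Fin n → (T ⟶ M₂)), MultSch.tuple x ≫ φ = MultSch.tuple (fun l => x l ≫ π) ≫ φ'') →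
          φ'' = φ' := by
  classical
  have hA : ∀ (V : Over S) (x : Fin n → (V ⟶ M₂)) (i : Fin n) (b : V ⟶ M₂),
      (∃ y, b = y ≫ j) → tuple (Function.update x i b) ≫ φ = 1 := fun V x i b hb =>
    H2.Mult.vanish_coord hmult halt (P := fun z => ∃ y, z = y ≫ j) (i₀ := ⟨0, hn⟩)
      (fun z hz => hz.elim fun y hy => hvan V y z hy) _ i (by simpa using hb)
  have one_step : ∀ (V : Over S) (x : Fin n → (V ⟶ M₂)) (i : Fin n) (b : V ⟶ M₂),
      b ≫ π = x i ≫ π → tuple (Function.update x i b) ≫ φ = tuple x ≫ φ := by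
    intro V x i b h
    have hd : (b * (x i)⁻¹) ≫ π = 1 := by rw [MonObj.mul_comp, GrpObj.inv_comp, h, mul_inv_cancel]
    refine H2.Mult.hom_ext_sieve (H2.Mult.liftSieve_mem_of_exact j π w hex _ hd) fun W g hg => ?_
    obtain ⟨y, hy⟩ := hg
    have e : g ≫ b = (y ≫ j) * (g ≫ x i) := by
      rw [hy, MonObj.comp_mul, GrpObj.comp_inv, inv_mul_cancel_right]
    simp only [← Category.assoc, H2.Mult.comp_tuple]
    rw [show (fun l => g ≫ Function.update x i b l) =
        Function.update (fun l => g ≫ x l) i ((y ≫ j) * (g ≫ x i)) by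
      funext l; rcases eq_or_ne l i with rfl | h <;> simp [*]]
    rw [hmult W _ i, hA W _ i _ ⟨y, rfl⟩, _root_.one_mul]
    exact congrArg (tuple · ≫ φ) (Function.update_eq_self i _)
  have key : ∀ (V : Over S) (x x' : Fin n → (V ⟶ M₂)), (∀ l, x l ≫ π = x' l ≫ π) →
      tuple x ≫ φ = tuple x' ≫ φ := by
    intro V x x' h
    suffices H : ∀ s : Finset (Fin n), tuple (fun l => if l ∈ s then x' l else x l) ≫ φ =
        tuple x ≫ φ by simpa using (H Finset.univ).symm
    intro s
    induction s using Finset.induction_on with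
    | empty => simp
    | insert a s ha ih =>
      rw [← ih, ← one_step V (fun l => if l ∈ s then x' l else x l) a (x' a) (by simp [ha, h])]
      congr 2
      funext l
      rcases eq_or_ne l a with rfl | hl <;> simp [*]
  have lift_all : ∀ (V : Over S) (z : Fin n → (V ⟶ M₃)),
      ∃ R ∈ QuotSh.J Scheme.fppfPrecoverage S V, ∀ (W : Over S) (g : W ⟶ V), R.arrows g →
        ∃ t : Fin n → (W ⟶ M₂), ∀ l, t l ≫ π = g ≫ z l := by
    intro V z
    obtain ⟨R, hR, hle⟩ := H2.Mult.exists_common (fun l => H2.Mult.liftSieve π (z l))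
      fun l => H2.Mult.liftSieve_mem π hepi (z l)
    refine ⟨R, hR, fun W g hg => ?_⟩
    choose t ht using fun l => hle l g hg
    exact ⟨t, ht⟩
  obtain ⟨R, hR, hRlift⟩ := lift_all (MultSch.pow M₃ n) (fun l => H2.Mult.proj M₃ l)
  obtain ⟨φ', hφ'⟩ := H2.Mult.exists_of_rel (K := Scheme.fppfPrecoverage)
    (fun V (f : V ⟶ MultSch.pow M₃ n) (a : V ⟶ N) => ∃ t : Fin n → (V ⟶ M₂),
      (∀ l, t l ≫ π = f ≫ H2.Mult.proj M₃ l) ∧ a = tuple t ≫ φ)
    (by rintro V f _ _ ⟨t, ht, rfl⟩ ⟨t', ht', rfl⟩; exact key V t t' fun l => (ht l).trans (ht' l).symm)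
    (by rintro V W g f _ ⟨t, ht, rfl⟩
        exact ⟨fun l => g ≫ t l, fun l => by rw [Category.assoc, ht, Category.assoc],
          by rw [← Category.assoc, H2.Mult.comp_tuple]⟩)
    hR (fun V f hf => by obtain ⟨t, ht⟩ := hRlift V f hf; exact ⟨_, t, ht, rfl⟩)
  have hval : ∀ (V : Over S) (x : Fin n → (V ⟶ M₂)),
      tuple (fun l => x l ≫ π) ≫ φ' = tuple x ≫ φ := fun V x =>
    hφ' V _ _ ⟨x, fun l => (H2.Mult.tuple_comp_proj (fun l => x l ≫ π) l).symm, rfl⟩
  refine ⟨φ', fun V x => (hval V x).symm, ?_, ?_, ?_, ?_⟩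
  · intro T z i y y'
    obtain ⟨R', hR', hl⟩ := lift_all T (Function.update z i y)
    refine H2.Mult.hom_ext_sieve (GrothendieckTopology.intersection_covering _ hR'
      (H2.Mult.liftSieve_mem π hepi y')) fun W g hg => ?_
    obtain ⟨⟨t, ht⟩, t', ht'⟩ := And.intro (hl W g hg.1) hg.2
    have eu : ∀ (a : T ⟶ M₃) (b : W ⟶ M₂), b ≫ π = g ≫ a →
        g ≫ tuple (Function.update z i a) ≫ φ' = tuple (Function.update t i b) ≫ φ := by
      intro a b hb
      rw [← Category.assoc, H2.Mult.comp_tuple, ← hval W (Function.update t i b)]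
      congr 2
      funext l
      rcases eq_or_ne l i with rfl | h
      · simp [hb]
      · simp [h, ht l]
    have hti : t i ≫ π = g ≫ y := by simpa using ht i
    rw [MonObj.comp_mul, eu y (t i) hti, eu y' t' ht',
      eu (y * y') (t i * t') (by rw [MonObj.mul_comp, hti, ht', MonObj.comp_mul])]
    exact hmult W t i (t i) t'
  · intro T z i a
    obtain ⟨R', hR', hl⟩ := lift_all T z
    refine H2.Mult.hom_ext_sieve hR' fun W g hg => ?_
    obtain ⟨t, ht⟩ := hl W g hg
    simp only [← Category.assoc, H2.Mult.comp_tuple]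
    rw [show (fun l => g ≫ Function.update z i (z i ≫ ρ₃.act a) l) =
        fun l => Function.update t i (t i ≫ ρ₂.act a) l ≫ π by
      funext l
      rcases eq_or_ne l i with rfl | h
      · simp only [Function.update_self]
        rw [Category.assoc, ← hπ, ← Category.assoc, ← Category.assoc, ht]
      · simp [h, ht l],
      show (fun l => g ≫ z l) = fun l => t l ≫ π from funext fun l => (ht l).symm, hval, hval]
    exact hlin W t i a
  · intro T z i k hik hz
    obtain ⟨R', hR', hl⟩ := lift_all T z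
    refine H2.Mult.hom_ext_sieve hR' fun W g hg => ?_
    obtain ⟨t, ht⟩ := hl W g hg
    rw [← Category.assoc, H2.Mult.comp_tuple,
      show (fun l => g ≫ z l) = fun l => Function.update t k (t i) l ≫ π by
        funext l
        rcases eq_or_ne l k with rfl | h
        · simp [ht i, hz]
        · simp [h, ht l],
      hval, halt W _ i k hik (by simp [hik]), MonObj.comp_one]
  · intro φ'' h''
    refine H2.Mult.hom_ext_sieve hR fun W g hg => ?_
    obtain ⟨t, ht⟩ := hRlift W g hg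
    have e : g = tuple (fun l => t l ≫ π) := by
      simp only [ht]; exact (H2.Mult.tuple_proj g).symm
    rw [e, hval, h'']

end Groth.Agent.S13635
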