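import Groth.Statements.S13636
import Groth.Agent.H2.Mult.Sheaf

set_option autoImplicit false
universe u w
open CategoryTheory CategoryTheory.Limits MonoidalCategory CartesianMonoidalCategory MonObj AlgebraicGeometry
open MultSch

namespace Groth.Agent.S13636

/-- Let M' → M → M'' → 0 be a sequence of R-module schemes over a scheme S, with R-linear homomorphisms
j and π, exact as fppf sheaves, and let ψ : P × M × Q → N be a morphism to an R-module scheme N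
which is additive and R-linear in the coordinate M (on T-valued points) and trivial on all points
whose M-coordinate lies in the image of j. Then ψ = ψ' ∘ (id × π × id) for a unique morphism ψ' : P
× M'' × Q → N, and ψ' is additive and R-linear in the coordinate M''. (The published statement has a
product M₁ × ⋯ × M_r of R-module schemes with the exact sequence in the i-th factor and ψ
R-multilinear; here the factors before and after the i-th are collected into single S-schemes P and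
Q, and only linearity in the i-th coordinate, the one the statement is about, is carried; linearity
in the other coordinates passes between ψ and ψ' formally.) -/
theorem result
    {S : Scheme.{u}} {R : Type w} [CommRing R] {P Q M' M M'' N : Over S}
    [GrpObj M'] [IsCommMonObj M'] [GrpObj M] [IsCommMonObj M] [GrpObj M''] [IsCommMonObj M'']
    [GrpObj N] [IsCommMonObj N]
    (ρ' : MultSch.RMod R M') (ρ : MultSch.RMod R M) (ρ'' : MultSch.RMod R M'') (ρN : MultSch.RMod R N)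
    (j : M' ⟶ M) (π : M ⟶ M'') [IsMonHom j] [IsMonHom π]
    (hj : ∀ a : R, j ≫ ρ.act a = ρ'.act a ≫ j) (hπ : ∀ a : R, π ≫ ρ''.act a = ρ.act a ≫ π)
    (w : j ≫ π = 1) (hex : (CGrpSh.seq Scheme.fppfPrecoverage j π w).Exact)
    (hepi : Epi (CGrpSh.ptsMap Scheme.fppfPrecoverage π))
    (ψ : P ⊗ (M ⊗ Q) ⟶ N)
    (hadd : ∀ (T : Over S) (p : T ⟶ P) (q : T ⟶ Q) (y z : T ⟶ M),
      lift p (lift (y * z) q) ≫ ψ = (lift p (lift y q) ≫ ψ) * (lift p (lift z q) ≫ ψ))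
    (hlin : ∀ (T : Over S) (p : T ⟶ P) (q : T ⟶ Q) (y : T ⟶ M) (a : R),
      lift p (lift (y ≫ ρ.act a) q) ≫ ψ = (lift p (lift y q) ≫ ψ) ≫ ρN.act a)
    (hvan : ∀ (T : Over S) (p : T ⟶ P) (q : T ⟶ Q) (y' : T ⟶ M'), lift p (lift (y' ≫ j) q) ≫ ψ = 1) :
    ∃ ψ' : P ⊗ (M'' ⊗ Q) ⟶ N,
      (P ◁ (π ▷ Q)) ≫ ψ' = ψ ∧
      (∀ (T : Over S) (p : T ⟶ P) (q : T ⟶ Q) (y z : T ⟶ M''),
        lift p (lift (y * z) q) ≫ ψ' = (lift p (lift y q) ≫ ψ') * (lift p (lift z q) ≫ ψ')) ∧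
      (∀ (T : Over S) (p : T ⟶ P) (q : T ⟶ Q) (y : T ⟶ M'') (a : R),
        lift p (lift (y ≫ ρ''.act a) q) ≫ ψ' = (lift p (lift y q) ≫ ψ') ≫ ρN.act a) ∧
      ∀ ψ'' : P ⊗ (M'' ⊗ Q) ⟶ N, (P ◁ (π ▷ Q)) ≫ ψ'' = ψ → ψ'' = ψ' := by
  classical
  let T₀ : Over S := P ⊗ (M'' ⊗ Q)
  let Φ (V : Over S) (p : V ⟶ P) (t : V ⟶ M) (q : V ⟶ Q) : V ⟶ N := lift p (lift t q) ≫ ψ
  have Φcomp : ∀ (V W : Over S) (g : W ⟶ V) p t q, g ≫ Φ V p t q = Φ W (g ≫ p) (g ≫ t) (g ≫ q) := by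
    intro V W g p t q
    simp only [Φ, ← Category.assoc, comp_lift]
  have key : ∀ (V : Over S) (p : V ⟶ P) (t t' : V ⟶ M) (q : V ⟶ Q), t ≫ π = t' ≫ π →
      Φ V p t q = Φ V p t' q := by
    intro V p t t' q h
    have hd : (t * t'⁻¹) ≫ π = 1 := by rw [MonObj.mul_comp, GrpObj.inv_comp, h, mul_inv_cancel]
    refine H2.Mult.hom_ext_sieve (H2.Mult.liftSieve_mem_of_exact j π w hex _ hd) fun W g hg => ?_
    obtain ⟨y, hy⟩ := hg
    have e : g ≫ t = (y ≫ j) * (g ≫ t') := by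
      rw [hy, MonObj.comp_mul, GrpObj.comp_inv, inv_mul_cancel_right]
    rw [Φcomp, Φcomp, e]
    exact (hadd W _ _ _ _).trans (by rw [hvan, _root_.one_mul])
  obtain ⟨ψ', hψ'⟩ := H2.Mult.exists_of_rel (K := Scheme.fppfPrecoverage)
    (fun V (f : V ⟶ T₀) a => ∃ t : V ⟶ M, t ≫ π = f ≫ snd _ _ ≫ fst _ _ ∧
      a = Φ V (f ≫ fst _ _) t (f ≫ snd _ _ ≫ snd _ _))
    (by rintro V f _ _ ⟨t, ht, rfl⟩ ⟨t', ht', rfl⟩; exact key V _ t t' _ (ht.trans ht'.symm))
    (by rintro V W g f _ ⟨t, ht, rfl⟩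
        exact ⟨g ≫ t, by rw [Category.assoc, ht, Category.assoc],
          by rw [Φcomp]; simp only [Category.assoc]⟩)
    (H2.Mult.liftSieve_mem π hepi (snd P (M'' ⊗ Q) ≫ fst M'' Q))
    (by rintro V f ⟨t, ht⟩; exact ⟨_, t, ht, rfl⟩)
  have hval : ∀ (V : Over S) (p : V ⟶ P) (t : V ⟶ M) (q : V ⟶ Q),
      lift p (lift (t ≫ π) q) ≫ ψ' = Φ V p t q := fun V p t q =>
    hψ' V _ _ ⟨t, by simp, by simp⟩
  refine ⟨ψ', ?_, ?_, ?_, ?_⟩
  · have e : (P ◁ (π ▷ Q)) =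
        lift (fst P (M ⊗ Q)) (lift ((snd P (M ⊗ Q) ≫ fst M Q) ≫ π) (snd P (M ⊗ Q) ≫ snd M Q)) := by
      ext <;> simp
    rw [e, hval]
    have e' : lift (fst P (M ⊗ Q)) (lift (snd P (M ⊗ Q) ≫ fst M Q) (snd P (M ⊗ Q) ≫ snd M Q)) = 𝟙 _ := by
      ext <;> simp
    change lift _ (lift _ _) ≫ ψ = ψ
    rw [e', Category.id_comp]
  · intro T p q y z
    refine H2.Mult.hom_ext_sieve (GrothendieckTopology.intersection_covering _
      (H2.Mult.liftSieve_mem π hepi y) (H2.Mult.liftSieve_mem π hepi z)) fun W g hg => ?_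
    obtain ⟨⟨ty, hty⟩, tz, htz⟩ := hg
    rw [MonObj.comp_mul]
    simp only [← Category.assoc, comp_lift, MonObj.comp_mul]
    rw [← hty, ← htz, ← MonObj.mul_comp, hval, hval, hval]
    exact hadd W _ _ _ _
  · intro T p q y a
    refine H2.Mult.hom_ext_sieve (H2.Mult.liftSieve_mem π hepi y) fun W g hg => ?_
    obtain ⟨ty, hty⟩ := hg
    simp only [← Category.assoc, comp_lift]
    rw [← hty, Category.assoc ty π, hπ a, ← Category.assoc, hval, hval]
    exact hlin W _ _ _ a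
  · intro ψ'' h''
    refine H2.Mult.hom_ext_sieve (H2.Mult.liftSieve_mem π hepi (snd P (M'' ⊗ Q) ≫ fst M'' Q))
      fun W g hg => ?_
    obtain ⟨t, ht⟩ := hg
    rw [hψ' W g _ ⟨t, ht, rfl⟩]
    have e : g = lift (g ≫ fst _ _) (lift t (g ≫ snd _ _ ≫ snd _ _)) ≫ (P ◁ (π ▷ Q)) := by
      ext <;> simp [ht]
    conv_lhs => rw [e, Category.assoc, h'']

end Groth.Agent.S13636
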