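import Groth.Statements.S13641
import Groth.Agent.H30.FSch.ProperML

set_option autoImplicit false
open CategoryTheory CategoryTheory.Limits Opposite
universe u
open FSch

namespace Groth.Agent.S13641

/-- Let A be an adic Noetherian ring with ideal of definition J, 𝔛 a locally Noetherian formal scheme, f
: 𝔛 ⟶ Spf A a proper morphism and 𝔉 a coherent O_𝔛-module; with u_k : X_k ⟶ 𝔛 the k-th level, put
𝔉_k = (u_k)_* u_k^* 𝔉 = 𝔉 / J^(k+1) 𝔉. Then for every n the canonical map H^n(𝔛, 𝔉) ⟶ lim_k H^n(𝔛,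
𝔉_k) is bijective: a class whose image in every H^n(𝔛, 𝔉_k) vanishes is zero, and every family of
classes in the H^n(𝔛, 𝔉_k) compatible under the transition maps is the image of one class. (The
published statement asserts a topological isomorphism, for the J-adic topology on the first group
and the discrete topologies on the others; this row asserts bijectivity only, without topologies or
A-module structure.) -/
theorem result (A : Type u) [CommRing A] [IsNoetherianRing A] (J : Ideal A)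
    [IsAdicComplete J A] (h𝔜 : (FSch.spf A J).IsLocNoethFormal) (𝔛 : FSch.Sys.{u}) (h𝔛 : 𝔛.IsLocNoethFormal)
    (f : 𝔛 ⟶ FSch.spf A J) (hf : FSch.IsProperHom f) [HasInjectiveResolutions (FSch.ModF 𝔛 h𝔛.1)]
    (𝔉 : FSch.ModF 𝔛 h𝔛.1) (h𝔉 : FSch.IsCohF 𝔛 h𝔛.1 𝔉) (n : ℕ) :
    (∀ x : FSch.HF 𝔛 h𝔛.1 𝔉 n,
      (∀ k : ℕ, Sheaf.H.map ((SheafOfModules.toSheaf _).map ((FSch.levelMor 𝔛 h𝔛.1 k).adj.unit.app 𝔉)) n x = 0) → x = 0) ∧
    (∀ y : ∀ k : ℕ, FSch.HF 𝔛 h𝔛.1 ((FSch.levelMor 𝔛 h𝔛.1 k).push.obj ((FSch.levelMor 𝔛 h𝔛.1 k).pull.obj 𝔉)) n,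
      (∀ k : ℕ, Sheaf.H.map ((SheafOfModules.toSheaf _).map (FSch.levelTrans 𝔛 h𝔛.1 𝔉 k)) n (y (k + 1)) = y k) →
      ∃ x : FSch.HF 𝔛 h𝔛.1 𝔉 n, ∀ k : ℕ,
        Sheaf.H.map ((SheafOfModules.toSheaf _).map ((FSch.levelMor 𝔛 h𝔛.1 k).adj.unit.app 𝔉)) n x = y k) := by
  have hc := Groth.Agent.H30.CohF.isCoh_sys h𝔛 𝔉 h𝔉
  haveI := Groth.Agent.H30.CohF.isIso_θ h𝔛 𝔉 h𝔉
  let 𝔐 := Groth.Agent.H30.CohF.sys 𝔉
  haveI hps : PreservesLimitsOfShape ℕᵒᵖ (SheafOfModules.toSheaf.{u} (ModSite.ringSh (𝔛.Osh h𝔛.1))) :=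
    (preservesSmallestLimits_of_preservesLimits
      (SheafOfModules.toSheaf.{u} (ModSite.ringSh (𝔛.Osh h𝔛.1)))).preservesLimitsOfShape
  haveI : PreservesLimit (FSch.levelSysOf 𝔛 h𝔛.1 𝔐.F 𝔐.toPush)
      (SheafOfModules.toSheaf.{u} (ModSite.ringSh (𝔛.Osh h𝔛.1))) :=
    @PreservesLimitsOfShape.preservesLimit _ _ _ _ _ _ _ hps _
  let α := (SheafOfModules.toSheaf _).mapIso (asIso (Groth.Agent.H30.CohF.θ 𝔉)) ≪≫
    preservesLimitIso (SheafOfModules.toSheaf.{u} (ModSite.ringSh (𝔛.Osh h𝔛.1)))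
      (FSch.levelSysOf 𝔛 h𝔛.1 𝔐.F 𝔐.toPush)
  have hπ : ∀ k, α.hom ≫ limit.π (Groth.Agent.H30.GrLevel.G h𝔛 𝔐) (op k) =
      (SheafOfModules.toSheaf _).map ((FSch.levelMor 𝔛 h𝔛.1 k).adj.unit.app 𝔉) := fun k => by
    refine (Category.assoc _ _ _).trans ?_
    refine (congrArg (_ ≫ ·) (preservesLimitIso_hom_π _ _ _)).trans ?_
    refine ((SheafOfModules.toSheaf _).map_comp _ _).symm.trans (congrArg _ ?_)
    exact limit.lift_π (Groth.Agent.H30.CohF.cone 𝔉) (op k)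
  have hb := Groth.Agent.H30.ProperML.toLim_bijective h𝔛 𝔐 hc n fun j _ =>
    Groth.Agent.H30.ProperML.ml h𝔛 𝔐 hc f hf j
  have hcomp : ∀ (x : FSch.HF 𝔛 h𝔛.1 𝔉 n) k,
      (Groth.Agent.H30.HTower.toLim (Groth.Agent.H30.GrLevel.G h𝔛 𝔐) n
        (Groth.Agent.H30.HTower.hIso α n x)).1 k =
      Sheaf.H.map ((SheafOfModules.toSheaf _).map ((FSch.levelMor 𝔛 h𝔛.1 k).adj.unit.app 𝔉)) n x := fun x k =>
    (Groth.Agent.H30.HTower.map_comp _ _ _ _).trans (congrArg (fun φ => Sheaf.H.map φ n x) (hπ k))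
  refine ⟨fun x hx => (Groth.Agent.H30.HTower.hIso α n).injective (hb.1 ?_), fun y hy => ?_⟩
  · rw [map_zero, map_zero]
    exact Subtype.ext (funext fun k => (hcomp x k).trans (hx k))
  · obtain ⟨z, hz⟩ := hb.2 ⟨y, fun k => by
      have h1 := hy k
      rw [Groth.Agent.H30.ProperML.levelTrans_eq h𝔛 𝔉 k] at h1
      exact h1⟩
    refine ⟨(Groth.Agent.H30.HTower.hIso α n).symm z, fun k => ?_⟩
    rw [← hcomp, AddEquiv.apply_symm_apply, hz]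

end Groth.Agent.S13641
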