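import Groth.Statements.S13646
import Groth.Agent.H78.FSchBridge.Main
import Groth.Agent.S3854

set_option autoImplicit false
open CategoryTheory CategoryTheory.Limits AlgebraicGeometry
universe u
open FSch

namespace Groth.Agent.S13646

/-- Suppose A is a Noetherian adic ring whose ideal of definition is J, put Y = Spec A, take f : X ⟶ Y
separated and of finite type, and write X̂ for the completion of X along f⁻¹(V(J)). An O_X̂-module
is said to be algebraizable if it is isomorphic to the completion of some coherent O_X-module having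
support proper over Y. Given a morphism u : 𝔉 ⟶ 𝔊 of coherent O_X̂-modules for which 𝔊, Ker(u) and
Coker(u) are all algebraizable, the module 𝔉 is algebraizable as well. (In the published version X
is only assumed of finite type over A; here X is kept separated of finite type over A, since that is
the setting where algebraizable modules are defined.) -/
theorem result (A : Type u) [CommRing A] [IsNoetherianRing A] (J : Ideal A) [IsAdicComplete J A]
    {X : Scheme.{u}} (f : X ⟶ Spec (CommRingCat.of A)) [IsSeparated f] [LocallyOfFiniteType f] [QuasiCompact f]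
    (𝓘 : X.IdealSheafData) (h𝓘 : 𝓘 = (FSch.idealSpec A J).comap f)
    (hX : (FSch.completionAlong X 𝓘).IsFormal)
    (𝔉 𝔊 : FSch.ModF (FSch.completionAlong X 𝓘) hX) (h𝔉 : FSch.IsCohF _ hX 𝔉) (h𝔊 : FSch.IsCohF _ hX 𝔊)
    (u : 𝔉 ⟶ 𝔊)
    (a𝔊 : (∃ G : X.Modules, Coh.IsCoh G ∧ ClSub.IsProperOver f (CohB1.support G) ∧
        Nonempty (𝔊 ≅ (FSch.complMod 𝓘 G).realMod hX)))
    (ak : (∃ G : X.Modules, Coh.IsCoh G ∧ ClSub.IsProperOver f (CohB1.support G) ∧
        Nonempty (kernel u ≅ (FSch.complMod 𝓘 G).realMod hX)))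
    (ac : (∃ G : X.Modules, Coh.IsCoh G ∧ ClSub.IsProperOver f (CohB1.support G) ∧
        Nonempty (cokernel u ≅ (FSch.complMod 𝓘 G).realMod hX))) :
    (∃ G : X.Modules, Coh.IsCoh G ∧ ClSub.IsProperOver f (CohB1.support G) ∧
        Nonempty (𝔉 ≅ (FSch.complMod 𝓘 G).realMod hX)) := by
  letI : X.Over (Spec (CommRingCat.of A)) := ⟨f⟩
  haveI : LocallyOfFiniteType (X ↘ Spec (CommRingCat.of A)) := ‹LocallyOfFiniteType f›
  haveI : QuasiCompact (X ↘ Spec (CommRingCat.of A)) := ‹QuasiCompact f›
  haveI : IsLocallyNoetherian (Spec (CommRingCat.of A)) := inferInstance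
  haveI : IsLocallyNoetherian X := LocallyOfFiniteType.isLocallyNoetherian f
  have hN := Groth.Agent.S3854.result X 𝓘
  haveI : ∀ k, IsClosedImmersion (FSch.completionToX X 𝓘 k) := fun k => inferInstance
  have hker : ∀ k (U : X.affineOpens), (FSch.completionToX X 𝓘 k).ker.ideal U =
      (FSch.completionToX X 𝓘 0).ker.ideal U ^ (k + 1) := fun k U => by
    rw [Groth.Agent.H30.ComplSec.ker_completionToX, Groth.Agent.H30.ComplSec.ker_completionToX, pow_one]
  have hI : ∀ k (U : X.affineOpens), (FSch.completionToX X 𝓘 k).ker.ideal U =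
      Groth.Agent.H78.Formal.Sections.sIdeal J U.1 ^ (k + 1) := fun k U => by
    rw [Groth.Agent.H30.ComplSec.ker_completionToX, h𝓘]
    exact congrArg (· ^ (k + 1)) (Groth.Agent.H30.ComplHom.ideal_idealSpec_comap J U)
  haveI : IsSeparated (X ↘ Spec (CommRingCat.of A)) := ‹IsSeparated f›
  have key : ∀ 𝔗, (∃ G : X.Modules, Coh.IsCoh G ∧ ClSub.IsProperOver f (CohB1.support G) ∧
      Nonempty (𝔗 ≅ (FSch.complMod 𝓘 G).realMod hX)) ↔
        Groth.Agent.H30.ComplAlg.IsAlg hN (FSch.completionToX X 𝓘) (FSch.completionToX_comm X 𝓘)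
          (X ↘ Spec (CommRingCat.of A)) 𝔗 := fun 𝔗 =>
    Groth.Agent.H30.ComplAlg.isAlg_iff (A := A) hN (FSch.completionToX X 𝓘) (FSch.completionToX_comm X 𝓘)
      (fun G => FSch.complMod 𝓘 G) (fun G => Groth.Agent.H30.ComplSec.complMod_eq X 𝓘 G) 𝔗
  exact (key _).2 (Groth.Agent.H78.FSchBridge.Main.isAlg_of_kernel_cokernel hN (FSch.completionToX X 𝓘)
    (FSch.completionToX_comm X 𝓘) J hI u h𝔉 ((key _).1 a𝔊) ((key _).1 ak) ((key _).1 ac) hker)

end Groth.Agent.S13646
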