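import Groth.Statements.S13647
import Groth.Agent.H78.FSchBridge.Push
import Groth.Agent.Lib.ZarCoh.ProperOver
import Groth.Agent.Lib.Cyc.SheafLen
import Groth.Agent.Lib.Cyc.PP.Push
import Groth.Agent.S3854

set_option autoImplicit false
set_option linter.style.haveILetI false
open CategoryTheory CategoryTheory.Limits AlgebraicGeometry
universe u
open FSch

namespace Groth.Agent.S13647

/-- Suppose A is a Noetherian ring that is adic with J as an ideal of definition, and put Y = Spec A.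
Consider finite-type morphisms f : X ⟶ Y and h : Z ⟶ Y together with a proper Y-morphism g : Z ⟶ X.
Write X̂ and Ẑ for the completions along the preimages of V(J), and ĝ : Ẑ ⟶ X̂ for the map on
completions induced by g. A module on X̂ (resp. Ẑ) is termed algebraizable if it is isomorphic to
the completion of some coherent module on X (resp. Z) having support proper over Y. Under these
assumptions, whenever 𝔉 is an algebraizable O_Ẑ-module, its direct image ĝ_* 𝔉 is again an
algebraizable O_X̂-module. -/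
theorem result (A : Type u) [CommRing A] [IsNoetherianRing A]
    (J : Ideal A) [IsAdicComplete J A] {X Z : Scheme.{u}} (f : X ⟶ Spec (CommRingCat.of A))
    [LocallyOfFiniteType f] [QuasiCompact f] (h : Z ⟶ Spec (CommRingCat.of A)) [LocallyOfFiniteType h]
    [QuasiCompact h] (g : Z ⟶ X) (hg : g ≫ f = h) [IsProper g]
    (𝓘 : X.IdealSheafData) (h𝓘 : 𝓘 = (FSch.idealSpec A J).comap f)
    (𝓚 : Z.IdealSheafData) (h𝓚 : 𝓚 = (FSch.idealSpec A J).comap h)
    (hX : (FSch.completionAlong X 𝓘).IsFormal) (hZ : (FSch.completionAlong Z 𝓚).IsFormal)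
    (hpc : FSch.PowCompat g 𝓚 𝓘) (𝔉 : FSch.ModF (FSch.completionAlong Z 𝓚) hZ)
    (a𝔉 : (∃ G : Z.Modules, Coh.IsCoh G ∧ ClSub.IsProperOver h (CohB1.support G) ∧
        Nonempty (𝔉 ≅ (FSch.complMod 𝓚 G).realMod hZ))) :
    (∃ G : X.Modules, Coh.IsCoh G ∧ ClSub.IsProperOver f (CohB1.support G) ∧
        Nonempty ((FSch.pushF (FSch.completionMap g 𝓚 𝓘 hpc) hZ hX).obj 𝔉 ≅ (FSch.complMod 𝓘 G).realMod hX)) := by
  letI : X.Over (Spec (CommRingCat.of A)) := ⟨f⟩
  letI : Z.Over (Spec (CommRingCat.of A)) := ⟨h⟩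
  haveI : IsLocallyNoetherian (Spec (CommRingCat.of A)) := inferInstance
  haveI : IsLocallyNoetherian X := LocallyOfFiniteType.isLocallyNoetherian f
  haveI : IsLocallyNoetherian Z := LocallyOfFiniteType.isLocallyNoetherian h
  haveI : ∀ k, IsClosedImmersion (FSch.completionToX X 𝓘 k) := fun k => inferInstance
  haveI : ∀ k, IsClosedImmersion (FSch.completionToX Z 𝓚 k) := fun k => inferInstance
  have hIX : ∀ k (U : X.affineOpens), (FSch.completionToX X 𝓘 k).ker.ideal U =
      Groth.Agent.H78.Formal.Sections.sIdeal J U.1 ^ (k + 1) := fun k U => by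
    rw [Groth.Agent.H30.ComplSec.ker_completionToX, h𝓘]
    exact congrArg (· ^ (k + 1)) (Groth.Agent.H30.ComplHom.ideal_idealSpec_comap J U)
  have hIZ : ∀ k (U : Z.affineOpens), (FSch.completionToX Z 𝓚 k).ker.ideal U =
      Groth.Agent.H78.Formal.Sections.sIdeal J U.1 ^ (k + 1) := fun k U => by
    rw [Groth.Agent.H30.ComplSec.ker_completionToX, h𝓚]
    exact congrArg (· ^ (k + 1)) (Groth.Agent.H30.ComplHom.ideal_idealSpec_comap J U)
  obtain ⟨G, hG, hp, ⟨e⟩⟩ := a𝔉
  obtain ⟨i⟩ := Groth.Agent.H78.FSchBridge.Push.exists_iso (A := A) (FSch.completionMap g 𝓚 𝓘 hpc)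
    (Groth.Agent.S3854.result X 𝓘) (Groth.Agent.S3854.result Z 𝓚) g
    (FSch.completionToX X 𝓘) (FSch.completionToX_comm X 𝓘)
    (FSch.completionToX Z 𝓚) (FSch.completionToX_comm Z 𝓚)
    (fun k => (Scheme.IdealSheafData.subschemeMap_subschemeι _ _ g
      (Scheme.IdealSheafData.le_map_iff_comap_le.mpr (hpc k))).symm) G hg J hIX hIZ hG
  have hM : Coh.IsCoh ((Scheme.Modules.pushforward g).obj G) := Groth.Agent.Lib.Cyc.PP.Push.isCoh_push g hG
  refine ⟨_, hM, ?_, ⟨(FSch.pushF (FSch.completionMap g 𝓚 𝓘 hpc) hZ hX).mapIso e ≪≫ ?_⟩⟩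
  · have himg : ClSub.IsProperOver f (⇑g '' CohB1.support G) :=
      ZarCoh.ProperOver.isProperOver_image h f g hg hp fun i _ _ => inferInstance
    haveI : SheafOfModules.IsFiniteType (R := X.ringCatSheaf) ((Scheme.Modules.pushforward g).obj G) := hM.2
    refine ZarCoh.ProperOver.isProperOver_of_subset f himg
      (Groth.Agent.Lib.Modules.Support.isClosed_support _) fun y hy => ?_
    by_contra hny
    exact hy (Groth.Agent.Lib.Cyc.SheafLen.subsingleton_push_stalk g G (⇑g '' CohB1.support G)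
      (g.isClosedMap _ hp.1) (fun x hx => ⟨x, not_subsingleton_iff_nontrivial.2 hx, rfl⟩) y hny)
  · exact (FSch.pushF (FSch.completionMap g 𝓚 𝓘 hpc) hZ hX).mapIso
      (eqToIso (congrArg (fun M => FSch.ModSys.realMod hZ M) (Groth.Agent.H30.ComplSec.complMod_eq Z 𝓚 G))) ≪≫ i.symm ≪≫
      eqToIso (congrArg (fun M => FSch.ModSys.realMod hX M)
        (Groth.Agent.H30.ComplSec.complMod_eq X 𝓘 ((Scheme.Modules.pushforward g).obj G)).symm)


end Groth.Agent.S13647
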