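import Groth.Statements.S13648
import Groth.Agent.H30.FSch.RpushTheta
import Groth.Agent.H30.FSch.CohSerre
import Groth.Agent.H30.FSch.CohPres
import Groth.Agent.H30.IdealLemmas
import Groth.Agent.S3854
import Groth.Agent.S0036

set_option autoImplicit false
open CategoryTheory CategoryTheory.Limits AlgebraicGeometry
universe u
open FSch

namespace Groth.Agent.S13648

/-- Let f : X ⟶ Y be a proper morphism of Noetherian schemes, 𝓘 an ideal of O_Y defining a closed subset
Y', 𝓚 = 𝓘 O_X its inverse image, Ŷ and X̂ the completions along Y' and f⁻¹(Y'), f̂ : X̂ ⟶ Ŷ the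
extension of f, j : Ŷ ⟶ Y and i : X̂ ⟶ X the canonical morphisms of ringed spaces, and F a coherent
O_X-module, so that F̂ = i^* F. Then for every n the completion (R^n f_* F)^ = j^*(R^n f_* F) is
isomorphic to R^n f̂_*(F̂) as an O_Ŷ-module. Only the existence of an isomorphism is asserted; the
published statement asserts that the canonical base-change morphism ρ_n of the square is an
isomorphism, moreover a homeomorphism. -/
theorem result (X Y : Scheme.{u}) [IsNoetherian X]
    [IsNoetherian Y] (f : X ⟶ Y) [IsProper f] (𝓘 : Y.IdealSheafData) (𝓚 : X.IdealSheafData)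
    (h𝓚 : 𝓚 = 𝓘.comap f) (hpc : FSch.PowCompat f 𝓚 𝓘) (hX : (FSch.completionAlong X 𝓚).IsFormal)
    (hY : (FSch.completionAlong Y 𝓘).IsFormal) [HasInjectiveResolutions X.Modules]
    [HasInjectiveResolutions (FSch.ModF (FSch.completionAlong X 𝓚) hX)] (F : X.Modules) (hF : Coh.IsCoh F)
    (n : ℕ) :
    Nonempty ((FSch.toSchemeMor (FSch.completionAlong Y 𝓘) hY (FSch.completionToX Y 𝓘) (FSch.completionToX_comm Y 𝓘)).pull.obj ((Coh.Rpush f n).obj F) ≅
      (FSch.RpushF (FSch.completionMap f 𝓚 𝓘 hpc) hX hY n).obj ((FSch.toSchemeMor (FSch.completionAlong X 𝓚) hX (FSch.completionToX X 𝓚) (FSch.completionToX_comm X 𝓚)).pull.obj F)) := by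
  subst h𝓚
  have h𝔛 := Groth.Agent.S3854.result X (𝓘.comap f)
  have h𝔜 := Groth.Agent.S3854.result Y 𝓘
  haveI : ∀ k, IsClosedImmersion (FSch.completionToX X (𝓘.comap f) k) := fun k => inferInstanceAs
    (IsClosedImmersion (Scheme.IdealSheafData.subschemeι _))
  haveI : ∀ k, IsClosedImmersion (FSch.completionToX Y 𝓘 k) := fun k => inferInstanceAs
    (IsClosedImmersion (Scheme.IdealSheafData.subschemeι _))
  have hsq : ∀ k, FSch.completionToX X (𝓘.comap f) k ≫ f =
      (FSch.completionMap f (𝓘.comap f) 𝓘 hpc : FSch.Hom _ _).app k ≫ FSch.completionToX Y 𝓘 k :=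
    fun k => (Groth.Agent.H30.IdealLemmas.isPullback_completionMap_app f 𝓘 hpc k).w
  have hφ : FSch.IsProperHom (FSch.completionMap f (𝓘.comap f) 𝓘 hpc) :=
    ⟨Groth.Agent.H30.IdealLemmas.isAdicHom_completionMap f 𝓘 hpc,
      MorphismProperty.of_isPullback (Groth.Agent.H30.IdealLemmas.isPullback_completionMap_app f 𝓘 hpc 0)
        ‹IsProper f›⟩
  have hH : Coh.IsCoh ((Coh.Rpush f n).obj F) := Groth.Agent.S0036.result f F hF n
  haveI := Groth.Agent.H30.ComplPull.isIso_γ h𝔛 (FSch.completionToX X (𝓘.comap f))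
    (FSch.completionToX_comm X (𝓘.comap f)) F hF
    (Groth.Agent.H30.ComplMonoEpi.isCoh_pullSys _ _ hF)
  have hFh : FSch.IsCohF _ h𝔛.1 ((FSch.toSchemeMor _ h𝔛.1 (FSch.completionToX X (𝓘.comap f))
      (FSch.completionToX_comm X (𝓘.comap f))).pull.obj F) :=
    Groth.Agent.H30.CohSerre.isCohF_of_iso h𝔛
      (asIso (Groth.Agent.H30.ComplPull.γ h𝔛 (FSch.completionToX X (𝓘.comap f))
        (FSch.completionToX_comm X (𝓘.comap f)) F)).symm
      (Groth.Agent.H30.CohPres.isCohF h𝔛 _ (Groth.Agent.H30.ComplMonoEpi.isCoh_pullSys _ _ hF))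
  haveI := Groth.Agent.H30.RpushCompl.isIso_θn (FSch.completionMap f (𝓘.comap f) 𝓘 hpc) h𝔛 h𝔜 f
    (FSch.completionToX X (𝓘.comap f)) (FSch.completionToX_comm X (𝓘.comap f))
    (FSch.completionToX Y 𝓘) (FSch.completionToX_comm Y 𝓘) hsq n F 𝓘
    (Groth.Agent.H30.ComplSec.ker_completionToX Y 𝓘)
    (Groth.Agent.H30.ComplSec.ker_completionToX X (𝓘.comap f)) hφ hF hH hFh
  exact ⟨asIso (Groth.Agent.H30.RpushCompl.θn (FSch.completionMap f (𝓘.comap f) 𝓘 hpc) h𝔛 h𝔜 f
    (FSch.completionToX X (𝓘.comap f)) (FSch.completionToX_comm X (𝓘.comap f))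
    (FSch.completionToX Y 𝓘) (FSch.completionToX_comm Y 𝓘) hsq n F)⟩

end Groth.Agent.S13648
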