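import Groth.Statements.S13649
import Groth.Agent.H30.FSch.KillGlobal
import Groth.Agent.H30.FSch.ComplSec
import Groth.Agent.H30.IdealLemmas
import Groth.Agent.S3854

set_option autoImplicit false
open CategoryTheory CategoryTheory.Limits AlgebraicGeometry Opposite TopologicalSpace
universe u
open FSch

namespace Groth.Agent.S13649

/-- Suppose X is a Noetherian (separated) scheme and 𝓘 is an ideal cutting out a closed subset X'. Take
a proper morphism f : Z ⟶ X, write X̂ and Ẑ for the completions of X along X' and of Z along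
f⁻¹(X'), and let f̂ : Ẑ ⟶ X̂ be the morphism extending f. Let 𝓜 be an ideal of O_X (automatically
coherent, since X is Noetherian), and write U for the open complement of the support of O_X/𝓜;
assume that over U the morphism f restricts to an isomorphism f⁻¹(U) ⟶ U. Given any coherent
O_X̂-module 𝔉, one can find n > 0 for which 𝓜̂^n = (𝓜^n) O_X̂ kills both the kernel and the cokernel
of the canonical map ρ_𝔉 : 𝔉 ⟶ f̂_* f̂^* 𝔉. The statement is phrased on the base of opens X̂ ∩ U'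
with U' an affine open of X: whenever s is a section of 𝓜^n over U', its image in Γ(X̂ ∩ U', O_X̂)
multiplies every section of Ker ρ_𝔉 and of Coker ρ_𝔉 over X̂ ∩ U' to zero. -/
theorem result (X Z : Scheme.{u}) [IsNoetherian X] [X.IsSeparated] (f : Z ⟶ X) [IsProper f]
    (𝓘 : X.IdealSheafData) (𝓚 : Z.IdealSheafData) (h𝓚 : 𝓚 = 𝓘.comap f) (hpc : FSch.PowCompat f 𝓚 𝓘)
    (hX : (FSch.completionAlong X 𝓘).IsFormal) (hZ : (FSch.completionAlong Z 𝓚).IsFormal)
    (𝓜 : X.IdealSheafData) (hU : IsIso (f ∣_ 𝓜.support.compl))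
    (𝔉 : FSch.ModF (FSch.completionAlong X 𝓘) hX) (h𝔉 : FSch.IsCohF _ hX 𝔉) :
    ∃ n : ℕ, 0 < n ∧
      ∀ (U : X.affineOpens) (s : Γ(X, ↑U)), s ∈ (𝓜 ^ n).ideal U →
        ∀ r : ((FSch.completionAlong X 𝓘).Osh hX).obj.obj (op ((FSch.completionToX X 𝓘 0) ⁻¹ᵁ (U : X.Opens))),
          r = (FSch.schSharp (FSch.completionAlong X 𝓘) hX (FSch.completionToX X 𝓘) (FSch.completionToX_comm X 𝓘)).hom.app (op (U : X.Opens)) s →
          (∀ x : ModSite.sect (kernel ((FSch.homMor (FSch.completionMap f 𝓚 𝓘 hpc) hZ hX).adj.unit.app 𝔉)) ((FSch.completionToX X 𝓘 0) ⁻¹ᵁ (U : X.Opens)), r • x = 0) ∧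
          (∀ x : ModSite.sect (cokernel ((FSch.homMor (FSch.completionMap f 𝓚 𝓘 hpc) hZ hX).adj.unit.app 𝔉)) ((FSch.completionToX X 𝓘 0) ⁻¹ᵁ (U : X.Opens)), r • x = 0) := by
  subst h𝓚
  haveI : IsLocallyNoetherian Z := LocallyOfFiniteType.isLocallyNoetherian f
  have h𝔛 := Groth.Agent.S3854.result X 𝓘
  have hℨ := Groth.Agent.S3854.result Z (𝓘.comap f)
  haveI : ∀ k, IsClosedImmersion (FSch.completionToX X 𝓘 k) := fun k => inferInstanceAs
    (IsClosedImmersion (Scheme.IdealSheafData.subschemeι _))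
  have hpb := fun k => Groth.Agent.H30.IdealLemmas.isPullback_completionMap_app f 𝓘 hpc k
  have hφ : FSch.IsProperHom (FSch.completionMap f (𝓘.comap f) 𝓘 hpc) :=
    ⟨Groth.Agent.H30.IdealLemmas.isAdicHom_completionMap f 𝓘 hpc,
      MorphismProperty.of_isPullback (hpb 0) ‹IsProper f›⟩
  haveI : CompactSpace ((FSch.completionAlong X 𝓘).X 0) :=
    (FSch.completionToX X 𝓘 0).isClosedEmbedding.compactSpace
  haveI : IsGrothendieckAbelian.{u} (FSch.ModF (FSch.completionAlong Z (𝓘.comap f)) hℨ.1) := inferInstance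
  haveI : HasInjectiveResolutions (FSch.ModF (FSch.completionAlong Z (𝓘.comap f)) hℨ.1) := inferInstance
  obtain ⟨n, hn, h⟩ := Groth.Agent.H30.KillGlobal.exists_bound h𝔛 f
    (FSch.completionMap f (𝓘.comap f) 𝓘 hpc) hℨ (FSch.completionToX X 𝓘) (FSch.completionToX_comm X 𝓘)
    (FSch.completionToX Z (𝓘.comap f)) (FSch.completionToX_comm Z (𝓘.comap f)) (fun k => (hpb k).w) hpb
    𝔉 h𝔉 hφ 𝓜 hU
  refine ⟨n, hn, fun U s hs r hr => ?_⟩
  subst hr
  exact h U s hs

end Groth.Agent.S13649
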