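import Groth.Statements.S13650
import Groth.Agent.Lib.FormalCompl.Cohom
import Groth.Agent.H30.FSch.ComplHom
import Groth.Agent.S0058

set_option autoImplicit false
open CategoryTheory CategoryTheory.Limits AlgebraicGeometry
universe u
open FSch

namespace Groth.Agent.S13650

/-- Let A be a Noetherian ring, I an ideal of A, X a scheme proper over Spec A, F a coherent O_X-module,
X̂ the completion of X along the inverse image of V(I), i : X̂ ⟶ X the canonical morphism of ringed
spaces and F̂ = i^* F its completion. Then for every n the cohomology group H^n(X̂, F̂) of the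
formal scheme is isomorphic to the inverse limit lim_k H^n(X, F/I^(k+1)F). Only the existence of an
additive isomorphism is asserted; the published statement asserts that the canonical map ψ_n, built
from the maps H^n(X̂, F̂) ⟶ H^n(X, F/I^(k+1)F), is bijective. -/
theorem result (A : Type u) [CommRing A] [IsNoetherianRing A]
    (I : Ideal A) (X : Scheme.{u}) [X.Over (Spec (CommRingCat.of A))] [IsProper (X ↘ Spec (CommRingCat.of A))]
    (𝓚 : X.IdealSheafData) (h𝓚 : 𝓚 = (FSch.idealSpec A I).comap (X ↘ Spec (CommRingCat.of A)))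
    (hX : (FSch.completionAlong X 𝓚).IsFormal) (F : X.Modules) (hF : Coh.IsCoh F) (n : ℕ) :
    Nonempty (FSch.HF (FSch.completionAlong X 𝓚) hX ((FSch.toSchemeMor (FSch.completionAlong X 𝓚) hX (FSch.completionToX X 𝓚) (FSch.completionToX_comm X 𝓚)).pull.obj F) n ≃+ Formal.HHlim I F n) := by
  haveI : IsLocallyNoetherian X :=
    LocallyOfFiniteType.isLocallyNoetherian (X ↘ Spec (CommRingCat.of A))
  haveI : ∀ k, IsClosedImmersion (FSch.completionToX X 𝓚 k) := fun k =>
    inferInstanceAs (IsClosedImmersion (Scheme.IdealSheafData.subschemeι (𝓚 ^ (k + 1))))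
  refine Groth.Agent.Lib.FormalCompl.Cohom.nonempty_equiv
    (Groth.Agent.H30.IdealLemmas.isLocNoethFormal_completionAlong X 𝓚)
    (FSch.completionToX X 𝓚) (FSch.completionToX_comm X 𝓚) I ?_ F hF n fun j _ => ?_
  · intro k U
    rw [Groth.Agent.H30.ComplSec.ker_completionToX, h𝓚,
      Groth.Agent.H30.ComplHom.ideal_idealSpec_comap]
  · obtain ⟨c, hc⟩ := Groth.Agent.S0058.result A I X F hF j
    intro m
    refine ⟨Opposite.op (m.unop + c), (homOfLE (Nat.le_add_right _ c)).op, fun k g => ?_⟩
    rintro _ ⟨y, rfl⟩
    obtain ⟨z, hz⟩ := (hc m.unop (m.unop + c) (Nat.le_add_right _ c) le_rfl).le ⟨y, rfl⟩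
    refine ⟨Formal.toHHmodPow I F j k.unop z, ?_⟩
    refine (Formal.HHmap_comp _ _ j z).trans ?_
    refine Eq.trans ?_ hz
    rw [show (Formal.completion I F).map g = (Formal.completion I F).map
        (homOfLE (leOfHom g.unop)).op from congrArg _ (Subsingleton.elim _ _),
      Groth.Agent.H78.Rees.Consequences.completion_map I F (leOfHom g.unop)]
    exact congrArg (fun φ => Sheaf.H.map ((SheafOfModules.toSheaf _).map φ) j z)
      (Formal2.modPowπ_modPowLE I _ F)

end Groth.Agent.S13650
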