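import Groth.Statements.S13651
import Groth.Agent.H30.FSch.ComplMonoEpi

set_option autoImplicit false
open CategoryTheory CategoryTheory.Limits AlgebraicGeometry
universe u
open FSch

namespace Groth.Agent.S13651

/-- Let A be an adic Noetherian ring with ideal of definition J, Y = Spec A, f : X ⟶ Y of finite type
and closed (a closed map on underlying spaces), X̂ the completion of X along f⁻¹(V(J)), F and G
coherent O_X-modules whose supports have intersection proper over Y, and u : F ⟶ G a homomorphism
with completion û : F̂ ⟶ Ĝ. Then û is injective (a monomorphism of O_X̂-modules) if and only if u is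
injective, and û is surjective if and only if u is surjective. -/
theorem result (A : Type u) [CommRing A] [IsNoetherianRing A]
    (J : Ideal A) [IsAdicComplete J A] {X : Scheme.{u}} (f : X ⟶ Spec (CommRingCat.of A)) [LocallyOfFiniteType f]
    [QuasiCompact f] (hf : IsClosedMap f.base) (𝓘 : X.IdealSheafData) (h𝓘 : 𝓘 = (FSch.idealSpec A J).comap f)
    (hX : (FSch.completionAlong X 𝓘).IsFormal) (F G : X.Modules) (hF : Coh.IsCoh F) (hG : Coh.IsCoh G)
    (hs : ClSub.IsProperOver f (CohB1.support F ∩ CohB1.support G)) (u : F ⟶ G) :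
    (Mono (FSch.ModSys.realModMap hX (FSch.complModMap 𝓘 u)) ↔ Mono u) ∧
    (Epi (FSch.ModSys.realModMap hX (FSch.complModMap 𝓘 u)) ↔ Epi u) := by
  haveI : IsLocallyNoetherian (AlgebraicGeometry.Spec (CommRingCat.of A)) := inferInstance
  haveI : IsLocallyNoetherian X := AlgebraicGeometry.LocallyOfFiniteType.isLocallyNoetherian f
  have hN := Groth.Agent.S3854.result X 𝓘
  haveI : ∀ k, AlgebraicGeometry.IsClosedImmersion (FSch.completionToX X 𝓘 k) := fun k => inferInstance
  have hker : ∀ k (U : X.affineOpens), (FSch.completionToX X 𝓘 k).ker.ideal U =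
      (FSch.completionToX X 𝓘 0).ker.ideal U ^ (k + 1) := fun k U => by
    rw [Groth.Agent.H30.ComplSec.ker_completionToX, Groth.Agent.H30.ComplSec.ker_completionToX, pow_one]
  have hk0 : (FSch.completionToX X 𝓘 0).ker = 𝓘 := by
    refine AlgebraicGeometry.Scheme.IdealSheafData.ext (funext fun U => ?_)
    rw [Groth.Agent.H30.ComplSec.ker_completionToX, pow_one]
  have hsupp : ∀ K : X.Modules, Coh.IsCoh K → ∀ x ∈ CohB1.support K,
      ∃ y ∈ CohB1.support K, y ∈ (FSch.completionToX X 𝓘 0).ker.support := fun K hK x hx => by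
    rw [hk0, h𝓘]
    exact Groth.Agent.H30.ComplMonoEpi.exists_mem_support A J f hf K hK x hx
  exact Groth.Agent.H30.ComplMonoEpi.iff_of_eq hN (FSch.completionToX X 𝓘) (FSch.completionToX_comm X 𝓘) hker
    hsupp hF hG u (A := FSch.complMod 𝓘 F) (B := FSch.complMod 𝓘 G)
    (Groth.Agent.H30.ComplSec.complMod_eq X 𝓘 _) (Groth.Agent.H30.ComplSec.complMod_eq X 𝓘 _)
    (FSch.complModMap 𝓘 u)
    (Groth.Agent.H30.ComplExact.hom_heq (Groth.Agent.H30.ComplSec.complMod_eq X 𝓘 _)
      (Groth.Agent.H30.ComplSec.complMod_eq X 𝓘 _) _ _ fun _ => HEq.rfl)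

end Groth.Agent.S13651
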