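import Groth.Statements.S13656
import Groth.Agent.Lib.FBlowAff.CompDominate

set_option autoImplicit false
open CategoryTheory AlgebraicGeometry
universe u
open FBlow

namespace Groth.Agent.S13656

/-- Let R be a base ring of class (N) or (V) for the ideal I and X an admissible formal R-scheme,
presented I-adically: a formal system of thickenings X_0 → X_1 → ⋯ adic over Spf R = (Spec
R/I^(n+1))_n (all squares cartesian), with every level X_n locally of finite presentation over
R/I^(n+1), structure sheaf O_X = lim O_{X_n} on the common underlying space, and no I-torsion (over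
every open, a section of O_X annihilated by the kernel of O_X → O_{X_0} is zero); assume that the
underlying space of X is quasi-separated and quasi-paracompact (covered by quasi-compact opens each
of which meets only finitely many of the others). If X' → X is an admissible formal blowing-up of a
coherent open ideal of O_X and X'' → X' an admissible formal blowing-up of a coherent open ideal of
O_{X'}, then there is an admissible formal blowing-up X''' → X of some coherent open ideal of O_X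
dominating the composite X'' → X, that is, factoring through it by a morphism X''' → X''. -/
theorem result
    (R : Type u) [CommRing R] (I : Ideal R) (hR : AdicRing.IsBase R I)
    (𝔛 : FSch.Sys.{u}) (h : 𝔛.IsFormal) (p : 𝔛 ⟶ FSch.spf R I) (hp : FSch.IsAdicHom p)
    (hfp : ∀ n, LocallyOfFinitePresentation ((p : FSch.Hom 𝔛 (FSch.spf R I)).app n))
    (htf : ∀ (U : (𝔛.X 0).Opens) (s : (𝔛.Osh h).obj.obj (Opposite.op U)),
      (∀ a ∈ (FBlow.IdealSh.ker (𝔛.OshProj h 0)).sect U, a * s = 0) → s = 0)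
    [QuasiSeparatedSpace (𝔛.X 0)]
    (hqp : ∃ (ι : Type u) (V : ι → (𝔛.X 0).Opens), (⨆ i, V i) = ⊤ ∧ (∀ i, IsCompact (V i : Set (𝔛.X 0))) ∧
      ∀ i, Set.Finite {j : ι | V i ⊓ V j ≠ ⊥})
    (J : FBlow.IdealSh (𝔛.Osh h)) (hJ : FBlow.IsCohOpen 𝔛 h J)
    (𝔛' : FSch.Sys.{u}) (h' : 𝔛'.IsFormal) (b : 𝔛' ⟶ 𝔛) (hb : FBlow.IsAdmBlowUp b h' h J)
    (J' : FBlow.IdealSh (𝔛'.Osh h')) (hJ' : FBlow.IsCohOpen 𝔛' h' J')
    (𝔛'' : FSch.Sys.{u}) (h'' : 𝔛''.IsFormal) (b' : 𝔛'' ⟶ 𝔛') (hb' : FBlow.IsAdmBlowUp b' h'' h' J') :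
    ∃ (J''' : FBlow.IdealSh (𝔛.Osh h)) (𝔛''' : FSch.Sys.{u}) (h''' : 𝔛'''.IsFormal) (c : 𝔛''' ⟶ 𝔛),
      FBlow.IsCohOpen 𝔛 h J''' ∧ FBlow.IsAdmBlowUp c h''' h J''' ∧ ∃ s : 𝔛''' ⟶ 𝔛'', s ≫ b' ≫ b = c := by
  have hI := Groth.Agent.Lib.Adic.Base.isBase_fg hR
  have := hfp 0
  obtain ⟨ι, V, hV, hVc, hVf⟩ := hqp
  exact Groth.Agent.Lib.FBlowAff.CompDominate.main I hR h p hp inferInstance htf ι V hV hVc hVf J
    (Groth.Agent.Lib.FBlowAff.CohLocal.exists_gen h I p hp hI J hJ) h' b hb J'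
    (Groth.Agent.Lib.FBlowAff.CohLocal.exists_gen h' I (b ≫ p)
      (Groth.Agent.Lib.FBlowAff.Transport.isAdicHom_comp hb.1 hp) hI J' hJ') h'' b' hb'

end Groth.Agent.S13656
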