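import Groth.Statements.S13661
import Groth.Agent.Lib.FBlowAff.FlatPB

set_option autoImplicit false
open CategoryTheory AlgebraicGeometry
universe u
open FBlow

namespace Groth.Agent.S13661

/-- Let R be a base ring of class (N) or (V) for the ideal I and X an admissible formal R-scheme,
presented I-adically: a formal system of thickenings X_0 → X_1 → ⋯ adic over Spf R = (Spec
R/I^(n+1))_n (all squares cartesian), with every level X_n locally of finite presentation over
R/I^(n+1), structure sheaf O_X = lim O_{X_n} on the common underlying space, and no I-torsion (over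
every open, a section of O_X annihilated by the kernel of O_X → O_{X_0} is zero); let Y be a second
admissible formal R-scheme presented in the same way and Y → X an adic morphism which is flat: for
every affine open subset U of X and every affine open subset U' of Y mapped into U, the ring
homomorphism O_X(U) → O_Y(U') is flat. Let J be a coherent open ideal of O_X and X' → X an
admissible formal blowing-up of J (universal-property sense). Then the base change X' ×_X Y → Y,
formed levelwise, is an admissible formal blowing-up of the ideal J·O_Y. (The published statement is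
for a flat base change between formal schemes locally of topologically finite presentation; the
universal property asserted here is the one established for admissible formal schemes, so X and Y
are both taken admissible.) -/
theorem result
    (R : Type u) [CommRing R] (I : Ideal R) (hR : AdicRing.IsBase R I)
    (𝔛 : FSch.Sys.{u}) (h : 𝔛.IsFormal) (p : 𝔛 ⟶ FSch.spf R I) (hp : FSch.IsAdicHom p)
    (hfp : ∀ n, LocallyOfFinitePresentation ((p : FSch.Hom 𝔛 (FSch.spf R I)).app n))
    (htf : ∀ (U : (𝔛.X 0).Opens) (s : (𝔛.Osh h).obj.obj (Opposite.op U)),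
      (∀ a ∈ (FBlow.IdealSh.ker (𝔛.OshProj h 0)).sect U, a * s = 0) → s = 0)
    (𝔜 : FSch.Sys.{u}) (hY : 𝔜.IsFormal) (φ : 𝔜 ⟶ 𝔛) (hφ : FSch.IsAdicHom φ)
    (hYfp : ∀ n, LocallyOfFinitePresentation ((φ ≫ p : FSch.Hom 𝔜 (FSch.spf R I)).app n))
    (hYtf : ∀ (U : (𝔜.X 0).Opens) (s : (𝔜.Osh hY).obj.obj (Opposite.op U)),
      (∀ a ∈ (FBlow.IdealSh.ker (𝔜.OshProj hY 0)).sect U, a * s = 0) → s = 0)
    (hflat : ∀ (U : (𝔛.X 0).affineOpens) (U' : (𝔜.X 0).affineOpens)
      (e : U'.1 ≤ ((φ : FSch.Hom 𝔜 𝔛).app 0) ⁻¹ᵁ U.1),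
      RingHom.Flat (((𝔜.Osh hY).obj.map (homOfLE e).op).hom.comp
        ((FSch.Hom.sharp φ hY h).hom.app (Opposite.op U.1)).hom))
    (J : FBlow.IdealSh (𝔛.Osh h)) (hJ : FBlow.IsCohOpen 𝔛 h J)
    (𝔛' : FSch.Sys.{u}) (h' : 𝔛'.IsFormal) (b : 𝔛' ⟶ 𝔛) (hb : FBlow.IsAdmBlowUp b h' h J)
    (hP : (FSch.pullbackSys b φ).IsFormal) :
    FBlow.IsAdmBlowUp (FSch.pullbackSnd b φ) hP hY (FBlow.idealMap φ hY h J) := by
  have := hfp 0
  exact Groth.Agent.Lib.FBlowAff.FlatPB.main hR h p hp inferInstance htf hY φ hφ hflat J
    (Groth.Agent.Lib.FBlowAff.CohLocal.exists_gen h I p hp (Groth.Agent.Lib.Adic.Base.isBase_fg hR) J hJ) h' b hb hP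

end Groth.Agent.S13661
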