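import Groth.Statements.S13663
import Mathlib.Tactic.Linarith
import Mathlib.Tactic.Ring

set_option autoImplicit false
universe u
open GrRing

namespace Groth.Agent.S13663

/-- Let A be a commutative ring graded by the integers whose ideal generated by the homogeneous elements
of positive degree has homogeneous generators f_1, …, f_p, of positive degrees d_1, …, d_p, and let
d be a positive integer divisible by each d_i. Then A_N = A_d · A_{N-d} for every integer N > dp -
(d_1 + ⋯ + d_p). -/
theorem result {R A : Type u} [CommRing R] [CommRing A] [Algebra R A]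
    (𝒜 : ℤ → Submodule R A) [GradedAlgebra 𝒜]
    {p : ℕ} (f : Fin p → A) (deg : Fin p → ℤ) (hdeg : ∀ i, 0 < deg i) (hf : ∀ i, f i ∈ 𝒜 (deg i))
    (hgen : Ideal.span {a : A | ∃ n : ℤ, 0 < n ∧ a ∈ 𝒜 n} = Ideal.span (Set.range f))
    (d : ℤ) (hd : 0 < d) (hdvd : ∀ i, deg i ∣ d) (N : ℤ) (hN : d * p - ∑ i, deg i < N) :
    𝒜 N = 𝒜 d * 𝒜 (N - d) := by
  classical
  refine le_antisymm (fun a ha => ?_) (Submodule.mul_le.2 fun u hu v hv => by
    have := SetLike.GradedMul.mul_mem (A := 𝒜) hu hv
    rwa [show d + (N - d) = N by ring] at this)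
  have hsumd : ∑ i : Fin p, (d - deg i) = d * p - ∑ i, deg i := by
    rw [Finset.sum_sub_distrib, Finset.sum_const, Finset.card_univ, Fintype.card_fin, nsmul_eq_mul]; ring
  suffices main : ∀ (M : ℕ) (α : Fin p → ℕ) (x : A), (∀ i, (α i : ℤ) * deg i + deg i ≤ d) →
      (M : ℤ) + ∑ i, (α i : ℤ) * deg i = N → x ∈ 𝒜 (M : ℤ) → (∏ i, f i ^ α i) * x ∈ 𝒜 d * 𝒜 (N - d) by
    have hN0 : 0 ≤ N := by
      have : 0 ≤ ∑ i : Fin p, (d - deg i) := Finset.sum_nonneg fun i _ => by
        have := Int.le_of_dvd hd (hdvd i); omega
      omega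
    simpa using main N.toNat 0 a (fun i => by simpa using Int.le_of_dvd hd (hdvd i)) (by simp [Int.toNat_of_nonneg hN0]) (by rwa [Int.toNat_of_nonneg hN0])
  intro M
  induction M using Nat.strong_induction_on with
  | _ M ih =>
    intro α x hα hM hx
    have hMpos : 0 < (M : ℤ) := by
      have h1 : ∑ i, (α i : ℤ) * deg i ≤ ∑ i, (d - deg i) := Finset.sum_le_sum fun i _ => by have := hα i; omega
      omega
    have hxI : x ∈ Ideal.span (Set.range f) := hgen ▸ Ideal.subset_span ⟨M, hMpos, hx⟩
    obtain ⟨c, hc⟩ := (Submodule.mem_span_range_iff_exists_fun A).1 hxI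
    have hx' : x = ∑ i, (DirectSum.decompose 𝒜 (c i) ((M : ℤ) - deg i) : A) * f i := by
      conv_lhs => rw [← DirectSum.decompose_of_mem_same 𝒜 hx, ← hc]
      rw [DirectSum.decompose_sum]
      erw [DFinsupp.finset_sum_apply]
      rw [AddSubmonoidClass.coe_finset_sum]
      refine Finset.sum_congr rfl fun i _ => ?_
      rw [smul_eq_mul]
      have := DirectSum.coe_decompose_mul_add_of_right_mem 𝒜 (a := c i) (i := (M : ℤ) - deg i) (hf i)
      rwa [sub_add_cancel] at this
    rw [hx', Finset.mul_sum]
    refine Submodule.sum_mem _ fun i _ => ?_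
    set y : A := (DirectSum.decompose 𝒜 (c i) ((M : ℤ) - deg i) : A)
    have hy : y ∈ 𝒜 ((M : ℤ) - deg i) := SetLike.coe_mem _
    by_cases hbig : (α i : ℤ) * deg i + deg i = d
    · have hfi : f i ^ (α i + 1) ∈ 𝒜 d := by
        have := SetLike.pow_mem_graded (α i + 1) (hf i)
        rwa [show (α i + 1) • deg i = d by rw [nsmul_eq_mul, ← hbig]; push_cast; ring] at this
      rw [show (∏ l, f l ^ α l) * (y * f i) = f i ^ (α i + 1) * ((∏ l ∈ Finset.univ.erase i, f l ^ α l) * y) by
        rw [← Finset.mul_prod_erase _ _ (Finset.mem_univ i), pow_succ]; ring]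
      refine Submodule.mul_mem_mul hfi ?_
      have := SetLike.GradedMul.mul_mem (A := 𝒜) (SetLike.prod_mem_graded (A := 𝒜) (F := Finset.univ.erase i) (g := fun l => f l ^ α l) (i := fun l => α l • deg l) fun l _ => SetLike.pow_mem_graded (α l) (hf l)) hy
      convert this using 2
      have hs := Finset.add_sum_erase Finset.univ (fun l => (α l : ℤ) * deg l) (Finset.mem_univ i)
      simp only [nsmul_eq_mul]
      omega
    · have hlt : (α i : ℤ) * deg i + deg i < d := lt_of_le_of_ne (hα i) hbig
      let α' := Function.update α i (α i + 1)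
      have hα' : ∀ l, (α' l : ℤ) * deg l + deg l ≤ d := by
        intro l
        by_cases hl : l = i
        · subst hl
          simp only [α', Function.update_self]
          obtain ⟨t, ht⟩ := hdvd l
          have hd0 := hdeg l
          have : (α l : ℤ) + 1 < t := by
            by_contra hle
            push Not at hle
            nlinarith
          push_cast
          nlinarith
        · simp only [α', Function.update_of_ne hl]; exact hα l
      have hsum : ∑ l, (α' l : ℤ) * deg l = (∑ l, (α l : ℤ) * deg l) + deg i := by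
        rw [← Finset.add_sum_erase _ _ (Finset.mem_univ i), ← Finset.add_sum_erase _ _ (Finset.mem_univ i),
          Finset.sum_congr rfl (fun l hl => by rw [show α' l = α l from Function.update_of_ne (Finset.ne_of_mem_erase hl) _ _])]
        simp only [α', Function.update_self]
        push_cast
        ring
      rw [show (∏ l, f l ^ α l) * (y * f i) = (∏ l, f l ^ α' l) * y by
        rw [← Finset.mul_prod_erase _ _ (Finset.mem_univ i), ← Finset.mul_prod_erase _ _ (Finset.mem_univ i),
          Finset.prod_congr rfl (fun l hl => show f l ^ α' l = f l ^ α l by rw [show α' l = α l from Function.update_of_ne (Finset.ne_of_mem_erase hl) _ _])]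
        simp only [α', Function.update_self, pow_succ]
        ring]
      have hMi : deg i ≤ M := by
        have h1 : ∑ l, (α' l : ℤ) * deg l ≤ ∑ l, (d - deg l) := Finset.sum_le_sum fun l _ => by have := hα' l; omega
        omega
      obtain ⟨M', hM'⟩ : ∃ M' : ℕ, (M' : ℤ) = M - deg i := ⟨((M : ℤ) - deg i).toNat, Int.toNat_of_nonneg (by omega)⟩
      exact ih M' (by have := hdeg i; omega) α' y hα' (by omega) (hM' ▸ hy)

end Groth.Agent.S13663
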