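import Groth.Statements.S13664
import Groth.Agent.Lib.Graded.Basic
import Mathlib.RingTheory.Ideal.Colon
import Mathlib.RingTheory.Finiteness.Ideal
-- import your own Groth.Agent.* helpers here

set_option autoImplicit false
universe u
open GrRing

namespace Groth.Agent.S13664

/-- Let A be a commutative ring graded by the integers whose ideal I generated by the homogeneous
elements of positive degree has homogeneous generators f_1, …, f_p, of positive degrees d_1, …, d_p,
let d be a positive integer divisible by each d_i, and let x be an element of an A-module M. The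
following are equivalent: x is annihilated by some power of I; x is annihilated by (A_d)^n for all
sufficiently large n; there is an integer s such that A_n x = 0 for all n ≥ s. (The published
statement is for a homogeneous element of a graded module; this row drops both the grading of M and
the homogeneity of x, which play no role.) -/
theorem result {R A : Type u} [CommRing R] [CommRing A] [Algebra R A]
    (𝒜 : ℤ → Submodule R A) [GradedAlgebra 𝒜]
    {p : ℕ} (f : Fin p → A) (deg : Fin p → ℤ) (hdeg : ∀ i, 0 < deg i) (hf : ∀ i, f i ∈ 𝒜 (deg i))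
    (hgen : Ideal.span {a : A | ∃ n : ℤ, 0 < n ∧ a ∈ 𝒜 n} = Ideal.span (Set.range f))
    (d : ℤ) (hd : 0 < d) (hdvd : ∀ i, deg i ∣ d)
    {M : Type u} [AddCommGroup M] [Module A M] (x : M) :
    [x ∈ GrLC.gam (Ideal.span (Set.range f)) M,
     ∃ n₀ : ℕ, ∀ n : ℕ, n₀ ≤ n → ∀ r ∈ (𝒜 d) ^ n, r • x = 0,
     ∃ s : ℤ, ∀ n : ℤ, s ≤ n → ∀ r ∈ 𝒜 n, r • x = 0].TFAE := by
  classical
  set I := Ideal.span (Set.range f) with hI
  tfae_have 1 → 3 := by
    rintro ⟨N, hN⟩
    let D : ℤ := ∑ i, deg i
    have hD : ∀ i, deg i ≤ D := fun i =>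
      Finset.single_le_sum (fun j _ => (hdeg j).le) (Finset.mem_univ i)
    have hD0 : 0 ≤ D := Finset.sum_nonneg fun j _ => (hdeg j).le
    have key : ∀ m : ℕ, ∀ n : ℤ, (m : ℤ) * D < n → ∀ r ∈ 𝒜 n, r ∈ I ^ m := by
      intro m
      induction m with
      | zero => intro n _ r _; rw [pow_zero, Ideal.one_eq_top]; trivial
      | succ m ih =>
        intro n hn r hr
        push_cast at hn
        have hn0 : 0 < n := by nlinarith
        have hrI : r ∈ I := hgen ▸ Ideal.subset_span ⟨n, hn0, hr⟩
        obtain ⟨c, hc⟩ := (Submodule.mem_span_range_iff_exists_fun A).1 hrI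
        rw [← Groth.Agent.Lib.Graded.Basic.proj_of_mem 𝒜 hr, ← hc, map_sum]
        refine sum_mem fun i _ => ?_
        rw [Groth.Agent.Lib.Graded.Basic.proj_smul_mem 𝒜 𝒜 (hf i), pow_succ, smul_eq_mul]
        refine Ideal.mul_mem_mul (ih (n - deg i) ?_ _ (Groth.Agent.Lib.Graded.Basic.proj_mem _ _ _))
          (Ideal.subset_span ⟨i, rfl⟩)
        have := hD i
        nlinarith
    exact ⟨(N : ℤ) * D + 1, fun n hn r hr => hN r (key N n (by omega) r hr)⟩
  tfae_have 3 → 2 := by
    rintro ⟨s, hs⟩
    refine ⟨s.toNat, fun n hn r hr => hs ((n : ℤ) * d) ?_ r ?_⟩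
    · have h1 : s ≤ (n : ℤ) := by omega
      have h2 : (n : ℤ) ≤ (n : ℤ) * d := by nlinarith
      omega
    · have hle : (𝒜 d) ^ n ≤ 𝒜 ((n : ℤ) * d) := by
        clear hn hr
        induction n with
        | zero =>
          rw [pow_zero, Submodule.one_le]
          simpa using SetLike.one_mem_graded 𝒜
        | succ n ih =>
          rw [pow_succ]
          refine le_trans (mul_le_mul' ih le_rfl) (Submodule.mul_le.2 fun a ha b hb => ?_)
          have := SetLike.mul_mem_graded ha hb
          rw [show ((n + 1 : ℕ) : ℤ) * d = (n : ℤ) * d + d by push_cast; ring]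
          exact this
      exact hle hr
  tfae_have 2 → 1 := by
    rintro ⟨n₀, hn₀⟩
    let T : Ideal A := (Submodule.span A ({x} : Set M)).annihilator
    have hT : ∀ r, r ∈ T ↔ r • x = 0 := fun r => Submodule.mem_annihilator_span_singleton x r
    have hrad : I ≤ T.radical := Ideal.span_le.2 (by
      rintro _ ⟨i, rfl⟩
      refine ⟨(d / deg i).toNat * n₀, (hT _).2 (hn₀ n₀ le_rfl _ ?_)⟩
      rw [pow_mul]
      refine Submodule.pow_mem_pow _ ?_ n₀
      have hm := SetLike.pow_mem_graded (A := 𝒜) (d / deg i).toNat (hf i)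
      have h0 : 0 ≤ d / deg i := Int.ediv_nonneg hd.le (hdeg i).le
      rwa [nsmul_eq_mul, Int.toNat_of_nonneg h0, Int.ediv_mul_cancel (hdvd i)] at hm)
    obtain ⟨N, hN⟩ := Ideal.exists_pow_le_of_le_radical_of_fg hrad (Submodule.fg_span (Set.finite_range f))
    exact ⟨N, fun r hr => (hT r).1 (hN hr)⟩
  tfae_finish

end Groth.Agent.S13664
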