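import Groth.Statements.S13665
import Mathlib.RingTheory.GradedAlgebra.Homogeneous.Ideal
import Mathlib.RingTheory.FiniteType
import Mathlib.RingTheory.Polynomial.Basic
import Mathlib.Tactic.TFAE

set_option autoImplicit false
universe u
open GrRing

namespace Groth.Agent.S13665

open DirectSum

variable {R A : Type u} [CommRing R] [CommRing A] [Algebra R A] (𝒜 : ℤ → Submodule R A) [GradedAlgebra 𝒜]

/-- A homogeneous component as a module over the degree zero subring. -/
def piece (j : ℤ) : Submodule (𝒜 0) A where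
  carrier := 𝒜 j
  add_mem' := (𝒜 j).add_mem
  zero_mem' := (𝒜 j).zero_mem
  smul_mem' c x hx := by
    have := SetLike.mul_mem_graded (A := 𝒜) c.2 hx
    rwa [zero_add] at this

theorem mem_piece {j : ℤ} {x : A} : x ∈ piece 𝒜 j ↔ x ∈ 𝒜 j := Iff.rfl

variable (h2 : ∀ I : Ideal A, I.IsHomogeneous 𝒜 → I.FG)

include h2 in
theorem fg_of_le_piece {j : ℤ} (N : Submodule (𝒜 0) A) (hN : N ≤ piece 𝒜 j) : N.FG := by
  classical
  have hI := h2 _ (Ideal.homogeneous_span 𝒜 (N : Set A) fun x hx => ⟨j, hN hx⟩)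
  obtain ⟨s, hs, hspan⟩ := (Submodule.fg_span_iff_fg_span_finset_subset (N : Set A)).1 hI
  refine ⟨s, le_antisymm (Submodule.span_le.2 hs) fun x hx => ?_⟩
  have hx' : x ∈ Submodule.span A (s : Set A) := hspan ▸ Submodule.subset_span hx
  obtain ⟨c, hc⟩ := Submodule.mem_span_finset.1 hx'
  have := congrArg (GradedRing.proj 𝒜 j) hc.2
  simp only [map_sum, GradedRing.proj_apply,
    decompose_of_mem_same 𝒜 (mem_piece 𝒜 |>.1 (hN hx))] at this
  rw [← this]
  refine Submodule.sum_mem _ fun a ha => ?_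
  have h0 : (decompose 𝒜 (c a * a) j : A) = (decompose 𝒜 (c a) 0 : A) * a := by
    conv_lhs => rw [show j = 0 + j from (zero_add j).symm]
    exact coe_decompose_mul_add_of_right_mem 𝒜 (hN (hs ha))
  rw [smul_eq_mul, h0]
  exact Submodule.smul_mem _ (decompose 𝒜 (c a) 0) (Submodule.subset_span ha)

include h2 in
theorem noetherian_zero : IsNoetherianRing (𝒜 0) := by
  refine ⟨fun J => ?_⟩
  let l : (𝒜 0) →ₗ[𝒜 0] A := Algebra.linearMap (𝒜 0) A
  have hl : Function.Injective l := Subtype.val_injective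
  refine Submodule.fg_of_fg_map_injective l hl (fg_of_le_piece 𝒜 h2 (j := 0) _ ?_)
  rintro - ⟨x, -, rfl⟩
  exact x.2

include h2 in
theorem adjoin_fg (ε : ℤ) (hε : ε = 1 ∨ ε = -1) :
    (Algebra.adjoin (𝒜 0) {a : A | ∃ n : ℕ, a ∈ 𝒜 (ε * n)}).FG := by
  classical
  let T : Set A := {a : A | ∃ n : ℕ, 1 ≤ n ∧ a ∈ 𝒜 (ε * n)}
  obtain ⟨s, hs, hspan⟩ := (Submodule.fg_span_iff_fg_span_finset_subset T).1
    (h2 _ (Ideal.homogeneous_span 𝒜 T fun x hx => ⟨_, hx.choose_spec.2⟩))
  choose! d hd using fun x (hx : x ∈ s) => hs hx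
  let D := s.sup d
  choose g hg using fun j : ℕ => fg_of_le_piece 𝒜 h2 (piece 𝒜 (ε * j)) le_rfl
  let S : Finset A := s ∪ (Finset.range (D + 1)).biUnion g
  refine ⟨S, le_antisymm (Algebra.adjoin_mono ?_) (Algebra.adjoin_le ?_)⟩
  · intro x hx
    simp only [S, Finset.coe_union, Set.mem_union, Finset.coe_biUnion, Set.mem_iUnion] at hx
    rcases hx with hx | ⟨j, -, hx⟩
    · exact ⟨d x, (hd x hx).2⟩
    · exact ⟨j, mem_piece 𝒜 |>.1 (hg j ▸ Submodule.subset_span hx)⟩
  · rintro a ⟨n, hn⟩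
    induction n using Nat.strong_induction_on generalizing a with
    | _ n ih =>
      by_cases hnD : n ≤ D
      · have ha : a ∈ Submodule.span (𝒜 0) (g n : Set A) := (hg n).symm ▸ hn
        refine (Submodule.span_le (p := (Algebra.adjoin (𝒜 0) (S : Set A)).toSubmodule)).2 ?_ ha
        intro x hx
        refine Algebra.subset_adjoin ?_
        simp only [S, Finset.coe_union, Set.mem_union, Finset.coe_biUnion, Set.mem_iUnion]
        exact Or.inr ⟨n, Finset.mem_coe.2 (Finset.mem_range.2 (by omega)), hx⟩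
      · have ha : a ∈ Submodule.span A (s : Set A) := hspan ▸ Submodule.subset_span ⟨n, by omega, hn⟩
        obtain ⟨c, hc⟩ := Submodule.mem_span_finset.1 ha
        have := congrArg (GradedRing.proj 𝒜 (ε * n)) hc.2
        simp only [map_sum, GradedRing.proj_apply,
          decompose_of_mem_same 𝒜 hn] at this
        rw [← this]
        refine Subalgebra.sum_mem _ fun x hx => ?_
        have hdx := hd x hx
        have hdD : d x ≤ D := Finset.le_sup hx
        have h0 : (decompose 𝒜 (c x * x) (ε * n) : A) = (decompose 𝒜 (c x) (ε * (n - d x : ℕ)) : A) * x := by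
          conv_lhs => rw [show ε * (n : ℤ) = ε * ((n - d x : ℕ) : ℤ) + ε * (d x : ℤ) by
            rw [← mul_add, ← Nat.cast_add, Nat.sub_add_cancel (by omega)]]
          exact coe_decompose_mul_add_of_right_mem 𝒜 hdx.2
        rw [smul_eq_mul, h0]
        refine Subalgebra.mul_mem _ ?_ (Algebra.subset_adjoin (Finset.mem_union_left _ hx))
        exact ih (n - d x) (by omega) (decompose 𝒜 (c x) _).2


/-- For a commutative ring A graded by the integers, with degree-zero subring A_0, the following are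
equivalent: A is Noetherian; each homogeneous ideal of A has a finite generating set; A_0 is
Noetherian and the subalgebras A_{≥0}, A_{≤0} are each of finite type over A_0; A_0 is Noetherian
and A is an A_0-algebra of finite type. -/
theorem result {R A : Type u} [CommRing R] [CommRing A] [Algebra R A]
    (𝒜 : ℤ → Submodule R A) [GradedAlgebra 𝒜] :
    [IsNoetherianRing A,
     ∀ I : Ideal A, I.IsHomogeneous 𝒜 → I.FG,
     IsNoetherianRing (𝒜 0) ∧ (Algebra.adjoin (𝒜 0) {a : A | ∃ n : ℤ, 0 ≤ n ∧ a ∈ 𝒜 n}).FG ∧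
       (Algebra.adjoin (𝒜 0) {a : A | ∃ n : ℤ, n ≤ 0 ∧ a ∈ 𝒜 n}).FG,
     IsNoetherianRing (𝒜 0) ∧ Algebra.FiniteType (𝒜 0) A].TFAE := by
  classical
  tfae_have 1 → 2 := fun h I _ => IsNoetherian.noetherian I
  tfae_have 2 → 3 := fun h => by
    refine ⟨noetherian_zero 𝒜 h, ?_, ?_⟩
    · convert adjoin_fg 𝒜 h 1 (Or.inl rfl) using 3
      ext a
      simp only [Set.mem_setOf_eq, one_mul]
      exact ⟨fun ⟨n, hn, ha⟩ => ⟨n.toNat, by rwa [Int.toNat_of_nonneg hn]⟩,
        fun ⟨n, ha⟩ => ⟨n, by omega, ha⟩⟩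
    · convert adjoin_fg 𝒜 h (-1) (Or.inr rfl) using 3
      ext a
      simp only [Set.mem_setOf_eq, neg_one_mul]
      exact ⟨fun ⟨n, hn, ha⟩ => ⟨(-n).toNat, by rwa [Int.toNat_of_nonneg (by omega), neg_neg]⟩,
        fun ⟨n, ha⟩ => ⟨-n, by omega, ha⟩⟩
  tfae_have 3 → 4 := fun ⟨h0, h1, h2⟩ => by
    refine ⟨h0, ⟨?_⟩⟩
    obtain ⟨s, hs⟩ := h1
    obtain ⟨t, ht⟩ := h2
    refine ⟨s ∪ t, eq_top_iff.2 fun a _ => ?_⟩
    rw [← DirectSum.sum_support_decompose 𝒜 a]
    refine Subalgebra.sum_mem _ fun n _ => ?_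
    rw [Finset.coe_union, Algebra.adjoin_union, hs, ht]
    rcases le_total 0 n with hn | hn
    · exact (le_sup_left (b := Algebra.adjoin (𝒜 0) _)) (Algebra.subset_adjoin ⟨n, hn, (decompose 𝒜 a n).2⟩)
    · exact (le_sup_right (a := Algebra.adjoin (𝒜 0) _)) (Algebra.subset_adjoin ⟨n, hn, (decompose 𝒜 a n).2⟩)
  tfae_have 4 → 1 := fun ⟨h0, h1⟩ =>
    haveI := h0; haveI := h1; Algebra.FiniteType.isNoetherianRing (𝒜 0) A
  tfae_finish

end Groth.Agent.S13665
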