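import Groth.Statements.S1367
import Groth.Agent.Lib.Amp36.Chart

set_option autoImplicit false
universe u
open FlatMor

namespace Groth.Agent.S1367

open AlgebraicGeometry CategoryTheory Limits in
/-- Let f : X → Y be proper and y a point whose fibre has dimension at most 1 and satisfies H^1(X_y, O)
= 0. Then there is an open neighbourhood V of y such that R^1 f_* O_X vanishes on V, in the concrete
sense that H^1 of the structure sheaf vanishes on the preimage of every affine open of V, and the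
same holds for the base change of f along any morphism to V. -/
theorem result {X Y : Scheme.{u}} (f : X ⟶ Y) [IsProper f] (y : Y)
    (hdim : topologicalKrullDim ↑(f.fiber y) ≤ 1) (hH1 : Subsingleton (Coh.HH (f.fiber y) (Coh.structureModule (f.fiber y)) 1)) :
    ∃ V : Y.Opens, y ∈ V ∧ ∀ (Y' : Scheme.{u}) (g : Y' ⟶ (V : Scheme.{u})) (U : Y'.Opens), IsAffineOpen U →
      Subsingleton (Coh.HHon (pullback f (g ≫ V.ι)) (Coh.structureModule (pullback f (g ≫ V.ι))) (pullback.snd f (g ≫ V.ι) ⁻¹ᵁ U) 1) := by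
  obtain ⟨V₀, hy₀, hV₀⟩ := Groth.Agent.Lib.Amp36.Chart.exists_nhd f 1 y hdim
  obtain ⟨W, hW, hyW, hWV⟩ := exists_isAffineOpen_mem_and_subset hy₀
  have hd : ∀ t ∈ W, topologicalKrullDim ↥(f.fiber t) ≤ ((1 : ℕ) : WithBot ℕ∞) :=
    fun t ht => hV₀ t (hWV ht)
  letI := Groth.Agent.Lib.Amp36.Chart.ov f hW
  haveI := Groth.Agent.Lib.Amp36.Chart.isProper_ov f hW
  obtain ⟨s, hs, hkill⟩ := Groth.Agent.Lib.Amp36.Chart.exists_annihilator f hW 1 hd hyW hH1
  refine ⟨Y.basicOpen s, hs, fun Y' g U hU => ?_⟩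
  have eV : U ≤ (g ≫ (Y.basicOpen s).ι) ⁻¹ᵁ Y.basicOpen s := fun x _ => (g x).2
  have e : U ≤ (g ≫ (Y.basicOpen s).ι) ⁻¹ᵁ W := fun x hx => Y.basicOpen_le s (eV hx)
  rw [Groth.Agent.Lib.Amp36.Chart.HHon_iff,
    Groth.Agent.Lib.Amp36.Chart.subsingleton_iff f hW (IsPullback.of_hasPullback f _) hU e 1]
  letI : Algebra Γ(Y, W) Γ(Y', U) :=
    ((g ≫ (Y.basicOpen s).ι).appLE W U e).hom.toAlgebra
  refine Groth.Agent.Lib.Amp36.TopVanish.zero_of_isUnit Γ(Y, W) _
    (Groth.Agent.Lib.Amp36.Chart.van f hW 1 hd 1 le_rfl) s hkill _ ?_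
  show IsUnit (((g ≫ (Y.basicOpen s).ι).appLE W U e) s)
  rw [← Scheme.Hom.map_appLE (g ≫ (Y.basicOpen s).ι) eV (homOfLE (Y.basicOpen_le s)).op]
  rw [CommRingCat.comp_apply]
  exact IsUnit.map _ (RingedSpace.isUnit_res_basicOpen Y.toLocallyRingedSpace.toRingedSpace s)

end Groth.Agent.S1367
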