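import Groth.Statements.S1368
import Groth.Agent.Lib.RelAss.Affine
import Groth.Agent.Lib.RelAss.Base

set_option autoImplicit false
universe u
open FlatMor

namespace Groth.Agent.S1368

open AlgebraicGeometry CategoryTheory Limits in
/-- Let f be of finite type with irreducible target, F a quasi-coherent module of finite type on the
source and U an open of the source. If the associated points of F restricted to the generic fibre
all lie in U, then over some nonempty open of the target the associated points of F restricted to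
every fibre lie in U. -/
theorem result {X Y : Scheme.{u}} (f : X ⟶ Y) [IrreducibleSpace ↑Y] [LocallyOfFiniteType f] [QuasiCompact f]
    (F : X.Modules) (hF : Coh.IsCoh F) (U : X.Opens)
    (h : ∀ x ∈ MoreMor.relAss f F, f x = genericPoint ↑Y → x ∈ U) :
    ∃ V : Y.Opens, (V : Set ↑Y).Nonempty ∧ ∀ x ∈ MoreMor.relAss f F, f x ∈ V → x ∈ U := by
  haveI := hF.1
  haveI := hF.2
  obtain ⟨W, hW, hyW, -⟩ := exists_isAffineOpen_mem_and_subset (U := (⊤ : Y.Opens)) (x := genericPoint ↑Y) trivial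
  have key : ∀ x : (f ⁻¹ᵁ W : X.Opens), ∃ (O : X.Opens) (V : Y.Opens), (x : X) ∈ O ∧ genericPoint ↑Y ∈ V ∧ V ≤ W ∧
      ∀ z ∈ MoreMor.relAss f F, z ∈ O → f z ∈ V → z ∈ U := by
    rintro ⟨x, hxW⟩
    obtain ⟨O, hO, hxO, e⟩ := exists_isAffineOpen_mem_and_subset (U := f ⁻¹ᵁ W) (x := x) hxW
    let _ := (f.appLE W O e).hom.toAlgebra
    haveI : Algebra.FiniteType Γ(Y, W) Γ(X, O) := f.finiteType_appLE hW hO e
    haveI : Module.Finite Γ(X, O) Γ(F, O) := Lib.CohBasics.Affine.finite_sections hO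
    let p := (hW.primeIdealOf ⟨genericPoint ↑Y, hyW⟩).asIdeal
    obtain ⟨s, hs⟩ : ∃ s : Finset Γ(X, O), (∀ h ∈ s, X.basicOpen h ≤ U) ∧
        ∀ P : Ideal Γ(X, O), P.LiesOver p → P ∈ associatedPrimes Γ(X, O) (_root_.FlatCA.fiberMod p Γ(X, O) Γ(F, O)) →
          ∃ h ∈ s, h ∉ P := by
      classical
      have hone : ∀ P : {P : Ideal Γ(X, O) // P.LiesOver p ∧
          P ∈ associatedPrimes Γ(X, O) (_root_.FlatCA.fiberMod p Γ(X, O) Γ(F, O))},
          ∃ h : Γ(X, O), X.basicOpen h ≤ U ∧ h ∉ P.1 := by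
        rintro ⟨P, hPp, hP⟩
        haveI := hP.1
        obtain ⟨z, hz, hzy, hzP⟩ := Lib.RelAss.Affine.exists_point f hW hO e hyW P hPp
        subst hzP
        have aux : ∀ (y' : Y) (hy' : y' ∈ W), f z = y' → (hO.primeIdealOf ⟨z, hz⟩).asIdeal ∈ associatedPrimes Γ(X, O)
            (_root_.FlatCA.fiberMod (hW.primeIdealOf ⟨y', hy'⟩).asIdeal Γ(X, O) Γ(F, O)) → z ∈ MoreMor.relAss f F := by
          rintro _ _ rfl h'
          exact (Lib.RelAss.Affine.mem_relAss_iff f hW hO e F hz).2 h'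
        have hzass : z ∈ MoreMor.relAss f F := aux _ hyW hzy hP
        obtain ⟨h, hhU, hzh⟩ := hO.exists_basicOpen_le (⟨z, h z hzass hzy⟩ : U) hz
        exact ⟨h, hhU, (Lib.RelAss.Affine.mem_basicOpen_iff hO hz h).1 hzh⟩
      choose c hc hc' using hone
      haveI := Lib.RelAss.Base.finite_assoc (B := Γ(X, O)) (M := Γ(F, O)) p
      haveI := Fintype.ofFinite {P : Ideal Γ(X, O) // P.LiesOver p ∧
          P ∈ associatedPrimes Γ(X, O) (_root_.FlatCA.fiberMod p Γ(X, O) Γ(F, O))}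
      exact ⟨Finset.univ.image c, fun h hh => by obtain ⟨P, -, rfl⟩ := Finset.mem_image.1 hh; exact hc P,
        fun P h1 h2 => ⟨c ⟨P, h1, h2⟩, Finset.mem_image_of_mem c (Finset.mem_univ _), hc' ⟨P, h1, h2⟩⟩⟩
    obtain ⟨g, hg, H⟩ := Lib.RelAss.Base.exists_open_avoid p (fun i : Fin s.card => ((s.equivFin.symm i : s) : Γ(X, O)))
      fun P hl hP => by
        obtain ⟨h', h's, h'P⟩ := hs.2 P hl hP
        exact ⟨s.equivFin ⟨h', h's⟩, by rwa [Equiv.symm_apply_apply]⟩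
    refine ⟨O, Y.basicOpen g, hxO, (Lib.RelAss.Affine.mem_basicOpen_iff hW hyW g).2 hg, Y.basicOpen_le g,
      fun z hz hzO hzg => ?_⟩
    obtain ⟨i, hi⟩ := H _ ((Lib.RelAss.Affine.specializes_iff hW hyW (e hzO)).1 (genericPoint_specializes _))
      ((Lib.RelAss.Affine.mem_basicOpen_iff hW (e hzO) g).1 hzg) _
      (Lib.RelAss.Affine.liesOver_primeIdealOf f hW hO e hzO)
      ((Lib.RelAss.Affine.mem_relAss_iff f hW hO e F hzO).1 hz)
    exact hs.1 _ (s.equivFin.symm i).2 ((Lib.RelAss.Affine.mem_basicOpen_iff hO hzO _).2 hi)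
  choose O V hxO hyV hVW hOV using key
  obtain ⟨t, ht⟩ := (f.isCompact_preimage hW.isCompact).elim_finite_subcover (fun x => (O x : Set X))
    (fun x => (O x).isOpen) fun x hx => Set.mem_iUnion.2 ⟨⟨x, hx⟩, hxO ⟨x, hx⟩⟩
  refine ⟨W ⊓ ⟨⋂ x ∈ t, (V x : Set Y), isOpen_biInter_finset fun x _ => (V x).isOpen⟩,
    ⟨genericPoint ↑Y, hyW, Set.mem_iInter₂.2 fun x _ => hyV x⟩, fun z hz hzV => ?_⟩
  obtain ⟨x, hx, hzx⟩ := Set.mem_iUnion₂.1 (ht (show z ∈ f ⁻¹ᵁ W from hzV.1))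
  exact hOV x z hz hzx (Set.mem_iInter₂.1 hzV.2 x hx)

end Groth.Agent.S1368
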