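import Groth.Statements.S13682
import Mathlib.LinearAlgebra.Multilinear.Basic
import Mathlib.Tactic.Abel
import Mathlib.Tactic.LinearCombination

set_option autoImplicit false
universe u v w
open scoped BigOperators
open BTGrp

namespace Groth.Agent.S13682

variable {A : Type*} [CommRing A] {r : ℕ} {M : Fin r → Type*} {N : Type*}
  [∀ i, AddCommGroup (M i)] [∀ i, Module A (M i)] [AddCommGroup N] [Module A N]

theorem telescope (φ : MultilinearMap A M N) (x x' : ∀ i, M i) :
    φ x - φ x' = ∑ i, φ (fun m => if m < i then x m else if m = i then x m - x' m else x' m) := by
  let g : ℕ → N := fun t => φ fun m : Fin r => if (m : ℕ) < t then x m else x' m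
  have h1 : φ x - φ x' = g r - g 0 := by simp [g]
  rw [h1, ← Finset.sum_range_sub g r, ← Fin.sum_univ_eq_sum_range (fun t => g (t + 1) - g t)]
  refine Finset.sum_congr rfl fun i _ => ?_
  let z : ∀ m, M m := fun m => if m < i then x m else x' m
  have e1 : (fun m : Fin r => if (m : ℕ) < (i : ℕ) + 1 then x m else x' m) = Function.update z i (x i) := by
    funext m
    by_cases h : m = i
    · subst h; simp
    · have h' : (m : ℕ) ≠ i := fun e => h (Fin.ext e)
      have h'' : ((m : ℕ) < i + 1) = (m < i) := by rw [Fin.lt_def]; apply propext; omega
      rw [Function.update_of_ne h]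
      simp only [z, h'']
  have e2 : (fun m : Fin r => if (m : ℕ) < (i : ℕ) then x m else x' m) = Function.update z i (x' i) := by
    funext m
    by_cases h : m = i
    · subst h; simp
    · rw [Function.update_of_ne h]; simp only [z, Fin.lt_def]
  have e3 : (fun m => if m < i then x m else if m = i then x m - x' m else x' m) =
      Function.update z i (x i - x' i) := by
    funext m
    by_cases h : m = i
    · subst h; simp
    · simp [h, z]
  simp only [g, e1, e2, e3, φ.map_update_sub]

theorem hybrid (φ : MultilinearMap A M N) (a b c Y u : ∀ i, M i) (α : A)
    (hY : ∀ i, b i - a i = α • Y i) (hu : ∀ i, c i - b i = α • u i) :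
    ∑ i, φ (fun m => if m < i then c m else if m = i then Y m else a m)
      + ∑ i, φ (fun m => if m < i then c m else if m = i then u m else a m) =
    ∑ i, φ (fun m => if m < i then b m else if m = i then Y m else a m)
      + ∑ i, φ (fun m => if m < i then c m else if m = i then u m else b m) := by
  let H : Fin r → Fin r → N := fun i k => if i < k then
    α • φ (fun m => if m < i then c m else if m = i then u m else if m < k then b m
      else if m = k then Y m else a m) else 0
  have upd : ∀ (f : ∀ m, M m) (i : Fin r) (v : M i), f i = α • v →
      φ f = α • φ (Function.update f i v) := by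
    intro f i v h
    rw [← φ.map_update_smul, ← h, Function.update_eq_self]
  have hA : ∑ k, φ (fun m => if m < k then c m else if m = k then Y m else a m) -
      ∑ k, φ (fun m => if m < k then b m else if m = k then Y m else a m) = ∑ k, ∑ i, H i k := by
    rw [← Finset.sum_sub_distrib]
    refine Finset.sum_congr rfl fun k _ => ?_
    rw [telescope]
    refine Finset.sum_congr rfl fun i _ => ?_
    by_cases hik : i < k
    · rw [upd _ i (u i) (by simp [hik, hu])]
      simp only [H, if_pos hik]
      congr 2; funext m
      by_cases h : m = i
      · subst h; simp
      · rw [Function.update_of_ne h]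
        by_cases h' : m < i
        · simp [h', h'.trans hik]
        · simp [h, h']
    · simp only [H, if_neg hik]
      refine φ.map_coord_zero i ?_
      simp [hik]
  have hB : ∑ i, φ (fun m => if m < i then c m else if m = i then u m else b m) -
      ∑ i, φ (fun m => if m < i then c m else if m = i then u m else a m) = ∑ i, ∑ k, H i k := by
    rw [← Finset.sum_sub_distrib]
    refine Finset.sum_congr rfl fun i _ => ?_
    rw [telescope]
    refine Finset.sum_congr rfl fun k _ => ?_
    by_cases hik : i < k
    · rw [upd _ k (Y k) (by simp [hik.not_gt, hik.ne', hY])]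
      simp only [H, if_pos hik]
      congr 2; funext m
      by_cases h : m = k
      · subst h; simp [hik.not_gt, hik.ne']
      · rw [Function.update_of_ne h]
        by_cases hmk : m < k
        · simp [hmk]
        · have h1 : ¬ m < i := fun h1 => hmk (h1.trans hik)
          have h2 : m ≠ i := fun h2 => hmk (h2 ▸ hik)
          simp [hmk, h, h1, h2]
    · simp only [H, if_neg hik]
      refine φ.map_coord_zero k ?_
      by_cases h : k = i
      · subst h; simp
      · simp [h, lt_of_le_of_ne (le_of_not_gt hik) h]
  rw [Finset.sum_comm] at hB
  linear_combination (norm := abel) hA - hB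

/-- Let A be a commutative ring, α ∈ A a non-zero-divisor, M_1, …, M_r and N modules over A and φ : M_1
× ⋯ × M_r → N an A-multilinear map. Let n be a natural number and let y_{i,j} (j < n) and w_{i,j} (j
≤ n) be elements of M_i with w_{i,j+1} = w_{i,j} + α y_{i,j} for all i and all j < n. Then Σ_i
Σ_{j<n} φ(w_{1,j+1}, …, w_{i-1,j+1}, y_{i,j}, w_{i+1,j}, …, w_{r,j}) = Σ_i Σ_{j<n} φ(w_{1,n}, …,
w_{i-1,n}, y_{i,j}, w_{i+1,0}, …, w_{r,0}). (The published statement takes n ≥ 1; for n = 0 both
sides are empty sums. The families y, w are indexed by all natural numbers here and only the indices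
named above enter.) -/
theorem result {A : Type u} [CommRing A] (α : A) (hα : α ∈ nonZeroDivisors A)
    {r : ℕ} (M : Fin r → Type v) (N : Type w) [∀ i, AddCommGroup (M i)] [∀ i, Module A (M i)]
    [AddCommGroup N] [Module A N] (φ : MultilinearMap A M N) (n : ℕ)
    (y w : ∀ i, ℕ → M i) (hw : ∀ i, ∀ j < n, w i (j + 1) = w i j + α • y i j) :
    (∑ i : Fin r, ∑ j ∈ Finset.range n,
        φ (fun k => if k < i then w k (j + 1) else if k = i then y k j else w k j)) =
      ∑ i : Fin r, ∑ j ∈ Finset.range n,
        φ (fun k => if k < i then w k n else if k = i then y k j else w k 0) := by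
  classical
  induction n with
  | zero => simp
  | succ n ih =>
    have ih := ih (fun i j hj => hw i j (by omega))
    rw [Finset.sum_congr rfl (fun i _ => Finset.sum_range_succ _ n), Finset.sum_add_distrib, ih]
    simp only [Finset.sum_range_succ _ n, Finset.sum_add_distrib]
    have hY : ∀ i k, ∑ j ∈ Finset.range n,
        φ (fun m => if m < i then w m k else if m = i then y m j else w m 0) =
        φ (fun m => if m < i then w m k else if m = i then ∑ j ∈ Finset.range n, y m j else w m 0) := by
      intro i k
      have e : ∀ v : M i, (fun m => if m < i then w m k else if m = i then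
          Function.update (fun m => w m 0) i v m else w m 0) =
          Function.update (fun m => if m < i then w m k else w m 0) i v := by
        intro v; funext m
        by_cases h : m = i
        · subst h; simp
        · by_cases h' : m < i <;> simp [h, h']
      have e' : ∀ f : ∀ m, M m, (fun m => if m < i then w m k else if m = i then f m else w m 0) =
          Function.update (fun m => if m < i then w m k else w m 0) i (f i) := by
        intro f; funext m
        by_cases h : m = i
        · subst h; simp
        · by_cases h' : m < i <;> simp [h, h']
      simp only [e' (fun m => ∑ j ∈ Finset.range n, y m j), e', φ.map_update_sum]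
    simp only [hY]
    have hsub : ∀ i, w i n - w i 0 = α • ∑ j ∈ Finset.range n, y i j := by
      intro i
      rw [Finset.smul_sum, ← Finset.sum_range_sub (fun j => w i j) n]
      refine Finset.sum_congr rfl fun j hj => ?_
      rw [hw i j (by simp at hj; omega)]; abel
    have h2 := hybrid φ (fun i => w i 0) (fun i => w i n) (fun i => w i (n + 1))
      (fun i => ∑ j ∈ Finset.range n, y i j) (fun i => y i n) α hsub
      (fun i => by rw [hw i n (by omega)]; abel)
    linear_combination (norm := abel) -h2

end Groth.Agent.S13682
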