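import Groth.Statements.S13689
import Groth.Agent.Lib.CohDelta.KBC.Isotypic
-- import your own Groth.Agent.* helpers here

set_option autoImplicit false
universe u
open CategoryTheory CategoryTheory.Limits AlgebraicGeometry
open ASBun

namespace Groth.Agent.S13689

open W4c1astiltbs12 in
/-- Let X be proper over a field k, K an algebraic closure of k with projection π : X_K → X, and E a
nonzero finite locally free O_X-module which is absolutely rank-one-isotypical: π^*E ≅ L^{⊕r} for
some r and some invertible O_{X_K}-module L that is indecomposable (nonzero, and in any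
decomposition as a direct sum one summand is zero; for an invertible module this says X_K is
connected). Then E ≅ G^{⊕n} for some n and some indecomposable finite locally free O_X-module G, and
G is unique: any indecomposable G and G' with E ≅ G^{⊕n} and E ≅ G'^{⊕m} are isomorphic. (The
published statement assumes k infinite and X projective, and its extension in the text X proper and
geometrically integral; the argument uses only properness of X and indecomposability of the type L,
without which the structure sheaf of two points is a counterexample.) -/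
theorem result (k : Type u) [Field k] {X : Scheme.{u}}
    (p : X ⟶ Spec (CommRingCat.of k)) [IsProper p] (K : Type u) [Field K] [Algebra k K]
    [IsAlgClosure k K] (E : X.Modules) (hE : FlatMod.IsFinLocFree E) (hE0 : ¬ IsZero E)
    (L : (W4bk4gw11416.baseChange p K).Modules) (hL : PicF.IsInvertible L)
    (hLi : (¬ IsZero L ∧ ∀ A B : (W4bk4gw11416.baseChange p K).Modules, Nonempty (L ≅ A ⊞ B) → IsZero A ∨ IsZero B))
    (r : ℕ) (e : Nonempty (bcMod p K E ≅ pow L r)) :
    (∃ (G : X.Modules) (n : ℕ), FlatMod.IsFinLocFree G ∧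
      (¬ IsZero G ∧ ∀ A B : X.Modules, Nonempty (G ≅ A ⊞ B) → IsZero A ∨ IsZero B) ∧
      Nonempty (E ≅ pow G n)) ∧
    (∀ (G G' : X.Modules) (n m : ℕ),
      (¬ IsZero G ∧ ∀ A B : X.Modules, Nonempty (G ≅ A ⊞ B) → IsZero A ∨ IsZero B) →
      (¬ IsZero G' ∧ ∀ A B : X.Modules, Nonempty (G' ≅ A ⊞ B) → IsZero A ∨ IsZero B) →
      Nonempty (E ≅ pow G n) → Nonempty (E ≅ pow G' m) → Nonempty (G ≅ G')) := by
  open Groth.Agent.Lib CohDelta in
  exact (by
    haveI : IsAlgClosed K := IsAlgClosure.isAlgClosed k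
    haveI : Algebra.IsAlgebraic k K := IsAlgClosure.isAlgebraic
    have hEc := Perfect.Coherent.isCoh_of_isFinLocFree hE
    obtain ⟨G, n, hGc, hGi, ⟨i, t, hit⟩, hn, ⟨φ⟩⟩ := KBC.exists_pow_of_isotypic p K hEc hE0
      (Ample.GG.isCoh_of_isInvertible hL) hLi e.some
    refine ⟨⟨G, n, KBC.isFinLocFree_retract i t hit hE, hGi, ⟨φ⟩⟩, fun G₁ G₂ a b h₁ h₂ ⟨e₁⟩ ⟨e₂⟩ => ?_⟩
    haveI : IsLocallyNoetherian X := LocallyOfFiniteType.isLocallyNoetherian p
    have ha : 0 < a := Nat.pos_of_ne_zero fun h => by
      subst h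
      exact hE0 (IsZero.of_iso ((IsZero.iff_id_eq_zero _).mpr (Sigma.hom_ext _ _ fun i => i.elim0)) e₁)
    have hb : 0 < b := Nat.pos_of_ne_zero fun h => by
      subst h
      exact hE0 (IsZero.of_iso ((IsZero.iff_id_eq_zero _).mpr (Sigma.hom_ext _ _ fun i => i.elim0)) e₂)
    have hret : ∀ (H : X.Modules) (m : ℕ), 0 < m → (E ≅ W4c1astiltbs12.pow H m) → Coh.IsCoh H := fun H m hm ψ =>
      KBC.isCoh_retract (Sigma.ι (fun _ : Fin m => H) ⟨0, hm⟩ ≫ ψ.inv)
        (ψ.hom ≫ Sigma.desc fun _ => 𝟙 H) (by simp) hEc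
    exact KBC.iso_of_pow_iso_pow p (hret G₁ a ha e₁) (hret G₂ b hb e₂) h₁ h₂ ha (e₁.symm ≪≫ e₂))

end Groth.Agent.S13689
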