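import Groth.Statements.S1369
import Groth.Agent.Lib.RelAss.Affine
import Groth.Agent.Lib.RelAss.Base

set_option autoImplicit false
universe u
open FlatMor

namespace Groth.Agent.S1369

open AlgebraicGeometry CategoryTheory Limits in
/-- Let f be of finite type with irreducible target, F a quasi-coherent module of finite type on the
source and U an open of the source. If some associated point of F restricted to the generic fibre is
not in U, then over some nonempty open of the target every fibre carries an associated point of F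
(restricted to that fibre) outside U. -/
theorem result {X Y : Scheme.{u}} (f : X ⟶ Y) [IrreducibleSpace ↑Y] [LocallyOfFiniteType f] [QuasiCompact f]
    (F : X.Modules) (hF : Coh.IsCoh F) (U : X.Opens)
    (h : ∃ x ∈ MoreMor.relAss f F, f x = genericPoint ↑Y ∧ x ∉ U) :
    ∃ V : Y.Opens, (V : Set ↑Y).Nonempty ∧ ∀ y ∈ V, ∃ x ∈ MoreMor.relAss f F, f x = y ∧ x ∉ U := by
  haveI := hF.1
  haveI := hF.2
  obtain ⟨x₀, hx₀, hfx₀, hxU⟩ := h
  obtain ⟨W, hW, hxW, -⟩ := exists_isAffineOpen_mem_and_subset (U := (⊤ : Y.Opens)) (x := f x₀) trivial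
  obtain ⟨O, hO, hxO, e⟩ := exists_isAffineOpen_mem_and_subset (U := f ⁻¹ᵁ W) (x := x₀) hxW
  let _ := (f.appLE W O e).hom.toAlgebra
  haveI : Algebra.FiniteType Γ(Y, W) Γ(X, O) := f.finiteType_appLE hW hO e
  haveI : Module.Finite Γ(X, O) Γ(F, O) := Lib.CohBasics.Affine.finite_sections hO
  haveI := Lib.RelAss.Affine.liesOver_primeIdealOf f hW hO e hxO
  obtain ⟨g, hg, H⟩ := Lib.RelAss.Base.exists_open_minimal _ _
    ((Lib.RelAss.Affine.mem_relAss_iff f hW hO e F hxO).1 hx₀)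
  refine ⟨Y.basicOpen g, ⟨f x₀, (Lib.RelAss.Affine.mem_basicOpen_iff hW (e hxO) g).2 hg⟩, fun y hy => ?_⟩
  have hyW : y ∈ W := Y.basicOpen_le g hy
  have hle := (Lib.RelAss.Affine.specializes_iff hW (e hxO) hyW).1 (hfx₀ ▸ genericPoint_specializes y)
  obtain ⟨⟨P₁, hP₁, hP₁q, hP₁le⟩, Hmin⟩ :=
    H _ hle ((Lib.RelAss.Affine.mem_basicOpen_iff hW hyW g).1 hy)
  haveI := hP₁
  obtain ⟨R, hR, hRle⟩ := Ideal.exists_minimalPrimes_le
    (sup_le hP₁le (Ideal.map_le_iff_le_comap.2 hP₁q.over.le) :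
      (hO.primeIdealOf ⟨x₀, hxO⟩).asIdeal ⊔ (hW.primeIdealOf ⟨y, hyW⟩).asIdeal.map (algebraMap Γ(Y, W) Γ(X, O)) ≤ P₁)
  haveI := hR.1.1
  have hRq : R.LiesOver (hW.primeIdealOf ⟨y, hyW⟩).asIdeal :=
    ⟨le_antisymm (Ideal.map_le_iff_le_comap.1 (le_sup_right.trans hR.1.2))
      ((Ideal.comap_mono hRle).trans hP₁q.over.ge)⟩
  obtain ⟨x, hx, hxy, hxR⟩ := Lib.RelAss.Affine.exists_point f hW hO e hyW R hRq
  subst hxR hxy
  refine ⟨x, (Lib.RelAss.Affine.mem_relAss_iff f hW hO e F hx).2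
    (Hmin _ (le_sup_left.trans hR.1.2) fun P₂ hP₂ hP₂q hle' hle'' =>
      hR.2 ⟨hP₂, sup_le hle' (Ideal.map_le_iff_le_comap.2 hP₂q.over.le)⟩ hle''), rfl, fun hxU' => hxU ?_⟩
  exact ((Lib.RelAss.Affine.specializes_iff hO hxO hx).2 (le_sup_left.trans hR.1.2)).mem_open U.isOpen hxU'

end Groth.Agent.S1369
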