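import Groth.Statements.S13692
import Groth.Agent.Lib.GalDescent.Basic
import Groth.Agent.H61.FiniteCancel
import Mathlib.Algebra.MvPolynomial.Funext
import Mathlib.LinearAlgebra.Determinant
import Mathlib.RingTheory.Finiteness.Cardinality

set_option autoImplicit false
universe u v w
open scoped TensorProduct
attribute [local instance] CSAGal.tensorAction GpH1.unitsAction
open GalCoh

namespace Groth.Agent.S13692

open Groth.Agent.Lib.GalDescent.Basic in
theorem exists_unit_mem_fixed {k : Type u} [Field k] {K : Type v} [Field K] [Algebra k K]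
    [FiniteDimensional k K] [IsGalois k K] {A : Type w} [Ring A] [Algebra k A]
    [FiniteDimensional k A] {ρ : (K ≃ₐ[k] K) → K ⊗[k] A → K ⊗[k] A} (h : IsSemilinear ρ)
    (hmul : ∀ σ x (a : A), ρ σ (x * (1 ⊗ₜ[k] a)) = ρ σ x * (1 ⊗ₜ[k] a)) :
    ∃ b : (K ⊗[k] A)ˣ, (b : K ⊗[k] A) ∈ h.fixed := by
  classical
  by_cases hk : Finite k
  · have : Finite K := Module.finite_of_finite k
    have : Finite (K ⊗[k] A) := Module.finite_of_finite K
    let φ : Aᵐᵒᵖ →+* (K ⊗[k] A)ᵐᵒᵖ :=
      RingHom.op (Algebra.TensorProduct.includeRight : A →ₐ[k] (K ⊗[k] A)).toRingHom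
    letI : Module Aᵐᵒᵖ (K ⊗[k] A) := Module.compHom (K ⊗[k] A) φ
    have smul_def : ∀ (a : Aᵐᵒᵖ) (x : (K ⊗[k] A)), a • x = x * (1 ⊗ₜ[k] a.unop) := fun a x => rfl
    have ht := isSemilinear_tensor (k := k) (K := K) (W := A)
    let mkSub : ∀ {ρ' : (K ≃ₐ[k] K) → (K ⊗[k] A) → (K ⊗[k] A)} (h' : IsSemilinear ρ'),
        (∀ σ x (a : A), ρ' σ (x * (1 ⊗ₜ[k] a)) = ρ' σ x * (1 ⊗ₜ[k] a)) → Submodule Aᵐᵒᵖ (K ⊗[k] A) :=
      fun {ρ'} h' hm => { h'.fixed.toAddSubmonoid with
        smul_mem' := fun a x hx σ => by
          rw [smul_def, hm, show ρ' σ x = x from hx σ] }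
    have hmt : ∀ (σ : K ≃ₐ[k] K) (x : (K ⊗[k] A)) (a : A),
        σ • (x * (1 ⊗ₜ[k] a)) = σ • x * (1 ⊗ₜ[k] a) := fun σ x a => by
      rw [smul_mul', smul_tmul_eq, map_one]
    let W : Submodule Aᵐᵒᵖ (K ⊗[k] A) := mkSub h hmul
    let Y : Submodule Aᵐᵒᵖ (K ⊗[k] A) := mkSub ht hmt
    let bk := Module.finBasis k K
    have hpow : ∀ {ρ' : (K ≃ₐ[k] K) → (K ⊗[k] A) → (K ⊗[k] A)} (h' : IsSemilinear ρ')
        (hm : ∀ σ x (a : A), ρ' σ (x * (1 ⊗ₜ[k] a)) = ρ' σ x * (1 ⊗ₜ[k] a)),
        ∃ e : (Fin (Module.finrank k K) → mkSub h' hm) →ₗ[Aᵐᵒᵖ] (K ⊗[k] A), Function.Bijective e := by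
      intro ρ' h' hm
      refine ⟨{ toFun := fun f => ∑ i, bk i • (f i : (K ⊗[k] A))
                map_add' := fun f g => by simp [Finset.sum_add_distrib]
                map_smul' := fun a f => by
                  simp only [Pi.smul_apply, Submodule.coe_smul, smul_def, RingHom.id_apply,
                    Finset.sum_mul, smul_mul_assoc] }, ?_⟩
      let E : (Fin (Module.finrank k K) → h'.fixed) ≃ (K ⊗[k] A) :=
        ((Finsupp.linearEquivFunOnFinite k h'.fixed (Fin (Module.finrank k K))).symm.toEquiv.trans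
          (TensorProduct.equivFinsuppOfBasisLeft bk).symm.toEquiv).trans h'.fixedEquiv.toEquiv
      have hE : ∀ f, E f = ∑ i, bk i • (f i : (K ⊗[k] A)) := by
        intro f
        simp [E, Finsupp.sum_fintype]
      have hb := E.bijective
      rw [show (⇑E) = _ from funext hE] at hb
      exact hb
    obtain ⟨e1, he1⟩ := hpow h hmul
    obtain ⟨e2, he2⟩ := hpow ht hmt
    have : Finite (W : Type _) := Finite.of_injective _ Subtype.val_injective
    have : Finite (Y : Type _) := Finite.of_injective _ Subtype.val_injective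
    obtain ⟨e⟩ := Groth.Agent.H61.FiniteCancel.nonempty_linearEquiv (X := Y) (Y := W)
      (Module.finrank_pos (R := k) (M := K)).ne'
      ((LinearEquiv.ofBijective e2 he2).trans (LinearEquiv.ofBijective e1 he1).symm)
    let one : Y := ⟨1, fun σ => smul_one σ⟩
    let w : (K ⊗[k] A) := (e one : (K ⊗[k] A))
    have hsurj : Function.Surjective (LinearMap.mulLeft K w) := by
      intro x
      obtain ⟨z, rfl⟩ := h.fixedEquiv.surjective x
      induction z using TensorProduct.induction_on with
      | zero => exact ⟨0, by simp⟩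
      | add z z' hz hz' =>
        obtain ⟨y, hy⟩ := hz
        obtain ⟨y', hy'⟩ := hz'
        exact ⟨y + y', by rw [map_add, hy, hy', map_add]⟩
      | tmul c v =>
        have hv : (v : (K ⊗[k] A)) ∈ W := fun σ => v.2 σ
        obtain ⟨⟨y, hy⟩, hye⟩ := e.surjective ⟨v, hv⟩
        obtain ⟨a, rfl⟩ := (fixed_iff_exists y).mp hy
        refine ⟨c • ((1 : K) ⊗ₜ[k] a), ?_⟩
        rw [h.fixedEquiv_tmul, LinearMap.mulLeft_apply, mul_smul_comm]
        congr 1
        have h1 : (⟨(1 : K) ⊗ₜ[k] a, hy⟩ : Y) = MulOpposite.op a • one :=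
          Subtype.ext (one_mul _).symm
        rw [h1, map_smul] at hye
        exact congrArg Subtype.val hye
    have hu : IsUnit w := IsUnit.isUnit_iff_mulLeft_bijective.mpr
      ⟨Finite.injective_iff_surjective.mpr hsurj, hsurj⟩
    exact ⟨hu.unit, fun σ => (e one).2 σ⟩
  · have : Infinite k := not_finite_iff_infinite.mp hk
    let bK := Module.finBasis K (K ⊗[k] A)
    let bW := Module.Free.chooseBasis k h.fixed
    have : Module.Finite k h.fixed := by
      have : Module.Finite k (K ⊗[k] A) := inferInstance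
      exact Module.Finite.of_injective h.fixed.subtype Subtype.val_injective
    let w : Module.Free.ChooseBasisIndex k h.fixed → (K ⊗[k] A) := fun i => (bW i : (K ⊗[k] A))
    let L : (K ⊗[k] A) →ₐ[K] Matrix _ _ K := Algebra.leftMulMatrix bK
    let P : MvPolynomial (Module.Free.ChooseBasisIndex k h.fixed) K :=
      Matrix.det (∑ i, MvPolynomial.X (R := K) i • (L (w i)).map MvPolynomial.C)
    have hP : ∀ x : Module.Free.ChooseBasisIndex k h.fixed → K,
        MvPolynomial.eval x P = Matrix.det (L (∑ i, x i • w i)) := by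
      intro x
      rw [RingHom.map_det]
      congr 1
      ext a b
      simp [Matrix.sum_apply, map_sum]
    by_contra hne
    have hzero : P = 0 := by
      refine MvPolynomial.funext_set (fun _ => Set.range (algebraMap k K))
        (fun _ => Set.infinite_range_of_injective (FaithfulSMul.algebraMap_injective k K))
        (fun x hx => ?_)
      rw [map_zero, hP]
      choose t ht using fun i => hx i (Set.mem_univ i)
      by_contra hdet
      apply hne
      have hmem : (∑ i, x i • w i) ∈ h.fixed := by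
        refine Submodule.sum_mem _ fun i _ => ?_
        rw [← ht i, algebraMap_smul]
        exact Submodule.smul_mem _ _ (bW i).2
      have hu : IsUnit (∑ i, x i • w i) := by
        rw [IsUnit.isUnit_iff_mulLeft_bijective]
        have hinj : Function.Injective (LinearMap.mulLeft K (∑ i, x i • w i)) := by
          rw [← LinearMap.ker_eq_bot, LinearMap.ker_eq_bot']
          intro y hy
          apply Algebra.leftMulMatrix_injective bK
          have h0 : L (∑ i, x i • w i) * L y = 0 := by
            rw [← map_mul, show (∑ i, x i • w i) * y = 0 from hy, map_zero]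
          rw [map_zero]
          have hM : IsUnit (L (∑ i, x i • w i)) :=
            (Matrix.isUnit_iff_isUnit_det _).mpr (isUnit_iff_ne_zero.mpr hdet)
          exact (hM.mul_right_eq_zero).mp h0
        exact ⟨hinj, LinearMap.injective_iff_surjective.mp hinj⟩
      exact ⟨hu.unit, hmem⟩
    obtain ⟨z, hz⟩ := h.fixedEquiv.surjective 1
    have hx : ∃ x : Module.Free.ChooseBasisIndex k h.fixed → K, ∑ i, x i • w i = 1 := by
      refine ⟨fun i => (Algebra.TensorProduct.basis K bW).repr z i, ?_⟩
      conv_rhs => rw [← hz, ← (Algebra.TensorProduct.basis K bW).sum_repr z]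
      simp [w]
    obtain ⟨x, hx⟩ := hx
    have := hP x
    rw [hzero, map_zero, hx, map_one, Matrix.det_one] at this
    exact zero_ne_one this

/-- Let K be a finite Galois extension of a field k with Galois group G = Aut_k(K), and A a
finite-dimensional associative unital k-algebra, not assumed simple or central. Then H¹(G, (K ⊗_k
A)ˣ) is trivial, G acting on K ⊗_k A through the first factor. (The published statement allows any
Galois extension and reduces to the finite case by a direct limit; the finite case is stated.) -/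
theorem result (k : Type u) [Field k] (K : Type v)
    [Field K] [Algebra k K] [FiniteDimensional k K] [IsGalois k K]
    (A : Type w) [Ring A] [Algebra k A] [FiniteDimensional k A] :
    GpH1.H1.IsTrivial (K ≃ₐ[k] K) (K ⊗[k] A)ˣ := by
  intro y
  obtain ⟨a, rfl⟩ := GpH1.OneCocycle.cl_surjective y
  have h : Groth.Agent.Lib.GalDescent.Basic.IsSemilinear
      (fun (σ : K ≃ₐ[k] K) (z : K ⊗[k] A) => (a σ : K ⊗[k] A) * σ • z) := by
    refine ⟨fun σ x y => by simp [smul_add, mul_add], fun σ c x => ?_, fun x => ?_, fun σ τ x => ?_⟩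
    · simp [Groth.Agent.Lib.GalDescent.Basic.smul_smul_tensor, mul_smul_comm]
    · have h1 := a.2 1 1
      rw [one_mul, one_smul] at h1
      simp [mul_left_cancel (h1.symm.trans (mul_one _).symm)]
    · simp only [a.2 σ τ, Units.val_mul, mul_smul, smul_mul', mul_assoc]
      rfl
  obtain ⟨b, hb⟩ := exists_unit_mem_fixed h (fun σ x c => by
    simp [smul_mul', mul_assoc, Groth.Agent.Lib.GalDescent.Basic.smul_tmul_eq])
  rw [GpH1.H1.pt, GpH1.OneCocycle.cl_eq_cl_iff]
  refine ⟨b⁻¹, fun σ => ?_⟩
  show a σ = b⁻¹⁻¹ * 1 * σ • b⁻¹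
  have hb' : a σ * σ • b = b := Units.ext (hb σ)
  rw [inv_inv, mul_one, smul_inv', eq_mul_inv_iff_mul_eq, hb']

end Groth.Agent.S13692
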