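import Groth.Statements.S13693
import Groth.Agent.Lib.CohDelta.KS.Cat
import Groth.Agent.Lib.ArtinFun.HomFinite
-- import your own Groth.Agent.* helpers here

set_option autoImplicit false
universe u
open CategoryTheory CategoryTheory.Limits AlgebraicGeometry
open ASBun

namespace Groth.Agent.S13693

open Groth.Agent.Lib in
open AlgebraicGeometry CategoryTheory CategoryTheory.Limits in
theorem isCoh_retract {X : Scheme.{u}} [IsLocallyNoetherian X] {A M : X.Modules} (i : A ⟶ M) (r : M ⟶ A)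
    (hir : i ≫ r = 𝟙 A) (hM : Coh.IsCoh M) : Coh.IsCoh A := by
  have hK : Coh.IsCoh (kernel (𝟙 M - r ≫ i)) := CohBasics.Closure.isCoh_kernel _ hM hM.1
  refine CohBasics.Closure.isCoh_of_iso ?_ hK
  have hi : i ≫ (𝟙 M - r ≫ i) = 0 := by
    rw [Preadditive.comp_sub, Category.comp_id, ← Category.assoc, hir, Category.id_comp, sub_self]
  exact
    { hom := kernel.ι _ ≫ r
      inv := kernel.lift _ i hi
      hom_inv_id := by
        rw [← cancel_mono (kernel.ι (𝟙 M - r ≫ i)), Category.assoc, kernel.lift_ι, Category.id_comp]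
        have := kernel.condition (𝟙 M - r ≫ i)
        rw [Preadditive.comp_sub, Category.comp_id, sub_eq_zero] at this
        rw [Category.assoc]
        exact this.symm
      inv_hom_id := by rw [← Category.assoc, kernel.lift_ι, hir] }

open Groth.Agent.Lib CohDelta in
open AlgebraicGeometry CategoryTheory CategoryTheory.Limits in
theorem main (k : Type u) [Field k] {X : Scheme.{u}} [X.Over (Spec (CommRingCat.of k))]
    [IsProper (X ↘ Spec (CommRingCat.of k))] (F : X.Modules) (hF : Coh.IsCoh F) :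
    (∃ (n : ℕ) (Fs : Fin n → X.Modules), (∀ i, KS.Ind (Fs i)) ∧ Nonempty (F ≅ ∐ Fs)) ∧
    (∀ (n m : ℕ) (Fs : Fin n → X.Modules) (Gs : Fin m → X.Modules),
      (∀ i, KS.Ind (Fs i)) → (∀ j, KS.Ind (Gs j)) →
      Nonempty (F ≅ ∐ Fs) → Nonempty (F ≅ ∐ Gs) →
      ∃ e : Fin n ≃ Fin m, ∀ i, Nonempty (Fs i ≅ Gs (e i))) := by
  classical
  haveI : IsLocallyNoetherian X :=
    LocallyOfFiniteType.isLocallyNoetherian (X ↘ Spec (CommRingCat.of k))
  have hfin : ∀ M : X.Modules, Coh.IsCoh M → FiniteDimensional k (M ⟶ M) := fun M hM =>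
    ArtinFun.HomFinite.finite_hom hM hM
  refine ⟨?_, fun n m Fs Gs hFs hGs ⟨e⟩ ⟨e'⟩ => ?_⟩
  · obtain ⟨l, hl, ⟨e⟩⟩ := KS.exists_decomposition (k := k) (C := X.Modules) Coh.IsCoh hfin
      (fun M A B hM e => isCoh_retract (biprod.inl ≫ e.inv) (e.hom ≫ biprod.fst) (by simp) hM) F hF
    obtain ⟨b⟩ := KS.bsum_ofFn l.get
    refine ⟨l.length, l.get, fun i => (hl _ (l.get_mem i)).1, ⟨e ≪≫ eqToIso ?_ ≪≫ b⟩⟩
    rw [List.ofFn_get]
  · have hgood : ∀ {r : ℕ} (Hs : Fin r → X.Modules), (F ≅ ∐ Hs) → (∀ i, KS.Ind (Hs i)) →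
        ∀ i, KS.Good (Hs i) := fun {r} Hs φ hI i => by
      haveI := hfin (Hs i) (isCoh_retract (Sigma.ι Hs i ≫ φ.inv)
        (φ.hom ≫ Sigma.desc fun j => if h : j = i then eqToHom (congrArg Hs h) else 0) (by simp) hF)
      exact KS.good_of_finite (k := k) (hI i)
    exact KS.exists_equiv (hgood Fs e hFs) (hgood Gs e' hGs) (e.symm ≪≫ e')

open W4c1astiltbs12 in
/-- Let X be a scheme proper over a field k. Every coherent O_X-module F (quasi-coherent of finite type;
X is Noetherian) is isomorphic to a finite direct sum of indecomposable O_X-modules (nonzero, and in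
any decomposition as a direct sum one summand is zero; the zero module is the empty sum), and such a
decomposition is unique: if F ≅ F_1 ⊕ ⋯ ⊕ F_n ≅ G_1 ⊕ ⋯ ⊕ G_m with all F_i and G_j indecomposable,
then there is a bijection e between the index sets with F_i ≅ G_{e(i)} for every i. -/
theorem result (k : Type u) [Field k] {X : Scheme.{u}}
    (p : X ⟶ Spec (CommRingCat.of k)) [IsProper p] (F : X.Modules) (hF : Coh.IsCoh F) :
    (∃ (n : ℕ) (Fs : Fin n → X.Modules),
      (∀ i, (¬ IsZero (Fs i) ∧ ∀ A B : X.Modules, Nonempty ((Fs i) ≅ A ⊞ B) → IsZero A ∨ IsZero B)) ∧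
      Nonempty (F ≅ ∐ Fs)) ∧
    (∀ (n m : ℕ) (Fs : Fin n → X.Modules) (Gs : Fin m → X.Modules),
      (∀ i, (¬ IsZero (Fs i) ∧ ∀ A B : X.Modules, Nonempty ((Fs i) ≅ A ⊞ B) → IsZero A ∨ IsZero B)) →
      (∀ j, (¬ IsZero (Gs j) ∧ ∀ A B : X.Modules, Nonempty ((Gs j) ≅ A ⊞ B) → IsZero A ∨ IsZero B)) →
      Nonempty (F ≅ ∐ Fs) → Nonempty (F ≅ ∐ Gs) →
      ∃ e : Fin n ≃ Fin m, ∀ i, Nonempty (Fs i ≅ Gs (e i))) := by
  letI : X.Over (Spec (CommRingCat.of k)) := ⟨p⟩
  haveI : IsProper (X ↘ Spec (CommRingCat.of k)) := inferInstanceAs (IsProper p)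
  exact main k F hF

end Groth.Agent.S13693
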