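import Groth.Statements.S13694
import Groth.Agent.Lib.CohDelta.KBC.Simple

set_option autoImplicit false
universe u
open CategoryTheory CategoryTheory.Limits AlgebraicGeometry
open ASBun

namespace Groth.Agent.S13694

open W4c1astiltbs12 in
/-- Let X be a proper, geometrically integral scheme over a field k, K an algebraic closure of k with
projection π : X_K → X, and E an indecomposable finite locally free O_X-module (nonzero, and in any
decomposition as a direct sum one summand is zero) which is absolutely rank-one-isotypical: π^*E ≅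
L^{⊕r} for some invertible O_{X_K}-module L and some r. Then the endomorphism ring of E is a
division ring: every nonzero endomorphism of E is an isomorphism. (The published statement says more
precisely that this ring is a central division algebra over k; only the division-ring property is
stated here.) -/
theorem result (k : Type u) [Field k]
    {X : Scheme.{u}} (p : X ⟶ Spec (CommRingCat.of k)) [IsProper p] [GeometricallyIntegral p]
    (K : Type u) [Field K] [Algebra k K] [IsAlgClosure k K]
    (E : X.Modules) (hE : FlatMod.IsFinLocFree E)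
    (hEi : (¬ IsZero E ∧ ∀ A B : X.Modules, Nonempty (E ≅ A ⊞ B) → IsZero A ∨ IsZero B))
    (L : (W4bk4gw11416.baseChange p K).Modules) (hL : PicF.IsInvertible L) (r : ℕ)
    (e : Nonempty (bcMod p K E ≅ pow L r)) (f : E ⟶ E) (hf : f ≠ 0) : IsIso f := by
  obtain ⟨e⟩ := e
  have hEc : Coh.IsCoh E :=
    haveI : IsLocallyNoetherian X := LocallyOfFiniteType.isLocallyNoetherian p
    Groth.Agent.Lib.Perfect.Coherent.isCoh_of_isFinLocFree hE
  have hi : Lib.CohDelta.KS.Ind E := hEi
  have hG := Lib.CohDelta.KBC.good_of_ind p hEc hi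
  -- one-sided inverses of endomorphisms of an indecomposable are inverses
  have split : ∀ g t : E ⟶ E, g ≫ t = 𝟙 E → IsIso g ∧ IsIso t := fun g t h => by
    rcases Lib.CohDelta.KS.idempotent_trivial hi (t ≫ g)
      (by rw [Category.assoc, ← Category.assoc g, h, Category.id_comp]) with h' | h'
    · refine absurd ((IsZero.iff_id_eq_zero E).mpr ?_) hi.1
      calc 𝟙 E = (g ≫ t) ≫ g ≫ t := by rw [h, Category.id_comp]
        _ = g ≫ (t ≫ g) ≫ t := by simp only [Category.assoc]
        _ = 0 := by rw [h', Limits.zero_comp, Limits.comp_zero]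
    · exact ⟨⟨t, h, h'⟩, ⟨g, h', h⟩⟩
  let s : Set (E ⟶ E) := Set.range fun gh : (E ⟶ E) × (E ⟶ E) => gh.1 ≫ f ≫ gh.2
  have hcl : ∀ g h x, x ∈ AddSubmonoid.closure s → g ≫ x ≫ h ∈ AddSubmonoid.closure s := by
    intro g h x hx
    induction hx using AddSubmonoid.closure_induction with
    | mem y hy =>
      obtain ⟨⟨a, b⟩, rfl⟩ := hy
      exact AddSubmonoid.subset_closure ⟨(g ≫ a, b ≫ h), by simp⟩
    | zero => rw [Limits.zero_comp, Limits.comp_zero]; exact zero_mem _
    | add y z _ _ hy hz =>
      rw [Preadditive.add_comp, Preadditive.comp_add]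
      exact add_mem hy hz
  have h1 := Lib.CohDelta.KBC.one_mem_of_ne_zero p K hE hL e (AddSubmonoid.closure s) hcl
    (AddSubmonoid.subset_closure ⟨(𝟙 E, 𝟙 E), by simp⟩) hf
  have key : ∀ x ∈ AddSubmonoid.closure s, IsIso x → IsIso f := by
    intro x hx
    induction hx using AddSubmonoid.closure_induction with
    | mem y hy =>
      obtain ⟨⟨g, h⟩, rfl⟩ := hy
      intro hiso
      have e1 : g ≫ (f ≫ h ≫ inv (g ≫ f ≫ h)) = 𝟙 E := by
        simpa only [Category.assoc] using IsIso.hom_inv_id (g ≫ f ≫ h)
      haveI := (split g _ e1).2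
      have e2 : f ≫ (h ≫ inv (g ≫ f ≫ h) ≫ inv (f ≫ h ≫ inv (g ≫ f ≫ h))) = 𝟙 E := by
        simpa only [Category.assoc] using IsIso.hom_inv_id (f ≫ h ≫ inv (g ≫ f ≫ h))
      exact (split f _ e2).1
    | zero =>
      intro hiso
      exact absurd ((IsZero.iff_id_eq_zero E).mpr (by
        rw [← IsIso.hom_inv_id (0 : E ⟶ E), Limits.zero_comp])) hi.1
    | add y z _ _ hy hz => exact fun hiso => (hG.2 y z hiso).elim hy hz
  exact key _ h1 inferInstance

end Groth.Agent.S13694
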