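import Groth.Statements.S13696
import Groth.Agent.Lib.PolLaw.Kernel
-- import your own Groth.Agent.* helpers here

set_option autoImplicit false
universe u
open scoped TensorProduct
open ZeroCyc

namespace Groth.Agent.S13696

/-- Let F : B → A be a multiplicative polynomial law homogeneous of degree d, where B is a commutative
algebra over the commutative ring A. For b ∈ B the characteristic polynomial of b with respect to F
is χ_b = F_{A[X]}(1 ⊗ b − X ⊗ 1) ∈ A[X] ⊗_A A = A[X], and the Cayley–Hamilton ideal of F is the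
ideal of B generated by the elements χ_b(b), b ∈ B. Then the Cayley–Hamilton ideal is contained in
the kernel of F, and the kernel of F is contained in the radical of the Cayley–Hamilton ideal. -/
theorem result {A : Type u} [CommRing A] {B : Type u} [CommRing B] [Algebra A B]
    {d : ℕ} (F : PolLaw.MulLaw A B A d) (χ : B → Polynomial A)
    (hχ : ∀ b : B, χ b = TensorProduct.rid A (Polynomial A)
      (F.law.toFun' (Polynomial A) ((1 : Polynomial A) ⊗ₜ[A] b - Polynomial.X ⊗ₜ[A] (1 : B)))) :
    Ideal.span (Set.range fun b : B => Polynomial.aeval b (χ b)) ≤ PolLaw.ker F.law ∧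
      PolLaw.ker F.law ≤ (Ideal.span (Set.range fun b : B => Polynomial.aeval b (χ b))).radical := by
  open Groth.Agent.Lib.PolLaw Kernel in
  have hc : ∀ b : B, χ b = Groth.Agent.Lib.PolLaw.Kernel.chi₀ F ((1 : A) ⊗ₜ[A] b) := by
    intro b
    rw [hχ, Groth.Agent.Lib.PolLaw.Kernel.toFun'_eq, TensorProduct.rid_tmul, one_smul, Groth.Agent.Lib.PolLaw.Kernel.chi₀_eq]
    congr 1
    simp [Groth.Agent.Lib.PolLaw.Val.toPoly, TensorProduct.smul_tmul', Algebra.TensorProduct.one_def]
  refine ⟨Ideal.span_le.2 ?_, fun b hb => ?_⟩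
  · rintro _ ⟨b, rfl⟩
    simp only [hc]
    exact Groth.Agent.Lib.PolLaw.Kernel.aeval_chi₀_mem_ker F b
  · refine ⟨d, ?_⟩
    have h : Polynomial.aeval b (χ b) ∈ Ideal.span (Set.range fun b : B => Polynomial.aeval b (χ b)) :=
      Ideal.subset_span ⟨b, rfl⟩
    generalize Ideal.span (Set.range fun b : B => Polynomial.aeval b (χ b)) = I at h ⊢
    rw [hc, Groth.Agent.Lib.PolLaw.Kernel.chi₀_of_mem_ker hb, map_pow, map_neg, Polynomial.aeval_X, neg_pow] at h
    exact (I.unit_mul_mem_iff_mem ((isUnit_one (M := B)).neg.pow d)).1 h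

end Groth.Agent.S13696
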