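import Groth.Statements.S1370
import Groth.Agent.H69.FibreLoci.RelAss

set_option autoImplicit false
universe u
open FlatMor

namespace Groth.Agent.S1370
set_option backward.isDefEq.respectTransparency false
open Groth.Agent.H69.FibreLoci Groth.Agent.H46.FibreProf.Basic CategoryTheory AlgebraicGeometry Topology

open AlgebraicGeometry CategoryTheory Limits in
/-- Let f be of finite presentation, F a quasi-coherent module of finite presentation on the source, and
U an open of the source which is quasi-compact over the target. Then the set of points y of the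
target such that all associated points of F restricted to the fibre over y lie in U is locally
constructible. -/
theorem result {X Y : Scheme.{u}} (f : X ⟶ Y) [LocallyOfFinitePresentation f] [QuasiCompact f] [QuasiSeparated f]
    (F : X.Modules) (hFq : Coh.IsQCoh F) (hFp : CohB1.IsFP F) (U : X.Opens) [QuasiCompact (U.ι ≫ f)] :
    Topology.IsLocallyConstructible {y : ↑Y | ∀ x ∈ MoreMor.relAss f F, f x = y → x ∈ U} := by
  haveI : SheafOfModules.IsFinitePresentation (R := X.ringCatSheaf) F := hFp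
  haveI := Groth.Agent.H26.FreeCrit.isQuasicoherent_of_isFP hFp
  have hU : Topology.IsLocallyConstructible (U : Set X) := fun x => by
    obtain ⟨V, hV, hxV, -⟩ := exists_isAffineOpen_mem_and_subset (X := Y) (x := f x) (U := ⊤) trivial
    have h2 : IsCompact ((U.ι ≫ f) ⁻¹' (V : Set Y)) := QuasiCompact.isCompact_preimage _ V.2 hV.isCompact
    haveI : QuasiSeparatedSpace ↑(f ⁻¹ᵁ V : Scheme.{u}) := by
      haveI : IsAffine (V : Scheme.{u}) := hV
      exact quasiSeparatedSpace_of_quasiSeparated (f ∣_ V)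
    haveI : QuasiSeparatedSpace ↥((f ⁻¹ᵁ V : X.Opens) : Set X) := ‹QuasiSeparatedSpace ↑(f ⁻¹ᵁ V : Scheme.{u})›
    refine ⟨f ⁻¹ᵁ V, (f ⁻¹ᵁ V).2.mem_nhds hxV, (f ⁻¹ᵁ V).2, ?_⟩
    have h3 : IsCompact ((U : Set X) ∩ f ⁻¹' (V : Set Y)) := by
      have := h2.image U.ι.continuous
      convert this using 1
      ext z
      constructor
      · rintro ⟨hzU, hzV⟩
        exact ⟨⟨z, hzU⟩, hzV, rfl⟩
      · rintro ⟨w, hw, rfl⟩
        exact ⟨w.2, hw⟩
    refine IsCompact.isConstructible ?_ (U.2.preimage continuous_subtype_val)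
    rw [Topology.IsInducing.subtypeVal.isCompact_iff, Subtype.image_preimage_coe]
    rwa [Set.inter_comm]
  let Z : ℕ → Set X := fun d =>
    {x | Groth.Agent.H46.FibreProf.Open.AssDims f F {d}ᶜ x}ᶜ ∩ (U : Set X)ᶜ
  have hZ : ∀ d, Topology.IsLocallyConstructible (Z d) := fun d =>
    (Groth.Agent.Lib.ProCons45.Basic.isLocallyConstructible_compl
      (Groth.Agent.H46.FibreProf.AssCons.isLocallyConstructible_assDims f F hFp _)).inter
      (Groth.Agent.Lib.ProCons45.Basic.isLocallyConstructible_compl hU)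
  have hb : Loci.Bounded (fun d => {s | ∃ θ, f θ = s ∧ CInt.fiberDepth f F θ = 0 ∧
      Groth.Agent.H46.FibreTrdeg.trd f θ = d ∧ θ ∉ U}) :=
    Loci.bounded_of_trd f fun _ _ ⟨θ, hs, _, hd, _⟩ => ⟨θ, hs, hd⟩
  have heq : ∀ d, {s | ∃ θ, f θ = s ∧ CInt.fiberDepth f F θ = 0 ∧
      Groth.Agent.H46.FibreTrdeg.trd f θ = d ∧ θ ∉ U} = Loci.Deep f (Z d) d := fun d => by
    ext s
    rw [Loci.mem_deep_iff]
    constructor
    · rintro ⟨θ, hs, h0, hd, hθ⟩
      exact ⟨θ, ⟨fun h => h θ (fg_self f θ) h0 hd, hθ⟩, hs, hd.ge⟩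
    · rintro ⟨y, ⟨hA, hyU⟩, hs, hd⟩
      simp only [Set.mem_compl_iff, Set.mem_setOf_eq, Groth.Agent.H46.FibreProf.Open.AssDims,
        Set.mem_singleton_iff, not_forall, not_not] at hA
      obtain ⟨θ, hθ, h0, hθd⟩ := hA
      obtain rfl : θ = y := Groth.Agent.H46.FibreTrdeg.eq_of_trd_le f hθ.2 hθ.1 (hθd ▸ hd)
      exact ⟨θ, hs, h0, hθd, hyU⟩
  convert Groth.Agent.Lib.ProCons45.Basic.isLocallyConstructible_compl
    (Loci.isLocallyConstructible_exists (fun d => (heq d).symm ▸ Loci.isLocallyConstructible_deep f (hZ d) d)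
      hb) using 1
  ext s
  constructor
  · rintro h ⟨d, θ, hs, h0, -, hθ⟩
    obtain ⟨a, rfl⟩ := Groth.Agent.Lib.Cyc.FieldDim.exists_fiberι_eq f θ s hs
    exact hθ (h _ ((RelAss.mem_relAss_iff f F s a).2 ((mem_ass_iff f F s a).2 h0)) hs)
  · intro h x hx hs
    by_contra hU'
    obtain ⟨a, rfl⟩ := Groth.Agent.Lib.Cyc.FieldDim.exists_fiberι_eq f x s hs
    exact h ⟨_, _, hs, (mem_ass_iff f F s a).1 ((RelAss.mem_relAss_iff f F s a).1 hx), rfl, hU'⟩

end Groth.Agent.S1370
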