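import Groth.Statements.S13700
import Groth.Agent.Lib.PolLaw.Kernel
import Mathlib.RingTheory.AdjoinRoot
import Mathlib.LinearAlgebra.Vandermonde
-- import your own Groth.Agent.* helpers here

set_option autoImplicit false
universe u
open scoped TensorProduct
open ZeroCyc

namespace Groth.Agent.S13700

open Groth.Agent.Lib.PolLaw

/-- Let F : B → A be a multiplicative polynomial law homogeneous of degree d over the commutative ring
A, and let g ∈ A[X] be a monic polynomial which is separable (g and its derivative generate the unit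
ideal), so that A' = A[X]/(g) is étale over A. Then the kernel of the base change of F to A' is the
ideal of A' ⊗_A B generated by the kernel of F. -/
theorem result {A : Type u} [CommRing A] {B : Type u} [CommRing B] [Algebra A B]
    {d : ℕ} (F : PolLaw.MulLaw A B A d) (g : Polynomial A) (hg : g.Monic) (hsep : g.Separable) :
    (PolLaw.ker F.law).map (Algebra.TensorProduct.includeRight : B →ₐ[A] AdjoinRoot g ⊗[A] B) =
      PolLaw.kerBC F.law (AdjoinRoot g) := by
  classical
  refine le_antisymm (Kernel.map_ker_le_kerBC F) fun z hz => ?_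
  rcases subsingleton_or_nontrivial A with hA | hA
  · have : Subsingleton (AdjoinRoot g ⊗[A] B) := Module.subsingleton A _
    rw [Subsingleton.elim z 0]
    exact zero_mem _
  obtain ⟨T, _, _, _, _, _, hT⟩ := hg.exists_splits_map
  obtain ⟨M, hM⟩ := Polynomial.splits_iff_exists_multiset'.1 hT
  rw [(hg.map _).leadingCoeff, map_one, one_mul] at hM
  obtain ⟨l, rfl⟩ := Quot.exists_rep M
  let n := l.length
  let r : Fin n → T := fun i => -(l.get i)
  have hprod : g.map (algebraMap A T) = ∏ i, (Polynomial.X - Polynomial.C (r i)) := by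
    rw [hM, show (Quot.mk _ l : Multiset T) = (l : Multiset T) from rfl, Multiset.map_coe, Multiset.prod_coe,
      ← List.prod_ofFn]
    congr 1
    refine List.ext_getElem (by simp [n]) fun i h1 h2 => ?_
    simp [r, sub_neg_eq_add]
  have hn : n = g.natDegree := by
    have h := congrArg Polynomial.natDegree hprod
    rw [hg.natDegree_map, Polynomial.natDegree_prod_of_monic _ _ fun i _ => Polynomial.monic_X_sub_C _] at h
    simp [h]
  have hunit : ∀ i k, i ≠ k → IsUnit (r i - r k) := by
    intro i k hik
    obtain ⟨u, v, huv⟩ := hsep.map (f := algebraMap A T)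
    have h := congrArg (Polynomial.eval (r i)) huv
    have h0 : (g.map (algebraMap A T)).eval (r i) = 0 := by
      rw [hprod, Polynomial.eval_prod]
      exact Finset.prod_eq_zero (Finset.mem_univ i) (by simp)
    have hd : (Polynomial.derivative (g.map (algebraMap A T))).eval (r i) = ∏ j ∈ Finset.univ.erase i, (r i - r j) := by
      rw [hprod, ← Finset.mul_prod_erase _ _ (Finset.mem_univ i), Polynomial.derivative_mul]
      simp [Polynomial.eval_prod]
    rw [Polynomial.eval_add, Polynomial.eval_mul, Polynomial.eval_mul, h0, hd, mul_zero, zero_add, Polynomial.eval_one,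
      ← Finset.mul_prod_erase _ _ (Finset.mem_erase.2 ⟨hik.symm, Finset.mem_univ k⟩)] at h
    exact IsUnit.of_mul_eq_one (b := (∏ j ∈ (Finset.univ.erase i).erase k, (r i - r j)) * v.eval (r i))
      (by rw [← h]; ring)
  have hV : IsUnit (Matrix.vandermonde r).det := by
    rw [Matrix.det_vandermonde]
    exact IsUnit.prod_iff.2 fun i _ => IsUnit.prod_iff.2 fun j hj => hunit j i (Finset.mem_Ioi.1 hj).ne'
  let pb := (AdjoinRoot.powerBasis' hg).basis.reindex (finCongr (show (AdjoinRoot.powerBasis' hg).dim = n by
    rw [hn]; rfl))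
  have hpb : ∀ i, pb i = AdjoinRoot.root g ^ (i : ℕ) := fun i => by
    rw [Module.Basis.reindex_apply, PowerBasis.basis_eq_pow]
    rfl
  obtain ⟨c, rfl⟩ := (TensorProduct.equivFinsuppOfBasisLeft pb (N := B)).symm.surjective z
  rw [TensorProduct.equivFinsuppOfBasisLeft_symm_apply]
  refine Submodule.sum_mem _ fun i _ => ?_
  show pb i ⊗ₜ[A] c i ∈ _
  rw [show pb i ⊗ₜ[A] c i = (pb i ⊗ₜ[A] (1 : B)) * ((1 : AdjoinRoot g) ⊗ₜ[A] c i) by simp]
  refine Ideal.mul_mem_left _ _ (Ideal.mem_map_of_mem Algebra.TensorProduct.includeRight ?_)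
  -- the coefficient lies in the kernel over the splitting algebra
  have hroot : ∀ j, Polynomial.aeval (r j) g = 0 := fun j => by
    rw [Polynomial.aeval_def, ← Polynomial.eval_map, hprod, Polynomial.eval_prod]
    exact Finset.prod_eq_zero (Finset.mem_univ j) (by simp)
  let σ : Fin n → (AdjoinRoot g →ₐ[A] T) := fun j => AdjoinRoot.liftAlgHom g (Algebra.ofId A T) (r j) (hroot j)
  have hmem : (1 : T) ⊗ₜ[A] c i ∈ PolLaw.kerBC F.law T := by
    let W := (Matrix.vandermonde r)⁻¹
    have hW : W * Matrix.vandermonde r = 1 := Matrix.nonsing_inv_mul _ hV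
    have e : (1 : T) ⊗ₜ[A] c i = ∑ j, (W i j ⊗ₜ[A] (1 : B)) *
        Algebra.TensorProduct.map (σ j) (AlgHom.id A B) (∑ k, pb k ⊗ₜ[A] c k) := by
      simp only [map_sum, Algebra.TensorProduct.map_tmul, Finset.mul_sum, Algebra.TensorProduct.tmul_mul_tmul,
        AlgHom.id_apply, one_mul]
      rw [Finset.sum_comm]
      simp only [← TensorProduct.sum_tmul]
      rw [Finset.sum_eq_single i]
      · congr 1
        rw [show (1 : T) = (W * Matrix.vandermonde r) i i by rw [hW, Matrix.one_apply_eq], Matrix.mul_apply]
        exact Finset.sum_congr rfl fun j _ => by simp [σ, hpb, Matrix.vandermonde_apply]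
      · intro k _ hk
        rw [show (∑ j, W i j * σ j (pb k)) = (W * Matrix.vandermonde r) i k by
          rw [Matrix.mul_apply]
          exact Finset.sum_congr rfl fun j _ => by simp [σ, hpb, Matrix.vandermonde_apply],
          hW, Matrix.one_apply_ne hk.symm, TensorProduct.zero_tmul]
      · simp
    rw [e]
    refine Ideal.sum_mem _ fun j _ => Ideal.mul_mem_left _ _ (Kernel.map_mem_kerBC (σ j) ?_)
    convert hz using 1
    rw [TensorProduct.equivFinsuppOfBasisLeft_symm_apply, Finsupp.sum_fintype _ _ (fun i => TensorProduct.tmul_zero _ _)]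
  rw [Kernel.mem_ker_iff]
  intro m x w
  have hinj : Function.Injective (MvPolynomial.mapAlgHom (σ := Fin m) (Algebra.ofId A T)) :=
    MvPolynomial.map_injective _ (FaithfulSMul.algebraMap_injective A T)
  apply hinj
  rw [Kernel.map_val₀, Kernel.map_val₀, map_add, map_mul, Algebra.TensorProduct.map_tmul, map_one]
  have := Kernel.val₀_of_mem_kerBC hmem (Algebra.TensorProduct.map (MvPolynomial.mapAlgHom (σ := Fin m) (Algebra.ofId A T)) (AlgHom.id A B) x)
    (Algebra.TensorProduct.map (MvPolynomial.mapAlgHom (σ := Fin m) (Algebra.ofId A T)) (AlgHom.id A B) w)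
  simpa [Kernel.toTest] using this

end Groth.Agent.S13700
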