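import Groth.Statements.S13702
import Mathlib.FieldTheory.Perfect
import Mathlib.FieldTheory.IsAlgClosed.AlgebraicClosure
import Mathlib.RingTheory.AdjoinRoot
import Mathlib.LinearAlgebra.Determinant
import Mathlib.LinearAlgebra.Matrix.ToLin
import Mathlib.LinearAlgebra.Vandermonde
-- import your own Groth.Agent.* helpers here

set_option autoImplicit false
universe u
open ZeroCyc

namespace Groth.Agent.S13702

/-- Let A be a local ring with residue field of characteristic p > 0, let g ∈ A[X] be monic and
separable of degree n, so that A' = A[X]/(g) is an étale A-algebra, and let q = p^s with s ≥ 0. Then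
the powers 1, t^q, t^{2q}, …, t^{(n-1)q} of the class t of X form a basis of A' as an A-module. -/
theorem result {A : Type u} [CommRing A] [IsLocalRing A] (p : ℕ) [Fact p.Prime]
    [CharP (IsLocalRing.ResidueField A) p] (g : Polynomial A) (hg : g.Monic) (hsep : g.Separable) (s : ℕ) :
    ∃ b : Module.Basis (Fin g.natDegree) A (AdjoinRoot g),
      ∀ i : Fin g.natDegree, b i = AdjoinRoot.root g ^ (p ^ s * (i : ℕ)) := by
  classical
  let κ := IsLocalRing.ResidueField A
  let res : A →+* κ := IsLocalRing.residue A
  let Ω := AlgebraicClosure κ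
  have : CharP Ω p := charP_of_injective_algebraMap (algebraMap κ Ω).injective p
  let gb := g.map res
  let h : A →+* Ω := (algebraMap κ Ω).comp res
  have hsep' : (g.map h).Separable := hsep.map
  have hdeg : (g.map h).natDegree = g.natDegree := hg.natDegree_map h
  have hcard : (g.map h).roots.toFinset.card = g.natDegree := by
    rw [Multiset.toFinset_card_of_nodup (Polynomial.nodup_roots hsep'), ← hdeg]
    exact ((IsAlgClosed.splits (g.map h)).natDegree_eq_card_roots).symm
  let r : Fin g.natDegree → Ω := fun i => ((g.map h).roots.toFinset.equivFin.symm (Fin.cast hcard.symm i)).1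
  have hrinj : Function.Injective r := fun i j hij => by
    have := (g.map h).roots.toFinset.equivFin.symm.injective (Subtype.ext hij)
    simpa using this
  have hr : ∀ i, (g.map h).eval (r i) = 0 := fun i => by
    have := ((g.map h).roots.toFinset.equivFin.symm (Fin.cast hcard.symm i)).2
    exact (Polynomial.mem_roots'.mp (Multiset.mem_toFinset.mp this)).2
  let ev : Fin g.natDegree → (AdjoinRoot g →+* Ω) := fun i =>
    AdjoinRoot.lift h (r i) (by rw [← Polynomial.eval_map]; exact hr i)
  let B := (AdjoinRoot.powerBasis' hg).basis
  let q := p ^ s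
  let v : Fin g.natDegree → AdjoinRoot g := fun i => AdjoinRoot.root g ^ (q * (i : ℕ))
  let P : Matrix (Fin g.natDegree) (Fin g.natDegree) A := B.toMatrix v
  have hprod : (Matrix.vandermonde r) * (P.map h) = Matrix.vandermonde (fun i => r i ^ q) := by
    ext i j
    have h1 := congrArg (ev i) (B.sum_repr (v j))
    rw [map_sum] at h1
    simp only [Matrix.mul_apply, Matrix.map_apply, Matrix.vandermonde_apply]
    rw [show ((r i ^ q) ^ (j : ℕ)) = ev i (v j) by simp [ev, v, pow_mul], ← h1]
    refine Finset.sum_congr rfl fun l _ => ?_
    rw [Algebra.smul_def, map_mul]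
    simp [ev, B, P, Module.Basis.toMatrix_apply, mul_comm, AdjoinRoot.algebraMap_eq]
  have hdet : IsUnit P.det := by
    by_contra hu
    have h0 : h P.det = 0 := by
      show algebraMap κ Ω (res P.det) = 0
      rw [show res P.det = 0 from Ideal.Quotient.eq_zero_iff_mem.mpr ((IsLocalRing.mem_maximalIdeal _).mpr hu), map_zero]
    have h1 := congrArg Matrix.det hprod
    rw [Matrix.det_mul, ← RingHom.mapMatrix_apply, ← RingHom.map_det, h0, mul_zero] at h1
    refine Matrix.det_vandermonde_ne_zero_iff.mpr (fun i j hij => hrinj ?_) h1.symm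
    refine iterateFrobenius_inj Ω p s ?_
    simpa [iterateFrobenius_def] using hij
  obtain ⟨hli, hspan⟩ := (Module.Basis.is_basis_iff_det B (v := v)).mpr (by rw [Module.Basis.det_apply]; exact hdet)
  exact ⟨Module.Basis.mk hli hspan.ge, fun i => by rw [Module.Basis.mk_apply]⟩

end Groth.Agent.S13702
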