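import Groth.Statements.S13703
import Groth.Agent.Lib.PolLaw.Fibre
-- import your own Groth.Agent.* helpers here

set_option autoImplicit false
universe u
open scoped TensorProduct
open ZeroCyc

namespace Groth.Agent.S13703

open Groth.Agent.Lib.PolLaw


/-- Let A be an integral domain, B a commutative A-algebra and F : B → A a multiplicative polynomial law
homogeneous of degree d. For every prime ideal P of B minimal among those containing the kernel of
F, the contraction of P to A is zero and every prime of A is the contraction of a prime of B
containing P. Geometrically: every irreducible component of the support of the family of zero-cycles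
on Spec B defined by F maps onto Spec A. (The published statement is over an arbitrary algebraic
space S, every irreducible component of the support mapping onto an irreducible component of S, and
its proof reduces to an integral affine base; this row is that case.) -/
theorem result {A : Type u} [CommRing A] [IsDomain A] {B : Type u} [CommRing B] [Algebra A B]
    {d : ℕ} (F : PolLaw.MulLaw A B A d) {P : Ideal B} (hP : P ∈ (PolLaw.ker F.law).minimalPrimes) :
    P.comap (algebraMap A B) = ⊥ ∧
      ∀ q : Ideal A, q.IsPrime → ∃ Q : Ideal B, Q.IsPrime ∧ P ≤ Q ∧ Q.comap (algebraMap A B) = q := by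
  let K := AlgebraicClosure (FractionRing A)
  obtain ⟨ψ, hψ⟩ := Points.exists_isPoints F (Algebra.ofId A K)
  have hPr : P.IsPrime := hP.1.1
  have hle : PolLaw.ker F.law ≤ P := hP.1.2
  have hinj : Function.Injective (algebraMap A K) := by
    rw [IsScalarTower.algebraMap_eq A (FractionRing A) K]
    exact (algebraMap (FractionRing A) K).injective.comp (IsFractionRing.injective A (FractionRing A))
  obtain ⟨j, hj⟩ : ∃ j, RingHom.ker (ψ j) ≤ P := by
    by_contra hne
    simp only [not_exists, SetLike.not_le_iff_exists] at hne
    choose b hb hbP using hne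
    let c := ∏ j, b j
    have hc : ∀ j, ψ j c = 0 := fun j => by
      rw [map_prod]
      exact Finset.prod_eq_zero (Finset.mem_univ j) (hb j)
    have hchi : Kernel.chi₀ F ((1 : A) ⊗ₜ[A] c) = (-Polynomial.X) ^ d := by
      refine Polynomial.map_injective (algebraMap A K) hinj ?_
      rw [Fibre.map_chi F hψ, Polynomial.map_pow, Polynomial.map_neg, Polynomial.map_X]
      rw [Finset.prod_congr rfl (g := fun _ => (-Polynomial.X : Polynomial K)) fun j _ => by
        rw [show Fibre.point F ψ hψ j (Fibre.proj F A ((1 : A) ⊗ₜ[A] c)) = 0 by simp [Fibre.point, Fibre.proj, hc],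
          map_zero, zero_sub], Finset.prod_const, Finset.card_univ, Fintype.card_fin]
    have h0 := hle (Kernel.aeval_chi₀_mem_ker F c)
    rw [hchi, map_pow, map_neg, Polynomial.aeval_X] at h0
    have := hPr.mem_of_pow_mem d h0
    rw [neg_mem_iff, hPr.prod_mem_iff] at this
    obtain ⟨j, -, hj⟩ := this
    exact hbP j hj
  have hPj : RingHom.ker (ψ j) = P :=
    le_antisymm hj (hP.2 ⟨RingHom.ker_isPrime _, fun b hb => Points.apply_eq_zero_of_mem_ker hψ hb j⟩ hj)
  refine ⟨?_, fun q hq => ?_⟩
  · rw [← hPj, eq_bot_iff]
    intro a ha
    rw [Ideal.mem_comap, RingHom.mem_ker, AlgHom.commutes] at ha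
    exact hinj (ha.trans (map_zero _).symm)
  · have := Kernel.isIntegral_image F
    let P' : Ideal (PolLaw.image F.law) := P.map (Ideal.Quotient.mk _)
    have hP'c : P'.comap (Ideal.Quotient.mk _) = P := by
      rw [Ideal.comap_map_of_surjective _ Ideal.Quotient.mk_surjective, sup_eq_left]
      exact fun x hx => hle (by simpa [Ideal.Quotient.eq_zero_iff_mem] using hx)
    have : P'.IsPrime := Ideal.map_isPrime_of_surjective Ideal.Quotient.mk_surjective (by rwa [Ideal.mk_ker])
    obtain ⟨Q, hQP, hQ, hQq⟩ := Ideal.exists_ideal_over_prime_of_isIntegral q P' (by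
      intro a ha
      have hb : a ∈ P.comap (algebraMap A B) := by
        rw [← hP'c]
        exact ha
      rw [← hPj, Ideal.mem_comap, RingHom.mem_ker, AlgHom.commutes] at hb
      rw [hinj (hb.trans (map_zero _).symm)]
      exact zero_mem _)
    exact ⟨Q.comap (Ideal.Quotient.mk _), inferInstance, hP'c ▸ Ideal.comap_mono hQP, hQq⟩

end Groth.Agent.S13703
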