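import Groth.Statements.S13705
import Groth.Agent.Lib.PolLaw.Fibre
-- import your own Groth.Agent.* helpers here

set_option autoImplicit false
universe u
open scoped TensorProduct
open ZeroCyc

namespace Groth.Agent.S13705

open Groth.Agent.Lib.PolLaw AlgebraicGeometry CategoryTheory CategoryTheory.Limits
open scoped TensorProduct


/-- Let F : B → A be a multiplicative polynomial law homogeneous of degree d over the commutative ring
A, with no finiteness assumption on B. Then the morphism Spec(B/ker F) → Spec A, the image of the
family of zero-cycles on Spec B defined by F, is universally open. (The published statement is for X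
affine over an algebraic space S and for the support; this row is the case of an affine base, stated
for the image, which has the same underlying space as the support, the property being étale-local on
the base and topological.) -/
theorem result {A : Type u} [CommRing A] {B : Type u} [CommRing B] [Algebra A B]
    {d : ℕ} (F : PolLaw.MulLaw A B A d) :
    AlgebraicGeometry.UniversallyOpen
      (AlgebraicGeometry.Spec.map (CommRingCat.ofHom (algebraMap A (PolLaw.image F.law)))) := by
  rw [AlgebraicGeometry.universallyOpen_iff]
  refine MorphismProperty.universally_mk' _ _ fun {T} f _ => ?_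
  have key : ∀ {R : CommRingCat.{u}} (f : Spec R ⟶ Spec (CommRingCat.of A)), IsOpenMap
      (pullback.fst f (Spec.map (CommRingCat.ofHom (algebraMap A (PolLaw.image F.law))))) := by
    intro R f
    obtain ⟨φ, rfl⟩ := Spec.map_surjective f
    letI : Algebra A R := φ.hom.toAlgebra
    have h : pullback.fst (Spec.map φ) (Spec.map (CommRingCat.ofHom (algebraMap A (PolLaw.image F.law)))) =
        (pullbackSpecIso A R (PolLaw.image F.law)).hom ≫
          Spec.map (CommRingCat.ofHom (algebraMap R (R ⊗[A] PolLaw.image F.law))) :=
      (pullbackSpecIso_hom_fst' A R (PolLaw.image F.law)).symm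
    rw [h, Scheme.Hom.comp_base, TopCat.coe_comp]
    exact (Fibre.isOpenMap (A' := R) F).comp (pullbackSpecIso A R (PolLaw.image F.law)).hom.homeomorph.isOpenMap
  show (topologically IsOpenMap) (pullback.fst f _)
  rw [IsZariskiLocalAtTarget.iff_of_openCover (P := topologically IsOpenMap) T.affineCover]
  intro i
  let g := Spec.map (CommRingCat.ofHom (algebraMap A (PolLaw.image F.law)))
  let e := pullbackSymmetry (pullback.fst f g) (T.affineCover.f i) ≪≫
    pullbackRightPullbackFstIso f g (T.affineCover.f i)
  have he : pullback.snd (pullback.fst f g) (T.affineCover.f i) =
      e.hom ≫ pullback.fst (T.affineCover.f i ≫ f) g := by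
    simp [e]
  show IsOpenMap (pullback.snd (pullback.fst f g) (T.affineCover.f i))
  rw [he, Scheme.Hom.comp_base, TopCat.coe_comp]
  exact (key _).comp e.hom.homeomorph.isOpenMap

end Groth.Agent.S13705
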