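import Groth.Statements.S13706
import Groth.Agent.Lib.PolLaw.Fibre
-- import your own Groth.Agent.* helpers here

set_option autoImplicit false
universe u
open scoped TensorProduct
open ZeroCyc

namespace Groth.Agent.S13706

open Groth.Agent.Lib.PolLaw
open scoped TensorProduct


/-- Let A be a commutative ring, B an A-algebra of finite type and F : B → A a multiplicative polynomial
law homogeneous of degree d. Then there is a finitely generated ideal J of B, contained in the
kernel of F and with the same radical; thus the support of the family of zero-cycles defined by F is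
carried by a bijective closed immersion into Spec(B/J), a scheme of finite presentation over A. -/
theorem result {A : Type u} [CommRing A] {B : Type u} [CommRing B] [Algebra A B]
    [Algebra.FiniteType A B] {d : ℕ} (F : PolLaw.MulLaw A B A d) :
    ∃ J : Ideal B, J.FG ∧ J ≤ PolLaw.ker F.law ∧ J.radical = (PolLaw.ker F.law).radical := by
  classical
  obtain ⟨s, hs⟩ := Algebra.FiniteType.out (R := A) (A := B)
  let n := s.card
  let x : Fin n → B := fun i => (s.equivFin.symm i : B)
  let z := Polynomial.aeval (Coeff.gen x : MvPolynomial (Fin n) A ⊗[A] B) (Kernel.chi₀ F (Coeff.gen x))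
  let g := Coeff.coefEquiv z
  have hg : ∀ ν, g ν ∈ PolLaw.ker F.law := by
    intro ν
    have h := BaseChange.coord_mem (BaseChange.aeval_chi₀_mem_map F (Coeff.gen x : MvPolynomial (Fin n) A ⊗[A] B))
      (MvPolynomial.lcoeff A ν)
    have : ∀ w : MvPolynomial (Fin n) A ⊗[A] B, BaseChange.coord (MvPolynomial.lcoeff A ν) w = Coeff.coefEquiv w ν := by
      intro w
      induction w using TensorProduct.induction_on with
      | zero => simp
      | tmul p b => simp [BaseChange.coord_tmul, Coeff.coefEquiv_tmul]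
      | add a b ha hb => simp only [map_add, Finsupp.add_apply, ha, hb]
    rw [this] at h
    exact h
  refine ⟨Ideal.span (g.support.image g : Set B), ⟨g.support.image g, rfl⟩,
    Ideal.span_le.2 fun b hb => ?_, le_antisymm (Ideal.radical_mono (Ideal.span_le.2 fun b hb => ?_)) ?_⟩
  · obtain ⟨ν, -, rfl⟩ := Finset.mem_image.1 (Finset.mem_coe.1 hb)
    exact hg ν
  · obtain ⟨ν, -, rfl⟩ := Finset.mem_image.1 (Finset.mem_coe.1 hb)
    exact hg ν
  rw [Ideal.radical_le_radical_iff, Ideal.radical_eq_sInf]
  refine le_sInf ?_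
  rintro Q ⟨hJQ, hQ⟩
  let K := AlgebraicClosure Q.ResidueField
  let θ : B →ₐ[A] K := (IsScalarTower.toAlgHom A Q.ResidueField K).comp (IsScalarTower.toAlgHom A B Q.ResidueField)
  have hθQ : ∀ b, θ b = 0 ↔ b ∈ Q := fun b =>
    ((algebraMap Q.ResidueField K).injective.eq_iff' (map_zero _)).trans Ideal.algebraMap_residueField_eq_zero
  obtain ⟨ψ, hψ⟩ := Points.exists_isPoints F (Algebra.ofId A K)
  let R := MvPolynomial (Fin n) K
  let c : K →ₐ[A] R := IsScalarTower.toAlgHom A K R
  let μ : MvPolynomial (Fin n) A →ₐ[A] R := MvPolynomial.mapAlgHom (Algebra.ofId A K)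
  let Φ : MvPolynomial (Fin n) A ⊗[A] B →ₐ[A] R :=
    Algebra.TensorProduct.lift μ (c.comp θ) fun _ _ => Commute.all _ _
  have hz : Φ z = 0 := by
    rw [show z = Coeff.coefEquiv.symm g from (LinearEquiv.symm_apply_apply _ z).symm, Coeff.coefEquiv_symm,
      map_finsuppSum]
    refine Finset.sum_eq_zero fun ν hν => ?_
    have : θ (g ν) = 0 := (hθQ _).2 (hJQ (Ideal.subset_span (Finset.mem_coe.2 (Finset.mem_image_of_mem g hν))))
    simp [Φ, this]
  let w : R ⊗[A] B := Algebra.TensorProduct.map μ (AlgHom.id A B) (Coeff.gen x)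
  have hΦgen : ∀ θ' : B →ₐ[A] K,
      Val.evalHom (c.comp θ') w = ∑ i, MvPolynomial.X i * MvPolynomial.C (θ' (x i)) := by
    intro θ'
    simp [w, Coeff.gen, μ, c, R, Points.mapAlg_apply]
  have hΦ : ∀ v, Φ v = Val.evalHom (c.comp θ) (Algebra.TensorProduct.map μ (AlgHom.id A B) v) := by
    intro v
    induction v using TensorProduct.induction_on with
    | zero => simp
    | tmul p b' => simp [Φ]
    | add a b ha hb => simp only [map_add, ha, hb]
  have hchi : (Kernel.chi₀ F (Coeff.gen x : MvPolynomial (Fin n) A ⊗[A] B)).map μ.toRingHom =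
      ∏ j, (Polynomial.C (Val.evalHom (c.comp (ψ j)) w) - Polynomial.X) := by
    rw [Kernel.chi₀_map, Kernel.chi₀_eq, Kernel.val₀,
      Subsingleton.elim (Algebra.ofId A (Polynomial R))
        (((Polynomial.CAlgHom (R := A) (A := R)).comp c).comp (Algebra.ofId A K)), hψ]
    refine Finset.prod_congr rfl fun j _ => ?_
    rw [map_sub, map_smul, map_one, smul_eq_mul, mul_one, AlgHom.comp_assoc, Val.toPoly, ← Val.evalHom_map]
    rfl
  rw [hΦ, Kernel.map_aeval_chi₀, ← Kernel.chi₀_map, hchi, ← Polynomial.aeval_algHom_apply, map_prod,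
    Finset.prod_eq_zero_iff] at hz
  obtain ⟨j, -, hj⟩ := hz
  rw [map_sub, Polynomial.aeval_C, Polynomial.aeval_X, sub_eq_zero, Algebra.algebraMap_self_apply,
    hΦgen, show Val.evalHom (c.comp θ) (Algebra.TensorProduct.map μ (AlgHom.id A B) (Coeff.gen x)) = _ from hΦgen θ] at hj
  have heq : θ = ψ j := by
    refine AlgHom.ext_of_adjoin_eq_top hs fun b hb => ?_
    obtain ⟨i, rfl⟩ : ∃ i, x i = b := ⟨s.equivFin ⟨b, hb⟩, by simp [x]⟩
    have h2 := congrArg (MvPolynomial.eval (Pi.single i (1 : K))) hj
    simp only [R, map_sum, map_mul, MvPolynomial.eval_X, MvPolynomial.eval_C, Pi.single_apply, ite_mul, one_mul,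
      zero_mul, Finset.sum_ite_eq', Finset.mem_univ, if_true] at h2
    exact h2.symm
  intro b hb
  rw [← hθQ, heq]
  exact Points.apply_eq_zero_of_mem_ker hψ hb j

end Groth.Agent.S13706
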