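import Groth.Statements.S13707
import Groth.Agent.Lib.PolLaw.Fibre
-- import your own Groth.Agent.* helpers here

set_option autoImplicit false
universe u
open scoped TensorProduct
open ZeroCyc

namespace Groth.Agent.S13707

open Groth.Agent.Lib.PolLaw


/-- Let k be a field, B a commutative k-algebra and F : B → k a multiplicative polynomial law
homogeneous of degree d. Then the spectrum of B/ker F (the image of the family of zero-cycles of
degree d on Spec B defined by F) is a finite set of at most d closed points, and the residue field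
at each of them has finite separable degree over k. -/
theorem result {k : Type u} [Field k] {B : Type u} [CommRing B] [Algebra k B]
    {d : ℕ} (F : PolLaw.MulLaw k B k d) :
    Finite (PrimeSpectrum (PolLaw.image F.law)) ∧ Nat.card (PrimeSpectrum (PolLaw.image F.law)) ≤ d ∧
      ∀ P : PrimeSpectrum (PolLaw.image F.law), P.asIdeal.IsMaximal ∧
        Finite (Field.Emb k P.asIdeal.ResidueField) := by
  let e : k ⊗[k] PolLaw.image F.law ≃ₐ[k] PolLaw.image F.law := Algebra.TensorProduct.lid k _
  have eP := (PrimeSpectrum.homeomorphOfRingEquiv e.toRingEquiv).toEquiv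
  obtain ⟨hfin, hcard⟩ := Fibre.card_fibre (A' := k) F (⊥ : PrimeSpectrum k)
  have huniv : PrimeSpectrum.comap (algebraMap k (k ⊗[k] PolLaw.image F.law)) ⁻¹' {(⊥ : PrimeSpectrum k)} = Set.univ :=
    Set.eq_univ_of_forall fun _ => Subsingleton.elim _ _
  rw [huniv] at hfin hcard
  rw [Set.ncard_univ] at hcard
  have := Set.finite_univ_iff.1 hfin
  have hfin' : Finite (PrimeSpectrum (PolLaw.image F.law)) := Finite.of_equiv _ eP
  refine ⟨hfin', (Nat.card_congr eP).symm.trans_le hcard, fun P => ?_⟩
  have := Kernel.isIntegral_image F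
  have hmax : P.asIdeal.IsMaximal := Ideal.isMaximal_of_isIntegral_of_isMaximal_comap (R := k) P.asIdeal inferInstance
  refine ⟨hmax, ?_⟩
  let κ := P.asIdeal.ResidueField
  let L := AlgebraicClosure κ
  obtain ⟨ψ, hψ⟩ := Points.exists_isPoints F (Algebra.ofId k L)
  let π : B →ₐ[k] κ := (IsScalarTower.toAlgHom k (PolLaw.image F.law) κ).comp (Ideal.Quotient.mkₐ k _)
  have hπ : Function.Surjective π :=
    (Ideal.algebraMap_residueField_surjective P.asIdeal).comp Ideal.Quotient.mk_surjective
  have : ∀ σ : Field.Emb k κ, ∃ j, σ.comp π = ψ j := fun σ =>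
    Points.exists_eq_of_kills_ker hψ (σ.comp π) fun b hb => by
      simp only [π, AlgHom.comp_apply, Ideal.Quotient.mkₐ_eq_mk, Ideal.Quotient.eq_zero_iff_mem.2 hb, map_zero]
  choose j hj using this
  refine Finite.of_injective j fun σ τ h => AlgHom.ext fun y => ?_
  obtain ⟨b, rfl⟩ := hπ y
  exact AlgHom.congr_fun ((hj σ).trans ((congrArg ψ h).trans (hj τ).symm)) b

end Groth.Agent.S13707
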