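import Groth.Statements.S13708
import Mathlib.AlgebraicGeometry.Morphisms.Separated
import Mathlib.AlgebraicGeometry.Morphisms.Immersion
import Mathlib.AlgebraicGeometry.Morphisms.Affine
-- import your own Groth.Agent.* helpers here

set_option autoImplicit false
universe u
open CategoryTheory CategoryTheory.Limits AlgebraicGeometry
open ZeroCyc

namespace Groth.Agent.S13708

/-- Let X be a scheme over S such that every finite set of points of X over a common point of S lies in
some affine open subscheme of X (the condition (AF)). Then X is separated over S. (The published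
condition (AF) asks for an open U with U → S quasi-affine rather than U affine; with U affine, as
here, the same argument applies verbatim, and the two conditions agree over a quasi-separated base.) -/
theorem result {X S : Scheme.{u}} (f : X ⟶ S) (hX : SymProd.IsAF f) :
    IsSeparated f := by
  constructor
  have : IsImmersion (pullback.diagonal f) := inferInstance
  refine IsClosedImmersion.of_isPreimmersion _ ?_
  refine isClosed_of_closure_subset fun z hz => ?_
  let x₁ := (pullback.fst f f).base z
  let x₂ := (pullback.snd f f).base z
  classical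
  obtain ⟨U, hU, hmem⟩ := hX (f.base x₁) {x₁, x₂} (fun x hx => by
    rcases Finset.mem_insert.mp hx with rfl | hx
    · rfl
    · rw [Finset.mem_singleton.mp hx]
      show (pullback.snd f f ≫ f).base z = (pullback.fst f f ≫ f).base z
      rw [pullback.condition])
  have : IsAffine U.toScheme := hU
  have : IsSeparated (U.ι ≫ f) := by
    have : IsSeparated ((U.ι ≫ f) ≫ terminal.from S) := by
      rw [show (U.ι ≫ f) ≫ terminal.from S = terminal.from _ from terminal.hom_ext _ _]
      infer_instance
    exact IsSeparated.of_comp _ (terminal.from S)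
  let φ := pullback.map (U.ι ≫ f) (U.ι ≫ f) f f U.ι U.ι (𝟙 S) (by simp) (by simp)
  have hz' : z ∈ Set.range φ.base := by
    rw [Scheme.Pullback.range_map]
    exact ⟨(Scheme.Opens.range_ι U).symm ▸ hmem x₁ (Finset.mem_insert_self _ _),
      (Scheme.Opens.range_ι U).symm ▸ hmem x₂ (Finset.mem_insert_of_mem (Finset.mem_singleton_self _))⟩
  obtain ⟨w, rfl⟩ := hz'
  have hw : w ∈ closure (φ.base ⁻¹' Set.range (pullback.diagonal f).base) := by
    rw [← IsOpenMap.preimage_closure_eq_closure_preimage φ.isOpenEmbedding.isOpenMap φ.continuous]
    exact hz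
  have hfac : pullback.diagonal (U.ι ≫ f) ≫ φ = U.ι ≫ pullback.diagonal f := by
    apply pullback.hom_ext
    · rw [Category.assoc, Category.assoc, pullback.diagonal_fst, Category.comp_id,
        show φ ≫ pullback.fst f f = pullback.fst (U.ι ≫ f) (U.ι ≫ f) ≫ U.ι from pullback.lift_fst _ _ _,
        ← Category.assoc, pullback.diagonal_fst, Category.id_comp]
    · rw [Category.assoc, Category.assoc, pullback.diagonal_snd, Category.comp_id,
        show φ ≫ pullback.snd f f = pullback.snd (U.ι ≫ f) (U.ι ≫ f) ≫ U.ι from pullback.lift_snd _ _ _,
        ← Category.assoc, pullback.diagonal_snd, Category.id_comp]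
  have hsub : φ.base ⁻¹' Set.range (pullback.diagonal f).base ⊆ Set.range (pullback.diagonal (U.ι ≫ f)).base := by
    rintro a ⟨x, hx⟩
    have h1 := congrArg (pullback.fst f f).base hx
    rw [← Scheme.Hom.comp_apply, ← Scheme.Hom.comp_apply, pullback.diagonal_fst, pullback.lift_fst] at h1
    refine ⟨(pullback.fst (U.ι ≫ f) (U.ι ≫ f)).base a, φ.isOpenEmbedding.injective ?_⟩
    rw [← hx, ← Scheme.Hom.comp_apply,
      hfac,
      Scheme.Hom.comp_apply]
    congr 1
    exact h1.symm
  obtain ⟨y, hy⟩ := (IsClosedImmersion.isClosedEmbedding (pullback.diagonal (U.ι ≫ f))).isClosed_range.closure_subset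
    (closure_mono hsub hw)
  refine ⟨U.ι.base y, ?_⟩
  rw [← hy, ← Scheme.Hom.comp_apply, ← Scheme.Hom.comp_apply, hfac]

end Groth.Agent.S13708
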