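import Groth.Statements.S13712
import Groth.Agent.S0593
-- import your own Groth.Agent.* helpers here

set_option autoImplicit false
universe u
open CategoryTheory CategoryTheory.Limits AlgebraicGeometry
open ZeroCyc

namespace Groth.Agent.S13712

/-- Let f : X → Y and g : Y → S be morphisms of schemes with g separated, such that the composite X → S
is integral with topologically finite fibres (every fibre is a finite set). Then the
scheme-theoretic image Y' of f, with its closed immersion Y' → Y, is integral over S, and Y' → S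
again has topologically finite fibres. (The published statement is for algebraic spaces; this row is
the case of schemes.) -/
theorem result {X Y S : Scheme.{u}} (f : X ⟶ Y) (g : Y ⟶ S)
    [IsSeparated g] [IsIntegralHom (f ≫ g)] (hfin : ∀ s : S, Set.Finite ((f ≫ g).base ⁻¹' {s})) :
    IsIntegralHom (f.imageι ≫ g) ∧ ∀ s : S, Set.Finite ((f.imageι ≫ g).base ⁻¹' {s}) := by
  haveI hfi : IsIntegralHom f :=
    MorphismProperty.of_postcomp (W := @IsIntegralHom) (W' := @IsSeparated) f g inferInstance inferInstance
  haveI : IsIntegralHom f.toImage := by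
    haveI : IsIntegralHom (f.toImage ≫ f.imageι) := by rwa [Scheme.Hom.toImage_imageι]
    exact MorphismProperty.of_postcomp (W := @IsIntegralHom) (W' := @IsSeparated) f.toImage f.imageι
      inferInstance inferInstance
  haveI hsurj : Surjective f.toImage := by
    constructor
    intro x
    have hcl : IsClosed (Set.range f.toImage) := f.toImage.isClosedMap.isClosed_range
    have hd : Dense (Set.range f.toImage) := f.toImage.denseRange
    have : Set.range f.toImage = Set.univ := by
      rw [← hcl.closure_eq]; exact hd.closure_eq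
    exact (Set.ext_iff.mp this x).mpr (Set.mem_univ x)
  have hcomp : f.toImage ≫ (f.imageι ≫ g) = f ≫ g := by
    rw [← Category.assoc, Scheme.Hom.toImage_imageι]
  haveI : UniversallyClosed (f.toImage ≫ (f.imageι ≫ g)) := by rw [hcomp]; infer_instance
  haveI huc : UniversallyClosed (f.imageι ≫ g) := UniversallyClosed.of_comp_surjective f.toImage _
  haveI : IsAffineHom (f.imageι ≫ g) := by
    refine ⟨fun U hU => ?_⟩
    have haff : IsAffineOpen (f.toImage ⁻¹ᵁ ((f.imageι ≫ g) ⁻¹ᵁ U)) := by
      rw [← Scheme.Hom.comp_preimage, hcomp]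
      exact hU.preimage (f ≫ g)
    haveI : IsAffine (f.toImage ⁻¹ᵁ ((f.imageι ≫ g) ⁻¹ᵁ U)).toScheme := haff
    haveI : Surjective (f.toImage ∣_ ((f.imageι ≫ g) ⁻¹ᵁ U)) :=
      IsZariskiLocalAtTarget.restrict hsurj _
    exact Groth.Agent.S0593.result _ _ (f.toImage ∣_ ((f.imageι ≫ g) ⁻¹ᵁ U))
  refine ⟨IsIntegralHom.iff_universallyClosed_and_isAffineHom.mpr ⟨huc, inferInstance⟩, fun s => ?_⟩
  have e : (f.imageι ≫ g).base ⁻¹' {s} ⊆ f.toImage.base '' ((f ≫ g).base ⁻¹' {s}) := by
    intro y hy
    obtain ⟨x, rfl⟩ := hsurj.surj y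
    refine ⟨x, ?_, rfl⟩
    rw [Set.mem_preimage, ← hcomp]; exact hy
  exact ((hfin s).image _).subset e

end Groth.Agent.S13712
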