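import Groth.Statements.S13718
import Groth.Agent.Lib.PolLaw.Kernel
-- import your own Groth.Agent.* helpers here

set_option autoImplicit false
universe u
open scoped TensorProduct
open ZeroCyc

namespace Groth.Agent.S13718

/-- Let φ : B' → B be a map of commutative algebras over the commutative ring A and F : B → A a
multiplicative polynomial law homogeneous of degree d, with push-forward the law F ∘ φ : B' → A.
Then the radical of the kernel of F ∘ φ equals the radical of the inverse image under φ of the
kernel of F: the support of the pushed-forward family of zero-cycles on Spec B' is the image of the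
support of the family on Spec B. (The published statement is for affine morphisms X → Y → S of
algebraic spaces; this row is the case of an affine base.) -/
theorem result {A : Type u} [CommRing A] {B : Type u} [CommRing B] [Algebra A B]
    {B' : Type u} [CommRing B'] [Algebra A B'] {d : ℕ} (F : PolLaw.MulLaw A B A d) (φ : B' →ₐ[A] B) :
    (PolLaw.ker (F.precomp φ).law).radical = ((PolLaw.ker F.law).comap φ).radical := by
  open Groth.Agent.Lib.PolLaw in
  have key : ∀ b' : B', φ b' ∈ PolLaw.ker F.law → b' ∈ PolLaw.ker (F.precomp φ).law := by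
    intro b' hb S _ _ x w
    show F.law.toFun' S (φ.toLinearMap.lTensor S (x + w * (1 ⊗ₜ[A] b'))) = F.law.toFun' S (φ.toLinearMap.lTensor S x)
    rw [PolLaw.lTensor_algHom_apply, PolLaw.lTensor_algHom_apply, map_add, map_mul]
    simpa using hb S _ _
  refine le_antisymm (Ideal.radical_le_radical_iff.2 fun b' hb => ⟨d, ?_⟩)
    (Ideal.radical_mono fun b' hb => key b' hb)
  rw [Ideal.mem_comap, map_pow]
  have hchi : Groth.Agent.Lib.PolLaw.Kernel.chi₀ F ((1 : A) ⊗ₜ[A] φ b') = (-Polynomial.X) ^ d := by
    rw [← Groth.Agent.Lib.PolLaw.Kernel.chi₀_of_mem_ker hb]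
    rw [Groth.Agent.Lib.PolLaw.Kernel.chi₀_eq, Groth.Agent.Lib.PolLaw.Kernel.chi₀_eq,
      Groth.Agent.Lib.PolLaw.Kernel.val₀, Groth.Agent.Lib.PolLaw.Kernel.val₀, Groth.Agent.Lib.PolLaw.Val.val_precomp]
    congr 1
    simp [Groth.Agent.Lib.PolLaw.Val.toPoly, TensorProduct.smul_tmul', Algebra.TensorProduct.one_def]
  have h := Groth.Agent.Lib.PolLaw.Kernel.aeval_chi₀_mem_ker F (φ b')
  rw [hchi, map_pow, map_neg, Polynomial.aeval_X, neg_pow] at h
  exact ((PolLaw.ker F.law).unit_mul_mem_iff_mem ((isUnit_one (M := B)).neg.pow d)).1 h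

end Groth.Agent.S13718
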