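import Groth.Statements.S13719
import Groth.Agent.Lib.PolLaw.Split
-- import your own Groth.Agent.* helpers here

set_option autoImplicit false
universe u
open scoped TensorProduct
open ZeroCyc

namespace Groth.Agent.S13719

open Groth.Agent.Lib.PolLaw

/-- Let A be a commutative ring whose prime spectrum is connected, B₁, B₂ commutative A-algebras and F :
B₁ × B₂ → A a multiplicative polynomial law homogeneous of degree d (a family of zero-cycles of
degree d on the disjoint union Spec B₁ ⊔ Spec B₂ over Spec A). Then there are natural numbers d₁ +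
d₂ = d, the multiplicities of the family on the two pieces, and multiplicative laws F₁ : B₁ → A, F₂
: B₂ → A homogeneous of degrees d₁, d₂ with F(x) = F₁(x₁) F₂(x₂) for every test algebra S and x ∈ S
⊗ (B₁ × B₂) with components x₁, x₂; and the degrees d₁, d₂ of any such factorisation are uniquely
determined. (The published statement is for finitely many algebraic spaces affine over a connected
algebraic space S; this row is the case of two pieces over an affine base.) -/
theorem result {A : Type u} [CommRing A] [ConnectedSpace (PrimeSpectrum A)]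
    {B₁ : Type u} [CommRing B₁] [Algebra A B₁] {B₂ : Type u} [CommRing B₂] [Algebra A B₂]
    {d : ℕ} (F : PolLaw.MulLaw A (B₁ × B₂) A d) :
    ∃ d₁ d₂ : ℕ, d₁ + d₂ = d ∧
      (∃ (F₁ : PolLaw.MulLaw A B₁ A d₁) (F₂ : PolLaw.MulLaw A B₂ A d₂),
        ∀ (S : Type u) [CommSemiring S] [Algebra A S] (x : S ⊗[A] (B₁ × B₂)),
          F.law.toFun' S x = F₁.law.toFun' S (LinearMap.lTensor S (LinearMap.fst A B₁ B₂) x) *
            F₂.law.toFun' S (LinearMap.lTensor S (LinearMap.snd A B₁ B₂) x)) ∧
      ∀ (e₁ e₂ : ℕ) (G₁ : PolLaw.MulLaw A B₁ A e₁) (G₂ : PolLaw.MulLaw A B₂ A e₂),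
        (∀ (S : Type u) [CommSemiring S] [Algebra A S] (x : S ⊗[A] (B₁ × B₂)),
          F.law.toFun' S x = G₁.law.toFun' S (LinearMap.lTensor S (LinearMap.fst A B₁ B₂) x) *
            G₂.law.toFun' S (LinearMap.lTensor S (LinearMap.snd A B₁ B₂) x)) → e₁ = d₁ ∧ e₂ = d₂ := by
  classical
  have he : ((1, 0) : B₁ × B₂) * (1, 0) = (1, 0) := by simp
  have hf : ((0, 1) : B₁ × B₂) * (0, 1) = (0, 1) := by simp
  have hef : ((1, 0) : B₁ × B₂) * (0, 1) = 0 := by simp
  have h1 : ((1, 0) : B₁ × B₂) + (0, 1) = 1 := by ext <;> simp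
  obtain ⟨d₁, hle, hs, hs'⟩ := Split.exists_degree F he hf hef h1
  refine ⟨d₁, d - d₁, by omega, ?_, ?_⟩
  · obtain ⟨G₁, hG₁⟩ := Split.exists_part F (LinearMap.inl A B₁ B₂) (0, 1) (fun a b => by simp) hf
      (fun a => by simp) (by ext <;> simp) hs
    obtain ⟨G₂, hG₂⟩ := Split.exists_part F (LinearMap.inr A B₁ B₂) (1, 0) (fun a b => by simp) he
      (fun a => by simp) (by ext <;> simp) hs'
    refine ⟨G₁, G₂, fun S _ _ x => ?_⟩
    rw [hG₁, hG₂, ← (F.mult S).2]
    congr 1
    have hprod : ∀ (a : S ⊗[A] B₁) (b : S ⊗[A] B₂),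
        ((LinearMap.inl A B₁ B₂).lTensor S a + 1 ⊗ₜ[A] ((0, 1) : B₁ × B₂)) *
          ((LinearMap.inr A B₁ B₂).lTensor S b + 1 ⊗ₜ[A] ((1, 0) : B₁ × B₂)) =
          (LinearMap.inl A B₁ B₂).lTensor S a + (LinearMap.inr A B₁ B₂).lTensor S b := by
      intro a b
      have e1 : (LinearMap.inl A B₁ B₂).lTensor S a * (LinearMap.inr A B₁ B₂).lTensor S b = 0 := by
        induction a using TensorProduct.induction_on with
        | zero => simp
        | add u v hu hv => rw [map_add, add_mul, hu, hv, add_zero]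
        | tmul s u =>
          induction b using TensorProduct.induction_on with
          | zero => simp
          | add p q hp hq => rw [map_add, mul_add, hp, hq, add_zero]
          | tmul t p => rw [LinearMap.lTensor_tmul, LinearMap.lTensor_tmul, Algebra.TensorProduct.tmul_mul_tmul]; simp [Prod.mk_zero_zero]
      have e2 : (LinearMap.inl A B₁ B₂).lTensor S a * (1 ⊗ₜ[A] ((1, 0) : B₁ × B₂)) = (LinearMap.inl A B₁ B₂).lTensor S a := by
        clear e1
        induction a using TensorProduct.induction_on with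
        | zero => simp
        | add u v hu hv => rw [map_add, add_mul, hu, hv]
        | tmul s u => simp
      have e3 : (1 ⊗ₜ[A] ((0, 1) : B₁ × B₂)) * (LinearMap.inr A B₁ B₂).lTensor S b = (LinearMap.inr A B₁ B₂).lTensor S b := by
        clear e1 e2
        induction b using TensorProduct.induction_on with
        | zero => simp
        | add u v hu hv => rw [map_add, mul_add, hu, hv]
        | tmul s u => simp
      rw [add_mul, mul_add, mul_add, e1, e2, e3, Algebra.TensorProduct.tmul_mul_tmul, mul_comm ((0, 1) : B₁ × B₂), hef,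
        TensorProduct.tmul_zero, zero_add, add_zero]
    rw [hprod, ← LinearMap.comp_apply, ← LinearMap.comp_apply, ← LinearMap.lTensor_comp, ← LinearMap.lTensor_comp,
      ← LinearMap.add_apply, ← LinearMap.lTensor_add,
      show LinearMap.inl A B₁ B₂ ∘ₗ LinearMap.fst A B₁ B₂ + LinearMap.inr A B₁ B₂ ∘ₗ LinearMap.snd A B₁ B₂ = LinearMap.id by
        ext <;> simp, LinearMap.lTensor_id_apply]
  · intro e₁ e₂ G₁ G₂ hG
    have : Nontrivial A := by
      by_contra hn
      have : Subsingleton A := not_nontrivial_iff_subsingleton.1 hn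
      exact IsEmpty.false (Classical.arbitrary (PrimeSpectrum A))
    let P := Polynomial A
    have hone : ∀ {B' : Type u} [CommRing B'] [Algebra A B'] {n : ℕ} (G : PolLaw.MulLaw A B' A n),
        G.law.toFun' P ((Polynomial.X : P) ⊗ₜ[A] (1 : B')) = (Polynomial.X : P) ^ n • (1 : P ⊗[A] A) := by
      intro B' _ _ n G
      rw [show (Polynomial.X : P) ⊗ₜ[A] (1 : B') = (Polynomial.X : P) • (1 : P ⊗[A] B') by
        simp [Algebra.TensorProduct.one_def, TensorProduct.smul_tmul'], G.homog, (G.mult P).1]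
    constructor
    · have h := hG P ((Polynomial.X : P) ⊗ₜ[A] ((1, 0) : B₁ × B₂) + 1 ⊗ₜ[A] ((0, 1) : B₁ × B₂))
      simp only [map_add, LinearMap.lTensor_tmul, LinearMap.fst_apply, LinearMap.snd_apply, TensorProduct.tmul_zero,
        add_zero, zero_add] at h
      rw [hone, ← Algebra.TensorProduct.one_def, (G₂.mult P).1, mul_one, Kernel.toFun'_eq,
        show Kernel.val₀ F ((Polynomial.X : P) ⊗ₜ[A] ((1, 0) : B₁ × B₂) + 1 ⊗ₜ[A] ((0, 1) : B₁ × B₂)) = Polynomial.X ^ d₁ from hs] at h
      simpa [Algebra.TensorProduct.one_def, TensorProduct.smul_tmul'] using (congrArg (fun z => Polynomial.natDegree (TensorProduct.rid A P z)) h).symm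
    · have h := hG P ((Polynomial.X : P) ⊗ₜ[A] ((0, 1) : B₁ × B₂) + 1 ⊗ₜ[A] ((1, 0) : B₁ × B₂))
      simp only [map_add, LinearMap.lTensor_tmul, LinearMap.fst_apply, LinearMap.snd_apply, TensorProduct.tmul_zero,
        add_zero, zero_add] at h
      rw [hone, ← Algebra.TensorProduct.one_def, (G₁.mult P).1, one_mul, Kernel.toFun'_eq,
        show Kernel.val₀ F ((Polynomial.X : P) ⊗ₜ[A] ((0, 1) : B₁ × B₂) + 1 ⊗ₜ[A] ((1, 0) : B₁ × B₂)) = Polynomial.X ^ (d - d₁) from hs'] at h
      simpa [Algebra.TensorProduct.one_def, TensorProduct.smul_tmul'] using (congrArg (fun z => Polynomial.natDegree (TensorProduct.rid A P z)) h).symm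

end Groth.Agent.S13719
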