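import Groth.Statements.S4780
import Mathlib.AlgebraicGeometry.AffineSpace
import Mathlib.AlgebraicGeometry.Morphisms.UniversallyOpen
import Mathlib.LinearAlgebra.TensorProduct.Finiteness
import Mathlib.RingTheory.LocalRing.ResidueField.Ideal
import Mathlib.AlgebraicGeometry.PullbackCarrier


set_option autoImplicit false
universe u
open CategoryTheory AlgebraicGeometry
open Lim8

namespace Groth.Agent.S4780

open Limits

theorem isOpenMap_comap_includeRight (R A B : Type u) [CommRing R] [CommRing A] [CommRing B]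
    [Algebra R A] [Algebra R B]
    (h : ∀ n : ℕ, 0 < n → IsOpenMap (PrimeSpectrum.comap
      (MvPolynomial.map (σ := ULift.{u} (Fin n)) (algebraMap R A)))) :
    IsOpenMap (PrimeSpectrum.comap
      (Algebra.TensorProduct.includeRight : B →ₐ[R] TensorProduct R A B).toRingHom) := by
  classical
  rw [PrimeSpectrum.isBasis_basic_opens.isOpenMap_iff]
  rintro _ ⟨_, ⟨z, rfl⟩, rfl⟩
  obtain ⟨s, rfl⟩ := TensorProduct.exists_finset z
  let e : Fin s.card ≃ ↥s := s.equivFin.symm
  let n := s.card + 1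
  let a : ULift.{u} (Fin n) → A := fun i =>
    if hi : i.down.1 < s.card then (e ⟨i.down.1, hi⟩).1.1 else 0
  let b : ULift.{u} (Fin n) → B := fun i =>
    if hi : i.down.1 < s.card then (e ⟨i.down.1, hi⟩).1.2 else 0
  let τ : MvPolynomial (ULift.{u} (Fin n)) R →+* B := (MvPolynomial.aeval b).toRingHom
  let φ := MvPolynomial.map (σ := ULift.{u} (Fin n)) (algebraMap R A)
  let χ : MvPolynomial (ULift.{u} (Fin n)) A →+* TensorProduct R A B :=
    MvPolynomial.eval₂Hom Algebra.TensorProduct.includeLeftRingHom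
      fun i => (1 : A) ⊗ₜ[R] b i
  let h₀ : MvPolynomial (ULift.{u} (Fin n)) A := ∑ i, MvPolynomial.C (a i) * MvPolynomial.X i
  have hh₀ : χ h₀ = ∑ x ∈ s, x.1 ⊗ₜ[R] x.2 := by
    simp only [χ, h₀, map_sum, map_mul, MvPolynomial.eval₂Hom_C, MvPolynomial.eval₂Hom_X',
      Algebra.TensorProduct.includeLeftRingHom_apply, Algebra.TensorProduct.tmul_mul_tmul, mul_one,
      one_mul]
    rw [← Equiv.ulift.symm.sum_comp, Fin.sum_univ_castSucc]
    have he : ∀ j : Fin (s.card + 1), ((Equiv.ulift.{u}).symm j).down = j := fun _ => rfl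
    simp only [a, b, he, Fin.val_castSucc, Fin.is_lt, dite_true, Fin.val_last, lt_irrefl, dite_false,
      TensorProduct.zero_tmul, add_zero, Fin.eta]
    rw [e.sum_comp (fun x : ↥s => x.1.1 ⊗ₜ[R] x.1.2), Finset.sum_coe_sort s (fun x => x.1 ⊗ₜ[R] x.2)]
  have hcomm : χ.comp φ =
      (Algebra.TensorProduct.includeRight : B →ₐ[R] TensorProduct R A B).toRingHom.comp τ := by
    refine MvPolynomial.ringHom_ext (fun r => ?_) fun i => ?_
    · simp [χ, φ, τ, Algebra.TensorProduct.algebraMap_apply]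
    · simp [χ, φ, τ]
  have key : PrimeSpectrum.comap
      (Algebra.TensorProduct.includeRight : B →ₐ[R] TensorProduct R A B).toRingHom ''
        (PrimeSpectrum.basicOpen (∑ x ∈ s, x.1 ⊗ₜ[R] x.2) : Set (PrimeSpectrum (TensorProduct R A B))) =
      PrimeSpectrum.comap τ ⁻¹'
        (PrimeSpectrum.comap φ '' (PrimeSpectrum.basicOpen h₀ : Set _)) := by
    ext p
    constructor
    · rintro ⟨q, hq, rfl⟩
      refine ⟨PrimeSpectrum.comap χ q, ?_, ?_⟩
      · show χ h₀ ∉ q.asIdeal
        rw [hh₀]; exact hq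
      · rw [← PrimeSpectrum.comap_comp_apply, ← PrimeSpectrum.comap_comp_apply, hcomm]
    · rintro ⟨q₀, hq₀, hq₀p⟩
      let t := PrimeSpectrum.comap τ p
      have e1 : t.asIdeal = q₀.asIdeal.comap φ := (congrArg PrimeSpectrum.asIdeal hq₀p).symm
      let ι₁ : t.asIdeal.ResidueField →+* q₀.asIdeal.ResidueField :=
        Ideal.ResidueField.map t.asIdeal q₀.asIdeal φ e1
      let ι₂ : t.asIdeal.ResidueField →+* p.asIdeal.ResidueField :=
        Ideal.ResidueField.map t.asIdeal p.asIdeal τ rfl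
      letI := ι₁.toAlgebra
      letI := ι₂.toAlgebra
      let W := TensorProduct t.asIdeal.ResidueField q₀.asIdeal.ResidueField p.asIdeal.ResidueField
      obtain ⟨M, hM⟩ := Ideal.exists_maximal W
      let j₁ : MvPolynomial (ULift.{u} (Fin n)) A →+* W ⧸ M :=
        (Ideal.Quotient.mk M).comp ((Algebra.TensorProduct.includeLeftRingHom).comp
          (algebraMap _ q₀.asIdeal.ResidueField))
      let j₂ : B →+* W ⧸ M :=
        (Ideal.Quotient.mk M).comp ((Algebra.TensorProduct.includeRight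
          (R := t.asIdeal.ResidueField) (A := q₀.asIdeal.ResidueField)).toRingHom.comp
          (algebraMap _ p.asIdeal.ResidueField))
      have hj : j₁.comp φ = j₂.comp τ := by
        ext x
        all_goals
          simp only [j₁, j₂, RingHom.comp_apply]
          congr 1
          rw [← Ideal.ResidueField.map_algebraMap t.asIdeal q₀.asIdeal φ e1,
            ← Ideal.ResidueField.map_algebraMap t.asIdeal p.asIdeal τ rfl]
          exact (Algebra.TensorProduct.includeLeft (R := t.asIdeal.ResidueField)).commutes _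
            |>.trans ((Algebra.TensorProduct.includeRight
              (R := t.asIdeal.ResidueField)).commutes _).symm
      letI : Algebra R (W ⧸ M) := (j₂.comp (algebraMap R B)).toAlgebra
      let f₁ : A →ₐ[R] W ⧸ M :=
        { j₁.comp MvPolynomial.C with
          commutes' := fun r => by
            have := RingHom.congr_fun hj (MvPolynomial.C r)
            simpa [φ, τ, RingHom.algebraMap_toAlgebra] using this }
      let f₂ : B →ₐ[R] W ⧸ M := { j₂ with commutes' := fun r => rfl }
      let Φ : TensorProduct R A B →ₐ[R] W ⧸ M :=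
        Algebra.TensorProduct.productMap f₁ f₂
      have hΦ : Φ.toRingHom.comp χ = j₁ := by
        refine MvPolynomial.ringHom_ext (fun c => ?_) fun i => ?_
        · simp [χ, Φ, f₁]
        · have := RingHom.congr_fun hj (MvPolynomial.X i)
          simp only [φ, τ, RingHom.comp_apply, MvPolynomial.map_X, AlgHom.toRingHom_eq_coe,
            RingHom.coe_coe, MvPolynomial.aeval_X] at this
          simp [χ, Φ, f₂, this]
      have : Field (W ⧸ M) := Ideal.Quotient.field M
      have hk1 : RingHom.ker j₁ = q₀.asIdeal := by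
        refine le_antisymm (fun x hx => ?_) fun x hx => ?_
        · by_contra hxq
          have hne : algebraMap _ q₀.asIdeal.ResidueField x ≠ 0 := fun h0 =>
            hxq (Ideal.algebraMap_residueField_eq_zero.mp h0)
          exact hne ((map_eq_zero ((Ideal.Quotient.mk M).comp
            Algebra.TensorProduct.includeLeftRingHom)).mp hx)
        · simp [j₁, RingHom.mem_ker, Ideal.algebraMap_residueField_eq_zero.mpr hx]
      have hk2 : RingHom.ker j₂ = p.asIdeal := by
        refine le_antisymm (fun x hx => ?_) fun x hx => ?_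
        · by_contra hxq
          have hne : algebraMap _ p.asIdeal.ResidueField x ≠ 0 := fun h0 =>
            hxq (Ideal.algebraMap_residueField_eq_zero.mp h0)
          exact hne ((map_eq_zero ((Ideal.Quotient.mk M).comp (Algebra.TensorProduct.includeRight
            (R := t.asIdeal.ResidueField) (A := q₀.asIdeal.ResidueField)).toRingHom)).mp hx)
        · simp [j₂, RingHom.mem_ker, Ideal.algebraMap_residueField_eq_zero.mpr hx]
      refine ⟨⟨RingHom.ker Φ.toRingHom, RingHom.ker_isPrime _⟩, ?_, ?_⟩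
      · show ∑ x ∈ s, x.1 ⊗ₜ[R] x.2 ∉ RingHom.ker Φ.toRingHom
        rw [← hh₀, RingHom.mem_ker, ← RingHom.comp_apply, hΦ, ← RingHom.mem_ker, hk1]
        exact hq₀
      · refine PrimeSpectrum.ext (Eq.trans ?_ hk2)
        ext x
        simp [RingHom.mem_ker, Φ, f₂]
  rw [key]
  exact (h n (Nat.succ_pos _) _ (PrimeSpectrum.basicOpen h₀).2).preimage
    (PrimeSpectrum.continuous_comap τ)

theorem isOpenMap_of_openEmbedding {W W' T T' : Type u} [TopologicalSpace W] [TopologicalSpace W']
    [TopologicalSpace T] [TopologicalSpace T'] {g : W → T} {g' : W' → T'} {a : W' → W} {b : T' → T}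
    (ha : Topology.IsOpenEmbedding a) (hb : Topology.IsOpenEmbedding b)
    (hcomm : ∀ x, g (a x) = b (g' x)) (hg : IsOpenMap g) : IsOpenMap g' := by
  intro U hU
  have : g' '' U = b ⁻¹' (g '' (a '' U)) := by
    ext t
    constructor
    · rintro ⟨x, hx, rfl⟩
      exact ⟨a x, ⟨x, hx, rfl⟩, hcomm x⟩
    · rintro ⟨_, ⟨x, hx, rfl⟩, h⟩
      exact ⟨x, hx, hb.injective ((hcomm x).symm.trans h)⟩
  rw [this]
  exact (hg _ (ha.isOpenMap _ hU)).preimage hb.continuous

theorem isOpenMap_affine {X Y : Scheme.{u}} (f : X ⟶ Y)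
    (h : ∀ n : ℕ, 0 < n →
      IsOpenMap ⇑(Limits.pullback.snd f (AffineSpace (ULift.{u} (Fin n)) Y ↘ Y)))
    {R A : CommRingCat.{u}} (φ : R ⟶ A) (iX : Spec A ⟶ X) (iY : Spec R ⟶ Y)
    [IsOpenImmersion iX] [IsOpenImmersion iY] (e : Spec.map φ ≫ iY = iX ≫ f) (n : ℕ) (hn : 0 < n) :
    IsOpenMap (PrimeSpectrum.comap (MvPolynomial.map (σ := ULift.{u} (Fin n)) φ.hom)) := by
  let σ := ULift.{u} (Fin n)
  let m := AffineSpace.map σ iY
  have hm : IsOpenImmersion m := MorphismProperty.of_isPullback (P := @IsOpenImmersion)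
    (AffineSpace.isPullback_map iY).flip ‹IsOpenImmersion iY›
  have hsq := AffineSpace.isPullback_map (n := σ) (Spec.map φ)
  let c : AffineSpace σ (Spec A) ⟶ pullback f (AffineSpace σ Y ↘ Y) :=
    hsq.flip.isoPullback.hom ≫ pullback.map (Spec.map φ) (AffineSpace σ (Spec R) ↘ Spec R) f
      (AffineSpace σ Y ↘ Y) iX m iY e (AffineSpace.map_over iY).symm
  have hc : c ≫ pullback.snd f (AffineSpace σ Y ↘ Y) = AffineSpace.map σ (Spec.map φ) ≫ m := by
    simp only [c, Category.assoc, pullback.lift_snd]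
    rw [hsq.flip.isoPullback_hom_snd_assoc]
  have h1 : IsOpenMap (AffineSpace.map σ (Spec.map φ)) :=
    isOpenMap_of_openEmbedding c.isOpenEmbedding m.isOpenEmbedding
      (fun x => by rw [← Scheme.Hom.comp_apply, hc, Scheme.Hom.comp_apply]) (h n hn)
  rw [AffineSpace.map_SpecMap] at h1
  exact isOpenMap_of_openEmbedding (AffineSpace.SpecIso σ A).inv.isOpenEmbedding
    (AffineSpace.SpecIso σ R).inv.isOpenEmbedding
    (fun (x : Spec (CommRingCat.of (MvPolynomial σ A))) => (Scheme.Hom.comp_apply (AffineSpace.SpecIso σ A).inv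
      ((AffineSpace.SpecIso σ A).hom ≫ Spec.map (CommRingCat.ofHom (MvPolynomial.map φ.hom)) ≫
        (AffineSpace.SpecIso σ R).inv) x).symm.trans (by rw [Iso.inv_hom_id_assoc]; rfl)) h1

/-- Let f : X ⟶ Y be a morphism of schemes. If, for every integer n > 0, the base change of f to affine
n-space over Y, X ×_Y 𝔸ⁿ_Y ⟶ 𝔸ⁿ_Y, is an open map of topological spaces, then f is universally open. -/
theorem result {X Y : Scheme.{u}} (f : X ⟶ Y)
    (h : ∀ n : ℕ, 0 < n →
      IsOpenMap ⇑(Limits.pullback.snd f (AffineSpace (ULift.{u} (Fin n)) Y ↘ Y))) :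
    UniversallyOpen f := by
  refine ⟨MorphismProperty.universally_mk' _ _ fun {T} g _ => ?_⟩
  suffices hs : IsOpenMap (pullback.snd f g) by
    have : IsOpenMap ((pullbackSymmetry g f).hom ≫ pullback.snd f g) :=
      hs.comp (pullbackSymmetry g f).hom.isOpenEmbedding.isOpenMap
    rwa [pullbackSymmetry_hom_comp_snd] at this
  rw [isOpenMap_iff_nhds_le]
  intro z
  obtain ⟨_, ⟨V, hV, rfl⟩, hzV, -⟩ := Y.isBasis_affineOpens.exists_subset_of_mem_open
    (Set.mem_univ (f (pullback.fst f g z))) isOpen_univ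
  have hzg : pullback.snd f g z ∈ g ⁻¹ᵁ V := by
    show g (pullback.snd f g z) ∈ V
    rw [← Scheme.Hom.comp_apply, ← pullback.condition, Scheme.Hom.comp_apply]
    exact hzV
  obtain ⟨_, ⟨U, hU, rfl⟩, hzU, hUV⟩ := X.isBasis_affineOpens.exists_subset_of_mem_open
    (show pullback.fst f g z ∈ f ⁻¹ᵁ V from hzV) (f ⁻¹ᵁ V).2
  obtain ⟨_, ⟨W, hW, rfl⟩, hzW, hWV⟩ := T.isBasis_affineOpens.exists_subset_of_mem_open
    hzg (g ⁻¹ᵁ V).2
  replace hV : IsAffineOpen V := hV
  replace hU : IsAffineOpen U := hU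
  replace hW : IsAffineOpen W := hW
  letI := (f.appLE V U hUV).hom.toAlgebra
  letI := (g.appLE V W hWV).hom.toAlgebra
  have eX : Spec.map (f.appLE V U hUV) ≫ hV.fromSpec = hU.fromSpec ≫ f :=
    IsAffineOpen.SpecMap_appLE_fromSpec f hV hU hUV
  have eT : Spec.map (g.appLE V W hWV) ≫ hV.fromSpec = hW.fromSpec ≫ g :=
    IsAffineOpen.SpecMap_appLE_fromSpec g hV hW hWV
  let c := pullback.map (Spec.map (CommRingCat.ofHom (algebraMap Γ(Y, V) Γ(X, U))))
    (Spec.map (CommRingCat.ofHom (algebraMap Γ(Y, V) Γ(T, W)))) f g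
    hU.fromSpec hW.fromSpec hV.fromSpec eX eT
  have hopen : IsOpenMap (pullback.snd (Spec.map (CommRingCat.ofHom (algebraMap Γ(Y, V) Γ(X, U))))
      (Spec.map (CommRingCat.ofHom (algebraMap Γ(Y, V) Γ(T, W))))) := by
    have h0 : IsOpenMap (Spec.map (CommRingCat.ofHom (Algebra.TensorProduct.includeRight :
        Γ(T, W) →ₐ[Γ(Y, V)] TensorProduct Γ(Y, V) Γ(X, U) Γ(T, W)).toRingHom)) :=
      isOpenMap_comap_includeRight Γ(Y, V) Γ(X, U) Γ(T, W) (fun n hn =>
        isOpenMap_affine f h (f.appLE V U hUV) hU.fromSpec hV.fromSpec eX n hn)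
    rw [← pullbackSpecIso_hom_snd]
    exact h0.comp (pullbackSpecIso Γ(Y, V) Γ(X, U) Γ(T, W)).hom.isOpenEmbedding.isOpenMap
  have hzc : z ∈ Set.range c := by
    rw [Scheme.Pullback.range_map, IsAffineOpen.range_fromSpec, IsAffineOpen.range_fromSpec]
    exact ⟨hzU, hzW⟩
  obtain ⟨w, rfl⟩ := hzc
  have hcomm : ∀ x, pullback.snd f g (c x) = hW.fromSpec (pullback.snd
      (Spec.map (CommRingCat.ofHom (algebraMap Γ(Y, V) Γ(X, U))))
      (Spec.map (CommRingCat.ofHom (algebraMap Γ(Y, V) Γ(T, W)))) x) := fun x => by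
    rw [← Scheme.Hom.comp_apply, ← Scheme.Hom.comp_apply, pullback.lift_snd]
  rw [hcomm, ← c.isOpenEmbedding.map_nhds_eq, Filter.map_map,
    show ((pullback.snd f g : _ → _) ∘ c) = (fun x => hW.fromSpec (pullback.snd
      (Spec.map (CommRingCat.ofHom (algebraMap Γ(Y, V) Γ(X, U))))
      (Spec.map (CommRingCat.ofHom (algebraMap Γ(Y, V) Γ(T, W)))) x)) from funext hcomm]
  exact (hW.fromSpec.isOpenEmbedding.isOpenMap.comp hopen).nhds_le w

end Groth.Agent.S4780
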