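import Groth.Statements.S1372
import Groth.Agent.H56.UOpen.Ring
import Groth.Agent.S1373


set_option autoImplicit false
universe u
open FlatMor

namespace Groth.Agent.S1372

open AlgebraicGeometry CategoryTheory Limits in
/-- Let A → B be a ring map and b_1, ..., b_d elements generating B as an A-module. Let h = Σ x_i b_i in
the polynomial ring B[x_1, ..., x_d]. Then universal openness of Spec B → Spec A is equivalent to
openness of the image in Spec A[x_1, ..., x_d] of the basic open D(h). -/
theorem result {A B : Type u} [CommRing A] [CommRing B] [Algebra A B] {d : ℕ} (b : Fin d → B)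
    (hb : Submodule.span A (Set.range b) = ⊤) :
    UniversallyOpen (Spec.map (CommRingCat.ofHom (algebraMap A B))) ↔
      IsOpen (PrimeSpectrum.comap (MvPolynomial.map (σ := Fin d) (algebraMap A B)) ''
        (PrimeSpectrum.basicOpen (∑ i : Fin d, MvPolynomial.X i * MvPolynomial.C (b i)) : Set (PrimeSpectrum (MvPolynomial (Fin d) B)))) := by
  constructor
  · intro _
    exact (H56.UOpen.isOpenMap_comap_map_iff A B (Fin d)).mpr
      (H56.UOpen.isOpenMap_includeRight_of_universallyOpen A B _) _
      (PrimeSpectrum.basicOpen _).2
  · intro h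
    refine (Groth.Agent.S1373.result _).mpr fun n => ?_
    rw [AffineSpace.map_SpecMap]
    have h1 := (H56.UOpen.isOpenMap_comap_map_iff A B (ULift.{u} (Fin n))).mpr
      (H56.UOpen.isOpenMap_includeRight_of_isOpen_image b hb h _)
    exact ((AffineSpace.SpecIso (ULift.{u} (Fin n)) (CommRingCat.of A)).inv.isOpenEmbedding.isOpenMap.comp
      h1).comp (AffineSpace.SpecIso (ULift.{u} (Fin n)) (CommRingCat.of B)).hom.isOpenEmbedding.isOpenMap


end Groth.Agent.S1372
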