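import Groth.Statements.S13720
import Groth.Agent.Lib.PolLaw.Coeff
-- import your own Groth.Agent.* helpers here

set_option autoImplicit false
universe u
open scoped TensorProduct
open ZeroCyc

namespace Groth.Agent.S13720

/-- Let B be the filtered direct limit of a directed system (B_i, t_ij : B_i → B_j) of commutative
algebras over the commutative ring A, with structure maps φ_i : B_i → B (jointly surjective, and an
element of B_i vanishing in B already vanishes in some B_j), and let F : B → C be a multiplicative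
polynomial law homogeneous of degree d, with restrictions F_i = F ∘ φ_i. Then an element b of B lies
in the kernel of F if and only if it is the image of some x ∈ B_i whose images in B_j lie in the
kernel of F_j for every j ≥ i; that is, the kernel of F is the direct limit of the kernels of the
F_i. -/
theorem result {A : Type u} [CommRing A] {B : Type u} [CommRing B] [Algebra A B]
    {C : Type u} [CommRing C] [Algebra A C] {ι : Type u} [Preorder ι] [IsDirected ι (fun i j => i ≤ j)] [Nonempty ι]
    (Bi : ι → Type u) [∀ i, CommRing (Bi i)] [∀ i, Algebra A (Bi i)]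
    (t : ∀ i j : ι, i ≤ j → (Bi i →ₐ[A] Bi j)) (φ : ∀ i : ι, Bi i →ₐ[A] B)
    (hcomp : ∀ (i j : ι) (h : i ≤ j), (φ j).comp (t i j h) = φ i)
    (hsurj : ∀ b : B, ∃ (i : ι) (x : Bi i), φ i x = b)
    (hzero : ∀ (i : ι) (x : Bi i), φ i x = 0 → ∃ (j : ι) (h : i ≤ j), t i j h x = 0)
    {d : ℕ} (F : PolLaw.MulLaw A B C d) (b : B) :
    b ∈ PolLaw.ker F.law ↔ ∃ (i : ι) (x : Bi i), φ i x = b ∧
      ∀ (j : ι) (h : i ≤ j), t i j h x ∈ PolLaw.ker (F.precomp (φ j)).law := by
  open Groth.Agent.Lib.PolLaw in
  refine ⟨fun hb => ?_, ?_⟩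
  · obtain ⟨i, x, hx⟩ := hsurj b
    refine ⟨i, x, hx, fun j h S _ _ u w => ?_⟩
    show F.law.toFun' S ((φ j).toLinearMap.lTensor S (u + w * (1 ⊗ₜ[A] t i j h x))) =
      F.law.toFun' S ((φ j).toLinearMap.lTensor S u)
    rw [PolLaw.lTensor_algHom_apply, PolLaw.lTensor_algHom_apply, map_add, map_mul]
    have : φ j (t i j h x) = b := by rw [← AlgHom.comp_apply, hcomp, hx]
    simpa [this] using hb S _ _
  · rintro ⟨i, x, hx, hker⟩ S _ _ u w
    have e : ∀ (j l : ι) (hjl : j ≤ l) (z : S ⊗[A] Bi j), Algebra.TensorProduct.map (AlgHom.id S S) (φ l)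
        (Algebra.TensorProduct.map (AlgHom.id S S) (t j l hjl) z) = Algebra.TensorProduct.map (AlgHom.id S S) (φ j) z := by
      intro j l hjl z
      induction z using TensorProduct.induction_on with
      | zero => simp
      | tmul s y => simp [← hcomp j l hjl]
      | add a c ha hc => simp only [map_add, ha, hc]
    have lift : ∀ z : S ⊗[A] B, ∀ k : ι, ∃ (j : ι) (_ : k ≤ j) (z' : S ⊗[A] Bi j),
        Algebra.TensorProduct.map (AlgHom.id S S) (φ j) z' = z := by
      intro z
      induction z using TensorProduct.induction_on with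
      | zero => exact fun k => ⟨k, le_rfl, 0, map_zero _⟩
      | tmul s y =>
        intro k
        obtain ⟨j, y', rfl⟩ := hsurj y
        obtain ⟨l, hjl, hkl⟩ := exists_ge_ge j k
        exact ⟨l, hkl, s ⊗ₜ[A] t j l hjl y', by simp [← hcomp j l hjl]⟩
      | add a c ha hc =>
        intro k
        obtain ⟨j, hkj, a', rfl⟩ := ha k
        obtain ⟨l, hjl, c', rfl⟩ := hc j
        refine ⟨l, hkj.trans hjl, Algebra.TensorProduct.map (AlgHom.id S S) (t j l hjl) a' + c', ?_⟩
        rw [map_add, e j l hjl]
    obtain ⟨j, hij, u', rfl⟩ := lift u i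
    obtain ⟨l, hjl, w', rfl⟩ := lift w j
    have := hker l (hij.trans hjl) S (Algebra.TensorProduct.map (AlgHom.id S S) (t j l hjl) u') w'
    have hx' : φ l (t i l (hij.trans hjl) x) = b := by rw [← AlgHom.comp_apply, hcomp, hx]
    change F.law.toFun' S ((φ l).toLinearMap.lTensor S _) = F.law.toFun' S ((φ l).toLinearMap.lTensor S _) at this
    rw [PolLaw.lTensor_algHom_apply, PolLaw.lTensor_algHom_apply, map_add, map_mul, e j l hjl] at this
    simpa [hx'] using this

end Groth.Agent.S13720
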