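import Groth.Statements.S13721
import Groth.Agent.Lib.PolLaw.BaseChange
-- import your own Groth.Agent.* helpers here

set_option autoImplicit false
universe u
open scoped TensorProduct
open ZeroCyc

namespace Groth.Agent.S13721

open Groth.Agent.Lib.PolLaw

/-- Let F : B → A be a multiplicative polynomial law homogeneous of degree d over the commutative ring
A, on a commutative A-algebra B which is finite as an A-module, and let A' be the filtered direct
limit of a directed system (A'_i, t_ij) of commutative A-algebras (t_ii the identity, t_jk ∘ t_ij =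
t_ik) with structure maps φ_i : A'_i → A' (compatible with the t_ij, jointly surjective, and an
element of A'_i vanishing in A' already vanishes in some A'_j). Then the kernel of the base change
of F to A', an ideal of A' ⊗_A B, is the supremum over i of the extensions along φ_i ⊗ B of the
kernels of the base changes of F to the A'_i: the kernel of the base-changed law is the direct limit
of the kernels. (The published statement has no finiteness hypothesis on B and is false without one:
for a suitable algebra B that is not finitely generated and a suitable directed system of quotients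
of A, an element of A' ⊗_A B lies in the kernel over the limit although it comes from the kernel at
no finite stage, because the conditions cutting out the kernel at an element are infinitely many and
die one at a time along the system; the published proof's reduction to finite B does not go through.
This row assumes B finite over A, the case that proof establishes.) -/
theorem result {A : Type u} [CommRing A] {B : Type u} [CommRing B] [Algebra A B]
    [Module.Finite A B] {A' : Type u} [CommRing A'] [Algebra A A'] {ι : Type u} [Preorder ι] [IsDirected ι (fun i j => i ≤ j)] [Nonempty ι]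
    (Ai : ι → Type u) [∀ i, CommRing (Ai i)] [∀ i, Algebra A (Ai i)]
    (t : ∀ i j : ι, i ≤ j → (Ai i →ₐ[A] Ai j)) (φ : ∀ i : ι, Ai i →ₐ[A] A')
    (hcomp : ∀ (i j : ι) (h : i ≤ j), (φ j).comp (t i j h) = φ i)
    (hsurj : ∀ a : A', ∃ (i : ι) (x : Ai i), φ i x = a)
    (hzero : ∀ (i : ι) (x : Ai i), φ i x = 0 → ∃ (j : ι) (h : i ≤ j), t i j h x = 0)
    (hid : ∀ (i : ι) (h : i ≤ i), t i i h = AlgHom.id A (Ai i))
    (htrans : ∀ (i j k : ι) (hij : i ≤ j) (hjk : j ≤ k), (t j k hjk).comp (t i j hij) = t i k (hij.trans hjk))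
    {d : ℕ} (F : PolLaw.MulLaw A B A d) :
    PolLaw.kerBC F.law A' =
      ⨆ i : ι, (PolLaw.kerBC F.law (Ai i)).map (Algebra.TensorProduct.map (φ i) (AlgHom.id A B)) := by
  classical
  refine le_antisymm (fun z hz => ?_) (iSup_le fun i => Ideal.map_le_iff_le_comap.2 fun z hz => Kernel.map_mem_kerBC (φ i) hz)
  obtain ⟨r, e, he⟩ := Module.Finite.exists_fin (R := A) (M := B)
  have hup : ∀ (i : ι) (s : Finset (Ai i)), (∀ x ∈ s, φ i x = 0) → ∃ (j : ι) (h : i ≤ j), ∀ x ∈ s, t i j h x = 0 := by
    intro i s
    induction s using Finset.induction_on with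
    | empty => exact fun _ => ⟨i, le_rfl, by simp⟩
    | insert x s _ ih =>
      intro h
      obtain ⟨j, hij, hj⟩ := ih fun y hy => h y (Finset.mem_insert_of_mem hy)
      obtain ⟨k, hik, hk⟩ := hzero i x (h x (Finset.mem_insert_self x s))
      obtain ⟨l, hjl, hkl⟩ := exists_ge_ge j k
      refine ⟨l, hij.trans hjl, fun y hy => ?_⟩
      rcases Finset.mem_insert.1 hy with rfl | hy
      · rw [← htrans i k l hik hkl, AlgHom.comp_apply, hk, map_zero]
      · rw [← htrans i j l hij hjl, AlgHom.comp_apply, hj y hy, map_zero]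
  have hlift : ∀ z : A' ⊗[A] B, ∃ (i : ι) (zi : Ai i ⊗[A] B),
      Algebra.TensorProduct.map (φ i) (AlgHom.id A B) zi = z := by
    intro z
    induction z using TensorProduct.induction_on with
    | zero => exact ⟨Classical.arbitrary ι, 0, map_zero _⟩
    | tmul a b =>
      obtain ⟨i, x, rfl⟩ := hsurj a
      exact ⟨i, x ⊗ₜ b, by simp⟩
    | add x y hx hy =>
      obtain ⟨i, x', rfl⟩ := hx
      obtain ⟨j, y', rfl⟩ := hy
      obtain ⟨k, hik, hjk⟩ := exists_ge_ge i j
      refine ⟨k, Algebra.TensorProduct.map (t i k hik) (AlgHom.id A B) x' +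
        Algebra.TensorProduct.map (t j k hjk) (AlgHom.id A B) y', ?_⟩
      rw [map_add, ← AlgHom.comp_apply, ← AlgHom.comp_apply, ← Algebra.TensorProduct.map_comp,
        ← Algebra.TensorProduct.map_comp, hcomp, hcomp, AlgHom.id_comp]
  obtain ⟨i, zi, rfl⟩ := hlift z
  let D : ∀ (R : Type u) [CommRing R] [Algebra A R], R ⊗[A] B → MvPolynomial (Fin r ⊕ Fin r) R :=
    fun R _ _ w => Kernel.val₀ F ((∑ i, MvPolynomial.X (Sum.inl i) ⊗ₜ[A] e i : MvPolynomial (Fin r ⊕ Fin r) R ⊗[A] B) +
        (∑ i, MvPolynomial.X (Sum.inr i) ⊗ₜ[A] e i) * Kernel.toTest (MvPolynomial (Fin r ⊕ Fin r) R) w) -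
      Kernel.val₀ F (∑ i, MvPolynomial.X (Sum.inl i) ⊗ₜ[A] e i : MvPolynomial (Fin r ⊕ Fin r) R ⊗[A] B)
  have hD : ∀ (R R' : Type u) [CommRing R] [Algebra A R] [CommRing R'] [Algebra A R'] (g : R →ₐ[A] R') (w : R ⊗[A] B),
      D R' (Algebra.TensorProduct.map g (AlgHom.id A B) w) = MvPolynomial.mapAlgHom g (D R w) := by
    intro R R' _ _ _ _ g w
    simp only [D, map_sub, Kernel.map_val₀, map_add, map_mul, map_sum, Algebra.TensorProduct.map_tmul,
      MvPolynomial.mapAlgHom_apply, MvPolynomial.map_X, AlgHom.id_apply]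
    have hc : Algebra.TensorProduct.map (MvPolynomial.mapAlgHom g) (AlgHom.id A B)
        (Kernel.toTest (MvPolynomial (Fin r ⊕ Fin r) R) w) =
        Kernel.toTest (MvPolynomial (Fin r ⊕ Fin r) R') (Algebra.TensorProduct.map g (AlgHom.id A B) w) := by
      induction w using TensorProduct.induction_on with
      | zero => simp
      | tmul a b => simp
      | add x y hx hy => simp [hx, hy]
    rw [hc]
  have h0 : MvPolynomial.mapAlgHom (φ i) (D (Ai i) zi) = 0 := by
    rw [← hD]
    exact sub_eq_zero.2 (Kernel.val₀_of_mem_kerBC hz _ _)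
  obtain ⟨j, hij, hj⟩ := hup i ((D (Ai i) zi).support.image fun m => MvPolynomial.coeff m (D (Ai i) zi)) (by
    intro x hx
    obtain ⟨m, -, rfl⟩ := Finset.mem_image.1 hx
    simpa [MvPolynomial.coeff_map] using congrArg (MvPolynomial.coeff m) h0)
  refine Submodule.mem_iSup_of_mem j ?_
  rw [← hcomp i j hij, ← AlgHom.id_comp (AlgHom.id A B), Algebra.TensorProduct.map_comp, AlgHom.comp_apply,
    AlgHom.id_comp]
  refine Ideal.mem_map_of_mem _ (Kernel.mem_kerBC_of_span e he F _ (sub_eq_zero.1 ?_))
  show D (Ai j) _ = 0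
  rw [hD]
  refine MvPolynomial.ext _ _ fun m => ?_
  rw [MvPolynomial.mapAlgHom_apply, MvPolynomial.coeff_map, MvPolynomial.coeff_zero]
  by_cases hm : m ∈ (D (Ai i) zi).support
  · exact hj _ (Finset.mem_image_of_mem _ hm)
  · rw [MvPolynomial.notMem_support_iff.1 hm, map_zero]

end Groth.Agent.S13721
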