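import Groth.Statements.S13723
import Groth.Agent.Lib.PolLaw.Fibre
-- import your own Groth.Agent.* helpers here

set_option autoImplicit false
universe u
open scoped TensorProduct
open ZeroCyc

namespace Groth.Agent.S13723

open Groth.Agent.Lib.PolLaw


/-- Let F : B → A be a multiplicative polynomial law homogeneous of degree d over the commutative ring A
and let Z = Spec(B/ker F) be the image of the family of zero-cycles it defines. For every field K
and ring map A → K, the fibre Spec(K ⊗_A (B/ker F)) has finitely many points, at most d of them. In
particular every geometric fibre of Z → Spec A has at most d points and Z → Spec A has universally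
topologically finite fibres. -/
theorem result {A : Type u} [CommRing A] {B : Type u} [CommRing B] [Algebra A B]
    {d : ℕ} (F : PolLaw.MulLaw A B A d) (K : Type u) [Field K] [Algebra A K] :
    Finite (PrimeSpectrum (K ⊗[A] PolLaw.image F.law)) ∧
      Nat.card (PrimeSpectrum (K ⊗[A] PolLaw.image F.law)) ≤ d := by
  obtain ⟨hfin, hcard⟩ := Fibre.card_fibre (A' := K) F (⊥ : PrimeSpectrum K)
  have huniv : PrimeSpectrum.comap (algebraMap K (K ⊗[A] PolLaw.image F.law)) ⁻¹' {(⊥ : PrimeSpectrum K)} = Set.univ :=
    Set.eq_univ_of_forall fun _ => Subsingleton.elim _ _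
  rw [huniv] at hfin hcard
  rw [Set.ncard_univ] at hcard
  exact ⟨Set.finite_univ_iff.1 hfin, hcard⟩

end Groth.Agent.S13723
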