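import Groth.Statements.S13724
import Groth.Agent.Lib.PolLaw.Fibre
-- import your own Groth.Agent.* helpers here

set_option autoImplicit false
universe u
open scoped TensorProduct
open ZeroCyc

namespace Groth.Agent.S13724

open Groth.Agent.Lib.PolLaw


/-- Let A be a commutative ring with finitely many maximal ideals, B a commutative A-algebra and F : B →
A a multiplicative polynomial law homogeneous of degree d. Then B/ker F, the coordinate ring of the
image of the family of zero-cycles defined by F, has finitely many maximal ideals. -/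
theorem result {A : Type u} [CommRing A] [Finite (MaximalSpectrum A)] {B : Type u} [CommRing B] [Algebra A B]
    {d : ℕ} (F : PolLaw.MulLaw A B A d) :
    Finite (MaximalSpectrum (PolLaw.image F.law)) := by
  let e : A ⊗[A] PolLaw.image F.law ≃ₐ[A] PolLaw.image F.law := Algebra.TensorProduct.lid A _
  let eP := (PrimeSpectrum.homeomorphOfRingEquiv e.toRingEquiv).toEquiv
  have := Kernel.isIntegral_image F
  let under : MaximalSpectrum (PolLaw.image F.law) → MaximalSpectrum A := fun M =>
    ⟨M.asIdeal.comap (algebraMap A _), Ideal.isMaximal_comap_of_isIntegral_of_isMaximal (R := A) M.asIdeal (hI := M.2)⟩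
  let g : MaximalSpectrum (PolLaw.image F.law) → PrimeSpectrum (A ⊗[A] PolLaw.image F.law) :=
    fun M => eP.symm M.toPrimeSpectrum
  have hg : Function.Injective g := eP.symm.injective.comp MaximalSpectrum.toPrimeSpectrum_injective
  refine Finite.of_finite_univ ?_
  refine Set.Finite.subset (s := g ⁻¹' (⋃ m : MaximalSpectrum A,
    PrimeSpectrum.comap (algebraMap A (A ⊗[A] PolLaw.image F.law)) ⁻¹' {m.toPrimeSpectrum})) ?_ fun M _ => ?_
  · exact Set.Finite.preimage hg.injOn (Set.finite_iUnion fun m => (Fibre.card_fibre F m.toPrimeSpectrum).1)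
  · refine Set.mem_iUnion.2 ⟨under M, PrimeSpectrum.ext (Ideal.ext fun a => ?_)⟩
    show algebraMap A (A ⊗[A] PolLaw.image F.law) a ∈ (g M).asIdeal ↔ algebraMap A (PolLaw.image F.law) a ∈ M.asIdeal
    show algebraMap A _ a ∈ M.asIdeal.comap e.toRingEquiv.toRingHom ↔ _
    rw [Ideal.mem_comap]
    show e (algebraMap A _ a) ∈ _ ↔ _
    rw [AlgEquiv.commutes]

end Groth.Agent.S13724
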