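import Groth.Statements.S13725
import Groth.Agent.Lib.PolLaw.Kernel
import Mathlib.RingTheory.AdjoinRoot
-- import your own Groth.Agent.* helpers here

set_option autoImplicit false
universe u
open scoped TensorProduct
open ZeroCyc

namespace Groth.Agent.S13725

/-- Let k be a field of characteristic p > 0 and let F : k → k be the law x ↦ x^p, multiplicative and
homogeneous of degree p over k. The kernel of F is the zero ideal, but after the flat base change k
→ A' = k[X]/(X^p) the kernel of the base-changed law on A' ⊗_k k is not zero (the class of X lies in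
it). So in characteristic p, forming the kernel of a multiplicative law is not compatible with flat
base change. -/
theorem result {k : Type u} [Field k] (p : ℕ) [Fact p.Prime] [CharP k p] :
    PolLaw.ker (PolLaw.MulLaw.pow k k p).law = ⊥ ∧
      PolLaw.kerBC (PolLaw.MulLaw.pow k k p).law (AdjoinRoot ((Polynomial.X : Polynomial k) ^ p)) ≠ ⊥ := by
  have hp : p.Prime := Fact.out
  constructor
  · rcases Ideal.eq_bot_or_top (PolLaw.ker (PolLaw.MulLaw.pow k k p).law) with h | h
    · exact h
    · exfalso
      have h1 := (h ▸ Submodule.mem_top : (1 : k) ∈ PolLaw.ker (PolLaw.MulLaw.pow k k p).law) k 0 1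
      change (0 + 1 * (1 : k) ⊗ₜ[k] (1 : k)) ^ p = (0 : k ⊗[k] k) ^ p at h1
      rw [zero_pow hp.ne_zero, zero_add, one_mul, ← Algebra.TensorProduct.one_def, one_pow] at h1
      exact one_ne_zero (α := k) (by simpa using congrArg (TensorProduct.lid k k) h1)
  · intro h
    let f : Polynomial k := Polynomial.X ^ p
    have hmem : (AdjoinRoot.root f) ⊗ₜ[k] (1 : k) ∈ PolLaw.kerBC (PolLaw.MulLaw.pow k k p).law (AdjoinRoot f) := by
      intro R _ _ _ _ x w
      change (x + _) ^ p = x ^ p
      obtain ⟨r, hr⟩ := exists_add_pow_prime_eq hp x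
        (w * Algebra.TensorProduct.map (IsScalarTower.toAlgHom k (AdjoinRoot f) R) (AlgHom.id k k) (AdjoinRoot.root f ⊗ₜ[k] 1))
      have hp0 : (p : R ⊗[k] k) = 0 := by
        rw [← map_natCast (algebraMap k (R ⊗[k] k)), CharP.cast_eq_zero, map_zero]
      have hroot : AdjoinRoot.root f ^ p = 0 := by
        have := AdjoinRoot.eval₂_root f
        simpa [f, Polynomial.eval₂_X_pow] using this
      rw [hr, hp0, mul_pow, ← map_pow, Algebra.TensorProduct.tmul_pow, hroot]
      simp
    rw [h, Submodule.mem_bot] at hmem
    have h2 : AdjoinRoot.root f = 0 := by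
      simpa using congrArg (TensorProduct.rid k (AdjoinRoot f)) hmem
    rw [← AdjoinRoot.mk_X, AdjoinRoot.mk_eq_zero] at h2
    have := Polynomial.natDegree_le_of_dvd h2 Polynomial.X_ne_zero
    simp [f] at this
    have := hp.two_le
    omega

end Groth.Agent.S13725
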