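import Groth.Statements.S13726
import Groth.Agent.Lib.PolLaw.Kernel
import Mathlib.RingTheory.AdjoinRoot
import Mathlib.RingTheory.MvPolynomial.Ideal
-- import your own Groth.Agent.* helpers here

set_option autoImplicit false
universe u
open scoped TensorProduct
open ZeroCyc

namespace Groth.Agent.S13726

/-- Let k be a field of characteristic p > 0 and A = k[t_i : i ∈ ℕ]/(t_i^p : i ∈ ℕ). The law x ↦ x^p
from A to A is multiplicative and homogeneous of degree p over A; its kernel is the ideal generated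
by the classes of the variables t_i, and this ideal is not finitely generated. Hence the image of a
family of zero-cycles need not be of finite presentation over the base even when X → S is. -/
theorem result {k : Type u} [Field k] (p : ℕ) [Fact p.Prime] [CharP k p] :
    PolLaw.ker (PolLaw.MulLaw.pow
        (MvPolynomial ℕ k ⧸ Ideal.span (Set.range fun i : ℕ => (MvPolynomial.X i : MvPolynomial ℕ k) ^ p))
        (MvPolynomial ℕ k ⧸ Ideal.span (Set.range fun i : ℕ => (MvPolynomial.X i : MvPolynomial ℕ k) ^ p)) p).law =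
      (Ideal.span (Set.range fun i : ℕ => (MvPolynomial.X i : MvPolynomial ℕ k))).map
        (Ideal.Quotient.mk (Ideal.span (Set.range fun i : ℕ => (MvPolynomial.X i : MvPolynomial ℕ k) ^ p))) ∧
    ¬ (PolLaw.ker (PolLaw.MulLaw.pow
        (MvPolynomial ℕ k ⧸ Ideal.span (Set.range fun i : ℕ => (MvPolynomial.X i : MvPolynomial ℕ k) ^ p))
        (MvPolynomial ℕ k ⧸ Ideal.span (Set.range fun i : ℕ => (MvPolynomial.X i : MvPolynomial ℕ k) ^ p)) p).law).FG := by
  classical
  have hp : p.Prime := Fact.out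
  let I : Ideal (MvPolynomial ℕ k) := Ideal.span (Set.range fun i : ℕ => (MvPolynomial.X i : MvPolynomial ℕ k) ^ p)
  have hchar : ∀ {R : Type u} [CommSemiring R] [Algebra (MvPolynomial ℕ k ⧸ I) R], ((p : ℕ) : R) = 0 := by
    intro R _ _
    rw [← map_natCast (algebraMap (MvPolynomial ℕ k ⧸ I) R), ← map_natCast (Ideal.Quotient.mk I),
      ← map_natCast (MvPolynomial.C : k →+* MvPolynomial ℕ k), CharP.cast_eq_zero, map_zero, map_zero, map_zero]
  have hker : PolLaw.ker (PolLaw.MulLaw.pow (MvPolynomial ℕ k ⧸ I) (MvPolynomial ℕ k ⧸ I) p).law =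
      (Ideal.span (Set.range fun i : ℕ => (MvPolynomial.X i : MvPolynomial ℕ k))).map (Ideal.Quotient.mk I) := by
    refine le_antisymm (fun b hb => ?_) ?_
    · obtain ⟨b, rfl⟩ := Ideal.Quotient.mk_surjective b
      have h1 := hb (MvPolynomial ℕ k ⧸ I) 0 1
      change (0 + 1 * (1 : MvPolynomial ℕ k ⧸ I) ⊗ₜ[MvPolynomial ℕ k ⧸ I] Ideal.Quotient.mk I b) ^ p = (0 : _) ^ p at h1
      have h2 : Ideal.Quotient.mk I (b ^ p) = 0 := by
        have h5 := congrArg (Algebra.TensorProduct.lid (MvPolynomial ℕ k ⧸ I) (MvPolynomial ℕ k ⧸ I)) h1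
        rw [map_pow, map_pow, map_add, map_zero, map_mul] at h5
        simpa [hp.ne_zero] using h5
      have h3 : I ≤ RingHom.ker (MvPolynomial.constantCoeff (R := k) (σ := ℕ)) := Ideal.span_le.2 (by
        rintro _ ⟨i, rfl⟩; simp [zero_pow hp.ne_zero])
      have h4 : MvPolynomial.constantCoeff b = 0 := by
        have := h3 (Ideal.Quotient.eq_zero_iff_mem.1 h2)
        rw [RingHom.mem_ker, map_pow] at this
        exact pow_eq_zero_iff hp.ne_zero |>.1 this
      refine Ideal.mem_map_of_mem _ ?_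
      rw [← Set.image_univ, MvPolynomial.mem_ideal_span_X_image]
      intro m hm
      by_contra hall
      push_neg at hall
      have hm0 : m = 0 := Finsupp.ext fun i => hall i (Set.mem_univ i)
      rw [hm0, MvPolynomial.mem_support_iff, ← MvPolynomial.constantCoeff_eq] at hm
      exact hm h4
    · rw [Ideal.map_span]
      refine Ideal.span_le.2 ?_
      rintro _ ⟨_, ⟨i, rfl⟩, rfl⟩ S _ _ x w
      change (x + _) ^ p = x ^ p
      obtain ⟨r, hr⟩ := exists_add_pow_prime_eq hp x (w * ((1 : S) ⊗ₜ[MvPolynomial ℕ k ⧸ I] Ideal.Quotient.mk I (MvPolynomial.X i)))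
      have hX : Ideal.Quotient.mk I (MvPolynomial.X i) ^ p = 0 := by
        rw [← map_pow, Ideal.Quotient.eq_zero_iff_mem]
        exact Ideal.subset_span ⟨i, rfl⟩
      rw [hr, hchar, mul_pow, Algebra.TensorProduct.tmul_pow, hX]
      simp
  refine ⟨hker, fun hfg => ?_⟩
  rw [hker, Ideal.map_span] at hfg
  obtain ⟨s, hs, hspan⟩ := (Submodule.fg_span_iff_fg_span_finset_subset _).1 hfg
  choose ix hix using fun x : s => hs x.2
  choose nx hnx using fun x : s => (hix x).1
  obtain ⟨N, hN⟩ := Infinite.exists_notMem_finset (Finset.univ.image nx)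
  let f : Polynomial k := Polynomial.X ^ 2
  let ε : MvPolynomial ℕ k →+* AdjoinRoot f :=
    (MvPolynomial.aeval (fun i => if i = N then AdjoinRoot.root f else 0)).toRingHom
  have hroot : AdjoinRoot.root f ^ 2 = 0 := by
    have := AdjoinRoot.eval₂_root f
    simpa [f, Polynomial.eval₂_X_pow] using this
  have hI : ∀ a ∈ I, ε a = 0 := fun a ha => by
    have : I ≤ RingHom.ker ε := Ideal.span_le.2 (by
      rintro _ ⟨i, rfl⟩
      simp only [SetLike.mem_coe, RingHom.mem_ker, map_pow]
      simp only [ε, AlgHom.toRingHom_eq_coe, RingHom.coe_coe, MvPolynomial.aeval_X]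
      split_ifs
      · obtain ⟨m, hm⟩ := Nat.exists_eq_add_of_le hp.two_le
        rw [hm, pow_add, hroot, zero_mul]
      · exact zero_pow hp.ne_zero)
    exact this ha
  let ε' : MvPolynomial ℕ k ⧸ I →+* AdjoinRoot f := Ideal.Quotient.lift I ε hI
  have hle : Ideal.span (s : Set (MvPolynomial ℕ k ⧸ I)) ≤ RingHom.ker ε' := Ideal.span_le.2 fun x hx => by
    have h1 := (hix ⟨x, hx⟩).2
    change Ideal.Quotient.mk I (ix ⟨x, hx⟩) = x at h1
    rw [SetLike.mem_coe, RingHom.mem_ker, ← h1, ← hnx ⟨x, hx⟩]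
    have hne : nx ⟨x, hx⟩ ≠ N := fun h => hN (h ▸ Finset.mem_image_of_mem nx (Finset.mem_univ _))
    simp [ε', ε, hne]
  have hmem : Ideal.Quotient.mk I (MvPolynomial.X N) ∈ Ideal.span (s : Set (MvPolynomial ℕ k ⧸ I)) := by
    rw [Ideal.span, ← hspan]
    exact Submodule.subset_span ⟨_, ⟨N, rfl⟩, rfl⟩
  have h2 : AdjoinRoot.root f = 0 := by simpa [ε', ε] using hle hmem
  rw [← AdjoinRoot.mk_X, AdjoinRoot.mk_eq_zero] at h2
  have := Polynomial.natDegree_le_of_dvd h2 Polynomial.X_ne_zero
  simp [f] at this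

end Groth.Agent.S13726
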