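import Groth.Statements.S13727
import Groth.Agent.Lib.PolLaw.Fibre
import Groth.Agent.Lib.PolLaw.FiniteComponents
-- import your own Groth.Agent.* helpers here

set_option autoImplicit false
universe u
open scoped TensorProduct
open ZeroCyc

namespace Groth.Agent.S13727

open Groth.Agent.Lib.PolLaw
open scoped TensorProduct


/-- Let A be a commutative ring whose prime spectrum is connected, B a commutative A-algebra and F : B →
A a multiplicative polynomial law homogeneous of degree d. Then Spec(B/ker F), the support of the
family of zero-cycles of degree d defined by F, has at most d connected components (in particular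
finitely many). -/
theorem result {A : Type u} [CommRing A] [ConnectedSpace (PrimeSpectrum A)]
    {B : Type u} [CommRing B] [Algebra A B] {d : ℕ} (F : PolLaw.MulLaw A B A d) :
    Finite (ConnectedComponents (PrimeSpectrum (PolLaw.image F.law))) ∧
      Nat.card (ConnectedComponents (PrimeSpectrum (PolLaw.image F.law))) ≤ d := by
  have := Kernel.isIntegral_image F
  let e : A ⊗[A] PolLaw.image F.law ≃ₐ[A] PolLaw.image F.law := Algebra.TensorProduct.lid A _
  let h := PrimeSpectrum.homeomorphOfRingEquiv e.toRingEquiv
  let π : PrimeSpectrum (PolLaw.image F.law) → PrimeSpectrum A := PrimeSpectrum.comap (algebraMap A _)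
  have hπ : ∀ x, π (h x) = PrimeSpectrum.comap (algebraMap A (A ⊗[A] PolLaw.image F.law)) x := by
    intro x
    refine PrimeSpectrum.ext (Ideal.ext fun a => ?_)
    show e.symm (algebraMap A _ a) ∈ x.asIdeal ↔ algebraMap A _ a ∈ x.asIdeal
    rw [AlgEquiv.commutes]
  have hopen : IsOpenMap π := by
    have hc : π = PrimeSpectrum.comap (algebraMap A (A ⊗[A] PolLaw.image F.law)) ∘ h.symm :=
      funext fun y => by simp only [Function.comp_apply, ← hπ, Homeomorph.apply_symm_apply]
    rw [hc]
    exact (Fibre.isOpenMap F).comp h.symm.isOpenMap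
  have hclosed : IsClosedMap π := PrimeSpectrum.isClosedMap_comap_of_isIntegral _ Algebra.IsIntegral.isIntegral
  obtain ⟨p⟩ := (inferInstance : Nonempty (PrimeSpectrum A))
  obtain ⟨hfin, hcard⟩ := Fibre.card_fibre F p
  have himg : π ⁻¹' {p} = h '' (PrimeSpectrum.comap (algebraMap A (A ⊗[A] PolLaw.image F.law)) ⁻¹' {p}) := by
    ext y
    obtain ⟨x, rfl⟩ := h.surjective y
    simp [hπ, h.injective.mem_set_image]
  obtain ⟨hf, hc⟩ := FiniteComponents.card_le (π ⁻¹' {p}) (himg ▸ hfin.image h) fun W hW hne => by
    have := (IsClopen.eq_univ ⟨hclosed W hW.1, hopen W hW.2⟩ (hne.image π))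
    obtain ⟨x, hx, hxp⟩ := this.symm ▸ Set.mem_univ p
    exact ⟨x, hx, hxp⟩
  refine ⟨hf, hc.trans ?_⟩
  rw [himg, Set.ncard_image_of_injective _ h.injective]
  exact hcard

end Groth.Agent.S13727
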