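import Groth.Statements.S13728
import Groth.Agent.Lib.PolLaw.NormLaw
import Mathlib.Algebra.Colimit.Module
-- import your own Groth.Agent.* helpers here

set_option autoImplicit false
universe u
open scoped TensorProduct
open ZeroCyc

namespace Groth.Agent.S13728

open Groth.Agent.Lib.PolLaw

/-- The functor B ↦ TS^d_A(B) (symmetric tensors of degree d, the invariants of the symmetric group in
the d-fold tensor power) commutes with filtered direct limits. Concretely, let B be the direct limit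
of a directed system (B_i, t_ij : B_i → B_j) of commutative algebras over the commutative ring A
(t_ii the identity, t_jk ∘ t_ij = t_ik) with structure maps φ_i : B_i → B (compatible with the t_ij,
jointly surjective, and an element of B_i vanishing in B vanishes in some B_j). Then every element
of TS^d_A(B) is the image of an element of some TS^d_A(B_i), and an element of TS^d_A(B_i) whose
image in TS^d_A(B) is zero has image zero in TS^d_A(B_j) for some j ≥ i. -/
theorem result {A : Type u} [CommRing A] {B : Type u} [CommRing B] [Algebra A B]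
    {ι : Type u} [Preorder ι] [IsDirected ι (fun i j => i ≤ j)] [Nonempty ι]
    (Bi : ι → Type u) [∀ i, CommRing (Bi i)] [∀ i, Algebra A (Bi i)]
    (t : ∀ i j : ι, i ≤ j → (Bi i →ₐ[A] Bi j)) (φ : ∀ i : ι, Bi i →ₐ[A] B)
    (hcomp : ∀ (i j : ι) (h : i ≤ j), (φ j).comp (t i j h) = φ i)
    (hsurj : ∀ b : B, ∃ (i : ι) (x : Bi i), φ i x = b)
    (hzero : ∀ (i : ι) (x : Bi i), φ i x = 0 → ∃ (j : ι) (h : i ≤ j), t i j h x = 0)
    (hid : ∀ (i : ι) (h : i ≤ i), t i i h = AlgHom.id A (Bi i))
    (htrans : ∀ (i j k : ι) (hij : i ≤ j) (hjk : j ≤ k), (t j k hjk).comp (t i j hij) = t i k (hij.trans hjk)) (d : ℕ) :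
    (∀ z : SymTen.TS A B d, ∃ (i : ι) (y : SymTen.TS A (Bi i) d), SymTen.TSmap A d (φ i) y = z) ∧
      ∀ (i : ι) (y : SymTen.TS A (Bi i) d), SymTen.TSmap A d (φ i) y = 0 →
        ∃ (j : ι) (h : i ≤ j), SymTen.TSmap A d (t i j h) y = 0 := by
  classical
  let T : ι → Type u := fun i => ⨂[A] _ : Fin d, Bi i
  let f : ∀ i j : ι, i ≤ j → T i →ₗ[A] T j := fun i j h => (SymTen.tmap A d (t i j h)).toLinearMap
  have hff : ∀ (i j k : ι) (hij : i ≤ j) (hjk : j ≤ k) (x : T i),
      SymTen.tmap A d (t j k hjk) (SymTen.tmap A d (t i j hij) x) = SymTen.tmap A d (t i k (hij.trans hjk)) x := by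
    intro i j k hij hjk x
    rw [← AlgHom.comp_apply, NormLaw.tmap_comp, htrans]
  haveI : DirectedSystem T (fun i j h => f i j h) :=
    ⟨fun i x => by show SymTen.tmap A d (t i i le_rfl) x = x; rw [hid, NormLaw.tmap_id]; rfl,
      fun {k j i} hkj hji x => hff _ _ _ hkj hji x⟩
  let D := Module.DirectLimit T f
  have hof : ∀ (i j : ι) (h : i ≤ j) (x : T i),
      Module.DirectLimit.of A ι T f j (SymTen.tmap A d (t i j h) x) = Module.DirectLimit.of A ι T f i x :=
    fun i j h x => Module.DirectLimit.of_f (f := f) (hij := h) (x := x)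
  have hup : ∀ (i : ι) {κ : Type} [Finite κ] (x : κ → Bi i), (∀ l, φ i (x l) = 0) →
      ∃ (j : ι) (h : i ≤ j), ∀ l, t i j h (x l) = 0 := by
    intro i κ _ x hx
    choose j hj hj' using fun l => hzero i (x l) (hx l)
    obtain ⟨M, hM⟩ := Finite.exists_le j
    obtain ⟨N, hiN, hMN⟩ := exists_ge_ge i M
    exact ⟨N, hiN, fun l => by rw [← htrans i (j l) N (hj l) ((hM l).trans hMN), AlgHom.comp_apply, hj', map_zero]⟩
  have hlift : ∀ {κ : Type} [Finite κ] (b : κ → B), ∃ (i : ι) (x : κ → Bi i), ∀ l, φ i (x l) = b l := by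
    intro κ _ b
    choose j x hx using fun l => hsurj (b l)
    obtain ⟨M, hM⟩ := Finite.exists_le j
    exact ⟨M, fun l => t (j l) M (hM l) (x l), fun l => by rw [← AlgHom.comp_apply, hcomp, hx]⟩
  have hwd : ∀ (i i' : ι) (x : Fin d → Bi i) (x' : Fin d → Bi i'), (∀ l, φ i (x l) = φ i' (x' l)) →
      Module.DirectLimit.of A ι T f i (PiTensorProduct.tprod A x) =
        Module.DirectLimit.of A ι T f i' (PiTensorProduct.tprod A x') := by
    intro i i' x x' hxx
    obtain ⟨k, hik, hi'k⟩ := exists_ge_ge i i'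
    obtain ⟨j, hkj, hj⟩ := hup k (fun l => t i k hik (x l) - t i' k hi'k (x' l)) fun l => by
      rw [map_sub, ← AlgHom.comp_apply, ← AlgHom.comp_apply, hcomp, hcomp, hxx, sub_self]
    rw [← hof i j (hik.trans hkj), ← hof i' j (hi'k.trans hkj), SymTen.tmap_tprod, SymTen.tmap_tprod]
    congr 2
    funext l
    rw [← sub_eq_zero, ← htrans i k j hik hkj, ← htrans i' k j hi'k hkj, AlgHom.comp_apply, AlgHom.comp_apply,
      ← map_sub, hj]
  choose gi gx hgx using fun b : Fin d → B => hlift b
  let g : (Fin d → B) → D := fun b => Module.DirectLimit.of A ι T f (gi b) (PiTensorProduct.tprod A (gx b))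
  have hg : ∀ (b : Fin d → B) (i : ι) (x : Fin d → Bi i), (∀ l, φ i (x l) = b l) →
      g b = Module.DirectLimit.of A ι T f i (PiTensorProduct.tprod A x) :=
    fun b i x hx => hwd _ _ _ _ fun l => by rw [hgx, hx]
  have hupd : ∀ (b : Fin d → B) (l : Fin d) (u v : B), ∃ (i : ι) (x : Fin d → Bi i) (u' v' : Bi i),
      (∀ l, φ i (x l) = b l) ∧ φ i u' = u ∧ φ i v' = v := by
    intro b l u v
    obtain ⟨i, x, hx⟩ := hlift (Sum.elim b (Sum.elim (fun _ : Fin 1 => u) (fun _ : Fin 1 => v)))
    exact ⟨i, fun k => x (Sum.inl k), x (Sum.inr (Sum.inl 0)), x (Sum.inr (Sum.inr 0)),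
      fun k => hx _, hx _, hx _⟩
  have hfun : ∀ [DecidableEq (Fin d)] (b : Fin d → B) (l : Fin d) (i : ι) (x : Fin d → Bi i) (u' : Bi i), (∀ k, φ i (x k) = b k) →
      g (Function.update b l (φ i u')) = Module.DirectLimit.of A ι T f i (PiTensorProduct.tprod A (Function.update x l u')) := by
    intro _ b l i x u' hx
    refine hg _ _ _ fun k => ?_
    rcases eq_or_ne k l with rfl | hne
    · simp
    · simp [hne, hx]
  let G : MultilinearMap A (fun _ : Fin d => B) D :=
    { toFun := g
      map_update_add' := fun b l u v => by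
        obtain ⟨i, x, u', v', hx, rfl, rfl⟩ := hupd b l u v
        rw [← map_add, hfun b l i x _ hx, hfun b l i x _ hx, hfun b l i x _ hx, MultilinearMap.map_update_add, map_add]
      map_update_smul' := fun b l c u => by
        obtain ⟨i, x, u', v', hx, rfl, -⟩ := hupd b l u u
        rw [← map_smul, hfun b l i x _ hx, hfun b l i x _ hx, MultilinearMap.map_update_smul, map_smul] }
  let Ψ : (⨂[A] _ : Fin d, B) →ₗ[A] D := PiTensorProduct.lift G
  have hΨ : ∀ (i : ι) (y : T i), Ψ (SymTen.tmap A d (φ i) y) = Module.DirectLimit.of A ι T f i y := by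
    intro i y
    induction y using PiTensorProduct.induction_on with
    | smul_tprod r x =>
      rw [map_smul, map_smul, map_smul, SymTen.tmap_tprod, PiTensorProduct.lift.tprod]
      exact congrArg (r • ·) (hg _ _ _ fun l => rfl)
    | add a b ha hb => rw [map_add, map_add, map_add, ha, hb]
  have hdie : ∀ (i : ι) (y : T i), SymTen.tmap A d (φ i) y = 0 → ∃ (j : ι) (h : i ≤ j), SymTen.tmap A d (t i j h) y = 0 := by
    intro i y hy
    exact Module.DirectLimit.of.zero_exact (f := f) (by rw [← hΨ, hy, map_zero])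
  have hall : ∀ z : ⨂[A] _ : Fin d, B, ∃ (i : ι) (y : T i), SymTen.tmap A d (φ i) y = z := by
    intro z
    induction z using PiTensorProduct.induction_on with
    | smul_tprod r b =>
      exact ⟨gi b, r • PiTensorProduct.tprod A (gx b), by rw [map_smul, SymTen.tmap_tprod]; simp only [hgx]⟩
    | add a b ha hb =>
      obtain ⟨i, y, rfl⟩ := ha
      obtain ⟨j, y', rfl⟩ := hb
      obtain ⟨k, hik, hjk⟩ := exists_ge_ge i j
      refine ⟨k, SymTen.tmap A d (t i k hik) y + SymTen.tmap A d (t j k hjk) y', ?_⟩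
      rw [map_add, ← AlgHom.comp_apply, ← AlgHom.comp_apply, NormLaw.tmap_comp, NormLaw.tmap_comp, hcomp, hcomp]
  refine ⟨fun z => ?_, fun i y hy => ?_⟩
  · obtain ⟨i, y, hy⟩ := hall z.1
    choose j hj hj' using fun σ : Equiv.Perm (Fin d) => hdie i (PiTensorProduct.reindex A (fun _ : Fin d => Bi i) σ y - y) (by
      rw [map_sub, SymTen.tmap_reindex, hy, z.2 σ, sub_self])
    obtain ⟨M, hM⟩ := Finite.exists_le j
    obtain ⟨N, hiN, hMN⟩ := exists_ge_ge i M
    refine ⟨N, ⟨SymTen.tmap A d (t i N hiN) y, fun σ => ?_⟩, Subtype.ext ?_⟩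
    · rw [← sub_eq_zero, ← SymTen.tmap_reindex, ← map_sub, ← hff i (j σ) N (hj σ) ((hM σ).trans hMN), hj', map_zero]
    · show SymTen.tmap A d (φ N) (SymTen.tmap A d (t i N hiN) y) = z.1
      rw [← AlgHom.comp_apply, NormLaw.tmap_comp, hcomp, hy]
  · obtain ⟨j, h, hj⟩ := hdie i y.1 (congrArg Subtype.val hy)
    exact ⟨j, h, Subtype.ext hj⟩

end Groth.Agent.S13728
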