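import Groth.Statements.S13730
import Groth.Agent.Lib.PolLaw.FlatFibre
-- import your own Groth.Agent.* helpers here

set_option autoImplicit false
universe u
open scoped TensorProduct
open ZeroCyc

namespace Groth.Agent.S13730

open Groth.Agent.Lib.PolLaw


/-- Let (C, γ) be the algebra of divided powers Γ^d_A(B) of a commutative A-algebra B with its universal
multiplicative law γ : B → C homogeneous of degree d (every multiplicative law B → C' homogeneous of
degree d factors uniquely through γ by an algebra map C → C'). If B is flat over A and K ⊗_A B is
reduced for every field K receiving a ring map from A (X = Spec B → S = Spec A is flat with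
geometrically reduced fibres), then K ⊗_A C is reduced for every such K: Γ^d_A(B) again has
geometrically reduced fibres over A. (The published statement is for a flat morphism of algebraic
spaces X → S with geometrically reduced fibres and also records that Γ^d(X/S) → S is flat; this row
is the affine case and states only the reducedness of the fibres, flatness of Γ^d_A(B) for flat B
being a separate statement.) -/
theorem result {A : Type u} [CommRing A] {B : Type u} [CommRing B] [Algebra A B] {C : Type u} [CommRing C] [Algebra A C]
    {d : ℕ} (γ : PolLaw.MulLaw A B C d) (hγ : PolLaw.IsGammaD γ) [Module.Flat A B]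
    (hred : ∀ (K : Type u) [Field K] [Algebra A K], IsReduced (K ⊗[A] B)) :
    ∀ (K : Type u) [Field K] [Algebra A K], IsReduced (K ⊗[A] C) := by
  intro K _ _
  obtain ⟨e⟩ := GammaTS.nonempty_equiv hγ
  let e' : C ≃ₐ[A] SymTen.TS A B d := e.symm.trans (GammaTS.equiv (Or.inl ‹Module.Flat A B›))
  have := FlatFibre.isReduced_tpow hred K d
  refine isReduced_of_injective
    (Algebra.TensorProduct.map (AlgHom.id A K) ((SymTen.TS A B d).val.comp e'.toAlgHom)) ?_
  intro x y hxy
  have hmap : ∀ z, Algebra.TensorProduct.map (AlgHom.id A K) ((SymTen.TS A B d).val.comp e'.toAlgHom) z =
      ((SymTen.TS A B d).val.comp e'.toAlgHom).toLinearMap.lTensor K z := fun z => by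
    induction z using TensorProduct.induction_on with
    | zero => simp
    | tmul a b => simp
    | add a b ha hb => simp only [map_add, ha, hb]
  rw [hmap, hmap, AlgHom.comp_toLinearMap,
    LinearMap.lTensor_comp_apply, LinearMap.lTensor_comp_apply] at hxy
  exact (e'.toLinearEquiv.lTensor K).injective (FlatFibre.lTensor_val_injective d K hxy)

end Groth.Agent.S13730
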