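import Groth.Statements.S13731
import Groth.Agent.Lib.Subtrusive.Noetherian

set_option autoImplicit false
universe u
open HTop

namespace Groth.Agent.S13731

open CategoryTheory CategoryTheory.Limits AlgebraicGeometry in
/-- Let X be a separated Noetherian scheme and {p_i : U_i → X} a finite family of separated morphisms of
finite type whose induced morphism from the disjoint union of the U_i to X is universally submersive
(an h-covering). Then every point x of X is p_i(u) for some i and some point u of U_i admitting a
generization ξ in U_i whose image p_i(ξ) is a generic point of an irreducible component of X.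
Equivalently, the irreducible components of the U_i dominating an irreducible component of X jointly
cover X. -/
theorem result {X : Scheme.{u}} [IsNoetherian X] [X.IsSeparated] (E : PreZeroHypercover.{u} X) [Finite E.I₀] [∀ i, LocallyOfFiniteType (E.f i)] [∀ i, QuasiCompact (E.f i)] [∀ i, IsSeparated (E.f i)] (hE : SGA1.UnivSubmersive (Sigma.desc E.f)) (x : X) : ∃ (i : E.I₀) (ξ u : E.X i), ξ ⤳ u ∧ E.f i u = x ∧ closure {E.f i ξ} ∈ irreducibleComponents ↥X := by
  have hqc : QuasiCompact (Sigma.desc E.f) := by
    refine ⟨fun U hU hUc => ?_⟩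
    have e : Sigma.desc E.f ⁻¹' U = ⋃ i, Sigma.ι E.X i '' (E.f i ⁻¹' U) := by
      ext z
      obtain ⟨i, x, rfl⟩ := (sigmaOpenCover E.X).exists_eq z
      constructor
      · intro hz
        refine Set.mem_iUnion.mpr ⟨i, x, ?_, rfl⟩
        show E.f i x ∈ U
        rw [← Sigma.ι_desc E.f i, Scheme.Hom.comp_apply]
        exact hz
      · intro hz
        obtain ⟨j, y, hy, hyx⟩ := Set.mem_iUnion.mp hz
        show Sigma.desc E.f _ ∈ U
        rw [← hyx, ← Scheme.Hom.comp_apply, Sigma.ι_desc]
        exact hy
    rw [e]
    exact isCompact_iUnion fun i =>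
      ((E.f i).isCompact_preimage (U := ⟨U, hU⟩) hUc).image (Sigma.ι E.X i).continuous
  obtain ⟨η, hη⟩ := QuasiSober.sober (isIrreducible_irreducibleComponent (x := x))
    isClosed_irreducibleComponent
  obtain ⟨w, w', hw, hwx, hwη⟩ := Groth.Agent.Lib.Subtrusive.Noetherian.isSSubtrusive_of_univSubmersive _ hE
    (show η ⤳ x from specializes_iff_mem_closure.mpr (hη.def.symm ▸ mem_irreducibleComponent))
  obtain ⟨i, u, rfl⟩ := (sigmaOpenCover E.X).exists_eq w
  obtain ⟨ξ, rfl⟩ := hw.mem_open (Sigma.ι E.X i).isOpenEmbedding.isOpen_range ⟨u, rfl⟩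
  refine ⟨i, ξ, u, (Sigma.ι E.X i).isOpenEmbedding.isInducing.specializes_iff.mp hw, ?_, ?_⟩
  · rw [← hwx, ← Sigma.ι_desc E.f i, Scheme.Hom.comp_apply]
    rfl
  · have e : E.f i ξ = η := by
      rw [← hwη, ← Sigma.ι_desc E.f i, Scheme.Hom.comp_apply]
    rw [e, hη.def]
    exact irreducibleComponent_mem_irreducibleComponents x

end Groth.Agent.S13731
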