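import Groth.Statements.S8977
import Groth.Agent.Lib.Subtrusive.Noetherian
import Groth.Agent.Lib.Subtrusive.VCover

set_option autoImplicit false
universe u
open HTop

namespace Groth.Agent.S8977

open CategoryTheory CategoryTheory.Limits AlgebraicGeometry in
/-- For a Noetherian scheme X and a finite family of finite type morphisms X_i → X, the induced morphism
from the coproduct of the X_i to X is universally submersive if and only if the family is an h
covering. -/
theorem result {X : Scheme.{u}} [IsNoetherian X] (E : PreZeroHypercover.{u} X) [Finite E.I₀] [∀ i, LocallyOfFiniteType (E.f i)] [∀ i, QuasiCompact (E.f i)] : SGA1.UnivSubmersive (Sigma.desc E.f) ↔ HTop.IsHCover E := by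
  have hqc : QuasiCompact (Sigma.desc E.f) := by
    refine ⟨fun U hU hUc => ?_⟩
    have e : Sigma.desc E.f ⁻¹' U = ⋃ i, Sigma.ι E.X i '' (E.f i ⁻¹' U) := by
      ext z
      obtain ⟨i, x, rfl⟩ := (sigmaOpenCover E.X).exists_eq z
      constructor
      · intro hz
        refine Set.mem_iUnion.mpr ⟨i, x, ?_, rfl⟩
        show E.f i x ∈ U
        rw [← Sigma.ι_desc E.f i, Scheme.Hom.comp_apply]
        exact hz
      · intro hz
        obtain ⟨j, y, hy, hyx⟩ := Set.mem_iUnion.mp hz
        show Sigma.desc E.f _ ∈ U
        rw [← hyx, ← Scheme.Hom.comp_apply, Sigma.ι_desc]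
        exact hy
    rw [e]
    exact isCompact_iUnion fun i =>
      ((E.f i).isCompact_preimage (U := ⟨U, hU⟩) hUc).image (Sigma.ι E.X i).continuous
  constructor
  · intro h
    refine ⟨fun i => inferInstance, Groth.Agent.Lib.Subtrusive.VCover.isVCover_of_liftsFam ?_ fun O =>
      ⟨Set.univ, Set.finite_univ, fun i _ => (E.f i).isCompact_preimage O.2.isCompact,
        fun i hi => absurd (Set.mem_univ i) hi⟩⟩
    exact (Groth.Agent.Lib.Subtrusive.VCover.hasLifts_sigmaDesc_iff E).mp (Groth.Agent.Lib.Subtrusive.Criterion.univSSubtrusive_iff_hasLifts.mp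
      (Groth.Agent.Lib.Subtrusive.Noetherian.univSSubtrusive_of_univSubmersive _ h))
  · intro h
    exact Groth.Agent.Lib.Subtrusive.Submersive.univSubmersive_of_univSSubtrusive _
      (Groth.Agent.Lib.Subtrusive.Criterion.univSSubtrusive_of_hasLifts
        ((Groth.Agent.Lib.Subtrusive.VCover.hasLifts_sigmaDesc_iff E).mpr (Groth.Agent.Lib.Subtrusive.VCover.liftsFam_of_isVCover h.2)))

end Groth.Agent.S8977
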