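import Groth.Statements.S13735
import Groth.Agent.S19876
import Groth.Agent.S13734
import Mathlib.RingTheory.Flat.FaithfullyFlat.Algebra
import Mathlib.RingTheory.Flat.TorsionFree
import Mathlib.AlgebraicGeometry.Morphisms.Flat

set_option autoImplicit false
universe u
open HTop

namespace Groth.Agent.S13735

open CategoryTheory CategoryTheory.Limits AlgebraicGeometry in
/-- Let S be a separated reduced Noetherian scheme, f : X → S a separated morphism locally of finite
type and g : S' → S a separated morphism of finite type which is universally submersive (an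
h-covering). If the base change of f along g is flat, then f is flat. -/
theorem result {X S S' : Scheme.{u}} [IsNoetherian S] [IsReduced S] [S.IsSeparated] (f : X ⟶ S) [LocallyOfFiniteType f] [IsSeparated f] (g : S' ⟶ S) [LocallyOfFiniteType g] [QuasiCompact g] [IsSeparated g] (hg : SGA1.UnivSubmersive g) (hflat : Flat (pullback.snd f g)) : Flat f := by
  rw [HasRingHomProperty.iff_appLE (P := @Flat)]
  rintro ⟨U, hU⟩ ⟨V, hV⟩ e
  have : IsNoetherianRing Γ(S, U) := IsLocallyNoetherian.component_noetherian ⟨U, hU⟩
  let A : Type u := Γ(S, U)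
  let B : Type u := Γ(X, V)
  have hft : (f.appLE U V e).hom.FiniteType :=
    HasRingHomProperty.appLE (P := @LocallyOfFiniteType) _ ‹_› ⟨U, hU⟩ ⟨V, hV⟩ e
  let : Algebra A B := (f.appLE U V e).hom.toAlgebra
  have : Algebra.FiniteType A B := hft
  show Module.Flat A B
  rw [Groth.Agent.S19876.result A B B]
  intro R _ _ _ _
  obtain ⟨R', _, _, _, φ, h, hφ, hh⟩ := (Groth.Agent.S13734.result g).1 hg R
    (Spec.map (CommRingCat.ofHom (algebraMap A R)) ≫ hU.fromSpec)
  let ψ : CommRingCat.of R ⟶ CommRingCat.of R' := Spec.preimage φ
  have hψ : Spec.map ψ = φ := Spec.map_preimage φ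
  let : Algebra R R' := ψ.hom.toAlgebra
  let : Algebra A R' := ((algebraMap R R').comp (algebraMap A R)).toAlgebra
  have : IsScalarTower A R R' := IsScalarTower.of_algebraMap_eq' rfl
  have hsurj : Function.Surjective (PrimeSpectrum.comap (algebraMap R R')) := by
    have : Surjective (Spec.map ψ) := hψ ▸ hφ
    exact this.surj
  have hinj : Function.Injective (algebraMap R R') := by
    rw [RingHom.injective_iff_ker_eq_bot, eq_bot_iff]
    obtain ⟨p, hp⟩ := hsurj ⟨⊥, Ideal.isPrime_bot⟩
    intro r hr
    have : r ∈ (PrimeSpectrum.comap (algebraMap R R') p).asIdeal := by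
      show algebraMap R R' r ∈ p.asIdeal
      rw [RingHom.mem_ker.1 hr]
      exact zero_mem _
    rw [hp] at this
    exact this
  have : FaithfulSMul R R' := (faithfulSMul_iff_algebraMap_injective R R').2 hinj
  have : Module.IsTorsionFree R R' := inferInstance
  have : Module.Flat R R' := inferInstance
  have : Module.FaithfullyFlat R R' := Module.FaithfullyFlat.of_comap_surjective hsurj
  let k : Spec (CommRingCat.of R') ⟶ S := Spec.map (CommRingCat.ofHom (algebraMap A R')) ≫ hU.fromSpec
  have hk : k = h ≫ g := by
    rw [hh, ← hψ, ← Spec.map_comp_assoc]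
    rfl
  have h1 : Flat (pullback.snd f k) := by
    rw [hk, ← ((IsPullback.of_hasPullback (pullback.snd f g) h).paste_horiz
      (IsPullback.of_hasPullback f g)).isoPullback_inv_snd]
    have : Flat (pullback.snd (pullback.snd f g) h) := MorphismProperty.pullback_snd (P := @Flat) _ _ hflat
    infer_instance
  let sV : Spec (CommRingCat.of B) ⟶ S := Spec.map (CommRingCat.ofHom (algebraMap A B)) ≫ hU.fromSpec
  have hsV : sV = hV.fromSpec ≫ f := IsAffineOpen.SpecMap_appLE_fromSpec f hU hV e
  have h2 : Flat (pullback.snd sV k) := by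
    rw [hsV, ← ((IsPullback.of_hasPullback hV.fromSpec (pullback.fst f k)).paste_vert
      (IsPullback.of_hasPullback f k)).isoPullback_inv_snd]
    infer_instance
  have h3 : IsPullback (Spec.map (CommRingCat.ofHom (Algebra.TensorProduct.includeRight (R := A) (A := R') (B := B)).toRingHom))
      (Spec.map (CommRingCat.ofHom (algebraMap R' (TensorProduct A R' B)))) sV k :=
    IsPullback.of_isLimit (PullbackCone.isLimitOfCompMono _ _ hU.fromSpec _
      (isPullback_SpecMap_of_isPushout _ _ _ _ (CommRingCat.isPushout_tensorProduct A R' B).flip).isLimit)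
  have h4 : Flat (Spec.map (CommRingCat.ofHom (algebraMap R' (TensorProduct A R' B)))) := by
    rw [← h3.isoPullback_hom_snd]
    infer_instance
  have : Module.Flat R' (TensorProduct A R' B) :=
    RingHom.flat_algebraMap_iff.1 (HasRingHomProperty.Spec_iff.1 h4)
  have : Module.Flat R' (TensorProduct R R' (TensorProduct A R B)) :=
    Module.Flat.of_linearEquiv (TensorProduct.AlgebraTensorModule.cancelBaseChange A R R' R' B)
  exact Module.Flat.of_flat_tensorProduct R (TensorProduct A R B) R'

end Groth.Agent.S13735
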