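import Groth.Statements.S13736
import Groth.Agent.S1454
import Groth.Agent.Lib.Subtrusive.Noetherian
import Groth.Agent.Lib.EtDescent.Main
import Mathlib.AlgebraicGeometry.Limits

set_option autoImplicit false
universe u
open HTop

namespace Groth.Agent.S13736

open CategoryTheory CategoryTheory.Limits AlgebraicGeometry in
/-- Let X be a separated irreducible Noetherian scheme whose local rings are all geometrically
unibranch, and {p_i : U_i → X} a finite family of separated quasi-finite morphisms of finite type
with every U_i irreducible. Then the induced morphism from the disjoint union of the U_i to X is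
universally submersive (a qfh-covering) if and only if the dominant members p_i are jointly
surjective onto X; in that case the induced morphism from the disjoint union of the dominant members
alone is already universally submersive. (The published statement does not require the U_i
irreducible; for the affine line X over a field and the single member U = (X minus a closed point) ⊔
(that point) → X, which is dominant and surjective, the quotient property fails, and the published
proof uses that every irreducible component of a dominant member dominates X, so the members are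
taken irreducible here.) -/
theorem result {X : Scheme.{u}} [IsNoetherian X] [X.IsSeparated] [IrreducibleSpace ↥X] (hX : ∀ x : X, CAlg2.IsGeomUnibranch (X.presheaf.stalk x)) (E : PreZeroHypercover.{u} X) [Finite E.I₀] [∀ i, LocallyOfFiniteType (E.f i)] [∀ i, QuasiCompact (E.f i)] [∀ i, LocallyQuasiFinite (E.f i)] [∀ i, IsSeparated (E.f i)] [∀ i, IrreducibleSpace ↥(E.X i)] : (SGA1.UnivSubmersive (Sigma.desc E.f) ↔ ∀ x : X, ∃ (i : E.I₀) (u : E.X i), IsDominant (E.f i) ∧ E.f i u = x) ∧ ((∀ x : X, ∃ (i : E.I₀) (u : E.X i), IsDominant (E.f i) ∧ E.f i u = x) → SGA1.UnivSubmersive (Sigma.desc fun j : {i : E.I₀ // IsDominant (E.f i)} => E.f j.1)) := by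

  classical
  have hdomgen : ∀ i, IsDominant (E.f i) → E.f i (genericPoint (E.X i)) = genericPoint X := fun i h => by
    have h1 := (genericPoint_spec (E.X i)).image (E.f i).continuous
    rw [Set.image_univ, (E.f i).denseRange.closure_range] at h1
    exact h1.eq (genericPoint_spec X)
  have hsub : (∀ x : X, ∃ (i : E.I₀) (u : E.X i), IsDominant (E.f i) ∧ E.f i u = x) →
      SGA1.UnivSubmersive (Sigma.desc fun j : {i : E.I₀ // IsDominant (E.f i)} => E.f j.1) := fun h => by
    haveI : UniversallyOpen (Sigma.desc fun j : {i : E.I₀ // IsDominant (E.f i)} => E.f j.1) :=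
      IsZariskiLocalAtSource.sigmaDesc (P := @UniversallyOpen) fun j => by
        refine Groth.Agent.S1454.result (E.f j.1) hX fun Z hZ z hz => ?_
        refine ⟨Set.univ, by simp [irreducibleComponents_eq_singleton], ?_⟩
        have hZu : Z = Set.univ := by
          simpa [irreducibleComponents_eq_singleton] using hZ
        rw [hZu] at hz
        rw [hz.eq (genericPoint_spec _), hdomgen j.1 j.2]
        exact genericPoint_spec X
    haveI : Surjective (Sigma.desc fun j : {i : E.I₀ // IsDominant (E.f i)} => E.f j.1) := ⟨fun x => by
      obtain ⟨i, u, hi, hu⟩ := h x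
      refine ⟨(Sigma.ι (fun j : {i : E.I₀ // IsDominant (E.f i)} => E.X j.1) ⟨i, hi⟩) u, ?_⟩
      rw [← Scheme.Hom.comp_apply, Sigma.ι_desc]
      exact hu⟩
    exact Groth.Agent.Lib.EtDescent.univSubmersive_of_universallyOpen _
  refine ⟨⟨fun hE x => ?_, fun h => ?_⟩, hsub⟩
  · obtain ⟨w, w', hw, hwx, hwη⟩ := Groth.Agent.Lib.Subtrusive.Noetherian.isSSubtrusive_of_univSubmersive _ hE
      (genericPoint_specializes x)
    obtain ⟨⟨i, u⟩, rfl⟩ := (sigmaMk E.X).surjective w
    rw [sigmaMk_mk] at hw hwx
    obtain ⟨u', rfl⟩ : w' ∈ Set.range (Sigma.ι E.X i) := hw.mem_open (Sigma.ι E.X i).opensRange.2 ⟨u, rfl⟩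
    rw [← Scheme.Hom.comp_apply, Sigma.ι_desc] at hwx hwη
    refine ⟨i, u, ⟨?_⟩, hwx⟩
    have h1 : E.f i (genericPoint (E.X i)) = genericPoint X := by
      refine ((?_ : E.f i (genericPoint (E.X i)) ⤳ genericPoint X).antisymm (genericPoint_specializes _)).eq
      rw [← hwη]
      exact (genericPoint_specializes u').map (E.f i).continuous
    exact dense_iff_closure_eq.2 (top_le_iff.1 ((genericPoint_spec X).def.ge.trans
      (closure_mono (Set.singleton_subset_iff.2 ⟨_, h1⟩))))
  · let c : (∐ fun j : {i : E.I₀ // IsDominant (E.f i)} => E.X j.1) ⟶ ∐ E.X :=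
      Sigma.desc fun j => Sigma.ι E.X j.1
    have hc : c ≫ Sigma.desc E.f = Sigma.desc fun j : {i : E.I₀ // IsDominant (E.f i)} => E.f j.1 :=
      Sigma.hom_ext _ _ fun j => by simp [c]
    intro T' T p g q sq
    have hq : Topology.IsQuotientMap (pullback.snd (c ≫ Sigma.desc E.f) g) := by
      have h2 := hsub h
      rw [← hc] at h2
      exact h2 _ _ _ (IsPullback.of_hasPullback (c ≫ Sigma.desc E.f) g).flip
    let d : pullback (c ≫ Sigma.desc E.f) g ⟶ T' :=
      sq.flip.lift (pullback.fst _ _ ≫ c) (pullback.snd _ _) (by rw [Category.assoc, pullback.condition])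
    have hd : d ≫ q = pullback.snd (c ≫ Sigma.desc E.f) g := sq.flip.lift_snd _ _ _
    rw [← hd] at hq
    exact Topology.IsQuotientMap.of_comp d.continuous q.continuous hq

end Groth.Agent.S13736
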