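import Groth.Statements.S13737
import Groth.Agent.S1681
import Groth.Agent.Lib.Ideal.BlowUp
import Groth.Agent.Lib.Subtrusive.Noetherian
import Mathlib.AlgebraicGeometry.Noetherian

set_option autoImplicit false
universe u
open HTop

namespace Groth.Agent.S13737

open CategoryTheory CategoryTheory.Limits AlgebraicGeometry in
/-- Let X be a separated integral Noetherian scheme, b : X' → X a blow-up of X in a quasi-coherent sheaf
of ideals (characterised by the universal property of blowing up), with X' separated and b of finite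
type, and let U be an open subscheme of X' whose composite U → X' → X is universally submersive (an
h-covering). Then U = X'. (The published statement takes X only integral; its proof applies the
surjectivity of dominating components for Noetherian schemes, so this row takes X Noetherian.) -/
theorem result {X X' : Scheme.{u}} [IsNoetherian X] [X.IsSeparated] [IsIntegral X] [X'.IsSeparated] (𝓘 : X.IdealSheafData) (b : X' ⟶ X) [LocallyOfFiniteType b] [QuasiCompact b] (hb : BlowUp.IsBlowUp b 𝓘) (U : X'.Opens) (hU : SGA1.UnivSubmersive (U.ι ≫ b)) : U = ⊤ := by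
  have : IsLocallyNoetherian X' := LocallyOfFiniteType.isLocallyNoetherian b
  have : CompactSpace ↥X' := QuasiCompact.compactSpace_of_compactSpace b
  have : AlgebraicGeometry.IsNoetherian X' := {}
  open Groth.Agent.Lib.Subtrusive Groth.Agent.Lib.Subtrusive.Valuation in
  have hsub := Noetherian.univSSubtrusive_of_univSubmersive (U.ι ≫ b) hU
  have hbij := Groth.Agent.S1681.result 𝓘 b hb
  refine eq_top_iff.mpr fun x _ => ?_
  obtain ⟨ξ, hξ⟩ := QuasiSober.sober (S := irreducibleComponent x) isIrreducible_irreducibleComponent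
    isClosed_irreducibleComponent
  have hmin : ∀ y : X', y ⤳ ξ → y = ξ := fun y hy => by
    have hle : irreducibleComponent x ⊆ closure {y} := by
      rw [← hξ.def]
      exact closure_minimal (Set.singleton_subset_iff.mpr hy.mem_closure) isClosed_closure
    have := (irreducibleComponent_mem_irreducibleComponents x).eq_of_le
      ((isIrreducible_singleton (x := y)).closure) hle
    exact (IsGenericPoint.eq (this.symm : closure {y} = _) hξ)
  have hξx : ξ ⤳ x := hξ.specializes mem_irreducibleComponent
  obtain ⟨hη, hηC⟩ := hbij.1 hmin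
  obtain ⟨V, _, _, _, g, hg0, hg1⟩ :=
    Groth.Agent.Lib.Subtrusive.Valuation.exists_valuationRing_of_specializes hξx
  obtain ⟨W, _, _, _, a, p, hp, hap⟩ :=
    Groth.Agent.Lib.Subtrusive.Criterion.univSSubtrusive_iff_hasLifts.mp hsub V (g ≫ b)
  have hpgen : p (Groth.Agent.Lib.Subtrusive.Valuation.genPt W) =
      Groth.Agent.Lib.Subtrusive.Valuation.genPt V := by
    obtain ⟨w, hw⟩ := p.surjective (Groth.Agent.Lib.Subtrusive.Valuation.genPt V)
    exact Groth.Agent.Lib.Subtrusive.Valuation.eq_genPt_of_specializes
      (hw ▸ (Groth.Agent.Lib.Subtrusive.Valuation.genPt_specializes w).map p.continuous)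
  let τ : Spec (CommRingCat.of (FractionRing W)) ⟶ Spec (CommRingCat.of W) :=
    Spec.map (CommRingCat.ofHom (algebraMap W (FractionRing W)))
  have hτ : ∀ z, τ z = Groth.Agent.Lib.Subtrusive.Valuation.genPt W := fun z => by
    obtain rfl : z = Groth.Agent.Lib.Subtrusive.Valuation.genPt (FractionRing W) :=
      Subsingleton.elim (α := PrimeSpectrum (FractionRing W)) _ _
    exact Groth.Agent.Lib.Subtrusive.Valuation.specMap_genPt _ (IsFractionRing.injective W _)
  have : IsDominant τ := ⟨fun v => (Groth.Agent.Lib.Subtrusive.Valuation.genPt_specializes v).mem_closed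
    isClosed_closure (subset_closure ⟨Groth.Agent.Lib.Subtrusive.Valuation.genPt _, hτ _⟩)⟩
  have heq : a ≫ U.ι = p ≫ g := by
    refine ext_of_isDominant τ ?_
    have hiso := Groth.Agent.Lib.Ideal.BlowUp.isIso_off_center hb
    let C : X.Opens := 𝓘.support.compl
    have hmem : ∀ (u : Spec (CommRingCat.of (FractionRing W)) ⟶ X'),
        u ≫ b = τ ≫ p ≫ g ≫ b → Set.range u ⊆ Set.range (b ⁻¹ᵁ C).ι := by
      rintro u hu _ ⟨z, rfl⟩
      rw [Scheme.Opens.range_ι]
      show b (u z) ∈ C
      rw [← Scheme.Hom.comp_apply, hu, Scheme.Hom.comp_apply, hτ, Scheme.Hom.comp_apply, hpgen,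
        Scheme.Hom.comp_apply, hg0]
      exact hηC
    have h₁ : (τ ≫ a ≫ U.ι) ≫ b = τ ≫ p ≫ g ≫ b := by simp only [Category.assoc, hap]
    have h₂ : (τ ≫ p ≫ g) ≫ b = τ ≫ p ≫ g ≫ b := by simp only [Category.assoc]
    rw [← IsOpenImmersion.lift_fac _ _ (hmem _ h₁), ← IsOpenImmersion.lift_fac _ _ (hmem _ h₂)]
    congr 1
    rw [← cancel_mono (b ∣_ C), ← cancel_mono C.ι]
    simp only [Category.assoc, morphismRestrict_ι, IsOpenImmersion.lift_fac_assoc, hap]
  obtain ⟨w, hw⟩ := p.surjective (Groth.Agent.Lib.Subtrusive.Valuation.clPt V)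
  have := congrArg (fun m => m w) heq
  simp only [Scheme.Hom.comp_apply, hw, hg1] at this
  rw [← this]
  exact (a w).2

end Groth.Agent.S13737
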