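import Groth.Statements.S13738
import Groth.Agent.Lib.QfhGalois.Basic
import Mathlib.AlgebraicGeometry.Noetherian
import Mathlib.Topology.NoetherianSpace

set_option autoImplicit false
universe u
open SGA1

namespace Groth.Agent.S13738

open CategoryTheory CategoryTheory.Limits AlgebraicGeometry in
/-- Let S be a separated irreducible Noetherian scheme, q : X → S finite and surjective with X
separated, and G a finite group acting on X by S-automorphisms, transitively on the geometric points
of X over every geometric point of S. Then every irreducible component of X maps onto S and G acts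
transitively on the set of irreducible components of X. -/
theorem result {X S : Scheme.{u}} [IsNoetherian S] [S.IsSeparated] [X.IsSeparated] [IrreducibleSpace ↥S] (q : X ⟶ S) [IsFinite q] [Surjective q] {G : Type u} [Group G] [Finite G] (ρ : G →* Aut X) (hρ : ∀ g : G, (ρ g).hom ≫ q = q) (htrans : ∀ (Ω : Type u) [Field Ω] [IsAlgClosed Ω] (τ₁ τ₂ : Spec (CommRingCat.of Ω) ⟶ X), τ₁ ≫ q = τ₂ ≫ q → ∃ g : G, τ₁ ≫ (ρ g).hom = τ₂) : (∀ T ∈ irreducibleComponents ↥X, Set.image (fun x => q x) T = Set.univ) ∧ ∀ T₁ ∈ irreducibleComponents ↥X, ∀ T₂ ∈ irreducibleComponents ↥X, ∃ g : G, Set.image (fun x => (ρ g).hom x) T₁ = T₂ := by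
  have : LocallyOfFiniteType q := inferInstance
  have : IsLocallyNoetherian X := LocallyOfFiniteType.isLocallyNoetherian q
  have : CompactSpace ↥X := QuasiCompact.compactSpace_of_compactSpace q
  have : AlgebraicGeometry.IsNoetherian X := {}
  have hfin := TopologicalSpace.NoetherianSpace.finite_irreducibleComponents (α := ↥X)
  obtain ⟨T₀, hT₀, hT₀q⟩ : ∃ T ∈ irreducibleComponents ↥X, q '' T = Set.univ := by
    have hirr : IsIrreducible (Set.univ : Set ↥S) := IrreducibleSpace.isIrreducible_univ ↥S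
    obtain ⟨Z, hZ, hle⟩ := isIrreducible_iff_sUnion_isClosed.mp hirr
      ((hfin.image (fun T => q '' T)).toFinset)
      (fun Z hZ => by
        obtain ⟨T, hT, rfl⟩ := (Set.Finite.mem_toFinset _).mp hZ
        exact q.isClosedMap _ (isClosed_of_mem_irreducibleComponents T hT))
      (fun y _ => by
        obtain ⟨x, rfl⟩ := q.surjective y
        exact ⟨q '' irreducibleComponent x, (Set.Finite.mem_toFinset _).mpr
          ⟨_, irreducibleComponent_mem_irreducibleComponents x, rfl⟩, x, mem_irreducibleComponent, rfl⟩)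
    obtain ⟨T, hT, rfl⟩ := (Set.Finite.mem_toFinset _).mp hZ
    exact ⟨T, hT, Set.eq_univ_of_univ_subset hle⟩
  have hq : ∀ (g : G) (a : X), q ((ρ g).hom a) = q a := fun g a => by
    rw [← Scheme.Hom.comp_apply, hρ]
  have key : ∀ T ∈ irreducibleComponents ↥X, ∃ g : G, (fun x => (ρ g).hom x) '' T₀ = T := by
    intro T hT
    obtain ⟨ξ, hξ⟩ := QuasiSober.sober hT.1 (isClosed_of_mem_irreducibleComponents T hT)
    obtain ⟨x, hx, hxq⟩ := hT₀q.symm ▸ Set.mem_univ (q ξ)
    obtain ⟨g, hg⟩ := Groth.Agent.Lib.QfhGalois.exists_translate q ρ htrans hxq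
    refine ⟨g, ?_⟩
    have hirr : IsIrreducible ((fun x => (ρ g).hom x) '' T₀) :=
      hT₀.1.image _ (ρ g).hom.continuous.continuousOn
    have hcl : IsClosed ((fun x => (ρ g).hom x) '' T₀) :=
      (ρ g).hom.homeomorph.isClosedMap _ (isClosed_of_mem_irreducibleComponents T₀ hT₀)
    exact (hT.eq_of_le hirr (hξ.def ▸ hcl.closure_subset_iff.mpr
      (Set.singleton_subset_iff.mpr ⟨x, hx, hg⟩))).symm
  refine ⟨fun T hT => ?_, fun T₁ hT₁ T₂ hT₂ => ?_⟩
  · obtain ⟨g, rfl⟩ := key T hT
    rw [Set.image_image]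
    simp only [hq]
    exact hT₀q
  · obtain ⟨g₁, rfl⟩ := key T₁ hT₁
    obtain ⟨g₂, rfl⟩ := key T₂ hT₂
    refine ⟨g₂ * g₁⁻¹, ?_⟩
    rw [Set.image_image]
    refine Set.image_congr fun x _ => ?_
    rw [← Scheme.Hom.comp_apply]
    have : (ρ g₁).hom ≫ (ρ (g₂ * g₁⁻¹)).hom = (ρ g₂).hom := by
      rw [← Iso.trans_hom, ← Aut.Aut_mul_def, ← map_mul, inv_mul_cancel_right]
    rw [this]

end Groth.Agent.S13738
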