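import Groth.Statements.S1374
import Groth.Agent.H56.ValPoint.Between
import Mathlib.AlgebraicGeometry.Fiber
import Mathlib.AlgebraicGeometry.Morphisms.FiniteType

set_option autoImplicit false
universe u
open FlatMor

namespace Groth.Agent.S1374

open AlgebraicGeometry CategoryTheory TopologicalSpace

/-- The algebraic core of the statement, with primes of an arbitrary finite type algebra. -/
theorem exists_prime {R B₀ : Type u} [CommRing R] [CommRing B₀] [Algebra R B₀]
    [Algebra.FiniteType R B₀] (px p' : Ideal B₀) [px.IsPrime] [p'.IsPrime] (hle : px ≤ p')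
    (hne : p'.under R ≠ px.under R)
    (hmax : ∀ P' : Ideal B₀, P'.IsPrime → p' ≤ P' → P'.under R = p'.under R → P' = p')
    (b : B₀) (hb : b ∉ px) :
    ∃ q : Ideal B₀, q.IsPrime ∧ px ≤ q ∧ q ≤ p' ∧ b ∉ q ∧ q.under R = px.under R ∧
      ∀ q' : Ideal B₀, q'.IsPrime → q ≤ q' → q'.under R = px.under R → q' = q := by
  let B := B₀ ⧸ px
  let A := R ⧸ px.under R
  letI : Algebra A B := (Ideal.quotientMap px (algebraMap R B₀) le_rfl).toAlgebra
  haveI : IsScalarTower R A B := IsScalarTower.of_algebraMap_eq fun _ => rfl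
  haveI : Algebra.FiniteType R B :=
    Algebra.FiniteType.of_surjective (Ideal.Quotient.mkₐ R px) Ideal.Quotient.mk_surjective
  haveI : Algebra.FiniteType A B := Algebra.FiniteType.of_restrictScalars_finiteType R A B
  have hinj : Function.Injective (algebraMap A B) := Ideal.quotientMap_injective
  let π := Ideal.Quotient.mk px
  have hπ : Function.Surjective π := Ideal.Quotient.mk_surjective
  have hker : RingHom.ker π = px := Ideal.mk_ker
  have hcm : ∀ I : Ideal B₀, px ≤ I → (I.map π).comap π = I := fun I hI => by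
    rw [Ideal.comap_map_of_surjective π hπ, ← RingHom.ker_eq_comap_bot, hker, sup_eq_left.2 hI]
  haveI : (p'.map π).IsPrime := Ideal.map_isPrime_of_surjective hπ (hker.le.trans hle)
  have hu : ∀ I : Ideal B, (I.under A).comap (Ideal.Quotient.mk (px.under R)) = (I.comap π).under R :=
    fun I => by ext r; rfl
  have hu' : ∀ I J : Ideal B, (I.comap π).under R = (J.comap π).under R → I.under A = J.under A :=
    fun I J h => Ideal.comap_injective_of_surjective _ Ideal.Quotient.mk_surjective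
      (by rw [hu, hu, h])
  obtain ⟨q, hq, hqP, hbq, hq0, hqmax⟩ :=
    Groth.Agent.H56.ValPoint.Between.exists_prime_between hinj (p'.map π) (fun h => hne (by
      have := hu (p'.map π)
      rw [h, hcm _ hle, ← RingHom.ker_eq_comap_bot, Ideal.mk_ker] at this
      exact this.symm))
    (fun P' hP' hle' hP'u => by
      refine Ideal.comap_injective_of_surjective π hπ ?_
      rw [hcm _ hle]
      refine hmax _ (Ideal.IsPrime.comap π) ((hcm _ hle).ge.trans (Ideal.comap_mono hle')) ?_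
      rw [← hu, hP'u, hu, hcm _ hle])
    (π b) (fun h => hb (Ideal.Quotient.eq_zero_iff_mem.1 h))
  have hpq : px ≤ q.comap π := fun z hz => by
    show π z ∈ q
    rw [Ideal.Quotient.eq_zero_iff_mem.2 hz]; exact zero_mem _
  have hqu : (q.comap π).under R = px.under R := by
    rw [← hu, hq0, ← RingHom.ker_eq_comap_bot, Ideal.mk_ker]
  refine ⟨q.comap π, Ideal.IsPrime.comap π, hpq, (Ideal.comap_mono hqP).trans (hcm _ hle).le, hbq,
    hqu, fun q' hq' hle' hq'u => ?_⟩
  haveI : (q'.map π).IsPrime :=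
    Ideal.map_isPrime_of_surjective hπ (hker.le.trans (hpq.trans hle'))
  have h1 : (q'.map π).under A = ⊥ := by
    rw [← hq0]
    refine hu' _ _ ?_
    rw [hcm _ (hpq.trans hle'), hq'u, hqu]
  have h2 := hqmax (q'.map π) inferInstance (fun z hz => by
    obtain ⟨w, rfl⟩ := hπ z
    exact Ideal.mem_map_of_mem π (hle' hz)) h1
  rw [← h2, hcm _ (hpq.trans hle')]

/-- Let f : X ⟶ S be locally of finite type and x ⤳ x' a specialization of points of X, with x' a closed
point of its fibre f⁻¹(f(x')) and f(x) ≠ f(x'). Then the points x₁ with f(x₁) = f(x) which are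
closed in the fibre f⁻¹(f(x)) and satisfy x ⤳ x₁ ⤳ x' are dense in the closure of {x} intersected
with the fibre f⁻¹(f(x)) (fibres taken as subspaces of X). (The published statement omits the
condition f(x) ≠ f(x'), but the claim fails without it; it is stated here with that condition.) -/
theorem result {X S : Scheme.{u}} (f : X ⟶ S) [LocallyOfFiniteType f] (x x' : X) (hsp : x ⤳ x') (hne : f x ≠ f x')
    (hcl : IsClosed (Subtype.val ⁻¹' {x'} : Set ↑(f ⁻¹' {f x'}))) :
    Dense (Subtype.val ⁻¹' {x₁ : ↑X | f x₁ = f x ∧ IsClosed (Subtype.val ⁻¹' {x₁} : Set ↑(f ⁻¹' {f x})) ∧ x ⤳ x₁ ∧ x₁ ⤳ x'} :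
      Set ↑(closure {x} ∩ f ⁻¹' {f x})) := by
  obtain ⟨V₀, hV₀, hs', -⟩ :=
    exists_isAffineOpen_mem_and_subset (U := (⊤ : S.Opens)) (x := f x') trivial
  obtain ⟨U, hU, hxU', hUV⟩ := exists_isAffineOpen_mem_and_subset (U := f ⁻¹ᵁ V₀) (x := x') hs'
  have hxU : x ∈ U := hsp.mem_open U.2 hxU'
  let φ := f.appLE V₀ U hUV
  letI : Algebra Γ(S, V₀) Γ(X, U) := φ.hom.toAlgebra
  haveI : Algebra.FiniteType Γ(S, V₀) Γ(X, U) := f.finiteType_appLE hV₀ hU hUV
  have hpt : ∀ P : Spec Γ(X, U), f (hU.fromSpec P) = hV₀.fromSpec (Spec.map φ P) := fun P => by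
    rw [← Scheme.Hom.comp_apply, ← Scheme.Hom.comp_apply,
      IsAffineOpen.SpecMap_appLE_fromSpec f hV₀ hU hUV]
  let P := hU.primeIdealOf ⟨x, hxU⟩
  let P' := hU.primeIdealOf ⟨x', hxU'⟩
  have hP : hU.fromSpec P = x := hU.fromSpec_primeIdealOf _
  have hP' : hU.fromSpec P' = x' := hU.fromSpec_primeIdealOf _
  have hunder : ∀ Q Q' : Spec Γ(X, U), f (hU.fromSpec Q) = f (hU.fromSpec Q') ↔
      Q.asIdeal.under Γ(S, V₀) = Q'.asIdeal.under Γ(S, V₀) := fun Q Q' => by
    rw [hpt, hpt]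
    exact hV₀.fromSpec.isOpenEmbedding.injective.eq_iff.trans PrimeSpectrum.ext_iff
  have hspec : ∀ Q Q' : Spec Γ(X, U), hU.fromSpec Q ⤳ hU.fromSpec Q' ↔ Q.asIdeal ≤ Q'.asIdeal :=
    fun Q Q' => hU.fromSpec.isOpenEmbedding.isInducing.specializes_iff.trans
      (PrimeSpectrum.le_iff_specializes Q Q').symm
  have hsurj : ∀ y ∈ U, ∃ Q, hU.fromSpec Q = y := fun y hy =>
    ⟨_, hU.fromSpec_primeIdealOf ⟨y, hy⟩⟩
  rw [dense_iff_inter_open]
  intro O hO hne'
  obtain ⟨O', hO', rfl⟩ := isOpen_induced_iff.1 hO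
  obtain ⟨⟨z, hz⟩, hzO⟩ := hne'
  have hxO : x ∈ O' := (specializes_iff_mem_closure.2 hz.1).mem_open hO' hzO
  obtain ⟨b, hbO, hxb⟩ := hU.exists_basicOpen_le (V := (⟨O', hO'⟩ : X.Opens) ⊓ U)
    ⟨x, hxO, hxU⟩ hxU
  have hbasic : ∀ Q, hU.fromSpec Q ∈ X.basicOpen b ↔ b ∉ Q.asIdeal := fun Q => by
    show Q ∈ hU.fromSpec ⁻¹ᵁ X.basicOpen b ↔ _
    rw [hU.fromSpec_preimage_basicOpen]
    rfl
  obtain ⟨q, hq, hPq, hqP', hbq, hqu, hqmax⟩ := exists_prime (R := Γ(S, V₀)) P.asIdeal P'.asIdeal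
    ((hspec P P').1 (by rwa [hP, hP']))
    (fun h => hne (by rw [← hP, ← hP']; exact (hunder P P').2 h.symm))
    (fun Q hQ hle hQu => by
      let Q' : Spec Γ(X, U) := ⟨Q, hQ⟩
      have h1 : x' ⤳ hU.fromSpec Q' := by rw [← hP']; exact (hspec P' Q').2 hle
      have h2 : f (hU.fromSpec Q') = f x' := by rw [← hP']; exact (hunder Q' P').2 hQu
      have h3 : (⟨hU.fromSpec Q', h2⟩ : ↑(f ⁻¹' {f x'})) ∈
          (Subtype.val ⁻¹' {x'} : Set ↑(f ⁻¹' {f x'})) :=
        Specializes.mem_closed (x := (⟨x', rfl⟩ : ↑(f ⁻¹' {f x'}))) ((subtype_specializes_iff _ _).2 h1) hcl rfl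
      exact congrArg PrimeSpectrum.asIdeal
        (hU.fromSpec.isOpenEmbedding.injective (h3.trans hP'.symm)))
    b ((hbasic P).1 (hP.symm ▸ hxb))
  let Q : Spec Γ(X, U) := ⟨q, hq⟩
  have hfx : f (hU.fromSpec Q) = f x := by rw [← hP]; exact (hunder Q P).2 hqu
  have hx₁ : x ⤳ hU.fromSpec Q := by rw [← hP]; exact (hspec P Q).2 hPq
  haveI : JacobsonSpace ↑(f ⁻¹' {f x}) :=
    JacobsonSpace.of_isOpenEmbedding (f.fiberHomeo (f x)).symm.isOpenEmbedding
  refine ⟨⟨hU.fromSpec Q, specializes_iff_mem_closure.1 hx₁, hfx⟩, (hbO ((hbasic Q).2 hbq)).1,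
    hfx, ?_, hx₁, by rw [← hP']; exact (hspec Q P').2 hqP'⟩
  have hval : (Subtype.val ⁻¹' {hU.fromSpec Q} : Set ↑(f ⁻¹' {f x})) =
      {⟨hU.fromSpec Q, hfx⟩} := by
    ext y
    exact ⟨fun h => Subtype.ext h, fun h => congrArg Subtype.val h⟩
  rw [hval]
  refine isClosed_singleton_of_isLocallyClosed_singleton
    ⟨Subtype.val ⁻¹' (U : Set X), Subtype.val ⁻¹' closure {hU.fromSpec Q},
      U.2.preimage continuous_subtype_val, isClosed_closure.preimage continuous_subtype_val, ?_⟩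
  ext y
  constructor
  · rintro rfl
    exact ⟨(hbO ((hbasic Q).2 hbq)).2, subset_closure rfl⟩
  · rintro ⟨hyU, hy⟩
    obtain ⟨Q', hQ'⟩ := hsurj y.1 hyU
    have h2 : f (hU.fromSpec Q') = f (hU.fromSpec P) := by rw [hQ', hP]; exact y.2
    have h3 : hU.fromSpec Q ⤳ hU.fromSpec Q' := by
      rw [hQ']; exact specializes_iff_mem_closure.2 hy
    have h4 : Q' = Q := PrimeSpectrum.ext
      (hqmax Q'.asIdeal Q'.isPrime ((hspec Q Q').1 h3) ((hunder Q' P).1 h2))
    exact Subtype.ext (hQ'.symm.trans (by rw [h4]))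

end Groth.Agent.S1374
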