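import Groth.Statements.S13740
import Groth.Agent.Lib.QfhGalois.Basic
import Mathlib.AlgebraicGeometry.Morphisms.QuasiFinite
import Mathlib.CategoryTheory.Sites.Hypercover.Zero

set_option autoImplicit false
universe w u
open SGA1

namespace Groth.Agent.S13740

open CategoryTheory CategoryTheory.Limits AlgebraicGeometry in
/-- Let S be a separated Noetherian scheme, π : X → S finite and surjective with X separated, G a finite
group acting on X by S-automorphisms and transitively on the geometric points of X over every
geometric point of S, and F a presheaf of sets on schemes satisfying the sheaf condition for every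
finite family of quasi-finite morphisms of finite type whose induced morphism from the disjoint
union is universally submersive (a qfh-sheaf). Then pulling back along π identifies F(S) with the
G-invariant elements of F(X): F(π) is injective with image the invariants. (The published statement
takes F a qfh-sheaf on Noetherian schemes over S; this row takes a presheaf on all schemes with the
sheaf property for every such family, a stronger hypothesis.) -/
theorem result {X S : Scheme.{u}} [IsNoetherian S] [S.IsSeparated] [X.IsSeparated] (q : X ⟶ S) [IsFinite q] [Surjective q] {G : Type u} [Group G] [Finite G] (ρ : G →* Aut X) (hρ : ∀ g : G, (ρ g).hom ≫ q = q) (htrans : ∀ (Ω : Type u) [Field Ω] [IsAlgClosed Ω] (τ₁ τ₂ : Spec (CommRingCat.of Ω) ⟶ X), τ₁ ≫ q = τ₂ ≫ q → ∃ g : G, τ₁ ≫ (ρ g).hom = τ₂) (F : Scheme.{u}ᵒᵖ ⥤ Type w) (hF : ∀ ⦃T : Scheme.{u}⦄ (E : PreZeroHypercover.{u} T), Finite E.I₀ → (∀ i, LocallyOfFiniteType (E.f i)) → (∀ i, QuasiCompact (E.f i)) → (∀ i, LocallyQuasiFinite (E.f i)) → SGA1.UnivSubmersive (Sigma.desc E.f) → Presieve.IsSheafFor F E.presieve₀)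 : Function.Injective (F.map q.op) ∧ Set.range (F.map q.op) = {f : F.obj (Opposite.op X) | ∀ g : G, F.map (ρ g).hom.op f = f} := by
  have hs : SGA1.UnivSubmersive (Sigma.desc (PreZeroHypercover.singleton.{u} q).f) := by
    have := Groth.Agent.Lib.QfhGalois.isFinite_sigmaDesc (PreZeroHypercover.singleton.{u} q).f
      (fun _ => inferInstanceAs (IsFinite q))
    have : Surjective (Sigma.desc (PreZeroHypercover.singleton.{u} q).f) := ⟨fun y => by
      obtain ⟨x, hx⟩ := q.surjective y
      refine ⟨Sigma.ι (PreZeroHypercover.singleton.{u} q).X PUnit.unit x, ?_⟩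
      rw [← Scheme.Hom.comp_apply, Sigma.ι_desc]
      exact hx⟩
    exact Groth.Agent.Lib.QfhGalois.univSubmersive_of_surjective _
  have hq := hF (PreZeroHypercover.singleton.{u} q) inferInstance
    (fun _ => inferInstanceAs (LocallyOfFiniteType q)) (fun _ => inferInstanceAs (QuasiCompact q))
    (fun _ => inferInstanceAs (LocallyQuasiFinite q)) hs
  rw [PreZeroHypercover.presieve₀_singleton] at hq
  refine ⟨Presieve.isSeparatedFor_singleton.mp hq.isSeparatedFor, Set.ext fun f => ⟨?_, fun hf => ?_⟩⟩
  · rintro ⟨t, rfl⟩ g
    rw [← FunctorToTypes.map_comp_apply, ← op_comp, hρ]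
  · let E : PreZeroHypercover.{u} (pullback q q) := ⟨G, fun _ => X, fun σ =>
      pullback.lift (𝟙 X) (ρ σ).hom ((Category.id_comp q).trans (hρ σ).symm)⟩
    have hE₁ : ∀ σ, IsFinite (E.f σ) := fun σ => by
      have : IsFinite (E.f σ ≫ pullback.fst q q) := by
        rw [show E.f σ ≫ pullback.fst q q = 𝟙 X from pullback.lift_fst _ _ _]; infer_instance
      exact IsFinite.of_comp _ (pullback.fst q q)
    have hsur : Surjective (Sigma.desc E.f) := ⟨fun z => by
      obtain ⟨K, _, _, ω, hω⟩ := Groth.Agent.Lib.QfhGalois.exists_geometric_point _ z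
      obtain ⟨g, hg⟩ := htrans K (ω ≫ pullback.fst q q) (ω ≫ pullback.snd q q)
        (by rw [Category.assoc, Category.assoc, pullback.condition])
      refine ⟨Sigma.ι E.X g ((ω ≫ pullback.fst q q) (IsLocalRing.closedPoint K)), ?_⟩
      rw [← Scheme.Hom.comp_apply, Sigma.ι_desc, ← Scheme.Hom.comp_apply,
        show (ω ≫ pullback.fst q q) ≫ E.f g = ω from ?_]
      · exact hω
      refine pullback.hom_ext ?_ ?_
      · simp only [E, Category.assoc, pullback.lift_fst, Category.comp_id]
      · rw [← hg]; simp only [E, Category.assoc, pullback.lift_snd]⟩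
    have := Groth.Agent.Lib.QfhGalois.isFinite_sigmaDesc E.f hE₁
    have hE := hF E (inferInstanceAs (Finite G)) (fun i => have := hE₁ i; inferInstance)
      (fun i => have := hE₁ i; inferInstance) (fun i => have := hE₁ i; inferInstance)
      (Groth.Agent.Lib.QfhGalois.univSubmersive_of_surjective _)
    have h12 : F.map (pullback.fst q q).op f = F.map (pullback.snd q q).op f := by
      refine hE.isSeparatedFor.ext fun Z m hm => ?_
      obtain ⟨σ⟩ := hm
      rw [← FunctorToTypes.map_comp_apply, ← op_comp, ← FunctorToTypes.map_comp_apply, ← op_comp]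
      simp only [E, pullback.lift_fst, pullback.lift_snd, op_id, FunctorToTypes.map_id_apply]
      exact (hf σ).symm
    obtain ⟨t, ht, -⟩ := Presieve.isSheafFor_singleton.mp hq f (fun {Z} p₁ p₂ h => by
      rw [← pullback.lift_fst p₁ p₂ h, op_comp, FunctorToTypes.map_comp_apply, h12,
        ← FunctorToTypes.map_comp_apply, ← op_comp, pullback.lift_snd])
    exact ⟨t, ht⟩

end Groth.Agent.S13740
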