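import Groth.Statements.S13741
import Mathlib.FieldTheory.Normal.Defs

set_option autoImplicit false
universe u
open SGA1

namespace Groth.Agent.S13741

open CategoryTheory CategoryTheory.Limits AlgebraicGeometry in
/-- Let S be a separated Noetherian scheme, q : X → S finite and surjective with X separated, and G a
finite group acting on X by S-automorphisms. Assume that G acts transitively on every fibre of q,
that each residue field extension k(x)/k(q x) is normal, and that for each x every k(q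
x)-automorphism of k(x) is induced by an element of G fixing x. Then for every algebraically closed
field Ω, any two Ω-points of X with the same composite to S are conjugate under G. -/
theorem result {X S : Scheme.{u}} [IsNoetherian S] [S.IsSeparated] [X.IsSeparated] (q : X ⟶ S) [IsFinite q] [Surjective q] {G : Type u} [Group G] [Finite G] (ρ : G →* Aut X) (hρ : ∀ g : G, (ρ g).hom ≫ q = q) (h1 : ∀ x y : X, q x = q y → ∃ g : G, (ρ g).hom x = y) (h2 : ∀ x : X, @Normal (S.residueField (q x)) (X.residueField x) _ _ (q.residueFieldMap x).hom.toAlgebra) (h3 : ∀ (x : X) (σ : X.residueField x ≅ X.residueField x), q.residueFieldMap x ≫ σ.hom = q.residueFieldMap x → ∃ g : G, X.fromSpecResidueField x ≫ (ρ g).hom = Spec.map σ.hom ≫ X.fromSpecResidueField x) (Ω : Type u) [Field Ω] [IsAlgClosed Ω] (τ₁ τ₂ : Spec (CommRingCat.of Ω) ⟶ X) (hτ : τ₁ ≫ q = τ₂ ≫ q) : ∃ g : G, τ₁ ≫ (ρ g).hom = τ₂ := by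
  obtain ⟨⟨x₁, φ₁⟩, rfl⟩ := (Scheme.SpecToEquivOfField Ω X).symm.surjective τ₁
  obtain ⟨⟨x₂, φ₂⟩, rfl⟩ := (Scheme.SpecToEquivOfField Ω X).symm.surjective τ₂
  change (Spec.map φ₁ ≫ X.fromSpecResidueField x₁) ≫ q =
    (Spec.map φ₂ ≫ X.fromSpecResidueField x₂) ≫ q at hτ
  show ∃ g : G, (Spec.map φ₁ ≫ X.fromSpecResidueField x₁) ≫ (ρ g).hom =
    Spec.map φ₂ ≫ X.fromSpecResidueField x₂
  obtain ⟨g₁, rfl⟩ : ∃ g, (ρ g).hom x₁ = x₂ := by
    refine h1 x₁ x₂ ?_
    have := congrArg (fun f : Spec (CommRingCat.of Ω) ⟶ S => f (IsLocalRing.closedPoint Ω)) hτ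
    simpa [Scheme.fromSpecResidueField_apply] using this
  let x := (ρ g₁).hom x₁
  let φ : X.residueField x ⟶ CommRingCat.of Ω := (ρ g₁).hom.residueFieldMap x₁ ≫ φ₁
  have hφ : Spec.map φ ≫ X.fromSpecResidueField x =
      (Spec.map φ₁ ≫ X.fromSpecResidueField x₁) ≫ (ρ g₁).hom := by
    simp only [φ, Spec.map_comp, Category.assoc, x,
      Scheme.Hom.SpecMap_residueFieldMap_fromSpecResidueField]
  have hq : (ρ g₁).hom ≫ q = q := hρ g₁
  rw [← congrArg (fun f => (Spec.map φ₁ ≫ X.fromSpecResidueField x₁) ≫ f) hq,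
    ← Category.assoc, ← hφ, Category.assoc, Category.assoc,
    ← Scheme.Hom.SpecMap_residueFieldMap_fromSpecResidueField, ← Category.assoc, ← Category.assoc,
    cancel_mono, ← Spec.map_comp, ← Spec.map_comp, Spec.map_inj] at hτ
  let := (q.residueFieldMap x).hom.toAlgebra
  let := φ.hom.toAlgebra
  let := ((q.residueFieldMap x) ≫ φ).hom.toAlgebra
  have : IsScalarTower (S.residueField (q x)) (X.residueField x) Ω := .of_algebraMap_eq fun _ => rfl
  have := h2 x
  let ψ : X.residueField x →ₐ[S.residueField (q x)] Ω :=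
    { __ := φ₂.hom, commutes' := fun a => (congr($hτ a)).symm }
  obtain ⟨σ, hσ⟩ := (Normal.algHomEquivAut (S.residueField (q x)) Ω (X.residueField x)).symm.surjective ψ
  let e : X.residueField x ≅ X.residueField x := σ.toRingEquiv.toCommRingCatIso
  obtain ⟨g, hg⟩ := h3 x e (CommRingCat.hom_ext (RingHom.ext σ.commutes))
  refine ⟨g * g₁, ?_⟩
  have hmul : (ρ (g * g₁)).hom = (ρ g₁).hom ≫ (ρ g).hom := by rw [map_mul]; rfl
  rw [hmul, ← Category.assoc, ← hφ, Category.assoc, hg, ← Category.assoc, ← Spec.map_comp]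
  congr 2
  exact CommRingCat.hom_ext (RingHom.ext fun a => congr($hσ a))

end Groth.Agent.S13741
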