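import Groth.Statements.S13742
import Groth.Agent.H46.FiberStalk


set_option autoImplicit false
universe u
open Cyc

namespace Groth.Agent.S13742

open AlgebraicGeometry CategoryTheory in
/-- At a generic point of a component the maximal ideal is nil. -/
theorem isNilpotent_of_mem {S : Scheme.{u}} (s : S) (hs : closure {s} ∈ irreducibleComponents ↥S)
    (r : S.presheaf.stalk s) (hr : r ∈ IsLocalRing.maximalIdeal (S.presheaf.stalk s)) : IsNilpotent r := by
  rw [← mem_nilradical, nilradical_eq_sInf, Ideal.mem_sInf]
  intro J hJ
  let p : Spec (S.presheaf.stalk s) := ⟨J, hJ⟩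
  let y := S.fromSpecStalk s p
  have hy : y ⤳ s := by
    have : y ∈ Set.range (S.fromSpecStalk s) := Set.mem_range_self p
    rwa [Scheme.range_fromSpecStalk] at this
  have hle : closure {s} ⊆ closure {y} :=
    closure_minimal (Set.singleton_subset_iff.2 hy.mem_closure) isClosed_closure
  have heq : closure {s} = closure {y} :=
    le_antisymm hle (hs.2 isIrreducible_singleton.closure hle)
  have h1 : y = s := hy.antisymm (specializes_iff_mem_closure.2 (heq ▸ subset_closure rfl)) |>.eq
  have : p = IsLocalRing.closedPoint (S.presheaf.stalk s) :=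
    (S.fromSpecStalk s).isEmbedding.injective (by rw [Scheme.fromSpecStalk_closedPoint]; exact h1)
  have hJm : J = IsLocalRing.maximalIdeal (S.presheaf.stalk s) := congrArg PrimeSpectrum.asIdeal this
  exact hJm ▸ hr



open CategoryTheory CategoryTheory.Limits AlgebraicGeometry in
/-- Let S be a separated Noetherian scheme, f : X → S separated of finite type, z a point of X mapping
to a generic point of an irreducible component of S, and ι : Z → X a closed immersion from a reduced
scheme with image the closure of z (the closure of z with its reduced structure). Then Z ×_S Spec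
k(f z) is an integral scheme, and its image in the fibre X ×_S Spec k(f z) is the closure of the
unique point w of that fibre lying over z: Z ×_S Spec k(f z) is the closure of z in its fibre, with
reduced structure. -/
theorem result {X S Z : Scheme.{u}} [IsNoetherian S] [S.IsSeparated] [X.IsSeparated] (f : X ⟶ S) [LocallyOfFiniteType f] [QuasiCompact f] (z : X) (hz : closure {f z} ∈ irreducibleComponents ↥S) (ι : Z ⟶ X) [IsClosedImmersion ι] [IsReduced Z] (hZ : Set.range ι = closure {z}) : IsIntegral (pullback (ι ≫ f) (S.fromSpecResidueField (f z))) ∧ ∃ w : ↥(pullback f (S.fromSpecResidueField (f z))), pullback.fst f (S.fromSpecResidueField (f z)) w = z ∧ Set.range (pullback.map (ι ≫ f) (S.fromSpecResidueField (f z)) f (S.fromSpecResidueField (f z)) ι (𝟙 _) (𝟙 S) (Category.comp_id _) ((Category.comp_id _).trans (Category.id_comp _).symm)) = closure {w} := by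
  set s := f z with hs
  have hz' : z ∈ Set.range ι := hZ ▸ subset_closure rfl
  obtain ⟨c, hc⟩ := hz'
  have hgc : ∀ a : Z, c ⤳ a := fun a => by
    rw [ι.isEmbedding.toIsInducing.specializes_iff.symm, hc, specializes_iff_mem_closure, ← hZ]
    exact Set.mem_range_self a
  have hfc : (ι ≫ f) c = s := by rw [Scheme.Hom.comp_apply, hc]
  let F := (ι ≫ f).fiber s
  let e := (ι ≫ f).fiberι s
  have hgen : ∃ c' : F, e c' = c ∧ ∀ a : F, c' ⤳ a := by
    obtain ⟨c', hc'⟩ : c ∈ Set.range e := by rw [(ι ≫ f).range_fiberι s]; exact hfc
    exact ⟨c', hc', fun a => e.isEmbedding.toIsInducing.specializes_iff.1 (hc'.symm ▸ hgc (e a))⟩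
  obtain ⟨c', hc', hc'g⟩ := hgen
  haveI : Nonempty F := ⟨c'⟩
  haveI : IrreducibleSpace F := by
    have : (Set.univ : Set F) = closure {c'} := Set.ext fun a => iff_of_true trivial (hc'g a).mem_closure
    have h : IsIrreducible (Set.univ : Set F) := this ▸ isIrreducible_singleton.closure
    exact (irreducibleSpace_def F).2 h
  haveI : ∀ a : F, _root_.IsReduced (F.presheaf.stalk a) := fun a => by
    obtain ⟨φ, hφ, hk⟩ := Groth.Agent.H46.FiberStalk.exists_surjective_stalk (ι ≫ f) s a (e a) rfl
    have : ((IsLocalRing.maximalIdeal (S.presheaf.stalk ((ι ≫ f) (e a)))).map ((ι ≫ f).stalkMap (e a)).hom) = ⊥ := by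
      rw [eq_bot_iff, Ideal.map_le_iff_le_comap]
      intro r hr
      have ha : (ι ≫ f) (e a) = s := by
        have : e a ∈ (ι ≫ f) ⁻¹' {s} := by rw [← (ι ≫ f).range_fiberι s]; exact ⟨a, rfl⟩
        exact this
      exact ((isNilpotent_of_mem ((ι ≫ f) (e a)) (ha.symm ▸ hz) r hr).map _).eq_zero
    rw [this] at hk
    exact isReduced_of_injective (RingEquiv.ofBijective φ ⟨(RingHom.injective_iff_ker_eq_bot φ).2 hk, hφ⟩).symm.toRingHom
      (RingEquiv.injective _)
  haveI : IsReduced F := isReduced_of_isReduced_stalk F
  haveI : IsIntegral F := isIntegral_of_irreducibleSpace_of_isReduced F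
  refine ⟨‹IsIntegral F›, ?_⟩
  generalize hj : pullback.map (ι ≫ f) (S.fromSpecResidueField s) f (S.fromSpecResidueField s) ι (𝟙 _) (𝟙 S) (Category.comp_id _) ((Category.comp_id _).trans (Category.id_comp _).symm) = j
  have hjfst : j ≫ pullback.fst f (S.fromSpecResidueField s) = pullback.fst _ _ ≫ ι := by
    rw [← hj]; exact pullback.lift_fst _ _ _
  haveI : IsClosedImmersion j := by
    have H : IsPullback j (pullback.fst _ _) (pullback.fst f (S.fromSpecResidueField s)) ι := by
      refine (IsPullback.of_right ?_ hjfst (IsPullback.of_hasPullback f (S.fromSpecResidueField s)).flip).flip.flip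
      have : j ≫ pullback.snd f (S.fromSpecResidueField s) = pullback.snd _ _ := by
        rw [← hj]; exact (pullback.lift_snd _ _ _).trans (Category.comp_id _)
      rw [this]
      exact (IsPullback.of_hasPullback (ι ≫ f) (S.fromSpecResidueField s)).flip
    exact MorphismProperty.of_isPullback H.flip ‹IsClosedImmersion ι›
  refine ⟨j c', ?_, ?_⟩
  · rw [← Scheme.Hom.comp_apply, hjfst, Scheme.Hom.comp_apply]
    exact (congrArg ι hc').trans hc
  · refine le_antisymm ?_ (closure_minimal (Set.singleton_subset_iff.2 (Set.mem_range_self c')) j.isClosedEmbedding.isClosed_range)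
    rintro _ ⟨a, rfl⟩
    exact ((hc'g a).map j.continuous).mem_closure


end Groth.Agent.S13742
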