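import Groth.Statements.S13743
import Groth.Agent.H19.Cycle.Effective


set_option autoImplicit false
universe u
open Cyc

namespace Groth.Agent.S13743

open CategoryTheory CategoryTheory.Limits AlgebraicGeometry


open CategoryTheory CategoryTheory.Limits AlgebraicGeometry in
/-- Let S be a separated reduced Noetherian scheme, f : X → S separated of finite type, r a natural
number, and W₁ = Σ_a n₁(a) Z₁(a), W₂ = Σ_a n₂(a) Z₂(a) finite combinations with natural-number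
coefficients of closed subschemes of X, each flat over S with all irreducible components of all its
fibres of dimension r. For a point x of X over s, the coefficient at x of the cycle of the fibre of
W_k over s is Σ_a n_k(a) times the length of O_{Z_k(a),x} modulo the maximal ideal of O_{S,s} (read
as 0 when x is not in Z_k(a) or the length is infinite). Then the set of points s of S over which
every coefficient of W₁ is at least that of W₂ (the difference of the fibre cycles is effective) is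
closed. -/
theorem result {X S : Scheme.{u}} [IsNoetherian S] [IsReduced S] [S.IsSeparated] [X.IsSeparated] (f : X ⟶ S) [LocallyOfFiniteType f] [QuasiCompact f] (r : ℕ) {m₁ m₂ : ℕ} (Z₁ : Fin m₁ → Scheme.{u}) (ι₁ : ∀ a, Z₁ a ⟶ X) (n₁ : Fin m₁ → ℕ) (Z₂ : Fin m₂ → Scheme.{u}) (ι₂ : ∀ a, Z₂ a ⟶ X) (n₂ : Fin m₂ → ℕ) [∀ a, IsClosedImmersion (ι₁ a)] [∀ a, IsClosedImmersion (ι₂ a)] [∀ a, Flat (ι₁ a ≫ f)] [∀ a, Flat (ι₂ a ≫ f)] (h₁ : ∀ a, Cyc.HasRelDim (ι₁ a ≫ f) r) (h₂ : ∀ a, Cyc.HasRelDim (ι₂ a ≫ f) r) : IsClosed {s : ↥S | ∀ x : X, f x = s → ∑ a, n₂ a * ∑ᶠ z ∈ {z : ↥(Z₂ a) | ι₂ a z = x}, (Cyc.pullFun (ι₂ a ≫ f) (fun _ => 0) (fun _ => 0) 0 (fun _ => 1) z).toNat ≤ ∑ a, n₁ a * ∑ᶠ z ∈ {z : ↥(Z₁ a) | ι₁ a z = x}, (Cyc.pullFun (ι₁ a ≫ f) (fun _ => 0) (fun _ => 0) 0 (fun _ => 1) z).toNat} := by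
  classical
  let Z : Fin m₁ ⊕ Fin m₂ → Scheme.{u} := Sum.elim Z₁ Z₂
  let ι : ∀ a, Z a ⟶ X := fun a => match a with
    | .inl a => ι₁ a
    | .inr a => ι₂ a
  let n : Fin m₁ ⊕ Fin m₂ → ℤ := Sum.elim (fun a => (n₁ a : ℤ)) (fun a => -(n₂ a : ℤ))
  haveI : ∀ a, IsClosedImmersion (ι a) := fun a => match a with
    | .inl a => inferInstanceAs (IsClosedImmersion (ι₁ a))
    | .inr a => inferInstanceAs (IsClosedImmersion (ι₂ a))
  haveI : ∀ a, Flat (ι a ≫ f) := fun a => match a with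
    | .inl a => inferInstanceAs (Flat (ι₁ a ≫ f))
    | .inr a => inferInstanceAs (Flat (ι₂ a ≫ f))
  have hr : ∀ a, Cyc.HasRelDim (ι a ≫ f) r := fun a => by cases a with
    | inl a => exact h₁ a
    | inr a => exact h₂ a
  have h := Groth.Agent.H19.Cycle.Effective.isClosed_effective f r Z ι hr n
  convert h using 1
  ext s
  have key : ∀ x : f.fiber s,
      ∑ a, n a * Groth.Agent.H19.Cycle.Effective.cyc f (ι a) s x =
      ((∑ a, n₁ a * ∑ᶠ z ∈ {z : ↥(Z₁ a) | ι₁ a z = f.fiberι s x}, (Cyc.pullFun (ι₁ a ≫ f) (fun _ => 0) (fun _ => 0) 0 (fun _ => 1) z).toNat : ℕ) : ℤ) -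
      ((∑ a, n₂ a * ∑ᶠ z ∈ {z : ↥(Z₂ a) | ι₂ a z = f.fiberι s x}, (Cyc.pullFun (ι₂ a ≫ f) (fun _ => 0) (fun _ => 0) 0 (fun _ => 1) z).toNat : ℕ) : ℤ) := fun x => by
    simp only [Nat.cast_sum, Nat.cast_mul, Groth.Agent.H19.Cycle.Effective.cyc_eq, Fintype.sum_sum_type,
      sub_eq_add_neg, ← Finset.sum_neg_distrib, n, Sum.elim_inl, Sum.elim_inr, neg_mul]
    rfl
  constructor
  · intro hs x
    rw [key x, sub_nonneg, Nat.cast_le]
    exact hs _ (Groth.Agent.Lib.Cyc.FieldDim.apply_fiberι f s x)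
  · intro hs x hx
    obtain ⟨x', rfl⟩ := Groth.Agent.Lib.Cyc.FieldDim.exists_fiberι_eq f x s hx
    have := hs x'
    rw [key x', sub_nonneg, Nat.cast_le] at this
    exact this


end Groth.Agent.S13743
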