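import Groth.Statements.S13744
import Groth.Agent.H19.Equidim.Len


set_option autoImplicit false
universe u
open Cyc

namespace Groth.Agent.S13744

open AlgebraicGeometry CategoryTheory in
theorem isOpenImmersion_specMap (R : Type u) [CommRing R] [IsDomain R] [IsDiscreteValuationRing R] :
    IsOpenImmersion (Spec.map (CommRingCat.ofHom (algebraMap R (FractionRing R)))) :=
  Groth.Agent.H19.Equidim.isOpenImmersion_specMap_fractionRing R



open CategoryTheory CategoryTheory.Limits AlgebraicGeometry in
/-- Let S be a separated Noetherian scheme, p : X → S separated of finite type, ι : Z → X a closed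
immersion with Z integral, R a discrete valuation ring with fraction field K and x : Spec R → S. Let
φ be the scheme-theoretic image in Z ×_S Spec R of Z ×_S Spec K (the flat closure of the generic
fibre), regarded as a closed subscheme of X ×_S Spec R. Then the cycle of φ (coefficient at t =
length of the local ring of φ above t, an infinite length read as 0) equals the cycle of Z ×_S Spec
K pushed forward along the inclusion X ×_S Spec K → X ×_S Spec R. -/
theorem result {X S Z : Scheme.{u}} [IsNoetherian S] [S.IsSeparated] [X.IsSeparated] (p : X ⟶ S) [LocallyOfFiniteType p] [QuasiCompact p] (ι : Z ⟶ X) [IsClosedImmersion ι] [IsIntegral Z] (R : Type u) [CommRing R] [IsDomain R] [IsDiscreteValuationRing R] (x : Spec (CommRingCat.of R) ⟶ S) (t : ↥(pullback p x)) : Cyc.subschemeFun (fun _ => (0 : ℤ)) 0 ((pullback.map (ι ≫ p) (Spec.map (CommRingCat.ofHom (algebraMap R (FractionRing R))) ≫ x) (ι ≫ p) x (𝟙 Z) (Spec.map (CommRingCat.ofHom (algebraMap R (FractionRing R)))) (𝟙 S) ((Category.comp_id _).trans (Category.id_comp _).symm)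 (Category.comp_id _)).ker.subschemeι ≫ pullback.map (ι ≫ p) x p x ι (𝟙 _) (𝟙 S) (Category.comp_id _) ((Category.comp_id _).trans (Category.id_comp _).symm)) t = ∑ᶠ t' ∈ {t' : ↥(pullback p (Spec.map (CommRingCat.ofHom (algebraMap R (FractionRing R))) ≫ x)) | (pullback.map p (Spec.map (CommRingCat.ofHom (algebraMap R (FractionRing R))) ≫ x) p x (𝟙 X) (Spec.map (CommRingCat.ofHom (algebraMap R (FractionRing R)))) (𝟙 S) ((Category.comp_id _).trans (Category.id_comp _).symm) (Category.comp_id _)) t' = t}, Cyc.subschemeFun (fun _ => (0 : ℤ)) 0 (pullback.map (ι ≫ p) (Spec.map (CommRingCat.ofHom (algebraMap R (FractionRing R))) ≫ x) p (Spec.map (CommRingCat.ofHom (algebraMap R (FractionRing R))) ≫ x) ι (𝟙 _) (𝟙 S) (Category.comp_id _) ((Category.comp_id _).trans (Category.id_comp _).symm)) t' := by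
  haveI := isOpenImmersion_specMap R
  set sp := Spec.map (CommRingCat.ofHom (algebraMap R (FractionRing R))) with hsp
  generalize hh : pullback.map (ι ≫ p) (sp ≫ x) (ι ≫ p) x (𝟙 Z) sp (𝟙 S) ((Category.comp_id _).trans (Category.id_comp _).symm) (Category.comp_id _) = h
  generalize hm : pullback.map (ι ≫ p) x p x ι (𝟙 _) (𝟙 S) (Category.comp_id _) ((Category.comp_id _).trans (Category.id_comp _).symm) = m
  generalize hmK : pullback.map (ι ≫ p) (sp ≫ x) p (sp ≫ x) ι (𝟙 _) (𝟙 S) (Category.comp_id _) ((Category.comp_id _).trans (Category.id_comp _).symm) = mK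
  generalize hn : pullback.map p (sp ≫ x) p x (𝟙 X) sp (𝟙 S) ((Category.comp_id _).trans (Category.id_comp _).symm) (Category.comp_id _) = n
  have h2 : h ≫ pullback.snd (ι ≫ p) x = pullback.snd _ _ ≫ sp := by
    rw [← hh]; exact pullback.lift_snd _ _ _
  have HW : IsPullback h (pullback.snd (ι ≫ p) (sp ≫ x)) (pullback.snd (ι ≫ p) x) sp := by
    refine IsPullback.of_right ?_ h2 (IsPullback.of_hasPullback (ι ≫ p) x)
    rw [← hh, show pullback.map (ι ≫ p) (sp ≫ x) (ι ≫ p) x (𝟙 Z) sp (𝟙 S) ((Category.comp_id _).trans (Category.id_comp _).symm) (Category.comp_id _) ≫ pullback.fst (ι ≫ p) x = pullback.fst _ _ from (pullback.lift_fst _ _ _).trans (Category.comp_id _)]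
    exact IsPullback.of_hasPullback _ _
  haveI : IsOpenImmersion h := MorphismProperty.of_isPullback HW.flip (inferInstanceAs (IsOpenImmersion sp))
  haveI : QuasiCompact h := MorphismProperty.of_isPullback HW.flip (inferInstanceAs (QuasiCompact sp))
  haveI hflat : Flat (h.ker.subschemeι ≫ pullback.snd (ι ≫ p) x) :=
    Groth.Agent.H19.Equidim.flat_image h _ _ h2
  have e : mK ≫ n = h ≫ m := by
    rw [← hh, ← hm, ← hmK, ← hn]
    apply pullback.hom_ext
    · simp [pullback.map, pullback.lift_fst, pullback.lift_fst_assoc]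
    · simp [pullback.map, pullback.lift_snd, pullback.lift_snd_assoc]
  haveI : IsClosedImmersion m := by
    rw [← hm]; exact Groth.Agent.H19.Equidim.isClosedImmersion_map ι p x
  have hmi : Function.Injective (h.ker.subschemeι ≫ m) := (h.ker.subschemeι ≫ m).isEmbedding.injective
  have hni : Function.Injective n := by
    have h3 : n ≫ pullback.snd p x = pullback.snd _ _ ≫ sp := by rw [← hn]; exact pullback.lift_snd _ _ _
    have HN : IsPullback n (pullback.snd p (sp ≫ x)) (pullback.snd p x) sp := by
      refine IsPullback.of_right ?_ h3 (IsPullback.of_hasPullback p x)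
      rw [← hn, show pullback.map p (sp ≫ x) p x (𝟙 X) sp (𝟙 S) ((Category.comp_id _).trans (Category.id_comp _).symm) (Category.comp_id _) ≫ pullback.fst p x = pullback.fst _ _ from (pullback.lift_fst _ _ _).trans (Category.comp_id _)]
      exact IsPullback.of_hasPullback _ _
    haveI : IsOpenImmersion n := MorphismProperty.of_isPullback HN.flip (inferInstanceAs (IsOpenImmersion sp))
    exact n.isEmbedding.injective
  simp only [Cyc.subschemeFun, if_pos]
  by_cases hw : ∃ w, (mK ≫ n) w = t
  · obtain ⟨w, rfl⟩ := hw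
    have hwz : (h.ker.subschemeι ≫ m) (h.toImage w) = (mK ≫ n) w := by
      rw [← Scheme.Hom.comp_apply, e, h.toImage_imageι_assoc]
    rw [show {z | (h.ker.subschemeι ≫ m) z = (mK ≫ n) w} = {h.toImage w} from
        Set.ext fun z => ⟨fun hz => hmi (hz.trans hwz.symm), fun hz => by
          rw [Set.mem_singleton_iff.1 hz]; exact hwz⟩, finsum_mem_singleton,
      show {t' | n t' = (mK ≫ n) w} = {mK w} from Set.ext fun t' => ⟨fun ht => hni (ht.trans (Scheme.Hom.comp_apply _ _ _)),
        fun ht => by rw [Set.mem_singleton_iff.1 ht]; exact (Scheme.Hom.comp_apply _ _ _).symm⟩,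
      finsum_mem_singleton,
      show {z | mK z = mK w} = {w} from Set.ext fun z => ⟨fun hz => h.isEmbedding.injective (m.isEmbedding.injective (by
        rw [← Scheme.Hom.comp_apply, ← Scheme.Hom.comp_apply, ← e, Scheme.Hom.comp_apply, Scheme.Hom.comp_apply]
        exact congrArg n hz)), fun hz => congrArg mK hz⟩, finsum_mem_singleton]
    have hb : Function.Bijective (h.toImage.stalkMap w).hom := Groth.Agent.H19.Equidim.bijective_toImage_stalkMap h w
    rw [Groth.Agent.H19.Equidim.length_eq_of_bijective (h.toImage.stalkMap w).hom hb]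
  · rw [finsum_mem_eq_zero_of_forall_eq_zero (s := {z | (h.ker.subschemeι ≫ m) z = t}), finsum_mem_eq_zero_of_forall_eq_zero (s := {t' | n t' = t})]
    · intro t' ht'
      rw [finsum_mem_eq_zero_of_forall_eq_zero (s := {z | mK z = t'})]
      intro w hw'
      exact absurd ⟨w, by rw [Scheme.Hom.comp_apply, hw', ht']⟩ hw
    intro z hz
    by_contra hne
    have hfin : Module.length (h.ker.subscheme.presheaf.stalk z) (h.ker.subscheme.presheaf.stalk z) ≠ ⊤ := fun h' => by
      rw [h'] at hne; exact hne rfl
    have hmax := Groth.Agent.H19.Equidim.isMaxPt_of_length_ne_top hfin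
    have hq := Groth.Agent.H19.Equidim.isMaxPt_image (h.ker.subschemeι ≫ pullback.snd (ι ≫ p) x) hmax
    have hq0 : (h.ker.subschemeι ≫ pullback.snd (ι ≫ p) x) z = ⟨⊥, Ideal.isPrime_bot⟩ :=
      (hq ⟨⊥, Ideal.isPrime_bot⟩ ((PrimeSpectrum.le_iff_specializes _ _).1 bot_le)).symm
    let u : Spec (CommRingCat.of (FractionRing R)) := (Classical.arbitrary (PrimeSpectrum (FractionRing R)) : _)
    obtain ⟨w, hw', -⟩ := Groth.Agent.H19.Equidim.exists_pre HW (h.ker.subschemeι z) u
      (hq0.trans (Groth.Agent.H19.Equidim.specMap_fractionRing_apply u).symm)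
    exact hw ⟨w, by rw [e, Scheme.Hom.comp_apply, hw', ← Scheme.Hom.comp_apply]; exact hz⟩


end Groth.Agent.S13744
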