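import Groth.Statements.S13745
import Groth.Agent.H19.Cycle.FatPoint
import Groth.Agent.H46.Equidim


set_option autoImplicit false
universe u
open Cyc

namespace Groth.Agent.S13745

open CategoryTheory CategoryTheory.Limits AlgebraicGeometry IsLocalRing
open Groth.Agent.Lib Groth.Agent.Lib.Cyc Groth.Agent.H19.Cycle

theorem finite_maxPts_scheme (T : Scheme.{u}) [IsNoetherian T] : {z : T | DimFun.IsMaxPt z}.Finite := by
  refine (DimFun.finite_maxPts (isClosed_univ : IsClosed (Set.univ : Set T))).subset fun z hz => ⟨trivial, fun y _ h => hz y h⟩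

theorem isMaxPt_of_subschemeFun_ne {W P : Scheme.{u}} {δ : P → ℤ} {r : ℤ} (i : W ⟶ P) {t : P}
    (h : Cyc.subschemeFun δ r i t ≠ 0) : t ∈ i '' {z : W | DimFun.IsMaxPt z} := by
  by_contra hc
  refine h ?_
  simp only [Cyc.subschemeFun]
  split_ifs
  · refine finsum_mem_eq_zero_of_forall_eq_zero fun z hz => ?_
    by_contra hne
    exact hc ⟨z, Groth.Agent.H19.Equidim.isMaxPt_of_length_ne_top (fun h => hne (by rw [h]; rfl)), hz⟩
  · rfl

/-- The cycle of the base change along the special point. -/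
theorem subschemeFun_special {V XR B K Xk Q F : Scheme.{u}} {a : XR ⟶ B} {x₀ : K ⟶ B} {sk : Xk ⟶ K}
    {fι : F ⟶ XR} (g : Xk ⟶ F) [Flat g] (hX : IsPullback (g ≫ fι) sk a x₀) (i : V ⟶ XR) [IsClosedImmersion i]
    (j : Q ⟶ Xk) (u : Q ⟶ V) (hQ : IsPullback u (j ≫ sk) (i ≫ a) x₀) (hu : u ≫ i = j ≫ g ≫ fι) (t : Xk) :
    Cyc.subschemeFun (fun _ => (0 : ℤ)) 0 j t =
      Cyc.subschemeFun (fun _ => (0 : ℤ)) 0 (pullback.snd i fι) (g t) * ((FibLen.fibLen g t).toNat : ℤ) := by
  have h1 : IsPullback u j i (g ≫ fι) := IsPullback.of_bot hQ hu hX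
  haveI : IsClosedImmersion j := MorphismProperty.of_isPullback h1 ‹IsClosedImmersion i›
  let gA : Q ⟶ pullback i fι := pullback.lift u (j ≫ g) (by rw [Category.assoc]; exact hu)
  have h2 : IsPullback gA j (pullback.snd i fι) g :=
    IsPullback.of_right (by rwa [pullback.lift_fst]) (pullback.lift_snd _ _ _) (IsPullback.of_hasPullback i fι)
  exact FibreBC.subschemeFun_baseChange h2.flip t



open CategoryTheory CategoryTheory.Limits AlgebraicGeometry in
/-- Let S be a separated Noetherian scheme reduced at the generic points of its irreducible components,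
p : X → S separated of finite type, ι : Z → X a closed subscheme flat over S whose fibres have all
irreducible components of dimension r, and (x₀, x₁, R) a fat point of S over a field k: R a discrete
valuation ring, x₁ : Spec R → S mapping the generic point to a generic point of an irreducible
component of S, x₀ : Spec k → Spec R onto the closed point. For ζ in Z let m_ζ be the length of
O_{Z,ζ} modulo the extension of the nilradical of O_{S,p ζ} (the multiplicity of ζ in the cycle of Z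
×_S S_red; zero unless ζ is generic in Z), Z̄_ζ the closure of ζ in X with reduced structure, φ_ζ
the scheme-theoretic image in Z̄_ζ ×_S Spec R of its generic fibre (the flat closure), and c_ζ the
canonical morphism from φ_ζ ×_{Spec R} Spec k to X ×_S Spec k (pinned by its projections). Then at
every point t of X ×_S Spec k, Σ_ζ m_ζ times the coefficient at t of the cycle of φ_ζ ×_{Spec R}
Spec k equals the coefficient at t of the cycle of Z ×_S Spec k (coefficients = lengths of local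
rings, an infinite length read as 0): the fat-point pullback of the cycle of Z ×_S S_red is the
cycle of the fibre. -/
theorem result {X S Z : Scheme.{u}} [IsNoetherian S] [S.IsSeparated] [X.IsSeparated] (hS : ∀ s : ↥S, closure {s} ∈ irreducibleComponents ↥S → _root_.IsReduced ↑(S.presheaf.stalk s)) (p : X ⟶ S) [LocallyOfFiniteType p] [QuasiCompact p] (ι : Z ⟶ X) [IsClosedImmersion ι] [Flat (ι ≫ p)] (r : ℕ) (hZ : Cyc.HasRelDim (ι ≫ p) r) (R k : Type u) [CommRing R] [IsDomain R] [IsDiscreteValuationRing R] [Field k] (x₁ : Spec (CommRingCat.of R) ⟶ S) (x₀ : Spec (CommRingCat.of k) ⟶ Spec (CommRingCat.of R)) (hx₁ : closure {x₁ (genericPoint (PrimeSpectrum R))} ∈ irreducibleComponents ↥S) (hx₀ : x₀ (IsLocalRing.closedPoint k) = IsLocalRing.closedPoint R) (c : ∀ ζ : ↥Z, pullback ((pullback.map ((Scheme.IdealSheafData.vanishingIdeal (⟨closure {ι ζ}, isClosed_closure⟩ : TopologicalSpace.Closeds ↥X)).subschemeι ≫ p) (Spec.map (CommRingCat.ofHom (algebraMap R (FractionRing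 R))) ≫ x₁) ((Scheme.IdealSheafData.vanishingIdeal (⟨closure {ι ζ}, isClosed_closure⟩ : TopologicalSpace.Closeds ↥X)).subschemeι ≫ p) x₁ (𝟙 _) (Spec.map (CommRingCat.ofHom (algebraMap R (FractionRing R)))) (𝟙 S) ((Category.comp_id _).trans (Category.id_comp _).symm) (Category.comp_id _)).ker.subschemeι ≫ pullback.snd ((Scheme.IdealSheafData.vanishingIdeal (⟨closure {ι ζ}, isClosed_closure⟩ : TopologicalSpace.Closeds ↥X)).subschemeι ≫ p) x₁) x₀ ⟶ pullback p (x₀ ≫ x₁)) (hc₁ : ∀ ζ : ↥Z, c ζ ≫ pullback.fst p (x₀ ≫ x₁) = pullback.fst _ x₀ ≫ (pullback.map ((Scheme.IdealSheafData.vanishingIdeal (⟨closure {ι ζ}, isClosed_closure⟩ : TopologicalSpace.Closeds ↥X)).subschemeι ≫ p) (Spec.map (CommRingCat.ofHom (algebraMap R (FractionRing R))) ≫ x₁) ((Scheme.IdealSheafData.vanishingIdeal (⟨closure {ι ζ}, isClosed_closure⟩ : TopologicalSpace.Closeds ↥X)).subschemeι ≫ p) x₁ (𝟙 _) (Spec.map (CommRingCat.ofHom (algebraMap R (FractionRing R)))) (𝟙 S) ((Category.comp_id _).trans (Category.id_comp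 _).symm) (Category.comp_id _)).ker.subschemeι ≫ pullback.fst ((Scheme.IdealSheafData.vanishingIdeal (⟨closure {ι ζ}, isClosed_closure⟩ : TopologicalSpace.Closeds ↥X)).subschemeι ≫ p) x₁ ≫ (Scheme.IdealSheafData.vanishingIdeal (⟨closure {ι ζ}, isClosed_closure⟩ : TopologicalSpace.Closeds ↥X)).subschemeι) (hc₂ : ∀ ζ : ↥Z, c ζ ≫ pullback.snd p (x₀ ≫ x₁) = pullback.snd _ x₀) (t : ↥(pullback p (x₀ ≫ x₁))) : ∑ᶠ ζ : ↥Z, ((Module.length (Z.presheaf.stalk ζ) (Z.presheaf.stalk ζ ⧸ Ideal.map ((ι ≫ p).stalkMap ζ).hom (nilradical (S.presheaf.stalk ((ι ≫ p) ζ))))).toNat : ℤ) * Cyc.subschemeFun (fun _ => (0 : ℤ)) 0 (c ζ) t = Cyc.subschemeFun (fun _ => (0 : ℤ)) 0 (pullback.map (ι ≫ p) (x₀ ≫ x₁) p (x₀ ≫ x₁) ι (𝟙 _) (𝟙 S) (Category.comp_id _) ((Category.comp_id _).trans (Category.id_comp _).symm)) t := by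
  classical
  haveI : IsLocallyNoetherian X := LocallyOfFiniteType.isLocallyNoetherian p
  haveI : CompactSpace X := QuasiCompact.compactSpace_of_compactSpace p
  haveI : IsLocallyNoetherian Z := LocallyOfFiniteType.isLocallyNoetherian ι
  haveI : CompactSpace Z := QuasiCompact.compactSpace_of_compactSpace ι
  haveI : IsNoetherian Z := {}
  let A : Finset Z := (finite_maxPts_scheme Z).toFinset
  have hA : ∀ ζ, ζ ∈ A ↔ DimFun.IsMaxPt ζ := fun ζ => Set.Finite.mem_toFinset _
  let a := pullback.snd p x₁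
  let η := genericPoint ↥(Spec (CommRingCat.of R))
  let s : ↥(Spec (CommRingCat.of R)) := IsLocalRing.closedPoint R
  let δη := FieldDim.fdelta (K := (Spec (CommRingCat.of R)).residueField η) (a.fiberToSpecResidueField η)
  let δs := FieldDim.fdelta (K := (Spec (CommRingCat.of R)).residueField s) (a.fiberToSpecResidueField s)
  let Wm := pullback.map (ι ≫ p) x₁ p x₁ ι (𝟙 _) (𝟙 S) (Category.comp_id _) ((Category.comp_id _).trans (Category.id_comp _).symm)
  haveI : IsClosedImmersion Wm := Groth.Agent.H19.Equidim.isClosedImmersion_map ι p x₁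
  have hWa : Wm ≫ a = pullback.snd (ι ≫ p) x₁ := (pullback.lift_snd _ _ _).trans (Category.comp_id _)
  haveI : Flat (Wm ≫ a) := by rw [hWa]; infer_instance
  have hrW : ∀ w, FlatMor.fibreDimAt (Wm ≫ a) w = r := fun w => by
    rw [hWa, Groth.Agent.H2.FibreDimPullback.fibreDimAt_of_isPullback (IsPullback.of_hasPullback (ι ≫ p) x₁) w]
    exact H69.RelDimLocus.localDim_eq_of_hasRelDim (ι ≫ p) hZ _
  have hWsq : IsPullback Wm (pullback.fst (ι ≫ p) x₁) (pullback.fst p x₁) ι := by
    refine (IsPullback.of_bot ?_ (pullback.lift_fst _ _ _).symm (IsPullback.of_hasPullback p x₁)).flip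
    rw [hWa]
    exact IsPullback.of_hasPullback (ι ≫ p) x₁
  let cl := fun ζ : Z => Image.clMap p x₁ (FatPoint.jz (ι ζ))
  haveI : ∀ ζ, IsClosedImmersion (cl ζ) := fun ζ => Image.isClosedImmersion_clMap p x₁ _
  haveI : ∀ ζ, Flat (cl ζ ≫ a) := fun ζ => Image.flat_clMap p x₁ _
  have hrcl : ∀ ζ ∈ A, ∀ w, FlatMor.fibreDimAt (cl ζ ≫ a) w = r := fun ζ hζ w =>
    FatPoint.fibreDimAt_clMap p ι hZ x₁ hx₁ ((hA ζ).1 hζ) w
  -- the generic fibre is flat over `X`
  have hmax : DimFun.IsMaxPt (x₁ η) := Groth.Agent.H46.Equidim.isMaxPt_of_closure_mem hx₁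
  let gη := (Spec (CommRingCat.of R)).fromSpecResidueField η ≫ x₁
  have hgη : ∀ z, gη z = x₁ η := fun z => by rw [Scheme.Hom.comp_apply, Scheme.fromSpecResidueField_apply]
  haveI : Flat gη := Image.flat_of_isMaxPt gη (fun z => (hgη z).symm ▸ hmax) (fun z => (hgη z).symm ▸ hS _ hx₁)
  have hF : ∀ y, IsPullback (a.fiberι y ≫ pullback.fst p x₁) (a.fiberToSpecResidueField y) p
      ((Spec (CommRingCat.of R)).fromSpecResidueField y ≫ x₁) := fun y =>
    (IsPullback.of_hasPullback a ((Spec (CommRingCat.of R)).fromSpecResidueField y)).paste_horiz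
      (IsPullback.of_hasPullback p x₁)
  haveI : Flat (a.fiberι η ≫ pullback.fst p x₁) := MorphismProperty.of_isPullback (hF η).flip ‹Flat gη›
  have hηr : ∀ ξ, Cyc.subschemeFun δη (r : ℤ) (pullback.snd Wm (a.fiberι η)) ξ =
      ∑ ζ ∈ A, FatPoint.mult (ι ≫ p) ζ * Cyc.subschemeFun δη (r : ℤ) (pullback.snd (cl ζ) (a.fiberι η)) ξ := by
    intro ξ
    have hpt : p ((a.fiberι η ≫ pullback.fst p x₁) ξ) = x₁ η := by
      rw [← Scheme.Hom.comp_apply, (hF η).w, Scheme.Hom.comp_apply]
      exact hgη _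
    have hWb : IsPullback (pullback.snd Wm (a.fiberι η)) (pullback.fst Wm (a.fiberι η) ≫ pullback.fst (ι ≫ p) x₁)
        (a.fiberι η ≫ pullback.fst p x₁) ι :=
      (IsPullback.of_hasPullback Wm (a.fiberι η)).flip.paste_vert hWsq
    rw [congrFun (FibreBC.subschemeFun_fiber a Wm r hrW η) ξ, FibreBC.subschemeFun_baseChange hWb ξ,
      FatPoint.sum_closures p ι A hA _ (hpt.symm ▸ hS _ hx₁), Finset.sum_mul]
    refine Finset.sum_congr rfl fun ζ hζ => ?_
    rw [congrFun (FibreBC.subschemeFun_fiber a (cl ζ) r (hrcl ζ hζ) η) ξ,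
      FibreBC.subschemeFun_baseChange (Image.isPullback_generic p x₁ (FatPoint.jz (ι ζ))) ξ, mul_assoc]
  -- specialisation
  haveI : IsLocallyNoetherian (a.fiber η) :=
    LocallyOfFiniteType.isLocallyNoetherian (a.fiberToSpecResidueField η)
  haveI : CompactSpace (a.fiber η) := QuasiCompact.compactSpace_of_compactSpace (a.fiberToSpecResidueField η)
  have hδη : Cyc.DeltaCompat (a.fiberToSpecResidueField η) δη (fun _ => 0) :=
    FibreBC.deltaCompat_fdelta (K := (Spec (CommRingCat.of R)).residueField η) (a.fiberToSpecResidueField η)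
  have hδs : Cyc.DeltaCompat (a.fiberToSpecResidueField s) δs (fun _ => 0) :=
    FibreBC.deltaCompat_fdelta (K := (Spec (CommRingCat.of R)).residueField s) (a.fiberToSpecResidueField s)
  have hsp : ∀ xs, Cyc.subschemeFun (fun _ => (0 : ℤ)) 0 (pullback.snd Wm (a.fiberι s)) xs =
      ∑ ζ ∈ A, FatPoint.mult (ι ≫ p) ζ * Cyc.subschemeFun (fun _ => (0 : ℤ)) 0 (pullback.snd (cl ζ) (a.fiberι s)) xs := by
    intro xs
    rw [← congrFun (FibreBC.subschemeFun_fiber a Wm r hrW s) xs,
      ← congrFun (Groth.Agent.S1910.result R _ a δη δs hδη hδs r _ Wm (FibreBC.fdelta_le a Wm r hrW η)).2 xs,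
      funext hηr, Groth.Agent.H19.Spec.Lin.spFun_sum]
    · refine Finset.sum_congr rfl fun ζ hζ => ?_
      rw [congrFun (Groth.Agent.S1910.result R _ a δη δs hδη hδs r _ (cl ζ) (FibreBC.fdelta_le a (cl ζ) r (hrcl ζ hζ) η)).2 xs]
      exact congrArg _ (congrFun (FibreBC.subschemeFun_fiber a (cl ζ) r (hrcl ζ hζ) s) xs)
    · intro ζ _
      haveI : IsLocallyNoetherian (pullback (cl ζ) (a.fiberι η)) :=
        LocallyOfFiniteType.isLocallyNoetherian (pullback.snd (cl ζ) (a.fiberι η))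
      haveI : CompactSpace ↥(pullback (cl ζ) (a.fiberι η)) :=
        QuasiCompact.compactSpace_of_compactSpace (pullback.snd (cl ζ) (a.fiberι η))
      haveI : IsNoetherian (pullback (cl ζ) (a.fiberι η)) := {}
      exact ((finite_maxPts_scheme _).image _).subset fun ξ hξ => isMaxPt_of_subschemeFun_ne _ hξ.2.2
  -- the special point
  obtain ⟨ψ, hψ, hψf⟩ : ∃ ψ : Spec (CommRingCat.of k) ⟶ Spec ((Spec (CommRingCat.of R)).residueField s),
      ψ ≫ (Spec (CommRingCat.of R)).fromSpecResidueField s = x₀ ∧ Flat ψ := by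
    obtain ⟨⟨y, φ⟩, hxy⟩ := (Scheme.SpecToEquivOfField k (Spec (CommRingCat.of R))).symm.surjective x₀
    have hy : y = s := by
      show y = IsLocalRing.closedPoint R
      rw [← hx₀, ← hxy]
      exact ((congrArg _ (Subsingleton.elim _ _)).trans (Scheme.fromSpecResidueField_apply y (Spec.map φ (IsLocalRing.closedPoint k)))).symm
    subst hy
    exact ⟨Spec.map φ, hxy, FibreDeg.Basic.flat_of_field (K := (Spec (CommRingCat.of R)).residueField s) (Spec.map φ)⟩
  let g : pullback p (x₀ ≫ x₁) ⟶ a.fiber s :=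
    pullback.lift (pullback.lift (pullback.fst p (x₀ ≫ x₁)) (pullback.snd p (x₀ ≫ x₁) ≫ x₀)
      (by rw [Category.assoc]; exact pullback.condition)) (pullback.snd p (x₀ ≫ x₁) ≫ ψ)
      (by rw [pullback.lift_snd, Category.assoc, hψ])
  have hgι : g ≫ a.fiberι s = pullback.lift (pullback.fst p (x₀ ≫ x₁)) (pullback.snd p (x₀ ≫ x₁) ≫ x₀)
      (by rw [Category.assoc]; exact pullback.condition) := pullback.lift_fst _ _ _
  have hg1 : g ≫ a.fiberι s ≫ pullback.fst p x₁ = pullback.fst p (x₀ ≫ x₁) := by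
    rw [reassoc_of% hgι, pullback.lift_fst]
  have hg2 : g ≫ a.fiberToSpecResidueField s = pullback.snd p (x₀ ≫ x₁) ≫ ψ := pullback.lift_snd _ _ _
  have hgsq : IsPullback g (pullback.snd p (x₀ ≫ x₁)) (a.fiberToSpecResidueField s) ψ := by
    refine IsPullback.of_right ?_ hg2 (hF s)
    rw [hg1, reassoc_of% hψ]
    exact IsPullback.of_hasPullback p (x₀ ≫ x₁)
  haveI : Flat g := MorphismProperty.of_isPullback hgsq.flip hψf
  have hX : IsPullback (g ≫ a.fiberι s) (pullback.snd p (x₀ ≫ x₁)) a x₀ := by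
    rw [hgι]
    refine IsPullback.of_right ?_ (pullback.lift_snd _ _ _) (IsPullback.of_hasPullback p x₁)
    rw [pullback.lift_fst]
    exact IsPullback.of_hasPullback p (x₀ ≫ x₁)
  -- conclusion
  have hW0 : Cyc.subschemeFun (fun _ => (0 : ℤ)) 0 (pullback.map (ι ≫ p) (x₀ ≫ x₁) p (x₀ ≫ x₁) ι (𝟙 _) (𝟙 S) (Category.comp_id _) ((Category.comp_id _).trans (Category.id_comp _).symm)) t =
      Cyc.subschemeFun (fun _ => (0 : ℤ)) 0 (pullback.snd Wm (a.fiberι s)) (g t) * ((FibLen.fibLen g t).toNat : ℤ) := by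
    refine subschemeFun_special g hX Wm _ (pullback.lift (pullback.fst (ι ≫ p) (x₀ ≫ x₁)) (pullback.snd _ _ ≫ x₀)
      (by rw [Category.assoc]; exact pullback.condition)) ?_ ?_ t
    · rw [hWa, show pullback.map (ι ≫ p) (x₀ ≫ x₁) p (x₀ ≫ x₁) ι (𝟙 _) (𝟙 S) (Category.comp_id _) ((Category.comp_id _).trans (Category.id_comp _).symm) ≫ pullback.snd p (x₀ ≫ x₁) = pullback.snd _ _ from (pullback.lift_snd _ _ _).trans (Category.comp_id _)]
      refine IsPullback.of_right ?_ (pullback.lift_snd _ _ _) (IsPullback.of_hasPullback (ι ≫ p) x₁)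
      rw [pullback.lift_fst]
      exact IsPullback.of_hasPullback _ _
    · rw [hgι]
      apply pullback.hom_ext
      · simp only [Category.assoc]
        refine ((congrArg _ (pullback.lift_fst _ _ _)).trans ?_).trans (congrArg _ (pullback.lift_fst _ _ _)).symm
        refine ((Category.assoc _ _ _).symm.trans (congrArg (· ≫ ι) (pullback.lift_fst _ _ _))).trans ?_
        exact (pullback.lift_fst _ _ _).symm
      · simp only [Category.assoc]
        refine ((congrArg _ hWa).trans (pullback.lift_snd _ _ _)).trans (Eq.trans ?_ (congrArg _ (pullback.lift_snd _ _ _)).symm)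
        refine (Eq.trans ?_ (Category.assoc _ _ _))
        exact congrArg (· ≫ x₀) ((pullback.lift_snd _ _ _).trans (Category.comp_id _)).symm
  have hζ0 : ∀ ζ, Cyc.subschemeFun (fun _ => (0 : ℤ)) 0 (c ζ) t =
      Cyc.subschemeFun (fun _ => (0 : ℤ)) 0 (pullback.snd (cl ζ) (a.fiberι s)) (g t) * ((FibLen.fibLen g t).toNat : ℤ) := by
    intro ζ
    refine subschemeFun_special g hX (cl ζ) (c ζ) (pullback.fst _ x₀) ?_ ?_ t
    · rw [hc₂ ζ, Image.clMap_snd]
      exact IsPullback.of_hasPullback _ _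
    · rw [hgι]
      apply pullback.hom_ext
      · simp only [Category.assoc, pullback.lift_fst, hc₁ ζ, cl]
      · refine (Category.assoc _ _ _).trans (((congrArg _ (Image.clMap_snd p x₁ _)).trans pullback.condition).trans ?_)
        simp only [Category.assoc, pullback.lift_snd]
        exact (reassoc_of% (hc₂ ζ)) x₀ |>.symm
  rw [hW0, hsp, Finset.sum_mul, finsum_eq_sum_of_support_subset _ (s := A) ?_]
  · exact Finset.sum_congr rfl fun ζ _ => by rw [hζ0 ζ, mul_assoc]
  · intro ζ hζ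
    refine Finset.mem_coe.2 ((hA ζ).2 (FatPoint.isMaxPt_of_quot _ (FatPoint.nilradical_map_le ((ι ≫ p).stalkMap ζ).hom) fun h => hζ ?_))
    exact mul_eq_zero_of_left (congrArg (fun n : ℕ∞ => (n.toNat : ℤ)) h) _


end Groth.Agent.S13745
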