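import Groth.Statements.S13746
import Mathlib

set_option autoImplicit false
universe u
open CategoryTheory AlgebraicGeometry
open SemiFact

namespace Groth.Agent.S13746

open TopologicalSpace IsLocalRing Opposite TensorProduct CategoryTheory.Limits

section

variable {R : Type u} [CommRing R] [IsDomain R] [IsDiscreteValuationRing R] {X : Scheme.{u}}
  (p : X ⟶ Spec (CommRingCat.of R))

/-- The structure ring map to the sections over an open. -/
noncomputable def str (V : X.Opens) : R →+* Γ(X, V) :=
  ((Scheme.ΓSpecIso (CommRingCat.of R)).inv ≫ p.appLE ⊤ V le_top).hom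

lemma str_res {V W : X.Opens} (h : W ≤ V) (r : R) :
    X.presheaf.map (homOfLE h).op (str p V r) = str p W r := by
  show ((Scheme.ΓSpecIso (CommRingCat.of R)).inv ≫ p.appLE ⊤ V le_top ≫ X.presheaf.map (homOfLE h).op) r = _
  rw [Scheme.Hom.appLE_map]; rfl

lemma eq_zero_of_str_mul_affine [Flat p] {V : X.Opens} (hV : IsAffineOpen V) {r : R} (hr : r ≠ 0)
    {g : Γ(X, V)} (h : str p V r * g = 0) : g = 0 := by
  have hf : (str p V).Flat := by
    show ((p.appLE ⊤ V le_top).hom.comp (Scheme.ΓSpecIso (CommRingCat.of R)).inv.hom).Flat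
    exact RingHom.Flat.comp (RingHom.Flat.of_bijective
      (ConcreteCategory.bijective_of_isIso (Scheme.ΓSpecIso (CommRingCat.of R)).inv))
      (p.flat_appLE (isAffineOpen_top _) hV _)
  let : Algebra R Γ(X, V) := (str p V).toAlgebra
  have : Module.Flat R Γ(X, V) := hf
  have := IsSMulRegular.of_flat (S := Γ(X, V)) (IsRegular.of_ne_zero hr).left
  exact this (show algebraMap R Γ(X, V) r • g = algebraMap R Γ(X, V) r • (0 : Γ(X, V)) by
    simp only [smul_eq_mul, mul_zero]; exact h)

lemma eq_zero_of_str_mul [Flat p] {V : X.Opens} {r : R} (hr : r ≠ 0)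
    {g : Γ(X, V)} (h : str p V r * g = 0) : g = 0 := by
  refine TopCat.Sheaf.eq_of_locally_eq' X.sheaf (fun i : {W : X.Opens // IsAffineOpen W ∧ W ≤ V} => i.1) V
    (fun i => homOfLE i.2.2) ?_ _ _ fun i => ?_
  · intro x hx
    obtain ⟨W, hW, hxW, hWV⟩ := Opens.isBasis_iff_nbhd.1 X.isBasis_affineOpens hx
    exact Opens.mem_iSup.2 ⟨⟨W, hW, hWV⟩, hxW⟩
  · show X.presheaf.map _ g = X.presheaf.map _ 0
    rw [map_zero]
    refine eq_zero_of_str_mul_affine p i.2.1 hr ?_
    rw [← str_res p i.2.2, ← map_mul, h, map_zero]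

lemma basicOpen_str (V : X.Opens) (r : R) :
    X.basicOpen (str p V r) = V ⊓ p ⁻¹ᵁ (PrimeSpectrum.basicOpen r) := by
  have h : str p V r = X.presheaf.map (homOfLE (le_top : V ≤ ⊤)).op
      (p.app ⊤ ((Scheme.ΓSpecIso (CommRingCat.of R)).inv r)) := rfl
  rw [h, Scheme.basicOpen_res]
  congr 1
  show X.basicOpen (p.app ⊤ _) = _
  rw [← Scheme.preimage_basicOpen, basicOpen_eq_of_affine]

lemma exists_eq_str_mul [IsReduced (p.fiber (closedPoint R))] {V : X.Opens} (hV : IsAffineOpen V)
    {t : R} (ht : maximalIdeal R = Ideal.span {t}) {f : Γ(X, V)}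
    (hf : f ∈ (Ideal.span {str p V t}).radical) : ∃ g, f = str p V t * g := by
  let algA : Algebra R Γ(X, V) := (str p V).toAlgebra
  let P : PrimeSpectrum R := closedPoint R
  let P' : ↥(Spec (CommRingCat.of R)) := P
  have e1 : hV.fromSpec ≫ p = Spec.map (CommRingCat.ofHom (algebraMap R Γ(X, V))) := by
    show _ = Spec.map ((Scheme.ΓSpecIso (CommRingCat.of R)).inv ≫ p.appLE ⊤ V le_top)
    rw [Spec.map_comp, ← IsAffineOpen.SpecMap_appLE_fromSpec p (isAffineOpen_top _) hV le_top,
      IsAffineOpen.fromSpec_top, Scheme.isoSpec_Spec_inv]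
  let S := Spec.map (CommRingCat.ofHom (algebraMap R Γ(X, V)))
  let j : S.fiber P ⟶ p.fiber P := pullback.lift (pullback.fst _ _ ≫ hV.fromSpec) (pullback.snd _ _)
    (by rw [Category.assoc, e1]; exact pullback.condition)
  have hsqj : IsPullback j (pullback.fst _ _) (pullback.fst _ _) hV.fromSpec := by
    refine IsPullback.of_right ?_ (pullback.lift_fst _ _ _) (IsPullback.of_hasPullback p _).flip
    rw [show j ≫ pullback.snd p ((Spec (CommRingCat.of R)).fromSpecResidueField P) = pullback.snd _ _ from pullback.lift_snd _ _ _, e1]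
    exact (IsPullback.of_hasPullback _ _).flip
  have hj : IsOpenImmersion j := MorphismProperty.of_isPullback hsqj.flip inferInstance
  have : AlgebraicGeometry.IsReduced (S.fiber P) := isReduced_of_isOpenImmersion j
  let eF : S.fiber P ≅ Spec (CommRingCat.of (P.asIdeal.Fiber Γ(X, V))) :=
    Arrow.leftFunc.mapIso (Spec.fiberToSpecResidueFieldIso R Γ(X, V) P)
  have : AlgebraicGeometry.IsReduced (Spec (CommRingCat.of (P.asIdeal.Fiber Γ(X, V)))) :=
    isReduced_of_isOpenImmersion eF.inv
  have hred : _root_.IsReduced (P.asIdeal.Fiber Γ(X, V)) := by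
    exact affine_isReduced_iff (CommRingCat.of (P.asIdeal.Fiber Γ(X, V))) |>.1 this
  let ι : Γ(X, V) →+* P.asIdeal.ResidueField ⊗[R] Γ(X, V) := Algebra.TensorProduct.includeRight.toRingHom
  have hιt : ι (str p V t) = 0 := by
    show (1 : P.asIdeal.ResidueField) ⊗ₜ[R] algebraMap R Γ(X, V) t = 0
    have : algebraMap R P.asIdeal.ResidueField t = 0 := by
      rw [Ideal.algebraMap_residueField_eq_zero]
      show t ∈ maximalIdeal R
      rw [ht]; exact Ideal.mem_span_singleton_self t
    rw [Algebra.algebraMap_eq_smul_one, TensorProduct.tmul_smul, TensorProduct.smul_tmul', ← Algebra.algebraMap_eq_smul_one, this,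
      TensorProduct.zero_tmul]
  have hι : ι f = 0 := by
    obtain ⟨n, hn⟩ := hf
    obtain ⟨g, hg⟩ := Ideal.mem_span_singleton'.1 hn
    apply IsNilpotent.eq_zero
    exact ⟨n, by rw [← map_pow, ← hg, map_mul, hιt, mul_zero]⟩
  have : P.asIdeal.IsMaximal := IsLocalRing.maximalIdeal.isMaximal R
  let e' : P.asIdeal.ResidueField →ₐ[R] R ⧸ P.asIdeal :=
    ((AlgEquiv.ofBijective (IsScalarTower.toAlgHom R (R ⧸ P.asIdeal) P.asIdeal.ResidueField)
      P.asIdeal.bijective_algebraMap_quotient_residueField).symm).toAlgHom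
  let e := e'.toLinearMap
  have h1 : (TensorProduct.map e LinearMap.id) ((1 : P.asIdeal.ResidueField) ⊗ₜ[R] f) = 0 := by
    rw [show ((1 : P.asIdeal.ResidueField) ⊗ₜ[R] f) = 0 from hι, map_zero]
  rw [TensorProduct.map_tmul, LinearMap.id_apply, show e 1 = 1 from map_one e'] at h1
  have h2 : (Algebra.TensorProduct.quotIdealMapEquivTensorQuot Γ(X, V) P.asIdeal) f = 0 := by
    rw [Algebra.TensorProduct.quotIdealMapEquivTensorQuot_mk]
    have := congrArg (TensorProduct.comm R (R ⧸ P.asIdeal) Γ(X, V)) h1
    simpa using this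
  rw [EmbeddingLike.map_eq_zero_iff, Ideal.Quotient.eq_zero_iff_mem, show P.asIdeal = maximalIdeal R from rfl,
    ht, Ideal.map_span, Set.image_singleton, Ideal.mem_span_singleton'] at h2
  obtain ⟨g, hg⟩ := h2
  exact ⟨g, by rw [← hg, mul_comm]; rfl⟩

end

/-- Let R be a discrete valuation ring with fraction field K, let X and Y be schemes flat over Spec R
and let π : Y → X be a proper morphism over Spec R whose base change along Spec K → Spec R is an
isomorphism. If the fibre of X over the closed point of Spec R is reduced, then the canonical map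
O_X → π_* O_Y is an isomorphism: for every open V ⊆ X the ring map O_X(V) → O_Y(π⁻¹ V) is bijective. -/
theorem result
    (R : Type u) [CommRing R] [IsDomain R] [IsDiscreteValuationRing R]
    (X Y : Over (Spec (CommRingCat.of R))) [Flat X.hom] [Flat Y.hom]
    (π : Y ⟶ X) [IsProper π.left]
    (hgen : IsIso ((Neron.genericFibre R).map π))
    [IsReduced (X.hom.fiber (IsLocalRing.closedPoint R))] :
    ∀ V : X.left.Opens, IsIso (π.left.app V) := by
  intro V
  obtain ⟨t, ht⟩ := IsDiscreteValuationRing.exists_irreducible R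
  have htm := ht.maximalIdeal_eq
  have ht0 : t ≠ 0 := ht.ne_zero
  let K := FractionRing R
  have : IsLocalization.Away t K := by
    refine ⟨?_, fun z => ?_, fun {a b} h => ⟨1, by simpa using IsFractionRing.injective R K h⟩⟩
    · rintro ⟨y, n, rfl⟩
      exact isUnit_iff_ne_zero.2 ((map_ne_zero_iff _ (IsFractionRing.injective R K)).2 (pow_ne_zero _ ht0))
    · obtain ⟨a, b, hb, rfl⟩ := IsFractionRing.div_surjective (A := R) z
      obtain ⟨n, u, hu⟩ := IsDiscreteValuationRing.eq_unit_mul_pow_irreducible (nonZeroDivisors.ne_zero hb) ht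
      refine ⟨⟨a * ↑u⁻¹, ⟨_, n, rfl⟩⟩, ?_⟩
      have hb0 : algebraMap R K b ≠ 0 := (map_ne_zero_iff _ (IsFractionRing.injective R K)).2 (nonZeroDivisors.ne_zero hb)
      rw [div_mul_eq_mul_div, div_eq_iff hb0, ← map_mul, ← map_mul, hu]
      congr 1
      rw [mul_assoc, ← mul_assoc (↑u⁻¹ : R), Units.inv_mul, one_mul]
  have : IsOpenImmersion (Neron.genPt R) := IsOpenImmersion.of_isLocalization t
  have hopen : (Neron.genPt R).opensRange = PrimeSpectrum.basicOpen t :=
    Opens.ext (PrimeSpectrum.localization_away_comap_range K t)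
  let U : X.left.Opens := X.hom ⁻¹ᵁ (PrimeSpectrum.basicOpen t)
  let jX := pullback.fst X.hom (Neron.genPt R)
  have hjU : jX.opensRange = U := by
    apply Opens.ext
    show Set.range jX = _
    rw [Scheme.Pullback.range_fst]
    exact congrArg (fun W : (Spec (CommRingCat.of R)).Opens => X.hom ⁻¹' (W : Set _)) hopen
  have hw : ((Neron.genericFibre R).map π).left ≫ jX = pullback.fst Y.hom (Neron.genPt R) ≫ π.left :=
    pullback.lift_fst _ _ _
  have hsq : IsPullback ((Neron.genericFibre R).map π).left (pullback.fst Y.hom (Neron.genPt R)) jX π.left := by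
    refine IsPullback.of_right ?_ hw (IsPullback.of_hasPullback X.hom (Neron.genPt R)).flip
    rw [show ((Neron.genericFibre R).map π).left ≫ pullback.snd X.hom (Neron.genPt R) = pullback.snd Y.hom (Neron.genPt R) from
      pullback.lift_snd _ _ _, Over.w π]
    exact (IsPullback.of_hasPullback _ _).flip
  have hres : IsIso (π.left ∣_ U) := by
    have : IsIso (pullback.snd π.left jX) := by
      rw [← hsq.flip.isoPullback_inv_snd]
      have : IsIso ((Neron.genericFibre R).map π).left :=
        (inferInstance : IsIso ((Over.forget _).map ((Neron.genericFibre R).map π)))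
      infer_instance
    rw [← hjU]
    exact ((MorphismProperty.isomorphisms Scheme).arrow_mk_iso_iff (morphismRestrictOpensRange π.left jX)).2 this
  have happ : ∀ W : X.left.Opens, W ≤ U → IsIso (π.left.app W) := by
    intro W hW
    have hW' : U.ι ''ᵁ (U.ι ⁻¹ᵁ W) = W := by
      rw [Scheme.Hom.image_preimage_eq_opensRange_inf, Scheme.Opens.opensRange_ι]
      exact inf_eq_right.2 hW
    have := morphismRestrict_app π.left U (U.ι ⁻¹ᵁ W)
    have h2 : IsIso (π.left.app (U.ι ''ᵁ (U.ι ⁻¹ᵁ W))) := by
      have h3 : IsIso ((π.left ∣_ U).app (U.ι ⁻¹ᵁ W)) := inferInstance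
      rw [this] at h3
      exact @IsIso.of_isIso_comp_right _ _ _ _ _ _ _
        (Y.left.presheaf.mapIso (eqToIso (image_morphismRestrict_preimage π.left U (U.ι ⁻¹ᵁ W))).op).isIso_hom h3
    exact hW' ▸ h2
  have hkey : ∀ (W : X.left.Opens), IsAffineOpen W → Function.Bijective (π.left.app W) := by
    intro W hW
    have hnat : ∀ (W' : X.left.Opens) (h : W' ≤ W) (f : Γ(X.left, W)),
        π.left.app W' (X.left.presheaf.map (homOfLE h).op f) =
          Y.left.presheaf.map (homOfLE (π.left.preimage_mono h)).op (π.left.app W f) := fun W' h f =>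
      congrArg (fun φ => φ f) (π.left.naturality (homOfLE h).op)
    have hWY : π.left.app W (str X.hom W t) = str Y.hom (π.left ⁻¹ᵁ W) t := by
      show ((Scheme.ΓSpecIso (CommRingCat.of R)).inv ≫ X.hom.appLE ⊤ W le_top ≫ π.left.app W) t = _
      rw [Scheme.Hom.app_eq_appLE, Scheme.Hom.appLE_comp_appLE]
      simp only [Over.w]
      rfl
    let Wt := X.left.basicOpen (str X.hom W t)
    have hWtle : Wt ≤ W := X.left.basicOpen_le _
    have hWt : IsIso (π.left.app Wt) :=
      happ _ ((basicOpen_str X.hom W t).le.trans inf_le_right)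
    have hbij := ConcreteCategory.bijective_of_isIso (π.left.app Wt)
    have hY : π.left ⁻¹ᵁ Wt = Y.left.basicOpen (str Y.hom (π.left ⁻¹ᵁ W) t) := by
      rw [← hWY, Scheme.preimage_basicOpen]
    constructor
    · rw [injective_iff_map_eq_zero]
      intro f hf
      obtain ⟨n, hn⟩ := exists_pow_mul_eq_zero_of_res_basicOpen_eq_zero_of_isAffineOpen X.left hW f (str X.hom W t) (by
        refine hbij.1 ?_
        rw [map_zero]
        show π.left.app Wt (X.left.presheaf.map (homOfLE hWtle).op f) = 0
        rw [hnat, hf, map_zero])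
      rw [← map_pow] at hn
      exact eq_zero_of_str_mul X.hom (pow_ne_zero n ht0) hn
    · have hlift : ∀ (n : ℕ) (g : Γ(Y.left, π.left ⁻¹ᵁ W)) (f : Γ(X.left, W)),
          str Y.hom _ t ^ n * g = π.left.app W f → ∃ f', π.left.app W f' = g := by
        intro n
        induction n with
        | zero => exact fun g f h => ⟨f, by rw [← h]; simp⟩
        | succ n ih =>
          intro g f h
          have hrad : f ∈ (Ideal.span {str X.hom W t}).radical := by
            rw [Ideal.radical_eq_sInf]
            refine Ideal.mem_sInf.2 fun {q} ⟨hq1, hq2⟩ => ?_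
            by_contra hfq
            let x : X.left := hW.fromSpec ⟨q, hq2⟩
            have hxW : x ∈ W := hW.range_fromSpec.subset (Set.mem_range_self _)
            have hxf : x ∈ X.left.basicOpen f := by
              have : (⟨q, hq2⟩ : PrimeSpectrum Γ(X.left, W)) ∈ hW.fromSpec ⁻¹ᵁ X.left.basicOpen f := by
                rw [hW.fromSpec_preimage_basicOpen]; exact hfq
              exact this
            have hxt : x ∉ Wt := by
              intro h'
              have : (⟨q, hq2⟩ : PrimeSpectrum Γ(X.left, W)) ∈ hW.fromSpec ⁻¹ᵁ Wt := h'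
              rw [hW.fromSpec_preimage_basicOpen] at this
              exact this (hq1 (Ideal.mem_span_singleton_self _))
            by_cases hx : x ∈ Set.range π.left
            · obtain ⟨y, hy⟩ := hx
              have h1 : y ∈ π.left ⁻¹ᵁ X.left.basicOpen f := by
                show π.left y ∈ X.left.basicOpen f
                rw [hy]; exact hxf
              rw [Scheme.preimage_basicOpen, ← h, pow_succ', mul_assoc, Scheme.basicOpen_mul] at h1
              have h2 : y ∈ π.left ⁻¹ᵁ Wt := hY ▸ h1.1
              exact hxt (hy ▸ h2)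
            · obtain ⟨W', hW', hxW', hsub⟩ := Opens.isBasis_iff_nbhd.1 X.left.isBasis_affineOpens
                (U := W ⊓ (⟨(Set.range π.left)ᶜ, π.left.isClosedMap.isClosed_range.isOpen_compl⟩ : X.left.Opens))
                (show x ∈ W ⊓ (⟨(Set.range π.left)ᶜ, π.left.isClosedMap.isClosed_range.isOpen_compl⟩ : X.left.Opens) from ⟨hxW, hx⟩)
              let Wt' := X.left.basicOpen (str X.hom W' t)
              have : IsIso (π.left.app Wt') := happ _ ((basicOpen_str X.hom W' t).le.trans inf_le_right)
              have he : π.left ⁻¹ᵁ Wt' = ⊥ := by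
                rw [eq_bot_iff]
                intro y hy
                exact ((hsub (X.left.basicOpen_le _ hy)).2 ⟨y, rfl⟩).elim
              have : Subsingleton Γ(Y.left, π.left ⁻¹ᵁ Wt') := by rw [he]; infer_instance
              have : Subsingleton Γ(X.left, Wt') :=
                (ConcreteCategory.bijective_of_isIso (π.left.app Wt')).1.subsingleton
              obtain ⟨m, hm⟩ := exists_pow_mul_eq_zero_of_res_basicOpen_eq_zero_of_isAffineOpen X.left hW'
                (1 : Γ(X.left, W')) (str X.hom W' t) (Subsingleton.elim _ _)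
              rw [← map_pow] at hm
              have h10 := eq_zero_of_str_mul X.hom (pow_ne_zero m ht0) hm
              have : X.left.basicOpen (1 : Γ(X.left, W')) = W' := Scheme.basicOpen_of_isUnit _ isUnit_one
              rw [h10, Scheme.basicOpen_zero] at this
              exact absurd hxW' (by rw [← this]; exact id)
          obtain ⟨f', hf'⟩ := exists_eq_str_mul X.hom hW htm hrad
          refine ih g f' ?_
          have : str Y.hom (π.left ⁻¹ᵁ W) t * (str Y.hom _ t ^ n * g - π.left.app W f') = 0 := by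
            rw [mul_sub, ← mul_assoc, ← pow_succ', h, hf', map_mul, hWY, sub_self]
          exact sub_eq_zero.1 (eq_zero_of_str_mul Y.hom ht0 this)
      intro g
      obtain ⟨f₀, hf₀⟩ := hbij.2 (Y.left.presheaf.map (homOfLE (π.left.preimage_mono hWtle)).op g)
      have := hW.isLocalization_basicOpen (str X.hom W t)
      obtain ⟨⟨a, ⟨_, n, rfl⟩⟩, han⟩ := IsLocalization.surj (Submonoid.powers (str X.hom W t)) f₀
      change f₀ * (X.left.presheaf.map (homOfLE hWtle).op) (str X.hom W t ^ n) =
        (X.left.presheaf.map (homOfLE hWtle).op) a at han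
      have han' := congrArg (π.left.app Wt) han
      rw [map_mul, hf₀, hnat, hnat, map_pow, hWY, ← map_mul] at han'
      have hle : Y.left.basicOpen (str Y.hom (π.left ⁻¹ᵁ W) t) ≤ π.left ⁻¹ᵁ W := Y.left.basicOpen_le _
      obtain ⟨m, hm⟩ := exists_pow_mul_eq_zero_of_res_basicOpen_eq_zero_of_isCompact Y.left
        (QuasiCompact.isCompact_preimage (f := π.left) _ W.2 hW.isCompact)
        (g * str Y.hom _ t ^ n - π.left.app W a) (str Y.hom _ t) (by
          have h' := congrArg (Y.left.presheaf.map (eqToHom hY.symm).op) han'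
          rw [← ConcreteCategory.comp_apply, ← ConcreteCategory.comp_apply, ← Functor.map_comp, ← op_comp] at h'
          show Y.left.presheaf.map (homOfLE hle).op _ = 0
          rw [map_sub, sub_eq_zero]
          exact h')
      rw [mul_sub, sub_eq_zero] at hm
      refine hlift (m + n) g (str X.hom W t ^ m * a) ?_
      rw [map_mul, map_pow, hWY, ← hm, pow_add]
      ring
  have hcov : V ≤ iSup (fun i : {W : X.left.Opens // IsAffineOpen W ∧ W ≤ V} => i.1) := by
    intro x hx
    obtain ⟨W, hW, hxW, hWV⟩ := Opens.isBasis_iff_nbhd.1 X.left.isBasis_affineOpens hx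
    exact Opens.mem_iSup.2 ⟨⟨W, hW, hWV⟩, hxW⟩
  have hnat : ∀ (W W' : X.left.Opens) (h : W' ≤ W) (f : Γ(X.left, W)),
      π.left.app W' (X.left.presheaf.map (homOfLE h).op f) =
        Y.left.presheaf.map (homOfLE (π.left.preimage_mono h)).op (π.left.app W f) := fun W W' h f =>
    congrArg (fun φ => φ f) (π.left.naturality (homOfLE h).op)
  have hinj : ∀ W : X.left.Opens, Function.Injective (π.left.app W) := by
    intro W a b hab
    refine TopCat.Sheaf.eq_of_locally_eq' X.left.sheaf (fun i : {W' : X.left.Opens // IsAffineOpen W' ∧ W' ≤ W} => i.1) W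
      (fun i => homOfLE i.2.2) ?_ _ _ fun i => ?_
    · intro x hx
      obtain ⟨W', hW', hxW, hWV⟩ := Opens.isBasis_iff_nbhd.1 X.left.isBasis_affineOpens hx
      exact Opens.mem_iSup.2 ⟨⟨W', hW', hWV⟩, hxW⟩
    · apply (hkey i.1 i.2.1).1
      show π.left.app _ (X.left.presheaf.map _ a) = π.left.app _ (X.left.presheaf.map _ b)
      rw [hnat, hnat, hab]
  refine (ConcreteCategory.isIso_iff_bijective _).2 ⟨hinj V, fun g => ?_⟩
  let ι := {W : X.left.Opens // IsAffineOpen W ∧ W ≤ V}
  choose sf hsf using fun i : ι => (hkey i.1 i.2.1).2 (Y.left.presheaf.map (homOfLE (π.left.preimage_mono i.2.2)).op g)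
  obtain ⟨s, hs, -⟩ := TopCat.Sheaf.existsUnique_gluing' X.left.sheaf (fun i : ι => i.1) V
    (fun i => homOfLE i.2.2) hcov sf (fun i j => by
      apply hinj (i.1 ⊓ j.1)
      show π.left.app _ (X.left.presheaf.map (homOfLE inf_le_left).op (sf i)) =
        π.left.app _ (X.left.presheaf.map (homOfLE inf_le_right).op (sf j))
      rw [hnat, hnat, hsf, hsf, ← ConcreteCategory.comp_apply, ← ConcreteCategory.comp_apply, ← Functor.map_comp,
        ← Functor.map_comp]
      rfl)
  refine ⟨s, ?_⟩
  refine TopCat.Sheaf.eq_of_locally_eq' Y.left.sheaf (fun i : ι => π.left ⁻¹ᵁ i.1) (π.left ⁻¹ᵁ V)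
    (fun i => homOfLE (π.left.preimage_mono i.2.2)) ?_ _ _ fun i => ?_
  · intro y hy
    obtain ⟨i, hi⟩ := Opens.mem_iSup.1 (hcov hy)
    exact Opens.mem_iSup.2 ⟨i, hi⟩
  · show Y.left.presheaf.map _ (π.left.app V s) = Y.left.presheaf.map _ g
    rw [← hnat V i.1 i.2.2, show X.left.presheaf.map (homOfLE i.2.2).op s = sf i from hs i, hsf]

end Groth.Agent.S13746
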