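import Groth.Statements.S13749
import Groth.Agent.Lib.NeronDescent.Descent
import Groth.Agent.Lib.SchDense.Factor

set_option autoImplicit false
universe u
open CategoryTheory AlgebraicGeometry
open Neron

namespace Groth.Agent.S13749

open CategoryTheory CategoryTheory.Limits AlgebraicGeometry

/-- Let S be a locally Noetherian scheme, U ⊆ S a schematically dense open subscheme, N → S a smooth
separated morphism of finite type and g : S' → S a flat surjective morphism, and put U' = g⁻¹(U).
Suppose the base change N ×_S S' → S' has the Néron mapping property with respect to U': for every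
smooth S'-scheme Y', sending an S'-morphism Y' → N ×_S S' to its restriction over U' is a bijection
onto the U'-morphisms Y' ×_{S'} U' → (N ×_S S') ×_{S'} U'. Then N → S has the Néron mapping property
with respect to U: for every smooth S-scheme Y, restriction to U is a bijection from S-morphisms Y →
N onto U-morphisms Y ×_S U → N ×_S U. (The published statement is for an arbitrary base S and open
U, with N an algebraic space which is a model of an abelian scheme over U, tested against smooth
schemes; this row takes N a scheme, drops the abelian-scheme hypothesis, and assumes S locally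
Noetherian with U schematically dense, the setting in which schematic closures of U-sections commute
with flat base change and fill S'.) -/
theorem result
    {S S' : Scheme.{u}} [IsLocallyNoetherian S] (g : S' ⟶ S) [Flat g] [Surjective g]
    (U : S.Opens) (hU : CInt.IsSchematicallyDense U)
    (N : Over S) [Smooth N.hom] [IsSeparated N.hom] [QuasiCompact N.hom]
    (hN' : ∀ Y' : Over S', Smooth Y'.hom →
      Function.Bijective (fun f : Y' ⟶ (Over.pullback g).obj N => (Over.pullback (g ⁻¹ᵁ U).ι).map f))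
    (Y : Over S) [Smooth Y.hom] :
    Function.Bijective (fun f : Y ⟶ N => (Over.pullback U.ι).map f) := by
  rw [Groth.Agent.Lib.SchDense.Factor.bijective_pullback_map_iff]
  have : IsLocallyNoetherian Y.left := LocallyOfFiniteType.isLocallyNoetherian Y.hom
  refine ⟨fun f₁ f₂ h => ?_, fun k hk => ?_⟩
  · apply Over.OverMorphism.ext
    rw [← cancel_epi Y.left.topIso.hom]
    refine Groth.Agent.Lib.NeronDescent.eq_of_preimage Y.hom N.hom hU _ _
      (by rw [Category.assoc, Category.assoc]; erw [Over.w f₁, Over.w f₂]) ?_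
    have e : ((⊤ : Y.left.Opens).ι ⁻¹ᵁ (Y.hom ⁻¹ᵁ U)).ι ≫ Y.left.topIso.hom =
        (⊤ : Y.left.Opens).ι.resLE (Y.hom ⁻¹ᵁ U) _ le_rfl ≫ (Y.hom ⁻¹ᵁ U).ι := by
      rw [Scheme.Hom.resLE_comp_ι]
      rfl
    rw [reassoc_of% e, reassoc_of% e, h]
  · let Y' : Over S' := (Over.pullback g).obj Y
    have hY' : Smooth Y'.hom := inferInstanceAs (Smooth (pullback.snd Y.hom g))
    have : Flat (pullback.fst Y.hom g) := inferInstance
    have : Surjective (pullback.fst Y.hom g) :=
      MorphismProperty.pullback_fst _ _ inferInstance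
    obtain ⟨-, hext⟩ := (Groth.Agent.Lib.SchDense.Factor.bijective_pullback_map_iff
      (g ⁻¹ᵁ U) Y' ((Over.pullback g).obj N)).mp (hN' Y' hY')
    have hw : pullback.snd Y.hom g ≫ g = pullback.fst Y.hom g ≫ Y.hom := pullback.condition.symm
    have heq : pullback.fst Y.hom g ⁻¹ᵁ (Y.hom ⁻¹ᵁ U) = pullback.snd Y.hom g ⁻¹ᵁ (g ⁻¹ᵁ U) := by
      rw [← Scheme.Hom.comp_preimage, ← Scheme.Hom.comp_preimage, hw]
    let r : (Y'.hom ⁻¹ᵁ (g ⁻¹ᵁ U)).toScheme ⟶ (Y.hom ⁻¹ᵁ U).toScheme :=
      (pullback.fst Y.hom g).resLE _ _ heq.ge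
    obtain ⟨f', hf'⟩ := hext (pullback.lift (r ≫ k)
      ((Y'.hom ⁻¹ᵁ (g ⁻¹ᵁ U)).ι ≫ pullback.snd Y.hom g) (by
        rw [Category.assoc, hk, Scheme.Hom.resLE_comp_ι_assoc, ← hw, Category.assoc]))
      (pullback.lift_snd _ _ _)
    obtain ⟨f, hf, hfk⟩ := Groth.Agent.Lib.NeronDescent.exists_descent Y.hom N.hom
      (pullback.fst Y.hom g) hU k hk (f'.left ≫ pullback.fst N.hom g) (by
        rw [Category.assoc, pullback.condition, ← hw, ← Category.assoc]
        exact congrArg (· ≫ g) (Over.w f')) (by
        let i : (pullback.fst Y.hom g ⁻¹ᵁ (Y.hom ⁻¹ᵁ U)).toScheme ⟶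
            (Y'.hom ⁻¹ᵁ (g ⁻¹ᵁ U)).toScheme := (pullback Y.hom g).homOfLE heq.le
        have e1 : (pullback.fst Y.hom g ⁻¹ᵁ (Y.hom ⁻¹ᵁ U)).ι =
            i ≫ (Y'.hom ⁻¹ᵁ (g ⁻¹ᵁ U)).ι := (Scheme.homOfLE_ι _ _).symm
        have e2 : i ≫ r = pullback.fst Y.hom g ∣_ (Y.hom ⁻¹ᵁ U) := by
          rw [← cancel_mono (Y.hom ⁻¹ᵁ U).ι, morphismRestrict_ι, e1, Category.assoc,
            Scheme.Hom.resLE_comp_ι]
          rfl
        rw [e1, Category.assoc, ← Category.assoc _ f'.left, hf', pullback.lift_fst,
          ← Category.assoc i r k, e2])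
    exact ⟨Over.homMk f hf, hfk⟩

end Groth.Agent.S13749
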