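import Groth.Statements.S13751
import Groth.Agent.H4.RegExt.Scheme
import Groth.Agent.H4.RegExt.GroupNoRat
import Groth.Agent.S4991
-- import your own Groth.Agent.* helpers here

set_option autoImplicit false
universe u
open CategoryTheory CategoryTheory.Limits AlgebraicGeometry MonObj
open Neron

namespace Groth.Agent.S13751

/-- Let S be a locally Noetherian scheme all of whose local rings are regular, let U ⊆ S be a dense open
subscheme and let A → S be an abelian scheme: a proper smooth group scheme over S whose geometric
fibres are connected. Then A is a Néron model of its restriction A ×_S U over S, in the sense that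
for every smooth S-scheme Y the restriction map from S-morphisms Y → A to U-morphisms Y ×_S U → A
×_S U is a bijection. (The published statement is for an abelian algebraic space over a regular base
and does not ask U to be dense; for U empty and A of positive relative dimension the identity and
the zero map of A both restrict to the empty morphism, so uniqueness fails, and the published
uniqueness argument uses density — this row takes A a scheme and U dense.) -/
theorem result
    {S : Scheme.{u}} [IsLocallyNoetherian S] (hreg : ∀ s : S, IsRegularLocalRing (S.presheaf.stalk s))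
    (U : S.Opens) (hU : Dense (U : Set S))
    (A : Over S) [GrpObj A] [IsProper A.hom] [Smooth A.hom]
    (hconn : ∀ (L : Type u) [Field L] (t : Spec (CommRingCat.of L) ⟶ S), ConnectedSpace ↑(pullback A.hom t))
    (Y : Over S) [Smooth Y.hom] :
    Function.Bijective (fun f : Y ⟶ A => (Over.pullback U.ι).map f) := by
  haveI : IsLocallyNoetherian Y.left := LocallyOfFiniteType.isLocallyNoetherian Y.hom
  have hY : ∀ y : Y.left, IsRegularLocalRing (Y.left.presheaf.stalk y) := fun y =>
    (Groth.Agent.S4991.result Y.hom y ⟨⊤, trivial, inferInstance⟩).mpr (hreg _)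
  let V : Y.left.Opens := Y.hom ⁻¹ᵁ U
  have hV : Dense (V : Set Y.left) := hU.preimage Y.hom.isOpenMap
  let e : (V : Scheme.{u}) ≅ Limits.pullback Y.hom U.ι := (pullbackRestrictIsoRestrict Y.hom U).symm
  have he : e.hom ≫ Limits.pullback.fst Y.hom U.ι = V.ι := by
    show (pullbackRestrictIsoRestrict Y.hom U).inv ≫ _ = _
    rw [pullbackRestrictIsoRestrict_inv_fst]
  haveI : IsReduced Y.left :=
    haveI : ∀ y : Y.left, _root_.IsReduced (Y.left.presheaf.stalk y) := fun y =>
      haveI := hY y
      haveI := Groth.Agent.Lib.Regular.Quotient.isDomain (Y.left.presheaf.stalk y)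
      inferInstance
    isReduced_of_isReduced_stalk Y.left
  refine ⟨fun f f' h => ?_, fun h => ?_⟩
  · obtain ⟨g, -, huniq⟩ := Groth.Agent.H4.RegExt.existsUnique_extension A.hom
      (Groth.Agent.H4.RegExt.noRat_of_grpObj A) hY Y.hom V hV (V.ι ≫ f.left)
      (by rw [Category.assoc, Over.w f])
    refine Over.OverMorphism.ext ((huniq f.left ⟨Over.w f, rfl⟩).trans (huniq f'.left ⟨Over.w f', ?_⟩).symm)
    have h1 := congrArg (fun x => e.hom ≫ x.left ≫ Limits.pullback.fst A.hom U.ι) h
    simp only [Over.pullback, Over.homMk_left, Limits.pullback.lift_fst, reassoc_of% he] at h1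
    exact h1.symm
  · have hs : (e.hom ≫ h.left ≫ Limits.pullback.fst A.hom U.ι) ≫ A.hom = V.ι ≫ Y.hom := by
      rw [← he]
      simp only [Category.assoc, Limits.pullback.condition]
      congr 1
      exact (Category.assoc _ _ _).symm.trans (congrArg (· ≫ U.ι) (Over.w h))
    obtain ⟨g, ⟨hg1, hg2⟩, -⟩ := Groth.Agent.H4.RegExt.existsUnique_extension A.hom
      (Groth.Agent.H4.RegExt.noRat_of_grpObj A) hY Y.hom V hV _ hs
    refine ⟨Over.homMk g hg1, Over.OverMorphism.ext (Limits.pullback.hom_ext ?_ ?_)⟩
    · rw [← cancel_epi e.hom, ← hg2, ← he]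
      simp [Over.pullback]
      exact Limits.pullback.lift_fst _ _ _
    · exact (Over.w ((Over.pullback U.ι).map (Over.homMk g hg1 : Y ⟶ A))).trans (Over.w h).symm

end Groth.Agent.S13751
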