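import Groth.Statements.S13757

import Groth.Agent.Lib.LabGraph.Circuits
import Mathlib.Algebra.Order.BigOperators.Group.Finset

set_option autoImplicit false
universe u
open LabGraph

namespace Groth.Agent.S13757

/-- Let G be a finite connected multigraph (loops and multiple edges allowed) with vertex set V, edge
set E, endpoint map E → V × V and a labelling of the edges by positive integers l. A vertex
labelling φ : V → ℤ is Cartier when l(e) divides the difference of the values of φ at the two
endpoints of every edge e; its multidegree is the vertex labelling whose value at v is the sum, over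
the edge-ends at v, of (value of φ at the other endpoint − φ(v)) / l(e). Then the Cartier vertex
labellings of multidegree zero are exactly the constant ones: the kernel of the multidegree operator
on Cartier labellings is ℤ, embedded as the constants. -/
theorem result
    {V E : Type u} [Fintype V] [Fintype E] [DecidableEq V] [DecidableEq E]
    (ends : E → V × V) (l : E → ℕ) (hl : ∀ e, 0 < l e) (hconn : LabGraph.Connected ends)
    (φ : V → ℤ) (hφ : LabGraph.IsCartier ends l φ) :
    (∀ v : V, LabGraph.mdeg ends l φ v = 0) ↔ ∀ v w : V, φ v = φ w := by
  constructor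
  · intro h
    have h0 : ∑ e : E, (φ (ends e).2 - φ (ends e).1) * ((φ (ends e).2 - φ (ends e).1) / (l e : ℤ)) = 0 := by
      have h1 : ∑ v, φ v * LabGraph.mdeg ends l φ v = 0 := by simp [h]
      simp only [LabGraph.mdeg, Finset.mul_sum] at h1
      rw [Finset.sum_comm] at h1
      simp only [mul_add, mul_ite, mul_zero, Finset.sum_add_distrib, Finset.sum_ite_eq,
        Finset.mem_univ, if_true] at h1
      rw [← neg_inj, neg_zero, ← Finset.sum_neg_distrib, ← h1, ← Finset.sum_add_distrib]
      refine Finset.sum_congr rfl fun e _ => ?_
      have hneg : (φ (ends e).1 - φ (ends e).2) / (l e : ℤ) = -((φ (ends e).2 - φ (ends e).1) / (l e : ℤ)) := by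
        rw [← Int.neg_ediv_of_dvd (dvd_sub_comm.1 (hφ e)), neg_sub]
      rw [hneg]
      ring
    have hz : ∀ e, φ (ends e).1 = φ (ends e).2 := by
      intro e
      have hnn : ∀ e', 0 ≤ (φ (ends e').2 - φ (ends e').1) * ((φ (ends e').2 - φ (ends e').1) / (l e' : ℤ)) := by
        intro e'
        obtain ⟨q, hq⟩ := dvd_sub_comm.1 (hφ e')
        rw [hq, Int.mul_ediv_cancel_left _ (by exact_mod_cast (hl e').ne'), mul_assoc]
        exact mul_nonneg (Int.natCast_nonneg _) (mul_self_nonneg q)
      have := (Finset.sum_eq_zero_iff_of_nonneg fun e' _ => hnn e').1 h0 e (Finset.mem_univ e)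
      obtain ⟨q, hq⟩ := dvd_sub_comm.1 (hφ e)
      rw [hq, Int.mul_ediv_cancel_left _ (by exact_mod_cast (hl e).ne')] at this
      have hq0 : q = 0 := by
        rcases mul_eq_zero.1 this with h' | h'
        · exact (mul_eq_zero.1 h').resolve_left (by exact_mod_cast (hl e).ne')
        · exact h'
      rw [hq0, mul_zero, sub_eq_zero] at hq
      exact hq.symm
    intro v w
    have := Lib.LabGraph.Circuits.reachable_univ ends hconn v w
    induction this with
    | refl => rfl
    | tail _ hab ih =>
      obtain ⟨e, -, he⟩ := hab
      have := hz e
      rcases he with he | he <;> rw [he] at this <;> dsimp only at this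
      · exact ih.trans this
      · exact ih.trans this.symm
  · intro h v
    refine Finset.sum_eq_zero fun e _ => ?_
    rw [h (ends e).2 (ends e).1]
    simp


end Groth.Agent.S13757
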