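import Groth.Statements.S13758

import Groth.Agent.Lib.LabGraph.Circuits
import Mathlib.Algebra.GCDMonoid.Finset
import Mathlib.Algebra.GCDMonoid.Nat

import Mathlib.Algebra.BigOperators.Associated
set_option autoImplicit false
universe u
open LabGraph

namespace Groth.Agent.S13758

/-- Let G be a finite connected multigraph with vertex set V, edge set E, endpoint map E → V × V (whose
component order fixes an orientation) and positive integer edge labels l. Then the labels along
every circuit of G have greatest common divisor 1 (G is circuit-coprime) if and only if, for every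
integer edge vector x, there is an integer edge vector y such that x − l·y is orthogonal to every
integer cycle: Σ_e γ(e) (x(e) − l(e) y(e)) = 0 for all γ : E → ℤ with zero boundary. (The published
statement says that the r nonzero diagonal entries of the Smith normal form of the labelled circuit
matrix, r the first Betti number, are all equal to 1; since the fundamental circuits of a spanning
tree form a basis of the lattice of integer cycles, this is the surjectivity of x ↦ (γ ↦ Σ_e γ(e)
l(e) x(e)) from ℤ^E onto the dual of the cycle lattice, which is the condition stated here.) -/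
theorem result
    {V E : Type u} [Fintype V] [Fintype E] [DecidableEq V] [DecidableEq E]
    (ends : E → V × V) (l : E → ℕ) (hl : ∀ e, 0 < l e) (hconn : LabGraph.Connected ends) :
    LabGraph.IsCircuitCoprime ends l ↔
      ∀ x : E → ℤ, ∃ y : E → ℤ, ∀ γ : E → ℤ, (∀ v : V, LabGraph.boundary ends γ v = 0) →
        ∑ e : E, γ e * (x e - (l e : ℤ) * y e) = 0 := by
  classical
  constructor
  · intro hcop x
    let Sol : (E → ℤ) → Prop := fun x => ∃ y : E → ℤ, ∀ γ : E → ℤ,
      (∀ v : V, LabGraph.boundary ends γ v = 0) → ∑ e : E, γ e * (x e - (l e : ℤ) * y e) = 0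
    let I : Ideal ℤ :=
      { carrier := {c | Sol (c • x)}
        zero_mem' := ⟨0, by simp⟩
        add_mem' := fun {a b} ⟨y, hy⟩ ⟨z, hz⟩ => ⟨y + z, fun γ hγ => by
          have := congrArg₂ (· + ·) (hy γ hγ) (hz γ hγ)
          simp only [← Finset.sum_add_distrib, add_zero] at this
          rw [← this]
          refine Finset.sum_congr rfl fun e _ => ?_
          simp only [Pi.smul_apply, Pi.add_apply, smul_eq_mul]
          ring⟩
        smul_mem' := fun c a ⟨y, hy⟩ => ⟨c • y, fun γ hγ => by
          have := congrArg (c * ·) (hy γ hγ)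
          simp only [Finset.mul_sum, mul_zero] at this
          rw [← this]
          refine Finset.sum_congr rfl fun e _ => ?_
          simp only [Pi.smul_apply, smul_eq_mul]
          ring⟩ }
    suffices (1 : ℤ) ∈ I by simpa [I, Sol] using this
    refine Lib.LabGraph.Circuits.mem_of_local I fun p hp => ?_
    let D : Finset E := Finset.univ.filter fun e => p ∣ l e
    obtain ⟨ψ, hψ⟩ := Lib.LabGraph.Circuits.exists_potential ends D x fun C hC hCD => absurd
      (Finset.dvd_gcd (s := C) (f := l) fun e he => (Finset.mem_filter.1 (hCD he)).2)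
      (by rw [hcop C hC]; exact hp.not_dvd_one)
    let L : ℕ := ∏ e ∈ Dᶜ, l e
    refine ⟨(L : ℤ), ⟨fun e => if e ∈ D then 0 else
      ((L : ℤ) * (x e - (ψ (ends e).2 - ψ (ends e).1))) / (l e : ℤ), fun γ hγ => ?_⟩, ?_⟩
    · refine (Finset.sum_congr rfl fun e _ => ?_).trans
        (Lib.LabGraph.Circuits.sum_mul_grad ends hγ (fun v => (L : ℤ) * ψ v))
      simp only [Pi.smul_apply, smul_eq_mul]
      split_ifs with he
      · rw [mul_zero, sub_zero, ← hψ e he]
        ring
      · rw [Int.mul_ediv_cancel']
        · ring
        · exact Dvd.dvd.mul_right (Int.natCast_dvd_natCast.2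
            (Finset.dvd_prod_of_mem _ (Finset.mem_compl.2 he))) _
    · rw [Int.natCast_dvd_natCast, hp.prime.dvd_finsetProd_iff]
      rintro ⟨e, he, he'⟩
      simp [D, he'] at he
  · intro h C hC
    obtain ⟨e₀, he₀⟩ := hC.1
    obtain ⟨γ, hγ0, hγ⟩ := Lib.LabGraph.Circuits.exists_flow ends
      (Lib.LabGraph.Circuits.reachable_erase ends hC he₀)
    let γ' : E → ℤ := fun e => γ e - if e = e₀ then 1 else 0
    have hγ' : ∀ v, LabGraph.boundary ends γ' v = 0 := by
      intro v
      have h2 : LabGraph.boundary ends γ' v = LabGraph.boundary ends γ v -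
          ∑ e, (if e = e₀ then ((if (ends e).2 = v then (1 : ℤ) else 0) - (if (ends e).1 = v then 1 else 0)) else 0) := by
        simp only [LabGraph.boundary, γ', ← Finset.sum_sub_distrib]
        refine Finset.sum_congr rfl fun e _ => ?_
        split_ifs <;> ring
      rw [h2, hγ, Finset.sum_ite_eq' Finset.univ e₀, if_pos (Finset.mem_univ _), sub_self]
    obtain ⟨y, hy⟩ := h (fun e => if e = e₀ then 1 else 0)
    have := hy γ' hγ'
    simp only [mul_sub, Finset.sum_sub_distrib, mul_ite, mul_one, mul_zero, Finset.sum_ite_eq',
      Finset.mem_univ, if_true] at this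
    have he₀0 : γ e₀ = 0 := hγ0 e₀ (Finset.notMem_erase e₀ C)
    have h1 : γ' e₀ = -1 := by simp [γ', he₀0]
    rw [h1] at this
    have hd : ((C.gcd l : ℕ) : ℤ) ∣ ∑ e, γ' e * ((l e : ℤ) * y e) := by
      refine Finset.dvd_sum fun e _ => ?_
      by_cases he : e ∈ C
      · exact (Int.natCast_dvd_natCast.2 (Finset.gcd_dvd he)).mul_right (y e) |>.mul_left (γ' e)
      · have h0 : γ' e = 0 := by
          have hne : e ≠ e₀ := fun h => he (h ▸ he₀)
          simp [γ', hne, hγ0 e (fun h => he (Finset.mem_of_mem_erase h))]
        rw [h0, zero_mul]; exact dvd_zero _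
    rw [show ∑ e, γ' e * ((l e : ℤ) * y e) = -1 by linarith, dvd_neg] at hd
    exact Nat.dvd_one.1 (Int.natCast_dvd_natCast.1 (by simpa using hd))


end Groth.Agent.S13758
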