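import Groth.Statements.S13759

import Groth.Agent.Lib.LabGraph.Circuits
import Mathlib.Tactic.Ring
import Mathlib.Algebra.BigOperators.Fin

set_option autoImplicit false
universe u
open LabGraph

namespace Groth.Agent.S13759

/-- Let G be a finite connected multigraph with vertex set V, edge set E, endpoint map E → V × V and
positive integer edge labels l, and let G̃ be its total blow-up graph: every edge e is replaced by a
path of l(e) edges through l(e) − 1 new vertices, all new edges labelled 1 (so every vertex
labelling of G̃ is Cartier and its multidegree is the sum over edge-ends of the differences of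
values). Let H, resp. H̃, be the cokernel of the multidegree operator from Cartier vertex labellings
of G to ℤ^V, resp. of G̃ to ℤ^Ṽ, and ε : H → H̃ the map induced by extending vertex labellings of G
by zero on the new vertices. Then ε is injective: if a vertex labelling α of G, extended by zero, is
the multidegree of some vertex labelling of G̃, then α is the multidegree of some Cartier vertex
labelling of G. -/
theorem result
    {V E : Type u} [Fintype V] [Fintype E] [DecidableEq V] [DecidableEq E]
    (ends : E → V × V) (l : E → ℕ) (hl : ∀ e, 0 < l e) (hconn : LabGraph.Connected ends)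
    (α : V → ℤ) (ψ : LabGraph.BlVert V E l → ℤ)
    (hψ : ∀ w : LabGraph.BlVert V E l,
      LabGraph.mdeg (LabGraph.blEnds ends l) (fun _ => 1) ψ w = Sum.elim α (fun _ => (0 : ℤ)) w) :
    ∃ φ : V → ℤ, LabGraph.IsCartier ends l φ ∧ ∀ v : V, LabGraph.mdeg ends l φ v = α v := by
  classical
  let pv := LabGraph.pathVert ends l
  let D : E → ℕ → ℤ := fun e j => ψ (pv e (j + 1)) - ψ (pv e j)
  have hm : ∀ w, ∑ e : E, ∑ k : Fin (l e),
      ((if pv e k.val = w then D e k.val else 0) - (if pv e (k.val + 1) = w then D e k.val else 0)) =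
      Sum.elim α (fun _ => (0 : ℤ)) w := by
    intro w
    rw [← hψ w, LabGraph.mdeg, Fintype.sum_sigma]
    refine Finset.sum_congr rfl fun e _ => Finset.sum_congr rfl fun k _ => ?_
    simp only [LabGraph.blEnds, pv, D, Nat.cast_one, Int.ediv_one]
    split_ifs <;> simp_all <;> ring
  have hpv : ∀ e j, j ≤ l e → ∀ e' (i : Fin (l e' - 1)),
      pv e j = Sum.inr ⟨e', i⟩ ↔ e = e' ∧ j = i.val + 1 := by
    intro e j hj e' i
    have hi := i.isLt
    simp only [pv, LabGraph.pathVert]
    split_ifs with h0 hlt
    · simp; omega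
    · constructor
      · intro h
        simp only [Sum.inr.injEq, Sigma.mk.injEq] at h
        obtain ⟨rfl, h⟩ := h
        have := congrArg Fin.val (eq_of_heq h)
        simp only at this
        exact ⟨rfl, by omega⟩
      · rintro ⟨rfl, rfl⟩
        simp
    · simp only [reduceCtorEq, false_iff, not_and]
      rintro rfl; omega
  have hlin : ∀ e i, i + 1 < l e → D e (i + 1) = D e i := by
    intro e i hi
    have h := hm (Sum.inr ⟨e, ⟨i, by omega⟩⟩)
    simp only [Sum.elim_inr] at h
    rw [Finset.sum_eq_single e (fun e' _ hne => Finset.sum_eq_zero fun k _ => by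
      rw [if_neg, if_neg, sub_zero]
      · exact fun h' => hne ((hpv e' _ k.isLt _ _).1 h').1
      · exact fun h' => hne ((hpv e' _ k.isLt.le _ _).1 h').1)
      (fun h' => absurd (Finset.mem_univ e) h'), Finset.sum_sub_distrib,
      Finset.sum_eq_single (⟨i + 1, hi⟩ : Fin (l e)) (fun k _ hne => if_neg fun h' => hne (Fin.ext
        ((hpv e _ k.isLt.le _ _).1 h').2)) (fun h' => absurd (Finset.mem_univ _) h'),
      Finset.sum_eq_single (⟨i, by omega⟩ : Fin (l e)) (fun k _ hne => if_neg fun h' => hne (Fin.ext
        (by have := ((hpv e _ k.isLt _ _).1 h').2; simpa using this))) (fun h' => absurd (Finset.mem_univ _) h'),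
      if_pos ((hpv e _ hi.le _ _).2 ⟨rfl, rfl⟩), if_pos ((hpv e _ hi.le _ _).2 ⟨rfl, rfl⟩)] at h
    exact sub_eq_zero.1 h
  have hD : ∀ e j, j < l e → D e j = D e 0 := by
    intro e j hj
    induction j with
    | zero => rfl
    | succ j ih => rw [hlin e j hj, ih (by omega)]
  have hψe : ∀ e, ψ (Sum.inl (ends e).2) - ψ (Sum.inl (ends e).1) = (l e : ℤ) * D e 0 := by
    intro e
    have h1 : ∀ j ≤ l e, ψ (pv e j) - ψ (pv e 0) = (j : ℤ) * D e 0 := by
      intro j hj
      induction j with
      | zero => simp
      | succ j ih =>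
        have h2 := hD e j (by omega)
        have := ih (by omega)
        simp only [D] at h2 this ⊢
        push_cast
        linarith
    have h2 := h1 (l e) le_rfl
    have := hl e
    simpa [pv, LabGraph.pathVert, this.ne'] using h2
  refine ⟨fun v => ψ (Sum.inl v), fun e => dvd_sub_comm.1 ⟨_, hψe e⟩, fun v => ?_⟩
  have h := hm (Sum.inl v)
  simp only [Sum.elim_inl] at h
  rw [← h, LabGraph.mdeg]
  refine Finset.sum_congr rfl fun e _ => ?_
  have hle := hl e
  have hne : (l e : ℤ) ≠ 0 := by exact_mod_cast hle.ne'
  have hfirst : ∀ k : Fin (l e), pv e k.val = Sum.inl v ↔ k.val = 0 ∧ (ends e).1 = v := by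
    intro k
    have := k.isLt
    simp only [pv, LabGraph.pathVert]
    split_ifs <;> simp_all
  have hlast : ∀ k : Fin (l e), pv e (k.val + 1) = Sum.inl v ↔ k.val + 1 = l e ∧ (ends e).2 = v := by
    intro k
    have := k.isLt
    show LabGraph.pathVert ends l e (k.val + 1) = Sum.inl v ↔ _
    rw [LabGraph.pathVert, dif_neg (by omega)]
    split_ifs with h2
    · simp only [reduceCtorEq, false_iff, not_and]
      intro h; omega
    · simp only [Sum.inl.injEq]
      exact ⟨fun h => ⟨by omega, h⟩, fun h => h.2⟩
  rw [Finset.sum_sub_distrib,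
    Finset.sum_eq_single (⟨0, hle⟩ : Fin (l e)) (fun k _ hne' => if_neg fun h' => hne' (Fin.ext ((hfirst k).1 h').1))
      (fun h' => absurd (Finset.mem_univ _) h'),
    Finset.sum_eq_single (⟨l e - 1, by omega⟩ : Fin (l e)) (fun k _ hne' => if_neg fun h' => hne' (Fin.ext
      (by have := ((hlast k).1 h').1; simp; omega))) (fun h' => absurd (Finset.mem_univ _) h')]
  have f0 := hfirst ⟨0, hle⟩
  have f1 := hlast ⟨l e - 1, by omega⟩
  have he1 : l e - 1 + 1 = l e := by omega
  simp only [he1, true_and] at f0 f1
  simp only [f0, f1, he1, hD e (l e - 1) (by omega)]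
  rw [hψe e, Int.mul_ediv_cancel_left _ hne,
    show ψ (Sum.inl (ends e).1) - ψ (Sum.inl (ends e).2) = (l e : ℤ) * (-(D e 0)) by
      rw [mul_neg, ← hψe e, neg_sub], Int.mul_ediv_cancel_left _ hne]
  split_ifs <;> ring


end Groth.Agent.S13759
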