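import Groth.Statements.S1376
import Groth.Agent.S0385

set_option autoImplicit false
universe u
open FlatMor

namespace Groth.Agent.S1376

open AlgebraicGeometry CategoryTheory Limits in
set_option backward.isDefEq.respectTransparency.types false in
/-- Let S be quasi-compact and quasi-separated, U a quasi-compact open of S and V → U a surjective
finite morphism. Then there is a surjective finite morphism V' → S whose base change to U is V (V is
the fibre product of V' and U over S). -/
theorem result {S V : Scheme.{u}} [CompactSpace ↑S] [QuasiSeparatedSpace ↑S] (U : S.Opens) (hU : IsCompact (U : Set ↑S))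
    (v : V ⟶ (U : Scheme.{u})) [IsFinite v] [Surjective v] :
    ∃ (V' : Scheme.{u}) (π : V' ⟶ S) (i : V ⟶ V'), Surjective π ∧ IsFinite π ∧ IsPullback i v π U.ι := by
  have : CompactSpace (U : Scheme.{u}) := isCompact_iff_compactSpace.mp hU
  have : CompactSpace V := QuasiCompact.compactSpace_of_compactSpace v
  have : QuasiCompact U.ι := inferInstance
  obtain ⟨T, j, π₀, hj, hjq, hπ₀, hjπ⟩ := Groth.Agent.S0385.result (v ≫ U.ι)
  let j' := j.toImage
  let π' := j.imageι ≫ π₀
  have hj'π : j' ≫ π' = v ≫ U.ι := by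
    show j.toImage ≫ j.imageι ≫ π₀ = _
    rw [Scheme.Hom.toImage_imageι_assoc, hjπ]
  -- the image is closed over `U`
  let k := IsOpenImmersion.lift (π' ⁻¹ᵁ U).ι j' (by
    rw [Scheme.Opens.range_ι]
    rintro _ ⟨x, rfl⟩
    show (j' ≫ π') x ∈ U
    rw [hj'π]
    exact (v x).2)
  have hk : k ≫ (π' ⁻¹ᵁ U).ι = j' := IsOpenImmersion.lift_fac _ _ _
  have hkv : k ≫ (π' ∣_ U) = v := by
    rw [← cancel_mono U.ι, Category.assoc, morphismRestrict_ι, reassoc_of% hk, hj'π]
  have : IsFinite (π' ∣_ U) := IsZariskiLocalAtTarget.restrict (inferInstance : IsFinite π') U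
  have : IsFinite k := by
    have : IsFinite (k ≫ (π' ∣_ U)) := by rw [hkv]; infer_instance
    exact IsFinite.of_comp k (π' ∣_ U)
  have hrange : π' ⁻¹ᵁ U = j'.opensRange := by
    refine le_antisymm (fun x hx => ?_) ?_
    · have hd : IsDominant j' := inferInstanceAs (IsDominant j.toImage)
      have hcl := k.isClosedMap.isClosed_range
      have : (⟨x, hx⟩ : (π' ⁻¹ᵁ U : Scheme.{u})) ∈ closure (Set.range k) := by
        rw [(π' ⁻¹ᵁ U).ι.isOpenEmbedding.isInducing.closure_eq_preimage_closure_image]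
        show (π' ⁻¹ᵁ U).ι ⟨x, hx⟩ ∈ closure ((π' ⁻¹ᵁ U).ι '' Set.range k)
        rw [← Set.range_comp]
        have e : ((π' ⁻¹ᵁ U).ι ∘ k : V → _) = j' := funext fun z => congr($hk z)
        rw [e, hd.denseRange.closure_range]
        trivial
      rw [hcl.closure_eq] at this
      obtain ⟨z, hz⟩ := this
      exact ⟨z, by rw [← hk]; exact congrArg (π' ⁻¹ᵁ U).ι hz⟩
    · rintro _ ⟨z, rfl⟩
      show (j' ≫ π') z ∈ U
      rw [hj'π]
      exact (v z).2
  -- add the complement of `U`
  let Z := Scheme.IdealSheafData.vanishingIdeal ⟨(U : Set S)ᶜ, U.2.isClosed_compl⟩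
  have hZ : Set.range Z.subschemeι = (U : Set S)ᶜ := by
    rw [Scheme.IdealSheafData.range_subschemeι]
    simp [Z]
  let π := coprod.desc π' Z.subschemeι
  have hπ : IsFinite π := inferInstance
  refine ⟨_, π, j' ≫ coprod.inl, ⟨fun s => ?_⟩, hπ, ?_⟩
  · by_cases hs : s ∈ U
    · obtain ⟨x, hx⟩ := v.surjective ⟨s, hs⟩
      refine ⟨(j' ≫ coprod.inl : V ⟶ _ ⨿ Z.subscheme) x, ?_⟩
      rw [← Scheme.Hom.comp_apply, Category.assoc, coprod.inl_desc, hj'π, Scheme.Hom.comp_apply, hx]
      rfl
    · obtain ⟨z, rfl⟩ := hZ.ge (show s ∈ (U : Set S)ᶜ from hs)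
      refine ⟨(coprod.inr : _ ⟶ j.image ⨿ Z.subscheme) z, ?_⟩
      rw [← Scheme.Hom.comp_apply, coprod.inr_desc]
  · refine (IsOpenImmersion.isPullback v (j' ≫ coprod.inl) U.ι π ?_ ?_).flip
    · rw [Category.assoc, coprod.inl_desc, hj'π]
    · rw [Scheme.Opens.opensRange_ι]
      ext x
      constructor
      · intro hx
        obtain ⟨(a | b), rfl⟩ := (coprodMk _ _).surjective x
        · rw [coprodMk_inl] at hx ⊢
          have ha : a ∈ π' ⁻¹ᵁ U := by
            show π' a ∈ U
            rw [← coprod.inl_desc (f := π') (g := Z.subschemeι)]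
            exact hx
          rw [hrange] at ha
          obtain ⟨z, rfl⟩ := ha
          exact ⟨z, rfl⟩
        · rw [coprodMk_inr] at hx
          have hb : Z.subschemeι b ∈ U := by
            rw [← coprod.inr_desc (f := π') (g := Z.subschemeι)]
            exact hx
          exact absurd hb (hZ.le ⟨b, rfl⟩)
      · rintro ⟨z, rfl⟩
        show π ((j' ≫ coprod.inl : V ⟶ _ ⨿ Z.subscheme) z) ∈ U
        rw [← Scheme.Hom.comp_apply, Category.assoc, coprod.inl_desc, hj'π]
        exact (v z).2

end Groth.Agent.S1376
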