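import Groth.Statements.S13760
import Groth.Agent.S13758
import Groth.Agent.Lib.LabGraph.Circuits
import Mathlib.Algebra.BigOperators.Fin

set_option autoImplicit false
universe u
open LabGraph

namespace Groth.Agent.S13760

/-- Let G be a finite connected multigraph with vertex set V, edge set E, endpoint map E → V × V and
positive integer edge labels l, let G̃ be its total blow-up graph (every edge e replaced by a path
of l(e) edges through l(e) − 1 new vertices, all labelled 1), and let ε : H → H̃ be the map from the
cokernel of the multidegree operator on Cartier vertex labellings of G to the cokernel of the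
multidegree operator on vertex labellings of G̃ induced by extension by zero. Then ε is surjective —
every vertex labelling β of G̃ can be corrected by the multidegree of a vertex labelling of G̃ so as
to vanish at all new vertices — if and only if G is circuit-coprime (the labels along every circuit
have greatest common divisor 1). (The published statement is 'ε is an isomorphism if and only if the
labelled graph is circuit-coprime'; injectivity of ε holds for every labelled graph, so the content
is the equivalence for surjectivity, stated here with the cokernels unpacked.) -/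
theorem result
    {V E : Type u} [Fintype V] [Fintype E] [DecidableEq V] [DecidableEq E]
    (ends : E → V × V) (l : E → ℕ) (hl : ∀ e, 0 < l e) (hconn : LabGraph.Connected ends) :
    (∀ β : LabGraph.BlVert V E l → ℤ, ∃ (ψ : LabGraph.BlVert V E l → ℤ) (α : V → ℤ),
        ∀ w : LabGraph.BlVert V E l,
          LabGraph.mdeg (LabGraph.blEnds ends l) (fun _ => 1) ψ w + β w = Sum.elim α (fun _ => (0 : ℤ)) w) ↔
      LabGraph.IsCircuitCoprime ends l := by
  classical
  let pv := LabGraph.pathVert ends l
  have hpv : ∀ e j, j ≤ l e → ∀ e' (i : Fin (l e' - 1)),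
      pv e j = Sum.inr ⟨e', i⟩ ↔ e = e' ∧ j = i.val + 1 := by
    intro e j hj e' i
    have hi := i.isLt
    simp only [pv, LabGraph.pathVert]
    split_ifs with h0 hlt
    · simp; omega
    · constructor
      · intro h
        simp only [Sum.inr.injEq, Sigma.mk.injEq] at h
        obtain ⟨rfl, h⟩ := h
        have := congrArg Fin.val (eq_of_heq h)
        simp only at this
        exact ⟨rfl, by omega⟩
      · rintro ⟨rfl, rfl⟩
        simp
    · simp only [reduceCtorEq, false_iff, not_and]
      rintro rfl; omega
  have hmid : ∀ (ψ : LabGraph.BlVert V E l → ℤ) (e : E) (i : ℕ) (hi : i + 1 < l e),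
      LabGraph.mdeg (LabGraph.blEnds ends l) (fun _ => 1) ψ (Sum.inr ⟨e, ⟨i, by omega⟩⟩) =
        (ψ (pv e (i + 2)) - ψ (pv e (i + 1))) - (ψ (pv e (i + 1)) - ψ (pv e i)) := by
    intro ψ e i hi
    have hre : LabGraph.mdeg (LabGraph.blEnds ends l) (fun _ => 1) ψ (Sum.inr ⟨e, ⟨i, by omega⟩⟩) =
        ∑ e' : E, ∑ k : Fin (l e'),
          ((if pv e' k.val = Sum.inr ⟨e, ⟨i, by omega⟩⟩ then ψ (pv e' (k.val + 1)) - ψ (pv e' k.val) else 0) -
            (if pv e' (k.val + 1) = Sum.inr ⟨e, ⟨i, by omega⟩⟩ then ψ (pv e' (k.val + 1)) - ψ (pv e' k.val) else 0)) := by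
      rw [LabGraph.mdeg, Fintype.sum_sigma]
      refine Finset.sum_congr rfl fun e' _ => Finset.sum_congr rfl fun k _ => ?_
      simp only [LabGraph.blEnds, pv, Nat.cast_one, Int.ediv_one]
      split_ifs <;> simp_all
    rw [hre, Finset.sum_eq_single e (fun e' _ hne => Finset.sum_eq_zero fun k _ => by
      rw [if_neg, if_neg, sub_zero]
      · exact fun h' => hne ((hpv e' _ k.isLt _ _).1 h').1
      · exact fun h' => hne ((hpv e' _ k.isLt.le _ _).1 h').1)
      (fun h' => absurd (Finset.mem_univ e) h'), Finset.sum_sub_distrib,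
      Finset.sum_eq_single (⟨i + 1, hi⟩ : Fin (l e)) (fun k _ hne => if_neg fun h' => hne (Fin.ext
        ((hpv e _ k.isLt.le _ _).1 h').2)) (fun h' => absurd (Finset.mem_univ _) h'),
      Finset.sum_eq_single (⟨i, by omega⟩ : Fin (l e)) (fun k _ hne => if_neg fun h' => hne (Fin.ext
        (by have := ((hpv e _ k.isLt _ _).1 h').2; simpa using this))) (fun h' => absurd (Finset.mem_univ _) h'),
      if_pos ((hpv e _ hi.le _ _).2 ⟨rfl, rfl⟩), if_pos ((hpv e _ hi.le _ _).2 ⟨rfl, rfl⟩)]
  have hend : ∀ (ψ : LabGraph.BlVert V E l → ℤ) (e : E), pv e (l e) = Sum.inl (ends e).2 ∧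
      pv e 0 = Sum.inl (ends e).1 := by
    intro ψ e
    have := hl e
    simp [pv, LabGraph.pathVert, this.ne']
  rw [Groth.Agent.S13758.result ends l hl hconn]
  constructor
  · -- surjectivity gives the lifting property
    intro h x
    obtain ⟨ψ, α, hψ⟩ := h (Sum.elim (fun _ => 0) fun q => if q.2.val + 2 = l q.1 then x q.1 else 0)
    let g : V → ℤ := fun v => ψ (Sum.inl v)
    refine ⟨fun e => if l e = 1 then x e + (g (ends e).2 - g (ends e).1) else ψ (pv e 1) - ψ (pv e 0), fun γ hγ => ?_⟩
    rw [← neg_eq_zero, ← Finset.sum_neg_distrib]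
    refine Eq.trans (Finset.sum_congr rfl fun e _ => ?_) (Lib.LabGraph.Circuits.sum_mul_grad ends hγ g)
    rw [← mul_neg]
    congr 1
    by_cases h1 : l e = 1
    · simp only [h1, if_true, Nat.cast_one, one_mul]; ring
    simp only [if_neg h1]
    have hle := hl e
    set d := ψ (pv e 1) - ψ (pv e 0)
    have hstep : ∀ t, t + 1 < l e → ψ (pv e (t + 1)) - ψ (pv e t) = d ∧
        ψ (pv e (t + 2)) - ψ (pv e (t + 1)) = d - if t + 2 = l e then x e else 0 := by
      intro t ht
      have hw := hψ (Sum.inr ⟨e, ⟨t, by omega⟩⟩)
      rw [hmid ψ e t ht] at hw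
      simp only [Sum.elim_inr] at hw
      induction t with
      | zero => exact ⟨rfl, by linarith⟩
      | succ t ih =>
        have hw' := hψ (Sum.inr ⟨e, ⟨t, by omega⟩⟩)
        rw [hmid ψ e t (by omega)] at hw'
        simp only [Sum.elim_inr] at hw'
        obtain ⟨-, h3⟩ := ih (by omega) hw'
        rw [if_neg (show ¬ t + 2 = l e by omega), sub_zero] at h3
        exact ⟨h3, by linarith⟩
    have hlin : ∀ t, t < l e → ψ (pv e t) - ψ (pv e 0) = (t : ℤ) * d := by
      intro t ht
      induction t with
      | zero => simp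
      | succ t ih =>
        have h3 := (hstep t ht).1
        have h4 := ih (by omega)
        push_cast
        linarith
    obtain ⟨m, hm⟩ : ∃ m, l e = m + 2 := ⟨l e - 2, by omega⟩
    have h5 := (hstep m (by omega)).2
    rw [if_pos hm.symm] at h5
    have h6 := hlin (m + 1) (by omega)
    obtain ⟨e2, e1⟩ := hend ψ e
    rw [hm] at e2
    simp only [g, ← e2, ← e1, hm]
    push_cast at h6 ⊢
    linarith
  · -- conversely
    intro h β
    let b : E → ℕ → ℤ := fun e i => if hi : i < l e - 1 then β (Sum.inr ⟨e, ⟨i, hi⟩⟩) else 0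
    obtain ⟨y, hy⟩ := h fun e => ∑ t ∈ Finset.range (l e), ∑ i ∈ Finset.range t, b e i
    let z : E → ℤ := fun e => (l e : ℤ) * y e - ∑ t ∈ Finset.range (l e), ∑ i ∈ Finset.range t, b e i
    have hz : ∀ γ : E → ℤ, (∀ v, LabGraph.boundary ends γ v = 0) → ∑ e, γ e * z e = 0 := by
      intro γ hγ
      have := hy γ hγ
      rw [← neg_eq_zero, ← Finset.sum_neg_distrib] at this
      rw [← this]
      exact Finset.sum_congr rfl fun e _ => by simp only [z]; ring
    obtain ⟨⟨v₀⟩, -⟩ := id hconn
    choose flow hflow0 hflow using fun v =>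
      Lib.LabGraph.Circuits.exists_flow ends (Lib.LabGraph.Circuits.reachable_univ ends hconn v₀ v)
    let g : V → ℤ := fun v => ∑ e, flow v e * z e
    have hg : ∀ e, g (ends e).2 - g (ends e).1 = z e := by
      intro e
      have h0 := hz (fun f => flow (ends e).1 f - flow (ends e).2 f + if f = e then 1 else 0) fun v => by
        have h1 := hflow (ends e).1 v
        have h2 := hflow (ends e).2 v
        simp only [LabGraph.boundary] at h1 h2 ⊢
        have h3 : ∑ f, ((if (ends f).2 = v then (if f = e then (1 : ℤ) else 0) else 0) -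
            (if (ends f).1 = v then (if f = e then (1 : ℤ) else 0) else 0)) =
            (if (ends e).2 = v then 1 else 0) - (if (ends e).1 = v then 1 else 0) := by
          rw [Finset.sum_eq_single e (fun f _ hf => by simp [hf]) (by simp)]
          simp
        have hsplit : ∀ f : E, ((if (ends f).2 = v then flow (ends e).1 f - flow (ends e).2 f + (if f = e then 1 else 0) else 0) -
            (if (ends f).1 = v then flow (ends e).1 f - flow (ends e).2 f + (if f = e then 1 else 0) else 0)) =
            ((if (ends f).2 = v then flow (ends e).1 f else 0) - (if (ends f).1 = v then flow (ends e).1 f else 0)) -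
            ((if (ends f).2 = v then flow (ends e).2 f else 0) - (if (ends f).1 = v then flow (ends e).2 f else 0)) +
            ((if (ends f).2 = v then (if f = e then (1 : ℤ) else 0) else 0) -
            (if (ends f).1 = v then (if f = e then (1 : ℤ) else 0) else 0)) := fun f => by split_ifs <;> ring
        simp only [hsplit, Finset.sum_add_distrib, Finset.sum_sub_distrib] at h1 h2 h3 ⊢
        linarith
      simp only [add_mul, sub_mul, Finset.sum_add_distrib, Finset.sum_sub_distrib, ite_mul, one_mul, zero_mul,
        Finset.sum_ite_eq', Finset.mem_univ, if_true] at h0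
      simp only [g]
      linarith
    let P : E → ℕ → ℤ := fun e j => g (ends e).1 + ∑ t ∈ Finset.range j, (y e - ∑ i ∈ Finset.range t, b e i)
    let ψ : LabGraph.BlVert V E l → ℤ := Sum.elim g fun q => P q.1 (q.2.val + 1)
    have hP : ∀ e j, j ≤ l e → ψ (pv e j) = P e j := by
      intro e j hj
      obtain ⟨e2, e1⟩ := hend ψ e
      rcases Nat.eq_zero_or_pos j with rfl | hj0
      · simp [e1, ψ, P]
      rcases hj.eq_or_lt with rfl | hlt
      · rw [e2]
        simp only [ψ, P, Sum.elim_inl, Finset.sum_sub_distrib, Finset.sum_const, Finset.card_range, nsmul_eq_mul]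
        have := hg e
        simp only [z] at this
        linarith
      · obtain ⟨i, rfl⟩ : ∃ i, j = i + 1 := ⟨j - 1, by omega⟩
        rw [(hpv e _ hj e ⟨i, by omega⟩).2 ⟨rfl, rfl⟩]
        rfl
    refine ⟨ψ, fun v => LabGraph.mdeg (LabGraph.blEnds ends l) (fun _ => 1) ψ (Sum.inl v) + β (Sum.inl v), ?_⟩
    rintro (v | ⟨e, i, hi⟩)
    · rfl
    · have hi' : i + 1 < l e := by omega
      rw [hmid ψ e i hi', hP e (i + 2) (by omega), hP e (i + 1) (by omega), hP e i (by omega)]
      simp only [P, Finset.sum_range_succ, Sum.elim_inr]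
      have hb : b e i = β (Sum.inr ⟨e, ⟨i, hi⟩⟩) := dif_pos hi
      rw [← hb]
      ring

end Groth.Agent.S13760
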