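import Groth.Statements.S1377
import Mathlib.AlgebraicGeometry.Normalization
import Mathlib.AlgebraicGeometry.IdealSheaf.Subscheme
import Mathlib.AlgebraicGeometry.Morphisms.Smooth

set_option autoImplicit false
universe u
open FlatMor

namespace Groth.Agent.S1377

set_option backward.isDefEq.respectTransparency.types false in
open AlgebraicGeometry CategoryTheory Limits in
/-- Let S be a scheme, U ⊆ S an open subscheme whose inclusion U → S is quasi-compact (U retrocompact in
S), and V → U a surjective integral morphism. Then there are a scheme V' and a surjective integral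
morphism V' → S whose base change to U is V → U. (The published statement puts no condition on U,
and in that generality it is false: e.g. S = Spec ∏_i ℤ/4^i with U = D(2) ∪ ⋃_i D(e_i), e_i the
idempotents, and V equal to U except that over D(2) it is cut out by x = (2^i)_i. Stated here with U
→ S quasi-compact, under which hypothesis the published argument applies.) -/
theorem result {S V : Scheme.{u}} (U : S.Opens) [QuasiCompact U.ι]
    (v : V ⟶ (U : Scheme.{u})) [IsIntegralHom v] [Surjective v] :
    ∃ (V' : Scheme.{u}) (π : V' ⟶ S) (i : V ⟶ V'), Surjective π ∧ IsIntegralHom π ∧ IsPullback i v π U.ι := by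
  let f := v ≫ U.ι
  let C : TopologicalSpace.Closeds S := ⟨(U : Set S)ᶜ, U.isOpen.isClosed_compl⟩
  let z := (Scheme.IdealSheafData.vanishingIdeal C).subschemeι
  have hz : Set.range z = (U : Set S)ᶜ := by
    rw [Scheme.IdealSheafData.range_subschemeι, Scheme.IdealSheafData.coe_support_vanishingIdeal]
    rfl
  have hsq : IsPullback (𝟙 V) v f U.ι := by
    simpa [f] using ((IsPullback.of_horiz_isIso
      (show CommSq (𝟙 V) v v (𝟙 (U : Scheme.{u})) from ⟨by simp⟩)).paste_vert
      (IsKernelPair.id_of_mono U.ι))
  let e := hsq.isoPullback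
  have : IsIntegralHom (pullback.snd f U.ι) := by
    rw [← hsq.isoPullback_inv_snd]; infer_instance
  have hTN : f.toNormalization = (e.hom ≫ (pullback.snd f U.ι).toNormalization ≫
      f.normalizationPullback U.ι) ≫ pullback.fst f.fromNormalization U.ι := by
    simp [e]
  have : IsOpenImmersion f.toNormalization := by rw [hTN]; infer_instance
  have hTNr : f.toNormalization.opensRange = f.fromNormalization ⁻¹ᵁ U := by
    apply TopologicalSpace.Opens.ext
    rw [Scheme.Hom.coe_opensRange]
    have hs : Function.Surjective (e.hom ≫ (pullback.snd f U.ι).toNormalization ≫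
        f.normalizationPullback U.ι) := (Scheme.Hom.homeomorph (e.hom ≫ (pullback.snd f U.ι).toNormalization ≫
        f.normalizationPullback U.ι)).surjective
    rw [hTN, Scheme.Hom.comp_base, TopCat.coe_comp, Set.range_comp, hs.range_eq, Set.image_univ,
      IsOpenImmersion.range_pullbackFst]
    simp
  let i := f.toNormalization ≫ (coprod.inl :
    f.normalization ⟶ f.normalization ⨿ (Scheme.IdealSheafData.vanishingIdeal C).subscheme)
  let π := coprod.desc f.fromNormalization z
  have hπ : IsIntegralHom π := inferInstance
  have hi : i ≫ π = v ≫ U.ι := by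
    simp only [i, π, Category.assoc, coprod.inl_desc, Scheme.Hom.toNormalization_fromNormalization]
    rfl
  have hpre : π ⁻¹ᵁ U.ι.opensRange = i.opensRange := by
    rw [Scheme.Opens.opensRange_ι]
    ext w
    obtain ⟨w, rfl⟩ := (coprodMk _ _).surjective w
    rcases w with w | w
    · rw [coprodMk_inl]
      show π _ ∈ U ↔ _
      rw [← Scheme.Hom.comp_apply, coprod.inl_desc]
      constructor
      · intro hw
        obtain ⟨y, hy⟩ : w ∈ f.toNormalization.opensRange := by rw [hTNr]; exact hw
        exact ⟨y, by rw [Scheme.Hom.comp_apply, hy]⟩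
      · rintro ⟨y, hy⟩
        rw [Scheme.Hom.comp_apply] at hy
        rw [← (coprod.inl : f.normalization ⟶ f.normalization ⨿
          (Scheme.IdealSheafData.vanishingIdeal C).subscheme).isOpenEmbedding.injective hy]
        have : f.toNormalization y ∈ f.toNormalization.opensRange := ⟨y, rfl⟩
        rw [hTNr] at this
        exact this
    · rw [coprodMk_inr]
      show π _ ∈ U ↔ _
      rw [← Scheme.Hom.comp_apply, coprod.inr_desc]
      constructor
      · intro hw
        have : z w ∈ Set.range z := ⟨w, rfl⟩
        rw [hz] at this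
        exact absurd hw this
      · rintro ⟨y, hy⟩
        rw [Scheme.Hom.comp_apply, ← coprodMk_inl, ← coprodMk_inr] at hy
        exact absurd ((coprodMk _ _).injective hy) Sum.inl_ne_inr
  refine ⟨_, π, i, ⟨fun s => ?_⟩, hπ,
    (IsOpenImmersion.isPullback v i U.ι π hi hpre).flip⟩
  by_cases hs : s ∈ U
  · obtain ⟨y, hy⟩ := v.surjective ⟨s, hs⟩
    exact ⟨i y, by rw [← Scheme.Hom.comp_apply, hi, Scheme.Hom.comp_apply, hy]; rfl⟩
  · obtain ⟨y, hy⟩ : s ∈ Set.range z := by rw [hz]; exact hs
    exact ⟨(coprod.inr : _ ⟶ f.normalization ⨿ (Scheme.IdealSheafData.vanishingIdeal C).subscheme) y,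
      by rw [← Scheme.Hom.comp_apply, coprod.inr_desc, hy]⟩

end Groth.Agent.S1377
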