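import Groth.Statements.S13771
import Groth.Agent.Lib.PLie.Basic

set_option autoImplicit false
universe u v w
open PLie

namespace Groth.Agent.S13771

/-- Let R be a commutative ring of prime characteristic p, L₁ and L₂ Lie algebras over R, φ a p-mapping
on L₁ and f : L₁ → L₂ a morphism of Lie algebras whose kernel is stable under φ (a p-ideal). Then
the image f(L₁), a Lie subalgebra of L₂, carries exactly one p-mapping ψ for which the corestriction
of f to its image is a morphism of p-Lie algebras, i.e. ψ (f x) = f (φ x) for all x. -/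
theorem result (R : Type u) [CommRing R] (p : ℕ) [Fact p.Prime] [CharP R p]
    (L₁ : Type v) [LieRing L₁] [LieAlgebra R L₁] (L₂ : Type w) [LieRing L₂] [LieAlgebra R L₂]
    (φ : PLie.PMap R p L₁) (f : L₁ →ₗ⁅R⁆ L₂) (hker : ∀ x : L₁, f x = 0 → f (φ x) = 0) :
    ∃! ψ : PLie.PMap R p f.range, PLie.IsPHom φ ψ f.rangeRestrict := by
  have hwd : ∀ x x' : L₁, f x = f x' → f (φ x) = f (φ x') := by
    intro x x' h
    have hk : f (x - x') = 0 := by rw [map_sub, h, sub_self]
    have := φ.map_add x' (x - x')
    rw [add_sub_cancel] at this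
    rw [this, map_sub, map_add, hker _ hk, add_zero, Groth.Agent.Lib.PLie.Basic.map_jacobson, hk,
      Groth.Agent.Lib.PLie.Basic.jacobson_zero_right, sub_zero]
  have hsurj := f.surjective_rangeRestrict
  have hr : ∀ x : L₁, (f.rangeRestrict x : L₂) = f x := fun x => rfl
  have key : ∀ x : L₁, f.rangeRestrict (φ (Function.surjInv hsurj (f.rangeRestrict x))) =
      f.rangeRestrict (φ x) := fun x =>
    Subtype.ext (hwd _ _ (congrArg Subtype.val (Function.surjInv_eq hsurj (f.rangeRestrict x))))
  refine ⟨{ toFun := fun u => f.rangeRestrict (φ (Function.surjInv hsurj u))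
            map_smul := ?_
            ad_map := ?_
            map_add := ?_ }, fun x => (key x).symm, ?_⟩
  · intro c u
    obtain ⟨x, rfl⟩ := hsurj u
    rw [← map_smul, key, key, φ.map_smul, map_smul]
  · intro u
    obtain ⟨x, rfl⟩ := hsurj u
    ext v
    obtain ⟨z, rfl⟩ := hsurj v
    rw [key, LieAlgebra.ad_apply, ← LieHom.map_lie, ← Groth.Agent.Lib.PLie.Basic.map_ad_pow,
      Groth.Agent.Lib.PLie.Basic.lie_map]
  · intro u v
    obtain ⟨x, rfl⟩ := hsurj u
    obtain ⟨z, rfl⟩ := hsurj v
    rw [← map_add, key, key, key, φ.map_add, map_sub, map_add,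
      Groth.Agent.Lib.PLie.Basic.map_jacobson]
  · intro ψ hψ
    refine Groth.Agent.Lib.PLie.Basic.ext_fun fun u => ?_
    obtain ⟨x, rfl⟩ := hsurj u
    rw [← hψ x]
    exact (key x).symm

end Groth.Agent.S13771
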