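import Groth.Statements.S13772
import Groth.Agent.Lib.PLie.Basic

set_option autoImplicit false
universe u v
open PLie

namespace Groth.Agent.S13772

/-- Let R be a commutative ring of prime characteristic p and L a Lie algebra over R with a p-mapping γ.
For a map g : L → L, there is a p-mapping γ' on L with γ' x = γ x + g x for every x if and only if g
is additive, g (c • x) = c ^ p • g x for all scalars c, and every value g x lies in the centre of L.
(Both parts of the published statement at once: the difference of two p-mappings is a
Frobenius-semilinear map into the centre, and adding such a map to a p-mapping gives a p-mapping.) -/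
theorem result (R : Type u) [CommRing R] (p : ℕ) [Fact p.Prime] [CharP R p]
    (L : Type v) [LieRing L] [LieAlgebra R L] (γ : PLie.PMap R p L) (g : L → L) :
    (∃ γ' : PLie.PMap R p L, ∀ x : L, γ' x = γ x + g x) ↔
      ((∀ x y : L, g (x + y) = g x + g y) ∧ (∀ (c : R) (x : L), g (c • x) = c ^ p • g x) ∧
        ∀ x : L, g x ∈ LieAlgebra.center R L) := by
  constructor
  · rintro ⟨γ', hγ'⟩
    refine ⟨fun x y => ?_, fun c x => ?_, fun x => ?_⟩
    · have h := γ'.map_add x y
      rw [hγ', hγ', hγ', γ.map_add, ← sub_eq_zero] at h
      rw [← sub_eq_zero, ← h]
      abel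
    · have h := γ'.map_smul c x
      rw [hγ', hγ', γ.map_smul, smul_add] at h
      exact add_left_cancel h
    · rw [LieModule.mem_maxTrivSubmodule]
      intro z
      have h := congrArg (fun e : Module.End R L => e z) (γ'.ad_map x)
      simp only [hγ', ← γ.ad_map x, map_add, LinearMap.add_apply, LieAlgebra.ad_apply] at h
      rw [← lie_skew, neg_eq_zero]
      exact add_eq_left.mp h
  · rintro ⟨ha, hs, hc⟩
    refine ⟨{ toFun := fun x => γ x + g x
              map_smul := fun c x => ?_
              ad_map := fun x => ?_
              map_add := fun x y => ?_ }, fun x => rfl⟩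
    · rw [γ.map_smul, hs, smul_add]
    · rw [map_add, γ.ad_map, add_eq_left]
      refine LinearMap.ext fun z => ?_
      have h := (LieModule.mem_maxTrivSubmodule _ _ _ (g x)).mp (hc x) z
      rw [LieAlgebra.ad_apply, ← lie_skew, h, neg_zero, LinearMap.zero_apply]
    · rw [γ.map_add, ha]
      abel

end Groth.Agent.S13772
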