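import Groth.Statements.S13775
import Groth.Agent.Lib.PLie.Basic

set_option autoImplicit false
universe u v
open PLie

namespace Groth.Agent.S13775

/-- Let R be a commutative ring of prime characteristic p and L a Lie algebra over R, free as a module
with basis x = bs 0, y = bs 1, z = bs 2 and brackets [x,y] = y, [x,z] = y + z, [y,z] = 0. Then L
carries no p-mapping. (The published statement is the corresponding entry of the classification
table of three-dimensional Lie algebras over an algebraically closed field of characteristic p; this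
row states it over every commutative ring of characteristic p.) -/
theorem result (R : Type u) [CommRing R] (p : ℕ) [Fact p.Prime] [CharP R p]
    (L : Type v) [LieRing L] [LieAlgebra R L] (bs : Module.Basis (Fin 3) R L)
    (hxy : ⁅bs 0, bs 1⁆ = bs 1) (hxz : ⁅bs 0, bs 2⁆ = bs 1 + bs 2) (hyz : ⁅bs 1, bs 2⁆ = 0) :
    IsEmpty (PLie.PMap R p L) := by
  refine ⟨fun φ => ?_⟩
  have hp2 := (Fact.out : p.Prime).two_le
  have hzy : ⁅bs 2, bs 1⁆ = 0 := by rw [← lie_skew, hyz, neg_zero]
  have hpow : ∀ n : ℕ, (LieAlgebra.ad R L (bs 0) ^ n) (bs 1) = bs 1 ∧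
      (LieAlgebra.ad R L (bs 0) ^ n) (bs 2) = (n : R) • bs 1 + bs 2 := by
    intro n
    induction n with
    | zero => simp
    | succ n ih =>
      refine ⟨by rw [pow_succ', Module.End.mul_apply, ih.1, LieAlgebra.ad_apply, hxy], ?_⟩
      rw [pow_succ', Module.End.mul_apply, ih.2, map_add, map_smul, LieAlgebra.ad_apply,
        LieAlgebra.ad_apply, hxy, hxz, Nat.cast_succ, add_smul, one_smul, add_assoc]
  have hz : ∀ j, (LieAlgebra.ad R L (bs 0) ^ p) (bs j) = ⁅φ (bs 0), bs j⁆ := fun j => by
    rw [← φ.ad_map]; rfl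
  have e : ∀ j, ⁅φ (bs 0), bs j⁆ = bs.repr (φ (bs 0)) 0 • ⁅bs 0, bs j⁆ +
      bs.repr (φ (bs 0)) 1 • ⁅bs 1, bs j⁆ + bs.repr (φ (bs 0)) 2 • ⁅bs 2, bs j⁆ := fun j => by
    conv_lhs => rw [← bs.sum_repr (φ (bs 0))]
    rw [Fin.sum_univ_three, add_lie, add_lie, smul_lie, smul_lie, smul_lie]
  have h1 := hz 1
  rw [(hpow p).1, e, hxy, lie_self, hzy, smul_zero, smul_zero, add_zero, add_zero] at h1
  have h2 := hz 2
  rw [(hpow p).2, e, hxz, hyz, lie_self, CharP.cast_eq_zero, zero_smul, zero_add, smul_zero,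
    smul_zero, add_zero, add_zero, smul_add] at h2
  haveI : Nontrivial R := CharP.nontrivial_of_char_ne_one (Fact.out : p.Prime).ne_one
  have a1 := congrArg (fun w => bs.repr w 1) h1
  have a2 := congrArg (fun w => bs.repr w 1) h2
  simp at a1 a2
  exact zero_ne_one (a2.trans a1.symm)

end Groth.Agent.S13775
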