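import Groth.Statements.S13776
import Groth.Agent.Lib.PLie.Exists

set_option autoImplicit false
universe u v
open PLie

namespace Groth.Agent.S13776

/-- Let R be a commutative ring of prime characteristic p, t ∈ R, and L a Lie algebra over R, free as a
module with basis x = bs 0, y = bs 1, z = bs 2 and brackets [x,y] = y, [x,z] = t • z, [y,z] = 0.
Then L carries a p-mapping if and only if t ^ p = t. (The published statement is the corresponding
entry of the classification table over an algebraically closed field of characteristic p, where the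
condition reads: t lies in the prime field; this row states it over every commutative ring of
characteristic p.) -/
theorem result (R : Type u) [CommRing R] (p : ℕ) [Fact p.Prime] [CharP R p] (t : R)
    (L : Type v) [LieRing L] [LieAlgebra R L] (bs : Module.Basis (Fin 3) R L)
    (hxy : ⁅bs 0, bs 1⁆ = bs 1) (hxz : ⁅bs 0, bs 2⁆ = t • bs 2) (hyz : ⁅bs 1, bs 2⁆ = 0) :
    Nonempty (PLie.PMap R p L) ↔ t ^ p = t := by
  have hp2 := (Fact.out : p.Prime).two_le
  have hyx : ⁅bs 1, bs 0⁆ = -bs 1 := by rw [← lie_skew, hxy]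
  have hzx : ⁅bs 2, bs 0⁆ = -(t • bs 2) := by rw [← lie_skew, hxz]
  have hzy : ⁅bs 2, bs 1⁆ = 0 := by rw [← lie_skew, hyz, neg_zero]
  have hpow : ∀ n : ℕ, (LieAlgebra.ad R L (bs 0) ^ n) (bs 1) = bs 1 ∧
      (LieAlgebra.ad R L (bs 0) ^ n) (bs 2) = t ^ n • bs 2 := by
    intro n
    induction n with
    | zero => simp
    | succ n ih =>
      refine ⟨by rw [pow_succ', Module.End.mul_apply, ih.1, LieAlgebra.ad_apply, hxy], ?_⟩
      rw [pow_succ', Module.End.mul_apply, ih.2, map_smul, LieAlgebra.ad_apply, hxz, smul_smul,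
        pow_succ]
  rw [Groth.Agent.Lib.PLie.Exists.nonempty_iff bs]
  constructor
  · intro h
    obtain ⟨z, hz⟩ := h 0
    have hz' : ∀ j, (LieAlgebra.ad R L (bs 0) ^ p) (bs j) = ⁅z, bs j⁆ := fun j => by rw [hz]; rfl
    have e : ∀ j, ⁅z, bs j⁆ = bs.repr z 0 • ⁅bs 0, bs j⁆ + bs.repr z 1 • ⁅bs 1, bs j⁆ +
        bs.repr z 2 • ⁅bs 2, bs j⁆ := fun j => by
      conv_lhs => rw [← bs.sum_repr z]
      rw [Fin.sum_univ_three, add_lie, add_lie, smul_lie, smul_lie, smul_lie]
    have h1 := hz' 1
    rw [(hpow p).1, e, hxy, lie_self, hzy, smul_zero, smul_zero, add_zero, add_zero] at h1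
    have h2 := hz' 2
    rw [(hpow p).2, e, hxz, hyz, lie_self, smul_zero, smul_zero, add_zero, add_zero, smul_smul] at h2
    have a1 := congrArg (fun w => bs.repr w 1) h1
    have a2 := congrArg (fun w => bs.repr w 2) h2
    simp at a1 a2
    rw [a2, ← a1, one_mul]
  · intro ht i
    by_cases hi : i = 0
    · subst hi
      refine ⟨bs 0, bs.ext fun j => ?_⟩
      fin_cases j
      · obtain ⟨q, hq⟩ : ∃ q, p = q + 1 := ⟨p - 1, by omega⟩
        simp [hq, pow_succ]
      · simpa [hxy] using (hpow p).1
      · simpa [hxz, ht] using (hpow p).2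
    · have h : LieAlgebra.ad R L (bs i) ^ 2 = 0 := by
        refine bs.ext fun j => ?_
        rw [pow_two, Module.End.mul_apply, LieAlgebra.ad_apply, LieAlgebra.ad_apply]
        fin_cases i <;> fin_cases j <;> simp [hyx, hzx, hzy, hyz] at hi ⊢
      exact ⟨0, by rw [show p = 2 + (p - 2) by omega, pow_add, h, zero_mul, map_zero]⟩

end Groth.Agent.S13776
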