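import Groth.Statements.S13777
import Groth.Agent.Lib.PLie.Basic

set_option autoImplicit false
universe u v
open PLie

namespace Groth.Agent.S13777

/-- Let R be a commutative ring of characteristic 2 and L a Lie algebra over R, free as a module with
basis x = bs 0, y = bs 1, z = bs 2 and brackets [x,y] = z, [x,z] = −x, [y,z] = y. Then L carries no
2-mapping. (The published statement is the corresponding entry of the classification table over an
algebraically closed field of characteristic 2; this row states it over every commutative ring of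
characteristic 2.) -/
theorem result (R : Type u) [CommRing R] [CharP R 2]
    (L : Type v) [LieRing L] [LieAlgebra R L] (bs : Module.Basis (Fin 3) R L)
    (hxy : ⁅bs 0, bs 1⁆ = bs 2) (hxz : ⁅bs 0, bs 2⁆ = -bs 0) (hyz : ⁅bs 1, bs 2⁆ = bs 1) :
    IsEmpty (PLie.PMap R 2 L) := by
  refine ⟨fun φ => ?_⟩
  haveI : Nontrivial R := CharP.nontrivial_of_char_ne_one (R := R) (v := 2) (by norm_num)
  have hyx : ⁅bs 1, bs 0⁆ = -bs 2 := by rw [← lie_skew, hxy]
  have hzx : ⁅bs 2, bs 0⁆ = bs 0 := by rw [← lie_skew, hxz, neg_neg]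
  have hzy : ⁅bs 2, bs 1⁆ = -bs 1 := by rw [← lie_skew, hyz]
  have hz : ∀ j, ⁅bs 0, ⁅bs 0, bs j⁆⁆ = ⁅φ (bs 0), bs j⁆ := fun j => by
    have h := congrArg (fun g : Module.End R L => g (bs j)) (φ.ad_map (bs 0))
    simp only [pow_two, Module.End.mul_apply, LieAlgebra.ad_apply] at h
    exact h.symm
  have e : ∀ j, ⁅φ (bs 0), bs j⁆ = bs.repr (φ (bs 0)) 0 • ⁅bs 0, bs j⁆ +
      bs.repr (φ (bs 0)) 1 • ⁅bs 1, bs j⁆ + bs.repr (φ (bs 0)) 2 • ⁅bs 2, bs j⁆ := fun j => by
    conv_lhs => rw [← bs.sum_repr (φ (bs 0))]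
    rw [Fin.sum_univ_three, add_lie, add_lie, smul_lie, smul_lie, smul_lie]
  have h1 := hz 1
  rw [e, hxy, hxz, lie_self, hzy] at h1
  have a := congrArg (fun w => bs.repr w 0) h1
  simp at a

end Groth.Agent.S13777
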