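import Groth.Statements.S13778
import Groth.Agent.Lib.PLie.Exists
import Mathlib.Tactic.Module
import Mathlib.Tactic.Ring
import Mathlib.Tactic.LinearCombination
import Mathlib.Tactic.FinCases
import Mathlib.Algebra.Ring.GeomSum

set_option autoImplicit false
universe u v
open PLie

namespace Groth.Agent.S13778

open DualNumber in
set_option maxHeartbeats 2000000 in
set_option linter.unusedSimpArgs false in
/-- Let K be a field of prime characteristic p, K[ε] the ring of dual numbers (taken with its
characteristic-p structure), t ∈ K with t ^ p = t (an element of the prime field), and a, …, i ∈ K.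
Let L be a Lie algebra over K[ε], free as a module with basis x = bs 0, y = bs 1, z = bs 2 and
brackets [x,y] = aε x + (1 + bε) y + cε z, [x,z] = dε x + eε y + (t + fε) z, [y,z] = gε x + hε y +
iε z. Then L carries a p-mapping over K[ε] if and only if b t = f, c = e = 0 when t = 1, and g = 0
when p = 2. (The published statement determines the singular locus of the restrictable locus in the
centreless stratum of the moduli scheme of based three-dimensional Lie algebras, for t non-zero, and
the rank-one-centre stratum treats t = 0; this row states the restrictability criterion for the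
first-order deformations of l_t that the proofs compute, over any field of characteristic p in place
of the prime field and for every t in the prime field.) -/
theorem result (K : Type u) [Field K] (p : ℕ) [Fact p.Prime] [CharP K p]
    [CharP (DualNumber K) p] (t a b c d e f g h i : K) (ht : t ^ p = t)
    (L : Type v) [LieRing L] [LieAlgebra (DualNumber K) L] (bs : Module.Basis (Fin 3) (DualNumber K) L)
    (hxy : ⁅bs 0, bs 1⁆ = (a • ε : DualNumber K) • bs 0 + (1 + b • ε : DualNumber K) • bs 1 + (c • ε : DualNumber K) • bs 2)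
    (hxz : ⁅bs 0, bs 2⁆ = (d • ε : DualNumber K) • bs 0 + (e • ε : DualNumber K) • bs 1 +
      (algebraMap K (DualNumber K) t + f • ε) • bs 2)
    (hyz : ⁅bs 1, bs 2⁆ = (g • ε : DualNumber K) • bs 0 + (h • ε : DualNumber K) • bs 1 + (i • ε : DualNumber K) • bs 2) :
    Nonempty (PLie.PMap (DualNumber K) p L) ↔ (b * t = f ∧ (t = 1 → c = 0 ∧ e = 0) ∧ (p = 2 → g = 0)) := by
  have hp2 := (Fact.out : p.Prime).two_le
  have hee : ∀ x y : K, (x • ε : DualNumber K) * (y • ε) = 0 := fun x y => by ext <;> simp
  have hyx : ⁅bs 1, bs 0⁆ = -⁅bs 0, bs 1⁆ := (lie_skew _ _).symm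
  have hzx : ⁅bs 2, bs 0⁆ = -⁅bs 0, bs 2⁆ := (lie_skew _ _).symm
  have hzy : ⁅bs 2, bs 1⁆ = -⁅bs 1, bs 2⁆ := (lie_skew _ _).symm
  rw [show algebraMap K (DualNumber K) t = TrivSqZeroExt.inl t from rfl] at hxz
  have hjac := lie_jacobi (bs 0) (bs 1) (bs 2)
  have hd : d = t * h := by
    have h0 := congrArg (fun w => (bs.repr w 1).snd) hjac
    simp [hyx, hzx, hzy, hxy, hxz, hyz] at h0
    linear_combination h0
  let σ : ℕ → K := fun n => ∑ j ∈ Finset.range n, t ^ j
  have hT : ∀ n : ℕ,
      (LieAlgebra.ad (DualNumber K) L (bs 0) ^ (n + 1)) (bs 1) =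
        (a • ε : DualNumber K) • bs 0 + (1 + (((n + 1 : ℕ) : K) * b) • ε : DualNumber K) • bs 1 +
          ((c * σ (n + 1)) • ε : DualNumber K) • bs 2 ∧
      (LieAlgebra.ad (DualNumber K) L (bs 0) ^ (n + 1)) (bs 2) =
        ((d * t ^ n) • ε : DualNumber K) • bs 0 + ((e * σ (n + 1)) • ε : DualNumber K) • bs 1 +
          (TrivSqZeroExt.inl (t ^ (n + 1)) +
            (((n + 1 : ℕ) : K) * t ^ n * f) • ε : DualNumber K) • bs 2 := by
    intro n
    induction n with
    | zero => constructor <;> simp [σ, hxy, hxz]
    | succ n ih =>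
      constructor
      · rw [pow_succ', Module.End.mul_apply, ih.1]
        simp only [σ]
        rw [geom_sum_succ (n := n + 1)]
        simp [hxy, hxz, smul_smul, hee, add_mul, mul_add]
        match_scalars <;> ext <;> simp <;> ring
      · rw [pow_succ', Module.End.mul_apply, ih.2]
        simp only [σ]
        rw [geom_sum_succ' (n := n + 1)]
        simp [hxy, hxz, smul_smul, hee, add_mul, mul_add]
        match_scalars <;> ext <;> simp <;> ring
  obtain ⟨q, hq⟩ : ∃ q, p = q + 1 := ⟨p - 1, by omega⟩
  have hdq : d * t ^ q = d := by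
    rw [hd, mul_assoc, mul_comm h, ← mul_assoc, ← pow_succ', ← hq, ht]
  have hσ1 : t = 1 → σ p = 0 := fun h1 => by simp [σ, h1, CharP.cast_eq_zero]
  have hσ : t ≠ 1 → σ p = 1 := fun h1 => by
    have h2 := geom_sum_mul t p
    rw [ht] at h2
    exact mul_right_cancel₀ (sub_ne_zero.mpr h1) (by rw [one_mul]; exact h2)
  have hTy : (LieAlgebra.ad (DualNumber K) L (bs 0) ^ p) (bs 1) =
      (a • ε : DualNumber K) • bs 0 + bs 1 + ((c * σ p) • ε : DualNumber K) • bs 2 := by
    have := (hT q).1
    rw [← hq, CharP.cast_eq_zero, zero_mul, zero_smul, add_zero, one_smul] at this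
    exact this
  have hTz : (LieAlgebra.ad (DualNumber K) L (bs 0) ^ p) (bs 2) =
      (d • ε : DualNumber K) • bs 0 + ((e * σ p) • ε : DualNumber K) • bs 1 +
        (TrivSqZeroExt.inl t : DualNumber K) • bs 2 := by
    have := (hT q).2
    rw [← hq, CharP.cast_eq_zero, zero_mul, zero_mul, zero_smul, add_zero, hdq, ht] at this
    exact this
  have hcoord : ∀ z v : L, ⁅z, v⁆ = bs.repr z 0 • ⁅bs 0, v⁆ + bs.repr z 1 • ⁅bs 1, v⁆ +
      bs.repr z 2 • ⁅bs 2, v⁆ := by
    intro z v
    conv_lhs => rw [← bs.sum_repr z]
    rw [Fin.sum_univ_three, add_lie, add_lie, smul_lie, smul_lie, smul_lie]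
  rw [Groth.Agent.Lib.PLie.Exists.nonempty_iff bs]
  constructor
  · intro hw
    obtain ⟨u, hu⟩ := hw 0
    have hu' : ∀ j, (LieAlgebra.ad (DualNumber K) L (bs 0) ^ p) (bs j) = ⁅u, bs j⁆ := fun j => by
      rw [hu]; rfl
    have u0 : 0 = ⁅u, bs 0⁆ := by
      rw [← hu', hq, pow_succ, Module.End.mul_apply, LieAlgebra.ad_apply, lie_self, map_zero]
    have u1 := hTy.symm.trans (hu' 1)
    have u2 := hTz.symm.trans (hu' 2)
    rw [hcoord] at u0 u1 u2
    simp [hyx, hzx, hzy, hxy, hxz, hyz] at u0 u1 u2
    have hr1 : (bs.repr u 1).fst = 0 := by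
      have := congrArg (fun w => (bs.repr w 1).fst) u0
      simp at this; first | exact this | exact this.symm
    have hr2 : (bs.repr u 2).fst * t = 0 := by
      have := congrArg (fun w => (bs.repr w 2).fst) u0
      simp [hr1] at this
      rcases this with h' | h' <;> simp [h']
    have hr0 : (bs.repr u 0).fst = 1 := by
      have := congrArg (fun w => (bs.repr w 1).fst) u1
      simp [hr1] at this; first | exact this | exact this.symm
    have e1 := congrArg (fun w => (bs.repr w 1).snd) u1
    have e2 := congrArg (fun w => (bs.repr w 2).snd) u2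
    simp [hr0, hr1] at e1 e2
    have hbf : b * t = f := by linear_combination (-t) * e1 + e2 + h * hr2
    refine ⟨hbf, fun h1 => ?_, ?_⟩
    · have hr2' : (bs.repr u 2).fst = 0 := by simpa [h1] using hr2
      have c1 := congrArg (fun w => (bs.repr w 2).snd) u1
      have c2 := congrArg (fun w => (bs.repr w 1).snd) u2
      simp [hr0, hr1, hr2', hσ1 h1] at c1 c2
      exact ⟨by first | exact c1 | exact c1.symm, by first | exact c2 | exact c2.symm⟩
    · rintro rfl
      obtain ⟨v, hv⟩ := hw 1
      have hv' : ∀ j, ⁅bs 1, ⁅bs 1, bs j⁆⁆ = ⁅v, bs j⁆ := fun j => by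
        have h' := congrArg (fun T : Module.End (DualNumber K) L => T (bs j)) hv
        simpa only [pow_two, Module.End.mul_apply, LieAlgebra.ad_apply] using h'
      have v0 := hv' 0
      have v1 := hv' 1
      have v2 := hv' 2
      rw [hcoord v] at v0 v1 v2
      simp [hyx, hzx, hzy, hxy, hxz, hyz, smul_smul, hee, add_mul, mul_add] at v0 v1 v2
      have s1 : (bs.repr v 1).fst = 0 := by
        have := congrArg (fun w => (bs.repr w 1).fst) v0
        simp at this; first | exact this | exact this.symm
      have s0 : (bs.repr v 0).fst = 0 := by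
        have := congrArg (fun w => (bs.repr w 1).fst) v1
        simp at this; first | exact this | exact this.symm
      have := congrArg (fun w => (bs.repr w 1).snd) v2
      simp [s0, s1] at this; first | exact this | exact this.symm
  · rintro ⟨hbf, h1, hg⟩ i'
    have hce : c * σ p = c ∧ e * σ p = e := by
      by_cases ht1 : t = 1
      · simp [h1 ht1]
      · simp [hσ ht1]
    subst hbf
    fin_cases i'
    · refine ⟨(1 - b • ε : DualNumber K) • bs 0, bs.ext fun j => ?_⟩
      fin_cases j
      · change (LieAlgebra.ad (DualNumber K) L (bs 0) ^ p) (bs 0) =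
          LieAlgebra.ad (DualNumber K) L ((1 - b • ε : DualNumber K) • bs 0) (bs 0)
        rw [hq, pow_succ, Module.End.mul_apply, LieAlgebra.ad_apply, lie_self, map_zero]
        simp
      · change (LieAlgebra.ad (DualNumber K) L (bs 0) ^ p) (bs 1) =
          LieAlgebra.ad (DualNumber K) L ((1 - b • ε : DualNumber K) • bs 0) (bs 1)
        rw [hTy, hce.1]
        simp [hxy, smul_smul, hee, add_mul, mul_add, sub_mul]
      · change (LieAlgebra.ad (DualNumber K) L (bs 0) ^ p) (bs 2) =
          LieAlgebra.ad (DualNumber K) L ((1 - b • ε : DualNumber K) • bs 0) (bs 2)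
        rw [hTz, hce.2]
        simp [hxz, smul_smul, hee, add_mul, mul_add, sub_mul]
        match_scalars <;> ext <;> simp <;> ring
    all_goals
      rcases (show p = 2 ∨ 3 ≤ p by omega) with rfl | hp3
    · obtain rfl := hg rfl
      refine ⟨(-a • ε : DualNumber K) • bs 1, bs.ext fun j => ?_⟩
      rw [pow_two, Module.End.mul_apply]
      fin_cases j <;> simp [hxy, hxz, hyz, hyx, hzx, hzy, smul_smul, hee, add_mul, mul_add] <;>
        match_scalars <;> ext <;> simp <;> ring
    · refine ⟨0, ?_⟩
      rw [map_zero]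
      refine pow_eq_zero_of_le hp3 (bs.ext fun j => ?_)
      simp only [pow_succ', pow_zero, mul_one, Module.End.mul_apply, LinearMap.zero_apply]
      fin_cases j <;> simp [hxy, hxz, hyz, hyx, hzx, hzy, smul_smul, hee, add_mul, mul_add] <;>
        match_scalars <;> ext <;> simp <;> ring
    · obtain rfl := hg rfl
      refine ⟨(-d • ε : DualNumber K) • bs 2, bs.ext fun j => ?_⟩
      rw [pow_two, Module.End.mul_apply]
      fin_cases j <;> simp [hxy, hxz, hyz, hyx, hzx, hzy, smul_smul, hee, add_mul, mul_add] <;>
        match_scalars <;> ext <;> simp <;> ring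
    · refine ⟨0, ?_⟩
      rw [map_zero]
      refine pow_eq_zero_of_le hp3 (bs.ext fun j => ?_)
      simp only [pow_succ', pow_zero, mul_one, Module.End.mul_apply, LinearMap.zero_apply]
      fin_cases j <;> simp [hxy, hxz, hyz, hyx, hzx, hzy, smul_smul, hee, add_mul, mul_add] <;>
        match_scalars <;> ext <;> simp <;> ring

end Groth.Agent.S13778
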