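import Groth.Statements.S13779
import Groth.Agent.Lib.PLie.Exists

set_option autoImplicit false
universe u v
open PLie

namespace Groth.Agent.S13779

/-- Let p be an odd prime, R a commutative ring of characteristic p, t ∈ R, and L a Lie algebra over R,
free as a module with basis x = bs 0, y = bs 1, z = bs 2 and brackets [x,y] = z, [x,z] = t • y,
[y,z] = 0. Then L carries a p-mapping φ with φ x = t ^ ((p - 1) / 2) • x, φ y = 0 and φ z = 0. (The
published statement concerns the Lie algebra with these brackets over a field of Laurent series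
k((t)), k algebraically closed of odd characteristic, t the variable; this row states its
restrictability over every commutative ring of odd prime characteristic and every t.) -/
theorem result (R : Type u) [CommRing R] (p : ℕ) [Fact p.Prime] [CharP R p] (hp : p ≠ 2)
    (t : R) (L : Type v) [LieRing L] [LieAlgebra R L] (bs : Module.Basis (Fin 3) R L)
    (hxy : ⁅bs 0, bs 1⁆ = bs 2) (hxz : ⁅bs 0, bs 2⁆ = t • bs 1) (hyz : ⁅bs 1, bs 2⁆ = 0) :
    ∃ φ : PLie.PMap R p L, φ (bs 0) = t ^ ((p - 1) / 2) • bs 0 ∧ φ (bs 1) = 0 ∧ φ (bs 2) = 0 := by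
  have hp2 := (Fact.out : p.Prime).two_le
  obtain ⟨m, hm⟩ : ∃ m, p = 2 * m + 1 :=
    Nat.odd_iff.mpr ((Fact.out : p.Prime).eq_two_or_odd.resolve_left hp) |>.imp fun m h => h
  have hm' : (p - 1) / 2 = m := by omega
  rw [hm']
  have e10 : ⁅bs 1, bs 0⁆ = -bs 2 := by rw [← lie_skew, hxy]
  have e20 : ⁅bs 2, bs 0⁆ = -(t • bs 1) := by rw [← lie_skew, hxz]
  have e21 : ⁅bs 2, bs 1⁆ = 0 := by rw [← lie_skew, hyz, neg_zero]
  let y : Fin 3 → L := ![t ^ m • bs 0, 0, 0]
  have h0 : ∀ (k : ℕ) (j : Fin 3),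
      (LieAlgebra.ad R L (bs 0) ^ (2 * k + 1)) (bs j) = t ^ k • ⁅bs 0, bs j⁆ := by
    intro k
    induction k with
    | zero => intro j; simp
    | succ k ih =>
      intro j
      rw [show 2 * (k + 1) + 1 = 2 + (2 * k + 1) by ring, pow_add, Module.End.mul_apply, ih, map_smul,
        pow_two, Module.End.mul_apply, LieAlgebra.ad_apply, LieAlgebra.ad_apply, pow_succ, ← smul_smul]
      congr 1
      fin_cases j <;> simp [hxy, hxz]
  have h2 : ∀ i : Fin 3, i ≠ 0 → LieAlgebra.ad R L (bs i) ^ p = 0 := by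
    intro i hi
    have h : LieAlgebra.ad R L (bs i) ^ 2 = 0 := by
      refine bs.ext fun j => ?_
      rw [pow_two, Module.End.mul_apply, LieAlgebra.ad_apply, LieAlgebra.ad_apply]
      fin_cases i <;> fin_cases j <;> simp [e10, e20, e21, hyz] at hi ⊢
    rw [show p = 2 + (p - 2) by omega, pow_add, h, zero_mul]
  have hy : ∀ i, LieAlgebra.ad R L (bs i) ^ p = LieAlgebra.ad R L (y i) := by
    intro i
    by_cases hi : i = 0
    · subst hi
      refine bs.ext fun j => ?_
      rw [hm, h0]
      simp [y]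
    · rw [h2 i hi]
      fin_cases i <;> simp [y] at hi ⊢
  exact ⟨Groth.Agent.Lib.PLie.Exists.pmap bs y hy, Groth.Agent.Lib.PLie.Exists.pmap_basis bs y hy 0,
    Groth.Agent.Lib.PLie.Exists.pmap_basis bs y hy 1,
    Groth.Agent.Lib.PLie.Exists.pmap_basis bs y hy 2⟩

end Groth.Agent.S13779
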