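import Groth.Statements.S13781
import Groth.Agent.Lib.Regular.Descent
import Groth.Agent.Lib.Regular.Quotient
import Groth.Agent.S14457
import Mathlib.RingTheory.AdjoinRoot
import Mathlib.RingTheory.KrullDimension.Regular
import Mathlib.RingTheory.Unramified.LocalRing
import Mathlib.RingTheory.Localization.LocalizationLocalization
import Mathlib.RingTheory.Ideal.GoingUp
import Mathlib.RingTheory.RingHom.Flat

set_option autoImplicit false
universe u
open CAlg

namespace Groth.Agent.S13781

/-- Let A be a regular local ring, s a non-zero element of A such that A/(s) is regular, and e a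
positive integer invertible in A. Then A[t]/(t^e - s) is regular. (Regularity of a ring is taken
throughout as: Noetherian, with every localization at a prime ideal a regular local ring; the
hypotheses on A and on A/(s) and the conclusion on A[t]/(t^e - s) are all read this way, which for
the local rings A and A/(s) is the usual notion once localizations of regular local rings are known
to be regular.) -/
theorem result (A : Type u) [CommRing A] [IsLocalRing A]
    [IsRegularRing A] (s : A) (hs : s ≠ 0) (hreg : IsRegularRing (A ⧸ Ideal.span {s}))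
    (e : ℕ) (he : 0 < e) (heu : IsUnit (e : A)) :
    IsRegularRing (AdjoinRoot (Polynomial.X ^ e - Polynomial.C s)) := by
  classical
  haveI := IsRegularLocalRing.of_isRegularRing_of_isLocalRing A
  haveI : IsDomain A := Groth.Agent.Lib.Regular.Quotient.isDomain A
  let f : Polynomial A := Polynomial.X ^ e - Polynomial.C s
  have hf : f.Monic := Polynomial.monic_X_pow_sub_C s (by omega)
  haveI : Module.Finite A (AdjoinRoot f) := hf.finite_adjoinRoot
  haveI : Module.Free A (AdjoinRoot f) := hf.free_adjoinRoot
  haveI : IsNoetherianRing (AdjoinRoot f) := IsNoetherianRing.of_finite A _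
  suffices H : ∀ (M : Ideal (AdjoinRoot f)) [M.IsMaximal], IsRegularLocalRing (Localization.AtPrime M) by
    refine isRegularRing_iff.2 fun p hp => ?_
    obtain ⟨M, hM, hpM⟩ := p.exists_le_maximal hp.ne_top
    haveI := H M
    have hd : Disjoint (M.primeCompl : Set (AdjoinRoot f)) p :=
      Set.disjoint_left.2 fun x hx hxp => hx (hpM hxp)
    let q := p.map (algebraMap (AdjoinRoot f) (Localization.AtPrime M))
    haveI hq : q.IsPrime := IsLocalization.isPrime_of_isPrime_disjoint M.primeCompl _ p hp hd
    have hqp : q.comap (algebraMap (AdjoinRoot f) (Localization.AtPrime M)) = p :=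
      IsLocalization.comap_map_of_isPrime_disjoint M.primeCompl _ hp hd
    haveI := IsRegularRing.isRegularLocalRing_localization q
    haveI : IsLocalization.AtPrime (Localization.AtPrime q) p := by
      have := IsLocalization.isLocalization_isLocalization_atPrime_isLocalization M.primeCompl (T := Localization.AtPrime q) q
      convert this using 1
      exact hqp.symm
    exact IsRegularLocalRing.of_ringEquiv
      (IsLocalization.algEquiv p.primeCompl (Localization.AtPrime q) (Localization.AtPrime p)).toRingEquiv
  intro M hM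
  haveI : Algebra.IsIntegral A (AdjoinRoot f) := Algebra.IsIntegral.of_finite A _
  have hover : M.comap (algebraMap A (AdjoinRoot f)) = IsLocalRing.maximalIdeal A :=
    IsLocalRing.eq_maximalIdeal (Ideal.isMaximal_comap_of_isIntegral_of_isMaximal M)
  let S := Localization.AtPrime M
  haveI : Module.Flat (AdjoinRoot f) S := IsLocalization.flat S M.primeCompl
  haveI : Module.Flat A S := Module.Flat.trans A (AdjoinRoot f) S
  haveI : IsLocalHom (algebraMap A S) := ⟨fun a ha => by
    by_contra hna
    have hm : algebraMap A (AdjoinRoot f) a ∈ M := by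
      rw [← Ideal.mem_comap, hover]; exact hna
    rw [IsScalarTower.algebraMap_apply A (AdjoinRoot f) S] at ha
    exact (IsLocalRing.mem_maximalIdeal _).1 (Localization.AtPrime.map_eq_maximalIdeal (I := M) ▸ Ideal.mem_map_of_mem _ hm) ha⟩
  by_cases hsu : IsUnit s
  · haveI : Algebra.Etale A (AdjoinRoot f) := (Groth.Agent.S14457.result A s e he).2 (Or.inr (heu.mul hsu))
    haveI : Algebra.FormallyUnramified (AdjoinRoot f) S := .of_isLocalization M.primeCompl
    haveI : Algebra.FormallyUnramified A S := .comp A (AdjoinRoot f) S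
    haveI : Algebra.EssFiniteType (AdjoinRoot f) S := Algebra.EssFiniteType.of_isLocalization S M.primeCompl
    haveI : Algebra.EssFiniteType A S := Algebra.EssFiniteType.comp A (AdjoinRoot f) S
    exact (Groth.Agent.Lib.Regular.Descent.isRegularLocalRing_iff (R := A) S Algebra.FormallyUnramified.map_maximalIdeal).1 ‹IsRegularLocalRing A›
  have hsm : s ∈ IsLocalRing.maximalIdeal A := hsu
  haveI : Nontrivial (A ⧸ Ideal.span {s}) := Ideal.Quotient.nontrivial_iff.2 (fun h => hsu (Ideal.span_singleton_eq_top.1 h))
  haveI : IsLocalRing (A ⧸ Ideal.span {s}) := IsLocalRing.of_surjective' _ Ideal.Quotient.mk_surjective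
  haveI := hreg
  haveI := IsRegularLocalRing.of_isRegularRing_of_isLocalRing (A ⧸ Ideal.span {s})
  obtain ⟨d, hd, hd'⟩ := Groth.Agent.Lib.Regular.Quotient.exists_dim_eq (R := A ⧸ Ideal.span {s})
  obtain ⟨T₀, hT₀, hspan⟩ : ∃ T₀ : Set (A ⧸ Ideal.span {s}), T₀.ncard ≤ d ∧ T₀.Finite ∧
      Ideal.span T₀ = IsLocalRing.maximalIdeal _ := by
    obtain ⟨T₁, hc, hsp⟩ := Submodule.FG.exists_span_finset_card_eq_spanFinrank
      (p := IsLocalRing.maximalIdeal (A ⧸ Ideal.span {s})) (Ideal.fg_of_isNoetherianRing _)
    exact ⟨↑T₁, by rw [Set.ncard_coe_finset]; exact le_of_eq (hc.trans hd'), T₁.finite_toSet, hsp⟩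
  obtain ⟨hfin, hspan⟩ := hspan
  let T : Set A := Function.surjInv (Ideal.Quotient.mk_surjective (I := Ideal.span {s})) '' T₀
  have hT : Ideal.Quotient.mk (Ideal.span {s}) '' T = T₀ := by
    rw [Set.image_image]; simp [Function.surjInv_eq]
  have hm : IsLocalRing.maximalIdeal A = Ideal.span (insert s T) := by
    have h1 : (IsLocalRing.maximalIdeal (A ⧸ Ideal.span {s})).comap (Ideal.Quotient.mk (Ideal.span {s})) =
        IsLocalRing.maximalIdeal A :=
      IsLocalRing.eq_maximalIdeal (Ideal.comap_isMaximal_of_surjective _ Ideal.Quotient.mk_surjective)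
    rw [← h1, ← hspan, ← hT, ← Ideal.map_span, Ideal.comap_map_of_surjective' _ Ideal.Quotient.mk_surjective,
      Ideal.mk_ker, Ideal.span_insert, sup_comm]
  let t : AdjoinRoot f := AdjoinRoot.root f
  have hte : t ^ e = algebraMap A (AdjoinRoot f) s := by
    have : Polynomial.aeval t f = 0 := by rw [AdjoinRoot.aeval_eq, AdjoinRoot.mk_self]
    simpa [f, sub_eq_zero] using this
  have ht : t ∈ M := hM.isPrime.mem_of_pow_mem e (by rw [hte, ← Ideal.mem_comap, hover]; exact hsm)
  let G : Set (AdjoinRoot f) := insert t (algebraMap A (AdjoinRoot f) '' T)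
  have hGM : M = Ideal.span G := by
    refine le_antisymm (fun x hx => ?_) (Ideal.span_le.2 (Set.insert_subset ht ?_))
    · have hmle : (IsLocalRing.maximalIdeal A).map (algebraMap A (AdjoinRoot f)) ≤ Ideal.span G := by
        rw [hm, Ideal.map_span, Ideal.span_le, Set.image_insert_eq]
        refine Set.insert_subset ?_ (fun y hy => Ideal.subset_span (Set.mem_insert_of_mem _ hy))
        rw [← hte]
        exact Ideal.pow_mem_of_mem _ (Ideal.subset_span (Set.mem_insert _ _)) e (by omega)
      obtain ⟨g, rfl⟩ := AdjoinRoot.mk_surjective x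
      have eg : AdjoinRoot.mk f g = t * AdjoinRoot.mk f g.divX + algebraMap A (AdjoinRoot f) (g.coeff 0) := by
        conv_lhs => rw [← Polynomial.X_mul_divX_add g, map_add, map_mul]
        rfl
      have h0 : g.coeff 0 ∈ IsLocalRing.maximalIdeal A := by
        rw [← hover, Ideal.mem_comap]
        rw [eg] at hx
        exact (add_mem_cancel_left (Ideal.mul_mem_right _ _ ht)).1 hx
      rw [eg]
      exact add_mem (Ideal.mul_mem_right _ _ (Ideal.subset_span (Set.mem_insert _ _))) (hmle (Ideal.mem_map_of_mem _ h0))
    · rintro _ ⟨a, ha, rfl⟩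
      show algebraMap A (AdjoinRoot f) a ∈ M
      rw [← Ideal.mem_comap, hover, hm]
      exact Ideal.subset_span (Set.mem_insert_of_mem _ ha)
  have hdimA : ringKrullDim A = (d + 1 : ℕ) := by
    rw [← ringKrullDim_quotient_span_singleton_succ_eq_ringKrullDim (IsSMulRegular.of_ne_zero hs) hsm, hd]
    norm_num
  refine .of_spanFinrank_maximalIdeal_le _ (le_trans ?_ (?_ : ringKrullDim A ≤ ringKrullDim S))
  · rw [hdimA, ← Localization.AtPrime.map_eq_maximalIdeal (I := M)]
    rw [show M.map (algebraMap (AdjoinRoot f) S) = (Ideal.span G).map (algebraMap (AdjoinRoot f) S) from congrArg _ hGM, Ideal.map_span]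
    refine Nat.cast_le.2 ?_
    have hGfin : G.Finite := ((hfin.image _).image _).insert _
    refine (Submodule.spanFinrank_span_le_ncard_of_finite (hGfin.image _)).trans
      ((Set.ncard_image_le hGfin).trans ((Set.ncard_insert_le _ _).trans (Nat.succ_le_succ ?_)))
    exact (Set.ncard_image_le (hfin.image _)).trans ((Set.ncard_image_le hfin).trans hT₀)
  · haveI : (IsLocalRing.maximalIdeal S).LiesOver (IsLocalRing.maximalIdeal A) :=
      ⟨((IsLocalRing.local_hom_TFAE _).out 0 4 rfl rfl).mp ‹IsLocalHom (algebraMap A S)› |>.symm⟩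
    have h := Ideal.height_eq_height_add_of_liesOver_of_hasGoingDown (IsLocalRing.maximalIdeal A) (IsLocalRing.maximalIdeal S)
    rw [← IsLocalRing.maximalIdeal_height_eq_ringKrullDim, ← IsLocalRing.maximalIdeal_height_eq_ringKrullDim, h]
    exact_mod_cast le_self_add

end Groth.Agent.S13781
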