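import Groth.Statements.S13782
import Groth.Agent.H20.SmoothRegular
import Groth.Agent.Lib.Regular.Quotient

set_option autoImplicit false
set_option backward.isDefEq.respectTransparency false
universe u
open CAlg

namespace Groth.Agent.S13782


lemma nzd {k A : Type u} [Field k] [CommRing A] [Algebra k A] [Algebra.Smooth k A] {s : A}
    (hs : Irreducible s) {t : A} (ht : s * t = 0) : t = 0 := by
  classical
  have : IsNoetherianRing A := Algebra.FiniteType.isNoetherianRing k A
  set I : Ideal A := Submodule.annihilator (Ideal.span {s}) with hI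
  have hmem : ∀ x, x ∈ I ↔ x * s = 0 := fun x => by
    rw [hI, Submodule.mem_annihilator_span_singleton, smul_eq_mul]
  have htop : I ⊔ Submodule.annihilator I = ⊤ := by
    by_contra hne
    obtain ⟨m, hm, hle⟩ := Ideal.exists_le_maximal _ hne
    have := hm.isPrime
    have : Algebra.IsSmoothAt k m := Algebra.FormallySmooth.comp k A (Localization.AtPrime m)
    have := Groth.Agent.H20.SmoothRegular.isRegularLocalRing k m
    have := Groth.Agent.Lib.Regular.Quotient.isDomain (Localization.AtPrime m)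
    have hs0 : algebraMap A (Localization.AtPrime m) s ≠ 0 := by
      intro h
      obtain ⟨⟨c, hc⟩, hcs⟩ := (IsLocalization.map_eq_zero_iff m.primeCompl _ s).mp h
      exact hc (hle (Submodule.mem_sup_left ((hmem c).mpr hcs)))
    have hz : ∀ x ∈ I, ∃ c ∉ m, c * x = 0 := by
      intro x hx
      have : algebraMap A (Localization.AtPrime m) x = 0 := by
        refine (mul_eq_zero.mp ?_).resolve_right hs0
        rw [← map_mul, (hmem x).mp hx, map_zero]
      obtain ⟨⟨c, hc⟩, hcx⟩ := (IsLocalization.map_eq_zero_iff m.primeCompl _ x).mp this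
      exact ⟨c, hc, hcx⟩
    obtain ⟨T, hT⟩ := IsNoetherian.noetherian I
    choose! c hc hcx using hz
    have hp : ∏ x ∈ T, c x ∈ Submodule.annihilator I := by
      rw [← hT, Submodule.mem_annihilator_span]
      rintro ⟨x, hx⟩
      rw [smul_eq_mul, ← Finset.mul_prod_erase T c (Finset.mem_coe.mp hx)]
      show c x * _ * x = 0
      rw [mul_right_comm, hcx x (hT ▸ Submodule.subset_span hx), zero_mul]
    obtain ⟨x, hx, hxm⟩ := (Ideal.IsPrime.prod_mem_iff).mp (hle (Submodule.mem_sup_right hp))
    exact hc x (hT ▸ Submodule.subset_span (Finset.mem_coe.mpr hx)) hxm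
  obtain ⟨i, hi, j, hj, hij⟩ := Submodule.mem_sup.mp ((Ideal.eq_top_iff_one _).mp htop)
  have hsj : s = j * s := by
    have : (i + j) * s = s := by rw [hij, one_mul]
    rwa [add_mul, (hmem i).mp hi, zero_add, eq_comm] at this
  have hu : IsUnit j := (hs.isUnit_or_isUnit hsj).resolve_right hs.not_isUnit
  have := Submodule.mem_annihilator.mp hj t ((hmem t).mpr (by rw [mul_comm, ht]))
  rw [smul_eq_mul] at this
  exact hu.mul_right_eq_zero.mp this

open Polynomial

lemma smul_eq_of_sq {R : Type u} [CommRing R] {f : R} (a b : R) (h : a - b ∈ Ideal.span {f}) :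
    Ideal.Quotient.mk (Ideal.span {f} ^ 2) (f * a) = Ideal.Quotient.mk _ (f * b) := by
  rw [Ideal.Quotient.eq, ← mul_sub, pow_two]
  exact Ideal.mul_mem_mul (Ideal.mem_span_singleton_self f) h

lemma formallySmooth_quotient {k P : Type u} [Field k] [CommRing P] [Algebra k P]
    [Algebra.FormallySmooth k P] (I : Ideal P) (h : P →ₐ[k] P ⧸ I ^ 2) (hI : ∀ x ∈ I, h x = 0)
    (hh : ∀ p, Ideal.Quotient.factor (Ideal.pow_le_self two_ne_zero) (h p) = Ideal.Quotient.mk I p) :
    Algebra.FormallySmooth k (P ⧸ I) := by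
  have hk : RingHom.ker (Ideal.Quotient.mkₐ k I).toRingHom = I := Ideal.mk_ker
  let j : (P ⧸ I ^ 2) →ₐ[k] P ⧸ RingHom.ker (Ideal.Quotient.mkₐ k I).toRingHom ^ 2 :=
    Ideal.Quotient.factorₐ k (by rw [hk])
  refine Algebra.FormallySmooth.of_split (Ideal.Quotient.mkₐ k I)
    (j.comp (Ideal.Quotient.liftₐ I h hI)) ?_
  apply Ideal.Quotient.algHom_ext
  ext p
  obtain ⟨q, hq⟩ := Ideal.Quotient.mk_surjective (h p)
  have := hh p
  rw [← hq, Ideal.Quotient.factor_mk] at this
  show AlgHom.kerSquareLift _ (j (h p)) = Ideal.Quotient.mk I p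
  rw [← hq, ← this]
  rfl

lemma quotient_of_adjoinRoot {k A : Type u} [Field k] [CommRing A] [Algebra k A]
    [Algebra.FormallySmooth k A] (s : A) (e : ℕ) (he : 2 ≤ e)
    [Algebra.FormallySmooth k (AdjoinRoot (X ^ e - C s))] :
    Algebra.FormallySmooth k (A ⧸ Ideal.span {s}) := by
  let f : A[X] := X ^ e - C s
  let π : A[X] →ₐ[k] AdjoinRoot f := (AdjoinRoot.mkₐ f).restrictScalars k
  have hπ : Function.Surjective π := AdjoinRoot.mk_surjective
  have : Algebra.FormallySmooth k A[X] := Algebra.FormallySmooth.comp k A A[X]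
  obtain ⟨g, hg⟩ := (Algebra.FormallySmooth.iff_split_surjection π hπ).mp ‹_›
  have hk : RingHom.ker π.toRingHom = Ideal.span {f} := Ideal.ext fun x => by
    show AdjoinRoot.mk f x = 0 ↔ _
    rw [AdjoinRoot.mk_eq_zero, Ideal.mem_span_singleton]
  let ev : A[X] →ₐ[k] A := (aeval (0 : A)).restrictScalars k
  have hevf : ev f = -s := by simp [ev, f, zero_pow (by omega : e ≠ 0)]
  let ev2 : (A[X] ⧸ RingHom.ker π.toRingHom ^ 2) →ₐ[k] A ⧸ Ideal.span {s} ^ 2 :=
    Ideal.Quotient.liftₐ _ ((Ideal.Quotient.mkₐ k _).comp ev) (by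
      intro a ha
      rw [hk, Ideal.span_singleton_pow, Ideal.mem_span_singleton] at ha
      obtain ⟨c, rfl⟩ := ha
      show Ideal.Quotient.mk _ (ev (f ^ 2 * c)) = 0
      rw [Ideal.Quotient.eq_zero_iff_mem, map_mul, map_pow, hevf, neg_sq]
      exact Ideal.mul_mem_right _ _ (Ideal.pow_mem_pow (Ideal.mem_span_singleton_self s) 2))
  have key : ∀ p : A[X], Ideal.Quotient.factor (Ideal.pow_le_self two_ne_zero) (ev2 (g (π p))) =
      Ideal.Quotient.mk (Ideal.span {s}) (ev p) := by
    intro p
    obtain ⟨q, hq⟩ := Ideal.Quotient.mk_surjective (g (π p))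
    have h1 : π q = π p := by
      have := DFunLike.congr_fun hg (π p)
      rw [AlgHom.comp_apply, ← hq] at this
      exact this
    rw [← hq]
    show Ideal.Quotient.mk _ (ev q) = _
    rw [Ideal.Quotient.eq, ← map_sub]
    have h2 : q - p ∈ RingHom.ker π.toRingHom := by
      show π (q - p) = 0
      rw [map_sub, h1, sub_self]
    rw [hk, Ideal.mem_span_singleton] at h2
    obtain ⟨c, hc⟩ := h2
    rw [hc, map_mul, hevf, neg_mul]
    exact neg_mem (Ideal.mul_mem_right _ _ (Ideal.mem_span_singleton_self s))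
  let h : A →ₐ[k] A ⧸ Ideal.span {s} ^ 2 :=
    ev2.comp (g.comp (π.comp (IsScalarTower.toAlgHom k A A[X])))
  refine formallySmooth_quotient (Ideal.span {s}) h (fun x hx => ?_) fun a => ?_
  · obtain ⟨c, rfl⟩ := Ideal.mem_span_singleton.mp hx
    have hX : (ev2 (g (π X))) ^ 2 = 0 := by
      obtain ⟨q, hq⟩ := Ideal.Quotient.mk_surjective (ev2 (g (π X)))
      have := key X
      rw [← hq, Ideal.Quotient.factor_mk, show ev X = 0 by simp [ev], map_zero,
        Ideal.Quotient.eq_zero_iff_mem] at this
      rw [← hq, ← map_pow, Ideal.Quotient.eq_zero_iff_mem]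
      exact Ideal.pow_mem_pow this 2
    have hfs : π (C s) = π X ^ e := by
      have : π f = 0 := AdjoinRoot.mk_self
      rw [map_sub, map_pow, sub_eq_zero] at this
      exact this.symm
    rw [map_mul]
    show ev2 (g (π (C s))) * _ = 0
    rw [hfs, map_pow, map_pow, show e = 2 + (e - 2) by omega, pow_add, hX, zero_mul, zero_mul]
  · show Ideal.Quotient.factor _ (ev2 (g (π (C a)))) = _
    rw [key]
    simp [ev]

lemma adjoinRoot_of_quotient {k A : Type u} [Field k] [CommRing A] [Algebra k A]
    [Algebra.FormallySmooth k A] [Module.Projective A (Ω[A⁄k])] (s : A)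
    (hn : ∀ t, s * t = 0 → t = 0) (e : ℕ) (hek : (e : k) ≠ 0)
    [Algebra.FormallySmooth k (A ⧸ Ideal.span {s})] :
    Algebra.FormallySmooth k (AdjoinRoot (X ^ e - C s)) := by
  set J : Ideal A := Ideal.span {s}
  obtain ⟨σ, hσ⟩ := (Algebra.FormallySmooth.iff_split_surjection (Ideal.Quotient.mkₐ k J)
    Ideal.Quotient.mk_surjective).mp ‹_›
  have hk : RingHom.ker (Ideal.Quotient.mkₐ k J).toRingHom = J := Ideal.mk_ker
  let φ : A →ₐ[k] A ⧸ J ^ 2 :=
    (Ideal.Quotient.factorₐ k (by rw [hk])).comp (σ.comp (Ideal.Quotient.mkₐ k J))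
  have hex : ∀ a, ∃ t, Ideal.Quotient.mk (J ^ 2) (a - s * t) = φ a := by
    intro a
    obtain ⟨q, hq⟩ := Ideal.Quotient.mk_surjective (σ (Ideal.Quotient.mk J a))
    have h1 := DFunLike.congr_fun hσ (Ideal.Quotient.mk J a)
    rw [AlgHom.comp_apply, ← hq] at h1
    have h2 : a - q ∈ J := Ideal.Quotient.eq.mp (Eq.symm h1)
    obtain ⟨t, ht⟩ := Ideal.mem_span_singleton.mp h2
    refine ⟨t, ?_⟩
    rw [← ht, sub_sub_cancel]
    show _ = Ideal.Quotient.factorₐ k (show RingHom.ker (Ideal.Quotient.mkₐ k J).toRingHom ^ 2 ≤ J ^ 2 by rw [hk]) (σ (Ideal.Quotient.mk J a))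
    rw [← hq]
    rfl
  choose t ht using hex
  have huniq : ∀ a t', Ideal.Quotient.mk (J ^ 2) (a - s * t') = φ a →
      Ideal.Quotient.mk J t' = Ideal.Quotient.mk J (t a) := by
    intro a t' h
    rw [← ht a, Ideal.Quotient.eq, Ideal.span_singleton_pow, Ideal.mem_span_singleton] at h
    obtain ⟨c, hc⟩ := h
    rw [Ideal.Quotient.eq, Ideal.mem_span_singleton]
    refine ⟨-c, sub_eq_zero.mp (hn _ ?_)⟩
    linear_combination -hc
  let l : A →ₗ[k] A ⧸ J :=
    { toFun := fun a => Ideal.Quotient.mk J (t a)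
      map_add' := fun a b => by
        rw [← map_add]
        refine (huniq _ _ ?_).symm
        rw [map_add φ, ← ht a, ← ht b, ← map_add]
        congr 1
        ring
      map_smul' := fun c a => by
        rw [RingHom.id_apply, Algebra.smul_def, Algebra.smul_def, IsScalarTower.algebraMap_apply k A (A ⧸ J),
          Ideal.Quotient.algebraMap_eq, ← map_mul]
        refine (huniq _ _ ?_).symm
        rw [map_mul φ, AlgHom.commutes, ← ht a, IsScalarTower.algebraMap_apply k A (A ⧸ J ^ 2),
          Ideal.Quotient.algebraMap_eq, ← map_mul]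
        congr 1
        ring }
  let δ : Derivation k A (A ⧸ J) := Derivation.mk' l fun a b => by
    show Ideal.Quotient.mk J (t (a * b)) =
      a • Ideal.Quotient.mk J (t b) + b • Ideal.Quotient.mk J (t a)
    rw [Algebra.smul_def, Algebra.smul_def, Ideal.Quotient.algebraMap_eq, ← map_mul, ← map_mul,
      ← map_add]
    refine (huniq _ _ ?_).symm
    rw [map_mul φ, ← ht a, ← ht b, ← map_mul, Ideal.Quotient.eq, Ideal.span_singleton_pow,
      Ideal.mem_span_singleton]
    exact ⟨-(t a * t b), by ring⟩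
  obtain ⟨L, hL⟩ := Module.projective_lifting_property (Ideal.Quotient.mkₐ A J).toLinearMap
    (-δ).liftKaehlerDifferential Ideal.Quotient.mk_surjective
  let D : Derivation k A A := L.compDer (KaehlerDifferential.D k A)
  have hD : ∀ a, Ideal.Quotient.mk J (D a) = -Ideal.Quotient.mk J (t a) := by
    intro a
    have := LinearMap.congr_fun hL (KaehlerDifferential.D k A a)
    rw [Derivation.liftKaehlerDifferential_comp_D] at this
    exact this
  have hts : Ideal.Quotient.mk J (t s) = 1 := by
    rw [← map_one (Ideal.Quotient.mk J)]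
    refine (huniq _ _ ?_).symm
    show _ = Ideal.Quotient.factorₐ k (show RingHom.ker (Ideal.Quotient.mkₐ k J).toRingHom ^ 2 ≤ J ^ 2 by rw [hk]) (σ (Ideal.Quotient.mk J s))
    rw [Ideal.Quotient.eq_zero_iff_mem.mpr (Ideal.mem_span_singleton_self s), map_zero, map_zero,
      mul_one, sub_self, map_zero]
  obtain ⟨a, ha⟩ : ∃ a, D s + 1 = s * a := by
    refine Ideal.mem_span_singleton.mp (Ideal.Quotient.eq_zero_iff_mem.mp ?_)
    rw [map_add, hD, hts, map_one, neg_add_cancel]
  let f : A[X] := X ^ e - C s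
  let I : Ideal A[X] := Ideal.span {f}
  let q := Ideal.Quotient.mk (I ^ 2)
  have hff : q f * q f = 0 := by
    rw [← map_mul, Ideal.Quotient.eq_zero_iff_mem, ← pow_two]
    exact Ideal.pow_mem_pow (Ideal.mem_span_singleton_self f) 2
  let H : A →ₐ[k] A[X] ⧸ I ^ 2 :=
    { toFun := fun x => q (C x) - q f * q (C (D x))
      map_one' := by simp [D.map_one_eq_zero]
      map_mul' := fun x y => by
        rw [D.leibniz, smul_eq_mul, smul_eq_mul]
        simp only [map_add, map_mul]
        linear_combination -(q (C (D x)) * q (C (D y))) * hff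
      map_zero' := by simp
      map_add' := fun x y => by simp only [map_add]; ring
      commutes' := fun c => by
        show q (C (algebraMap k A c)) - q f * q (C (D (algebraMap k A c))) = _
        rw [D.map_algebraMap, map_zero, map_zero, mul_zero, sub_zero]
        rfl }
  let ie : A := algebraMap k A (e : k)⁻¹
  have hie : (e : A) * ie = 1 := by
    rw [← map_natCast (algebraMap k A), ← map_mul, mul_inv_cancel₀ hek, map_one]
  let xv : A[X] ⧸ I ^ 2 := q X * (1 + -(q f * q (C (a * ie))))
  let hP : A[X] →ₐ[k] A[X] ⧸ I ^ 2 :=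
    { toRingHom := eval₂RingHom H.toRingHom xv
      commutes' := fun c => by
        show eval₂ H.toRingHom xv (C (algebraMap k A c)) = _
        rw [eval₂_C]
        exact H.commutes c }
  have hpow : ∀ n : ℕ, ∀ z : A[X] ⧸ I ^ 2, (1 + -(q f * z)) ^ n = 1 + -((n : A[X] ⧸ I ^ 2) * (q f * z)) := by
    intro n z
    induction n with
    | zero => simp
    | succ n ih =>
      rw [pow_succ (1 + -(q f * z)) n, ih]
      push_cast
      linear_combination ((n : A[X] ⧸ I ^ 2) * z * z) * hff
  have hf : hP f = 0 := by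
    show eval₂ H.toRingHom xv (X ^ e - C s) = 0
    rw [eval₂_sub, eval₂_pow, eval₂_X, eval₂_C]
    show xv ^ e - (q (C s) - q f * q (C (D s))) = 0
    rw [mul_pow, hpow, show D s = s * a - 1 from eq_sub_of_add_eq ha]
    have he1 : (e : A[X] ⧸ I ^ 2) * q (C (a * ie)) = q (C a) := by
      rw [← map_natCast (q.comp C), RingHom.comp_apply, ← map_mul, ← map_mul, mul_left_comm, hie, mul_one]
    have hfd : q f = q X ^ e - q (C s) := by simp [f]
    simp only [map_sub, map_mul, map_one] at *
    linear_combination (-(q X ^ e) * q f) * he1 - hfd - (q (C a)) * hff + (q f * q (C a)) * hfd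
  have h2 : (Ideal.Quotient.factor (Ideal.pow_le_self two_ne_zero) :
      A[X] ⧸ I ^ 2 →+* A[X] ⧸ I).comp hP.toRingHom = Ideal.Quotient.mk I := by
    have hf0 : Ideal.Quotient.mk I f = 0 :=
      Ideal.Quotient.eq_zero_iff_mem.mpr (Ideal.mem_span_singleton_self f)
    refine Polynomial.ringHom_ext (fun x => ?_) ?_
    · show Ideal.Quotient.factor (Ideal.pow_le_self two_ne_zero : I ^ 2 ≤ I) (eval₂ H.toRingHom xv (C x)) = _
      rw [eval₂_C]
      show Ideal.Quotient.factor (Ideal.pow_le_self two_ne_zero : I ^ 2 ≤ I) (q (C x) - q f * q (C (D x))) = _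
      simp only [map_sub, map_mul, q, Ideal.Quotient.factor_mk, hf0, zero_mul, sub_zero]
    · show Ideal.Quotient.factor (Ideal.pow_le_self two_ne_zero : I ^ 2 ≤ I) (eval₂ H.toRingHom xv X) = _
      rw [eval₂_X]
      simp only [xv, map_mul, map_add, map_neg, map_one, q, Ideal.Quotient.factor_mk, hf0,
        zero_mul, neg_zero, add_zero, mul_one]
  have : Algebra.FormallySmooth k A[X] := Algebra.FormallySmooth.comp k A A[X]
  have : Algebra.FormallySmooth k (A[X] ⧸ I) := formallySmooth_quotient I hP (fun x hx => by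
      obtain ⟨c, rfl⟩ := Ideal.mem_span_singleton.mp hx
      rw [map_mul, hf, zero_mul]) fun p => RingHom.congr_fun h2 p
  exact Algebra.FormallySmooth.of_equiv (AlgEquiv.ofBijective
    (Ideal.Quotient.liftₐ I ((AdjoinRoot.mkₐ f).restrictScalars k) (fun x hx => by
      obtain ⟨c, rfl⟩ := Ideal.mem_span_singleton.mp hx
      exact AdjoinRoot.mk_eq_zero.mpr (dvd_mul_right _ _)))
    ⟨(injective_iff_map_eq_zero _).mpr fun x hx => by
      obtain ⟨p, rfl⟩ := Ideal.Quotient.mk_surjective x
      exact Ideal.Quotient.eq_zero_iff_mem.mpr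
        (Ideal.mem_span_singleton.mpr (AdjoinRoot.mk_eq_zero.mp hx)),
    fun y => by
      obtain ⟨p, rfl⟩ := AdjoinRoot.mk_surjective y
      exact ⟨Ideal.Quotient.mk I p, rfl⟩⟩)

/-- Let k be a field, A a smooth k-algebra, s an irreducible element of A and e an integer, at least 2,
that is invertible in k. Then the k-algebra A[t]/(t^e - s) is smooth exactly when the quotient ring
A/(s) is a smooth k-algebra. (Smooth over k means formally smooth and of finite presentation over
k.) -/
theorem result (k A : Type u) [Field k] [CommRing A] [Algebra k A]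
    [Algebra.Smooth k A] (s : A) (hs : Irreducible s) (e : ℕ) (he : 2 ≤ e) (hek : (e : k) ≠ 0) :
    Algebra.Smooth k (AdjoinRoot (Polynomial.X ^ e - Polynomial.C s)) ↔
      Algebra.Smooth k (A ⧸ Ideal.span {s}) := by
  constructor
  · intro h
    have : Algebra.FormallySmooth k (A ⧸ Ideal.span {s}) := quotient_of_adjoinRoot s e he
    have : IsNoetherianRing A := Algebra.FiniteType.isNoetherianRing k A
    have : Algebra.FinitePresentation k (A ⧸ Ideal.span {s}) :=
      Algebra.FinitePresentation.quotient (IsNoetherian.noetherian _ : _)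
    exact ⟨inferInstance, inferInstance⟩
  · intro h
    have : Algebra.FormallySmooth k (AdjoinRoot (Polynomial.X ^ e - Polynomial.C s)) :=
      adjoinRoot_of_quotient s (fun t ht => nzd (k := k) hs ht) e hek
    have : Algebra.FinitePresentation k (AdjoinRoot (Polynomial.X ^ e - Polynomial.C s)) :=
      Algebra.FinitePresentation.of_finiteType.mp inferInstance
    exact ⟨inferInstance, inferInstance⟩

end Groth.Agent.S13782
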