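import Groth.Statements.S13783
import Mathlib

set_option autoImplicit false
universe u
open Curves

namespace Groth.Agent.S13783

open scoped Matrix LinearAlgebra.Projectivization
open W4c1stackycurves

variable {k K : Type u} [Field k] [Field K] [Algebra k K]

abbrev P1 (K : Type u) [Field K] := Projectivization K (Fin 2 → K)

theorem galP_rep (σ : K ≃ₐ[k] K) {x y : P1 K} (h : galP σ x = y) :
    ∃ c : K, c ≠ 0 ∧ (σ : K → K) ∘ x.rep = c • y.rep := by
  have h1 : galP σ x = Projectivization.mk K ((σ : K → K) ∘ x.rep)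
      (fun h0 ↦ x.rep_nonzero (galVec_injective σ (Fin 2) (h0.trans (map_zero _).symm))) := by
    conv_lhs => rw [← x.mk_rep]
    rfl
  rw [h1] at h
  conv_rhs at h => rw [← y.mk_rep]
  obtain ⟨c, hc⟩ := (Projectivization.mk_eq_mk_iff _ _ _ _ _).mp h
  exact ⟨c, c.ne_zero, hc.symm⟩

theorem indep_rep {x y : P1 K} (h : x ≠ y) : LinearIndependent K ![x.rep, y.rep] := by
  rw [← Projectivization.independent_pair_iff_ne] at h
  have := Projectivization.independent_iff.mp h
  have e : Projectivization.rep ∘ ![x, y] = ![x.rep, y.rep] := by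
    ext i; fin_cases i <;> rfl
  rw [e] at this
  exact this

theorem exists_coord {x y z : P1 K} (hxy : x ≠ y) (hxz : x ≠ z) (hyz : y ≠ z) :
    ∃ a b : K, a ≠ 0 ∧ b ≠ 0 ∧ z.rep = a • x.rep + b • y.rep := by
  have hs : z.rep ∈ Submodule.span K (Set.range ![x.rep, y.rep]) := by
    rw [(indep_rep hxy).span_eq_top_of_card_eq_finrank (by simp)]; trivial
  obtain ⟨c, hc⟩ := (Submodule.mem_span_range_iff_exists_fun K).mp hs
  simp only [Fin.sum_univ_two, Matrix.cons_val_zero, Matrix.cons_val_one] at hc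
  refine ⟨c 0, c 1, fun h0 ↦ hyz ?_, fun h1 ↦ hxz ?_, hc.symm⟩
  · rw [h0, zero_smul, zero_add] at hc
    rw [← y.mk_rep, ← z.mk_rep, eq_comm, Projectivization.mk_eq_mk_iff']
    exact ⟨c 1, hc⟩
  · rw [h1, zero_smul, add_zero] at hc
    rw [← x.mk_rep, ← z.mk_rep, eq_comm, Projectivization.mk_eq_mk_iff']
    exact ⟨c 0, hc⟩

/-- `M` maps the point `x` into the line `y`. -/
def Sends (M : Matrix (Fin 2) (Fin 2) K) (x y : P1 K) : Prop :=
  ∃ c : K, M *ᵥ x.rep = c • y.rep

theorem exists_sends (x y : Fin 3 → P1 K) (hx : x.Injective) (hy : y.Injective) :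
    ∃ M : Matrix (Fin 2) (Fin 2) K, M.det ≠ 0 ∧ ∀ i, Sends M (x i) (y i) := by
  obtain ⟨a, b, ha, hb, hab⟩ := exists_coord (hx.ne (by decide : (0 : Fin 3) ≠ 1))
    (hx.ne (by decide : (0 : Fin 3) ≠ 2)) (hx.ne (by decide : (1 : Fin 3) ≠ 2))
  obtain ⟨p, q, hp, hq, hpq⟩ := exists_coord (hy.ne (by decide : (0 : Fin 3) ≠ 1))
    (hy.ne (by decide : (0 : Fin 3) ≠ 2)) (hy.ne (by decide : (1 : Fin 3) ≠ 2))
  let bx := basisOfLinearIndependentOfCardEqFinrank
    (indep_rep (hx.ne (by decide : (0 : Fin 3) ≠ 1))) (by simp)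
  let by' := basisOfLinearIndependentOfCardEqFinrank
    (indep_rep (hy.ne (by decide : (0 : Fin 3) ≠ 1))) (by simp)
  have hu : ∀ i, IsUnit (![p / a, q / b] i) := by
    intro i; fin_cases i <;> simp [ha, hb, hp, hq]
  let e : (Fin 2 → K) ≃ₗ[K] (Fin 2 → K) :=
    bx.equiv (by'.isUnitSMul hu) (Equiv.refl _)
  have he0 : e (x 0).rep = (p / a) • (y 0).rep := by
    have : bx 0 = (x 0).rep := by simp [bx]
    rw [← this]
    simp [e, by', Module.Basis.isUnitSMul_apply]
  have he1 : e (x 1).rep = (q / b) • (y 1).rep := by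
    have : bx 1 = (x 1).rep := by simp [bx]
    rw [← this]
    simp [e, by', Module.Basis.isUnitSMul_apply]
  refine ⟨LinearMap.toMatrix' e.toLinearMap, ?_, fun i ↦ ?_⟩
  · rw [LinearMap.det_toMatrix']
    exact e.isUnit_det'.ne_zero
  · show ∃ c, _ = _
    simp only [LinearMap.toMatrix'_mulVec, LinearEquiv.coe_coe]
    fin_cases i
    · exact ⟨_, he0⟩
    · exact ⟨_, he1⟩
    · refine ⟨1, ?_⟩
      show e (x 2).rep = (1 : K) • (y 2).rep
      rw [hab, map_add, map_smul, map_smul, he0, he1, smul_smul, smul_smul, one_smul, hpq,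
        mul_div_cancel₀ p ha, mul_div_cancel₀ q hb]

theorem sends_unique (x y : Fin 3 → P1 K) (hx : x.Injective) (hy : y.Injective)
    {M N : Matrix (Fin 2) (Fin 2) K} (hM : M.det ≠ 0) (h : ∀ i, Sends M (x i) (y i))
    (h' : ∀ i, Sends N (x i) (y i)) : ∃ c : K, N = c • M := by
  obtain ⟨a, b, ha, hb, hab⟩ := exists_coord (hx.ne (by decide : (0 : Fin 3) ≠ 1))
    (hx.ne (by decide : (0 : Fin 3) ≠ 2)) (hx.ne (by decide : (1 : Fin 3) ≠ 2))
  obtain ⟨p, q, hp, hq, hpq⟩ := exists_coord (hy.ne (by decide : (0 : Fin 3) ≠ 1))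
    (hy.ne (by decide : (0 : Fin 3) ≠ 2)) (hy.ne (by decide : (1 : Fin 3) ≠ 2))
  choose c hc using h
  choose d hd using h'
  have hind := indep_rep (hy.ne (by decide : (0 : Fin 3) ≠ 1))
  have key : ∀ {T : Matrix (Fin 2) (Fin 2) K} {e : Fin 3 → K},
      (∀ i, T *ᵥ (x i).rep = e i • (y i).rep) → e 0 * a = e 2 * p ∧ e 1 * b = e 2 * q := by
    intro T e he
    have := he 2
    rw [hab, hpq, Matrix.mulVec_add, Matrix.mulVec_smul, Matrix.mulVec_smul, he 0, he 1,
      smul_add, smul_smul, smul_smul, smul_smul, smul_smul] at this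
    have h2 := LinearIndependent.pair_iff.mp hind (e 0 * a - e 2 * p) (e 1 * b - e 2 * q)
      (by linear_combination (norm := module) this)
    exact ⟨sub_eq_zero.mp h2.1, sub_eq_zero.mp h2.2⟩
  obtain ⟨hc0, hc1⟩ := key hc
  obtain ⟨hd0, hd1⟩ := key hd
  have hc2 : c 2 ≠ 0 := by
    intro h0
    refine (x 2).rep_nonzero (Matrix.eq_zero_of_mulVec_eq_zero hM ?_)
    rw [hc 2, h0, zero_smul]
  refine ⟨d 2 / c 2, ?_⟩
  apply Matrix.ext_of_mulVec_single
  intro i
  suffices ∀ v, N *ᵥ v = ((d 2 / c 2) • M) *ᵥ v from this _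
  intro v
  have hv : v ∈ Submodule.span K (Set.range ![(x 0).rep, (x 1).rep]) := by
    rw [(indep_rep (hx.ne (by decide : (0 : Fin 3) ≠ 1))).span_eq_top_of_card_eq_finrank (by simp)]
    trivial
  obtain ⟨w, rfl⟩ := (Submodule.mem_span_range_iff_exists_fun K).mp hv
  simp only [Fin.sum_univ_two, Matrix.cons_val_zero, Matrix.cons_val_one, Matrix.mulVec_add,
    Matrix.mulVec_smul, Matrix.smul_mulVec, hc 0, hc 1, hd 0, hd 1, smul_smul]
  have e0 : d 0 = d 2 / c 2 * c 0 := by
    field_simp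
    apply mul_right_cancel₀ ha
    linear_combination c 2 * hd0 - d 2 * hc0
  have e1 : d 1 = d 2 / c 2 * c 1 := by
    field_simp
    apply mul_right_cancel₀ hb
    linear_combination c 2 * hd1 - d 2 * hc1
  rw [e0, e1]

/-- Galois-compatible triples are exchanged by an element of `GL₂(k)`. -/
theorem exists_gl_of_triple [FiniteDimensional k K] [IsGalois k K] (x y : Fin 3 → P1 K)
    (hx : x.Injective) (hy : y.Injective)
    (hgal : ∀ σ : K ≃ₐ[k] K, ∃ π : Fin 3 → Fin 3, ∀ i,
      galP σ (x i) = x (π i) ∧ galP σ (y i) = y (π i)) :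
    ∃ g : Matrix.GeneralLinearGroup (Fin 2) k, ∀ i,
      (Matrix.GeneralLinearGroup.toLin (Matrix.GeneralLinearGroup.map (algebraMap k K) g)) • x i
        = y i := by
  obtain ⟨M₀, hM₀, hs₀⟩ := exists_sends x y hx hy
  obtain ⟨i₀, j₀, hij⟩ : ∃ i j, M₀ i j ≠ 0 := by
    by_contra! h
    exact hM₀ (by rw [show M₀ = 0 from Matrix.ext h, Matrix.det_zero])
  let M := (M₀ i₀ j₀)⁻¹ • M₀
  have hM : M.det ≠ 0 := by
    simp only [M, Matrix.det_smul]
    exact mul_ne_zero (pow_ne_zero _ (inv_ne_zero hij)) hM₀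
  have hs : ∀ i, Sends M (x i) (y i) := fun i ↦ by
    obtain ⟨c, hc⟩ := hs₀ i
    exact ⟨(M₀ i₀ j₀)⁻¹ * c, by rw [Matrix.smul_mulVec, hc, smul_smul]⟩
  have hfix : ∀ (σ : K ≃ₐ[k] K) i j, σ (M i j) = M i j := by
    intro σ
    obtain ⟨π, hπ⟩ := hgal σ
    have : RingHomInvPair (σ : K →+* K) (σ.symm : K →+* K) :=
      ⟨RingHom.ext σ.symm_apply_apply, RingHom.ext σ.apply_symm_apply⟩
    have hπi : Function.Injective π := fun i j h ↦ by
      apply hx
      apply Projectivization.map_injective (τ := (σ.symm : K →+* K)) (galVec σ (Fin 2))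
        (galVec_injective σ (Fin 2))
      exact (hπ i).1.trans ((congrArg x h).trans (hπ j).1.symm)
    obtain ⟨c, hc⟩ := sends_unique x y hx hy hM hs (N := M.map σ) fun i ↦ by
      obtain ⟨j, rfl⟩ := (Finite.injective_iff_surjective.mp hπi) i
      obtain ⟨a, ha0, ha⟩ := galP_rep σ (hπ j).1
      obtain ⟨b, hb0, hb⟩ := galP_rep σ (hπ j).2
      obtain ⟨d, hd⟩ := hs j
      have h1 : M.map σ *ᵥ ((σ : K → K) ∘ (x j).rep) = σ d • ((σ : K → K) ∘ (y j).rep) := by
        ext l
        have := RingHom.map_mulVec (σ : K →+* K) M (x j).rep l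
        rw [hd] at this
        simp only [Pi.smul_apply, smul_eq_mul, Function.comp_apply]
        rw [← map_mul]
        exact this.symm
      rw [ha, hb, Matrix.mulVec_smul] at h1
      refine ⟨a⁻¹ * (σ d * b), ?_⟩
      rw [mul_smul, mul_smul, ← h1, inv_smul_smul₀ ha0]
    have h1 : M i₀ j₀ = 1 := by simp [M, hij]
    have h2 := congrFun (congrFun hc i₀) j₀
    rw [Matrix.map_apply, Matrix.smul_apply, h1, map_one, smul_eq_mul, mul_one] at h2
    intro i j
    have h3 := congrFun (congrFun hc i) j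
    rwa [← h2, one_smul, Matrix.map_apply] at h3
  have hmem : ∀ i j, ∃ r : k, algebraMap k K r = M i j := fun i j ↦
    IntermediateField.mem_bot.mp ((IsGalois.mem_bot_iff_fixed _).mpr fun σ ↦ hfix σ i j)
  choose N hN using hmem
  have hNM : (Matrix.of N).map (algebraMap k K) = M := Matrix.ext hN
  have hNdet : (Matrix.of N).det ≠ 0 := fun h0 ↦ hM (by
    rw [← hNM]
    exact ((algebraMap k K).map_det (Matrix.of N)).symm.trans (by rw [h0, map_zero]))
  refine ⟨Matrix.GeneralLinearGroup.mkOfDetNeZero _ hNdet, fun i ↦ ?_⟩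
  obtain ⟨c, hc⟩ := hs i
  rw [← (x i).mk_rep, ← (y i).mk_rep, Projectivization.smul_mk, Projectivization.mk_eq_mk_iff']
  refine ⟨c, ?_⟩
  rw [← hc, ← hNM]
  rfl

theorem exists_extend (n : ℕ) (hn : n ≤ 3) (x y : Fin n → P1 K)
    (hx : x.Injective) (hy : y.Injective)
    (hgal : ∀ σ : K ≃ₐ[k] K, ∃ π : Fin n → Fin n, ∀ i,
      galP σ (x i) = x (π i) ∧ galP σ (y i) = y (π i)) :
    ∃ x' y' : Fin 3 → P1 K, x'.Injective ∧ y'.Injective ∧
      (∀ σ : K ≃ₐ[k] K, ∃ π : Fin 3 → Fin 3, ∀ i,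
        galP σ (x' i) = x' (π i) ∧ galP σ (y' i) = y' (π i)) ∧
      ∀ i, ∃ j, x' j = x i ∧ y' j = y i := by
  obtain ⟨d, hd⟩ : ∃ d, n + d = 3 := ⟨3 - n, by omega⟩
  induction d generalizing n with
  | zero =>
    obtain rfl : n = 3 := by omega
    exact ⟨x, y, hx, hy, hgal, fun i ↦ ⟨i, rfl, rfl⟩⟩
  | succ d ih =>
    let v : Fin 3 → Fin 2 → K := ![![1, 0], ![0, 1], ![1, 1]]
    have hv : ∀ j, v j ≠ 0 := fun j h0 ↦ by
      have a0 := congrFun h0 0; have a1 := congrFun h0 1
      fin_cases j <;> simp [v] at a0 a1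
    let r : Fin 3 → P1 K := fun j ↦ Projectivization.mk K (v j) (hv j)
    have hr : Function.Injective r := by
      intro i j h
      obtain ⟨a, ha⟩ := (Projectivization.mk_eq_mk_iff' _ _ _ _ _).mp h
      have a0 := congrFun ha 0; have a1 := congrFun ha 1
      fin_cases i <;> fin_cases j <;> simp [v] at a0 a1 ⊢ <;> simp_all
    have hrfix : ∀ (σ : K ≃ₐ[k] K) j, galP σ (r j) = r j := by
      intro σ j
      have : (σ : K → K) ∘ v j = v j := by
        ext l; fin_cases j <;> fin_cases l <;> simp [v]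
      refine (Projectivization.mk_eq_mk_iff' _ _ _ _ _).mpr ⟨1, ?_⟩
      rw [one_smul]
      exact this.symm
    have hfresh : ∀ z : Fin n → P1 K, ∃ j, ∀ i, z i ≠ r j := by
      intro z
      by_contra! h
      choose f hf using h
      have hf' : Function.Injective f := fun i j h ↦ hr (by rw [← hf i, ← hf j, h])
      have := Fintype.card_le_of_injective f hf'
      simp at this; omega
    obtain ⟨jx, hjx⟩ := hfresh x
    obtain ⟨jy, hjy⟩ := hfresh y
    have hgal' : ∀ σ : K ≃ₐ[k] K, ∃ π : Fin (n + 1) → Fin (n + 1), ∀ i,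
        galP σ (Fin.snoc (α := fun _ ↦ P1 K) x (r jx) i) =
            Fin.snoc (α := fun _ ↦ P1 K) x (r jx) (π i) ∧
          galP σ (Fin.snoc (α := fun _ ↦ P1 K) y (r jy) i) =
            Fin.snoc (α := fun _ ↦ P1 K) y (r jy) (π i) := by
      intro σ
      obtain ⟨π, hπ⟩ := hgal σ
      refine ⟨Fin.snoc (fun i ↦ (π i).castSucc) (Fin.last n), fun i ↦ ?_⟩
      induction i using Fin.lastCases with
      | last => simp [hrfix]
      | cast i => simp [hπ i]
    obtain ⟨x', y', h1, h2, h3, h4⟩ := ih (n + 1) (by omega) _ _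
      (Fin.snoc_injective_iff.mpr ⟨hx, fun ⟨i, h⟩ ↦ hjx i h⟩)
      (Fin.snoc_injective_iff.mpr ⟨hy, fun ⟨i, h⟩ ↦ hjy i h⟩) hgal' (by omega)
    exact ⟨x', y', h1, h2, h3, fun i ↦ by simpa using h4 i.castSucc⟩


/-- Let k be a field and K a finite Galois extension of k. Let S be a finite set of at most three
K-points of the projective line that is stable under the Galois group of K over k, and let b be a
Galois-equivariant bijection from S onto another set S' of K-points. Then some element of GL_2(k)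
maps S onto S'. (This is the statement that two closed subschemes of the projective line over k
which are etale over k of the same degree at most 3 and have isomorphic k-algebras of functions are
exchanged by a k-automorphism of the line, written for their sets of points over a finite Galois
extension K of k splitting both; an isomorphism of the function algebras is the same as a
Galois-equivariant bijection of these point sets.) -/
theorem result (k K : Type u) [Field k] [Field K]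
    [Algebra k K] [FiniteDimensional k K] [IsGalois k K]
    (S S' : Set (Projectivization K (Fin 2 → K))) (hfin : S.Finite) (h3 : S.ncard ≤ 3)
    (hS : ∀ (σ : K ≃ₐ[k] K) (x : Projectivization K (Fin 2 → K)), x ∈ S → W4c1stackycurves.galP σ x ∈ S)
    (b : S ≃ S')
    (hb : ∀ (σ : K ≃ₐ[k] K) (x : S),
      (b ⟨W4c1stackycurves.galP σ x.1, hS σ x.1 x.2⟩ : Projectivization K (Fin 2 → K)) =
        W4c1stackycurves.galP σ (b x).1) :
    ∃ g : Matrix.GeneralLinearGroup (Fin 2) k,
      (fun x => (Matrix.GeneralLinearGroup.toLin ((Matrix.GeneralLinearGroup.map (algebraMap k K)) g)) • x) '' S = S' := by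
  have := hfin.to_subtype
  let e : S ≃ Fin S.ncard := (Finite.equivFinOfCardEq (Nat.card_coe_set_eq S))
  obtain ⟨x, y, hx, hy, hgal, hcov⟩ := exists_extend (k := k) S.ncard h3
    (fun i ↦ (e.symm i).1) (fun i ↦ (b (e.symm i)).1)
    (Subtype.val_injective.comp e.symm.injective)
    (Subtype.val_injective.comp (b.injective.comp e.symm.injective))
    (fun σ ↦ ⟨fun i ↦ e ⟨_, hS σ _ (e.symm i).2⟩, fun i ↦ by simp [hb σ (e.symm i)]⟩)
  obtain ⟨g, hg⟩ := exists_gl_of_triple x y hx hy hgal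
  refine ⟨g, Set.Subset.antisymm ?_ ?_⟩
  · rintro _ ⟨z, hz, rfl⟩
    obtain ⟨j, hjx, hjy⟩ := hcov (e ⟨z, hz⟩)
    simp only [Equiv.symm_apply_apply] at hjx hjy
    show _ • z ∈ S'
    rw [← hjx, hg j, hjy]
    exact (b _).2
  · intro w hw
    obtain ⟨z, hz⟩ := b.surjective ⟨w, hw⟩
    obtain ⟨j, hjx, hjy⟩ := hcov (e z)
    simp only [Equiv.symm_apply_apply, hz] at hjx hjy
    refine ⟨z.1, z.2, ?_⟩
    show _ • z.1 = w
    rw [← hjx, hg j, hjy]

end Groth.Agent.S13783
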