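import Groth.Statements.S13786
import Mathlib.RingTheory.Flat.TorsionFree
import Mathlib.RingTheory.Flat.FaithfullyFlat.Algebra
import Mathlib.RingTheory.TensorProduct.MvPolynomial
import Mathlib.RingTheory.Polynomial.UniqueFactorization
import Mathlib.Algebra.MvPolynomial.NoZeroDivisors
import Mathlib.LinearAlgebra.Matrix.MvPolynomial


set_option autoImplicit false
universe u
open CAlg

open TensorProduct

namespace Groth.Agent.S13786

theorem flat_int (n : ℕ) :
    Module.Flat ℤ (MvPolynomial (Fin n × Fin n) ℤ ⧸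
      Ideal.span {(Matrix.mvPolynomialX (Fin n) (Fin n) ℤ).det}) := by
  set d := (Matrix.mvPolynomialX (Fin n) (Fin n) ℤ).det with hd
  rw [IsDedekindDomain.flat_iff_torsion_eq_bot, eq_bot_iff]
  rintro x ⟨⟨m, hm⟩, hmx⟩
  have hm0 : m ≠ 0 := nonZeroDivisors.ne_zero hm
  obtain ⟨f, rfl⟩ := Ideal.Quotient.mk_surjective x
  have h1 : MvPolynomial.C m * f ∈ Ideal.span {d} := by
    rw [← Ideal.Quotient.eq_zero_iff_mem, map_mul]
    change m • Ideal.Quotient.mk (Ideal.span {d}) f = 0 at hmx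
    rw [zsmul_eq_mul] at hmx
    simpa using hmx
  obtain ⟨g, hg⟩ := Ideal.mem_span_singleton'.mp h1
  have hrel : IsRelPrime (MvPolynomial.C m) d := fun c hc hcd => by
    obtain ⟨b, -, rfl⟩ := (MvPolynomial.dvd_C_iff_exists hm0).mp hc
    have h2 := map_dvd (MvPolynomial.aeval (R := ℤ) (fun p : Fin n × Fin n => if p.1 = p.2 then (1 : ℤ) else 0)) hcd
    rw [hd, AlgHom.map_det] at h2
    have : (MvPolynomial.aeval (R := ℤ) (fun p : Fin n × Fin n => if p.1 = p.2 then (1 : ℤ) else 0)).mapMatrix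
        (Matrix.mvPolynomialX (Fin n) (Fin n) ℤ) = 1 := by
      ext i j
      simp [Matrix.one_apply]
    rw [this, Matrix.det_one, MvPolynomial.aeval_C] at h2
    exact (isUnit_of_dvd_one (by simpa using h2)).map MvPolynomial.C
  obtain ⟨g', rfl⟩ := hrel.dvd_of_dvd_mul_right (Dvd.intro f hg.symm)
  have hf : f = g' * d := by
    have h3 : MvPolynomial.C m * f = MvPolynomial.C m * (g' * d) := by rw [← hg, mul_assoc]
    exact mul_left_cancel₀ (by simpa using hm0) h3
  rw [Submodule.mem_bot, Ideal.Quotient.eq_zero_iff_mem]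
  exact Ideal.mem_span_singleton'.mpr ⟨g', hf.symm⟩



/-- For a commutative ring A and n ≥ 1, with det the determinant of the generic n × n matrix in the
polynomial ring A[X] in n² indeterminates, the A-algebra A[X]/(det) is faithfully flat over A. (For
n = 0 the determinant is 1 and the quotient is the zero ring, so n ≥ 1 is required.) -/
theorem result (A : Type u) [CommRing A] (n : ℕ) (hn : 0 < n) :
    Module.FaithfullyFlat A
      (MvPolynomial (Fin n × Fin n) A ⧸ Ideal.span {(Matrix.mvPolynomialX (Fin n) (Fin n) A).det}) := by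
  let P := MvPolynomial (Fin n × Fin n) ℤ
  let dZ : P := (Matrix.mvPolynomialX (Fin n) (Fin n) ℤ).det
  let dA := (Matrix.mvPolynomialX (Fin n) (Fin n) A).det
  let Q := P ⧸ Ideal.span {dZ}
  let R := MvPolynomial (Fin n × Fin n) A ⧸ Ideal.span {dA}
  have := flat_int n
  have hmap : MvPolynomial.map (algebraMap ℤ A) dZ = dA := by
    simp only [dZ, dA, RingHom.map_det]
    congr 1
    ext i j
    simp
  let ι : Q →ₐ[ℤ] R := Ideal.Quotient.liftₐ _
    (((Ideal.Quotient.mkₐ A (Ideal.span {dA})).restrictScalars ℤ).comp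
      (MvPolynomial.mapAlgHom (Algebra.ofId ℤ A))) (fun a ha => by
      obtain ⟨c, rfl⟩ := Ideal.mem_span_singleton'.mp ha
      simp only [AlgHom.comp_apply, map_mul]
      refine mul_eq_zero_of_right _ ?_
      change Ideal.Quotient.mk _ (MvPolynomial.map (algebraMap ℤ A) dZ) = 0
      rw [hmap]
      exact Ideal.Quotient.eq_zero_iff_mem.mpr (Ideal.mem_span_singleton_self _))
  let φ : A ⊗[ℤ] Q →ₐ[A] R := Algebra.TensorProduct.lift (Algebra.ofId A R) ι (fun a q => Commute.all _ _)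
  let ψ' : MvPolynomial (Fin n × Fin n) A →ₐ[A] A ⊗[ℤ] Q :=
    MvPolynomial.aeval fun p => (1 : A) ⊗ₜ[ℤ] (Ideal.Quotient.mkₐ ℤ (Ideal.span {dZ}) (MvPolynomial.X p))
  have hψ' : ∀ z : P, ψ' (MvPolynomial.map (algebraMap ℤ A) z) = (1 : A) ⊗ₜ Ideal.Quotient.mk _ z := by
    intro z
    have : (ψ'.restrictScalars ℤ).comp (MvPolynomial.mapAlgHom (Algebra.ofId ℤ A)) =
        (Algebra.TensorProduct.includeRight (R := ℤ) (A := A) (B := Q)).comp (Ideal.Quotient.mkₐ ℤ _) :=
      MvPolynomial.algHom_ext fun p => by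
        change ψ' (MvPolynomial.map (algebraMap ℤ A) (MvPolynomial.X p)) = _
        simp [ψ']; rfl
    exact DFunLike.congr_fun this z
  let ψ : R →ₐ[A] A ⊗[ℤ] Q := Ideal.Quotient.liftₐ _ ψ' (fun a ha => by
    obtain ⟨c, rfl⟩ := Ideal.mem_span_singleton'.mp ha
    rw [map_mul, ← hmap, hψ', Ideal.Quotient.eq_zero_iff_mem.mpr (Ideal.mem_span_singleton_self _),
      TensorProduct.tmul_zero]
    exact mul_zero (ψ' c))
  have hφ : ∀ p, φ ((1 : A) ⊗ₜ Ideal.Quotient.mk _ (MvPolynomial.X p)) = Ideal.Quotient.mk _ (MvPolynomial.X p) := by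
    intro p
    simp only [φ, Algebra.TensorProduct.lift_tmul, map_one, one_mul]
    change Ideal.Quotient.mk _ (MvPolynomial.map (algebraMap ℤ A) (MvPolynomial.X p)) = _
    rw [MvPolynomial.map_X]
  have hψX : ∀ p, ψ (Ideal.Quotient.mk _ (MvPolynomial.X p)) = (1 : A) ⊗ₜ Ideal.Quotient.mk _ (MvPolynomial.X p) := by
    intro p
    refine (Ideal.Quotient.lift_mk _ _ _).trans ?_
    change ψ' (MvPolynomial.X p) = _
    simp [ψ']
  have h1 : φ.comp ψ = AlgHom.id A R := Ideal.Quotient.algHom_ext A (MvPolynomial.algHom_ext fun p => by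
    change φ (ψ (Ideal.Quotient.mk _ (MvPolynomial.X p))) = _
    rw [hψX]
    exact hφ p)
  have h2 : ψ.comp φ = AlgHom.id A (A ⊗[ℤ] Q) := Algebra.TensorProduct.ext_ring
    (Ideal.Quotient.algHom_ext ℤ (MvPolynomial.algHom_ext fun p => by
      change ψ (φ ((1 : A) ⊗ₜ Ideal.Quotient.mk _ (MvPolynomial.X p))) = _
      rw [hφ, hψX]
      rfl))
  let e : A ⊗[ℤ] Q ≃ₐ[A] R := AlgEquiv.ofAlgHom φ ψ h1 h2
  have : Module.Flat A R := Module.Flat.of_linearEquiv e.symm.toLinearEquiv
  refine @Module.FaithfullyFlat.of_comap_surjective A R _ _ _ this fun p => ?_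
  let ev : R →ₐ[A] A := Ideal.Quotient.liftₐ _ (MvPolynomial.aeval fun _ => (0 : A)) (fun a ha => by
    obtain ⟨c, rfl⟩ := Ideal.mem_span_singleton'.mp ha
    refine (map_mul _ _ _).trans (mul_eq_zero_of_right _ ?_)
    rw [AlgHom.map_det]
    have : (MvPolynomial.aeval fun _ => (0 : A)).mapMatrix (Matrix.mvPolynomialX (Fin n) (Fin n) A) = 0 := by
      ext i j
      simp
    rw [this]
    have : Nonempty (Fin n) := ⟨⟨0, hn⟩⟩
    exact Matrix.det_zero)
  refine ⟨PrimeSpectrum.comap ev.toRingHom p, ?_⟩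
  ext1
  simp [Ideal.comap_comap]

end Groth.Agent.S13786
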