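import Groth.Statements.S13789
import Mathlib.RingTheory.Localization.FractionRing

set_option autoImplicit false
universe u
open CAlg

namespace Groth.Agent.S13789

/-- Let A be a commutative ring with total ring of fractions Q and let B be a ring with A ⊆ B ⊆ Q. Then
the inclusion A ⊆ B carries nonzerodivisors of A to nonzerodivisors of B, and every nonzerodivisor
of B has the form r/u with r and u nonzerodivisors of A. -/
theorem result {A Q : Type u} [CommRing A] [CommRing Q] [Algebra A Q] [IsFractionRing A Q] (B : Subalgebra A Q) :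
    (∀ a : A, a ∈ nonZeroDivisors A → algebraMap A B a ∈ nonZeroDivisors B) ∧
    (∀ b : B, b ∈ nonZeroDivisors B → ∃ r u : A, r ∈ nonZeroDivisors A ∧ u ∈ nonZeroDivisors A ∧
      (b : Q) * algebraMap A Q u = algebraMap A Q r) := by
  refine ⟨fun a ha => ?_, fun b hb => ?_⟩
  · rw [mem_nonZeroDivisors_iff_right]
    intro x hx
    have hu : IsUnit (algebraMap A Q a) := IsLocalization.map_units Q ⟨a, ha⟩
    have h := congrArg (fun z : B => (z : Q)) hx
    simp only [Subalgebra.coe_mul, Subalgebra.coe_algebraMap, ZeroMemClass.coe_zero] at h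
    exact Subtype.ext (hu.mul_left_eq_zero.mp h)
  · obtain ⟨⟨r, u⟩, hru⟩ := IsLocalization.surj (nonZeroDivisors A) (b : Q)
    refine ⟨r, u, ?_, u.2, hru⟩
    rw [mem_nonZeroDivisors_iff_right]
    intro a ha
    have h : (algebraMap A B a * algebraMap A B (u : A)) * b = 0 := by
      apply Subtype.ext
      simp only [Subalgebra.coe_mul, Subalgebra.coe_algebraMap, ZeroMemClass.coe_zero]
      rw [mul_assoc, mul_comm _ (b : Q), hru, ← map_mul, ha, map_zero]
    have h' := congrArg (fun z : B => (z : Q)) (mem_nonZeroDivisors_iff_right.mp hb _ h)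
    simp only [Subalgebra.coe_mul, Subalgebra.coe_algebraMap, ZeroMemClass.coe_zero, ← map_mul] at h'
    have h'' : a * (u : A) = 0 := IsFractionRing.injective A Q (by rw [h', map_zero])
    exact mem_nonZeroDivisors_iff_right.mp u.2 a h''

end Groth.Agent.S13789
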