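import Groth.Statements.S13790
import Groth.Agent.S13789

set_option autoImplicit false
universe u
open CAlg

namespace Groth.Agent.S13790

/-- Let A be a commutative ring with total ring of fractions Q and let B be a ring with A ⊆ B ⊆ Q. Then
Q, with the inclusion B ⊆ Q, is the total ring of fractions of B. -/
theorem result {A Q : Type u} [CommRing A] [CommRing Q] [Algebra A Q] [IsFractionRing A Q] (B : Subalgebra A Q) :
    IsFractionRing B Q := by
  have hB := @Groth.Agent.S13789.result A Q _ _ _ _ B
  exact
  { map_units := fun b => by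
      obtain ⟨r, u, hr, hu, h⟩ := hB.2 b.1 b.2
      have hur : IsUnit ((b.1 : Q) * algebraMap A Q u) := by
        rw [h]; exact IsLocalization.map_units Q ⟨r, hr⟩
      exact (IsUnit.mul_iff.mp hur).1
    surj := fun q => by
      obtain ⟨⟨r, u⟩, hru⟩ := IsLocalization.surj (nonZeroDivisors A) q
      exact ⟨⟨algebraMap A B r, ⟨algebraMap A B u.1, hB.1 u.1 u.2⟩⟩, hru⟩
    exists_of_eq := fun {x y} h => ⟨1, by rw [Subtype.ext h]⟩ }

end Groth.Agent.S13790
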