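import Groth.Statements.S13792
import Groth.Agent.Lib.CDivInt.Dim1
import Mathlib.AlgebraicGeometry.Morphisms.QuasiFinite

set_option autoImplicit false
universe u
open CategoryTheory AlgebraicGeometry
open Curves

namespace Groth.Agent.S13792

open Groth.Agent AlgebraicGeometry CategoryTheory
set_option linter.style.haveILetI false

/-- Let k be a field and E an integral k-scheme of finite type whose underlying space has dimension 1,
and let ι : G → E be a closed immersion. Then either ι is an isomorphism or G is finite over k. (The
published statement is about a closed subgroup scheme of an elliptic curve and its proof states this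
fact for E geometrically integral; this row assumes only that E is integral.) -/
theorem result {k : Type u} [Field k]
    {E G : Scheme.{u}} (f : E ⟶ Spec (CommRingCat.of k)) [LocallyOfFiniteType f] [QuasiCompact f]
    [IsIntegral E] (hdim : topologicalKrullDim ↥E = 1) (ι : G ⟶ E) [IsClosedImmersion ι] :
    IsIso ι ∨ IsFinite (ι ≫ f) :=  by
  classical
  haveI : IsLocallyNoetherian E := LocallyOfFiniteType.isLocallyNoetherian f
  haveI : CompactSpace E := QuasiCompact.compactSpace_of_compactSpace f
  haveI : IsNoetherian E := AlgebraicGeometry.IsNoetherian.mk
  by_cases hη : genericPoint E ∈ Set.range ι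
  · left
    haveI : Surjective ι := ⟨fun x => by
      have hcl : closure ({genericPoint E} : Set E) ⊆ Set.range ι :=
        closure_minimal (Set.singleton_subset_iff.2 hη) ι.isClosedEmbedding.isClosed_range
      exact hcl ((genericPoint_spec E).specializes trivial).mem_closure⟩
    exact isIso_of_isClosedImmersion_of_surjective ι
  · right
    haveI : T1Space G := ⟨fun g => by
      have hne : ι g ≠ genericPoint E := fun e => hη ⟨g, e⟩
      have h := Lib.CDivInt.isClosed_singleton_of_ne_genericPoint hdim.le hne
      have e : ({g} : Set G) = ι ⁻¹' {ι g} := by
        ext y
        exact ⟨fun hy => by rw [hy]; rfl, fun hy => ι.isClosedEmbedding.injective hy⟩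
      rw [e]
      exact h.preimage ι.continuous⟩
    haveI : IsLocallyNoetherian G := LocallyOfFiniteType.isLocallyNoetherian (ι ≫ f)
    haveI : CompactSpace G := QuasiCompact.compactSpace_of_compactSpace (ι ≫ f)
    haveI : IsNoetherian G := AlgebraicGeometry.IsNoetherian.mk
    have hfin : (Set.univ : Set G).Finite := by
      obtain ⟨S, hS, hc, hi, hu⟩ := TopologicalSpace.NoetherianSpace.exists_finite_set_isClosed_irreducible
        (s := (Set.univ : Set G)) isClosed_univ
      rw [hu]
      refine Set.Finite.sUnion hS fun t ht => ?_
      have h := (hi t ht).isGenericPoint_genericPoint (hc t ht)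
      rw [← h.def, closure_singleton]
      exact Set.finite_singleton _
    haveI : LocallyQuasiFinite (ι ≫ f) :=
      (AlgebraicGeometry.locallyQuasiFinite_iff_finite_preimage_singleton).2 fun x => hfin.subset (Set.subset_univ _)
    exact IsFinite.of_locallyQuasiFinite _

end Groth.Agent.S13792
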