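import Groth.Statements.S13794
import Mathlib.Tactic.LinearCombination
import Mathlib.Tactic.FieldSimp
import Mathlib.Tactic.Ring
import Mathlib.Algebra.Polynomial.Coeff

set_option autoImplicit false
universe u
open Polynomial
open Curves

namespace Groth.Agent.S13794

/-- Let k be a field of characteristic not 3 and β ∈ k. If a line ax + by + c = 0 with a³ ≠ b³ is the
tangent line at a flex point of the affine cubic x³ + y³ + β = 3xy, then β is a cube in k. Here the
line is normalised to b ≠ 0 (the roles of x and y are symmetric) and the flex-tangency is expressed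
by the restriction of the cubic to the line being λ (x − x₀)³. -/
theorem result {k : Type u} [Field k] (h3 : (3 : k) ≠ 0)
    (β a b c : k) (hb : b ≠ 0) (hab : a ^ 3 ≠ b ^ 3) (lam x₀ : k)
    (hflex : (X : k[X]) ^ 3 + (C (-a / b) * X + C (-c / b)) ^ 3 + C β - 3 * X * (C (-a / b) * X + C (-c / b)) =
      C lam * (X - C x₀) ^ 3) :
    ∃ γ : k, β = γ ^ 3 := by
  set m := -a / b with hm
  set q := -c / b with hq
  have hm3 : 1 + m ^ 3 ≠ 0 := by
    intro h
    apply hab
    have hbm : b * m = -a := by rw [hm]; field_simp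
    linear_combination congr($hbm ^ 3) - b ^ 3 * h
  have e : (1 + m ^ 3 = lam) ∧ (3 * m ^ 2 * q - 3 * m = -3 * lam * x₀) ∧
      (3 * m * q ^ 2 - 3 * q = 3 * lam * x₀ ^ 2) ∧ (q ^ 3 + β = -(lam * x₀ ^ 3)) := by
    have hpoly : C (1 + m ^ 3) * X ^ 3 + C (3 * m ^ 2 * q - 3 * m) * X ^ 2 +
        C (3 * m * q ^ 2 - 3 * q) * X + C (q ^ 3 + β) =
        C lam * X ^ 3 + C (-3 * lam * x₀) * X ^ 2 + C (3 * lam * x₀ ^ 2) * X + C (-(lam * x₀ ^ 3)) := by
      simp only [map_add, map_sub, map_mul, map_pow, map_neg, map_one, map_ofNat] at hflex ⊢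
      linear_combination hflex
    have hcoef : ∀ A3 A2 A1 A0 B3 B2 B1 B0 : k, C A3 * X ^ 3 + C A2 * X ^ 2 + C A1 * X + C A0 =
        C B3 * X ^ 3 + C B2 * X ^ 2 + C B1 * X + C B0 → A3 = B3 ∧ A2 = B2 ∧ A1 = B1 ∧ A0 = B0 := by
      intro A3 A2 A1 A0 B3 B2 B1 B0 h
      exact ⟨by simpa [Polynomial.coeff_add, Polynomial.coeff_C_mul, Polynomial.coeff_X_pow, Polynomial.coeff_X, Polynomial.coeff_C] using congr(Polynomial.coeff $h 3),
        by simpa [Polynomial.coeff_add, Polynomial.coeff_C_mul, Polynomial.coeff_X_pow, Polynomial.coeff_X, Polynomial.coeff_C] using congr(Polynomial.coeff $h 2),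
        by simpa [Polynomial.coeff_add, Polynomial.coeff_C_mul, Polynomial.coeff_X_pow, Polynomial.coeff_X, Polynomial.coeff_C] using congr(Polynomial.coeff $h 1),
        by simpa [Polynomial.coeff_add, Polynomial.coeff_C_mul, Polynomial.coeff_X_pow, Polynomial.coeff_X, Polynomial.coeff_C] using congr(Polynomial.coeff $h 0)⟩
    exact hcoef _ _ _ _ _ _ _ _ hpoly
  obtain ⟨e3, e2, e1, e0⟩ := e
  have hl : lam ≠ 0 := e3 ▸ hm3
  have e2' : lam * x₀ = m * (1 - m * q) :=
    mul_left_cancel₀ h3 (by linear_combination e2)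
  have e1' : q * (m * q - 1) = lam * x₀ ^ 2 :=
    mul_left_cancel₀ h3 (by linear_combination e1)
  by_cases hmq : 1 - m * q = 0
  · have hx : x₀ = 0 := (mul_eq_zero.mp (e2'.trans (by rw [hmq, mul_zero]))).resolve_left hl
    exact ⟨-q, by subst hx; linear_combination e0⟩
  · have hq' : q = -m ^ 2 := by
      have h : lam * (q * (m * q - 1)) = m ^ 2 * (1 - m * q) ^ 2 := by
        linear_combination lam * e1' + (lam * x₀ + m * (1 - m * q)) * e2'
      have h' : -(lam * q) = m ^ 2 * (1 - m * q) :=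
        mul_right_cancel₀ hmq (by linear_combination h)
      linear_combination -h' + q * e3
    have hx : x₀ = m := mul_left_cancel₀ hl (by
      rw [e2', hq']; linear_combination m * e3)
    exact ⟨-m, by rw [hx, hq'] at e0; linear_combination e0 + m ^ 3 * e3⟩

end Groth.Agent.S13794
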