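import Groth.Statements.S13795
import Groth.Agent.Lib.Brauer.EndMorita

set_option autoImplicit false
universe u
open TensorProduct
open Brauer

namespace Groth.Agent.S13795

/-- In the case of an affine scheme — let A be a commutative ring, F and G finitely generated projective
A-modules of everywhere positive rank, and φ an A-algebra isomorphism from End_A(F) to End_A(G).
Then there are an invertible A-module L and an A-linear isomorphism ξ : F ⊗ L ≅ G which induces φ:
for every endomorphism f of F, φ(f) = ξ ∘ (f ⊗ 1) ∘ ξ⁻¹. (The published statement is for finite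
locally free modules of positive rank on any locally ringed site; this row is the case of the
Zariski site of Spec A, written in terms of modules.) -/
theorem result (A : Type u) [CommRing A]
    (F G : Type u) [AddCommGroup F] [Module A F] [Module.Finite A F] [Module.Projective A F] [Module.FaithfullyFlat A F]
    [AddCommGroup G] [Module A G] [Module.Finite A G] [Module.Projective A G] [Module.FaithfullyFlat A G]
    (φ : Module.End A F ≃ₐ[A] Module.End A G) :
    ∃ (L : Type u) (_ : AddCommGroup L) (_ : Module A L), Module.Invertible A L ∧
      ∃ ξ : F ⊗[A] L ≃ₗ[A] G, ∀ f : Module.End A F, φ f = ξ.conj (TensorProduct.map f LinearMap.id) := by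
  have hfs : ∀ (M : Type u) [AddCommGroup M] [Module A M] [Module.FaithfullyFlat A M], FaithfulSMul A M := by
    intro M _ _ _
    refine ⟨fun {a b} h => sub_eq_zero.mp ?_⟩
    have h0 : (a - b) • (LinearMap.id : A →ₗ[A] A) = 0 := by
      rw [Module.FaithfullyFlat.zero_iff_lTensor_zero A M]
      ext x
      show x ⊗ₜ[A] ((a - b) • (1 : A)) = 0
      rw [← TensorProduct.smul_tmul, sub_smul, h, sub_self, TensorProduct.zero_tmul]
    simpa using LinearMap.congr_fun h0 1
  haveI := hfs F
  exact ⟨Groth.Agent.Lib.Brauer.EndMorita.eqv φ, inferInstance, inferInstance,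
    Groth.Agent.Lib.Brauer.EndMorita.invertible φ,
    LinearEquiv.ofBijective _ (Groth.Agent.Lib.Brauer.EndMorita.ev_bijective φ),
    fun f => Groth.Agent.Lib.Brauer.EndMorita.conj_eq φ f⟩

end Groth.Agent.S13795
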