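import Groth.Statements.S1380
import Groth.Agent.H26.EtaleSplit
import Groth.Agent.H56.SepExt


set_option autoImplicit false
set_option maxHeartbeats 1000000
set_option linter.all false
universe u
open FlatMor
open Groth.Agent.H26.EtaleSplit

namespace Groth.Agent.S1380

open TensorProduct in
/-- Let R → S be integral and p a prime of R with only finitely many primes of S above it, such that for
each of them the separable closure of κ(p) in its residue field is finite over κ(p). Then there are
an étale R-algebra R' and a prime p' of R' over p such that R' ⊗ S is a finite product of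
R'-algebras, each integral over R' with exactly one prime over p', whose residue field is purely
inseparable over κ(p'). -/
theorem result {R S : Type u} [CommRing R] [CommRing S] [Algebra R S] [Algebra.IsIntegral R S]
    (p : Ideal R) [p.IsPrime] (hfin : {q : PrimeSpectrum S | q.asIdeal.comap (algebraMap R S) = p}.Finite)
    (hsep : ∀ (q : PrimeSpectrum S) (hq : q.asIdeal.comap (algebraMap R S) = p),
      letI := (Ideal.ResidueField.map p q.asIdeal (algebraMap R S) hq.symm).toAlgebra
      Module.Finite p.ResidueField (separableClosure p.ResidueField q.asIdeal.ResidueField)) :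
    ∃ (R' : Type u) (_ : CommRing R') (_ : Algebra R R') (p' : PrimeSpectrum R'), Algebra.Etale R R' ∧ p'.asIdeal.comap (algebraMap R R') = p ∧
      ∃ (m : ℕ) (A : Fin m → Type u) (_ : ∀ j, CommRing (A j)) (_ : ∀ j, Algebra R' (A j)) (e : R' ⊗[R] S ≃ₐ[R'] (Π j, A j)),
        ∀ j, Algebra.IsIntegral R' (A j) ∧ ∃ (r : PrimeSpectrum (A j)) (hr : r.asIdeal.comap (algebraMap R' (A j)) = p'.asIdeal),
          (∀ r' : PrimeSpectrum (A j), r'.asIdeal.comap (algebraMap R' (A j)) = p'.asIdeal → r' = r) ∧
          letI := (Ideal.ResidueField.map p'.asIdeal r.asIdeal (algebraMap R' (A j)) hr.symm).toAlgebra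
          IsPurelyInseparable p'.asIdeal.ResidueField r.asIdeal.ResidueField := by
  classical
  by_cases hS : {q : PrimeSpectrum S | q.asIdeal.comap (algebraMap R S) = p}.Nonempty
  swap
  · have hk : ¬ RingHom.ker (algebraMap R S) ≤ p := fun h => hS <| by
      obtain ⟨Q, -, hQ, hQc⟩ := Ideal.exists_ideal_over_prime_of_isIntegral p (⊥ : Ideal S)
        (by rwa [← RingHom.ker_eq_comap_bot])
      exact ⟨⟨Q, hQ⟩, hQc⟩
    obtain ⟨f, hfS, hfp⟩ := SetLike.not_le_iff_exists.mp hk
    have hd : Disjoint (Submonoid.powers f : Set R) p := by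
      rwa [Ideal.disjoint_powers_iff_notMem_of_isPrime]
    have : Subsingleton (Localization.Away f ⊗[R] S) := by
      refine ⟨fun a b => ?_⟩
      have hu : IsUnit (algebraMap (Localization.Away f) (Localization.Away f ⊗[R] S)
          (algebraMap R _ f)) := (IsLocalization.Away.algebraMap_isUnit f).map _
      have h0 : algebraMap (Localization.Away f) (Localization.Away f ⊗[R] S)
          (algebraMap R _ f) = 0 := by
        rw [Algebra.TensorProduct.algebraMap_apply, Algebra.algebraMap_self, RingHom.id_apply,
          Algebra.TensorProduct.tmul_one_eq_one_tmul, RingHom.mem_ker.mp hfS,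
          TensorProduct.tmul_zero]
      rw [h0, isUnit_zero_iff] at hu
      exact eq_of_zero_eq_one hu a b
    let e : Localization.Away f ⊗[R] S ≃ₐ[Localization.Away f] (Π j : Fin 0, PUnit.{u + 1}) :=
      AlgEquiv.ofBijective
        { toFun := fun _ => 0, map_one' := Subsingleton.elim _ _,
          map_mul' := fun _ _ => Subsingleton.elim _ _, map_zero' := rfl,
          map_add' := fun _ _ => Subsingleton.elim _ _, commutes' := fun _ => Subsingleton.elim _ _ }
        ⟨fun a b _ => Subsingleton.elim a b, fun y => ⟨0, Subsingleton.elim _ _⟩⟩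
    exact ⟨Localization.Away f, inferInstance, inferInstance,
      ⟨p.map (algebraMap R _), IsLocalization.isPrime_of_isPrime_disjoint (.powers f) _ p ‹_› hd⟩,
      inferInstance, IsLocalization.under_map_of_isPrime_disjoint (.powers f) _ ‹_› hd, 0,
      fun _ => PUnit.{u + 1}, fun _ => inferInstance, fun _ => inferInstance, e, fun j => j.elim0⟩
  obtain ⟨k, _, _, _, _, hk⟩ := exists_galois p hfin hsep
  have hev : ∀ z : p.ResidueField, ∃ a b, algebraMap R p.ResidueField b ≠ 0 ∧
      z * algebraMap R p.ResidueField b = algebraMap R p.ResidueField a := by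
    intro z
    obtain ⟨a, b, hb, rfl⟩ := IsFractionRing.div_surjective (A := R ⧸ p) z
    obtain ⟨a, rfl⟩ := Ideal.Quotient.mk_surjective a
    obtain ⟨b, rfl⟩ := Ideal.Quotient.mk_surjective b
    have hb' : algebraMap R p.ResidueField b ≠ 0 := by
      rw [Ne, Ideal.algebraMap_residueField_eq_zero, ← Ideal.Quotient.eq_zero_iff_mem]
      exact nonZeroDivisors.ne_zero hb
    refine ⟨a, b, hb', ?_⟩
    simp only [← Ideal.Quotient.algebraMap_eq, ← IsScalarTower.algebraMap_apply]
    exact div_mul_cancel₀ _ hb'
  obtain ⟨R₁, _, _, _, φ, hφ, hgen⟩ :=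
    H56.SepExt.exists_standardEtale (algebraMap R p.ResidueField) hev k
  obtain ⟨p₁, _, θ, hp₁, hθ⟩ := exists_etale_residueField p k hev R₁ φ hφ hgen
  have hfin₁ := finite_primesOver_tensor p hfin R₁ p₁ hp₁
  have hne₁ : (p₁.primesOver (R₁ ⊗[R] S)).Nonempty := by
    obtain ⟨q, hq⟩ := hS
    letI := (Ideal.ResidueField.map p p₁ (algebraMap R R₁) hp₁.symm).toAlgebra
    letI := (Ideal.ResidueField.map p q.asIdeal (algebraMap R S) hq.symm).toAlgebra
    have : IsScalarTower R p.ResidueField p₁.ResidueField :=
      .of_algebraMap_eq fun a => by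
        rw [RingHom.algebraMap_toAlgebra, Ideal.ResidueField.map_algebraMap,
          ← IsScalarTower.algebraMap_apply]
    have : IsScalarTower R p.ResidueField q.asIdeal.ResidueField :=
      .of_algebraMap_eq fun a => by
        rw [RingHom.algebraMap_toAlgebra, Ideal.ResidueField.map_algebraMap,
          ← IsScalarTower.algebraMap_apply]
    obtain ⟨M, hM⟩ :=
      Ideal.exists_maximal (p₁.ResidueField ⊗[p.ResidueField] q.asIdeal.ResidueField)
    let f : R₁ ⊗[R] S →ₐ[R] p₁.ResidueField ⊗[p.ResidueField] q.asIdeal.ResidueField :=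
      Algebra.TensorProduct.lift
        ((Algebra.TensorProduct.includeLeft (R := p.ResidueField) (S := R)
          (A := p₁.ResidueField) (B := q.asIdeal.ResidueField)).comp
            (IsScalarTower.toAlgHom R R₁ p₁.ResidueField))
        ((Algebra.TensorProduct.includeRight.restrictScalars R).comp
          (IsScalarTower.toAlgHom R S q.asIdeal.ResidueField))
        (fun _ _ => Commute.all _ _)
    refine ⟨M.comap f.toRingHom, inferInstance, ⟨?_⟩⟩
    ext x
    change x ∈ p₁ ↔ f (algebraMap R₁ (R₁ ⊗[R] S) x) ∈ M
    have hfx : f (algebraMap R₁ (R₁ ⊗[R] S) x) =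
        (algebraMap R₁ p₁.ResidueField x) ⊗ₜ 1 := by
      simp [f, Algebra.TensorProduct.algebraMap_apply]
    rw [hfx, ← Ideal.algebraMap_residueField_eq_zero (I := p₁)]
    refine ⟨fun h => by simp [h], fun h => by_contra fun h0 => hM.ne_top ?_⟩
    exact Ideal.eq_top_of_isUnit_mem _ h
      ((isUnit_iff_ne_zero.mpr h0).map (Algebra.TensorProduct.includeLeft
        (R := p.ResidueField) (S := p.ResidueField) (A := p₁.ResidueField)
        (B := q.asIdeal.ResidueField)))
  obtain ⟨R', _, _, _, P, _, _, m, g, hg, hW⟩ :=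
    exists_split (R₁ := R₁) (S₁ := R₁ ⊗[R] S) p₁ hfin₁ hne₁
  letI : Algebra R R' := Algebra.compHom R' (algebraMap R R₁)
  have : IsScalarTower R R₁ R' := .of_algebraMap_eq' rfl
  let T := R' ⊗[R₁] (R₁ ⊗[R] S)
  let A : Fin m → Type u := fun j => T ⧸ Ideal.span {1 - g j}
  let e : R' ⊗[R] S ≃ₐ[R'] (Π j, A j) :=
    (Algebra.TensorProduct.cancelBaseChange R R₁ R' R' S).symm.trans
      (AlgEquiv.ofBijective (AlgHom.pi fun j => Ideal.Quotient.mkₐ R' (Ideal.span {1 - g j}))
        hg.bijective_pi)
  refine ⟨R', inferInstance, inferInstance, ⟨P, inferInstance⟩, Algebra.Etale.comp R R₁ R', ?_,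
    m, A, fun j => inferInstance, fun j => inferInstance, e, fun j => ⟨?_, ?_⟩⟩
  · rw [IsScalarTower.algebraMap_eq R R₁ R', ← Ideal.comap_comap]
    exact (congrArg (Ideal.comap (algebraMap R R₁)) (P.over_def p₁).symm).trans hp₁
  · exact Algebra.IsIntegral.of_surjective (Ideal.Quotient.mkₐ R' _)
      (Ideal.Quotient.mkₐ_surjective R' _)
  obtain ⟨W, ⟨hWp, hWo, hWg⟩, huniq⟩ := hW j
  have hle : Ideal.span {1 - g j} ≤ W := by
    rw [Ideal.span_singleton_le_iff_mem]
    refine (hWp.mem_or_mem (show g j * (1 - g j) ∈ W from ?_)).resolve_left hWg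
    rw [mul_sub, mul_one, (hg.idem j).eq, sub_self]
    exact W.zero_mem
  let r : PrimeSpectrum (A j) := ⟨W.map (Ideal.Quotient.mk _),
    Ideal.map_isPrime_of_surjective Ideal.Quotient.mk_surjective (by rwa [Ideal.mk_ker])⟩
  have hrW : r.asIdeal.comap (Ideal.Quotient.mk (Ideal.span {1 - g j})) = W := by
    rw [Ideal.comap_map_of_surjective _ Ideal.Quotient.mk_surjective, ← RingHom.ker_eq_comap_bot,
      Ideal.mk_ker]
    exact sup_eq_left.mpr hle
  have hr : r.asIdeal.comap (algebraMap R' (A j)) = P := by
    rw [hWo.over, Ideal.under, ← hrW, Ideal.comap_comap]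
    rfl
  refine ⟨r, hr, fun r' hr' => ?_, ?_⟩
  · have h' : r'.asIdeal.comap (Ideal.Quotient.mk (Ideal.span {1 - g j})) = W := by
      refine huniq _ ⟨inferInstance, ⟨?_⟩, fun h => ?_⟩
      · rw [Ideal.under, Ideal.comap_comap]
        exact hr'.symm
      · rw [Ideal.mem_comap] at h
        have h1 : Ideal.Quotient.mk (Ideal.span {1 - g j}) (g j) = 1 :=
          (Ideal.Quotient.eq.mpr (Ideal.mem_span_singleton_self _)).symm
        exact r'.isPrime.one_notMem (h1 ▸ h)
    exact PrimeSpectrum.ext
      (Ideal.comap_injective_of_surjective _ Ideal.Quotient.mk_surjective (h'.trans hrW.symm))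
  have : r.asIdeal.IsPrime := r.isPrime
  letI := (Ideal.ResidueField.map P r.asIdeal (algebraMap R' (A j)) hr.symm).toAlgebra
  let q := ringExpChar p.ResidueField
  have hcomp : ∀ x : R', algebraMap (A j) r.asIdeal.ResidueField (algebraMap R' (A j) x) =
      algebraMap P.ResidueField r.asIdeal.ResidueField (algebraMap R' P.ResidueField x) := by
    intro x
    rw [RingHom.algebraMap_toAlgebra, Ideal.ResidueField.map_algebraMap]
  let μ : T →+* r.asIdeal.ResidueField :=
    (algebraMap (A j) r.asIdeal.ResidueField).comp (Ideal.Quotient.mk _)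
  let ι : k →+* r.asIdeal.ResidueField :=
    ((algebraMap P.ResidueField r.asIdeal.ResidueField).comp
      (Ideal.ResidueField.map p₁ P (algebraMap R₁ R') (P.over_def p₁))).comp θ
  have hι : ∀ x : k, ι x ∈ (algebraMap P.ResidueField r.asIdeal.ResidueField).range :=
    fun x => ⟨_, rfl⟩
  let ψ : S →+* r.asIdeal.ResidueField :=
    μ.comp (Algebra.TensorProduct.includeRight.toRingHom.comp
      Algebra.TensorProduct.includeRight.toRingHom)
  have hψ : ∀ a : R, ψ (algebraMap R S a) =
      ι (algebraMap p.ResidueField k (algebraMap R p.ResidueField a)) := by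
    intro a
    change μ (Algebra.TensorProduct.includeRight
      (Algebra.TensorProduct.includeRight (R := R) (A := R₁) (algebraMap R S a))) =
        algebraMap P.ResidueField _ (Ideal.ResidueField.map p₁ P (algebraMap R₁ R')
          (P.over_def p₁) (θ _))
    rw [← hθ, Ideal.ResidueField.map_algebraMap, ← hcomp, AlgHom.commutes,
      IsScalarTower.algebraMap_apply R R₁ (R₁ ⊗[R] S), AlgHom.commutes,
      IsScalarTower.algebraMap_apply R₁ R' T]
    rfl
  have : ExpChar P.ResidueField q := expChar_of_injective_ringHom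
    (((Ideal.ResidueField.map p₁ P (algebraMap R₁ R') (P.over_def p₁)).comp θ).comp
      (algebraMap p.ResidueField k)).injective q
  have htop : ∀ x : r.asIdeal.ResidueField,
      x ∈ perfectClosure P.ResidueField r.asIdeal.ResidueField := by
    have hrange : ∀ x : R', μ (algebraMap R' T x) ∈
        perfectClosure P.ResidueField r.asIdeal.ResidueField := fun x => by
      rw [show μ (algebraMap R' T x) = _ from hcomp x]
      exact IntermediateField.algebraMap_mem _ _
    have hT : ∀ z : T, μ z ∈ perfectClosure P.ResidueField r.asIdeal.ResidueField := by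
      intro z
      induction z using TensorProduct.induction_on with
      | zero => rw [map_zero]; exact zero_mem _
      | add a b ha hb => rw [map_add]; exact add_mem ha hb
      | tmul a b =>
        rw [show a ⊗ₜ[R₁] b = algebraMap R' T a * Algebra.TensorProduct.includeRight b by
          simp [T, Algebra.TensorProduct.algebraMap_apply], map_mul]
        refine mul_mem (hrange a) ?_
        induction b using TensorProduct.induction_on with
        | zero => rw [map_zero, map_zero]; exact zero_mem _
        | add a b ha hb => rw [map_add, map_add]; exact add_mem ha hb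
        | tmul c s =>
          rw [show c ⊗ₜ[R] s = algebraMap R₁ (R₁ ⊗[R] S) c *
            Algebra.TensorProduct.includeRight s by simp [Algebra.TensorProduct.algebraMap_apply],
            map_mul, map_mul, AlgHom.commutes, IsScalarTower.algebraMap_apply R₁ R' T]
          refine mul_mem (hrange _) ((mem_perfectClosure_iff_pow_mem q).mpr ?_)
          obtain ⟨n, x, hx⟩ := exists_pow_mem_range p k hk _ ι ψ hψ s
          exact ⟨n, hx ▸ hι x⟩
    intro x
    obtain ⟨a, b, -, rfl⟩ := IsFractionRing.div_surjective (A := A j ⧸ r.asIdeal) x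
    obtain ⟨a, rfl⟩ := Ideal.Quotient.mk_surjective a
    obtain ⟨b, rfl⟩ := Ideal.Quotient.mk_surjective b
    obtain ⟨a, rfl⟩ := Ideal.Quotient.mk_surjective a
    obtain ⟨b, rfl⟩ := Ideal.Quotient.mk_surjective b
    exact div_mem (hT a) (hT b)
  exact (isPurelyInseparable_iff_pow_mem P.ResidueField q).mpr fun x =>
    (mem_perfectClosure_iff_pow_mem q).mp (htop x)

end Groth.Agent.S1380
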