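import Groth.Statements.S14625
import Groth.Agent.H88.MuLocal
import Mathlib.FieldTheory.IsSepClosed
import Mathlib.RingTheory.Polynomial.Cyclotomic.Roots

set_option autoImplicit false
open CategoryTheory AlgebraicGeometry
universe u
open EtBase

namespace Groth.Agent.S14625

/-- Let A be a strictly henselian local ring, n ≥ 1 an integer invertible in A, and X a scheme over Spec
A. Then the étale sheaf μ_n of n-th roots of unity on X is isomorphic to the constant sheaf with
value ℤ/n. Only the existence of an isomorphism is asserted; it depends on the choice of a primitive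
n-th root of unity in A. -/
theorem result (A : Type u) [CommRing A]
    (hA : EtCoh.IsStrictlyHenselianLocalRing A) (n : ℕ) (hn : 1 ≤ n) (hu : IsUnit (n : A))
    (X : Scheme.{u}) (f : X ⟶ Spec (CommRingCat.of A)) :
    Nonempty (EtCoh.mu X n ≅ EtCoh.const X (ZMod n)) := by
  obtain ⟨_, hsep⟩ := hA
  have hn0 : 0 < n := hn
  have : NeZero ((n : ℕ) : IsLocalRing.ResidueField A) := ⟨by
    rw [← map_natCast (IsLocalRing.residue A)]
    exact (IsLocalRing.residue_ne_zero_iff_isUnit _).2 hu⟩
  have : NeZero n := ⟨hn0.ne'⟩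
  obtain ⟨z, hz⟩ : ∃ z : IsLocalRing.ResidueField A, IsPrimitiveRoot z n := by
    have := hsep
    obtain ⟨z, hz⟩ := IsSepClosed.exists_root (Polynomial.cyclotomic n (IsLocalRing.ResidueField A))
      (Polynomial.degree_cyclotomic_pos n _ hn0).ne'
      (Polynomial.separable_cyclotomic n (IsLocalRing.ResidueField A))
    exact ⟨z, Polynomial.isRoot_cyclotomic_iff.1 hz⟩
  obtain ⟨a₀, rfl⟩ := IsLocalRing.residue_surjective z
  let P : Polynomial A := Polynomial.X ^ n - Polynomial.C 1
  have hP : P.Monic := Polynomial.monic_X_pow_sub_C 1 hn0.ne'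
  obtain ⟨r, hr, hra⟩ := HenselianLocalRing.is_henselian P hP a₀ (by
    rw [← IsLocalRing.residue_eq_zero_iff]
    simp [P, hz.pow_eq_one]) (by
    rw [← IsLocalRing.residue_ne_zero_iff_isUnit]
    simp [P, Polynomial.derivative_X_pow, map_natCast, NeZero.ne ((n : ℕ) : IsLocalRing.ResidueField A),
      hz.ne_zero hn0.ne'])
  have hres : IsLocalRing.residue A r = IsLocalRing.residue A a₀ := by
    rw [← sub_eq_zero, ← map_sub, IsLocalRing.residue_eq_zero_iff]
    exact hra
  have hζ : Groth.Agent.H88.Cyclotomic.IsStrongPrimitiveRoot r n := by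
    refine ⟨by simpa [P, sub_eq_zero] using hr, fun i hi hin => ?_⟩
    rw [← IsLocalRing.residue_ne_zero_iff_isUnit, map_sub, map_pow, map_one, hres, sub_ne_zero]
    exact hz.pow_ne_one_of_pos_of_lt hi.ne' hin
  let c : A →+* Γ(X, ⊤) := f.appTop.hom.comp (Scheme.ΓSpecIso (CommRingCat.of A)).inv.hom
  have huX : IsUnit (n : Γ(X, ⊤)) := by simpa using hu.map c
  obtain ⟨e⟩ := Groth.Agent.H88.MuLocal.exists_iso_const hn0 huX (EtCoh.top X) (c r) (hζ.map c)
  let α : ((EtShriek.restrAlong (EtCoh.top X).hom).obj (EtCoh.mu X n)).obj ≅ (EtCoh.mu X n).obj :=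
    NatIso.ofComponents (fun V => (EtCoh.mu X n).obj.mapIso
      (MorphismProperty.Over.isoMk (Iso.refl _)
        ((Category.id_comp _).trans (Category.comp_id _).symm) :
        (EtShriek.compEtale (EtCoh.top X).hom).obj V.unop ≅ V.unop).symm.op)
      (fun {V W} g => by
        change (EtCoh.mu X n).obj.map _ ≫ (EtCoh.mu X n).obj.map _ =
          (EtCoh.mu X n).obj.map _ ≫ (EtCoh.mu X n).obj.map _
        rw [← Functor.map_comp, ← Functor.map_comp]
        exact congrArg (EtCoh.mu X n).obj.map (Quiver.Hom.unop_inj (MorphismProperty.Over.Hom.ext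
          ((Category.id_comp _).trans (Category.comp_id _).symm))))
  exact ⟨(e ≪≫ (fullyFaithfulSheafToPresheaf _ _).preimageIso α).symm⟩

end Groth.Agent.S14625
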