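import Groth.Statements.S13800
import Groth.Agent.H61.Punctured.Main
import Groth.Agent.H88.EtMod.CurveCd
import Groth.Agent.Lib.Kummer.Basic
import Groth.Agent.S14625
import Groth.Agent.Lib.PicProj.Main
import Groth.Agent.S0236
import Mathlib.RingTheory.KrullDimension.Polynomial

set_option autoImplicit false
universe u
open CategoryTheory AlgebraicGeometry Polynomial
open EtCoh

namespace Groth.Agent.S13800

open CategoryTheory CategoryTheory.Limits AlgebraicGeometry Opposite Polynomial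

noncomputable section

open Groth.Agent.H88.EtMod in
/-- The affine line has trivial cohomology with coefficients `μ_ℓ` in positive degree. -/
theorem subsingleton_H_mu {k : Type u} [Field k] [IsAlgClosed k] (ℓ : ℕ) (hℓ : (ℓ : k) ≠ 0) (q : ℕ)
    (hq : 0 < q) : Subsingleton (EtCoh.H (Spec (CommRingCat.of k[X])) (EtCoh.mu _ ℓ) q) := by
  let W := Spec (CommRingCat.of k[X])
  let f : W ⟶ Spec (CommRingCat.of k) := Spec.map (CommRingCat.ofHom (algebraMap k k[X]))
  have hℓ0 : 0 < ℓ := Nat.pos_of_ne_zero fun h => hℓ (by simp [h])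
  haveI : LocallyOfFiniteType f := (HasRingHomProperty.Spec_iff (P := @LocallyOfFiniteType)).2
    (RingHom.finiteType_algebraMap.2 inferInstance)
  haveI : AlgebraicGeometry.IsReduced W := inferInstance
  have hdim : topologicalKrullDim ↥W ≤ 1 := by
    rw [show topologicalKrullDim ↥W = ringKrullDim k[X] from PrimeSpectrum.topologicalKrullDim_eq_ringKrullDim k[X]]
    rw [Polynomial.ringKrullDim_of_isNoetherianRing, ringKrullDim_eq_zero_of_field]
    simp
  have hinv : Dix.InvertibleOn W ℓ := fun x h => hℓ (by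
    apply ((W.residue x).hom.comp (((W.presheaf.germ ⊤ x trivial).hom.comp
      (Scheme.ΓSpecIso (CommRingCat.of k[X])).inv.hom).comp (algebraMap k k[X]))).injective
    rw [map_natCast, map_zero]
    exact h)
  have hS := Groth.Agent.Lib.Kummer.kummer_shortExact (X := W) hℓ0 hinv
  have hG : ∀ m, 1 ≤ m → Subsingleton (EtCoh.H W (EtCoh.Gm W) m) := fun m hm => by
    by_cases h2 : 2 ≤ m
    · exact CurveCd.subsingleton_H_Gm f hdim m h2
    · obtain rfl : m = 1 := by omega
      refine (Groth.Agent.S0236.result W).2 fun L hL => ?_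
      exact Groth.Agent.Lib.PicProj.Main.nonempty_iso_spec L hL
  refine subsingleton_of_forall_eq 0 fun e => ?_
  obtain ⟨m, rfl⟩ : ∃ m, q = m + 1 := ⟨q - 1, by omega⟩
  obtain ⟨y, rfl⟩ := Abelian.Ext.covariant_sequence_exact₁ _ hS e (@Subsingleton.elim _ (hG (m + 1) (by omega)) _ _)
    (n₀ := m) rfl
  rcases m with _ | m
  · obtain ⟨z, hz⟩ : ∃ z : EtCoh.H W (EtCoh.Gm W) 0, ℓ • z = y := by
      let e₀ := Sheaf.H.equiv₀ (EtCoh.Gm W) CohColim.isTerminalTop
      let w : Γ(W, ⊤)ˣ := Additive.toMul (ULift.down (e₀ y))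
      let φ : Γ(W, ⊤) ≃+* k[X] := (Scheme.ΓSpecIso (CommRingCat.of k[X])).commRingCatIsoToRingEquiv
      obtain ⟨c, hc, hcw⟩ := Polynomial.isUnit_iff.1 (w.isUnit.map φ)
      obtain ⟨d, hd⟩ := IsAlgClosed.exists_pow_nat_eq c hℓ0
      have hd0 : d ≠ 0 := fun h => hc.ne_zero (by rw [← hd, h, zero_pow hℓ0.ne'])
      let v : Γ(W, ⊤)ˣ := Units.map (φ.symm.toRingHom.comp Polynomial.C).toMonoidHom (Units.mk0 d hd0)
      have hv : v ^ ℓ = w := Units.ext (φ.injective (by simp [v, ← hcw, ← map_pow, hd]))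
      refine ⟨e₀.symm (ULift.up (Additive.ofMul v)), e₀.injective ?_⟩
      rw [map_nsmul, AddEquiv.apply_symm_apply]
      exact ULift.ext _ _ (congrArg Additive.ofMul hv)
    rw [← hz, show (ℓ • z : EtCoh.H W (EtCoh.Gm W) 0) = z.comp (Abelian.Ext.mk₀ (EtCoh.powMap W ℓ)) (add_zero 0)
      from (Groth.Agent.Lib.Kummer.HF_map_powMap W 0 z).symm, Abelian.Ext.comp_assoc_of_second_deg_zero]
    refine (congrArg (fun t => z.comp t (zero_add 1)) hS.comp_extClass).trans ?_
    exact Abelian.Ext.comp_zero _ _ _ _ _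
  · rw [show y = 0 from @Subsingleton.elim _ (hG (m + 1) (by omega)) _ _]
    exact Abelian.Ext.zero_comp _ _ _ _ _

theorem isSepClosed_residue {k : Type u} [Field k] [IsAlgClosed k] : IsSepClosed (IsLocalRing.ResidueField k) := by
  haveI : IsAlgClosed (IsLocalRing.ResidueField k) := IsAlgClosed.of_ringEquiv k _
    (RingEquiv.ofBijective (IsLocalRing.residue k) ⟨(IsLocalRing.residue k).injective, IsLocalRing.residue_surjective⟩)
  infer_instance

/-- The point with coordinate `a`. -/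
def pnt {k : Type u} [Field k] (a : k) : Spec (CommRingCat.of k) ⟶ Spec (CommRingCat.of k[X]) :=
  Spec.map (CommRingCat.ofHom (evalRingHom a))

instance isClosedImmersion_pnt {k : Type u} [Field k] (a : k) : IsClosedImmersion (pnt a) :=
  IsClosedImmersion.spec_of_surjective _ fun c => ⟨C c, by simp⟩

theorem mem_pnt {k : Type u} [Field k] (a : k) (g : k[X]) :
    g ∈ ((pnt a).base default : PrimeSpectrum k[X]).asIdeal ↔ g.eval a = 0 := by
  change g ∈ Ideal.comap (evalRingHom a) _ ↔ _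
  haveI : ((default : ↥(Spec (CommRingCat.of k))) : PrimeSpectrum k).asIdeal.IsPrime := PrimeSpectrum.isPrime _
  rw [show ((default : ↥(Spec (CommRingCat.of k))) : PrimeSpectrum k).asIdeal = ⊥ from Ideal.eq_bot_of_prime _]
  simp

theorem eq_pnt {k : Type u} [Field k] {a : k} {x : PrimeSpectrum k[X]} (h : X - C a ∈ x.asIdeal) :
    x = (pnt a).base default := by
  refine (PrimeSpectrum.ext ?_).symm
  haveI : (((pnt a).base default : PrimeSpectrum k[X]).asIdeal).IsPrime := PrimeSpectrum.isPrime _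
  have hm : (((pnt a).base default : PrimeSpectrum k[X]).asIdeal).IsMaximal :=
    Ideal.IsPrime.isMaximal inferInstance fun h0 => X_sub_C_ne_zero a
      (by simpa [h0] using (mem_pnt a (X - C a)).2 (by simp))
  refine (Ideal.IsMaximal.eq_of_le hm x.isPrime.ne_top fun g hg => ?_)
  obtain ⟨c, rfl⟩ := dvd_iff_isRoot.2 ((mem_pnt a g).1 hg)
  exact x.asIdeal.mul_mem_right c h


/-- Let k be an algebraically closed field, ℓ ≥ 1 an integer invertible in k, and a₁, …, a_r (r ≥ 1)
distinct elements of k, viewed as k-points of the affine line 𝔸¹_k = Spec k[x]. Let j : U → 𝔸¹_k be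
an open immersion whose image is the complement of these points (the basic open set of ∏ (x − a_i)),
and let j_! μ_ℓ be the extension by zero of the sheaf of ℓ-th roots of unity on the small étale
site. Then H^s(𝔸¹_k, j_! μ_ℓ) = 0 for s ≠ 1, and H¹(𝔸¹_k, j_! μ_ℓ) is isomorphic to μ_ℓ(k)^(r−1)
(existence of an isomorphism of abelian groups). -/
theorem result {k : Type u} [Field k] [IsAlgClosed k]
    (ℓ : ℕ) (hℓ : (ℓ : k) ≠ 0) (r : ℕ) (hr : 0 < r) (a : Fin r → k) (ha : Function.Injective a)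
    {U : Scheme.{u}} (j : U ⟶ Spec (CommRingCat.of k[X])) [IsOpenImmersion j] [Etale j] [EtShriek.JCont j]
    (hj : j.opensRange = (Spec (CommRingCat.of k[X])).basicOpen ((Scheme.ΓSpecIso (CommRingCat.of k[X])).inv
      (Finset.univ.prod fun i => (X - C (a i))))) :
    (∀ s : ℕ, s ≠ 1 → Subsingleton (EtCoh.H (Spec (CommRingCat.of k[X])) ((EtShriek.extZero j).obj (EtCoh.mu U ℓ)) s)) ∧
      Nonempty (EtCoh.H (Spec (CommRingCat.of k[X])) ((EtShriek.extZero j).obj (EtCoh.mu U ℓ)) 1 ≃+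
        (Fin (r - 1) → Additive (rootsOfUnity ℓ k))) := by
  obtain ⟨r, rfl⟩ : ∃ m, r = m + 1 := ⟨r - 1, by omega⟩
  let W := Spec (CommRingCat.of k[X])
  let f : W ⟶ Spec (CommRingCat.of k) := Spec.map (CommRingCat.ofHom (algebraMap k k[X]))
  have hℓ1 : 1 ≤ ℓ := Nat.pos_of_ne_zero fun h => hℓ (by simp [h])
  haveI : NeZero ℓ := ⟨by omega⟩
  have hk : EtCoh.IsStrictlyHenselianLocalRing k := ⟨inferInstance, isSepClosed_residue⟩
  obtain ⟨eW⟩ := Groth.Agent.S14625.result k hk ℓ hℓ1 (isUnit_iff_ne_zero.2 hℓ) W f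
  obtain ⟨eU⟩ := Groth.Agent.S14625.result k hk ℓ hℓ1 (isUnit_iff_ne_zero.2 hℓ) U (j ≫ f)
  let eA : (EtShriek.extZero j).obj ((EtShriek.restrAlong j).obj (EtCoh.const W (ZMod ℓ))) ≅
      (EtShriek.extZero j).obj (EtCoh.mu U ℓ) := (EtShriek.extZero j).mapIso
    ((Groth.Agent.Lib.EtJ.Basic.pullIsoRestr j).symm.app _ ≪≫
      (EtCore.pullConstIso j).app (AddCommGrpCat.of (ULift.{u + 1} (ZMod ℓ))) ≪≫ eU.symm)
  let P : Fin (r + 1) → (Spec (CommRingCat.of k) ⟶ W) := fun i => pnt (a i)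
  haveI : ∀ i, IsClosedImmersion (P i) := fun i => inferInstanceAs (IsClosedImmersion (pnt (a i)))
  have hP : Function.Injective fun i => (P i).base default := fun i l h => ha (by
    have h1 := (mem_pnt (a l) (X - C (a i))).1
      ((congrArg (fun x : PrimeSpectrum k[X] => X - C (a i) ∈ x.asIdeal) h).mp ((mem_pnt (a i) _).2 (by simp)))
    simpa [sub_eq_zero, eq_comm] using h1)
  have hjr : ∀ x : W, x ∈ Set.range j.base ↔ ∀ i, x ≠ (P i).base default := fun x => by
    have hx : x ∈ Set.range j.base ↔ (Finset.univ.prod fun i => (X - C (a i))) ∉ (x : PrimeSpectrum k[X]).asIdeal := by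
      change x ∈ j.opensRange ↔ _
      rw [hj, show (Spec (CommRingCat.of k[X])).basicOpen ((Scheme.ΓSpecIso (CommRingCat.of k[X])).inv
        (Finset.univ.prod fun i => (X - C (a i)))) = PrimeSpectrum.basicOpen (Finset.univ.prod fun i => (X - C (a i)))
        from basicOpen_eq_of_affine _]
      rfl
    haveI : (x : PrimeSpectrum k[X]).asIdeal.IsPrime := PrimeSpectrum.isPrime _
    rw [hx, Ideal.IsPrime.prod_mem_iff]
    constructor
    · exact fun h i hi => h ⟨i, Finset.mem_univ i, hi ▸ (mem_pnt (a i) _).2 (by simp)⟩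
    · rintro h ⟨i, -, hi⟩
      exact h i (eq_pnt hi)
  haveI : IrreducibleSpace ↥W := inferInstanceAs (IrreducibleSpace (PrimeSpectrum k[X]))
  obtain ⟨h0, ⟨h1⟩⟩ := Groth.Agent.H61.Punctured.cohomology (X := W) (ZMod ℓ) j P hP hjr fun q hq => by
    haveI : Subsingleton ↑((EtCoh.HF W q).obj (EtCoh.mu W ℓ)) := subsingleton_H_mu (k := k) ℓ hℓ q hq
    exact Equiv.subsingleton ((EtCoh.HF W q).mapIso eW).addCommGroupIsoToAddEquiv.symm.toEquiv
  refine ⟨fun s hs => ?_, ⟨?_⟩⟩
  · haveI : Subsingleton ↑((EtCoh.HF W s).obj ((EtShriek.extZero j).obj ((EtShriek.restrAlong j).obj (EtCoh.const W (ZMod ℓ))))) := h0 s hs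
    exact Equiv.subsingleton ((EtCoh.HF W s).mapIso eA).addCommGroupIsoToAddEquiv.symm.toEquiv
  · haveI : NeZero (ℓ : k) := ⟨hℓ⟩
    let eμ : ZMod ℓ ≃+ Additive (rootsOfUnity ℓ k) :=
      (ZMod.ringEquivCongr (HasEnoughRootsOfUnity.natCard_rootsOfUnity k ℓ).symm).toAddEquiv.trans
        (zmodAddCyclicAddEquiv (G := Additive (rootsOfUnity ℓ k)) inferInstance)
    exact ((((EtCoh.HF W 1).mapIso eA).addCommGroupIsoToAddEquiv.symm).trans h1).trans
      (AddEquiv.arrowCongr (Equiv.refl _) (AddEquiv.ulift.trans eμ))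

end

end Groth.Agent.S13800
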