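import Groth.Statements.S13801
import Mathlib.NumberTheory.Padics.PadicVal.Basic
import Mathlib.Data.Nat.Factorial.BigOperators

set_option autoImplicit false
open ChowMon

namespace Groth.Agent.S13801

/-- For a prime p and positive natural numbers a_1, ..., a_k with sum n one has v_p(a_1!) + ... +
v_p(a_k!) ≤ v_p(n!), and the inequality is strict whenever some a_i is not divisible by p^(v_p(n)). -/
theorem result {k : ℕ} (p : ℕ) [Fact p.Prime]
    (a : Fin k → ℕ) (ha : ∀ i, 0 < a i) :
    (∑ i, padicValNat p (a i).factorial ≤ padicValNat p (∑ i, a i).factorial) ∧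
      ((∃ i, ¬ p ^ padicValNat p (∑ j, a j) ∣ a i) →
        ∑ i, padicValNat p (a i).factorial < padicValNat p (∑ i, a i).factorial) := by
  classical
  have hp : p.Prime := Fact.out
  have val : ∀ b : Fin k → ℕ, padicValNat p (∏ i, (b i).factorial) = ∑ i, padicValNat p (b i).factorial := by
    intro b
    induction (Finset.univ : Finset (Fin k)) using Finset.induction_on with
    | empty => simp
    | insert i s his ih =>
      rw [Finset.prod_insert his, Finset.sum_insert his, padicValNat.mul (Nat.factorial_ne_zero _)
        (Finset.prod_ne_zero_iff.mpr fun j _ => Nat.factorial_ne_zero _), ih]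
  have main : ∀ b : Fin k → ℕ,
      ∑ i, padicValNat p (b i).factorial ≤ padicValNat p (∑ i, b i).factorial := by
    intro b
    rw [← val]
    refine (padicValNat_dvd_iff_le (Nat.factorial_ne_zero _)).mp
      (dvd_trans pow_padicValNat_dvd (Nat.prod_factorial_dvd_factorial_sum _ _))
  refine ⟨main a, ?_⟩
  rintro ⟨i, hi⟩
  have hai := ha i
  have h := main (Function.update a i (a i - 1))
  rw [Finset.sum_update_of_mem (Finset.mem_univ i)] at h
  have e1 : ∑ j, padicValNat p (Function.update a i (a i - 1) j).factorial
      = padicValNat p (a i - 1).factorial + ∑ j ∈ Finset.univ \ {i}, padicValNat p (a j).factorial := by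
    rw [Finset.sum_eq_add_sum_sdiff_singleton_of_mem (Finset.mem_univ i)]
    simp only [Function.update_self]
    congr 1
    refine Finset.sum_congr rfl fun j hj => ?_
    simp at hj
    simp [hj]
  rw [e1] at h
  rw [Finset.sum_eq_add_sum_sdiff_singleton_of_mem (Finset.mem_univ i)]
  have hsum : ∑ j, a j = a i + ∑ j ∈ Finset.univ \ {i}, a j :=
    Finset.sum_eq_add_sum_sdiff_singleton_of_mem (Finset.mem_univ i) _
  have hlt : padicValNat p (a i) < padicValNat p (∑ j, a j) := by
    by_contra hcon
    exact hi (dvd_trans (pow_dvd_pow p (not_lt.mp hcon)) pow_padicValNat_dvd)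
  have f1 : padicValNat p (a i).factorial = padicValNat p (a i) + padicValNat p (a i - 1).factorial := by
    rw [← padicValNat.mul (by omega) (Nat.factorial_ne_zero _), Nat.mul_factorial_pred (by omega)]
  have f2 : padicValNat p (∑ j, a j).factorial = padicValNat p (∑ j, a j) +
      padicValNat p (a i - 1 + ∑ j ∈ Finset.univ \ {i}, a j).factorial := by
    have : a i - 1 + ∑ j ∈ Finset.univ \ {i}, a j = (∑ j, a j) - 1 := by omega
    rw [this, ← padicValNat.mul (by omega) (Nat.factorial_ne_zero _), Nat.mul_factorial_pred (by omega)]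
  omega

end Groth.Agent.S13801
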