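import Groth.Statements.S13807
import Groth.Agent.Lib.EtaPt.Main

set_option autoImplicit false
universe u
open EtaPt

namespace Groth.Agent.S13807

open Groth.Agent.Lib.EtaPt.Basic Groth.Agent.Lib.EtaPt.Main

/-- For a field K the pointwise ring M_η(K) is all of N_η(K) = F(k((0))). Here η is a natural
transformation from the identity of the category of fields to an endofunctor F with F(η_K) bijective
and η_K purely inseparable for every field K, N_η(A) is the product of the F(k(p)) over the primes p
of A with diagonal map t_A, and M_η(A) ⊆ N_η(A) is the subring of elements sent into the range of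
t_R by every ring map from A to a valuation ring R at whose fraction field η is bijective; q_A : A →
M_η(A) is the corestriction of t_A. -/
theorem result (η : EtaPt.FieldEndo.{u}) (K : Type u) [Field K] : η.M K = ⊤ := by
  refine eq_top_iff.mpr fun x _ => mem_M_of_forall η fun R _ _ _ hR g => ?_
  let p₀ : PrimeSpectrum K := ⟨⊥, Ideal.isPrime_bot⟩
  obtain ⟨n, y, hy⟩ := η.exists_pow_mem_range_eta _ (x p₀)
  set e := ringExpChar p₀.asIdeal.ResidueField with he
  obtain ⟨b, hb⟩ : ∃ b : K, res p₀ b = y := (p₀.asIdeal.bijective_algebraMap_quotient_residueField.2 y).elim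
    fun z hz => ⟨_, (Ideal.algebraMap_quotient_residueField_mk _ _).symm.trans
      ((congrArg _ (Ideal.Quotient.mk_surjective z).choose_spec).trans hz)⟩
  have hx : x ^ e ^ n = η.t K b := funext fun p => by
    obtain rfl : p = p₀ := PrimeSpectrum.ext (Ideal.eq_bot_of_prime p.asIdeal)
    exact hy.symm.trans (congrArg _ hb.symm)
  obtain ⟨c, hc⟩ := hR.2 (ev η ((algebraMap R (FractionRing R)).comp g) x)
  have hc' : c ^ e ^ n = algebraMap R (FractionRing R) (g b) :=
    (η.eta _).injective (by rw [map_pow, hc, ← map_pow, hx, ev_t]; rfl)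
  have hint : IsIntegral R (c ^ e ^ n) := hc' ▸ isIntegral_algebraMap
  obtain ⟨a, ha⟩ := IsIntegrallyClosed.algebraMap_eq_of_integral
    (hint.of_pow (pow_pos (expChar_pos p₀.asIdeal.ResidueField e) n))
  refine ⟨a, fun r => ?_⟩
  have : ExpChar K e := RingHom.expChar (res p₀) (res p₀).injective e
  have : ExpChar (η.obj r.asIdeal.ResidueField) e :=
    expChar_of_injective_ringHom ((η.eta r.asIdeal.ResidueField).comp ((res r).comp g)).injective e
  apply pow_inj_of_expChar e n
  have hab : a ^ e ^ n = g b :=
    IsFractionRing.injective R (FractionRing R) (by rw [map_pow, ha, hc'])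
  rw [← map_pow, hx, ev_t, ← map_pow, ← map_pow, hab]
  rfl

end Groth.Agent.S13807
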