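import Groth.Statements.S13809
import Groth.Agent.Lib.EtaPt.Main

set_option autoImplicit false
universe u
open EtaPt

namespace Groth.Agent.S13809

open Groth.Agent.Lib.EtaPt.Basic Groth.Agent.Lib.EtaPt.Main

/-- For an integrally closed domain A such that η is bijective at the fraction field of A, the map q_A :
A → M_η(A) is bijective. Here η is a natural transformation from the identity of the category of
fields to an endofunctor F with F(η_K) bijective and η_K purely inseparable for every field K,
N_η(A) is the product of the F(k(p)) over the primes p of A with diagonal map t_A, and M_η(A) ⊆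
N_η(A) is the subring of elements sent into the range of t_R by every ring map from A to a valuation
ring R at whose fraction field η is bijective; q_A : A → M_η(A) is the corestriction of t_A. -/
theorem result (η : EtaPt.FieldEndo.{u}) (A : Type u) [CommRing A] [IsDomain A] [IsIntegrallyClosed A]
    (hA : η.InV A) : Function.Bijective (η.q A) := by
  refine ⟨fun a b e => t_injective η A (congrArg Subtype.val e), fun x => ?_⟩
  let p₀ : PrimeSpectrum A := ⟨⊥, Ideal.isPrime_bot⟩
  have hK := (inV_iff η (K := (⊥ : Ideal A).ResidueField)).mp hA
  obtain ⟨c, hc⟩ := hK.2 ((x : η.N A) p₀)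
  have hev : ev η (res p₀) (x : η.N A) = η.eta _ c := by rw [ev_res]; exact hc.symm
  obtain ⟨a, ha⟩ := exists_eq_of_isIntegralElem (isIntegralElem_of_mem_M η hK x.2 (res p₀) c hev)
  refine ⟨a, Subtype.ext (M_ext_domain η (η.t_mem_M A a) x.2 ?_)⟩
  rw [← hc, ← ha]
  rfl

end Groth.Agent.S13809
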