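import Groth.Statements.S13810
import Groth.Agent.Lib.EtaPt.Main

set_option autoImplicit false
universe u
open EtaPt

namespace Groth.Agent.S13810

open Groth.Agent.Lib.EtaPt.Basic Groth.Agent.Lib.EtaPt.Main

/-- For commutative rings A and B, the pair of maps N_η of the two projections restricts to a bijection
from M_η(A × B) onto M_η(A) × M_η(B). Here η is a natural transformation from the identity of the
category of fields to an endofunctor F with F(η_K) bijective and η_K purely inseparable for every
field K, N_η(A) is the product of the F(k(p)) over the primes p of A with diagonal map t_A, and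
M_η(A) ⊆ N_η(A) is the subring of elements sent into the range of t_R by every ring map from A to a
valuation ring R at whose fraction field η is bijective; q_A : A → M_η(A) is the corestriction of
t_A. -/
theorem result (η : EtaPt.FieldEndo.{u}) (A B : Type u) [CommRing A] [CommRing B] :
    Set.BijOn (fun x : η.N (A × B) => (η.Nmap (RingHom.fst A B) x, η.Nmap (RingHom.snd A B) x))
      (η.M (A × B)) ((η.M A : Set (η.N A)) ×ˢ (η.M B : Set (η.N B))) := by
  have hcov : ∀ p : PrimeSpectrum (A × B), (∃ q, PrimeSpectrum.comap (RingHom.fst A B) q = p) ∨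
      ∃ q, PrimeSpectrum.comap (RingHom.snd A B) q = p := by
    intro p
    obtain ⟨q | q, rfl⟩ := (PrimeSpectrum.primeSpectrumProd A B).symm.surjective p
    · exact Or.inl ⟨q, PrimeSpectrum.ext (by simp [Ideal.prod])⟩
    · exact Or.inr ⟨q, PrimeSpectrum.ext (by simp [Ideal.prod])⟩
  refine ⟨fun x hx => ⟨Nmap_mem_M η _ hx, Nmap_mem_M η _ hx⟩, fun x hx y hy e => ?_, ?_⟩
  · funext p
    obtain ⟨q, rfl⟩ | ⟨q, rfl⟩ := hcov p
    · exact (η.map _).injective (congrFun (congrArg Prod.fst e) q)
    · exact (η.map _).injective (congrFun (congrArg Prod.snd e) q)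
  rintro ⟨y, z⟩ ⟨hy, hz⟩
  have key : ∀ p : PrimeSpectrum (A × B), ∃ v : η.obj p.asIdeal.ResidueField,
      (∀ (q : PrimeSpectrum A) (e : PrimeSpectrum.comap (RingHom.fst A B) q = p),
        η.map (Ideal.ResidueField.map (PrimeSpectrum.comap (RingHom.fst A B) q).asIdeal q.asIdeal (RingHom.fst A B) rfl) (e.symm ▸ v) = y q) ∧
      ∀ (q : PrimeSpectrum B) (e : PrimeSpectrum.comap (RingHom.snd A B) q = p),
        η.map (Ideal.ResidueField.map (PrimeSpectrum.comap (RingHom.snd A B) q).asIdeal q.asIdeal (RingHom.snd A B) rfl) (e.symm ▸ v) = z q := by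
    intro p
    have hne : ∀ (q : PrimeSpectrum A) (q' : PrimeSpectrum B),
        PrimeSpectrum.comap (RingHom.fst A B) q ≠ PrimeSpectrum.comap (RingHom.snd A B) q' := by
      intro q q' e
      have h1 : ((0, 1) : A × B) ∈ (PrimeSpectrum.comap (RingHom.fst A B) q).asIdeal :=
        q.asIdeal.zero_mem
      rw [e] at h1
      exact q'.2.ne_top ((Ideal.eq_top_iff_one _).mpr h1)
    obtain ⟨q, rfl⟩ | ⟨q, rfl⟩ := hcov p
    · obtain ⟨v, hv⟩ := (map_bijective_of_bijective η _
        ((RingHom.surjectiveOnStalks_of_surjective
          (fun a => ⟨(a, 0), rfl⟩ : Function.Surjective (RingHom.fst A B))).residueFieldMap_bijective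
          (PrimeSpectrum.comap (RingHom.fst A B) q).asIdeal q.asIdeal rfl)).2 (y q)
      refine ⟨v, fun q' e => ?_, fun q' e => absurd e.symm (hne q q')⟩
      obtain rfl : q' = q := PrimeSpectrum.comap_injective_of_surjective _
        (fun a => ⟨(a, 0), rfl⟩ : Function.Surjective (RingHom.fst A B)) e
      exact hv
    · obtain ⟨v, hv⟩ := (map_bijective_of_bijective η _
        ((RingHom.surjectiveOnStalks_of_surjective
          (fun a => ⟨(0, a), rfl⟩ : Function.Surjective (RingHom.snd A B))).residueFieldMap_bijective
          (PrimeSpectrum.comap (RingHom.snd A B) q).asIdeal q.asIdeal rfl)).2 (z q)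
      refine ⟨v, fun q' e => absurd e (hne q' q), fun q' e => ?_⟩
      obtain rfl : q' = q := PrimeSpectrum.comap_injective_of_surjective _
        (fun a => ⟨(0, a), rfl⟩ : Function.Surjective (RingHom.snd A B)) e
      exact hv
  choose v hv using key
  have h1 : η.Nmap (RingHom.fst A B) v = y := funext fun q => (hv _).1 q rfl
  have h2 : η.Nmap (RingHom.snd A B) v = z := funext fun q => (hv _).2 q rfl
  refine ⟨v, fun R _ _ _ hR g => ?_, Prod.ext h1 h2⟩
  have hg : g (1, 0) * g (0, 1) = 0 := by rw [← map_mul]; simp [← Prod.zero_eq_mk]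
  rcases mul_eq_zero.mp hg with h | h
  · let g' : B →+* R :=
      { toFun := fun b => g (0, b)
        map_one' := by
          rw [← map_one g, show (1 : A × B) = (1, 0) + (0, 1) by ext <;> simp, map_add, h, zero_add]
        map_mul' := fun a b => by rw [← map_mul]; simp
        map_zero' := map_zero g
        map_add' := fun a b => by rw [← map_add]; simp }
    have : g = g'.comp (RingHom.snd A B) := RingHom.ext fun ⟨a, b⟩ => by
      change g (a, b) = g (0, b)
      rw [show (a, b) = (a, 0) * (1, 0) + (0, b) by ext <;> simp, map_add, map_mul, h, mul_zero, zero_add]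
    rw [this, Nmap_comp, h2]
    exact hz R hR g'
  · let g' : A →+* R :=
      { toFun := fun a => g (a, 0)
        map_one' := by
          rw [← map_one g, show (1 : A × B) = (1, 0) + (0, 1) by ext <;> simp, map_add, h, add_zero]
        map_mul' := fun a b => by rw [← map_mul]; simp
        map_zero' := map_zero g
        map_add' := fun a b => by rw [← map_add]; simp }
    have : g = g'.comp (RingHom.fst A B) := RingHom.ext fun ⟨a, b⟩ => by
      change g (a, b) = g (a, 0)
      rw [show (a, b) = (a, 0) + (0, b) * (0, 1) by ext <;> simp, map_add, map_mul, h, mul_zero, add_zero]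
    rw [this, Nmap_comp, h1]
    exact hy R hR g'

end Groth.Agent.S13810
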