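import Groth.Statements.S13814
import Groth.Agent.Lib.EtaPt.Val

set_option autoImplicit false
universe u
open EtaPt

namespace Groth.Agent.S13814

open Groth.Agent.Lib.EtaPt.Basic Groth.Agent.Lib.EtaPt.Main Groth.Agent.Lib.EtaPt.Val

/-- Let R be a valuation ring with fraction field K = k((0)) such that η is bijective at K, or such that
every field of the same characteristic as R at which η is bijective is perfect. Then the ring M_η(R)
is again a valuation ring, every element of F(K) is a quotient of generic components of elements of
M_η(R), and an element of F(K) that is both the generic component of an element of M_η(R) and in the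
image of K comes from R. (The published statement assumes nothing about η beyond the standing
conditions, and then fails: for the endofunctor equal to the perfect closure on the fields of
characteristic 2 and transcendence degree at least 2 over the prime field and to the identity on
every other field, and R = F_2(s)[t] localised at (t), neither of the elements (s^(1/2) t, 0) and
(t, 0) of M_η(R) ⊆ F(K) × F_2(s) divides the other, so M_η(R) is not a valuation ring. This row
assumes that η is bijective at Frac R, or that every field of the same characteristic as R at which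
η is bijective is perfect; both the identity and the perfect closure satisfy this.) Here η is a
natural transformation from the identity of the category of fields to an endofunctor F with F(η_K)
bijective and η_K purely inseparable for every field K, N_η(A) is the product of the F(k(p)) over
the primes p of A with diagonal map t_A, and M_η(A) ⊆ N_η(A) is the subring of elements sent into
the range of t_R by every ring map from A to a valuation ring R at whose fraction field η is
bijective; q_A : A → M_η(A) is the corestriction of t_A. -/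
theorem result (η : EtaPt.FieldEndo.{u}) (R : Type u) [CommRing R] [IsDomain R] [ValuationRing R]
    (hη : η.InV R ∨ ∀ (k : Type u) [Field k], ringChar k = ringChar R →
      Function.Bijective (η.eta k) → PerfectField k) :
    IsDomain (η.M R) ∧ PreValuationRing (η.M R) ∧
      (∀ y : η.obj (⊥ : Ideal R).ResidueField, ∃ a b : η.M R,
        (b : η.N R) ⟨⊥, Ideal.isPrime_bot⟩ ≠ 0 ∧
          y * (b : η.N R) ⟨⊥, Ideal.isPrime_bot⟩ = (a : η.N R) ⟨⊥, Ideal.isPrime_bot⟩) ∧
      (fun x : η.N R => x ⟨⊥, Ideal.isPrime_bot⟩) '' (η.M R : Set (η.N R)) ∩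
          Set.range (η.eta (⊥ : Ideal R).ResidueField) =
        Set.range ((η.eta (⊥ : Ideal R).ResidueField).comp (algebraMap R (⊥ : Ideal R).ResidueField)) := by
  let p₀ : PrimeSpectrum R := ⟨⊥, Ideal.isPrime_bot⟩
  have hπ : Function.Injective (proj η R p₀) := fun x y e => Subtype.ext (M_ext_domain η x.2 y.2 e)
  let j := etaRes η p₀
  have hrange : ∀ y, j.IsIntegralElem y → ∃ x : η.M R, proj η R p₀ x = y := fun y hy => by
    obtain ⟨x, hx, e⟩ := exists_mem_M_of_isIntegralElem η R hη hy
    exact ⟨⟨x, hx⟩, e⟩
  have hroot : ∀ (y : η.obj p₀.asIdeal.ResidueField) (N : ℕ) (r : R), 0 < N → y ^ N = j r →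
      j.IsIntegralElem y := fun y N r hN e => by
    let _ := j.toAlgebra
    exact IsIntegral.of_pow (R := R) hN (e ▸ isIntegral_algebraMap)
  have hq : ∀ y : η.obj p₀.asIdeal.ResidueField, j.IsIntegralElem y ∨ j.IsIntegralElem y⁻¹ := fun y => by
    obtain ⟨n, c, hc⟩ := η.exists_pow_mem_range_eta _ y
    have hN := pow_pos (expChar_pos p₀.asIdeal.ResidueField (ringExpChar p₀.asIdeal.ResidueField)) n
    rcases ValuationRing.isInteger_or_isInteger R (K := (⊥ : Ideal R).ResidueField) c with ⟨r, hr⟩ | ⟨r, hr⟩
    · exact Or.inl (hroot y _ r hN (hc.symm.trans (congrArg (η.eta _) hr.symm)))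
    · refine Or.inr (hroot y⁻¹ _ r hN ?_)
      rw [inv_pow, ← hc, ← map_inv₀]
      exact congrArg (η.eta _) hr.symm
  refine ⟨hπ.isDomain _, ⟨fun a b => ?_⟩, fun y => ?_, ?_⟩
  · by_cases hb : proj η R p₀ b = 0
    · exact ⟨0, Or.inl (by rw [mul_zero]; exact (hπ (hb.trans (map_zero _).symm)).symm)⟩
    by_cases ha : proj η R p₀ a = 0
    · exact ⟨0, Or.inr (by rw [mul_zero]; exact (hπ (ha.trans (map_zero _).symm)).symm)⟩
    rcases hq (proj η R p₀ a / proj η R p₀ b) with h | h
    · obtain ⟨x, hx⟩ := hrange _ h
      exact ⟨x, Or.inr (hπ (by rw [map_mul, hx, mul_div_cancel₀ _ hb]))⟩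
    · obtain ⟨x, hx⟩ := hrange _ h
      exact ⟨x, Or.inl (hπ (by rw [map_mul, hx, inv_div, mul_div_cancel₀ _ ha]))⟩
  · rcases hq y with h | h
    · obtain ⟨a, ha⟩ := hrange _ h
      refine ⟨a, 1, ?_, ?_⟩
      · exact one_ne_zero
      · change y * 1 = _
        rw [mul_one]
        exact ha.symm
    · obtain ⟨b, hb⟩ := hrange _ h
      by_cases hy : y = 0
      · exact ⟨0, 1, one_ne_zero, by subst hy; exact zero_mul _⟩
      refine ⟨1, b, ?_, ?_⟩
      · change proj η R p₀ b ≠ 0
        rw [hb]; exact inv_ne_zero hy
      · change y * proj η R p₀ b = 1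
        rw [hb, mul_inv_cancel₀ hy]
  · refine Set.Subset.antisymm ?_ fun y hy => ?_
    · rintro _ ⟨⟨x, hx, rfl⟩, c, hc⟩
      have hint : j.IsIntegralElem (x p₀) := isIntegralElem_component η hx p₀
      have hi : Function.Injective (η.eta (⊥ : Ideal R).ResidueField) := RingHom.injective _
      obtain ⟨a, rfl⟩ := exists_eq_of_isIntegralElem (K := (⊥ : Ideal R).ResidueField) (c := c)
        (isIntegralElem_of_map (algebraMap R (⊥ : Ideal R).ResidueField) (η.eta _) hi
          ((show η.eta _ c = x p₀ from hc).symm ▸ hint : j.IsIntegralElem (η.eta _ c)))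
      exact ⟨a, hc⟩
    · obtain ⟨a, rfl⟩ := hy
      exact ⟨⟨η.t R a, η.t_mem_M R a, rfl⟩, _, rfl⟩

end Groth.Agent.S13814
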