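import Groth.Statements.S13820
import Groth.Agent.Lib.EtaPt.Rel

set_option autoImplicit false
universe u
open EtaPt

namespace Groth.Agent.S13820

open Groth.Agent.Lib.EtaPt.Basic Groth.Agent.Lib.EtaPt.Main Groth.Agent.Lib.EtaPt.Rel

/-- Let A have finitely many minimal prime ideals and let B be an A-algebra with Spec B → Spec A
surjective, C the integral closure of A in B; then the inclusion C ⊆ B carries (C/A)_η onto (B/A)_η.
Here η is a natural transformation from the identity of the category of fields to an endofunctor F
with F(η_K) bijective and η_K purely inseparable for every field K, N_η(A) is the product of the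
F(k(p)) over the primes p of A with diagonal map t_A, and M_η(A) ⊆ N_η(A) is the subring of elements
sent into the range of t_R by every ring map from A to a valuation ring R at whose fraction field η
is bijective; q_A : A → M_η(A) is the corestriction of t_A. For a ring map f : A → B, (B/A)_η ⊆ B
denotes the subring of elements b with t_B(b) in N_η(f)(M_η(A)) (the image in B of the fibre product
of M_η(A) and B over M_η(B)), and q_{B/A} : A → (B/A)_η the corestriction of f. -/
theorem result (η : EtaPt.FieldEndo.{u}) (A B : Type u) [CommRing A] [CommRing B] [Algebra A B]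
    (hA : (minimalPrimes A).Finite) (hs : Function.Surjective (PrimeSpectrum.comap (algebraMap A B))) :
    (η.rel (algebraMap A (integralClosure A B))).map (integralClosure A B).val.toRingHom =
      η.rel (algebraMap A B) := by
  refine le_antisymm ?_ fun b hb => ?_
  · rintro _ ⟨c, hc, rfl⟩
    exact map_mem_rel_of_square η (RingHom.id A) (integralClosure A B).val.toRingHom
      (RingHom.ext fun a => rfl) hc
  · obtain ⟨P, hP, hP0⟩ := isIntegral_qRel η hA (algebraMap A B) hs ⟨b, hb⟩
    have hint : IsIntegral A b := ⟨P, hP, by
      have e := Polynomial.hom_eval₂ P (η.qRel (algebraMap A B)) (η.rel (algebraMap A B)).subtype ⟨b, hb⟩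
      rw [hP0, map_zero] at e
      exact e.symm⟩
    obtain ⟨x, hx, e⟩ := hb
    refine ⟨⟨b, hint⟩, ⟨x, hx, ?_⟩, rfl⟩
    refine M_ext_of_injective η (g := (integralClosure A B).val.toRingHom) Subtype.val_injective
      (Nmap_mem_M η _ hx) (η.t_mem_M _ _) ?_
    rw [← Nmap_comp, Nmap_eq_t]
    exact e

end Groth.Agent.S13820
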