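import Groth.Statements.S13822
import Groth.Agent.Lib.EtaPt.Rel
import Mathlib.RingTheory.Flat.FaithfullyFlat.Algebra

set_option autoImplicit false
universe u
open scoped TensorProduct
open EtaPt

namespace Groth.Agent.S13822

open Groth.Agent.Lib.EtaPt.Basic Groth.Agent.Lib.EtaPt.Main Groth.Agent.Lib.EtaPt.Rel

/-- Let A → A' be faithfully flat with A and A' having finitely many minimal prime ideals, and B an
A-algebra with Spec B → Spec A surjective; if q_{(A' ⊗ B)/A'} is bijective then q_{B/A} is
bijective. Here η is a natural transformation from the identity of the category of fields to an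
endofunctor F with F(η_K) bijective and η_K purely inseparable for every field K, N_η(A) is the
product of the F(k(p)) over the primes p of A with diagonal map t_A, and M_η(A) ⊆ N_η(A) is the
subring of elements sent into the range of t_R by every ring map from A to a valuation ring R at
whose fraction field η is bijective; q_A : A → M_η(A) is the corestriction of t_A. For a ring map f
: A → B, (B/A)_η ⊆ B denotes the subring of elements b with t_B(b) in N_η(f)(M_η(A)) (the image in B
of the fibre product of M_η(A) and B over M_η(B)), and q_{B/A} : A → (B/A)_η the corestriction of f. -/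
theorem result (η : EtaPt.FieldEndo.{u}) (A A' B : Type u) [CommRing A] [CommRing A'] [CommRing B]
    [Algebra A A'] [Algebra A B] [Module.FaithfullyFlat A A']
    (hA : (minimalPrimes A).Finite) (hA' : (minimalPrimes A').Finite)
    (hs : Function.Surjective (PrimeSpectrum.comap (algebraMap A B)))
    (h : Function.Bijective (η.qRel (Algebra.TensorProduct.includeLeftRingHom : A' →+* A' ⊗[A] B))) :
    Function.Bijective (η.qRel (algebraMap A B)) := by
  obtain ⟨h1, h2⟩ := (qRel_bijective_iff η _).mp h
  have hinj : Function.Injective (algebraMap A A') := FaithfulSMul.algebraMap_injective A A'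
  refine (qRel_bijective_iff η _).mpr ⟨(injective_iff_map_eq_zero _).mpr fun a ha => ?_, fun b hb => ?_⟩
  · apply hinj
    apply h1
    change algebraMap A A' a ⊗ₜ[A] (1 : B) = algebraMap A A' 0 ⊗ₜ[A] (1 : B)
    rw [map_zero, TensorProduct.zero_tmul, Algebra.algebraMap_eq_smul_one a, TensorProduct.smul_tmul,
      ← Algebra.algebraMap_eq_smul_one, ha, TensorProduct.tmul_zero]
  · obtain ⟨a', ha'⟩ := h2 _ (map_mem_rel_of_square η (algebraMap A A')
      (Algebra.TensorProduct.includeRight.toRingHom : B →+* A' ⊗[A] B) (RingHom.ext fun a => by
        change (1 : A') ⊗ₜ[A] algebraMap A B a = algebraMap A A' a ⊗ₜ[A] (1 : B)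
        rw [Algebra.algebraMap_eq_smul_one, Algebra.algebraMap_eq_smul_one, TensorProduct.smul_tmul]) hb)
    let R := LinearMap.range (Algebra.linearMap A B)
    suffices hq : R.mkQ b = 0 from (Submodule.Quotient.mk_eq_zero R).mp hq
    apply Module.FaithfullyFlat.tensorProduct_mk_injective (A := A) (B := A') (B ⧸ R)
    have h4 := congrArg (LinearMap.lTensor A' R.mkQ) ha'
    change a' ⊗ₜ[A] R.mkQ 1 = (1 : A') ⊗ₜ[A] R.mkQ b at h4
    rw [show R.mkQ 1 = 0 from (Submodule.Quotient.mk_eq_zero R).mpr ⟨1, map_one (algebraMap A B)⟩,
      TensorProduct.tmul_zero] at h4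
    simpa using h4.symm

end Groth.Agent.S13822
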