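import Groth.Statements.S13823
import Groth.Agent.Lib.EtaPt.Rel
import Mathlib.RingTheory.Flat.TorsionFree
import Mathlib.RingTheory.Flat.FaithfullyFlat.Algebra
import Groth.Agent.S13822

set_option autoImplicit false
universe u
open EtaPt

namespace Groth.Agent.S13823

open Groth.Agent.Lib.EtaPt.Basic Groth.Agent.Lib.EtaPt.Main Groth.Agent.Lib.EtaPt.Rel
open scoped TensorProduct

/-- Let A → A' be faithfully flat with A and A' having finitely many minimal prime ideals, and let Ā, Ā'
be the integral closures of A, A' in their total rings of fractions; if q_{Ā'/A'} is bijective then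
q_{Ā/A} is bijective. Here η is a natural transformation from the identity of the category of fields
to an endofunctor F with F(η_K) bijective and η_K purely inseparable for every field K, N_η(A) is
the product of the F(k(p)) over the primes p of A with diagonal map t_A, and M_η(A) ⊆ N_η(A) is the
subring of elements sent into the range of t_R by every ring map from A to a valuation ring R at
whose fraction field η is bijective; q_A : A → M_η(A) is the corestriction of t_A. For a ring map f
: A → B, (B/A)_η ⊆ B denotes the subring of elements b with t_B(b) in N_η(f)(M_η(A)) (the image in B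
of the fibre product of M_η(A) and B over M_η(B)), and q_{B/A} : A → (B/A)_η the corestriction of f. -/
theorem result (η : EtaPt.FieldEndo.{u}) (A A' : Type u) [CommRing A] [CommRing A'] [Algebra A A'] [Module.FaithfullyFlat A A']
    (hA : (minimalPrimes A).Finite) (hA' : (minimalPrimes A').Finite)
    (h : Function.Bijective (η.qRel (algebraMap A' (integralClosure A' (FractionRing A'))))) :
    Function.Bijective (η.qRel (algebraMap A (integralClosure A (FractionRing A)))) := by
  let C := integralClosure A (FractionRing A)
  let C' := integralClosure A' (FractionRing A')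
  have hCinj : Function.Injective (algebraMap A C) := fun a b e =>
    IsFractionRing.injective A (FractionRing A) (congrArg Subtype.val e)
  refine Groth.Agent.S13822.result η A A' C hA hA' (RingHom.IsIntegral.comap_surjective (f := algebraMap A C) (fun c => Algebra.IsIntegral.isIntegral c) hCinj) ?_
  have hnzd : ∀ s : nonZeroDivisors A, IsUnit ((Algebra.ofId A (FractionRing A')) (s : A)) := fun s => by
    rw [Algebra.ofId_apply, IsScalarTower.algebraMap_apply A A' (FractionRing A')]
    refine IsLocalization.map_units (FractionRing A') (⟨algebraMap A A' s, ?_⟩ : nonZeroDivisors A')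
    refine mem_nonZeroDivisors_iff_right.mpr fun z hz => ?_
    refine (Module.Flat.isSMulRegular_of_nonZeroDivisors (M := A') s.2) ?_
    change (s : A) • z = (s : A) • (0 : A')
    rw [smul_zero, Algebra.smul_def, mul_comm, hz]
  let j : FractionRing A →ₐ[A] FractionRing A' := IsLocalization.liftAlgHom hnzd
  let Φ : A' ⊗[A] FractionRing A →ₐ[A'] FractionRing A' :=
    Algebra.TensorProduct.lift (Algebra.ofId A' _) j fun _ _ => mul_comm _ _
  let ι : A' ⊗[A] C →ₐ[A'] A' ⊗[A] FractionRing A := Algebra.TensorProduct.map (AlgHom.id A' A') C.val
  have hclear : ∀ z : A' ⊗[A] FractionRing A, ∃ (s : nonZeroDivisors A) (a' : A'),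
      (1 ⊗ₜ algebraMap A (FractionRing A) s) * z = a' ⊗ₜ[A] (1 : FractionRing A) := by
    intro z
    induction z using TensorProduct.induction_on with
    | zero => exact ⟨1, 0, by simp⟩
    | tmul a' x =>
      obtain ⟨⟨a, s⟩, e⟩ := IsLocalization.surj (nonZeroDivisors A) x
      refine ⟨s, a • a', ?_⟩
      rw [Algebra.TensorProduct.tmul_mul_tmul, one_mul, mul_comm, e, TensorProduct.smul_tmul,
        Algebra.algebraMap_eq_smul_one]
    | add x y hx hy =>
      obtain ⟨s, a, hs⟩ := hx
      obtain ⟨t, b, ht⟩ := hy
      refine ⟨s * t, (t : A) • a + (s : A) • b, ?_⟩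
      rw [mul_add, TensorProduct.add_tmul, ← TensorProduct.smul_tmul', ← TensorProduct.smul_tmul',
        ← hs, ← ht, ← smul_mul_assoc, ← smul_mul_assoc, ← TensorProduct.tmul_smul,
        ← TensorProduct.tmul_smul, Algebra.smul_def, Algebra.smul_def, ← map_mul, ← map_mul,
        Submonoid.coe_mul, mul_comm (t : A) (s : A)]
  have hΦinj : Function.Injective Φ := (injective_iff_map_eq_zero Φ).mpr fun z hz => by
    obtain ⟨s, a', hs⟩ := hclear z
    have h0 := congrArg Φ hs
    rw [map_mul, hz, mul_zero, show Φ (a' ⊗ₜ[A] (1 : FractionRing A)) = algebraMap A' _ a' * j 1 from rfl, map_one, mul_one] at h0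
    have ha : a' = 0 := IsFractionRing.injective A' (FractionRing A') (by rw [map_zero]; exact h0.symm)
    rw [ha, TensorProduct.zero_tmul] at hs
    exact ((IsLocalization.map_units (FractionRing A) s).map
      (Algebra.TensorProduct.includeRight (R := A) (A := A'))).mul_right_eq_zero.mp hs
  have hιinj : Function.Injective ι :=
    Module.Flat.lTensor_preserves_injective_linearMap (M := A') C.val.toLinearMap Subtype.val_injective
  have hmem : ∀ z : A' ⊗[A] C, Φ (ι z) ∈ C' := fun z => by
    induction z using TensorProduct.induction_on with
    | zero => rw [map_zero, map_zero]; exact zero_mem _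
    | tmul a' c =>
      change Algebra.ofId A' _ a' * j (c : FractionRing A) ∈ C'
      exact C'.mul_mem (C'.algebraMap_mem a') ((c.2.map j).tower_top : IsIntegral A' (j (c : FractionRing A)))
    | add x y hx hy => rw [map_add, map_add]; exact add_mem hx hy
  let g : A' ⊗[A] C →ₐ[A'] C' := (Φ.comp ι).codRestrict C' hmem
  refine qRel_bijective_of_comp η _ g.toRingHom
    (fun x y e => hιinj (hΦinj (congrArg Subtype.val e))) ?_
  rw [show g.toRingHom.comp (Algebra.TensorProduct.includeLeftRingHom : A' →+* A' ⊗[A] C) =
    algebraMap A' C' from RingHom.ext fun a => g.commutes a]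
  exact h

end Groth.Agent.S13823
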