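import Groth.Statements.S13826
import Groth.Agent.Lib.EtaPt.Rel
import Groth.Agent.Lib.EtaPt.SpecResidue

set_option autoImplicit false
universe u
open EtaPt

namespace Groth.Agent.S13826

open Groth.Agent.Lib.EtaPt.Basic Groth.Agent.Lib.EtaPt.Main Groth.Agent.Lib.EtaPt.Rel Groth.Agent.Lib.EtaPt.SpecResidue

/-- For the identity endofunctor and a commutative ring A with finitely many minimal prime ideals, q_A :
A → M(A) is a seminormalization of A: Spec(q_A) is a universal homeomorphism with trivial residue
field extensions, final among ring maps out of A with these properties. Here M(A) ⊆ ∏_p k(p) is the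
subring of families whose image in ∏_q k(q), for every ring map from A to a valuation ring R, is the
diagonal image of an element of R. -/
theorem result (A : Type u) [CommRing A] (hA : (minimalPrimes A).Finite) :
    HTop.IsRingSN (EtaPt.FieldEndo.ident.{u}.q A) := by
  let η := EtaPt.FieldEndo.ident.{u}
  have hint := isIntegral_q η A hA
  have hb := comap_q_bijective η A hA
  have hres : ∀ Q : PrimeSpectrum (η.M A), Function.Bijective
      (Ideal.ResidueField.map (PrimeSpectrum.comap (η.q A) Q).asIdeal Q.asIdeal (η.q A) rfl) := fun Q => by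
    obtain ⟨φ, hφ⟩ := q_residue_factor η A hA Q
    refine ⟨RingHom.injective _, fun z => ⟨φ z, φ.injective ?_⟩⟩
    exact DFunLike.congr_fun hφ (φ z)
  refine ⟨⟨isUnivHomeo_of_bijective _ hint hb hres, (residueFieldsIso_iff _).mpr hres⟩, ?_⟩
  intro C _ ψ hψ hψ'
  obtain ⟨hi, hbψ⟩ := of_isUnivHomeo ψ hψ
  exact existsUnique_lift η A hA C ψ hi
    (Nmap_bijective_of_components η hbψ fun Q => ((residueFieldsIso_iff ψ).mp hψ' Q).2)

end Groth.Agent.S13826
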