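import Groth.Statements.S13827
import Groth.Agent.Lib.EtaPt.Val
import Groth.Agent.Lib.EtaPt.Normal
import Mathlib.RingTheory.LocalProperties.Reduced
import Mathlib.RingTheory.Ideal.Quotient.Operations

set_option autoImplicit false
universe u
open EtaPt

namespace Groth.Agent.S13827

open Groth.Agent.Lib.EtaPt.Basic Groth.Agent.Lib.EtaPt.Main Groth.Agent.Lib.EtaPt.Val
open Groth.Agent.Lib.EtaPt.Normal

/-- For a normal ring A (every localization at a prime is an integrally closed domain) with finitely
many minimal prime ideals such that η is bijective at the residue field of every minimal prime, q_A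
: A → M_η(A) is bijective. Here η is a natural transformation from the identity of the category of
fields to an endofunctor F with F(η_K) bijective and η_K purely inseparable for every field K,
N_η(A) is the product of the F(k(p)) over the primes p of A with diagonal map t_A, and M_η(A) ⊆
N_η(A) is the subring of elements sent into the range of t_R by every ring map from A to a valuation
ring R at whose fraction field η is bijective; q_A : A → M_η(A) is the corestriction of t_A. -/
theorem result (η : EtaPt.FieldEndo.{u}) (A : Type u) [CommRing A] (hn : EGA4.IsNormalRing A)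
    (hA : (minimalPrimes A).Finite)
    (hη : ∀ p : PrimeSpectrum A, p.asIdeal ∈ minimalPrimes A → Function.Bijective (η.eta p.asIdeal.ResidueField)) :
    Function.Bijective (η.q A) := by
  have hred : IsReduced A := by
    refine isReduced_ofLocalizationMaximal A fun J hJ => ?_
    have := (hn J).1
    infer_instance
  refine ⟨fun a b e => t_injective η A (congrArg Subtype.val e), fun x => ?_⟩
  classical
  let P : minimalPrimes A → PrimeSpectrum A := fun I => ⟨I.1, I.2.1.1⟩
  have hc : ∀ I : minimalPrimes A, ∃ a : A, (x : η.N A) (P I) = etaRes η (P I) a := by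
    intro I
    have hPI : (P I).asIdeal.IsPrime := (P I).2
    obtain ⟨c, hc⟩ := (hη (P I) I.2).2 ((x : η.N A) (P I))
    have hint : (res (P I)).IsIntegralElem c :=
      isIntegralElem_of_mem_M η (hη (P I) I.2) x.2 (res (P I)) c (by rw [ev_res]; exact hc.symm)
    let J : Ideal A :=
      { carrier := {s | ∃ a, res (P I) a = res (P I) s * c}
        add_mem' := fun {s t} ⟨a, ha⟩ ⟨a', ha'⟩ => ⟨a + a', by simp [ha, ha', add_mul]⟩
        zero_mem' := ⟨0, by simp⟩
        smul_mem' := fun r s ⟨a, ha⟩ => ⟨r * a, by simp [ha, mul_assoc]⟩ }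
    suffices hJ : J = ⊤ by
      obtain ⟨a, ha⟩ : (1 : A) ∈ J := hJ ▸ Submodule.mem_top
      exact ⟨a, by rw [← hc]; exact congrArg (η.eta _) (by rw [ha, map_one, one_mul])⟩
    by_contra hJ
    obtain ⟨m, hm, hJm⟩ := Ideal.exists_le_maximal J hJ
    have hpm : (P I).asIdeal ≤ m := fun s hs => hJm ⟨0, by
      rw [Ideal.algebraMap_residueField_eq_zero.mpr hs, map_zero, zero_mul]⟩
    have := hm.isPrime
    obtain ⟨s, hs, hs'⟩ := exists_mul_mem_range hn (P I) I.2 m hpm c hint
    exact hs (hJm hs')
  choose a ha using hc
  have : Finite (minimalPrimes A) := hA.to_subtype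
  obtain ⟨b, hb⟩ := Ideal.exists_forall_sub_mem_ideal (I := fun I : minimalPrimes A => I.1) (fun I I' hne => by
    show IsCoprime I.1 I'.1
    rw [Ideal.isCoprime_iff_sup_eq]
    by_contra h
    obtain ⟨m, hm, hle⟩ := Ideal.exists_le_maximal _ h
    have hker : ∀ K : minimalPrimes A, K.1 ≤ m → K.1 = RingHom.ker (algebraMap A (Localization.AtPrime m)) :=
      fun K hK => minimalPrime_eq_ker hn K.2 hK
    exact hne (Subtype.ext ((hker I (le_sup_left.trans hle)).trans
      (hker I' (le_sup_right.trans hle)).symm))) a
  refine ⟨b, Subtype.ext (M_ext η (η.t_mem_M A b) x.2 fun p hp => ?_)⟩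
  change etaRes η (P ⟨p.asIdeal, hp⟩) b = (x : η.N A) (P ⟨p.asIdeal, hp⟩)
  rw [ha]
  refine congrArg (η.eta _) ?_
  rw [← sub_eq_zero, ← map_sub, Ideal.algebraMap_residueField_eq_zero]
  exact hb ⟨p.asIdeal, hp⟩

end Groth.Agent.S13827
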