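import Groth.Statements.S13829
import Groth.Agent.Lib.EtaPt.Loc

set_option autoImplicit false
universe u
open EtaPt

namespace Groth.Agent.S13829

open Groth.Agent.Lib.EtaPt.Basic Groth.Agent.Lib.EtaPt.Main Groth.Agent.Lib.EtaPt.Rel Groth.Agent.Lib.EtaPt.Loc

/-- For A with finitely many minimal prime ideals, f ∈ A and a ring map φ : A → B with Spec(φ)
surjective, the localization of (B/A)_η at f is (B_f/A_f)_η: the image of (B/A)_η in B_f lies in
(B_f/A_f)_η, and every element of (B_f/A_f)_η times a power of the image of f is the image of an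
element of (B/A)_η. Here η is a natural transformation from the identity of the category of fields
to an endofunctor F with F(η_K) bijective and η_K purely inseparable for every field K, N_η(A) is
the product of the F(k(p)) over the primes p of A with diagonal map t_A, and M_η(A) ⊆ N_η(A) is the
subring of elements sent into the range of t_R by every ring map from A to a valuation ring R at
whose fraction field η is bijective; q_A : A → M_η(A) is the corestriction of t_A. For a ring map f
: A → B, (B/A)_η ⊆ B denotes the subring of elements b with t_B(b) in N_η(f)(M_η(A)) (the image in B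
of the fibre product of M_η(A) and B over M_η(B)), and q_{B/A} : A → (B/A)_η the corestriction of f. -/
theorem result (η : EtaPt.FieldEndo.{u}) {A B : Type u} [CommRing A] [CommRing B] (hA : (minimalPrimes A).Finite)
    (φ : A →+* B) (hs : Function.Surjective (PrimeSpectrum.comap φ)) (f : A) :
    (η.rel φ).map (algebraMap B (Localization.Away (φ f))) ≤ η.rel (Localization.awayMap φ f) ∧
      ∀ y ∈ η.rel (Localization.awayMap φ f), ∃ x ∈ η.rel φ, ∃ n : ℕ,
        y * algebraMap B (Localization.Away (φ f)) (φ f) ^ n = algebraMap B (Localization.Away (φ f)) x := by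
  let β := algebraMap B (Localization.Away (φ f))
  let α := algebraMap A (Localization.Away f)
  have hsq : (Localization.awayMap φ f).comp α = β.comp φ :=
    RingHom.ext fun a => by simp [α, β, Localization.awayMap, IsLocalization.Away.map]
  refine ⟨?_, fun y hy => ?_⟩
  · rintro _ ⟨b, hb, rfl⟩
    exact map_mem_rel_of_square η α β hsq.symm hb
  obtain ⟨z, hz, hzy⟩ := hy
  obtain ⟨x, hx, n, hn⟩ := exists_M_extend η f (Localization.Away f) hA hz
  obtain ⟨m, b, hb⟩ := IsLocalization.Away.surj (φ f) y
  have key : η.Nmap β (η.t B (b * φ f ^ n) - η.Nmap φ (x * η.t A f ^ m)) = 0 := by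
    have e1 : η.Nmap α x = z * η.t _ (α f) ^ n := hn.symm
    have e2 : β b = y * β (φ f) ^ m := hb.symm
    have e3 : Localization.awayMap φ f (α f) = β (φ f) := DFunLike.congr_fun hsq f
    rw [map_sub, sub_eq_zero, Nmap_eq_t, ← Nmap_comp, ← hsq, Nmap_comp, map_mul (η.Nmap α),
      map_pow (η.Nmap α), Nmap_eq_t, e1]
    simp only [map_mul, map_pow, Nmap_eq_t, hzy, e2, e3]
    ring
  have h2 := t_mul_eq_zero η (φ f) (Localization.Away (φ f)) key
  refine ⟨b * φ f ^ (n + 1), ⟨x * η.t A f ^ (m + 1),
    mul_mem hx (pow_mem (η.t_mem_M A f) _), ?_⟩, m + n + 1, ?_⟩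
  · rw [mul_sub, sub_eq_zero] at h2
    rw [pow_succ, ← mul_assoc, map_mul, Nmap_eq_t, mul_comm, ← h2, ← map_mul]
    congr 1
    ring
  · rw [map_mul, map_pow, ← hb, mul_assoc, ← pow_add, add_assoc]

end Groth.Agent.S13829
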