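import Groth.Statements.S13830
import Groth.Agent.Lib.EtaPt.Rel
import Groth.Agent.Lib.EtaPt.SpecResidue

set_option autoImplicit false
universe u
open AlgebraicGeometry
open EtaPt

namespace Groth.Agent.S13830

open Groth.Agent.Lib.EtaPt.Basic Groth.Agent.Lib.EtaPt.Main Groth.Agent.Lib.EtaPt.Rel Groth.Agent.Lib.EtaPt.SpecResidue

/-- For the identity endofunctor, a commutative ring A with finitely many minimal prime ideals and an
A-algebra B with Spec B → Spec A surjective, the subring (B/A) ⊆ B (elements b whose residue classes
(b mod q)_q come from a family in M(A) ⊆ ∏_p k(p), M(A) being the families that come from an element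
of R after any base change to a valuation ring R) is the seminormalization of A in B: Spec (B/A) →
Spec A is a universal homeomorphism with trivial residue field extensions, and every A-subalgebra C
of B with these two properties is contained in (B/A). -/
theorem result (A B : Type u) [CommRing A] [CommRing B] [Algebra A B] (hA : (minimalPrimes A).Finite)
    (hs : Function.Surjective (PrimeSpectrum.comap (algebraMap A B))) :
    (FlatMor.IsUnivHomeo (Spec.map (CommRingCat.ofHom (EtaPt.FieldEndo.ident.{u}.qRel (algebraMap A B)))) ∧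
      HTop.ResidueFieldsIso (Spec.map (CommRingCat.ofHom (EtaPt.FieldEndo.ident.{u}.qRel (algebraMap A B))))) ∧
    ∀ C : Subalgebra A B,
      FlatMor.IsUnivHomeo (Spec.map (CommRingCat.ofHom (algebraMap A C))) →
      HTop.ResidueFieldsIso (Spec.map (CommRingCat.ofHom (algebraMap A C))) →
      C.toSubring ≤ EtaPt.FieldEndo.ident.{u}.rel (algebraMap A B) := by
  let η := EtaPt.FieldEndo.ident.{u}
  let f := algebraMap A B
  have hres : ∀ Q : PrimeSpectrum (η.rel f), Function.Bijective
      (Ideal.ResidueField.map (PrimeSpectrum.comap (η.qRel f) Q).asIdeal Q.asIdeal (η.qRel f) rfl) := fun Q => by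
    obtain ⟨φ, hφ⟩ := qRel_residue_factor η hA f hs Q
    refine ⟨RingHom.injective _, fun z => ⟨φ z, φ.injective ?_⟩⟩
    exact DFunLike.congr_fun hφ (φ z)
  refine ⟨⟨isUnivHomeo_of_bijective _ (isIntegral_qRel η hA f hs) (comap_qRel_bijective η hA f hs) hres,
    (residueFieldsIso_iff _).mpr hres⟩, fun C hC hC' => ?_⟩
  obtain ⟨hi, hbC⟩ := of_isUnivHomeo _ hC
  intro b hb
  have h1 := rel_comp_range_le η (algebraMap A C) C.val.toRingHom hi
    (Nmap_bijective_of_components η hbC fun Q => ((residueFieldsIso_iff _).mp hC' Q).2)
    ⟨⟨b, hb⟩, rfl⟩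
  exact h1

end Groth.Agent.S13830
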