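import Groth.Statements.S13831
import Mathlib
import Groth.Agent.Lib.UnivHomeo.Basic
import Groth.Agent.H68.ResDeg

set_option autoImplicit false
universe u
open AlgebraicGeometry
open ChowMon

namespace Groth.Agent.S13831

/-- For a finite universal homeomorphism p : T' → T of Noetherian schemes there is an integer d ≥ 1 such
that for every point t' of T' over t the residue field degree [k(t') : k(t)] is a power of the
exponential characteristic of k(t) dividing d. -/
theorem result {T' T : Scheme.{u}} (p : T' ⟶ T) [IsFinite p] (hp : FlatMor.IsUnivHomeo p)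
    [IsNoetherian T] [IsNoetherian T'] [T.IsSeparated] [T'.IsSeparated] :
    ∃ d : ℕ, 0 < d ∧ ∀ t' : T', ∃ e : ℕ,
      @Module.finrank (T.residueField (p t')) (T'.residueField t') _ _
          (p.residueFieldMap t').hom.toAlgebra.toModule =
        ringExpChar (T.residueField (p t')) ^ e ∧
      ringExpChar (T.residueField (p t')) ^ e ∣ d := by
  classical
  have hui := Lib.UnivHomeo.Basic.universallyInjective hp
  have hiff : AlgebraicGeometry.UniversallyInjective p ↔ (Function.Injective p ∧ ∀ x, (p.residueFieldMap x).hom.IsPurelyInseparable) :=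
    (AlgebraicGeometry.tfae_universallyInjective p).out 0 2
  have hpi : ∀ x, (p.residueFieldMap x).hom.IsPurelyInseparable := (hiff.mp hui).2
  have hloc : ∀ t : T, ∃ U : T.Opens, t ∈ U ∧ AlgebraicGeometry.IsAffineOpen U := fun t => by
    obtain ⟨U, hU, htU, -⟩ := T.isBasis_affineOpens.exists_subset_of_mem_open (Set.mem_univ t) isOpen_univ
    obtain ⟨W, hW, rfl⟩ := hU
    exact ⟨W, htU, hW⟩
  choose U htU hUaff using hloc
  choose N hN using fun t => H68.ResDeg.exists_bound_on_affine p (hUaff t)
  obtain ⟨s, hs⟩ := (isCompact_univ (X := T)).elim_finite_subcover (fun t => (U t : Set T))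
    (fun t => (U t).isOpen) (fun t _ => Set.mem_iUnion.mpr ⟨t, htU t⟩)
  refine ⟨Nat.factorial (s.sup N + 1), Nat.factorial_pos _, fun t' => ?_⟩
  obtain ⟨t, hts, htm⟩ := Set.mem_iUnion₂.mp (hs (Set.mem_univ (p t')))
  obtain ⟨hle, hfin⟩ := hN t t' htm
  letI := (p.residueFieldMap t').hom.toAlgebra
  haveI : Module.Finite (T.residueField (p t')) (T'.residueField t') := hfin
  haveI : IsPurelyInseparable (T.residueField (p t')) (T'.residueField t') := hpi t'
  haveI : ExpChar (T.residueField (p t')) (ringExpChar (T.residueField (p t'))) := inferInstance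
  obtain ⟨e, he⟩ := IsPurelyInseparable.finrank_eq_pow (T.residueField (p t')) (T'.residueField t')
    (ringExpChar (T.residueField (p t')))
  refine ⟨e, he, Nat.dvd_factorial ?_ ?_⟩
  · rw [← he]; exact Module.finrank_pos
  · rw [← he]; exact hle.trans ((Finset.le_sup hts).trans (Nat.le_succ _))

end Groth.Agent.S13831
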