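import Groth.Statements.S13832
import Groth.Agent.Lib.WeakNormal.FiniteFactor

set_option autoImplicit false
universe u
open AlgebraicGeometry CategoryTheory
open HTop

namespace Groth.Agent.S13832

/-- Let S be a Noetherian scheme, X → S locally of finite type, T a Noetherian S-scheme and ν : T' → T
an absolute weak normalization (all schemes separated). Then S-morphisms T' → X are the colimit of
S-morphisms T₁ → X over the finite universal homeomorphisms T₁ → T: every S-morphism g : T' → X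
factors as T' → T₁ → X for some finite universal homeomorphism T₁ → T, and two such factorizations
through T₁ and T₂ become equal on some finite universal homeomorphism T₃ → T dominating both. -/
theorem result {S X T T' : Scheme.{u}} [IsNoetherian S] [IsNoetherian T] [S.IsSeparated] [X.IsSeparated]
    [T.IsSeparated] [T'.IsSeparated] (fX : X ⟶ S) [LocallyOfFiniteType fX] (fT : T ⟶ S)
    (ν : T' ⟶ T) (hν : HTop.IsAWNormalization ν) :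
    (∀ g : T' ⟶ X, g ≫ fX = ν ≫ fT →
      ∃ (T₁ : Scheme.{u}) (π : T₁ ⟶ T) (_ : IsFinite π) (_ : FlatMor.IsUnivHomeo π) (g₁ : T₁ ⟶ X)
        (h : T' ⟶ T₁), h ≫ π = ν ∧ g₁ ≫ fX = π ≫ fT ∧ h ≫ g₁ = g) ∧
    (∀ (T₁ T₂ : Scheme.{u}) (π₁ : T₁ ⟶ T) (π₂ : T₂ ⟶ T) [IsFinite π₁] [IsFinite π₂],
      FlatMor.IsUnivHomeo π₁ → FlatMor.IsUnivHomeo π₂ →
      ∀ (g₁ : T₁ ⟶ X) (g₂ : T₂ ⟶ X) (h₁ : T' ⟶ T₁) (h₂ : T' ⟶ T₂),
        g₁ ≫ fX = π₁ ≫ fT → g₂ ≫ fX = π₂ ≫ fT → h₁ ≫ π₁ = ν → h₂ ≫ π₂ = ν → h₁ ≫ g₁ = h₂ ≫ g₂ →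
        ∃ (T₃ : Scheme.{u}) (π₃ : T₃ ⟶ T) (_ : IsFinite π₃) (_ : FlatMor.IsUnivHomeo π₃)
          (a₁ : T₃ ⟶ T₁) (a₂ : T₃ ⟶ T₂), a₁ ≫ π₁ = π₃ ∧ a₂ ≫ π₂ = π₃ ∧ a₁ ≫ g₁ = a₂ ≫ g₂) := by
  open Groth.Agent.Lib.WeakNormal in
  have hr : AlgebraicGeometry.IsReduced T' := AbsScheme.isReduced_of_isAWN (AbsScheme.isAWN_source hν)
  refine ⟨fun g hg => ?_, fun T₁ T₂ π₁ π₂ _ _ _ _ g₁ g₂ h₁ h₂ _ _ e₁ e₂ e => ?_⟩
  · obtain ⟨T₁, π, i1, i2, g₁, h, a, b, c, -⟩ :=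
      Lib.WeakNormal.FiniteFactor.exists_factor fX fT ν hν.1 g hg
    exact ⟨T₁, π, i1, i2, g₁, h, a, b, c⟩
  · obtain ⟨T₃, π₃, i1, i2, a₁, a₂, -, a, b, c, -, -⟩ :=
      Lib.WeakNormal.FiniteFactor.exists_common π₁ π₂ ν hν.1 g₁ g₂ h₁ h₂ e₁ e₂ e
    exact ⟨T₃, π₃, i1, i2, a₁, a₂, a, b, c⟩

end Groth.Agent.S13832
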