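import Groth.Statements.S13835
import Mathlib
import Groth.Agent.Lib.UnivHomeo.Basic

set_option autoImplicit false
universe u
open AlgebraicGeometry CategoryTheory
open ChowMon

open CategoryTheory CategoryTheory.Limits AlgebraicGeometry
namespace Groth.Agent.S13835

/-- Let p : T' → T be a universal homeomorphism of separated schemes with T reduced and f' : T' → Y a
morphism (Y separated); if T has an open cover by affine opens U_i such that each restriction of f'
to p⁻¹(U_i) factors through p⁻¹(U_i) → U_i, then f' factors through p. -/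
theorem result {T' T Y : Scheme.{u}} (p : T' ⟶ T) (hp : FlatMor.IsUnivHomeo p) [IsReduced T]
    [T.IsSeparated] [T'.IsSeparated] [Y.IsSeparated] (f' : T' ⟶ Y)
    {ι : Type u} (U : ι → T.affineOpens) (hU : ⨆ i, (U i : T.Opens) = ⊤)
    (hloc : ∀ i, ∃ fi : ((U i : T.Opens) : Scheme.{u}) ⟶ Y, (p ⁻¹ᵁ (U i : T.Opens)).ι ≫ f' = (p ∣_ (U i : T.Opens)) ≫ fi) :
    ∃ f : T ⟶ Y, p ≫ f = f' := by
  have := Lib.UnivHomeo.Basic.surjective hp
  choose fi hfi using hloc
  let 𝒰 := T.openCoverOfIsOpenCover (fun i => (U i : T.Opens)) hU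
  refine ⟨𝒰.glueMorphisms fi fun i j => ?_, ?_⟩
  · let Ui : T.Opens := U i
    let Uj : T.Opens := U j
    let q : pullback Ui.ι Uj.ι ⟶ T := pullback.fst _ _ ≫ Ui.ι
    haveI : IsReduced (pullback Ui.ι Uj.ι) := isReduced_of_isOpenImmersion q
    haveI : Surjective (pullback.fst q p) := MorphismProperty.pullback_fst _ _ (Lib.UnivHomeo.Basic.surjective hp)
    let a := (isPullback_morphismRestrict p Ui).lift (pullback.fst q p ≫ pullback.fst _ _) (pullback.snd q p)
      (by rw [Category.assoc]; exact pullback.condition)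
    let b := (isPullback_morphismRestrict p Uj).lift (pullback.fst q p ≫ pullback.snd _ _) (pullback.snd q p)
      (by rw [Category.assoc, ← pullback.condition (f := Ui.ι) (g := Uj.ι)]; exact pullback.condition)
    apply ext_of_isDominant (pullback.fst q p)
    show pullback.fst q p ≫ pullback.fst Ui.ι Uj.ι ≫ fi i = pullback.fst q p ≫ pullback.snd Ui.ι Uj.ι ≫ fi j
    have ha : a ≫ (p ∣_ Ui) = pullback.fst q p ≫ pullback.fst _ _ := IsPullback.lift_fst _ _ _ _
    have hb : b ≫ (p ∣_ Uj) = pullback.fst q p ≫ pullback.snd _ _ := IsPullback.lift_fst _ _ _ _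
    have ha' : a ≫ (p ⁻¹ᵁ Ui).ι = pullback.snd q p := IsPullback.lift_snd _ _ _ _
    have hb' : b ≫ (p ⁻¹ᵁ Uj).ι = pullback.snd q p := IsPullback.lift_snd _ _ _ _
    rw [← Category.assoc, ← ha, Category.assoc, ← hfi i, ← Category.assoc, ha',
      ← Category.assoc, ← hb, Category.assoc, ← hfi j, ← Category.assoc, hb']
  · refine (T'.openCoverOfIsOpenCover (fun i => p ⁻¹ᵁ (U i : T.Opens)) ?_).hom_ext _ _ fun i => ?_
    · exact TopologicalSpace.IsOpenCover.comap hU p.base.hom
    · show (p ⁻¹ᵁ (U i : T.Opens)).ι ≫ p ≫ _ = (p ⁻¹ᵁ (U i : T.Opens)).ι ≫ f'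
      rw [hfi i, ← Category.assoc, ← morphismRestrict_ι, Category.assoc]
      congr 1
      exact 𝒰.ι_glueMorphisms _ _ i

end Groth.Agent.S13835
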