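import Groth.Statements.S9689
import Groth.Agent.Lib.Unram.NormalizationUnivHomeo

set_option autoImplicit false
universe u
open CategoryTheory CategoryTheory.Limits AlgebraicGeometry
open Mor

namespace Groth.Agent.S9689

/-- For an integral scheme X: if every local ring of X is geometrically unibranch, then the
normalization morphism X^ν ⟶ X is a universal homeomorphism. (The published statement assumes only X
irreducible; this row takes X integral, which loses nothing since the normalization of X equals that
of its reduction.) (The quasi-compactness and quasi-separatedness binders on Spec K(X) ⟶ X always
hold; they are only needed to form the normalization.) -/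
theorem result (X : Scheme.{u}) [IsIntegral X] [QuasiCompact (X.fromSpecStalk (genericPoint ↥X))] [QuasiSeparated (X.fromSpecStalk (genericPoint ↥X))]
    (hX : ∀ x : X, CAlg2.IsGeomUnibranch (X.presheaf.stalk x)) :
    FlatMor.IsUnivHomeo (Curv2.normalizationι X) := by
  exact Groth.Agent.Lib.Unram.NormalizationUnivHomeo.isUnivHomeo X hX

end Groth.Agent.S9689
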