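import Groth.Statements.S13836
import Groth.Agent.S9689
import Groth.Agent.Lib.UnivHomeo.Basic
import Mathlib.AlgebraicGeometry.Morphisms.UniversallyInjective

set_option autoImplicit false
universe u
open AlgebraicGeometry CategoryTheory
open HTop

namespace Groth.Agent.S13836

set_option backward.isDefEq.respectTransparency false in
/-- Let Y be a separated Noetherian integral scheme whose local rings are geometrically unibranch and
whose affine coordinate rings are Nagata, K its function field and L a finite purely inseparable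
extension of K; then the normalization of Y in L, i.e. the normalization of Y relative to Spec L →
Spec K → Y, maps to Y by a universal homeomorphism. (The instance binders on Spec L → Y always hold;
they are only needed to form the normalization.) -/
theorem result (Y : Scheme.{u}) [IsIntegral Y] [IsNoetherian Y] [Y.IsSeparated]
    (hY : ∀ y : Y, CAlg2.IsGeomUnibranch (Y.presheaf.stalk y))
    (hN : ∀ U : Y.affineOpens, CAlg.IsNagata Γ(Y, U))
    (L : Type u) [Field L] [Algebra Y.functionField L] [FiniteDimensional Y.functionField L]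
    [IsPurelyInseparable Y.functionField L]
    [QuasiCompact (Spec.map (CommRingCat.ofHom (algebraMap Y.functionField L)) ≫ Y.fromSpecStalk (genericPoint Y))]
    [QuasiSeparated (Spec.map (CommRingCat.ofHom (algebraMap Y.functionField L)) ≫ Y.fromSpecStalk (genericPoint Y))] :
    FlatMor.IsUnivHomeo
      (Spec.map (CommRingCat.ofHom (algebraMap Y.functionField L)) ≫ Y.fromSpecStalk (genericPoint Y)).fromNormalization := by
  classical
  open CategoryTheory CategoryTheory.Limits Opposite in
  set K := Y.functionField
  let h : Spec (CommRingCat.of L) ⟶ Spec K := Spec.map (CommRingCat.ofHom (algebraMap K L))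
  let g : Spec K ⟶ Y := Y.fromSpecStalk (genericPoint Y)
  let f : Spec (CommRingCat.of L) ⟶ Y := h ≫ g
  have : QuasiCompact g := quasiCompact_of_compactSpace g
  have : QuasiSeparated g := inferInstance
  have hν : FlatMor.IsUnivHomeo g.fromNormalization := Groth.Agent.S9689.result Y hY
  have : UniversallyInjective g.fromNormalization :=
    Groth.Agent.Lib.UnivHomeo.Basic.universallyInjective hν
  refine (Groth.Agent.Lib.UnivHomeo.Basic.iff_integral_universallyInjective_surjective _).2
    ⟨inferInstance, ?_, ?_⟩
  · refine ((tfae_universallyInjective _).out 1 0 rfl rfl).1 fun Ω _ g₁ g₂ hg => ?_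
    have hg' : g₁ ≫ f.fromNormalization = g₂ ≫ f.fromNormalization := hg
    let pt : Spec (CommRingCat.of Ω) := IsLocalRing.closedPoint Ω
    obtain ⟨U₀, hU₀, hyU, -⟩ := exists_isAffineOpen_mem_and_subset (X := Y)
      (x := (g₁ ≫ f.fromNormalization) pt) (U := ⊤) trivial
    let U : Y.affineOpens := ⟨U₀, hU₀⟩
    have hUI : IsOpenImmersion (f.normalizationOpenCover.f U) := f.normalizationOpenCover.map_prop U
    have : IsOpenImmersion (g.normalizationOpenCover.f U) := g.normalizationOpenCover.map_prop U
    have hrange : ∀ g' : Spec (CommRingCat.of Ω) ⟶ f.normalization,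
        g' ≫ f.fromNormalization = g₁ ≫ f.fromNormalization →
          Set.range g' ⊆ Set.range (f.normalizationOpenCover.f U) := by
      rintro g' hg'' _ ⟨z, rfl⟩
      have hz : g' z ∈ f.fromNormalization ⁻¹ᵁ U.1 := by
        show f.fromNormalization (g' z) ∈ U.1
        have : z = pt := Subsingleton.elim (α := PrimeSpectrum Ω) z pt
        rw [← Scheme.Hom.comp_apply, hg'', this]
        exact hyU
      rw [Scheme.Hom.fromNormalization_preimage] at hz
      exact hz
    obtain ⟨φ₁, hφ₁⟩ := Spec.map_surjective
      (IsOpenImmersion.lift (f.normalizationOpenCover.f U) g₁ (hrange g₁ rfl))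
    obtain ⟨φ₂, hφ₂⟩ := Spec.map_surjective
      (IsOpenImmersion.lift (f.normalizationOpenCover.f U) g₂ (hrange g₂ hg'.symm))
    have h1 : Spec.map φ₁ ≫ f.normalizationOpenCover.f U = g₁ := by
      rw [hφ₁, IsOpenImmersion.lift_fac]
    have h2 : Spec.map φ₂ ≫ f.normalizationOpenCover.f U = g₂ := by
      rw [hφ₂, IsOpenImmersion.lift_fac]
    suffices φ₁ = φ₂ by rw [← h1, ← h2, this]
    have hA : f.normalizationDiagramMap.app (op U.1) ≫ φ₁ =
        f.normalizationDiagramMap.app (op U.1) ≫ φ₂ := by
      refine Spec.map_injective ((cancel_mono U.2.fromSpec).1 ?_)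
      rw [Spec.map_comp, Spec.map_comp, Category.assoc, Category.assoc, ← f.ι_fromNormalization]
      rw [← Category.assoc, ← Category.assoc, h1, h2, hg']
    let := (f.app U.1).hom.toAlgebra
    let := (g.app U.1).hom.toAlgebra
    -- the map from the normalization in `K`
    let hU : Γ(Spec K, g ⁻¹ᵁ U.1) →ₐ[Γ(Y, U.1)] Γ(Spec (CommRingCat.of L), f ⁻¹ᵁ U.1) :=
      { (h.app (g ⁻¹ᵁ U.1)).hom with
        commutes' := fun a => by
          show (h.app (g ⁻¹ᵁ U.1)).hom ((g.app U.1).hom a) = (f.app U.1).hom a
          rw [Scheme.Hom.comp_app]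
          rfl }
    let m : g.normalizationDiagram.obj (op U.1) ⟶ f.normalizationDiagram.obj (op U.1) :=
      CommRingCat.ofHom ((hU.restrictDomain (integralClosure Γ(Y, U.1) Γ(Spec K, g ⁻¹ᵁ U.1))).codRestrict
        (integralClosure Γ(Y, U.1) Γ(Spec (CommRingCat.of L), f ⁻¹ᵁ U.1))
        (fun x => x.2.map hU)).toRingHom
    have hmA : g.normalizationDiagramMap.app (op U.1) ≫ m = f.normalizationDiagramMap.app (op U.1) := by
      refine CommRingCat.hom_ext (RingHom.ext fun a => Subtype.ext ?_)
      exact hU.commutes a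
    have hψ : m ≫ φ₁ = m ≫ φ₂ := by
      refine Spec.map_injective ((cancel_mono (g.normalizationOpenCover.f U)).1 ?_)
      refine ((tfae_universallyInjective g.fromNormalization).out 0 1 rfl rfl).1 inferInstance Ω ?_
      show (_ ≫ _) ≫ _ = (_ ≫ _) ≫ _
      rw [Category.assoc, Category.assoc, g.ι_fromNormalization, ← Spec.map_comp_assoc,
        ← Spec.map_comp_assoc, ← Category.assoc, ← Category.assoc, hmA, hA]
    -- inseparability
    have hηU : g ⁻¹ᵁ U.1 = ⊤ := by
      refine top_unique fun z _ => ?_
      show g z ∈ U.1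
      have : z = IsLocalRing.closedPoint K := Subsingleton.elim (α := PrimeSpectrum K) z _
      rw [this, Scheme.fromSpecStalk_closedPoint]
      exact ((genericPoint_spec Y).mem_open_set_iff U.1.2).2
        ⟨_, trivial, (hyU : (g₁ ≫ f.fromNormalization) pt ∈ U.1)⟩
    obtain ⟨q, _⟩ := ExpChar.exists K
    have hq : ExpChar L q := expChar_of_injective_algebraMap (algebraMap K L).injective q
    have hpow : ∀ b : Γ(Spec (CommRingCat.of L), f ⁻¹ᵁ U.1),
        ∃ (n : ℕ) (c : Γ(Spec K, g ⁻¹ᵁ U.1)), hU c = b ^ q ^ n := by
      have key : ∀ (V : (Spec K).Opens), V = ⊤ → ∀ b : Γ(Spec (CommRingCat.of L), h ⁻¹ᵁ V),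
          ∃ (n : ℕ) (c : Γ(Spec K, V)), (h.app V).hom c = b ^ q ^ n := by
        rintro _ rfl b
        obtain ⟨n, k, hk⟩ := IsPurelyInseparable.pow_mem K q
          ((Scheme.ΓSpecIso (CommRingCat.of L)).hom b)
        refine ⟨n, (Scheme.ΓSpecIso K).inv k, ?_⟩
        refine (congr($(Scheme.ΓSpecIso_inv_naturality (CommRingCat.ofHom (algebraMap K L))) k)).symm.trans ?_
        refine (congrArg (Scheme.ΓSpecIso (CommRingCat.of L)).inv hk).trans ?_
        rw [map_pow]
        congr 1
        exact congr($((Scheme.ΓSpecIso (CommRingCat.of L)).hom_inv_id) b)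
      exact key _ hηU
    have hinj : Function.Injective hU := by
      have key : ∀ (V : (Spec K).Opens), V = ⊤ → Function.Injective (h.app V).hom := by
        rintro _ rfl c c' hc
        refine (Scheme.ΓSpecIso K).commRingCatIsoToRingEquiv.injective ((algebraMap K L).injective ?_)
        refine (congr($(Scheme.ΓSpecIso_naturality (CommRingCat.ofHom (algebraMap K L))) c)).symm.trans ?_
        refine Eq.trans ?_ (congr($(Scheme.ΓSpecIso_naturality (CommRingCat.ofHom (algebraMap K L))) c'))
        exact congrArg (Scheme.ΓSpecIso (CommRingCat.of L)).hom hc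
      exact key _ hηU
    refine CommRingCat.hom_ext (RingHom.ext fun b => ?_)
    obtain ⟨n, c, hc⟩ := hpow b.1
    have hcint : IsIntegral Γ(Y, U.1) c :=
      (isIntegral_algHom_iff hU hinj).1 (by rw [hc]; exact pow_mem b.2 _)
    have hb : m ⟨c, hcint⟩ = b ^ q ^ n := Subtype.ext hc
    have hbq : φ₁ (b ^ q ^ n) = φ₂ (b ^ q ^ n) := by
      rw [← hb]
      exact congr($hψ ⟨c, hcint⟩)
    rcases ‹ExpChar K q› with _ | ⟨hprime, _⟩
    · simpa using hbq
    have hΩ : ExpChar Ω q := by
      have hL : (q : L) = 0 := by rw [← map_natCast (algebraMap K L), CharP.cast_eq_zero, map_zero]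
      have h0 : ((q : ℕ) : Γ(Spec (CommRingCat.of L), f ⁻¹ᵁ U.1)) = 0 := by
        rw [← map_natCast ((Spec (CommRingCat.of L)).presheaf.map (homOfLE le_top : f ⁻¹ᵁ U.1 ⟶ ⊤).op).hom,
          ← map_natCast (Scheme.ΓSpecIso (CommRingCat.of L)).inv.hom, hL, map_zero, map_zero]
      have hB : ((q : ℕ) : f.normalizationDiagram.obj (op U.1)) = 0 := Subtype.ext h0
      have := (CharP.charP_iff_prime_eq_zero hprime).2
        (show (q : Ω) = 0 by rw [← map_natCast φ₁.hom, hB, map_zero])
      exact ExpChar.prime hprime
    rw [map_pow, map_pow] at hbq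
    exact iterateFrobenius_inj Ω q n hbq
  · have hd : IsDominant f := by
      refine ⟨Dense.mono ?_ (dense_iff_closure_eq.2 (genericPoint_spec Y).def)⟩
      rintro _ rfl
      exact ⟨IsLocalRing.closedPoint L, by
        rw [Scheme.Hom.comp_apply,
          Subsingleton.elim (α := PrimeSpectrum K) (h (IsLocalRing.closedPoint L)) (IsLocalRing.closedPoint K)]
        exact Scheme.fromSpecStalk_closedPoint⟩
    have : IsDominant (f.toNormalization ≫ f.fromNormalization) := by
      rw [Scheme.Hom.toNormalization_fromNormalization]; exact hd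
    have : IsDominant f.fromNormalization := IsDominant.of_comp f.toNormalization _
    exact ⟨Set.range_eq_univ.mp (f.fromNormalization.isClosedMap.isClosed_range.closure_eq.symm.trans
      f.fromNormalization.denseRange.closure_eq)⟩

end Groth.Agent.S13836
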