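import Groth.Statements.S13843
import Groth.Agent.H61.FieldCoh.Efface
import Groth.Agent.H61.HpullFunct
import Mathlib.GroupTheory.Sylow

set_option autoImplicit false
universe u
open CategoryTheory CategoryTheory.Limits AlgebraicGeometry
open GalCoh

namespace Groth.Agent.S13843

open Groth.Agent.H61.FieldCoh
open CategoryTheory.Limits

/-- Vanishing of the pullback along a composite gives vanishing of the iterated pullback. -/
lemma Hpull_Hpull_eq_zero {X Y Z : Scheme.{u}} (f : X ⟶ Y) (g : Y ⟶ Z) (f₀ : X ⟶ Z) (w : f ≫ g = f₀)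
    [PreservesFiniteLimits (EtCoh.pull f)] [PreservesFiniteLimits (EtCoh.pull g)]
    [PreservesFiniteLimits (EtCoh.pull f₀)] (G : EtCoh.Ab Z) (n : ℕ) (e : EtCoh.H Z G n)
    (h : EtCore.Hpull f₀ G n e = 0) : EtCore.Hpull f ((EtCoh.pull g).obj G) n (EtCore.Hpull g G n e) = 0 := by
  have hh := Groth.Agent.H61.HpullFunct.HpullVia_Hpull f g f₀ w G n e
  rw [h, EtCore.HpullVia] at hh
  have hm : Mono ((EtCoh.HF X n).map (((EtCore.pullComp f g).symm ≪≫ EtCore.pullCongr w).app G).hom) :=
    inferInstance
  exact (AddCommGrpCat.mono_iff_injective _).1 hm (hh.trans (map_zero _).symm)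


/-- Let K be a field, F an abelian sheaf on the small étale site of Spec K, i > 0 and α a class in
H^i(Spec K, F) which pulls back to zero over some finite separable field extension L of K. If p is a
prime not dividing the order of α, then there is a finite separable field extension L' of K whose
degree is not divisible by p and over which α pulls back to zero. Hence the period and the index of
α have the same prime factors. (Exactness of pullback of abelian sheaves, which always holds, is
carried as an instance hypothesis, in the conclusion for every such instance.) -/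
theorem result (K : Type u) [Field K] (F : EtCoh.Ab (Spec (CommRingCat.of K))) (i : ℕ)
    (hi : 0 < i) (α : EtCoh.H (Spec (CommRingCat.of K)) F i) (L : Type u) [Field L] [Algebra K L] [FiniteDimensional K L]
    [Algebra.IsSeparable K L] [PreservesFiniteLimits (EtCoh.pull (Spec.map (CommRingCat.ofHom (algebraMap K L))))]
    (hα : EtCore.Hpull (Spec.map (CommRingCat.ofHom (algebraMap K L))) F i α = 0) (p : ℕ) (hp : p.Prime) (hpα : ¬ p ∣ addOrderOf α) :
    ∃ (L' : Type u) (_ : Field L') (_ : Algebra K L') (_ : FiniteDimensional K L') (_ : Algebra.IsSeparable K L'),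
      ¬ p ∣ Module.finrank K L' ∧
        ∀ [PreservesFiniteLimits (EtCoh.pull (Spec.map (CommRingCat.ofHom (algebraMap K L'))))],
          EtCore.Hpull (Spec.map (CommRingCat.ofHom (algebraMap K L'))) F i α = 0 := by
  haveI : Fact p.Prime := ⟨hp⟩
  obtain ⟨N, _, _, _, _, hcard⟩ := exists_galois K L
  haveI := etale_of_finite K L
  haveI := etale_of_finite K N
  obtain ⟨τ⟩ : Nonempty (L →ₐ[K] N) := by
    refine (Nat.card_pos_iff.1 ?_).1
    rw [hcard]
    exact Module.finrank_pos
  have hN : EtCore.Hpull (jF K N) F i α = 0 := (Hpull_eq_zero_iff (jF K N) F i α).2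
    (mk₀_aug_comp_eq_zero (jF K L) (jF K N) (homO τ) ((Hpull_eq_zero_iff (jF K L) F i α).1 hα))
  obtain ⟨P⟩ : Nonempty (Sylow p (N ≃ₐ[K] N)) := inferInstance
  let L' := IntermediateField.fixedField (P : Subgroup (N ≃ₐ[K] N))
  haveI : Algebra.IsSeparable K L' := Algebra.isSeparable_tower_bot_of_isSeparable K L' N
  haveI : Algebra.IsSeparable L' N := Algebra.isSeparable_tower_top_of_isSeparable K L' N
  have hdeg : Module.finrank K L' = (P : Subgroup (N ≃ₐ[K] N)).index := by
    have h1 := Module.finrank_mul_finrank K L' N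
    rw [IntermediateField.finrank_fixedField_eq_card, ← IsGalois.card_aut_eq_finrank K N,
      ← Subgroup.card_mul_index (P : Subgroup (N ≃ₐ[K] N)), mul_comm] at h1
    exact Nat.eq_of_mul_eq_mul_left Nat.card_pos h1
  refine ⟨L', inferInstance, inferInstance, inferInstance, inferInstance, hdeg ▸ P.not_dvd_index, ?_⟩
  intro inst
  haveI := etale_of_finite K L'
  haveI := etale_of_finite L' N
  set β := EtCore.Hpull (jF K L') F i α with hβ
  have hβN : EtCore.Hpull (jF L' N) _ i β = 0 := by
    refine Hpull_Hpull_eq_zero (jF L' N) (jF K L') (jF K N) ?_ F i α hN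
    rw [← Spec.map_comp, ← CommRingCat.ofHom_comp, ← IsScalarTower.algebraMap_eq]
  obtain ⟨c, hc⟩ := IsPGroup.iff_card.1 P.isPGroup'
  have h1 : addOrderOf β ∣ p ^ c := by
    rw [← hc, ← IntermediateField.finrank_fixedField_eq_card (P : Subgroup (N ≃ₐ[K] N))]
    exact addOrderOf_dvd_of_nsmul_eq_zero
      (finrank_nsmul_eq_zero L' N ((Hpull_eq_zero_iff (jF L' N) _ i β).1 hβN))
  have h2 : addOrderOf β ∣ addOrderOf α := addOrderOf_dvd_of_nsmul_eq_zero (by
    rw [hβ, ← map_nsmul, addOrderOf_nsmul_eq_zero, map_zero])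
  have h3 : addOrderOf β = 1 := Nat.eq_one_of_dvd_coprimes
    (Nat.Coprime.pow_left c ((Nat.Prime.coprime_iff_not_dvd hp).2 hpα)) h1 h2
  exact AddMonoid.addOrderOf_eq_one_iff.1 h3

end Groth.Agent.S13843
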