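import Groth.Statements.S13846
import Mathlib
-- import your own Groth.Agent.* helpers here

set_option autoImplicit false
universe u v
open TwSh

namespace Groth.Agent.S13846


theorem rankOne {k V : Type*} [Field k] [AddCommGroup V] [Module k V] (𝒱 : ℤ → Submodule k V)
    (hind : iSupIndep 𝒱) {a : ℤ} {v₀ : V} (hv₀ : v₀ ∈ 𝒱 a) (hne : v₀ ≠ 0) :
    ∃ ℓ : V →ₗ[k] k, ℓ v₀ = 1 ∧ ∀ (i : ℤ) (x : V), x ∈ 𝒱 i → ∀ (i' : ℤ) (y : V), y ∈ 𝒱 i' →
      ℓ y • x ∈ 𝒱 (i' + (i - a)) := by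
  have hnot : v₀ ∉ ⨆ (j) (_ : j ≠ a), 𝒱 j := fun h => hne (Submodule.disjoint_def.mp (hind a) _ hv₀ h)
  obtain ⟨ℓ, hℓ, hℓ0⟩ := Submodule.exists_dual_map_eq_bot_of_notMem hnot inferInstance
  refine ⟨(ℓ v₀)⁻¹ • ℓ, by simp [hℓ], fun i x hx i' y hy => ?_⟩
  by_cases h : i' = a
  · subst h
    rw [show i' + (i - i') = i by ring]
    exact Submodule.smul_mem _ _ hx
  · have : ℓ y = 0 := by
      have : ℓ y ∈ Submodule.map ℓ (⨆ (j) (_ : j ≠ a), 𝒱 j) :=
        Submodule.mem_map_of_mem (Submodule.mem_iSup_of_mem i' (Submodule.mem_iSup_of_mem h hy))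
      rw [hℓ0] at this
      simpa using this
    simp [this]


/-- Let k be a field and V, W finite-dimensional ℤ-graded k-vector spaces, V = ⊕ V_i with V ≠ 0 and W =
⊕ W_i. Let φ : End_k(V) ≃ End_k(W) be a k-algebra isomorphism which sends every endomorphism
homogeneous of degree d (one mapping V_i into V_{i+d} for all i) to an endomorphism homogeneous of
degree d. Then there are an integer n and a k-linear isomorphism g : V ≅ W with g(V_i) = W_{i+n} for
every i such that φ(f) = g ∘ f ∘ g⁻¹ for all f; moreover n is unique and g is unique up to a nonzero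
scalar: if g' : V ≅ W satisfies g'(V_i) = W_{i+n'} for all i and φ(f) = g' ∘ f ∘ g'⁻¹ for all f,
then n' = n and g' = c·g for some c ∈ kˣ. (The published statement is about non-zero perfect
complexes over k: an isomorphism of their derived endomorphism algebras, as algebra objects of the
derived category, is induced by an isomorphism from the first complex to a shift of the second, for
a unique shift and up to a unit; this row is its form for finite-dimensional ℤ-graded vector spaces,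
to which the bounded derived category of a field is equivalent by taking cohomology.) -/
theorem result (k : Type u) [Field k] (V W : Type v) [AddCommGroup V] [Module k V] [FiniteDimensional k V] [Nontrivial V] [AddCommGroup W] [Module k W] [FiniteDimensional k W] (𝒱 : ℤ → Submodule k V) (h𝒱 : DirectSum.IsInternal 𝒱) (𝒲 : ℤ → Submodule k W) (h𝒲 : DirectSum.IsInternal 𝒲) (φ : Module.End k V ≃ₐ[k] Module.End k W) (hφ : ∀ (d : ℤ) (f : Module.End k V), (∀ (i : ℤ) (x : V), x ∈ 𝒱 i → f x ∈ 𝒱 (i + d)) → ∀ (i : ℤ) (y : W), y ∈ 𝒲 i → φ f y ∈ 𝒲 (i + d)) : ∃ (n : ℤ) (g : V ≃ₗ[k] W), (∀ i : ℤ, Submodule.map (g : V →ₗ[k] W) (𝒱 i) = 𝒲 (i + n)) ∧ (∀ f : Module.End k V, φ f = (g : V →ₗ[k] W) ∘ₗ f ∘ₗ (g.symm : W →ₗ[k] V)) ∧ ∀ (n' : ℤ) (g' : V ≃ₗ[k] W), (∀ i : ℤ, Submodule.map (g' : V →ₗ[k] W) (𝒱 i) = 𝒲 (i + n')) → (∀ f : Module.End k V, φ f = (g' : V →ₗ[k] W) ∘ₗ f ∘ₗ (g'.symm : W →ₗ[k] V)) → n' = n ∧ ∃ c : kˣ, ∀ x : V, g' x = c • g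 x := by
  obtain ⟨g, hg⟩ := φ.eq_linearEquivConjAlgEquiv
  have hφg : ∀ f, φ f = (g : V →ₗ[k] W) ∘ₗ f ∘ₗ (g.symm : W →ₗ[k] V) := fun f => by rw [hg]; rfl
  have hVtop : iSup 𝒱 = ⊤ := h𝒱.submodule_iSup_eq_top
  have hWtop : iSup 𝒲 = ⊤ := h𝒲.submodule_iSup_eq_top
  obtain ⟨a, v₀, hv₀, hne⟩ : ∃ a, ∃ v ∈ 𝒱 a, v ≠ 0 := by
    by_contra h
    push_neg at h
    have : iSup 𝒱 = ⊥ := by simpa [iSup_eq_bot, Submodule.eq_bot_iff] using h
    rw [hVtop] at this
    exact top_ne_bot this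
  obtain ⟨ℓ, hℓ, hℓdeg⟩ := rankOne 𝒱 h𝒱.submodule_iSupIndep hv₀ hne
  have happ : ∀ x y, φ (ℓ.smulRight x) y = ℓ (g.symm y) • g x := fun x y => by simp [hφg]
  -- `g v₀` is homogeneous
  obtain ⟨b, hb⟩ : ∃ b, g v₀ ∈ 𝒲 b := by
    have hdeg : ∀ i y, y ∈ 𝒲 i → φ (ℓ.smulRight v₀) y ∈ 𝒲 i := fun i y hy => by
      have := hφ 0 (ℓ.smulRight v₀) (fun i' x hx => by simpa using hℓdeg a v₀ hv₀ i' x hx) i y hy
      simpa using this
    by_contra h
    push_neg at h
    have h0 : ∀ i, 𝒲 i ≤ LinearMap.ker (φ (ℓ.smulRight v₀)) := by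
      intro i y hy
      by_contra hc
      rw [LinearMap.mem_ker, happ] at hc
      have hc1 : ℓ (g.symm y) ≠ 0 := left_ne_zero_of_smul hc
      have := Submodule.smul_mem (𝒲 i) (ℓ (g.symm y))⁻¹ (hdeg i y hy)
      rw [happ, smul_smul, inv_mul_cancel₀ hc1, one_smul] at this
      exact h i this
    have h1 : g v₀ ∈ LinearMap.ker (φ (ℓ.smulRight v₀)) := (iSup_le h0) (hWtop ▸ Submodule.mem_top)
    rw [LinearMap.mem_ker, happ, g.symm_apply_apply, hℓ, one_smul] at h1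
    exact hne (g.map_eq_zero_iff.mp h1)
  set n := b - a with hn
  have hle : ∀ i x, x ∈ 𝒱 i → g x ∈ 𝒲 (i + n) := by
    intro i x hx
    have := hφ (i - a) (ℓ.smulRight x) (fun i' y hy => hℓdeg i x hx i' y hy) b (g v₀) hb
    rw [happ, g.symm_apply_apply, hℓ, one_smul] at this
    rwa [show i + n = b + (i - a) by rw [hn]; ring]
  refine ⟨n, g, fun i => le_antisymm (by rintro _ ⟨x, hx, rfl⟩; exact hle i x hx) ?_, hφg, ?_⟩
  · intro y hy
    have hsplit : (⊤ : Submodule k V) ≤ 𝒱 i ⊔ ⨆ (j) (_ : j ≠ i), 𝒱 j := by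
      rw [← hVtop]
      refine iSup_le fun j => ?_
      by_cases h : j = i
      · exact h ▸ le_sup_left
      · exact (le_iSup₂ (f := fun j (_ : j ≠ i) => 𝒱 j) j h).trans le_sup_right
    obtain ⟨x, hx, z, hz, hxz⟩ := Submodule.mem_sup.mp (hsplit (Submodule.mem_top (x := g.symm y)))
    have hgz : g z ∈ ⨆ (l) (_ : l ≠ i + n), 𝒲 l := by
      have : (⨆ (j) (_ : j ≠ i), 𝒱 j) ≤ (⨆ (l) (_ : l ≠ i + n), 𝒲 l).comap (g : V →ₗ[k] W) :=
        iSup₂_le fun j hj w hw =>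
          Submodule.mem_iSup_of_mem (j + n) (Submodule.mem_iSup_of_mem (by omega) (hle j w hw))
      exact this hz
    have hz0 : g z = 0 := by
      have : g z ∈ 𝒲 (i + n) := by
        rw [show g z = y - g x by rw [eq_sub_iff_add_eq, ← map_add, add_comm, hxz, g.apply_symm_apply]]
        exact sub_mem hy (hle i x hx)
      exact Submodule.disjoint_def.mp (h𝒲.submodule_iSupIndep (i + n)) _ this hgz
    refine ⟨x, hx, ?_⟩
    show g x = y
    rw [← g.apply_symm_apply y, ← hxz, map_add, hz0, add_zero]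
  · intro n' g' hg' hconj
    have : g'.conjAlgEquiv k = g.conjAlgEquiv k := AlgEquiv.ext fun f => (hconj f).symm.trans (hφg f)
    obtain ⟨c, hc⟩ := (LinearEquiv.conjAlgEquiv_ext_iff' g' g).mp this
    have hc' : ∀ x, g' x = c • g x := fun x => congrArg (fun e : V ≃ₗ[k] W => e x) hc
    refine ⟨?_, c, hc'⟩
    by_contra hne'
    have h1 : g' v₀ ∈ 𝒲 (a + n') := hg' a ▸ Submodule.mem_map_of_mem hv₀
    rw [hc'] at h1
    have h2 : c • g v₀ ∈ 𝒲 (a + n) := Submodule.smul_mem _ (c : k) (hle a v₀ hv₀)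
    have := Submodule.disjoint_def.mp (h𝒲.submodule_iSupIndep (a + n)) _ h2
      (Submodule.mem_iSup_of_mem (a + n') (Submodule.mem_iSup_of_mem (by omega) h1))
    rw [smul_eq_zero_iff_eq] at this
    exact hne (g.map_eq_zero_iff.mp this)

end Groth.Agent.S13846
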