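import Groth.Statements.S13858
import Groth.Agent.Lib.MulRestr27.Main
import Groth.Agent.Lib.TensorMod.FPConv

set_option autoImplicit false
open CategoryTheory CategoryTheory.Limits AlgebraicGeometry
open AdjLin

namespace Groth.Agent.S13858

/-- Let X be a regular projective variety over the complex numbers (an integral scheme, proper over ℂ,
with H^1(X, O_X) = 0), E a finite locally free O_X-module, I a quasi-coherent ideal of O_X with
closed subscheme D and O_D its structure sheaf viewed on X, and L an invertible module generated by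
its global sections with L ⊗ I ≅ O_X (so that L = O_X(D)) and H^1(E ⊗ I) = 0 (that is, H^1(E ⊗
L^{-1}) = 0). If the multiplication map H^0(E ⊗ O_D) ⊗ H^0(L ⊗ O_D) → H^0(E ⊗ O_D ⊗ L ⊗ O_D) on the
restrictions to D is surjective, then the multiplication map H^0(E) ⊗ H^0(L) → H^0(E ⊗ L) is
surjective (such a multiplication map is written as the map from the global sections of the
sectionwise tensor product presheaf to the global sections of its sheafification). -/
theorem result
    (X : Scheme.{0}) [X.Over (Spec (CommRingCat.of ℂ))] [IsIntegral X] [IsProper (X ↘ Spec (CommRingCat.of ℂ))]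
    (hreg : Subsingleton (Coh.HH X (Coh.structureModule X) 1))
    (E : X.Modules) (hE : FlatMod.IsFinLocFree E)
    (I : X.IdealSheafData) (L : X.Modules) (hLi : PicF.IsInvertible L) (hLg : Curv2.IsGloballyGenerated L)
    (hLI : ClSub.IsInverseOf L (ClSub.idealMod I))
    (h1 : Subsingleton (Coh.HH X (CohB1.tensorMod E (ClSub.idealMod I)) 1))
    (hD : Function.Surjective
      ((toSheafify (Opens.grothendieckTopology X) (CohB1.tensorPre (CohB1.tensorMod E (ClSub.quotMod I)) (CohB1.tensorMod L (ClSub.quotMod I))).presheaf).app (Opposite.op ⊤))) :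
    Function.Surjective
      ((toSheafify (Opens.grothendieckTopology X) (CohB1.tensorPre E L).presheaf).app (Opposite.op ⊤)) := by
  obtain ⟨φ⟩ := hLI
  have key : ∀ (M : X.Modules), Subsingleton (Coh.HH X M 1) →
      Subsingleton (CategoryTheory.Abelian.Ext.{0}
        (Groth.Agent.Lib.ZarCoh.Basic.Zs.obj (⊤ : X.Opens)) (Coh.toAb M) 1) := fun M h =>
    (Groth.Agent.Lib.ZarCoh.Compare.hTop (Coh.toAb M) 1).symm.toEquiv.subsingleton
  have h0 : Subsingleton (CategoryTheory.Abelian.Ext.{0}
      (Groth.Agent.Lib.ZarCoh.Basic.Zs.obj (⊤ : X.Opens))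
      (Coh.toAb (CohB1.tensorMod L (ClSub.idealMod I))) 1) :=
    Groth.Agent.H34.HOne.ext_of_iso _ 1
      ((Groth.Agent.Lib.CohDelta.Basic.abF X).mapIso φ.symm) (key _ hreg)
  intro y
  let G : AddSubgroup _ := AddMonoidHom.range
    ((toSheafify (Opens.grothendieckTopology X) (CohB1.tensorPre E L).presheaf).app (Opposite.op ⊤)).hom
  let H : AddSubgroup _ := AddMonoidHom.range
    ((toSheafify (Opens.grothendieckTopology X) (CohB1.tensorPre (CohB1.tensorMod E (ClSub.quotMod I))
      (CohB1.tensorMod L (ClSub.quotMod I))).presheaf).app (Opposite.op ⊤)).hom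
  refine Groth.Agent.Lib.MulRestr27.Main.mem_of_surjective I hE ?_ φ h0 (key _ h1) G ?_ H ?_ ?_ y
  · exact Groth.Agent.Lib.TensorMod.TensorInv.isFinLocFree_left φ
  · intro e l
    exact ⟨TensorProduct.tmul _ e l, (Groth.Agent.Lib.ProjKoszul.Surj.tens_eq_η e l).symm⟩
  · rintro K hK _ ⟨p, rfl⟩
    induction p using TensorProduct.induction_on with
    | zero => erw [map_zero]; exact K.zero_mem
    | tmul e l => exact (congrArg (fun z => z ∈ K)
        (Groth.Agent.Lib.ProjKoszul.Surj.tens_eq_η (M := CohB1.tensorMod E (ClSub.quotMod I))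
          (N := CohB1.tensorMod L (ClSub.quotMod I)) (U := ⊤) e l)).mp (hK e l)
    | add a b ha hb => erw [map_add]; exact K.add_mem ha hb
  · exact AddMonoidHom.range_eq_top.2 hD

end Groth.Agent.S13858
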