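import Groth.Statements.S1386
import Groth.Agent.Lib.Flat55.FibreTransfer
import Groth.Agent.Lib.Flat55.FlatDescend
import Groth.Agent.H19.FlatLocus.Scheme

set_option autoImplicit false
universe u
open FlatMor

namespace Groth.Agent.S1386

open AlgebraicGeometry CategoryTheory IsLocalRing Groth.Agent.Lib.Flat55 in
theorem flat_fibreStalkMap {X Y S : Scheme.{u}} (f : X ⟶ Y) (g : Y ⟶ S) (x : X)
    (hf : (f.stalkMap x).hom.Flat) : (FibrewiseStalk.fibreStalkMap f g x).Flat := by
  have h : ∀ (J : Ideal (X.presheaf.stalk x)) (hJ : FibrewiseStalk.mIdeal g (f x) ≤ J.comap (f.stalkMap x).hom),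
      J = (FibrewiseStalk.mIdeal g (f x)).map (f.stalkMap x).hom →
        (Ideal.quotientMap J (f.stalkMap x).hom hJ).Flat := by
    rintro J hJ rfl
    exact Groth.Agent.Lib.Flat55.Presented.quotient_flat _ hf _
  exact h _ _ (FibrewiseStalk.map_mIdeal f g x).symm

open AlgebraicGeometry CategoryTheory Limits in
/-- Fibrewise flatness criterion (critère de platitude par fibres), for the structure sheaf: let f : X →
Y and g : Y → S be morphisms of schemes with X locally of finite presentation over S (via g ∘ f) and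
Y locally of finite type over S. For a point x of X with images y = f(x) and s = g(y) the following
are equivalent: (1) X → S is flat at x and the induced morphism of fibres X_s → Y_s is flat at x;
(2) Y → S is flat at y and f is flat at x. Moreover the set of points x at which (2) holds is open
in X. The published statement treats a finitely presented quasi-coherent O_X-module; here the module
is O_X. -/
theorem result {X Y S : Scheme.{u}} (f : X ⟶ Y) (g : Y ⟶ S) [LocallyOfFinitePresentation (f ≫ g)] [LocallyOfFiniteType g] :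
    (∀ x : X, ((f ≫ g).stalkMap x).hom.Flat ∧ ((MoreMor.fiberMap f g (g (f x))).stalkMap ((f ≫ g).asFiber x)).hom.Flat ↔
        (g.stalkMap (f x)).hom.Flat ∧ (f.stalkMap x).hom.Flat) ∧
      IsOpen {x : ↑X | (g.stalkMap (f x)).hom.Flat ∧ (f.stalkMap x).hom.Flat} := by
  have hfp : LocallyOfFinitePresentation f :=
    Groth.Agent.Lib.Flat55.FibreTransfer.locallyOfFinitePresentation f g rfl
  have key : ∀ x : X, (g.stalkMap (f x)).hom.Flat → (f.stalkMap x).hom.Flat →
      ((f ≫ g).stalkMap x).hom.Flat := fun x h1 h2 ↦ by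
    rw [Scheme.Hom.stalkMap_comp]; exact h1.comp h2
  refine ⟨fun x ↦ ⟨fun ⟨h1, h2⟩ ↦ ?_, fun ⟨h1, h2⟩ ↦ ⟨key x h1 h2, ?_⟩⟩, ?_⟩
  · have := Groth.Agent.Lib.Flat55.FibrewiseStalk.flat_stalkMap_of_fiberMap f g x _
      ((f ≫ g).asFiber x) ((f ≫ g).fiberι_asFiber x) h1 h2
    exact ⟨this.2, this.1⟩
  · exact (Groth.Agent.Lib.Flat55.FibrewiseStalk.flat_fiberMap_iff f g _ _ x
      ((f ≫ g).fiberι_asFiber x)).2 (flat_fibreStalkMap f g x h2)
  · have : {x : ↑X | (g.stalkMap (f x)).hom.Flat ∧ (f.stalkMap x).hom.Flat} =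
        {x : ↑X | ((f ≫ g).stalkMap x).hom.Flat} ∩ {x : ↑X | (f.stalkMap x).hom.Flat} := by
      ext x
      refine ⟨fun ⟨h1, h2⟩ ↦ ⟨key x h1 h2, h2⟩, fun ⟨h1, h2⟩ ↦ ⟨?_, h2⟩⟩
      exact Groth.Agent.Lib.Flat55.FlatDescend.flat_stalkMap_of_comp f g x h2 h1
    rw [this]
    exact (Groth.Agent.H19.FlatLocus.Scheme.isOpen_flat_stalkMap (f ≫ g)).inter
      (Groth.Agent.H19.FlatLocus.Scheme.isOpen_flat_stalkMap f)

end Groth.Agent.S1386
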