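import Groth.Statements.S13860
import Mathlib.GroupTheory.Sylow
-- import your own Groth.Agent.* helpers here

set_option autoImplicit false
universe u v w
open ModRep

namespace Groth.Agent.S13860

/-- For k a field of characteristic p > 0, G a finite group and P a Sylow p-subgroup of G, a short exact
sequence of k[G]-modules has a k[G]-linear splitting exactly when it has a k[P]-linear one. Stated
here for the surjection of the sequence: a G-equivariant k-linear map g : B → C between k-linear
representations of G admits a G-equivariant k-linear section if and only if it admits a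
P-equivariant k-linear section. -/
theorem result {k : Type u} [Field k] (p : ℕ) [Fact p.Prime]
    [CharP k p] {G : Type v} [Group G] [Finite G] (P : Sylow p G)
    {B C : Type w} [AddCommGroup B] [Module k B] [AddCommGroup C] [Module k C]
    (ρB : Representation k G B) (ρC : Representation k G C)
    (g : B →ₗ[k] C) (hg : ∀ x : G, g ∘ₗ ρB x = ρC x ∘ₗ g) :
    (∃ s : C →ₗ[k] B, g ∘ₗ s = LinearMap.id ∧ ∀ x : G, s ∘ₗ ρC x = ρB x ∘ₗ s) ↔
      (∃ s : C →ₗ[k] B, g ∘ₗ s = LinearMap.id ∧ ∀ x : G, x ∈ P → s ∘ₗ ρC x = ρB x ∘ₗ s) := by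
  classical
  haveI : Fintype (G ⧸ (P : Subgroup G)) := Fintype.ofFinite _
  refine ⟨fun ⟨s, hs, he⟩ => ⟨s, hs, fun x _ => he x⟩, fun ⟨s, hs, he⟩ => ?_⟩
  let T : G → (C →ₗ[k] B) := fun x => ρB x ∘ₗ s ∘ₗ ρC x⁻¹
  have hT : ∀ x y : G, x⁻¹ * y ∈ (P : Subgroup G) → T x = T y := by
    intro x y hxy
    ext c
    obtain ⟨h, rfl⟩ : ∃ h, y = x * h := ⟨x⁻¹ * y, by group⟩
    rw [inv_mul_cancel_left] at hxy
    have := LinearMap.congr_fun (he h hxy) (ρC h⁻¹ (ρC x⁻¹ c))
    simp only [LinearMap.comp_apply] at this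
    simp only [T, LinearMap.comp_apply, mul_inv_rev, map_mul, Module.End.mul_apply]
    rw [← this, ← Module.End.mul_apply (ρC h), ← map_mul, mul_inv_cancel, map_one, Module.End.one_apply]
  let T' : G ⧸ (P : Subgroup G) → (C →ₗ[k] B) := fun q => Quotient.liftOn' q T
    (fun x y h => hT x y (QuotientGroup.leftRel_apply.1 h))
  have hT' : ∀ x : G, T' (QuotientGroup.mk x) = T x := fun x => rfl
  have hN : (Nat.card (G ⧸ (P : Subgroup G)) : k) ≠ 0 := by
    rw [Ne, CharP.cast_eq_zero_iff k p, ← Subgroup.index]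
    exact P.not_dvd_index
  refine ⟨(Nat.card (G ⧸ (P : Subgroup G)) : k)⁻¹ • ∑ q, T' q, ?_, fun x => ?_⟩
  · have h1 : ∀ q, g ∘ₗ T' q = LinearMap.id := fun q => by
      induction q using QuotientGroup.induction_on with
      | H z =>
        rw [hT', ← LinearMap.comp_assoc, hg, LinearMap.comp_assoc, ← LinearMap.comp_assoc _ s g, hs,
          LinearMap.id_comp, ← Module.End.mul_eq_comp, ← map_mul, mul_inv_cancel, map_one, Module.End.one_eq_id]
    have hcs : g ∘ₗ (∑ q, T' q) = ∑ q, g ∘ₗ T' q := LinearMap.ext fun c => by simp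
    rw [LinearMap.comp_smul, hcs, Finset.sum_congr rfl (fun q _ => h1 q), Finset.sum_const, Finset.card_univ,
      ← Nat.card_eq_fintype_card, ← Nat.cast_smul_eq_nsmul k, smul_smul, inv_mul_cancel₀ hN, one_smul]
  · have h2 : ∀ q, T' (x • q) ∘ₗ ρC x = ρB x ∘ₗ T' q := fun q => by
      induction q using QuotientGroup.induction_on with
      | H z =>
        show T' (QuotientGroup.mk (x * z)) ∘ₗ ρC x = _
        rw [hT', hT']
        ext c
        simp only [T, LinearMap.comp_apply, mul_inv_rev, map_mul, Module.End.mul_apply]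
        rw [← Module.End.mul_apply (ρC x⁻¹), ← map_mul, inv_mul_cancel, map_one, Module.End.one_apply]
    have hc1 : (∑ q, T' q) ∘ₗ ρC x = ∑ q, T' q ∘ₗ ρC x := LinearMap.ext fun c => by simp
    have hc2 : ρB x ∘ₗ (∑ q, T' q) = ∑ q, ρB x ∘ₗ T' q := LinearMap.ext fun c => by simp
    rw [LinearMap.smul_comp, LinearMap.comp_smul, hc1, hc2,
      ← Finset.sum_congr rfl (fun q _ => h2 q)]
    congr 1
    exact (Equiv.sum_comp (MulAction.toPerm x) fun q => T' q ∘ₗ ρC x).symm

end Groth.Agent.S13860
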