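import Groth.Statements.S13863
import Mathlib
import Groth.Agent.H83.ASC.Basic

set_option autoImplicit false
universe u
open ASCover

namespace Groth.Agent.S13863

/-- For k an algebraically closed field of characteristic p > 0, n ≥ 1 an integer prime to p, and u ∈
k[[t]] the power series with constant term 1 and u^n · (1 + t^n) = 1, the substitution σ(t) = t·u is
a k-automorphism of k((t)) of order p and, for an integer a, σ acts on the fractional ideal I =
t^a·k[[t]]; transported to B = k[[t]] along h ↦ t^a·h this action is h ↦ u^a · h(t·u). For an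
integer i with a − n ≤ i ≤ a − 1 the element σ(t^i) − t^i lies in I, so t^i defines a class in
H^1(⟨σ⟩, I); the classes with p ∤ i form a basis of this H^1, and when p divides i the class
vanishes, i.e. σ(t^i) − t^i = σ(w) − w for some w ∈ I. (The published statement of this vanishing is
printed with the condition p ∤ i, which contradicts the basis assertion of the same lemma; its proof
treats p | i, and this row states that case.) In transported form, with m = a − i ∈ [1, n] and c ∈
k[[t]] defined by t^m · c = u^i − 1: there is h ∈ k[[t]] with u^a · h(t·u) − h = c. -/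
theorem result {k : Type u} [Field k] [IsAlgClosed k] (p : ℕ)
    [Fact p.Prime] [CharP k p] (n : ℕ) (hn : 0 < n) (hpn : ¬ p ∣ n)
    (u : PowerSeries k) (hu1 : PowerSeries.constantCoeff u = 1)
    (hun : u ^ n * (1 + PowerSeries.X ^ n) = 1) (hu : IsUnit u) (a : ℤ) (m : ℕ)
    (hm1 : 1 ≤ m) (hmn : m ≤ n) (hdvd : (p : ℤ) ∣ a - m) (c : PowerSeries k)
    (hc : PowerSeries.X ^ m * c = ((hu.unit ^ (a - m) : (PowerSeries k)ˣ) : PowerSeries k) - 1) :
    ∃ h : PowerSeries k,
      ((hu.unit ^ a : (PowerSeries k)ˣ) : PowerSeries k) * PowerSeries.subst (PowerSeries.X * u) h - h = c := by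
  classical
  have hn0 : (n : k) ≠ 0 := fun h0 => hpn ((CharP.cast_eq_zero_iff k p n).mp h0)
  have hs := H83.ASC.hasSubst_X_mul u
  let σ : PowerSeries k →ₐ[k] PowerSeries k := PowerSeries.substAlgHom hs
  have hσ : ∀ f, σ f = PowerSeries.subst (PowerSeries.X * u) f := fun f => by rw [← PowerSeries.coe_substAlgHom hs]
  have hσX : σ PowerSeries.X = PowerSeries.X * u := PowerSeries.substAlgHom_X hs
  let v : ℕ → PowerSeries k := fun j => Nat.rec 1 (fun _ w => u * σ w) j
  have hv0 : v 0 = 1 := rfl
  have hvs : ∀ j, v (j + 1) = u * σ (v j) := fun j => rfl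
  have hvn : ∀ j : ℕ, v j ^ n * (1 + (j : PowerSeries k) * PowerSeries.X ^ n) = 1 := by
    intro j
    induction j with
    | zero => simp [hv0]
    | succ j ih =>
      have h1 := congrArg σ ih
      rw [map_mul, map_pow, map_add, map_one, map_mul, map_pow, map_natCast, hσX] at h1
      rw [hvs, mul_pow]
      push_cast
      linear_combination h1 + (σ (v j)) ^ n * hun + (j : PowerSeries k) * (σ (v j)) ^ n * PowerSeries.X ^ n * 0
  have hv1 : ∀ j, PowerSeries.constantCoeff (v j) = 1 := by
    intro j
    induction j with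
    | zero => simp [hv0]
    | succ j ih =>
      have h1 : PowerSeries.X ∣ σ (v j - 1) := by
        obtain ⟨w, hw⟩ := PowerSeries.X_dvd_iff.mpr (show PowerSeries.constantCoeff (v j - 1) = 0 by rw [map_sub, ih, map_one, sub_self])
        rw [hw, map_mul, hσX, mul_assoc]; exact dvd_mul_right _ _
      rw [PowerSeries.X_dvd_iff, map_sub, map_one, map_sub, map_one, sub_eq_zero] at h1
      rw [hvs, map_mul, hu1, h1, one_mul]
  have hvp : v p = 1 := H83.ASC.eq_one_of_pow_eq_one hn0 (hv1 p) (by
    have := hvn p
    rwa [show ((p : ℕ) : PowerSeries k) = 0 by rw [← map_natCast (PowerSeries.C (R := k)), CharP.cast_eq_zero, map_zero],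
      zero_mul, add_zero, mul_one] at this)
  let V := ∏ j ∈ Finset.range p, v j
  have hV : u ^ p * σ V = V := by
    have h1 : u ^ p * σ V = ∏ j ∈ Finset.range p, v (j + 1) := by
      rw [Finset.prod_congr rfl (fun j _ => hvs j), Finset.prod_mul_distrib, Finset.prod_const, Finset.card_range, map_prod]
    have h2 := Finset.prod_range_succ' v p
    rw [Finset.prod_range_succ, hvp, mul_one, hv0, mul_one] at h2
    rw [h1]; exact h2.symm
  have hVu : IsUnit V := by
    rw [PowerSeries.isUnit_iff_constantCoeff, map_prod]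
    simp [hv1]
  obtain ⟨q, hq⟩ := hdvd
  let W : (PowerSeries k)ˣ := hVu.unit ^ q
  have hinv : (hu.unit ^ (a - m) : (PowerSeries k)ˣ) * Units.map σ.toRingHom.toMonoidHom W = W := by
    rw [hq, zpow_mul, zpow_natCast, map_zpow, ← mul_zpow]
    congr 1
    exact Units.ext hV
  have hW : PowerSeries.X ^ n ∣ (W : PowerSeries k) - 1 := by
    rw [← Ideal.mem_span_singleton, ← Ideal.Quotient.eq_zero_iff_mem, map_sub, map_one, sub_eq_zero]
    let π := Ideal.Quotient.mk (Ideal.span {(PowerSeries.X : PowerSeries k) ^ n})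
    have hπ : ∀ j, π (v j) = 1 := fun j => by
      rw [← sub_eq_zero, ← map_one π, ← map_sub, Ideal.Quotient.eq_zero_iff_mem, Ideal.mem_span_singleton]
      exact H83.ASC.dvd_sub_one hn0 (hv1 j) (b := (j : PowerSeries k)) (by rw [mul_comm (PowerSeries.X ^ n)]; exact hvn j)
    have hπV : Units.map π.toMonoidHom hVu.unit = 1 := Units.ext (by
      show π V = 1
      rw [map_prod]; exact Finset.prod_eq_one fun j _ => hπ j)
    have : Units.map π.toMonoidHom W = 1 := by rw [map_zpow, hπV, one_zpow]
    exact congrArg Units.val this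
  obtain ⟨h, hh⟩ := (pow_dvd_pow PowerSeries.X hmn).trans ((dvd_sub_comm).mp hW)
  refine ⟨h, mul_left_cancel₀ (pow_ne_zero m PowerSeries.X_ne_zero) ?_⟩
  rw [hc, ← hσ]
  have h1 := congrArg σ hh
  rw [map_sub, map_one, map_mul, map_pow, hσX] at h1
  have h2 : ((hu.unit ^ (a - m) : (PowerSeries k)ˣ) : PowerSeries k) * σ (W : PowerSeries k) = W :=
    congrArg Units.val hinv
  have h3 : ((hu.unit ^ a : (PowerSeries k)ˣ) : PowerSeries k) =
      ((hu.unit ^ (a - m) : (PowerSeries k)ˣ) : PowerSeries k) * u ^ m := by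
    rw [show a = (a - m) + ((m : ℕ) : ℤ) by ring, zpow_add, zpow_natCast, Units.val_mul, Units.val_pow_eq_pow_val, IsUnit.unit_spec]
    ring_nf
  rw [h3]
  linear_combination -(((hu.unit ^ (a - m) : (PowerSeries k)ˣ) : PowerSeries k)) * h1 + hh - h2

end Groth.Agent.S13863
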