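import Groth.Statements.S13864
import Mathlib
import Groth.Agent.H83.ASC.Basic

set_option autoImplicit false
universe u
open ASCover

namespace Groth.Agent.S13864

/-- Let k be an algebraically closed field of characteristic p > 0, n ≥ 1 an integer prime to p, u ∈
k[[t]] the power series with constant term 1 and u^n · (1 + t^n) = 1 (so σ(t) = t·u is a
k-automorphism of k((t)) of order p), and a an integer; σ acts on I = t^a·k[[t]], and transported to
B = k[[t]] along h ↦ t^a·h the action is h ↦ u^a · h(t·u). For 1 ≤ m ≤ n let c_m ∈ B be determined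
by t^m · c_m = u^(a−m) − 1; this is the cocycle value σ(t^i) − t^i ∈ I of the element t^i, i = a −
m, divided by t^a. The published lemma says that the classes of the t^i with a − n ≤ i ≤ a − 1 and p
∤ i form a basis of H^1(⟨σ⟩, I); this row states their linear independence: if Σ λ_m c_m, summed
over 1 ≤ m ≤ n with p ∤ a − m, equals u^a · h(t·u) − h for some h ∈ B, then every such λ_m is 0.
(Together with the dimension of this H^1, namely n − ⌊(a−1)/p⌋ + ⌊(a−1−n)/p⌋, this gives the basis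
statement.) -/
theorem result {k : Type u} [Field k] [IsAlgClosed k] (p : ℕ)
    [Fact p.Prime] [CharP k p] (n : ℕ) (hn : 0 < n) (hpn : ¬ p ∣ n)
    (u : PowerSeries k) (hu1 : PowerSeries.constantCoeff u = 1)
    (hun : u ^ n * (1 + PowerSeries.X ^ n) = 1) (hu : IsUnit u) (a : ℤ)
    (c : ℕ → PowerSeries k)
    (hc : ∀ m : ℕ, 1 ≤ m → m ≤ n →
      PowerSeries.X ^ m * c m = ((hu.unit ^ (a - m) : (PowerSeries k)ˣ) : PowerSeries k) - 1)
    (coef : ℕ → k) (h : PowerSeries k)
    (hh : ((hu.unit ^ a : (PowerSeries k)ˣ) : PowerSeries k) * PowerSeries.subst (PowerSeries.X * u) h - h =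
      ∑ m ∈ (Finset.Icc 1 n).filter (fun m : ℕ => ¬ (p : ℤ) ∣ a - (m : ℤ)), coef m • c m) :
    ∀ m ∈ (Finset.Icc 1 n).filter (fun m : ℕ => ¬ (p : ℤ) ∣ a - (m : ℤ)), coef m = 0 := by
  classical
  have hn0 : (n : k) ≠ 0 := fun h0 => hpn ((CharP.cast_eq_zero_iff k p n).mp h0)
  have hd : PowerSeries.X ^ n ∣ u - 1 := H83.ASC.dvd_sub_one hn0 hu1 (b := 1) (by rw [mul_one]; exact hun)
  have hU : PowerSeries.X ^ n ∣ (hu.unit : PowerSeries k) - 1 := by rw [IsUnit.unit_spec]; exact hd
  have hdouble : ∀ z : ℤ, ∀ j, j < 2 * n →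
      (n : k) * PowerSeries.coeff j (((hu.unit ^ z : (PowerSeries k)ˣ) : PowerSeries k) - 1) =
        if j = n then -(z : k) else 0 := by
    intro z j hj
    have h1 := (H83.ASC.zpow_sub_one hu.unit hU z).mul_left (n : PowerSeries k)
    have h2 := (H83.ASC.natCast_mul_sub_one hn0 hu1 hun).mul_left (z : PowerSeries k)
    rw [IsUnit.unit_spec] at h1
    have h3 := (PowerSeries.X_pow_dvd_iff.mp (dvd_add h1 h2)) j hj
    have he : (n : PowerSeries k) * (((hu.unit ^ z : (PowerSeries k)ˣ) : PowerSeries k) - 1 - (z : PowerSeries k) * (u - 1)) +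
        (z : PowerSeries k) * ((n : PowerSeries k) * (u - 1) + PowerSeries.X ^ n) =
        PowerSeries.C (n : k) * (((hu.unit ^ z : (PowerSeries k)ˣ) : PowerSeries k) - 1) + PowerSeries.C (z : k) * PowerSeries.X ^ n := by
      rw [map_natCast, map_intCast]; ring
    rw [he, map_add, PowerSeries.coeff_C_mul, PowerSeries.coeff_C_mul, PowerSeries.coeff_X_pow] at h3
    split_ifs with hjn
    · rw [if_pos hjn, mul_one] at h3; linear_combination h3
    · rw [if_neg hjn, mul_zero, add_zero] at h3; exact h3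
  intro m0 hm0
  have hL : PowerSeries.X ^ n ∣ ((hu.unit ^ a : (PowerSeries k)ˣ) : PowerSeries k) *
      PowerSeries.subst (PowerSeries.X * u) h - h := by
    have h1 : PowerSeries.X ^ n ∣ ((hu.unit ^ a : (PowerSeries k)ˣ) : PowerSeries k) - 1 := by
      have := dvd_add ((pow_dvd_pow _ (show n ≤ 2 * n by omega)).trans (H83.ASC.zpow_sub_one hu.unit hU a))
        (hU.mul_left (a : PowerSeries k))
      simpa using this
    convert dvd_add (h1.mul_right (PowerSeries.subst (PowerSeries.X * u) h)) (H83.ASC.dvd_subst_sub hd h) using 1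
    ring
  rw [hh] at hL
  rw [Finset.mem_filter, Finset.mem_Icc] at hm0
  obtain ⟨⟨hm1, hmn⟩, hmp⟩ := hm0
  have h4 : (n : k) * PowerSeries.coeff (n - m0)
      (∑ m ∈ (Finset.Icc 1 n).filter (fun m : ℕ => ¬ (p : ℤ) ∣ a - (m : ℤ)), coef m • c m) = 0 := by
    rw [PowerSeries.X_pow_dvd_iff.mp hL (n - m0) (by omega), mul_zero]
  rw [map_sum, Finset.mul_sum] at h4
  have hterm : ∀ m ∈ (Finset.Icc 1 n).filter (fun m : ℕ => ¬ (p : ℤ) ∣ a - (m : ℤ)),
      (n : k) * PowerSeries.coeff (n - m0) (coef m • c m) = if m = m0 then -(coef m * ((a - m0 : ℤ) : k)) else 0 := by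
    intro m hm
    rw [Finset.mem_filter, Finset.mem_Icc] at hm
    have h5 := hdouble (a - m) (n - m0 + m) (by omega)
    rw [← hc m hm.1.1 hm.1.2, PowerSeries.coeff_X_pow_mul] at h5
    rw [map_smul, smul_eq_mul, mul_left_comm, h5]
    by_cases he : m = m0
    · subst he; rw [if_pos (by omega), if_pos rfl, mul_neg]
    · rw [if_neg (by omega), if_neg he, mul_zero]
  rw [Finset.sum_congr rfl hterm, Finset.sum_ite_eq',
    if_pos (Finset.mem_filter.mpr ⟨Finset.mem_Icc.mpr ⟨hm1, hmn⟩, hmp⟩), neg_eq_zero] at h4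
  exact (mul_eq_zero.mp h4).resolve_right fun h0 => hmp ((CharP.intCast_eq_zero_iff k p _).mp h0)

end Groth.Agent.S13864
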