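import Groth.Statements.S13867
import Groth.Agent.H60.Contract.Push

set_option autoImplicit false
universe u
open CategoryTheory MonoidalCategory CartesianMonoidalCategory MonObj GrpObj AlgebraicGeometry
open ParSch

namespace Groth.Agent.S13867

/-- Let k be an algebraically closed field, G a group scheme of finite type over k and H ⊆ H' closed
subgroup schemes of G. Let q : G → X and q' : G → X' be the quotients of G by H and by H' (fppf
quotients represented by schemes), f : X → X' the morphism with q ≫ f = q', and r : H' → Y the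
quotient of H' by H. Then f is a contraction (proper, and O_{X'}(U) → O_X(f⁻¹ U) is an isomorphism
for every open U of X') if and only if Y is proper over k and the global functions of Y reduce to k
(the map k → Γ(Y, O_Y) is an isomorphism). -/
theorem result
    (k : Type u) [Field k] [IsAlgClosed k]
    (G : Over (Spec (CommRingCat.of k))) [GrpObj G] [LocallyOfFiniteType G.hom] [QuasiCompact G.hom]
    (H H' : Over (Spec (CommRingCat.of k))) [GrpObj H] [GrpObj H']
    (iH : H ⟶ G) [IsMonHom iH] (hH : IsClosedImmersion iH.left)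
    (iH' : H' ⟶ G) [IsMonHom iH'] (hH' : IsClosedImmersion iH'.left)
    (e : H ⟶ H') [IsMonHom e] (he : e ≫ iH' = iH)
    (X X' Y : Over (Spec (CommRingCat.of k))) (q : G ⟶ X) (hq : RedSub.IsQuotient iH q) (q' : G ⟶ X') (hq' : RedSub.IsQuotient iH' q')
    (f : X ⟶ X') (hf : q ≫ f = q') (r : H' ⟶ Y) (hr : RedSub.IsQuotient e r) :
    (IsProper f.left ∧ ∀ U : X'.left.Opens, IsIso (f.left.app U)) ↔
      (IsProper Y.hom ∧ IsIso Y.hom.appTop) := by
  haveI : Mono iH'.left := inferInstance
  haveI : Mono iH' := Over.mono_of_mono_left iH'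
  subst he
  obtain ⟨a, ha, hkey, hsq⟩ := Groth.Agent.H60.Contract.exists_act hq hq' hf hr
  have sqS : CategoryTheory.IsPullback (fst G Y).left a.left q'.left f.left :=
    hsq.map (Over.forget (Spec (CommRingCat.of k)))
  have sqY := Groth.Agent.Lib.GrpSch.isPullback_left G Y
  have sGf : Flat G.hom := inferInstance
  haveI sGs : Surjective G.hom := ⟨fun x => ⟨(η[G]).left x, by
    rw [← Scheme.Hom.comp_apply, Over.w]; rfl⟩⟩
  haveI : LocallyOfFinitePresentation G.hom := LocallyOfFinitePresentation.iff_locallyOfFiniteType.2 inferInstance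
  haveI := hq'.1; haveI := hq'.2.1; haveI := hq'.2.2.1
  constructor
  · rintro ⟨hpr, hiso⟩
    haveI := hpr
    haveI hfst : IsProper (fst G Y).left := MorphismProperty.of_isPullback (P := @IsProper) sqS.flip hpr
    have hYp : IsProper Y.hom := MorphismProperty.of_isPullback_of_descendsAlong (P := @IsProper)
      (Q := @Surjective ⊓ @Flat ⊓ @LocallyOfFinitePresentation) sqY ⟨⟨sGs, sGf⟩, ‹_›⟩ hfst
    have hP : Groth.Agent.H2.Rigid.Push (fst G Y).left :=
      Groth.Agent.Lib.GrpSch.Blanchard.push_of_isPullback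
        (fun U => by haveI := hiso U; exact ConcreteCategory.bijective_of_isIso _) sqS.flip
    refine ⟨hYp, (ConcreteCategory.isIso_iff_bijective _).2 ⟨?_, fun c => ?_⟩⟩
    · let y₀ : 𝟙_ (Over (Spec (CommRingCat.of k))) ⟶ Y := η[H'] ≫ r
      have e : y₀.left ≫ Y.hom = 𝟙 _ := Over.w y₀
      refine Function.LeftInverse.injective (g := y₀.left.appTop.hom) fun b => ?_
      rw [← CommRingCat.comp_apply, ← Scheme.Hom.comp_appTop, e, Scheme.Hom.id_appTop]
      rfl
    · obtain ⟨ψ, hψ⟩ := (hP ⊤).2 ((snd G Y).left.appTop.hom c)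
      refine ⟨(η[G]).left.appTop.hom ψ, ?_⟩
      let σ : Y ⟶ G ⊗ Y := lift (toUnit Y ≫ η[G]) (𝟙 Y)
      have e1 : σ.left ≫ (fst G Y).left = Y.hom ≫ (η[G]).left := by
        rw [← Over.comp_left, lift_fst, Over.comp_left]
        rfl
      have e2 : σ.left ≫ (snd G Y).left = 𝟙 _ := by
        rw [← Over.comp_left, lift_snd]
        rfl
      rw [← CommRingCat.comp_apply, ← Scheme.Hom.comp_appTop, ← e1, Scheme.Hom.comp_appTop, CommRingCat.comp_apply]
      refine (congrArg σ.left.appTop.hom hψ).trans ?_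
      rw [← CommRingCat.comp_apply, ← Scheme.Hom.comp_appTop, e2, Scheme.Hom.id_appTop]
      rfl
  · rintro ⟨hYp, hY⟩
    haveI := hYp
    haveI hfst : IsProper (fst G Y).left := MorphismProperty.of_isPullback (P := @IsProper) sqY.flip hYp
    have hfp : IsProper f.left := MorphismProperty.of_isPullback_of_descendsAlong (P := @IsProper)
      (Q := @Surjective ⊓ @Flat ⊓ @LocallyOfFinitePresentation) sqS ⟨⟨hq'.1, hq'.2.1⟩, hq'.2.2.1⟩ hfst
    have hPY : Groth.Agent.H2.Rigid.Push Y.hom := by
      intro U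
      by_cases hU : U = ⊥
      · subst hU
        haveI : Subsingleton Γ(Y.left, Y.hom ⁻¹ᵁ ⊥) := by
          rw [show Y.hom ⁻¹ᵁ (⊥ : (Spec (CommRingCat.of k)).Opens) = ⊥ from rfl]; infer_instance
        exact ⟨fun _ _ _ => Subsingleton.elim _ _, fun b => ⟨0, Subsingleton.elim _ _⟩⟩
      · have hT : U = ⊤ := by
          obtain ⟨x, hx⟩ : (U : Set ↥(Spec (CommRingCat.of k))).Nonempty :=
            Set.nonempty_iff_ne_empty.2 fun h => hU (TopologicalSpace.Opens.ext (h.trans rfl))
          exact TopologicalSpace.Opens.ext (Set.eq_univ_of_forall fun y => Subsingleton.elim x y ▸ hx)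
        subst hT
        haveI := hY
        exact ConcreteCategory.bijective_of_isIso Y.hom.appTop
    have hP : Groth.Agent.H2.Rigid.Push (fst G Y).left :=
      Groth.Agent.Lib.GrpSch.Blanchard.push_of_isPullback hPY sqY.flip
    exact ⟨hfp, fun U => (ConcreteCategory.isIso_iff_bijective _).2
      (Groth.Agent.H60.Contract.push_of_act ⟨hq.1, hq.2.1, hq.2.2.1⟩ hq' hf a ha hkey hP U)⟩

end Groth.Agent.S13867
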