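import Groth.Statements.S13870
import Groth.Agent.Lib.H1.AlmostSimple.Decomp
import Groth.Agent.Lib.H1.AlmostSimple.Exponent

set_option autoImplicit false
universe u
open CategoryTheory MonoidalCategory CartesianMonoidalCategory MonObj GrpObj AlgebraicGeometry
open ParSch

namespace Groth.Agent.S13870

/-- Let k be an algebraically closed field of characteristic p > 0, G a simple simply connected group
over k (semisimple, non-trivial, every smooth connected normal closed subgroup scheme trivial or all
of G; every finite surjective homomorphism onto G from a smooth connected group scheme with central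
kernel is an isomorphism) with a splitting D whose Dynkin diagram has an edge of multiplicity p
(roots a, b with ⟨a, b^∨⟩ = −p, ⟨b, a^∨⟩ = −1), G' a group scheme over k with a splitting D', and ψ
: G → G' an isogeny (a finite surjective homomorphism) which is not central: its kernel has a point
not commuting with all points of G. Let φ : T → T' be the map ψ induces on the split maximal tori
and ρ an isogeny of root data from the root datum of D' to that of D whose map of character lattices
is the one φ induces, with exponents q(a) (powers of p) on the roots. If q(c) = 1 for some root c,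
then q(a) = 1 for every long root a of G (a root a for which some root b has ⟨a, b^∨⟩ = −p and ⟨b,
a^∨⟩ = −1). -/
theorem result
    (k : Type u) [Field k] [IsAlgClosed k] (p : ℕ) [Fact p.Prime] [CharP k p]
    (G G' : Over (Spec (CommRingCat.of k))) [GrpObj G] [GrpObj G'] (hG : Red.IsSemisimpleOver k G) (hG1 : ¬ Red.IsTrivialGrp G)
    (hsimple : ∀ (N : Over (Spec (CommRingCat.of k))) [GrpObj N] (n : N ⟶ G) [IsMonHom n],
      IsClosedImmersion n.left → Smooth N.hom → ConnectedSpace N.left → AlgGrp.IsNormalHom n →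
      Red.IsTrivialGrp N ∨ IsIso n)
    (hsc : ∀ (H : Over (Spec (CommRingCat.of k))) [GrpObj H] (f : H ⟶ G) [IsMonHom f],
      Smooth H.hom → ConnectedSpace H.left → Surjective f.left → IsFinite f.left →
      (∀ (X : Over (Spec (CommRingCat.of k))) (h : X ⟶ H), h ≫ f = 1 →
        ∀ (X' : Over (Spec (CommRingCat.of k))) (x : X' ⟶ X) (h' : X' ⟶ H), (x ≫ h) * h' = h' * (x ≫ h)) → IsIso f)
    (D : Red.SplitRed G) (D' : Red.SplitRed G')
    (hedge : ∃ a b : D.idx, D.P.pairing a b = -(p : ℤ) ∧ D.P.pairing b a = -1)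
    (ψ : G ⟶ G') [IsMonHom ψ] [Surjective ψ.left] [IsFinite ψ.left]
    (hnc : ∃ (X : Over (Spec (CommRingCat.of k))) (g : X ⟶ G), g ≫ ψ = 1 ∧
      ¬ ∀ (X' : Over (Spec (CommRingCat.of k))) (x : X' ⟶ X) (h : X' ⟶ G), (x ≫ g) * h = h * (x ≫ g))
    (φ : D.T ⟶ D'.T) (hφ : φ ≫ D'.i = D.i ≫ ψ)
    (ρ : AGF.RootIsog D.P D'.P p)
    (hρ : D.split.inv.hom.hom ≫ φ ≫ D'.split.hom.hom.hom = Red.DSmap (Spec (CommRingCat.of k)) ρ.f.toAddMonoidHom)
    (h1 : ∃ c : D.idx, ρ.q c = 1)
    (a : D.idx) (hlong : ∃ b : D.idx, D.P.pairing a b = -(p : ℤ) ∧ D.P.pairing b a = -1) :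
    ρ.q a = 1 := by
  obtain ⟨a', b', hab, hba⟩ := hedge
  have hI : Groth.Agent.Lib.H1.AlmostSimple.Indec D := by
    refine ⟨⟨a'⟩, fun T hT => ?_⟩
    by_contra hne
    push Not at hne
    obtain ⟨N, hN, i, hi, h1', h2, h3, h4, h5, h6⟩ :=
      Groth.Agent.Lib.H1.AlmostSimple.exists_normal_subgroup D T hT hne.1 hne.2
    exact (hsimple N i h1' h2 h3 h4).elim h5 h6
  obtain ⟨b, h2, h3⟩ := hlong
  obtain ⟨c, hc⟩ := h1
  exact Groth.Agent.Lib.H1.AlmostSimple.q_eq_one_of_long ρ hI (Fact.out : p.Prime).two_le h2 h3 hc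

end Groth.Agent.S13870
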