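import Groth.Statements.S13874
import Groth.Agent.Lib.PolLaw.SymPoints
import Groth.Agent.Lib.EtaPt.SpecResidue
-- import your own Groth.Agent.* helpers here

set_option autoImplicit false
universe u
open scoped TensorProduct
open AlgebraicGeometry
open ZeroCyc

namespace Groth.Agent.S13874

open Groth.Agent.Lib.PolLaw AlgebraicGeometry CategoryTheory


/-- Affine form. Let A be a commutative ring, B an A-algebra and d ≥ 1; let (C, γ) be the degree-d
divided power algebra Γ^d_A(B) with its universal multiplicative law γ : B → C of degree d (every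
multiplicative law of degree d out of B factors uniquely through γ), and let φ : Γ^d_A(B) →
TS^d_A(B) be the canonical homomorphism to the symmetric tensors, taken as data characterised by:
after any base change S, φ ∘ γ sends Σ_j s_j ⊗ b_j to Σ_{c : [d] → [n]} (∏_i s_{c(i)}) ⊗ (b_{c(1)} ⊗
⋯ ⊗ b_{c(d)}), i.e. φ corresponds to the law x ↦ x ⊗ ⋯ ⊗ x. Then the morphism Spec TS^d_A(B) → Spec
Γ^d_A(B) induced by φ (the comparison map from the d-th symmetric product of Spec B over Spec A to
the scheme of degree-d divided powers) is a universal homeomorphism inducing an isomorphism on every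
residue field. (The published statement is for a separated algebraic space X over an algebraic space
S; this row is its content for X = Spec B over S = Spec A. The second assertion of the published
statement, that the map is an isomorphism when B is flat over A or A contains the rationals, is not
part of this row.) -/
theorem result {A B C : Type u} [CommRing A] [CommRing B] [Algebra A B] [CommRing C] [Algebra A C] (d : ℕ) (hd : 0 < d)
    (γ : PolLaw.MulLaw A B C d) (hγ : PolLaw.IsGammaD γ) (φ : C →ₐ[A] SymTen.TS A B d)
    (hφ : ∀ (S : Type u) [CommSemiring S] [Algebra A S] (n : ℕ) (s : Fin n → S) (b : Fin n → B),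
      ((SymTen.TS A B d).val.comp φ).toLinearMap.lTensor S (γ.law.toFun' S (∑ j, s j ⊗ₜ[A] b j)) =
        ∑ c : Fin d → Fin n, (∏ i, s (c i)) ⊗ₜ[A] PiTensorProduct.tprod A (fun i => b (c i))) :
    FlatMor.IsUnivHomeo (Spec.map (CommRingCat.ofHom φ.toRingHom)) ∧
      ∀ x : ↥(Spec (CommRingCat.of (SymTen.TS A B d))),
        Function.Surjective ((Spec.map (CommRingCat.ofHom φ.toRingHom)).residueFieldMap x).hom := by
  have hj := Polar.postcomp_eq_tpow φ hφ
  obtain ⟨F, h₁, h₂⟩ := NormLaw.exists_norm γ hj hγ
  have hint : φ.toRingHom.IsIntegral := by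
    intro y
    obtain ⟨p, hpm, hp⟩ := SymPoints.isIntegral _ hj y.1
    refine ⟨p, hpm, Subtype.ext ?_⟩
    refine Eq.trans ?_ hp
    exact Polynomial.hom_eval₂ p φ.toRingHom (SymTen.TS A B d).val.toRingHom y
  have hpow : ∀ y : SymTen.TS A B d, ∃ n > 0, y ^ n ∈ φ.toRingHom.range := by
    intro y
    refine ⟨d.factorial, d.factorial_pos, F.law.ground y.1, Subtype.ext ?_⟩
    have h := congrArg (fun L => PolynomialLaw.ground L y.1) h₁
    simp only [NormLaw.ground_postcomp, NormLaw.ground_symmLaw] at h
    rw [SubmonoidClass.coe_pow]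
    refine h.trans ?_
    rw [Finset.prod_congr rfl (g := fun _ => y.1) fun σ _ => (SymTen.perm_apply A B d σ y.1).trans (y.2 σ),
      Finset.prod_const, Finset.card_univ, Fintype.card_perm, Fintype.card_fin]
  have hnil : RingHom.ker φ.toRingHom ≤ nilradical C := by
    intro x hx
    refine ⟨d.factorial, ?_⟩
    have h := congrArg (fun L => PolynomialLaw.ground L x) h₂
    simp only [NormLaw.ground_precomp, NormLaw.ground_pow] at h
    rw [show ((SymTen.TS A B d).val.comp φ).toLinearMap x = 0 by
      simp only [AlgHom.toLinearMap_apply, AlgHom.comp_apply]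
      rw [show φ x = 0 from hx]
      simp, NormLaw.ground_zero d.factorial_pos] at h
    exact h.symm
  have hres : ∀ Q : PrimeSpectrum (SymTen.TS A B d), Function.Bijective
      (Ideal.ResidueField.map (PrimeSpectrum.comap φ.toRingHom Q).asIdeal Q.asIdeal φ.toRingHom rfl) := by
    intro Q
    let r := Ideal.ResidueField.map (PrimeSpectrum.comap φ.toRingHom Q).asIdeal Q.asIdeal φ.toRingHom rfl
    have hmem : ∀ y : SymTen.TS A B d, algebraMap _ Q.asIdeal.ResidueField y ∈ r.fieldRange := by
      intro y
      obtain ⟨a, ha, c, hc⟩ := SymPoints.exists_fraction_TS _ hj φ rfl Q.asIdeal y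
      have h0 := Ideal.algebraMap_residueField_eq_zero.2 hc
      rw [map_sub, sub_eq_zero, Algebra.smul_def, map_mul] at h0
      have hin : ∀ c : C, algebraMap _ Q.asIdeal.ResidueField (φ c) ∈ r.fieldRange := fun c =>
        ⟨algebraMap C _ c, Ideal.ResidueField.map_algebraMap _ _ φ.toRingHom rfl c⟩
      have hne : algebraMap _ Q.asIdeal.ResidueField (algebraMap A (SymTen.TS A B d) a) ≠ 0 :=
        mt Ideal.algebraMap_residueField_eq_zero.1 ha
      rw [eq_div_of_mul_eq hne ((mul_comm _ _).trans h0)]
      refine div_mem (hin c) ?_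
      rw [← AlgHom.commutes φ a]
      exact hin _
    refine ⟨r.injective, fun z => ?_⟩
    obtain ⟨u, v, hv, rfl⟩ := IsFractionRing.div_surjective (A := SymTen.TS A B d ⧸ Q.asIdeal) z
    obtain ⟨u, rfl⟩ := Ideal.Quotient.mk_surjective u
    obtain ⟨v, rfl⟩ := Ideal.Quotient.mk_surjective v
    exact div_mem (hmem u) (hmem v)
  have hiso := (Groth.Agent.Lib.EtaPt.SpecResidue.residueFieldsIso_iff φ.toRingHom).2 hres
  have hpure : ∀ x, ((Spec.map (CommRingCat.ofHom φ.toRingHom)).residueFieldMap x).hom.IsPurelyInseparable :=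
    fun x => by
      letI := ((Spec.map (CommRingCat.ofHom φ.toRingHom)).residueFieldMap x).hom.toAlgebra
      exact (AlgEquiv.ofBijective (Algebra.ofId _ _)
        ((ConcreteCategory.isIso_iff_bijective _).mp (hiso x))).isPurelyInseparable
  refine ⟨(Groth.Agent.Lib.UnivHomeo.Basic.iff_integral_universallyInjective_surjective _).2
    ⟨IsIntegralHom.SpecMap_iff.2 hint, ?_, ?_⟩, fun x => ((ConcreteCategory.isIso_iff_bijective _).mp (hiso x)).2⟩
  · exact ((tfae_universallyInjective _).out 2 0 rfl rfl).mp
      ⟨(PrimeSpectrum.isHomeomorph_comap φ.toRingHom hpow hnil).injective, hpure⟩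
  · exact ⟨(PrimeSpectrum.isHomeomorph_comap φ.toRingHom hpow hnil).surjective⟩

end Groth.Agent.S13874
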