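import Groth.Statements.S13876
import Groth.Agent.Lib.PolLaw.DetProj
-- import your own Groth.Agent.* helpers here

set_option autoImplicit false
universe u
open scoped TensorProduct
open ZeroCyc

namespace Groth.Agent.S13876

open Groth.Agent.Lib.PolLaw


/-- Affine form of the determinant law of a locally free module. Let A be a commutative ring, B a
commutative A-algebra, d ≥ 0, and M a B-module which as an A-module is finitely generated projective
of constant rank d (its localisation at every prime of A has rank d). Then there is exactly one
multiplicative polynomial law N : B → A over A, homogeneous of degree d, such that for every local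
A-algebra S and every x ∈ S ⊗_A B the value N(x) ∈ S is the determinant of x acting on the free
S-module S ⊗_A M. (For M free of rank d over A it is the determinant law of M; the members over
arbitrary test algebras are determined by those over local ones.) -/
theorem result {A B M : Type u} [CommRing A] [CommRing B] [Algebra A B]
    [AddCommGroup M] [Module A M] [Module B M] [IsScalarTower A B M] [Module.Finite A M] [Module.Projective A M]
    (d : ℕ) (hd : ∀ p : PrimeSpectrum A, Module.rankAtStalk M p = d) :
    ∃! N : PolLaw.MulLaw A B A d, ∀ (S : Type u) [CommRing S] [IsLocalRing S] [Algebra A S] (x : S ⊗[A] B),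
      N.law.toFun' S x = PolLaw.detAct M S x ⊗ₜ[A] (1 : A) := by
  obtain ⟨n, p, q, hpq⟩ := DetProj.exists_retraction (A := A) (M := M)
  have hdeg : ∀ (S : Type u) [CommRing S] [IsLocalRing S] [Algebra A S] (a : S) (x : S ⊗[A] B),
      PolLaw.detAct M S (a • x) = a ^ d * PolLaw.detAct M S x := by
    intro S _ _ _ a x
    have : Module.Free S (S ⊗[A] M) := Module.free_of_flat_of_isLocalRing
    have hrk : Module.finrank S (S ⊗[A] M) = d := by
      have h := congrFun (Module.rankAtStalk_eq_finrank_of_free (R := S) (M := S ⊗[A] M))
        (IsLocalRing.closedPoint S)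
      rw [Module.rankAtStalk_baseChange, hd] at h
      exact h.symm
    rw [PolLaw.detAct, map_smul, LinearMap.det_smul, hrk]
    rfl
  have hext : ∀ (S : Type u) [CommRing S] [IsLocalRing S] [Algebra A S] (a : S) (x : S ⊗[A] B),
      DetProj.detExt p q S (a • x) = a ^ d * DetProj.detExt p q S x := by
    intro S _ _ _ a x
    have : Module.Free S (S ⊗[A] M) := Module.free_of_flat_of_isLocalRing
    rw [DetProj.detExt_eq p q hpq, DetProj.detExt_eq p q hpq, hdeg]
  refine ⟨⟨DetProj.law p q, fun S _ _ a x => OfPoly.homog_of_poly _ d ?_ S a x, DetProj.isMult_law p q hpq⟩,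
    fun S _ _ _ x => DetProj.law_eq_detAct p q hpq S x, fun N hN => ?_⟩
  · intro m a x
    rw [DetProj.law_apply, DetProj.law_apply, TensorProduct.smul_tmul', smul_eq_mul]
    congr 1
    refine sub_eq_zero.1 (eq_zero_of_localization _ fun J hJ => ?_)
    have := hJ
    let ψ := IsScalarTower.toAlgHom A (MvPolynomial (Fin m) A) (Localization.AtPrime J)
    show ψ _ = 0
    rw [map_sub, map_mul, map_pow, sub_eq_zero, ← DetProj.detExt_map, ← DetProj.detExt_map,
      OfPoly.rTensor_smul_scalar]
    exact hext _ _ _
  · exact PolLaw.MulLaw.ext (DetProj.ext_local fun S _ _ _ x => by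
      rw [hN]
      exact (DetProj.law_eq_detAct p q hpq S x).symm)

end Groth.Agent.S13876
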