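import Groth.Statements.S13880
import Groth.Agent.Lib.H84.Crimp.Double
import Mathlib

set_option autoImplicit false
universe u
open Crimp

namespace Groth.Agent.S13880

/-- Over R = k⟦t⟧ with k an algebraically closed field of characteristic zero, let S' = R × R, the
trivial double cover of the formal disk (branch divisor (t ^ 0)). An R-subalgebra S of S' admits an
R-basis of size 2 whose discriminant generates (t ^ b), that is, S is a crimp with branch divisor (t
^ b), if and only if b = 2n for some n and S = R·1 + t ^ n S'. So there is exactly one such crimp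
when b is even and none when b is odd; moreover the subalgebra R·1 + t ^ n S' is isomorphic as an
R-algebra to R[y] / (y ^ 2 - t ^ (2n)) (existence of an isomorphism; y ↦ (t ^ n, -t ^ n)). (The
published statement also gives the space of crimps its reduced one-point scheme structure; this row
classifies its k-points.) -/
theorem result {k : Type u} [Field k] [IsAlgClosed k] [CharZero k] (b : ℕ) (S : Subalgebra (PowerSeries k) (Fin 2 → PowerSeries k)) :
    ((∃ bS : Module.Basis (Fin 2) (PowerSeries k) S,
      Ideal.span {Algebra.discr (PowerSeries k) ⇑bS} = Ideal.span {(PowerSeries.X : PowerSeries k) ^ b}) ↔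
    ∃ n : ℕ, b = 2 * n ∧
      Subalgebra.toSubmodule S = Submodule.span (PowerSeries k) {(1 : (Fin 2 → PowerSeries k))} ⊔
        Ideal.span {(PowerSeries.X : PowerSeries k) ^ n} • (⊤ : Submodule (PowerSeries k) (Fin 2 → PowerSeries k))) ∧
    (∀ n : ℕ, Subalgebra.toSubmodule S = Submodule.span (PowerSeries k) {(1 : (Fin 2 → PowerSeries k))} ⊔
        Ideal.span {(PowerSeries.X : PowerSeries k) ^ n} • (⊤ : Submodule (PowerSeries k) (Fin 2 → PowerSeries k)) →
      Nonempty (S ≃ₐ[PowerSeries k] AdjoinRoot (Polynomial.X ^ 2 - Polynomial.C ((PowerSeries.X : PowerSeries k) ^ (2 * n))))) := by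
  set h : PowerSeries k := PowerSeries.C (1 / 2 : k) with hh
  have h2 : h + h = 1 := by rw [hh, ← map_add]; norm_num
  let e : (Fin 2 → PowerSeries k) ≃ₗ[PowerSeries k] (Fin 2 → PowerSeries k) :=
    { toFun := fun x => ![h * (x 0 + x 1), h * (x 0 - x 1)]
      invFun := fun x => ![x 0 + x 1, x 0 - x 1]
      map_add' := fun x y => by funext i; fin_cases i <;> simp <;> ring
      map_smul' := fun r x => by funext i; fin_cases i <;> simp <;> ring
      left_inv := fun x => by
        funext i; fin_cases i <;> simp
        · linear_combination (x 0) * h2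
        · linear_combination (x 1) * h2
      right_inv := fun x => by
        funext i; fin_cases i <;> simp
        · linear_combination (x 0) * h2
        · linear_combination (x 1) * h2 }
  let bt := Module.Basis.ofEquivFun e
  have b0 : bt 0 = 1 := by
    funext i; fin_cases i <;> simp [bt, Module.Basis.ofEquivFun, e]
  have b1 : bt 1 * bt 1 = algebraMap (PowerSeries k) (Fin 2 → PowerSeries k) 1 := by
    funext i; fin_cases i <;> simp [bt, Module.Basis.ofEquivFun, e]
  refine ⟨?_, fun n hn => ?_⟩
  · simpa using Groth.Agent.Crimp84.double_crimp bt 1 b0 b1 0 (by rw [pow_zero]) b S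
  · have hiso := Groth.Agent.Crimp84.double_iso bt 1 b0 b1 n S hn
    rwa [mul_one] at hiso

end Groth.Agent.S13880
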