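import Groth.Statements.S13882
-- import your own Groth.Agent.* helpers here

set_option autoImplicit false
universe u
open FinCov

namespace Groth.Agent.S13882

/-- Over a field K of characteristic zero, the functor that sends a K-scheme S to the set of isomorphism
classes of pairs (A, τ) of an O_S-algebra A and an O_S-module isomorphism τ from A to the free
module of rank d, equivalently to the set of commutative unital algebra structures on the rank-d
free module with its standard basis, is represented by an affine K-scheme of finite type. Stated on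
affine K-schemes in one universe: there is a finitely generated commutative K-algebra B with
bijections between K-algebra maps B → A and based algebra structures of rank d over A, natural in
the commutative K-algebra A. -/
theorem result (K : Type u) [Field K] [CharZero K] (d : ℕ) :
    ∃ (B : Type u) (_ : CommRing B) (_ : Algebra K B) (_ : Algebra.FiniteType K B)
      (η : ∀ (A : Type u) [CommRing A] [Algebra K A], (B →ₐ[K] A) ≃ W4c1hurwitzcpt.BasedAlg d A),
      ∀ (A A' : Type u) [CommRing A] [Algebra K A] [CommRing A'] [Algebra K A']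
        (f : A →ₐ[K] A') (g : B →ₐ[K] A),
        η A' (f.comp g) = (η A g).map f.toRingHom := by
  classical
  let σ := (Fin d × Fin d × Fin d) ⊕ Fin d
  let C : Fin d → Fin d → Fin d → MvPolynomial σ K := fun i j k => MvPolynomial.X (Sum.inl (i, j, k))
  let U : Fin d → MvPolynomial σ K := fun i => MvPolynomial.X (Sum.inr i)
  let I : Ideal (MvPolynomial σ K) := Ideal.span
    (Set.range (fun x : Fin d × Fin d × Fin d => C x.1 x.2.1 x.2.2 - C x.2.1 x.1 x.2.2) ∪
     Set.range (fun x : Fin d × Fin d × Fin d × Fin d => (∑ k, C x.1 x.2.1 k * C k x.2.2.1 x.2.2.2) -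
        ∑ k, C x.2.1 x.2.2.1 k * C x.1 k x.2.2.2) ∪
     Set.range (fun x : Fin d × Fin d => (∑ i, U i * C i x.1 x.2) - if x.1 = x.2 then 1 else 0))
  have hz : ∀ p ∈ I, Ideal.Quotient.mkₐ K I p = 0 := fun p hp =>
    Ideal.Quotient.eq_zero_iff_mem.mpr hp
  let univ : W4c1hurwitzcpt.BasedAlg d (MvPolynomial σ K ⧸ I) :=
    { c := fun i j k => Ideal.Quotient.mkₐ K I (C i j k)
      u := fun i => Ideal.Quotient.mkₐ K I (U i)
      comm := fun i j k => sub_eq_zero.mp (by
        rw [← map_sub]
        exact hz _ (Ideal.subset_span (Or.inl (Or.inl ⟨(i, j, k), rfl⟩))))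
      assoc := fun i j l m => sub_eq_zero.mp (by
        simp only [← map_mul, ← map_sum, ← map_sub]
        exact hz _ (Ideal.subset_span (Or.inl (Or.inr ⟨(i, j, l, m), rfl⟩))))
      unit := fun j m => sub_eq_zero.mp (by
        have h := hz _ (Ideal.subset_span (Or.inr ⟨(j, m), rfl⟩))
        simp only [map_sub, map_sum, map_mul] at h
        rw [show Ideal.Quotient.mkₐ K I (if j = m then 1 else 0) = if j = m then 1 else 0 by
          rw [apply_ite (Ideal.Quotient.mkₐ K I), map_one, map_zero]] at h
        exact h) }
  have hev : ∀ (A : Type u) [CommRing A] [Algebra K A] (s : W4c1hurwitzcpt.BasedAlg d A),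
      ∀ p ∈ I, MvPolynomial.aeval (Sum.elim (fun x : Fin d × Fin d × Fin d => s.c x.1 x.2.1 x.2.2) s.u) p = 0 := by
    intro A _ _ s p hp
    induction hp using Submodule.span_induction with
    | mem x hx =>
      rcases hx with (⟨⟨i, j, k⟩, rfl⟩ | ⟨⟨i, j, l, m⟩, rfl⟩) | ⟨⟨j, m⟩, rfl⟩
      · simp [C, s.comm i j k]
      · simp [C, map_sum, s.assoc i j l m]
      · simp only [map_sub, map_sum, map_mul, C, U, MvPolynomial.aeval_X, Sum.elim_inl, Sum.elim_inr,
          s.unit j m]
        split_ifs <;> simp
    | zero => simp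
    | add a b _ _ ha hb => simp [ha, hb]
    | smul a b _ hb => simp [hb]
  let η : ∀ (A : Type u) [CommRing A] [Algebra K A],
      ((MvPolynomial σ K ⧸ I) →ₐ[K] A) ≃ W4c1hurwitzcpt.BasedAlg d A := fun A _ _ =>
    { toFun := fun g => univ.map g.toRingHom
      invFun := fun s => Ideal.Quotient.liftₐ I
        (MvPolynomial.aeval (Sum.elim (fun x : Fin d × Fin d × Fin d => s.c x.1 x.2.1 x.2.2) s.u)) (hev A s)
      left_inv := fun g => by
        refine Ideal.Quotient.algHom_ext _ (MvPolynomial.algHom_ext fun i => ?_)
        rcases i with ⟨i, j, k⟩ | i <;> simp [W4c1hurwitzcpt.BasedAlg.map, univ, C, U]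
      right_inv := fun s => by
        ext i <;> simp [W4c1hurwitzcpt.BasedAlg.map, univ, C, U] }
  refine ⟨MvPolynomial σ K ⧸ I, inferInstance, inferInstance, inferInstance, η, ?_⟩
  intro A A' _ _ _ _ f g
  rfl

end Groth.Agent.S13882
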