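import Groth.Statements.S1389
import Groth.Agent.S0445

set_option autoImplicit false
universe u
open FlatMor

namespace Groth.Agent.S1389

open AlgebraicGeometry CategoryTheory Limits in
/-- Let (U, u) and (U', u') be étale neighbourhoods of a point s of S and h₁, h₂ two S-morphisms U → U'
sending u to u' which induce the same map of residue fields κ(u') → κ(u). Then there is an étale
neighbourhood (U'', u'') of s with an S-morphism h : U'' → U sending u'' to u and with h followed by
h₁ equal to h followed by h₂. -/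
theorem result {S U U' : Scheme.{u}} (s : S) (g : U ⟶ S) (g' : U' ⟶ S) [Etale g] [Etale g'] (u : U) (u' : U')
    (hu : g u = s) (hu' : g' u' = s) (h₁ h₂ : U ⟶ U') (w₁ : h₁ ≫ g' = g) (w₂ : h₂ ≫ g' = g) (e₁ : h₁ u = u') (e₂ : h₂ u = u')
    (hres : (U'.residueFieldCongr e₁).inv ≫ h₁.residueFieldMap u = (U'.residueFieldCongr e₂).inv ≫ h₂.residueFieldMap u) :
    ∃ (U'' : Scheme.{u}) (g'' : U'' ⟶ S) (u'' : U'') (h : U'' ⟶ U), Etale g'' ∧ g'' u'' = s ∧ h ≫ g = g'' ∧ h u'' = u ∧ h ≫ h₁ = h ≫ h₂ := by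
  have hres' : h₁.residueFieldMap u =
      (U'.residueFieldCongr (e₁.trans e₂.symm)).hom ≫ h₂.residueFieldMap u := by
    rw [← Iso.hom_inv_id_assoc (U'.residueFieldCongr e₁) (h₁.residueFieldMap u), hres,
      ← Category.assoc]
    congr 1
    rw [Scheme.residueFieldCongr_inv, Scheme.residueFieldCongr_trans_hom]
  obtain ⟨W, hW, e⟩ := Groth.Agent.S0445.result g' h₁ h₂ (w₁.trans w₂.symm) u
    (e₁.trans e₂.symm) hres'
  exact ⟨W, W.ι ≫ g, ⟨u, hW⟩, W.ι, inferInstance, by simpa using hu, rfl, rfl, e⟩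

end Groth.Agent.S1389
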