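import Groth.Statements.S13901
import Groth.Agent.Lib.ProjConn.Basic
import Mathlib.AlgebraicGeometry.Morphisms.QuasiFinite

set_option autoImplicit false
universe u
open P1Fin

namespace Groth.Agent.S13901

open AlgebraicGeometry CategoryTheory in
/-- Let S be a scheme with preconnected underlying space and f : X → P^1_S a finite, flat, locally
finitely presented morphism (finite locally free). Then f restricted to any connected component of X
is surjective onto P^1_S. (The published statement allows an arbitrary base S; over a base with two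
points and X a copy of the projective line over one of them, mapped identically into P^1_S, the
connected X misses the other fibre, so the base is taken connected here.) -/
theorem result (S X : Scheme.{u}) [PreconnectedSpace S]
    (f : X ⟶ CohB1.ProjSpaceOver 1 S) [IsFinite f] [Flat f] [LocallyOfFinitePresentation f]
    (x : X) (p : CohB1.ProjSpaceOver 1 S) : ∃ y ∈ connectedComponent x, f y = p := by
  haveI := Groth.Agent.Lib.ProjConn.preconnectedSpace 1 S
  have hc : IsClosedMap f := f.isClosedMap
  have ho : IsOpenMap f := f.isOpenMap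
  have hfin : (f ⁻¹' {p}).Finite := f.finite_preimage_singleton p
  classical
  have hs : ∀ W : Set X, IsClopen W → W.Nonempty → (W ∩ f ⁻¹' {p}).Nonempty := by
    intro W hW hne
    have := IsClopen.eq_univ (s := f '' W) ⟨hc _ hW.1, ho _ hW.2⟩ (hne.image _)
    obtain ⟨y, hy, he⟩ := (this ▸ Set.mem_univ p : p ∈ f '' W)
    exact ⟨y, hy, he⟩
  let c : Set X → ℕ := fun W => (W ∩ f ⁻¹' {p}).ncard
  obtain ⟨W, ⟨hW, hxW⟩, hmin⟩ := (InvImage.wf c (Nat.lt_wfRel.wf)).has_min
    {W : Set X | IsClopen W ∧ x ∈ W} ⟨Set.univ, isClopen_univ, Set.mem_univ x⟩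
  have hpre : _root_.IsPreconnected W := by
    rw [isPreconnected_iff_subset_of_disjoint_closed]
    intro a b ha hb hWab hab
    by_contra! h
    obtain ⟨h1, h2⟩ := h
    have hwa : IsClopen (W ∩ a) := by
      refine ⟨hW.1.inter ha, ?_⟩
      have : W ∩ a = W ∩ bᶜ := by
        ext z
        constructor
        · rintro ⟨hz, hza⟩
          exact ⟨hz, fun hzb => (Set.eq_empty_iff_forall_notMem.mp hab) z ⟨hz, hza, hzb⟩⟩
        · rintro ⟨hz, hzb⟩
          exact ⟨hz, (hWab hz).resolve_right hzb⟩
      rw [this]
      exact hW.2.inter hb.isOpen_compl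
    have key : ∀ V : Set X, IsClopen V → V ⊆ W → x ∈ V → V = W := by
      intro V hV hVW hxV
      by_contra hne
      obtain ⟨y, ⟨hyW, hyV⟩, hyp⟩ := hs (W \ V) (hW.diff hV) (by
        rw [Set.nonempty_iff_ne_empty, Ne, Set.diff_eq_empty]
        exact fun h => hne (hVW.antisymm h))
      refine hmin V ⟨hV, hxV⟩ (Set.ncard_lt_ncard ?_ (hfin.subset Set.inter_subset_right))
      exact ⟨Set.inter_subset_inter_left _ hVW, fun h => hyV (h ⟨hyW, hyp⟩).1⟩
    by_cases hxa : x ∈ a
    · exact h1 fun z hz => ((key _ hwa Set.inter_subset_left ⟨hxW, hxa⟩).ge hz).2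
    · refine h2 fun z hz => (hWab hz).resolve_left fun hza => ?_
      exact ((key _ (hW.diff hwa) Set.diff_subset ⟨hxW, fun h => hxa h.2⟩).ge hz).2 ⟨hz, hza⟩
  obtain ⟨y, hyW, hyp⟩ := hs W hW ⟨x, hxW⟩
  exact ⟨y, hpre.subset_connectedComponent hxW hyW, hyp⟩

end Groth.Agent.S13901
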