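import Groth.Statements.S13902
import Groth.Agent.Lib.ProjConn.Basic

set_option autoImplicit false
set_option linter.style.haveILetI false
universe u
open P1Fin

namespace Groth.Agent.S13902

open AlgebraicGeometry CategoryTheory in
/-- Let S be a scheme, g : X → P^1_S and f : T → X finite, flat, locally finitely presented morphisms.
If the rank of f is r at every point of X lying over the zero section S → P^1_S (equivalently the
base change T_0 → X_0 over that section has constant rank r), then the rank of f is r at every point
of X. -/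
theorem result (S X T : Scheme.{u})
    (g : X ⟶ CohB1.ProjSpaceOver 1 S) (f : T ⟶ X)
    [IsFinite g] [Flat g] [LocallyOfFinitePresentation g]
    [IsFinite f] [Flat f] [LocallyOfFinitePresentation f] (r : ℕ)
    (h : ∀ x : X, g x ∈ Set.range (P1.sect S 0) → f.finrank x = r) (x : X) :
    f.finrank x = r := by
  by_contra hx
  let C : Set X := {x | f.finrank x ≠ r}
  have hC : IsClopen C := (f.isLocallyConstant_finrank.isClopen_fiber r).compl
  have hgo : IsOpenMap g := g.isOpenMap
  have hV : IsClopen (g '' C) := ⟨g.isClosedMap _ hC.1, hgo _ hC.2⟩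
  obtain ⟨y, hy, hgy⟩ := Lib.ProjConn.fibre_subset_of_isClopen 1 hV (p := g x)
    (q := P1.sect S 0 (CohB1.ProjSpaceOver.toBase 1 S (g x))) ⟨x, hx, rfl⟩
    (by rw [← Scheme.Hom.comp_apply, Lib.ProjConn.sect_toBase]; rfl)
  exact hy (h y ⟨_, hgy.symm⟩)

end Groth.Agent.S13902
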