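import Groth.Statements.S13903
import Mathlib.LinearAlgebra.FreeModule.Finite.Matrix
import Mathlib.RingTheory.Unramified.Field
import Mathlib.RingTheory.Derivation.Basic
import Mathlib.FieldTheory.IsAlgClosed.AlgebraicClosure
import Mathlib.RingTheory.Artinian.Ring

set_option autoImplicit false
universe u
open EtAlg

namespace Groth.Agent.S13903

open Polynomial TensorProduct

theorem formallyUnramified (K L : Type u) [Field K] [CommRing L] [Algebra K L] [Algebra.IsSeparable K L] :
    Algebra.FormallyUnramified K L := by
  refine ⟨subsingleton_of_forall_eq 0 fun w => ?_⟩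
  have hw : w ∈ Submodule.span L (Set.range (KaehlerDifferential.D K L)) := by
    rw [KaehlerDifferential.span_range_derivation]; trivial
  induction hw using Submodule.span_induction with
  | mem w hw =>
    obtain ⟨x, rfl⟩ := hw
    obtain ⟨a, b, hab⟩ := (Algebra.IsSeparable.isSeparable K x : IsSeparable K x)
    have h := (KaehlerDifferential.D K L).map_aeval (minpoly K x) x
    rw [minpoly.aeval, map_zero] at h
    have h1 := congrArg (aeval x) hab
    rw [map_add, map_mul, map_mul, minpoly.aeval, mul_zero, zero_add, map_one] at h1
    rw [← one_smul L (KaehlerDifferential.D K L x), ← h1, mul_smul, ← h, smul_zero]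
  | zero => rfl
  | add x y _ _ hx hy => rw [hx, hy, add_zero]
  | smul r x _ hx => rw [hx, smul_zero]

theorem finrank_le_card (K L Ω : Type u) [Field K] [CommRing L] [Algebra K L] [Module.Finite K L]
    [Algebra.IsSeparable K L] [Field Ω] [IsAlgClosed Ω] [Algebra K Ω] :
    Module.finrank K L ≤ Nat.card (L →ₐ[K] Ω) := by
  classical
  have := formallyUnramified K L
  have : Finite (L →ₐ[K] Ω) := Finite.algHom K L Ω
  have : Fintype (L →ₐ[K] Ω) := Fintype.ofFinite _
  let T := Ω ⊗[K] L
  have : Module.Finite Ω T := Module.Finite.base_change K Ω L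
  have : IsReduced T := Algebra.FormallyUnramified.isReduced_of_field Ω T
  have : IsArtinianRing T := isArtinian_of_tower Ω inferInstance
  let ev : (L →ₐ[K] Ω) → T →ₐ[Ω] Ω := fun σ =>
    Algebra.TensorProduct.lift (AlgHom.id Ω Ω) σ fun _ _ => Commute.all _ _
  let Φ : T →ₗ[Ω] (L →ₐ[K] Ω) → Ω := LinearMap.pi fun σ => (ev σ).toLinearMap
  have hΦ : Function.Injective Φ := by
    refine (injective_iff_map_eq_zero _).2 fun x hx => ?_
    have : x ∈ nilradical T := by
      rw [nilradical, Submodule.zero_eq_bot, ← IsArtinianRing.jacobson_eq_radical, Ideal.jacobson, Submodule.mem_sInf]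
      rintro m ⟨-, hm⟩
      let := Ideal.Quotient.field m
      have : Module.Finite Ω (T ⧸ m) := inferInstance
      let e := AlgEquiv.ofBijective (Algebra.ofId Ω (T ⧸ m)) IsAlgClosed.algebraMap_bijective_of_isIntegral
      let ψ : T →ₐ[Ω] Ω := e.symm.toAlgHom.comp (Ideal.Quotient.mkₐ Ω m)
      have hψ : ev ((ψ.restrictScalars K).comp Algebra.TensorProduct.includeRight) = ψ := by
        apply Algebra.TensorProduct.ext
        · exact Subsingleton.elim _ _
        · ext l; simp [ev]; rfl
      have h0 : ψ x = 0 := by rw [← hψ]; exact congrFun hx _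
      refine Ideal.Quotient.eq_zero_iff_mem.1 (e.symm.injective ?_)
      exact h0.trans (map_zero e.symm).symm
    exact IsReduced.eq_zero x this
  have h := LinearMap.finrank_le_finrank_of_injective hΦ
  rwa [Module.finrank_baseChange, Module.finrank_fintype_fun_eq_card, Fintype.card_eq_nat_card] at h


/-- Let K be a field and L a finite-dimensional reduced commutative K-algebra of dimension d all of
whose elements are separable over K, generated as a K-algebra by z and t. In any finite set of at
least d^(4d) elements of K there is an element c such that c • z + t generates L as a K-algebra.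
(The published statement does not require separability; for K of characteristic p and L obtained by
adjoining p-th roots of two independent indeterminates, L is a reduced finite K-algebra generated by
two elements with no single generator, so separability over K is assumed here, as the counting in
the published proof requires.) -/
theorem result (K L : Type u) [Field K] [CommRing L]
    [Algebra K L] [Module.Finite K L] [IsReduced L] [Algebra.IsSeparable K L] (z t : L)
    (hgen : Algebra.adjoin K ({z, t} : Set L) = ⊤) (S : Finset K)
    (hS : Module.finrank K L ^ (4 * Module.finrank K L) ≤ S.card) :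
    ∃ c ∈ S, Algebra.adjoin K ({c • z + t} : Set L) = ⊤ := by
  classical
  let Ω := AlgebraicClosure K
  let d := Module.finrank K L
  let H := L →ₐ[K] Ω
  have : Finite H := Finite.algHom K L Ω
  have : Fintype H := Fintype.ofFinite _
  have hH : d ≤ Nat.card H := finrank_le_card K L Ω
  have hH' : Nat.card H ≤ d := card_algHom_le_finrank K L Ω
  have hext : ∀ σ τ : H, σ z = τ z → σ t = τ t → σ = τ := fun σ τ h1 h2 =>
    AlgHom.ext_of_adjoin_eq_top hgen fun x hx => by
      rcases hx with rfl | rfl
      · exact h1
      · exact h2
  let pair : H × H → Finset K := fun q =>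
    S.filter fun c => q.1 ≠ q.2 ∧ q.1 (c • z + t) = q.2 (c • z + t)
  have hpair : ∀ q, (pair q).card ≤ 1 := by
    intro q
    rw [Finset.card_le_one]
    intro c hc c' hc'
    simp only [pair, Finset.mem_filter, map_add, map_smul, Algebra.smul_def, map_mul] at hc hc'
    by_contra hne
    have h1 := hc.2.2
    have h' := hc'.2.2
    have h2 : (algebraMap K Ω c - algebraMap K Ω c') * (q.1 z - q.2 z) = 0 := by
      rw [AlgHom.commutes, AlgHom.commutes] at h1 h'
      linear_combination h1 - h'
    have hz := sub_eq_zero.1 ((mul_eq_zero.1 h2).resolve_left (by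
      rw [sub_eq_zero]; exact fun h => hne ((algebraMap K Ω).injective h)))
    refine hc.2.1 (hext _ _ hz ?_)
    rw [AlgHom.commutes, AlgHom.commutes] at h1
    linear_combination h1 - algebraMap K Ω c * hz
  let bad : Finset K := Finset.univ.biUnion pair
  have hbad : bad.card < S.card := by
    have h1 : bad.card ≤ Fintype.card H ^ 2 := by
      refine Finset.card_biUnion_le.trans ((Finset.sum_le_sum fun q _ => hpair q).trans ?_)
      simp [sq]
    rw [← Nat.card_eq_fintype_card] at h1
    have h2 : bad.card ≤ d ^ 2 := h1.trans (Nat.pow_le_pow_left hH' 2)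
    rcases Nat.lt_or_ge d 2 with hd | hd
    · have : bad = ∅ := by
        refine Finset.eq_empty_of_forall_notMem fun c hc => ?_
        obtain ⟨⟨σ, τ⟩, -, hc⟩ := Finset.mem_biUnion.1 hc
        refine (Finset.mem_filter.1 hc).2.1 ?_
        have : Fintype.card H ≤ 1 := by rw [← Nat.card_eq_fintype_card]; omega
        exact Fintype.card_le_one_iff.1 this σ τ
      rw [this, Finset.card_empty]
      refine lt_of_lt_of_le ?_ hS
      change 0 < d ^ (4 * d)
      rcases Nat.eq_zero_or_pos d with h | h
      · rw [h]; simp
      · positivity
    · exact lt_of_le_of_lt h2 (lt_of_lt_of_le (Nat.pow_lt_pow_right hd (by omega)) hS)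
  obtain ⟨c, hcS, hc⟩ := Finset.exists_mem_notMem_of_card_lt_card hbad
  refine ⟨c, hcS, ?_⟩
  let y := c • z + t
  let M := Algebra.adjoin K ({y} : Set L)
  let res : H → (M →ₐ[K] Ω) := fun σ => σ.comp M.val
  have hres : Function.Injective res := fun σ τ h => by
    by_contra hne
    refine hc (Finset.mem_biUnion.2 ⟨(σ, τ), Finset.mem_univ _, Finset.mem_filter.2 ⟨hcS, hne, ?_⟩⟩)
    exact AlgHom.congr_fun h ⟨y, Algebra.self_mem_adjoin_singleton K y⟩
  have : Finite (M →ₐ[K] Ω) := Finite.algHom K M Ω
  have h1 : d ≤ Module.finrank K M :=
    hH.trans ((Nat.card_le_card_of_injective res hres).trans (card_algHom_le_finrank K M Ω))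
  exact Algebra.toSubmodule_eq_top.1 (Submodule.eq_top_of_finrank_eq (le_antisymm (Submodule.finrank_le _) h1))

end Groth.Agent.S13903
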