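import Groth.Statements.S13904
import Groth.Agent.Lib.Dim.Local

set_option autoImplicit false
universe u
open CAlg

namespace Groth.Agent.S13904

/-- Let k be a field, A a commutative k-algebra and φ : k[x_1, …, x_r] → A a finite k-algebra map such
that A/p has Krull dimension r for every minimal prime p of A (an equidimensional affine scheme of
dimension r, finite over affine r-space). Then for every minimal prime p of A and every prime q of
k[x_1, …, x_r] there is a prime P ⊇ p of A with φ⁻¹(P) = q: the finite map restricted to each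
irreducible component of Spec A is surjective onto affine r-space. (The published statement is over
an algebraically closed field with φ a Noether normalisation; this row allows any field and any
finite k-algebra map φ.) -/
theorem result (k : Type u) [Field k] (r : ℕ)
    (A : Type u) [CommRing A] [Algebra k A] (φ : MvPolynomial (Fin r) k →ₐ[k] A)
    (hφ : φ.toRingHom.Finite)
    (hdim : ∀ p ∈ minimalPrimes A, ringKrullDim (A ⧸ p) = r)
    (p : Ideal A) (hp : p ∈ minimalPrimes A)
    (q : Ideal (MvPolynomial (Fin r) k)) [q.IsPrime] :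
    ∃ P : Ideal A, P.IsPrime ∧ p ≤ P ∧ P.comap φ.toRingHom = q := by
  open Groth.Agent.Lib.Dim in
  have hker : RingHom.ker ((Ideal.Quotient.mk p).comp φ.toRingHom) = ⊥ := by
    have : p.IsPrime := hp.1.1
    let := ((Ideal.Quotient.mk p).comp φ.toRingHom).toAlgebra
    have : Module.Finite (MvPolynomial (Fin r) k) (A ⧸ p) :=
      (RingHom.Finite.of_surjective _ Ideal.Quotient.mk_surjective).comp hφ
    by_contra hne
    set I := RingHom.ker ((Ideal.Quotient.mk p).comp φ.toRingHom) with hI
    have hI' : I.IsPrime := RingHom.ker_isPrime _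
    have hle : ringKrullDim (A ⧸ p) ≤ ringKrullDim (MvPolynomial (Fin r) k ⧸ I) := by
      let := (RingHom.kerLift ((Ideal.Quotient.mk p).comp φ.toRingHom)).toAlgebra
      have : Algebra.IsIntegral (MvPolynomial (Fin r) k ⧸ I) (A ⧸ p) := by
        refine Algebra.isIntegral_def.mpr fun x => ?_
        refine RingHom.IsIntegralElem.of_comp (f := Ideal.Quotient.mk I) ?_
        exact (IsIntegral.of_finite (MvPolynomial (Fin r) k) x)
      exact Groth.Agent.Lib.Dim.Integral.ringKrullDim_le_of_isIntegral
    rw [hdim p hp, Groth.Agent.Lib.Dim.Basic.ringKrullDim_quotient_prime k] at hle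
    have hlt := Groth.Agent.Lib.Dim.Basic.dimQ_lt_of_lt k (P := (⊥ : Ideal _)) (Q := I)
      (bot_lt_iff_ne_bot.mpr hne)
    have h0 : Groth.Agent.Lib.Dim.Basic.dimQ k (⊥ : Ideal (MvPolynomial (Fin r) k)) = r := by
      rw [Groth.Agent.Lib.Dim.Basic.dimQ_bot]
      simp [Groth.Agent.Lib.Dim.Basic.trdegNat]
    have : r ≤ Groth.Agent.Lib.Dim.Basic.dimQ k I := by exact_mod_cast hle
    omega
  have : p.IsPrime := hp.1.1
  let := φ.toRingHom.toAlgebra
  have : Module.Finite (MvPolynomial (Fin r) k) A := hφ
  have hpb : p.under (MvPolynomial (Fin r) k) = ⊥ := by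
    rw [← hker, ← RingHom.comap_ker, Ideal.mk_ker]
    rfl
  obtain ⟨P, hpP, hP, hPq⟩ := Ideal.exists_ideal_over_prime_of_isIntegral_of_isPrime
    (S := A) q p (le_of_eq_of_le hpb bot_le)
  exact ⟨P, hP, hpP, hPq⟩

end Groth.Agent.S13904
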