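import Groth.Statements.S13905
import Mathlib.LinearAlgebra.FiniteDimensional.Lemmas
import Mathlib.LinearAlgebra.Span.Basic
import Mathlib.Data.Finset.Card

set_option autoImplicit false
universe u
open ProjGeom

namespace Groth.Agent.S13905

open W4c1etcurveeff3b in
/-- Hyperplanes of projective n-space in general position, in linear-algebra form (V of dimension n + 1
over a field k, hyperplanes as n-dimensional subspaces, points as nonzero vectors): if S is a finite
set of hyperplanes in general position with at least n members and H is a hyperplane containing none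
of the lines cut out by n members of S, then S with H added is again in general position. (The
published statement is for hyperplanes of P^n_k and closed points; a closed point lying on n + 1
members is automatically one of the rational points cut out by n of them, so the condition on
nonzero vectors of V is the same condition.) -/
theorem result (k V : Type u) [Field k]
    [AddCommGroup V] [Module k V] [DecidableEq (Submodule k V)] (n : ℕ) (S : Finset (Submodule k V))
    (hS : InGeneralPosition k V n S) (hn : n ≤ S.card) (H : Submodule k V)
    (hH : Module.finrank k H = n)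
    (havoid : ∀ T ⊆ S, T.card = n → ¬ (T.inf id ≤ H)) :
    InGeneralPosition k V n (insert H S) := by
  classical
  obtain ⟨hV, hS1, hS2, hS3⟩ := hS
  have hfd : FiniteDimensional k V := Module.finite_of_finrank_pos (by omega)
  have big : ∀ T ⊆ S, T.card ≤ n → ¬ T.inf id ≤ H := by
    intro T hT hc hle
    obtain ⟨T', h1, h2, h3⟩ := Finset.exists_subsuperset_card_eq hT hc hn
    exact havoid T' h2 h3 ((Finset.inf_mono h1).trans hle)
  refine ⟨hV, fun K hK => (Finset.mem_insert.1 hK).elim (fun h => h ▸ hH) (hS1 K), fun T hT hc => ?_, fun v hv T hT hmem => ?_⟩
  · by_cases hHT : H ∈ T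
    swap
    · exact hS2 T (fun K hK => (Finset.mem_insert.1 (hT hK)).resolve_left (fun h => hHT (h ▸ hK))) hc
    have hc' := Finset.card_erase_add_one hHT
    have hT' : T.erase H ⊆ S := fun K hK => (Finset.mem_insert.1 (hT (Finset.mem_of_mem_erase hK))).resolve_left (Finset.ne_of_mem_erase hK)
    have hd := hS2 _ hT' (by omega)
    have hnot := big _ hT' (by omega)
    have hins : T.inf id = H ⊓ (T.erase H).inf id := by
      conv_lhs => rw [← Finset.insert_erase hHT]
      rw [Finset.inf_insert]; rfl
    have hlt : H < H ⊔ (T.erase H).inf id := left_lt_sup.2 hnot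
    have h1 := Submodule.finrank_lt_finrank_of_lt hlt
    have h2 : Module.finrank k ↥(H ⊔ (T.erase H).inf id) ≤ n + 1 := hV ▸ Submodule.finrank_le _
    have h3 := Submodule.finrank_sup_add_finrank_inf_eq H ((T.erase H).inf id)
    rw [hins]
    omega
  · by_cases hHT : H ∈ T
    swap
    · exact hS3 v hv T (fun K hK => (Finset.mem_insert.1 (hT hK)).resolve_left (fun h => hHT (h ▸ hK))) hmem
    have hc' := Finset.card_erase_add_one hHT
    have hT' : T.erase H ⊆ S := fun K hK => (Finset.mem_insert.1 (hT (Finset.mem_of_mem_erase hK))).resolve_left (Finset.ne_of_mem_erase hK)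
    have hle := hS3 v hv _ hT' fun K hK => hmem K (Finset.mem_of_mem_erase hK)
    by_contra hgt
    have heq : (T.erase H).card = n := by omega
    have hd := hS2 _ hT' heq.le
    have hvI : k ∙ v ≤ (T.erase H).inf id := by
      refine (Submodule.span_singleton_le_iff_mem _ _).2 (Submodule.mem_finsetInf.2 fun K hK => hmem K (Finset.mem_of_mem_erase hK))
    have hI : k ∙ v = (T.erase H).inf id := Submodule.eq_of_le_of_finrank_eq hvI (by rw [hd, finrank_span_singleton hv]; omega)
    exact big _ hT' heq.le (hI ▸ (Submodule.span_singleton_le_iff_mem _ _).2 (hmem H hHT))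

end Groth.Agent.S13905
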