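import Groth.Statements.S13907
import Mathlib.RingTheory.GradedAlgebra.Radical
import Mathlib.RingTheory.Ideal.KrullsHeightTheorem
import Mathlib.RingTheory.Ideal.MinimalPrime.Noetherian
import Mathlib.Algebra.MvPolynomial.Division

set_option autoImplicit false
universe u
open ProjGeom

namespace Groth.Agent.S13907

theorem dec0 (k : Type u) [Field k] (n : ℕ) (f : MvPolynomial (Fin (n + 1)) k) :
    (DirectSum.decompose (CohB1.polyGrading n k) f 0 : MvPolynomial (Fin (n + 1)) k) = MvPolynomial.C (MvPolynomial.coeff 0 f) :=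
  (MvPolynomial.decomposition.decompose'_apply f 0).trans (MvPolynomial.homogeneousComponent_zero f)

theorem finite_locus (k : Type u) [Field k] (n : ℕ) (J : Set (MvPolynomial (Fin (n + 1)) k))
    (hJ : ∀ f ∈ J, SetLike.IsHomogeneousElem (CohB1.polyGrading n k) f) (x : Fin (n + 1))
    (hempty : ProjectiveSpectrum.zeroLocus (CohB1.polyGrading n k) (insert (MvPolynomial.X x) J) = ∅) :
    (ProjectiveSpectrum.zeroLocus (CohB1.polyGrading n k) J).Finite ∧
      ∀ a ∈ ProjectiveSpectrum.zeroLocus (CohB1.polyGrading n k) J,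
        ∀ b ∈ ProjectiveSpectrum.zeroLocus (CohB1.polyGrading n k) J, a ≤ b → a = b := by
  classical
  let m : Ideal (MvPolynomial (Fin (n + 1)) k) := RingHom.ker MvPolynomial.constantCoeff
  have hm : m.IsMaximal := RingHom.ker_isMaximal_of_surjective _ fun r => ⟨MvPolynomial.C r, MvPolynomial.constantCoeff_C _ r⟩
  have hirr : ∀ f ∈ m, f ∈ (HomogeneousIdeal.irrelevant (CohB1.polyGrading n k)).toIdeal := by
    intro f hf
    rw [HomogeneousIdeal.mem_iff, HomogeneousIdeal.mem_irrelevant_iff, GradedRing.proj_apply,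
      dec0,
      ← MvPolynomial.constantCoeff_eq, show MvPolynomial.constantCoeff f = 0 from hf, map_zero]
  have hle : ∀ q : Ideal (MvPolynomial (Fin (n + 1)) k), q.IsHomogeneous (CohB1.polyGrading n k) → q ≠ ⊤ → q ≤ m := by
    intro q hq hne f hf
    by_contra hc
    have h := hq 0 hf
    rw [dec0, ← MvPolynomial.constantCoeff_eq] at h
    exact hne (Ideal.eq_top_of_isUnit_mem _ h ((Ne.isUnit hc).map MvPolynomial.C))
  have hcone : ∀ Q : Ideal (MvPolynomial (Fin (n + 1)) k), Q.IsPrime → J ⊆ (Q : Set (MvPolynomial (Fin (n + 1)) k)) →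
      MvPolynomial.X x ∈ Q → m ≤ Q := by
    intro Q hQ hJQ hx
    by_contra hmQ
    have hxc : MvPolynomial.X x ∈ (Q.homogeneousCore (CohB1.polyGrading n k)).toIdeal :=
      Ideal.mem_homogeneousCore_of_homogeneous_of_mem ⟨1, MvPolynomial.isHomogeneous_X k x⟩ hx
    have hpt : ¬ HomogeneousIdeal.irrelevant (CohB1.polyGrading n k) ≤ Q.homogeneousCore (CohB1.polyGrading n k) := fun h =>
      hmQ fun f hf => Q.toIdeal_homogeneousCore_le _ (h (hirr f hf))
    refine Set.eq_empty_iff_forall_notMem.1 hempty ⟨_, hQ.homogeneousCore, hpt⟩ ?_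
    exact Set.insert_subset hxc fun f hf => Ideal.mem_homogeneousCore_of_homogeneous_of_mem (hJ f hf) (hJQ hf)
  have key : ∀ a ∈ ProjectiveSpectrum.zeroLocus (CohB1.polyGrading n k) J,
      a.asHomogeneousIdeal.toIdeal ∈ (Ideal.span J).minimalPrimes := by
    intro a ha
    obtain ⟨q', hq', hle'⟩ := Ideal.exists_minimalPrimes_le (Ideal.span_le.2 ha : Ideal.span J ≤ a.asHomogeneousIdeal.toIdeal)
    rcases hle'.eq_or_lt with h | h
    · exact h ▸ hq'
    exfalso
    have : q'.IsPrime := hq'.1.1
    have : (a.asHomogeneousIdeal.toIdeal).IsPrime := a.isPrime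
    have ham : a.asHomogeneousIdeal.toIdeal ≤ m := hle _ a.asHomogeneousIdeal.is_homogeneous' a.isPrime.ne_top
    have hlt : a.asHomogeneousIdeal.toIdeal < m := lt_of_le_of_ne ham fun e =>
      a.not_irrelevant_le fun f hf => by
        show f ∈ a.asHomogeneousIdeal.toIdeal
        rw [e]
        rw [HomogeneousIdeal.mem_irrelevant_iff, GradedRing.proj_apply, dec0, MvPolynomial.C_eq_zero] at hf
        exact hf
    let π := Ideal.Quotient.mk q'
    have hsurj : Function.Surjective π := Ideal.Quotient.mk_surjective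
    have hk : RingHom.ker π ≤ a.asHomogeneousIdeal.toIdeal := by rw [Ideal.mk_ker]; exact hle'
    have hk' : RingHom.ker π ≤ m := hk.trans ham
    have hPa := Ideal.map_isPrime_of_surjective hsurj hk
    have hPm := Ideal.map_isPrime_of_surjective hsurj hk'
    have hback : ∀ I : Ideal (MvPolynomial (Fin (n + 1)) k), RingHom.ker π ≤ I → (I.map π).comap π = I := fun I hI => by
      rw [Ideal.comap_map_of_surjective _ hsurj, ← RingHom.ker_eq_comap_bot, sup_eq_left.2 hI]
    have h2 : (a.asHomogeneousIdeal.toIdeal.map π).height < (m.map π).height := by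
      refine Ideal.height_strict_mono_of_isPrime (lt_of_le_of_ne (Ideal.map_mono ham) fun e => hlt.ne ?_)
      rw [← hback _ hk, e, hback _ hk']
    have : (⊥ : Ideal (MvPolynomial (Fin (n + 1)) k ⧸ q')).IsPrime := Ideal.isPrime_bot
    have h1 : (⊥ : Ideal (MvPolynomial (Fin (n + 1)) k ⧸ q')).height < (a.asHomogeneousIdeal.toIdeal.map π).height := by
      refine Ideal.height_strict_mono_of_isPrime (lt_of_le_of_ne bot_le fun e => h.ne ?_)
      rw [← hback _ hk, ← e, ← RingHom.ker_eq_comap_bot, Ideal.mk_ker]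
    have hJm : Ideal.span {π (MvPolynomial.X x)} ≤ m.map π :=
      Ideal.span_le.2 (Set.singleton_subset_iff.2 (Ideal.mem_map_of_mem _ (MvPolynomial.constantCoeff_X _ x)))
    have hmin : m.map π ∈ (Ideal.span {π (MvPolynomial.X x)}).minimalPrimes := by
      refine ⟨⟨hPm, hJm⟩, fun Q hQ _ => ?_⟩
      have : (Q.comap π).IsPrime := Ideal.IsPrime.comap π (hK := hQ.1)
      have hqQ : q' ≤ Q.comap π := fun f hf => by
        show π f ∈ Q
        rw [Ideal.Quotient.eq_zero_iff_mem.2 hf]; exact Q.zero_mem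
      have := hcone (Q.comap π) this (fun f hf => hqQ (hq'.1.2 (Ideal.subset_span hf)))
        (hQ.2 (Ideal.mem_span_singleton_self _))
      exact (Ideal.map_mono this).trans Ideal.map_comap_le
    have h3 : (m.map π).height ≤ 1 := Ideal.height_le_one_of_isPrincipal_of_mem_minimalPrimes _ _ hmin
    have h0 : (1 : ℕ∞) ≤ (a.asHomogeneousIdeal.toIdeal.map π).height := Order.one_le_iff_pos.2 (lt_of_le_of_lt zero_le h1)
    exact absurd (lt_of_le_of_lt h0 h2) (not_lt.2 h3)
  have hinj : Function.Injective fun a : ProjectiveSpectrum (CohB1.polyGrading n k) => a.asHomogeneousIdeal.toIdeal :=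
    fun a b h => ProjectiveSpectrum.ext (HomogeneousIdeal.toIdeal_injective h)
  refine ⟨Set.Finite.subset ((Ideal.finite_minimalPrimes_of_isNoetherianRing _ (Ideal.span J)).preimage hinj.injOn) key,
    fun a ha b hb hab => hinj (le_antisymm hab ((key b hb).2 ⟨a.isPrime, Ideal.span_le.2 ha⟩ hab))⟩


/-- Over an algebraically closed field k, let C be a nonempty irreducible closed subset of the
underlying space of projective n-space with homogeneous coordinates x_0, …, x_n, and for i ≤ n let
L_i be the linear subspace where x_1, …, x_i vanish. Then there is an index i ≤ n with C ∩ L_i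
nonempty and of topological Krull dimension zero. -/
theorem result (k : Type u) [Field k]
    [IsAlgClosed k] (n : ℕ) (C : Set (ProjectiveSpectrum (CohB1.polyGrading n k)))
    (hC : IsClosed C) (hirr : IsIrreducible C) :
    ∃ i : ℕ, i ≤ n ∧
      (C ∩ ProjectiveSpectrum.zeroLocus (CohB1.polyGrading n k)
          ((fun j : Fin (n + 1) => (MvPolynomial.X j : MvPolynomial (Fin (n + 1)) k)) ''
            {j : Fin (n + 1) | 1 ≤ j.val ∧ j.val ≤ i})).Nonempty ∧
      topologicalKrullDim ↥(C ∩ ProjectiveSpectrum.zeroLocus (CohB1.polyGrading n k)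
          ((fun j : Fin (n + 1) => (MvPolynomial.X j : MvPolynomial (Fin (n + 1)) k)) ''
            {j : Fin (n + 1) | 1 ≤ j.val ∧ j.val ≤ i})) = 0 := by
  classical
  let L : ℕ → Set (MvPolynomial (Fin (n + 1)) k) := fun i =>
    (fun j : Fin (n + 1) => (MvPolynomial.X j : MvPolynomial (Fin (n + 1)) k)) '' {j : Fin (n + 1) | 1 ≤ j.val ∧ j.val ≤ i}
  let Pr : ℕ → Prop := fun i => (C ∩ ProjectiveSpectrum.zeroLocus (CohB1.polyGrading n k) (L i)).Nonempty
  have h0 : Pr 0 := by
    obtain ⟨c, hc⟩ := hirr.1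
    refine ⟨c, hc, ?_⟩
    have : L 0 = ∅ := by
      simp only [L, Set.image_eq_empty]
      refine Set.eq_empty_iff_forall_notMem.2 fun j hj => ?_
      obtain ⟨h1, h2⟩ := hj
      omega
    rw [this, ProjectiveSpectrum.zeroLocus_empty]
    trivial
  let i := Nat.findGreatest Pr n
  have hi : Pr i := Nat.findGreatest_spec (Nat.zero_le n) h0
  refine ⟨i, Nat.findGreatest_le n, hi, ?_⟩
  let V := ProjectiveSpectrum.vanishingIdeal C
  let J : Set (MvPolynomial (Fin (n + 1)) k) :=
    {f | SetLike.IsHomogeneousElem (CohB1.polyGrading n k) f ∧ f ∈ V.toIdeal} ∪ L i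
  have hC' : ProjectiveSpectrum.zeroLocus (CohB1.polyGrading n k)
      {f | SetLike.IsHomogeneousElem (CohB1.polyGrading n k) f ∧ f ∈ V.toIdeal} = C := by
    conv_rhs => rw [← hC.closure_eq, ← ProjectiveSpectrum.zeroLocus_vanishingIdeal_eq_closure]
    refine Set.Subset.antisymm (fun a ha f hf => ?_) (ProjectiveSpectrum.zeroLocus_anti_mono _ fun f hf => hf.2)
    change f ∈ a.asHomogeneousIdeal.toIdeal
    rw [← DirectSum.sum_support_decompose (CohB1.polyGrading n k) f]
    refine sum_mem fun e _ => ha ⟨⟨e, SetLike.coe_mem _⟩, V.is_homogeneous' e hf⟩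
  have hJeq : ProjectiveSpectrum.zeroLocus (CohB1.polyGrading n k) J =
      C ∩ ProjectiveSpectrum.zeroLocus (CohB1.polyGrading n k) (L i) := by
    rw [ProjectiveSpectrum.zeroLocus_union, hC']
  let x : Fin (n + 1) := if h : i < n then ⟨i + 1, by omega⟩ else 0
  have hempty : ProjectiveSpectrum.zeroLocus (CohB1.polyGrading n k) (insert (MvPolynomial.X x) J) = ∅ := by
    rw [Set.eq_empty_iff_forall_notMem]
    intro a ha
    have haJ : a ∈ C ∩ ProjectiveSpectrum.zeroLocus (CohB1.polyGrading n k) (L i) :=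
      hJeq ▸ (Set.subset_insert _ _).trans ha
    have hax : MvPolynomial.X x ∈ a.asHomogeneousIdeal.toIdeal := ha (Set.mem_insert _ _)
    by_cases h : i < n
    · refine Nat.findGreatest_is_greatest (lt_add_one i) (by omega) ⟨a, haJ.1, ?_⟩
      rintro f ⟨j, hj, rfl⟩
      rcases Nat.lt_or_ge j.val (i + 1) with hlt | hge
      · exact haJ.2 ⟨j, ⟨hj.1, by omega⟩, rfl⟩
      · have : x = j := by
          simp only [x, dif_pos h]
          exact Fin.ext (by have := hj.2; simp only at *; omega)
        exact this ▸ hax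
    · have hall : ∀ j, MvPolynomial.X j ∈ a.asHomogeneousIdeal.toIdeal := fun j => by
        by_cases hj : j.val = 0
        · have : x = j := by
            simp only [x, dif_neg h]
            exact Fin.ext (by simp [hj])
          exact this ▸ hax
        · exact haJ.2 ⟨j, ⟨by omega, by have := j.is_le; omega⟩, rfl⟩
      refine a.not_irrelevant_le fun f hf => ?_
      change f ∈ a.asHomogeneousIdeal.toIdeal
      rw [HomogeneousIdeal.mem_irrelevant_iff, GradedRing.proj_apply, dec0, MvPolynomial.C_eq_zero] at hf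
      rw [f.as_sum]
      refine sum_mem fun e he => ?_
      have he0 : e ≠ 0 := by rintro rfl; exact (MvPolynomial.mem_support_iff.1 he) hf
      obtain ⟨j, hj⟩ := Finsupp.ne_iff.1 he0
      exact Ideal.mem_of_dvd _ ((MvPolynomial.X_dvd_monomial).2 (Or.inr hj)) (hall j)
  obtain ⟨hfin, hmin⟩ := finite_locus k n J (fun f hf => hf.elim (fun h => h.1) (by
    rintro ⟨j, -, rfl⟩
    exact ⟨1, MvPolynomial.isHomogeneous_X k j⟩)) x hempty
  rw [hJeq] at hfin hmin
  change topologicalKrullDim ↥(C ∩ ProjectiveSpectrum.zeroLocus (CohB1.polyGrading n k) (L i)) = 0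
  set T := C ∩ ProjectiveSpectrum.zeroLocus (CohB1.polyGrading n k) (L i)
  have : Finite ↥T := hfin.to_subtype
  have hTc : IsClosed T := hC.inter (ProjectiveSpectrum.isClosed_zeroLocus _ _)
  have : T1Space ↥T := ⟨fun a => by
    have hsub : closure ({(a : ProjectiveSpectrum (CohB1.polyGrading n k))} : Set _) ⊆ {(a : ProjectiveSpectrum (CohB1.polyGrading n k))} := by
      intro b hb
      have hbT : b ∈ T := closure_minimal (Set.singleton_subset_iff.2 a.2) hTc hb
      exact (hmin _ a.2 b hbT ((ProjectiveSpectrum.le_iff_mem_closure _ _ _).2 hb)).symm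
    have e : ({a} : Set ↥T) = Subtype.val ⁻¹' closure ({(a : ProjectiveSpectrum (CohB1.polyGrading n k))} : Set _) := by
      ext b
      exact ⟨fun h => subset_closure (congrArg Subtype.val h), fun h => Subtype.ext (hsub h)⟩
    rw [e]
    exact isClosed_closure.preimage continuous_subtype_val⟩
  have : Nonempty ↥T := hi.to_subtype
  exact le_antisymm (topologicalKrullDim_zero_of_discreteTopology _) (by
    have : Nonempty (TopologicalSpace.IrreducibleCloseds ↥T) :=
      ⟨⟨{Classical.arbitrary ↥T}, isIrreducible_singleton, isClosed_singleton⟩⟩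
    exact Order.krullDim_nonneg)

end Groth.Agent.S13907
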