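import Groth.Statements.S13911
import Mathlib.RingTheory.MvPolynomial.Homogeneous
import Mathlib.Algebra.MvPolynomial.Funext
import Mathlib.Algebra.CharZero.Infinite
import Mathlib.Algebra.MvPolynomial.PDeriv
import Mathlib.Algebra.MvPolynomial.Nilpotent
import Mathlib.Algebra.MvPolynomial.NoZeroDivisors
import Mathlib.LinearAlgebra.Matrix.Rank
import Mathlib.LinearAlgebra.Matrix.ToLinearEquiv
import Mathlib.FieldTheory.IsAlgClosed.Basic
import Mathlib.Tactic.FieldSimp
import Mathlib.Tactic.LinearCombination

set_option autoImplicit false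
universe u
open PlaneConic

namespace Groth.Agent.S13911


section Aux

open MvPolynomial

variable {k : Type u} [Field k]

/-- The quadratic form of a matrix. -/
private noncomputable def qf (M : Matrix (Fin 3) (Fin 3) k) : MvPolynomial (Fin 3) k :=
  ∑ i, ∑ j, M i j • (X i * X j)

/-- The linear form of a vector. -/
private noncomputable def lf (a : Fin 3 → k) : MvPolynomial (Fin 3) k := ∑ i, a i • X i

private theorem eval_lf (a x : Fin 3 → k) : eval x (lf a) = a ⬝ᵥ x := by simp [lf, dotProduct]

private theorem eval_qf (M : Matrix (Fin 3) (Fin 3) k) (x : Fin 3 → k) :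
    eval x (qf M) = x ⬝ᵥ M.mulVec x := by
  simp only [qf, map_sum, smul_eval, map_mul, eval_X, dotProduct, Matrix.mulVec, Finset.mul_sum]
  exact Finset.sum_congr rfl fun i _ => Finset.sum_congr rfl fun j _ => by ring

private theorem cc_lf (a : Fin 3 → k) : constantCoeff (lf a) = 0 := by simp [lf, smul_eq_C_mul]

private theorem cc_qf (M : Matrix (Fin 3) (Fin 3) k) : constantCoeff (qf M) = 0 := by
  simp [qf, smul_eq_C_mul]

private theorem eval_pderiv_qf (M : Matrix (Fin 3) (Fin 3) k) (hM : M.IsSymm) (x : Fin 3 → k)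
    (l : Fin 3) : eval x (pderiv l (qf M)) = 2 * M.mulVec x l := by
  have h : pderiv l (qf M) = ∑ j, M l j • X j + ∑ i, M i l • X i := by
    simp only [qf, map_sum, Derivation.map_smul, pderiv_mul, pderiv_X, smul_add, Finset.sum_add_distrib]
    congr 1
    · rw [Finset.sum_eq_single l (fun i _ hi => by simp [hi]) (fun h => absurd (Finset.mem_univ _) h)]
      simp
    · refine Finset.sum_congr rfl fun i _ => ?_
      rw [Finset.sum_eq_single l (fun j _ hj => by simp [hj]) (fun h => absurd (Finset.mem_univ _) h)]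
      simp
  rw [h]
  simp only [map_add, map_sum, smul_eval, eval_X, Matrix.mulVec, dotProduct, hM.apply l]
  ring

private theorem qf_injective [CharZero k] {M M' : Matrix (Fin 3) (Fin 3) k} (h1 : M.IsSymm)
    (h2 : M'.IsSymm) (h : qf M = qf M') : M = M' := by
  ext i j
  have := congrArg (fun p => eval (Pi.single j 1) (pderiv i p)) h
  simpa [eval_pderiv_qf _ h1, eval_pderiv_qf _ h2] using this

/-- The symmetrised product of two vectors. -/
private def sp (a b : Fin 3 → k) : Matrix (Fin 3) (Fin 3) k :=
  Matrix.vecMulVec a b + Matrix.vecMulVec b a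

private theorem sp_symm (a b : Fin 3 → k) : (sp a b).IsSymm := by
  ext i j
  simp [sp, Matrix.vecMulVec_apply, mul_comm, add_comm]

private theorem mulVec_sp (a b x : Fin 3 → k) :
    (sp a b).mulVec x = (b ⬝ᵥ x) • a + (a ⬝ᵥ x) • b := by
  rw [sp, Matrix.add_mulVec, Matrix.vecMulVec_mulVec, Matrix.vecMulVec_mulVec]
  funext i
  simp [mul_comm]

private theorem qf_sp [CharZero k] (a b : Fin 3 → k) : qf (sp a b) = 2 * (lf a * lf b) := by
  refine MvPolynomial.funext fun x => ?_
  simp only [eval_qf, mulVec_sp, map_mul, eval_lf, map_ofNat, dotProduct_comm x, add_dotProduct,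
    smul_dotProduct, smul_eq_mul]
  ring

private theorem rank_sp_le (a b : Fin 3 → k) :
    (sp a b).rank ≤ Module.finrank k (Submodule.span k (Set.range ![a, b])) := by
  refine Submodule.finrank_mono ?_
  rintro _ ⟨x, rfl⟩
  rw [Matrix.mulVecLin_apply, mulVec_sp]
  exact add_mem (Submodule.smul_mem _ _ (Submodule.subset_span ⟨0, rfl⟩))
    (Submodule.smul_mem _ _ (Submodule.subset_span ⟨1, rfl⟩))

private theorem rank_sp {a b : Fin 3 → k} (h : LinearIndependent k ![a, b]) : (sp a b).rank = 2 := by
  refine le_antisymm ((rank_sp_le a b).trans (by rw [finrank_span_eq_card h]; simp)) ?_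
  let M : Matrix (Fin 2) (Fin 3) k := ![a, b]
  have hr : M.rank = 2 := by
    rw [LinearIndependent.rank_matrix (M := M) h]; simp
  have hsurj : Function.Surjective M.mulVecLin := by
    rw [← LinearMap.range_eq_top]
    refine Submodule.eq_top_of_finrank_eq ?_
    rw [← Matrix.rank, hr]; simp
  have hmem : ∀ i, ![a, b] i ∈ LinearMap.range (sp a b).mulVecLin := by
    intro i
    obtain ⟨x, hx⟩ := hsurj (Pi.single (1 - i) 1)
    have h0 : a ⬝ᵥ x = (Pi.single (1 - i) 1 : Fin 2 → k) 0 := congrFun hx 0
    have h1 : b ⬝ᵥ x = (Pi.single (1 - i) 1 : Fin 2 → k) 1 := congrFun hx 1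
    refine ⟨x, ?_⟩
    rw [Matrix.mulVecLin_apply, mulVec_sp, h0, h1]
    fin_cases i <;> simp
  have hle := Submodule.finrank_mono (Submodule.span_le.2 (Set.range_subset_iff.2 hmem))
  rwa [finrank_span_eq_card h, Fintype.card_fin] at hle

private theorem rank_smul_two [CharZero k] (M : Matrix (Fin 3) (Fin 3) k) :
    ((2 : k) • M).rank = M.rank := by
  rw [Matrix.rank, Matrix.rank, show ((2 : k) • M).mulVecLin = (2 : k) • M.mulVecLin from
    LinearMap.ext fun x => Matrix.smul_mulVec _ _ x, LinearMap.range_smul _ _ two_ne_zero]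

/-- Splitting off one square. -/
private theorem exists_split [IsAlgClosed k] [CharZero k] {M : Matrix (Fin 3) (Fin 3) k}
    (hM : M.IsSymm) (h0 : M ≠ 0) :
    ∃ α v : Fin 3 → k, (M - Matrix.vecMulVec α α).IsSymm ∧ M.mulVec v ≠ 0 ∧
      (M - Matrix.vecMulVec α α).mulVec v = 0 ∧
      ∀ x, M.mulVec x = 0 → (M - Matrix.vecMulVec α α).mulVec x = 0 := by
  obtain ⟨v, hv⟩ : ∃ v, v ⬝ᵥ M.mulVec v ≠ 0 := by
    by_contra h
    push Not at h
    refine h0 (qf_injective hM (by simp [Matrix.IsSymm]) (MvPolynomial.funext fun x => ?_))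
    rw [eval_qf, eval_qf, h x]; simp
  obtain ⟨t, ht⟩ := IsAlgClosed.exists_eq_mul_self (v ⬝ᵥ M.mulVec v)
  have ht0 : t ≠ 0 := by rintro rfl; simp at ht; exact hv ht
  let α := t⁻¹ • M.mulVec v
  have key : ∀ x, (M - Matrix.vecMulVec α α).mulVec x = M.mulVec x - (α ⬝ᵥ x) • α := fun x => by
    rw [Matrix.sub_mulVec, Matrix.vecMulVec_mulVec]
    funext i; simp [mul_comm]
  refine ⟨α, v, ?_, fun h => hv (by rw [h]; simp), ?_, fun x hx => ?_⟩
  · refine hM.sub ?_
    ext i j; simp [Matrix.vecMulVec_apply, mul_comm]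
  · rw [key, smul_dotProduct, dotProduct_comm, ht, smul_eq_mul, smul_smul,
      show t⁻¹ * (t * t) * t⁻¹ = 1 by field_simp, one_smul, sub_self]
  · rw [key, hx, smul_dotProduct, dotProduct_comm, Matrix.dotProduct_mulVec, ← Matrix.mulVec_transpose,
      hM.eq, hx]
    simp

/-- A degenerate quadratic form is a product of two linear forms. -/
private theorem exists_factor [IsAlgClosed k] [CharZero k] {M : Matrix (Fin 3) (Fin 3) k}
    (hM : M.IsSymm) (hdet : M.det = 0) : ∃ a b, qf M = lf a * lf b := by
  obtain ⟨u, hu, hMu⟩ := Matrix.exists_mulVec_eq_zero_iff.2 hdet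
  by_cases h0 : M = 0
  · exact ⟨0, 0, by simp [h0, qf, lf]⟩
  obtain ⟨α, v, hS, hv, hv', hker⟩ := exists_split hM h0
  obtain ⟨β, hβ⟩ : ∃ β, M - Matrix.vecMulVec α α = Matrix.vecMulVec β β := by
    by_cases h1 : M - Matrix.vecMulVec α α = 0
    · exact ⟨0, by rw [h1]; ext; simp [Matrix.vecMulVec_apply]⟩
    obtain ⟨β, w, -, hw, hw', hker'⟩ := exists_split hS h1
    set M' := M - Matrix.vecMulVec α α
    set M'' := M' - Matrix.vecMulVec β β
    refine ⟨β, sub_eq_zero.1 ?_⟩
    have h2 : Module.finrank k (LinearMap.ker M''.mulVecLin) = 3 := by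
      let s : Fin 3 → Fin 3 → k := ![w, v, u]
      have hli : LinearIndependent k s := by
        rw [Fintype.linearIndependent_iff]
        intro g hg
        simp only [Fin.sum_univ_three, s] at hg
        have e1 := congrArg M'.mulVec hg
        have e2 : M'.mulVec u = 0 := hker u hMu
        simp only [Matrix.mulVec_add, Matrix.mulVec_smul, Matrix.mulVec_zero, Matrix.cons_val_zero,
          Matrix.cons_val_one, Matrix.cons_val_two, Matrix.tail_cons, Matrix.head_cons, e2, hv',
          smul_zero, add_zero, smul_eq_zero, hw, or_false] at e1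
        have e3 := congrArg M.mulVec hg
        simp only [e1, Matrix.mulVec_add, Matrix.mulVec_smul, Matrix.mulVec_zero, Matrix.cons_val_zero,
          Matrix.cons_val_one, Matrix.cons_val_two, Matrix.tail_cons, Matrix.head_cons, hMu,
          zero_smul, smul_zero, zero_add, add_zero, smul_eq_zero, hv, or_false] at e3
        have e4 : g 2 • u = 0 := by simpa [e1, e3] using hg
        have e5 := (smul_eq_zero.1 e4).resolve_right hu
        intro i; fin_cases i <;> assumption
      refine le_antisymm ((Submodule.finrank_le _).trans (by simp)) ?_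
      have hle := Submodule.finrank_mono (show Submodule.span k (Set.range s) ≤
          LinearMap.ker M''.mulVecLin by
        refine Submodule.span_le.2 (Set.range_subset_iff.2 fun i => ?_)
        simp only [SetLike.mem_coe, LinearMap.mem_ker, Matrix.mulVecLin_apply, s]
        fin_cases i
        · exact hw'
        · exact hker' v hv'
        · exact hker' u (hker u hMu))
      rwa [finrank_span_eq_card hli, Fintype.card_fin] at hle
    have h3 : LinearMap.ker M''.mulVecLin = ⊤ := Submodule.eq_top_of_finrank_eq (by rw [h2]; simp)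
    rw [LinearMap.ker_eq_top] at h3
    exact Matrix.ext_of_mulVec_single fun i => by
      rw [← Matrix.mulVecLin_apply, h3, LinearMap.zero_apply, Matrix.zero_mulVec]
  obtain ⟨I, hI⟩ := IsAlgClosed.exists_eq_mul_self (-1 : k)
  refine ⟨α + I • β, α - I • β, MvPolynomial.funext fun x => ?_⟩
  rw [sub_eq_iff_eq_add.1 hβ, eval_qf, map_mul, eval_lf, eval_lf, Matrix.add_mulVec,
    Matrix.vecMulVec_mulVec, Matrix.vecMulVec_mulVec]
  simp only [op_smul_eq_smul, dotProduct_add, dotProduct_smul, add_dotProduct, sub_dotProduct,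
    smul_dotProduct, smul_eq_mul, dotProduct_comm x]
  linear_combination -(β ⬝ᵥ x) ^ 2 * hI

/-- Factors of a quadratic form are linear forms. -/
private theorem factors_linear [CharZero k] {M : Matrix (Fin 3) (Fin 3) k} (hM : M.IsSymm)
    {g h : MvPolynomial (Fin 3) k} (hgh : qf M = g * h) (hg : g.totalDegree = 1)
    (hh : h.totalDegree = 1) : ∃ a b, qf M = lf a * lf b := by
  have key : ∀ g : MvPolynomial (Fin 3) k, g.totalDegree = 1 → ∃ a c, g = C c + lf a := by
    intro g hg
    have hmem := (mem_homogeneousSubmodule 1 _).2 (homogeneousComponent_isHomogeneous 1 g)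
    rw [homogeneousSubmodule_one_eq_span_X, Submodule.mem_span_range_iff_exists_fun] at hmem
    obtain ⟨a, ha⟩ := hmem
    refine ⟨a, coeff 0 g, ?_⟩
    conv_lhs => rw [← sum_homogeneousComponent g, hg]
    simp [Finset.sum_range_succ, homogeneousComponent_zero, lf, ha]
  obtain ⟨a, c, rfl⟩ := key g hg
  obtain ⟨b, e, rfl⟩ := key h hh
  have hce : c * e = 0 := by
    have := congrArg (eval (0 : Fin 3 → k)) hgh
    simpa [cc_qf, cc_lf] using this.symm
  have hlin : ∀ i, c * b i + e * a i = 0 := fun i => by
    have hp : ∀ (a : Fin 3 → k) (c : k), eval (0 : Fin 3 → k) (pderiv i (C c + lf a)) = a i := by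
      intro a c
      simp [lf, pderiv_X, Pi.single_apply]
    have := congrArg (fun p => eval (0 : Fin 3 → k) (pderiv i p)) hgh
    simp only [eval_pderiv_qf _ hM, pderiv_mul, map_add (eval (0 : Fin 3 → k)), map_mul, hp,
      Matrix.mulVec_zero, Pi.zero_apply, mul_zero, eval_C, eval_lf, dotProduct_zero, add_zero] at this
    linear_combination -this
  rcases mul_eq_zero.1 hce with rfl | rfl
  · have he : e = 0 := by
      by_contra he
      have : a = 0 := funext fun i => by
        have := hlin i; simpa [he] using this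
      simp [this, lf] at hg
    exact ⟨a, b, by simpa [he] using hgh⟩
  · have hc : c = 0 := by
      by_contra hc
      have : b = 0 := funext fun i => by
        have := hlin i; simpa [hc] using this
      simp [this, lf] at hh
    exact ⟨a, b, by simpa [hc] using hgh⟩

end Aux

/-- For an algebraically closed field k of characteristic zero, a nonzero symmetric 3 × 3 matrix Q over
k and the ternary quadratic form f = Σ Q_ij X_i X_j in k[X_0, X_1, X_2] (the equation of a plane
conic): (1) f is irreducible iff det Q ≠ 0; (2) the conic has a singular point, that is a nonzero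
vector at which all partial derivatives of f vanish, iff det Q = 0 (so smooth conics are exactly the
irreducible ones); (3) f is the product of two linearly independent linear forms (two distinct
lines) iff rank Q = 2; (4) f is the square of a linear form (a double line) iff rank Q = 1. -/
theorem result (k : Type u) [Field k] [IsAlgClosed k] [CharZero k]
    (Q : Matrix (Fin 3) (Fin 3) k) (hQ : Q.IsSymm) (hQ0 : Q ≠ 0) (f : MvPolynomial (Fin 3) k)
    (hf : f = ∑ i : Fin 3, ∑ j : Fin 3, Q i j • (MvPolynomial.X i * MvPolynomial.X j)) :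
    (Irreducible f ↔ Q.det ≠ 0) ∧
    ((∃ u : Fin 3 → k, u ≠ 0 ∧ ∀ i : Fin 3, MvPolynomial.eval u (MvPolynomial.pderiv i f) = 0) ↔ Q.det = 0) ∧
    ((∃ a b : Fin 3 → k, LinearIndependent k ![a, b] ∧
        f = (∑ i : Fin 3, a i • MvPolynomial.X i) * (∑ i : Fin 3, b i • MvPolynomial.X i)) ↔ Q.rank = 2) ∧
    ((∃ a : Fin 3 → k, f = (∑ i : Fin 3, a i • MvPolynomial.X i) ^ 2) ↔ Q.rank = 1) := by
  classical
  change f = qf Q at hf
  subst hf
  have hfac : ∀ a b, qf Q = lf a * lf b ↔ (2 : k) • Q = sp a b := fun a b => by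
    have h2 : qf ((2 : k) • Q) = 2 * qf Q := by
      refine MvPolynomial.funext fun x => ?_
      simp [eval_qf, Matrix.smul_mulVec]
    constructor
    · intro h
      refine qf_injective (hQ.smul _) (sp_symm a b) ?_
      rw [h2, qf_sp, h]
    · intro h
      have := h2
      rw [h, qf_sp] at this
      exact (mul_left_cancel₀ (two_ne_zero) this).symm
  have hrank0 : Q.rank ≠ 0 := fun h => hQ0 (by
    rw [Matrix.rank, Submodule.finrank_eq_zero, LinearMap.range_eq_bot] at h
    exact Matrix.ext_of_mulVec_single fun i => by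
      rw [← Matrix.mulVecLin_apply, h, LinearMap.zero_apply, Matrix.zero_mulVec])
  have hle : ∀ a b, qf Q = lf a * lf b → Q.rank ≤ 2 := fun a b h => by
    rw [← rank_smul_two, (hfac a b).1 h]
    refine (rank_sp_le a b).trans ((finrank_range_le_card ![a, b]).trans ?_)
    simp
  have hdet : ∀ {n : ℕ}, Q.rank = n → n ≤ 2 → Q.det = 0 := fun hr hn => by
    by_contra h
    have := Matrix.rank_of_isUnit Q ((Matrix.isUnit_iff_isUnit_det Q).2 (Ne.isUnit h))
    simp at this
    omega
  have hdep : ∀ a b, qf Q = lf a * lf b → ¬ LinearIndependent k ![a, b] → Q.rank ≤ 1 := fun a b h hd => by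
    rw [← rank_smul_two, (hfac a b).1 h]
    refine (rank_sp_le a b).trans ?_
    by_contra hlt
    refine hd (linearIndependent_iff_card_le_finrank_span.2 ?_)
    rw [Set.finrank, Fintype.card_fin]
    omega
  refine ⟨⟨fun hirr hd => ?_, fun hd => ?_⟩, ⟨?_, fun hd => ?_⟩, ⟨?_, fun hr => ?_⟩, ⟨?_, fun hr => ?_⟩⟩
  · obtain ⟨a, b, h⟩ := exists_factor hQ hd
    have hu : ∀ a, ¬ IsUnit (lf a) := fun a hu => by
      have := hu.map (MvPolynomial.eval (0 : Fin 3 → k))
      simp [cc_lf] at this
    exact (hirr.isUnit_or_isUnit h).elim (hu a) (hu b)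
  · refine ⟨fun hu => ?_, fun g h hgh => ?_⟩
    · have := hu.map (MvPolynomial.eval (0 : Fin 3 → k))
      simp [cc_qf] at this
    · have hq0 : qf Q ≠ 0 := fun h => hQ0 (qf_injective hQ (by simp [Matrix.IsSymm]) (by simpa [qf] using h))
      have hhom : (qf Q).IsHomogeneous 2 := by
        refine MvPolynomial.IsHomogeneous.sum _ _ _ fun i _ => MvPolynomial.IsHomogeneous.sum _ _ _ fun j _ => ?_
        rw [MvPolynomial.smul_eq_C_mul]
        exact ((MvPolynomial.isHomogeneous_X k i).mul (MvPolynomial.isHomogeneous_X k j)).C_mul _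
      have hg0 : g ≠ 0 := left_ne_zero_of_mul (hgh ▸ hq0)
      have hh0 : h ≠ 0 := right_ne_zero_of_mul (hgh ▸ hq0)
      have hdeg := hhom.totalDegree hq0
      rw [hgh, MvPolynomial.totalDegree_mul_of_isDomain hg0 hh0] at hdeg
      have hunit : ∀ p : MvPolynomial (Fin 3) k, p ≠ 0 → p.totalDegree = 0 → IsUnit p := fun p hp h0 => by
        have hpC := MvPolynomial.totalDegree_eq_zero_iff_eq_C.1 h0
        rw [hpC]
        exact (IsUnit.mk0 _ fun e0 => hp (by rw [hpC, e0, MvPolynomial.C_0])).map MvPolynomial.C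
      by_contra hne
      push Not at hne
      have h1 : g.totalDegree ≠ 0 := fun e => hne.1 (hunit g hg0 e)
      have h2 : h.totalDegree ≠ 0 := fun e => hne.2 (hunit h hh0 e)
      obtain ⟨a, b, hab⟩ := factors_linear hQ hgh (by omega) (by omega)
      exact hd (hdet rfl (hle a b hab))
  · rintro ⟨u, hu, h⟩
    exact Matrix.exists_mulVec_eq_zero_iff.1 ⟨u, hu, funext fun i => by simpa [eval_pderiv_qf _ hQ] using h i⟩
  · obtain ⟨u, hu, h⟩ := Matrix.exists_mulVec_eq_zero_iff.2 hd
    exact ⟨u, hu, fun i => by simp [eval_pderiv_qf _ hQ, h]⟩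
  · rintro ⟨a, b, hab, h⟩
    rw [← rank_smul_two, (hfac a b).1 h, rank_sp hab]
  · obtain ⟨a, b, h⟩ := exists_factor hQ (hdet hr le_rfl)
    refine ⟨a, b, ?_, h⟩
    by_contra hd
    have := hdep a b h hd
    omega
  · rintro ⟨a, h⟩
    have hd : ¬ LinearIndependent k ![a, a] := fun hi => by
      simpa using hi.injective (a₁ := 0) (a₂ := 1) rfl
    have := hdep a a (h.trans (sq _)) hd
    omega
  · obtain ⟨a, b, h⟩ := exists_factor hQ (hdet hr (by omega))
    have hd : ¬ LinearIndependent k ![a, b] := fun hi => by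
      rw [← rank_smul_two, (hfac a b).1 h, rank_sp hi] at hr
      omega
    rw [LinearIndependent.pair_iff] at hd
    push Not at hd
    obtain ⟨s, t, hst, hne⟩ := hd
    -- one of the two vectors is a multiple of the other
    have key : ∀ (c : k) (w : Fin 3 → k), qf Q = lf (c • w) * lf w → ∃ x, qf Q = lf x ^ 2 := by
      intro c w hw
      obtain ⟨z, hz⟩ := IsAlgClosed.exists_eq_mul_self c
      refine ⟨z • w, hw.trans (MvPolynomial.funext fun x => ?_)⟩
      simp only [map_mul, map_pow, eval_lf, smul_dotProduct, smul_eq_mul, hz]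
      ring
    by_cases hs : s = 0
    · have ht : t ≠ 0 := hne hs
      have hb : b = 0 := by simpa [hs, ht] using hst
      exact key 0 a (by rw [h, hb]; simp [lf])
    · refine key (-(t / s)) b ?_
      rw [h]
      congr 2
      rw [eq_comm, ← sub_eq_zero, neg_smul, ← neg_add', neg_eq_zero]
      have := congrArg (fun v => s⁻¹ • v) hst
      simp only [smul_add, smul_smul, inv_mul_cancel₀ hs, one_smul, smul_zero] at this
      rw [div_eq_inv_mul, add_comm]
      exact this

end Groth.Agent.S13911
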