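import Groth.Statements.S13912
import Mathlib.Tactic.LinearCombination
import Mathlib.RingTheory.MvPolynomial.Homogeneous
import Mathlib.RingTheory.MvPolynomial.IrreducibleQuadratic
import Mathlib.RingTheory.Polynomial.UniqueFactorization
import Mathlib.Algebra.MvPolynomial.NoZeroDivisors
import Mathlib.LinearAlgebra.Matrix.GeneralLinearGroup.Defs

set_option autoImplicit false
universe u
open PlaneConic

namespace Groth.Agent.S13912


section Aux

open MvPolynomial

variable {k : Type u} [Field k]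

private theorem eq_C_mul_of_dvd {a b : MvPolynomial (Fin 3) k} (ha : a.IsHomogeneous 1)
    (hb : b.IsHomogeneous 1) (ha0 : a ≠ 0) (h : a ∣ b) : ∃ c, b = C c * a := by
  obtain ⟨q, rfl⟩ := h
  rcases eq_or_ne q 0 with rfl | hq
  · exact ⟨0, by simp⟩
  have h1 := hb.totalDegree (mul_ne_zero ha0 hq)
  rw [totalDegree_mul_of_isDomain ha0 hq, ha.totalDegree ha0] at h1
  refine ⟨q.coeff 0, ?_⟩
  rw [← totalDegree_eq_zero_iff_eq_C.1 (by omega), mul_comm]

private theorem prime_linear {a : MvPolynomial (Fin 3) k} (ha : a.IsHomogeneous 1) (ha0 : a ≠ 0) :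
    Prime a := by
  refine UniqueFactorizationMonoid.irreducible_iff_prime.1
    (irreducible_of_totalDegree_eq_one (ha.totalDegree ha0) fun x hx => ?_)
  obtain ⟨m, hm⟩ := MvPolynomial.exists_coeff_ne_zero ha0
  exact isUnit_iff_ne_zero.2 fun h => hm (zero_dvd_iff.1 (h ▸ hx m))

/-- A singular matrix of linear forms has a constant kernel vector on one of the two sides. -/
private theorem kernel_of_det_zero (N : Matrix (Fin 2) (Fin 2) (MvPolynomial (Fin 3) k))
    (hN : ∀ a b, (N a b).IsHomogeneous 1) (h : N.det = 0) :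
    (∃ u : Fin 2 → k, u ≠ 0 ∧ ∀ j, C (u 0) * N 0 j + C (u 1) * N 1 j = 0) ∨
      ∃ v : Fin 2 → k, v ≠ 0 ∧ ∀ i, C (v 0) * N i 0 + C (v 1) * N i 1 = 0 := by
  rw [Matrix.det_fin_two, sub_eq_zero] at h
  by_cases ha : N 0 0 = 0
  · rw [ha, zero_mul, eq_comm, mul_eq_zero] at h
    rcases h with h | h
    · refine Or.inl ⟨![1, 0], fun e => by simpa using congrFun e 0, fun j => ?_⟩
      fin_cases j <;> simp [ha, h]
    · refine Or.inr ⟨![1, 0], fun e => by simpa using congrFun e 0, fun j => ?_⟩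
      fin_cases j <;> simp [ha, h]
  · rcases (prime_linear (hN 0 0) ha).dvd_or_dvd ⟨_, h.symm⟩ with hb | hc
    · obtain ⟨c, hc⟩ := eq_C_mul_of_dvd (hN 0 0) (hN 0 1) ha hb
      have hd : N 1 1 = C c * N 1 0 := mul_left_cancel₀ ha (by rw [h, hc]; ring)
      refine Or.inr ⟨![-c, 1], fun e => by simpa using congrFun e 1, fun j => ?_⟩
      fin_cases j <;> simp [hc, hd]
    · obtain ⟨c, hc⟩ := eq_C_mul_of_dvd (hN 0 0) (hN 1 0) ha hc
      have hd : N 1 1 = C c * N 0 1 := mul_left_cancel₀ ha (by rw [h, hc]; ring)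
      refine Or.inl ⟨![-c, 1], fun e => by simpa using congrFun e 1, fun j => ?_⟩
      fin_cases j <;> simp [hc, hd]

/-- A linear projection killing the linear form `l`. -/
private theorem exists_proj (l : MvPolynomial (Fin 3) k) (hl : l.IsHomogeneous 1) :
    ∃ σ : MvPolynomial (Fin 3) k →ₐ[k] MvPolynomial (Fin 3) k, σ l = 0 ∧
      ∀ g : MvPolynomial (Fin 3) k, g.IsHomogeneous 1 →
        (σ g).IsHomogeneous 1 ∧ (σ g = 0 → ∃ c, g = C c * l) := by
  classical
  by_cases hl0 : l = 0
  · exact ⟨AlgHom.id k _, hl0, fun g hg => ⟨hg, fun h => ⟨0, by simpa using h⟩⟩⟩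
  have lin : ∀ g : MvPolynomial (Fin 3) k, g.IsHomogeneous 1 → ∃ a : Fin 3 → k, ∑ i, a i • X i = g := by
    intro g hg
    have hmem := (mem_homogeneousSubmodule 1 _).2 hg
    rwa [homogeneousSubmodule_one_eq_span_X, Submodule.mem_span_range_iff_exists_fun] at hmem
  obtain ⟨b, hb⟩ := lin l hl
  obtain ⟨j, hj⟩ : ∃ j, b j ≠ 0 := by
    by_contra h
    push Not at h
    exact hl0 (by rw [← hb]; simp [h])
  let σ : MvPolynomial (Fin 3) k →ₐ[k] MvPolynomial (Fin 3) k :=
    aeval fun i => X i - C (if i = j then (b j)⁻¹ else 0) * l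
  have hσ : ∀ a : Fin 3 → k, σ (∑ i, a i • X i) = ∑ i, a i • X i - C (a j * (b j)⁻¹) * l := by
    intro a
    simp only [map_sum, map_smul, σ, aeval_X, smul_sub, Finset.sum_sub_distrib]
    congr 1
    rw [Finset.sum_eq_single j (fun i _ hi => by simp [hi]) (fun h => absurd (Finset.mem_univ _) h),
      if_pos rfl, smul_eq_C_mul, map_mul, mul_assoc]
  refine ⟨σ, ?_, fun g hg => ?_⟩
  · rw [← hb, hσ, hb, mul_inv_cancel₀ hj, C_1, one_mul, sub_self]
  obtain ⟨a, rfl⟩ := lin g hg
  rw [hσ]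
  exact ⟨hg.sub (hl.C_mul _), fun h => ⟨_, sub_eq_zero.1 h⟩⟩

private theorem exists_perp (c : Fin 2 → k) : ∃ v : Fin 2 → k, v ≠ 0 ∧ v 0 * c 0 + v 1 * c 1 = 0 := by
  by_cases h : c = 0
  · exact ⟨![1, 0], fun e => by simpa using congrFun e 0, by simp [h]⟩
  · refine ⟨![c 1, -c 0], fun e => h ?_, by simp; ring⟩
    funext i
    fin_cases i
    · simpa using congrFun e 1
    · simpa using congrFun e 0

private theorem exists_gl (u : Fin 2 → k) (hu : u ≠ 0) :
    ∃ g : GL (Fin 2) k, ∀ j, g.val 0 j = u j := by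
  by_cases h0 : u 0 = 0
  · have h1 : u 1 ≠ 0 := fun h1 => hu (funext fun i => by fin_cases i <;> simpa)
    refine ⟨Matrix.GeneralLinearGroup.mkOfDetNeZero !![u 0, u 1; 1, 0] (by simp [Matrix.det_fin_two, h1]),
      fun j => ?_⟩
    fin_cases j <;> simp [Matrix.GeneralLinearGroup.mkOfDetNeZero]
  · refine ⟨Matrix.GeneralLinearGroup.mkOfDetNeZero !![u 0, u 1; 0, 1] (by simp [Matrix.det_fin_two, h0]),
      fun j => ?_⟩
    fin_cases j <;> simp [Matrix.GeneralLinearGroup.mkOfDetNeZero]

end Aux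

/-- Over an algebraically closed field k of characteristic zero, for a 2 × 2 matrix M of linear forms in
k[X_0, X_1, X_2] (entries homogeneous of degree 1, zero allowed), det M is a product of two linear
forms if and only if M can be brought by invertible scalar row and column operations g M h, with g,
h in GL_2(k), to a matrix with zero upper-right entry. (The published statement concerns matrices
with nonzero determinant; this row also allows determinant zero, where both sides hold.) -/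
theorem result (k : Type u) [Field k] [IsAlgClosed k] [CharZero k]
    (M : Matrix (Fin 2) (Fin 2) (MvPolynomial (Fin 3) k)) (hM : ∀ a b : Fin 2, (M a b).IsHomogeneous 1) :
    (∃ l₁ l₂ : MvPolynomial (Fin 3) k, l₁.IsHomogeneous 1 ∧ l₂.IsHomogeneous 1 ∧ M.det = l₁ * l₂) ↔
    ∃ g h : GL (Fin 2) k,
      ((MvPolynomial.C : k →+* MvPolynomial (Fin 3) k).mapMatrix g.val * M *
        (MvPolynomial.C : k →+* MvPolynomial (Fin 3) k).mapMatrix h.val) 0 1 = 0 := by
  open MvPolynomial in
  constructor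
  · rintro ⟨l₁, l₂, hl₁, -, hdet⟩
    obtain ⟨σ, hσl, hσ⟩ := exists_proj l₁ hl₁
    have hN : (M.map σ).det = 0 := by
      rw [← AlgHom.mapMatrix_apply, ← AlgHom.map_det, hdet, map_mul, hσl, zero_mul]
    have hlin : ∀ (a b : k) (p q : MvPolynomial (Fin 3) k), p.IsHomogeneous 1 → q.IsHomogeneous 1 →
        C a * σ p + C b * σ q = 0 → ∃ c, C a * p + C b * q = C c * l₁ := by
      intro a b p q hp hq h
      refine (hσ _ ((hp.C_mul a).add (hq.C_mul b))).2 ?_
      simpa [map_add, map_mul] using h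
    obtain ⟨u, v, hu, hv, huv⟩ : ∃ u v : Fin 2 → k, u ≠ 0 ∧ v ≠ 0 ∧
        C (v 0) * (C (u 0) * M 0 0 + C (u 1) * M 1 0) +
          C (v 1) * (C (u 0) * M 0 1 + C (u 1) * M 1 1) = 0 := by
      rcases kernel_of_det_zero (M.map σ) (fun a b => (hσ _ (hM a b)).1) hN with ⟨u, hu, h⟩ | ⟨v, hv, h⟩
      · choose c hc using fun j => hlin _ _ _ _ (hM 0 j) (hM 1 j) (h j)
        obtain ⟨v, hv, hvc⟩ := exists_perp c
        refine ⟨u, v, hu, hv, ?_⟩
        rw [hc, hc, ← mul_assoc, ← mul_assoc, ← add_mul, ← map_mul, ← map_mul, ← map_add, hvc, C_0, zero_mul]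
      · choose c hc using fun i => hlin _ _ _ _ (hM i 0) (hM i 1) (h i)
        obtain ⟨u, hu, huc⟩ := exists_perp c
        refine ⟨u, v, hu, hv, ?_⟩
        have e : C (u 0) * (C (v 0) * M 0 0 + C (v 1) * M 0 1) +
            C (u 1) * (C (v 0) * M 1 0 + C (v 1) * M 1 1) = 0 := by
          rw [hc, hc, ← mul_assoc, ← mul_assoc, ← add_mul, ← map_mul, ← map_mul, ← map_add, huc, C_0, zero_mul]
        linear_combination e
    obtain ⟨g, hg⟩ := exists_gl u hu
    obtain ⟨h, hh⟩ := exists_gl (![v 1, v 0]) (fun e => hv (funext fun i => by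
      fin_cases i
      · simpa using congrFun e 1
      · simpa using congrFun e 0))
    -- the second column of `h'` is `v`
    let h' : Matrix (Fin 2) (Fin 2) k := !![h.val 1 1, v 0; h.val 1 0, v 1]
    have hh' : h'.det ≠ 0 := by
      have hd := (Matrix.GeneralLinearGroup.det h).ne_zero
      rw [Matrix.GeneralLinearGroup.val_det_apply, Matrix.det_fin_two, hh, hh] at hd
      simp [h', Matrix.det_fin_two] at hd ⊢
      contrapose! hd
      linear_combination hd
    refine ⟨g, Matrix.GeneralLinearGroup.mkOfDetNeZero h' hh', ?_⟩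
    simp [Matrix.mul_apply, Fin.sum_univ_two, hg, h', Matrix.GeneralLinearGroup.mkOfDetNeZero]
    linear_combination huv
  · rintro ⟨g, h, he⟩
    set E := (C : k →+* MvPolynomial (Fin 3) k).mapMatrix g.val * M *
        (C : k →+* MvPolynomial (Fin 3) k).mapMatrix h.val with hE
    have hd : C (g.val.det * h.val.det) * M.det = E 0 0 * E 1 1 := by
      rw [show E 0 0 * E 1 1 = E.det by rw [Matrix.det_fin_two, he, zero_mul, sub_zero], hE,
        Matrix.det_mul, Matrix.det_mul, ← RingHom.map_det, ← RingHom.map_det, map_mul]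
      ring
    have hEh : ∀ a b, (E a b).IsHomogeneous 1 := fun a b => by
      simp only [hE, Matrix.mul_apply, RingHom.mapMatrix_apply, Matrix.map_apply, Finset.sum_mul]
      refine IsHomogeneous.sum _ _ _ fun i _ => IsHomogeneous.sum _ _ _ fun j _ => ?_
      rw [mul_comm]
      exact ((hM _ _).C_mul _).C_mul _
    have hne : g.val.det * h.val.det ≠ 0 := by
      rw [← Matrix.GeneralLinearGroup.val_det_apply, ← Matrix.GeneralLinearGroup.val_det_apply]
      exact mul_ne_zero (Units.ne_zero _) (Units.ne_zero _)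
    refine ⟨C (g.val.det * h.val.det)⁻¹ * E 0 0, E 1 1, (hEh 0 0).C_mul _, hEh 1 1, ?_⟩
    rw [mul_assoc, ← hd, ← mul_assoc, ← map_mul, inv_mul_cancel₀ hne, C_1, one_mul]

end Groth.Agent.S13912
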