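import Groth.Statements.S13913
import Mathlib.RingTheory.MvPolynomial.EulerIdentity
import Mathlib.Algebra.MvPolynomial.PDeriv


set_option autoImplicit false
universe u
open PlaneCubic

namespace Groth.Agent.S13913

/-- Over an algebraically closed field of characteristic zero, for linearly independent linear forms z₁,
z₂ and quadratic forms q₁, q₂ in three variables and a nonzero common zero p of z₁ and z₂, the point
p is a singular point of the plane cubic z₁q₂ − z₂q₁ = 0 (all three partial derivatives vanish at p)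
if and only if q₁ and q₂ both vanish at p. -/
theorem result (k : Type u) [Field k] [IsAlgClosed k] [CharZero k]
    (z₁ z₂ q₁ q₂ : MvPolynomial (Fin 3) k) (hz₁ : z₁.IsHomogeneous 1) (hz₂ : z₂.IsHomogeneous 1)
    (hq₁ : q₁.IsHomogeneous 2) (hq₂ : q₂.IsHomogeneous 2) (hind : LinearIndependent k ![z₁, z₂])
    (p : Fin 3 → k) (hp : p ≠ 0) (hp₁ : MvPolynomial.eval p z₁ = 0) (hp₂ : MvPolynomial.eval p z₂ = 0) :
    (∀ i : Fin 3, MvPolynomial.eval p (MvPolynomial.pderiv i (z₁ * q₂ - z₂ * q₁)) = 0) ↔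
      (MvPolynomial.eval p q₁ = 0 ∧ MvPolynomial.eval p q₂ = 0) := by
  classical
  have hd : ∀ i, MvPolynomial.eval p (MvPolynomial.pderiv i (z₁ * q₂ - z₂ * q₁)) =
      MvPolynomial.eval p (MvPolynomial.pderiv i z₁) * MvPolynomial.eval p q₂ -
      MvPolynomial.eval p (MvPolynomial.pderiv i z₂) * MvPolynomial.eval p q₁ := fun i => by
    simp [MvPolynomial.pderiv_mul, hp₁, hp₂]
    ring
  refine ⟨fun h => ?_, fun ⟨h1, h2⟩ i => by rw [hd, h1, h2, mul_zero, mul_zero, sub_zero]⟩
  have hlin : ∀ z : MvPolynomial (Fin 3) k, z.IsHomogeneous 1 →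
      z = ∑ i, MvPolynomial.C (MvPolynomial.eval p (MvPolynomial.pderiv i z)) * MvPolynomial.X i := fun z hz => by
    have h1 := hz.sum_X_mul_pderiv
    rw [one_smul] at h1
    conv_lhs => rw [← h1]
    refine Finset.sum_congr rfl fun i _ => ?_
    rw [mul_comm]
    congr 1
    have h0 : (MvPolynomial.pderiv i z).IsHomogeneous 0 := hz.pderiv
    have h2 := MvPolynomial.totalDegree_eq_zero_iff_eq_C.mp (Nat.le_zero.mp h0.totalDegree_le)
    rw [h2, MvPolynomial.eval_C]
  have hzero : MvPolynomial.eval p q₂ • z₁ + (-MvPolynomial.eval p q₁) • z₂ = 0 := by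
    rw [hlin z₁ hz₁, hlin z₂ hz₂, Finset.smul_sum, Finset.smul_sum, ← Finset.sum_add_distrib]
    refine Finset.sum_eq_zero fun i _ => ?_
    rw [MvPolynomial.smul_eq_C_mul, MvPolynomial.smul_eq_C_mul, ← mul_assoc, ← mul_assoc, ← add_mul, ← MvPolynomial.C_mul, ← MvPolynomial.C_mul, ← MvPolynomial.C_add]
    have := h i
    rw [hd] at this
    rw [show MvPolynomial.eval p q₂ * MvPolynomial.eval p (MvPolynomial.pderiv i z₁) + -MvPolynomial.eval p q₁ * MvPolynomial.eval p (MvPolynomial.pderiv i z₂) = 0 by linear_combination this, map_zero, zero_mul]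
  obtain ⟨e1, e2⟩ := LinearIndependent.pair_iff.mp hind _ _ hzero
  exact ⟨neg_eq_zero.mp e2, e1⟩


end Groth.Agent.S13913
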