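import Groth.Statements.S13916
import Mathlib.LinearAlgebra.Matrix.GeneralLinearGroup.Defs
import Mathlib.Tactic.FinCases
import Mathlib.Tactic.LinearCombination


set_option autoImplicit false
universe u
open PlaneConic

namespace Groth.Agent.S13916

/-- Over an algebraically closed field k of characteristic zero, with u_0, u_1, u_2 the coordinate
linear forms of k[X_0, X_1, X_2] and 2 × 2 matrices of linear forms compared up to M ↦ g M h with g,
h invertible scalar matrices: (1) the matrices with rows (u_1, 0), (u_0, u_2) and (u_2, 0), (u_0,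
u_1) are not equivalent; (2) for α ≠ 0 the matrix with rows (u_1, 0), (αu_0 + βu_1 + γu_2, u_2) is
equivalent to the one with rows (u_1, 0), (u_0, u_2). -/
theorem result (k : Type u) [Field k] [IsAlgClosed k] [CharZero k] :
    (¬ ∃ g h : GL (Fin 2) k,
      (MvPolynomial.C : k →+* MvPolynomial (Fin 3) k).mapMatrix g.val *
          !![MvPolynomial.X 1, 0; MvPolynomial.X 0, MvPolynomial.X 2] *
        (MvPolynomial.C : k →+* MvPolynomial (Fin 3) k).mapMatrix h.val =
      !![MvPolynomial.X 2, 0; MvPolynomial.X 0, MvPolynomial.X 1]) ∧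
    (∀ α β γ : k, α ≠ 0 → ∃ g h : GL (Fin 2) k,
      (MvPolynomial.C : k →+* MvPolynomial (Fin 3) k).mapMatrix g.val *
          !![MvPolynomial.X 1, 0;
             MvPolynomial.C α * MvPolynomial.X 0 + MvPolynomial.C β * MvPolynomial.X 1 + MvPolynomial.C γ * MvPolynomial.X 2,
             MvPolynomial.X 2] *
        (MvPolynomial.C : k →+* MvPolynomial (Fin 3) k).mapMatrix h.val =
      !![MvPolynomial.X 1, 0; MvPolynomial.X 0, MvPolynomial.X 2]) := by
  constructor
  · rintro ⟨g, h, he⟩
    have key : ∀ (v : Fin 3 → k) (a b : Fin 2), _ := fun v a b =>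
      congrArg (MvPolynomial.eval v) (congrFun (congrFun he a) b)
    have h1 := key ![1, 0, 0] 1 0
    have h2 := key ![1, 0, 0] 1 1
    have h3 := key ![0, 1, 0] 1 1
    simp [Matrix.mul_apply, Fin.sum_univ_two] at h1 h2 h3
    rcases h2 with h2 | h2
    · rw [h2, zero_mul] at h1; exact zero_ne_one h1
    · rw [h2, mul_zero] at h3; exact zero_ne_one h3
  · intro α β γ hα
    have hd1 : (!![1, 0; -(β / α), 1 / α] : Matrix (Fin 2) (Fin 2) k).det ≠ 0 := by simp [Matrix.det_fin_two, hα]
    have hd2 : (!![1, 0; -γ, α] : Matrix (Fin 2) (Fin 2) k).det ≠ 0 := by simp [Matrix.det_fin_two, hα]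
    refine ⟨Matrix.GeneralLinearGroup.mkOfDetNeZero _ hd1, Matrix.GeneralLinearGroup.mkOfDetNeZero _ hd2, ?_⟩
    have hα' : (MvPolynomial.C α⁻¹ : MvPolynomial (Fin 3) k) * MvPolynomial.C α = 1 := by
      rw [← map_mul, inv_mul_cancel₀ hα, map_one]
    have hb : (MvPolynomial.C (β / α) : MvPolynomial (Fin 3) k) = MvPolynomial.C α⁻¹ * MvPolynomial.C β := by
      rw [← map_mul]; congr 1; ring
    ext1 i j
    fin_cases i <;> fin_cases j <;> simp [Matrix.mul_apply, Fin.sum_univ_two, Matrix.GeneralLinearGroup.mkOfDetNeZero, map_neg] <;>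
      (try simp only [hb]) <;>
      first
        | linear_combination (MvPolynomial.X 0) * hα'
        | linear_combination (MvPolynomial.X 2) * hα'


end Groth.Agent.S13916
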