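import Groth.Statements.S13917
import Groth.Agent.H15.Codim2.Hartogs
import Groth.Agent.H63.CartierInverse
import Groth.Agent.Lib.Ample.Basis
import Groth.Agent.Lib.Ideal.BlowUp
import Groth.Agent.Lib.TensorMod.TensorInv
import Groth.Agent.Lib.Flat55.CurveNormalizationBC
import Mathlib.RingTheory.KrullDimension.Regular
import Mathlib.RingTheory.Regular.Flat
import Groth.Agent.Lib.BlowFlat85.FiniteBirational

set_option autoImplicit false
universe u
open CategoryTheory CategoryTheory.Limits AlgebraicGeometry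
open BlowUp

namespace Groth.Agent.S13917

open Groth.Agent.Lib Groth.Agent.Lib.TensorMod.Gen Groth.Agent.Lib.Ample.GenLocus Opposite TopologicalSpace
open Groth.Agent.Lib.TensorMod.Dual

/-- A point of a regularly embedded subscheme of codimension `d` has a local ring of dimension at least `d`. -/
theorem le_dim {S Y : Scheme.{u}} [IsLocallyNoetherian Y] (i : S ⟶ Y) [IsClosedImmersion i] (d : ℕ)
    (hi : RegImm.IsRegularImmersionOfCodim .regular d i) (y : Y) (hy : y ∈ (i.ker.support : Set Y)) :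
    (d : WithBot ℕ∞) ≤ ringKrullDim (Y.presheaf.stalk y) := by
  have hr : (i.ker.support : Set Y) = Set.range i := by
    rw [Scheme.Hom.support_ker]
    exact i.isClosedEmbedding.isClosed_range.closure_eq
  rw [hr] at hy
  obtain ⟨z, rfl⟩ := hy
  obtain ⟨U, hzU, -, rs, hlen, hseq, hker⟩ := hi.2 z
  have hreg : RingTheory.Sequence.IsRegular Γ(Y, U.1) rs := hseq
  letI := TopCat.Presheaf.algebra_section_stalk Y.presheaf (⟨i z, hzU⟩ : U.1)
  haveI := U.2.isLocalization_stalk ⟨i z, hzU⟩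
  have hmem : ∀ r ∈ rs, r ∈ (U.2.primeIdealOf ⟨i z, hzU⟩).asIdeal := fun r hr => by
    have h1 : r ∈ i.ker.ideal U := by
      rw [Scheme.Hom.ker_apply, hker]
      exact Ideal.subset_span hr
    refine (Groth.Agent.Lib.Ideal.Prime.mem_support_iff_le_prime i.ker U hzU).1 ?_ h1
    rw [← SetLike.mem_coe, Scheme.Hom.support_ker]
    exact subset_closure ⟨z, rfl⟩
  have hreg' := hreg.toIsWeaklyRegular.isRegular_of_isLocalization_of_mem (Y.presheaf.stalk (i z))
    (U.2.primeIdealOf ⟨i z, hzU⟩).asIdeal hmem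
  have h := ringKrullDim_add_length_eq_ringKrullDim_of_isRegular _ hreg'
  rw [List.length_map, hlen] at h
  rw [← h]
  have : Nontrivial (Y.presheaf.stalk (i z) ⧸ Ideal.ofList (rs.map (algebraMap Γ(Y, U.1) (Y.presheaf.stalk (i z))))) := by
    refine Ideal.Quotient.nontrivial_iff.2 fun he => hreg'.top_ne_smul ?_
    rw [he]
    simp
  obtain ⟨q⟩ := (inferInstance : Nonempty (PrimeSpectrum (Y.presheaf.stalk (i z) ⧸
    Ideal.ofList (rs.map (algebraMap Γ(Y, U.1) (Y.presheaf.stalk (i z)))))))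
  have : Nonempty (PrimeSpectrum (Y.presheaf.stalk (i z) ⧸
    Ideal.ofList (rs.map (algebraMap Γ(Y, U.1) (Y.presheaf.stalk (i z)))))) := ⟨q⟩
  exact le_add_of_nonneg_left ringKrullDim_nonneg_of_nontrivial

/-- For the blowing up σ : X ⟶ Y of a smooth separated finite-type scheme over a characteristic-zero
algebraically closed field along a closed subscheme regularly immersed of constant codimension d ≥
2, with inverse image ideal J, and any O_X-module L with L ⊗ J ≅ O_X (that is, L = O_X(D) for the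
exceptional divisor D), the direct image σ_* L is isomorphic to O_Y. Existence of an isomorphism
only (the composite of isomorphisms σ_*O_X(D) ≅ σ_*O_X and σ_*O_X ≅ O_Y). -/
theorem result (k : Type u) [Field k] [IsAlgClosed k] [CharZero k]
    {S Y X : Scheme.{u}} [Y.Over (Spec (CommRingCat.of k))] [Smooth (Y ↘ Spec (CommRingCat.of k))]
    [IsSeparated (Y ↘ Spec (CommRingCat.of k))] [QuasiCompact (Y ↘ Spec (CommRingCat.of k))]
    (i : S ⟶ Y) [IsClosedImmersion i] (d : ℕ) (hd : 2 ≤ d) (hi : RegImm.IsRegularImmersionOfCodim .regular d i)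
    (σ : X ⟶ Y) (hσ : BlowUp.IsBlowUp σ i.ker)
    (L : X.Modules) (hL : ClSub.IsInverseOf L (ClSub.idealMod (BlowUp.exceptional σ i.ker))) :
    Nonempty ((Scheme.Modules.pushforward σ).obj L ≅ Coh.structureModule Y) := by
  haveI : IsLocallyNoetherian Y := LocallyOfFiniteType.isLocallyNoetherian (Y ↘ Spec (CommRingCat.of k))
  have hN := Lib.Flat55.CurveNormalizationBC.isNormalScheme_of_smooth (Y ↘ Spec (CommRingCat.of k))
  set U : Y.Opens := i.ker.support.compl with hUdef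
  have hU : ∀ y : Y, ringKrullDim (Y.presheaf.stalk y) ≤ 1 → y ∈ U := fun y hy => by
    by_contra h
    have h1 : y ∈ (i.ker.support : Set Y) := not_not.1 h
    have h2 := (le_dim i d hi y h1).trans hy
    have h3 : d ≤ 1 := by exact_mod_cast h2
    omega
  have hres : ∀ W : Y.Opens, Function.Bijective (Y.presheaf.map (homOfLE (inf_le_right : U ⊓ W ≤ W)).op) := by
    intro W
    haveI := H15.Codim2.Hartogs.isIso_unit hN (Coh.structureModule Y)
      (Lib.TensorMod.QCohInv.isQCoh_of_isInvertible (Lib.ParaF.Pair.isInvertible_structureModule Y))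
      (Lib.TensorMod.FPConv.isFlat_of_isFinLocFree (Lib.TensorMod.LocFree.of_rank
        (Lib.TensorMod.LocFree.of_isInvertible (Lib.ParaF.Pair.isInvertible_structureModule Y)))) U hU
    have e : U.ι ''ᵁ (U.ι ⁻¹ᵁ W) = U ⊓ W := by
      rw [Scheme.Hom.image_preimage_eq_opensRange_inf, Scheme.Opens.opensRange_ι]
    have hb := ConcreteCategory.bijective_of_isIso
      (((Scheme.Modules.restrictAdjunction U.ι).unit.app (Coh.structureModule Y)).app W)
    have key : ∀ (V : Y.Opens) (hV : V ≤ W), V = U.ι ''ᵁ (U.ι ⁻¹ᵁ W) →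
        Function.Bijective (Y.presheaf.map (homOfLE hV).op) := by
      rintro V hV rfl
      exact hb
    exact key _ _ e.symm
  have hLinv : PicF.IsInvertible L := Lib.TensorMod.TensorInv.isInvertible_of_tensor_iso hL.some
  obtain ⟨s, hs⟩ := H63.CartierInverse.exists_section _ hσ.1 L hLinv hL
  have hgen : IsGen L (σ ⁻¹ᵁ U) (sv s _) := by
    have h := Lib.Ample.Basis.isGen_genLocus s
    have hle : σ ⁻¹ᵁ U ≤ CohB1.genLocus L s := fun x hx => (hs x).2 fun hx' => by
      rw [← SetLike.mem_coe, Scheme.IdealSheafData.support_comap] at hx'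
      exact hx hx'
    rw [← rs_sv s hle]
    exact h.res hle
  haveI := Lib.Ideal.BlowUp.isIso_off_center hσ
  haveI : IsIso (σ ∣_ U) := inferInstanceAs (IsIso (σ ∣_ i.ker.support.compl))
  have hoff : ∀ (V : Y.Opens) (hV : V ≤ U), Function.Bijective
      (fun a : Γ(Y, V) => σ.app V a • rs L (σ.preimage_mono hV) (sv s (σ ⁻¹ᵁ U))) := fun V hV => by
    have h1 : IsIso (σ.app V) := Lib.BlowFlat85.FiniteBirational.isIso_app_of_le σ hV
    exact (hgen _ (σ.preimage_mono hV)).comp (ConcreteCategory.bijective_of_isIso (σ.app V))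
  let φ : Coh.structureModule Y ⟶ (Scheme.Modules.pushforward σ).obj L :=
    ClSub.unitToPush σ ≫ (Scheme.Modules.pushforward σ).map s
  have hφ : ∀ (W : Y.Opens) (a : Γ(Y, W)),
      (φ.app W a : Γ(L, σ ⁻¹ᵁ W)) = σ.app W a • sv s (σ ⁻¹ᵁ W) :=
    fun W a => app_eq_smul s (σ.app W a)
  suffices h : ∀ W : Y.Opens, Function.Bijective (φ.app W) by
    haveI : ∀ W, IsIso (φ.app W) := fun W => (ConcreteCategory.isIso_iff_bijective _).2 (h W)
    haveI : IsIso φ := Scheme.Modules.Hom.isIso_iff_isIso_app.2 inferInstance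
    exact ⟨(asIso φ).symm⟩
  intro W
  have hnat : ∀ a : Γ(Y, W), rs L (σ.preimage_mono (inf_le_right : U ⊓ W ≤ W)) (σ.app W a • sv s (σ ⁻¹ᵁ W)) =
      σ.app (U ⊓ W) (Y.presheaf.map (homOfLE (inf_le_right : U ⊓ W ≤ W)).op a) •
        rs L (σ.preimage_mono (inf_le_left : U ⊓ W ≤ U)) (sv s (σ ⁻¹ᵁ U)) := fun a => by
    rw [rs_sv]
    erw [ConcreteCategory.congr_hom (σ.naturality (homOfLE (inf_le_right : U ⊓ W ≤ W)).op) a]
    refine (rs_smul _ _ _ _).trans ?_
    rw [rs_sv]
    rfl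
  constructor
  · intro a b hab
    have hab' : (σ.app W a • sv s (σ ⁻¹ᵁ W)) = σ.app W b • sv s (σ ⁻¹ᵁ W) :=
      (hφ W a).symm.trans (hab.trans (hφ W b))
    refine (hres W).1 ((hoff _ inf_le_left).1 ?_)
    exact (hnat a).symm.trans ((congrArg _ hab').trans (hnat b))
  · intro (t : Γ(L, σ ⁻¹ᵁ W))
    obtain ⟨b, hb⟩ := (hoff (U ⊓ W) inf_le_left).2
      (rs L (σ.preimage_mono (inf_le_right : U ⊓ W ≤ W)) t)
    obtain ⟨a, ha⟩ := (hres W).2 b
    refine ⟨a, (hφ W a).trans ?_⟩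
    have hd : rs L (σ.preimage_mono (inf_le_right : U ⊓ W ≤ W)) (σ.app W a • sv s (σ ⁻¹ᵁ W) - t) = 0 :=
      (map_sub _ _ _).trans (sub_eq_zero.2 ((hnat a).trans (by rw [ha]; exact hb)))
    refine sub_eq_zero.1 ?_
    refine TopCat.Sheaf.eq_of_locally_eq' (⟨L.presheaf, L.isSheaf⟩ : TopCat.Sheaf Ab X)
      (fun V : {V : X.Opens // V ≤ σ ⁻¹ᵁ W ∧ ∃ e : Γ(L, V), IsGen L V e} => V.1) (σ ⁻¹ᵁ W)
      (fun V => homOfLE V.2.1) ?_ _ _ fun V => ?_
    · intro x hx
      obtain ⟨V, l, hxV, hl⟩ := (TensorMod.Gen.isInvertible_iff.1 hLinv) x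
      exact Opens.mem_iSup.2 ⟨⟨V ⊓ σ ⁻¹ᵁ W, inf_le_right, rs L inf_le_left l, hl.res _⟩, hxV, hx⟩
    · obtain ⟨V, hVW, e, he⟩ := V
      refine Eq.trans ?_ (map_zero _).symm
      obtain ⟨c, hc⟩ := exists_coord he (rs L hVW (σ.app W a • sv s (σ ⁻¹ᵁ W) - t))
      suffices hc0 : c = 0 by
        refine hc.trans ?_
        rw [hc0, zero_smul]
      refine Lib.Ideal.EffCartier.eq_zero_of_germ_eq_zero_off hσ.1 c fun x hx hxs => ?_
      have hxU : x ∈ σ ⁻¹ᵁ U := fun h => hxs (by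
        rw [← SetLike.mem_coe, Scheme.IdealSheafData.support_comap]
        exact h)
      have hle : V ⊓ σ ⁻¹ᵁ U ≤ σ ⁻¹ᵁ (U ⊓ W) := fun y hy => ⟨hy.2, hVW hy.1⟩
      have h0 : X.presheaf.map (homOfLE (inf_le_left : V ⊓ σ ⁻¹ᵁ U ≤ V)).op c = 0 := by
        refine (he _ (inf_le_left : V ⊓ σ ⁻¹ᵁ U ≤ V)).1 ?_
        simp only [zero_smul]
        rw [← rs_smul, ← hc, rs_rs, ← rs_rs L (σ.preimage_mono inf_le_right) hle, hd]
        exact map_zero _
      rw [← TopCat.Presheaf.germ_res_apply X.presheaf (homOfLE (inf_le_left : V ⊓ σ ⁻¹ᵁ U ≤ V)) x ⟨hx, hxU⟩,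
        h0, map_zero]

end Groth.Agent.S13917
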