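import Groth.Statements.S13922
import Groth.Agent.S13921
import Groth.Agent.Lib.RamP1.Flip
-- import your own Groth.Agent.* helpers here

set_option autoImplicit false
universe u
open W4c1limliniiii

namespace Groth.Agent.S13922

open Groth.Agent.Lib.RamP1.Flip

/-- For points in general position the flip is a bijection. -/
theorem exists_equiv {k : Type u} [Field k] [IsAlgClosed k]
    {p : ℕ} [Fact p.Prime] [CharP k p] {d n : ℕ} {e : Fin n → ℕ}
    (he : W4c1limliniiii.Admissible p d e) (hlt : ∀ l, e l < p) {i j : Fin n} (hij : i ≠ j) :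
    ∃ Ψ : MvPolynomial (Fin n) k, Ψ ≠ 0 ∧ ∀ P : Fin n → k, MvPolynomial.eval P Ψ ≠ 0 →
      Nonempty (ramMaps d P e ≃ ramMaps (d + p - e i - e j) P
        (Function.update (Function.update e i (p - e i)) j (p - e j))) := by
  obtain ⟨Φ1, hΦ1, h1⟩ := Groth.Agent.S13921.result k p d n e he
  set e' := Function.update (Function.update e i (p - e i)) j (p - e j) with he'
  have h'i : e' i = p - e i := by simp [he', hij]
  have h'j : e' j = p - e j := by simp [he']
  have h'l : ∀ l, l ≠ i → l ≠ j → e' l = e l := by intro l hl hl'; simp [he', hl, hl']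
  set e'' := Function.update e i (2 * p - e i) with he''
  have h''i : e'' i = p + e' i := by
    have := hlt i
    rw [he'', h'i, Function.update_self]; omega
  have h''j : e'' j = p - e' j := by
    have := hlt j
    rw [he'', h'j, Function.update_of_ne hij.symm]; omega
  have h''l : ∀ l, l ≠ i → l ≠ j → e'' l = e' l := by intro l hl hl'; simp [he'', he', hl, hl']
  obtain ⟨Φ2, hΦ2, h2⟩ : ∃ Φ : MvPolynomial (Fin n) k, Φ ≠ 0 ∧ ∀ P : Fin n → k,
      MvPolynomial.eval P Φ ≠ 0 → p ≤ d → (ramMaps (d + p - e i) P e'').Finite := by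
    by_cases hpd : p ≤ d
    · have hadm : W4c1limliniiii.Admissible p (d + p - e i) e'' := by
        refine ⟨fun l => ?_, ?_⟩
        · by_cases hl : l = i
          · subst hl
            have := he.1 l; have := hlt l
            simp only [he'', Function.update_self]
            refine ⟨by omega, by omega, fun hd => (he.1 l).2.2 ?_⟩
            exact (Nat.dvd_add_right hd).1 (by rw [Nat.sub_add_cancel (by omega)]; exact dvd_mul_left p 2)
          · have := he.1 l; have := hlt i
            simp only [he'', Function.update_of_ne hl]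
            exact ⟨(he.1 l).1, by omega, (he.1 l).2.2⟩
        · have hsum := he.2
          rw [← Finset.add_sum_erase _ _ (Finset.mem_univ i)] at hsum
          rw [← Finset.add_sum_erase _ _ (Finset.mem_univ i), he'', Function.update_self,
            Finset.sum_congr rfl fun l hl => Function.update_of_ne (Finset.ne_of_mem_erase hl) _ e]
          change 2 * p - e i + ∑ x ∈ Finset.univ.erase i, e x + 2 = _
          have := hlt i
          omega
      obtain ⟨Φ, hΦ, h⟩ := Groth.Agent.S13921.result k p (d + p - e i) n e'' hadm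
      exact ⟨Φ, hΦ, fun P hP _ => (h P hP).1⟩
    · exact ⟨1, one_ne_zero, fun P _ h => absurd h hpd⟩
  refine ⟨Φ1 * Φ2 * ((∏ l ∈ Finset.univ.erase i, (MvPolynomial.X l - MvPolynomial.X i)) *
    ∏ l ∈ Finset.univ.erase j, (MvPolynomial.X l - MvPolynomial.X j)), ?_, fun P hP => ?_⟩
  · refine mul_ne_zero (mul_ne_zero hΦ1 hΦ2) (mul_ne_zero ?_ ?_) <;>
      refine Finset.prod_ne_zero_iff.2 fun l hl => sub_ne_zero.2 fun h => ?_ <;>
      exact Finset.ne_of_mem_erase hl (MvPolynomial.X_injective h)
  simp only [map_mul, map_prod, map_sub, MvPolynomial.eval_X, mul_ne_zero_iff,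
    Finset.prod_ne_zero_iff, sub_ne_zero, Finset.mem_erase, Finset.mem_univ, and_true] at hP
  obtain ⟨⟨hP1, hP2⟩, hPi, hPj⟩ := hP
  have he1 : ∀ l, 1 ≤ e l ∧ e l < p := fun l => ⟨le_trans (by omega) (he.1 l).1, hlt l⟩
  have he2 : ∀ l, 1 ≤ e' l ∧ e' l < p := by
    intro l
    by_cases hl : l = i
    · subst hl; have := he1 l; omega
    by_cases hl' : l = j
    · subst hl'; have := he1 l; omega
    rw [h'l l hl hl']; exact he1 l
  have hei := he1 i
  have hej := he1 j
  have hdi := (he.1 i).2.1
  have hsep1 : ∀ V ∈ ramMaps d P e, Sep V (P i) (P j) := fun V hV => (h1 P hP1).2 V hV i j hij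
  have hsep2 : ∀ W ∈ ramMaps (d + p - e i - e j) P e', Sep W (P i) (P j) := by
    intro W hW
    by_contra hns
    obtain ⟨hle, hinf⟩ := infinite_of_not_sep (e'' := e'') he2 h''i h''j h''l hPi hPj hij hW hns
    rw [show d + p - e i - e j + p - e' j = d + p - e i by omega] at hinf
    exact hinf (h2 P hP2 (by omega))
  have hrev : d + p - e i - e j + p - e' i - e' j = d := by omega
  have hto := fun (V : ramMaps d P e) =>
    flip_mem (e' := e') he1 h'i h'j h'l hPi hPj hij V.2 (hsep1 _ V.2)
  have hinv := fun (W : ramMaps (d + p - e i - e j) P e') =>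
    flip_mem (e' := e) he2 (by omega : e i = p - e' i) (by omega : e j = p - e' j)
      (fun l hl hl' => (h'l l hl hl').symm) hPi hPj hij W.2 (hsep2 _ W.2)
  exact ⟨{
    toFun := fun V => ⟨_, (hto V).1⟩
    invFun := fun W => ⟨flipV p (P i) (P j) (e' i) (e' j) W, by
      have h := (hinv W).1
      rwa [hrev] at h⟩
    left_inv := fun V => Subtype.ext (hto V).2.2
    right_inv := fun W => Subtype.ext (hinv W).2.2 }⟩

open Polynomial in
/-- Over an algebraically closed field of prime characteristic p, let (d; e_1, …, e_n) be admissible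
ramification data (2 ≤ e_i ≤ d, ∑ (e_i − 1) = 2d − 2) with every e_i < p, and for two distinct
indices i ≠ j replace e_i, e_j by p − e_i, p − e_j and d by d + p − e_i − e_j. Then the number of
separable self-maps of the projective line with the prescribed ramification at general points, up to
automorphisms of the target (counted as base-point-free separable pencils of polynomials, for
configurations of points of the affine line off the zero set of a non-zero polynomial), is the same
for the two data: a number is the general count for one if and only if it is the general count for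
the other. -/
theorem result (k : Type u) [Field k] [IsAlgClosed k]
    (p : ℕ) [Fact p.Prime] [CharP k p] (d n : ℕ) (e : Fin n → ℕ)
    (he : W4c1limliniiii.Admissible p d e) (hlt : ∀ l, e l < p) (i j : Fin n) (hij : i ≠ j)
    (m : ℕ) :
    W4c1limliniiii.HasGenericCount (k := k) d e m ↔
      W4c1limliniiii.HasGenericCount (k := k) (d + p - e i - e j)
        (Function.update (Function.update e i (p - e i)) j (p - e j)) m := by
  obtain ⟨Ψ, hΨ, hE⟩ := exists_equiv (k := k) he hlt hij
  constructor <;> rintro ⟨Φ, hΦ, h⟩ <;>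
    refine ⟨Φ * Ψ, mul_ne_zero hΦ hΨ, fun P hP => ?_⟩ <;>
    rw [map_mul, mul_ne_zero_iff] at hP <;>
    obtain ⟨hfin, hcard⟩ := h P hP.1 <;>
    obtain ⟨E⟩ := hE P hP.2 <;>
    have := hfin.to_subtype
  · exact ⟨Set.finite_coe_iff.1 (Finite.of_equiv _ E), (Nat.card_congr E.symm).trans hcard⟩
  · exact ⟨Set.finite_coe_iff.1 (Finite.of_equiv _ E.symm), (Nat.card_congr E).trans hcard⟩

end Groth.Agent.S13922
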