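import Groth.Statements.S13923
import Groth.Agent.Lib.RamP1.Four45.Small
import Groth.Agent.S13922
import Mathlib.Data.Fin.Tuple.Sort
-- import your own Groth.Agent.* helpers here

set_option autoImplicit false
universe u
open W4c1limliniiii

namespace Groth.Agent.S13923

open Groth.Agent.Lib.RamP1

theorem inf_sorted {d : ℕ} {e : Fin 4 → ℕ} (π : Equiv.Perm (Fin 4)) (hπ : Monotone (e ∘ π)) :
    Finset.univ.inf' Finset.univ_nonempty (fun i => min (e i) (d + 1 - e i)) =
      min (e (π 0)) (d + 1 - e (π 3)) := by
  refine le_antisymm (le_min ?_ ?_) (Finset.le_inf' _ _ fun i _ => ?_)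
  · exact (Finset.inf'_le _ (Finset.mem_univ (π 0))).trans (min_le_left _ _)
  · exact (Finset.inf'_le _ (Finset.mem_univ (π 3))).trans (min_le_right _ _)
  · obtain ⟨j, rfl⟩ := π.surjective i
    have h0 := hπ (Fin.zero_le j)
    have h3 := hπ (show j ≤ 3 from Fin.le_last j)
    simp only [Function.comp_apply] at h0 h3
    omega

theorem inf_four (f : Fin 4 → ℕ) :
    Finset.univ.inf' Finset.univ_nonempty f = min (min (f 0) (f 1)) (min (f 2) (f 3)) := by
  refine le_antisymm (le_min (le_min ?_ ?_) (le_min ?_ ?_)) (Finset.le_inf' _ _ fun i _ => ?_)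
  iterate 4 exact Finset.inf'_le _ (Finset.mem_univ _)
  fin_cases i <;> simp

theorem count_lt {k : Type u} [Field k] [IsAlgClosed k] (p : ℕ) [CharP k p] {d : ℕ} {e : Fin 4 → ℕ}
    (h2 : ∀ i, 2 ≤ e i) (hed : ∀ i, e i ≤ d) (hsum : e 0 + e 1 + e 2 + e 3 = 2 * d + 2)
    (hp : p = 0 ∨ d < p) :
    HasGenericCount (k := k) d e
      (Finset.univ.inf' Finset.univ_nonempty (fun i => min (e i) (d + 1 - e i))) := by
  obtain ⟨π, hmono⟩ : ∃ π : Equiv.Perm (Fin 4), Monotone (e ∘ π) := ⟨Tuple.sort e, Tuple.monotone_sort e⟩
  rw [inf_sorted π hmono]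
  refine Four45.hasGenericCount_reindex π (Four45.count_sorted p (e := e ∘ π) (fun i => h2 _) (fun i => hed _)
    ?_ (hmono (by decide)) (hmono (by decide)) (hmono (by decide)) hp)
  have h := (Equiv.sum_comp π e)
  rw [Fin.sum_univ_four, Fin.sum_univ_four] at h
  simp only [Function.comp_apply]
  omega

theorem distinct_generic {k : Type u} [Field k] {d N : ℕ} {e : Fin 4 → ℕ}
    (h : ∀ P : Fin 4 → k, Function.Injective P → (ramMaps d P e).Finite ∧ Nat.card (ramMaps d P e) = N) :
    HasGenericCount (k := k) d e N := by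
  refine ⟨∏ x ∈ (Finset.univ : Finset (Fin 4)).offDiag, (MvPolynomial.X x.1 - MvPolynomial.X x.2),
    Finset.prod_ne_zero_iff.2 fun x hx => sub_ne_zero.2 fun h => ?_, fun P hP => h P fun i j h => ?_⟩
  · exact (Finset.mem_offDiag.1 hx).2.2 (MvPolynomial.X_injective h)
  · by_contra hne
    simp only [map_prod, map_sub, MvPolynomial.eval_X, Finset.prod_ne_zero_iff] at hP
    exact hP (i, j) (Finset.mem_offDiag.2 ⟨Finset.mem_univ _, Finset.mem_univ _, hne⟩) (sub_eq_zero.2 h)

theorem count_ge {k : Type u} [Field k] [IsAlgClosed k] (p : ℕ) [Fact p.Prime] [CharP k p] {d : ℕ}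
    {e : Fin 4 → ℕ} (he : Admissible p d e) (hlt : ∀ i, e i < p) (hd : p ≤ d)
    (h01 : e 0 ≤ e 1) (h12 : e 1 ≤ e 2) (h23 : e 2 ≤ e 3) :
    HasGenericCount (k := k) d e (min (e 0) (d + 1 - e 3) - (d + 1 - p)) := by
  rw [Groth.Agent.S13922.result k p d 4 e he hlt 2 3 (by decide)]
  have hsum := he.2
  rw [Fin.sum_univ_four] at hsum
  have a0 := he.1 0; have a1 := he.1 1; have a2 := he.1 2; have a3 := he.1 3
  have b0 := hlt 0; have b1 := hlt 1; have b2 := hlt 2; have b3 := hlt 3
  obtain ⟨d', hd'⟩ : ∃ d', d' = d + p - e 2 - e 3 := ⟨_, rfl⟩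
  rw [← hd']
  obtain ⟨e', he'⟩ : ∃ e', e' = Function.update (Function.update e 2 (p - e 2)) 3 (p - e 3) := ⟨_, rfl⟩
  rw [← he']
  have f0 : e' 0 = e 0 := by rw [he']; simp
  have f1 : e' 1 = e 1 := by rw [he']; simp
  have f2 : e' 2 = p - e 2 := by rw [he']; simp
  have f3 : e' 3 = p - e 3 := by rw [he']; simp
  by_cases hA : d' < e' 1
  · -- no maps
    rw [show min (e 0) (d + 1 - e 3) - (d + 1 - p) = 0 by omega]
    refine distinct_generic fun P _ => ?_
    have hempty : ramMaps d' P e' = ∅ := by
      refine Set.eq_empty_of_forall_notMem fun V hV => ?_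
      obtain ⟨⟨s, hs, hs0, hse⟩, -⟩ := hV.2.2 1
      have h1 := Polynomial.natDegree_le_of_dvd ((Polynomial.le_rootMultiplicity_iff hs0).1 hse) hs0
      rw [Polynomial.natDegree_pow, Polynomial.natDegree_X_sub_C] at h1
      have h2 := Three.natDegree_le_of_mem hV.1.1 hs
      omega
    simp [hempty]
  by_cases hB : 2 ≤ e' 3
  · have h := count_lt (k := k) p (d := d') (e := e')
      (by intro i; fin_cases i <;> simp only [Fin.isValue, Fin.zero_eta, Fin.mk_one, Fin.reduceFinMk] <;> omega)
      (by intro i; fin_cases i <;> simp only [Fin.isValue, Fin.zero_eta, Fin.mk_one, Fin.reduceFinMk] <;> omega)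
      (by omega) (Or.inr (by omega))
    rw [inf_four] at h
    convert h using 1
    omega
  rw [show min (e 0) (d + 1 - e 3) - (d + 1 - p) = 1 by omega]
  refine distinct_generic fun P hP => ?_
  obtain ⟨V, hV⟩ : ∃ V, ramMaps d' P e' = {V} := by
    by_cases hC : 2 ≤ e' 2
    · refine Four45.ramMaps_eq_singleton p hP (fun i => ?_) (fun i => ?_) (by omega) (by omega)
        (Or.inr (by omega))
      · fin_cases i <;> simp only [Fin.isValue, Fin.reduceCastSucc, Fin.zero_eta, Fin.mk_one, Fin.reduceFinMk,
          Fin.castSucc_zero, Fin.castSucc_one] <;> omega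
      · fin_cases i <;> simp only [Fin.isValue, Fin.reduceCastSucc, Fin.zero_eta, Fin.mk_one, Fin.reduceFinMk,
          Fin.castSucc_zero, Fin.castSucc_one] <;> omega
    · exact Four45.ramMaps_two p hP (by omega) (by omega) (by omega) (by omega) (by omega) (Or.inr (by omega))
  simp [hV]

open Polynomial in
/-- Over an algebraically closed field of characteristic p (zero allowed), let (d; e_1, …, e_4) be
admissible (2 ≤ e_i ≤ d, e_i prime to p, ∑ (e_i − 1) = 2d − 2) with every e_i < p when p is
positive. Then the number of separable self-maps of the projective line of degree d ramified to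
order exactly e_i at four general points (configurations of the affine line off the zero set of a
non-zero polynomial), counted up to automorphisms of the target as base-point-free separable pencils
of polynomials, equals min over i of min (e_i, d + 1 − e_i), less max (0, d + 1 − p) when p is
positive. (Subtraction here is that of the natural numbers, truncated at zero: read over the
integers the closed form is negative for some admissible data, for instance indices 6, 6, 6, 2 in
characteristic 7, where the count is 0; the assertion that the maps have no non-trivial deformations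
is not restated.) -/
theorem result (k : Type u) [Field k] [IsAlgClosed k]
    (p : ℕ) [CharP k p] (d : ℕ) (e : Fin 4 → ℕ) (he : W4c1limliniiii.Admissible p d e)
    (hlt : ∀ i, p = 0 ∨ e i < p) :
    (p ≠ 0 → W4c1limliniiii.HasGenericCount (k := k) d e
      (Finset.univ.inf' Finset.univ_nonempty (fun i => min (e i) (d + 1 - e i)) - (d + 1 - p))) ∧
    (p = 0 → W4c1limliniiii.HasGenericCount (k := k) d e
      (Finset.univ.inf' Finset.univ_nonempty (fun i => min (e i) (d + 1 - e i)))) := by
  have hsum := he.2
  rw [Fin.sum_univ_four] at hsum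
  constructor
  · intro hp0
    have hlt' : ∀ i, e i < p := fun i => (hlt i).resolve_left hp0
    rcases Nat.lt_or_ge d p with hd | hd
    · rw [show d + 1 - p = 0 by omega, Nat.sub_zero]
      exact count_lt p (fun i => (he.1 i).1) (fun i => (he.1 i).2.1) (by omega) (Or.inr hd)
    · haveI : Fact p.Prime := ⟨(CharP.char_is_prime_or_zero k p).resolve_right hp0⟩
      obtain ⟨π, hmono⟩ : ∃ π : Equiv.Perm (Fin 4), Monotone (e ∘ π) := ⟨Tuple.sort e, Tuple.monotone_sort e⟩
      rw [inf_sorted π hmono]
      have hadm : Admissible p d (e ∘ π) := ⟨fun i => he.1 _, by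
        have h := he.2
        rw [← Equiv.sum_comp π e] at h
        exact h⟩
      exact Four45.hasGenericCount_reindex π
        (count_ge p hadm (fun i => hlt' _) hd (hmono (by decide)) (hmono (by decide)) (hmono (by decide)))
  · rintro rfl
    exact count_lt 0 (fun i => (he.1 i).1) (fun i => (he.1 i).2.1) (by omega) (Or.inl rfl)

end Groth.Agent.S13923
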