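import Groth.Statements.S13925
import Mathlib.LinearAlgebra.Span.Basic
import Mathlib.Order.SupIndep
-- import your own Groth.Agent.* helpers here

set_option autoImplicit false
universe u v w x
open W4c1limliniiii

namespace Groth.Agent.S13925

/-- Let k be a field and U, E, W vector spaces over k with linear maps f : U → E, g' : E → U, f₂ : E → W
and g : W → E such that g' ∘ f = 0, the kernel of f₂ is contained in the image of g, and the image
of g meets the kernel of g' only in 0 — the conditions holding at a point of a linked Grassmannian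
at which the linking scalar vanishes. Let V₁ ≤ U and V₂ ≤ E be subspaces and let C' ≤ V₂ be a
subspace contained in the kernel of g' and meeting f(V₁) only in 0. Then the subspaces f(V₁), ker f₂
∩ V₂ and C' of E are independent: their sum is direct. (The published statement is for two
consecutive members V_{i-1}, V_i of a point of a linked Grassmannian at which the linking scalar
vanishes and adds the decomposition V_i = f(V_{i-1}) ⊕ (ker f_i ∩ V_i) ⊕ C with C ⊇ C'; this row
states the independence, with only the three conditions the argument uses.) -/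
theorem result (k : Type u) [Field k]
    (U : Type v) (E : Type w) (W : Type x) [AddCommGroup U] [Module k U] [AddCommGroup E]
    [Module k E] [AddCommGroup W] [Module k W]
    (f : U →ₗ[k] E) (g' : E →ₗ[k] U) (f₂ : E →ₗ[k] W) (g : W →ₗ[k] E)
    (hgf : g'.comp f = 0) (hII : LinearMap.ker f₂ ≤ LinearMap.range g)
    (hIII : LinearMap.range g ⊓ LinearMap.ker g' = ⊥)
    (V₁ : Submodule k U) (V₂ : Submodule k E) (C' : Submodule k E) (hC : C' ≤ V₂)
    (hCg : C' ≤ LinearMap.ker g') (hCf : Submodule.map f V₁ ⊓ C' = ⊥) :
    iSupIndep ![Submodule.map f V₁, LinearMap.ker f₂ ⊓ V₂, C'] := by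
  have hA : Submodule.map f V₁ ≤ LinearMap.ker g' := by
    rintro _ ⟨v, -, rfl⟩
    rw [LinearMap.mem_ker, ← LinearMap.comp_apply, hgf, LinearMap.zero_apply]
  have hB : ∀ b ∈ LinearMap.ker f₂ ⊓ V₂, g' b = 0 → b = 0 := fun b hb h => by
    have : b ∈ LinearMap.range g ⊓ LinearMap.ker g' := ⟨hII hb.1, h⟩
    rw [hIII] at this
    exact this
  have hAC : ∀ x, x ∈ Submodule.map f V₁ → x ∈ C' → x = 0 := fun x h1 h2 => by
    have : x ∈ Submodule.map f V₁ ⊓ C' := ⟨h1, h2⟩
    rw [hCf] at this
    exact this
  intro i
  rw [Submodule.disjoint_def]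
  intro x hx hx'
  fin_cases i
  · have h : x ∈ (LinearMap.ker f₂ ⊓ V₂) ⊔ C' := by
      refine SetLike.le_def.1 (iSup₂_le fun j hj => ?_) hx'
      fin_cases j
      · exact absurd rfl hj
      · exact le_sup_left
      · exact le_sup_right
    obtain ⟨b, hb, c, hc, rfl⟩ := Submodule.mem_sup.1 h
    have h0 := LinearMap.mem_ker.1 (hA hx)
    rw [map_add, LinearMap.mem_ker.1 (hCg hc), add_zero] at h0
    rw [hB b hb h0, zero_add]
    refine hAC c ?_ hc
    have hx2 : b + c ∈ Submodule.map f V₁ := hx
    rwa [hB b hb h0, zero_add] at hx2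
  · have h : x ∈ Submodule.map f V₁ ⊔ C' := by
      refine SetLike.le_def.1 (iSup₂_le fun j hj => ?_) hx'
      fin_cases j
      · exact le_sup_left
      · exact absurd rfl hj
      · exact le_sup_right
    exact hB x hx (LinearMap.mem_ker.1 (sup_le hA hCg h))
  · have h : x ∈ Submodule.map f V₁ ⊔ (LinearMap.ker f₂ ⊓ V₂) := by
      refine SetLike.le_def.1 (iSup₂_le fun j hj => ?_) hx'
      fin_cases j
      · exact le_sup_left
      · exact le_sup_right
      · exact absurd rfl hj
    obtain ⟨a, ha, b, hb, rfl⟩ := Submodule.mem_sup.1 h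
    have h0 := LinearMap.mem_ker.1 (hCg hx)
    rw [map_add, LinearMap.mem_ker.1 (hA ha), zero_add] at h0
    rw [hB b hb h0, add_zero]
    refine hAC a ha ?_
    have hx2 : a + b ∈ C' := hx
    rwa [hB b hb h0, add_zero] at hx2

end Groth.Agent.S13925
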