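import Groth.Statements.S13926
import Mathlib.LinearAlgebra.FiniteDimensional.Lemmas
import Mathlib.LinearAlgebra.Dimension.StrongRankCondition
-- import your own Groth.Agent.* helpers here

set_option autoImplicit false
universe u v w
open W4c1limliniiii

namespace Groth.Agent.S13926

/-- Let k be a field, E₁ and E₂ finite-dimensional vector spaces over k of the same dimension, f : E₁ →
E₂ and g : E₂ → E₁ linear maps whose composite g ∘ f is multiplication by a scalar s, and V₁ a
subspace of E₁. Then there is a subspace V₂ of E₂ of the same dimension as V₁ with f(V₁) ≤ V₂ and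
g(V₂) ≤ V₁. (The published statement is the surjectivity of the truncation morphisms of a linked
Grassmannian, with a further assertion on lifting families; this row is the lifting step over a
field — over a point the chain of linked subspaces V_1, …, V_{n'} extends one index at a time — and
assumes only g ∘ f = s.) -/
theorem result (k : Type u) [Field k]
    (E₁ : Type v) (E₂ : Type w) [AddCommGroup E₁] [Module k E₁] [FiniteDimensional k E₁]
    [AddCommGroup E₂] [Module k E₂] [FiniteDimensional k E₂]
    (hdim : Module.finrank k E₁ = Module.finrank k E₂)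
    (f : E₁ →ₗ[k] E₂) (g : E₂ →ₗ[k] E₁) (s : k) (hgf : g.comp f = s • LinearMap.id)
    (V₁ : Submodule k E₁) :
    ∃ V₂ : Submodule k E₂, Module.finrank k V₂ = Module.finrank k V₁ ∧
      Submodule.map f V₁ ≤ V₂ ∧ Submodule.map g V₂ ≤ V₁ := by
  classical
  have h1 : Submodule.map f V₁ ≤ Submodule.comap g V₁ := by
    rintro _ ⟨v, hv, rfl⟩
    rw [Submodule.mem_comap, ← LinearMap.comp_apply, hgf, LinearMap.smul_apply, LinearMap.id_apply]
    exact Submodule.smul_mem _ _ hv
  have h2 : Module.finrank k (Submodule.map f V₁) ≤ Module.finrank k V₁ := Submodule.finrank_map_le f V₁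
  have h3 : Module.finrank k V₁ ≤ Module.finrank k (Submodule.comap g V₁) := by
    have h4 := LinearMap.finrank_range_add_finrank_ker (V₁.mkQ ∘ₗ g)
    have h5 := Submodule.finrank_le (LinearMap.range (V₁.mkQ ∘ₗ g))
    have h6 := V₁.finrank_quotient_add_finrank
    rw [LinearMap.ker_comp, Submodule.ker_mkQ] at h4
    omega
  obtain ⟨C, hC⟩ := (Submodule.map f V₁).exists_isCompl
  have h7 : Submodule.map f V₁ ⊔ C ⊓ Submodule.comap g V₁ = Submodule.comap g V₁ := by
    rw [← sup_inf_assoc_of_le C h1, hC.sup_eq_top, top_inf_eq]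
  have h8 : Module.finrank k (Submodule.map f V₁) + Module.finrank k ↥(C ⊓ Submodule.comap g V₁) =
      Module.finrank k (Submodule.comap g V₁) := by
    have h := Submodule.finrank_sup_add_finrank_inf_eq (Submodule.map f V₁) (C ⊓ Submodule.comap g V₁)
    rw [h7, ← inf_assoc, hC.inf_eq_bot, bot_inf_eq, finrank_bot, add_zero] at h
    exact h.symm
  obtain ⟨v, hv⟩ := exists_linearIndependent_of_le_finrank (R := k) (M := ↥(C ⊓ Submodule.comap g V₁))
    (n := Module.finrank k V₁ - Module.finrank k (Submodule.map f V₁)) (by omega)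
  let D : Submodule k E₂ := Submodule.span k (Set.range fun i => (v i : E₂))
  have hD : D ≤ C ⊓ Submodule.comap g V₁ := Submodule.span_le.2 (by rintro _ ⟨i, rfl⟩; exact (v i).2)
  have hDd : Module.finrank k D = Module.finrank k V₁ - Module.finrank k (Submodule.map f V₁) := by
    rw [finrank_span_eq_card]
    · simp
    · exact hv.map' (C ⊓ Submodule.comap g V₁).subtype (Submodule.ker_subtype _)
  refine ⟨Submodule.map f V₁ ⊔ D, ?_, le_sup_left, Submodule.map_le_iff_le_comap.2 (sup_le h1 (hD.trans inf_le_right))⟩
  have h9 : Submodule.map f V₁ ⊓ D = ⊥ :=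
    le_bot_iff.1 ((inf_le_inf_left _ (hD.trans inf_le_left)).trans hC.inf_eq_bot.le)
  have h := Submodule.finrank_sup_add_finrank_inf_eq (Submodule.map f V₁) D
  rw [h9, finrank_bot, add_zero, hDd] at h
  omega

end Groth.Agent.S13926
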