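import Groth.Statements.S13934
import Groth.Agent.Lib.CurveBundle.SlopeLine
import Groth.Agent.Lib.CurveBundle.Ctx

set_option autoImplicit false
universe u
open CategoryTheory CategoryTheory.Limits AlgebraicGeometry
open W4c1limliniiii

namespace Groth.Agent.S13934

/-- On a smooth proper integral curve over an algebraically closed field (any characteristic), let 0 → L
→ E → M → 0 be a short exact sequence of O_X-modules with E finite locally free of rank 2 and degree
0, L and M invertible and deg L > 0 (so M is det E ⊗ L⁻¹). Then: every invertible sheaf N admitting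
a non-zero map N → E has deg N ≤ deg L, so L is the line bundle of maximal degree in E; every
invertible subsheaf N of E of positive degree with invertible quotient E/N coincides with L (some
isomorphism N ≅ L commutes with the inclusions); and E is not an extension of two invertible sheaves
of degree 0. Degrees are χ(−) minus rank times χ(O_X). (The published lemma is stated on a curve of
genus 2 in characteristic p; its argument uses neither, and this row assumes neither.) -/
theorem result (k : Type u) [Field k] [IsAlgClosed k] (X : Scheme.{u}) [X.Over (Spec (CommRingCat.of k))]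
    [IsIntegral X] [IsProper (X ↘ Spec (CommRingCat.of k))] [Smooth (X ↘ Spec (CommRingCat.of k))]
    (hdim : topologicalKrullDim X = 1)
    (S : ShortComplex X.Modules) (hS : S.ShortExact)
    (hE : FlatMod.IsFinLocFreeOfRank 2 S.X₂) (hE0 : Curv2.deg k X S.X₂ 2 = 0)
    (hL : PicF.IsInvertible S.X₁) (hM : PicF.IsInvertible S.X₃) (hpos : 0 < Curv2.deg k X S.X₁ 1) :
    (∀ (N : X.Modules), PicF.IsInvertible N → ∀ j : N ⟶ S.X₂, j ≠ 0 →
        Curv2.deg k X N 1 ≤ Curv2.deg k X S.X₁ 1) ∧
    (∀ (N : X.Modules), PicF.IsInvertible N → ∀ (j : N ⟶ S.X₂), Mono j →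
        PicF.IsInvertible (cokernel j) → 0 < Curv2.deg k X N 1 → ∃ φ : N ≅ S.X₁, φ.hom ≫ S.f = j) ∧
    (∀ (N N' : X.Modules), PicF.IsInvertible N → PicF.IsInvertible N' →
        Curv2.deg k X N 1 = 0 → Curv2.deg k X N' 1 = 0 →
        ∀ (a : N ⟶ S.X₂) (b : S.X₂ ⟶ N') (w : a ≫ b = 0), ¬ (ShortComplex.mk a b w).ShortExact) := by
  open Groth.Agent.Lib.CurveBundle in
    have := Ctx.ofIntegral k hdim
    haveI := hS.mono_f
    haveI := hS.epi_g
    obtain ⟨hEc, -, eE, hEd⟩ := Slope.bundle (k := k) hE
    obtain ⟨hLc, -, -, hLd⟩ := SlopeLine.line (k := k) hL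
    obtain ⟨hMc, -, -, hMd⟩ := SlopeLine.line (k := k) hM
    have hadd := Degree.dg_add k hS hLc hEc hMc
    rw [← hEd, ← hLd, ← hMd, hE0] at hadd
    refine ⟨fun N hN j hj => ?_, fun N hN j _ hq hNd => ?_, fun N N' hN hN' hNd hNd' a b w hab => ?_⟩
    · obtain ⟨-, -, -, hNd⟩ := SlopeLine.line (k := k) hN
      by_cases h : j ≫ S.g = 0
      · haveI := hS.mono_f
        have hne : hS.exact.lift j h ≠ 0 := fun h' => hj (by
          rw [← hS.exact.lift_f j h, h', zero_comp])
        rw [hNd, hLd]
        exact (SlopeLine.of_ne_zero (k := k) hN hL _ hne).2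
      · have := (SlopeLine.of_ne_zero (k := k) hN hM _ h).2
        rw [hNd, hLd]
        omega
    · rcases SlopeLine.line_in_extension (k := k) S hS hL hM N hN j hq with h | h
      · exact h
      · omega
    · obtain ⟨-, -, -, hNd₁⟩ := SlopeLine.line (k := k) hN
      obtain ⟨-, -, -, hNd₂⟩ := SlopeLine.line (k := k) hN'
      have h0 : S.f ≫ b = 0 := by
        by_contra h
        have := (SlopeLine.of_ne_zero (k := k) hL hN' _ h).2
        omega
      haveI := hab.mono_f
      have hne : hab.exact.lift S.f h0 ≠ 0 := fun h' => by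
        have hf : S.f = 0 := by rw [← hab.exact.lift_f S.f h0, h', zero_comp]
        have := Degree.gr_of_isZero k (IsZero.of_mono_eq_zero S.f hf)
        rw [(SlopeLine.line (k := k) hL).2.2.1] at this
        omega
      have := (SlopeLine.of_ne_zero (k := k) hL hN _ hne).2
      omega


end Groth.Agent.S13934
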