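import Groth.Statements.S1394
import Mathlib.RingTheory.ZariskisMainTheorem
import Mathlib.RingTheory.EssentialFiniteness
import Mathlib.RingTheory.Ideal.KrullsHeightTheorem
import Mathlib.RingTheory.Spectrum.Prime.Topology
import Mathlib.RingTheory.Length
import Mathlib.RingTheory.KrullDimension.Zero
import Mathlib.RingTheory.HopkinsLevitzki

set_option autoImplicit false
universe u
open FlatMor

namespace Groth.Agent.S1394

theorem finite_of_isFiniteLength {A X : Type u} [CommRing A] [CommRing X] [Algebra A X] [IsLocalRing X]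
    [Module.Finite A (IsLocalRing.ResidueField X)] {N : Type u} [AddCommGroup N] [Module X N]
    (h : IsFiniteLength X N) :
    ∀ [Module A N] [IsScalarTower A X N], Module.Finite A N := by
  induction h with
  | of_subsingleton => intro _ _; infer_instance
  | @of_simple_quotient M _ _ N _ _ ih =>
    intro _ _
    obtain ⟨I, hI, ⟨e⟩⟩ := isSimpleModule_iff_quot_maximal.1 (inferInstance : IsSimpleModule X (M ⧸ N))
    have hIm : I = IsLocalRing.maximalIdeal X := IsLocalRing.eq_maximalIdeal hI
    subst hIm
    have : Module.Finite A (X ⧸ IsLocalRing.maximalIdeal X) := ‹Module.Finite A (IsLocalRing.ResidueField X)›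
    have hQ : Module.Finite A (M ⧸ N) :=
      Module.Finite.equiv ((e.restrictScalars A).symm : IsLocalRing.ResidueField X ≃ₗ[A] (M ⧸ N))
    have hN : Module.Finite A N := ih
    have hN' : Module.Finite A (N.restrictScalars A) := hN
    have : Module.Finite A (M ⧸ N.restrictScalars A) :=
      Module.Finite.equiv (Submodule.Quotient.restrictScalarsEquiv A N).symm
    exact Module.Finite.of_submodule_quotient (N.restrictScalars A)

/-- A punctured-field local domain, essentially of finite type with finite residue field, is quasi-finite. -/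
theorem quasiFinite_of_mem_all {A X : Type u} [CommRing A] [IsLocalRing A] [IsNoetherianRing A] [CommRing X]
    [IsDomain X] [IsLocalRing X] [Algebra A X] [IsLocalHom (algebraMap A X)] [Algebra.EssFiniteType A X]
    [Module.Finite A (IsLocalRing.ResidueField X)]
    (g : X) (hg0 : g ≠ 0) (hg : ∀ P : Ideal X, P.IsPrime → P ≠ ⊥ → g ∈ P)
    (a : A) (ha : a ∈ IsLocalRing.maximalIdeal A) (ha0 : algebraMap A X a ≠ 0) : Algebra.QuasiFinite A X := by
  classical
  have : IsNoetherianRing X := Algebra.EssFiniteType.isNoetherianRing A X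
  have hfin := (Ideal.span {g}).finite_minimalPrimes_of_isNoetherianRing X
  have hmax : (IsLocalRing.maximalIdeal X).height ≤ 1 := by
    have hsub : (IsLocalRing.maximalIdeal X : Set X) ⊆ ⋃ Q ∈ (hfin.toFinset : Set (Ideal X)), (Q : Set X) := by
      intro z hz
      have hne : Ideal.span {g} ≤ IsLocalRing.maximalIdeal X := by
        rw [Ideal.span_singleton_le_iff_mem]
        exact hg _ inferInstance (fun h => by
          have hu : IsUnit g := by
            by_contra hu
            exact hg0 ((Submodule.mem_bot X).1 (h ▸ (show g ∈ IsLocalRing.maximalIdeal X from hu)))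
          have hm : (IsLocalRing.maximalIdeal X) = ⊥ := h
          exact ha0 ((Submodule.mem_bot X).1 (hm ▸ (show algebraMap A X a ∈ IsLocalRing.maximalIdeal X from
            fun hu' => ha (isUnit_of_map_unit (algebraMap A X) a hu')))))
      by_cases hz0 : z = 0
      · obtain ⟨Q, hQ, -⟩ := Ideal.exists_minimalPrimes_le hne
        exact Set.mem_iUnion₂.2 ⟨Q, hfin.mem_toFinset.2 hQ, hz0 ▸ Q.zero_mem⟩
      obtain ⟨Q, hQ, -⟩ := Ideal.exists_minimalPrimes_le ((Ideal.span_singleton_le_iff_mem _).2 hz)
      have hQp : Q.IsPrime := hQ.1.1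
      have hQh : Q.height ≤ 1 := Ideal.height_le_one_of_isPrincipal_of_mem_minimalPrimes _ Q hQ
      have hzQ : z ∈ Q := hQ.1.2 (Ideal.mem_span_singleton_self z)
      refine Set.mem_iUnion₂.2 ⟨Q, hfin.mem_toFinset.2 ⟨⟨hQp, (Ideal.span_singleton_le_iff_mem _).2
        (hg Q hQp fun h => hz0 ((Submodule.mem_bot X).1 (h ▸ hzQ)))⟩, fun R hR hRQ => ?_⟩, hzQ⟩
      by_contra hne'
      have hlt : R < Q := lt_of_le_not_ge hRQ hne'
      have := hR.1
      have h2 := Ideal.height_add_one_le_of_lt_of_isPrime hlt
      have hR0 : R ≠ ⊥ := fun h => hg0 ((Submodule.mem_bot X).1 (h ▸ hR.2 (Ideal.mem_span_singleton_self g)))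
      have h1 : 1 ≤ R.height := Order.one_le_iff_ne_zero.2 (mt Ideal.height_eq_zero_iff_eq_bot.1 hR0)
      have := ((add_le_add h1 (le_refl (1 : ℕ∞))).trans h2).trans hQh
      norm_num at this
    obtain ⟨Q, hQ, hle⟩ := (Ideal.subset_union_prime (f := id) ⊥ ⊥
      (fun Q hQ _ _ => (hfin.mem_toFinset.1 hQ).1.1)).1 hsub
    have hQ' := hfin.mem_toFinset.1 hQ
    have := hQ'.1.1
    exact (Ideal.height_mono hle).trans (Ideal.height_le_one_of_isPrincipal_of_mem_minimalPrimes _ Q hQ')
  have hdim : ∀ P : Ideal X, P.IsPrime → P ≠ ⊥ → P = IsLocalRing.maximalIdeal X := by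
    intro P hP hP0
    by_contra hne
    have hlt : P < IsLocalRing.maximalIdeal X := lt_of_le_of_ne (IsLocalRing.le_maximalIdeal hP.ne_top) hne
    have h2 := Ideal.height_add_one_le_of_lt_of_isPrime hlt
    have h1 : 1 ≤ P.height := Order.one_le_iff_ne_zero.2 (mt Ideal.height_eq_zero_iff_eq_bot.1 hP0)
    have := ((add_le_add h1 (le_refl (1 : ℕ∞))).trans h2).trans hmax
    norm_num at this
  -- the closed fibre is finite
  let J := (IsLocalRing.maximalIdeal A).map (algebraMap A X)
  have hJ : J ≤ IsLocalRing.maximalIdeal X := IsLocalRing.map_maximalIdeal_le (algebraMap A X)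
  have : Nontrivial (X ⧸ J) := Ideal.Quotient.nontrivial_iff.2
    fun h => (IsLocalRing.maximalIdeal.isMaximal X).ne_top (top_le_iff.1 (h ▸ hJ))
  have : IsLocalRing (X ⧸ J) := IsLocalRing.of_surjective' (Ideal.Quotient.mk J) Ideal.Quotient.mk_surjective
  have hfl : IsFiniteLength X (X ⧸ J) := by
    have h0 : Ring.KrullDimLE 0 (X ⧸ J) := by
      refine Ring.krullDimLE_zero_iff.2 fun P hP => ?_
      have hP' := hdim (P.comap (Ideal.Quotient.mk J)) (hP.comap _) fun h => ha0 ((Submodule.mem_bot X).1 (h ▸ (by
        rw [Ideal.mem_comap, Ideal.Quotient.eq_zero_iff_mem.2 (Ideal.mem_map_of_mem _ ha)]; exact zero_mem P)))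
      rw [← Ideal.map_comap_of_surjective _ Ideal.Quotient.mk_surjective P, hP']
      refine (Ideal.map_eq_top_or_isMaximal_of_surjective _ Ideal.Quotient.mk_surjective
        (IsLocalRing.maximalIdeal.isMaximal X)).resolve_left fun htop => ?_
      rw [← hP', Ideal.map_comap_of_surjective _ Ideal.Quotient.mk_surjective] at htop
      exact hP.ne_top htop
    have : IsArtinianRing (X ⧸ J) := isArtinianRing_iff_isNoetherianRing_krullDimLE_zero.2 ⟨inferInstance, h0⟩
    have h1 := (Module.length_ne_top_iff (R := X ⧸ J) (M := X ⧸ J)).1 Module.length_ne_top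
    rw [← Module.length_ne_top_iff] at h1 ⊢
    rwa [← Module.length_eq_of_surjective (R := X ⧸ J) (S := X) Ideal.Quotient.mk_surjective] at h1
  have : Module.Finite A (X ⧸ J) := finite_of_isFiniteLength hfl
  -- Zariski's main theorem
  let C := Algebra.EssFiniteType.subalgebra A X
  let n : Ideal C := (IsLocalRing.maximalIdeal X).comap (algebraMap C X)
  have hsub : Algebra.EssFiniteType.submonoid A X = n.primeCompl := by
    ext c
    exact not_not.symm
  have : IsLocalization.AtPrime X n := by
    have := Algebra.EssFiniteType.isLocalization (R := A) (S := X)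
    rwa [hsub] at this
  let e : X ≃ₐ[A] Localization.AtPrime n :=
    ((IsLocalization.algEquiv n.primeCompl (Localization.AtPrime n) X).restrictScalars A).symm
  have hn : n.under A = IsLocalRing.maximalIdeal A := by
    rw [Ideal.under_def, Ideal.comap_comap, ← IsScalarTower.algebraMap_eq]
    exact IsLocalRing.maximalIdeal_comap (algebraMap A X)
  have : Algebra.WeaklyQuasiFiniteAt A n := by
    rw [Algebra.weaklyQuasiFiniteAt_iff, hn]
    have : Algebra.QuasiFinite A (X ⧸ J) := inferInstance
    exact Algebra.QuasiFinite.of_surjective_algHom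
      (Ideal.quotientMapₐ ((IsLocalRing.maximalIdeal A).map (algebraMap A (Localization.AtPrime n))) e.toAlgHom
        (Ideal.map_le_iff_le_comap.2 fun r hr => by
          change e (algebraMap A X r) ∈ (IsLocalRing.maximalIdeal A).map (algebraMap A (Localization.AtPrime n))
          rw [e.commutes]
          exact Ideal.mem_map_of_mem _ hr))
      (fun z => by
        obtain ⟨z, rfl⟩ := Ideal.Quotient.mk_surjective z
        obtain ⟨w, rfl⟩ := e.surjective z
        exact ⟨Ideal.Quotient.mk _ w, rfl⟩)
  have : Algebra.QuasiFinite A (Localization.AtPrime n) := Algebra.QuasiFiniteAt.of_weaklyQuasiFiniteAt n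
  exact (Algebra.QuasiFinite.iff_of_algEquiv e).2 this

/-- Let A → B be a local homomorphism of local rings with A Noetherian, B essentially of finite type
over A, and the residue field of B finite over that of A. Let V ⊆ Spec B be an open subset
containing some prime that does not lie over the maximal ideal of A. Then V contains a prime q, not
lying over the maximal ideal of A, such that B/q is quasi-finite over A in the sense that every
fibre ring of A → B/q is finite over the corresponding residue field of A. (The published statement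
is stronger: there B/q is moreover a localization of a quasi-finite A-algebra of finite type, which
implies this.) -/
theorem result {A B : Type u} [CommRing A] [CommRing B] [IsLocalRing A] [IsLocalRing B] [IsNoetherianRing A]
    [Algebra A B] [IsLocalHom (algebraMap A B)] [Algebra.EssFiniteType A B]
    [Module.Finite (IsLocalRing.ResidueField A) (IsLocalRing.ResidueField B)]
    (V : Set (PrimeSpectrum B)) (hV : IsOpen V) (hne : ∃ q ∈ V, q.asIdeal.comap (algebraMap A B) ≠ IsLocalRing.maximalIdeal A) :
    ∃ q ∈ V, q.asIdeal.comap (algebraMap A B) ≠ IsLocalRing.maximalIdeal A ∧ Algebra.QuasiFinite A (B ⧸ q.asIdeal) := by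
  classical
  obtain ⟨q₀, hq₀V, hq₀⟩ := hne
  obtain ⟨_, ⟨f, rfl⟩, hf, hfV⟩ :=
    PrimeSpectrum.isTopologicalBasis_basic_opens.exists_subset_of_mem_open hq₀V hV
  obtain ⟨a, ha, haq⟩ : ∃ a ∈ IsLocalRing.maximalIdeal A, algebraMap A B a ∉ q₀.asIdeal := by
    by_contra hall
    push Not at hall
    exact hq₀ (le_antisymm (IsLocalRing.le_maximalIdeal (Ideal.comap_ne_top _ q₀.2.ne_top)) hall)
  let g := algebraMap A B a * f
  have hg : g ∉ q₀.asIdeal := fun h => (q₀.2.mem_or_mem h).elim haq hf
  have : Nontrivial (Localization.Away g) := by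
    by_contra hc
    rw [not_nontrivial_iff_subsingleton, IsLocalization.subsingleton_iff (M := Submonoid.powers g)] at hc
    obtain ⟨n, hn⟩ := hc
    change g ^ n = 0 at hn
    exact hg (q₀.2.mem_of_pow_mem n (by rw [hn]; exact q₀.asIdeal.zero_mem))
  obtain ⟨M, hM⟩ := Ideal.exists_maximal (Localization.Away g)
  let q : PrimeSpectrum B := ⟨M.comap (algebraMap B (Localization.Away g)), inferInstance⟩
  have hgq : g ∉ q.asIdeal := fun h => hM.ne_top
    (M.eq_top_of_isUnit_mem h (IsLocalization.Away.algebraMap_isUnit g))
  have haq' : algebraMap A B a ∉ q.asIdeal := fun h => hgq (Ideal.mul_mem_right _ _ h)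
  refine ⟨q, hfV (fun h => hgq (Ideal.mul_mem_left _ _ h)), fun h => haq' (h.ge ha), ?_⟩
  let X := B ⧸ q.asIdeal
  have : IsLocalRing X := IsLocalRing.of_surjective' (Ideal.Quotient.mk q.asIdeal) Ideal.Quotient.mk_surjective
  have : IsLocalHom (Ideal.Quotient.mk q.asIdeal) := IsLocalHom.of_surjective _ Ideal.Quotient.mk_surjective
  have : IsLocalHom (algebraMap A X) := RingHom.isLocalHom_comp (Ideal.Quotient.mk q.asIdeal) (algebraMap A B)
  have : Algebra.EssFiniteType A X := by
    have : Algebra.EssFiniteType B X := inferInstance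
    exact Algebra.EssFiniteType.comp A B X
  have : Module.Finite A (IsLocalRing.ResidueField X) := by
    have : Module.Finite A (IsLocalRing.ResidueField A) :=
      Module.Finite.of_surjective (IsScalarTower.toAlgHom A A (IsLocalRing.ResidueField A)).toLinearMap
        IsLocalRing.residue_surjective
    have : Module.Finite A (IsLocalRing.ResidueField B) := Module.Finite.trans (IsLocalRing.ResidueField A) _
    let φ : IsLocalRing.ResidueField B →+* IsLocalRing.ResidueField X :=
      IsLocalRing.ResidueField.map (Ideal.Quotient.mk q.asIdeal)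
    let φA : IsLocalRing.ResidueField B →ₐ[A] IsLocalRing.ResidueField X :=
      { φ with commutes' := fun r => rfl }
    refine Module.Finite.of_surjective φA.toLinearMap fun z => ?_
    obtain ⟨z, rfl⟩ := IsLocalRing.residue_surjective z
    obtain ⟨w, rfl⟩ := Ideal.Quotient.mk_surjective z
    exact ⟨IsLocalRing.residue B w, rfl⟩
  refine quasiFinite_of_mem_all (Ideal.Quotient.mk q.asIdeal g) (fun h => hgq (Ideal.Quotient.eq_zero_iff_mem.1 h))
    (fun P hP hP0 => ?_) a ha (fun h => haq' (Ideal.Quotient.eq_zero_iff_mem.1 h))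
  by_contra hgP
  refine hP0 ?_
  let P' := P.comap (Ideal.Quotient.mk q.asIdeal)
  have hqP : q.asIdeal ≤ P' := fun z hz => by
    change Ideal.Quotient.mk _ z ∈ P
    rw [Ideal.Quotient.eq_zero_iff_mem.2 hz]; exact zero_mem P
  have hdis : Disjoint (Submonoid.powers g : Set B) P' := by
    rw [Set.disjoint_left]
    rintro _ ⟨n, rfl⟩ h
    exact hgP ((hP.comap _).mem_of_pow_mem n h)
  have hp := IsLocalization.isPrime_of_isPrime_disjoint (Submonoid.powers g) (Localization.Away g) P' (hP.comap _) hdis
  have hle : M ≤ P'.map (algebraMap B (Localization.Away g)) := by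
    rw [← IsLocalization.map_under (Submonoid.powers g) (Localization.Away g) M]
    exact Ideal.map_mono hqP
  have heq := hM.eq_of_le hp.ne_top hle
  have h2 : q.asIdeal = P' := by
    change M.comap _ = P'
    rw [heq]
    exact IsLocalization.under_map_of_isPrime_disjoint (Submonoid.powers g) (Localization.Away g) (hP.comap _) hdis
  rw [← Ideal.map_comap_of_surjective _ Ideal.Quotient.mk_surjective P, show P.comap _ = q.asIdeal from h2.symm,
    Ideal.map_quotient_self]

end Groth.Agent.S1394
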