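import Groth.Statements.S13942
import Groth.Agent.Lib.CharExt76.FG
import Groth.Agent.Lib.CharExt76.Sch
import Groth.Agent.Lib.PtsFull86.Basic
import Mathlib.RingTheory.Finiteness.Basic
import Mathlib.AlgebraicGeometry.Morphisms.FiniteType

set_option autoImplicit false
universe u
open TateLoc
set_option linter.style.haveILetI false

namespace Groth.Agent.S13942

open CategoryTheory AlgebraicGeometry MonObj MonoidalCategory CartesianMonoidalCategory in
open Groth.Agent.Lib Groth.Agent.Lib.RedPts in
/-- Characters of an affine group of finite type over a field form a finitely generated group. -/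
theorem characters_fg (k : Type u) [Field k]
    (G : Over (Spec (CommRingCat.of k))) [GrpObj G] [IsCommMonObj G] [IsAffine G.left] [LocallyOfFiniteType G.hom] :
    AddGroup.FG ((CGrpSh.pts Scheme.fppfPrecoverage G) ⟶ (CGrpSh2.Gm Scheme.fppfPrecoverage (Spec (CommRingCat.of k)))) := by
  obtain ⟨A, _, _, eG, heG⟩ := H1.Hopf.exists_iso G
  haveI := heG
  haveI : IsMonHom eG.inv := inferInstance
  haveI : Algebra.FiniteType k A := by
    have h : LocallyOfFiniteType (Spec.map (CommRingCat.ofHom (algebraMap k A))) := by
      haveI : IsIso eG.inv.left := ((Over.forget _).mapIso eG.symm).isIso_hom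
      have h' : LocallyOfFiniteType (eG.inv.left ≫ G.hom) :=
        MorphismProperty.comp_mem @LocallyOfFiniteType _ _ inferInstance inferInstance
      rwa [Over.w eG.inv] at h'
    exact RingHom.finiteType_algebraMap.1 ((HasRingHomProperty.Spec_iff (P := @LocallyOfFiniteType)).1 h)
  have hv : ∀ α : CGrpSh.pts Scheme.fppfPrecoverage G ⟶ CGrpSh2.Gm Scheme.fppfPrecoverage (Spec (CommRingCat.of k)),
      ∃ a : GroupLike k A, CharExt76.fn k A a.1 = Red.gmFn (eG.inv ≫ PtsFull86.ofPts _ α) := fun α => by
    haveI := PtsFull86.isMonHom_ofPts _ α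
    obtain ⟨a, ha, hx⟩ := CharExt76.exists_groupLike_of_char (eG.inv ≫ PtsFull86.ofPts _ α)
    refine ⟨⟨a, ha⟩, ?_⟩
    have h := hx (𝟙 _)
    rw [Category.id_comp, CharExt76.algHomOf_id] at h
    exact h.symm
  choose F hF using hv
  let Φ : (CGrpSh.pts Scheme.fppfPrecoverage G ⟶ CGrpSh2.Gm Scheme.fppfPrecoverage (Spec (CommRingCat.of k))) →+
      Additive (GroupLike k A) :=
    AddMonoidHom.mk' (fun α => Additive.ofMul (F α)) fun α β => by
      refine congrArg Additive.ofMul (GroupLike.val_injective ((CharExt76.fn_bijective (k := k) A).1 ?_))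
      show CharExt76.fn k A (F (α + β)).1 = CharExt76.fn k A (F α * F β).1
      rw [GroupLike.val_mul, map_mul, hF, hF, hF, ← Gm.gmFn_mul, ← MonObj.comp_mul]
      rfl
  have hΦ : Function.Injective Φ := fun α β h => by
    have h1 := congrArg (fun a : GroupLike k A => CharExt76.fn k A a.1) (Additive.ofMul.injective h)
    simp only [hF] at h1
    have h2 := (cancel_epi eG.inv).1 (Gm.gmFn_injective h1)
    haveI := PtsFull86.isMonHom_ofPts _ α
    haveI := PtsFull86.isMonHom_ofPts _ β
    rw [PtsFull86.eq_ptsMap _ α, PtsFull86.eq_ptsMap _ β]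
    exact Sheaf.hom_ext (NatTrans.ext (funext fun T => AddCommGrpCat.ext fun x => ULift.ext _ _
      (congrArg (fun φ => Additive.ofMul (x.down.toMul ≫ φ)) h2)))
  haveI := CharExt76.fg_groupLike k A
  haveI : Module.Finite ℤ (Additive (GroupLike k A)) := Module.Finite.iff_addGroup_fg.2 inferInstance
  exact Module.Finite.iff_addGroup_fg.1 (Module.Finite.of_injective Φ.toIntLinearMap hΦ)

open CategoryTheory AlgebraicGeometry MonObj in
/-- For a non-archimedean local field k of characteristic p > 0 and an affine commutative k-group scheme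
G of finite type, the group of characters of G defined over k (morphisms of abelian sheaves on the
big fppf site of Spec k from the sheaf of points of G into the multiplicative group) is a finitely
generated abelian group. -/
theorem result (p : ℕ) [Fact p.Prime] (k : Type u) [Field k] [CharP k p]
    [ValuativeRel k] [TopologicalSpace k] [IsNonarchimedeanLocalField k]
    (G : Over (Spec (CommRingCat.of k))) [GrpObj G] [IsCommMonObj G] [IsAffine G.left] [LocallyOfFiniteType G.hom] :
    AddGroup.FG ((CGrpSh.pts Scheme.fppfPrecoverage G) ⟶ (CGrpSh2.Gm Scheme.fppfPrecoverage (Spec (CommRingCat.of k)))) := by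
  exact characters_fg k G

end Groth.Agent.S13942
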