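import Groth.Statements.S13951
import Groth.Agent.Lib.FEt.Basic
import Groth.Agent.S7179
import Mathlib.Topology.Separation.Connected
import Mathlib.AlgebraicGeometry.Morphisms.QuasiFinite
import Mathlib.AlgebraicGeometry.Morphisms.ClosedImmersion

set_option autoImplicit false
universe u
open TateLoc
open CategoryTheory.MonObj CategoryTheory.MonoidalCategory

namespace Groth.Agent.S13951

open CategoryTheory AlgebraicGeometry CategoryTheory.Limits in
/-- Let S be a reduced scheme and I a finite locally free commutative S-group scheme (finite, flat, of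
finite presentation) whose fibres over all points of S are connected. Then the restriction of the
sheaf of points of I from the big fppf site of S to the small etale site of S is the zero sheaf. -/
theorem result (S : Scheme.{u}) [IsReduced S]
    (I : Over S) [GrpObj I] [IsCommMonObj I] [IsFinite I.hom] [Flat I.hom] [LocallyOfFinitePresentation I.hom]
    (hconn : ∀ s : S, ConnectedSpace ↥(I.hom.fiber s)) :
    IsZero ((BigSite.resEt Scheme.fppfPrecoverage S).obj (CGrpSh.pts Scheme.fppfPrecoverage I)) := by

  let e : S ⟶ I.left := (MonObj.one (X := I)).left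
  have he : e ≫ I.hom = 𝟙 S := Over.w (MonObj.one (X := I))
  -- in each fibre the unit is the only point, with trivial residue extension
  have hpt : ∀ p : I.left, p = e (I.hom p) := fun p => by
    haveI := hconn (I.hom p)
    haveI : Subsingleton ↥(I.hom.fiber (I.hom p)) := PreconnectedSpace.trivial_of_discrete
    obtain ⟨a, ha⟩ := (I.hom.range_fiberι (I.hom p)).ge (show p ∈ I.hom ⁻¹' {I.hom p} from rfl)
    obtain ⟨b, hb⟩ := (I.hom.range_fiberι (I.hom p)).ge
      (show e (I.hom p) ∈ I.hom ⁻¹' {I.hom p} from congr($he (I.hom p)))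
    exact ha.symm.trans ((congrArg _ (Subsingleton.elim a b)).trans hb)
  have hres : ∀ p : I.left, I.left.fromSpecResidueField p = I.left.fromSpecResidueField p ≫ I.hom ≫ e := by
    suffices H : ∀ s : S, I.left.fromSpecResidueField (e s) =
        I.left.fromSpecResidueField (e s) ≫ I.hom ≫ e by
      intro p; rw [hpt p]; exact H _
    intro s
    have hb : Function.Surjective (e.residueFieldMap s).hom := by
      intro c
      obtain ⟨c, rfl⟩ := Scheme.residue_surjective _ _ c
      have h1 : (e ≫ I.hom).stalkMap s = I.hom.stalkMap (e s) ≫ e.stalkMap s :=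
        Scheme.Hom.stalkMap_comp e I.hom s
      have h2 : Function.Surjective ((e ≫ I.hom).stalkMap s).hom := by
        rw [he]; exact fun z => ⟨z, by simp; rfl⟩
      obtain ⟨d, rfl⟩ := h2 c
      refine ⟨I.left.residue _ ((I.hom.stalkMap (e s)).hom d), ?_⟩
      rw [h1]
      exact ConcreteCategory.congr_hom (Scheme.residue_residueFieldMap e s) _
    haveI : IsIso (e.residueFieldMap s) :=
      (ConcreteCategory.isIso_iff_bijective _).2 ⟨RingHom.injective _, hb⟩
    rw [← cancel_epi (Spec.map (e.residueFieldMap s)),
      reassoc_of% (e.SpecMap_residueFieldMap_fromSpecResidueField s), reassoc_of% he]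
    exact e.SpecMap_residueFieldMap_fromSpecResidueField s
  have key : ∀ (T : Scheme.Etale S) (x : (EtFppf.a S).obj T ⟶ I), x = 1 := by
    intro T x
    haveI : Etale T.hom := T.prop
    haveI : WeaklyEtale T.hom := inferInstance
    haveI : AlgebraicGeometry.IsReduced ((Functor.fromPUnit S).obj T.right) := ‹AlgebraicGeometry.IsReduced S›
    haveI : AlgebraicGeometry.IsReduced T.left := S7179.result T.hom
    refine Over.OverMorphism.ext ?_
    let φ : T.left ⟶ I.left := x.left
    let ψ : T.left ⟶ I.left := T.hom ≫ e
    change φ = ψ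
    have hφ : φ ≫ I.hom = T.hom := Over.w x
    have hψ : φ ≫ I.hom = ψ ≫ I.hom := by
      rw [hφ, Category.assoc, he]; exact (Category.comp_id _).symm
    have huniv : Lib.FEt.Basic.eqSet φ ψ = Set.univ := Set.eq_univ_of_forall fun t => by
      change _ = _
      let a := T.left.fromSpecResidueField t ≫ φ
      obtain ⟨⟨p, χ⟩, hp⟩ :=
        (Scheme.SpecToEquivOfField (T.left.residueField t) I.left).symm.surjective a
      have ha : a = Spec.map χ ≫ I.left.fromSpecResidueField p := hp.symm
      calc a = a ≫ I.hom ≫ e := by rw [ha, Category.assoc, ← hres p]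
        _ = T.left.fromSpecResidueField t ≫ ψ := by
          simp only [a, ψ, Category.assoc, reassoc_of% hφ]
    haveI : Surjective (Lib.FEt.Basic.eqι I.hom φ ψ hψ) := ⟨fun z => by
      have : z ∈ Set.range (Lib.FEt.Basic.eqι I.hom φ ψ hψ).base := by
        rw [Lib.FEt.Basic.range_eqι, huniv]; trivial
      exact this⟩
    haveI := isIso_of_isClosedImmersion_of_surjective (Lib.FEt.Basic.eqι I.hom φ ψ hψ)
    exact (cancel_epi (Lib.FEt.Basic.eqι I.hom φ ψ hψ)).mp (Lib.FEt.Basic.eqι_comp _ _ _ hψ)
  refine (IsZero.iff_id_eq_zero _).2 (CategoryTheory.Sheaf.hom_ext (NatTrans.ext (funext fun T =>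
    AddCommGrpCat.ext fun x => ?_)))
  exact ULift.ext _ _ (congrArg Additive.ofMul (key T.unop x.down.toMul))

end Groth.Agent.S13951
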