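import Groth.Statements.S13953
-- import your own Groth.Agent.* helpers here

set_option autoImplicit false
universe u
open TateLoc

namespace Groth.Agent.S13953

/-- Let (R_i) be a family of local commutative rings and R = ∏ R_i. Any open cover of Spec R can be
refined by one coming from a finite partition of the index set: there is a map c from the index set
to a finite set such that, for each value m, the basic open subset of Spec R defined by the
idempotent which is 1 at the indices with c i = m and 0 elsewhere (this open is the spectrum of the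
product of the R_i over that class) is contained in some member of the cover. -/
theorem result {ι : Type u} (R : ι → Type u)
    [∀ i, CommRing (R i)] [∀ i, IsLocalRing (R i)] {J : Type u}
    (U : J → TopologicalSpace.Opens (PrimeSpectrum (∀ i, R i))) (hU : ⨆ j, U j = ⊤) :
    ∃ (n : ℕ) (c : ι → Fin n), ∀ m : Fin n, ∃ j : J,
      PrimeSpectrum.basicOpen (fun i => if c i = m then (1 : R i) else 0) ≤ U j := by
  classical
  obtain ⟨t, ht⟩ : ∃ t : Finset (∀ i, R i),
      (∀ f ∈ t, ∃ j, PrimeSpectrum.basicOpen f ≤ U j) ∧ Ideal.span (t : Set (∀ i, R i)) = ⊤ := by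
    let F : Set (∀ i, R i) := {f | ∃ j, PrimeSpectrum.basicOpen f ≤ U j}
    have hF : Ideal.span F = ⊤ := by
      by_contra hne
      obtain ⟨M, hM, hle⟩ := Ideal.exists_le_maximal _ hne
      have hx : (⟨M, hM.isPrime⟩ : PrimeSpectrum (∀ i, R i)) ∈ ⨆ j, U j := by rw [hU]; trivial
      obtain ⟨j, hj⟩ := TopologicalSpace.Opens.mem_iSup.1 hx
      obtain ⟨_, ⟨f, rfl⟩, hxf, hf⟩ :=
        PrimeSpectrum.isTopologicalBasis_basic_opens.exists_subset_of_mem_open hj (U j).isOpen
      exact hxf (hle (Ideal.subset_span ⟨j, hf⟩))
    obtain ⟨t, htF, ht⟩ := Submodule.mem_span_finite_of_mem_span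
      ((Ideal.eq_top_iff_one _).1 hF)
    exact ⟨t, fun f hf => htF hf, (Ideal.eq_top_iff_one _).2 ht⟩
  have key : ∀ i, ∃ k : Fin t.card, IsUnit ((t.equivFin.symm k : ∀ i, R i) i) := by
    intro i
    by_contra hne
    push Not at hne
    have hle : Ideal.span (t : Set (∀ i, R i)) ≤
        (IsLocalRing.maximalIdeal (R i)).comap (Pi.evalRingHom R i) := by
      rw [Ideal.span_le]
      intro f hf
      have := hne (t.equivFin ⟨f, hf⟩)
      rw [Equiv.symm_apply_apply] at this
      exact (IsLocalRing.mem_maximalIdeal _).2 this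
    rw [ht.2, top_le_iff] at hle
    exact Ideal.IsPrime.ne_top inferInstance hle
  choose c hc using key
  refine ⟨t.card, c, fun m => ?_⟩
  obtain ⟨j, hj⟩ := ht.1 _ (t.equivFin.symm m).2
  refine ⟨j, le_trans ?_ hj⟩
  intro x hx
  change (fun i => if c i = m then (1 : R i) else 0) ∉ x.asIdeal at hx
  change (t.equivFin.symm m : ∀ i, R i) ∉ x.asIdeal
  intro hm
  apply hx
  have he : (fun i => if c i = m then (1 : R i) else 0) =
      (fun i => if c i = m then Ring.inverse ((t.equivFin.symm m : ∀ i, R i) i) else 0) *
        (t.equivFin.symm m : ∀ i, R i) := by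
    funext i
    simp only [Pi.mul_apply]
    split_ifs with h
    · subst h
      exact (Ring.inverse_mul_cancel _ (hc i)).symm
    · simp
  rw [he]
  exact x.asIdeal.mul_mem_left _ hm

end Groth.Agent.S13953
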