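import Groth.Statements.S13954
import Groth.Agent.H24.AffSpPic.Main

set_option autoImplicit false
universe u
open TateLoc

namespace Groth.Agent.S13954

open Groth.Agent.H24 Groth.Agent.Lib.TensorMod

open CategoryTheory AlgebraicGeometry in
/-- Let X be a reduced scheme whose invertible modules are all trivial (Pic X = 0), and n a natural
number. If for every point x of X all invertible modules on affine n-space over Spec of the local
ring of X at x are trivial, then all invertible modules on affine n-space over X are trivial. -/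
theorem result (X : Scheme.{u}) [IsReduced X] (n : ℕ)
    (hX : (∀ L : (X).Modules, PicF.IsInvertible L → Nonempty (L ≅ Coh.structureModule (X))))
    (hloc : ∀ x : X, (∀ L : (AffineSpace (ULift.{u} (Fin n)) (Spec (X.presheaf.stalk x))).Modules, PicF.IsInvertible L → Nonempty (L ≅ Coh.structureModule (AffineSpace (ULift.{u} (Fin n)) (Spec (X.presheaf.stalk x)))))) :
    (∀ L : (AffineSpace (ULift.{u} (Fin n)) X).Modules, PicF.IsInvertible L → Nonempty (L ≅ Coh.structureModule (AffineSpace (ULift.{u} (Fin n)) X))) := by
  intro L hL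
  have hinv : ∀ {Y Z : Scheme.{u}} (g : Y ⟶ Z) {M : Z.Modules}, PicF.IsInvertible M →
      PicF.IsInvertible ((Scheme.Modules.pullback g).obj M) := fun g M hM =>
    LocFree.isInvertible_of_rank_one (LocFree.rank_pullback g (LocFree.of_isInvertible hM))
  obtain ⟨i⟩ := hX _ (hinv (AffSpPic.zeroSec _ X) hL)
  refine AffSpPic.trivial_of_zeroSec _ L hL (fun x M _ _ _ => ?_) i
  let e := AffineSpace.SpecIso (ULift.{u} (Fin n)) (X.presheaf.stalk x)
  obtain ⟨t⟩ := hloc x _ (hinv e.hom (PicHens.isInvertible_tilde M))
  exact PicHens.linearEquiv_of_iso (ModuleCat.of _ M) (ModuleCat.of _ _)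
    (((Scheme.Modules.pullbackId _).app _).symm ≪≫
      (Scheme.Modules.pullbackCongr e.inv_hom_id.symm).app _ ≪≫ ((Scheme.Modules.pullbackComp e.inv e.hom).app _).symm ≪≫
      (Scheme.Modules.pullback e.inv).mapIso t ≪≫ PicLoc.pullbackStructureIso e.inv ≪≫ tildeSelf.symm)

end Groth.Agent.S13954
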